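import Groth.Statements.S0196
import Groth.Agent.Lib.helper1.CSA2

set_option autoImplicit false
universe u v w
open scoped TensorProduct
open Curves

namespace Groth.Agent.S0196

theorem result (k : Type u) [Field k]
    (D : Type v) [DivisionRing D] [Algebra k D] [Algebra.IsCentral k D] [FiniteDimensional k D]
    (L : Subalgebra k D) (hcomm : ∀ x ∈ L, ∀ y ∈ L, x * y = y * x)
    (hmax : ∀ L' : Subalgebra k D, (∀ x ∈ L', ∀ y ∈ L', x * y = y * x) → L ≤ L' → L' = L) :
    Module.finrank k D = Module.finrank k L ^ 2 := by
  have hsimple : IsSimpleRing L := by
    let _ := divisionRingOfFiniteDimensional k L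
    infer_instance
  have hcent : Subalgebra.centralizer k (L : Set D) = L := by
    apply le_antisymm
    · intro x hx
      -- the double centralizer of `L ∪ {x}` is commutative
      let S : Set D := (L : Set D) ∪ {x}
      have hS : ∀ a ∈ S, ∀ b ∈ S, a * b = b * a := by
        rintro a (ha | ha) b (hb | hb)
        · exact hcomm a ha b hb
        · rw [Set.mem_singleton_iff] at hb; subst hb
          exact (Subalgebra.mem_centralizer_iff k).mp hx a ha
        · rw [Set.mem_singleton_iff] at ha; subst ha
          exact ((Subalgebra.mem_centralizer_iff k).mp hx b hb).symm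
        · rw [Set.mem_singleton_iff] at ha hb; subst ha; subst hb; rfl
      let L' : Subalgebra k D := Subalgebra.centralizer k (Subalgebra.centralizer k S : Set D)
      have hSL' : S ⊆ L' := fun a ha => by
        show a ∈ Subalgebra.centralizer k (Subalgebra.centralizer k S : Set D)
        rw [Subalgebra.mem_centralizer_iff]
        intro g hg
        exact ((Subalgebra.mem_centralizer_iff k).mp hg a ha).symm
      have hL'C : (L' : Set D) ⊆ Subalgebra.centralizer k S := fun a ha => by
        show a ∈ Subalgebra.centralizer k S
        rw [Subalgebra.mem_centralizer_iff]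
        intro g hg
        have hg' : g ∈ Subalgebra.centralizer k S := by
          rw [Subalgebra.mem_centralizer_iff]
          intro s hs
          exact hS s hs g hg
        exact ((Subalgebra.mem_centralizer_iff k).mp ha g hg')
      have hL'comm : ∀ a ∈ L', ∀ b ∈ L', a * b = b * a := by
        intro a ha b hb
        exact ((Subalgebra.mem_centralizer_iff k).mp hb a (hL'C ha))
      have hLL' : L ≤ L' := fun a ha => hSL' (Or.inl ha)
      have := hmax L' hL'comm hLL'
      rw [← this]
      exact hSL' (Or.inr rfl)
    · intro x hx
      rw [Subalgebra.mem_centralizer_iff]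
      intro g hg
      exact hcomm g hg x hx
  have h := Groth.Agent.Lib.helper1.CSA.finrank_centralizer k D L
  rw [hcent] at h
  rw [h, sq]

end Groth.Agent.S0196
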