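import Groth.Statements.S15821
import Groth.Agent.Lib.helper21.Kos5

set_option autoImplicit false
universe u
open CategoryTheory
open Koszul

namespace Groth.Agent.S15821

lemma koszul_eq (A : Type u) [CommRing A] (l : List A) :
    Koszul.koszul A l = CohIII.koszulCx (ModuleCat.of A A) l := by
  induction l with
  | nil => rfl
  | cons f l ih =>
    show CochainComplex.mappingCone (f • 𝟙 (Koszul.koszul A l)) =
      CochainComplex.mappingCone (f • 𝟙 (CohIII.koszulCx (ModuleCat.of A A) l))
    rw [ih]

/-- Let A be a commutative ring and f = (f_1, …, f_r) a sequence in A which is regular in the weak sense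
(f_1 is a non-zero-divisor of A and each f_i is a non-zero-divisor of A/(f_1, …, f_{i-1}); no
condition A/(f) ≠ 0). Then the Koszul complex K(f) (iterated mapping-cone model, degrees -r, …, 0)
has vanishing cohomology in all nonzero degrees, i.e. f is Koszul-regular, and its cohomology in
degree 0 is isomorphic as an A-module to A/(f_1, …, f_r) (existence of an A-linear isomorphism):
K(f) is a free resolution of A/(f). -/
theorem result (A : Type u) [CommRing A] (l : List A)
    (hl : RingTheory.Sequence.IsWeaklyRegular A l) :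
    LCI.IsKoszulRegularSeq A l ∧
      Nonempty ((Koszul.koszul A l).homology 0 ≅ ModuleCat.of A (A ⧸ Ideal.ofList l)) := by
  have key : ∀ K : CochainComplex (ModuleCat.{u} A) ℤ, K = CohIII.koszulCx (ModuleCat.of A A) l →
      (∀ i : ℤ, i ≠ 0 → Limits.IsZero (K.homology i)) ∧
        Nonempty (K.homology 0 ≅ ModuleCat.of A (A ⧸ Ideal.ofList l)) := by
    rintro K rfl
    refine ⟨fun i hi => Groth.Agent.H21.Kos.isZero_homology_of_weaklyRegular l A hl i hi, ?_⟩
    obtain ⟨e⟩ := Groth.Agent.H21.Kos.h0_equiv A l
    have e2 : (A ⧸ (Ideal.ofList l • (⊤ : Submodule A A))) ≃ₗ[A] (A ⧸ Ideal.ofList l) :=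
      Submodule.quotEquivOfEq _ _ (by simp)
    exact ⟨(e ≪≫ₗ e2).toModuleIso⟩
  exact key _ (koszul_eq A l)

end Groth.Agent.S15821
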