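import Groth.Statements.S5802
import Mathlib
import Groth.Agent.Lib.helper26.RegSeqC

set_option autoImplicit false
universe u
open EGA41

namespace Groth.Agent.S5802

open MvPolynomial Groth.Agent.Lib.helper26 in

/-- First assertion: case M = A: in a ring A, every A-regular sequence (f_i)_{1 ≤ i ≤ c} is
quasi-regular, i.e. the canonical surjection (A/J)[T_1, ..., T_c] → gr_J(A), J = f_1 A + ... + f_c
A, is bijective. -/
theorem result (A : Type u) [CommRing A] (c : ℕ) (f : Fin c → A)
    (hf : RingTheory.Sequence.IsWeaklyRegular A (List.ofFn f)) : CAlgX.IsQuasiRegular f := by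
  have hWR : RegSeqB.WR f := fun j x hx => RegSeqA.mem_of_mul_mem f hf j x hx
  intro n P hP hev d
  rcases isEmpty_or_nonempty (Fin c) with he | ⟨⟨j⟩⟩
  · have hJ : Ideal.span (Set.range f) = ⊥ := by
      rw [Set.range_eq_empty, Ideal.span_empty]
    rw [hJ] at hev ⊢
    have h0 : eval f P = 0 := by
      rw [pow_succ, Ideal.mul_bot] at hev
      exact hev
    have h1 : P = C (coeff 0 P) := eq_C_of_isEmpty P
    have hd : d = 0 := Subsingleton.elim _ _
    rw [h1, eval_C] at h0
    rw [hd, h0]
    exact zero_mem _
  · obtain ⟨G, hG, hGev⟩ := (Ideal.mem_span_pow_iff_exists_isHomogeneous f _).1 hev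
    set Q : MvPolynomial (Fin c) A := X j * P - C (f j) * G with hQdef
    have hQ : Q.IsHomogeneous (n + 1) := by
      refine IsHomogeneous.sub ?_ ?_
      · have := (isHomogeneous_X A j).mul hP
        rwa [add_comm] at this
      · exact hG.C_mul _
    have hQev : eval f Q = 0 := by
      simp only [hQdef, map_sub, map_mul, eval_X, eval_C, hGev]
      ring
    have hmem := RegSeqC.relIdeal_le_map_C f (RegSeqB.QR c A f hWR (n + 1) Q hQ hQev)
    rw [mem_map_C_iff] at hmem
    have h3 := hmem (d + Finsupp.single j 1)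
    have h4 : coeff (d + Finsupp.single j 1) Q =
        coeff d P - f j * coeff (d + Finsupp.single j 1) G := by
      rw [hQdef, coeff_sub, coeff_C_mul, mul_comm (X j) P, coeff_mul_X]
    rw [h4] at h3
    have h5 : f j * coeff (d + Finsupp.single j 1) G ∈ Ideal.span (Set.range f) :=
      Ideal.mul_mem_right _ _ (Ideal.subset_span ⟨j, rfl⟩)
    have := Ideal.add_mem _ h3 h5
    rwa [sub_add_cancel] at this

end Groth.Agent.S5802
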