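import Mathlib.Tactic
import Groth.Agent.Lib.helper10.FpMap
import Groth.Agent.Lib.helper10.EquivComp
import Groth.Statements.S12782

set_option autoImplicit false
open CategoryTheory AlgebraicGeometry
universe u
open AlgSt

namespace Groth.Agent.S12782

lemma aux_eq {A : Type*} [Category A] {X Y Z W V : A} (p : X = Y) (q : Y = Z) (r : Z = W)
    (s : X = W) (m : W ⟶ V) :
    eqToHom p ≫ (eqToHom q ≫ 𝟙 _ ≫ eqToHom r) ≫ m = eqToHom s ≫ m := by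
  subst p q r
  simp

/-- isomorphic functors to a slice induce the same map of sheaves -/
lemma secHom_eq_of_iso {S : Scheme.{u}} {F : AlgSp.Sp S} {U : Over S}
    (Φ₁ Φ₂ : ofSp F ⥤ᵇ FibCat.overCat U) (θ : Φ₁ ⟶ Φ₂) (a : (ofSp F).obj) :
    secHom Φ₁ a = secHom Φ₂ a := by
  have hl : (FibCat.overCat U).p.IsHomLift (𝟙 ((ofSp F).p.obj a)) (θ.toNatTrans.app a) := θ.isHomLift' a
  have h1 : (θ.toNatTrans.app a).left ≫ (Φ₂.obj a).hom = (Φ₁.obj a).hom := Over.w (θ.toNatTrans.app a)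
  have h2 : (θ.toNatTrans.app a).left = eqToHom (Φ₁.w_obj a) ≫ 𝟙 _ ≫ eqToHom (Φ₂.w_obj a).symm :=
    IsHomLift.fac' (FibCat.overCat U).p (𝟙 ((ofSp F).p.obj a)) (θ.toNatTrans.app a)
  refine Eq.trans (congrArg (fun t => eqToHom (Φ₁.w_obj a).symm ≫ t) h1.symm) ?_
  refine Eq.trans (congrArg (fun t => eqToHom (Φ₁.w_obj a).symm ≫ (t ≫ (Φ₂.obj a).hom)) h2) ?_
  exact aux_eq _ _ _ _ _

lemma spMapOfOver_eq_of_iso {S : Scheme.{u}} {F : AlgSp.Sp S} {U : Over S}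
    (Φ₁ Φ₂ : ofSp F ⥤ᵇ FibCat.overCat U) (θ : Φ₁ ≅ Φ₂) :
    spMapOfOver Φ₁ = spMapOfOver Φ₂ := by
  apply ObjectProperty.hom_ext
  apply NatTrans.ext
  funext T
  ext x
  apply ULift.ext
  exact secHom_eq_of_iso Φ₁ Φ₂ θ.hom ⟨T.unop, x⟩


/-- Consider a 2-commutative square of 1-morphisms of categories fibred in groupoids over `(Sch/S)` with
vertical arrows `f' : 𝒳' ⟶ 𝒴'`, `f : 𝒳 ⟶ 𝒴` and horizontal arrows equivalences over `(Sch/S)`. Then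
`f` is representable by algebraic spaces with property `P` if and only if `f'` is. (The published
statement assumes `P` stable under base change and fppf local on the base; this row holds for every
property `P`.) -/
theorem result {S : Scheme.{u}} {𝒳 𝒴 𝒳' 𝒴' : AlgSt.Cat S}
    (h𝒳 : FibCat.IsFibGrpd 𝒳.p) (h𝒴 : FibCat.IsFibGrpd 𝒴.p) (h𝒳' : FibCat.IsFibGrpd 𝒳'.p) (h𝒴' : FibCat.IsFibGrpd 𝒴'.p)
    (P : MorphismProperty (AlgSp.Sp S)) (f : 𝒳 ⥤ᵇ 𝒴) (f' : 𝒳' ⥤ᵇ 𝒴') (a : 𝒳' ⥤ᵇ 𝒳) (b : 𝒴' ⥤ᵇ 𝒴)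
    (ha : FibCat.IsEquivOver a) (hb : FibCat.IsEquivOver b) (e : BasedFunctor.comp f' b ≅ BasedFunctor.comp a f) :
    AlgSt.RepByAlgSpWith P f ↔ AlgSt.RepByAlgSpWith P f' := by
  constructor
  · intro hf U y'
    obtain ⟨F, e₀, he₀, hP⟩ := hf U (BasedFunctor.comp y' b)
    have hΦ := Groth.Agent.Lib.helper10.FpMap.Φ_isEquivOver'
      y' f' (BasedFunctor.comp y' b) f (BasedFunctor.id (FibCat.overCat U)) a b
      (Iso.refl _) e.symm
      (Groth.Agent.Lib.helper10.EquivComp.id_isEquivOver _) ha hb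
    obtain ⟨Φ', ⟨η⟩, ⟨ε⟩⟩ := hΦ
    refine ⟨F, BasedFunctor.comp e₀ Φ',
      Groth.Agent.Lib.helper10.EquivComp.comp e₀ Φ' he₀ ⟨_, ⟨ε⟩, ⟨η⟩⟩, ?_⟩
    have hiso : BasedFunctor.comp (BasedFunctor.comp e₀ Φ') (FibCat.fpFst y' f') ≅
        BasedFunctor.comp e₀ (FibCat.fpFst (BasedFunctor.comp y' b) f) :=
      (Stk.restr e₀ _).mapIso
        ((Groth.Agent.Lib.helper10.StkEquiv.post (FibCat.fpFst (BasedFunctor.comp y' b) f) _).mapIso ε)
    rw [spMapOfOver_eq_of_iso _ _ hiso]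
    exact hP
  · intro hf' U y
    obtain ⟨b', ⟨ηb⟩, ⟨εb⟩⟩ := hb
    obtain ⟨F, e₀, he₀, hP⟩ := hf' U (BasedFunctor.comp y b')
    let α : BasedFunctor.comp (BasedFunctor.id (FibCat.overCat U)) y ≅
        BasedFunctor.comp (BasedFunctor.comp y b') b :=
      (Stk.restr y 𝒴).mapIso εb.symm
    have hΦ := Groth.Agent.Lib.helper10.FpMap.Φ_isEquivOver'
      (BasedFunctor.comp y b') f' y f (BasedFunctor.id (FibCat.overCat U)) a b
      α e.symm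
      (Groth.Agent.Lib.helper10.EquivComp.id_isEquivOver _) ha ⟨b', ⟨ηb⟩, ⟨εb⟩⟩
    refine ⟨F, BasedFunctor.comp e₀ _, Groth.Agent.Lib.helper10.EquivComp.comp e₀ _ he₀ hΦ, ?_⟩
    exact hP

end Groth.Agent.S12782
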