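import Mathlib.Tactic
import Groth.Agent.Lib.helper10.FpGen
import Groth.Agent.Lib.helper10.Inertia
import Groth.Statements.S12806

set_option autoImplicit false
open CategoryTheory
universe v u
open FibCat

namespace Groth.Agent.S12806

lemma isFibGrpd_selfOver (C : Type u) [Category.{v} C] : FibCat.IsFibGrpd (FibCat.selfOver C).p := by
  refine ⟨?_, ?_⟩
  · intro x V f
    exact ⟨V, f, IsHomLift.map (𝟭 C) f⟩
  · intro y x φ
    exact Groth.Agent.Lib.helper10.Inertia.selfOver_sc _ φ


/-- Let `𝒮` be fibred in groupoids over `C`, `U` an object of `C` and `x, y : C/U ⟶ 𝒮` two functors over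
`C` (objects over `U` in 2-Yoneda form), with `e` the 2-isomorphism identifying their composites
with the structure functor. Then the 2-fibre product over `C` of `(x, y) : C/U ⟶ 𝒮 ×_C 𝒮` with the
diagonal `𝒮 ⟶ 𝒮 ×_C 𝒮` is fibred in setoids over `C/U` through its first projection. (The published
statement is for a fibred category with `x`, `y` the functors given by chosen pullbacks; this row is
the case of a category fibred in groupoids, where every functor over `C` out of `C/U` is of that
kind.) -/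
theorem result {C : Type u} [Category.{v} C] {𝒮 : BasedCategory.{v, max u v} C} (h𝒮 : FibCat.IsFibGrpd 𝒮.p)
    (U : C) (x y : FibCat.overCat U ⥤ᵇ 𝒮)
    (e : BasedFunctor.comp x (FibCat.toSelf 𝒮) ≅ BasedFunctor.comp y (FibCat.toSelf 𝒮)) :
    FibCat.IsFibSetoid (FibCat.fpFst (FibCat.fpLift x y e) (FibCat.diag (FibCat.toSelf 𝒮))).toFunctor := by
  have hS2 : FibCat.IsFibGrpd (FibCat.fp (FibCat.toSelf 𝒮) (FibCat.toSelf 𝒮)).p :=
    Groth.Agent.Lib.helper10.FpGen.isFibGrpd_fp _ _ h𝒮 h𝒮 (isFibGrpd_selfOver C)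
  refine ⟨Groth.Agent.Lib.helper10.FpGen.isFibGrpd_fpFst _ _ h𝒮 hS2, ?_⟩
  intro o A B
  constructor
  intro M M'
  apply Functor.Fiber.hom_ext
  have hM := M.2
  have hM' := M'.2
  obtain ⟨a1, a2, a3⟩ := (Groth.Agent.Lib.helper10.FpGen.fpFst_lift_iff _ _ (𝟙 o) M.1).1 hM
  obtain ⟨b1, b2, b3⟩ := (Groth.Agent.Lib.helper10.FpGen.fpFst_lift_iff _ _ (𝟙 o) M'.1).1 hM'
  have e1 : M.1.hom.fst = M'.1.hom.fst := a3.trans b3.symm
  have e2 : M.1.hom.snd = M'.1.hom.snd := by
    have w1 := M.1.hom.w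
    have w2 := M'.1.hom.w
    rw [e1] at w1
    have e3 : (FibCat.diag (FibCat.toSelf 𝒮)).toFunctor.map M.1.hom.snd =
        (FibCat.diag (FibCat.toSelf 𝒮)).toFunctor.map M'.1.hom.snd := by
      rw [← cancel_epi A.1.obj.iso.hom]
      exact w1.symm.trans w2
    exact congrArg (fun z => z.hom.fst) e3
  apply ObjectProperty.hom_ext
  apply Limits.CategoricalPullback.hom_ext
  · exact e1
  · exact e2

end Groth.Agent.S12806
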