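import Mathlib
import Groth.Agent.Lib.helper10.FreeW
import Groth.Statements.S0864

set_option autoImplicit false
universe u
open CategoryTheory
open CohSite

namespace Groth.Agent.S0864

/-- A totally acyclic abelian sheaf F on a site satisfies H^p(U, F) = 0 for every object U and every p >
0. -/
theorem result {C : Type u} [SmallCategory C] {J : GrothendieckTopology C}
    (F : Sheaf J AddCommGrpCat.{u}) (hF : CohCx.IsTotallyAcyclic F) (U : C) (p : ℕ) :
    Subsingleton (CohSite.HU F (p + 1) U) := by
  let K : Sheaf J (Type u) := (presheafToSheaf J (Type u)).obj (yoneda.obj U)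
  have hη : J.W (toSheafify J (yoneda.obj U)) := J.W_toSheafify _
  have hW := Groth.Agent.Lib.helper10.FreeW.W_whiskerRight_free J _ hη
  have hiso : IsIso ((presheafToSheaf J AddCommGrpCat.{u}).map
      (Functor.whiskerRight (toSheafify J (yoneda.obj U)) AddCommGrpCat.free.{u})) := (J.W_iff _).1 hW
  exact Groth.Agent.Lib.helper10.FreeW.subsingleton_ext_of_iso (asIso ((presheafToSheaf J AddCommGrpCat.{u}).map
      (Functor.whiskerRight (toSheafify J (yoneda.obj U)) AddCommGrpCat.free.{u}))) (p + 1) (hF K p)

end Groth.Agent.S0864
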