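import Groth.Statements.S6414

set_option autoImplicit false
open CategoryTheory
universe v₁ u₁ v₂ u₂ v₃ u₃
open FibCat

namespace Groth.Agent.S6414

/-- A morphism that is strongly cartesian with respect to `F : 𝒜 ⥤ ℬ` and whose image is strongly
cartesian with respect to `G : ℬ ⥤ 𝒞` is strongly cartesian with respect to `F ⋙ G`. -/
theorem result {𝒜 : Type u₁} [Category.{v₁} 𝒜] {ℬ : Type u₂} [Category.{v₂} ℬ] {𝒞 : Type u₃} [Category.{v₃} 𝒞] (F : 𝒜 ⥤ ℬ) (G : ℬ ⥤ 𝒞) {x y : 𝒜} (φ : x ⟶ y)
    [F.IsStronglyCartesian (F.map φ) φ] [G.IsStronglyCartesian (G.map (F.map φ)) (F.map φ)] :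
    (F ⋙ G).IsStronglyCartesian ((F ⋙ G).map φ) φ := by
  exact
  { toIsHomLift := inferInstance
    universal_property' := by
      intro a' g φ' hφ'
      have e1 : g ≫ G.map (F.map φ) = G.map (F.map φ') :=
        IsHomLift.eq_of_isHomLift (F ⋙ G) (g ≫ (F ⋙ G).map φ) φ'
      haveI : G.IsHomLift (g ≫ G.map (F.map φ)) (F.map φ') := by
        rw [e1]
        infer_instance
      obtain ⟨h, ⟨hh1, hh2⟩, hh3⟩ := Functor.IsStronglyCartesian.universal_property' (p := G)
        (f := G.map (F.map φ)) (φ := F.map φ) g (F.map φ')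
      haveI : F.IsHomLift (h ≫ F.map φ) φ' := by
        rw [hh2]
        infer_instance
      obtain ⟨χ, ⟨hχ1, hχ2⟩, hχ3⟩ := Functor.IsStronglyCartesian.universal_property' (p := F)
        (f := F.map φ) (φ := φ) h φ'
      refine ⟨χ, ⟨?_, hχ2⟩, ?_⟩
      · have h1 : h = F.map χ := IsHomLift.eq_of_isHomLift F h χ
        have h2 : g = G.map h := IsHomLift.eq_of_isHomLift G g h
        rw [h2, h1]
        exact (inferInstance : (F ⋙ G).IsHomLift ((F ⋙ G).map χ) χ)
      · rintro χ' ⟨h1, h2⟩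
        apply hχ3
        refine ⟨?_, h2⟩
        have h3 : F.map χ' = h := by
          apply hh3
          refine ⟨?_, by rw [← F.map_comp, h2]⟩
          have := IsHomLift.eq_of_isHomLift (F ⋙ G) g χ'
          rw [this]
          exact (inferInstance : G.IsHomLift (G.map (F.map χ')) (F.map χ'))
        rw [← h3]
        infer_instance }

end Groth.Agent.S6414
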