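import Groth.Statements.S6416

set_option autoImplicit false
open CategoryTheory
universe v₁ u₁ v₂ u₂ v₃ u₃
open FibCat

namespace Groth.Agent.S6416

/-- The composite of two functors fibred in groupoids is fibred in groupoids. -/
theorem result {𝒜 : Type u₁} [Category.{v₁} 𝒜] {ℬ : Type u₂} [Category.{v₂} ℬ] {𝒞 : Type u₃} [Category.{v₃} 𝒞] (F : 𝒜 ⥤ ℬ) (G : ℬ ⥤ 𝒞) (hF : FibCat.IsFibGrpd F) (hG : FibCat.IsFibGrpd G) : FibCat.IsFibGrpd (F ⋙ G) := by
  constructor
  · intro x V f
    obtain ⟨z, ψ, hψ⟩ := hG.exists_lift (x := F.obj x) f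
    obtain ⟨y, φ, hφ⟩ := hF.exists_lift (x := x) ψ
    refine ⟨y, φ, ?_⟩
    obtain rfl : F.obj y = z := IsHomLift.domain_eq F ψ φ
    obtain rfl : ψ = F.map φ := IsHomLift.eq_of_isHomLift F ψ φ
    obtain rfl : G.obj (F.obj y) = V := IsHomLift.domain_eq G f (F.map φ)
    obtain rfl : f = G.map (F.map φ) := IsHomLift.eq_of_isHomLift G f (F.map φ)
    exact IsHomLift.map (F ⋙ G) φ
  · intro y x φ
    haveI h1 := hF.isStronglyCartesian φ
    haveI h2 := hG.isStronglyCartesian (F.map φ)
    exact
      { universal_property' := by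
          intro a' g φ' hφ'
          have e : g ≫ (F ⋙ G).map φ = (F ⋙ G).map φ' := IsHomLift.eq_of_isHomLift (F ⋙ G) _ φ'
          have hl1 : G.IsHomLift (g ≫ G.map (F.map φ)) (F.map φ') := by
            have : g ≫ G.map (F.map φ) = G.map (F.map φ') := e
            rw [this]
            exact IsHomLift.map G (F.map φ')
          obtain ⟨χ', ⟨hχ'1, hχ'2⟩, hχ'3⟩ := Functor.IsStronglyCartesian.universal_property'
            (p := G) (f := G.map (F.map φ)) (φ := F.map φ) (a' := F.obj a') g (F.map φ')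
          have hl2 : F.IsHomLift (χ' ≫ F.map φ) φ' := by
            rw [hχ'2]
            exact IsHomLift.map F φ'
          obtain ⟨χ, ⟨hχ1, hχ2⟩, hχ3⟩ := Functor.IsStronglyCartesian.universal_property'
            (p := F) (f := F.map φ) (φ := φ) (a' := a') χ' φ'
          refine ⟨χ, ⟨?_, hχ2⟩, ?_⟩
          · have e1 : χ' = F.map χ := IsHomLift.eq_of_isHomLift F χ' χ
            have e2 : g = G.map χ' := IsHomLift.eq_of_isHomLift G g χ'
            rw [e2, e1]
            exact IsHomLift.map (F ⋙ G) χ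
          · rintro χ₂ ⟨k1, k2⟩
            have e3 : g = (F ⋙ G).map χ₂ := IsHomLift.eq_of_isHomLift (F ⋙ G) g χ₂
            have e4 : F.map χ₂ = χ' := by
              apply hχ'3
              refine ⟨?_, ?_⟩
              · rw [e3]
                exact IsHomLift.map G (F.map χ₂)
              · rw [← F.map_comp, k2]
            apply hχ3
            refine ⟨?_, k2⟩
            rw [← e4]
            exact IsHomLift.map F χ₂ }

end Groth.Agent.S6416
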