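import Mathlib.Tactic
import Groth.Statements.S6400

set_option autoImplicit false
open CategoryTheory
universe v u
open FibCat

namespace Groth.Agent.S6400

lemma fp_lift_iff {C : Type u} [Category.{v} C] {𝒳 𝒴 𝒮 : BasedCategory.{v, max u v} C}
    (F : 𝒳 ⥤ᵇ 𝒮) (G : 𝒴 ⥤ᵇ 𝒮) {R S : C} (f : R ⟶ S) {a b : (FibCat.fp F G).obj} (Ψ : a ⟶ b) :
    (FibCat.fp F G).p.IsHomLift f Ψ ↔ 𝒳.p.IsHomLift f Ψ.hom.fst := by
  constructor
  · intro h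
    exact IsHomLift.of_fac' 𝒳.p f Ψ.hom.fst (IsHomLift.domain_eq (FibCat.fp F G).p f Ψ)
      (IsHomLift.codomain_eq (FibCat.fp F G).p f Ψ) (IsHomLift.fac' (FibCat.fp F G).p f Ψ)
  · intro h
    have h1 := IsHomLift.domain_eq 𝒳.p f Ψ.hom.fst
    have h2 := IsHomLift.codomain_eq 𝒳.p f Ψ.hom.fst
    have h3 := IsHomLift.fac' 𝒳.p f Ψ.hom.fst
    exact IsHomLift.of_fac' (FibCat.fp F G).p f Ψ h1 h2 h3

lemma fp_lift_snd {C : Type u} [Category.{v} C] {𝒳 𝒴 𝒮 : BasedCategory.{v, max u v} C}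
    (F : 𝒳 ⥤ᵇ 𝒮) (G : 𝒴 ⥤ᵇ 𝒮) {R S : C} (f : R ⟶ S) {a b : (FibCat.fp F G).obj} (Ψ : a ⟶ b)
    (h : (FibCat.fp F G).p.IsHomLift f Ψ) : 𝒴.p.IsHomLift f Ψ.hom.snd := by
  obtain ⟨⟩ := h
  exact FibCat.fp_isHomLift_snd F G Ψ

/-- For fibred categories `𝒳, 𝒴, 𝒮` over `C` and functors `F : 𝒳 ⟶ 𝒮`, `G : 𝒴 ⟶ 𝒮` over `C` preserving
strongly cartesian morphisms, the 2-fibre product `𝒳 ×_𝒮 𝒴` over `C` is fibred over `C`. (The
published statement also says that this category, with its two projections, is a 2-fibre product in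
the 2-category of fibred categories over `C`; this row states only that it is fibred.) -/
theorem result {C : Type u} [Category.{v} C] {𝒳 𝒴 𝒮 : BasedCategory.{v, max u v} C} (F : 𝒳 ⥤ᵇ 𝒮) (G : 𝒴 ⥤ᵇ 𝒮) [𝒳.p.IsFibered] [𝒴.p.IsFibered] [𝒮.p.IsFibered]
    (hF : ∀ {R S : C} (f : R ⟶ S) {a b : 𝒳.obj} (φ : a ⟶ b), 𝒳.p.IsStronglyCartesian f φ → 𝒮.p.IsStronglyCartesian f (F.map φ))
    (hG : ∀ {R S : C} (f : R ⟶ S) {a b : 𝒴.obj} (φ : a ⟶ b), 𝒴.p.IsStronglyCartesian f φ → 𝒮.p.IsStronglyCartesian f (G.map φ)) :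
    (FibCat.fp F G).p.IsFibered := by
  apply Functor.IsFibered.of_exists_isStronglyCartesian
  intro t R f
  obtain ⟨⟨x, y, γ⟩, hγ⟩ := t
  change 𝒮.p.IsHomLift (𝟙 (𝒳.p.obj x)) γ.hom at hγ
  change R ⟶ 𝒳.p.obj x at f
  have hy : 𝒴.p.obj y = 𝒳.p.obj x :=
    (G.w_obj y).symm.trans (IsHomLift.codomain_eq 𝒮.p (𝟙 (𝒳.p.obj x)) γ.hom)
  obtain ⟨x', φ, hφ⟩ := IsPreFibered.exists_isCartesian 𝒳.p (rfl : 𝒳.p.obj x = _) f
  obtain ⟨y', ψ, hψ⟩ := IsPreFibered.exists_isCartesian 𝒴.p hy f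
  have hφs : 𝒳.p.IsStronglyCartesian f φ := inferInstance
  have hψs : 𝒴.p.IsStronglyCartesian f ψ := inferInstance
  have hFφ : 𝒮.p.IsStronglyCartesian f (F.map φ) := hF f φ hφs
  have hGψ : 𝒮.p.IsStronglyCartesian f (G.map ψ) := hG f ψ hψs
  have hγs : 𝒮.p.IsStronglyCartesian (𝟙 (𝒳.p.obj x)) γ.hom := inferInstance
  have hcomp : 𝒮.p.IsStronglyCartesian f (F.map φ ≫ γ.hom) := by
    have := Functor.IsStronglyCartesian.comp (p := 𝒮.p) (f := f) (g := 𝟙 (𝒳.p.obj x))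
      (φ := F.map φ) (ψ := γ.hom)
    rwa [Category.comp_id] at this
  have hid : f = (Iso.refl R).hom ≫ f := by simp
  let γ' : F.obj x' ≅ G.obj y' :=
    Functor.IsStronglyCartesian.domainIsoOfBaseIso 𝒮.p (g := Iso.refl R) hid (G.map ψ)
      (F.map φ ≫ γ.hom)
  have hγ'lift : 𝒮.p.IsHomLift (𝟙 R) γ'.hom :=
    Functor.IsStronglyCartesian.domainUniqueUpToIso_inv_isHomLift 𝒮.p (g := Iso.refl R) hid
      (G.map ψ) (F.map φ ≫ γ.hom)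
  have hγ'fac : γ'.hom ≫ G.map ψ = F.map φ ≫ γ.hom :=
    Functor.IsStronglyCartesian.fac 𝒮.p f (G.map ψ) hid (F.map φ ≫ γ.hom)
  have hx' : 𝒳.p.obj x' = R := IsHomLift.domain_eq 𝒳.p f φ
  have hprop : 𝒮.p.IsHomLift (𝟙 (𝒳.p.obj x')) γ'.hom := by
    rw [hx']; exact hγ'lift
  let t' : (FibCat.fp F G).obj := ⟨⟨x', y', γ'⟩, hprop⟩
  let t : (FibCat.fp F G).obj := ⟨⟨x, y, γ⟩, hγ⟩
  let Φ : t' ⟶ t := ObjectProperty.homMk
    ({ fst := φ, snd := ψ, w := hγ'fac.symm } :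
      Limits.CategoricalPullback.Hom (F := F.toFunctor) (G := G.toFunctor) ⟨x', y', γ'⟩ ⟨x, y, γ⟩)
  refine ⟨t', Φ, ?_⟩
  have hΦlift : (FibCat.fp F G).p.IsHomLift f Φ := by
    have h1 : 𝒳.p.IsHomLift f φ := inferInstance
    have h2 := IsHomLift.fac' 𝒳.p f φ
    exact IsHomLift.of_fac' (FibCat.fp F G).p f Φ hx' rfl h2
  refine { toIsHomLift := hΦlift, universal_property' := ?_ }
  intro s g τ hτ
  have hτ1 : 𝒳.p.IsHomLift (g ≫ f) τ.hom.fst := (fp_lift_iff F G _ τ).1 hτ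
  have hτ2 : 𝒴.p.IsHomLift (g ≫ f) τ.hom.snd := by
    have e : g ≫ f = (FibCat.fp F G).p.map τ :=
      @IsHomLift.eq_of_isHomLift _ _ _ _ 𝒳.p s.obj.fst x (g ≫ f) τ.hom.fst hτ1
    rw [e]; exact FibCat.fp_isHomLift_snd F G τ
  let α : s.obj.fst ⟶ x' := Functor.IsStronglyCartesian.map 𝒳.p f φ (g := g) rfl τ.hom.fst
  let β : s.obj.snd ⟶ y' := Functor.IsStronglyCartesian.map 𝒴.p f ψ (g := g) rfl τ.hom.snd
  have hα : 𝒳.p.IsHomLift g α := Functor.IsStronglyCartesian.map_isHomLift 𝒳.p f φ (g := g) rfl τ.hom.fst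
  have hβ : 𝒴.p.IsHomLift g β := Functor.IsStronglyCartesian.map_isHomLift 𝒴.p f ψ (g := g) rfl τ.hom.snd
  have hαf : α ≫ φ = τ.hom.fst := Functor.IsStronglyCartesian.fac 𝒳.p f φ (g := g) rfl τ.hom.fst
  have hβf : β ≫ ψ = τ.hom.snd := Functor.IsStronglyCartesian.fac 𝒴.p f ψ (g := g) rfl τ.hom.snd
  have hFα : 𝒮.p.IsHomLift g (F.map α) := (BasedFunctor.isHomLift_iff F g α).2 hα
  have hGβ : 𝒮.p.IsHomLift g (G.map β) := (BasedFunctor.isHomLift_iff G g β).2 hβ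
  have hs : 𝒮.p.IsHomLift (𝟙 (𝒳.p.obj s.obj.fst)) s.obj.iso.hom := s.property
  have hl1 : 𝒮.p.IsHomLift g (F.map α ≫ γ'.hom) :=
    IsHomLift.comp_lift_id_right' 𝒮.p g (F.map α) R γ'.hom
  have hl2 : 𝒮.p.IsHomLift g (s.obj.iso.hom ≫ G.map β) :=
    IsHomLift.comp_lift_id_left' 𝒮.p (𝒳.p.obj s.obj.fst) s.obj.iso.hom g (G.map β)
  have hw : F.map α ≫ γ'.hom = s.obj.iso.hom ≫ G.map β := by
    apply Functor.IsStronglyCartesian.ext 𝒮.p f (G.map ψ) g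
    rw [Category.assoc, hγ'fac, ← Category.assoc, ← F.map_comp, hαf, Category.assoc,
      ← G.map_comp, hβf]
    exact τ.hom.w
  let χ : s ⟶ t' := ObjectProperty.homMk
    ({ fst := α, snd := β, w := hw } :
      Limits.CategoricalPullback.Hom (F := F.toFunctor) (G := G.toFunctor) s.obj ⟨x', y', γ'⟩)
  have hχ : (FibCat.fp F G).p.IsHomLift g χ := (fp_lift_iff F G g χ).2 hα
  refine ⟨χ, ⟨hχ, ?_⟩, ?_⟩
  · apply ObjectProperty.hom_ext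
    apply Limits.CategoricalPullback.hom_ext
    · exact hαf
    · exact hβf
  · rintro χ' ⟨hχ'1, hχ'2⟩
    have h1 : 𝒳.p.IsHomLift g χ'.hom.fst := (fp_lift_iff F G g χ').1 hχ'1
    have h2 : 𝒴.p.IsHomLift g χ'.hom.snd := fp_lift_snd F G g χ' hχ'1
    have e1 : χ'.hom.fst ≫ φ = τ.hom.fst := by
      have := congrArg (fun m => m.hom.fst) hχ'2
      exact this
    have e2 : χ'.hom.snd ≫ ψ = τ.hom.snd := by
      have := congrArg (fun m => m.hom.snd) hχ'2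
      exact this
    apply ObjectProperty.hom_ext
    apply Limits.CategoricalPullback.hom_ext
    · exact Functor.IsStronglyCartesian.map_uniq 𝒳.p f φ (g := g) rfl τ.hom.fst χ'.hom.fst e1
    · exact Functor.IsStronglyCartesian.map_uniq 𝒴.p f ψ (g := g) rfl τ.hom.snd χ'.hom.snd e2

end Groth.Agent.S6400
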