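import Groth.Statements.S0587
import Mathlib

set_option autoImplicit false
universe u
open CAlg

namespace Groth.Agent.S0587

open TensorProduct in
theorem exists_rep {R : Type u} [CommRing R] {M : Type u} [AddCommGroup M] [Module R M]
    {n : ℕ} (g : (Fin n → R) →ₗ[R] M) (hg : Function.Surjective g)
    (Q : Type u) [AddCommGroup Q] [Module R Q] (z : M ⊗[R] Q) :
    ∃ q : Fin n → Q, z = ∑ k, g (Pi.single k 1) ⊗ₜ[R] q k := by
  induction z using TensorProduct.induction_on with
  | zero => exact ⟨0, by simp⟩
  | tmul a b =>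
    obtain ⟨v, rfl⟩ := hg a
    refine ⟨fun k => v k • b, ?_⟩
    have : v = ∑ k, v k • (Pi.single k (1 : R) : Fin n → R) := by
      ext j
      simp [Finset.sum_apply, Pi.single_apply]
    conv_lhs => rw [this]
    rw [map_sum, TensorProduct.sum_tmul]
    refine Finset.sum_congr rfl fun k _ => ?_
    rw [map_smul, TensorProduct.smul_tmul]
  | add x y hx hy =>
    obtain ⟨q, rfl⟩ := hx
    obtain ⟨q', rfl⟩ := hy
    refine ⟨q + q', ?_⟩
    rw [← Finset.sum_add_distrib]
    refine Finset.sum_congr rfl fun k _ => ?_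
    rw [Pi.add_apply, TensorProduct.tmul_add]

open TensorProduct in
/-- A module `M` is finitely generated exactly when for every family of modules `(Qᵢ)` the natural map
from `M ⊗ ∏ Qᵢ` to `∏ (M ⊗ Qᵢ)` is surjective. -/
theorem result (R : Type u) [CommRing R] (M : Type u)
    [AddCommGroup M] [Module R M] :
    Module.Finite R M ↔ ∀ (ι : Type u) (Q : ι → Type u) [∀ i, AddCommGroup (Q i)]
      [∀ i, Module R (Q i)], Function.Surjective (TensorProduct.piRightHom R R M Q) := by
  constructor
  · intro hM ι Q _ _ y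
    obtain ⟨n, g, hg⟩ := Module.Finite.exists_fin' R M
    choose q hq using fun i => exists_rep g hg (Q i) (y i)
    refine ⟨∑ k, g (Pi.single k 1) ⊗ₜ[R] (fun i => q i k), ?_⟩
    funext i
    rw [map_sum, Finset.sum_apply, hq i]
    refine Finset.sum_congr rfl fun k _ => ?_
    rw [TensorProduct.piRightHom_tmul]
  · intro h
    classical
    obtain ⟨t, ht⟩ := h M (fun _ => R) (fun m => m ⊗ₜ[R] (1 : R))
    obtain ⟨T, rfl⟩ := TensorProduct.exists_finset t
    refine ⟨⟨T.image Prod.fst, ?_⟩⟩
    rw [eq_top_iff]
    intro m _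
    have h1 := congrFun ht m
    rw [map_sum, Finset.sum_apply] at h1
    have h2 := congrArg (TensorProduct.rid R M) h1
    rw [map_sum] at h2
    simp only [TensorProduct.piRightHom_tmul, TensorProduct.rid_tmul, one_smul] at h2
    rw [← h2]
    refine Submodule.sum_mem _ fun p hp => ?_
    refine Submodule.smul_mem _ _ (Submodule.subset_span ?_)
    rw [Finset.coe_image]
    exact ⟨p, hp, rfl⟩

end Groth.Agent.S0587
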