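import Groth.Statements.S2056
import Mathlib
-- import your own Groth.Agent.* helpers here

set_option autoImplicit false
universe u
open CAlg

namespace Groth.Agent.S2056

open TensorProduct in
/-- finitely generated case -/
theorem inj_of_fg {R M N : Type u} [CommRing R] [AddCommGroup M]
    [Module R M] [AddCommGroup N] [Module R N] (f : M →ₗ[R] N)
    (H : ∀ (Q : Type u) [AddCommGroup Q] [Module R Q], Module.FinitePresentation R Q →
        Function.Injective (f.rTensor Q))
    (Q : Type u) [AddCommGroup Q] [Module R Q] [Module.Finite R Q] :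
    Function.Injective (f.rTensor Q) := by
  rw [injective_iff_map_eq_zero]
  intro t ht
  obtain ⟨n, g, hg⟩ := Module.Finite.exists_fin' R Q
  obtain ⟨t', rfl⟩ := LinearMap.lTensor_surjective M hg t
  have h1 : (g.lTensor N) ((f.rTensor (Fin n → R)) t') = 0 := by
    rw [← LinearMap.comp_apply, LinearMap.lTensor_comp_rTensor, ← LinearMap.rTensor_comp_lTensor,
      LinearMap.comp_apply, ht]
  have hex : Function.Exact ((LinearMap.ker g).subtype.lTensor N) (g.lTensor N) :=
    lTensor_exact N (LinearMap.exact_subtype_ker_map g) hg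
  obtain ⟨w, hw⟩ := (hex _).mp h1
  obtain ⟨K₀', hK₀', hsub⟩ := TensorProduct.exists_finite_submodule_right_of_setFinite
    ({w} : Set (N ⊗[R] LinearMap.ker g)) (Set.finite_singleton w)
  obtain ⟨w₀, hw₀⟩ := hsub (Set.mem_singleton w)
  let K₀ : Submodule R (Fin n → R) := K₀'.map (LinearMap.ker g).subtype
  have hK₀fg : K₀.FG := (Module.Finite.iff_fg.mp hK₀').map _
  have hK₀le : K₀ ≤ LinearMap.ker g := by
    rintro _ ⟨x, -, rfl⟩
    exact x.2
  have hfp : Module.FinitePresentation R ((Fin n → R) ⧸ K₀) :=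
    Module.finitePresentation_of_free_of_surjective K₀.mkQ (Submodule.mkQ_surjective K₀)
      (by rw [Submodule.ker_mkQ]; exact hK₀fg)
  have hzero : (K₀.mkQ ∘ₗ (LinearMap.ker g).subtype) ∘ₗ K₀'.subtype = 0 := by
    ext x
    simp only [LinearMap.comp_apply, Submodule.subtype_apply, Submodule.mkQ_apply,
      LinearMap.zero_apply, Submodule.Quotient.mk_eq_zero]
    exact ⟨x.1, x.2, rfl⟩
  have h2 : (K₀.mkQ.lTensor N) ((f.rTensor (Fin n → R)) t') = 0 := by
    rw [← hw, ← hw₀, ← LinearMap.comp_apply, ← LinearMap.comp_apply, ← LinearMap.lTensor_comp,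
      ← LinearMap.lTensor_comp, hzero, LinearMap.lTensor_zero, LinearMap.zero_apply]
  have h3 : (f.rTensor ((Fin n → R) ⧸ K₀)) ((K₀.mkQ.lTensor M) t') = 0 := by
    rw [← LinearMap.comp_apply, LinearMap.rTensor_comp_lTensor, ← LinearMap.lTensor_comp_rTensor,
      LinearMap.comp_apply, h2]
  have h4 : (K₀.mkQ.lTensor M) t' = 0 := H _ hfp (h3.trans (map_zero _).symm)
  have h5 : g = (K₀.liftQ g hK₀le) ∘ₗ K₀.mkQ := (Submodule.liftQ_mkQ K₀ g hK₀le).symm
  rw [h5, LinearMap.lTensor_comp, LinearMap.comp_apply, h4, map_zero]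

open TensorProduct in
theorem exists_fg_lTensor_eq_zero {R N Q : Type u} [CommRing R] [AddCommGroup N] [Module R N]
    [AddCommGroup Q] [Module R Q] {Q₀ : Submodule R Q} (hQ₀ : Q₀.FG) (s : N ⊗[R] Q₀)
    (hs : Q₀.subtype.lTensor N s = 0) :
    ∃ Q' : Submodule R Q, Q'.FG ∧ ∃ h : Q₀ ≤ Q', (Submodule.inclusion h).lTensor N s = 0 := by
  have h2 : Q₀.subtype.rTensor N (TensorProduct.comm R N Q₀ s) = Q₀.subtype.rTensor N 0 := by
    rw [map_zero, LinearMap.rTensor_comm, hs, map_zero]
  obtain ⟨Q', hQ', hle, h3⟩ := Submodule.FG.exists_rTensor_fg_inclusion_eq hQ₀ h2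
  refine ⟨Q', hQ', hle, ?_⟩
  rw [map_zero, LinearMap.rTensor_comm] at h3
  exact (TensorProduct.comm R N Q').injective (h3.trans (map_zero _).symm)

/-- A linear map of `R`-modules is universally injective (injective after tensoring with any module) if
and only if it is injective after tensoring with every finitely presented module. -/
theorem result {R M N : Type u} [CommRing R] [AddCommGroup M]
    [Module R M] [AddCommGroup N] [Module R N] (f : M →ₗ[R] N) :
    CAlgX.UniversallyInjective R f ↔
      ∀ (Q : Type u) [AddCommGroup Q] [Module R Q], Module.FinitePresentation R Q →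
        Function.Injective (f.rTensor Q) := by
  constructor
  · intro H Q _ _ _
    exact H Q
  · intro H Q _ _
    rw [injective_iff_map_eq_zero]
    intro t ht
    obtain ⟨Q₀, hQ₀, hsub⟩ := TensorProduct.exists_finite_submodule_right_of_setFinite
      ({t} : Set (TensorProduct R M Q)) (Set.finite_singleton t)
    obtain ⟨t', rfl⟩ := hsub (Set.mem_singleton t)
    have h1 : (Q₀.subtype.lTensor N) ((f.rTensor Q₀) t') = 0 := by
      rw [← LinearMap.comp_apply, LinearMap.lTensor_comp_rTensor, ← LinearMap.rTensor_comp_lTensor,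
        LinearMap.comp_apply, ht]
    obtain ⟨Q', hQ', hle, h3⟩ := exists_fg_lTensor_eq_zero (Module.Finite.iff_fg.mp hQ₀) _ h1
    haveI : Module.Finite R Q' := Module.Finite.iff_fg.mpr hQ'
    have h4 : (f.rTensor Q') (((Submodule.inclusion hle).lTensor M) t') = 0 := by
      rw [← LinearMap.comp_apply, LinearMap.rTensor_comp_lTensor, ← LinearMap.lTensor_comp_rTensor,
        LinearMap.comp_apply, h3]
    have h5 : ((Submodule.inclusion hle).lTensor M) t' = 0 :=
      inj_of_fg f H Q' (h4.trans (map_zero _).symm)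
    have h6 : Q₀.subtype = Q'.subtype ∘ₗ Submodule.inclusion hle := rfl
    rw [h6, LinearMap.lTensor_comp, LinearMap.comp_apply, h5, map_zero]

end Groth.Agent.S2056
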