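import Groth.Statements.S6360
import Mathlib.Tactic
import Groth.Agent.S2056

set_option autoImplicit false
universe u
open CAlg

namespace Groth.Agent.S6360

theorem aux_inj {R : Type u} [CommRing R] {M N M' : Type u}
    [AddCommGroup M] [Module R M] [AddCommGroup N] [Module R N] [AddCommGroup M'] [Module R M']
    (f : M →ₗ[R] N) (g : M →ₗ[R] M') (Q : Type u) [AddCommGroup Q] [Module R Q]
    (H : LinearMap.ker (f.rTensor Q) ≤ LinearMap.ker (g.rTensor Q)) :
    Function.Injective
      (((LinearMap.range (g.prod (-f))).mkQ ∘ₗ LinearMap.inl R M' N).rTensor Q) := by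
  rw [injective_iff_map_eq_zero]
  intro t ht
  set φ : M →ₗ[R] M' × N := g.prod (-f) with hφ
  have hex : Function.Exact (φ.rTensor Q) ((LinearMap.range φ).mkQ.rTensor Q) :=
    rTensor_exact Q (LinearMap.exact_map_mkQ_range φ) (Submodule.mkQ_surjective _)
  rw [LinearMap.rTensor_comp, LinearMap.comp_apply] at ht
  obtain ⟨w, hw⟩ := (hex _).mp ht
  have h1 : (LinearMap.fst R M' N).rTensor Q ((LinearMap.inl R M' N).rTensor Q t) = t := by
    rw [← LinearMap.comp_apply, ← LinearMap.rTensor_comp, LinearMap.fst_comp_inl,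
      LinearMap.rTensor_id, LinearMap.id_apply]
  have h2 : (LinearMap.snd R M' N).rTensor Q ((LinearMap.inl R M' N).rTensor Q t) = 0 := by
    rw [← LinearMap.comp_apply, ← LinearMap.rTensor_comp, LinearMap.snd_comp_inl,
      LinearMap.rTensor_zero, LinearMap.zero_apply]
  rw [← hw, ← LinearMap.comp_apply, ← LinearMap.rTensor_comp] at h1 h2
  have e1 : LinearMap.fst R M' N ∘ₗ φ = g := by
    ext x; simp [hφ]
  have e2 : LinearMap.snd R M' N ∘ₗ φ = -f := by
    ext x; simp [hφ]
  rw [e1] at h1
  rw [e2, LinearMap.rTensor_neg, LinearMap.neg_apply, neg_eq_zero] at h2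
  rw [← h1]
  exact H h2


/-- For maps of R-modules f : M → N and g : M → M', g dominates f (the kernel of f ⊗ id_Q is contained
in that of g ⊗ id_Q for every module Q) if and only if this containment holds for every finitely
presented module Q. -/
theorem result (R : Type u) [CommRing R] {M N M' : Type u}
    [AddCommGroup M] [Module R M] [AddCommGroup N] [Module R N] [AddCommGroup M'] [Module R M']
    (f : M →ₗ[R] N) (g : M →ₗ[R] M') :
    (∀ (Q : Type u) [AddCommGroup Q] [Module R Q], LinearMap.ker (f.rTensor Q) ≤ LinearMap.ker (g.rTensor Q)) ↔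
      ∀ (Q : Type u) [AddCommGroup Q] [Module R Q], Module.FinitePresentation R Q →
        LinearMap.ker (f.rTensor Q) ≤ LinearMap.ker (g.rTensor Q) := by
  constructor
  · intro H Q _ _ _
    exact H Q
  · intro H
    set φ : M →ₗ[R] M' × N := g.prod (-f) with hφ
    set f' : M' →ₗ[R] (M' × N) ⧸ LinearMap.range φ :=
      (LinearMap.range φ).mkQ ∘ₗ LinearMap.inl R M' N with hf'
    set g' : N →ₗ[R] (M' × N) ⧸ LinearMap.range φ :=
      (LinearMap.range φ).mkQ ∘ₗ LinearMap.inr R M' N with hg'
    have hcomm : f' ∘ₗ g = g' ∘ₗ f := by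
      ext m
      simp only [hf', hg', LinearMap.comp_apply, Submodule.mkQ_apply, LinearMap.inl_apply,
        LinearMap.inr_apply]
      rw [Submodule.Quotient.eq]
      refine ⟨m, ?_⟩
      simp [hφ]
    have hUI : CAlgX.UniversallyInjective R f' :=
      (Groth.Agent.S2056.result f').mpr (fun Q _ _ hQ => aux_inj f g Q (H Q hQ))
    intro Q _ _ t ht
    rw [LinearMap.mem_ker] at ht ⊢
    apply hUI Q
    rw [map_zero, ← LinearMap.comp_apply, ← LinearMap.rTensor_comp, hcomm, LinearMap.rTensor_comp,
      LinearMap.comp_apply, ht, map_zero]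

end Groth.Agent.S6360
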