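import Groth.Statements.S6380
import Mathlib.Tactic
import Mathlib.Algebra.Colimit.TensorProduct
import Mathlib.Algebra.Module.FinitePresentation
import Mathlib.LinearAlgebra.TensorProduct.RightExactness

set_option autoImplicit false
universe u
open scoped TensorProduct
open CAlg

namespace Groth.Agent.S6380

/-- Given a linear map f : P → M of R-modules with P finitely presented, an R-module Q and an element x
of P ⊗ Q in the kernel of f ⊗ id_Q, one can factor f as h ∘ f' through some finitely presented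
module P' (with f' : P → P' and h : P' → M) so that already f' ⊗ id_Q sends x to zero. -/
theorem result (R : Type u) [CommRing R] {P M Q : Type u}
    [AddCommGroup P] [Module R P] [Module.FinitePresentation R P] [AddCommGroup M] [Module R M]
    [AddCommGroup Q] [Module R Q] (f : P →ₗ[R] M) (x : P ⊗[R] Q) (hx : f.rTensor Q x = 0) :
    ∃ (P' : Type u) (_ : AddCommGroup P') (_ : Module R P') (_ : Module.FinitePresentation R P')
      (f' : P →ₗ[R] P') (h : P' →ₗ[R] M), f = h ∘ₗ f' ∧ f'.rTensor Q x = 0 := by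
  classical
  have hM₀ : (LinearMap.range f).FG := by
    rw [LinearMap.range_eq_map]
    exact (Module.Finite.fg_top).map f
  set fr : P →ₗ[R] LinearMap.range f := f.rangeRestrict with hfr
  have h0 : (LinearMap.range f).subtype.rTensor Q (fr.rTensor Q x) =
      (LinearMap.range f).subtype.rTensor Q 0 := by
    have e : (LinearMap.range f).subtype ∘ₗ fr = f := by
      ext p
      rfl
    rw [map_zero, ← LinearMap.comp_apply, ← LinearMap.rTensor_comp, e, hx]
  obtain ⟨M₁, hM₁, hle, h1⟩ := hM₀.exists_rTensor_fg_inclusion_eq h0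
  set f₁ : P →ₗ[R] M₁ := (Submodule.inclusion hle) ∘ₗ fr with hf₁def
  have hf₁ : f₁.rTensor Q x = 0 := by
    rw [hf₁def, LinearMap.rTensor_comp, LinearMap.comp_apply, h1, map_zero]
  have hf₁' : M₁.subtype ∘ₗ f₁ = f := by
    ext p
    rfl
  have : Module.Finite R M₁ := Module.Finite.iff_fg.mpr hM₁
  obtain ⟨k, π, hπ⟩ := Module.Finite.exists_fin' R M₁
  set σ : P × (Fin k → R) →ₗ[R] M₁ := f₁.coprod π with hσdef
  have hσ : Function.Surjective σ := by
    intro y
    obtain ⟨v, rfl⟩ := hπ y
    exact ⟨(0, v), by simp [hσdef]⟩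
  have hex : Function.Exact ((LinearMap.ker σ).subtype.rTensor Q) (σ.rTensor Q) :=
    rTensor_exact Q (LinearMap.exact_subtype_ker_map σ) hσ
  have h2 : σ.rTensor Q ((LinearMap.inl R P (Fin k → R)).rTensor Q x) = 0 := by
    rw [← LinearMap.comp_apply, ← LinearMap.rTensor_comp, hσdef, LinearMap.coprod_inl, hf₁]
  obtain ⟨w, hw⟩ := (hex _).mp h2
  obtain ⟨K', hK', hsub⟩ := TensorProduct.exists_finite_submodule_left_of_setFinite
    ({w} : Set ((LinearMap.ker σ) ⊗[R] Q)) (Set.finite_singleton w)
  obtain ⟨w', hw'⟩ := hsub (Set.mem_singleton w)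
  set K₀ : Submodule R (P × (Fin k → R)) := K'.map (LinearMap.ker σ).subtype with hK₀def
  have hK₀fg : K₀.FG := (Module.Finite.iff_fg.mp hK').map _
  have hK₀le : K₀ ≤ LinearMap.ker σ := by
    rintro _ ⟨y, -, rfl⟩
    exact y.2
  have hfp : Module.FinitePresentation R ((P × (Fin k → R)) ⧸ K₀) :=
    Module.finitePresentation_of_surjective K₀.mkQ (Submodule.mkQ_surjective K₀)
      (by rw [Submodule.ker_mkQ]; exact hK₀fg)
  refine ⟨(P × (Fin k → R)) ⧸ K₀, inferInstance, inferInstance, hfp,
    K₀.mkQ ∘ₗ LinearMap.inl R P (Fin k → R), M₁.subtype ∘ₗ K₀.liftQ σ hK₀le, ?_, ?_⟩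
  · rw [← hf₁']
    ext p
    simp [hσdef]
  · have hzero : (K₀.mkQ ∘ₗ (LinearMap.ker σ).subtype) ∘ₗ K'.subtype = 0 := by
      ext y
      simp only [LinearMap.comp_apply, Submodule.subtype_apply, Submodule.mkQ_apply,
        LinearMap.zero_apply, Submodule.Quotient.mk_eq_zero]
      exact ⟨y.1, y.2, rfl⟩
    rw [LinearMap.rTensor_comp, LinearMap.comp_apply, ← hw, ← hw', ← LinearMap.comp_apply,
      ← LinearMap.comp_apply, ← LinearMap.rTensor_comp, ← LinearMap.rTensor_comp, hzero,
      LinearMap.rTensor_zero, LinearMap.zero_apply]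

end Groth.Agent.S6380
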