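import Mathlib.Tactic
import Groth.Agent.Lib.helper10.FiberFun
import Groth.Statements.S6407

set_option autoImplicit false
open CategoryTheory
universe v u
open FibCat

namespace Groth.Agent.S6407

/-- In a category fibred in setoids, two morphisms with the same source and target lifting the
same morphism of the base are equal. -/
lemma eq_of_lift {C : Type u} [Category.{v} C] {𝒴 : BasedCategory.{v, max u v} C}
    (h𝒴 : FibCat.IsFibSetoid 𝒴.p) {R S : C} (w : R ⟶ S) {a b : 𝒴.obj} (φ ψ : a ⟶ b)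
    [𝒴.p.IsHomLift w φ] [𝒴.p.IsHomLift w ψ] : φ = ψ := by
  have hψsc : 𝒴.p.IsStronglyCartesian w ψ :=
    Groth.Agent.Lib.helper10.FiberFun.sc_of_isFibGrpd h𝒴.1 _ _
  have hid : w = 𝟙 R ≫ w := by simp
  let χ : a ⟶ a := Functor.IsStronglyCartesian.map 𝒴.p w ψ hid φ
  have hχ : 𝒴.p.IsHomLift (𝟙 R) χ := Functor.IsStronglyCartesian.map_isHomLift 𝒴.p w ψ hid φ
  have hχf : χ ≫ ψ = φ := Functor.IsStronglyCartesian.fac 𝒴.p w ψ hid φ
  have ha : 𝒴.p.obj a = R := IsHomLift.domain_eq 𝒴.p w φ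
  have hthin := h𝒴.2 R
  let a' : 𝒴.p.Fiber R := ⟨a, ha⟩
  let χ' : a' ⟶ a' := ⟨χ, hχ⟩
  have e : χ' = 𝟙 a' := Subsingleton.elim _ _
  have e' : χ = 𝟙 a := congrArg (fun m => Functor.Fiber.fiberInclusion.map m) e
  rw [← hχf, e', Category.id_comp]


/-- For categories `𝒳, 𝒴` fibred in setoids over `C` and functors `f, g : 𝒳 ⟶ 𝒴` over `C` that agree on
isomorphism classes of objects of each fibre category, there is a unique 2-isomorphism `f ≅ g` over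
`C`. -/
theorem result {C : Type u} [Category.{v} C] {𝒳 𝒴 : BasedCategory.{v, max u v} C} (h𝒳 : FibCat.IsFibSetoid 𝒳.p) (h𝒴 : FibCat.IsFibSetoid 𝒴.p) (f g : 𝒳 ⥤ᵇ 𝒴)
    (hfg : ∀ (U : C) (x : 𝒳.p.Fiber U), Nonempty ((FibCat.fiberFunctor f U).obj x ≅ (FibCat.fiberFunctor g U).obj x)) :
    Nonempty (Unique (f ≅ g)) := by
  classical
  -- the components
  let i : ∀ x : 𝒳.obj, f.obj x ≅ g.obj x := fun x =>
    Functor.Fiber.fiberInclusion.mapIso (hfg (𝒳.p.obj x) ⟨x, rfl⟩).some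
  have hi : ∀ x : 𝒳.obj, 𝒴.p.IsHomLift (𝟙 (𝒳.p.obj x)) (i x).hom := fun x =>
    ((hfg (𝒳.p.obj x) ⟨x, rfl⟩).some.hom).2
  have hnat : ∀ {x y : 𝒳.obj} (φ : x ⟶ y), f.toFunctor.map φ ≫ (i y).hom = (i x).hom ≫ g.toFunctor.map φ := by
    intro x y φ
    have h1 : 𝒴.p.IsHomLift (𝒳.p.map φ) (f.map φ) := inferInstance
    have h2 : 𝒴.p.IsHomLift (𝒳.p.map φ) (g.map φ) := inferInstance
    have := hi x
    have := hi y
    have h3 : 𝒴.p.IsHomLift (𝒳.p.map φ) (f.map φ ≫ (i y).hom) :=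
      IsHomLift.comp_lift_id_right' 𝒴.p (𝒳.p.map φ) (f.map φ) (𝒳.p.obj y) (i y).hom
    have h4 : 𝒴.p.IsHomLift (𝒳.p.map φ) ((i x).hom ≫ g.map φ) :=
      IsHomLift.comp_lift_id_left' 𝒴.p (𝒳.p.obj x) (i x).hom (𝒳.p.map φ) (g.map φ)
    exact eq_of_lift h𝒴 (𝒳.p.map φ) _ _
  let e : f ≅ g := BasedNatIso.mkNatIso (NatIso.ofComponents i (fun φ => hnat φ)) (fun x => hi x)
  refine ⟨⟨⟨e⟩, ?_⟩⟩
  intro e'
  apply Iso.ext
  apply BasedNatTrans.ext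
  apply NatTrans.ext
  funext x
  have h1 : 𝒴.p.IsHomLift (𝟙 (𝒳.p.obj x)) (e'.hom.toNatTrans.app x) := e'.hom.isHomLift' x
  have h2 : 𝒴.p.IsHomLift (𝟙 (𝒳.p.obj x)) (e.hom.toNatTrans.app x) := e.hom.isHomLift' x
  exact eq_of_lift h𝒴 (𝟙 (𝒳.p.obj x)) _ _

end Groth.Agent.S6407
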