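import Groth.Statements.S7427
import Groth.Agent.Lib.helper11.UnivHomeo
import Mathlib.RingTheory.TensorProduct.Maps
import Mathlib.AlgebraicGeometry.Pullbacks
import Mathlib.Algebra.Algebra.Subalgebra.Directed

set_option autoImplicit false
universe u
open CategoryTheory AlgebraicGeometry
open Mor

namespace Groth.Agent.S7427

open Groth.Agent.Lib.helper11.UnivHomeo TensorProduct

section
variable {A B : Type u} [CommRing A] [CommRing B] [Algebra A B]

theorem isUnivHomeo_of_isIso {X Y : Scheme.{u}} (f : X ⟶ Y) [IsIso f] : FlatMor.IsUnivHomeo f := by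
  rw [isUnivHomeo_iff]
  exact ⟨inferInstance, inferInstance, inferInstance⟩

theorem isUnivHomeo_comp {X Y Z : Scheme.{u}} (f : X ⟶ Y) (g : Y ⟶ Z)
    (hf : FlatMor.IsUnivHomeo f) (hg : FlatMor.IsUnivHomeo g) : FlatMor.IsUnivHomeo (f ≫ g) := by
  rw [isUnivHomeo_iff] at hf hg ⊢
  obtain ⟨h1, h2, h3⟩ := hf
  obtain ⟨k1, k2, k3⟩ := hg
  exact ⟨inferInstance, MorphismProperty.comp_mem _ f g h2 k2, inferInstance⟩

theorem hfg (S : Subalgebra A B) : Spec.map (CommRingCat.ofHom (S.val : S →+* B)) ≫
    Spec.map (CommRingCat.ofHom (algebraMap A S)) =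
      Spec.map (CommRingCat.ofHom (algebraMap A B)) := by
  rw [← Spec.map_comp, ← CommRingCat.ofHom_comp]
  rfl

/-- criterion for a subalgebra of a dominant algebra to be a universal homeomorphism. -/
theorem isUnivHomeo_sub (S : Subalgebra A B)
    [IsDominant (Spec.map (CommRingCat.ofHom (algebraMap A B)))]
    (hint : ∀ s : S, IsIntegral A s)
    (hepi : ∀ (K : Type u) [Field K] (φ ψ : S →+* K),
      φ.comp (algebraMap A S) = ψ.comp (algebraMap A S) → φ = ψ) :
    FlatMor.IsUnivHomeo (Spec.map (CommRingCat.ofHom (algebraMap A S))) := by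
  rw [isUnivHomeo_iff]
  have h1 : UniversallyClosed (Spec.map (CommRingCat.ofHom (algebraMap A S))) :=
    univClosed_SpecMap_of_isIntegral _ hint
  refine ⟨h1, (univInj_SpecMap_iff _).mpr hepi, ?_⟩
  haveI : IsDominant (Spec.map (CommRingCat.ofHom (S.val : S →+* B)) ≫
      Spec.map (CommRingCat.ofHom (algebraMap A S))) := by
    rw [hfg]
    infer_instance
  haveI : IsDominant (Spec.map (CommRingCat.ofHom (algebraMap A S))) :=
    IsDominant.of_comp (Spec.map (CommRingCat.ofHom (S.val : S →+* B))) _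
  exact surjective_of_isDominant_of_isClosed_range _
    (Spec.map (CommRingCat.ofHom (algebraMap A S))).isClosedMap.isClosed_range

theorem mem_sSup_dir {T : Set (Subalgebra A B)} (hne : T.Nonempty)
    (hd : DirectedOn (· ≤ ·) T) (b : B) : b ∈ sSup T ↔ ∃ S ∈ T, b ∈ S := by
  haveI : Nonempty T := hne.to_subtype
  rw [sSup_eq_iSup', ← SetLike.mem_coe, Subalgebra.coe_iSup_of_directed hd.directed_val]
  simp

/-- the family of images of universal-homeomorphism test algebras. -/
def 𝒮 (A B : Type u) [CommRing A] [CommRing B] [Algebra A B] : Set (Subalgebra A B) :=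
  {S | ∃ (C : Type u) (_ : CommRing C) (_ : Algebra A C) (g : C →ₐ[A] B),
    FlatMor.IsUnivHomeo (Spec.map (CommRingCat.ofHom (algebraMap A C))) ∧ S = g.range}

theorem bot_mem : (⊥ : Subalgebra A B) ∈ 𝒮 A B := by
  refine ⟨A, inferInstance, inferInstance, Algebra.ofId A B, ?_, ?_⟩
  · have : IsIso (Spec.map (CommRingCat.ofHom (algebraMap A A))) := by
      rw [Algebra.algebraMap_self]
      change IsIso (Spec.map (𝟙 (CommRingCat.of A)))
      infer_instance
    exact isUnivHomeo_of_isIso _
  · exact Algebra.range_ofId.symm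

theorem tensor_univHomeo (C₁ C₂ : Type u) [CommRing C₁] [CommRing C₂] [Algebra A C₁]
    [Algebra A C₂] (h₁ : FlatMor.IsUnivHomeo (Spec.map (CommRingCat.ofHom (algebraMap A C₁))))
    (h₂ : FlatMor.IsUnivHomeo (Spec.map (CommRingCat.ofHom (algebraMap A C₂)))) :
    FlatMor.IsUnivHomeo (Spec.map (CommRingCat.ofHom (algebraMap A (C₁ ⊗[A] C₂)))) := by
  have hpb := isPullback_SpecMap_of_isPushout _ _ _ _ (CommRingCat.isPushout_tensorProduct A C₁ C₂)
  have h3 : FlatMor.IsUnivHomeo (Spec.map (CommRingCat.ofHom (S := C₁ ⊗[A] C₂)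
      Algebra.TensorProduct.includeLeftRingHom)) :=
    (MorphismProperty.universally_isStableUnderBaseChange _).of_isPullback hpb.flip h₂
  have : Spec.map (CommRingCat.ofHom (algebraMap A (C₁ ⊗[A] C₂))) =
      Spec.map (CommRingCat.ofHom (S := C₁ ⊗[A] C₂) Algebra.TensorProduct.includeLeftRingHom) ≫
        Spec.map (CommRingCat.ofHom (algebraMap A C₁)) := by
    rw [← Spec.map_comp, ← CommRingCat.ofHom_comp]
  rw [this]
  exact isUnivHomeo_comp _ _ h3 h₁

theorem directed : DirectedOn (· ≤ ·) (𝒮 A B) := by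
  rintro S₁ ⟨C₁, _, _, g₁, h₁, rfl⟩ S₂ ⟨C₂, _, _, g₂, h₂, rfl⟩
  refine ⟨(Algebra.TensorProduct.productMap g₁ g₂).range,
    ⟨C₁ ⊗[A] C₂, inferInstance, inferInstance, Algebra.TensorProduct.productMap g₁ g₂,
      tensor_univHomeo C₁ C₂ h₁ h₂, rfl⟩, ?_, ?_⟩
  · rw [Algebra.TensorProduct.productMap_range]
    exact le_sup_left
  · rw [Algebra.TensorProduct.productMap_range]
    exact le_sup_right

theorem mem_univHomeo [IsDominant (Spec.map (CommRingCat.ofHom (algebraMap A B)))]
    (S : Subalgebra A B) (hS : S ∈ 𝒮 A B) :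
    (∀ s : S, IsIntegral A s) ∧ ∀ (K : Type u) [Field K] (φ ψ : S →+* K),
      φ.comp (algebraMap A S) = ψ.comp (algebraMap A S) → φ = ψ := by
  obtain ⟨C, _, _, g, h, rfl⟩ := hS
  rw [isUnivHomeo_iff] at h
  obtain ⟨h1, h2, -⟩ := h
  have hintC : (algebraMap A C).IsIntegral := isIntegral_of_univClosed_SpecMap _
  have hepiC := (univInj_SpecMap_iff _).mp h2
  constructor
  · rintro ⟨_, c, rfl⟩
    have : IsIntegral A (g c) := (show IsIntegral A c from hintC c).map g
    exact (isIntegral_algHom_iff g.range.val Subtype.val_injective).mp this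
  · intro K _ φ ψ hφψ
    have := hepiC K (φ.comp g.rangeRestrict.toRingHom) (ψ.comp g.rangeRestrict.toRingHom) (by
      ext a
      have := congrArg (fun f : A →+* K => f a) hφψ
      simp only [RingHom.comp_apply] at this ⊢
      have e : g.rangeRestrict.toRingHom (algebraMap A C a) = algebraMap A g.range a :=
        g.rangeRestrict.commutes a
      rw [e]
      exact this)
    ext ⟨_, c, rfl⟩
    exact congrArg (fun f : C →+* K => f c) this
end

/-- Let `A → B` be a ring map with `Spec B → Spec A` dominant. Then some `A`-subalgebra `B' ⊆ B` has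
`Spec B' → Spec A` a universal homeomorphism and contains the image of `C → B` whenever `C` is an
`A`-algebra with an `A`-algebra map `C → B` whose structure map gives a universal homeomorphism
`Spec C → Spec A`. (The test algebras `C` range over the universe of `A` and `B`.) -/
theorem result {A B : Type u} [CommRing A] [CommRing B] [Algebra A B]
    [IsDominant (Spec.map (CommRingCat.ofHom (algebraMap A B)))] :
    ∃ B' : Subalgebra A B, FlatMor.IsUnivHomeo (Spec.map (CommRingCat.ofHom (algebraMap A B'))) ∧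
      ∀ (C : Type u) [CommRing C] [Algebra A C] (g : C →ₐ[A] B),
        FlatMor.IsUnivHomeo (Spec.map (CommRingCat.ofHom (algebraMap A C))) → g.range ≤ B' := by
  refine ⟨sSup (𝒮 A B), ?_, ?_⟩
  · have hne : (𝒮 A B).Nonempty := ⟨⊥, bot_mem⟩
    refine isUnivHomeo_sub _ ?_ ?_
    · rintro ⟨b, hb⟩
      obtain ⟨S, hS, hbS⟩ := (mem_sSup_dir hne directed b).mp hb
      have := (mem_univHomeo S hS).1 ⟨b, hbS⟩
      have h2 : IsIntegral A b := (isIntegral_algHom_iff S.val Subtype.val_injective).mpr this
      exact (isIntegral_algHom_iff (sSup (𝒮 A B)).val Subtype.val_injective).mp h2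
    · intro K _ φ ψ hφψ
      ext ⟨b, hb⟩
      obtain ⟨S, hS, hbS⟩ := (mem_sSup_dir hne directed b).mp hb
      have hle : S ≤ sSup (𝒮 A B) := le_sSup hS
      have := (mem_univHomeo S hS).2 K (φ.comp (Subalgebra.inclusion hle).toRingHom)
        (ψ.comp (Subalgebra.inclusion hle).toRingHom) (by
          ext a
          have := congrArg (fun f : A →+* K => f a) hφψ
          simp only [RingHom.comp_apply] at this ⊢
          have e : (Subalgebra.inclusion hle).toRingHom (algebraMap A S a) =
              algebraMap A ↥(sSup (𝒮 A B)) a :=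
            (Subalgebra.inclusion hle).commutes a
          rw [e]
          exact this)
      exact congrArg (fun f : S →+* K => f ⟨b, hbS⟩) this
  · intro C _ _ g hg
    exact le_sSup ⟨C, inferInstance, inferInstance, g, hg, rfl⟩

end Groth.Agent.S7427
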