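import Groth.Statements.S7422
import Groth.Agent.Lib.helper11.GeomLift
import Groth.Agent.S7427
import Groth.Prelude.Def_HTop2

set_option autoImplicit false
universe u
open CategoryTheory AlgebraicGeometry
open HTop

namespace Groth.Agent.S7422


open Groth.Agent.Lib.helper11.UHRing Groth.Agent.Lib.helper11.GeomLift

/-- the big product of algebraic closures of residue fields. -/
noncomputable abbrev PP (A : Type u) [CommRing A] : Type u :=
  ∀ p : PrimeSpectrum A, AlgebraicClosure p.asIdeal.ResidueField

noncomputable def toPPc (A : Type u) [CommRing A] (p : PrimeSpectrum A) :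
    A →+* AlgebraicClosure p.asIdeal.ResidueField :=
  (algebraMap p.asIdeal.ResidueField (AlgebraicClosure p.asIdeal.ResidueField)).comp
    (algebraMap A p.asIdeal.ResidueField)

noncomputable def toPP (A : Type u) [CommRing A] : A →+* PP A :=
  Pi.ringHom (toPPc A)

theorem toPP_ker_nil {A : Type u} [CommRing A] (a : A) (h : toPP A a = 0) : IsNilpotent a := by
  rw [← mem_nilradical, nilradical_eq_sInf, Ideal.mem_sInf]
  intro p hp
  haveI : p.IsPrime := hp
  have h1 : toPPc A ⟨p, hp⟩ a = 0 := congrFun h ⟨p, hp⟩
  have h2 : algebraMap A p.ResidueField a = 0 := by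
    apply (algebraMap p.ResidueField (AlgebraicClosure p.ResidueField)).injective
    rw [map_zero]
    exact h1
  exact Ideal.algebraMap_residueField_eq_zero.mp h2

theorem isDominant_of_ker_nil {A B : Type u} [CommRing A] [CommRing B] (α : A →+* B)
    (h : ∀ a, α a = 0 → IsNilpotent a) : IsDominant (Spec.map (CommRingCat.ofHom α)) := by
  constructor
  have : DenseRange (PrimeSpectrum.comap α) := by
    rw [PrimeSpectrum.denseRange_comap_iff_ker_le_nilRadical]
    intro a ha
    exact h a ha
  exact this

/-- Every ring `A` has an absolute weak normalization: a ring map `A → A^awn` which induces a universal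
homeomorphism on spectra and is final among ring maps out of `A` with this property. -/
theorem result (A : Type u) [CommRing A] :
    ∃ (B : Type u) (_ : CommRing B) (φ : A →+* B), HTop.IsRingAWN φ := by

  letI : Algebra A (PP A) := (toPP A).toAlgebra
  haveI : IsDominant (Spec.map (CommRingCat.ofHom (algebraMap A (PP A)))) :=
    isDominant_of_ker_nil _ (fun a ha => toPP_ker_nil a ha)
  obtain ⟨B', hB', hmax⟩ := Groth.Agent.S7427.result (A := A) (B := PP A)
  refine ⟨B', inferInstance, algebraMap A B', hB', ?_⟩
  intro C _ ψ hψ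
  have hψ' := (uh_iff ψ).mp hψ
  -- existence
  have hlift : ∀ p : PrimeSpectrum A, ∃ σ : C →+* AlgebraicClosure p.asIdeal.ResidueField,
      σ.comp ψ = toPPc A p := fun p =>
    exists_lift_algClosed ψ hψ'.1 hψ'.2.2 (toPPc A p)
  choose σ hσ using hlift
  letI : Algebra A C := ψ.toAlgebra
  let g : C →ₐ[A] PP A :=
    { Pi.ringHom σ with
      commutes' := fun a => by
        funext p
        exact congrArg (fun f : A →+* _ => f a) (hσ p) }
  have hle : g.range ≤ B' := hmax C g hψ
  let χ : C →ₐ[A] B' := (Subalgebra.inclusion hle).comp g.rangeRestrict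
  refine ⟨χ.toRingHom, χ.comp_algebraMap, ?_⟩
  intro χ' hχ'
  ext c p
  have h1 : ((Pi.evalRingHom _ p).comp ((B'.val : B' →+* PP A).comp χ')).comp ψ =
      ((Pi.evalRingHom _ p).comp ((B'.val : B' →+* PP A).comp χ.toRingHom)).comp ψ := by
    rw [RingHom.comp_assoc, RingHom.comp_assoc, RingHom.comp_assoc, RingHom.comp_assoc, hχ',
      show χ.toRingHom.comp ψ = algebraMap A B' from χ.comp_algebraMap]
  have h2 := hψ'.2.1 _ _ _ h1
  exact congrArg (fun f : C →+* _ => f c) h2

end Groth.Agent.S7422
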