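import Groth.Statements.S7398
import Groth.Agent.Lib.helper11.SqCube2

set_option autoImplicit false
universe u
open CategoryTheory AlgebraicGeometry
open Mor

namespace Groth.Agent.S7398


open Groth.Agent.Lib.helper11.UnivHomeo Groth.Agent.Lib.helper11.TrivRes
open Groth.Agent.Lib.helper11.SqCube

/-- reduction to a simple (hence finite) subextension. -/
theorem reduce {A B : Type u} [CommRing A] [CommRing B] [Algebra A B]
    (h : Hyp (algebraMap A B)) (b₀ : B) (hb₀ : b₀ ∉ (algebraMap A B).range) :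
    Hyp (algebraMap A (Algebra.adjoin A {b₀})) ∧ (algebraMap A (Algebra.adjoin A {b₀})).Finite ∧
      ¬ Function.Surjective (algebraMap A (Algebra.adjoin A {b₀})) := by
  refine ⟨h.sub _, ?_, ?_⟩
  · rw [RingHom.finite_algebraMap]
    have : IsIntegral A b₀ := h.int b₀
    exact Module.Finite.of_fg this.fg_adjoin_singleton
  · intro hs
    obtain ⟨a, ha⟩ := hs ⟨b₀, Algebra.subset_adjoin (Set.mem_singleton b₀)⟩
    exact hb₀ ⟨a, congrArg Subtype.val ha⟩

theorem transfer {A B : Type u} [CommRing A] [CommRing B] [Algebra A B] (S : Subalgebra A B)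
    (h : ∃ b : S, b ∉ (algebraMap A S).range ∧ b ^ 2 ∈ (algebraMap A S).range ∧
      b ^ 3 ∈ (algebraMap A S).range) :
    ∃ b : B, b ∉ (algebraMap A B).range ∧ b ^ 2 ∈ (algebraMap A B).range ∧
      b ^ 3 ∈ (algebraMap A B).range := by
  obtain ⟨b, hb, ⟨a₂, h2⟩, ⟨a₃, h3⟩⟩ := h
  refine ⟨b.1, ?_, ⟨a₂, ?_⟩, ⟨a₃, ?_⟩⟩
  · rintro ⟨a, ha⟩
    exact hb ⟨a, Subtype.ext ha⟩
  · exact congrArg Subtype.val h2
  · exact congrArg Subtype.val h3

/-- Let `A ⊆ B` be a ring extension with `A ≠ B` such that `Spec B → Spec A` is a universal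
homeomorphism whose residue field extensions are all trivial. Then some `b ∈ B` with `b ∉ A` has
`b^2 ∈ A` and `b^3 ∈ A`. (Here `A → B` is an injective, non-surjective ring map and membership in
`A` means membership in its image.) -/
theorem result {A B : Type u} [CommRing A] [CommRing B]
    (φ : A →+* B) (hinj : Function.Injective φ) (hns : ¬ Function.Surjective φ)
    (hU : FlatMor.IsUnivHomeo (Spec.map (CommRingCat.ofHom φ)))
    (hres : ∀ x : Spec (CommRingCat.of B), Function.Surjective ((Spec.map (CommRingCat.ofHom φ)).residueFieldMap x)) :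
    ∃ b : B, b ∉ φ.range ∧ b ^ 2 ∈ φ.range ∧ b ^ 3 ∈ φ.range := by

  have hyp : Hyp φ := hyp_of_univHomeo φ hinj hU
  have htr : TrivRes φ := (trivRes_iff φ).mpr hres
  obtain ⟨b₀, hb₀⟩ : ∃ b₀, b₀ ∉ φ.range := by
    by_contra hcon
    push Not at hcon
    exact hns fun b => hcon b
  letI := φ.toAlgebra
  have hyp' : Hyp (algebraMap A B) := hyp
  obtain ⟨hypS, hfin, hnsS⟩ := reduce hyp' b₀ hb₀
  have htrS := trivRes_sub hyp' htr (Algebra.adjoin A {b₀})
  rcases core (algebraMap A (Algebra.adjoin A {b₀})) hypS.inj hnsS hfin hypS.spec_inj with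
    h | ⟨Q, hQ, -, b, hb⟩
  · exact transfer _ h
  · exact (hb (htrS Q b)).elim

end Groth.Agent.S7398
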