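import Groth.Statements.S7399
import Groth.Agent.Lib.helper11.SqCube3
import Groth.Agent.S7398

set_option autoImplicit false
universe u
open CategoryTheory AlgebraicGeometry
open Mor

namespace Groth.Agent.S7399


open Groth.Agent.Lib.helper11.UnivHomeo Groth.Agent.Lib.helper11.TrivRes
open Groth.Agent.Lib.helper11.SqCube
open Groth.Agent.S7398 (reduce transfer)

theorem transfer' {A B : Type u} [CommRing A] [CommRing B] [Algebra A B] (S : Subalgebra A B)
    (h : ∃ (p : ℕ) (b : S), p.Prime ∧ b ∉ (algebraMap A S).range ∧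
      (p : S) * b ∈ (algebraMap A S).range ∧ b ^ p ∈ (algebraMap A S).range) :
    ∃ (p : ℕ) (b : B), p.Prime ∧ b ∉ (algebraMap A B).range ∧
      (p : B) * b ∈ (algebraMap A B).range ∧ b ^ p ∈ (algebraMap A B).range := by
  obtain ⟨p, b, hp, hb, ⟨a₂, h2⟩, ⟨a₃, h3⟩⟩ := h
  refine ⟨p, b.1, hp, ?_, ⟨a₂, ?_⟩, ⟨a₃, ?_⟩⟩
  · rintro ⟨a, ha⟩
    exact hb ⟨a, Subtype.ext ha⟩
  · have := congrArg Subtype.val h2
    simpa using this
  · exact congrArg Subtype.val h3

/-- Let `A ⊆ B` be a proper ring extension inducing a universal homeomorphism `Spec B → Spec A`. Then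
either there is `b ∈ B`, `b ∉ A`, with `b^2, b^3 ∈ A`, or there are a prime number `p` and `b ∈ B`,
`b ∉ A`, with `p b, b^p ∈ A`. (Here `A → B` is an injective, non-surjective ring map and membership
in `A` means membership in its image.) -/
theorem result {A B : Type u} [CommRing A] [CommRing B]
    (φ : A →+* B) (hinj : Function.Injective φ) (hns : ¬ Function.Surjective φ)
    (hU : FlatMor.IsUnivHomeo (Spec.map (CommRingCat.ofHom φ))) :
    (∃ b : B, b ∉ φ.range ∧ b ^ 2 ∈ φ.range ∧ b ^ 3 ∈ φ.range) ∨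
      ∃ (p : ℕ) (b : B), p.Prime ∧ b ∉ φ.range ∧ (p : B) * b ∈ φ.range ∧ b ^ p ∈ φ.range := by

  have hyp : Hyp φ := hyp_of_univHomeo φ hinj hU
  obtain ⟨b₀, hb₀⟩ : ∃ b₀, b₀ ∉ φ.range := by
    by_contra hcon
    push Not at hcon
    exact hns fun b => hcon b
  letI := φ.toAlgebra
  have hyp' : Hyp (algebraMap A B) := hyp
  obtain ⟨hypS, hfin, hnsS⟩ := reduce hyp' b₀ hb₀
  rcases core (algebraMap A (Algebra.adjoin A {b₀})) hypS.inj hnsS hfin hypS.spec_inj with
    h | ⟨Q, hQ, hQ2, b, hb⟩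
  · exact Or.inl (transfer _ h)
  · haveI := hQ
    exact Or.inr (transfer' _ (prime_case hypS Q hQ2 b hb))

end Groth.Agent.S7399
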