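import Groth.Statements.S7402
import Groth.Agent.Lib.helper11.UnivHomeo

set_option autoImplicit false
universe u
open CategoryTheory AlgebraicGeometry
open Polynomial
open Mor

namespace Groth.Agent.S7402

open Groth.Agent.Lib.helper11.UnivHomeo

section
variable {A : Type u} [CommRing A] (x y : A)

/-- in a field, `x³ = y²` has a "square-cube root". -/
theorem exists_root {K : Type u} [Field K] (a b : K) (h : a ^ 3 = b ^ 2) :
    ∃ τ : K, τ ^ 2 = a ∧ τ ^ 3 = b := by
  by_cases ha : a = 0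
  · subst ha
    have hb : b = 0 := by
      have : b ^ 2 = 0 := by rw [← h]; ring
      exact pow_eq_zero_iff (two_ne_zero) |>.mp this
    exact ⟨0, by simp, by simp [hb]⟩
  · refine ⟨b / a, ?_, ?_⟩
    · rw [div_pow, div_eq_iff (pow_ne_zero 2 ha), ← pow_succ', ← h]
    · rw [div_pow, div_eq_iff (pow_ne_zero 3 ha), h]
      ring

theorem eq_of_sq_cube {K : Type u} [Field K] (s t : K) (h2 : s ^ 2 = t ^ 2) (h3 : s ^ 3 = t ^ 3) :
    s = t := by
  have : (s - t) ^ 3 = 0 := by
    have e1 : s ^ 2 * t = t ^ 3 := by rw [h2]; ring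
    have e2 : s * t ^ 2 = s ^ 3 := by rw [← h2]; ring
    calc (s - t) ^ 3 = s ^ 3 - 3 * (s ^ 2 * t) + 3 * (s * t ^ 2) - t ^ 3 := by ring
      _ = 0 := by rw [e1, e2, h3]; ring
  exact sub_eq_zero.mp (pow_eq_zero_iff (by norm_num) |>.mp this)

noncomputable abbrev II : Ideal A[X] := Ideal.span ({X ^ 2 - C x, X ^ 3 - C y} : Set A[X])

theorem t_sq : (Ideal.Quotient.mk (II x y) X) ^ 2 = algebraMap A (A[X] ⧸ II x y) x := by
  have : Ideal.Quotient.mk (II x y) (X ^ 2 - C x) = 0 :=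
    Ideal.Quotient.eq_zero_iff_mem.mpr (Ideal.subset_span (by simp))
  rw [map_sub, sub_eq_zero, map_pow] at this
  exact this

theorem t_cube : (Ideal.Quotient.mk (II x y) X) ^ 3 = algebraMap A (A[X] ⧸ II x y) y := by
  have : Ideal.Quotient.mk (II x y) (X ^ 3 - C y) = 0 :=
    Ideal.Quotient.eq_zero_iff_mem.mpr (Ideal.subset_span (by simp))
  rw [map_sub, sub_eq_zero, map_pow] at this
  exact this

theorem hepi (K : Type u) [Field K] (φ ψ : A[X] ⧸ II x y →+* K)
    (h : φ.comp (algebraMap A _) = ψ.comp (algebraMap A _)) : φ = ψ := by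
  refine hom_ext_quot _ φ ψ h (eq_of_sq_cube _ _ ?_ ?_)
  · calc φ (Ideal.Quotient.mk (II x y) X) ^ 2 = φ ((Ideal.Quotient.mk (II x y) X) ^ 2) :=
          (map_pow φ _ 2).symm
      _ = φ (algebraMap A _ x) := by rw [t_sq]
      _ = ψ (algebraMap A _ x) := congrArg (fun f : A →+* K => f x) h
      _ = ψ ((Ideal.Quotient.mk (II x y) X) ^ 2) := by rw [t_sq]
      _ = ψ (Ideal.Quotient.mk (II x y) X) ^ 2 := map_pow ψ _ 2
  · calc φ (Ideal.Quotient.mk (II x y) X) ^ 3 = φ ((Ideal.Quotient.mk (II x y) X) ^ 3) :=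
          (map_pow φ _ 3).symm
      _ = φ (algebraMap A _ y) := by rw [t_cube]
      _ = ψ (algebraMap A _ y) := congrArg (fun f : A →+* K => f y) h
      _ = ψ ((Ideal.Quotient.mk (II x y) X) ^ 3) := by rw [t_cube]
      _ = ψ (Ideal.Quotient.mk (II x y) X) ^ 3 := map_pow ψ _ 3

theorem exists_section (hxy : x ^ 3 = y ^ 2) {K : Type u} [Field K] (ι : A →+* K) :
    ∃ φ : A[X] ⧸ II x y →+* K, φ.comp (algebraMap A _) = ι := by
  obtain ⟨τ, h2, h3⟩ := exists_root (ι x) (ι y) (by rw [← map_pow, ← map_pow, hxy])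
  obtain ⟨φ, hφ, -⟩ := exists_lift_quot (II x y) ι τ _ rfl (by
    intro p hp
    rcases hp with rfl | rfl
    · simp [h2]
    · simp [h3])
  exact ⟨φ, hφ⟩
end

/-- Let `A` be a ring and `x, y ∈ A` with `x^3 = y^2`. Then `A → B = A[t]/(t^2 - x, t^3 - y)` induces a
universal homeomorphism on spectra and isomorphisms on residue fields. -/
theorem result (A : Type u) [CommRing A] (x y : A) (h : x ^ 3 = y ^ 2) :
    FlatMor.IsUnivHomeo (Spec.map (CommRingCat.ofHom (algebraMap A
      (A[X] ⧸ Ideal.span ({X ^ 2 - C x, X ^ 3 - C y} : Set A[X]))))) ∧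
    ∀ q : Spec (CommRingCat.of (A[X] ⧸ Ideal.span ({X ^ 2 - C x, X ^ 3 - C y} : Set A[X]))),
      Function.Surjective ((Spec.map (CommRingCat.ofHom (algebraMap A
        (A[X] ⧸ Ideal.span ({X ^ 2 - C x, X ^ 3 - C y} : Set A[X]))))).residueFieldMap q) := by
  have hI : Ideal.span ({X ^ 2 - C x, X ^ 3 - C y} : Set A[X]) = II x y := rfl
  refine ⟨?_, fun q => ?_⟩
  · rw [isUnivHomeo_iff]
    refine ⟨?_, ?_, ?_⟩
    · refine univClosed_SpecMap_of_isIntegral _
        (isIntegral_quot (II x y) (X ^ 2 - C x) (monic_X_pow_sub_C x (by norm_num))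
          (Ideal.subset_span (by simp)))
    · exact (univInj_SpecMap_iff _).mpr (hepi x y)
    · refine surjective_SpecMap_of_field_points _ fun p => ?_
      obtain ⟨φ, hφ⟩ := exists_section x y h (algebraMap A p.asIdeal.ResidueField)
      refine ⟨p.asIdeal.ResidueField, inferInstance, φ, ?_⟩
      rw [hφ, Ideal.ker_algebraMap_residueField]
  · obtain ⟨σ, hσ⟩ := exists_section x y h (algebraMap A
      (Spec.map (CommRingCat.ofHom (algebraMap A (A[X] ⧸ II x y))) q).asIdeal.ResidueField)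
    exact residueFieldMap_surjective_of_section _ (hepi x y) q σ hσ

end Groth.Agent.S7402
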