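import Groth.Statements.S7403
import Groth.Agent.Lib.helper11.UnivHomeo
import Mathlib.FieldTheory.IsAlgClosed.AlgebraicClosure
import Mathlib.Algebra.CharP.Lemmas

set_option autoImplicit false
universe u
open CategoryTheory AlgebraicGeometry
open Polynomial
open Mor

namespace Groth.Agent.S7403

open Groth.Agent.Lib.helper11.UnivHomeo

section
variable {A : Type u} [CommRing A] (p : ℕ) (x y : A)

theorem eq_of_pow_prime {R : Type u} [CommRing R] [IsReduced R] (hp : p.Prime) (s t : R)
    (h1 : s ^ p = t ^ p) (h2 : (p : R) * s = p * t) : s = t := by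
  obtain ⟨r, hr⟩ := exists_add_pow_prime_eq hp t (s - t)
  have hd : (p : R) * (s - t) = 0 := by rw [mul_sub, h2, sub_self]
  have h3 : (p : R) * t * (s - t) * r = 0 := by
    have : (p : R) * t * (s - t) * r = ((p : R) * (s - t)) * (t * r) := by ring
    rw [this, hd, zero_mul]
  have h4 : t + (s - t) = s := by ring
  rw [h4, h3, add_zero, h1] at hr
  have h5 : (s - t) ^ p = 0 := by
    have := hr
    exact (add_eq_left.mp this.symm)
  exact sub_eq_zero.mp (IsReduced.eq_zero _ ⟨p, h5⟩)

/-- in an algebraically closed field, `p^p a = b^p` has a solution of `τ^p = a`, `p τ = b`. -/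
theorem exists_root {K : Type u} [Field K] [IsAlgClosed K] (hp : p.Prime) (a b : K)
    (h : (p : K) ^ p * a = b ^ p) : ∃ τ : K, τ ^ p = a ∧ (p : K) * τ = b := by
  by_cases hpK : (p : K) = 0
  · have hb : b = 0 := by
      have : b ^ p = 0 := by rw [← h, hpK, zero_pow hp.ne_zero, zero_mul]
      exact pow_eq_zero_iff hp.ne_zero |>.mp this
    obtain ⟨τ, hτ⟩ := IsAlgClosed.exists_pow_nat_eq a hp.pos
    exact ⟨τ, hτ, by rw [hpK, zero_mul, hb]⟩
  · refine ⟨b / p, ?_, ?_⟩
    · rw [div_pow, div_eq_iff (pow_ne_zero p hpK), ← h, mul_comm]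
    · field_simp

noncomputable abbrev II : Ideal A[X] := Ideal.span ({X ^ p - C x, C (p : A) * X - C y} : Set A[X])

theorem t_pow : (Ideal.Quotient.mk (II p x y) X) ^ p = algebraMap A (A[X] ⧸ II p x y) x := by
  have : Ideal.Quotient.mk (II p x y) (X ^ p - C x) = 0 :=
    Ideal.Quotient.eq_zero_iff_mem.mpr (Ideal.subset_span (by simp))
  rw [map_sub, sub_eq_zero, map_pow] at this
  exact this

theorem t_mul : (p : A[X] ⧸ II p x y) * (Ideal.Quotient.mk (II p x y) X) =
    algebraMap A (A[X] ⧸ II p x y) y := by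
  have : Ideal.Quotient.mk (II p x y) (C (p : A) * X - C y) = 0 :=
    Ideal.Quotient.eq_zero_iff_mem.mpr (Ideal.subset_span (by simp))
  rw [map_sub, sub_eq_zero, map_mul] at this
  have e : (p : A[X] ⧸ II p x y) = Ideal.Quotient.mk (II p x y) (C (p : A)) := by simp
  rw [e]
  exact this

theorem hepi (hp : p.Prime) (K : Type u) [Field K] (φ ψ : A[X] ⧸ II p x y →+* K)
    (h : φ.comp (algebraMap A _) = ψ.comp (algebraMap A _)) : φ = ψ := by
  refine hom_ext_quot _ φ ψ h (eq_of_pow_prime p hp _ _ ?_ ?_)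
  · calc φ (Ideal.Quotient.mk (II p x y) X) ^ p = φ ((Ideal.Quotient.mk (II p x y) X) ^ p) :=
          (map_pow φ _ p).symm
      _ = φ (algebraMap A _ x) := by rw [t_pow]
      _ = ψ (algebraMap A _ x) := congrArg (fun f : A →+* K => f x) h
      _ = ψ ((Ideal.Quotient.mk (II p x y) X) ^ p) := by rw [t_pow]
      _ = ψ (Ideal.Quotient.mk (II p x y) X) ^ p := map_pow ψ _ p
  · calc (p : K) * φ (Ideal.Quotient.mk (II p x y) X)
        = φ ((p : A[X] ⧸ II p x y) * Ideal.Quotient.mk (II p x y) X) := by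
          rw [map_mul, map_natCast]
      _ = φ (algebraMap A _ y) := by rw [t_mul]
      _ = ψ (algebraMap A _ y) := congrArg (fun f : A →+* K => f y) h
      _ = ψ ((p : A[X] ⧸ II p x y) * Ideal.Quotient.mk (II p x y) X) := by rw [t_mul]
      _ = (p : K) * ψ (Ideal.Quotient.mk (II p x y) X) := by rw [map_mul, map_natCast]

theorem exists_section (hp : p.Prime) (hxy : (p : A) ^ p * x = y ^ p) {K : Type u} [Field K]
    [IsAlgClosed K] (ι : A →+* K) :
    ∃ φ : A[X] ⧸ II p x y →+* K, φ.comp (algebraMap A _) = ι := by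
  obtain ⟨τ, h2, h3⟩ := exists_root p hp (ι x) (ι y) (by
    rw [← map_pow, ← hxy, map_mul, map_pow, map_natCast])
  obtain ⟨φ, hφ, -⟩ := exists_lift_quot (II p x y) ι τ _ rfl (by
    intro q hq
    rcases hq with rfl | rfl
    · simp [h2]
    · simp [h3])
  exact ⟨φ, hφ⟩
end

/-- Let `A` be a ring, `p` a prime number and `x, y ∈ A` with `p^p x = y^p`. Then `A → B = A[t]/(t^p -
x, p t - y)` induces a universal homeomorphism on spectra. -/
theorem result (A : Type u) [CommRing A] (p : ℕ) (hp : p.Prime) (x y : A)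
    (h : (p : A) ^ p * x = y ^ p) :
    FlatMor.IsUnivHomeo (Spec.map (CommRingCat.ofHom (algebraMap A
      (A[X] ⧸ Ideal.span ({X ^ p - C x, C (p : A) * X - C y} : Set A[X]))))) := by
  rw [isUnivHomeo_iff]
  refine ⟨?_, ?_, ?_⟩
  · refine univClosed_SpecMap_of_isIntegral _
      (isIntegral_quot (II p x y) (X ^ p - C x) (monic_X_pow_sub_C x hp.ne_zero)
        (Ideal.subset_span (by simp)))
  · exact (univInj_SpecMap_iff _).mpr (hepi p x y hp)
  · refine surjective_SpecMap_of_field_points _ fun 𝔭 => ?_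
    obtain ⟨φ, hφ⟩ := exists_section p x y hp h
      ((algebraMap 𝔭.asIdeal.ResidueField (AlgebraicClosure 𝔭.asIdeal.ResidueField)).comp
        (algebraMap A 𝔭.asIdeal.ResidueField))
    refine ⟨AlgebraicClosure 𝔭.asIdeal.ResidueField, inferInstance, φ, ?_⟩
    rw [hφ]
    ext a
    rw [RingHom.mem_ker, RingHom.comp_apply,
      map_eq_zero_iff _ (algebraMap 𝔭.asIdeal.ResidueField
        (AlgebraicClosure 𝔭.asIdeal.ResidueField)).injective,
      Ideal.algebraMap_residueField_eq_zero]

end Groth.Agent.S7403
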