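import Groth.Statements.S7420
import Groth.Agent.Lib.helper11.AWNLoc

set_option autoImplicit false
universe u
open CategoryTheory AlgebraicGeometry
open HTop

namespace Groth.Agent.S7420


open Groth.Agent.Lib.helper11.AWNLoc

theorem affine_local {X : Scheme.{u}} (Q : ∀ (A : Type u) [CommRing A], Prop)
    (hloc : ∀ (A S : Type u) [CommRing A] [CommRing S] [Algebra A S] (f : A)
      [IsLocalization.Away f S], Q A → Q S)
    (hglue : ∀ (A : Type u) [CommRing A] (s : Set A), Ideal.span s = ⊤ →
      (∀ f : s, ∃ (S : Type u) (_ : CommRing S) (_ : Algebra A S),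
        IsLocalization.Away f.1 S ∧ Q S) → Q A) :
    (∀ x : X, ∃ U : X.affineOpens, x ∈ (U : X.Opens) ∧ Q Γ(X, U)) ↔
      ∀ U : X.affineOpens, Q Γ(X, U) := by
  constructor
  · intro h V
    choose U hxU hU using h
    refine of_affine_open_cover (P := fun U => Q Γ(X, U)) U ?_ V ?_ ?_ hU
    · rw [eq_top_iff]
      intro x _
      exact TopologicalSpace.Opens.mem_iSup.mpr ⟨x, hxU x⟩
    · intro W f hW
      have := W.2.isLocalization_basicOpen f
      exact hloc Γ(X, W) Γ(X, X.basicOpen f) f hW
    · intro W s hs h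
      refine hglue _ (s : Set Γ(X, W)) hs (fun f => ?_)
      exact ⟨Γ(X, X.basicOpen f.1), inferInstance, inferInstance,
        W.2.isLocalization_basicOpen f.1, h f⟩
  · intro h x
    obtain ⟨_, ⟨U, hU, rfl⟩, hxU, -⟩ :=
      X.isBasis_affineOpens.exists_subset_of_mem_open (Set.mem_univ x) isOpen_univ
    exact ⟨⟨U, hU⟩, hxU, h ⟨U, hU⟩⟩

/-- A scheme `X` is seminormal if and only if `O_X(U)` is seminormal for every affine open `U ⊆ X`; the
same holds with 'seminormal' replaced by 'absolutely weakly normal'. -/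
theorem result (X : Scheme.{u}) :
    (HTop.IsSeminormal X ↔ ∀ U : X.affineOpens, HTop.IsSeminormalRing Γ(X, U)) ∧
    (HTop.IsAWN X ↔ ∀ U : X.affineOpens, HTop.IsAWNRing Γ(X, U)) := by

  constructor
  · exact affine_local (fun A _ => HTop.IsSeminormalRing A)
      (fun A S _ _ _ f _ h => seminormal_away f h)
      (fun A _ s hs h => seminormal_of_local' s hs h)
  · exact affine_local (fun A _ => HTop.IsAWNRing A)
      (fun A S _ _ _ f _ h => awn_away f h)
      (fun A _ s hs h => awn_of_local' s hs h)

end Groth.Agent.S7420
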