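import Groth.Statements.S7443
import Groth.Agent.Lib.helper11.FPColim
import Groth.Agent.S7399

set_option autoImplicit false
universe u
open CategoryTheory AlgebraicGeometry
open Mor

namespace Groth.Agent.S7443


open Groth.Agent.Lib.helper11.UnivHomeo Groth.Agent.Lib.helper11.UHRing
open Groth.Agent.Lib.helper11.FPColim

theorem uh_val {A B : Type u} [CommRing A] [CommRing B] [Algebra A B]
    (hB : UH (algebraMap A B)) (R : Subalgebra A B) : UH (R.val : R →+* B) := by
  have hB' := (uh_iff _).mp hB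
  have hcomp : (R.val : R →+* B).comp (algebraMap A R) = algebraMap A B := rfl
  rw [uh_iff]
  refine ⟨?_, ?_, ?_⟩
  · exact RingHom.IsIntegral.tower_top (algebraMap A R) _ (by rw [hcomp]; exact hB'.1)
  · intro Kf _ σ τ h
    apply hB'.2.1
    rw [← hcomp, ← RingHom.comp_assoc, ← RingHom.comp_assoc, h]
  · intro a ha
    have : a = 0 := Subtype.val_injective (by rw [ZeroMemClass.coe_zero]; exact ha)
    rw [this]
    exact IsNilpotent.zero

theorem surj_triv {A B : Type u} [CommRing A] [CommRing B] [Algebra A B]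
    (hB : UH (algebraMap A B)) : ∀ b : B, b ∈ reach A B (Cls.triv A) := by
  by_contra hcon
  push Not at hcon
  obtain ⟨b₀, hb₀⟩ := hcon
  have hns : ¬ Function.Surjective ((reach A B (Cls.triv A)).val : reach A B (Cls.triv A) →+* B) := by
    intro hs
    obtain ⟨r, hr⟩ := hs b₀
    apply hb₀
    rw [← hr]
    exact r.2
  rcases Groth.Agent.S7399.result ((reach A B (Cls.triv A)).val : reach A B (Cls.triv A) →+* B)
    Subtype.val_injective hns (uh_val hB _) with
    ⟨b, hb, ⟨r₂, h2⟩, ⟨r₃, h3⟩⟩ | ⟨p, b, hp, hb, ⟨r₁, h1⟩, ⟨r₂, h2⟩⟩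
  · apply hb
    have hbR : b ∈ reach A B (Cls.triv A) :=
      step23 hB (fun _ _ _ _ _ => trivial) (by rw [← h2]; exact r₂.2) (by rw [← h3]; exact r₃.2)
    exact ⟨⟨b, hbR⟩, rfl⟩
  · apply hb
    have hbR : b ∈ reach A B (Cls.triv A) :=
      stepP hB (fun _ => trivial) hp (by rw [← h1]; exact r₁.2) (by rw [← h2]; exact r₂.2)
    exact ⟨⟨b, hbR⟩, rfl⟩

/-- Let `φ : A → B` be a ring map with `Spec B → Spec A` a universal homeomorphism. Then `B`, as an
`A`-algebra, is the colimit of a filtered diagram of finitely presented `A`-algebras `B_i`, and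
every `Spec B_i → Spec A` is again a universal homeomorphism. (The colimit is taken in the category
of rings under `A`, over a small filtered index category.) -/
theorem result {A B : Type u} [CommRing A] [CommRing B] (φ : A →+* B)
    (hφ : FlatMor.IsUnivHomeo (Spec.map (CommRingCat.ofHom φ))) :
    ∃ (J : Type u) (_ : SmallCategory J) (_ : IsFiltered J) (F : J ⥤ Under (CommRingCat.of A))
      (c : Limits.Cocone F) (_ : Limits.IsColimit c),
      (∀ j, (F.obj j).hom.hom.FinitePresentation ∧ FlatMor.IsUnivHomeo (Spec.map (F.obj j).hom)) ∧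
      Nonempty (c.pt ≅ Under.mk (CommRingCat.ofHom φ)) := by

  letI := φ.toAlgebra
  have hB : UH (algebraMap A B) := hφ
  refine ⟨Obj A B (Cls.triv A), inferInstance, inferInstance, F A B _, cc A B _,
    isColimitCc A B _ hB (surj_triv hB), ?_, ⟨Iso.refl _⟩⟩
  intro j
  exact ⟨fp_obj A B _ j, j.uh⟩

end Groth.Agent.S7443
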