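import Groth.Statements.S9200
import Groth.Agent.Lib.helper11.LimFinite

set_option autoImplicit false
universe u
open CategoryTheory AlgebraicGeometry
open Lim

namespace Groth.Agent.S9200

open Groth.Agent.Lib.helper11


/-- Let S be a scheme and X = lim X_i a cofiltered limit of S-schemes X_i (a diagram with a compatible
family of structure maps to S) with affine transition morphisms, every X_i quasi-compact and
quasi-separated; the structure map X → S is the composite X → X_{i₀} → S for any index i₀. Assume S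
is quasi-compact and quasi-separated. If X → S is affine, then X_i → S is affine for all i beyond
some index i₁. -/
theorem result {I : Type u} [SmallCategory I] [IsCofiltered I] (S : Scheme.{u}) [CompactSpace S] [QuasiSeparatedSpace S]
    (D : I ⥤ Scheme.{u}) (t : D ⟶ (Functor.const I).obj S) (c : Limits.Cone D) (hc : Limits.IsLimit c)
    [∀ (i j : I) (a : i ⟶ j), IsAffineHom (D.map a)]
    [∀ i, CompactSpace (D.obj i)] [∀ i, QuasiSeparatedSpace (D.obj i)] (i₀ : I)
    [IsAffineHom (c.π.app i₀ ≫ t.app i₀)] :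
    ∃ i₁ : I, ∀ (i : I) (_ : i ⟶ i₁), IsAffineHom (t.app i) := by
  classical
  let τ : ∀ i, D.obj i ⟶ S := fun i => t.app i
  have hτ : ∀ {j k : I} (φ : j ⟶ k), D.map φ ≫ τ k = τ j := by
    intro j k φ
    have h1 := t.naturality φ
    simp only [Functor.const_obj_obj, Functor.const_obj_map] at h1
    exact h1.trans (Category.comp_id _)
  have h5 : IsAffineHom (c.π.app i₀ ≫ τ i₀) := ‹IsAffineHom (c.π.app i₀ ≫ t.app i₀)›
  suffices H : ∃ i₁ : I, ∀ (i : I) (_ : i ⟶ i₁), IsAffineHom (τ i) from H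
  have hnh : ∀ x : S, ∃ U : S.Opens, IsAffineOpen U ∧ x ∈ U := by
    intro x
    obtain ⟨_, ⟨U, hU : IsAffineOpen U, rfl⟩, hxU, -⟩ :=
      S.isBasis_affineOpens.exists_subset_of_mem_open (Set.mem_univ x) isOpen_univ
    exact ⟨U, hU, hxU⟩
  choose U hU hxU using hnh
  have step : ∀ x, ∃ i₁ : I, IsAffineOpen (τ i₁ ⁻¹ᵁ U x) := fun x =>
    let ⟨i₁, _, h⟩ := LimFinite.exists_isAffineOpen_preimage D τ hτ c hc i₀ (U x) (hU x)
    ⟨i₁, h⟩
  choose ix hix using step
  obtain ⟨t', ht'⟩ := CompactSpace.elim_nhds_subcover (fun x => (U x : Set S))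
    (fun x => (U x).isOpen.mem_nhds (hxU x))
  obtain ⟨i₁, hi₁⟩ := IsCofiltered.inf_objs_exists (t'.image ix)
  refine ⟨i₁, fun i φ => ?_⟩
  apply isAffineHom_of_forall_exists_isAffineOpen
  intro y
  have hy : y ∈ ⋃ x ∈ t', (U x : Set S) := by rw [ht']; trivial
  simp only [Set.mem_iUnion] at hy
  obtain ⟨x, hx, hyx⟩ := hy
  refine ⟨U x, hyx, hU x, ?_⟩
  let ψ : i ⟶ ix x := φ ≫ (hi₁ (Finset.mem_image_of_mem _ hx)).some
  rw [← LimClosedImm2.preimage_eq D τ hτ (U x) ψ]
  exact (hix x).preimage (D.map ψ)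

end Groth.Agent.S9200
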