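import Groth.Statements.S5086
import Groth.Agent.Lib.helper11.MeroPseudo

set_option autoImplicit false
universe u
open CategoryTheory CategoryTheory.Limits AlgebraicGeometry TopologicalSpace
open Mero

namespace Groth.Agent.S5086

/-- Let X be a scheme which is either locally Noetherian, or reduced with locally finite set of
irreducible components (every point has an open neighbourhood meeting only finitely many irreducible
components). Let U be an open subset, V an open subset of U schematically dense in U (restriction of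
functions from every open W ⊆ U to W ∩ V is injective) and g a function on V. Then there is a
section of the sheaf of meromorphic functions K_X over U whose restriction to V is g/1; with part
(i), meromorphic functions over U are exactly the pseudo-functions on U. -/
theorem result (X : Scheme.{u})
    (hX : IsLocallyNoetherian X ∨ (IsReduced X ∧ ∀ x : ↥X, ∃ W : X.Opens, x ∈ W ∧
      {Z : Set ↥X | Z ∈ irreducibleComponents ↥X ∧ (Z ∩ (W : Set ↥X)).Nonempty}.Finite))
    (U V : X.Opens) (hVU : V ≤ U)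
    (hV : ∀ W : X.Opens, W ≤ U →
      Function.Injective ⇑(X.presheaf.map (homOfLE (inf_le_left : W ⊓ V ≤ W)).op))
    (g : Γ(X, V)) :
    ∃ s : Γ(Mero.kmod X, U), (Mero.kmod X).presheaf.map (homOfLE hVU).op s = Mero.toK X V g := by
  classical
  have hloc : ∀ x : U, ∃ (W : X.Opens) (_ : x.1 ∈ W) (_ : W ≤ U) (m : Γ(X, W))
      (b : Mero.regSub X W), ∀ (y : X) (hyW : y ∈ W) (hyV : y ∈ V),
        X.presheaf.germ W y hyW m = X.presheaf.germ V y hyV g * X.presheaf.germ W y hyW b.1 := by
    intro x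
    obtain ⟨W0, hxW0, hW0⟩ : ∃ W0 : X.Opens, x.1 ∈ W0 ∧ (IsLocallyNoetherian X ∨ (IsReduced X ∧
        {Z : Set ↥X | Z ∈ irreducibleComponents ↥X ∧ (Z ∩ (W0 : Set ↥X)).Nonempty}.Finite)) := by
      rcases hX with h | ⟨h1, h2⟩
      · exact ⟨⊤, trivial, Or.inl h⟩
      · obtain ⟨W0, hx, hfin⟩ := h2 x.1
        exact ⟨W0, hx, Or.inr ⟨h1, hfin⟩⟩
    obtain ⟨W, hW, hxW, hWle⟩ := Opens.isBasis_iff_nbhd.mp X.isBasis_affineOpens
      (show x.1 ∈ U ⊓ W0 from ⟨x.2, hxW0⟩)
    have hWU : W ≤ U := hWle.trans inf_le_left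
    have hA : IsNoetherianRing Γ(X, W) ∨
        (_root_.IsReduced Γ(X, W) ∧ (minimalPrimes Γ(X, W)).Finite) := by
      rcases hW0 with h | ⟨h1, h2⟩
      · left
        haveI := h
        exact IsLocallyNoetherian.component_noetherian ⟨W, hW⟩
      · right
        haveI := h1
        refine ⟨inferInstance,
          Groth.Agent.Lib.helper11.MeroPseudo.finite_minimalPrimes_of_finite_irreducibleComponents hW
            (h2.subset ?_)⟩
        rintro Z ⟨hZ, hne⟩
        exact ⟨hZ, hne.mono (Set.inter_subset_inter_right _ (hWle.trans inf_le_right))⟩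
    obtain ⟨m, b, hmb⟩ :=
      Groth.Agent.Lib.helper11.MeroPseudo.exists_local_fraction hW hA (hV W hWU) g
    exact ⟨W, hxW, hWU, m, b, hmb⟩
  choose W hxW hWU m b hmb using hloc
  have hcons : ∀ (x x' : U) (y : X) (hy : y ∈ W x) (hy' : y ∈ W x'),
      X.presheaf.germ (W x) y hy (m x) * X.presheaf.germ (W x') y hy' (b x').1 =
      X.presheaf.germ (W x') y hy' (m x') * X.presheaf.germ (W x) y hy (b x).1 := by
    intro x x' y hy hy'
    have hW2U : W x ⊓ W x' ≤ U := inf_le_left.trans (hWU x)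
    have hinj := hV (W x ⊓ W x') hW2U
    have heq : X.presheaf.map (homOfLE (inf_le_left : W x ⊓ W x' ≤ W x)).op (m x) *
        X.presheaf.map (homOfLE (inf_le_right : W x ⊓ W x' ≤ W x')).op (b x').1 =
        X.presheaf.map (homOfLE (inf_le_right : W x ⊓ W x' ≤ W x')).op (m x') *
        X.presheaf.map (homOfLE (inf_le_left : W x ⊓ W x' ≤ W x)).op (b x).1 := by
      apply hinj
      refine TopCat.Presheaf.section_ext X.sheaf _ _ _ (fun z hz => ?_)
      change X.presheaf.germ _ z hz _ = X.presheaf.germ _ z hz _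
      rw [TopCat.Presheaf.germ_res_apply, TopCat.Presheaf.germ_res_apply, map_mul, map_mul,
        TopCat.Presheaf.germ_res_apply, TopCat.Presheaf.germ_res_apply,
        TopCat.Presheaf.germ_res_apply, TopCat.Presheaf.germ_res_apply,
        hmb x z hz.1.1 hz.2, hmb x' z hz.1.2 hz.2]
      ring
    have h1 := congrArg (X.presheaf.germ (W x ⊓ W x') y ⟨hy, hy'⟩) heq
    rw [map_mul, map_mul, TopCat.Presheaf.germ_res_apply, TopCat.Presheaf.germ_res_apply,
        TopCat.Presheaf.germ_res_apply, TopCat.Presheaf.germ_res_apply] at h1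
    exact h1
  let sfun : ∀ y : U, Mero.KStalk X y.1 := fun y =>
    LocalizedModule.mk (X.presheaf.germ (W y) y.1 (hxW y) (m y))
      (Mero.regGerm (⟨y.1, hxW y⟩ : W y) (b y))
  have hs : (Mero.kLoc X).pred sfun := by
    intro x
    refine ⟨W x, hxW x, homOfLE (hWU x), m x, b x, fun y => ?_⟩
    change sfun ⟨y.1, hWU x y.2⟩ = _
    rw [Groth.Agent.Lib.helper11.MeroBasic.mk_eq_mk_iff (Mero.regStalk_le_nonZeroDivisors y.1)]
    exact hcons ⟨y.1, hWU x y.2⟩ x y.1 (hxW _) y.2
  refine ⟨⟨sfun, hs⟩, ?_⟩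
  refine Subtype.ext (funext fun y => ?_)
  change sfun ⟨y.1, hVU y.2⟩ = LocalizedModule.mk (X.presheaf.germ V y.1 y.2 g) 1
  rw [Groth.Agent.Lib.helper11.MeroBasic.mk_eq_mk_iff (Mero.regStalk_le_nonZeroDivisors y.1)]
  change X.presheaf.germ _ y.1 _ (m _) * 1 = X.presheaf.germ V y.1 y.2 g * X.presheaf.germ _ y.1 _ (b _).1
  rw [mul_one]
  exact hmb ⟨y.1, hVU y.2⟩ y.1 (hxW _) y.2

end Groth.Agent.S5086
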