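import Groth.Statements.S2173
import Mathlib

set_option autoImplicit false
open Finset
open Models Models.NumericalType

namespace Groth.Agent.S2173

/-- For a numerical type the sum over i of m i * a i i is even; equivalently the rational number 1 + sum
m_i (w_i (g_i - 1) - a_ii / 2) defining the genus is an integer. -/
theorem result {n : ℕ} (T : Models.NumericalType n) : (2 : ℤ) ∣ ∑ i, T.m i * T.a i i := by
  have h0 : ∑ i, ∑ j, T.m i * (T.a i j * T.m j) = 0 := by
    apply Finset.sum_eq_zero
    intro i _
    rw [← Finset.mul_sum]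
    have := congrFun T.mulVec_m i
    simp only [Matrix.mulVec, dotProduct, Pi.zero_apply] at this
    rw [this, mul_zero]
  -- split the double sum into diagonal and off-diagonal parts
  have hsplit : ∑ i, ∑ j, T.m i * (T.a i j * T.m j) =
      ∑ i, T.m i * (T.a i i * T.m i) +
        ∑ i, ∑ j ∈ univ.erase i, T.m i * (T.a i j * T.m j) := by
    rw [← Finset.sum_add_distrib]
    apply Finset.sum_congr rfl; intro i _
    exact (Finset.add_sum_erase univ (fun j => T.m i * (T.a i j * T.m j)) (mem_univ i)).symm
  -- the off-diagonal part is even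
  have hoff : (2 : ℤ) ∣ ∑ i, ∑ j ∈ univ.erase i, T.m i * (T.a i j * T.m j) := by
    have e1 : ∑ i, ∑ j ∈ univ.erase i, T.m i * (T.a i j * T.m j) =
        ∑ p ∈ (univ : Finset (Fin n × Fin n)).filter (fun p => p.1 ≠ p.2),
          T.m p.1 * (T.a p.1 p.2 * T.m p.2) := by
      rw [Finset.sum_filter, ← Finset.univ_product_univ, Finset.sum_product]
      apply Finset.sum_congr rfl; intro i _
      rw [← Finset.sum_filter]
      apply Finset.sum_congr _ (fun _ _ => rfl)
      ext j; simp [eq_comm]
    rw [e1]
    have e2 : (univ : Finset (Fin n × Fin n)).filter (fun p => p.1 ≠ p.2) =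
        (univ.filter (fun p : Fin n × Fin n => p.1 < p.2)) ∪
          (univ.filter (fun p : Fin n × Fin n => p.2 < p.1)) := by
      ext p; simp [lt_or_lt_iff_ne]
    have hdisj : Disjoint (univ.filter (fun p : Fin n × Fin n => p.1 < p.2))
        (univ.filter (fun p : Fin n × Fin n => p.2 < p.1)) := by
      rw [Finset.disjoint_filter]; intro p _ h1 h2; exact lt_asymm h1 h2
    rw [e2, Finset.sum_union hdisj]
    have e3 : ∑ p ∈ univ.filter (fun p : Fin n × Fin n => p.2 < p.1),
          T.m p.1 * (T.a p.1 p.2 * T.m p.2) =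
        ∑ p ∈ univ.filter (fun p : Fin n × Fin n => p.1 < p.2),
          T.m p.1 * (T.a p.1 p.2 * T.m p.2) := by
      refine Finset.sum_bij' (fun p _ => p.swap) (fun p _ => p.swap) ?_ ?_ ?_ ?_ ?_
      · intro p hp; simpa using hp
      · intro p hp; simpa using hp
      · intro p _; simp
      · intro p _; simp
      · intro p _
        simp only [Prod.fst_swap, Prod.snd_swap]
        rw [T.symm.apply p.1 p.2]; ring
    rw [e3, ← two_mul]
    exact dvd_mul_right _ _
  have hdiag : (2 : ℤ) ∣ ∑ i, T.m i * (T.a i i * T.m i) := by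
    have := (Int.dvd_add_left hoff).1 (by rw [← hsplit, h0]; exact dvd_zero _)
    exact this
  have hdiff : (2 : ℤ) ∣ ∑ i, T.m i * (T.a i i * T.m i) - ∑ i, T.m i * T.a i i := by
    rw [← Finset.sum_sub_distrib]
    apply Finset.dvd_sum
    intro i _
    have : T.m i * (T.a i i * T.m i) - T.m i * T.a i i = T.a i i * (T.m i * (T.m i - 1)) := by ring
    rw [this]
    exact Dvd.dvd.mul_left (Int.even_mul_pred_self (T.m i)).two_dvd _
  have := Int.dvd_sub hdiag hdiff
  simpa using this

end Groth.Agent.S2173
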