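import Groth.Statements.S2174
import Mathlib

set_option autoImplicit false
open Finset
open Models Models.NumericalType

namespace Groth.Agent.S2174

/-- If a numerical type has n > 1 indices then every diagonal entry a i i of its matrix is negative. -/
theorem result {n : ℕ} (T : Models.NumericalType n) (hn : 1 < n) (i : Fin n) : T.a i i < 0 := by
  obtain ⟨i', hi', j, hj, hij⟩ := T.connected {i} ⟨i, by simp⟩ (by
    intro h
    have : ({i} : Finset (Fin n)).card = (univ : Finset (Fin n)).card := by rw [h]
    simp at this; omega)
  simp only [Finset.mem_singleton] at hi' hj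
  subst hi'
  have hpos : 0 < T.a i' j := lt_of_le_of_ne (T.offDiag_nonneg i' j (Ne.symm hj)) (Ne.symm hij)
  have h0 := congrFun T.mulVec_m i'
  simp only [Matrix.mulVec, dotProduct, Pi.zero_apply] at h0
  rw [← Finset.add_sum_erase univ _ (mem_univ i')] at h0
  have hsum : 0 < ∑ k ∈ univ.erase i', T.a i' k * T.m k := by
    apply Finset.sum_pos'
    · intro k hk
      exact mul_nonneg (T.offDiag_nonneg i' k (Finset.ne_of_mem_erase hk).symm) (T.m_pos k).le
    · exact ⟨j, Finset.mem_erase.2 ⟨hj, mem_univ j⟩, mul_pos hpos (T.m_pos j)⟩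
  have : T.a i' i' * T.m i' < 0 := by linarith
  by_contra hge
  push Not at hge
  have := mul_nonneg hge (T.m_pos i').le
  linarith

end Groth.Agent.S2174
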