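import Groth.Statements.S2171
import Mathlib

set_option autoImplicit false
open Finset
open Models

namespace Groth.Agent.S2171

/-- Let A be a symmetric real n by n matrix with non-negative off-diagonal entries, m a vector with
positive entries such that A m = 0, and assume no proper non-empty index set I has A i j = 0 for all
i in I and j outside I. Then x^t A x is at most 0 for every real vector x, with equality exactly
when x is a real multiple of m. -/
theorem result {n : ℕ} (A : Matrix (Fin n) (Fin n) ℝ)
    (m : Fin n → ℝ) (hsymm : A.IsSymm) (hA : ∀ i j, i ≠ j → 0 ≤ A i j) (hm : ∀ i, 0 < m i)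
    (hAm : A.mulVec m = 0)
    (hconn : ∀ I : Finset (Fin n), I.Nonempty → I ≠ univ → ∃ i ∈ I, ∃ j ∉ I, A i j ≠ 0)
    (x : Fin n → ℝ) :
    dotProduct x (A.mulVec x) ≤ 0 ∧ (dotProduct x (A.mulVec x) = 0 ↔ ∃ q : ℝ, x = q • m) := by
  have hA' : ∀ i j, A i j = A j i := fun i j => hsymm.apply j i
  have hs0 : ∀ i, ∑ j, A i j * m j = 0 := fun i => by
    have := congrFun hAm i
    simpa [Matrix.mulVec, dotProduct] using this
  obtain ⟨y, hy⟩ : ∃ y : Fin n → ℝ, ∀ i, x i = m i * y i :=
    ⟨fun i => x i / m i, fun i => by have := (hm i).ne'; field_simp⟩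
  have h1 : dotProduct x (A.mulVec x) = ∑ i, ∑ j, A i j * m i * m j * (y i * y j) := by
    simp only [dotProduct]
    apply Finset.sum_congr rfl; intro i _
    simp only [Matrix.mulVec, dotProduct, Finset.mul_sum]
    apply Finset.sum_congr rfl; intro j _
    rw [hy i, hy j]; ring
  have h2 : (0 : ℝ) = ∑ i, ∑ j, A i j * m i * m j * (y i) ^ 2 := by
    have : ∑ i, m i * (∑ j, A i j * m j) * (y i) ^ 2 =
        ∑ i, ∑ j, A i j * m i * m j * (y i) ^ 2 := by
      apply Finset.sum_congr rfl; intro i _
      simp only [Finset.mul_sum, Finset.sum_mul]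
      apply Finset.sum_congr rfl; intro j _
      ring
    rw [← this]
    symm
    apply Finset.sum_eq_zero
    intro i _
    rw [hs0 i]; ring
  have h3 : ∑ i, ∑ j, A i j * m i * m j * (y j) ^ 2 =
      ∑ i, ∑ j, A i j * m i * m j * (y i) ^ 2 := by
    rw [Finset.sum_comm]
    apply Finset.sum_congr rfl; intro i _
    apply Finset.sum_congr rfl; intro j _
    rw [hA' j i]; ring
  have h4 : ∑ i, ∑ j, A i j * m i * m j * (y i - y j) ^ 2 =
      ∑ i, ∑ j, A i j * m i * m j * (y i) ^ 2
        - 2 * ∑ i, ∑ j, A i j * m i * m j * (y i * y j)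
        + ∑ i, ∑ j, A i j * m i * m j * (y j) ^ 2 := by
    simp only [Finset.mul_sum, ← Finset.sum_sub_distrib, ← Finset.sum_add_distrib]
    apply Finset.sum_congr rfl; intro i _
    apply Finset.sum_congr rfl; intro j _
    ring
  have hQterm : ∀ i ∈ (univ : Finset (Fin n)), ∀ j ∈ (univ : Finset (Fin n)),
      0 ≤ A i j * m i * m j * (y i - y j) ^ 2 := by
    intro i _ j _
    by_cases hij : i = j
    · subst hij; simp
    · exact mul_nonneg (mul_nonneg (mul_nonneg (hA i j hij) (hm i).le) (hm j).le) (sq_nonneg _)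
  have hQ : 0 ≤ ∑ i, ∑ j, A i j * m i * m j * (y i - y j) ^ 2 :=
    Finset.sum_nonneg fun i hi => Finset.sum_nonneg (hQterm i hi)
  have hkey : dotProduct x (A.mulVec x) =
      -(1/2) * ∑ i, ∑ j, A i j * m i * m j * (y i - y j) ^ 2 := by
    rw [h4, h3, ← h2, h1]; ring
  refine ⟨by rw [hkey]; nlinarith, ?_⟩
  constructor
  · intro h0
    have hQ0 : ∑ i, ∑ j, A i j * m i * m j * (y i - y j) ^ 2 = 0 := by
      rw [hkey] at h0; linarith
    have hQij : ∀ i j, A i j ≠ 0 → y i = y j := by
      intro i j hne
      have hi := (Finset.sum_eq_zero_iff_of_nonneg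
        (fun i hi => Finset.sum_nonneg (hQterm i hi))).1 hQ0 i (mem_univ i)
      have := (Finset.sum_eq_zero_iff_of_nonneg (hQterm i (mem_univ i))).1 hi j (mem_univ j)
      rcases mul_eq_zero.1 this with h | h
      · rcases mul_eq_zero.1 h with h | h
        · rcases mul_eq_zero.1 h with h | h
          · exact absurd h hne
          · exact absurd h (hm i).ne'
        · exact absurd h (hm j).ne'
      · have : y i - y j = 0 := by simpa using h
        linarith
    rcases isEmpty_or_nonempty (Fin n) with hE | ⟨⟨i0⟩⟩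
    · exact ⟨0, funext fun i => isEmptyElim i⟩
    · refine ⟨y i0, funext fun i => ?_⟩
      have hI : univ.filter (fun i => y i = y i0) = univ := by
        by_contra hne
        obtain ⟨i, hi, j, hj, hij⟩ := hconn (univ.filter (fun i => y i = y i0))
          ⟨i0, by simp⟩ hne
        simp only [Finset.mem_filter, mem_univ, true_and] at hi hj
        exact hj ((hQij i j hij).symm.trans hi)
      have : i ∈ univ.filter (fun i => y i = y i0) := by rw [hI]; exact mem_univ i
      simp only [Finset.mem_filter, mem_univ, true_and] at this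
      rw [hy i, this]; simp [mul_comm]
  · rintro ⟨q, rfl⟩
    rw [Matrix.mulVec_smul, hAm]; simp

end Groth.Agent.S2171
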