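import Groth.Statements.S15941
-- import your own Groth.Agent.* helpers here

set_option autoImplicit false
universe u
open HTop

namespace Groth.Agent.S15941

/-- An integrally closed integral domain is a seminormal ring, that is, whenever x^3 = y^2 there is
exactly one element a with x = a^2 and y = a^3. (The published statement is for a normal Noetherian
scheme and reduces at once to this affine integral case; the Noetherian hypothesis plays no role.) -/
theorem result (A : Type u) [CommRing A] [IsDomain A]
    [IsIntegrallyClosed A] : HTop.IsSeminormalRing A := by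
  intro x y hxy
  by_cases hx : x = 0
  · subst hx
    have hy : y = 0 := by
      have : y ^ 2 = 0 := by rw [← hxy]; simp
      exact pow_eq_zero_iff (two_ne_zero) |>.mp this
    subst hy
    refine ⟨0, by simp, ?_⟩
    rintro a ⟨ha, -⟩
    exact (pow_eq_zero_iff (two_ne_zero)).mp ha.symm
  · -- a = y / x in the fraction field
    have hxK : algebraMap A (FractionRing A) x ≠ 0 := by
      simpa using (IsFractionRing.injective A (FractionRing A)).ne hx
    have hint : IsIntegral A (algebraMap A (FractionRing A) y / algebraMap A (FractionRing A) x) := by
      refine ⟨Polynomial.X ^ 2 - Polynomial.C x, Polynomial.monic_X_pow_sub_C x two_ne_zero, ?_⟩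
      simp only [Polynomial.eval₂_sub, Polynomial.eval₂_pow, Polynomial.eval₂_X, Polynomial.eval₂_C]
      rw [div_pow, ← map_pow, ← hxy, map_pow]
      rw [div_eq_iff (pow_ne_zero 2 hxK) |>.mpr (by ring)]
      simp
    obtain ⟨a, ha⟩ := IsIntegrallyClosed.isIntegral_iff.mp hint
    have hax : a * x = y := by
      apply IsFractionRing.injective A (FractionRing A)
      rw [map_mul, ha, div_mul_cancel₀ _ hxK]
    have ha2 : a ^ 2 = x := by
      have h1 : (a ^ 2 * x) * x = x * x * x := by
        calc (a ^ 2 * x) * x = (a * x) ^ 2 := by ring
          _ = y ^ 2 := by rw [hax]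
          _ = x ^ 3 := hxy.symm
          _ = x * x * x := by ring
      have h2 := mul_right_cancel₀ hx h1
      exact mul_right_cancel₀ hx h2
    refine ⟨a, ⟨ha2.symm, ?_⟩, ?_⟩
    · rw [← hax, ← ha2]; ring
    · rintro b ⟨hb2, hb3⟩
      have : b * x = a * x := by
        rw [hax, hb3, hb2]; ring
      exact mul_right_cancel₀ hx this

end Groth.Agent.S15941
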