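import Groth.Statements.S7473
import Groth.Agent.Lib.helper11.ValLift

set_option autoImplicit false
universe u
open HTop

namespace Groth.Agent.S7473

section
open CategoryTheory CategoryTheory.Limits AlgebraicGeometry
theorem mem_fpqc {T : Scheme.{u}} {R : Presieve T} :
    R ∈ Scheme.fpqcPrecoverage T ↔
      R ∈ Scheme.qcPrecoverage T ∧ R ∈ Scheme.precoverage @Flat T := Iff.rfl
end

open CategoryTheory CategoryTheory.Limits AlgebraicGeometry in
/-- An fpqc covering of a scheme T is a V covering. (Here an fpqc covering is a family in Mathlib's fpqc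
precoverage: flat, jointly surjective, and every affine open of T is the union of the images of
finitely many quasi-compact opens of the members. The further clauses for fppf, syntomic, smooth,
étale and Zariski coverings follow because those coverings are fpqc coverings; the clause for ph
coverings is the standard ph statement applied over each affine open.) -/
theorem result {T : Scheme.{u}} : ∀ 𝒰 : Scheme.Cover Scheme.fpqcPrecoverage T, HTop.IsVCover 𝒰.toPreZeroHypercover := by
  intro 𝒰 U
  have h𝒰 := mem_fpqc.mp 𝒰.mem₀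
  haveI : QuasiCompactCover 𝒰.toPreZeroHypercover :=
    Scheme.presieve₀_mem_qcPrecoverage_iff.mp h𝒰.1
  have hfl : ∀ i, Flat (𝒰.f i) := ((Scheme.presieve₀_mem_precoverage_iff _).mp h𝒰.2).2
  obtain ⟨n, a, V, hV, hVU⟩ := QuasiCompactCover.exists_isAffineOpen_of_isCompact
    𝒰.toPreZeroHypercover U.2.isCompact
  have hle : ∀ i, V i ≤ (𝒰.f (a i)) ⁻¹ᵁ U.1 := by
    intro i x hx
    change 𝒰.f (a i) x ∈ (U.1 : Set T)
    rw [← hVU]
    exact Set.mem_iUnion.mpr ⟨i, x, hx, rfl⟩
  let F : PreZeroHypercover.{0} (U.1 : Scheme.{u}) :=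
    { I₀ := Fin n
      X := fun i => (V i).toScheme
      f := fun i => (𝒰.f (a i)).resLE U.1 (V i) (hle i) }
  refine ⟨F, ?_, ?_⟩
  · haveI : IsAffine (U.1 : Scheme.{u}) := U.2
    refine ⟨inferInstance, inferInstanceAs (Finite (Fin n)), fun i => hV i,
      Groth.Agent.Lib.helper11.ValLift.hasValLift_of_flat F (fun i => ?_) ?_⟩
    · haveI := hfl (a i)
      change Flat ((𝒰.f (a i)).resLE U.1 (V i) (hle i))
      infer_instance
    · intro t
      have ht : (t.1 : T) ∈ (U.1 : Set T) := t.2
      rw [← hVU] at ht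
      obtain ⟨i, x, hx, hxt⟩ := Set.mem_iUnion.mp ht
      refine ⟨i, ⟨x, hx⟩, ?_⟩
      apply Subtype.ext
      change (((𝒰.f (a i)).resLE U.1 (V i) (hle i)) ≫ U.1.ι) ⟨x, hx⟩ = _
      rw [Scheme.Hom.resLE_comp_ι, Scheme.Hom.comp_apply]
      exact hxt
  · intro i
    exact ⟨a i, (V i).ι, (Scheme.Hom.resLE_comp_ι _ _).symm⟩

end Groth.Agent.S7473
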