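import Groth.Statements.S18812
import Mathlib
import Groth.Prelude.Def_ComodSub
import Groth.Agent.Lib.helper28.ComodMod
import Groth.Agent.Lib.helper28.TotInt

set_option autoImplicit false
universe u v w
open TensorProduct
open HopfRep

namespace Groth.Agent.S18812

open Groth.Agent.Lib.helper28.TotInt

/-- Let k be a field and A a commutative Hopf algebra over k, the coordinate ring of an affine group
scheme G. Suppose the inclusion of constants k → A splits as a map of G-representations: there is a
k-linear map α : A → k which is a comodule map from the regular comodule A to the trivial comodule k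
and satisfies α(1) = 1. Then every A-comodule, of any dimension, is semisimple: every subcomodule
has a complementary subcomodule. (The source works with left comodules; this is the right-comodule
form. The converse implication is the easy one and is not part of this row.) -/
theorem result (k : Type u) [Field k] (A : Type v) [CommRing A] [HopfAlgebra k A]
    (α : A →ₗ[k] k) (hα : @Hoch.IsComodHom k _ A _ _ _ A _ _ _ k _ _ (HopfRep.Comod.trivial k A k) α)
    (h1 : α 1 = 1)
    (V : Type w) [AddCommGroup V] [Module k V] [HopfRep.Comod k A V] :
    HopfRep.IsSemisimpleComod k A V := by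
  classical
  letI ck : HopfRep.Comod k A k := HopfRep.Comod.trivial k A k
  haveI hHM : TameAct.IsHopfMod k A k V := isHopfMod_trivial k A V
  have hα' : Hoch.IsComodHom A α := hα
  intro W hW
  -- a linear projection onto W
  obtain ⟨g, hg⟩ := LinearMap.exists_leftInverse_of_injective W.subtype
    (LinearMap.ker_eq_bot.2 W.injective_subtype)
  set p : V →ₗ[k] V := W.subtype ∘ₗ g with hp
  have hpι : p ∘ₗ W.subtype = W.subtype := by
    rw [hp, LinearMap.comp_assoc, hg, LinearMap.comp_id]
  set q : V →ₗ[k] V := lam k A k V α ∘ₗ p.rTensor A ∘ₗ coactM k A V with hq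
  -- q is a comodule map
  have hq_comod : Hoch.IsComodHom A q := by
    show coactM k A V ∘ₗ q = q.rTensor A ∘ₗ coactM k A V
    rw [hq, ← LinearMap.comp_assoc, coact_lam k A k V α hα', LinearMap.comp_assoc,
      coactAux_rTensor_coact k A V V p, ← LinearMap.comp_assoc, ← LinearMap.rTensor_comp]
  -- q is the identity on W
  have hq_id : ∀ w ∈ W, q w = w := by
    intro w hw
    obtain ⟨z, hz⟩ := hW w hw
    have hpw : p.rTensor A (coactM k A V w) = coactM k A V w := by
      show p.rTensor A (HopfRep.Comod.coact (k := k) (A := A) w) = _
      rw [← hz, ← LinearMap.comp_apply, ← LinearMap.rTensor_comp, hpι]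
    rw [hq, LinearMap.comp_apply, LinearMap.comp_apply, hpw, lam_coact k A k V α h1]
  -- q maps into W
  have hq_mem : ∀ v, q v ∈ W := by
    intro v
    letI cW : HopfRep.Comod k A ↥W := ComodSub.Comod.restr (inferInstance : HopfRep.Comod k A V) W hW
    haveI : TameAct.IsHopfMod k A k ↥W := isHopfMod_trivial k A ↥W
    have hnat := lam_natural k A k (↥W) α V W.subtype
      (ComodSub.isComodHom_subtype (inferInstance : HopfRep.Comod k A V) W hW)
    have h2 : q v = W.subtype (lam k A k ↥W α (g.rTensor A (coactM k A V v))) := by
      have := LinearMap.congr_fun hnat (g.rTensor A (coactM k A V v))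
      simp only [LinearMap.comp_apply, LinearMap.coe_restrictScalars] at this
      rw [← this, hq, LinearMap.comp_apply, LinearMap.comp_apply, hp, LinearMap.rTensor_comp,
        LinearMap.comp_apply]
      rfl
    rw [h2]
    exact Submodule.coe_mem _
  refine ⟨LinearMap.ker q, Groth.Agent.Lib.helper28.ComodMod.isSubcomod_ker q hq_comod, ?_⟩
  have hproj : ∀ x : W, (q.codRestrict W hq_mem) x = x := by
    intro x
    apply Subtype.ext
    exact hq_id x x.2
  have := LinearMap.isCompl_of_proj hproj
  rwa [LinearMap.ker_codRestrict] at this

end Groth.Agent.S18812
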