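import Mathlib
import Groth.Statements.S18467
-- import your own Groth.Agent.* helpers here

set_option autoImplicit false
universe u
open Hopf

namespace Groth.Agent.S18467

/-- twisted sums vanish -/
lemma sum_eq_zero_of_twist {G : Type*} [Group G] [Fintype G] {R : Type*} [CommRing R]
    (a : R) (ha : IsUnit (a - 1)) (f : G → R) (h : G) (hf : ∀ m, f (h * m) = a * f m) :
    ∑ m, f m = 0 := by
  have h1 : a * ∑ m, f m = ∑ m, f m := by
    rw [Finset.mul_sum]
    simp only [← hf]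
    exact Fintype.sum_equiv (Equiv.mulLeft h) _ _ (fun _ => rfl)
  have h2 : (a - 1) * ∑ m, f m = 0 := by rw [sub_mul, one_mul, h1, sub_self]
  exact ha.mul_right_eq_zero.mp h2

/-- convolution formula in a group algebra -/
lemma conv {G : Type*} [Group G] [Fintype G] {R : Type*} [CommRing R] (c d : G → R) :
    (∑ m, c m • MonoidAlgebra.of R G m) * (∑ n, d n • MonoidAlgebra.of R G n)
      = ∑ t, (∑ m, c m * d (m⁻¹ * t)) • MonoidAlgebra.of R G t := by
  rw [Finset.sum_mul_sum]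
  simp only [smul_mul_smul_comm, ← map_mul]
  have : ∀ m : G, ∑ n, (c m * d n) • MonoidAlgebra.of R G (m * n)
      = ∑ t, (c m * d (m⁻¹ * t)) • MonoidAlgebra.of R G t := by
    intro m
    exact Fintype.sum_equiv (Equiv.mulLeft m) _ _ (fun n => by simp)
  simp only [this]
  rw [Finset.sum_comm]
  simp only [← Finset.sum_smul]

theorem result
    (p : ℕ) [Fact p.Prime] (R : Type u) [CommRing R] (u : R) (hu : u * ((p - 1 : ℕ) : R) = 1)
    (χ : (ZMod p)ˣ →* Rˣ) (hχ : ∀ m : (ZMod p)ˣ, m ≠ 1 → IsUnit ((χ m : R) - 1)) :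
    CompleteOrthogonalIdempotents (fun i : Fin (p - 1) =>
      u • ∑ m : (ZMod p)ˣ, ((χ m⁻¹ : Rˣ) : R) ^ (i : ℕ) • MonoidAlgebra.of R (ZMod p)ˣ m) := by
  classical
  have hcard : Fintype.card (ZMod p)ˣ = p - 1 := ZMod.card_units p
  rw [CompleteOrthogonalIdempotents.iff_ortho_complete]
  constructor
  · intro i j hij
    change (u • ∑ m : (ZMod p)ˣ, ((χ m⁻¹ : Rˣ) : R) ^ (i : ℕ) • MonoidAlgebra.of R (ZMod p)ˣ m) *
      (u • ∑ m : (ZMod p)ˣ, ((χ m⁻¹ : Rˣ) : R) ^ (j : ℕ) • MonoidAlgebra.of R (ZMod p)ˣ m) = 0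
    rw [smul_mul_smul_comm, conv]
    have key : ∀ t : (ZMod p)ˣ, ∑ m : (ZMod p)ˣ,
        ((χ m⁻¹ : Rˣ) : R) ^ (i : ℕ) * ((χ (m⁻¹ * t)⁻¹ : Rˣ) : R) ^ (j : ℕ) = 0 := by
      intro t
      obtain ⟨g, hg⟩ := IsCyclic.exists_generator (α := (ZMod p)ˣ)
      have hord : orderOf g = p - 1 := by
        rw [orderOf_eq_card_of_forall_mem_zpowers hg, Nat.card_eq_fintype_card, hcard]
      -- k = g^j * (g^i)⁻¹ ≠ 1
      have hk : g ^ (j : ℕ) * (g ^ (i : ℕ))⁻¹ ≠ 1 := by
        intro h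
        rw [mul_inv_eq_one] at h
        have := pow_injOn_Iio_orderOf (x := g) (by rw [Set.mem_Iio, hord]; exact j.2)
          (by rw [Set.mem_Iio, hord]; exact i.2) h
        exact hij (Fin.ext this.symm)
      apply sum_eq_zero_of_twist ((χ (g ^ (j : ℕ) * (g ^ (i : ℕ))⁻¹) : Rˣ) : R) (hχ _ hk) _ g
      intro m
      have e : (χ (g * m)⁻¹) ^ (i : ℕ) * (χ ((g * m)⁻¹ * t)⁻¹) ^ (j : ℕ)
          = χ (g ^ (j : ℕ) * (g ^ (i : ℕ))⁻¹) * ((χ m⁻¹) ^ (i : ℕ) * (χ (m⁻¹ * t)⁻¹) ^ (j : ℕ)) := by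
        simp only [map_mul, map_inv, map_pow, mul_inv_rev, inv_inv, mul_pow, inv_pow]
        rw [mul_comm]
        simp only [mul_comm, mul_left_comm, mul_assoc]
      have := congrArg (fun x : Rˣ => (x : R)) e
      simpa [Units.val_mul, Units.val_pow_eq_pow_val] using this
    simp only [key, zero_smul, Finset.sum_const_zero, smul_zero]
  · change ∑ i : Fin (p - 1),
      u • ∑ m : (ZMod p)ˣ, ((χ m⁻¹ : Rˣ) : R) ^ (i : ℕ) • MonoidAlgebra.of R (ZMod p)ˣ m = 1
    rw [← Finset.smul_sum, Finset.sum_comm]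
    simp only [← Finset.sum_smul]
    have key : ∀ m : (ZMod p)ˣ, ∑ i : Fin (p - 1), ((χ m⁻¹ : Rˣ) : R) ^ (i : ℕ)
        = if m = 1 then ((p - 1 : ℕ) : R) else 0 := by
      intro m
      rw [Fin.sum_univ_eq_sum_range (fun i => ((χ m⁻¹ : Rˣ) : R) ^ i) (p - 1)]
      split_ifs with hm
      · subst hm; simp
      · have hm' : m⁻¹ ≠ 1 := by simpa using hm
        have h1 := hχ _ hm'
        have h2 : ((χ m⁻¹ : Rˣ) : R) ^ (p - 1) = 1 := by
          rw [← Units.val_pow_eq_pow_val, ← map_pow, ← hcard, pow_card_eq_one, map_one, Units.val_one]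
        have h3 := geom_sum_mul ((χ m⁻¹ : Rˣ) : R) (p - 1)
        rw [h2, sub_self] at h3
        exact h1.mul_left_eq_zero.mp h3
    simp only [key]
    rw [Finset.sum_eq_single 1]
    · simp only [if_true, smul_smul, hu, map_one, one_smul]
    · intro m _ hm
      simp [hm]
    · intro h
      exact absurd (Finset.mem_univ _) h

end Groth.Agent.S18467
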