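import Mathlib
import Groth.Statements.S18468
import Groth.Agent.S18467

set_option autoImplicit false
universe u
open OortTate

namespace Groth.Agent.S18468

open WithConv in
lemma comp_pow {R A B C : Type*} [CommSemiring R] [CommSemiring A] [CommSemiring B] [Semiring C]
    [Bialgebra R C] [Algebra R A] [Algebra R B]
    (h : A →ₐ[R] B) (f : WithConv (C →ₐ[R] A)) (m : ℕ) :
    toConv (h.comp (f ^ m).ofConv) = (toConv (h.comp f.ofConv)) ^ m := by
  induction m with
  | zero =>
    rw [pow_zero, pow_zero]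
    apply WithConv.ofConv_injective
    ext c
    simp [AlgHom.convOne_def]
  | succ m ih =>
    rw [pow_succ, pow_succ, AlgHom.comp_convMul_distrib, ← ih]

open WithConv in
lemma powConv_comp (R : Type u) [CommRing R] (A : Type u) [CommRing A] [HopfAlgebra R A] (n m : ℕ) :
    (SGA3b.powConv R A n).comp (SGA3b.powConv R A m) = SGA3b.powConv R A (n * m) := by
  unfold SGA3b.powConv
  have := comp_pow (ofConv ((toConv (AlgHom.id R A)) ^ n)) (toConv (AlgHom.id R A)) m
  apply WithConv.toConv_injective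
  rw [this]
  simp [pow_mul]

open WithConv in
lemma counit_comp_powConv (R : Type u) [CommRing R] (A : Type u) [CommRing A] [HopfAlgebra R A] (n : ℕ) :
    (Bialgebra.counitAlgHom R A).comp (SGA3b.powConv R A n) = Bialgebra.counitAlgHom R A := by
  unfold SGA3b.powConv
  have := comp_pow (Bialgebra.counitAlgHom R A) (toConv (AlgHom.id R A)) n
  apply WithConv.toConv_injective
  rw [this]
  have h1 : toConv ((Bialgebra.counitAlgHom R A).comp (toConv (AlgHom.id R A)).ofConv) = 1 := by
    apply WithConv.ofConv_injective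
    ext c
    simp [AlgHom.convOne_def]
  rw [h1, one_pow]
  exact h1.symm

section main
variable (p : ℕ) [Fact p.Prime] (R : Type u) [CommRing R]
    (A : Type u) [CommRing A] [HopfAlgebra R A]
    (hp : (WithConv.toConv (AlgHom.id R A)) ^ p = 1)

omit [Fact p.Prime] in
include hp in
lemma powConv_mod (k : ℕ) : SGA3b.powConv R A k = SGA3b.powConv R A (k % p) := by
  unfold SGA3b.powConv
  rw [pow_eq_pow_mod k hp]

/-- the action of units of ZMod p on A -/
noncomputable def rho : (ZMod p)ˣ →* Module.End R A where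
  toFun m := (SGA3b.powConv R A (m : ZMod p).val).toLinearMap
  map_one' := by
    have : ((1 : (ZMod p)ˣ) : ZMod p).val = 1 := by
      rw [Units.val_one]; exact ZMod.val_one p
    rw [this]
    unfold SGA3b.powConv
    rw [pow_one]
    rfl
  map_mul' := by
    intro m n
    have h1 : ((m * n : (ZMod p)ˣ) : ZMod p).val = ((m : ZMod p).val * (n : ZMod p).val) % p := by
      rw [Units.val_mul, ZMod.val_mul]
    rw [h1, ← powConv_mod p R A hp, ← powConv_comp]
    rfl

end main

theorem result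
    (p : ℕ) [Fact p.Prime] (R : Type u) [CommRing R] (u : R) (hu : u * ((p - 1 : ℕ) : R) = 1)
    (χ : (ZMod p)ˣ →* Rˣ) (hχ : ∀ m : (ZMod p)ˣ, m ≠ 1 → IsUnit ((χ m : R) - 1))
    (A : Type u) [CommRing A] [HopfAlgebra R A]
    (hp : (WithConv.toConv (AlgHom.id R A)) ^ p = 1) :
    iSupIndep (fun i : Fin (p - 1) => OortTate.eigenAug R A p χ (i : ℕ)) ∧
      (⨆ i : Fin (p - 1), OortTate.eigenAug R A p χ (i : ℕ)) =
        LinearMap.ker (Bialgebra.counitAlgHom R A).toLinearMap ∧
      ∀ i : Fin (p - 1), OortTate.eigenAug R A p χ (i : ℕ) =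
        Submodule.map (OortTate.proj R A p u χ (i : ℕ))
          (LinearMap.ker (Bialgebra.counitAlgHom R A).toLinearMap) := by
  classical
  have hcard : Fintype.card (ZMod p)ˣ = p - 1 := ZMod.card_units p
  set ρ := rho p R A hp with hρ
  have hρ_apply : ∀ m : (ZMod p)ˣ, ρ m = (SGA3b.powConv R A (m : ZMod p).val).toLinearMap := fun _ => rfl
  let Φ : MonoidAlgebra R (ZMod p)ˣ →ₐ[R] Module.End R A := MonoidAlgebra.lift R _ _ ρ
  have hΦof : ∀ m, Φ (MonoidAlgebra.of R _ m) = ρ m := by
    intro m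
    simp [Φ]
  have hΦ : ∀ i : ℕ, Φ (u • ∑ m : (ZMod p)ˣ, ((χ m⁻¹ : Rˣ) : R) ^ i • MonoidAlgebra.of R (ZMod p)ˣ m)
      = OortTate.proj R A p u χ i := by
    intro i
    rw [map_smul, map_sum]
    simp only [map_smul, hΦof]
    rfl
  have hcoi := (Groth.Agent.S18467.result p R u hu χ hχ).map Φ.toRingHom
  have hcoi' : CompleteOrthogonalIdempotents
      (fun i : Fin (p - 1) => OortTate.proj R A p u χ (i : ℕ)) := by
    convert hcoi using 1
    funext i
    exact (hΦ i).symm
  -- ρ m ∘ proj i = χ m ^ i • proj i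
  have hρproj : ∀ (m : (ZMod p)ˣ) (i : ℕ), ρ m * OortTate.proj R A p u χ i
      = (((χ m : Rˣ) : R) ^ i) • OortTate.proj R A p u χ i := by
    intro m i
    rw [← hΦ, ← hΦof, ← map_mul, ← map_smul]
    congr 1
    have key : MonoidAlgebra.of R (ZMod p)ˣ m *
        ∑ n : (ZMod p)ˣ, ((χ n⁻¹ : Rˣ) : R) ^ i • MonoidAlgebra.of R (ZMod p)ˣ n
        = ((χ m : Rˣ) : R) ^ i • ∑ n : (ZMod p)ˣ, ((χ n⁻¹ : Rˣ) : R) ^ i • MonoidAlgebra.of R (ZMod p)ˣ n := by
      rw [Finset.mul_sum, Finset.smul_sum]
      refine Fintype.sum_equiv (Equiv.mulLeft m)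
        (fun n => MonoidAlgebra.of R (ZMod p)ˣ m * (((χ n⁻¹ : Rˣ) : R) ^ i • MonoidAlgebra.of R (ZMod p)ˣ n))
        (fun n => ((χ m : Rˣ) : R) ^ i • ((χ n⁻¹ : Rˣ) : R) ^ i • MonoidAlgebra.of R (ZMod p)ˣ n)
        (fun n => ?_)
      simp only [Equiv.coe_mulLeft, mul_smul_comm, ← map_mul, smul_smul]
      congr 1
      have e1 : χ n⁻¹ = χ m * χ (m * n)⁻¹ := by
        rw [← map_mul]; congr 1
        rw [mul_inv_rev, mul_comm n⁻¹ m⁻¹, mul_inv_cancel_left]
      rw [← mul_pow, ← Units.val_mul, ← e1]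
    rw [mul_smul_comm, key, smul_comm]
  have hε : ∀ (m : (ZMod p)ˣ) (f : A),
      (Bialgebra.counitAlgHom R A) (ρ m f) = Bialgebra.counitAlgHom R A f := by
    intro m f
    exact DFunLike.congr_fun (counit_comp_powConv R A (m : ZMod p).val) f
  have hproj_apply : ∀ (i : ℕ) (f : A), OortTate.proj R A p u χ i f
      = u • ∑ m : (ZMod p)ˣ, (((χ m⁻¹ : Rˣ) : R) ^ i) • ρ m f := by
    intro i f
    simp [OortTate.proj, hρ_apply, LinearMap.smul_apply, LinearMap.sum_apply]
  have hmemker : ∀ f : A, f ∈ LinearMap.ker (Bialgebra.counitAlgHom R A).toLinearMap ↔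
      Bialgebra.counitAlgHom R A f = 0 := fun f => by
    rw [LinearMap.mem_ker]; rfl
  -- (a)
  have ha : ∀ (i : ℕ) (f : A), Bialgebra.counitAlgHom R A f = 0 →
      Bialgebra.counitAlgHom R A (OortTate.proj R A p u χ i f) = 0 := by
    intro i f hf
    rw [hproj_apply, map_smul, map_sum]
    simp only [map_smul, hε, hf, smul_zero, Finset.sum_const_zero]
  -- (b)
  have hb : ∀ (i : ℕ) (f : A), Bialgebra.counitAlgHom R A f = 0 →
      OortTate.proj R A p u χ i f ∈ OortTate.eigenAug R A p χ i := by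
    intro i f hf
    refine Submodule.mem_inf.mpr ⟨(hmemker _).mpr (ha i f hf), ?_⟩
    rw [Submodule.mem_iInf]
    intro m
    rw [Module.End.mem_eigenspace_iff, ← hρ_apply]
    have := LinearMap.congr_fun (hρproj m i) f
    simpa using this
  -- (c)
  have hc : ∀ (i : ℕ) (f : A), f ∈ OortTate.eigenAug R A p χ i →
      OortTate.proj R A p u χ i f = f := by
    intro i f hf
    have hf2 := (Submodule.mem_inf.mp hf).2
    rw [Submodule.mem_iInf] at hf2
    have hf3 : ∀ m : (ZMod p)ˣ, ρ m f = (((χ m : Rˣ) : R) ^ i) • f := by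
      intro m
      have := hf2 m
      rwa [Module.End.mem_eigenspace_iff, ← hρ_apply] at this
    rw [hproj_apply]
    simp only [hf3, smul_smul, ← mul_pow, ← Units.val_mul, ← map_mul, inv_mul_cancel, map_one,
      Units.val_one, one_pow]
    rw [Finset.sum_const, Finset.card_univ, hcard, ← Nat.cast_smul_eq_nsmul R, smul_smul, smul_smul,
      mul_one, hu, one_smul]
  have hle : ∀ i : ℕ, OortTate.eigenAug R A p χ i ≤
      LinearMap.ker (Bialgebra.counitAlgHom R A).toLinearMap := fun i => inf_le_left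
  refine ⟨?_, ?_, ?_⟩
  · rw [iSupIndep_def]
    intro i
    rw [Submodule.disjoint_def]
    intro x hx hx2
    have h1 : OortTate.proj R A p u χ (i : ℕ) x = x := hc _ x hx
    have h2 : (⨆ j, ⨆ (_ : j ≠ i), OortTate.eigenAug R A p χ (j : ℕ)) ≤
        LinearMap.ker (OortTate.proj R A p u χ (i : ℕ)) := by
      refine iSup_le fun j => iSup_le fun hj => ?_
      intro y hy
      rw [LinearMap.mem_ker, ← hc _ y hy]
      have := hcoi'.ortho hj.symm
      exact LinearMap.congr_fun this y
    have := h2 hx2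
    rw [LinearMap.mem_ker, h1] at this
    exact this
  · apply le_antisymm
    · exact iSup_le fun i => hle _
    · intro f hf
      have h1 : f = ∑ i : Fin (p - 1), OortTate.proj R A p u χ (i : ℕ) f := by
        have := LinearMap.congr_fun hcoi'.complete f
        simpa [LinearMap.sum_apply] using this.symm
      rw [h1]
      refine Submodule.sum_mem _ fun i _ => ?_
      exact Submodule.mem_iSup_of_mem i (hb _ f ((hmemker f).mp hf))
  · intro i
    apply le_antisymm
    · intro f hf
      exact ⟨f, hle _ hf, hc _ f hf⟩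
    · rintro _ ⟨f, hf, rfl⟩
      exact hb _ f ((hmemker f).mp hf)

end Groth.Agent.S18468
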