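import Groth.Statements.S9407
import Mathlib

set_option autoImplicit false
universe u
open CAlg

namespace Groth.Agent.S9407

open Polynomial TensorProduct

/-- Over a domain, a polynomial integral over the base is constant. -/
theorem natDegree_eq_zero_of_isIntegral_of_isDomain {D : Type u} [CommRing D] [IsDomain D]
    (g : D[X]) (hg : IsIntegral D g) : g.natDegree = 0 := by
  by_contra hne
  have h1 : Transcendental D g := Polynomial.transcendental g hne
    (mem_nonZeroDivisors_of_ne_zero (by
      intro h0
      rw [leadingCoeff_eq_zero] at h0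
      simp [h0] at hne))
  exact h1 hg.isAlgebraic

/-- Over a reduced ring, a polynomial integral over the base has vanishing higher coefficients. -/
theorem coeff_eq_zero_of_isIntegral_of_isReduced {R : Type u} [CommRing R] [IsReduced R]
    (f : R[X]) (hf : IsIntegral R f) (n : ℕ) (hn : n ≠ 0) : f.coeff n = 0 := by
  apply IsReduced.eq_zero
  rw [nilpotent_iff_mem_prime]
  intro p hp
  have := hp
  let φ : R[X] →+* (R ⧸ p)[X] := Polynomial.mapRingHom (Ideal.Quotient.mk p)
  have hint : IsIntegral (R ⧸ p) (φ f) := by
    obtain ⟨P, hP, hP0⟩ := hf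
    refine ⟨P.map (Ideal.Quotient.mk p), hP.map _, ?_⟩
    have h2 : Polynomial.eval₂ (algebraMap (R ⧸ p) (R ⧸ p)[X]) (φ f) (P.map (Ideal.Quotient.mk p))
        = φ (Polynomial.eval₂ (algebraMap R R[X]) f P) := by
      rw [Polynomial.eval₂_map, Polynomial.hom_eval₂]
      congr 1
      ext x
      simp [φ]
    rw [h2, hP0, map_zero]
  have hdeg := natDegree_eq_zero_of_isIntegral_of_isDomain (φ f) hint
  have hc : (φ f).coeff n = 0 := by
    apply Polynomial.coeff_eq_zero_of_natDegree_lt
    omega
  have : (Ideal.Quotient.mk p) (f.coeff n) = 0 := by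
    simpa [φ, Polynomial.coeff_map] using hc
  exact Ideal.Quotient.eq_zero_iff_mem.mp this

/-- Reducedness ascends along smooth ring maps: if R is reduced and S is smooth over R then S is
reduced. -/
theorem result (R : Type u) [CommRing R] (S : Type u) [CommRing S]
    [Algebra R S] [Algebra.Smooth R S] [IsReduced R] : IsReduced S := by
  refine ⟨fun s hs => ?_⟩
  -- the element `s ⊗ X` of `S ⊗[R] R[X]` is nilpotent hence integral over `S`
  have hnil : IsNilpotent (s ⊗ₜ[R] (X : R[X])) := by
    obtain ⟨n, hn⟩ := hs
    refine ⟨n, ?_⟩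
    rw [Algebra.TensorProduct.tmul_pow, hn, zero_tmul]
  have hint : IsIntegral S (s ⊗ₜ[R] (X : R[X])) := by
    obtain ⟨n, hn⟩ := hnil
    apply IsIntegral.of_pow (Nat.succ_pos n)
    rw [pow_succ, hn, zero_mul]
    exact isIntegral_zero
  obtain ⟨y, hy⟩ := (TensorProduct.toIntegralClosure_bijective_of_smooth (R := R) (S := S)
    (B := R[X])).2 ⟨_, hint⟩
  -- the coefficient-one functional
  let c1 : R[X] →ₗ[R] R := Polynomial.lcoeff R 1
  have hc1 : c1 ∘ₗ (integralClosure R R[X]).val.toLinearMap = 0 := by
    ext z
    exact coeff_eq_zero_of_isIntegral_of_isReduced z.1 z.2 1 one_ne_zero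
  have hval : ∀ y, ((toIntegralClosure R S R[X] y : integralClosure S (S ⊗[R] R[X])) :
      S ⊗[R] R[X]) = LinearMap.lTensor S (integralClosure R R[X]).val.toLinearMap y := by
    intro y
    simp only [toIntegralClosure, AlgHom.coe_codRestrict]
    induction y using TensorProduct.induction_on with
    | zero => simp
    | tmul a b => simp
    | add a b ha hb => rw [map_add, map_add, ha, hb]
  have h0 : LinearMap.lTensor S c1 (s ⊗ₜ[R] (X : R[X])) = 0 := by
    have := congrArg Subtype.val hy
    simp only at this
    rw [← this, hval, ← LinearMap.comp_apply, ← LinearMap.lTensor_comp, hc1, LinearMap.lTensor_zero,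
      LinearMap.zero_apply]
  have h1 : LinearMap.lTensor S c1 (s ⊗ₜ[R] (X : R[X])) = s ⊗ₜ[R] (1 : R) := by
    simp [c1]
  rw [h1] at h0
  have := congrArg (TensorProduct.rid R S) h0
  simpa using this

end Groth.Agent.S9407
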