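import Groth.Statements.S15443
import Mathlib
import Groth.Agent.Lib.helper12.WeilPt
import Groth.Agent.Lib.helper15.EtaleRedStalk

set_option autoImplicit false
universe u v
open CategoryTheory AlgebraicGeometry
open WeilCoh

namespace Groth.Agent.S15443


open Groth.Agent.Lib.helper12.WeilPt

private lemma natDim_eq_of_eq_univ {T : Type u} [TopologicalSpace T] (S : Set T)
    (h : S = Set.univ) : natDim ↥S = natDim T := by
  subst h
  unfold natDim
  rw [IsHomeomorph.topologicalKrullDim_eq _ (Homeomorph.Set.univ T).isHomeomorph]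

private lemma length_quot_eq_one {B : Type*} [CommRing B] [IsLocalRing B] (hB : IsField B)
    (I : Ideal B) (hI : I ≤ IsLocalRing.maximalIdeal B) : Module.length B (B ⧸ I) = 1 := by
  have hm : IsLocalRing.maximalIdeal B = ⊥ := IsLocalRing.isField_iff_maximalIdeal_eq.mp hB
  have hI' : I = IsLocalRing.maximalIdeal B := by
    rw [hm] at hI ⊢
    exact le_bot_iff.mp hI
  rw [Module.length_eq_one_iff, hI']
  exact isSimpleModule_iff_isCoatom.mpr
    (Ideal.isMaximal_def.mp (IsLocalRing.maximalIdeal.isMaximal B))

private lemma preimMult_eq_one {X Y : Scheme.{u}} (f : X ⟶ Y) (ξ : Y) (w : X)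
    (h : f w ∈ closure ({ξ} : Set Y)) (hF : IsField (X.presheaf.stalk w)) :
    preimMult f ξ w h = 1 := by
  unfold preimMult
  rw [length_quot_eq_one hF _ ?_]
  · rfl
  · rw [Ideal.map_le_iff_le_comap]
    intro a ha
    rw [Ideal.mem_comap, IsLocalRing.mem_maximalIdeal, mem_nonunits_iff]
    intro hu
    have hua : IsUnit a := (isUnit_map_iff (f.stalkMap w).hom a).mp hu
    have h0 : Cyc.specMap (f w) ξ (specializes_iff_mem_closure.mpr h) a = 0 :=
      RingHom.mem_ker.mp ha
    have h1 := hua.map (Cyc.specMap (f w) ξ (specializes_iff_mem_closure.mpr h))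
    rw [h0] at h1
    exact not_isUnit_zero h1

private lemma main (k : Type u) [Field k] [IsAlgClosed k] (K : Type v) [Field K] [CharZero K]
    (T : WeilCoh.Theory k K) (X : WeilCoh.Var k) [IrreducibleSpace ↥X.obj.left]
    (η : X.obj.left) (hη : IsGenericPoint η (⊤ : Set X.obj.left)) :
    T.cl X η = 1 := by
  classical
  haveI hsm : Smooth X.obj.hom := X.property.1
  haveI hredstalk : ∀ x : X.obj.left, _root_.IsReduced (X.obj.left.presheaf.stalk x) := fun x =>
    Groth.Agent.Lib.H15.isReduced_stalk_of_smooth X.obj.hom x inferInstance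
  haveI hred : IsReduced X.obj.left := isReduced_of_isReduced_stalk X.obj.left
  have hηcl : closure ({η} : Set X.obj.left) = Set.univ := hη.def
  have hfield : IsField (X.obj.left.presheaf.stalk η) :=
    isField_stalk_of_closure_mem_irreducibleComponents X.obj.left η (by
      rw [hηcl, irreducibleComponents_eq_singleton]
      exact Set.mem_singleton _)
  let f : X ⟶ pt k := ObjectProperty.homMk (Over.homMk X.obj.hom (Category.comp_id _))
  have hsmf : sm f = X.obj.hom := rfl
  let ξ : (pt k).obj.left := IsLocalRing.closedPoint k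
  haveI hsub : Subsingleton (pt k).obj.left := (inferInstance : Subsingleton (PrimeSpectrum k))
  have hξcl : closure ({ξ} : Set (pt k).obj.left) = Set.univ := by
    apply Set.eq_univ_of_forall
    intro y
    rw [Subsingleton.elim y ξ]
    exact subset_closure (Set.mem_singleton ξ)
  have hpre : (sm f) ⁻¹' closure ({ξ} : Set (pt k).obj.left) = Set.univ := by
    rw [hξcl]; rfl
  have hgen : ∀ w : X.obj.left, η ⤳ w := fun w => hη.specializes (show w ∈ (⊤ : Set _) from trivial)
  have hcomp : ∀ w : X.obj.left,
      IsCompPt ((sm f) ⁻¹' closure ({ξ} : Set (pt k).obj.left)) w → w = η := by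
    intro w hw
    exact (hw.2 η (by rw [hpre]; trivial) (hgen w)).symm
  have hηcomp : IsCompPt ((sm f) ⁻¹' closure ({ξ} : Set (pt k).obj.left)) η := by
    refine ⟨by rw [hpre]; trivial, ?_⟩
    intro w' _ hw'
    exact (hw'.antisymm (hgen w')).eq
  have hdim : ∀ w : X.obj.left,
      IsCompPt ((sm f) ⁻¹' closure ({ξ} : Set (pt k).obj.left)) w →
      (pdim X.obj.left w : ℤ) =
        pdim (pt k).obj.left ξ + dim X.obj.left - dim (pt k).obj.left := by
    intro w hw
    rw [hcomp w hw]
    have h1 : pdim X.obj.left η = dim X.obj.left := natDim_eq_of_eq_univ _ hηcl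
    have h2 : pdim (pt k).obj.left ξ = 0 := natDim_of_subsingleton _
    have h3 : dim (pt k).obj.left = 0 := dim_pt k
    rw [h1, h2, h3]
    simp
  have hmult : ∀ (w : X.obj.left)
      (hw : IsCompPt ((sm f) ⁻¹' closure ({ξ} : Set (pt k).obj.left)) w),
      preimMult (sm f) ξ w hw.1 = 1 := by
    intro w hw
    exact preimMult_eq_one (sm f) ξ w hw.1 (by rw [hcomp w hw]; exact hfield)
  have hpull := T.cl_pull f ξ hdim (Or.inr hmult)
  obtain ⟨hcl, -⟩ := T.point (pt k) (dim_pt k)
  rw [hcl ξ, map_one] at hpull
  rw [finsum_eq_single _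
      (⟨η, hηcomp⟩ : {w : X.obj.left //
        IsCompPt ((sm f) ⁻¹' closure ({ξ} : Set (pt k).obj.left)) w})
      (by intro w hw; exact absurd (Subtype.ext (hcomp w.1 w.2)) hw)] at hpull
  dsimp only at hpull
  rw [hmult η hηcomp, Nat.cast_one, one_smul] at hpull
  exact hpull.symm

/-- For a Weil cohomology theory H^* (coefficients in K of characteristic zero, on nonsingular connected
projective varieties over an algebraically closed field k) and such a variety X, the class cl(X) ∈
H^0(X) of X as a closed subvariety of itself equals 1; here cl(X) is the class attached to the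
generic point of X. -/
theorem result (k : Type u) [Field k] [IsAlgClosed k] (K : Type v) [Field K] [CharZero K]
    (T : WeilCoh.Theory k K) (X : WeilCoh.Var k) [IrreducibleSpace ↥X.obj.left] :
    T.cl X (genericPoint ↥X.obj.left) = 1 := by
  exact main k K T X _ (genericPoint_spec ↥X.obj.left)

end Groth.Agent.S15443
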