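import Groth.Statements.S2176
import Mathlib
import Groth.Agent.S2173
import Groth.Agent.S2174

set_option autoImplicit false
open Finset
open Models Models.NumericalType

namespace Groth.Agent.S2176

/-- A minimal numerical type (no (-1)-index) with n > 1 indices has genus at least 1. -/
theorem result {n : ℕ} (T : Models.NumericalType n) (hmin : T.IsMinimal) (hn : 1 < n) : 1 ≤ T.genus := by
  have hD : (2 : ℤ) ∣ ∑ i, T.m i * T.a i i := Groth.Agent.S2173.result T
  have hterm : ∀ i, 0 ≤ T.m i * (2 * (T.w i * (T.g i - 1)) - T.a i i) := by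
    intro i
    apply mul_nonneg (T.m_pos i).le
    have hneg : T.a i i < 0 := Groth.Agent.S2174.result T hn i
    rcases (T.g_nonneg i).eq_or_lt with hg | hg
    · -- g i = 0
      obtain ⟨c, hc⟩ := T.w_dvd i i
      have hw := T.w_pos i
      have hc_neg : c < 0 := by
        by_contra h
        push Not at h
        have := mul_nonneg hw.le h
        rw [← hc] at this
        linarith
      have hc_ne : c ≠ -1 := by
        intro h
        apply hmin i
        refine ⟨hg.symm, ?_⟩
        rw [hc, h]; ring
      have hc2 : c ≤ -2 := by omega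
      rw [← hg, hc]
      nlinarith
    · have : 0 ≤ T.w i * (T.g i - 1) := mul_nonneg (T.w_pos i).le (by linarith)
      linarith
  have hsum : 0 ≤ ∑ i, T.m i * (2 * (T.w i * (T.g i - 1)) - T.a i i) :=
    Finset.sum_nonneg fun i _ => hterm i
  have hexp : ∑ i, T.m i * (2 * (T.w i * (T.g i - 1)) - T.a i i) =
      2 * (∑ i, T.m i * T.w i * (T.g i - 1)) - ∑ i, T.m i * T.a i i := by
    rw [Finset.mul_sum, ← Finset.sum_sub_distrib]
    apply Finset.sum_congr rfl; intro i _; ring
  obtain ⟨d, hd⟩ := hD
  unfold Models.NumericalType.genus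
  rw [hd, Int.mul_ediv_cancel_left _ (by norm_num : (2 : ℤ) ≠ 0)]
  rw [hexp, hd] at hsum
  linarith

end Groth.Agent.S2176
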