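import Groth.Statements.S2178
import Groth.Agent.Lib.helper11.NumType

set_option autoImplicit false
open Finset
open Models Models.NumericalType

namespace Groth.Agent.S2178

/-- The Picard group of a numerical type (the cokernel of the matrix (a i j / w i) acting on Z^n) has
free rank one: its rank as a Z-module is 1. -/
theorem result {n : ℕ} (T : Models.NumericalType n) : Module.finrank ℤ T.Pic = 1 := by
  classical
  set P := Matrix.mulVecLin T.picMatrix with hP
  -- rank-nullity
  have h₁ := (LinearMap.range P).finrank_quotient_add_finrank
  have h₂ := P.quotKerEquivRange.finrank_eq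
  have h₃ := (LinearMap.ker P).finrank_quotient_add_finrank
  have hker : Module.finrank ℤ (LinearMap.ker P) = 1 := by
    -- elements of the kernel are killed by `a`
    have hmem : ∀ x : Fin n → ℤ, x ∈ LinearMap.ker P ↔ ∀ i, ∑ j, T.a i j * x j = 0 := by
      intro x
      rw [LinearMap.mem_ker, hP, Matrix.mulVecLin_apply]
      constructor
      · intro h i
        have := congrFun h i
        simp only [Matrix.mulVec, dotProduct, Pi.zero_apply, NumericalType.picMatrix] at this
        have h2 : ∑ j, T.a i j * x j = T.w i * ∑ j, T.a i j / T.w i * x j := by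
          rw [Finset.mul_sum]
          refine Finset.sum_congr rfl fun j _ => ?_
          rw [← mul_assoc, Int.mul_ediv_cancel' (T.w_dvd i j)]
        rw [h2, this, mul_zero]
      · intro h
        funext i
        simp only [Matrix.mulVec, dotProduct, Pi.zero_apply, NumericalType.picMatrix]
        have h2 : ∑ j, T.a i j * x j = T.w i * ∑ j, T.a i j / T.w i * x j := by
          rw [Finset.mul_sum]
          refine Finset.sum_congr rfl fun j _ => ?_
          rw [← mul_assoc, Int.mul_ediv_cancel' (T.w_dvd i j)]
        have h3 := h i
        rw [h2] at h3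
        rcases mul_eq_zero.mp h3 with h4 | h4
        · exact absurd h4 (ne_of_gt (T.w_pos i))
        · exact h4
    let i₀ : Fin n := ⟨0, T.pos⟩
    -- evaluation at i₀ is injective on the kernel
    let ev : LinearMap.ker P →ₗ[ℤ] ℤ := (LinearMap.proj i₀).comp (LinearMap.ker P).subtype
    have hinj : Function.Injective ev := by
      rw [← LinearMap.ker_eq_bot, LinearMap.ker_eq_bot']
      intro x hx
      have hx0 : (x : Fin n → ℤ) i₀ = 0 := hx
      have hQ : Groth.Agent.Lib.helper11.NumType.Q T (x : Fin n → ℤ) = 0 := by
        unfold Groth.Agent.Lib.helper11.NumType.Q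
        refine Finset.sum_eq_zero fun i _ => ?_
        rw [(hmem _).mp x.2 i, mul_zero]
      have := Groth.Agent.Lib.helper11.NumType.eq_zero_of_Q_nonneg T _ hQ.ge i₀ hx0
      apply Subtype.ext
      funext i
      exact this i
    have hle : Module.finrank ℤ (LinearMap.ker P) ≤ 1 := by
      have := LinearMap.finrank_le_finrank_of_injective hinj
      simpa using this
    have hge : 0 < Module.finrank ℤ (LinearMap.ker P) := by
      rw [Module.finrank_pos_iff_exists_ne_zero]
      have hm : T.m ∈ LinearMap.ker P := by
        rw [hmem]
        exact Groth.Agent.Lib.helper11.NumType.row_sum T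
      refine ⟨⟨T.m, hm⟩, ?_⟩
      intro h
      have := congrArg (fun y : LinearMap.ker P => (y : Fin n → ℤ) i₀) h
      simp only [Submodule.coe_zero, Pi.zero_apply] at this
      exact absurd this (ne_of_gt (T.m_pos i₀))
    omega
  have h₄ : Module.finrank ℤ (Fin n → ℤ) = n := by simp
  change Module.finrank ℤ ((Fin n → ℤ) ⧸ LinearMap.range P) = 1
  omega

end Groth.Agent.S2178
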