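import Groth.Statements.S2182
import Mathlib

set_option autoImplicit false
open Finset
open Models Models.NumericalType

namespace Groth.Agent.S2182

/-- In a numerical type, whenever a i j > 0 one has m i * a i j at most m j * |a j j| and m i * w i at
most m j * |a j j|. -/
theorem result {n : ℕ} (T : Models.NumericalType n) (i j : Fin n) (hij : 0 < T.a i j) :
    T.m i * T.a i j ≤ T.m j * |T.a j j| ∧ T.m i * T.w i ≤ T.m j * |T.a j j| := by
  have hw : T.w i ≤ T.a i j := Int.le_of_dvd hij (T.w_dvd i j)
  have h2 : T.m i * T.w i ≤ T.m i * T.a i j := mul_le_mul_of_nonneg_left hw (T.m_pos i).le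
  have h1 : T.m i * T.a i j ≤ T.m j * |T.a j j| := by
    by_cases hEq : i = j
    · subst hEq
      exact mul_le_mul_of_nonneg_left (le_abs_self _) (T.m_pos i).le
    · have h0 := congrFun T.mulVec_m j
      simp only [Matrix.mulVec, dotProduct, Pi.zero_apply] at h0
      rw [← Finset.add_sum_erase univ _ (mem_univ j)] at h0
      have hsum : T.a j i * T.m i ≤ ∑ k ∈ univ.erase j, T.a j k * T.m k := by
        apply Finset.single_le_sum (f := fun k => T.a j k * T.m k)
        · intro k hk
          exact mul_nonneg (T.offDiag_nonneg j k (Finset.ne_of_mem_erase hk).symm) (T.m_pos k).le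
        · exact Finset.mem_erase.2 ⟨hEq, mem_univ i⟩
      have hsymm : T.a j i = T.a i j := T.symm.apply i j
      have : T.m j * (-T.a j j) ≤ T.m j * |T.a j j| :=
        mul_le_mul_of_nonneg_left (neg_le_abs _) (T.m_pos j).le
      rw [hsymm] at hsum
      nlinarith
  exact ⟨h1, h2.trans h1⟩

end Groth.Agent.S2182
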