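import Groth.Statements.S8651
import Groth.Agent.Lib.helper13.LamSeries
import Groth.Agent.S8649
-- import your own Groth.Agent.* helpers here

set_option autoImplicit false
universe u
open Finset
open LambdaRing
open PowerSeries Groth.Agent.Lib.helper13.Lam

namespace Groth.Agent.S8651

variable {A : Type u} [CommRing A] [LambdaRing.LambdaOps A]

/-- The γ-series. -/
noncomputable def gammaSeries (z : A) : PowerSeries A := PowerSeries.mk fun k => LambdaRing.gamma k z

theorem coeff_gammaSeries (z : A) (k : ℕ) : coeff k (gammaSeries z) = LambdaRing.gamma k z := by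
  simp [gammaSeries]

theorem lamSeries_line (y : A) (hy : ∀ j : ℕ, 2 ≤ j → LambdaOps.lam j y = 0) :
    lamSeries y = 1 + C y * X := by
  ext n
  rw [coeff_lamSeries]
  rcases n with _ | _ | n
  · simp [LambdaOps.lam_zero]
  · simp [LambdaOps.lam_one]
  · rw [hy (n + 2) (by omega)]
    simp [coeff_one, coeff_succ_mul_X]

theorem gamma_zero' (z : A) : LambdaRing.gamma 0 z = 1 := by
  simp [LambdaRing.gamma]

theorem gamma_step (h1 : ∀ k : ℕ, 2 ≤ k → LambdaOps.lam k (1 : A) = 0) (z y : A)
    (hy : ∀ j : ℕ, 2 ≤ j → LambdaOps.lam j y = 0) (k : ℕ) :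
    LambdaRing.gamma (k + 1) (z + (y - 1)) =
      LambdaRing.gamma (k + 1) z + (y - 1) * LambdaRing.gamma k z := by
  -- B = λ_t(z + k - 1)
  set B := lamSeries (z + (k : A) - 1) with hB
  have hzk : lamSeries (z + ((k + 1 : ℕ) : A) - 1) = B * (1 + X) := by
    rw [← lamSeries_one h1, ← lamSeries_add]
    congr 1
    push_cast
    ring
  have hA : lamSeries (z + (y - 1) + ((k + 1 : ℕ) : A) - 1) = B * (1 + C y * X) := by
    rw [← lamSeries_line y hy, ← lamSeries_add]
    congr 1
    push_cast
    ring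
  rw [Groth.Agent.S8649.result A h1 (k + 1) (z + (y - 1)), Groth.Agent.S8649.result A h1 (k + 1) z,
    ← coeff_lamSeries, ← coeff_lamSeries, hA, hzk]
  have hk : LambdaRing.gamma k z = coeff k B := by
    rcases k with _ | k
    · rw [gamma_zero', hB, coeff_lamSeries, LambdaOps.lam_zero]
    · rw [Groth.Agent.S8649.result A h1 (k + 1) z, hB, coeff_lamSeries]
  rw [hk, mul_add, mul_add, mul_one, map_add, map_add, ← mul_assoc, coeff_succ_mul_X,
    coeff_succ_mul_X, coeff_mul_C]
  ring

theorem gammaSeries_step (h1 : ∀ k : ℕ, 2 ≤ k → LambdaOps.lam k (1 : A) = 0) (z y : A)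
    (hy : ∀ j : ℕ, 2 ≤ j → LambdaOps.lam j y = 0) :
    gammaSeries (z + (y - 1)) = gammaSeries z * (1 + C (y - 1) * X) := by
  ext k
  rcases k with _ | k
  · rw [coeff_gammaSeries, gamma_zero', coeff_zero_eq_constantCoeff_apply, map_mul, map_add, map_mul,
      ← coeff_zero_eq_constantCoeff_apply, ← coeff_zero_eq_constantCoeff_apply,
      ← coeff_zero_eq_constantCoeff_apply, ← coeff_zero_eq_constantCoeff_apply,
      coeff_gammaSeries, gamma_zero', coeff_zero_X]
    simp
  · rw [coeff_gammaSeries, gamma_step h1 z y hy, mul_add, mul_one, map_add, ← mul_assoc,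
      coeff_succ_mul_X, coeff_mul_C, coeff_gammaSeries, coeff_gammaSeries]
    ring

theorem gammaSeries_zero (h1 : ∀ k : ℕ, 2 ≤ k → LambdaOps.lam k (1 : A) = 0) :
    gammaSeries (0 : A) = 1 := by
  ext k
  rcases k with _ | k
  · simp [coeff_gammaSeries, gamma_zero']
  · rw [coeff_gammaSeries, Groth.Agent.S8649.result A h1 (k + 1) 0]
    have : (0 : A) + ((k + 1 : ℕ) : A) - 1 = ((k : ℕ) : A) := by push_cast; ring
    rw [this, ← coeff_lamSeries, lamSeries_natCast h1, coeff_one_add_X_pow]
    simp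

theorem gammaSeries_sum (h1 : ∀ k : ℕ, 2 ≤ k → LambdaOps.lam k (1 : A) = 0) :
    ∀ (n : ℕ) (y : Fin n → A), (∀ (i : Fin n) (j : ℕ), 2 ≤ j → LambdaOps.lam j (y i) = 0) →
      gammaSeries (∑ i : Fin n, y i - (n : A)) = ∏ i : Fin n, (1 + C (y i - 1) * X) := by
  intro n
  induction n with
  | zero =>
    intro y _
    simp [gammaSeries_zero h1]
  | succ n ih =>
    intro y hy
    rw [Fin.sum_univ_castSucc, Fin.prod_univ_castSucc, ← ih (fun i => y (Fin.castSucc i))
      (fun i j hj => hy _ j hj), ← gammaSeries_step h1 _ _ (hy (Fin.last n))]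
    congr 1
    push_cast
    ring

omit [LambdaRing.LambdaOps A] in
theorem coeff_prod_one_add (n : ℕ) (c : Fin n → A) (k : ℕ) :
    coeff k (∏ i : Fin n, (1 + C (c i) * X)) =
      ∑ s ∈ (Finset.univ : Finset (Fin n)).powersetCard k, ∏ i ∈ s, c i := by
  rw [Finset.prod_one_add, map_sum, Finset.powersetCard_eq_filter, Finset.sum_filter]
  apply Finset.sum_congr rfl
  intro s _
  rw [Finset.prod_mul_distrib, Finset.prod_const, ← map_prod, coeff_C_mul, coeff_X_pow]
  by_cases h : s.card = k
  · rw [if_pos h, if_pos h.symm, mul_one]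
  · rw [if_neg h, if_neg (fun h' => h h'.symm), mul_zero]


/-- Let A be a pre-λ-ring (λ^0 = 1, λ^1 = id, additive formula) in which λ^k(1) = 0 for all k ≥ 2, and
let y_1, …, y_n ∈ A satisfy λ^j(y_i) = 0 for every j ≥ 2; put x = Σ_i y_i. Then for every k the
element γ^k(x − n) (γ-operations: the coefficients of λ_{t/(1−t)}) equals the k-th elementary
symmetric function of y_1 − 1, …, y_n − 1, namely the sum over the k-element subsets s of the index
set of Π_{i ∈ s} (y_i − 1); in particular γ^k(x − n) = 0 for k > n. (The published statement is for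
a λ-ring; its proof uses only additivity and λ_t(1) = 1 + t, the hypotheses taken here.) -/
theorem result (A : Type u) [CommRing A] [LambdaRing.LambdaOps A]
    (h1 : ∀ k : ℕ, 2 ≤ k → LambdaRing.LambdaOps.lam k (1 : A) = 0) (n : ℕ) (y : Fin n → A)
    (hy : ∀ (i : Fin n) (j : ℕ), 2 ≤ j → LambdaRing.LambdaOps.lam j (y i) = 0) (k : ℕ) :
    LambdaRing.gamma k (∑ i : Fin n, y i - (n : A)) =
      ∑ s ∈ (univ : Finset (Fin n)).powersetCard k, ∏ i ∈ s, (y i - 1) := by
  rw [← coeff_gammaSeries, gammaSeries_sum h1 n y hy, coeff_prod_one_add]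

end Groth.Agent.S8651
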