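import Groth.Statements.S9318
import Mathlib


set_option autoImplicit false
universe u
open CAlg

namespace H14S9318

variable {S : Type u} [CommRing S] (𝔫 : Ideal S)

/-- `evalₐ` kills the `k`-th power of the extended ideal. -/
lemma evalₐ_eq_zero_of_mem (k : ℕ) (z : AdicCompletion 𝔫 S)
    (hz : z ∈ (𝔫.map (algebraMap S (AdicCompletion 𝔫 S))) ^ k) :
    AdicCompletion.evalₐ 𝔫 k z = 0 := by
  rw [← Ideal.map_pow] at hz
  have hle : (𝔫 ^ k).map (algebraMap S (AdicCompletion 𝔫 S)) ≤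
      RingHom.ker (AdicCompletion.evalₐ 𝔫 k).toRingHom := by
    rw [Ideal.map_le_iff_le_comap]
    intro s hs
    simp only [Ideal.mem_comap, RingHom.mem_ker]
    change AdicCompletion.evalₐ 𝔫 k (algebraMap S (AdicCompletion 𝔫 S) s) = 0
    rw [AlgHom.commutes]
    simpa [Ideal.Quotient.eq_zero_iff_mem] using hs
  exact hle hz

/-- For a finitely generated ideal the kernel of `evalₐ` is the power of the extended ideal. -/
lemma mem_of_evalₐ_eq_zero (h𝔫 : 𝔫.FG) (k : ℕ) (z : AdicCompletion 𝔫 S)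
    (hz : AdicCompletion.evalₐ 𝔫 k z = 0) :
    z ∈ (𝔫.map (algebraMap S (AdicCompletion 𝔫 S))) ^ k := by
  rw [← Ideal.map_pow]
  have h0 : AdicCompletion.eval 𝔫 S k z = 0 := by
    have h1 : (𝔫 ^ k : Ideal S) ≤ 𝔫 ^ k • ⊤ := by simp
    rw [← AdicCompletion.factor_evalₐ_eq_eval 𝔫 z h1, hz, map_zero]
  have h2 : z ∈ (𝔫 ^ k • ⊤ : Submodule S (AdicCompletion 𝔫 S)) := by
    rw [AdicCompletion.pow_smul_top_eq_ker_eval h𝔫]
    exact h0
  rw [Ideal.smul_top_eq_map] at h2
  exact h2

end H14S9318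

namespace Groth.Agent.S9318

/-- Let `R → S` be a ring map and `𝔫 ⊆ S` a finitely generated ideal, and let `S^` be the `𝔫`-adic
completion of `S`. Then `R → S` is formally smooth for the `𝔫`-adic topology if and only if `R → S^`
is formally smooth for the adic topology of the extension of `𝔫` to `S^`. No Noetherian hypothesis
is made on `S`. -/
theorem result {R S : Type u} [CommRing R] [CommRing S]
    [Algebra R S] (𝔫 : Ideal S) (h𝔫 : 𝔫.FG) :
    CAlgX.IsAdicFormallySmooth R S 𝔫 ↔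
      CAlgX.IsAdicFormallySmooth R (AdicCompletion 𝔫 S) (𝔫.map (algebraMap S (AdicCompletion 𝔫 S))) := by
  classical
  constructor
  · -- (⇒)
    intro hS A _ _ J hJ ψ hψ
    obtain ⟨k, hk⟩ := hψ
    let ι : S →ₐ[R] AdicCompletion 𝔫 S := IsScalarTower.toAlgHom R S (AdicCompletion 𝔫 S)
    have hι : ∀ s, ι s = algebraMap S (AdicCompletion 𝔫 S) s := fun s => rfl
    have hk' : ∀ x ∈ 𝔫 ^ k, (ψ.comp ι) x = 0 := by
      intro x hx
      apply hk
      rw [← Ideal.map_pow]
      exact Ideal.mem_map_of_mem _ hx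
    obtain ⟨χ', hχ'⟩ := hS A J hJ (ψ.comp ι) ⟨k, hk'⟩
    have hχJ : ∀ s ∈ 𝔫 ^ k, χ' s ∈ J := by
      intro s hs
      have := congrArg (fun g => g s) hχ'
      simp only [AlgHom.comp_apply] at this
      have h2 : (Ideal.Quotient.mkₐ R J) (χ' s) = 0 := by
        rw [this]; exact hk' s hs
      simpa [Ideal.Quotient.eq_zero_iff_mem] using h2
    have hχ0 : ∀ s ∈ 𝔫 ^ (k + k), χ' s = 0 := by
      intro s hs
      rw [pow_add] at hs
      refine Submodule.mul_induction_on hs ?_ ?_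
      · intro a ha b hb
        have : χ' a * χ' b ∈ J ^ 2 := by
          rw [pow_two]; exact Ideal.mul_mem_mul (hχJ a ha) (hχJ b hb)
        rw [hJ] at this
        rw [map_mul]; simpa using this
      · intro a b ha hb
        rw [map_add, ha, hb, add_zero]
    let χbar : S ⧸ 𝔫 ^ (k + k) →+* A :=
      Ideal.Quotient.lift (𝔫 ^ (k + k)) χ'.toRingHom hχ0
    let χr : AdicCompletion 𝔫 S →+* A := χbar.comp (AdicCompletion.evalₐ 𝔫 (k + k)).toRingHom
    have hχr : ∀ s : S, χr (algebraMap S _ s) = χ' s := by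
      intro s
      change χbar (AdicCompletion.evalₐ 𝔫 (k + k) (algebraMap S _ s)) = _
      rw [AlgHom.commutes]
      simp [χbar]
    let χ : AdicCompletion 𝔫 S →ₐ[R] A :=
      { χr with
        commutes' := by
          intro r
          change χr (algebraMap R (AdicCompletion 𝔫 S) r) = _
          rw [IsScalarTower.algebraMap_apply R S (AdicCompletion 𝔫 S), hχr]
          exact χ'.commutes r }
    refine ⟨χ, ?_⟩
    ext z
    obtain ⟨s, hs⟩ := Ideal.Quotient.mk_surjective (AdicCompletion.evalₐ 𝔫 (k + k) z)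
    have hw : AdicCompletion.evalₐ 𝔫 (k + k) (z - algebraMap S _ s) = 0 := by
      rw [map_sub, AlgHom.commutes, ← hs]
      simp
    have hw' := H14S9318.mem_of_evalₐ_eq_zero 𝔫 h𝔫 (k + k) _ hw
    have hw'' : z - algebraMap S _ s ∈ (𝔫.map (algebraMap S (AdicCompletion 𝔫 S))) ^ k :=
      Ideal.pow_le_pow_right (Nat.le_add_right k k) hw'
    have h1 : ψ z = ψ (algebraMap S _ s) := by
      have := hk _ hw''
      rw [map_sub, sub_eq_zero] at this
      exact this
    have h2 : χ z = χ' s := by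
      change χbar (AdicCompletion.evalₐ 𝔫 (k + k) z) = _
      rw [← hs]
      simp [χbar]
    simp only [AlgHom.comp_apply]
    rw [h2, h1]
    have := congrArg (fun g => g s) hχ'
    simp only [AlgHom.comp_apply] at this
    exact this
  · -- (⇐)
    intro hS A _ _ J hJ ψ hψ
    obtain ⟨k, hk⟩ := hψ
    let ι : S →ₐ[R] AdicCompletion 𝔫 S := IsScalarTower.toAlgHom R S (AdicCompletion 𝔫 S)
    let ψbar : S ⧸ 𝔫 ^ k →+* A ⧸ J := Ideal.Quotient.lift (𝔫 ^ k) ψ.toRingHom hk
    let ψr : AdicCompletion 𝔫 S →+* A ⧸ J := ψbar.comp (AdicCompletion.evalₐ 𝔫 k).toRingHom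
    have hψr : ∀ s : S, ψr (algebraMap S _ s) = ψ s := by
      intro s
      change ψbar (AdicCompletion.evalₐ 𝔫 k (algebraMap S _ s)) = _
      rw [AlgHom.commutes]
      simp [ψbar]
    let ψh : AdicCompletion 𝔫 S →ₐ[R] A ⧸ J :=
      { ψr with
        commutes' := by
          intro r
          change ψr (algebraMap R (AdicCompletion 𝔫 S) r) = _
          rw [IsScalarTower.algebraMap_apply R S (AdicCompletion 𝔫 S), hψr]
          exact ψ.commutes r }
    have hψh : ∀ x ∈ (𝔫.map (algebraMap S (AdicCompletion 𝔫 S))) ^ k, ψh x = 0 := by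
      intro x hx
      change ψbar (AdicCompletion.evalₐ 𝔫 k x) = 0
      rw [H14S9318.evalₐ_eq_zero_of_mem 𝔫 k x hx, map_zero]
    obtain ⟨χh, hχh⟩ := hS A J hJ ψh ⟨k, hψh⟩
    refine ⟨χh.comp ι, ?_⟩
    ext s
    have := congrArg (fun g => g (ι s)) hχh
    simp only [AlgHom.comp_apply] at this ⊢
    rw [this]
    exact hψr s

end Groth.Agent.S9318
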