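import Groth.Statements.S4542
import Mathlib
import Groth.Agent.Lib.helper14.FibProd


set_option autoImplicit false
universe u
open EGA41

namespace H14S4542
open H14.FibProd

section
variable {A B C : Type u} [CommRing A] [CommRing B] [CommRing C] [Algebra A B] [Algebra A C]
  (𝔟 : Ideal B) (𝔠 : Ideal C) (J : Ideal C) (u : B →ₐ[A] C ⧸ J)

/-- `C/𝔠^n → C/(𝔠^n + J)` -/
noncomputable abbrev ρ (n : ℕ) : C ⧸ 𝔠 ^ n →ₐ[A] C ⧸ (𝔠 ^ n ⊔ J) :=
  Ideal.Quotient.factorₐ A le_sup_left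

/-- `C/J → C/(𝔠^n + J)` -/
noncomputable abbrev σ (n : ℕ) : C ⧸ J →ₐ[A] C ⧸ (𝔠 ^ n ⊔ J) :=
  Ideal.Quotient.factorₐ A le_sup_right

/-- `C/𝔠^(n+1) → C/𝔠^n` -/
noncomputable abbrev τE (n : ℕ) : C ⧸ 𝔠 ^ (n + 1) →ₐ[A] C ⧸ 𝔠 ^ n :=
  Ideal.Quotient.factorₐ A (Ideal.pow_le_pow_right n.le_succ)

/-- `C/(𝔠^(n+1)+J) → C/(𝔠^n+J)` -/
noncomputable abbrev τF (n : ℕ) : C ⧸ (𝔠 ^ (n + 1) ⊔ J) →ₐ[A] C ⧸ (𝔠 ^ n ⊔ J) :=
  Ideal.Quotient.factorₐ A (sup_le_sup_right (Ideal.pow_le_pow_right n.le_succ) J)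

/-- a partial lift to `C/𝔠^n` -/
structure Good (n : ℕ) where
  v : B →ₐ[A] C ⧸ 𝔠 ^ n
  hv : ∀ b, ρ (A := A) 𝔠 J n (v b) = σ (A := A) 𝔠 J n (u b)
  hk : ∃ m : ℕ, ∀ x ∈ 𝔟 ^ m, v x = 0

variable {𝔟 𝔠 J u}

theorem step (𝔞 : Ideal A) (hB : EGA41.IsFormallySmoothAdic A 𝔞 B 𝔟)
    (hAC : ∃ k : ℕ, (𝔞 ^ k).map (algebraMap A C) ≤ 𝔠)
    (hJ : ∃ t : ℕ, J ^ t ≤ 𝔠)
    (hu : ∃ k : ℕ, (𝔟 ^ k).map u.toRingHom ≤ 𝔠.map (Ideal.Quotient.mk J))
    (n : ℕ) (g : Good 𝔟 𝔠 J u n) :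
    ∃ g' : Good 𝔟 𝔠 J u (n + 1), ∀ b, τE (A := A) 𝔠 n (g'.v b) = g.v b := by
  classical
  obtain ⟨k0, hk0⟩ := hAC
  obtain ⟨t, ht⟩ := hJ
  obtain ⟨k, hk⟩ := hu
  obtain ⟨m, hm⟩ := g.hk
  let D := C ⧸ 𝔠 ^ (n + 1)
  let f1 := ρ (A := A) 𝔠 J n
  let f2 := τF (A := A) 𝔠 J n
  -- the map `D → P`
  let q : D →ₐ[A] P f1 f2 := lift f1 f2 (τE (A := A) 𝔠 n) (ρ (A := A) 𝔠 J (n + 1)) (by
    intro d
    obtain ⟨c, rfl⟩ := Ideal.Quotient.mk_surjective d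
    rfl)
  have hq1 : ∀ c : C, pr1 f1 f2 (q (Ideal.Quotient.mk _ c)) = Ideal.Quotient.mk _ c := fun c => rfl
  have hq2 : ∀ c : C, pr2 f1 f2 (q (Ideal.Quotient.mk _ c)) = Ideal.Quotient.mk _ c := fun c => rfl
  have hqsurj : Function.Surjective q := by
    intro z
    obtain ⟨c1, hc1⟩ := Ideal.Quotient.mk_surjective (pr1 f1 f2 z)
    obtain ⟨c2, hc2⟩ := Ideal.Quotient.mk_surjective (pr2 f1 f2 z)
    have hz := comm f1 f2 z
    rw [← hc1, ← hc2] at hz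
    have hz' : Ideal.Quotient.mk (𝔠 ^ n ⊔ J) c1 = Ideal.Quotient.mk (𝔠 ^ n ⊔ J) c2 := hz
    rw [Ideal.Quotient.eq, Submodule.mem_sup] at hz'
    obtain ⟨a, ha, j, hj, haj⟩ := hz'
    refine ⟨Ideal.Quotient.mk _ (c1 - a), ?_⟩
    apply ext'
    · rw [hq1, ← hc1, Ideal.Quotient.eq]
      have : c1 - a - c1 = -a := by ring
      rw [this]
      exact neg_mem ha
    · rw [hq2, ← hc2, Ideal.Quotient.eq]
      have : c1 - a - c2 = j := by linear_combination (-1 : C) * haj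
      rw [this]
      exact Ideal.mem_sup_right hj
  let K : Ideal D := RingHom.ker q
  -- `K` comes from `J ⊓ 𝔠^n`
  have hKle : K ≤ (J ⊓ 𝔠 ^ n).map (Ideal.Quotient.mk (𝔠 ^ (n + 1))) := by
    intro x hx
    obtain ⟨c, rfl⟩ := Ideal.Quotient.mk_surjective x
    have hx' : q (Ideal.Quotient.mk _ c) = 0 := hx
    have h1 : Ideal.Quotient.mk (𝔠 ^ n) c = 0 := by rw [← hq1 c, hx', map_zero]
    have h2 : Ideal.Quotient.mk (𝔠 ^ (n + 1) ⊔ J) c = 0 := by rw [← hq2 c, hx', map_zero]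
    rw [Ideal.Quotient.eq_zero_iff_mem] at h1 h2
    rw [Submodule.mem_sup] at h2
    obtain ⟨a, ha, j, hj, haj⟩ := h2
    have hjn : j ∈ 𝔠 ^ n := by
      have : j = c - a := by linear_combination haj
      rw [this]
      exact sub_mem h1 (Ideal.pow_le_pow_right n.le_succ ha)
    have : Ideal.Quotient.mk (𝔠 ^ (n + 1)) c = Ideal.Quotient.mk (𝔠 ^ (n + 1)) j := by
      rw [Ideal.Quotient.eq]
      have : c - j = a := by linear_combination (-1 : C) * haj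
      rw [this]; exact ha
    rw [this]
    exact Ideal.mem_map_of_mem _ ⟨hj, hjn⟩
  have hKnil : K ^ (t + 1) = ⊥ := by
    rw [eq_bot_iff]
    calc K ^ (t + 1) ≤ ((J ⊓ 𝔠 ^ n).map (Ideal.Quotient.mk (𝔠 ^ (n + 1)))) ^ (t + 1) :=
          Ideal.pow_right_mono hKle _
      _ = ((J ⊓ 𝔠 ^ n) ^ (t + 1)).map (Ideal.Quotient.mk (𝔠 ^ (n + 1))) := (Ideal.map_pow _ _ _).symm
      _ ≤ (𝔠 ^ (n + 1)).map (Ideal.Quotient.mk (𝔠 ^ (n + 1))) := by
          apply Ideal.map_mono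
          rw [pow_succ, pow_succ']
          exact Ideal.mul_mono ((Ideal.pow_right_mono inf_le_left t).trans ht) inf_le_right
      _ = ⊥ := Ideal.map_quotient_self _
  -- `D` is discrete
  have hD : ∃ k : ℕ, (𝔞 ^ k).map (algebraMap A D) = ⊥ := by
    refine ⟨k0 * (n + 1), ?_⟩
    have h1 : algebraMap A D = (Ideal.Quotient.mk (𝔠 ^ (n + 1))).comp (algebraMap A C) := rfl
    rw [eq_bot_iff, h1, ← Ideal.map_map, pow_mul, Ideal.map_pow]
    calc ((𝔞 ^ k0).map (algebraMap A C) ^ (n + 1)).map (Ideal.Quotient.mk (𝔠 ^ (n + 1)))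
        ≤ (𝔠 ^ (n + 1)).map (Ideal.Quotient.mk (𝔠 ^ (n + 1))) :=
          Ideal.map_mono (Ideal.pow_right_mono hk0 _)
      _ = ⊥ := Ideal.map_quotient_self _
  -- the map to `P`
  let w : B →ₐ[A] P f1 f2 := lift f1 f2 g.v ((σ (A := A) 𝔠 J (n + 1)).comp u) (by
    intro b
    rw [g.hv b]
    obtain ⟨c, hc⟩ := Ideal.Quotient.mk_surjective (u b)
    simp only [AlgHom.comp_apply]
    rw [← hc]
    rfl)
  have hσkill : ∀ x ∈ 𝔟 ^ (k * (n + 1)), σ (A := A) 𝔠 J (n + 1) (u x) = 0 := by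
    intro x hx
    have h1 : u x ∈ (𝔟 ^ (k * (n + 1))).map u.toRingHom := Ideal.mem_map_of_mem _ hx
    rw [pow_mul, Ideal.map_pow] at h1
    have h2 := Ideal.pow_right_mono hk (n + 1) h1
    rw [← Ideal.map_pow] at h2
    have h3 : (𝔠 ^ (n + 1)).map (Ideal.Quotient.mk J) ≤
        RingHom.ker (σ (A := A) 𝔠 J (n + 1)).toRingHom := by
      rw [Ideal.map_le_iff_le_comap]
      intro c hc
      rw [Ideal.mem_comap, RingHom.mem_ker]
      change Ideal.Quotient.mk (𝔠 ^ (n + 1) ⊔ J) c = 0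
      rw [Ideal.Quotient.eq_zero_iff_mem]
      exact Ideal.mem_sup_left hc
    exact h3 h2
  let M := m + k * (n + 1)
  have hwkill : ∀ x ∈ 𝔟 ^ M, w x = 0 := by
    intro x hx
    apply ext'
    · rw [pr1_lift, map_zero]
      exact hm x (Ideal.pow_le_pow_right (Nat.le_add_right _ _) hx)
    · rw [pr2_lift, map_zero]
      exact hσkill x (Ideal.pow_le_pow_right (Nat.le_add_left _ _) hx)
  let ε : (D ⧸ K) ≃ₐ[A] P f1 f2 := Ideal.quotientKerAlgEquivOfSurjective hqsurj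
  have hεmk : ∀ d : D, ε (Ideal.Quotient.mk K d) = q d := fun d => rfl
  let u' : B →ₐ[A] D ⧸ K := (ε.symm : P f1 f2 →ₐ[A] D ⧸ K).comp w
  have hu' : ∀ b, ε (u' b) = w b := by
    intro b
    change ε (ε.symm (w b)) = _
    rw [AlgEquiv.apply_symm_apply]
  have hu'kill : ∀ x ∈ 𝔟 ^ M, u' x = 0 := by
    intro x hx
    apply ε.injective
    rw [hu', hwkill x hx, map_zero]
  obtain ⟨v', hv'⟩ := hB D K ⟨t + 1, hKnil⟩ hD u' ⟨M, hu'kill⟩
  have hqv' : ∀ b, q (v' b) = w b := by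
    intro b
    have := congrArg (fun φ => ε (φ b)) hv'
    simp only [AlgHom.comp_apply, Ideal.Quotient.mkₐ_eq_mk] at this
    rw [hεmk, hu'] at this
    exact this
  refine ⟨⟨v', ?_, ?_⟩, ?_⟩
  · intro b
    have h1 : pr2 f1 f2 (q (v' b)) = ρ (A := A) 𝔠 J (n + 1) (v' b) := rfl
    have h2 : pr2 f1 f2 (w b) = σ (A := A) 𝔠 J (n + 1) (u b) := rfl
    rw [← h1, hqv', h2]
  · refine ⟨M * (t + 1), fun x hx => ?_⟩
    have h1 : 𝔟 ^ M ≤ K.comap v'.toRingHom := by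
      intro y hy
      rw [Ideal.mem_comap]
      change q (v' y) = 0
      rw [hqv', hwkill y hy]
    have h2 : (𝔟 ^ M) ^ (t + 1) ≤ (K ^ (t + 1)).comap v'.toRingHom :=
      (Ideal.pow_right_mono h1 _).trans (Ideal.le_comap_pow _ _)
    rw [pow_mul] at hx
    have := h2 hx
    rw [hKnil] at this
    simpa using this
  · intro b
    have h1 : pr1 f1 f2 (q (v' b)) = τE (A := A) 𝔠 n (v' b) := rfl
    have h2 : pr1 f1 f2 (w b) = g.v b := rfl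
    rw [← h1, hqv', h2]

end

end H14S4542

namespace H14S4542

theorem main {A B C : Type u} [CommRing A] [CommRing B] [CommRing C] [Algebra A B]
    [Algebra A C] (𝔞 : Ideal A) (𝔟 : Ideal B) (𝔠 : Ideal C) (hB : EGA41.IsFormallySmoothAdic A 𝔞 B 𝔟)
    [IsAdicComplete 𝔠 C] (hAC : ∃ k : ℕ, (𝔞 ^ k).map (algebraMap A C) ≤ 𝔠)
    (J : Ideal C) (hJ : ∃ t : ℕ, J ^ t ≤ 𝔠) [IsHausdorff (𝔠.map (Ideal.Quotient.mk J)) (C ⧸ J)]
    (u : B →ₐ[A] C ⧸ J) (hu : ∃ k : ℕ, (𝔟 ^ k).map u.toRingHom ≤ 𝔠.map (Ideal.Quotient.mk J)) :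
    ∃ v : B →ₐ[A] C, (∃ k : ℕ, (𝔟 ^ k).map v.toRingHom ≤ 𝔠) ∧ (Ideal.Quotient.mkₐ A J).comp v = u := by
  classical
  have hJle0 : J ≤ 𝔠 ^ 0 := by rw [pow_zero, Ideal.one_eq_top]; exact le_top
  have htop0 : 𝔠 ^ 0 = ⊤ := by rw [pow_zero, Ideal.one_eq_top]
  let g0 : Good 𝔟 𝔠 J u 0 :=
    { v := (Ideal.Quotient.factorₐ A hJle0).comp u
      hv := by
        intro b
        haveI : Subsingleton (C ⧸ (𝔠 ^ 0 ⊔ J)) := by
          rw [Ideal.Quotient.subsingleton_iff, htop0, top_sup_eq]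
        exact Subsingleton.elim _ _
      hk := ⟨0, fun x _ => by
        haveI : Subsingleton (C ⧸ 𝔠 ^ 0) := by
          rw [Ideal.Quotient.subsingleton_iff, htop0]
        exact Subsingleton.elim _ _⟩ }
  let seq : (n : ℕ) → Good 𝔟 𝔠 J u n := fun n =>
    Nat.rec g0 (fun n g => Classical.choose (step 𝔞 hB hAC hJ hu n g)) n
  have hseq : ∀ n b, τE (A := A) 𝔠 n ((seq (n + 1)).v b) = (seq n).v b := fun n =>
    Classical.choose_spec (step 𝔞 hB hAC hJ hu n (seq n))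
  have hf : ∀ {m n : ℕ} (hle : m ≤ n),
      (Ideal.Quotient.factorₐ A (Ideal.pow_le_pow_right hle)).comp ((seq n).v) = (seq m).v := by
    intro m n hle
    induction n, hle using Nat.le_induction with
    | base => ext b; simp
    | succ n hmn ih =>
      rw [← ih]
      ext b
      simp only [AlgHom.comp_apply]
      rw [← hseq n b]
      obtain ⟨c, hc⟩ := Ideal.Quotient.mk_surjective ((seq (n + 1)).v b)
      rw [← hc]
      rfl
  let v : B →ₐ[A] C := IsAdicComplete.liftAlgHom 𝔠 (fun n => (seq n).v) hf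
  have hv : ∀ n b, Ideal.Quotient.mk (𝔠 ^ n) (v b) = (seq n).v b := fun n b =>
    IsAdicComplete.mk_liftAlgHom 𝔠 _ hf n b
  refine ⟨v, ?_, ?_⟩
  · obtain ⟨m, hm⟩ := (seq 1).hk
    refine ⟨m, ?_⟩
    rw [Ideal.map_le_iff_le_comap]
    intro x hx
    have := hm x hx
    rw [← hv 1 x, Ideal.Quotient.eq_zero_iff_mem, pow_one] at this
    exact this
  · ext b
    change Ideal.Quotient.mk J (v b) = u b
    rw [← sub_eq_zero]
    apply IsHausdorff.haus' (I := 𝔠.map (Ideal.Quotient.mk J))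
    intro n
    rw [SModEq.zero, smul_eq_mul, Ideal.mul_top]
    have h1 : σ (A := A) 𝔠 J n (Ideal.Quotient.mk J (v b) - u b) = 0 := by
      rw [map_sub, sub_eq_zero, ← (seq n).hv b, ← hv n b]
      rfl
    have h2 : Ideal.Quotient.mk J (v b) - u b ∈
        RingHom.ker (Ideal.Quotient.factor (le_sup_right : J ≤ 𝔠 ^ n ⊔ J)) := h1
    rw [Ideal.Quotient.factor_ker, Ideal.map_sup, Ideal.map_quotient_self, sup_bot_eq,
      Ideal.map_pow] at h2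
    exact h2

end H14S4542

namespace Groth.Agent.S4542

/-- Let B (𝔟-adic) be formally smooth over A (𝔞-adic); let C be a topological A-algebra for the 𝔠-adic
topology (a power of 𝔞 maps into 𝔠) which is complete, and J an ideal which is closed, i.e. C/J is
Hausdorff for the 𝔠-adic topology, and whose powers tend to 0, i.e. some power of J lies in 𝔠. Then
every continuous A-algebra homomorphism u : B → C/J (a power of 𝔟 maps into the image of 𝔠) factors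
as B → C → C/J with B → C a continuous A-algebra homomorphism (a power of 𝔟 maps into 𝔠). -/
theorem result {A B C : Type u} [CommRing A] [CommRing B] [CommRing C] [Algebra A B]
    [Algebra A C] (𝔞 : Ideal A) (𝔟 : Ideal B) (𝔠 : Ideal C) (hB : EGA41.IsFormallySmoothAdic A 𝔞 B 𝔟)
    [IsAdicComplete 𝔠 C] (hAC : ∃ k : ℕ, (𝔞 ^ k).map (algebraMap A C) ≤ 𝔠)
    (J : Ideal C) (hJ : ∃ t : ℕ, J ^ t ≤ 𝔠) [IsHausdorff (𝔠.map (Ideal.Quotient.mk J)) (C ⧸ J)]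
    (u : B →ₐ[A] C ⧸ J) (hu : ∃ k : ℕ, (𝔟 ^ k).map u.toRingHom ≤ 𝔠.map (Ideal.Quotient.mk J)) :
    ∃ v : B →ₐ[A] C, (∃ k : ℕ, (𝔟 ^ k).map v.toRingHom ≤ 𝔠) ∧ (Ideal.Quotient.mkₐ A J).comp v = u := by
  exact H14S4542.main 𝔞 𝔟 𝔠 hB hAC J hJ u hu

end Groth.Agent.S4542
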