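import Groth.Statements.S5782
-- import your own Groth.Agent.* helpers here
import Mathlib
import Groth.Agent.Lib.helper6.PdLoc
import Groth.Agent.Lib.helper6.TorBC3
import Groth.Agent.Lib.helper6.TorReg
import Groth.Agent.S14413

set_option autoImplicit false
universe u
open CategoryTheory
open EGA41

namespace Groth.Agent.S5782

/-- Let A be a Noetherian local ring with maximal ideal m, E a finitely generated A-module of finite
projective dimension, and a ∈ m an element which is A-regular and E-regular. Then E/aE, as a module
over A/aA, has finite projective dimension at most the projective dimension of E over A. -/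
theorem result (A : Type u) [CommRing A] [IsLocalRing A]
    [IsNoetherianRing A] (E : Type u) [AddCommGroup E] [Module A E] [Module.Finite A E]
    (hfin : projectiveDimension (ModuleCat.of A E) ≠ ⊤) (a : A) (ha : a ∈ IsLocalRing.maximalIdeal A)
    (hA : IsSMulRegular A a) (hE : IsSMulRegular E a) :
    projectiveDimension (ModuleCat.of (A ⧸ Ideal.span {a}) (E ⧸ (Ideal.span {a} • (⊤ : Submodule A E)))) ≤
      projectiveDimension (ModuleCat.of A E) := by
  classical
  let A' := A ⧸ Ideal.span {a}
  let e : (ModuleCat.of A' (TensorProduct A A' E)) ≅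
      ModuleCat.of A' (E ⧸ (Ideal.span {a} • (⊤ : Submodule A E))) :=
    (LinearEquiv.extendScalarsOfSurjective (Ideal.Quotient.mk_surjective (I := Ideal.span {a}))
      (TensorProduct.quotTensorEquivQuotSMul E (Ideal.span {a}))).toModuleIso
  rw [← projectiveDimension_eq_of_iso e]
  apply Groth.Agent.Lib.helper6.PdLoc.pd_le_of_forall
  intro n hn
  rcases n with _ | d
  · rw [hasProjectiveDimensionLT_zero_iff_isZero, ModuleCat.isZero_iff_subsingleton] at hn ⊢
    have : Subsingleton E := hn
    change Subsingleton (TensorProduct A A' E)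
    infer_instance
  · obtain ⟨P, hP⟩ := (Groth.Agent.S14413.result A (ModuleCat.of A E) d).mp hn
    have hTor : ∀ q, Limits.IsZero (((Tor (ModuleCat.{u} A) (q + 1)).obj (ModuleCat.of A E)).obj
        (ModuleCat.of A A')) := fun q =>
      Groth.Agent.Lib.helper6.TorReg.isZero_tor_quot_of_regular (ModuleCat.of A E) a hA hE q
    let P' := Groth.Agent.Lib.helper6.TorBC.mapRes' (Groth.Agent.Lib.helper6.TorBC.bc A A')
      (Groth.Agent.Lib.helper6.TorBC.bc_projective A A') P
      (Groth.Agent.Lib.helper6.TorBC.bc_exactAt A A' (ModuleCat.of A E) P hTor)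
    refine (Groth.Agent.S14413.result A' _ d).mpr ⟨P', ?_⟩
    intro i hi
    exact (Groth.Agent.Lib.helper6.TorBC.bc A A').map_isZero (hP i hi)

end Groth.Agent.S5782
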