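import Groth.Statements.S5805
import Groth.Agent.Lib.helper6.TorLocal
import Groth.Agent.Lib.helper6.TorDim
import Groth.Agent.Lib.helper21.TorLib
import Groth.Agent.Lib.helper9.ExtCyclic

set_option autoImplicit false
universe u
open CategoryTheory
open EGA41

namespace Groth.Agent.S5805

/-- finitely generated modules have projective dimension `≤ n` -/
lemma pd_finite (A : Type u) [CommRing A] [IsLocalRing A]
    [IsNoetherianRing A] (n : ℕ)
    (hk : HasProjectiveDimensionLT (ModuleCat.of A (IsLocalRing.ResidueField A)) (n + 1)) (N : Type u)
    [AddCommGroup N] [Module A N] [Module.Finite A N] :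
    HasProjectiveDimensionLT (ModuleCat.of A N) (n + 1) := by
  apply Groth.Agent.Lib.helper6.TorLocal.hasProjectiveDimensionLT_of_isZero_tor n N
  obtain ⟨e⟩ := Groth.Agent.H21.TorLib.nonempty_iso_flip (n + 1)
    (ModuleCat.of A (IsLocalRing.ResidueField A)) (ModuleCat.of A N)
  refine Limits.IsZero.of_iso ?_ e
  exact Groth.Agent.Lib.helper6.TorDim.isZero_tor_of_hasProjectiveDimensionLT _ n _ (n + 1)
    (Nat.lt_succ_self n)

/-- Let A be a Noetherian local ring with residue field k and n ≥ 0. Then the global dimension of A is
at most n as soon as the projective dimension of the A-module k is at most n: every A-module then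
has projective dimension at most n. (The published statement phrases the criterion through the
vanishing of Tor^A_{n+1}(k, k), to which dim.proj_A(k) ≤ n is equivalent for finitely generated
modules over a Noetherian local ring; this row states the projective-dimension form that the
published proof establishes.) -/
theorem result (A : Type u) [CommRing A] [IsLocalRing A]
    [IsNoetherianRing A] (n : ℕ)
    (hk : HasProjectiveDimensionLT (ModuleCat.of A (IsLocalRing.ResidueField A)) (n + 1)) (M : Type u)
    [AddCommGroup M] [Module A M] : HasProjectiveDimensionLT (ModuleCat.of A M) (n + 1) := by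
  have hinj : ∀ X : ModuleCat.{u} A, HasInjectiveDimensionLT X (n + 1) := by
    intro X
    apply Groth.Agent.Lib.helper9.ExtCyclic.hasInjectiveDimensionLT_of_ext_cyclic
    intro I
    have := pd_finite A n hk (A ⧸ I)
    exact HasProjectiveDimensionLT.subsingleton _ (n + 1) (n + 1) le_rfl _
  apply HasProjectiveDimensionLT.mk
  intro i hi Y e
  have := hinj Y
  exact Subsingleton.elim (h := HasInjectiveDimensionLT.subsingleton Y (n + 1) i hi _) _ _

end Groth.Agent.S5805
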