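import Groth.Statements.S0563
import Groth.Agent.S5805
import Groth.Agent.S0559
import Groth.Agent.Lib.helper5.RegLoc3

set_option autoImplicit false
universe u
open CategoryTheory
open CAlg

namespace Groth.Agent.S0563

/-- the residue field of a regular local ring of dimension `d` has projective dimension `≤ d`. -/
lemma pd_residueField (R : Type u) [CommRing R]
    [IsRegularLocalRing R] (d : ℕ) (hd : ringKrullDim R = d) :
    HasProjectiveDimensionLT (ModuleCat.of R (IsLocalRing.ResidueField R)) (d + 1) := by
  have hspan : (IsLocalRing.maximalIdeal R).spanFinrank = d := by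
    have h := IsRegularLocalRing.spanFinrank_maximalIdeal (R := R)
    rw [hd] at h
    exact_mod_cast h
  obtain ⟨x, hx⟩ := Groth.Agent.H5.RegLoc.exists_fin_generators R d hspan
  have hreg := Groth.Agent.S0559.result R d hd x hx
  have hpd := ModuleCat.projectiveDimension_quotient_eq_length.{u} (R := R) (List.ofFn x) hreg
  have hI : Ideal.ofList (List.ofFn x) = IsLocalRing.maximalIdeal R := by
    rw [← hx]
    unfold Ideal.ofList
    congr 1
    ext y
    simp [List.mem_ofFn]
  let e : Shrink.{u} (R ⧸ Ideal.ofList (List.ofFn x)) ≃ₗ[R] IsLocalRing.ResidueField R :=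
    (Shrink.linearEquiv R _).trans (Submodule.quotEquivOfEq _ _ hI)
  rw [projectiveDimension_eq_of_iso e.toModuleIso, List.length_ofFn] at hpd
  rw [← projectiveDimension_lt_iff, hpd]
  exact_mod_cast Nat.lt_succ_self d

/-- Over a regular local ring R of Krull dimension d, every R-module has projective dimension at most d
(encoded as `HasProjectiveDimensionLT _ (d + 1)`). -/
theorem result (R : Type u) [CommRing R]
    [IsRegularLocalRing R] (d : ℕ) (hd : ringKrullDim R = d) (M : Type u) [AddCommGroup M]
    [Module R M] : HasProjectiveDimensionLT (ModuleCat.of R M) (d + 1) := by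
  exact Groth.Agent.S5805.result R d (pd_residueField R d hd) M

end Groth.Agent.S0563
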