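import Groth.Statements.S12711
import Mathlib

set_option autoImplicit false
universe u v
open CategoryTheory
open ArtFun ArtFun.Art

namespace Groth.Agent.S12711

/-- If B together with p₁ : B → A₁ and p₂ : B → A₂ is the fibre product A₁ ×_A A₂ in the category of
Artinian local Λ-algebras with residue field k, and f₂ : A₂ → A is a small extension, then the
projection p₁ : B → A₁ is a small extension. -/
theorem result {Λ : Type u} {k : Type u} [CommRing Λ] [Field k] [Algebra Λ k]
    [IsNoetherianRing Λ] [Module.Finite Λ k]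
    {B A A₁ A₂ : ArtFun.Art Λ k} {p₁ : B ⟶ A₁} {p₂ : B ⟶ A₂} {f₁ : A₁ ⟶ A} {f₂ : A₂ ⟶ A}
    (h : ArtFun.Art.IsFibreProd p₁ p₂ f₁ f₂) (hf₂ : ArtFun.Art.IsSmallExt f₂) :
    ArtFun.Art.IsSmallExt p₁ := by
  obtain ⟨hsurj, hne, hprin, hkill⟩ := hf₂
  have hp₂ker : ∀ b : B, p₁ b = 0 → p₂ b ∈ RingHom.ker f₂.toAlgHom := by
    intro b hb
    rw [RingHom.mem_ker]
    change f₂ (p₂ b) = 0
    rw [← h.w_apply, hb]
    exact map_zero f₁.toAlgHom
  obtain ⟨t, ht⟩ := hprin
  have htker : t ∈ RingHom.ker f₂.toAlgHom := by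
    rw [ht]; exact Submodule.mem_span_singleton_self t
  have htne : t ≠ 0 := by
    intro h0
    apply hne
    rw [ht, h0]
    simp
  have hmt : ∀ c : A₂, c ∈ IsLocalRing.maximalIdeal A₂ → c * t = 0 := by
    intro c hc
    have : c * t ∈ IsLocalRing.maximalIdeal A₂ * RingHom.ker f₂.toAlgHom :=
      Ideal.mul_mem_mul hc htker
    rw [hkill] at this
    exact this
  obtain ⟨b₀, hb₀1, hb₀2⟩ := h.surj 0 t (by
    have h1 : f₂ t = 0 := htker
    rw [h1]
    exact map_zero f₁.toAlgHom)
  refine ⟨?_, ?_, ⟨b₀, ?_⟩, ?_⟩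
  · intro a₁
    obtain ⟨a₂, ha₂⟩ := hsurj (f₁ a₁)
    obtain ⟨b, hb, _⟩ := h.surj a₁ a₂ ha₂.symm
    exact ⟨b, hb⟩
  · intro hbot
    have : b₀ ∈ RingHom.ker p₁.toAlgHom := hb₀1
    rw [hbot] at this
    have hb0 : b₀ = 0 := this
    apply htne
    rw [← hb₀2, hb0]
    exact map_zero p₂.toAlgHom
  · apply le_antisymm
    · intro b hb
      have hb1 : p₁ b = 0 := hb
      have hb2 := hp₂ker b hb1
      rw [ht] at hb2
      obtain ⟨c, hc⟩ := Submodule.mem_span_singleton.mp hb2
      obtain ⟨c', hc'⟩ := B.res_surjective (A₂.res c)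
      have hcc : p₂ c' - c ∈ IsLocalRing.maximalIdeal A₂ := by
        rw [ArtFun.Art.mem_maximalIdeal_iff, map_sub, ArtFun.Art.res_app, hc', sub_self]
      have hct : p₂ c' * t = c * t := by
        have := hmt _ hcc
        rw [sub_mul, sub_eq_zero] at this
        exact this
      have : b = c' * b₀ := by
        apply h.inj
        · rw [hb1]
          change 0 = p₁.toAlgHom (c' * b₀)
          rw [map_mul]
          change 0 = p₁ c' * p₁ b₀
          rw [hb₀1, mul_zero]
        · change p₂ b = p₂.toAlgHom (c' * b₀)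
          rw [map_mul]
          change p₂ b = p₂ c' * p₂ b₀
          rw [hb₀2, hct, ← hc]
          rfl
      rw [this]
      exact Ideal.mul_mem_left _ _ (Submodule.mem_span_singleton_self b₀)
    · rw [Submodule.span_singleton_le_iff_mem]
      exact hb₀1
  · rw [eq_bot_iff, Ideal.mul_le]
    intro x hx b hb
    have hb1 : p₁ b = 0 := hb
    rw [Submodule.mem_bot]
    apply h.inj
    · change p₁.toAlgHom (x * b) = p₁.toAlgHom 0
      rw [map_mul, map_zero]
      change p₁ x * p₁ b = 0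
      rw [hb1, mul_zero]
    · change p₂.toAlgHom (x * b) = p₂.toAlgHom 0
      rw [map_mul, map_zero]
      change p₂ x * p₂ b = 0
      have hx2 : p₂ x ∈ IsLocalRing.maximalIdeal A₂ := by
        rw [ArtFun.Art.mem_maximalIdeal_iff, ArtFun.Art.res_app, ← ArtFun.Art.mem_maximalIdeal_iff]
        exact hx
      have := Ideal.mul_mem_mul hx2 (hp₂ker b hb1)
      rw [hkill] at this
      exact this

end Groth.Agent.S12711
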