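import Groth.Statements.S12713
import Mathlib

set_option autoImplicit false
universe u v
open CategoryTheory
open ArtFun ArtFun.Art

namespace Groth.Agent.S12713

/-- A small extension f : B → A in the category of Artinian local Λ-algebras with residue field k is not
an essential surjection (some morphism g : C → B is non-surjective although the composite C → A is
surjective) if and only if f has a section A → B in the category. -/
theorem result {Λ : Type u} {k : Type u} [CommRing Λ] [Field k] [Algebra Λ k]
    [IsNoetherianRing Λ] [Module.Finite Λ k]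
    {A B : ArtFun.Art Λ k} (f : B ⟶ A) (hf : ArtFun.Art.IsSmallExt f) :
    (∃ (C : ArtFun.Art Λ k) (g : C ⟶ B), Function.Surjective (g ≫ f) ∧ ¬ Function.Surjective g) ↔
      ∃ s : A ⟶ B, s ≫ f = 𝟙 A := by
  obtain ⟨hsurj, hne, ⟨t, ht⟩, hkill⟩ := hf
  have htker : t ∈ RingHom.ker f.toAlgHom := by
    rw [ht]; exact Submodule.mem_span_singleton_self t
  have hmt : ∀ c : B, c ∈ IsLocalRing.maximalIdeal B → c * t = 0 := by
    intro c hc
    have : c * t ∈ IsLocalRing.maximalIdeal B * RingHom.ker f.toAlgHom :=
      Ideal.mul_mem_mul hc htker
    rw [hkill] at this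
    exact this
  constructor
  · rintro ⟨C, g, hgf, hg⟩
    have hgf' : ∀ a : A, ∃ c : C, f (g c) = a := hgf
    -- the image of g meets ker f trivially
    have hinter : ∀ c : C, f (g c) = 0 → g c = 0 := by
      intro c hc
      by_contra hne0
      apply hg
      have hc' : g c ∈ RingHom.ker f.toAlgHom := hc
      rw [ht] at hc'
      obtain ⟨u, hu⟩ := Submodule.mem_span_singleton.mp hc'
      have hu' : u * t = g c := hu
      have hunit : IsUnit u := by
        by_contra hnu
        have : u ∈ IsLocalRing.maximalIdeal B := (IsLocalRing.mem_maximalIdeal u).2 hnu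
        exact hne0 (by rw [← hu', hmt u this])
      obtain ⟨v, hv⟩ := hunit.exists_left_inv
      -- every multiple of t lies in the image of g
      have himg : ∀ b : B, ∃ c' : C, g c' = b * t := by
        intro b
        obtain ⟨c₁, hc₁⟩ := C.res_surjective (B.res (b * v))
        refine ⟨c₁ * c, ?_⟩
        have h1 : g c₁ - b * v ∈ IsLocalRing.maximalIdeal B := by
          rw [ArtFun.Art.mem_maximalIdeal_iff, map_sub, ArtFun.Art.res_app, hc₁, sub_self]
        have h2 := hmt _ h1
        rw [sub_mul, sub_eq_zero] at h2
        have h3 : g (c₁ * c) = g c₁ * g c := map_mul g.toAlgHom c₁ c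
        rw [h3, ← hu', ← mul_assoc, mul_comm (g c₁) u, mul_assoc, h2, mul_assoc, ← mul_assoc u,
          mul_comm u b, mul_assoc, ← mul_assoc u, mul_comm u v, hv, one_mul]
      intro b
      obtain ⟨c₀, hc₀⟩ := hgf' (f b)
      have hd : b - g c₀ ∈ RingHom.ker f.toAlgHom := by
        rw [RingHom.mem_ker, map_sub]
        change f b - f (g c₀) = 0
        rw [hc₀, sub_self]
      rw [ht] at hd
      obtain ⟨w, hw⟩ := Submodule.mem_span_singleton.mp hd
      obtain ⟨c₂, hc₂⟩ := himg w
      refine ⟨c₀ + c₂, ?_⟩
      have h4 : g (c₀ + c₂) = g c₀ + g c₂ := map_add g.toAlgHom c₀ c₂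
      rw [h4, hc₂]
      have hw' : w * t = b - g c₀ := hw
      rw [hw']
      ring
    choose σ hσ using hgf'
    have key : ∀ (c : C) (a : A), f (g c) = a → g c = g (σ a) := by
      intro c a hca
      have h5 : g (c - σ a) = g c - g (σ a) := map_sub g.toAlgHom c (σ a)
      have h6 : f (g (c - σ a)) = 0 := by
        rw [h5]
        have : f (g c - g (σ a)) = f (g c) - f (g (σ a)) := map_sub f.toAlgHom _ _
        rw [this, hca, hσ, sub_self]
      have := hinter _ h6
      rw [h5, sub_eq_zero] at this
      exact this
    let sA : A →ₐ[Λ] B :=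
      { toFun := fun a => g (σ a)
        map_one' := by
          rw [← key 1 1]
          · exact map_one g.toAlgHom
          · have : g (1 : C) = 1 := map_one g.toAlgHom
            rw [this]; exact map_one f.toAlgHom
        map_mul' := fun x y => by
          rw [← key (σ x * σ y) (x * y)]
          · exact map_mul g.toAlgHom _ _
          · have : g (σ x * σ y) = g (σ x) * g (σ y) := map_mul g.toAlgHom _ _
            rw [this]
            have : f (g (σ x) * g (σ y)) = f (g (σ x)) * f (g (σ y)) := map_mul f.toAlgHom _ _
            rw [this, hσ, hσ]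
        map_zero' := by
          rw [← key 0 0]
          · exact map_zero g.toAlgHom
          · have : g (0 : C) = 0 := map_zero g.toAlgHom
            rw [this]; exact map_zero f.toAlgHom
        map_add' := fun x y => by
          rw [← key (σ x + σ y) (x + y)]
          · exact map_add g.toAlgHom _ _
          · have : g (σ x + σ y) = g (σ x) + g (σ y) := map_add g.toAlgHom _ _
            rw [this]
            have : f (g (σ x) + g (σ y)) = f (g (σ x)) + f (g (σ y)) := map_add f.toAlgHom _ _
            rw [this, hσ, hσ]
        commutes' := fun r => by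
          rw [← key (algebraMap Λ C r) (algebraMap Λ A r)]
          · exact g.toAlgHom.commutes r
          · have : g (algebraMap Λ C r) = algebraMap Λ B r := g.toAlgHom.commutes r
            rw [this]; exact f.toAlgHom.commutes r }
    refine ⟨⟨sA, ?_⟩, ?_⟩
    · apply AlgHom.ext
      intro a
      change B.res (g (σ a)) = A.res a
      rw [← ArtFun.Art.res_app f, hσ]
    · apply ArtFun.Art.hom_ext
      apply AlgHom.ext
      intro a
      exact hσ a
  · rintro ⟨s, hs⟩
    refine ⟨A, s, ?_, ?_⟩
    · rw [hs]
      exact Function.surjective_id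
    · intro hsurj'
      apply hne
      rw [eq_bot_iff]
      intro b hb
      obtain ⟨a, rfl⟩ := hsurj' b
      have : f (s a) = a := by
        change (s ≫ f) a = a
        rw [hs]; rfl
      have hb' : f (s a) = 0 := hb
      rw [this] at hb'
      rw [hb']
      rw [Submodule.mem_bot]
      exact map_zero s.toAlgHom

end Groth.Agent.S12713
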