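import Groth.Statements.S12734
import Groth.Agent.Lib.helper19.ArtGlue
import Groth.Agent.Lib.helper19.ArtCut2
import Groth.Agent.S12730

set_option autoImplicit false
universe u v
open CategoryTheory
open ArtFun

namespace Groth.Agent.S12734

/-- A functor F on Artinian local Λ-algebras with residue field k is prorepresentable if and only if (a)
F(k) is a point and F satisfies (RS): F(A₁ ×_A A₂) → F(A₁) ×_{F(A)} F(A₂) is bijective whenever A₂ →
A is surjective; (b) its tangent space is finite-dimensional; and (c) the map from morphisms k →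
k[ε] of the category (the Λ-derivations of k) to the tangent space, σ ↦ F(σ)(x₀), is injective.
Condition (c) is empty when k is separable over the image of Λ in k. -/
theorem result {Λ : Type u} {k : Type u} [CommRing Λ] [Field k] [Algebra Λ k]
    [IsNoetherianRing Λ] [Module.Finite Λ k]
    (F : ArtFun.Art Λ k ⥤ Type v) [ArtFun.TangentStr F] :
    ArtFun.IsProrepresentable F ↔
      ((ArtFun.H0 F ∧ (∀ ⦃B A A' A'' : ArtFun.Art Λ k⦄ (p' : B ⟶ A') (p'' : B ⟶ A'') (f' : A' ⟶ A) (f'' : A'' ⟶ A)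
        (h : ArtFun.Art.IsFibreProd p' p'' f' f''), Function.Surjective f'' → Function.Bijective (ArtFun.cmp F h))) ∧
        ArtFun.Hfin F ∧
        ∀ x₀ : F.obj (ArtFun.Art.base Λ k),
          Function.Injective (fun σ : ArtFun.Art.base Λ k ⟶ ArtFun.Art.dual Λ k => F.map σ x₀)) := by
  constructor
  · intro hP
    obtain ⟨h0, hL, h3⟩ := Groth.Agent.Lib.helper19.conditions_of_isProrepresentable hP
    refine ⟨⟨h0, fun B A A' A'' p' p'' f' f'' h _ => hL p' p'' f' f'' h⟩, h3, ?_⟩
    obtain ⟨⟨R, ξ, hξ⟩⟩ := hP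
    intro x₀ σ₁ σ₂ hσ
    obtain ⟨φ₀, rfl⟩ := (hξ _).2 x₀
    have hσ' : F.map σ₁ (ξ.app _ φ₀) = F.map σ₂ (ξ.app _ φ₀) := hσ
    rw [← ξ.natural, ← ξ.natural] at hσ'
    have hmap := (hξ _).1 hσ'
    have hφ₀ : ∀ a, φ₀.1 a = R.res a := fun a => DFunLike.congr_fun φ₀.2 a
    apply ArtFun.Art.hom_ext
    apply AlgHom.ext
    intro c
    obtain ⟨a, rfl⟩ := R.res_surjective c
    have := DFunLike.congr_fun (congrArg Subtype.val hmap) a
    change σ₁ (φ₀.1 a) = σ₂ (φ₀.1 a) at this
    rw [hφ₀] at this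
    exact this
  · rintro ⟨⟨h0, hRS⟩, h3, hc⟩
    have h1 : ArtFun.S1 F := fun B A A' A'' p' p'' f' f'' h hf => (hRS p' p'' f' f'' h hf).2
    have h2 : ArtFun.Heps F := fun B A' p' p'' h =>
      hRS p' p'' _ _ h (ArtFun.Art.dual Λ k).res_surjective
    obtain ⟨V⟩ := Groth.Agent.S12730.result F h0 h1 h2 h3
    letI : Algebra V.ring.carrier k := V.ring.res.toRingHom.toAlgebra
    haveI : IsScalarTower Λ V.ring.carrier k :=
      IsScalarTower.of_algebraMap_eq (fun r => (V.ring.res.commutes r).symm)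
    have hresk : ∀ a, algebraMap V.ring.carrier k a = V.ring.res a := fun a => rfl
    obtain ⟨⟨R, ξ, hξ⟩⟩ := Groth.Agent.Lib.helper19.hasHull_of_isVersal_aux' V.ring hresk V.family
      h0 h1 h2 (Groth.Agent.Lib.helper19.tanCompat_of_tangentStr V.ring hresk V.family)
      (Groth.Agent.Lib.helper19.tanSep_of_injective V.ring hresk V.family hc) _ ⊥ bot_le
      (Groth.Agent.Lib.helper19.isVersal_alongQuot_bot V.ring V.family V.versal) rfl
    exact ⟨⟨R, ξ, Groth.Agent.Lib.helper19.isUniversal_of_isMiniversal_of_rs h0 hRS ξ hξ⟩⟩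

end Groth.Agent.S12734
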