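import Groth.Statements.S0560
import Mathlib
import Groth.Agent.Lib.helper5.RegLoc

set_option autoImplicit false
universe u
open CAlg

namespace Groth.Agent.S0560

/-- Regularity of a Noetherian local ring can be checked after dividing out one nonzerodivisor lying in
the maximal ideal: if that quotient is a regular local ring, so is the original ring. -/
theorem result (R : Type u) [CommRing R] [IsLocalRing R]
    [IsNoetherianRing R] (x : R) (hx : x ∈ IsLocalRing.maximalIdeal R) (hreg : x ∈ nonZeroDivisors R)
    [IsRegularLocalRing (R ⧸ Ideal.span ({x} : Set R))] : IsRegularLocalRing R := by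
  have hf : Function.Surjective (Ideal.Quotient.mk (Ideal.span ({x} : Set R))) :=
    Ideal.Quotient.mk_surjective
  have h1 := Groth.Agent.H5.RegLoc.spanFinrank_le_succ (Ideal.Quotient.mk (Ideal.span ({x} : Set R)))
    hf x Ideal.mk_ker
  have h2 := ringKrullDim_quotient_succ_le_of_nonZeroDivisor hreg
  have h3 : ((IsLocalRing.maximalIdeal (R ⧸ Ideal.span ({x} : Set R))).spanFinrank : WithBot ℕ∞) =
      ringKrullDim (R ⧸ Ideal.span ({x} : Set R)) :=
    IsRegularLocalRing.spanFinrank_maximalIdeal
  apply IsRegularLocalRing.of_spanFinrank_maximalIdeal_le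
  refine le_trans ?_ h2
  rw [← h3]
  exact_mod_cast h1

end Groth.Agent.S0560
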