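import Groth.Statements.S0547
import Mathlib
import Groth.Agent.S0543

set_option autoImplicit false
universe u
open CAlg

namespace Groth.Agent.S0547



/-- The completion of a Noetherian local ring at its maximal ideal has the same Krull dimension as the
ring. -/
theorem result (A : Type u) [CommRing A] [IsLocalRing A]
    [IsNoetherianRing A] :
    ringKrullDim (AdicCompletion (IsLocalRing.maximalIdeal A) A) = ringKrullDim A := by
  set Ah := AdicCompletion (IsLocalRing.maximalIdeal A) A with hAh
  haveI : IsNoetherianRing Ah := Groth.Agent.S0543.result A _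
  haveI : (IsLocalRing.maximalIdeal Ah).LiesOver (IsLocalRing.maximalIdeal A) :=
    ⟨(IsLocalRing.maximalIdeal_comap (algebraMap A Ah)).symm⟩
  have h := Ideal.height_eq_height_add_of_liesOver_of_hasGoingDown (R := A) (S := Ah)
    (IsLocalRing.maximalIdeal A) (IsLocalRing.maximalIdeal Ah)
  have h0 : (Ideal.map (Ideal.Quotient.mk (Ideal.map (algebraMap A Ah) (IsLocalRing.maximalIdeal A)))
      (IsLocalRing.maximalIdeal Ah)) = ⊥ := by
    rw [Ideal.map_eq_bot_iff_le_ker, Ideal.mk_ker, AdicCompletion.maximalIdeal_eq_map]
  rw [h0] at h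
  have hbot : (⊥ : Ideal (Ah ⧸ Ideal.map (algebraMap A Ah) (IsLocalRing.maximalIdeal A))).height = 0 := by
    haveI : (Ideal.map (algebraMap A Ah) (IsLocalRing.maximalIdeal A)).IsMaximal := by
      rw [← AdicCompletion.maximalIdeal_eq_map]; infer_instance
    letI := Ideal.Quotient.field (Ideal.map (algebraMap A Ah) (IsLocalRing.maximalIdeal A))
    exact Ideal.height_bot
  rw [hbot, add_zero] at h
  rw [← IsLocalRing.maximalIdeal_height_eq_ringKrullDim, ← IsLocalRing.maximalIdeal_height_eq_ringKrullDim, h]

end Groth.Agent.S0547
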