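import Groth.Statements.S2453
import Mathlib
import Groth.Agent.S2451
import Groth.Agent.S0548
import Groth.Agent.S9318
import Groth.Agent.Lib.helper14.FSRegular
import Groth.Agent.Lib.helper14.AdicFSPowerSeries


set_option autoImplicit false
universe u
open EGA41

namespace H14S2453

open IsLocalRing MvPowerSeries

/-- ring isomorphism of power series rings induced by an isomorphism of coefficient rings -/
noncomputable def mapEquiv {K K' : Type u} [CommRing K] [CommRing K'] (n : ℕ) (g : K ≃+* K') :
    MvPowerSeries (Fin n) K ≃+* MvPowerSeries (Fin n) K' :=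
  RingEquiv.ofRingHom (MvPowerSeries.map (g : K →+* K')) (MvPowerSeries.map (g.symm : K' →+* K))
    (by
      ext x m
      simp)
    (by
      ext x m
      simp)

theorem mapEquiv_C {K K' : Type u} [CommRing K] [CommRing K'] (n : ℕ) (g : K ≃+* K') (a : K) :
    mapEquiv n g (MvPowerSeries.C a) = MvPowerSeries.C (g a) := by
  change MvPowerSeries.map (g : K →+* K') (MvPowerSeries.C a) = _
  rw [MvPowerSeries.map_C]
  rfl

theorem main {k A : Type u} [Field k] [CommRing A] [IsLocalRing A] [IsNoetherianRing A]
    [Algebra k A] [Algebra.IsGeometricallyReduced k (ResidueField A)] :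
    [CAlgX.IsAdicFormallySmooth k A (maximalIdeal A),
     ∃ (n : ℕ) (e : AdicCompletion (maximalIdeal A) A ≃+* MvPowerSeries (Fin n) (ResidueField A)),
       ∀ x : k, e (algebraMap A (AdicCompletion (maximalIdeal A) A) (algebraMap k A x)) =
         algebraMap (ResidueField A) (MvPowerSeries (Fin n) (ResidueField A)) (algebraMap k (ResidueField A) x),
     ∃ n : ℕ, Nonempty (AdicCompletion (maximalIdeal A) A ≃+* MvPowerSeries (Fin n) (ResidueField A)),
     IsRegularLocalRing A].TFAE := by
  classical
  haveI : IsNoetherianRing (AdicCompletion (maximalIdeal A) A) := Groth.Agent.S0543.result A _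
  have fg : (maximalIdeal A).FG := IsNoetherian.noetherian _
  have hbij : Function.Bijective
      (ResidueField.map (algebraMap A (AdicCompletion (maximalIdeal A) A))) :=
    AdicCompletion.residueField_map_bijective A
  let g : ResidueField A ≃+* ResidueField (AdicCompletion (maximalIdeal A) A) :=
    RingEquiv.ofBijective _ hbij
  have hg : ∀ x : k, g (algebraMap k (ResidueField A) x) =
      algebraMap k (ResidueField (AdicCompletion (maximalIdeal A) A)) x := by
    intro x
    change ResidueField.map (algebraMap A (AdicCompletion (maximalIdeal A) A))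
      (residue A (algebraMap k A x)) = _
    rw [ResidueField.map_residue, ← IsScalarTower.algebraMap_apply]
    rfl
  haveI : Algebra.IsGeometricallyReduced k (ResidueField (AdicCompletion (maximalIdeal A) A)) := by
    let gk : ResidueField (AdicCompletion (maximalIdeal A) A) →ₐ[k] ResidueField A :=
      { (g.symm : ResidueField (AdicCompletion (maximalIdeal A) A) →+* ResidueField A) with
        commutes' := fun x => by
          change g.symm _ = _
          rw [RingEquiv.symm_apply_eq, hg] }
    exact Algebra.IsGeometricallyReduced.of_injective gk g.symm.injective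
  have conv : (IsRegularLocalRing (AdicCompletion (maximalIdeal A) A) ∨
      CAlgX.IsAdicFormallySmooth k (AdicCompletion (maximalIdeal A) A)
        (maximalIdeal (AdicCompletion (maximalIdeal A) A))) →
      ∃ (n : ℕ) (e : AdicCompletion (maximalIdeal A) A ≃+*
          MvPowerSeries (Fin n) (ResidueField A)),
       ∀ x : k, e (algebraMap A (AdicCompletion (maximalIdeal A) A) (algebraMap k A x)) =
         algebraMap (ResidueField A) (MvPowerSeries (Fin n) (ResidueField A))
           (algebraMap k (ResidueField A) x) := by
    intro h
    obtain ⟨n, e, he⟩ := H14.FSReg.exists_equiv h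
    refine ⟨n, e.trans (mapEquiv n g.symm), fun x => ?_⟩
    rw [← IsScalarTower.algebraMap_apply k A (AdicCompletion (maximalIdeal A) A)]
    rw [RingEquiv.trans_apply, he, mapEquiv_C, ← hg, RingEquiv.symm_apply_apply]
    rw [MvPowerSeries.algebraMap_apply, Algebra.algebraMap_self, RingHom.id_apply]
  tfae_have 1 → 2 := by
    intro h1
    apply conv
    right
    have := (Groth.Agent.S9318.result (R := k) (maximalIdeal A) fg).mp h1
    rwa [← AdicCompletion.maximalIdeal_eq_map] at this
  tfae_have 2 → 3 := by
    rintro ⟨n, e, -⟩
    exact ⟨n, ⟨e⟩⟩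
  tfae_have 3 → 4 := by
    rintro ⟨n, ⟨e⟩⟩
    rw [Groth.Agent.S0548.result]
    haveI := Groth.Agent.Lib.helper19.isRegularLocalRing_mvPowerSeries (ResidueField A) n
    exact IsRegularLocalRing.of_ringEquiv e.symm
  tfae_have 4 → 2 := by
    intro h4
    apply conv
    left
    exact (Groth.Agent.S0548.result A).mp h4
  tfae_have 2 → 1 := by
    rintro ⟨n, e, he⟩
    haveI : Algebra.FormallySmooth k (ResidueField A) :=
      Groth.Agent.S2451.result.mpr inferInstance
    have h1 : CAlgX.IsAdicFormallySmooth k (MvPowerSeries (Fin n) (ResidueField A))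
        (maximalIdeal (MvPowerSeries (Fin n) (ResidueField A))) :=
      H14.AFS.mvPowerSeries (Fin n) _ (fun i => H14.AFS.X_mem_maximalIdeal i)
    have h2 : CAlgX.IsAdicFormallySmooth k (AdicCompletion (maximalIdeal A) A)
        (maximalIdeal (AdicCompletion (maximalIdeal A) A)) := by
      refine H14.AFS.of_ringEquiv e ?_ _ _ ?_ h1
      · intro r
        rw [IsScalarTower.algebraMap_apply k A (AdicCompletion (maximalIdeal A) A), he,
          MvPowerSeries.algebraMap_apply, MvPowerSeries.algebraMap_apply,
          Algebra.algebraMap_self, RingHom.id_apply]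
      · intro y hy
        rw [mem_maximalIdeal, mem_nonunits_iff] at hy ⊢
        intro hu
        apply hy
        have := hu.map e
        rwa [RingEquiv.apply_symm_apply] at this
    apply (Groth.Agent.S9318.result (R := k) (maximalIdeal A) fg).mpr
    rwa [← AdicCompletion.maximalIdeal_eq_map]
  tfae_finish

end H14S2453

namespace Groth.Agent.S2453

open IsLocalRing in
/-- Let k be a field and A a Noetherian local k-algebra with maximal ideal 𝔪 and residue field K
separable over k; give A the 𝔪-adic topology (k discrete). The following are equivalent: (a) A is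
formally smooth over k; (b) the 𝔪-adic completion of A is isomorphic to some K[[T_1, …, T_n]] by an
isomorphism carrying the image of k in A to the image of k under k → K → K[[T]]; (b') the completion
is isomorphic as a ring to some K[[T_1, …, T_n]]; (c) A is a regular local ring. -/
theorem result {k A : Type u} [Field k] [CommRing A] [IsLocalRing A] [IsNoetherianRing A] [Algebra k A]
    [Algebra.IsGeometricallyReduced k (ResidueField A)] :
    [CAlgX.IsAdicFormallySmooth k A (maximalIdeal A),
     ∃ (n : ℕ) (e : AdicCompletion (maximalIdeal A) A ≃+* MvPowerSeries (Fin n) (ResidueField A)),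
       ∀ x : k, e (algebraMap A (AdicCompletion (maximalIdeal A) A) (algebraMap k A x)) =
         algebraMap (ResidueField A) (MvPowerSeries (Fin n) (ResidueField A)) (algebraMap k (ResidueField A) x),
     ∃ n : ℕ, Nonempty (AdicCompletion (maximalIdeal A) A ≃+* MvPowerSeries (Fin n) (ResidueField A)),
     IsRegularLocalRing A].TFAE := by
  exact H14S2453.main

end Groth.Agent.S2453
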