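import Groth.Statements.S2456
import Mathlib
import Groth.Agent.Lib.helper14.CohenLift
import Groth.Agent.S2462


set_option autoImplicit false
universe u
open EGA41

namespace H14S2456

open IsLocalRing H14.CohenLift

theorem main {W C : Type u} [CommRing W] [IsLocalRing W] (hW : EGA41.IsCohenRingEGA W)
    [CommRing C] [IsLocalRing C] [IsNoetherianRing C] [IsAdicComplete (maximalIdeal C) C]
    (J : Ideal C) (hJ : J ≠ ⊤) [IsLocalRing (C ⧸ J)] (u : W →+* C ⧸ J) [IsLocalHom u] :
    ∃ v : W →+* C, IsLocalHom v ∧ (Ideal.Quotient.mk J).comp v = u := by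
  classical
  letI algW : Algebra (ULift.{u} ℤ) W :=
    ((Int.castRingHom W).comp (ULift.ringEquiv : ULift.{u} ℤ ≃+* ℤ).toRingHom).toAlgebra
  letI algC : Algebra (ULift.{u} ℤ) C :=
    ((Int.castRingHom C).comp (ULift.ringEquiv : ULift.{u} ℤ ≃+* ℤ).toRingHom).toAlgebra
  let ua : W →ₐ[ULift.{u} ℤ] C ⧸ J :=
    { u with
      commutes' := fun a => RingHom.congr_fun
        (ulift_int_ringHom_ext _ (u.comp (algebraMap _ W)) (algebraMap _ (C ⧸ J))) a }
  have hua : ∀ x, ua x = u x := fun x => rfl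
  have hmaxle : maximalIdeal (C ⧸ J) ≤ (maximalIdeal C).map (Ideal.Quotient.mk J) := by
    intro x hx
    obtain ⟨b, rfl⟩ := Ideal.Quotient.mk_surjective x
    apply Ideal.mem_map_of_mem
    rw [mem_maximalIdeal, mem_nonunits_iff] at hx ⊢
    exact fun hb => hx (hb.map _)
  have hu𝔪 : (maximalIdeal W).map u ≤ maximalIdeal (C ⧸ J) := IsLocalRing.map_maximalIdeal_le u
  have hA : (⊥ : Ideal (ULift.{u} ℤ)).map (algebraMap (ULift.{u} ℤ) C) ≤ maximalIdeal C := by
    rw [Ideal.map_bot]; exact bot_le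
  have hB : EGA41.IsFormallySmoothAdic (ULift.{u} ℤ) ⊥ W (maximalIdeal W) := by
    rcases hW with ⟨hfield, hchar⟩ | hcohen
    · haveI := hchar
      have h0 : maximalIdeal W = ⊥ := IsLocalRing.isField_iff_maximalIdeal_eq.mp hfield
      rw [h0]
      exact field_fs W hfield
    · obtain ⟨hdom, hdvr, -, p, hp, hm⟩ := hcohen
      haveI := hdom
      haveI := hdvr
      exact cohen_fs (ULift.{u} ℤ) ulift_int_ringHom_ext W p hp hm
  obtain ⟨v, hv1, hv2⟩ := Groth.Agent.S2462.result (⊥ : Ideal (ULift.{u} ℤ)) (maximalIdeal W) hB hA J hJ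
    ua (hu𝔪.trans hmaxle)
  refine ⟨v.toRingHom, ((IsLocalRing.local_hom_TFAE v.toRingHom).out 2 0).mp hv1, ?_⟩
  ext x
  have := congrArg (fun φ => φ x) hv2
  rw [← hua]
  simpa using this

end H14S2456

namespace Groth.Agent.S2456

open IsLocalRing in
/-- Let W be a Cohen ring (a field of characteristic zero, or a complete discrete valuation ring with
maximal ideal generated by the residue characteristic), C a complete Noetherian local ring and J ≠ C
an ideal of C. Then every local homomorphism u : W → C/J is induced by a local homomorphism v : W →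
C. -/
theorem result {W C : Type u} [CommRing W] [IsLocalRing W] (hW : EGA41.IsCohenRingEGA W)
    [CommRing C] [IsLocalRing C] [IsNoetherianRing C] [IsAdicComplete (maximalIdeal C) C]
    (J : Ideal C) (hJ : J ≠ ⊤) [IsLocalRing (C ⧸ J)] (u : W →+* C ⧸ J) [IsLocalHom u] :
    ∃ v : W →+* C, IsLocalHom v ∧ (Ideal.Quotient.mk J).comp v = u := by
  exact H14S2456.main hW J hJ u

end Groth.Agent.S2456
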