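import Groth.Statements.S9642
import Mathlib

set_option autoImplicit false
universe u
open CAlg

namespace Groth.Agent.S9642

/-- In the general form stated there: let R → S be a ring map inducing an open map Spec(S) → Spec(R),
with Spec(R) irreducible, such that for a dense set of primes p of R the fibre ring κ(p) ⊗_R S has
irreducible spectrum. Then Spec(S) is irreducible. The flat and finitely presented case is the
special case in which the map on spectra is open by fppf-openness. -/
theorem result {R S : Type u} [CommRing R] [CommRing S] [Algebra R S]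
    (hopen : IsOpenMap (PrimeSpectrum.comap (algebraMap R S))) [IrreducibleSpace (PrimeSpectrum R)]
    (D : Set (PrimeSpectrum R)) (hD : Dense D) (hfib : ∀ p ∈ D, IrreducibleSpace (PrimeSpectrum (p.asIdeal.Fiber S))) :
    IrreducibleSpace (PrimeSpectrum S) := by
  have hpre : ∀ p ∈ D, IsPreirreducible (PrimeSpectrum.comap (algebraMap R S) ⁻¹' {p}) := by
    intro p hp
    haveI := hfib p hp
    rw [isPreirreducible_iff_preirreducibleSpace]
    exact (PrimeSpectrum.preimageHomeomorphFiber R S p).isOpenEmbedding.preirreducibleSpace
  refine @IrreducibleSpace.mk _ _ ⟨?_⟩ ?_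
  · rw [← Set.preimage_univ (f := PrimeSpectrum.comap (algebraMap R S))]
    refine IsPreirreducible.preimage_of_dense_isPreirreducible_fiber
      (PreirreducibleSpace.isPreirreducible_univ) _ hopen ?_
    intro x _
    rw [Set.univ_inter]
    exact closure_mono (fun p hp => hpre p hp) (hD x)
  · obtain ⟨p, hp⟩ := hD.nonempty
    haveI := hfib p hp
    obtain ⟨q⟩ := (inferInstance : Nonempty (PrimeSpectrum (p.asIdeal.Fiber S)))
    exact ⟨((PrimeSpectrum.preimageHomeomorphFiber R S p).symm q).1⟩

end Groth.Agent.S9642
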