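import Groth.Statements.S0501
import Groth.Agent.Lib.lead.HenselLocal
-- import your own Groth.Agent.* helpers here

set_option autoImplicit false
universe u
open Hensel

namespace Groth.Agent.S0501

/-- Let `S` be a henselian local ring over a ring `R`, let `A` be an étale `R`-algebra with a prime `q`,
and let `τ` be a ring map from the residue field of `q` to the residue field of `S` compatible with
the two structure maps from `R`. Then there is exactly one `R`-algebra map from `A` to `S` pulling
the maximal ideal back to `q` and inducing `τ`. -/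
theorem result (R : Type u) [CommRing R]
    (S : Type u) [CommRing S] [HenselianLocalRing S] [Algebra R S]
    (A : Type u) [CommRing A] [Algebra R A] [Algebra.Etale R A] (q : Ideal A) [q.IsPrime]
    (τ : q.ResidueField →+* IsLocalRing.ResidueField S)
    (hτ : τ.comp (algebraMap R q.ResidueField) = (IsLocalRing.residue S).comp (algebraMap R S)) :
    ∃! f : A →ₐ[R] S, Ideal.comap f.toRingHom (IsLocalRing.maximalIdeal S) = q ∧
      ∀ a : A, IsLocalRing.residue S (f a) = τ (algebraMap A q.ResidueField a) := by
  classical
  -- the residue-field point as an `R`-algebra map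
  let ψ' : A →ₐ[R] IsLocalRing.ResidueField S :=
    { toRingHom := τ.comp (algebraMap A q.ResidueField)
      commutes' := fun r => by
        have h1 := RingHom.congr_fun hτ r
        simp only [RingHom.comp_apply] at h1
        change τ (algebraMap A q.ResidueField (algebraMap R A r)) = _
        rw [← IsScalarTower.algebraMap_apply R A q.ResidueField, h1]
        rfl }
  let ψS : TensorProduct R S A →ₐ[S] IsLocalRing.ResidueField S :=
    Algebra.TensorProduct.lift (Algebra.ofId S (IsLocalRing.ResidueField S)) ψ'
      (fun _ _ => Commute.all _ _)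
  obtain ⟨s, hs⟩ := Groth.Agent.Lib.lead.HenselLocal.etale_exists_section (R := S)
    (TensorProduct R S A) ψS
  let f : A →ₐ[R] S := (s.restrictScalars R).comp Algebra.TensorProduct.includeRight
  have hf : ∀ a : A, IsLocalRing.residue S (f a) = τ (algebraMap A q.ResidueField a) := by
    intro a
    have h1 := AlgHom.congr_fun hs ((1 : S) ⊗ₜ[R] a)
    simp only [AlgHom.comp_apply] at h1
    change IsLocalRing.residue S (s ((1 : S) ⊗ₜ[R] a)) = _
    have h2 : ψS ((1 : S) ⊗ₜ[R] a) = τ (algebraMap A q.ResidueField a) := by
      simp [ψS, ψ']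
    rw [← h2, ← h1]
    rfl
  have hcomap : ∀ g : A →ₐ[R] S, (∀ a : A, IsLocalRing.residue S (g a) = τ (algebraMap A q.ResidueField a)) →
      Ideal.comap g.toRingHom (IsLocalRing.maximalIdeal S) = q := by
    intro g hg
    ext a
    rw [Ideal.mem_comap]
    change g a ∈ IsLocalRing.maximalIdeal S ↔ _
    rw [← Ideal.Quotient.eq_zero_iff_mem]
    change IsLocalRing.residue S (g a) = 0 ↔ _
    rw [hg a, map_eq_zero_iff τ τ.injective, Ideal.algebraMap_residueField_eq_zero]
  refine ⟨f, ⟨hcomap f hf, hf⟩, ?_⟩
  rintro g ⟨-, hg⟩
  apply Groth.Agent.Lib.lead.HenselLocal.unramified_algHom_ext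
  intro a
  rw [hg a, hf a]

end Groth.Agent.S0501
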