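import Mathlib
import Groth.Statements.S17977

set_option autoImplicit false
universe u
open EGA4loc

namespace Groth.Agent.S17977

theorem result (A : Type u) [CommRing A] [IsLocalRing A]
    (B : Type u) [CommRing B] [IsLocalRing B] [Algebra A B] (hB : EGA4loc.IsEssentiallyEtale A B)
    (C : Type u) [CommRing C] [IsLocalRing C] [Algebra A C] [IsLocalHom (algebraMap A C)]
    (φ : B →ₐ[A] C) : IsLocalHom φ.toRingHom := by
  obtain ⟨E, _, _, q, hq, hEt, hcomap, ⟨e⟩⟩ := hB
  -- ψ : E_q → C
  let ψ : Localization.AtPrime q →ₐ[A] C := φ.comp (e.symm : Localization.AtPrime q →ₐ[A] B)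
  have hQF : Algebra.QuasiFinite A (Localization.AtPrime q) := inferInstance
  set P : Ideal (Localization.AtPrime q) := (IsLocalRing.maximalIdeal C).comap ψ.toRingHom with hP
  have hPprime : P.IsPrime := Ideal.comap_isPrime _ _
  have hPle : P ≤ IsLocalRing.maximalIdeal (Localization.AtPrime q) :=
    IsLocalRing.le_maximalIdeal hPprime.ne_top
  have hPunder : P.under A = IsLocalRing.maximalIdeal A := by
    rw [Ideal.under_def, hP, Ideal.comap_comap]
    have : ψ.toRingHom.comp (algebraMap A (Localization.AtPrime q)) = algebraMap A C := by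
      ext a; simp
    rw [this]
    have hloc : IsLocalHom (algebraMap A C) := inferInstance
    exact ((IsLocalRing.local_hom_TFAE (algebraMap A C)).out 0 4).mp hloc
  have hQunder : (IsLocalRing.maximalIdeal (Localization.AtPrime q)).under A =
      IsLocalRing.maximalIdeal A := by
    have h1 : Ideal.comap (algebraMap E (Localization.AtPrime q))
        (IsLocalRing.maximalIdeal (Localization.AtPrime q)) = q :=
      IsLocalization.AtPrime.under_maximalIdeal (Localization.AtPrime q) q
    rw [Ideal.under_def, IsScalarTower.algebraMap_eq A E (Localization.AtPrime q),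
      ← Ideal.comap_comap, h1, hcomap]
  have hPQ : P = IsLocalRing.maximalIdeal (Localization.AtPrime q) :=
    Algebra.QuasiFinite.eq_of_le_of_under_eq (R := A) P _ hPle (hPunder.trans hQunder.symm)
  have hψ : IsLocalHom ψ.toRingHom :=
    ((IsLocalRing.local_hom_TFAE ψ.toRingHom).out 0 4).mpr hPQ
  constructor
  intro b hb
  have h1 : IsUnit (ψ.toRingHom (e b)) := by
    have : ψ.toRingHom (e b) = φ.toRingHom b := by simp [ψ]
    rw [this]; exact hb
  have h2 : IsUnit (e b) := hψ.map_nonunit _ h1
  have := h2.map e.symm
  simpa using this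

end Groth.Agent.S17977
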