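import Mathlib
import Groth.Statements.S17974

set_option autoImplicit false
universe u
open Unram

namespace Groth.Agent.S17974

open scoped TensorProduct

/-- Core lemma: for two algebra maps out of an unramified algebra there is an element `w` killing
all differences `v s - u s` and congruent to `1` modulo every ideal modulo which `u` and `v` agree. -/
lemma core {A B C : Type*} [CommRing A] [CommRing B] [CommRing C] [Algebra A B] [Algebra A C]
    [Algebra.FormallyUnramified A B] [Algebra.EssFiniteType A B] (u v : B →ₐ[A] C) :
    ∃ w : C, (∀ s : B, (v s - u s) * w = 0) ∧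
      ∀ I : Ideal C, (∀ b : B, u b - v b ∈ I) → w - 1 ∈ I := by
  refine ⟨Algebra.TensorProduct.productMap u v (Algebra.FormallyUnramified.elem A B), ?_, ?_⟩
  · intro s
    have h := congrArg (Algebra.TensorProduct.productMap u v)
      (Algebra.FormallyUnramified.one_tmul_sub_tmul_one_mul_elem (R := A) (S := B) s)
    rw [map_mul, map_sub, map_zero] at h
    simpa using h
  · intro I hI
    have key : ∀ t : B ⊗[A] B,
        Algebra.TensorProduct.productMap u v t - u (Algebra.TensorProduct.lmul' A t) ∈ I := by
      intro t
      induction t using TensorProduct.induction_on with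
      | zero => simp
      | tmul a b =>
        have : Algebra.TensorProduct.productMap u v (a ⊗ₜ[A] b) - u (Algebra.TensorProduct.lmul' A (a ⊗ₜ[A] b))
            = - (u a * (u b - v b)) := by
          simp only [Algebra.TensorProduct.productMap_apply_tmul, Algebra.TensorProduct.lmul'_apply_tmul,
            map_mul]
          ring
        rw [this]
        exact I.neg_mem (I.mul_mem_left _ (hI b))
      | add x y hx hy =>
        have : Algebra.TensorProduct.productMap u v (x + y) - u (Algebra.TensorProduct.lmul' A (x + y))
            = (Algebra.TensorProduct.productMap u v x - u (Algebra.TensorProduct.lmul' A x))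
              + (Algebra.TensorProduct.productMap u v y - u (Algebra.TensorProduct.lmul' A y)) := by
          simp only [map_add]; ring
        rw [this]
        exact I.add_mem hx hy
    have := key (Algebra.FormallyUnramified.elem A B)
    rwa [Algebra.FormallyUnramified.lmul_elem, map_one] at this

theorem result
    (A : Type u) [CommRing A] (B : Type u) [CommRing B] [Algebra A B]
    [Algebra.FormallyUnramified A B] [Algebra.FiniteType A B]
    (C : Type u) [CommRing C] [Algebra A C] (p : Ideal C) [p.IsPrime]
    (u v : B →ₐ[A] C)
    (huv : (Ideal.Quotient.mk p).comp u.toRingHom = (Ideal.Quotient.mk p).comp v.toRingHom) :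
    ∃ f : C, f ∉ p ∧
      (algebraMap C (Localization.Away f)).comp u.toRingHom =
        (algebraMap C (Localization.Away f)).comp v.toRingHom := by
  obtain ⟨w, hw1, hw2⟩ := core u v
  have hp : ∀ b : B, u b - v b ∈ p := by
    intro b
    have := congrArg (fun φ => φ b) huv
    simp only [RingHom.comp_apply] at this
    exact Ideal.Quotient.eq.mp this
  have hw : w - 1 ∈ p := hw2 p hp
  refine ⟨w, ?_, ?_⟩
  · intro hwp
    have : (1 : C) ∈ p := by
      have := p.sub_mem hwp hw
      simpa using this
    exact (Ideal.ne_top_iff_one p).mp (Ideal.IsPrime.ne_top ‹_›) this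
  · ext s
    simp only [RingHom.comp_apply]
    have h1 := congrArg (algebraMap C (Localization.Away w)) (hw1 s)
    rw [map_mul, map_zero, map_sub] at h1
    have hu : IsUnit (algebraMap C (Localization.Away w) w) :=
      IsLocalization.Away.algebraMap_isUnit w
    have h2 := (hu.mul_left_eq_zero).mp h1
    exact (sub_eq_zero.mp h2).symm

end Groth.Agent.S17974
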