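import Mathlib
import Groth.Statements.S17978
import Groth.Agent.S17974

set_option autoImplicit false
universe u
open EGA4loc

namespace Groth.Agent.S17978

theorem result (A : Type u) [CommRing A] [IsLocalRing A]
    (B : Type u) [CommRing B] [IsLocalRing B] [Algebra A B] (hB : EGA4loc.IsEssentiallyEtale A B)
    (C : Type u) [CommRing C] [IsLocalRing C] [Algebra A C] [IsLocalHom (algebraMap A C)]
    (u v : B →ₐ[A] C)
    (h : (IsLocalRing.residue C).comp u.toRingHom = (IsLocalRing.residue C).comp v.toRingHom) :
    u = v := by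
  obtain ⟨E, _, _, q, hq, hEt, hcomap, ⟨e⟩⟩ := hB
  let ι : E →ₐ[A] B := (e.symm : Localization.AtPrime q →ₐ[A] B).comp
    (IsScalarTower.toAlgHom A E (Localization.AtPrime q))
  obtain ⟨w, hw1, hw2⟩ := Groth.Agent.S17974.core (u.comp ι) (v.comp ι)
  have hm : ∀ b : B, u b - v b ∈ IsLocalRing.maximalIdeal C := by
    intro b
    have := congrArg (fun φ => φ b) h
    simp only [RingHom.comp_apply] at this
    exact Ideal.Quotient.eq.mp this
  have hw : w - 1 ∈ IsLocalRing.maximalIdeal C := hw2 _ (fun b => hm (ι b))
  have hwu : IsUnit w := by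
    by_contra hnu
    have hwm : w ∈ IsLocalRing.maximalIdeal C := (IsLocalRing.mem_maximalIdeal w).mpr hnu
    have : (1 : C) ∈ IsLocalRing.maximalIdeal C := by
      have := (IsLocalRing.maximalIdeal C).sub_mem hwm hw
      simpa using this
    exact (Ideal.ne_top_iff_one _).mp (IsLocalRing.maximalIdeal.isMaximal C).ne_top this
  have hE : ∀ s : E, u (ι s) = v (ι s) := by
    intro s
    have := (hwu.mul_left_eq_zero).mp (hw1 s)
    exact (sub_eq_zero.mp this).symm
  -- extend to the localization
  have hloc : (u.comp (e.symm : Localization.AtPrime q →ₐ[A] B)).toRingHom =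
      (v.comp (e.symm : Localization.AtPrime q →ₐ[A] B)).toRingHom := by
    apply IsLocalization.ringHom_ext q.primeCompl
    ext s
    exact hE s
  ext b
  have := congrArg (fun φ => φ (e b)) hloc
  simpa using this

end Groth.Agent.S17978
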