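import Groth.Statements.S9468
import Mathlib

set_option autoImplicit false
universe u
open Hensel

namespace Groth.Agent.S9468

open TensorProduct

/-- A retraction onto `κ(p)` with kernel `q` forces `κ(p) → κ(q)` to be bijective. -/
theorem bijective_of_retraction (R : Type u) [CommRing R] (p : Ideal R) [p.IsPrime]
    (S : Type u) [CommRing S] [Algebra R S] (q : Ideal S) [q.IsPrime]
    (hq : p = q.comap (algebraMap R S)) (θ : S →ₐ[R] p.ResidueField) (hθ : RingHom.ker θ = q) :
    Function.Bijective (Ideal.ResidueField.map p q (algebraMap R S) hq) := by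
  refine ⟨RingHom.injective _, ?_⟩
  have h1 : q ≤ RingHom.ker θ.toRingHom := hθ.ge
  have h2 : q.primeCompl ≤ (IsUnit.submonoid p.ResidueField).comap θ.toRingHom := by
    intro x hx
    show IsUnit (θ x)
    rw [isUnit_iff_ne_zero]
    intro h0
    exact hx (hθ ▸ (RingHom.mem_ker.mpr h0))
  let ρ : q.ResidueField →+* p.ResidueField := Ideal.ResidueField.lift q θ.toRingHom h1 h2
  have hρ : ρ.comp (Ideal.ResidueField.map p q (algebraMap R S) hq) = RingHom.id _ := by
    apply Ideal.ResidueField.ringHom_ext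
    ext r
    simp only [RingHom.comp_apply, RingHom.id_apply, Ideal.ResidueField.map_algebraMap]
    show Ideal.ResidueField.lift q θ.toRingHom h1 h2 (algebraMap S _ (algebraMap R S r)) = _
    rw [Ideal.ResidueField.lift_algebraMap]
    exact θ.commutes r
  intro y
  refine ⟨ρ y, ?_⟩
  apply ρ.injective
  exact RingHom.congr_fun hρ (ρ y)

/-- Conversely a bijective `κ(p) → κ(q)` gives a retraction with kernel `q`. -/
theorem exists_retraction (R : Type u) [CommRing R] (p : Ideal R) [p.IsPrime]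
    (S : Type u) [CommRing S] [Algebra R S] (q : Ideal S) [q.IsPrime]
    (hq : p = q.comap (algebraMap R S))
    (h : Function.Bijective (Ideal.ResidueField.map p q (algebraMap R S) hq)) :
    ∃ θ : S →ₐ[R] p.ResidueField, RingHom.ker θ = q := by
  let e : p.ResidueField ≃+* q.ResidueField := RingEquiv.ofBijective _ h
  let θ₀ : S →+* p.ResidueField := e.symm.toRingHom.comp (algebraMap S q.ResidueField)
  have hθ₀ : ∀ r : R, θ₀ (algebraMap R S r) = algebraMap R p.ResidueField r := by
    intro r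
    show e.symm (algebraMap S q.ResidueField (algebraMap R S r)) = _
    rw [RingEquiv.symm_apply_eq]
    show _ = Ideal.ResidueField.map p q (algebraMap R S) hq (algebraMap R p.ResidueField r)
    rw [Ideal.ResidueField.map_algebraMap]
  refine ⟨{ θ₀ with commutes' := hθ₀ }, ?_⟩
  ext x
  rw [RingHom.mem_ker]
  show e.symm (algebraMap S q.ResidueField x) = 0 ↔ _
  rw [map_eq_zero_iff _ e.symm.injective, Ideal.algebraMap_residueField_eq_zero]

/-- Let R be a ring and p a prime of R. Consider pairs (S, q) with S an étale R-algebra and q a prime of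
S lying over p such that κ(p) → κ(q) is bijective; a morphism of pairs is an R-algebra map pulling
the second prime back to the first. Then any two pairs admit morphisms of pairs to a common third
pair. -/
theorem result (R : Type u) [CommRing R]
    (p : Ideal R) [p.IsPrime] (S₁ : Type u) [CommRing S₁] [Algebra R S₁] [Algebra.Etale R S₁] (q₁ : Ideal S₁) [q₁.IsPrime] (hq₁ : p = q₁.comap (algebraMap R S₁))
    (hq₁κ : Function.Bijective (Ideal.ResidueField.map p q₁ (algebraMap R S₁) hq₁))
    (S₂ : Type u) [CommRing S₂] [Algebra R S₂] [Algebra.Etale R S₂] (q₂ : Ideal S₂) [q₂.IsPrime] (hq₂ : p = q₂.comap (algebraMap R S₂))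
    (hq₂κ : Function.Bijective (Ideal.ResidueField.map p q₂ (algebraMap R S₂) hq₂)) :
    ∃ (S₃ : Type u) (_ : CommRing S₃) (_ : Algebra R S₃) (_ : Algebra.Etale R S₃) (q₃ : Ideal S₃)
      (_ : q₃.IsPrime) (hq₃ : p = q₃.comap (algebraMap R S₃)),
      Function.Bijective (Ideal.ResidueField.map p q₃ (algebraMap R S₃) hq₃) ∧
        ∃ (φ₁ : S₁ →ₐ[R] S₃) (φ₂ : S₂ →ₐ[R] S₃),
          q₃.comap φ₁.toRingHom = q₁ ∧ q₃.comap φ₂.toRingHom = q₂ := by
  obtain ⟨θ₁, hθ₁⟩ := exists_retraction R p S₁ q₁ hq₁ hq₁κ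
  obtain ⟨θ₂, hθ₂⟩ := exists_retraction R p S₂ q₂ hq₂ hq₂κ
  let θ : S₁ ⊗[R] S₂ →ₐ[R] p.ResidueField := Algebra.TensorProduct.productMap θ₁ θ₂
  haveI : Algebra.Etale R (S₁ ⊗[R] S₂) := Algebra.Etale.comp R S₁ (S₁ ⊗[R] S₂)
  haveI : (RingHom.ker θ).IsPrime := RingHom.ker_isPrime θ
  have hq₃ : p = (RingHom.ker θ).comap (algebraMap R (S₁ ⊗[R] S₂)) := by
    ext r
    rw [Ideal.mem_comap, RingHom.mem_ker]
    show _ ↔ θ (algebraMap R _ r) = 0
    rw [θ.commutes, Ideal.algebraMap_residueField_eq_zero]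
  refine ⟨S₁ ⊗[R] S₂, inferInstance, inferInstance, inferInstance, RingHom.ker θ, inferInstance,
    hq₃, bijective_of_retraction R p _ _ hq₃ θ rfl,
    Algebra.TensorProduct.includeLeft, Algebra.TensorProduct.includeRight, ?_, ?_⟩
  · rw [← hθ₁]
    ext x
    rw [Ideal.mem_comap, RingHom.mem_ker, RingHom.mem_ker]
    show θ (x ⊗ₜ 1) = 0 ↔ _
    simp [θ]
  · rw [← hθ₂]
    ext x
    rw [Ideal.mem_comap, RingHom.mem_ker, RingHom.mem_ker]
    show θ (1 ⊗ₜ x) = 0 ↔ _
    simp [θ]

end Groth.Agent.S9468
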