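import Groth.Statements.S9469
import Groth.Agent.S9468

set_option autoImplicit false
universe u
open Hensel

namespace Groth.Agent.S9469

open TensorProduct

/-- retractions onto `κ(p)` with prescribed kernel are unique when `κ(p) → κ(q)` is onto -/
theorem retraction_unique (R : Type u) [CommRing R] (p : Ideal R) [p.IsPrime]
    (S : Type u) [CommRing S] [Algebra R S] (q : Ideal S) [q.IsPrime]
    (hq : p = q.comap (algebraMap R S))
    (h : Function.Bijective (Ideal.ResidueField.map p q (algebraMap R S) hq))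
    (σ σ' : S →ₐ[R] p.ResidueField) (hσ : RingHom.ker σ = q) (hσ' : RingHom.ker σ' = q) :
    σ = σ' := by
  have key : ∀ τ : S →ₐ[R] p.ResidueField, RingHom.ker τ = q → ∀ (x : S) (c : p.ResidueField),
      Ideal.ResidueField.map p q (algebraMap R S) hq c = algebraMap S q.ResidueField x →
      τ x = c := by
    intro τ hτ x c hc
    have h1 : q ≤ RingHom.ker τ.toRingHom := hτ.ge
    have h2 : q.primeCompl ≤ (IsUnit.submonoid p.ResidueField).comap τ.toRingHom := by
      intro y hy
      show IsUnit (τ y)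
      rw [isUnit_iff_ne_zero]
      intro h0
      exact hy (hτ ▸ (RingHom.mem_ker.mpr h0))
    let ρ : q.ResidueField →+* p.ResidueField := Ideal.ResidueField.lift q τ.toRingHom h1 h2
    have hρ : ρ.comp (Ideal.ResidueField.map p q (algebraMap R S) hq) = RingHom.id _ := by
      apply Ideal.ResidueField.ringHom_ext
      ext r
      simp only [RingHom.comp_apply, RingHom.id_apply, Ideal.ResidueField.map_algebraMap]
      show Ideal.ResidueField.lift q τ.toRingHom h1 h2 (algebraMap S _ (algebraMap R S r)) = _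
      rw [Ideal.ResidueField.lift_algebraMap]
      exact τ.commutes r
    have h3 : ρ (algebraMap S q.ResidueField x) = τ x :=
      Ideal.ResidueField.lift_algebraMap q τ.toRingHom h1 h2 x
    rw [← h3, ← hc]
    exact RingHom.congr_fun hρ c
  ext x
  obtain ⟨c, hc⟩ := h.2 (algebraMap S q.ResidueField x)
  rw [key σ hσ x c hc, key σ' hσ' x c hc]

/-- Let R be a ring and p a prime of R. Consider pairs (S, q) with S an étale R-algebra and q a prime of
S lying over p such that κ(p) → κ(q) is bijective; a morphism of pairs is an R-algebra map pulling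
the second prime back to the first. Then any two parallel morphisms of pairs φ, ψ : (S₁, q₁) → (S₂,
q₂) are coequalized by a morphism of pairs (S₂, q₂) → (S₃, q₃). -/
theorem result (R : Type u) [CommRing R]
    (p : Ideal R) [p.IsPrime] (S₁ : Type u) [CommRing S₁] [Algebra R S₁] [Algebra.Etale R S₁] (q₁ : Ideal S₁) [q₁.IsPrime] (hq₁ : p = q₁.comap (algebraMap R S₁))
    (hq₁κ : Function.Bijective (Ideal.ResidueField.map p q₁ (algebraMap R S₁) hq₁))
    (S₂ : Type u) [CommRing S₂] [Algebra R S₂] [Algebra.Etale R S₂] (q₂ : Ideal S₂) [q₂.IsPrime] (hq₂ : p = q₂.comap (algebraMap R S₂))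
    (hq₂κ : Function.Bijective (Ideal.ResidueField.map p q₂ (algebraMap R S₂) hq₂))
    (φ ψ : S₁ →ₐ[R] S₂) (hφ : q₂.comap φ.toRingHom = q₁) (hψ : q₂.comap ψ.toRingHom = q₁) :
    ∃ (S₃ : Type u) (_ : CommRing S₃) (_ : Algebra R S₃) (_ : Algebra.Etale R S₃) (q₃ : Ideal S₃)
      (_ : q₃.IsPrime) (hq₃ : p = q₃.comap (algebraMap R S₃)),
      Function.Bijective (Ideal.ResidueField.map p q₃ (algebraMap R S₃) hq₃) ∧
        ∃ χ : S₂ →ₐ[R] S₃, q₃.comap χ.toRingHom = q₂ ∧ χ.comp φ = χ.comp ψ := by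
  obtain ⟨θ₂, hθ₂⟩ := Groth.Agent.S9468.exists_retraction R p S₂ q₂ hq₂ hq₂κ
  -- the two composites agree
  have hσ : θ₂.comp φ = θ₂.comp ψ := by
    apply retraction_unique R p S₁ q₁ hq₁ hq₁κ
    · rw [← hφ, ← hθ₂]
      ext x
      simp [RingHom.mem_ker]
    · rw [← hψ, ← hθ₂]
      ext x
      simp [RingHom.mem_ker]
  -- the diagonal idempotent
  obtain ⟨e, he, hsp⟩ : ∃ e, IsIdempotentElem e ∧ KaehlerDifferential.ideal R S₁ = Ideal.span {e} :=
    (Ideal.isIdempotentElem_iff_of_fg _ (KaehlerDifferential.ideal_fg R S₁)).mp <|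
      (Ideal.cotangent_subsingleton_iff _).mp <| inferInstanceAs <| Subsingleton Ω[S₁⁄R]
  let Γ : S₁ ⊗[R] S₁ →ₐ[R] S₂ := Algebra.TensorProduct.productMap φ ψ
  set g : S₂ := Γ (1 - e) with hg
  have hgΓe : g * Γ e = 0 := by
    rw [hg, ← map_mul, sub_mul, one_mul, he.eq, sub_self, map_zero]
  have hdiff : ∀ x : S₁, g * (φ x - ψ x) = 0 := by
    intro x
    have hx : (x ⊗ₜ[R] (1 : S₁) - (1 : S₁) ⊗ₜ[R] x) ∈ KaehlerDifferential.ideal R S₁ := by
      have := KaehlerDifferential.one_smul_sub_smul_one_mem_ideal R x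
      rw [← neg_sub]
      exact (KaehlerDifferential.ideal R S₁).neg_mem this
    rw [hsp, Ideal.mem_span_singleton'] at hx
    obtain ⟨c, hc⟩ := hx
    have h1 : Γ (x ⊗ₜ[R] (1 : S₁) - (1 : S₁) ⊗ₜ[R] x) = φ x - ψ x := by
      simp [Γ]
    rw [← h1, ← hc, map_mul, mul_comm (Γ c), ← mul_assoc, hgΓe, zero_mul]
  -- `θ₂ g = 1`
  have hθΓ : θ₂.comp Γ = (θ₂.comp φ).comp (Algebra.TensorProduct.lmul' R) := by
    apply Algebra.TensorProduct.ext'
    intro a b
    simp only [AlgHom.comp_apply, Γ, Algebra.TensorProduct.productMap_apply_tmul,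
      Algebra.TensorProduct.lmul'_apply_tmul, map_mul]
    congr 1
    exact (AlgHom.congr_fun hσ b).symm
  have he0 : θ₂ (Γ e) = 0 := by
    have h1 : e ∈ KaehlerDifferential.ideal R S₁ := by
      rw [hsp]; exact Ideal.mem_span_singleton_self e
    have h2 : Algebra.TensorProduct.lmul' R e = 0 := h1
    have := AlgHom.congr_fun hθΓ e
    simp only [AlgHom.comp_apply] at this
    rw [this, h2, map_zero, map_zero]
  have hθg : θ₂ g = 1 := by
    rw [hg, map_sub, map_one, map_sub, map_one, he0, sub_zero]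
  -- the localization
  let θ₃ : Localization.Away g →ₐ[R] p.ResidueField :=
    IsLocalization.liftAlgHom (M := Submonoid.powers g) (f := θ₂) (by
      rintro ⟨_, n, rfl⟩
      simp [hθg])
  have hθ₃ : ∀ x : S₂, θ₃ (algebraMap S₂ (Localization.Away g) x) = θ₂ x := by
    intro x
    exact IsLocalization.lift_eq _ x
  haveI : (RingHom.ker θ₃).IsPrime := RingHom.ker_isPrime θ₃
  have hq₃ : p = (RingHom.ker θ₃).comap (algebraMap R (Localization.Away g)) := by
    ext r
    rw [Ideal.mem_comap, RingHom.mem_ker]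
    show _ ↔ θ₃ (algebraMap R _ r) = 0
    rw [θ₃.commutes, Ideal.algebraMap_residueField_eq_zero]
  refine ⟨Localization.Away g, inferInstance, inferInstance, inferInstance, RingHom.ker θ₃,
    inferInstance, hq₃, Groth.Agent.S9468.bijective_of_retraction R p _ _ hq₃ θ₃ rfl,
    IsScalarTower.toAlgHom R S₂ (Localization.Away g), ?_, ?_⟩
  · rw [← hθ₂]
    ext x
    rw [Ideal.mem_comap, RingHom.mem_ker, RingHom.mem_ker]
    show θ₃ (algebraMap S₂ _ x) = 0 ↔ _
    rw [hθ₃]
  · ext x
    show algebraMap S₂ (Localization.Away g) (φ x) = algebraMap S₂ (Localization.Away g) (ψ x)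
    rw [IsLocalization.eq_iff_exists (Submonoid.powers g)]
    refine ⟨⟨g, Submonoid.mem_powers g⟩, ?_⟩
    have := hdiff x
    rw [mul_sub, sub_eq_zero] at this
    exact this

end Groth.Agent.S9469
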