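import Groth.Statements.S0505
import Groth.Agent.Lib.lead.HenselConverse
import Groth.Agent.Lib.lead.HenselFinite
-- import your own Groth.Agent.* helpers here

set_option autoImplicit false
universe u
open Hensel

namespace Groth.Agent.S0505

/-- A local ring which is finitely generated as a module over a henselian local ring is itself
henselian. -/
theorem result (R : Type u) [CommRing R] [HenselianLocalRing R]
    (S : Type u) [CommRing S] [IsLocalRing S] [Algebra R S] [Module.Finite R S] :
    HenselianLocalRing S := by
  apply Groth.Agent.Lib.lead.HenselLocal.henselian_of_adjoinRoot_pi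
  intro f hf
  have h1 : Module.Finite S (AdjoinRoot f) := hf.finite_adjoinRoot
  have h2 : Module.Finite R (AdjoinRoot f) := Module.Finite.trans S (AdjoinRoot f)
  exact Groth.Agent.Lib.lead.HenselLocal.finite_exists_pi_isLocalRing (R := R) (AdjoinRoot f)

end Groth.Agent.S0505
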