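import Groth.Statements.S0542
import Mathlib
import Groth.Agent.Lib.helper7.CompleteNoeth

set_option autoImplicit false
universe u
open CAlg

namespace Groth.Agent.S0542

/-- If `I` is a finitely generated ideal of a ring `R` and `R/I` is Noetherian, then the `I`-adic
completion of `R` is a Noetherian ring. (The source also states completeness of the completion along
the extended ideal, which Mathlib already has; only Noetherianity is stated here.) -/
theorem result (R : Type u) [CommRing R] (I : Ideal R)
    (hI : I.FG) [IsNoetherianRing (R ⧸ I)] : IsNoetherianRing (AdicCompletion I R) := by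
  have h1 := AdicCompletion.isAdicComplete_self I hI
  have h2 : (I.map (algebraMap R (AdicCompletion I R))).FG := hI.map _
  have hsurj := AdicCompletion.evalOneₐ_surjective I
  have hker := AdicCompletion.ker_evalOneₐ_eq_map I hI
  have e : (AdicCompletion I R ⧸ I.map (algebraMap R (AdicCompletion I R))) ≃+* (R ⧸ I) :=
    (Ideal.quotEquivOfEq hker.symm).trans
      (RingHom.quotientKerEquivOfSurjective (f := (AdicCompletion.evalOneₐ I).toRingHom) hsurj)
  have h3 : IsNoetherianRing (AdicCompletion I R ⧸ I.map (algebraMap R (AdicCompletion I R))) :=
    isNoetherianRing_of_ringEquiv _ e.symm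
  exact Groth.Agent.Lib.helper7.CompleteNoeth.isNoetherianRing_of_isAdicComplete _ h2

end Groth.Agent.S0542
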