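import Groth.Statements.S9461
import Groth.Agent.Lib.lead.StrictRecog4
import Groth.Agent.Lib.lead.HenselQFConverse
import Groth.Agent.Lib.lead.HenselIntegral2


set_option autoImplicit false
universe u
open Hensel

namespace H14S9461

open TensorProduct IsLocalRing

theorem isSepClosure_self' {k : Type*} [Field k] [IsSepClosed k] [Algebra k k]
    (h : ∀ x : k, algebraMap k k x = x) : IsSepClosure k k :=
  ⟨inferInstance, ⟨fun x => by rw [← h x]; exact isSeparable_algebraMap x⟩⟩

theorem isStrictHenselization_self (L : Type u) [CommRing L] [HenselianLocalRing L]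
    [IsSepClosed (ResidueField L)] :
    @Hensel.IsStrictHenselization L L _ _ _ _ (Algebra.id L) (by
      change IsLocalHom (RingHom.id L); infer_instance) := by
  letI : IsLocalHom (algebraMap L L) := by
    change IsLocalHom (RingHom.id L); infer_instance
  have hid : ∀ x : ResidueField L, ResidueField.map (algebraMap L L) x = x := by
    intro x
    obtain ⟨y, rfl⟩ := residue_surjective x
    rw [ResidueField.map_residue]
    rfl
  refine ⟨inferInstance, ?_, ?_⟩
  · refine @isSepClosure_self' (ResidueField L) _ _ IsLocalRing.ResidueField.instAlgebra ?_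
    exact hid
  · intro T _ _ f hf τ hτ
    refine ⟨f, ⟨?_, ?_⟩, ?_⟩
    · change f.comp (RingHom.id L) = f
      rw [RingHom.comp_id]
    · intro x
      have := RingHom.congr_fun hτ (residue L x)
      rw [RingHom.comp_apply, hid, ResidueField.map_residue] at this
      exact this.symm
    · rintro g ⟨hg, -⟩
      change g.comp (RingHom.id L) = f at hg
      rwa [RingHom.comp_id] at hg

theorem main2 (R : Type u) [CommRing R] (S : Type u)
    [CommRing S] [Algebra R S] [Algebra.FiniteType R S] (p : Ideal R) [p.IsPrime] (q : Ideal S)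
    [q.IsPrime] [hqp : q.LiesOver p] [Algebra.QuasiFiniteAt R q]
    (Rh : Type u) [CommRing Rh] [IsLocalRing Rh] [Algebra (Localization.AtPrime p) Rh]
    [IsLocalHom (algebraMap (Localization.AtPrime p) Rh)]
    [hRh : Hensel.IsStrictHenselization (Localization.AtPrime p) Rh] [Algebra R Rh]
    [IsScalarTower R (Localization.AtPrime p) Rh]
    (Sh : Type u) [CommRing Sh] [IsLocalRing Sh] [Algebra (Localization.AtPrime q) Sh]
    [IsLocalHom (algebraMap (Localization.AtPrime q) Sh)]
    [hSh : Hensel.IsStrictHenselization (Localization.AtPrime q) Sh] [Algebra S Sh]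
    [IsScalarTower S (Localization.AtPrime q) Sh] [Algebra R Sh] [IsScalarTower R S Sh]
    [Algebra Rh Sh] [IsScalarTower R Rh Sh] [hloc : IsLocalHom (algebraMap Rh Sh)]
    (φ : Rh ⊗[R] S →ₐ[R] Sh)
    (hφ : φ = Algebra.TensorProduct.lift (IsScalarTower.toAlgHom R Rh Sh)
      (IsScalarTower.toAlgHom R S Sh) (fun _ _ => Commute.all _ _)) :
    Module.Finite Rh Sh ∧
      Module.Finite (IsLocalRing.ResidueField Rh) (IsLocalRing.ResidueField Sh) ∧
      IsPurelyInseparable (IsLocalRing.ResidueField Rh) (IsLocalRing.ResidueField Sh) := by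
  classical
  letI : HenselianLocalRing Rh := hRh.henselian
  haveI hsc : IsSepClosed (ResidueField Rh) := by
    haveI := hRh.isSepClosure
    exact IsSepClosure.sep_closed (ResidueField (Localization.AtPrime p))
  have hφl : ∀ r : Rh, φ (r ⊗ₜ[R] (1 : S)) = algebraMap Rh Sh r := fun r => by
    rw [hφ, Algebra.TensorProduct.lift_tmul, map_one, mul_one]; rfl
  have hφr : ∀ s : S, φ ((1 : Rh) ⊗ₜ[R] s) = algebraMap S Sh s := fun s => by
    rw [hφ, Algebra.TensorProduct.lift_tmul, map_one, one_mul]; rfl
  have hS_mem : ∀ x : S, algebraMap S Sh x ∈ maximalIdeal Sh ↔ x ∈ q := by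
    intro x
    rw [IsScalarTower.algebraMap_apply S (Localization.AtPrime q) Sh,
      ← IsLocalization.AtPrime.to_map_mem_maximal_iff (Localization.AtPrime q) q x]
    constructor
    · intro h
      by_contra hx
      rw [mem_maximalIdeal, mem_nonunits_iff, not_not] at hx
      exact h (hx.map _)
    · intro h
      exact map_nonunit (algebraMap (Localization.AtPrime q) Sh) _ h
  have hqQ : q = (Ideal.comap φ (maximalIdeal Sh)).comap
      Algebra.TensorProduct.includeRight.toRingHom := by
    ext x
    change x ∈ q ↔ φ ((1 : Rh) ⊗ₜ[R] x) ∈ maximalIdeal Sh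
    rw [hφr, hS_mem]
  haveI : Algebra.QuasiFiniteAt Rh (Ideal.comap φ (maximalIdeal Sh)) :=
    Algebra.QuasiFiniteAt.baseChange q _ hqQ
  have hRh_mem : ∀ x : Rh, algebraMap Rh Sh x ∈ maximalIdeal Sh ↔ x ∈ maximalIdeal Rh := by
    intro x
    constructor
    · intro h
      by_contra hx
      rw [mem_maximalIdeal, mem_nonunits_iff, not_not] at hx
      exact h (hx.map _)
    · intro h
      exact map_nonunit (algebraMap Rh Sh) _ h
  have hQm : (Ideal.comap φ (maximalIdeal Sh)).LiesOver (maximalIdeal Rh) := by
    refine ⟨?_⟩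
    ext x
    change x ∈ maximalIdeal Rh ↔ φ (algebraMap Rh (Rh ⊗[R] S) x) ∈ maximalIdeal Sh
    rw [Algebra.TensorProduct.algebraMap_apply, Algebra.algebraMap_self_apply, hφl, hRh_mem]
  haveI hfin : Module.Finite Rh (Localization.AtPrime (Ideal.comap φ (maximalIdeal Sh))) :=
    Groth.Agent.Lib.lead.HenselLocal.finite_localization_of_quasiFiniteAt (R := Rh)
      (Rh ⊗[R] S) _ hQm inferInstance
  haveI : Algebra.IsIntegral Rh (Localization.AtPrime (Ideal.comap φ (maximalIdeal Sh))) :=
    Algebra.IsIntegral.of_finite Rh _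
  letI hL : HenselianLocalRing (Localization.AtPrime (Ideal.comap φ (maximalIdeal Sh))) :=
    Groth.Agent.Lib.lead.HenselLocal.henselian_of_integral_local Rh _
  -- Rh → L is local
  haveI hlocL : IsLocalHom (algebraMap Rh
      (Localization.AtPrime (Ideal.comap φ (maximalIdeal Sh)))) := by
    constructor
    intro x hx
    rw [IsScalarTower.algebraMap_apply Rh (Rh ⊗[R] S) (Localization.AtPrime _),
      IsLocalization.AtPrime.isUnit_to_map_iff (Localization.AtPrime _)
        (Ideal.comap φ (maximalIdeal Sh))] at hx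
    have h1 : ¬ φ (algebraMap Rh (Rh ⊗[R] S) x) ∈ maximalIdeal Sh := hx
    rw [Algebra.TensorProduct.algebraMap_apply, Algebra.algebraMap_self_apply, hφl, hRh_mem,
      mem_maximalIdeal, mem_nonunits_iff, not_not] at h1
    exact h1
  haveI : Algebra.IsAlgebraic (ResidueField Rh)
      (ResidueField (Localization.AtPrime (Ideal.comap φ (maximalIdeal Sh)))) :=
    Algebra.IsAlgebraic.of_finite _ _
  haveI : IsSepClosed (ResidueField (Localization.AtPrime (Ideal.comap φ (maximalIdeal Sh)))) :=
    Algebra.IsAlgebraic.isSepClosed (F := ResidueField Rh)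
  haveI : IsLocalHom (algebraMap (Localization.AtPrime (Ideal.comap φ (maximalIdeal Sh)))
      (Localization.AtPrime (Ideal.comap φ (maximalIdeal Sh)))) := by
    change IsLocalHom (RingHom.id _); infer_instance
  haveI : Hensel.IsStrictHenselization (Localization.AtPrime (Ideal.comap φ (maximalIdeal Sh)))
      (Localization.AtPrime (Ideal.comap φ (maximalIdeal Sh))) := isStrictHenselization_self _
  have key : ∃ e : (Localization.AtPrime (Ideal.comap φ (maximalIdeal Sh))) ≃+* Sh,
      ∀ d : Rh ⊗[R] S, e (algebraMap (Rh ⊗[R] S) _ d) = φ d := by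
    subst hφ
    obtain ⟨e, he⟩ := Groth.Agent.Lib.lead.StrictRecog.main9460 R S p q Rh Sh
      (Localization.AtPrime (Ideal.comap (Algebra.TensorProduct.lift
        (IsScalarTower.toAlgHom R Rh Sh) (IsScalarTower.toAlgHom R S Sh)
        (fun _ _ => Commute.all _ _)) (maximalIdeal Sh)))
    exact ⟨e, fun d => he d⟩
  obtain ⟨e, he⟩ := key
  let f : Localization.AtPrime (Ideal.comap φ (maximalIdeal Sh)) →ₗ[Rh] Sh :=
    { toFun := e
      map_add' := map_add e
      map_smul' := by
        intro r x
        rw [Algebra.smul_def, map_mul, RingHom.id_apply, Algebra.smul_def]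
        congr 1
        rw [IsScalarTower.algebraMap_apply Rh (Rh ⊗[R] S) (Localization.AtPrime _), he,
          Algebra.TensorProduct.algebraMap_apply, Algebra.algebraMap_self_apply, hφl] }
  haveI hfinSh : Module.Finite Rh Sh := Module.Finite.of_surjective f e.surjective
  haveI : Algebra.IsAlgebraic (ResidueField Rh) (ResidueField Sh) :=
    Algebra.IsAlgebraic.of_finite _ _
  exact ⟨hfinSh, inferInstance, inferInstance⟩

theorem main (R : Type u) [CommRing R] (S : Type u)
    [CommRing S] [Algebra R S] [Algebra.FiniteType R S] (p : Ideal R) [p.IsPrime] (q : Ideal S)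
    [q.IsPrime] [hqp : q.LiesOver p] [Algebra.QuasiFiniteAt R q]
    (Rh : Type u) [CommRing Rh] [IsLocalRing Rh] [Algebra (Localization.AtPrime p) Rh]
    [IsLocalHom (algebraMap (Localization.AtPrime p) Rh)]
    [hRh : Hensel.IsStrictHenselization (Localization.AtPrime p) Rh] [Algebra R Rh]
    [IsScalarTower R (Localization.AtPrime p) Rh]
    (Sh : Type u) [CommRing Sh] [IsLocalRing Sh] [Algebra (Localization.AtPrime q) Sh]
    [IsLocalHom (algebraMap (Localization.AtPrime q) Sh)]
    [hSh : Hensel.IsStrictHenselization (Localization.AtPrime q) Sh] [Algebra S Sh]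
    [IsScalarTower S (Localization.AtPrime q) Sh] [Algebra R Sh] [IsScalarTower R S Sh]
    [Algebra Rh Sh] [IsScalarTower R Rh Sh] [hloc : IsLocalHom (algebraMap Rh Sh)] :
    Module.Finite Rh Sh ∧
      Module.Finite (IsLocalRing.ResidueField Rh) (IsLocalRing.ResidueField Sh) ∧
      IsPurelyInseparable (IsLocalRing.ResidueField Rh) (IsLocalRing.ResidueField Sh) :=
  main2 R S p q Rh Sh _ rfl

end H14S9461

namespace Groth.Agent.S9461

/-- Let R → S be of finite type and quasi-finite at a prime q over p, and R^{sh}, S^{sh} strict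
henselizations of R_p and S_q with a compatible local map R^{sh} → S^{sh} (over R). Then R^{sh} →
S^{sh} is finite and its residue field extension is finite and purely inseparable. (The published
statement also identifies S^{sh} with a localization of R^{sh} ⊗_{R_p} S_q; this row states only the
finiteness and the residue-field assertions.) -/
theorem result (R : Type u) [CommRing R] (S : Type u)
    [CommRing S] [Algebra R S] [Algebra.FiniteType R S] (p : Ideal R) [p.IsPrime] (q : Ideal S)
    [q.IsPrime] [q.LiesOver p] [Algebra.QuasiFiniteAt R q]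
    (Rh : Type u) [CommRing Rh] [IsLocalRing Rh] [Algebra (Localization.AtPrime p) Rh]
    [IsLocalHom (algebraMap (Localization.AtPrime p) Rh)]
    [Hensel.IsStrictHenselization (Localization.AtPrime p) Rh] [Algebra R Rh]
    [IsScalarTower R (Localization.AtPrime p) Rh]
    (Sh : Type u) [CommRing Sh] [IsLocalRing Sh] [Algebra (Localization.AtPrime q) Sh]
    [IsLocalHom (algebraMap (Localization.AtPrime q) Sh)]
    [Hensel.IsStrictHenselization (Localization.AtPrime q) Sh] [Algebra S Sh]
    [IsScalarTower S (Localization.AtPrime q) Sh] [Algebra R Sh] [IsScalarTower R S Sh]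
    [Algebra Rh Sh] [IsScalarTower R Rh Sh] [IsLocalHom (algebraMap Rh Sh)] :
    Module.Finite Rh Sh ∧
      Module.Finite (IsLocalRing.ResidueField Rh) (IsLocalRing.ResidueField Sh) ∧
      IsPurelyInseparable (IsLocalRing.ResidueField Rh) (IsLocalRing.ResidueField Sh) := by
  exact H14S9461.main R S p q Rh Sh

end Groth.Agent.S9461
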