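import Groth.Statements.S9589
import Groth.Agent.Lib.helper14.WeakAss

set_option autoImplicit false
universe u
open CAlg

namespace Groth.Agent.S9589

open Groth.Agent.H14

/-- For a ring R, an R-module M, a multiplicative subset S of R and a prime p of R not meeting S, p is
weakly associated to M if and only if the extended prime p S⁻¹R is weakly associated to the
S⁻¹R-module S⁻¹M. -/
theorem result {R : Type u} [CommRing R] (S : Submonoid R) (M : Type u) [AddCommGroup M] [Module R M] (p : Ideal R) [p.IsPrime] (hS : Disjoint (S : Set R) (p : Set R)) :
    p ∈ FlatCA.weakAss R M ↔ Ideal.map (algebraMap R (Localization S)) p ∈ FlatCA.weakAss (Localization S) (LocalizedModule S M) := by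
  have hpp : p.IsPrime := inferInstance
  have hunder : (Ideal.map (algebraMap R (Localization S)) p).under R = p :=
    IsLocalization.under_map_of_isPrime_disjoint S (Localization S) hpp hS
  have key : ∀ (m : M) (s : S), Ideal.map (algebraMap R (Localization S)) p ∈
      (Submodule.span (Localization S) {LocalizedModule.mk m s}).annihilator.minimalPrimes ↔
      p ∈ (Submodule.span R {m}).annihilator.minimalPrimes := by
    intro m s
    rw [ann_localizedModule_mk, IsLocalization.minimalPrimes_map S, Set.mem_preimage, hunder]
  constructor
  · rintro ⟨m, hm⟩
    exact ⟨LocalizedModule.mk m 1, (key m 1).mpr hm⟩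
  · rintro ⟨y, hy⟩
    induction y using LocalizedModule.induction_on with
    | h m s => exact ⟨m, (key m s).mp hy⟩

end Groth.Agent.S9589
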