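import Groth.Statements.S1487
import Mathlib
import Groth.Agent.Lib.helper22.ThickLift
import Groth.Agent.Lib.helper22.UnramFibre

set_option autoImplicit false
universe u
open FlatMor

namespace Groth.Agent.S1487

section Helpers

open CategoryTheory CategoryTheory.Limits AlgebraicGeometry

theorem appLE_congr_hom {X Y : Scheme.{u}} (φ ψ : X ⟶ Y) (h : φ = ψ) (V : Y.Opens) (W : X.Opens)
    (h1 : W ≤ φ ⁻¹ᵁ V) (h2 : W ≤ ψ ⁻¹ᵁ V) : φ.appLE V W h1 = ψ.appLE V W h2 := by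
  subst h
  rfl

theorem exists_local_lift_of_formallySmooth {X Y : Scheme.{u}} (f : X ⟶ Y) {T T' : Scheme.{u}}
    (t : T ⟶ T') (ht : MoreMor.IsFirstOrderThickening t) (a : T ⟶ X) (b : T' ⟶ Y)
    (w : t ≫ b = a ≫ f) (W' : T'.Opens) (hW' : IsAffineOpen W') (U : X.Opens)
    (hU : IsAffineOpen U) (V : Y.Opens) (hV : IsAffineOpen V) (hUV : U ≤ f ⁻¹ᵁ V)
    (hWU : t ⁻¹ᵁ W' ≤ a ⁻¹ᵁ U) (hWV : W' ≤ b ⁻¹ᵁ V)
    (hsm : letI := (f.appLE V U hUV).hom.toAlgebra
      Algebra.FormallySmooth Γ(Y, V) Γ(X, U)) :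
    ∃ l : W'.toScheme ⟶ X, (t ∣_ W') ≫ l = (t ⁻¹ᵁ W').ι ≫ a ∧ l ≫ f = W'.ι ≫ b := by
  haveI : IsClosedImmersion t := ht.1.1
  have hW : IsAffineOpen (t ⁻¹ᵁ W') := hW'.preimage t
  letI algA : Algebra Γ(Y, V) Γ(X, U) := (f.appLE V U hUV).hom.toAlgebra
  letI algB : Algebra Γ(Y, V) Γ(T', W') := (b.appLE V W' hWV).hom.toAlgebra
  letI algC : Algebra Γ(Y, V) Γ(T, t ⁻¹ᵁ W') := (b.appLE V W' hWV ≫ t.app W').hom.toAlgebra
  haveI : Algebra.FormallySmooth Γ(Y, V) Γ(X, U) := hsm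
  let g : Γ(T', W') →ₐ[Γ(Y, V)] Γ(T, t ⁻¹ᵁ W') := ⟨(t.app W').hom, fun r => rfl⟩
  have happ : t.app W' = t.appLE W' (t ⁻¹ᵁ W') le_rfl := Scheme.Hom.app_eq_appLE _
  have hcomm : f.appLE V U hUV ≫ a.appLE U (t ⁻¹ᵁ W') hWU = b.appLE V W' hWV ≫ t.app W' := by
    rw [happ, Scheme.Hom.appLE_comp_appLE, Scheme.Hom.appLE_comp_appLE]
    exact (appLE_congr_hom _ _ w _ _ _ _).symm
  let g' : Γ(X, U) →ₐ[Γ(Y, V)] Γ(T, t ⁻¹ᵁ W') :=
    ⟨(a.appLE U (t ⁻¹ᵁ W') hWU).hom, fun r => congr($hcomm r)⟩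
  have hsurj : Function.Surjective g := t.app_surjective W' hW'
  have hnil : IsNilpotent (RingHom.ker (g : Γ(T', W') →+* Γ(T, t ⁻¹ᵁ W'))) := by
    refine ⟨2, ?_⟩
    have := congr(($(ht.2)).ideal ⟨W', hW'⟩)
    rw [pow_two]
    simp only [Scheme.IdealSheafData.ideal_mul, Pi.mul_apply, Scheme.Hom.ker_apply,
      Scheme.IdealSheafData.ideal_bot, Pi.bot_apply] at this
    exact this
  let G : Γ(X, U) →ₐ[Γ(Y, V)] Γ(T', W') :=
    Algebra.FormallySmooth.liftOfSurjective g' g hsurj hnil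
  have hG1 : CommRingCat.ofHom G.toRingHom ≫ t.app W' = a.appLE U (t ⁻¹ᵁ W') hWU := by
    ext x
    exact Algebra.FormallySmooth.liftOfSurjective_apply g' g hsurj hnil x
  have hG2 : f.appLE V U hUV ≫ CommRingCat.ofHom G.toRingHom = b.appLE V W' hWV := by
    ext r
    exact G.commutes r
  refine ⟨hW'.isoSpec.hom ≫ Spec.map (CommRingCat.ofHom G.toRingHom) ≫ hU.fromSpec, ?_, ?_⟩
  · have hnat : (t ∣_ W') ≫ hW'.isoSpec.hom = hW.isoSpec.hom ≫ Spec.map (t.app W') := by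
      rw [← cancel_mono hW'.fromSpec, Category.assoc, Category.assoc, hW'.isoSpec_hom_fromSpec,
        morphismRestrict_ι, happ, hW'.SpecMap_appLE_fromSpec t hW le_rfl,
        hW.isoSpec_hom_fromSpec_assoc]
    rw [← Category.assoc, hnat, Category.assoc, ← Spec.map_comp_assoc, hG1,
      hU.SpecMap_appLE_fromSpec a hW hWU, hW.isoSpec_hom_fromSpec_assoc]
  · rw [Category.assoc, Category.assoc, ← hV.SpecMap_appLE_fromSpec f hU hUV,
      ← Spec.map_comp_assoc, hG2, hV.SpecMap_appLE_fromSpec b hW' hWV,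
      hW'.isoSpec_hom_fromSpec_assoc]

open Groth.Agent.H22.ThickLift in
theorem backward {X Y : Scheme.{u}} (f : X ⟶ Y)
    (H : ∀ (U : X.Opens) (V : Y.Opens) (hU : IsAffineOpen U) (hV : IsAffineOpen V)
      (hUV : U ≤ f ⁻¹ᵁ V),
      letI := (f.appLE V U hUV).hom.toAlgebra
      Algebra.FormallyEtale Γ(Y, V) Γ(X, U)) : MoreMor.IsFormallyEtaleHom f := by
  intro A _ I hI a b hab
  haveI : FormallyUnramified f := ⟨fun {V} hV {U} hU e => by
    have := H U V hU hV e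
    rw [RingHom.FormallyUnramified]
    infer_instance⟩
  have ht : MoreMor.IsFirstOrderThickening (Spec.map (CommRingCat.ofHom (Ideal.Quotient.mk I))) :=
    firstOrder_SpecMap (Ideal.Quotient.mk I) Ideal.Quotient.mk_surjective (fun x y hx hy => by
      rw [Ideal.Quotient.eq_zero_iff_mem] at hx hy
      have : x * y ∈ I ^ 2 := by rw [pow_two]; exact Ideal.mul_mem_mul hx hy
      rw [hI] at this
      exact this)
  haveI : IsClosedImmersion (Spec.map (CommRingCat.ofHom (Ideal.Quotient.mk I))) := ht.1.1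
  have hloc : ∀ p : Spec (CommRingCat.of A), ∃ (W' : (Spec (CommRingCat.of A)).Opens),
      p ∈ W' ∧ ∃ l : W'.toScheme ⟶ X,
        (Spec.map (CommRingCat.ofHom (Ideal.Quotient.mk I)) ∣_ W') ≫ l =
          (Spec.map (CommRingCat.ofHom (Ideal.Quotient.mk I)) ⁻¹ᵁ W').ι ≫ a ∧
        l ≫ f = W'.ι ≫ b := by
    intro p
    obtain ⟨q, rfl⟩ := ht.1.2.surj p
    obtain ⟨_, ⟨V : Y.Opens, hV, rfl⟩, hpV, -⟩ :=
      Y.isBasis_affineOpens.exists_subset_of_mem_open (Set.mem_univ (f (a q))) isOpen_univ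
    obtain ⟨_, ⟨U : X.Opens, hU, rfl⟩, hqU, hUV : U ≤ f ⁻¹ᵁ V⟩ :=
      X.isBasis_affineOpens.exists_subset_of_mem_open hpV (f ⁻¹ᵁ V).isOpen
    let O : (Spec (CommRingCat.of A)).Opens :=
      ⟨(Spec.map (CommRingCat.ofHom (Ideal.Quotient.mk I)) '' ((a ⁻¹ᵁ U : Set _)ᶜ))ᶜ,
        ((Spec.map (CommRingCat.ofHom (Ideal.Quotient.mk I))).isClosedEmbedding.isClosedMap _
          (a ⁻¹ᵁ U).isOpen.isClosed_compl).isOpen_compl⟩ ⊓ b ⁻¹ᵁ V
    have hqO : Spec.map (CommRingCat.ofHom (Ideal.Quotient.mk I)) q ∈ O := by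
      refine ⟨?_, ?_⟩
      · rintro ⟨q', hq', hqq'⟩
        have := (Spec.map (CommRingCat.ofHom (Ideal.Quotient.mk I))).isClosedEmbedding.injective
          hqq'
        subst this
        exact hq' hqU
      · change b (Spec.map (CommRingCat.ofHom (Ideal.Quotient.mk I)) q) ∈ V
        rw [← Scheme.Hom.comp_apply, hab]
        exact hpV
    obtain ⟨_, ⟨W' : (Spec (CommRingCat.of A)).Opens, hW', rfl⟩, hqW', hW'O⟩ :=
      (Spec (CommRingCat.of A)).isBasis_affineOpens.exists_subset_of_mem_open hqO O.isOpen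
    have hWU : Spec.map (CommRingCat.ofHom (Ideal.Quotient.mk I)) ⁻¹ᵁ W' ≤ a ⁻¹ᵁ U := by
      intro q' hq'
      by_contra hcon
      exact (hW'O hq').1 ⟨q', hcon, rfl⟩
    have hWV : W' ≤ b ⁻¹ᵁ V := fun p hp => (hW'O hp).2
    obtain ⟨l, hl1, hl2⟩ := exists_local_lift_of_formallySmooth f _ ht a b hab W' hW' U hU V hV
      hUV hWU hWV (by
        have := H U V hU hV hUV
        infer_instance)
    exact ⟨W', hqW', l, hl1, hl2⟩
  choose W' hpW' l hl1 hl2 using hloc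
  exact existsUnique_lift_of_local_lifts f _ ht a b W'
    (top_le_iff.mp fun p _ => TopologicalSpace.Opens.mem_iSup.mpr ⟨p, hpW' p⟩) l hl1 hl2

open Groth.Agent.H22.UnramFibre in
theorem forward {X Y : Scheme.{u}} (f : X ⟶ Y) (H : MoreMor.IsFormallyEtaleHom f)
    (U : X.Opens) (V : Y.Opens) (hU : IsAffineOpen U) (hV : IsAffineOpen V)
    (hUV : U ≤ f ⁻¹ᵁ V) :
    letI := (f.appLE V U hUV).hom.toAlgebra
    Algebra.FormallyEtale Γ(Y, V) Γ(X, U) := by
  letI algA : Algebra Γ(Y, V) Γ(X, U) := (f.appLE V U hUV).hom.toAlgebra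
  rw [Algebra.FormallyEtale.iff_comp_bijective]
  intro B _ _ I hI
  -- the bottom map
  let b : Spec (CommRingCat.of B) ⟶ Y :=
    Spec.map (CommRingCat.ofHom (algebraMap Γ(Y, V) B)) ≫ hV.fromSpec
  have key : ∀ (φ : Γ(X, U) →ₐ[Γ(Y, V)] B),
      (Spec.map (CommRingCat.ofHom φ.toRingHom) ≫ hU.fromSpec) ≫ f = b := by
    intro φ
    rw [Category.assoc, ← hV.SpecMap_appLE_fromSpec f hU hUV, ← Spec.map_comp_assoc]
    congr 2
    ext r
    exact φ.commutes r
  have keyq : ∀ (g : Γ(X, U) →ₐ[Γ(Y, V)] B ⧸ I),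
      Spec.map (CommRingCat.ofHom (Ideal.Quotient.mk I)) ≫ b =
        (Spec.map (CommRingCat.ofHom g.toRingHom) ≫ hU.fromSpec) ≫ f := by
    intro g
    rw [Category.assoc, ← hV.SpecMap_appLE_fromSpec f hU hUV, ← Spec.map_comp_assoc,
      ← Spec.map_comp_assoc]
    congr 2
    ext r
    exact (g.commutes r).symm
  constructor
  · intro φ₁ φ₂ h
    have h' : ∀ x, Ideal.Quotient.mk I (φ₁ x) = Ideal.Quotient.mk I (φ₂ x) :=
      fun x => congr($h x)
    obtain ⟨l, -, hl⟩ := H B I hI _ b (keyq ((Ideal.Quotient.mkₐ Γ(Y, V) I).comp φ₁))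
    have e1 := hl (Spec.map (CommRingCat.ofHom φ₁.toRingHom) ≫ hU.fromSpec) ⟨by
      rw [← Spec.map_comp_assoc]; rfl, key φ₁⟩
    have e2 := hl (Spec.map (CommRingCat.ofHom φ₂.toRingHom) ≫ hU.fromSpec) ⟨by
      rw [← Spec.map_comp_assoc]
      congr 2
      ext x
      exact (h' x).symm, key φ₂⟩
    have := e1.trans e2.symm
    rw [cancel_mono, Spec.map_inj] at this
    ext x
    exact congr($this x)
  · intro g
    obtain ⟨l, ⟨hl1, hl2⟩, -⟩ := H B I hI _ b (keyq g)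
    have hsurj : Function.Surjective (Spec.map (CommRingCat.ofHom (Ideal.Quotient.mk I))) :=
      surjective_SpecMap_of_sqzero (Ideal.Quotient.mk I) Ideal.Quotient.mk_surjective
        (fun x y hx hy => by
          rw [Ideal.Quotient.eq_zero_iff_mem] at hx hy
          have : x * y ∈ I ^ 2 := by rw [pow_two]; exact Ideal.mul_mem_mul hx hy
          rw [hI] at this
          exact this)
    have hrange : Set.range l ⊆ Set.range U.ι := by
      rintro _ ⟨p, rfl⟩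
      obtain ⟨q, rfl⟩ := hsurj p
      rw [← Scheme.Hom.comp_apply, hl1, Scheme.Hom.comp_apply]
      rw [Scheme.Opens.range_ι]
      have : hU.fromSpec (Spec.map (CommRingCat.ofHom g.toRingHom) q) ∈ Set.range hU.fromSpec :=
        ⟨_, rfl⟩
      rw [hU.range_fromSpec] at this
      exact this
    let l' : Spec (CommRingCat.of B) ⟶ U.toScheme := IsOpenImmersion.lift U.ι l hrange
    have hl' : l' ≫ U.ι = l := IsOpenImmersion.lift_fac _ _ _
    let ψ : Γ(X, U) ⟶ CommRingCat.of B := Spec.preimage (l' ≫ hU.isoSpec.hom)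
    have hψ : Spec.map ψ ≫ hU.fromSpec = l := by
      rw [Spec.map_preimage, Category.assoc, hU.isoSpec_hom_fromSpec, hl']
    have hψ1 : f.appLE V U hUV ≫ ψ = CommRingCat.ofHom (algebraMap Γ(Y, V) B) := by
      apply Spec.map_injective
      rw [← cancel_mono hV.fromSpec, Spec.map_comp, Category.assoc,
        hV.SpecMap_appLE_fromSpec f hU hUV, ← Category.assoc, hψ, hl2]
    have hψ2 : ψ ≫ CommRingCat.ofHom (Ideal.Quotient.mk I) = CommRingCat.ofHom g.toRingHom := by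
      apply Spec.map_injective
      rw [← cancel_mono hU.fromSpec, Spec.map_comp, Category.assoc, hψ, hl1]
    refine ⟨⟨ψ.hom, fun r => congr($hψ1 r)⟩, ?_⟩
    ext x
    exact congr($hψ2 x)

theorem main {X Y : Scheme.{u}} (f : X ⟶ Y) :
    MoreMor.IsFormallyEtaleHom f ↔
      ∀ (U : X.Opens) (V : Y.Opens) (hU : IsAffineOpen U) (hV : IsAffineOpen V)
        (hUV : U ≤ f ⁻¹ᵁ V),
        letI := (f.appLE V U hUV).hom.toAlgebra
        Algebra.FormallyEtale Γ(Y, V) Γ(X, U) :=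
  ⟨fun H U V hU hV hUV => forward f H U V hU hV hUV, backward f⟩

end Helpers

open AlgebraicGeometry CategoryTheory Limits in
/-- (1) ⇔ (3): a morphism f : X → Y is formally étale (unique lifting against first order thickenings of
affine schemes, rings in the same universe) if and only if for all affine opens U ⊆ f⁻¹(V) the ring
map O_Y(V) → O_X(U) is formally étale. -/
theorem result {X Y : Scheme.{u}} (f : X ⟶ Y) :
    MoreMor.IsFormallyEtaleHom f ↔ ∀ (U : X.Opens) (V : Y.Opens) (hU : IsAffineOpen U) (hV : IsAffineOpen V) (hUV : U ≤ f ⁻¹ᵁ V),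
      letI := (f.appLE V U hUV).hom.toAlgebra
      Algebra.FormallyEtale Γ(Y, V) Γ(X, U) := by
  exact main f

end Groth.Agent.S1487
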