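import Groth.Statements.S1489
import Mathlib
import Groth.Agent.S1487

set_option autoImplicit false
universe u
open FlatMor

namespace Groth.Agent.S1489

section Helpers

open CategoryTheory CategoryTheory.Limits AlgebraicGeometry

theorem main {X S : Scheme.{u}} (f : X ⟶ S) :
    Etale f ↔ LocallyOfFinitePresentation f ∧ MoreMor.IsFormallyEtaleHom f := by
  rw [Groth.Agent.S1487.result f]
  constructor
  · intro h
    refine ⟨⟨fun {U} hU {V} hV e => ?_⟩, fun U V hU hV hUV => ?_⟩
    · have := f.etale_appLE hU hV e
      rw [RingHom.Etale] at this
      rw [RingHom.FinitePresentation]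
      exact this.finitePresentation
    · have := f.etale_appLE hV hU hUV
      rw [RingHom.Etale] at this
      exact this.formallyEtale
  · rintro ⟨h1, h2⟩
    refine ⟨fun {U} hU {V} hV e => ?_⟩
    have := f.finitePresentation_appLE hU hV e
    rw [RingHom.FinitePresentation] at this
    rw [RingHom.Etale]
    exact @Algebra.Etale.mk _ _ _ _ (f.appLE U V e).hom.toAlgebra (h2 V U hV hU e) this

end Helpers

open AlgebraicGeometry CategoryTheory Limits in
/-- A morphism f : X → S is étale if and only if it is locally of finite presentation and formally
étale, i.e. has the unique lifting property against first order thickenings of affine schemes (rings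
in the same universe). -/
theorem result {X S : Scheme.{u}} (f : X ⟶ S) :
    Etale f ↔ LocallyOfFinitePresentation f ∧ MoreMor.IsFormallyEtaleHom f := by
  exact main f

end Groth.Agent.S1489
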