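import Groth.Statements.S10228
import Mathlib
import Groth.Agent.Lib.helper15.AlgSpPoints3
import Groth.Agent.Lib.helper15.AlgSpOpenSub3

set_option autoImplicit false
universe u
open CategoryTheory CategoryTheory.Limits AlgebraicGeometry Topology TopologicalSpace
open AlgSp
open Groth.Agent.Lib.H15.AS

namespace Groth.Agent.S10228

/-- A morphism all of whose points lie in `W` factors through the subsheaf of sections with points in `W`. -/
theorem exists_factor_sub {S : Scheme.{u}} {Y F : AlgSp.Sp S} (W : Set (AlgSp.Points F)) (f : Y ⟶ F)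
    (h : Set.range (AlgSp.Points.map f) ⊆ W) : ∃ k : Y ⟶ openSub F W, k ≫ openSubι F W = f := by
  have hf : Subfunctor.range f.hom ≤ openSubfunctor F W := by
    intro T ξ hξ
    obtain ⟨η, rfl⟩ := hξ
    intro t
    rw [← GrothendieckTopology.uliftYonedaEquiv_symm_naturality_right, ← AlgSp.Points.map_ofPt]
    exact h ⟨_, rfl⟩
  exact ⟨⟨Subfunctor.lift f.hom hf⟩, Sheaf.hom_ext (Subfunctor.lift_ι f.hom hf)⟩

/-- An algebraic space that is the coproduct of finitely many quasi-compact algebraic spaces is
quasi-compact: if X_i (i in a finite type) are quasi-compact algebraic spaces over a scheme S and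
the underlying sheaf of the algebraic space X is a coproduct of the underlying sheaves of the X_i
(given by a colimit cofan of fppf sheaves whose cone point is the sheaf of X), then X is
quasi-compact. -/
theorem result {S : Scheme.{u}} {ι : Type u} [Finite ι] (Xi : ι → AlgSp.Space S)
    (X : AlgSp.Space S) (c : Cofan fun i => (Xi i).obj) (hc : IsColimit c) (hX : c.pt = X.obj)
    (hqc : ∀ i, AlgSp.IsQuasiCompactSp (Xi i).obj) :
    AlgSp.IsQuasiCompactSp X.obj := by
  have hX' := hX
  obtain ⟨hdiag, hat⟩ : AlgSp.IsAlgSpace c.pt := by rw [hX]; exact X.property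
  rw [← hX]
  have hpts : ∀ x : AlgSp.Points c.pt, x ∈ ⋃ i, Set.range (AlgSp.Points.map (c.inj i)) := by
    have hfac : ∀ i, Set.range (AlgSp.Points.map (c.inj i)) ⊆
        ⋃ i, Set.range (AlgSp.Points.map (c.inj i)) := fun i => Set.subset_iUnion (fun i => Set.range (AlgSp.Points.map (c.inj i))) i
    choose j hj using fun i => exists_factor_sub _ (c.inj i) (hfac i)
    have hd : hc.desc (Cofan.mk _ j) ≫ openSubι c.pt (⋃ i, Set.range (AlgSp.Points.map (c.inj i))) =
        𝟙 c.pt := by
      refine hc.hom_ext fun i => ?_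
      have h1 : c.ι.app i ≫ hc.desc (Cofan.mk _ j) = j i.as := hc.fac (Cofan.mk _ j) i
      rw [← Category.assoc, h1, Category.comp_id]
      exact hj i.as
    intro x
    have h2 : AlgSp.Points.map (hc.desc (Cofan.mk _ j) ≫
        openSubι c.pt (⋃ i, Set.range (AlgSp.Points.map (c.inj i)))) x = x := by
      rw [hd, AlgSp.Points.map_id]
    rw [AlgSp.Points.map_comp] at h2
    have h3 : AlgSp.Points.map (openSubι c.pt (⋃ i, Set.range (AlgSp.Points.map (c.inj i))))
        (AlgSp.Points.map (hc.desc (Cofan.mk _ j)) x) ∈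
        Set.range (AlgSp.Points.map
          (openSubι c.pt (⋃ i, Set.range (AlgSp.Points.map (c.inj i))))) := ⟨_, rfl⟩
    rw [range_map_openSubι, h2] at h3
    exact h3
  haveI : CompactSpace (AlgSp.Points c.pt) := by
    refine ⟨?_⟩
    have : (Set.univ : Set (AlgSp.Points c.pt)) = ⋃ i, Set.range (AlgSp.Points.map (c.inj i)) :=
      (Set.eq_univ_of_forall hpts).symm
    rw [this]
    refine isCompact_iUnion fun i => ?_
    haveI := compactSpace_of_isQuasiCompactSp (hqc i)
    exact isCompact_range (AlgSp.Points.continuous_map _)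
  exact isQuasiCompactSp_of_compactSpace hat

end Groth.Agent.S10228
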