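import Groth.Statements.S10975
import Mathlib.Algebra.Order.Group.Finset
import Mathlib.LinearAlgebra.Span.Basic

set_option autoImplicit false

open FunFld

namespace Groth.Agent.S10975

/-- `A(D₁ ⊔ D₂) = A(D₁) + A(D₂)` for divisors of a function field of one variable. -/
theorem result (k K : Type*) [Field k] [Field K] [Algebra k K] (D₁ D₂ : FunFld.Divisor k K) :
    FunFld.AD (D₁ ⊔ D₂) = FunFld.AD D₁ ⊔ FunFld.AD D₂ := by
  classical
  apply le_antisymm
  · intro a ha
    rw [Submodule.mem_sup]
    refine ⟨fun P => if D₂ P ≤ D₁ P then a P else 0, ?_, fun P => if D₂ P ≤ D₁ P then 0 else a P, ?_, ?_⟩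
    · intro P
      by_cases h : D₂ P ≤ D₁ P
      · have := ha P
        simp only [h, if_true]
        rw [Finsupp.sup_apply, sup_eq_left.mpr h] at this
        exact this
      · simp [h]
    · intro P
      by_cases h : D₂ P ≤ D₁ P
      · simp [h]
      · have := ha P
        simp only [h, if_false]
        rw [Finsupp.sup_apply, sup_eq_right.mpr (le_of_not_ge h)] at this
        exact this
    · funext P
      by_cases h : D₂ P ≤ D₁ P <;> simp [h]
  · apply sup_le
    · intro a ha P
      refine (ha P).trans ?_
      rw [Finsupp.sup_apply]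
      exact WithZero.exp_le_exp.mpr le_sup_left
    · intro a ha P
      refine (ha P).trans ?_
      rw [Finsupp.sup_apply]
      exact WithZero.exp_le_exp.mpr le_sup_right

end Groth.Agent.S10975
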