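import Groth.Statements.S10986
import Mathlib.LinearAlgebra.Dual.Lemmas

set_option autoImplicit false

open FunFld

namespace Groth.Agent.S10986

/-- `L(D) · W(C) ⊆ W(C - D)`: if `x ∈ L(D)` and `ω` vanishes on `A(C) + K` then `xω` vanishes on `A(C -
D) + K`. -/
theorem result (k K : Type*) [Field k] [Field K] [Algebra k K]
    (C D : FunFld.Divisor k K) (x : K) (hxD : x ∈ FunFld.L D)
    (hx : ∀ a ∈ FunFld.adele k K, x • a ∈ FunFld.adele k K)
    (ω : Module.Dual k (FunFld.adele k K)) (hω : ω ∈ FunFld.WD C) :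
    FunFld.mulW x hx ω ∈ FunFld.WD (C - D) := by
  unfold FunFld.WD at hω ⊢
  rw [Submodule.mem_dualAnnihilator] at hω ⊢
  intro b hb
  unfold FunFld.mulW
  rw [LinearMap.comp_apply]
  apply hω
  -- show `x • b ∈ ADK C`
  unfold FunFld.ADK at hb ⊢
  rw [Submodule.mem_comap] at hb ⊢
  obtain ⟨a, ha, d, hd, hsum⟩ := Submodule.mem_sup.mp hb
  obtain ⟨y, rfl⟩ := hd
  rw [Submodule.mem_sup]
  refine ⟨x • a, ?_, FunFld.diag k K (x * y), ⟨x * y, rfl⟩, ?_⟩
  · intro P
    have h1 : P.1 (x * a P) = P.1 x * P.1 (a P) := map_mul _ _ _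
    change P.1 ((x • a) P) ≤ _
    rw [Pi.smul_apply, smul_eq_mul, h1]
    calc P.1 x * P.1 (a P) ≤ WithZero.exp (D P) * WithZero.exp ((C - D) P) :=
          mul_le_mul' (hxD P) (ha P)
      _ = WithZero.exp (C P) := by
          rw [← WithZero.exp_add, Finsupp.sub_apply]
          congr 1
          ring
  · change x • a + FunFld.diag k K (x * y) = x • ((FunFld.adele k K).subtype b)
    rw [← hsum, smul_add]
    congr 1

end Groth.Agent.S10986
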