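import Groth.Statements.S5767
import Groth.Agent.Lib.helper9.SemiLocalDim
import Mathlib.RingTheory.KrullDimension.Regular
import Mathlib.RingTheory.KrullDimension.NonZeroDivisors

set_option autoImplicit false
universe u
open EGA41

namespace Groth.Agent.S5767

/-- Let A be a semi-local Noetherian ring, M a finitely generated A-module and x an element of the
Jacobson radical of A. One always has dim(M/xM) ≥ dim(M) - 1; equality dim(M/xM) = dim(M) - 1 holds
if and only if x belongs to none of the prime ideals p of Supp(M) with dim(A/p) = dim(M). Stated as: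
dim(M/xM) + 1 = dim(M) iff x avoids those primes. -/
theorem result (A : Type u) [CommRing A] [IsNoetherianRing A]
    [Finite (MaximalSpectrum A)] (M : Type u) [AddCommGroup M] [Module A M] [Module.Finite A M] (x : A)
    (hx : x ∈ Ring.jacobson A) :
    Module.supportDim A (QuotSMulTop x M) + 1 = Module.supportDim A M ↔
      ∀ p : PrimeSpectrum A, p ∈ Module.support A M →
        ringKrullDim (A ⧸ p.asIdeal) = Module.supportDim A M → x ∉ p.asIdeal := by
  classical
  rcases subsingleton_or_nontrivial M with hM | hM
  · have h1 : Module.supportDim A M = ⊥ := Module.supportDim_eq_bot_of_subsingleton A M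
    have h2 : Module.supportDim A (QuotSMulTop x M) = ⊥ :=
      Module.supportDim_eq_bot_of_subsingleton A _
    rw [h1, h2]
    constructor
    · intro _ p hp
      rw [Module.support_eq_empty] at hp
      exact absurd hp (Set.notMem_empty p)
    · intro _
      rfl
  have hxj : x ∈ (Module.annihilator A M).jacobson := by
    rw [Ideal.jacobson, Submodule.mem_sInf]
    rintro m ⟨-, hm⟩
    exact Ring.jacobson_le_of_isMaximal m hx
  have F1 : Module.supportDim A M ≤ Module.supportDim A (QuotSMulTop x M) + 1 :=
    Module.supportDim_le_supportDim_quotSMulTop_succ_of_mem_jacobson hxj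
  have F2 : Module.supportDim A (QuotSMulTop x M) ≤ Module.supportDim A M :=
    Module.supportDim_le_of_surjective (Submodule.mkQ _) (Submodule.mkQ_surjective _)
  obtain ⟨n, hn⟩ := Groth.Agent.Lib.helper9.SemiLocalDim.exists_nat_eq_supportDim A M
  have hQnt : Nontrivial (QuotSMulTop x M) := by
    rw [← Module.supportDim_ne_bot_iff_nontrivial A]
    intro hbot
    rw [hbot, WithBot.bot_add, hn] at F1
    exact absurd F1 (by simp)
  obtain ⟨n', hn'⟩ := Groth.Agent.Lib.helper9.SemiLocalDim.exists_nat_eq_supportDim A
    (QuotSMulTop x M)
  have hsupp : Module.support A (QuotSMulTop x M) =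
      Module.support A M ∩ PrimeSpectrum.zeroLocus {x} := Module.support_quotSMulTop x
  -- key equivalence
  have key : (n : WithBot ℕ∞) ≤ Module.supportDim A (QuotSMulTop x M) ↔
      ∃ p : PrimeSpectrum A, p ∈ Module.support A M ∧
        ringKrullDim (A ⧸ p.asIdeal) = Module.supportDim A M ∧ x ∈ p.asIdeal := by
    constructor
    · intro hle
      obtain ⟨l, hl⟩ := Order.le_krullDim_iff.mp hle
      have hhead : l.head.1 ∈ Module.support A M ∩ PrimeSpectrum.zeroLocus {x} :=
        hsupp ▸ l.head.2
      refine ⟨l.head.1, hhead.1, ?_, ?_⟩
      · apply le_antisymm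
        · rw [ringKrullDim_quotient]
          unfold Module.supportDim
          refine Order.krullDim_le_of_strictMono
            (fun q : PrimeSpectrum.zeroLocus (l.head.1.asIdeal : Set A) =>
              (⟨q.1, Module.mem_support_mono
                ((PrimeSpectrum.mem_zeroLocus _ _).mp q.2) hhead.1⟩ : Module.support A M)) ?_
          intro q q' h
          exact h
        · rw [hn, ringKrullDim_quotient, Order.le_krullDim_iff]
          refine ⟨LTSeries.mk l.length (fun i =>
            (⟨(l i).1, (PrimeSpectrum.mem_zeroLocus _ _).mpr
              (l.monotone (Fin.zero_le i) : l.head ≤ l i)⟩ :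
              PrimeSpectrum.zeroLocus (l.head.1.asIdeal : Set A)))
            (fun i j hij => l.strictMono hij), hl⟩
      · have := hhead.2
        rw [PrimeSpectrum.mem_zeroLocus, Set.singleton_subset_iff] at this
        exact this
    · rintro ⟨p, hp, hdim, hxp⟩
      rw [← hn, ← hdim, ringKrullDim_quotient]
      unfold Module.supportDim
      refine Order.krullDim_le_of_strictMono
        (fun q : PrimeSpectrum.zeroLocus (p.asIdeal : Set A) =>
          (⟨q.1, by
            rw [hsupp]
            have hq := (PrimeSpectrum.mem_zeroLocus _ _).mp q.2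
            refine ⟨Module.mem_support_mono hq hp, ?_⟩
            rw [PrimeSpectrum.mem_zeroLocus, Set.singleton_subset_iff]
            exact hq hxp⟩ : Module.support A (QuotSMulTop x M))) ?_
      intro q q' h
      exact h
  rw [hn, hn'] at F1 F2
  have F1' : n ≤ n' + 1 := by exact_mod_cast F1
  have F2' : n' ≤ n := by exact_mod_cast F2
  have hL : Module.supportDim A (QuotSMulTop x M) + 1 = Module.supportDim A M ↔ ¬ (n ≤ n') := by
    rw [hn, hn']
    constructor
    · intro h
      have : n' + 1 = n := by exact_mod_cast h
      omega
    · intro h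
      have : n' + 1 = n := by omega
      exact_mod_cast this
  rw [hL]
  have hK : (n ≤ n') ↔ (n : WithBot ℕ∞) ≤ Module.supportDim A (QuotSMulTop x M) := by
    rw [hn']
    exact_mod_cast Iff.rfl
  rw [hK, key]
  constructor
  · intro h p hp hdim hxp
    exact h ⟨p, hp, hdim, hxp⟩
  · rintro h ⟨p, hp, hdim, hxp⟩
    exact h p hp hdim hxp

end Groth.Agent.S5767
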