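import Groth.Statements.S5768
import Groth.Agent.Lib.helper9.SemiLocalDim
import Groth.Agent.Lib.helper5.SDim

set_option autoImplicit false
universe u
open EGA41

namespace Groth.Agent.S5768

open Pointwise Groth.Agent.H5.SDim

section

variable {A : Type u} [CommRing A] (M : Type u) [AddCommGroup M] [Module A M]

/-- `(M/IM)/J(M/IM) ≃ M/(I + J)M`. -/
noncomputable def quotEquiv' (I J : Ideal A) :
    ((M ⧸ (I • ⊤ : Submodule A M)) ⧸ (J • (⊤ : Submodule A (M ⧸ (I • ⊤ : Submodule A M))))) ≃ₗ[A]
      M ⧸ ((I ⊔ J) • (⊤ : Submodule A M)) :=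
  Submodule.quotEquivOfEq _ ((J • (⊤ : Submodule A M)).map (I • ⊤ : Submodule A M).mkQ)
      (by rw [Submodule.map_smul'', Submodule.map_top, Submodule.range_mkQ]) ≪≫ₗ
    Submodule.quotientQuotientEquivQuotientSup (I • ⊤ : Submodule A M) (J • ⊤) ≪≫ₗ
    Submodule.quotEquivOfEq _ _ (by rw [Submodule.sup_smul])

lemma ofList_eq_span_range_get (ys : List A) :
    Ideal.ofList ys = Ideal.span (Set.range ys.get) := by
  unfold Ideal.ofList
  congr 1
  ext y
  simp only [Set.mem_ofPred_eq, Set.mem_range]
  exact List.mem_iff_get

lemma ofList_ofFn {m : ℕ} (x : Fin m → A) :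
    Ideal.ofList (List.ofFn x) = Ideal.span (Set.range x) := by
  unfold Ideal.ofList
  congr 1
  ext y
  simp only [Set.mem_ofPred_eq, Set.mem_range, List.mem_ofFn]

variable [IsNoetherianRing A]

/-- `dim M ≤ dim M/(xs)M + |xs|` for `xs` in the Jacobson radical. -/
lemma supportDim_le_quotient_ofList_add : ∀ (xs : List A) (M : Type u) [AddCommGroup M]
    [Module A M] [Module.Finite A M], (∀ x ∈ xs, x ∈ Ring.jacobson A) →
    Module.supportDim A M ≤
      Module.supportDim A (M ⧸ (Ideal.ofList xs • (⊤ : Submodule A M))) + xs.length := by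
  intro xs
  induction xs with
  | nil =>
    intro M _ _ _ _
    have h0 : (Ideal.ofList ([] : List A) • (⊤ : Submodule A M)) = ⊥ := by
      rw [Ideal.ofList_nil, Submodule.bot_smul]
    rw [Module.supportDim_eq_of_equiv (Submodule.quotEquivOfEqBot _ h0)]
    simp
  | cons x0 xs ih =>
    intro M _ _ _ hxs
    have hx0 : x0 ∈ (Module.annihilator A M).jacobson :=
      mem_jacobson_annihilator (hxs x0 (List.mem_cons_self))
    have h1 := ih (QuotSMulTop x0 M) (fun x hx => hxs x (List.mem_cons_of_mem _ hx))
    have e := quotEquiv M x0 (Ideal.ofList xs)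
    rw [Module.supportDim_eq_of_equiv e, ← Ideal.ofList_cons] at h1
    calc Module.supportDim A M ≤ Module.supportDim A (QuotSMulTop x0 M) + 1 :=
          Module.supportDim_le_supportDim_quotSMulTop_succ_of_mem_jacobson hx0
      _ ≤ (Module.supportDim A (M ⧸ (Ideal.ofList (x0 :: xs) • (⊤ : Submodule A M))) +
            xs.length) + 1 := by gcongr
      _ = _ := by
        rw [List.length_cons, add_assoc]
        norm_cast

end

/-- Let A be a semi-local Noetherian ring with Jacobson radical r, M a nonzero finitely generated
A-module and x_1, ..., x_k elements of r. One always has dim(M/(x_1 M + ... + x_k M)) ≥ dim(M) - k,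
and equality holds if and only if there exist further elements of r which together with the x_i form
a system of parameters for M (dim(M) elements of r modulo which M has finite length). -/
theorem result (A : Type u) [CommRing A]
    [IsNoetherianRing A] [Finite (MaximalSpectrum A)] (M : Type u) [AddCommGroup M] [Module A M]
    [Module.Finite A M] [Nontrivial M] (xs : List A) (hxs : ∀ x ∈ xs, x ∈ Ring.jacobson A) :
    Module.supportDim A (M ⧸ (Ideal.ofList xs • (⊤ : Submodule A M))) + xs.length = Module.supportDim A M ↔
      ∃ ys : List A, (∀ y ∈ ys, y ∈ Ring.jacobson A) ∧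
        ((xs ++ ys).length : WithBot ℕ∞) = Module.supportDim A M ∧
        IsFiniteLength A (M ⧸ (Ideal.ofList (xs ++ ys) • (⊤ : Submodule A M))) := by
  classical
  obtain ⟨n, hn⟩ := Groth.Agent.Lib.helper9.SemiLocalDim.exists_nat_eq_supportDim A M
  have hA := supportDim_le_quotient_ofList_add xs M hxs
  set M' := M ⧸ (Ideal.ofList xs • (⊤ : Submodule A M)) with hM'
  constructor
  · intro heq
    have hnt : Nontrivial M' := by
      rw [← Module.supportDim_ne_bot_iff_nontrivial A]
      intro hbot
      rw [hbot, WithBot.bot_add, hn] at heq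
      exact absurd heq (by simp)
    obtain ⟨e, he⟩ := Groth.Agent.Lib.helper9.SemiLocalDim.exists_nat_eq_supportDim A M'
    rw [he, hn] at heq
    have heq' : e + xs.length = n := by exact_mod_cast heq
    obtain ⟨m, x, hme, hxj, hfl⟩ := exists_of_supportDim_le e M' (le_of_eq he)
    have hem : e ≤ m := by
      have := supportDim_le_of_isFiniteLength m M' x hxj hfl
      rw [he] at this
      exact_mod_cast this
    have hm : m = e := le_antisymm hme hem
    refine ⟨List.ofFn x, ?_, ?_, ?_⟩
    · intro y hy
      obtain ⟨i, rfl⟩ := (List.mem_ofFn' x y).mp hy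
      exact hxj i
    · rw [hn, List.length_append, List.length_ofFn]
      have : xs.length + m = n := by omega
      exact_mod_cast this
    · rw [Ideal.ofList_append, ofList_ofFn]
      exact (quotEquiv' M (Ideal.ofList xs) (Ideal.span (Set.range x))).isFiniteLength hfl
  · rintro ⟨ys, hys, hlen, hfl⟩
    refine le_antisymm ?_ hA
    rw [← hlen]
    rcases subsingleton_or_nontrivial M' with hs | hnt
    · rw [Module.supportDim_eq_bot_of_subsingleton, WithBot.bot_add]
      exact bot_le
    have hfl' : IsFiniteLength A
        (M' ⧸ (Ideal.span (Set.range ys.get) • (⊤ : Submodule A M'))) := by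
      rw [Ideal.ofList_append, ofList_eq_span_range_get ys] at hfl
      exact (quotEquiv' M (Ideal.ofList xs) (Ideal.span (Set.range ys.get))).symm.isFiniteLength hfl
    have := supportDim_le_of_isFiniteLength ys.length M' ys.get
      (fun i => hys _ (List.get_mem ys i)) hfl'
    calc Module.supportDim A M' + (xs.length : WithBot ℕ∞)
        ≤ (ys.length : WithBot ℕ∞) + xs.length := by gcongr
      _ = ((xs ++ ys).length : WithBot ℕ∞) := by
        rw [List.length_append]
        push_cast
        exact add_comm _ _

end Groth.Agent.S5768
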