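import Groth.Statements.S5765
import Mathlib.RingTheory.KrullDimension.Module
import Mathlib.RingTheory.Spectrum.Prime.Topology
import Mathlib.Order.KrullDimension

set_option autoImplicit false
universe u
open EGA41

namespace Groth.Agent.S5765

/-- Let A be a ring, M a finitely generated A-module and p a prime ideal of A. Then dim_{A_p}(M_p) +
dim_A(M/pM) ≤ dim_A(M). -/
theorem result (A : Type u) [CommRing A] (M : Type u)
    [AddCommGroup M] [Module A M] [Module.Finite A M] (p : Ideal A) [p.IsPrime] :
    Module.supportDim (Localization.AtPrime p) (LocalizedModule p.primeCompl M) +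
        Module.supportDim A (M ⧸ (p • (⊤ : Submodule A M))) ≤ Module.supportDim A M := by
  classical
  by_cases hp : (⟨p, inferInstance⟩ : PrimeSpectrum A) ∈ Module.support A M
  swap
  · rw [Module.notMem_support_iff] at hp
    haveI : Subsingleton (LocalizedModule p.primeCompl M) := hp
    rw [Module.supportDim_eq_bot_of_subsingleton, WithBot.bot_add]
    exact bot_le
  let P : PrimeSpectrum A := ⟨p, inferInstance⟩
  let a : Module.support A M := ⟨P, hp⟩
  haveI : Nonempty (Module.support A M) := ⟨a⟩
  have hmain : ((Order.height a + Order.coheight a : ℕ∞) : WithBot ℕ∞) ≤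
      Module.supportDim A M := by
    unfold Module.supportDim
    rw [Order.krullDim_eq_iSup_height_add_coheight_of_nonempty, WithBot.coe_le_coe]
    exact le_iSup (fun a : Module.support A M => Order.height a + Order.coheight a) a
  -- (1) localization
  have h1 : Module.supportDim (Localization.AtPrime p) (LocalizedModule p.primeCompl M) ≤
      (Order.height a : ℕ∞) := by
    rw [Order.height_eq_krullDim_Iic]
    unfold Module.supportDim
    have hmem : ∀ Q : PrimeSpectrum (Localization.AtPrime p),
        Q ∈ Module.support (Localization.AtPrime p) (LocalizedModule p.primeCompl M) →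
        PrimeSpectrum.comap (algebraMap A (Localization.AtPrime p)) Q ∈ Module.support A M := by
      intro Q hQ
      rw [Module.mem_support_iff_of_finite]
      intro r hr
      have hQ' := Module.annihilator_le_of_mem_support hQ
      change algebraMap A (Localization.AtPrime p) r ∈ Q.asIdeal
      apply hQ'
      rw [Module.mem_annihilator]
      intro x
      induction x using LocalizedModule.induction_on with
      | h m s =>
        rw [algebraMap_smul, LocalizedModule.smul'_mk, Module.mem_annihilator.mp hr m,
          LocalizedModule.zero_mk]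
    have hle : ∀ Q : PrimeSpectrum (Localization.AtPrime p),
        PrimeSpectrum.comap (algebraMap A (Localization.AtPrime p)) Q ≤ P := by
      intro Q r hr
      by_contra hrp
      have hunit : IsUnit (algebraMap A (Localization.AtPrime p) r) :=
        IsLocalization.map_units (Localization.AtPrime p) (⟨r, hrp⟩ : p.primeCompl)
      exact Q.2.ne_top (Ideal.eq_top_of_isUnit_mem _ hr hunit)
    let φ : Module.support (Localization.AtPrime p) (LocalizedModule p.primeCompl M) →
        Set.Iic a := fun Q => ⟨⟨_, hmem Q.1 Q.2⟩, hle Q.1⟩
    refine Order.krullDim_le_of_strictMono φ ?_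
    intro Q Q' hQQ'
    have hle' : PrimeSpectrum.comap (algebraMap A (Localization.AtPrime p)) Q.1 ≤
        PrimeSpectrum.comap (algebraMap A (Localization.AtPrime p)) Q'.1 :=
      Ideal.comap_mono (le_of_lt hQQ')
    refine lt_of_le_of_ne hle' ?_
    intro heq
    have heq' : PrimeSpectrum.comap (algebraMap A (Localization.AtPrime p)) Q.1 =
        PrimeSpectrum.comap (algebraMap A (Localization.AtPrime p)) Q'.1 :=
      congrArg (fun x : Set.Iic a => x.1.1) heq
    have := PrimeSpectrum.localization_comap_injective (Localization.AtPrime p) p.primeCompl heq'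
    exact (ne_of_lt hQQ') (Subtype.ext this)
  -- (2) quotient
  have h2 : Module.supportDim A (M ⧸ (p • (⊤ : Submodule A M))) ≤ (Order.coheight a : ℕ∞) := by
    rw [Order.coheight_eq_krullDim_Ici]
    unfold Module.supportDim
    have hsupp := Module.support_quotient (R := A) (M := M) p
    let ψ : Module.support A (M ⧸ (p • (⊤ : Submodule A M))) → Set.Ici a := fun q =>
      ⟨⟨q.1, (hsupp ▸ q.2 : q.1 ∈ Module.support A M ∩ PrimeSpectrum.zeroLocus p).1⟩,
        (hsupp ▸ q.2 : q.1 ∈ Module.support A M ∩ PrimeSpectrum.zeroLocus p).2⟩
    refine Order.krullDim_le_of_strictMono ψ ?_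
    intro q q' hqq'
    exact hqq'
  calc _ ≤ ((Order.height a : ℕ∞) : WithBot ℕ∞) + ((Order.coheight a : ℕ∞) : WithBot ℕ∞) :=
        add_le_add h1 h2
    _ = ((Order.height a + Order.coheight a : ℕ∞) : WithBot ℕ∞) := (WithBot.coe_add _ _).symm
    _ ≤ _ := hmain

end Groth.Agent.S5765
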