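import Groth.Statements.S2084
import Mathlib
import Groth.Agent.Lib.helper9.Depth9

set_option autoImplicit false
universe u
open CAlg

namespace Groth.Agent.S2084

open LocCoh in
theorem supp_loc_univ {R M : Type u} [CommRing R] [AddCommGroup M] [Module R M]
    [Module.Finite R M] (hsupp : Module.support R M = Set.univ) (q : Ideal R) [q.IsPrime] :
    Module.support (Localization.AtPrime q) (LocalizedModule q.primeCompl M) = Set.univ := by
  rw [Set.eq_univ_iff_forall]
  intro Q
  apply Groth.Agent.Lib.helper9.Depth.mem_support_of_comap_mem_support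
  rw [hsupp]
  trivial

theorem supportDim_of_univ {R M : Type u} [CommRing R] [AddCommGroup M] [Module R M]
    (hsupp : Module.support R M = Set.univ) : Module.supportDim R M = ringKrullDim R := by
  unfold Module.supportDim ringKrullDim
  rw [hsupp]
  exact Order.krullDim_eq_of_orderIso OrderIso.Set.univ

theorem dim_formula {R M : Type u} [CommRing R] [IsLocalRing R] [IsNoetherianRing R]
    [AddCommGroup M] [Module R M] [Module.Finite R M] (hM : LocCoh.IsCohenMacaulayModule R M)
    (hsupp : Module.support R M = Set.univ) (q : Ideal R) [hq : q.IsPrime] :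
    ringKrullDim R = ringKrullDim (R ⧸ q) + (q.height : WithBot ℕ∞) := by
  obtain ⟨_, h2, _⟩ := Groth.Agent.Lib.helper9.Depth.isCohenMacaulayModule_localization_and_dim hM
    ⟨q, hq⟩ (by rw [hsupp]; trivial)
  change Module.supportDim R M = Module.supportDim R (M ⧸ (q • (⊤ : Submodule R M))) +
    Module.supportDim (Localization.AtPrime q) (LocalizedModule q.primeCompl M) at h2
  rw [supportDim_of_univ hsupp, supportDim_of_univ (supp_loc_univ hsupp q),
    IsLocalization.AtPrime.ringKrullDim_eq_height q (Localization.AtPrime q)] at h2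
  rw [h2]
  congr 1
  unfold Module.supportDim
  rw [Module.support_quotient, hsupp, Set.univ_inter, ringKrullDim_quotient]

theorem coheight_Iic_of_covBy {α : Type*} [PartialOrder α] {p q : α} (h : p ⋖ q) :
    Order.coheight (⟨p, h.le⟩ : Set.Iic q) = 1 := by
  have htop : Order.coheight (⟨q, le_rfl⟩ : Set.Iic q) = 0 := by
    rw [Order.coheight_eq_zero]
    intro y _
    exact y.2
  rw [Order.coheight_eq_iSup_gt_coheight]
  apply le_antisymm
  · refine iSup₂_le fun y hy => ?_
    have hy1 : p < y.1 := hy
    rcases h.eq_or_eq hy1.le y.2 with h1 | h1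
    · exact absurd h1 hy1.ne'
    · have : y = ⟨q, le_rfl⟩ := Subtype.ext h1
      rw [this, htop, zero_add]
  · have hlt : (⟨p, h.le⟩ : Set.Iic q) < ⟨q, le_rfl⟩ := h.lt
    refine le_trans ?_ (le_iSup₂ (f := fun (y : Set.Iic q) (_ : y > ⟨p, h.le⟩) =>
      Order.coheight y + 1) ⟨q, le_rfl⟩ hlt)
    rw [htop, zero_add]

theorem height_succ {R M : Type u} [CommRing R] [IsLocalRing R] [IsNoetherianRing R]
    [AddCommGroup M] [Module R M] [Module.Finite R M] (hM : LocCoh.IsCohenMacaulayModule R M)
    (hsupp : Module.support R M = Set.univ) (p q : PrimeSpectrum R) (hpq : p ⋖ q) :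
    q.asIdeal.height = p.asIdeal.height + 1 := by
  let S := Localization.AtPrime q.asIdeal
  let N := LocalizedModule q.asIdeal.primeCompl M
  have hCM : LocCoh.IsCohenMacaulayModule S N :=
    (Groth.Agent.Lib.helper9.Depth.isCohenMacaulayModule_localization_and_dim hM q
      (by rw [hsupp]; trivial)).1
  have hsuppN : Module.support S N = Set.univ := supp_loc_univ hsupp q.asIdeal
  have hle : p.asIdeal ≤ q.asIdeal := hpq.le
  have hdisj : Disjoint (q.asIdeal.primeCompl : Set R) (p.asIdeal : Set R) := by
    rw [Set.disjoint_left]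
    intro x hx hxp
    exact hx (hle hxp)
  let P : Ideal S := p.asIdeal.map (algebraMap R S)
  haveI hP : P.IsPrime := IsLocalization.isPrime_of_isPrime_disjoint q.asIdeal.primeCompl S
    p.asIdeal p.2 hdisj
  have hht : P.height = p.asIdeal.height :=
    IsLocalization.height_map_of_disjoint q.asIdeal.primeCompl p.asIdeal hdisj
  have hform := dim_formula hCM hsuppN P
  rw [IsLocalization.AtPrime.ringKrullDim_eq_height q.asIdeal S, hht] at hform
  -- dimension of `S ⧸ P`
  have hone : ringKrullDim (S ⧸ P) = 1 := by
    rw [ringKrullDim_quotient]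
    have hset : PrimeSpectrum.zeroLocus (P : Set S) = Set.Ici (⟨P, hP⟩ : PrimeSpectrum S) := by
      ext x
      rw [PrimeSpectrum.mem_zeroLocus, Set.mem_Ici]
      rfl
    rw [hset, ← Order.coheight_eq_krullDim_Ici,
      ← Order.coheight_orderIso (IsLocalization.AtPrime.primeSpectrumOrderIso S q.asIdeal)]
    have himg : (IsLocalization.AtPrime.primeSpectrumOrderIso S q.asIdeal) ⟨P, hP⟩ =
        (⟨p, hpq.le⟩ : Set.Iic q) := by
      apply Subtype.ext
      apply PrimeSpectrum.ext
      exact IsLocalization.under_map_of_isPrime_disjoint q.asIdeal.primeCompl S p.2 hdisj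
    rw [himg, coheight_Iic_of_covBy hpq]
    rfl
  rw [hone] at hform
  have : (q.asIdeal.height : WithBot ℕ∞) = ((p.asIdeal.height + 1 : ℕ∞) : WithBot ℕ∞) := by
    rw [hform, WithBot.coe_add, add_comm]
    rfl
  exact WithBot.coe_injective this

/-- Let `R` be a Noetherian local ring admitting a finite Cohen–Macaulay module whose support is all of
`Spec R`. Then every maximal chain of prime ideals (starting at a minimal prime, ending at the
maximal ideal, with no prime strictly between consecutive members) has length equal to the dimension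
of `R`. -/
theorem result {R M : Type u} [CommRing R] [IsLocalRing R] [IsNoetherianRing R]
    [AddCommGroup M] [Module R M] [Module.Finite R M] (hM : LocCoh.IsCohenMacaulayModule R M)
    (hsupp : Module.support R M = Set.univ) (s : LTSeries (PrimeSpectrum R))
    (hhead : s.head.asIdeal ∈ minimalPrimes R) (hlast : s.last.asIdeal = IsLocalRing.maximalIdeal R)
    (hsat : ∀ i : Fin s.length, s (Fin.castSucc i) ⋖ s (Fin.succ i)) :
    (s.length : WithBot ℕ∞) = ringKrullDim R := by
  have key : ∀ i : Fin (s.length + 1), (s i).asIdeal.height = (i : ℕ) := by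
    intro i
    induction i using Fin.induction with
    | zero =>
      have : (s 0).asIdeal ∈ minimalPrimes R := hhead
      rw [Ideal.height_eq_zero_iff.mpr this]
      rfl
    | succ i ih =>
      rw [height_succ hM hsupp _ _ (hsat i), ih]
      simp
  have hl := key (Fin.last s.length)
  have hl2 : (s (Fin.last s.length)).asIdeal = IsLocalRing.maximalIdeal R := hlast
  rw [hl2] at hl
  rw [← IsLocalRing.maximalIdeal_height_eq_ringKrullDim, hl]
  simp

end Groth.Agent.S2084
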