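import Groth.Statements.S0390
import Groth.Agent.Lib.helper21.FlatCrit
import Groth.Agent.Lib.helper21.LocalCrit

set_option autoImplicit false
universe u
open FlatMor

namespace Groth.Agent.S0390

/-- local criterion, with `M` on the left -/
theorem local_crit {R S M : Type u} [CommRing R] [CommRing S] [IsLocalRing R] [IsLocalRing S] [IsNoetherianRing R] [IsNoetherianRing S] [Algebra R S] [IsLocalHom (algebraMap R S)]
    [AddCommGroup M] [Module R M] [Module S M] [IsScalarTower R S M] [Module.Finite S M]
    (h : Function.Injective (LinearMap.lTensor M (Submodule.subtype (IsLocalRing.maximalIdeal R)))) : Module.Flat R M := by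
  refine Groth.Agent.H21.flat_of_lTensor_inj_quot_pow (A := S) (IsLocalRing.maximalIdeal R) ?_ M
    (fun m _ Q => ?_)
  · rw [IsLocalRing.jacobson_eq_maximalIdeal ⊥ bot_ne_top]
    exact IsLocalRing.map_maximalIdeal_le (algebraMap R S)
  · have := Groth.Agent.H21.isArtinian_quot_maximalIdeal_pow (R := R) m
    exact Groth.Agent.H21.inj_of_finiteLength M h (L := R ⧸ (IsLocalRing.maximalIdeal R) ^ m)
      (Q.restrictScalars R)

theorem result {R S M : Type u} [CommRing R] [CommRing S] [IsLocalRing R] [IsLocalRing S] [IsNoetherianRing R] [IsNoetherianRing S] [Algebra R S] [IsLocalHom (algebraMap R S)]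
    [AddCommGroup M] [Module R M] [Module S M] [IsScalarTower R S M] [Module.Finite S M]
    (h : Function.Injective (LinearMap.rTensor M (Submodule.subtype (IsLocalRing.maximalIdeal R)))) : Module.Flat R M :=
  local_crit (S := S) ((LinearMap.lTensor_inj_iff_rTensor_inj _ _).mpr h)

end Groth.Agent.S0390
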