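import Groth.Statements.S9406
-- import your own Groth.Agent.* helpers here
import Mathlib
import Groth.Agent.Lib.helper6.SerreConvE

set_option autoImplicit false
universe u
open CAlg

namespace Groth.Agent.S9406

/-- Regularity descends along faithfully flat ring maps: whenever S is a faithfully flat R-algebra whose
underlying ring is regular, the base ring R is regular as well. -/
theorem result (R : Type u) [CommRing R] (S : Type u) [CommRing S]
    [Algebra R S] [Module.FaithfullyFlat R S] [IsRegularRing S] : IsRegularRing R := by
  haveI : IsNoetherianRing R := by
    rw [isNoetherianRing_iff, isNoetherian_iff']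
    have hB : WellFoundedGT (Ideal S) := by
      rw [← isNoetherian_iff', ← isNoetherianRing_iff]; infer_instance
    have hmono : StrictMono (Ideal.map (algebraMap R S)) :=
      Monotone.strictMono_of_injective (fun _ _ h => Ideal.map_mono h)
        Ideal.map_injective_of_faithfullyFlat
    exact hmono.wellFoundedGT
  rw [isRegularRing_iff]
  intro p _
  obtain ⟨q, hq, hqp⟩ := Ideal.exists_isPrime_liesOver_of_faithfullyFlat (B := S) p
  have hpq : p = Ideal.comap (algebraMap R S) q := hqp.over
  let f := Localization.localRingHom p q (algebraMap R S) hpq
  have hflat : f.Flat := RingHom.Flat.localRingHom (f := algebraMap R S)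
    (by rw [RingHom.flat_algebraMap_iff]; infer_instance) q p hpq
  letI := f.toAlgebra
  haveI : Module.Flat (Localization.AtPrime p) (Localization.AtPrime q) := hflat
  haveI : IsLocalHom (algebraMap (Localization.AtPrime p) (Localization.AtPrime q)) :=
    Localization.isLocalHom_localRingHom p q _ hpq
  exact Groth.Agent.Lib.helper6.SerreConvE.regular_of_flat_local (Localization.AtPrime p)
    (Localization.AtPrime q)

end Groth.Agent.S9406
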