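import Groth.Statements.S9295
import Mathlib
import Groth.Agent.S9406
import Groth.Agent.Lib.helper15.FlatSrc
import Groth.Agent.Lib.helper6.RegEtale

set_option autoImplicit false
universe u
open CAlg

namespace Groth.Agent.S9295

/-- For ring maps A → B → C, if the composite A → C is a regular map and C is flat over B with every
prime of B lying under a prime of C (that is, B → C is faithfully flat), then A → B is a regular
map. -/
theorem result (A B C : Type u) [CommRing A] [CommRing B] [CommRing C]
    [Algebra A B] [Algebra B C] [Algebra A C] [IsScalarTower A B C]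
    (hAC : CAlg.IsRegularHom A C) [Module.Flat B C]
    (hsurj : Function.Surjective (PrimeSpectrum.comap (algebraMap B C))) :
    CAlg.IsRegularHom A B := by
  obtain ⟨hflat, hfib⟩ := hAC
  haveI := hflat
  haveI hff : Module.FaithfullyFlat B C := Module.FaithfullyFlat.of_comap_surjective hsurj
  refine ⟨Groth.Agent.Lib.H15.flat_of_flat_of_faithfullyFlat A B C, ?_⟩
  intro p hp
  have key : ∀ (K : Type u) [CommRing K] [Algebra A K],
      Nonempty ((TensorProduct B (TensorProduct A B K) C) ≃+* TensorProduct A K C) := by
    intro K _ _
    let e1 : TensorProduct B (TensorProduct A B K) C ≃+* TensorProduct B C (TensorProduct A B K) :=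
      (Algebra.TensorProduct.comm B _ _).toRingEquiv
    let e2 : TensorProduct B C (TensorProduct A B K) ≃+* TensorProduct A C K :=
      (Algebra.TensorProduct.cancelBaseChange A B C C K).toRingEquiv
    let e3 : TensorProduct A C K ≃+* TensorProduct A K C :=
      (Algebra.TensorProduct.comm A C K).toRingEquiv
    exact ⟨e1.trans (e2.trans e3)⟩
  constructor
  · obtain ⟨e⟩ := key p.ResidueField
    haveI : IsNoetherianRing (p.Fiber C) := (hfib p).1
    haveI : IsNoetherianRing (TensorProduct B (TensorProduct A B p.ResidueField) C) :=
      isNoetherianRing_of_ringEquiv _ e.symm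
    haveI : IsNoetherianRing (TensorProduct A B p.ResidueField) :=
      Groth.Agent.Lib.helper6.RegEtale.isNoetherianRing_of_faithfullyFlat _
        (TensorProduct B (TensorProduct A B p.ResidueField) C)
    exact isNoetherianRing_of_ringEquiv _ (Algebra.TensorProduct.comm A B p.ResidueField).toRingEquiv
  · intro k' _ _ hfin
    letI : Algebra A k' :=
      ((algebraMap p.ResidueField k').comp (algebraMap A p.ResidueField)).toAlgebra
    haveI : IsScalarTower A p.ResidueField k' := IsScalarTower.of_algebraMap_eq (fun _ => rfl)
    obtain ⟨e⟩ := key k'
    haveI hC : IsRegularRing (TensorProduct p.ResidueField k' (p.Fiber C)) := (hfib p).2 k' hfin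
    let c1 : TensorProduct p.ResidueField k' (p.Fiber C) ≃+* TensorProduct A k' C :=
      (Algebra.TensorProduct.cancelBaseChange A p.ResidueField p.ResidueField k' C).toRingEquiv
    let c2 : TensorProduct p.ResidueField k' (p.Fiber B) ≃+* TensorProduct A k' B :=
      (Algebra.TensorProduct.cancelBaseChange A p.ResidueField p.ResidueField k' B).toRingEquiv
    haveI : IsRegularRing (TensorProduct A k' C) :=
      IsRegularRing.of_ringEquiv (R := TensorProduct p.ResidueField k' (p.Fiber C)) c1
    haveI : IsRegularRing (TensorProduct B (TensorProduct A B k') C) :=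
      IsRegularRing.of_ringEquiv (R := TensorProduct A k' C) e.symm
    haveI : IsRegularRing (TensorProduct A B k') :=
      Groth.Agent.S9406.result (TensorProduct A B k') (TensorProduct B (TensorProduct A B k') C)
    haveI : IsRegularRing (TensorProduct A k' B) :=
      IsRegularRing.of_ringEquiv (R := TensorProduct A B k')
        (Algebra.TensorProduct.comm A B k').toRingEquiv
    exact IsRegularRing.of_ringEquiv (R := TensorProduct A k' B) c2.symm

end Groth.Agent.S9295
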