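import Groth.Statements.S4530
import Mathlib
-- import your own Groth.Agent.* helpers here

set_option autoImplicit false
universe u
open EGA41

namespace Groth.Agent.S4530

namespace H5S4530
open TensorProduct

section denoms
variable {A : Type u} [CommRing A] (p : Ideal A) [p.IsPrime]

/-- clearing denominators of a finite family in the residue field at `p` -/
theorem exists_common_denom {ι : Type*} [Finite ι] (z : ι → p.ResidueField) :
    ∃ s : A, s ∉ p ∧ ∃ a : ι → A, ∀ i,
      algebraMap A p.ResidueField (a i) = algebraMap A p.ResidueField s * z i := by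
  have hy : ∀ i, ∃ y : Localization.AtPrime p, algebraMap _ p.ResidueField y = z i := fun i =>
    IsLocalRing.residue_surjective (z i)
  choose y hy using hy
  obtain ⟨s, hs⟩ := IsLocalization.exist_integer_multiples_of_finite p.primeCompl y
  refine ⟨s, s.2, ?_⟩
  choose a ha using hs
  refine ⟨a, fun i => ?_⟩
  rw [IsScalarTower.algebraMap_apply A (Localization.AtPrime p) p.ResidueField, ha i,
    Algebra.smul_def, map_mul, hy, ← IsScalarTower.algebraMap_apply]

end denoms

section K
variable {A : Type u} [CommRing A] {M N : Type u} [AddCommGroup M] [Module A M] [Module.Finite A M]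
  [AddCommGroup N] [Module A N] [Module.Projective A N] (u : M →ₗ[A] N)

/-- there is `f ∉ p` with `f • M ⊆ M'` if `M'` generates `k(p) ⊗ M` -/
theorem exists_smul_mem (p : Ideal A) [p.IsPrime] (M' : Submodule A M)
    (h : Submodule.span p.ResidueField
      ((fun m : M => (1 : p.ResidueField) ⊗ₜ[A] m) '' (M' : Set M)) = ⊤) :
    ∃ f : A, f ∉ p ∧ ∀ x : M, f • x ∈ M' := by
  have hsub : Subsingleton (p.ResidueField ⊗[A] (M ⧸ M')) := by
    have hsurj : Function.Surjective (M'.mkQ.baseChange p.ResidueField) := by
      rw [LinearMap.baseChange_eq_ltensor]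
      exact LinearMap.lTensor_surjective _ (Submodule.mkQ_surjective M')
    have hzero : M'.mkQ.baseChange p.ResidueField = 0 := by
      apply LinearMap.ext_on h
      rintro _ ⟨m, hm, rfl⟩
      simp only [LinearMap.baseChange_tmul, Submodule.mkQ_apply, LinearMap.zero_apply]
      rw [(Submodule.Quotient.mk_eq_zero M').mpr hm, tmul_zero]
    refine ⟨fun a b => ?_⟩
    obtain ⟨a', rfl⟩ := hsurj a
    obtain ⟨b', rfl⟩ := hsurj b
    rw [hzero]; rfl
  have hnot : (⟨p, inferInstance⟩ : PrimeSpectrum A) ∉ Module.support A (M ⧸ M') := by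
    rw [Module.mem_support_iff_nontrivial_residueField_tensorProduct]
    exact not_nontrivial_iff_subsingleton.mpr hsub
  rw [Module.support_eq_zeroLocus, PrimeSpectrum.mem_zeroLocus, Set.not_subset] at hnot
  obtain ⟨f, hf, hfp⟩ := hnot
  refine ⟨f, hfp, fun x => ?_⟩
  have := (Module.mem_annihilator.mp hf) (M'.mkQ x)
  rwa [← map_smul, Submodule.mkQ_apply, Submodule.Quotient.mk_eq_zero] at this

end K


section K2
variable {A : Type u} [CommRing A] {M N : Type u} [AddCommGroup M] [Module A M] [Module.Finite A M]
  [AddCommGroup N] [Module A N] [Module.Projective A N] (u : M →ₗ[A] N)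

theorem keyK (p : Ideal A) [p.IsPrime] (hinj : Function.Injective (u.lTensor p.ResidueField)) :
    ∃ g : A, g ∉ p ∧ ∃ w : N →ₗ[A] M, w ∘ₗ u = g • LinearMap.id := by
  classical
  -- Step 1: a basis of `k ⊗ M` consisting of pure tensors `1 ⊗ m`
  let t : Set (p.ResidueField ⊗[A] M) := Set.range (fun m : M => (1 : p.ResidueField) ⊗ₜ[A] m)
  have ht : Submodule.span p.ResidueField t = ⊤ := by
    rw [eq_top_iff]
    intro z _
    induction z using TensorProduct.induction_on with
    | zero => exact Submodule.zero_mem _
    | tmul c m =>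
      have : c ⊗ₜ[A] m = c • ((1 : p.ResidueField) ⊗ₜ[A] m) := by
        rw [TensorProduct.smul_tmul', smul_eq_mul, mul_one]
      rw [this]
      exact Submodule.smul_mem _ _ (Submodule.subset_span ⟨m, rfl⟩)
    | add x y hx hy => exact Submodule.add_mem _ (hx trivial) (hy trivial)
  obtain ⟨b, hbt, hbspan, hbli⟩ := exists_linearIndependent p.ResidueField t
  haveI : Finite b := hbli.finite
  haveI := Fintype.ofFinite b
  have hm : ∀ i : b, ∃ m : M, (1 : p.ResidueField) ⊗ₜ[A] m = (i : p.ResidueField ⊗[A] M) :=
    fun i => hbt i.2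
  choose m hm using hm
  -- Step 2
  have hv : LinearIndependent p.ResidueField (fun i : b => (1 : p.ResidueField) ⊗ₜ[A] u (m i)) := by
    have h1 : LinearMap.ker (u.baseChange p.ResidueField) = ⊥ := by
      rw [LinearMap.ker_eq_bot]
      intro x y hxy
      exact hinj hxy
    have heq : (fun i : b => (1 : p.ResidueField) ⊗ₜ[A] u (m i)) =
        (u.baseChange p.ResidueField) ∘ Subtype.val := by
      funext i
      simp [← hm i]
    rw [heq]
    exact hbli.map' (u.baseChange p.ResidueField) h1
  obtain ⟨gk, hgk⟩ := LinearMap.exists_leftInverse_of_injective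
    (Fintype.linearCombination p.ResidueField (fun i : b => (1 : p.ResidueField) ⊗ₜ[A] u (m i)))
    (LinearMap.ker_eq_bot.mpr hv.fintypeLinearCombination_injective)
  have hgk' : ∀ j : b, gk ((1 : p.ResidueField) ⊗ₜ[A] u (m j)) = Pi.single j 1 := by
    intro j
    have := congrArg (fun f => f (Pi.single j 1)) hgk
    simpa [Fintype.linearCombination_apply_single] using this
  -- Step 3: projective presentation
  obtain ⟨s, hs⟩ := (Module.projective_def'.mp (inferInstance : Module.Projective A N))
  let S₀ : Finset N := Finset.univ.biUnion (fun i : b => (s (u (m i))).support)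
  have hS₀ : ∀ j : b, (s (u (m j))).support ⊆ S₀ := fun j =>
    Finset.subset_biUnion_of_mem (fun i : b => (s (u (m i))).support) (Finset.mem_univ j)
  have hrec : ∀ j : b, ∑ t ∈ S₀, (s (u (m j)) t) • t = u (m j) := by
    intro j
    have h1 := congrArg (fun f => f (u (m j))) hs
    simp only [LinearMap.comp_apply, LinearMap.id_apply, Finsupp.linearCombination_apply] at h1
    rw [Finsupp.sum_of_support_subset _ (hS₀ j) _ (by intro t _; simp)] at h1
    simpa using h1
  -- Step 5: clear denominators of `gk (1 ⊗ t) i`
  obtain ⟨s₀, hs₀, H₀, hH₀⟩ := exists_common_denom p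
    (fun it : b × S₀ => gk ((1 : p.ResidueField) ⊗ₜ[A] (it.2 : N)) it.1)
  -- Step 6
  let G : Matrix S₀ b A := fun t j => s (u (m j)) t
  let H : Matrix b S₀ A := fun i t => H₀ (i, t)
  let D : Matrix b b A := H * G
  have hDmap : D.map (algebraMap A p.ResidueField) =
      algebraMap A p.ResidueField s₀ • (1 : Matrix b b p.ResidueField) := by
    ext i j
    simp only [D, Matrix.map_apply, Matrix.mul_apply, map_sum, map_mul, H, G, hH₀,
      Matrix.smul_apply, Matrix.one_apply, smul_eq_mul]
    have h2 : ∑ t : S₀, (algebraMap A p.ResidueField s₀ *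
        gk ((1 : p.ResidueField) ⊗ₜ[A] (t : N)) i) * algebraMap A p.ResidueField (s (u (m j)) t)
        = algebraMap A p.ResidueField s₀ * (gk ((1 : p.ResidueField) ⊗ₜ[A] u (m j))) i := by
      conv_rhs => rw [← hrec j]
      rw [tmul_sum, map_sum, Finset.sum_apply, Finset.mul_sum, ← Finset.sum_coe_sort S₀]
      refine Finset.sum_congr rfl (fun t _ => ?_)
      rw [← TensorProduct.smul_tmul]
      have e1 : ((s (u (m j)) (t : N)) • (1 : p.ResidueField)) ⊗ₜ[A] (t : N) =
          (algebraMap A p.ResidueField (s (u (m j)) t)) • ((1 : p.ResidueField) ⊗ₜ[A] (t : N)) := by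
        rw [TensorProduct.smul_tmul', smul_eq_mul, mul_one, Algebra.smul_def, mul_one]
      rw [e1, map_smul, Pi.smul_apply, smul_eq_mul]
      ring
    rw [h2, hgk' j]
    simp [Pi.single_apply]
  -- det
  have hδp : D.det ∉ p := by
    intro hmem
    have h0 : algebraMap A p.ResidueField D.det = 0 :=
      Ideal.algebraMap_residueField_eq_zero.mpr hmem
    rw [RingHom.map_det, RingHom.mapMatrix_apply, hDmap, Matrix.det_smul, Matrix.det_one,
      mul_one] at h0
    have hne : algebraMap A p.ResidueField s₀ ≠ 0 := fun h =>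
      hs₀ (Ideal.algebraMap_residueField_eq_zero.mp h)
    exact pow_ne_zero _ hne h0
  -- Step 7
  let R₀ : (N →₀ A) →ₗ[A] (S₀ → A) :=
    { toFun := fun φ t => φ t, map_add' := fun _ _ => rfl, map_smul' := fun _ _ => rfl }
  let w'' : N →ₗ[A] M :=
    (Fintype.linearCombination A m) ∘ₗ (Matrix.mulVecLin (D.adjugate * H)) ∘ₗ R₀ ∘ₗ s
  have hw'' : ∀ j : b, w'' (u (m j)) = D.det • m j := by
    intro j
    have h1 : R₀ (s (u (m j))) = G.mulVec (Pi.single j 1) := by
      funext t
      simp [R₀, G]
    change Fintype.linearCombination A m ((D.adjugate * H).mulVec (R₀ (s (u (m j))))) = _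
    rw [h1, Matrix.mulVec_mulVec, Matrix.mul_assoc]
    change Fintype.linearCombination A m ((D.adjugate * D).mulVec (Pi.single j 1)) = _
    rw [Matrix.adjugate_mul, Matrix.smul_mulVec, Matrix.one_mulVec, map_smul,
      Fintype.linearCombination_apply_single, one_smul]
  -- Step 8
  obtain ⟨f, hfp, hf⟩ := exists_smul_mem p (Submodule.span A (Set.range m)) (by
    rw [eq_top_iff, ← ht, ← hbspan]
    apply Submodule.span_mono
    intro z hz
    exact ⟨m ⟨z, hz⟩, Submodule.subset_span ⟨_, rfl⟩, hm ⟨z, hz⟩⟩)
  have hagree : ∀ y ∈ Submodule.span A (Set.range m), w'' (u y) = D.det • y := by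
    intro y hy
    induction hy using Submodule.span_induction with
    | mem y hy => obtain ⟨j, rfl⟩ := hy; exact hw'' j
    | zero => simp
    | add x y _ _ hx hy => rw [map_add, map_add, hx, hy, smul_add]
    | smul a x _ hx => rw [map_smul, map_smul, hx, smul_comm]
  refine ⟨f * D.det, ?_, f • w'', ?_⟩
  · exact fun h => (Ideal.IsPrime.mem_or_mem ‹_› h).elim hfp hδp
  · ext x
    simp only [LinearMap.comp_apply, LinearMap.smul_apply, LinearMap.id_apply]
    rw [← map_smul, ← map_smul, hagree _ (hf x), smul_smul, mul_comm]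

end K2


section loc
variable {A : Type u} [CommRing A] {M N : Type u} [AddCommGroup M] [Module A M]
  [AddCommGroup N] [Module A N] (u : M →ₗ[A] N)

/-- (L1) -/
theorem leftInv_localized (S : Submonoid A) (g : A) (hg : g ∈ S) (w' : N →ₗ[A] M)
    (hw : w' ∘ₗ u = g • LinearMap.id) :
    ∃ w : LocalizedModule S N →ₗ[A] LocalizedModule S M,
      w ∘ₗ (LocalizedModule.map S u).restrictScalars A = LinearMap.id := by
  refine ⟨LocalizedModule.divBy ⟨g, hg⟩ ∘ₗ (LocalizedModule.map S w').restrictScalars A, ?_⟩
  ext x
  induction x using LocalizedModule.induction_on with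
  | h m s =>
    simp only [LinearMap.comp_apply, LinearMap.restrictScalars_apply, LocalizedModule.map_mk,
      LinearMap.id_apply]
    have h1 : w' (u m) = g • m := by
      have := congrArg (fun f => f m) hw
      simpa using this
    rw [h1]
    have h2 : LocalizedModule.mk (g • m) s =
        algebraMap A (Module.End A (LocalizedModule S M)) (⟨g, hg⟩ : S) (LocalizedModule.mk m s) := by
      rw [Module.algebraMap_end_apply, LocalizedModule.smul'_mk]
    rw [h2, LocalizedModule.divBy_mul_by]

/-- units of the residue field act invertibly -/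
theorem isUnit_end_residue (p : Ideal A) [p.IsPrime] (s : A) (hs : s ∉ p) :
    IsUnit (algebraMap A (Module.End A (p.ResidueField ⊗[A] M)) s) := by
  have hne : algebraMap A p.ResidueField s ≠ 0 := fun h =>
    hs (Ideal.algebraMap_residueField_eq_zero.mp h)
  rw [Module.End.isUnit_iff]
  constructor
  · intro x y hxy
    simp only [Module.algebraMap_end_apply] at hxy
    rw [← algebraMap_smul p.ResidueField s x, ← algebraMap_smul p.ResidueField s y] at hxy
    exact smul_right_injective _ hne hxy
  · intro x
    refine ⟨(algebraMap A p.ResidueField s)⁻¹ • x, ?_⟩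
    simp only [Module.algebraMap_end_apply]
    rw [← algebraMap_smul p.ResidueField s, smul_smul, mul_inv_cancel₀ hne, one_smul]

/-- (L2) -/
theorem injective_of_leftInv_localized (p : Ideal A) [p.IsPrime] (S : Submonoid A)
    (hS : ∀ s ∈ S, s ∉ p)
    (h : ∃ w : LocalizedModule S N →ₗ[A] LocalizedModule S M,
      w ∘ₗ (LocalizedModule.map S u).restrictScalars A = LinearMap.id) :
    Function.Injective (u.lTensor p.ResidueField) := by
  obtain ⟨w, hw⟩ := h
  have hunits : ∀ x : S, IsUnit (algebraMap A (Module.End A (p.ResidueField ⊗[A] M)) x) :=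
    fun x => isUnit_end_residue p x (hS x x.2)
  let τ : LocalizedModule S M →ₗ[A] p.ResidueField ⊗[A] M :=
    LocalizedModule.lift S (TensorProduct.mk A p.ResidueField M 1) hunits
  have hτ : ∀ m : M, τ (LocalizedModule.mkLinearMap S M m) = (1 : p.ResidueField) ⊗ₜ[A] m := by
    intro m
    have := LocalizedModule.lift_comp S (TensorProduct.mk A p.ResidueField M 1) hunits
    exact congrArg (fun f => f m) this
  let σ : p.ResidueField ⊗[A] LocalizedModule S M →ₗ[A] p.ResidueField ⊗[A] M :=
    TensorProduct.lift (LinearMap.mk₂ A (fun (c : p.ResidueField) (y : LocalizedModule S M) => c • τ y)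
      (fun c c' y => add_smul c c' (τ y))
      (fun a c y => by simp [smul_assoc])
      (fun c y y' => by rw [map_add, smul_add])
      (fun a c y => by rw [map_smul, smul_comm]))
  have hσ : σ ∘ₗ (LocalizedModule.mkLinearMap S M).lTensor p.ResidueField = LinearMap.id := by
    apply TensorProduct.ext'
    intro c m
    simp only [LinearMap.comp_apply, LinearMap.lTensor_tmul, LinearMap.id_apply, σ,
      TensorProduct.lift.tmul, LinearMap.mk₂_apply, hτ]
    rw [TensorProduct.smul_tmul', smul_eq_mul, mul_one]
  have hcomm : (LocalizedModule.map S u).restrictScalars A ∘ₗ LocalizedModule.mkLinearMap S M =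
      LocalizedModule.mkLinearMap S N ∘ₗ u := by
    ext m
    simp [LocalizedModule.mkLinearMap_apply]
  intro x y hxy
  have e1 : ∀ z, σ ((w.lTensor p.ResidueField)
      ((((LocalizedModule.map S u).restrictScalars A).lTensor p.ResidueField)
        (((LocalizedModule.mkLinearMap S M).lTensor p.ResidueField) z))) = z := by
    intro z
    rw [← LinearMap.comp_apply (w.lTensor p.ResidueField), ← LinearMap.lTensor_comp, hw,
      LinearMap.lTensor_id, LinearMap.id_apply]
    exact congrArg (fun f => f z) hσ
  have e2 : ∀ z, (((LocalizedModule.map S u).restrictScalars A).lTensor p.ResidueField)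
        (((LocalizedModule.mkLinearMap S M).lTensor p.ResidueField) z) =
      ((LocalizedModule.mkLinearMap S N).lTensor p.ResidueField) ((u.lTensor p.ResidueField) z) := by
    intro z
    rw [← LinearMap.comp_apply, ← LinearMap.lTensor_comp, hcomm, LinearMap.lTensor_comp,
      LinearMap.comp_apply]
  rw [← e1 x, ← e1 y, e2, e2, hxy]

end loc


section main
variable {A : Type u} [CommRing A] {M N : Type u} [AddCommGroup M] [Module A M]
    [Module.Finite A M] [AddCommGroup N] [Module A N] [Module.Projective A N] (u : M →ₗ[A] N)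

theorem main4530 :
    (∀ p : PrimeSpectrum A,
      [∃ w : LocalizedModule p.asIdeal.primeCompl N →ₗ[A] LocalizedModule p.asIdeal.primeCompl M,
          w ∘ₗ LocalizedModule.map p.asIdeal.primeCompl u = LinearMap.id,
       Function.Injective (u.lTensor p.asIdeal.ResidueField),
       ∃ f : A, f ∉ p.asIdeal ∧
          ∃ w : LocalizedModule (Submonoid.powers f) N →ₗ[A] LocalizedModule (Submonoid.powers f) M,
            w ∘ₗ LocalizedModule.map (Submonoid.powers f) u = LinearMap.id].TFAE) ∧
    IsOpen {p : PrimeSpectrum A |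
      ∃ w : LocalizedModule p.asIdeal.primeCompl N →ₗ[A] LocalizedModule p.asIdeal.primeCompl M,
        w ∘ₗ LocalizedModule.map p.asIdeal.primeCompl u = LinearMap.id} := by
  have h12 : ∀ p : PrimeSpectrum A,
      (∃ w : LocalizedModule p.asIdeal.primeCompl N →ₗ[A] LocalizedModule p.asIdeal.primeCompl M,
          w ∘ₗ LocalizedModule.map p.asIdeal.primeCompl u = LinearMap.id) →
      Function.Injective (u.lTensor p.asIdeal.ResidueField) := fun p h =>
    injective_of_leftInv_localized u p.asIdeal p.asIdeal.primeCompl (fun s hs => hs) h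
  have h21 : ∀ p : PrimeSpectrum A, Function.Injective (u.lTensor p.asIdeal.ResidueField) →
      (∃ w : LocalizedModule p.asIdeal.primeCompl N →ₗ[A] LocalizedModule p.asIdeal.primeCompl M,
          w ∘ₗ LocalizedModule.map p.asIdeal.primeCompl u = LinearMap.id) := by
    intro p h
    obtain ⟨g, hg, w', hw'⟩ := keyK u p.asIdeal h
    exact leftInv_localized u p.asIdeal.primeCompl g hg w' hw'
  refine ⟨fun p => ?_, ?_⟩
  · tfae_have 1 → 2 := h12 p
    tfae_have 2 → 3 := by
      intro h
      obtain ⟨g, hg, w', hw'⟩ := keyK u p.asIdeal h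
      exact ⟨g, hg, leftInv_localized u (Submonoid.powers g) g (Submonoid.mem_powers g) w' hw'⟩
    tfae_have 3 → 1 := by
      rintro ⟨f, hf, h⟩
      apply h21 p
      refine injective_of_leftInv_localized u p.asIdeal (Submonoid.powers f) ?_ h
      rintro s ⟨n, rfl⟩ hmem
      exact hf (Ideal.IsPrime.mem_of_pow_mem inferInstance n hmem)
    tfae_finish
  · rw [isOpen_iff_forall_mem_open]
    intro p hp
    obtain ⟨g, hg, w', hw'⟩ := keyK u p.asIdeal (h12 p hp)
    refine ⟨PrimeSpectrum.basicOpen g, ?_, (PrimeSpectrum.basicOpen g).2, hg⟩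
    intro q hq
    exact leftInv_localized u q.asIdeal.primeCompl g hq w' hw'

end main

end H5S4530

open TensorProduct in
/-- Let A be a ring, M an A-module of finite type, N a projective A-module, u : M → N a homomorphism.
For a prime ideal 𝔭 the following are equivalent: (a) u_𝔭 : M_𝔭 → N_𝔭 is left invertible; (b) u ⊗ 1
: M ⊗ k(𝔭) → N ⊗ k(𝔭) is injective; (d) there is f ∉ 𝔭 with u_f : M_f → N_f left invertible.
Moreover the set of such 𝔭 is open in Spec A. (The published statement also has a determinant
criterion (c); this row omits it.) -/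
theorem result {A : Type u} [CommRing A] {M N : Type u} [AddCommGroup M] [Module A M]
    [Module.Finite A M] [AddCommGroup N] [Module A N] [Module.Projective A N] (u : M →ₗ[A] N) :
    (∀ p : PrimeSpectrum A,
      [∃ w : LocalizedModule p.asIdeal.primeCompl N →ₗ[A] LocalizedModule p.asIdeal.primeCompl M,
          w ∘ₗ LocalizedModule.map p.asIdeal.primeCompl u = LinearMap.id,
       Function.Injective (u.lTensor p.asIdeal.ResidueField),
       ∃ f : A, f ∉ p.asIdeal ∧
          ∃ w : LocalizedModule (Submonoid.powers f) N →ₗ[A] LocalizedModule (Submonoid.powers f) M,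
            w ∘ₗ LocalizedModule.map (Submonoid.powers f) u = LinearMap.id].TFAE) ∧
    IsOpen {p : PrimeSpectrum A |
      ∃ w : LocalizedModule p.asIdeal.primeCompl N →ₗ[A] LocalizedModule p.asIdeal.primeCompl M,
        w ∘ₗ LocalizedModule.map p.asIdeal.primeCompl u = LinearMap.id} := by
  exact H5S4530.main4530 u

end Groth.Agent.S4530
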