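import Groth.Statements.S9319
import Mathlib
import Groth.Agent.Lib.helper14.CohenSmooth

set_option autoImplicit false
universe u
open CAlg

namespace Groth.Agent.S9319

open KaehlerDifferential Module MvPolynomial TensorProduct

namespace S9319aux
open Algebra Algebra.Generators

universe w₁ w₂ w₃ u₁ u₂ u₃ u₄

variable {R : Type u₁} {S : Type u₂} [CommRing R] [CommRing S] [Algebra R S]
variable {T : Type u₃} [CommRing T] [Algebra R T] [Algebra S T] [IsScalarTower R S T]
variable {T' : Type u₄} [CommRing T'] [Algebra R T'] [Algebra S T'] [IsScalarTower R S T']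
variable [Algebra T T'] [IsScalarTower S T T']
variable {ι : Type w₁} {ι' : Type w₃} {σ : Type w₂}
variable (Q : Generators S T ι) (P : Generators R S σ) (Q' : Generators S T' ι')

attribute [local instance] SMulCommClass.of_commMonoid

variable (R S T T') in
/-- the map `T ⊗ Ω[S/R] → T' ⊗ Ω[S/R]` -/
noncomputable def ρ : T ⊗[S] Ω[S⁄R] →ₗ[S] T' ⊗[S] Ω[S⁄R] :=
  LinearMap.rTensor (Ω[S⁄R]) (IsScalarTower.toAlgHom S T T').toLinearMap

lemma ρ_tmul (t : T) (w : Ω[S⁄R]) : ρ R S T T' (t ⊗ₜ w) = algebraMap T T' t ⊗ₜ w := rfl

lemma ρ_smul (t : T) (y : T ⊗[S] Ω[S⁄R]) : ρ R S T T' (t • y) = algebraMap T T' t • ρ R S T T' y := by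
  induction y with
  | zero => simp
  | tmul a w => simp [ρ_tmul, smul_tmul', Algebra.smul_def]
  | add a b ha hb => simp [ha, hb]

variable {Q Q'} in
lemma δAux_nat (f : Hom Q Q') (hf : ∀ i, H1Cotangent.δAux R Q' (f.val i) = 0) (x : Q.Ring) :
    H1Cotangent.δAux R Q' (f.toAlgHom x) = ρ R S T T' (H1Cotangent.δAux R Q x) := by
  induction x using MvPolynomial.induction_on with
  | C s =>
    rw [Hom.toAlgHom_C, H1Cotangent.δAux_C, H1Cotangent.δAux_C, ρ_tmul, map_one]
    rfl
  | add x₁ x₂ hx₁ hx₂ => simp only [map_add, hx₁, hx₂]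
  | mul_X p i IH =>
    rw [map_mul, Hom.toAlgHom_X, H1Cotangent.δAux_mul, H1Cotangent.δAux_mul, hf, smul_zero,
      zero_add, H1Cotangent.δAux_X, smul_zero, zero_add, IH,
      ← @IsScalarTower.algebraMap_smul Q.Ring T, ρ_smul,
      ← @IsScalarTower.algebraMap_smul Q'.Ring T']
    congr 1
    simp [Generators.algebraMap_apply]


set_option backward.isDefEq.respectTransparency false in
variable {Q Q'} in
lemma δ_nat (f : Hom Q Q') (hf : ∀ i, H1Cotangent.δAux R Q' (f.val i) = 0)
    (x : Q.toExtension.H1Cotangent) :
    H1Cotangent.δ Q' P (Extension.H1Cotangent.map f.toExtensionHom x) =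
      ρ R S T T' (H1Cotangent.δ Q P x) := by
  obtain ⟨x, hx⟩ := x
  obtain ⟨⟨y, hy⟩, rfl⟩ := Extension.Cotangent.mk_surjective x
  change H1Cotangent.δ _ _ ⟨_, _⟩ = ρ R S T T' (H1Cotangent.δ _ _ ⟨_, _⟩)
  simp only [LinearMap.domRestrict_apply, Extension.Cotangent.map_mk, H1Cotangent.δ_eq_δAux]
  exact δAux_nat f hf y

variable (S T T') in
/-- the variable-to-variable hom. -/
noncomputable def selfHom : Hom (Generators.self S T) (Generators.self S T') :=
  ⟨fun t => X (algebraMap T T' t), fun t => by simp [Generators.self]⟩

variable (R S T T') in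
lemma δ_natural (x : Algebra.H1Cotangent S T) :
    Algebra.H1Cotangent.δ R S T' (Algebra.H1Cotangent.map S S T T' x) =
      ρ R S T T' (Algebra.H1Cotangent.δ R S T x) := by
  unfold Algebra.H1Cotangent.δ Algebra.H1Cotangent.map
  rw [Extension.H1Cotangent.map_eq _ (selfHom S T T').toExtensionHom]
  exact δ_nat _ (selfHom S T T') (fun i => H1Cotangent.δAux_X _ _) x


section main
variable {F K L M : Type u} [Field F] [Field K] [Field L] [Field M] [Algebra K L] [Algebra L M]
  [Algebra K M] [IsScalarTower K L M] [Algebra F K] [Algebra F L] [Algebra F M]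
  [IsScalarTower F K L] [IsScalarTower F K M]

lemma cancel_eq (m : M) (y : L ⊗[K] Ω[K⁄F]) :
    TensorProduct.AlgebraTensorModule.cancelBaseChange K L M M (Ω[K⁄F]) (m ⊗ₜ[L] y) =
      m • ρ F K L M y := by
  induction y with
  | zero => simp
  | tmul l w =>
    rw [TensorProduct.AlgebraTensorModule.cancelBaseChange_tmul, ρ_tmul, smul_tmul', Algebra.smul_def,
      smul_eq_mul, mul_comm]
  | add a b ha hb => rw [tmul_add, map_add, ha, hb, map_add, smul_add]

lemma key (z : M ⊗[L] Algebra.H1Cotangent K L) :
    TensorProduct.AlgebraTensorModule.cancelBaseChange K L M M (Ω[K⁄F])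
        ((Algebra.H1Cotangent.δ F K L).baseChange M z) =
      Algebra.H1Cotangent.δ F K M ((Algebra.H1Cotangent.map K K L M).liftBaseChange M z) := by
  induction z with
  | zero => simp
  | tmul m x =>
    rw [LinearMap.baseChange_tmul, cancel_eq, LinearMap.liftBaseChange_tmul, map_smul,
      δ_natural]
  | add a b ha hb => rw [map_add, map_add, ha, hb, map_add, map_add]

lemma inj_of_subsingleton [Subsingleton (Algebra.H1Cotangent F L)] :
    Function.Injective ((Algebra.H1Cotangent.map K K L M).liftBaseChange M) := by
  have hδ : Function.Injective (Algebra.H1Cotangent.δ F K L) := by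
    rw [injective_iff_map_eq_zero]
    intro x hx
    obtain ⟨y, rfl⟩ := (Algebra.H1Cotangent.exact_map_δ F K L x).1 hx
    rw [Subsingleton.elim y 0, map_zero]
  have hb : Function.Injective ((Algebra.H1Cotangent.δ F K L).baseChange M) := by
    have := Module.Flat.lTensor_preserves_injective_linearMap (M := M)
      (Algebra.H1Cotangent.δ F K L) hδ
    intro a b hab
    apply this
    simpa [LinearMap.baseChange_eq_ltensor] using hab
  rw [injective_iff_map_eq_zero]
  intro z hz
  apply hb
  apply (TensorProduct.AlgebraTensorModule.cancelBaseChange K L M M (Ω[K⁄F])).injective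
  rw [key, hz, map_zero, map_zero, map_zero]

end main

end S9319aux

open TensorProduct in

open TensorProduct in
/-- For a tower of fields `K ⊆ L ⊆ M`, the first map of the Jacobi–Zariski sequence, from `H_1(L_{L/K})
⊗_L M` to `H_1(L_{M/K})`, is injective; here `H_1(L)` denotes the first homology of the naive
cotangent complex and the map is the `M`-linear extension of the functoriality map. (The rest of the
six-term sequence is exact for any three rings, so for fields it is exact with a zero on the left.) -/
theorem result {K L M : Type u} [Field K] [Field L]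
    [Field M] [Algebra K L] [Algebra L M] [Algebra K M] [IsScalarTower K L M] :
    Function.Injective ((Algebra.H1Cotangent.map K K L M).liftBaseChange M) := by
  obtain _ | ⟨p, hp, hpk⟩ := CharP.exists' K
  · -- char 0 : L/K formally smooth
    haveI : Algebra.FormallySmooth K L := by
      obtain ⟨s, hs⟩ := exists_isTranscendenceBasis K L
      haveI : Algebra.IsAlgebraic (IntermediateField.adjoin K (Set.range ((↑) : s → L))) L :=
        hs.isAlgebraic_field
      haveI : CharZero ↥(IntermediateField.adjoin K (Set.range ((↑) : s → L))) :=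
        charZero_of_injective_algebraMap (algebraMap K _).injective
      haveI : Algebra.IsSeparable (IntermediateField.adjoin K (Set.range ((↑) : s → L))) L :=
        inferInstance
      exact .of_algebraicIndependent_of_isSeparable hs.1
    haveI : Subsingleton (Algebra.H1Cotangent K L) := Algebra.FormallySmooth.subsingleton_h1Cotangent
    exact S9319aux.inj_of_subsingleton (F := K)
  · let F := ULift.{u} (ZMod p)
    letI : Algebra F K :=
      ((ZMod.castHom (dvd_refl p) K).comp (ULift.ringEquiv : F ≃+* ZMod p).toRingHom).toAlgebra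
    letI : Algebra F L := ((algebraMap K L).comp (algebraMap F K)).toAlgebra
    letI : Algebra F M := ((algebraMap K M).comp (algebraMap F K)).toAlgebra
    haveI : IsScalarTower F K L := IsScalarTower.of_algebraMap_eq (fun _ => rfl)
    haveI : IsScalarTower F K M := IsScalarTower.of_algebraMap_eq (fun _ => rfl)
    haveI : CharP F p := ((algebraMap F K).charP_iff (algebraMap F K).injective p).2 inferInstance
    haveI : PerfectRing F p := inferInstance
    haveI : Algebra.FormallySmooth F L := H14.CohenSmooth.formallySmooth_of_perfectField p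
    haveI : Subsingleton (Algebra.H1Cotangent F L) := Algebra.FormallySmooth.subsingleton_h1Cotangent
    exact S9319aux.inj_of_subsingleton (F := F)

end Groth.Agent.S9319
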