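import Groth.Statements.S1541
import Mathlib
import Groth.Agent.Lib.helper7.StalkBC

set_option autoImplicit false
universe u
open CategoryTheory CategoryTheory.Limits AlgebraicGeometry
attribute [local instance] Curv2.resAlgebra Curv2.stalkAlgebra
open Variety

namespace Groth.Agent.S1541


open TensorProduct in
theorem hφ_stalk (k : Type u) [Field k] (X : Scheme.{u}) [X.Over (Spec (CommRingCat.of k))] (x : X) :
    Spec.map (CommRingCat.ofHom (algebraMap k (X.presheaf.stalk x))) =
      X.fromSpecStalk x ≫ (X ↘ Spec (CommRingCat.of k)) :=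
  (Groth.Agent.Lib.helper7.StalkBC.fromSpecStalk_comp (X ↘ Spec (CommRingCat.of k)) x).symm

open TensorProduct in
theorem geomReducedAt_of_stalk (k : Type u) [Field k] (X : Scheme.{u}) [X.Over (Spec (CommRingCat.of k))]
    (x : X) (h : Algebra.IsGeometricallyReduced k (X.presheaf.stalk x)) :
    Curv2.IsGeomReducedAt k X x := by
  intro k' _ _ x' hx'
  haveI : AlgebraicGeometry.IsReduced (Spec (CommRingCat.of k')) := by
    rw [affine_isReduced_iff]; infer_instance
  exact Groth.Agent.Lib.helper7.StalkBC.isReduced_stalk_pullback (X ↘ Spec (CommRingCat.of k)) x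
    (hφ_stalk k X x) (Spec.map (CommRingCat.ofHom (algebraMap k k'))) x' hx'

open TensorProduct in
theorem stalk_of_geomReducedAt (k : Type u) [Field k] (X : Scheme.{u}) [X.Over (Spec (CommRingCat.of k))]
    (x : X) (h : Curv2.IsGeomReducedAt k X x) :
    Algebra.IsGeometricallyReduced k (X.presheaf.stalk x) := by
  rw [Algebra.isGeometricallyReduced_field_iff]
  have h1 : _root_.IsReduced ((X.presheaf.stalk x) ⊗[k] AlgebraicClosure k) :=
    Groth.Agent.Lib.helper7.StalkBC.isReduced_tensorProduct_of_stalks (X ↘ Spec (CommRingCat.of k)) x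
      (hφ_stalk k X x) (AlgebraicClosure k) (fun x' hx' => h (AlgebraicClosure k) x' hx')
  exact isReduced_of_injective
    (Algebra.TensorProduct.comm k (AlgebraicClosure k) (X.presheaf.stalk x)).toAlgHom
    (AlgEquiv.injective _)

/-- Let X be a scheme over a field k and x a point of X. Then X is geometrically reduced at x (all local
rings of all base changes X_{k'} at points over x are reduced) if and only if the local ring 𝒪_{X,x}
is geometrically reduced as a k-algebra. -/
theorem result (k : Type u) [Field k] (X : Scheme.{u}) [X.Over (Spec (CommRingCat.of k))] (x : X) :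
    Curv2.IsGeomReducedAt k X x ↔ Algebra.IsGeometricallyReduced k (X.presheaf.stalk x) := by
  exact ⟨stalk_of_geomReducedAt k X x, geomReducedAt_of_stalk k X x⟩

end Groth.Agent.S1541
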