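import Groth.Statements.S1544
import Mathlib
import Groth.Agent.S1541

set_option autoImplicit false
universe u
open CategoryTheory CategoryTheory.Limits AlgebraicGeometry
attribute [local instance] Curv2.resAlgebra Curv2.stalkAlgebra
open Variety

namespace Groth.Agent.S1544


theorem geomReducedAt_of_geometricallyReduced (k : Type u) [Field k] (X : Scheme.{u})
    [X.Over (Spec (CommRingCat.of k))] (h : GeometricallyReduced (X ↘ (Spec (CommRingCat.of k))))
    (x : X) : Curv2.IsGeomReducedAt k X x := by
  intro k' _ _ x' _
  have h1 := (geometrically_iff_of_commRing_of_isClosedUnderIsomorphisms (R := k)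
    (P := @AlgebraicGeometry.IsReduced) (f := X ↘ Spec (CommRingCat.of k))).mp
    h.geometrically_isReduced k'
  haveI : AlgebraicGeometry.IsReduced (Curv2.bc k X k') := h1
  infer_instance

theorem geometricallyReduced_of_geomReducedAt (k : Type u) [Field k] (X : Scheme.{u})
    [X.Over (Spec (CommRingCat.of k))] (h : ∀ x : X, Curv2.IsGeomReducedAt k X x) :
    GeometricallyReduced (X ↘ (Spec (CommRingCat.of k))) := by
  refine ⟨(geometrically_iff_of_commRing_of_isClosedUnderIsomorphisms (R := k)
    (P := @AlgebraicGeometry.IsReduced) (f := X ↘ Spec (CommRingCat.of k))).mpr ?_⟩
  intro K _ _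
  apply +allowSynthFailures isReduced_of_isReduced_stalk
  intro z
  exact h _ K z rfl

/-- For an integral scheme over k, geometric reducedness of the scheme is equivalent to geometric
reducedness over k of the function field (the local ring at the generic point), i.e. a separable
extension of k in the sense of commutative algebra. The source states this for varieties;
integrality is what the proof uses. -/
theorem result (k : Type u) [Field k] (X : Scheme.{u}) [X.Over (Spec (CommRingCat.of k))] [IsIntegral X] :
    GeometricallyReduced (X ↘ (Spec (CommRingCat.of k))) ↔ Algebra.IsGeometricallyReduced k X.functionField := by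
  constructor
  · intro h
    exact (Groth.Agent.S1541.result k X (genericPoint X)).mp
      (geomReducedAt_of_geometricallyReduced k X h _)
  · intro h
    apply geometricallyReduced_of_geomReducedAt
    intro x
    rw [Groth.Agent.S1541.result]
    let φ : X.presheaf.stalk x →ₐ[k] X.functionField :=
      { (algebraMap (X.presheaf.stalk x) X.functionField) with
        commutes' := by
          intro r
          show (X.presheaf.stalkSpecializes ((genericPoint_spec X).specializes trivial)).hom
            ((X.presheaf.germ ⊤ x trivial).hom _) = (X.presheaf.germ ⊤ (genericPoint X) trivial).hom _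
          rw [← CommRingCat.comp_apply, TopCat.Presheaf.germ_stalkSpecializes] }
    exact Algebra.IsGeometricallyReduced.of_injective φ
      (IsFractionRing.injective (X.presheaf.stalk x) X.functionField)

end Groth.Agent.S1544
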