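import Groth.Statements.S5769
import Mathlib.RingTheory.Ideal.KrullsHeightTheorem
import Mathlib.RingTheory.KrullDimension.Basic

set_option autoImplicit false
universe u
open EGA41

namespace Groth.Agent.S5769

/-- Let φ : A → B be a local homomorphism of Noetherian local rings, m the maximal ideal of A and k its
residue field. Then dim(B) ≤ dim(A) + dim(B ⊗_A k), where B ⊗_A k = B/mB. -/
theorem result (A B : Type u) [CommRing A] [CommRing B]
    [IsLocalRing A] [IsLocalRing B] [IsNoetherianRing A] [IsNoetherianRing B] [Algebra A B]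
    [IsLocalHom (algebraMap A B)] :
    ringKrullDim B ≤ ringKrullDim A +
      ringKrullDim (B ⧸ (IsLocalRing.maximalIdeal A).map (algebraMap A B)) := by
  let mA := IsLocalRing.maximalIdeal A
  let mB := IsLocalRing.maximalIdeal B
  let I : Ideal B := mA.map (algebraMap A B)
  have hI : I ≤ mB := by
    rw [Ideal.map_le_iff_le_comap]
    intro x hx
    exact (IsLocalRing.mem_maximalIdeal _).mpr
      (fun h => (IsLocalRing.mem_maximalIdeal _).mp hx
        (isUnit_of_map_unit (algebraMap A B) x h))
  have hne : I ≠ ⊤ := fun h => (IsLocalRing.maximalIdeal.isMaximal B).ne_top (top_le_iff.mp (h ▸ hI))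
  haveI : Nontrivial (B ⧸ I) := Ideal.Quotient.nontrivial_iff.mpr hne
  haveI : IsLocalRing (B ⧸ I) :=
    IsLocalRing.of_surjective' (Ideal.Quotient.mk I) Ideal.Quotient.mk_surjective
  have h1 := Ideal.height_le_height_add_of_liesOver mA mB
  have hQ : (mB.map (Ideal.Quotient.mk I)) = IsLocalRing.maximalIdeal (B ⧸ I) := by
    apply IsLocalRing.eq_maximalIdeal
    exact Ideal.IsMaximal.map_of_surjective_of_ker_le Ideal.Quotient.mk_surjective
      (by simpa using hI)
  rw [hQ] at h1
  have e1 : ((IsLocalRing.maximalIdeal B).height : WithBot ℕ∞) = ringKrullDim B :=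
    IsLocalRing.maximalIdeal_height_eq_ringKrullDim
  have e2 : ((IsLocalRing.maximalIdeal A).height : WithBot ℕ∞) = ringKrullDim A :=
    IsLocalRing.maximalIdeal_height_eq_ringKrullDim
  have e3 : ((IsLocalRing.maximalIdeal (B ⧸ I)).height : WithBot ℕ∞) = ringKrullDim (B ⧸ I) :=
    IsLocalRing.maximalIdeal_height_eq_ringKrullDim
  rw [← e1, ← e2, ← e3]
  exact_mod_cast h1

end Groth.Agent.S5769
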