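import Groth.Statements.S5770
import Groth.Agent.S5769
import Mathlib.RingTheory.KrullDimension.Module
import Mathlib.RingTheory.KrullDimension.NonZeroDivisors

set_option autoImplicit false
universe u
open EGA41

namespace Groth.Agent.S5770

open TensorProduct in
/-- Let φ : A → B be a local homomorphism of Noetherian local rings, m the maximal ideal of A, k = A/m,
M a finitely generated A-module and N a finitely generated B-module. Then dim_B(M ⊗_A N) ≤ dim_A(M)
+ dim(N ⊗_A k), the last dimension being that of N/mN (over B ⊗_A k or, equivalently by finiteness,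
over B). -/
theorem result (A B : Type u) [CommRing A] [CommRing B] [IsLocalRing A]
    [IsLocalRing B] [IsNoetherianRing A] [IsNoetherianRing B] [Algebra A B] [IsLocalHom (algebraMap A B)]
    (M : Type u) [AddCommGroup M] [Module A M] [Module.Finite A M] (N : Type u) [AddCommGroup N] [Module B N]
    [Module A N] [IsScalarTower A B N] [Module.Finite B N] :
    Module.supportDim B (N ⊗[A] M) ≤ Module.supportDim A M +
      Module.supportDim B (N ⧸ ((IsLocalRing.maximalIdeal A).map (algebraMap A B) • (⊤ : Submodule B N))) := by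
  classical
  let φ := algebraMap A B
  let mA := IsLocalRing.maximalIdeal A
  let mB := IsLocalRing.maximalIdeal B
  let I : Ideal A := Module.annihilator A M
  let J : Ideal B := Module.annihilator B N
  let K : Ideal B := J ⊔ I.map φ
  let L : Ideal B := mA.map φ
  -- Step 1 : `Supp (N ⊗ M) ⊆ V(K)`
  have hKann : K ≤ Module.annihilator B (N ⊗[A] M) := by
    refine sup_le ?_ ?_
    · intro b hb
      rw [Module.mem_annihilator]
      intro t
      induction t using TensorProduct.induction_on with
      | zero => exact smul_zero b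
      | tmul n m =>
        rw [TensorProduct.smul_tmul', Module.mem_annihilator.mp hb n, TensorProduct.zero_tmul]
      | add t₁ t₂ h₁ h₂ => rw [smul_add, h₁, h₂, add_zero]
    · rw [Ideal.map_le_iff_le_comap]
      intro a ha
      change φ a ∈ Module.annihilator B (N ⊗[A] M)
      rw [Module.mem_annihilator]
      intro t
      induction t using TensorProduct.induction_on with
      | zero => exact smul_zero _
      | tmul n m =>
        rw [TensorProduct.smul_tmul', algebraMap_smul, TensorProduct.smul_tmul,
          Module.mem_annihilator.mp ha m, TensorProduct.tmul_zero]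
      | add t₁ t₂ h₁ h₂ => rw [smul_add, h₁, h₂, add_zero]
  have hsub : Module.support B (N ⊗[A] M) ⊆ PrimeSpectrum.zeroLocus (K : Set B) := by
    intro P hP
    rw [PrimeSpectrum.mem_zeroLocus]
    exact (hKann.trans (Module.annihilator_le_of_mem_support hP))
  have h1 : Module.supportDim B (N ⊗[A] M) ≤ ringKrullDim (B ⧸ K) := by
    rw [ringKrullDim_quotient]
    unfold Module.supportDim
    exact Order.krullDim_le_of_strictMono
      (fun P : Module.support B (N ⊗[A] M) =>
        (⟨P.1, hsub P.2⟩ : PrimeSpectrum.zeroLocus (K : Set B))) (fun P Q h => h)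
  by_cases hK : K = ⊤
  · have : Subsingleton (B ⧸ K) := Ideal.Quotient.subsingleton_iff.mpr hK
    rw [ringKrullDim_eq_bot_of_subsingleton] at h1
    exact h1.trans bot_le
  have hKm : K ≤ mB := IsLocalRing.le_maximalIdeal hK
  -- the rings `A'' = A / φ⁻¹ K` and `B' = B / K`
  have hcomap_ne : K.comap φ ≠ ⊤ := by
    intro h
    apply hK
    rw [Ideal.eq_top_iff_one] at h ⊢
    have : φ 1 ∈ K := h
    rwa [map_one] at this
  haveI : Nontrivial (B ⧸ K) := Ideal.Quotient.nontrivial_iff.mpr hK
  haveI : Nontrivial (A ⧸ K.comap φ) := Ideal.Quotient.nontrivial_iff.mpr hcomap_ne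
  haveI : IsLocalRing (B ⧸ K) :=
    IsLocalRing.of_surjective' (Ideal.Quotient.mk K) Ideal.Quotient.mk_surjective
  haveI : IsLocalRing (A ⧸ K.comap φ) :=
    IsLocalRing.of_surjective' (Ideal.Quotient.mk _) Ideal.Quotient.mk_surjective
  have hcomp : (algebraMap (A ⧸ K.comap φ) (B ⧸ K)).comp (Ideal.Quotient.mk (K.comap φ)) =
      (Ideal.Quotient.mk K).comp φ := by
    ext a
    rfl
  haveI : IsLocalHom (algebraMap (A ⧸ K.comap φ) (B ⧸ K)) := by
    constructor
    intro a h
    obtain ⟨a, rfl⟩ := Ideal.Quotient.mk_surjective a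
    have h' : IsUnit (Ideal.Quotient.mk K (φ a)) := h
    have h'' : IsUnit (φ a) := by
      by_contra hn
      have hmem : φ a ∈ mB := (IsLocalRing.mem_maximalIdeal _).mpr hn
      have hmem' : Ideal.Quotient.mk K (φ a) ∈ IsLocalRing.maximalIdeal (B ⧸ K) := by
        rw [IsLocalRing.mem_maximalIdeal]
        intro hu
        obtain ⟨c, hc⟩ := hu.exists_right_inv
        obtain ⟨c, rfl⟩ := Ideal.Quotient.mk_surjective c
        rw [← map_mul, ← map_one (Ideal.Quotient.mk K), Ideal.Quotient.eq] at hc
        have h1 : φ a * c - 1 ∈ mB := hKm hc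
        have h2 : φ a * c ∈ mB := Ideal.mul_mem_right _ _ hmem
        have h3 : (1 : B) ∈ mB := by
          have := sub_mem h2 h1
          simpa using this
        exact (IsLocalRing.maximalIdeal.isMaximal B).ne_top ((Ideal.eq_top_iff_one _).mpr h3)
      exact (IsLocalRing.mem_maximalIdeal _).mp hmem' h'
    exact (isUnit_of_map_unit φ a h'').map (Ideal.Quotient.mk _)
  have h2 := Groth.Agent.S5769.result (A ⧸ K.comap φ) (B ⧸ K)
  -- dim A'' ≤ dim M
  have hI : I ≤ K.comap φ := by
    rw [← Ideal.map_le_iff_le_comap]
    exact le_sup_right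
  have h3 : ringKrullDim (A ⧸ K.comap φ) ≤ Module.supportDim A M := by
    rw [Module.supportDim_eq_ringKrullDim_quotient_annihilator]
    exact ringKrullDim_le_of_surjective (Ideal.Quotient.factor hI)
      (Ideal.Quotient.factor_surjective hI)
  -- the fibre
  have hmax : IsLocalRing.maximalIdeal (A ⧸ K.comap φ) =
      mA.map (Ideal.Quotient.mk (K.comap φ)) := by
    symm
    apply IsLocalRing.eq_maximalIdeal
    exact Ideal.IsMaximal.map_of_surjective_of_ker_le Ideal.Quotient.mk_surjective
      (by
        rw [Ideal.mk_ker]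
        exact IsLocalRing.le_maximalIdeal hcomap_ne)
  have hfib : (IsLocalRing.maximalIdeal (A ⧸ K.comap φ)).map
      (algebraMap (A ⧸ K.comap φ) (B ⧸ K)) = L.map (Ideal.Quotient.mk K) := by
    rw [hmax, Ideal.map_map, hcomp, ← Ideal.map_map]
  have h4 : ringKrullDim ((B ⧸ K) ⧸ (IsLocalRing.maximalIdeal (A ⧸ K.comap φ)).map
      (algebraMap (A ⧸ K.comap φ) (B ⧸ K))) ≤
      Module.supportDim B (N ⧸ (L • (⊤ : Submodule B N))) := by
    rw [hfib, ringKrullDim_eq_of_ringEquiv (DoubleQuot.quotQuotEquivQuotSup K L),
      ringKrullDim_quotient]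
    unfold Module.supportDim
    have hsupp := Module.support_quotient (R := B) (M := N) L
    refine Order.krullDim_le_of_strictMono
      (fun P : PrimeSpectrum.zeroLocus ((K ⊔ L : Ideal B) : Set B) =>
        (⟨P.1, by
          rw [hsupp]
          have hP := (PrimeSpectrum.mem_zeroLocus _ _).mp P.2
          refine ⟨?_, ?_⟩
          · rw [Module.mem_support_iff_of_finite]
            exact (le_sup_left.trans le_sup_left).trans hP
          · rw [PrimeSpectrum.mem_zeroLocus]
            exact (le_sup_right : L ≤ K ⊔ L).trans hP⟩ :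
          Module.support B (N ⧸ (L • (⊤ : Submodule B N))))) (fun P Q h => h)
  calc Module.supportDim B (N ⊗[A] M) ≤ ringKrullDim (B ⧸ K) := h1
    _ ≤ _ := h2
    _ ≤ _ := add_le_add h3 h4

end Groth.Agent.S5770
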