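import Groth.Statements.S9124
import Groth.Agent.Lib.helper14.Catenary

set_option autoImplicit false
universe u
open CAlg

namespace Groth.Agent.S9124

/-- A localization of a catenary ring is catenary. -/
theorem result (A : Type u) [CommRing A] (S : Submonoid A)
    (B : Type u) [CommRing B] [Algebra A B] [IsLocalization S B]
    (hA : CAlg.IsCatenary A) : CAlg.IsCatenary B := by
  refine Groth.Agent.H14.isCatenary_of_embedding (PrimeSpectrum.comap (algebraMap A B)) ?_ ?_ hA
  · intro a b
    change a.asIdeal.comap _ ≤ b.asIdeal.comap _ ↔ a.asIdeal ≤ b.asIdeal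
    constructor
    · intro h
      have := Ideal.map_mono (f := algebraMap A B) h
      rwa [IsLocalization.map_comap S, IsLocalization.map_comap S] at this
    · exact fun h => Ideal.comap_mono h
  · intro a b y _ h2
    have hdisj : Disjoint (S : Set A) (y.asIdeal : Set A) := by
      have hb := ((IsLocalization.isPrime_iff_isPrime_disjoint S B b.asIdeal).mp b.2).2
      exact Set.disjoint_of_subset_right h2.le hb
    refine ⟨⟨y.asIdeal.map (algebraMap A B),
      IsLocalization.isPrime_of_isPrime_disjoint S B y.asIdeal y.2 hdisj⟩, ?_⟩
    ext1
    exact IsLocalization.under_map_of_isPrime_disjoint S B y.2 hdisj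

end Groth.Agent.S9124
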