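import Groth.Statements.S0552
import Mathlib
import Groth.Agent.S9124
import Groth.Agent.Lib.helper14.Catenary

set_option autoImplicit false
universe u
open CAlg

namespace Groth.Agent.S0552

/-- A ring is catenary as soon as every prime has a lower neighbourhood in the spectrum which is
order-isomorphic to (part of) the spectrum of a catenary ring. -/
theorem isCatenary_of_lower_embeddings {A : Type u} [CommRing A]
    (H : ∀ q : PrimeSpectrum A, ∃ (B : Type u) (_ : CommRing B)
      (f : PrimeSpectrum B → PrimeSpectrum A), (∀ a b, f a ≤ f b ↔ a ≤ b) ∧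
        (∀ y, y ≤ q → ∃ c, f c = y) ∧ CAlg.IsCatenary B) : CAlg.IsCatenary A := by
  refine ⟨?_, ?_⟩
  · intro p q hpq
    obtain ⟨B, _, f, hf, hup, hB⟩ := H q
    have hlt : ∀ a b, f a < f b ↔ a < b := by
      intro a b
      rw [lt_iff_le_not_ge, lt_iff_le_not_ge, hf, hf]
    have hmono : StrictMono f := fun a b h => (hlt a b).mpr h
    have hinj : Function.Injective f := fun a b hab =>
      le_antisymm ((hf a b).mp hab.le) ((hf b a).mp hab.ge)
    obtain ⟨p', hp'⟩ := hup p hpq
    obtain ⟨q', hq'⟩ := hup q le_rfl
    obtain ⟨n, hn⟩ := hB.1 p' q' ((hf _ _).mp (by rw [hp', hq']; exact hpq))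
    refine ⟨n, fun s hs hl => ?_⟩
    obtain ⟨s', rfl⟩ := Groth.Agent.H14.exists_ltSeries_map_eq f hmono (fun a b => (hlt a b).mp) s
      (fun i => hup _ (hl ▸ s.strictMono.monotone (Fin.le_last i)))
    have := hn s' (hinj (by rw [hp']; exact hs)) (hinj (by rw [hq']; exact hl))
    simpa using this
  · intro s t hst hst' hs ht
    obtain ⟨B, _, f, hf, hup, hB⟩ := H s.last
    have hlt : ∀ a b, f a < f b ↔ a < b := by
      intro a b
      rw [lt_iff_le_not_ge, lt_iff_le_not_ge, hf, hf]
    have hmono : StrictMono f := fun a b h => (hlt a b).mpr h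
    have hinj : Function.Injective f := fun a b hab =>
      le_antisymm ((hf a b).mp hab.le) ((hf b a).mp hab.ge)
    obtain ⟨s', rfl⟩ := Groth.Agent.H14.exists_ltSeries_map_eq f hmono (fun a b => (hlt a b).mp) s
      (fun i => hup _ (s.strictMono.monotone (Fin.le_last i)))
    obtain ⟨t', rfl⟩ := Groth.Agent.H14.exists_ltSeries_map_eq f hmono (fun a b => (hlt a b).mp) t
      (fun i => hup _ (hst' ▸ t.strictMono.monotone (Fin.le_last i)))
    have hcov : ∀ a b, f a ⋖ f b → a ⋖ b := by
      intro a b hab
      refine ⟨(hlt _ _).mp hab.lt, ?_⟩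
      intro c h1 h2
      exact hab.2 (hmono h1) (hmono h2)
    have := hB.2 s' t' (hinj hst) (hinj hst') (fun i => hcov _ _ (hs i)) (fun i => hcov _ _ (ht i))
    simpa using this

/-- A ring is catenary exactly when its localization at every maximal ideal is catenary. -/
theorem result (R : Type u) [CommRing R] :
    CAlg.IsCatenary R ↔ ∀ (m : Ideal R) [m.IsMaximal], CAlg.IsCatenary (Localization.AtPrime m) := by
  constructor
  · intro h m hm
    exact Groth.Agent.S9124.result R m.primeCompl (Localization.AtPrime m) h
  · intro h
    apply isCatenary_of_lower_embeddings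
    intro q
    obtain ⟨m, hm, hqm⟩ := Ideal.exists_le_maximal q.asIdeal q.2.ne_top
    refine ⟨Localization.AtPrime m, inferInstance,
      PrimeSpectrum.comap (algebraMap R (Localization.AtPrime m)), ?_, ?_, h m⟩
    · intro a b
      constructor
      · intro hab
        have h1 : a.asIdeal.comap (algebraMap R (Localization.AtPrime m)) ≤
            b.asIdeal.comap (algebraMap R (Localization.AtPrime m)) := hab
        have h2 := Ideal.map_mono (f := algebraMap R (Localization.AtPrime m)) h1
        rw [IsLocalization.map_comap m.primeCompl, IsLocalization.map_comap m.primeCompl] at h2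
        exact h2
      · intro hab
        exact Ideal.comap_mono hab
    · intro y hy
      have hy' : y ∈ Set.range (PrimeSpectrum.comap (algebraMap R (Localization.AtPrime m))) := by
        rw [PrimeSpectrum.localization_comap_range (Localization.AtPrime m) m.primeCompl]
        show Disjoint (m.primeCompl : Set R) y.asIdeal
        rw [Set.disjoint_left]
        intro x hx hxy
        exact hx (hqm (hy hxy))
      exact hy'

end Groth.Agent.S0552
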