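import Groth.Statements.S9126
import Groth.Agent.S9124
import Mathlib

set_option autoImplicit false
universe u
open CAlg

namespace Groth.Agent.S9126

theorem isNoetherianRing_of_essFiniteType (A B : Type*) [CommRing A] [CommRing B] [Algebra A B]
    [Algebra.EssFiniteType A B] [IsNoetherianRing A] : IsNoetherianRing B := by
  haveI : IsNoetherianRing (Algebra.EssFiniteType.subalgebra A B) :=
    Algebra.FiniteType.isNoetherianRing A _
  exact IsLocalization.isNoetherianRing (Algebra.EssFiniteType.submonoid A B) B inferInstance

/-- An algebra essentially of finite type over a Noetherian universally catenary ring is universally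
catenary. -/
theorem result (A : Type u) [CommRing A] (B : Type u) [CommRing B]
    [Algebra A B] [Algebra.EssFiniteType A B]
    (hA : CAlg.IsUniversallyCatenary A) : CAlg.IsUniversallyCatenary B := by
  obtain ⟨hN, hcat⟩ := hA
  haveI := hN
  refine ⟨isNoetherianRing_of_essFiniteType A B, ?_⟩
  intro C _ _ hC
  haveI : Algebra.FiniteType B C := hC
  letI : Algebra A C := ((algebraMap B C).comp (algebraMap A B)).toAlgebra
  haveI : IsScalarTower A B C := IsScalarTower.of_algebraMap_eq (fun _ => rfl)
  haveI : Algebra.EssFiniteType A C := Algebra.EssFiniteType.comp A B C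
  have h0 : CAlg.IsCatenary (Algebra.EssFiniteType.subalgebra A C) := hcat _ inferInstance
  exact Groth.Agent.S9124.result (Algebra.EssFiniteType.subalgebra A C)
    (Algebra.EssFiniteType.submonoid A C) C h0

end Groth.Agent.S9126
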