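import Groth.Statements.S12444
import Mathlib

set_option autoImplicit false
universe u
open PtTop

namespace Groth.Agent.S12444

section order
variable {P Q : Type*} [PartialOrder P] [PartialOrder Q]

/-- order-theoretic codimension -/
noncomputable def cod (a b : P) : ℕ∞ :=
  ⨆ (s : LTSeries P) (_ : s.head = a ∧ s.last ≤ b), (s.length : ℕ∞)

def CatAt (a b : P) : Prop :=
  cod a b ≠ ⊤ ∧ ∀ s : LTSeries P, s.head = a → s.last = b →
    (∀ i : Fin s.length, s (Fin.castSucc i) ⋖ s (Fin.succ i)) → (s.length : ℕ∞) = cod a b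

variable (φ : P ↪o Q) (a b : P)
  (hconv : ∀ V : Q, φ a ≤ V → V ≤ φ b → ∃ c, φ c = V)

include hconv in
theorem lift_series (t : LTSeries Q) (h0 : t.head = φ a) (h1 : t.last ≤ φ b) :
    ∃ s : LTSeries P, s.map φ φ.strictMono = t := by
  have hex : ∀ i, ∃ c, φ c = t i := fun i =>
    hconv (t i) (h0 ▸ t.head_le i) ((t.monotone (Fin.le_last i)).trans h1)
  choose c hc using hex
  have hmono : StrictMono c := by
    intro i j hij
    rw [← φ.lt_iff_lt, hc, hc]
    exact t.strictMono hij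
  refine ⟨LTSeries.mk t.length c hmono, ?_⟩
  refine RelSeries.ext rfl ?_
  funext i
  exact hc i

include hconv in
theorem cod_eq : cod a b = cod (φ a) (φ b) := by
  apply le_antisymm
  · refine iSup₂_le fun s hs => ?_
    refine le_iSup₂_of_le (s.map φ φ.strictMono) ⟨?_, ?_⟩ le_rfl
    · rw [LTSeries.head_map, hs.1]
    · rw [LTSeries.last_map]; exact φ.monotone hs.2
  · refine iSup₂_le fun t ht => ?_
    obtain ⟨s, rfl⟩ := lift_series φ a b hconv t ht.1 ht.2
    refine le_iSup₂_of_le s ⟨?_, ?_⟩ le_rfl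
    · exact φ.injective ht.1
    · exact φ.le_iff_le.1 ht.2

include hconv in
theorem covBy_iff (s : LTSeries P) (h0 : s.head = a) (h1 : s.last = b) (i : Fin s.length) :
    s (Fin.castSucc i) ⋖ s (Fin.succ i) ↔ φ (s (Fin.castSucc i)) ⋖ φ (s (Fin.succ i)) := by
  constructor
  · intro h
    refine ⟨φ.strictMono h.1, fun V hV1 hV2 => ?_⟩
    obtain ⟨c, rfl⟩ := hconv V ((φ.monotone (h0 ▸ s.head_le _)).trans hV1.le)
      (hV2.le.trans (φ.monotone (h1 ▸ s.monotone (Fin.le_last _))))
    exact h.2 (φ.lt_iff_lt.1 hV1) (φ.lt_iff_lt.1 hV2)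
  · intro h
    refine ⟨φ.lt_iff_lt.1 h.1, fun c hc1 hc2 => ?_⟩
    exact h.2 (φ.strictMono hc1) (φ.strictMono hc2)

include hconv in
theorem catAt_iff : CatAt a b ↔ CatAt (φ a) (φ b) := by
  unfold CatAt
  rw [cod_eq φ a b hconv]
  refine and_congr Iff.rfl ?_
  constructor
  · intro h t h0 h1 hsat
    obtain ⟨s, rfl⟩ := lift_series φ a b hconv t h0 h1.le
    have h0' : s.head = a := φ.injective h0
    have h1' : s.last = b := φ.injective h1
    refine h s h0' h1' fun i => ?_
    rw [covBy_iff φ a b hconv s h0' h1' i]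
    exact hsat i
  · intro h s h0 h1 hsat
    refine h (s.map φ φ.strictMono) (by rw [LTSeries.head_map, h0]) (by rw [LTSeries.last_map, h1])
      fun i => ?_
    exact (covBy_iff φ a b hconv s h0 h1 i).1 (hsat i)

end order

section top
open TopologicalSpace Topology
variable {X : Type u} [TopologicalSpace X]

theorem isCatenary_iff_catAt :
    PtTop.IsCatenarySpace X ↔ ∀ T T' : IrreducibleCloseds X, T ≤ T' → CatAt T T' := Iff.rfl

variable (S : Set X)

/-- closure-of-image embedding -/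
noncomputable def phi : IrreducibleCloseds S ↪o IrreducibleCloseds X :=
  OrderEmbedding.ofMapLEIff (IrreducibleCloseds.map (Subtype.val) continuous_subtype_val) (by
    intro a b
    refine ⟨fun hle => ?_, fun hle => IrreducibleCloseds.map_mono continuous_subtype_val hle⟩
    have h := IsEmbedding.subtypeVal (p := fun x => x ∈ S)
    have := Set.preimage_mono (f := (Subtype.val : S → X)) hle
    simpa [← h.closure_eq_preimage_closure_image, a.isClosed.closure_eq,
      b.isClosed.closure_eq] using this)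

theorem phi_coe (c : IrreducibleCloseds S) :
    (phi S c : Set X) = closure (Subtype.val '' (c : Set S)) := rfl

theorem exists_phi_eq (U Z : Set X) (hU : IsOpen U) (hS : S = U ∩ Z)
    (V : IrreducibleCloseds X) (hne : ((V : Set X) ∩ S).Nonempty) (hVZ : (V : Set X) ⊆ Z) :
    ∃ c, phi S c = V := by
  have hirr : IsPreirreducible (Subtype.val ⁻¹' (V : Set X) : Set S) := by
    intro u v hu hv hnu hnv
    obtain ⟨u', hu', rfl⟩ := isOpen_induced_iff.1 hu
    obtain ⟨v', hv', rfl⟩ := isOpen_induced_iff.1 hv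
    obtain ⟨x, hxV, hxu⟩ := hnu
    obtain ⟨y, hyV, hyv⟩ := hnv
    have hxU : (x : X) ∈ U := (hS.le x.2).1
    have hyU : (y : X) ∈ U := (hS.le y.2).1
    obtain ⟨z, hzV, ⟨hzu, hzU⟩, hzv, _⟩ := V.isIrreducible.isPreirreducible (u' ∩ U) (v' ∩ U)
      (hu'.inter hU) (hv'.inter hU) ⟨x, hxV, hxu, hxU⟩ ⟨y, hyV, hyv, hyU⟩
    have hzS : z ∈ S := by rw [hS]; exact ⟨hzU, hVZ hzV⟩
    exact ⟨⟨z, hzS⟩, hzV, hzu, hzv⟩
  obtain ⟨x, hxV, hxS⟩ := hne
  refine ⟨⟨Subtype.val ⁻¹' (V : Set X), ⟨⟨⟨x, hxS⟩, hxV⟩, hirr⟩,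
    V.isClosed.preimage continuous_subtype_val⟩, ?_⟩
  apply IrreducibleCloseds.ext
  rw [phi_coe]
  show closure (Subtype.val '' (Subtype.val ⁻¹' (V : Set X) : Set S)) = V
  rw [Subtype.image_preimage_coe]
  apply subset_antisymm
  · exact closure_minimal Set.inter_subset_right V.isClosed
  · have hSV : S ∩ (V : Set X) = (V : Set X) ∩ U := by
      rw [hS]; ext y; constructor
      · rintro ⟨⟨h1, _⟩, h2⟩; exact ⟨h2, h1⟩
      · rintro ⟨h1, h2⟩; exact ⟨⟨h2, hVZ h1⟩, h1⟩
    rw [hSV]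
    apply subset_closure_inter_of_isPreirreducible_of_isOpen V.isIrreducible.isPreirreducible hU
    rw [← hSV]
    exact ⟨x, hxS, hxV⟩


theorem loc_closed (hX : PtTop.IsCatenarySpace X) (S : Set X) (hS : IsLocallyClosed S) :
    PtTop.IsCatenarySpace S := by
  obtain ⟨U, Z, hU, hZ, rfl⟩ := hS
  rw [isCatenary_iff_catAt] at hX ⊢
  intro a b hab
  rw [catAt_iff (phi _) a b ?_]
  · exact hX _ _ ((phi _).monotone hab)
  · intro V h1 h2
    apply exists_phi_eq _ U Z hU rfl V
    · obtain ⟨x, hx⟩ := a.isIrreducible.nonempty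
      exact ⟨x.1, h1 (subset_closure ⟨x, hx, rfl⟩), x.2⟩
    · intro y hy
      have : y ∈ closure (Subtype.val '' (b : Set ↥(U ∩ Z))) := h2 hy
      exact closure_minimal (by rintro _ ⟨z, _, rfl⟩; exact z.2.2) hZ this

theorem of_cover (h : ∀ x : X, ∃ U : Opens X, x ∈ U ∧ PtTop.IsCatenarySpace U) :
    PtTop.IsCatenarySpace X := by
  rw [isCatenary_iff_catAt]
  intro T T' hTT'
  obtain ⟨x, hx⟩ := T.isIrreducible.nonempty
  obtain ⟨U, hxU, hU⟩ := h x
  have hU' : PtTop.IsCatenarySpace (U : Set X) := hU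
  rw [isCatenary_iff_catAt] at hU'
  obtain ⟨a, rfl⟩ := exists_phi_eq (U : Set X) U Set.univ U.isOpen (Set.inter_univ _).symm T
    ⟨x, hx, hxU⟩ (Set.subset_univ _)
  obtain ⟨b, rfl⟩ := exists_phi_eq (U : Set X) U Set.univ U.isOpen (Set.inter_univ _).symm T'
    ⟨x, hTT' hx, hxU⟩ (Set.subset_univ _)
  have hab : a ≤ b := (phi _).le_iff_le.1 hTT'
  rw [← catAt_iff (phi _) a b ?_]
  · exact hU' a b hab
  · intro V h1 h2
    exact exists_phi_eq _ U Set.univ U.isOpen (Set.inter_univ _).symm V ⟨x, h1 hx, hxU⟩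
      (Set.subset_univ _)

theorem result' (X : Type u) [TopologicalSpace X] :
    (PtTop.IsCatenarySpace X ↔
      ∀ x : X, ∃ U : TopologicalSpace.Opens X, x ∈ U ∧ PtTop.IsCatenarySpace U) ∧
    (PtTop.IsCatenarySpace X → ∀ S : Set X, IsLocallyClosed S → PtTop.IsCatenarySpace S) := by
  refine ⟨⟨fun hX x => ⟨⊤, trivial, ?_⟩, of_cover⟩, loc_closed⟩
  exact loc_closed hX ((⊤ : Opens X) : Set X) (⊤ : Opens X).isOpen.isLocallyClosed

end top

/-- A topological space X is catenary if and only if it has an open covering by catenary subspaces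
(here: every point has a catenary open neighbourhood); and if X is catenary then so is every locally
closed subspace of X. -/
theorem result (X : Type u) [TopologicalSpace X] :
    (PtTop.IsCatenarySpace X ↔
      ∀ x : X, ∃ U : TopologicalSpace.Opens X, x ∈ U ∧ PtTop.IsCatenarySpace U) ∧
    (PtTop.IsCatenarySpace X → ∀ S : Set X, IsLocallyClosed S → PtTop.IsCatenarySpace S) := by
  exact result' X

end Groth.Agent.S12444
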