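import Groth.Statements.S13598
import Groth.Agent.Lib.lead.HenselQuot
-- import your own Groth.Agent.* helpers here

set_option autoImplicit false
universe u
open Hensel

namespace Groth.Agent.S13598

/-- For a local ring A, a henselization A ⟶ S of A (S a henselian local ring, the structure map local,
and initial among local homomorphisms from A to henselian local rings) and an ideal I of A inside
the maximal ideal, the quotient S/IS with its induced algebra structure over A/I is a henselization
of A/I. (The local-ring and local-homomorphism instances on the quotients hold automatically; they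
are taken as hypotheses only so that the conclusion can be stated.) -/
theorem result {A S : Type u} [CommRing A] [IsLocalRing A] [CommRing S]
    [IsLocalRing S] [Algebra A S] [IsLocalHom (algebraMap A S)] [Hensel.IsHenselization A S]
    (I : Ideal A) (hI : I ≤ IsLocalRing.maximalIdeal A)
    [IsLocalRing (A ⧸ I)] [IsLocalRing (S ⧸ I.map (algebraMap A S))]
    [IsLocalHom (algebraMap (A ⧸ I) (S ⧸ I.map (algebraMap A S)))] :
    Hensel.IsHenselization (A ⧸ I) (S ⧸ I.map (algebraMap A S)) := by
  haveI hS : HenselianLocalRing S := Hensel.IsHenselization.henselian (R := A)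
  have hcomm : ∀ a : A, algebraMap (A ⧸ I) (S ⧸ I.map (algebraMap A S)) (Ideal.Quotient.mk I a) =
      Ideal.Quotient.mk _ (algebraMap A S a) := fun a => rfl
  refine ⟨Groth.Agent.Lib.lead.HenselQuot.henselian_of_surjective
    (Ideal.Quotient.mk (I.map (algebraMap A S))) Ideal.Quotient.mk_surjective, ?_⟩
  intro T _ _ f hf
  have hmk : IsLocalHom (Ideal.Quotient.mk I) :=
    (Ideal.Quotient.mk_surjective (I := I)).isLocalHom _
  have hf' : IsLocalHom (f.comp (Ideal.Quotient.mk I)) := RingHom.isLocalHom_comp _ _
  obtain ⟨g', hg', hg'u⟩ := Hensel.IsHenselization.universal (R := A) (S := S) T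
    (f.comp (Ideal.Quotient.mk I)) hf'
  have hkill : ∀ s ∈ I.map (algebraMap A S), g' s = 0 := by
    intro s hs
    have : I.map (algebraMap A S) ≤ RingHom.ker g' := by
      rw [Ideal.map_le_iff_le_comap]
      intro a ha
      rw [Ideal.mem_comap, RingHom.mem_ker]
      have := RingHom.congr_fun hg' a
      simp only [RingHom.comp_apply] at this
      rw [this, Ideal.Quotient.eq_zero_iff_mem.mpr ha, map_zero]
    exact this hs
  refine ⟨Ideal.Quotient.lift _ g' hkill, ?_, ?_⟩
  · apply Ideal.Quotient.ringHom_ext
    ext a
    simp only [RingHom.comp_apply]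
    rw [hcomm, Ideal.Quotient.lift_mk]
    exact RingHom.congr_fun hg' a
  · intro g₂ hg₂
    apply Ideal.Quotient.ringHom_ext
    have : g₂.comp (Ideal.Quotient.mk _) = g' := by
      apply hg'u
      ext a
      simp only [RingHom.comp_apply]
      rw [← hcomm]
      exact RingHom.congr_fun hg₂ (Ideal.Quotient.mk I a)
    rw [this]
    ext s
    simp

end Groth.Agent.S13598
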