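import Groth.Statements.S6954
import Mathlib
import Groth.Agent.Lib.helper17.DRingTor
-- import your own Groth.Agent.* helpers here

set_option autoImplicit false
universe u
open CategoryTheory CategoryTheory.Limits
attribute [local instance] HasDerivedCategory.standard
open DRing

open Groth.Agent.Lib.helper17

namespace Groth.Agent.S6954

/-- Let R be a commutative ring and K an object of D(R). Then K is perfect (isomorphic in D(R) to a
bounded complex of finite projective modules) if and only if K is pseudo-coherent (isomorphic to a
bounded above complex of finite free modules) and has finite tor dimension (isomorphic to a bounded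
complex of flat modules). -/
theorem result (R : Type u) [CommRing R] (K : Dual.D R) :
    DRing.IsPerfect R K ↔ DRing.IsPseudoCoherent' R K ∧ DRing.HasFiniteTorDimCx R K := by
  constructor
  · rintro ⟨E, a, b, hz, hP, ⟨e⟩⟩
    constructor
    · rw [DRingPC.isPseudoCoherent'_iff_isPC]
      intro k
      exact PCohBasic.NPC.of_iso _ (DRingTor.NPC_of_FP_complex R E b
        (fun i hi => hz i (Or.inr hi)) hP k) e
    · exact ⟨a, b, E, hz, fun i => by
        obtain ⟨h1, h2⟩ := hP i
        infer_instance, ⟨e⟩⟩
  · rintro ⟨hpc, a, b, htor⟩
    rw [DRingPC.isPseudoCoherent'_iff_isPC] at hpc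
    obtain ⟨E, hP, hz, he⟩ := DRingTor.exists_FP_complex R a b K (hpc (a - 1)) htor
    exact ⟨E, a, b, hz, hP, he⟩

end Groth.Agent.S6954
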