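import Groth.Statements.S0326
import Groth.Agent.Lib.helper21.LC16
import Groth.Agent.S0381

set_option autoImplicit false
universe u v
open LocCoh

namespace Groth.Agent.S0326

/-- For a Noetherian ring R and an ideal of R generated by a finite set of r elements, local cohomology
with support in that ideal vanishes in all degrees above r, for every R-module. This is the
Noetherian case of the published statement. -/
theorem result (R : Type u) [CommRing R] [IsNoetherianRing R] (s : Finset R) : LocCoh.CdLE R (Ideal.span (s : Set R)) s.card := by
  classical
  induction s using Finset.induction_on with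
  | empty =>
    intro M _ _ i hi
    rw [Finset.coe_empty, Ideal.span_empty]
    refine Groth.Agent.H21.LC.subsingleton_of_torsion ⊥ i (by simpa using hi) (ModuleCat.of R M) ?_
    intro m
    refine ⟨1, fun a ha => ?_⟩
    rw [pow_one, Ideal.mem_bot] at ha
    rw [ha, zero_smul]
  | insert a s ha ih =>
    rw [Finset.coe_insert, Ideal.span_insert, Finset.card_insert_of_notMem ha, add_comm]
    refine Groth.Agent.S0381.result R (Ideal.span {a}) (Ideal.span (s : Set R)) 1 s.card ?_ ih
    intro M _ _ i hi
    obtain ⟨k, rfl⟩ : ∃ k, i = k + 2 := ⟨i - 2, by omega⟩
    exact Groth.Agent.H21.LC.subsingleton_principal a k (ModuleCat.of R M)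

end Groth.Agent.S0326
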