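import Groth.Statements.S0380
import Groth.Agent.Lib.helper21.LC13

set_option autoImplicit false
universe u v
open LocCoh

namespace Groth.Agent.S0380

/-- Local cohomology with support in I vanishes above degree d on all modules exactly when, for every
prime p, local cohomology over A_p with support in I A_p vanishes above degree d on all A_p-modules. -/
theorem result (R : Type u) [CommRing R] [IsNoetherianRing R] (I : Ideal R) (d : ℕ) : LocCoh.CdLE R I d ↔ ∀ (p : Ideal R) [p.IsPrime], LocCoh.CdLE (Localization.AtPrime p) (I.map (algebraMap R (Localization.AtPrime p))) d := by
  constructor
  · intro h p _ N _ _ i hi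
    letI : Module R N := Module.compHom N (algebraMap R (Localization.AtPrime p))
    haveI : IsScalarTower R (Localization.AtPrime p) N :=
      IsScalarTower.of_algebraMap_smul fun _ _ => rfl
    exact Groth.Agent.H21.LC.subsingleton_localization_of I p.primeCompl N i (h N i hi)
  · intro h M _ _ i hi
    exact Groth.Agent.H21.LC.subsingleton_of_localization I M i
      (fun p _ => h p (LocalizedModule p.primeCompl M) i hi)

end Groth.Agent.S0380
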