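import Groth.Statements.S0339
import Groth.Agent.Lib.helper21.Bass

set_option autoImplicit false
universe u v
open CategoryTheory
open Goren

namespace Groth.Agent.S0339

/-- the general form used by `S0340` as well -/
theorem bass (A : Type u) [CommRing A] [IsLocalRing A] [IsNoetherianRing A] (M : ModuleCat.{u} A)
    [Module.Finite A M] :
    (∃ n : ℕ, HasInjectiveDimensionLT M n) ↔ ∃ N : ℕ, ∀ i : ℕ, N ≤ i →
      Subsingleton (Abelian.Ext (ModuleCat.of A (IsLocalRing.ResidueField A)) M i) := by
  constructor
  · rintro ⟨n, hn⟩
    exact ⟨n, fun i hi => HasInjectiveDimensionLT.subsingleton _ n i hi _⟩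
  · rintro ⟨N, hN⟩
    refine ⟨N + 1, ?_⟩
    apply Groth.Agent.H21.Bass.hasInjectiveDimensionLT_of_ext_residue
    intro i hi z
    have e : ModuleCat.of A (IsLocalRing.ResidueField A) ≅
        ModuleCat.of A (A ⧸ IsLocalRing.maximalIdeal A) :=
      (LinearEquiv.refl A (A ⧸ IsLocalRing.maximalIdeal A)).toModuleIso
    refine Groth.Agent.H21.Bass.ext_eq_zero_of_iso e (fun z => ?_) z
    have := hN i hi
    exact Subsingleton.elim _ _

/-- Let A be a Noetherian local ring with residue field κ and M a finite A-module. Then M has finite
injective dimension if and only if Ext^i_A(κ, M) = 0 for all sufficiently large i. (The published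
statement is for bounded-below complexes with finite cohomology modules; stated here for a module.) -/
theorem result (A : Type u) [CommRing A] [IsLocalRing A] [IsNoetherianRing A] (M : Type u) [AddCommGroup M] [Module A M] [Module.Finite A M] : (∃ n : ℕ, HasInjectiveDimensionLT (ModuleCat.of A M) n) ↔ ∃ N : ℕ, ∀ i : ℕ, N ≤ i → Subsingleton (Abelian.Ext (ModuleCat.of A (IsLocalRing.ResidueField A)) (ModuleCat.of A M) i) := by
  have : Module.Finite A (ModuleCat.of A M) := ‹_›
  exact bass A (ModuleCat.of A M)

end Groth.Agent.S0339
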