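import Groth.Statements.S0343
import Groth.Agent.S0340
import Groth.Agent.Lib.helper21.Rees

set_option autoImplicit false
universe u v
open Goren

namespace Groth.Agent.S0343

open CategoryTheory Abelian Groth.Agent.H21

section

variable {A : Type u} [CommRing A] (f : A)

/-- the quotient map `A → A/(f)` as a morphism of `A`-modules -/
noncomputable def quotMap : ModuleCat.of A A ⟶
    (Rees.F f).obj (ModuleCat.of (A ⧸ Ideal.span {f}) (A ⧸ Ideal.span {f})) :=
  ModuleCat.ofHom
    (Y := (Rees.F f).obj (ModuleCat.of (A ⧸ Ideal.span {f}) (A ⧸ Ideal.span {f})))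
    { toFun := fun a => Ideal.Quotient.mk (Ideal.span {f}) a
      map_add' := fun a b => map_add _ a b
      map_smul' := fun a b => by
        change Ideal.Quotient.mk (Ideal.span {f}) (a * b) =
          Ideal.Quotient.mk (Ideal.span {f}) a * Ideal.Quotient.mk (Ideal.span {f}) b
        rw [map_mul] }

lemma quotSES (hreg : IsSMulRegular A f) :
    ∃ (w : (f • 𝟙 (ModuleCat.of A A)) ≫ quotMap f = 0), (ShortComplex.mk _ _ w).ShortExact := by
  have hex : Function.Exact (f • 𝟙 (ModuleCat.of A A)).hom (quotMap f).hom := by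
    intro a
    constructor
    · intro ha
      have ha' : a ∈ Ideal.span {f} := Ideal.Quotient.eq_zero_iff_mem.mp ha
      obtain ⟨c, hc⟩ := Ideal.mem_span_singleton'.mp ha'
      exact ⟨c, by change f • c = a; rw [smul_eq_mul, mul_comm, hc]⟩
    · rintro ⟨c, rfl⟩
      change Ideal.Quotient.mk (Ideal.span {f}) (f • c) = 0
      rw [Ideal.Quotient.eq_zero_iff_mem, smul_eq_mul]
      exact Ideal.mul_mem_right _ _ (Ideal.mem_span_singleton_self f)
  have w : (f • 𝟙 (ModuleCat.of A A)) ≫ quotMap f = 0 := by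
    apply ModuleCat.hom_ext
    apply LinearMap.ext
    intro a
    exact hex.apply_apply_eq_zero a
  refine ⟨w, ModuleCat.shortComplex_shortExact _ hex hreg ?_⟩
  exact Ideal.Quotient.mk_surjective

end

/-- For a Noetherian local ring A and a non-zero-divisor f in the maximal ideal, A is Gorenstein exactly
when A/(f) is. -/
theorem result (A : Type u) [CommRing A] [IsLocalRing A] [IsNoetherianRing A] (f : A) (hf : f ∈ IsLocalRing.maximalIdeal A) (hreg : IsSMulRegular A f) : LocCoh.IsGorensteinLocalRing A ↔ LocCoh.IsGorensteinLocalRing (A ⧸ Ideal.span {f}) := by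
  have hne : Ideal.span {f} ≠ ⊤ := by
    intro h
    have : (1 : A) ∈ IsLocalRing.maximalIdeal A := by
      have h1 : (1 : A) ∈ Ideal.span {f} := by rw [h]; exact Submodule.mem_top
      exact (Ideal.span_le.mpr (Set.singleton_subset_iff.mpr hf)) h1
    exact (IsLocalRing.maximalIdeal.isMaximal A).ne_top ((Ideal.eq_top_iff_one _).mpr this)
  have : Nontrivial (A ⧸ Ideal.span {f}) := Ideal.Quotient.nontrivial_iff.mpr hne
  have : IsLocalRing (A ⧸ Ideal.span {f}) :=
    IsLocalRing.of_surjective' (Ideal.Quotient.mk (Ideal.span {f})) Ideal.Quotient.mk_surjective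
  rw [Groth.Agent.S0340.result A, Groth.Agent.S0340.result (A ⧸ Ideal.span {f})]
  obtain ⟨w, hS⟩ := quotSES f hreg
  -- residue fields
  let kB := ModuleCat.of (A ⧸ Ideal.span {f}) (IsLocalRing.ResidueField (A ⧸ Ideal.span {f}))
  let kA := ModuleCat.of A (IsLocalRing.ResidueField A)
  have hiso : Nonempty (kA ≅ (Rees.F f).obj kB) := by
    let ρ : ModuleCat.of (A ⧸ Ideal.span {f}) (A ⧸ Ideal.span {f}) ⟶ kB :=
      ModuleCat.ofHom (Algebra.linearMap (A ⧸ Ideal.span {f})
        (IsLocalRing.ResidueField (A ⧸ Ideal.span {f})))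
    let ψ : A →ₗ[A] (Rees.F f).obj kB := (quotMap f ≫ (Rees.F f).map ρ).hom
    have hψ : ∀ a : A, ψ a = IsLocalRing.residue (A ⧸ Ideal.span {f})
        (Ideal.Quotient.mk (Ideal.span {f}) a) := fun a => rfl
    have hψs : Function.Surjective ψ := by
      intro y
      obtain ⟨b, rfl⟩ := IsLocalRing.residue_surjective (R := A ⧸ Ideal.span {f}) y
      obtain ⟨a, rfl⟩ := Ideal.Quotient.mk_surjective b
      exact ⟨a, hψ a⟩
    have hψk : LinearMap.ker ψ = IsLocalRing.maximalIdeal A := by
      have hmax : ((IsLocalRing.maximalIdeal (A ⧸ Ideal.span {f})).comap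
          (Ideal.Quotient.mk (Ideal.span {f}))).IsMaximal :=
        Ideal.comap_isMaximal_of_surjective _ Ideal.Quotient.mk_surjective
      rw [← IsLocalRing.eq_maximalIdeal hmax]
      ext a
      rw [LinearMap.mem_ker, Ideal.mem_comap, hψ]
      exact IsLocalRing.residue_eq_zero_iff _
    exact ⟨((Submodule.quotEquivOfEq _ _ hψk.symm).trans
      (LinearMap.quotKerEquivOfSurjective ψ hψs)).toModuleIso⟩
  obtain ⟨e⟩ := hiso
  have key : ∀ i : ℕ, Subsingleton (Ext kB (ModuleCat.of (A ⧸ Ideal.span {f})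
      (A ⧸ Ideal.span {f})) i) ↔ Subsingleton (Ext kA (ModuleCat.of A A) (i + 1)) := by
    intro i
    have hb := Rees.Φ_bijective hS hreg i kB
    rw [(Equiv.ofBijective _ hb).subsingleton_congr]
    constructor
    · intro h
      refine ⟨fun a b => ?_⟩
      have hz : ∀ z : Ext kA (ModuleCat.of A A) (i + 1), z = 0 :=
        Bass.ext_eq_zero_of_iso e.symm (fun z => Subsingleton.elim _ _)
      rw [hz a, hz b]
    · intro h
      refine ⟨fun a b => ?_⟩
      have hz : ∀ z : Ext ((Rees.F f).obj kB) (ModuleCat.of A A) (i + 1), z = 0 :=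
        Bass.ext_eq_zero_of_iso e (fun z => Subsingleton.elim _ _)
      rw [hz a, hz b]
  constructor
  · rintro ⟨N, hN⟩
    exact ⟨N, fun i hi => (key i).mpr (hN (i + 1) (by omega))⟩
  · rintro ⟨N, hN⟩
    refine ⟨N + 1, fun i hi => ?_⟩
    obtain ⟨j, rfl⟩ : ∃ j, i = j + 1 := ⟨i - 1, by omega⟩
    exact (key j).mp (hN j (by omega))

end Groth.Agent.S0343
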