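import Groth.Statements.S0341
import Groth.Agent.Lib.helper21.GorCM

set_option autoImplicit false
universe u v
open Goren

namespace Groth.Agent.S0341

/-- A Gorenstein local ring is Cohen–Macaulay. -/
theorem result (A : Type u) [CommRing A] [LocCoh.IsGorensteinLocalRing A] : LocCoh.IsCohenMacaulayLocalRing A := by
  obtain ⟨d, hd⟩ := Groth.Agent.Lib.helper9.Depth.exists_nat_depth (R := A) A
  exact { supportDim_eq_depth := Groth.Agent.H21.GorCM.main d A hd }

end Groth.Agent.S0341
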