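import Groth.Statements.S5790
import Groth.Agent.Lib.helper21.ExtBC3

set_option autoImplicit false
universe u
open CategoryTheory
open EGA41

namespace Groth.Agent.S5790

/-- Suppose A is a Noetherian ring and consider any A-module M. Taking the supremum, over all prime
ideals p, of the injective dimension of M_p as an A_p-module yields the injective dimension of M;
put differently, for each n, the injective dimension of M is at most n exactly when, for every prime
p, the injective dimension of M_p over A_p is at most n. -/
theorem result (A : Type u) [CommRing A] [IsNoetherianRing A]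
    (M : Type u) [AddCommGroup M] [Module A M] (n : ℕ) :
    HasInjectiveDimensionLT (ModuleCat.of A M) (n + 1) ↔
      ∀ p : PrimeSpectrum A, HasInjectiveDimensionLT
        (ModuleCat.of (Localization.AtPrime p.asIdeal) (LocalizedModule p.asIdeal.primeCompl M)) (n + 1) := by
  constructor
  · intro h p
    apply Groth.Agent.Lib.helper9.ExtCyclic.hasInjectiveDimensionLT_of_ext_cyclic
    intro J
    have hJ : (J.comap (algebraMap A (Localization.AtPrime p.asIdeal))).map
        (algebraMap A (Localization.AtPrime p.asIdeal)) = J :=
      IsLocalization.map_comap p.asIdeal.primeCompl (Localization.AtPrime p.asIdeal) J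
    have h1 : Subsingleton (Abelian.Ext (ModuleCat.of A
        (A ⧸ J.comap (algebraMap A (Localization.AtPrime p.asIdeal)))) (ModuleCat.of A M) (n + 1)) :=
      HasInjectiveDimensionLT.subsingleton _ (n + 1) (n + 1) le_rfl _
    have h2 := Groth.Agent.H21.ExtBC.subsingleton_ext_localization p.asIdeal
      (A ⧸ J.comap (algebraMap A (Localization.AtPrime p.asIdeal))) M (n + 1) h1
    refine Groth.Agent.H21.ExtBC.subsingleton_ext_of_isos (Localization.AtPrime p.asIdeal) (n + 1)
      ((Groth.Agent.H21.ExtBC.bcIsoQuot (Localization.AtPrime p.asIdeal)
        (J.comap (algebraMap A (Localization.AtPrime p.asIdeal)))).trans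
        (LinearEquiv.toModuleIso (Submodule.quotEquivOfEq _ _ hJ))) (Iso.refl _) h2
  · intro h
    apply Groth.Agent.Lib.helper9.ExtCyclic.hasInjectiveDimensionLT_of_ext_cyclic
    intro I
    apply Groth.Agent.H21.ExtBC.subsingleton_ext_of_localization
    intro p
    haveI := h p
    exact HasInjectiveDimensionLT.subsingleton _ (n + 1) (n + 1) le_rfl _

end Groth.Agent.S5790
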