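import Groth.Statements.S2082
-- import your own Groth.Agent.* helpers here
import Mathlib
import Groth.Agent.Lib.helper6.MiracleFlat

set_option autoImplicit false
universe u
open CAlg

namespace Groth.Agent.S2082

/-- Take a local homomorphism `R → S` between Noetherian local rings, where `R` is regular, `S` is
Cohen–Macaulay, and `dim S = dim R + dim (S/𝔪_R S)`. Then `S` is flat over `R`. -/
theorem result {R S : Type u} [CommRing R] [CommRing S] [IsRegularLocalRing R]
    [LocCoh.IsCohenMacaulayLocalRing S] [Algebra R S] [IsLocalHom (algebraMap R S)]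
    (hdim : ringKrullDim S = ringKrullDim R +
      ringKrullDim (S ⧸ (IsLocalRing.maximalIdeal R).map (algebraMap R S))) :
    Module.Flat R S := by
  have hCM : LocCoh.IsCohenMacaulayModule S S :=
    LocCoh.IsCohenMacaulayLocalRing.supportDim_eq_depth
  refine Groth.Agent.Lib.helper6.MiracleFlat.main R S S hCM ?_
  have h1 : (EGA4.mB R S • (⊤ : Submodule S S)) = EGA4.mB R S := by
    rw [smul_eq_mul, Ideal.mul_top]
  have h2 : Module.supportDim S (EGA4.FibMod R S S) = ringKrullDim (S ⧸ EGA4.mB R S) := by
    show Module.supportDim S (S ⧸ (EGA4.mB R S • (⊤ : Submodule S S))) = _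
    rw [h1]
    exact Module.supportDim_quotient_eq_ringKrullDim _
  rw [h2, Module.supportDim_self_eq_ringKrullDim]
  exact hdim

end Groth.Agent.S2082
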