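import Groth.Statements.S6619
import Mathlib
import Groth.Agent.Lib.helper18.RDPlus2

set_option autoImplicit false
universe v v' u u'
open CategoryTheory CategoryTheory.Limits
open CohDer

namespace Groth.Agent.S6619

/-- In the case where A has enough injectives (an object X is right acyclic for the left exact functor F
when RⁱF(X) = 0 for all i > 0): suppose A and B are abelian categories, A has enough injectives, F :
A ⥤ B is left exact, and 0 → X₁ → X₂ → X₃ → 0 is a short exact sequence of A. (1) If X₁, X₃ are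
right acyclic so is X₂; (2) if X₁, X₂ are right acyclic so is X₃; (3) if X₂, X₃ are right acyclic
and F(X₂) ⟶ F(X₃) is surjective then X₁ is right acyclic. In each of the three cases 0 → F(X₁) →
F(X₂) → F(X₃) → 0 is short exact. -/
theorem result {A : Type u} [Category.{v} A] [Abelian A] [EnoughInjectives A]
    {B : Type u'} [Category.{v'} B] [Abelian B] (F : A ⥤ B) [F.Additive] [PreservesFiniteLimits F]
    (S : ShortComplex A) (hS : S.ShortExact) :
    ((∀ i : ℕ, 0 < i → IsZero ((F.rightDerived i).obj S.X₁)) → (∀ i : ℕ, 0 < i → IsZero ((F.rightDerived i).obj S.X₃)) →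
      (∀ i : ℕ, 0 < i → IsZero ((F.rightDerived i).obj S.X₂)) ∧ (S.map F).ShortExact) ∧
    ((∀ i : ℕ, 0 < i → IsZero ((F.rightDerived i).obj S.X₁)) → (∀ i : ℕ, 0 < i → IsZero ((F.rightDerived i).obj S.X₂)) →
      (∀ i : ℕ, 0 < i → IsZero ((F.rightDerived i).obj S.X₃)) ∧ (S.map F).ShortExact) ∧
    ((∀ i : ℕ, 0 < i → IsZero ((F.rightDerived i).obj S.X₂)) → (∀ i : ℕ, 0 < i → IsZero ((F.rightDerived i).obj S.X₃)) →
      Epi (F.map S.g) → (∀ i : ℕ, 0 < i → IsZero ((F.rightDerived i).obj S.X₁)) ∧ (S.map F).ShortExact) := by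
  have hmono : Mono (F.map S.f) := by
    have := hS.mono_f
    infer_instance
  have hexact : (S.map F).Exact := by
    have := hS.mono_f
    exact hS.exact.map_of_mono_of_preservesKernel F inferInstance inferInstance
  have mkSE : Epi (F.map S.g) → (S.map F).ShortExact := fun h =>
    { exact := hexact, mono_f := hmono, epi_g := h }
  -- `F g` is epi iff `R⁰F g` is
  have hiff : Epi ((F.rightDerived 0).map S.g) ↔ Epi (F.map S.g) := by
    have hn := F.rightDerivedZeroIsoSelf.hom.naturality S.g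
    constructor
    · intro h
      have h1 : Epi (F.rightDerivedZeroIsoSelf.hom.app S.X₂ ≫ F.map S.g) := by
        rw [← hn]
        infer_instance
      exact epi_of_epi (F.rightDerivedZeroIsoSelf.hom.app S.X₂) _
    · intro h
      have h1 : Epi ((F.rightDerived 0).map S.g ≫ F.rightDerivedZeroIsoSelf.hom.app S.X₃) := by
        rw [hn]
        infer_instance
      have h2 : (F.rightDerived 0).map S.g = ((F.rightDerived 0).map S.g ≫
          F.rightDerivedZeroIsoSelf.hom.app S.X₃) ≫ F.rightDerivedZeroIsoSelf.inv.app S.X₃ := by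
        rw [Category.assoc, Iso.hom_inv_id_app, Category.comp_id]
      rw [h2]
      infer_instance
  have hepi : IsZero ((F.rightDerived 1).obj S.X₁) → Epi (F.map S.g) := by
    intro h1
    obtain ⟨-, δ, ⟨w, ex⟩, -⟩ := Groth.Agent.H18.RDPlus.rightDerived_homologySequence F S hS 0
    exact hiff.1 (ex.epi_f (h1.eq_of_tgt _ _))
  refine ⟨?_, ?_, ?_⟩
  · intro h₁ h₃
    refine ⟨fun i hi => ?_, mkSE (hepi (h₁ 1 one_pos))⟩
    obtain ⟨⟨w, ex⟩, -⟩ := Groth.Agent.H18.RDPlus.rightDerived_homologySequence F S hS i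
    exact ex.isZero_X₂ ((h₁ i hi).eq_of_src _ _) ((h₃ i hi).eq_of_tgt _ _)
  · intro h₁ h₂
    refine ⟨fun i hi => ?_, mkSE (hepi (h₁ 1 one_pos))⟩
    obtain ⟨-, δ, ⟨w, ex⟩, -⟩ := Groth.Agent.H18.RDPlus.rightDerived_homologySequence F S hS i
    exact ex.isZero_X₂ ((h₂ i hi).eq_of_src _ _) ((h₁ (i + 1) (Nat.succ_pos i)).eq_of_tgt _ _)
  · intro h₂ h₃ hg
    refine ⟨fun i hi => ?_, mkSE hg⟩
    obtain ⟨j, rfl⟩ : ∃ j, i = j + 1 := ⟨i - 1, by omega⟩
    obtain ⟨-, δ, ⟨w₃, ex₃⟩, ⟨w₁, ex₁⟩⟩ :=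
      Groth.Agent.H18.RDPlus.rightDerived_homologySequence F S hS j
    by_cases hj : 0 < j
    · exact ex₁.isZero_X₂ ((h₃ j hj).eq_of_src _ _) ((h₂ (j + 1) (Nat.succ_pos j)).eq_of_tgt _ _)
    · obtain rfl : j = 0 := by omega
      have hE : Epi ((F.rightDerived 0).map S.g) := hiff.2 hg
      have hδ : δ = 0 := by
        rw [← cancel_epi ((F.rightDerived 0).map S.g), w₃, comp_zero]
      exact ex₁.isZero_X₂ hδ ((h₂ 1 one_pos).eq_of_tgt _ _)

end Groth.Agent.S6619
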