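import Groth.Statements.S12717
import Groth.Agent.Lib.helper19.ArtInduction

set_option autoImplicit false
universe u v
open CategoryTheory
open ArtFun

namespace Groth.Agent.S12717

/-- For functors, a morphism η : F → G of functors on the category of Artinian local Λ-algebras with
residue field k is smooth (F(B) → F(A) ×_{G(A)} G(B) surjective for every surjection B → A) as soon
as this lifting condition holds for all small extensions B → A. -/
theorem result {Λ : Type u} {k : Type u} [CommRing Λ] [Field k] [Algebra Λ k]
    [IsNoetherianRing Λ] [Module.Finite Λ k]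
    {F G : ArtFun.Art Λ k ⥤ Type v} (η : F ⟶ G)
    (h : ∀ ⦃B A : ArtFun.Art Λ k⦄ (μ : B ⟶ A), ArtFun.Art.IsSmallExt μ →
      Function.Surjective (ArtFun.relCmp η μ)) :
    ArtFun.IsSmooth η := by
  intro B A μ hμ
  refine Groth.Agent.Lib.helper19.art_surjective_induction
    (fun A B μ => Function.Surjective (ArtFun.relCmp η μ)) ?_ ?_ ?_ μ hμ
  · intro A B e he
    rintro ⟨⟨x, y⟩, hxy⟩
    refine ⟨F.map (inv e) x, ?_⟩
    apply Subtype.ext
    apply Prod.ext
    · change F.map e (F.map (inv e) x) = x
      rw [← Functor.map_comp_apply, IsIso.inv_hom_id, Functor.map_id_apply]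
    · change η.app B (F.map (inv e) x) = y
      have h1 : η.app B (F.map (inv e) x) = G.map (inv e) (η.app A x) :=
        NatTrans.naturality_apply η (inv e) x
      rw [h1]
      have h2 : η.app A x = G.map e y := hxy
      rw [h2, ← Functor.map_comp_apply, IsIso.hom_inv_id, Functor.map_id_apply]
  · intro A B p hp
    exact h p hp
  · intro A B C p q hp hq
    rintro ⟨⟨x, y⟩, hxy⟩
    have hxy' : η.app A x = G.map (p ≫ q) y := hxy
    obtain ⟨zB, hzB⟩ := hq ⟨(x, G.map p y), by
      change η.app A x = G.map q (G.map p y)
      rw [hxy', Functor.map_comp_apply]⟩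
    have hzB1 : F.map q zB = x := congrArg (fun t => t.1.1) hzB
    have hzB2 : η.app B zB = G.map p y := congrArg (fun t => t.1.2) hzB
    obtain ⟨z, hz⟩ := hp ⟨(zB, y), hzB2⟩
    have hz1 : F.map p z = zB := congrArg (fun t => t.1.1) hz
    have hz2 : η.app C z = y := congrArg (fun t => t.1.2) hz
    refine ⟨z, ?_⟩
    apply Subtype.ext
    apply Prod.ext
    · change F.map (p ≫ q) z = x
      rw [Functor.map_comp_apply, hz1, hzB1]
    · exact hz2

end Groth.Agent.S12717
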