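import Groth.Statements.S1617
import Mathlib
import Groth.Agent.Lib.helper7.DimSch2

set_option autoImplicit false
universe u
open CategoryTheory CategoryTheory.Limits AlgebraicGeometry
open Variety

namespace Groth.Agent.S1617

/-- Let X be locally of finite type over a field k and x a closed point. Then the local dimension of X
at x (infimum of the dimensions of open neighbourhoods) equals the Krull dimension of the local ring
at x. -/
theorem result (k : Type u) [Field k] (X : Scheme.{u}) [X.Over (Spec (CommRingCat.of k))] [LocallyOfFiniteType (X ↘ (Spec (CommRingCat.of k)))] (x : X) (hx : IsClosed ({x} : Set X)) :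
    FlatMor.localDim X x = ringKrullDim (X.presheaf.stalk x) := by
  obtain ⟨_, ⟨W, hW, rfl⟩, hxW, -⟩ :=
    X.isBasis_affineOpens.exists_subset_of_mem_open (Set.mem_univ x) isOpen_univ
  have hW' : IsAffineOpen W := hW
  letI := (Groth.Agent.Lib.helper7.DimSch.sectionMap k X W).toAlgebra
  haveI : Algebra.FiniteType k Γ(X, W) :=
    Groth.Agent.Lib.helper7.DimSch.sectionMap_finiteType k X hW'
  haveI : IsNoetherianRing Γ(X, W) := Algebra.FiniteType.isNoetherianRing k _
  obtain ⟨n, h1, h2⟩ := Groth.Agent.Lib.helper7.DimSch.exists_trdeg_residueField_eq k X hW' x hxW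
  have hmax : (hW'.primeIdealOf ⟨x, hxW⟩).asIdeal.IsMaximal :=
    hW'.primeIdealOf_isMaximal_of_isClosed ⟨x, hxW⟩ hx
  have hn : n = 0 := by
    letI : Field (Γ(X, W) ⧸ (hW'.primeIdealOf ⟨x, hxW⟩).asIdeal) := Ideal.Quotient.field _
    have h0 : ringKrullDim (Γ(X, W) ⧸ (hW'.primeIdealOf ⟨x, hxW⟩).asIdeal) = 0 :=
      ringKrullDim_eq_zero_of_field _
    rw [h2] at h0
    exact_mod_cast h0
  have hfin : (hW'.primeIdealOf ⟨x, hxW⟩).asIdeal.height ≠ ⊤ := Ideal.height_ne_top_of_isPrime
  obtain ⟨b, hb⟩ := ENat.ne_top_iff_exists.mp hfin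
  have hb' : ringKrullDim (X.presheaf.stalk x) = b := by
    rw [Groth.Agent.Lib.helper7.DimSch.ringKrullDim_stalk_eq_height hW' x hxW, ← hb]
    rfl
  have := Groth.Agent.Lib.helper7.DimSch.localDim_eq k X x 0 b (by rw [h1, hn]) hb'
  rw [this, hb', zero_add]

end Groth.Agent.S1617
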