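import Groth.Statements.S9498
import Groth.Agent.Lib.helper9.TildeFin
import Groth.Agent.Lib.helper9.ZC5
import Mathlib.Algebra.Homology.ShortComplex.ExactFunctor

set_option autoImplicit false
universe u
open AffSch

namespace Groth.Agent.S9498

open AlgebraicGeometry in
lemma comapFun_id_injective {R : Type u} [CommRing R] {M N : Type u} [AddCommGroup M]
    [AddCommGroup N] [Module R M] [Module R N] (f : M →ₗ[R] N) (hf : Function.Injective f)
    (y : PrimeSpectrum.Top R) :
    Function.Injective (StructureSheaf.Localizations.comapFun (σ := RingHom.id R) f y) := by
  intro x x' h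
  induction x using LocalizedModule.induction_on with
  | h a b =>
  induction x' using LocalizedModule.induction_on with
  | h a' b' =>
  rw [StructureSheaf.Localizations.comapFun_mk, StructureSheaf.Localizations.comapFun_mk,
    LocalizedModule.mk_eq] at h
  obtain ⟨u, hu⟩ := h
  rw [LocalizedModule.mk_eq]
  refine ⟨u, hf ?_⟩
  show f ((u : R) • (b' : R) • a) = f ((u : R) • (b : R) • a')
  rw [map_smul, map_smul, map_smul, map_smul]
  exact hu

open AlgebraicGeometry CategoryTheory in
lemma tilde_map_app_injective {R : CommRingCat.{u}} {M N : ModuleCat.{u} R} (f : M ⟶ N)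
    (hf : Function.Injective f.hom) (U : (Spec R).Opens) :
    Function.Injective ((tilde.map f).app U) := by
  intro s s' h
  have h1 : ∀ y : U, (show Groth.Agent.Lib.helper9.Sect.Sec R M U from s).1 y =
      (show Groth.Agent.Lib.helper9.Sect.Sec R M U from s').1 y := by
    intro y
    have h2 := congrArg (fun z : Groth.Agent.Lib.helper9.Sect.Sec R N U => z.1 y) h
    exact comapFun_id_injective f.hom hf y.1 h2
  exact Subtype.ext (funext h1)

open AlgebraicGeometry in
open CategoryTheory Limits in
lemma main (R : CommRingCat.{u}) :
    PreservesFiniteLimits (tilde.functor R) ∧ PreservesFiniteColimits (tilde.functor R) := by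
  haveI hc : PreservesFiniteColimits (tilde.functor R) := inferInstance
  refine ⟨?_, hc⟩
  haveI : (tilde.functor R).Additive := inferInstance
  rw [Functor.preservesFiniteLimits_iff_forall_exact_map_and_mono]
  intro S hS
  refine ⟨?_, ?_⟩
  · exact ((Functor.preservesFiniteColimits_iff_forall_exact_map_and_epi
      (tilde.functor R)).mp hc S hS).1
  · haveI := hS.mono_f
    have hinj : Function.Injective S.f.hom := (ModuleCat.mono_iff_injective S.f).mp inferInstance
    exact Groth.Agent.Lib.helper9.ZC.mono_of_app_injective _
      (fun U => tilde_map_app_injective S.f hinj U)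

open AlgebraicGeometry in
open CategoryTheory Limits in
/-- For a commutative ring A, the functor M ↦ M~ from the category of A-modules to the category of
O-modules on Spec A is exact, i.e. it preserves finite limits and finite colimits. -/
theorem result
    (A : Type u) [CommRing A] :
    PreservesFiniteLimits (tilde.functor (CommRingCat.of A)) ∧
      PreservesFiniteColimits (tilde.functor (CommRingCat.of A)) := by
  exact main (CommRingCat.of A)

end Groth.Agent.S9498
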