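import Groth.Statements.S9496
import Groth.Agent.S9498

set_option autoImplicit false
universe u
open AffSch

namespace Groth.Agent.S9496

open AlgebraicGeometry in
open CategoryTheory Limits in
set_option backward.isDefEq.respectTransparency false in
lemma main (R : CommRingCat.{u}) {M N : (Spec R).Modules} [M.IsQuasicoherent] [N.IsQuasicoherent]
    (φ : M ⟶ N) : (kernel φ).IsQuasicoherent ∧ (cokernel φ).IsQuasicoherent := by
  have nat : (tilde.functor R).map (moduleSpecΓFunctor.map φ) ≫ N.fromTildeΓ =
      M.fromTildeΓ ≫ φ := (Scheme.Modules.fromTildeΓNatTrans (R := R)).naturality φ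
  haveI : IsIso M.fromTildeΓ := inferInstance
  haveI : IsIso N.fromTildeΓ := inferInstance
  haveI : PreservesFiniteLimits (tilde.functor R) := (Groth.Agent.S9498.main R).1
  haveI : PreservesFiniteColimits (tilde.functor R) := (Groth.Agent.S9498.main R).2
  haveI : (tilde.functor R).Additive := inferInstance
  constructor
  · let k1 : kernel ((tilde.functor R).map (moduleSpecΓFunctor.map φ)) ≅ kernel φ :=
      kernel.mapIso _ _ (asIso M.fromTildeΓ) (asIso N.fromTildeΓ) nat
    let k2 : (tilde.functor R).obj (kernel (moduleSpecΓFunctor.map φ)) ≅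
        kernel ((tilde.functor R).map (moduleSpecΓFunctor.map φ)) :=
      PreservesKernel.iso (tilde.functor R) (moduleSpecΓFunctor.map φ)
    exact (SheafOfModules.isQuasicoherent (Spec R).ringCatSheaf).prop_of_iso (k2 ≪≫ k1)
      (inferInstanceAs
        ((tilde.functor R).obj (kernel (moduleSpecΓFunctor.map φ))).IsQuasicoherent)
  · let k1 : cokernel ((tilde.functor R).map (moduleSpecΓFunctor.map φ)) ≅ cokernel φ :=
      cokernel.mapIso _ _ (asIso M.fromTildeΓ) (asIso N.fromTildeΓ) nat
    let k2 : (tilde.functor R).obj (cokernel (moduleSpecΓFunctor.map φ)) ≅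
        cokernel ((tilde.functor R).map (moduleSpecΓFunctor.map φ)) :=
      PreservesCokernel.iso (tilde.functor R) (moduleSpecΓFunctor.map φ)
    exact (SheafOfModules.isQuasicoherent (Spec R).ringCatSheaf).prop_of_iso (k2 ≪≫ k1)
      (inferInstanceAs
        ((tilde.functor R).obj (cokernel (moduleSpecΓFunctor.map φ))).IsQuasicoherent)


open AlgebraicGeometry in
open CategoryTheory Limits in
/-- Let X = Spec A be an affine scheme and φ : M → N a morphism of quasi-coherent O_X-modules. Then the
kernel and the cokernel of φ, computed in the category of all O_X-modules, are quasi-coherent. -/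
theorem result
    (A : Type u) [CommRing A] {M N : (Spec (CommRingCat.of A)).Modules}
    [Coh.IsQCoh M] [Coh.IsQCoh N] (φ : M ⟶ N) :
    Coh.IsQCoh (kernel φ) ∧ Coh.IsQCoh (cokernel φ) := by
  exact main (CommRingCat.of A) φ

end Groth.Agent.S9496
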