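import Groth.Statements.S1033
import Mathlib
-- import your own Groth.Agent.* helpers here

set_option autoImplicit false
universe w v u
open CategoryTheory CategoryTheory.Abelian
open CohDer

namespace Groth.Agent.S1033


section helpers
open DerivedCategory HomologicalComplex

variable {A : Type u} [Category.{v} A] [Abelian A]

set_option backward.defeqAttrib.useBackward true in
set_option backward.isDefEq.respectTransparency false in
/-- a quasi-iso from a complex in degrees ≤ i to a single is epi in degree i -/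
lemma epi_f_of_quasiIsoAt {P : A} {K : CochainComplex A ℤ} {i : ℤ}
    (π : K ⟶ (CochainComplex.singleFunctor A i).obj P) [K.IsStrictlyLE i] [QuasiIsoAt π i] :
    Epi (π.f i) := by
  let e := K.iCyclesIso i (i + 1) (by simp)
    ((K.isZero_of_isStrictlyLE i (i + 1) (by simp)).eq_of_tgt _ _)
  let α := e.inv ≫ K.homologyπ i ≫ homologyMap π i ≫ (singleObjHomologySelfIso _ _ _).hom
  have : π.f i = α ≫ (singleObjXSelf (ComplexShape.up ℤ) i P).inv := by
    rw [← cancel_epi e.hom]
    dsimp [α, e]
    rw [Category.assoc, Category.assoc, Category.assoc, iCyclesIso_hom_inv_id_assoc,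
      homologyπ_naturality_assoc]
    dsimp [CochainComplex.singleFunctor, CochainComplex.singleFunctors]
    rw [homologyπ_singleObjHomologySelfIso_hom_assoc,
      ← singleObjCyclesSelfIso_inv_iCycles, Iso.hom_inv_id_assoc, ← cyclesMap_i]
  rw [this]
  have : Epi α := by
    dsimp [α]
    infer_instance
  infer_instance


set_option backward.isDefEq.respectTransparency false in
lemma exists_epi_comp_eq_zero_derived [HasDerivedCategory.{w} A] {B : A} {L : CochainComplex A ℤ}
    (φ : Q.obj ((CochainComplex.singleFunctor A 0).obj B) ⟶ Q.obj L) (hL : Limits.IsZero (L.X 0)) :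
    ∃ (B' : A) (π : B' ⟶ B) (_ : Epi π),
      Q.map ((CochainComplex.singleFunctor A 0).map π) ≫ φ = 0 := by
  obtain ⟨K, _, s, h, g, rfl⟩ := right_fac_of_isStrictlyLE φ 0
  have hq : QuasiIso s := by rwa [isIso_Q_map_iff_quasiIso] at h
  have : Epi (s.f 0) := epi_f_of_quasiIsoAt s
  let ι : (CochainComplex.singleFunctor A 0).obj (K.X 0) ⟶ K :=
    mkHomFromSingle (𝟙 _) (by
      rintro _ rfl
      apply (K.isZero_of_isStrictlyLE 0 (0 + 1) (by simp)).eq_of_tgt)
  refine ⟨K.X 0, s.f 0 ≫ (singleObjXSelf (ComplexShape.up ℤ) 0 B).hom, inferInstance, ?_⟩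
  have h₁ : (CochainComplex.singleFunctor A 0).map
      (s.f 0 ≫ (singleObjXSelf (ComplexShape.up ℤ) 0 B).hom) = ι ≫ s := by
    apply from_single_hom_ext
    dsimp [CochainComplex.singleFunctor, CochainComplex.singleFunctors]
    rw [single_map_f_self, mkHomFromSingle_f]
    simp
  have h₂ : ι ≫ g = 0 := by
    apply from_single_hom_ext
    apply hL.eq_of_tgt
  rw [h₁, Q.map_comp, Category.assoc, IsIso.hom_inv_id_assoc, ← Q.map_comp, h₂, Q.map_zero]


set_option backward.isDefEq.respectTransparency false in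
lemma exists_epi_comp_eq_zero [HasExt.{w} A] {B Y : A} {n : ℕ} (e : Ext B Y (n + 1)) :
    ∃ (B' : A) (π : B' ⟶ B) (_ : Epi π), (Ext.mk₀ π).comp e (zero_add _) = 0 := by
  let := HasDerivedCategory.standard A
  let φ : Q.obj ((CochainComplex.singleFunctor A 0).obj B) ⟶
      Q.obj ((CochainComplex.singleFunctor A (-((n : ℤ) + 1))).obj Y) :=
    Ext.homEquiv e ≫ ((singleFunctors A).shiftIso ((n : ℤ) + 1) (-((n : ℤ) + 1)) 0
      (by lia)).hom.app _
  obtain ⟨B', π, hπ, h⟩ := exists_epi_comp_eq_zero_derived φ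
    (isZero_single_obj_X (ComplexShape.up ℤ) _ _ _ (by lia))
  refine ⟨B', π, hπ, ?_⟩
  apply Ext.homEquiv.injective
  simp only [← cancel_mono (((singleFunctors A).shiftIso ((n : ℤ) + 1) (-((n : ℤ) + 1)) 0
    (by lia)).hom.app _), Ext.zero_hom, Limits.zero_comp]
  have h3 : Ext.homEquiv ((Ext.mk₀ π).comp e (zero_add _)) =
      (singleFunctor A 0).map π ≫ Ext.homEquiv e := by
    have := Ext.comp_hom (Ext.mk₀ π) e (zero_add (n + 1))
    rw [Ext.mk₀_hom, ShiftedHom.mk₀_comp] at this
    exact this
  rw [h3, Category.assoc]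
  exact h

end helpers

/-- Let A be an abelian category (with Ext groups in some universe) and p ≥ 0. If Extᵖ(B, C) = 0 for all
objects B, C, then Extⁱ(B, C) = 0 for all i ≥ p and all B, C. -/
theorem result {A : Type u} [Category.{v} A] [Abelian A] [HasExt.{w} A] (p : ℕ)
    (h : ∀ (B C : A) (x : Ext B C p), x = 0) (i : ℕ) (hi : p ≤ i) (B C : A) (x : Ext B C i) : x = 0 := by
  obtain ⟨k, rfl⟩ := Nat.exists_eq_add_of_le hi
  induction k generalizing B C with
  | zero => exact h B C x
  | succ k ih =>
    obtain ⟨B', π, hπ, hx⟩ := exists_epi_comp_eq_zero (n := p + k) x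
    have hS : (ShortComplex.mk (Limits.kernel.ι π) π (Limits.kernel.condition π)).ShortExact :=
      { exact := ShortComplex.exact_kernel π }
    obtain ⟨x₁, rfl⟩ := Ext.contravariant_sequence_exact₃ hS C x hx (n₀ := p + k) (by lia)
    rw [ih _ _ (by lia) x₁, Ext.comp_zero]

end Groth.Agent.S1033
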