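import Groth.Statements.S7051
import Mathlib
import Groth.Agent.Lib.helper2.DCompl
import Groth.Agent.Lib.helper2.Pd1KerCoker
-- import your own Groth.Agent.* helpers here

set_option autoImplicit false
universe u
attribute [local instance] HasDerivedCategory.standard
open DRing

namespace Groth.Agent.S7051

/-- For a commutative ring A, an ideal I and a linear map u between A-modules M and N which are derived
complete with respect to I (placed in degree 0), the kernel of u and the cokernel N/u(M) are again
derived complete with respect to I. -/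
theorem result {A : Type u} [CommRing A] (I : Ideal A)
    (M N : Type u) [AddCommGroup M] [Module A M] [AddCommGroup N] [Module A N] (u : M →ₗ[A] N)
    (hM : DRing.IsDerivedComplete I (Dual.inD A M)) (hN : DRing.IsDerivedComplete I (Dual.inD A N)) :
    DRing.IsDerivedComplete I (Dual.inD A (LinearMap.ker u)) ∧
      DRing.IsDerivedComplete I (Dual.inD A (N ⧸ LinearMap.range u)) := by
  have key : ∀ f : A, f ∈ I →
      Groth.Agent.Lib.helper2.Pd1.AllShift (Groth.Agent.Lib.helper2.DCompl.Af f)
        ((DerivedCategory.singleFunctor (ModuleCat.{u} A) 0).obj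
          (CategoryTheory.Limits.kernel (ModuleCat.ofHom u))) ∧
      Groth.Agent.Lib.helper2.Pd1.AllShift (Groth.Agent.Lib.helper2.DCompl.Af f)
        ((DerivedCategory.singleFunctor (ModuleCat.{u} A) 0).obj
          (CategoryTheory.Limits.cokernel (ModuleCat.ofHom u))) := by
    intro f hf
    exact Groth.Agent.Lib.helper2.Pd1.allShift_kernel_cokernel
      (Groth.Agent.Lib.helper2.DCompl.isPd1_Af f) (ModuleCat.ofHom u)
      ((Groth.Agent.Lib.helper2.DCompl.isDerivedComplete_iff I _).1 hM f hf)
      ((Groth.Agent.Lib.helper2.DCompl.isDerivedComplete_iff I _).1 hN f hf)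
  constructor
  · refine Groth.Agent.Lib.helper2.DCompl.isDerivedComplete_of_iso
      ((DerivedCategory.singleFunctor (ModuleCat.{u} A) 0).mapIso
        (ModuleCat.kernelIsoKer (ModuleCat.ofHom u))) ?_
    rw [Groth.Agent.Lib.helper2.DCompl.isDerivedComplete_iff]
    exact fun f hf => (key f hf).1
  · refine Groth.Agent.Lib.helper2.DCompl.isDerivedComplete_of_iso
      ((DerivedCategory.singleFunctor (ModuleCat.{u} A) 0).mapIso
        (ModuleCat.cokernelIsoRangeQuotient (ModuleCat.ofHom u))) ?_
    rw [Groth.Agent.Lib.helper2.DCompl.isDerivedComplete_iff]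
    exact fun f hf => (key f hf).2

end Groth.Agent.S7051
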