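import Groth.Statements.S7048
import Mathlib
import Groth.Agent.Lib.helper2.DComplSeq2
-- import your own Groth.Agent.* helpers here

set_option autoImplicit false
universe u
attribute [local instance] HasDerivedCategory.standard
open DRing

namespace Groth.Agent.S7048

/-- For a commutative ring A, an ideal I and an A-module M which is I-adically complete, the object M[0]
of D(A) is derived complete with respect to I. -/
theorem result {A : Type u} [CommRing A] (I : Ideal A)
    (M : Type u) [AddCommGroup M] [Module A M] [IsAdicComplete I M] :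
    DRing.IsDerivedComplete I (Dual.inD A M) := by
  rw [Groth.Agent.Lib.helper2.DCompl.isDerivedComplete_iff_seq]
  intro f hf
  have hpow : ∀ (k : ℕ) (m : M), f ^ k • m ∈ I ^ k • (⊤ : Submodule A M) := fun k m =>
    Submodule.smul_mem_smul (Ideal.pow_mem_pow hf k) Submodule.mem_top
  have hmono : ∀ {a b : ℕ}, a ≤ b → I ^ b • (⊤ : Submodule A M) ≤ I ^ a • (⊤ : Submodule A M) :=
    fun hab => Submodule.smul_mono_left (Ideal.pow_le_pow_right hab)
  have hsep : ∀ m : M, (∀ k : ℕ, m ∈ I ^ k • (⊤ : Submodule A M)) → m = 0 := by
    intro m hm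
    apply IsHausdorff.haus (I := I) inferInstance
    intro k
    rw [SModEq.zero]
    exact hm k
  constructor
  · rw [injective_iff_map_eq_zero]
    intro h hh
    have h1 : ∀ n : ℕ, h n = f • h (n + 1) := fun n => by
      have := congrFun hh n
      simpa [sub_eq_zero] using this
    have h2 : ∀ (k n : ℕ), h n = f ^ k • h (n + k) := by
      intro k
      induction k with
      | zero => intro n; simp
      | succ k ih =>
        intro n
        rw [ih n, h1 (n + k), pow_succ, mul_smul, add_assoc]
    funext n
    exact hsep _ (fun k => by rw [h2 k n]; exact hpow k _)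
  · intro x
    let s : ℕ → ℕ → M := fun n K => ∑ k ∈ Finset.range K, f ^ k • x (n + k)
    have hs : ∀ (n : ℕ) {a b : ℕ}, a ≤ b → s n a ≡ s n b [SMOD I ^ a • (⊤ : Submodule A M)] := by
      intro n a b hab
      rw [SModEq.sub_mem]
      obtain ⟨c, rfl⟩ := Nat.exists_eq_add_of_le hab
      have : s n a - s n (a + c) = - ∑ k ∈ Finset.range c, f ^ (a + k) • x (n + (a + k)) := by
        simp only [s]
        rw [Finset.sum_range_add]
        abel
      rw [this]
      apply Submodule.neg_mem
      apply Submodule.sum_mem
      intro k _
      exact hmono (Nat.le_add_right a k) (hpow _ _)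
    choose h hh using fun n => IsPrecomplete.prec (I := I) (M := M) inferInstance (hs n)
    refine ⟨h, ?_⟩
    funext n
    rw [Groth.Agent.Lib.helper2.DCompl.Dseq_apply]
    rw [← sub_eq_zero]
    apply hsep
    intro K
    have e1 : s n (K + 1) = x n + f • s (n + 1) K := by
      simp only [s]
      rw [Finset.sum_range_succ', Finset.smul_sum]
      simp only [pow_zero, one_smul, add_zero]
      rw [add_comm]
      congr 1
      apply Finset.sum_congr rfl
      intro k _
      rw [pow_succ', mul_smul, add_assoc, add_comm 1 k]
    have a1 : s n (K + 1) - h n ∈ I ^ K • (⊤ : Submodule A M) :=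
      hmono (Nat.le_succ K) ((SModEq.sub_mem).1 (hh n (K + 1)))
    have a2 : f • (s (n + 1) K - h (n + 1)) ∈ I ^ K • (⊤ : Submodule A M) :=
      Submodule.smul_mem _ _ ((SModEq.sub_mem).1 (hh (n + 1) K))
    have : h n - f • h (n + 1) - x n =
        - (s n (K + 1) - h n) + f • (s (n + 1) K - h (n + 1)) := by
      rw [e1, smul_sub]
      abel
    rw [this]
    exact Submodule.add_mem _ (Submodule.neg_mem _ a1) a2

end Groth.Agent.S7048
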