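import Groth.Statements.S7049
import Mathlib
import Groth.Agent.Lib.helper2.DComplMod
import Groth.Agent.S7048
-- import your own Groth.Agent.* helpers here

set_option autoImplicit false
universe u
attribute [local instance] HasDerivedCategory.standard
open DRing

namespace Groth.Agent.S7049

/-- For a commutative ring A, a finitely generated ideal I and an A-module M such that M[0] is derived
complete with respect to I, the canonical map from M to its I-adic completion lim M/I^n M is
surjective. -/
theorem result {A : Type u} [CommRing A] (I : Ideal A) (hI : I.FG)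
    (M : Type u) [AddCommGroup M] [Module A M] (hc : DRing.IsDerivedComplete I (Dual.inD A M)) :
    Function.Surjective (AdicCompletion.of I M) := by
  have hcomp : IsAdicComplete I (AdicCompletion I M) := AdicCompletion.isAdicComplete hI
  have hN : DRing.IsDerivedComplete I (Dual.inD A (AdicCompletion I M)) :=
    Groth.Agent.S7048.result I (AdicCompletion I M)
  have hC := (Groth.Agent.S7051.result I M (AdicCompletion I M) (AdicCompletion.of I M) hc hN).2
  have hC2 : I • (⊤ : Submodule A (AdicCompletion I M ⧸ LinearMap.range (AdicCompletion.of I M)))
      = ⊤ := by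
    rw [eq_top_iff]
    rintro c -
    obtain ⟨y, rfl⟩ := (LinearMap.range (AdicCompletion.of I M)).mkQ_surjective c
    obtain ⟨m, hm⟩ := (I ^ 1 • (⊤ : Submodule A M)).mkQ_surjective (AdicCompletion.eval I M 1 y)
    have h1 : y - AdicCompletion.of I M m ∈ I ^ 1 • (⊤ : Submodule A (AdicCompletion I M)) := by
      rw [AdicCompletion.pow_smul_top_eq_ker_eval hI, LinearMap.mem_ker, map_sub, ← hm]
      simp
    rw [pow_one] at h1
    have h2 : (LinearMap.range (AdicCompletion.of I M)).mkQ y =
        (LinearMap.range (AdicCompletion.of I M)).mkQ (y - AdicCompletion.of I M m) := by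
      rw [map_sub, sub_eq_self.2]
      rw [Submodule.mkQ_apply, Submodule.Quotient.mk_eq_zero]
      exact ⟨m, rfl⟩
    rw [h2]
    have : (LinearMap.range (AdicCompletion.of I M)).mkQ (y - AdicCompletion.of I M m) ∈
        (I • (⊤ : Submodule A (AdicCompletion I M))).map
          (LinearMap.range (AdicCompletion.of I M)).mkQ :=
      Submodule.mem_map_of_mem h1
    rw [Submodule.map_smul''] at this
    exact Submodule.smul_mono le_rfl le_top this
  have hsub := Groth.Agent.Lib.helper2.DCompl.subsingleton_of_smul_top_eq_top I hI _ hC hC2
  intro y
  have : (LinearMap.range (AdicCompletion.of I M)).mkQ y = 0 := Subsingleton.elim _ _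
  rw [Submodule.mkQ_apply, Submodule.Quotient.mk_eq_zero] at this
  exact this

end Groth.Agent.S7049
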