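import Groth.Statements.S6939
import Mathlib
import Groth.Agent.Lib.helper17.DRingPC
-- import your own Groth.Agent.* helpers here

set_option autoImplicit false
universe u
open CategoryTheory CategoryTheory.Limits
attribute [local instance] HasDerivedCategory.standard
open DRing

open Groth.Agent.Lib.helper17

namespace Groth.Agent.S6939

/-- Let R be a commutative ring, m an integer and K an object of D(R) whose cohomology vanishes in large
degrees. If the module H^i(K) is (m - i)-pseudo-coherent for every i, then K is m-pseudo-coherent;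
if every H^i(K) is a pseudo-coherent module, then K is pseudo-coherent. -/
theorem result (R : Type u) [CommRing R] (m : ℤ)
    (K : Dual.D R) (hb : ∃ b : ℤ, ∀ i : ℤ, b < i → Subsingleton (Dual.HD R K i)) :
    ((∀ i : ℤ, DRing.IsPseudoCoherentModule R (m - i) (Dual.HD R K i)) → DRing.IsPseudoCoherent R m K) ∧
      ((∀ i : ℤ, DRing.IsPseudoCoherentModule' R (Dual.HD R K i)) → DRing.IsPseudoCoherent' R K) := by
  obtain ⟨b, hb⟩ := hb
  have key : ∀ m : ℤ, (∀ i : ℤ, DRing.IsPseudoCoherentModule R (m - i) (Dual.HD R K i)) →
      DRing.IsPseudoCoherent R m K := by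
    intro m h
    rw [DRingPC.isPseudoCoherent_iff_NPC]
    exact PCohTrunc.NPC_of_homology (DRingPC.FF R) (DRingPC.FF_prod R) (DRingPC.FF_hqs R)
      (DRingPC.FF_hql R) m (b - m + 1).toNat K b
      (by have := Int.self_le_toNat (b - m + 1); lia)
      (fun i hi => by
        have := hb i hi
        exact ModuleCat.isZero_of_subsingleton _)
      (fun i _ => (DRingPC.isPseudoCoherent_iff_NPC R (m - i) _).1 (h i))
  refine ⟨key m, fun h => ?_⟩
  rw [DRingPC.isPseudoCoherent'_iff_forall]
  intro m
  exact key m (fun i => (DRingPC.isPseudoCoherent'_iff_forall R _).1 (h i) _)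

end Groth.Agent.S6939
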