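import Groth.Statements.S6942
import Mathlib
import Groth.Agent.Lib.helper17.DRingPC
-- import your own Groth.Agent.* helpers here

set_option autoImplicit false
universe u
open CategoryTheory CategoryTheory.Limits
attribute [local instance] HasDerivedCategory.standard
open DRing

open Groth.Agent.Lib.helper17

namespace Groth.Agent.S6942

/-- Let R be a Noetherian commutative ring and m an integer. An object K of D(R) is m-pseudo-coherent
exactly when H^i(K) = 0 for all large i and H^i(K) is a finitely generated R-module for each i ≥ m.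
Every finitely generated R-module M is pseudo-coherent, and conversely. -/
theorem result (R : Type u) [CommRing R]
    [IsNoetherianRing R] (m : ℤ) (K : Dual.D R) (M : Type u) [AddCommGroup M] [Module R M] :
    (DRing.IsPseudoCoherent R m K ↔
      (∃ b : ℤ, ∀ i : ℤ, b < i → Subsingleton (Dual.HD R K i)) ∧ ∀ i : ℤ, m ≤ i → Module.Finite R (Dual.HD R K i)) ∧
      (DRing.IsPseudoCoherentModule' R M ↔ Module.Finite R M) := by
  constructor
  · rw [DRingPC.isPseudoCoherent_iff_NPC]
    constructor
    · intro h
      obtain ⟨E, ⟨⟨b, hb⟩, hP⟩, ⟨e⟩⟩ := h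
      have hz := PCohD.isZero_homology_of_NPC_bound e b hb
      refine ⟨⟨b, fun i hi => ModuleCat.subsingleton_of_isZero (hz i hi)⟩, ?_⟩
      exact (DRingPC.NPC_iff_finite_of_noetherian R m K b hz).1 ⟨E, ⟨⟨b, hb⟩, hP⟩, ⟨e⟩⟩
    · rintro ⟨⟨b, hb⟩, h⟩
      exact (DRingPC.NPC_iff_finite_of_noetherian R m K b (fun i hi => by
        have := hb i hi
        exact ModuleCat.isZero_of_subsingleton _)).2 h
  · unfold DRing.IsPseudoCoherentModule'
    rw [DRingPC.isPseudoCoherent'_iff_isPC]
    constructor
    · intro h
      exact (DRingPC.NPC_single_zero_iff_finite R (ModuleCat.of R M)).1 (h 0)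
    · intro h n
      exact DRingPC.NPC_single_of_finite_noetherian R (ModuleCat.of R M) n

end Groth.Agent.S6942
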