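import Groth.Statements.S0985
import Mathlib
import Groth.Agent.Lib.helper2.SeqColim
-- import your own Groth.Agent.* helpers here

set_option autoImplicit false
universe w v u
open CategoryTheory CategoryTheory.Limits
open DerLim

namespace Groth.Agent.S0985


section helpers
open Groth.Agent.Lib.helper2.SeqColim

variable {A : Type u} [Category.{v} A] [Abelian A] [HasColimitsOfShape ℕ A]
  [HasExactColimitsOfShape ℕ A]

lemma hasExactColimitsOfShape_complex :
    HasExactColimitsOfShape ℕ (CochainComplex A ℤ) := by
  have hA : PreservesFiniteLimits (colim (J := ℕ) (C := A)) :=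
    HasExactColimitsOfShape.preservesFiniteLimits
  refine ⟨⟨fun J _ _ => ?_⟩⟩
  apply HomologicalComplex.preservesLimitsOfShape_of_eval
  intro i
  exact preservesLimitsOfShape_of_natIso
    (preservesColimitNatIso (J := ℕ) (HomologicalComplex.eval A (ComplexShape.up ℤ) i)).symm

end helpers

/-- Let A be an abelian category in which colimits of sequences ℕ ⥤ A exist and are exact, and let L : ℕ
⥤ CochainComplex A ℤ be a sequence of complexes. Then the image in the derived category of the
termwise colimit of L, with the canonical maps from the Lₙ, is a homotopy colimit of the images of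
the Lₙ — assuming the termwise direct sum of the Lₙ exists and is preserved by the localization
functor to D(A) (a known result, carried here as a hypothesis rather than proved), and that the
direct sum of the images exists in D(A). -/
theorem result {A : Type u} [Category.{v} A] [Abelian A] [HasDerivedCategory.{w} A]
    [HasColimitsOfShape ℕ A] [HasExactColimitsOfShape ℕ A]
    (L : ℕ ⥤ CochainComplex A ℤ) [HasCoproduct L.obj] [PreservesColimit (Discrete.functor L.obj) (DerivedCategory.Q (C := A))]
    [HasCoproduct (fun n => DerivedCategory.Q.obj (L.obj n))] :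
    DerLim.IsHocolim (fun n => DerivedCategory.Q.obj (L.obj n)) (fun n => DerivedCategory.Q.map (L.map (homOfLE (Nat.le_succ n))))
      (DerivedCategory.Q.obj (colimit L)) (fun n => DerivedCategory.Q.map (colimit.ι L n)) := by
  have hiso : IsIso (sigmaComparison DerivedCategory.Q L.obj) := inferInstance
  let e : (∐ fun n => DerivedCategory.Q.obj (L.obj n)) ≅ DerivedCategory.Q.obj (∐ L.obj) :=
    asIso (sigmaComparison DerivedCategory.Q L.obj)
  have hex := hasExactColimitsOfShape_complex (A := A)
  have hmono : Mono (𝟙 (∐ L.obj) - shiftMap L.obj (fun n => L.map (homOfLE (Nat.le_succ n)))) :=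
    Groth.Agent.Lib.helper2.SeqColim.mono_one_sub_shiftMap L.obj _
  have hS : (ShortComplex.mk _ _
      (Groth.Agent.Lib.helper2.SeqColim.one_sub_shiftMap_desc L)).ShortExact :=
    { exact := ShortComplex.exact_of_g_is_cokernel _
        (Groth.Agent.Lib.helper2.SeqColim.isColimitCokernelCoforkFunctor L) }
  have hT := DerivedCategory.triangleOfSES_distinguished hS
  refine ⟨DerivedCategory.triangleOfSESδ hS ≫
    (shiftFunctor (DerivedCategory A) (1 : ℤ)).map (inv (sigmaComparison DerivedCategory.Q L.obj)), ?_⟩
  refine Pretriangulated.isomorphic_distinguished _ hT _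
    (Pretriangulated.Triangle.isoMk _ _ e e (Iso.refl _) ?_ ?_ ?_)
  · exact (Groth.Agent.Lib.helper2.SeqColim.comparison_comm' DerivedCategory.Q L.obj
      (fun n => L.map (homOfLE (Nat.le_succ n)))).symm
  · show Sigma.desc (fun n => DerivedCategory.Q.map (colimit.ι L n)) ≫ 𝟙 _ =
      sigmaComparison DerivedCategory.Q L.obj ≫
        DerivedCategory.Q.map (Sigma.desc fun n => colimit.ι L n)
    rw [Category.comp_id]
    apply Sigma.hom_ext
    intro n
    rw [Sigma.ι_desc, ι_comp_sigmaComparison_assoc, ← Functor.map_comp, Sigma.ι_desc]
  · show (DerivedCategory.triangleOfSESδ hS ≫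
      (shiftFunctor (DerivedCategory A) (1 : ℤ)).map (inv (sigmaComparison DerivedCategory.Q L.obj))) ≫
      (shiftFunctor (DerivedCategory A) (1 : ℤ)).map (sigmaComparison DerivedCategory.Q L.obj) =
      𝟙 _ ≫ DerivedCategory.triangleOfSESδ hS
    rw [Category.id_comp, Category.assoc, ← Functor.map_comp, IsIso.inv_hom_id, CategoryTheory.Functor.map_id,
      Category.comp_id]

end Groth.Agent.S0985
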