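import Groth.Statements.S6965
import Mathlib
import Groth.Agent.Lib.helper2.InjAmpMod
-- import your own Groth.Agent.* helpers here

set_option autoImplicit false
universe u
open CategoryTheory CategoryTheory.Limits
attribute [local instance] HasDerivedCategory.standard
open DRing

namespace Groth.Agent.S6965

/-- Let R be a commutative ring, K an object of D(R) and a, b integers. These three conditions are
equivalent: (1) the injective amplitude of K lies in [a, b], meaning K is isomorphic in D(R) to a
complex of injective R-modules vanishing outside [a, b]; (2) Hom(N[0], K[i]) = 0 in D(R) for every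
R-module N and every integer i outside [a, b]; (3) Hom((R/I)[0], K[i]) = 0 in D(R) for every ideal I
of R and every integer i outside [a, b]. -/
theorem result (R : Type u) [CommRing R] (K : Dual.D R) (a b : ℤ) :
    [DRing.HasInjAmplitudeIn R a b K,
      ∀ (N : Type u) [AddCommGroup N] [Module R N] (i : ℤ), (i < a ∨ b < i) →
        Subsingleton (DRing.ExtD R (Dual.inD R N) K i),
      ∀ (I : Ideal R) (i : ℤ), (i < a ∨ b < i) → Subsingleton (DRing.ExtD R (Dual.inD R (R ⧸ I)) K i)].TFAE := by
  open Groth.Agent.Lib.helper2.InjAmp in
  tfae_have 1 → 2 := by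
    rintro ⟨E, hv, hinj, ⟨e⟩⟩ N _ _ i hi
    have := (hom_single_shift_iff K i (ModuleCat.of R N)).2 (fun ψ =>
      backward K a b E (fun j => by
        have := hinj j
        exact Module.injective_object_of_injective_module R (E.X j)) hv e _ i hi ψ)
    exact ⟨fun φ φ' => by rw [this φ, this φ']⟩
  tfae_have 2 → 3 := fun h I i hi => h (R ⧸ I) i hi
  tfae_have 3 → 1 := by
    intro h
    obtain ⟨I, hI, h1, h2, ⟨e⟩⟩ := forward_cyclic K a b (fun J i hi =>
      (hom_single_shift_iff K i _).1 (fun φ => (h J i hi).elim _ _))
    refine ⟨I, fun i hi => ?_, fun i => Module.injective_module_of_injective_object R (I.X i), ⟨e⟩⟩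
    obtain hi | hi := hi
    · exact CochainComplex.isZero_of_isStrictlyGE I a i hi
    · exact CochainComplex.isZero_of_isStrictlyLE I b i hi
  tfae_finish

end Groth.Agent.S6965
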