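import Groth.Statements.S14501
import Mathlib
import Groth.Agent.Lib.helper20.OneDim7

set_option autoImplicit false
universe u
open IntTh

namespace Groth.Agent.S14501

/-- Take a one-dimensional Noetherian local domain A with fraction field K, V a finite-dimensional
K-vector space and M₁, M₂, M₃ lattices in V (finitely generated A-submodules spanning V over K).
Define the distance d(M, M') as length_A(M/(M ∩ M')) − length_A(M'/(M ∩ M')), with the (finite)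
lengths read as natural numbers. Then d(M₁, M₃) = d(M₁, M₂) + d(M₂, M₃). -/
theorem result (A : Type u) [CommRing A] [IsDomain A] [IsNoetherianRing A]
    [IsLocalRing A] (hA : ringKrullDim A = 1) (K : Type u) [Field K] [Algebra A K]
    [IsFractionRing A K] (V : Type u) [AddCommGroup V] [Module K V] [Module A V]
    [IsScalarTower A K V] [FiniteDimensional K V]
    (M₁ M₂ M₃ : Submodule A V) [Submodule.IsLattice K M₁] [Submodule.IsLattice K M₂]
    [Submodule.IsLattice K M₃] :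
    ((Module.length A (↥M₁ ⧸ (M₁ ⊓ M₃).submoduleOf M₁)).toNat : ℤ) -
        ((Module.length A (↥M₃ ⧸ (M₁ ⊓ M₃).submoduleOf M₃)).toNat : ℤ) =
      (((Module.length A (↥M₁ ⧸ (M₁ ⊓ M₂).submoduleOf M₁)).toNat : ℤ) -
        ((Module.length A (↥M₂ ⧸ (M₁ ⊓ M₂).submoduleOf M₂)).toNat : ℤ)) +
      (((Module.length A (↥M₂ ⧸ (M₂ ⊓ M₃).submoduleOf M₂)).toNat : ℤ) -
        ((Module.length A (↥M₃ ⧸ (M₂ ⊓ M₃).submoduleOf M₃)).toNat : ℤ)) := by
  haveI : Ring.KrullDimLE 1 A := Ring.krullDimLE_iff.mpr hA.le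
  have fg1 : M₁.FG := Submodule.IsLattice.fg
  have fg2 : M₂.FG := Submodule.IsLattice.fg
  have fg3 : M₃.FG := Submodule.IsLattice.fg
  have sp1 : Submodule.span K (M₁ : Set V) = ⊤ := Submodule.IsLattice.span_eq_top
  have sp2 : Submodule.span K (M₂ : Set V) = ⊤ := Submodule.IsLattice.span_eq_top
  have sp3 : Submodule.span K (M₃ : Set V) = ⊤ := Submodule.IsLattice.span_eq_top
  obtain ⟨a12, h12, H12⟩ := Groth.Agent.Lib.helper20.OneDim.exists_smul_le (K := K) M₁ M₂ fg1 sp2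
  obtain ⟨a13, h13, H13⟩ := Groth.Agent.Lib.helper20.OneDim.exists_smul_le (K := K) M₁ M₃ fg1 sp3
  obtain ⟨a21, h21, H21⟩ := Groth.Agent.Lib.helper20.OneDim.exists_smul_le (K := K) M₂ M₁ fg2 sp1
  obtain ⟨a23, h23, H23⟩ := Groth.Agent.Lib.helper20.OneDim.exists_smul_le (K := K) M₂ M₃ fg2 sp3
  obtain ⟨a31, h31, H31⟩ := Groth.Agent.Lib.helper20.OneDim.exists_smul_le (K := K) M₃ M₁ fg3 sp1
  obtain ⟨a32, h32, H32⟩ := Groth.Agent.Lib.helper20.OneDim.exists_smul_le (K := K) M₃ M₂ fg3 sp2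
  obtain ⟨a, ha, HA1, HA2, HA3⟩ : ∃ a : A, a ≠ 0 ∧ (∀ m ∈ M₁, a • m ∈ M₁ ⊓ M₂ ⊓ M₃) ∧
      (∀ m ∈ M₂, a • m ∈ M₁ ⊓ M₂ ⊓ M₃) ∧ (∀ m ∈ M₃, a • m ∈ M₁ ⊓ M₂ ⊓ M₃) := by
    refine ⟨a12 * a13 * a21 * a23 * a31 * a32, by simp [h12, h13, h21, h23, h31, h32], ?_, ?_, ?_⟩
    · intro m hm
      refine ⟨⟨M₁.smul_mem _ hm, ?_⟩, ?_⟩
      · have e : a12 * a13 * a21 * a23 * a31 * a32 = (a13 * a21 * a23 * a31 * a32) * a12 := by ring
        rw [e, mul_smul]; exact M₂.smul_mem _ (H12 m hm)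
      · have e : a12 * a13 * a21 * a23 * a31 * a32 = (a12 * a21 * a23 * a31 * a32) * a13 := by ring
        rw [e, mul_smul]; exact M₃.smul_mem _ (H13 m hm)
    · intro m hm
      refine ⟨⟨?_, M₂.smul_mem _ hm⟩, ?_⟩
      · have e : a12 * a13 * a21 * a23 * a31 * a32 = (a12 * a13 * a23 * a31 * a32) * a21 := by ring
        rw [e, mul_smul]; exact M₁.smul_mem _ (H21 m hm)
      · have e : a12 * a13 * a21 * a23 * a31 * a32 = (a12 * a13 * a21 * a31 * a32) * a23 := by ring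
        rw [e, mul_smul]; exact M₃.smul_mem _ (H23 m hm)
    · intro m hm
      refine ⟨⟨?_, ?_⟩, M₃.smul_mem _ hm⟩
      · have e : a12 * a13 * a21 * a23 * a31 * a32 = (a12 * a13 * a21 * a23 * a32) * a31 := by ring
        rw [e, mul_smul]; exact M₁.smul_mem _ (H31 m hm)
      · have e : a12 * a13 * a21 * a23 * a31 * a32 = (a12 * a13 * a21 * a23 * a31) * a32 := by ring
        rw [e, mul_smul]; exact M₂.smul_mem _ (H32 m hm)
  have d13 := Groth.Agent.Lib.helper20.OneDim.dist_eq M₁ M₃ (M₁ ⊓ M₂ ⊓ M₃)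
    (le_inf (inf_le_left.trans inf_le_left) inf_le_right)
    (Groth.Agent.Lib.helper20.OneDim.rl_ne_top fg1 ha
      (fun m hm => ⟨M₁.smul_mem a hm, (HA1 m hm).2⟩))
    (Groth.Agent.Lib.helper20.OneDim.rl_ne_top fg3 ha
      (fun m hm => ⟨(HA3 m hm).1.1, M₃.smul_mem a hm⟩))
    (Groth.Agent.Lib.helper20.OneDim.rl_ne_top
      (Groth.Agent.Lib.helper20.OneDim.fg_of_le fg1 inf_le_left) ha (fun m hm => HA1 m hm.1))
  have d12 := Groth.Agent.Lib.helper20.OneDim.dist_eq M₁ M₂ (M₁ ⊓ M₂ ⊓ M₃)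
    inf_le_left
    (Groth.Agent.Lib.helper20.OneDim.rl_ne_top fg1 ha
      (fun m hm => ⟨M₁.smul_mem a hm, (HA1 m hm).1.2⟩))
    (Groth.Agent.Lib.helper20.OneDim.rl_ne_top fg2 ha
      (fun m hm => ⟨(HA2 m hm).1.1, M₂.smul_mem a hm⟩))
    (Groth.Agent.Lib.helper20.OneDim.rl_ne_top
      (Groth.Agent.Lib.helper20.OneDim.fg_of_le fg1 inf_le_left) ha (fun m hm => HA1 m hm.1))
  have d23 := Groth.Agent.Lib.helper20.OneDim.dist_eq M₂ M₃ (M₁ ⊓ M₂ ⊓ M₃)
    (le_inf (inf_le_left.trans inf_le_right) inf_le_right)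
    (Groth.Agent.Lib.helper20.OneDim.rl_ne_top fg2 ha
      (fun m hm => ⟨M₂.smul_mem a hm, (HA2 m hm).2⟩))
    (Groth.Agent.Lib.helper20.OneDim.rl_ne_top fg3 ha
      (fun m hm => ⟨(HA3 m hm).1.2, M₃.smul_mem a hm⟩))
    (Groth.Agent.Lib.helper20.OneDim.rl_ne_top
      (Groth.Agent.Lib.helper20.OneDim.fg_of_le fg2 inf_le_left) ha (fun m hm => HA2 m hm.1))
  rw [d13, d12, d23]
  ring

end Groth.Agent.S14501
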