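import Groth.Statements.S13802
import Mathlib
import Groth.Agent.Lib.helper20.EtaPt2

set_option autoImplicit false
universe u
open EtaPt Groth.Agent.Lib.helper20.EtaPt

namespace Groth.Agent.S13802

/-- For a commutative ring A with finitely many minimal prime ideals, the canonical map q_A from A to
the pointwise ring M_η(A) is integral. Here η is a natural transformation from the identity of the
category of fields to an endofunctor F with F(η_K) bijective and η_K purely inseparable for every
field K, N_η(A) is the product of the F(k(p)) over the primes p of A with diagonal map t_A, and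
M_η(A) ⊆ N_η(A) is the subring of elements sent into the range of t_R by every ring map from A to a
valuation ring R at whose fraction field η is bijective; q_A : A → M_η(A) is the corestriction of
t_A. -/
theorem result (η : EtaPt.FieldEndo.{u}) (A : Type u) [CommRing A]
    (hA : (minimalPrimes A).Finite) : (η.q A).IsIntegral := by
  classical
  rintro ⟨x, hx⟩
  have key : ∀ 𝔭 : minimalPrimes A, ∃ Q : Polynomial A, Q.Monic ∧
      ∀ P : PrimeSpectrum A, (𝔭 : Ideal A) ≤ P.asIdeal → (Q.eval₂ (η.t A) x) P = 0 := by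
    rintro ⟨𝔭, h𝔭⟩
    haveI : 𝔭.IsPrime := h𝔭.1.1
    exact exists_monic_eval_zero η ⟨𝔭, h𝔭.1.1⟩ hx
  choose Q hQm hQ0 using key
  letI : Fintype (minimalPrimes A) := hA.fintype
  refine ⟨∏ i, Q i, Polynomial.monic_prod_of_monic _ _ (fun i _ => hQm i), ?_⟩
  apply Subtype.ext
  have h2 := Polynomial.hom_eval₂ (∏ i, Q i) (η.q A) (η.M A).subtype ⟨x, hx⟩
  rw [subtype_comp_q] at h2
  change (η.M A).subtype _ = 0
  rw [h2]
  change Polynomial.eval₂ (η.t A) x (∏ i, Q i) = 0
  rw [Polynomial.eval₂_finsetProd]
  funext P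
  rw [Finset.prod_apply]
  obtain ⟨𝔭, h𝔭min, h𝔭le⟩ := Ideal.exists_minimalPrimes_le (bot_le : (⊥ : Ideal A) ≤ P.asIdeal)
  exact Finset.prod_eq_zero (Finset.mem_univ (⟨𝔭, h𝔭min⟩ : minimalPrimes A)) (hQ0 ⟨𝔭, h𝔭min⟩ P h𝔭le)

end Groth.Agent.S13802
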