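import Groth.Statements.S6464
import Mathlib

set_option autoImplicit false
set_option linter.style.haveILetI false
universe u v
open CycAlg

namespace Groth.Agent.S6464

section aux
universe u' v'
variable {R : Type u'} [CommRing R] {M N : Type v'} [AddCommGroup M] [Module R M] [AddCommGroup N]
  [Module R N]

lemma len_ker_add_range (φ : M →ₗ[R] N) :
    Module.length R M = Module.length R (LinearMap.ker φ) + Module.length R (LinearMap.range φ) := by
  refine Module.length_eq_add_of_exact (LinearMap.ker φ).subtype φ.rangeRestrict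
    (Submodule.subtype_injective _) φ.surjective_rangeRestrict ?_
  rw [LinearMap.exact_iff, Submodule.range_subtype, LinearMap.ker_rangeRestrict]

lemma len_perH (φ : M →ₗ[R] N) (ψ : N →ₗ[R] M) (h : φ ∘ₗ ψ = 0) :
    Module.length R (LinearMap.ker φ) =
      Module.length R (LinearMap.range ψ) + Module.length R (CycAlg.perH φ ψ) := by
  have hle : LinearMap.range ψ ≤ LinearMap.ker φ := by
    rintro _ ⟨y, rfl⟩
    exact LinearMap.congr_fun h y
  refine Module.length_eq_add_of_exact (Submodule.inclusion hle)
    ((LinearMap.range ψ).submoduleOf (LinearMap.ker φ)).mkQ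
    (Submodule.inclusion_injective hle) (Submodule.mkQ_surjective _) ?_
  rw [LinearMap.exact_iff, Submodule.ker_mkQ, Submodule.range_inclusion]
  rfl

end aux


/-- Let (M, N, φ, ψ) be a 2-periodic complex over a ring R with M and N of finite length. Then its
cohomology modules have finite length and e_R(M, N, φ, ψ) = length_R(M) − length_R(N). (The case M =
N, where the conclusion reads e_R(M, φ, ψ) = 0, is the special case and is not restated.) -/
theorem result {R : Type u} [CommRing R] {M N : Type v} [AddCommGroup M] [Module R M] [AddCommGroup N] [Module R N] (φ : M →ₗ[R] N) (ψ : N →ₗ[R] M) (h : CycAlg.IsPeriodic φ ψ) (hM : Module.length R M < ⊤) (hN : Module.length R N < ⊤) : CycAlg.FinCoh R φ ψ ∧ CycAlg.herbrand R φ ψ = ((Module.length R M).toNat : ℤ) - ((Module.length R N).toNat : ℤ) := by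
  obtain ⟨h1, h2⟩ := h
  have eM := len_ker_add_range φ
  have eN := len_ker_add_range ψ
  have e0 := len_perH φ ψ h1
  have e1 := len_perH ψ φ h2
  -- finiteness
  have fa : Module.length R (LinearMap.ker φ) < ⊤ :=
    lt_of_le_of_lt (by rw [eM]; exact le_self_add) hM
  have fb : Module.length R (LinearMap.range φ) < ⊤ :=
    lt_of_le_of_lt (by rw [eM]; exact le_add_self) hM
  have fc : Module.length R (LinearMap.ker ψ) < ⊤ :=
    lt_of_le_of_lt (by rw [eN]; exact le_self_add) hN
  have fd : Module.length R (LinearMap.range ψ) < ⊤ :=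
    lt_of_le_of_lt (by rw [eN]; exact le_add_self) hN
  have f0 : Module.length R (CycAlg.perH φ ψ) < ⊤ :=
    lt_of_le_of_lt (by rw [e0]; exact le_add_self) fa
  have f1 : Module.length R (CycAlg.perH ψ φ) < ⊤ :=
    lt_of_le_of_lt (by rw [e1]; exact le_add_self) fc
  refine ⟨⟨f0, f1⟩, ?_⟩
  unfold CycAlg.herbrand
  have tM := congrArg ENat.toNat eM
  have tN := congrArg ENat.toNat eN
  have t0 := congrArg ENat.toNat e0
  have t1 := congrArg ENat.toNat e1
  rw [ENat.toNat_add fa.ne fb.ne] at tM
  rw [ENat.toNat_add fc.ne fd.ne] at tN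
  rw [ENat.toNat_add fd.ne f0.ne] at t0
  rw [ENat.toNat_add fb.ne f1.ne] at t1
  omega

end Groth.Agent.S6464
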