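import Groth.Statements.S5059
import Mathlib
import Groth.Agent.Lib.helper20.LocCritReg

set_option autoImplicit false
universe u
open CInt

namespace Groth.Agent.S5059

open RingTheory.Sequence TensorProduct Groth.Agent.Lib.helper20.LocCritReg

theorem wr_tensor {R : Type u} [CommRing R] (G : Type u) [AddCommGroup G] [Module R G]
    [Module.Flat R G] :
    ∀ (xs : List R) (M : Type u) [AddCommGroup M] [Module R M],
      IsWeaklyRegular M xs → IsWeaklyRegular (M ⊗[R] G) xs := by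
  intro xs
  induction xs with
  | nil => intro M _ _ _; exact IsWeaklyRegular.nil R _
  | cons x xs ih =>
    intro M _ _ h
    rw [isWeaklyRegular_cons_iff] at h ⊢
    refine ⟨IsSMulRegular.rTensor G h.1, ?_⟩
    have := ih (QuotSMulTop x M) h.2
    exact ((QuotSMulTop.quotSMulTopTensorEquivQuotSMulTop x G M).isWeaklyRegular_congr xs).mp this

theorem wr_flat {A : Type u} [CommRing A] (J : Ideal A) (G : Type u) [AddCommGroup G] [Module A G]
    [Module (A ⧸ J) G] [IsScalarTower A (A ⧸ J) G] [Module.Flat (A ⧸ J) G]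
    (fs : List A) (hreg : IsWeaklyRegular (A ⧸ J) fs) : IsWeaklyRegular G fs := by
  have h1 : IsWeaklyRegular (A ⧸ J) (fs.map (algebraMap A (A ⧸ J))) :=
    (isWeaklyRegular_map_algebraMap_iff (A ⧸ J) (A ⧸ J) fs).mpr hreg
  have h2 := wr_tensor (R := A ⧸ J) G _ (A ⧸ J) h1
  have h3 := ((TensorProduct.lid (A ⧸ J) G).isWeaklyRegular_congr _).mp h2
  exact (isWeaklyRegular_map_algebraMap_iff (A ⧸ J) G fs).mp h3

/-- for a module over the quotient, `(A/R) ⊗[A] G ≃ G`. -/
noncomputable def tensorQuotEquiv {A : Type u} [CommRing A] (R : Ideal A) (G : Type u)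
    [AddCommGroup G] [Module A G] [Module (A ⧸ R) G] [IsScalarTower A (A ⧸ R) G] :
    (A ⧸ R) ⊗[A] G ≃ₗ[A ⧸ R] G :=
  have hRG : (R • ⊤ : Submodule A G) = ⊥ := by
    rw [eq_bot_iff, Submodule.smul_le]
    intro r hr g _
    rw [Submodule.mem_bot, ← algebraMap_smul (A ⧸ R) r g, Ideal.Quotient.algebraMap_eq,
      Ideal.Quotient.eq_zero_iff_mem.mpr hr, zero_smul]
  LinearEquiv.extendScalarsOfSurjective Ideal.Quotient.mk_surjective
    ((quotTensorEquivQuotSMul G R).trans (Submodule.quotEquivOfEqBot _ hRG))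

theorem main {A : Type u} [CommRing A] [IsNoetherianRing A] (R : Ideal A) (fs : List A)
    (hrad : ∀ x ∈ fs, x ∈ (⊥ : Ideal A).jacobson) (hreg : IsWeaklyRegular (A ⧸ R) fs)
    (N : Type u) [AddCommGroup N] [Module A N] [Module.Finite A N] :
    Module.Flat (A ⧸ R) (N ⧸ (R • ⊤ : Submodule A N)) ↔
      Module.Flat (A ⧸ (R ⊔ Ideal.ofList fs)) ((N ⧸ (R • ⊤ : Submodule A N)) ⧸
        ((R ⊔ Ideal.ofList fs) • (⊤ : Submodule A (N ⧸ (R • ⊤ : Submodule A N))))) ∧
      IsWeaklyRegular (N ⧸ (R • ⊤ : Submodule A N)) fs := by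
  let e1 : (A ⧸ (R ⊔ Ideal.ofList fs)) ⊗[A] (N ⧸ (R • ⊤ : Submodule A N)) ≃ₗ[
      A ⧸ (R ⊔ Ideal.ofList fs)] ((N ⧸ (R • ⊤ : Submodule A N)) ⧸
        ((R ⊔ Ideal.ofList fs) • (⊤ : Submodule A (N ⧸ (R • ⊤ : Submodule A N))))) :=
    LinearEquiv.extendScalarsOfSurjective Ideal.Quotient.mk_surjective
      (quotTensorEquivQuotSMul (N ⧸ (R • ⊤ : Submodule A N)) (R ⊔ Ideal.ofList fs))
  let e2 := tensorQuotEquiv R (N ⧸ (R • ⊤ : Submodule A N))
  constructor
  · intro h
    haveI := h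
    refine ⟨?_, wr_flat R _ fs hreg⟩
    have h1 : Module.Flat (A ⧸ R) ((A ⧸ R) ⊗[A] (N ⧸ (R • ⊤ : Submodule A N))) :=
      Module.Flat.of_linearEquiv e2
    haveI := flat_quot_of_le (le_sup_left : R ≤ R ⊔ Ideal.ofList fs) _ h1
    exact Module.Flat.of_linearEquiv e1.symm
  · rintro ⟨h1, h2⟩
    haveI := h1
    have h3 : Module.Flat (A ⧸ (R ⊔ Ideal.ofList fs))
        ((A ⧸ (R ⊔ Ideal.ofList fs)) ⊗[A] (N ⧸ (R • ⊤ : Submodule A N))) :=
      Module.Flat.of_linearEquiv e1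
    have hG : ∀ r ∈ R, ∀ g : N ⧸ (R • ⊤ : Submodule A N), r • g = 0 := by
      intro r hr g
      obtain ⟨m, rfl⟩ := Submodule.Quotient.mk_surjective _ g
      rw [← Submodule.Quotient.mk_smul, Submodule.Quotient.mk_eq_zero]
      exact Submodule.smul_mem_smul hr Submodule.mem_top
    haveI := flat_of_regular_seq R (N ⧸ (R • ⊤ : Submodule A N)) hG fs hrad hreg h2 h3
    exact Module.Flat.of_linearEquiv e2.symm

/-- a) iff c) in the Noetherian case: let A be a Noetherian ring, R an ideal of A, f_1, …, f_n elements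
of the Jacobson radical of A whose images form a regular sequence on A/R, Q = R + (f_1, …, f_n), and
M a finitely generated A-module. Then every graded piece R^k M / R^(k+1) M is flat over A/R if and
only if, for every k, (R^k M / R^(k+1) M) ⊗ A/Q is flat over A/Q and f_1, …, f_n is a regular
sequence on R^k M / R^(k+1) M. -/
theorem result (A : Type u) [CommRing A] [IsNoetherianRing A]
    (R : Ideal A) {n : ℕ} (f : Fin n → A) (hrad : ∀ i, f i ∈ (⊥ : Ideal A).jacobson)
    (hreg : RingTheory.Sequence.IsWeaklyRegular (A ⧸ R) (List.ofFn f))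
    (M : Type u) [AddCommGroup M] [Module A M] [Module.Finite A M] :
    EGA4.IsNormallyFlat R M ↔
      ∀ k : ℕ, Module.Flat (A ⧸ (R ⊔ Ideal.span (Set.range f))) ((↥(R ^ k • (⊤ : Submodule A M)) ⧸ (R • (⊤ : Submodule A ↥(R ^ k • (⊤ : Submodule A M))))) ⧸ ((R ⊔ Ideal.span (Set.range f)) • (⊤ : Submodule A (↥(R ^ k • (⊤ : Submodule A M)) ⧸ (R • (⊤ : Submodule A ↥(R ^ k • (⊤ : Submodule A M)))))))) ∧
        RingTheory.Sequence.IsWeaklyRegular (↥(R ^ k • (⊤ : Submodule A M)) ⧸ (R • (⊤ : Submodule A ↥(R ^ k • (⊤ : Submodule A M))))) (List.ofFn f) := by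
  have hofl : Ideal.span (Set.range f) = Ideal.ofList (List.ofFn f) := by
    unfold Ideal.ofList
    congr 1
    ext x
    simp [List.mem_ofFn]
  have hrad' : ∀ x ∈ List.ofFn f, x ∈ (⊥ : Ideal A).jacobson := by
    intro x hx
    obtain ⟨i, rfl⟩ := (List.mem_ofFn).mp hx
    exact hrad i
  unfold EGA4.IsNormallyFlat
  rw [hofl]
  constructor
  · intro h k
    exact (main R _ hrad' hreg ↥(R ^ k • (⊤ : Submodule A M))).mp (h k)
  · intro h k
    exact (main R _ hrad' hreg ↥(R ^ k • (⊤ : Submodule A M))).mpr (h k)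

end Groth.Agent.S5059
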