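import Groth.Statements.S0378
import Groth.Agent.Lib.helper21.LC28
import Groth.Agent.S0326

set_option autoImplicit false
universe u v
open LocCoh

namespace Groth.Agent.S0378

/-- (1)⇔(2): local cohomology with support in I vanishes above degree d on every module as soon as it
does so on the ring itself. (Part (3) about the punctured spectrum is not stated.) -/
theorem result (R : Type u) [CommRing R] [IsNoetherianRing R] (I : Ideal R) (d : ℕ) : (∀ i : ℕ, d < i → Subsingleton (LocCoh.H I i R)) ↔ LocCoh.CdLE R I d := by
  classical
  constructor
  · intro hR
    -- the key step: lowering the bound by one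
    have step : ∀ e : ℕ, d ≤ e → LocCoh.CdLE R I (e + 1) → LocCoh.CdLE R I e := by
      intro e hde hcd M _ _ i hi
      by_cases hi' : e + 1 < i
      · exact hcd M i hi'
      · have hie : i = e + 1 := by omega
        subst hie
        let π : (DirectSum M fun _ => R) →ₗ[R] M :=
          DirectSum.toModule R M M (fun m => LinearMap.toSpanSingleton R M m)
        have hπ : Function.Surjective π := by
          intro m
          refine ⟨DirectSum.lof R M (fun _ => R) m 1, ?_⟩
          rw [DirectSum.toModule_lof, LinearMap.toSpanSingleton_apply, one_smul]
        have hT := LinearMap.shortExact_shortComplexKer hπ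
        have h2 : Subsingleton ((localCohomology I (e + 1)).obj π.shortComplexKer.X₂) :=
          Groth.Agent.H21.LC.subsingleton_directSum I e (fun _ : M => ModuleCat.of R R)
            (fun _ => hR (e + 1) (by omega))
        have h1 : Subsingleton ((localCohomology I (e + 1 + 1)).obj π.shortComplexKer.X₁) :=
          hcd (LinearMap.ker π) (e + 1 + 1) (by omega)
        exact Groth.Agent.H21.LC.subsingleton_X₃ I hT (e + 1) h2 h1
    have down : ∀ k : ℕ, LocCoh.CdLE R I (d + k) → LocCoh.CdLE R I d := by
      intro k
      induction k with
      | zero => intro h; exact h
      | succ k ih => intro h; exact ih (step (d + k) (by omega) h)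
    obtain ⟨s, hs⟩ := (IsNoetherian.noetherian I : I.FG)
    have h0 : LocCoh.CdLE R I s.card := hs ▸ Groth.Agent.S0326.result R s
    refine down s.card ?_
    intro M _ _ i hi
    exact h0 M i (by omega)
  · intro h i hi
    exact h R i hi

end Groth.Agent.S0378
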