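import Groth.Statements.S5150
import Mathlib

set_option autoImplicit false
universe u
open CategoryTheory

namespace Groth.Agent.S5150

open Abelian RingTheory.Sequence

variable {A : Type u} [CommRing A]

/-- composing with multiplication by an element of the annihilator of the source is zero -/
theorem comp_smul_eq_zero {N M : ModuleCat.{u} A} {r : A} (h : r ∈ Module.annihilator A N) {n : ℕ}
    (x : Ext N M n) : x.comp (Ext.mk₀ (r • 𝟙 M)) (add_zero n) = 0 := by
  have := Ext.postcomp_smul_id_eq_zero_of_mem_annihilator (M := M) h n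
  have h2 := congrArg (fun f => f.hom x) this
  simpa using h2

/-- if `x ∈ Ann N` is `M`-regular and `Ext^i(N, M/xM) = 0` then `Ext^{i+1}(N, M) = 0` -/
theorem subsingleton_ext_succ {N M : ModuleCat.{u} A} {x : A} (hx : IsSMulRegular M x)
    (hann : x ∈ Module.annihilator A N) (i : ℕ)
    (h : Subsingleton (Ext N (ModuleCat.of A (QuotSMulTop x M)) i)) :
    Subsingleton (Ext N M (i + 1)) := by
  refine ⟨fun a b => ?_⟩
  have key : ∀ a : Ext N M (i + 1), a = 0 := by
    intro a
    obtain ⟨x₃, hx₃⟩ := Ext.covariant_sequence_exact₁ N hx.smulShortComplex_shortExact a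
      (by rw [ModuleCat.smulShortComplex_f_eq_smul_id]; exact comp_smul_eq_zero hann a) rfl
    have : x₃ = 0 := h.elim _ _
    exact hx₃.symm.trans (by rw [this, Ext.zero_comp]; rfl)
  rw [key a, key b]

/-- if `x ∈ Ann N` is `M`-regular and `Ext^i(N, M) = 0 = Ext^{i+1}(N, M)` then
`Ext^i(N, M/xM) = 0` -/
theorem subsingleton_ext_quot {N M : ModuleCat.{u} A} {x : A} (hx : IsSMulRegular M x)
    (i : ℕ) (h0 : Subsingleton (Ext N M i)) (h1 : Subsingleton (Ext N M (i + 1))) :
    Subsingleton (Ext N (ModuleCat.of A (QuotSMulTop x M)) i) := by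
  refine ⟨fun a b => ?_⟩
  have key : ∀ a : Ext N (ModuleCat.of A (QuotSMulTop x M)) i, a = 0 := by
    intro a
    obtain ⟨x₂, hx₂⟩ := Ext.covariant_sequence_exact₃ N hx.smulShortComplex_shortExact a rfl
      (h1.elim _ _)
    have : x₂ = 0 := h0.elim _ _
    exact hx₂.symm.trans (by rw [this, Ext.zero_comp]; rfl)
  rw [key a, key b]

/-- vanishing of `Ext` below the length of a weakly regular sequence contained in the
annihilator of the source (no finiteness hypotheses) -/
theorem ext_subsingleton_of_regular (N : ModuleCat.{u} A) :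
    ∀ (rs : List A) (M : ModuleCat.{u} A), IsWeaklyRegular M rs →
      (∀ r ∈ rs, r ∈ Module.annihilator A N) → ∀ i < rs.length, Subsingleton (Ext N M i) := by
  intro rs
  induction rs with
  | nil => intro M _ _ i hi; simp at hi
  | cons a rs ih =>
    intro M hreg hmem i hi
    rw [isWeaklyRegular_cons_iff] at hreg
    have ha : a ∈ Module.annihilator A N := hmem a (List.mem_cons_self)
    match i with
    | 0 =>
      have : Subsingleton (N →ₗ[A] M) :=
        IsSMulRegular.linearMap_subsingleton_of_mem_annihilator hreg.1 ha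
      exact (Ext.addEquiv₀.trans ModuleCat.homAddEquiv).subsingleton
    | i + 1 =>
      apply subsingleton_ext_succ hreg.1 ha i
      exact ih (ModuleCat.of A (QuotSMulTop a M)) hreg.2
        (fun r hr => hmem r (List.mem_cons_of_mem _ hr)) i (by simpa using hi)

/-- for a weakly `M`-regular sequence `rs` in the annihilator of `N`:
`Ext^n(N, M) = 0 ↔ Hom(N, M/rs M) = 0` where `n` is the length of `rs` -/
theorem ext_length_subsingleton_iff (N : ModuleCat.{u} A) :
    ∀ (rs : List A) (M : ModuleCat.{u} A), IsWeaklyRegular M rs →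
      (∀ r ∈ rs, r ∈ Module.annihilator A N) →
      (Subsingleton (Ext N M rs.length) ↔
        Subsingleton (N →ₗ[A] M ⧸ (Ideal.ofList rs • ⊤ : Submodule A M))) := by
  intro rs
  induction rs with
  | nil =>
    intro M _ _
    have hbot : (Ideal.ofList ([] : List A) • ⊤ : Submodule A M) = ⊥ := by
      rw [Ideal.ofList_nil, Submodule.bot_smul]
    have e1 : (N →ₗ[A] M ⧸ (Ideal.ofList ([] : List A) • ⊤ : Submodule A M)) ≃ₗ[A] (N →ₗ[A] M) :=
      LinearEquiv.arrowCongr (LinearEquiv.refl A N) (Submodule.quotEquivOfEqBot _ hbot)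
    rw [List.length_nil, e1.toEquiv.subsingleton_congr]
    exact (Ext.addEquiv₀.trans ModuleCat.homAddEquiv).toEquiv.subsingleton_congr
  | cons a rs ih =>
    intro M hreg hmem
    have hreg' := hreg
    rw [isWeaklyRegular_cons_iff] at hreg
    have ha : a ∈ Module.annihilator A N := hmem a (List.mem_cons_self)
    have hmem' : ∀ r ∈ rs, r ∈ Module.annihilator A N :=
      fun r hr => hmem r (List.mem_cons_of_mem _ hr)
    have e1 : (N →ₗ[A] M ⧸ (Ideal.ofList (a :: rs) • ⊤ : Submodule A M)) ≃ₗ[A]
        (N →ₗ[A] QuotSMulTop a M ⧸ (Ideal.ofList rs • ⊤ : Submodule A (QuotSMulTop a M))) :=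
      LinearEquiv.arrowCongr (LinearEquiv.refl A N)
        (Submodule.quotOfListConsSMulTopEquivQuotSMulTopInner M a rs)
    rw [e1.toEquiv.subsingleton_congr, ← ih (ModuleCat.of A (QuotSMulTop a M)) hreg.2 hmem',
      List.length_cons]
    constructor
    · intro h
      exact subsingleton_ext_quot hreg.1 rs.length
        (ext_subsingleton_of_regular N (a :: rs) M hreg' hmem rs.length (by simp)) h
    · intro h
      exact subsingleton_ext_succ hreg.1 ha rs.length h

/-- `Ext` out of a module with only one element vanishes -/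
theorem ext_subsingleton_of_subsingleton (N M : ModuleCat.{u} A) [Subsingleton N] (i : ℕ) :
    Subsingleton (Ext N M i) := by
  have hz : Limits.IsZero N := ModuleCat.isZero_of_subsingleton N
  refine ⟨fun a b => ?_⟩
  have key : ∀ a : Ext N M i, a = 0 := by
    intro a
    have h1 : (Ext.mk₀ (𝟙 N)).comp a (zero_add i) = a := Ext.mk₀_id_comp a
    have h2 : (𝟙 N : N ⟶ N) = 0 := hz.eq_of_src _ _
    rw [h2, Ext.mk₀_zero, Ext.zero_comp] at h1
    exact h1.symm
  rw [key a, key b]

/-- dévissage: vanishing for modules killed by a power of `I` -/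
theorem ext_subsingleton_of_pow (I : Ideal A) (M : ModuleCat.{u} A) (i : ℕ)
    (h1 : ∀ N : ModuleCat.{u} A, (∀ a ∈ I, ∀ n : N, a • n = 0) → Subsingleton (Ext N M i)) :
    ∀ (k : ℕ) (N : ModuleCat.{u} A), (∀ a ∈ I ^ k, ∀ n : N, a • n = 0) →
      Subsingleton (Ext N M i) := by
  intro k
  induction k with
  | zero =>
    intro N hN
    have : Subsingleton N := by
      refine ⟨fun a b => ?_⟩
      have ha := hN 1 (by simp) a
      have hb := hN 1 (by simp) b
      rw [one_smul] at ha hb
      rw [ha, hb]
    exact ext_subsingleton_of_subsingleton N M i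
  | succ k ih =>
    intro N hN
    let N' : Submodule A N := I • ⊤
    have hS := LinearMap.shortExact_shortComplexKer (Submodule.mkQ_surjective N')
    have hX₁ : Subsingleton (Ext (ModuleCat.of A (LinearMap.ker N'.mkQ)) M i) := by
      apply ih
      intro a ha n
      have hn : (n : N) ∈ N' := by
        have h2 : (n : N) ∈ LinearMap.ker N'.mkQ := n.2
        rw [LinearMap.mem_ker, Submodule.mkQ_apply, Submodule.Quotient.mk_eq_zero] at h2
        exact h2
      apply Subtype.ext
      change a • (n : N) = 0
      refine Submodule.smul_induction_on (p := fun x => a • x = 0) hn ?_ ?_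
      · intro r hr m _
        rw [smul_smul]
        exact hN _ (by rw [pow_succ]; exact Ideal.mul_mem_mul ha hr) m
      · intro x y hx hy
        rw [smul_add, hx, hy, add_zero]
    have hX₃ : Subsingleton (Ext (ModuleCat.of A (N ⧸ N')) M i) := by
      apply h1
      intro a ha n
      obtain ⟨n, rfl⟩ := Submodule.Quotient.mk_surjective _ n
      rw [← Submodule.Quotient.mk_smul, Submodule.Quotient.mk_eq_zero]
      exact Submodule.smul_mem_smul ha Submodule.mem_top
    refine ⟨fun a b => ?_⟩
    have key : ∀ a : Ext N M i, a = 0 := by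
      intro a
      obtain ⟨x₁, hx₁⟩ := Ext.contravariant_sequence_exact₂ hS M a (hX₁.elim _ _)
      have : x₁ = 0 := hX₃.elim _ _
      exact hx₁.symm.trans (by rw [this, Ext.comp_zero])
    rw [key a, key b]

theorem result (A : Type u) [CommRing A] (I : Ideal A) (M N : Type u) [AddCommGroup M] [Module A M] [AddCommGroup N] [Module A N] (rs : List A) (hreg : RingTheory.Sequence.IsWeaklyRegular M rs) (hI : ∀ r ∈ rs, r ∈ I) (k : ℕ) (hN : (I ^ k) • (⊤ : Submodule A N) = ⊥) (i : ℕ) (hi : i < rs.length) : Subsingleton (Abelian.Ext (ModuleCat.of A N) (ModuleCat.of A M) i) := by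
  apply ext_subsingleton_of_pow I (ModuleCat.of A M) i ?_ k (ModuleCat.of A N)
  · intro a ha n
    have : a • n ∈ (I ^ k) • (⊤ : Submodule A N) := Submodule.smul_mem_smul ha Submodule.mem_top
    rw [hN] at this
    exact this
  · intro N' hN'
    apply ext_subsingleton_of_regular N' rs (ModuleCat.of A M) hreg ?_ i hi
    intro r hr
    rw [Module.mem_annihilator]
    exact hN' r (hI r hr)

end Groth.Agent.S5150
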