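import Groth.Statements.S14420
import Mathlib
import Groth.Agent.S5150

set_option autoImplicit false
universe u
open CategoryTheory

namespace Groth.Agent.S14420

open Abelian RingTheory.Sequence IsLocalRing

section
variable {A : Type u} [CommRing A] [IsNoetherianRing A] [IsLocalRing A]
  (M : Type u) [AddCommGroup M] [Module A M] [Module.Finite A M]

/-- Nakayama for `Ext`: if every class is divisible by `x ∈ m` then `Ext` vanishes -/
theorem ext_subsingleton_of_divisible (N : Type u) [AddCommGroup N] [Module A N] [Module.Finite A N]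
    (i : ℕ) (x : A) (hx : x ∈ maximalIdeal A)
    (hdiv : ∀ y : Ext (ModuleCat.of A N) (ModuleCat.of A M) i, ∃ y', y = x • y') :
    Subsingleton (Ext (ModuleCat.of A N) (ModuleCat.of A M) i) := by
  have hfin : Module.Finite A (Ext (ModuleCat.of A N) (ModuleCat.of A M) i) :=
    ModuleCat.finite_ext A (ModuleCat.of A N) (ModuleCat.of A M) i
  have hle : (⊤ : Submodule A (Ext (ModuleCat.of A N) (ModuleCat.of A M) i)) ≤
      maximalIdeal A • ⊤ := by
    intro y _
    obtain ⟨y', rfl⟩ := hdiv y
    exact Submodule.smul_mem_smul hx Submodule.mem_top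
  have hbot := Submodule.eq_bot_of_le_smul_of_le_jacobson_bot (maximalIdeal A) ⊤
    (Module.Finite.fg_top) hle (IsLocalRing.maximalIdeal_le_jacobson ⊥)
  refine ⟨fun a b => ?_⟩
  have ha : a ∈ (⊤ : Submodule A _) := Submodule.mem_top
  have hb : b ∈ (⊤ : Submodule A _) := Submodule.mem_top
  rw [hbot, Submodule.mem_bot] at ha hb
  rw [ha, hb]

/-- step for `N ≅ A/p` with `p` not maximal -/
theorem quotient_step (rs : List A) (r : ℕ)
    (IH : ∀ r' < r, ∀ (N : Type u) [AddCommGroup N] [Module A N] [Module.Finite A N],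
      Module.supportDim A N ≤ r' → ∀ i, i + r' < rs.length →
        Subsingleton (Ext (ModuleCat.of A N) (ModuleCat.of A M) i))
    (N : Type u) [AddCommGroup N] [Module A N] [Module.Finite A N]
    (x : A) (hx : x ∈ maximalIdeal A) (hreg : IsSMulRegular N x)
    (hdim : Module.supportDim A N ≤ r) (i : ℕ) (hi : i + r < rs.length) :
    Subsingleton (Ext (ModuleCat.of A N) (ModuleCat.of A M) i) := by
  have hdimQ := Module.supportDim_quotSMulTop_succ_eq_supportDim hreg hx
  have hQ : Subsingleton (Ext (ModuleCat.of A (QuotSMulTop x N)) (ModuleCat.of A M) (i + 1)) := by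
    rcases Nat.eq_zero_or_pos r with h0 | hpos
    · -- then `N / xN` is trivial
      have : Module.supportDim A (QuotSMulTop x N) = ⊥ := by
        rw [h0] at hdim
        rw [← hdimQ] at hdim
        by_contra hne
        obtain ⟨k, hk⟩ := WithBot.ne_bot_iff_exists.mp hne
        rw [← hk] at hdim
        have h1 : ((k : WithBot ℕ∞) + 1) = ((k + 1 : ℕ∞) : WithBot ℕ∞) := by
          push_cast; rfl
        rw [h1] at hdim
        have h2 : (k + 1 : ℕ∞) ≤ 0 := by exact_mod_cast hdim
        simp at h2
      have hsub : Subsingleton (QuotSMulTop x N) := (Module.supportDim_eq_bot_iff_subsingleton A (QuotSMulTop x N)).mp this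
      exact Groth.Agent.S5150.ext_subsingleton_of_subsingleton _ _ _
    · obtain ⟨r', rfl⟩ : ∃ r', r = r' + 1 := ⟨r - 1, by omega⟩
      apply IH r' (by omega) (QuotSMulTop x N) ?_ (i + 1) (by omega)
      rw [← hdimQ] at hdim
      by_cases hne : Module.supportDim A (QuotSMulTop x N) = ⊥
      · rw [hne]; exact bot_le
      · obtain ⟨k, hk⟩ := WithBot.ne_bot_iff_exists.mp hne
        rw [← hk] at hdim ⊢
        have h1 : ((k : WithBot ℕ∞) + 1) = ((k + 1 : ℕ∞) : WithBot ℕ∞) := by
          push_cast; rfl
        rw [h1] at hdim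
        have h2 : (k + 1 : ℕ∞) ≤ ((r' + 1 : ℕ) : ℕ∞) := by exact_mod_cast hdim
        have h3 : k ≤ (r' : ℕ∞) := by
          push_cast at h2
          exact (ENat.add_le_add_iff_right (by simp)).mp h2
        exact_mod_cast h3
  apply ext_subsingleton_of_divisible M N i x hx
  intro y
  have hS : (ModuleCat.smulShortComplex (ModuleCat.of A N) x).ShortExact :=
    IsSMulRegular.smulShortComplex_shortExact (M := ModuleCat.of A N) hreg
  obtain ⟨y', hy'⟩ := Ext.contravariant_sequence_exact₁ hS
    (ModuleCat.of A M) y (add_comm 1 i) (hQ.elim _ _)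
  let y'' : Ext (ModuleCat.of A N) (ModuleCat.of A M) i := y'
  refine ⟨y'', ?_⟩
  have h2 : (Ext.mk₀ (x • 𝟙 (ModuleCat.of A N))).comp y'' (zero_add i) = x • y'' := by
    rw [Ext.mk₀_smul, Ext.smul_comp, Ext.mk₀_id_comp]
  rw [← h2]
  exact hy'.symm

theorem key (rs : List A) (hWR : IsWeaklyRegular M rs) (hrs : ∀ x ∈ rs, x ∈ maximalIdeal A) :
    ∀ (r : ℕ) (N : Type u) [AddCommGroup N] [Module A N] [Module.Finite A N],
      Module.supportDim A N ≤ r → ∀ i, i + r < rs.length →
        Subsingleton (Ext (ModuleCat.of A N) (ModuleCat.of A M) i) := by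
  intro r
  induction r using Nat.strong_induction_on with
  | _ r IH =>
  intro N _ _ hfin
  induction hfin using IsNoetherianRing.induction_on_isQuotientEquivQuotientPrime A with
  | subsingleton N =>
    intro _ i _
    exact Groth.Agent.S5150.ext_subsingleton_of_subsingleton _ _ _
  | quotient N p e =>
    intro hdim i hi
    have := p.2
    by_cases hp : p.asIdeal = maximalIdeal A
    · -- `N` is killed by the maximal ideal
      apply Groth.Agent.S5150.ext_subsingleton_of_regular (ModuleCat.of A N) rs
        (ModuleCat.of A M) hWR ?_ i (by omega)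
      intro x hx
      rw [Module.mem_annihilator]
      intro n
      apply e.injective
      rw [map_smul, map_zero]
      obtain ⟨a, ha⟩ := Ideal.Quotient.mk_surjective (e n)
      rw [← ha, Algebra.smul_def, Ideal.Quotient.algebraMap_eq, ← map_mul,
        Ideal.Quotient.eq_zero_iff_mem]
      exact Ideal.mul_mem_right _ _ (hp ▸ hrs x hx)
    · have hlt : p.asIdeal < maximalIdeal A :=
        lt_of_le_of_ne (le_maximalIdeal p.2.ne_top) hp
      obtain ⟨x, hxm, hxp⟩ := SetLike.exists_of_lt hlt
      have hreg : IsSMulRegular N x := by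
        intro n₁ n₂ h
        apply e.injective
        have h2 : x • e n₁ = x • e n₂ := by
          rw [← map_smul, ← map_smul]; exact congrArg e h
        rw [Algebra.smul_def, Algebra.smul_def] at h2
        have hne : algebraMap A (A ⧸ p.asIdeal) x ≠ 0 := by
          rw [Ideal.Quotient.algebraMap_eq, Ne, Ideal.Quotient.eq_zero_iff_mem]; exact hxp
        exact mul_left_cancel₀ hne h2
      exact quotient_step M rs r IH N x hxm hreg hdim i hi
  | exact N₁ N₂ N₃ f g hf hg hfg h1 h3 =>
    intro hdim i hi
    have hd1 : Module.supportDim A N₁ ≤ r := (Module.supportDim_le_of_injective f hf).trans hdim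
    have hd3 : Module.supportDim A N₃ ≤ r := (Module.supportDim_le_of_surjective g hg).trans hdim
    have s1 := h1 hd1 i hi
    have s3 := h3 hd3 i hi
    let S : ShortComplex (ModuleCat.{u} A) :=
      ModuleCat.shortComplexOfCompEqZero f g hfg.linearMap_comp_eq_zero
    have hS : S.ShortExact := ModuleCat.shortComplex_shortExact S hfg hf hg
    refine ⟨fun a b => ?_⟩
    have key : ∀ a : Ext (ModuleCat.of A N₂) (ModuleCat.of A M) i, a = 0 := by
      intro a
      obtain ⟨x₁, hx₁⟩ := Ext.contravariant_sequence_exact₂ hS (ModuleCat.of A M) a (s1.elim _ _)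
      have : x₁ = 0 := s3.elim _ _
      exact hx₁.symm.trans (by rw [this, Ext.comp_zero])
    rw [key a, key b]

end

theorem result (A : Type u) [CommRing A] [IsNoetherianRing A]
    [IsLocalRing A] (M N : Type u) [AddCommGroup M] [Module A M] [AddCommGroup N] [Module A N]
    [Module.Finite A M] [Module.Finite A N] [Nontrivial M] [Nontrivial N]
    (d r i : ℕ) (hd : LocCoh.depth A M = d) (hr : Module.supportDim A N = r) (hi : i + r < d) :
    Subsingleton (Abelian.Ext (ModuleCat.of A N) (ModuleCat.of A M) i) := by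
  unfold LocCoh.depth LocCoh.idealDepth at hd
  by_cases htop : maximalIdeal A • (⊤ : Submodule A M) = ⊤
  · rw [if_pos htop] at hd
    exact absurd hd (ENat.top_ne_natCast d)
  · rw [if_neg htop] at hd
    have hlt : ((i + r : ℕ) : ℕ∞) < ⨆ (rs : List A)
        (_ : RingTheory.Sequence.IsWeaklyRegular M rs ∧ ∀ r ∈ rs, r ∈ maximalIdeal A),
        (rs.length : ℕ∞) := by
      rw [hd]; exact_mod_cast hi
    obtain ⟨rs, hrs⟩ := lt_iSup_iff.mp hlt
    obtain ⟨hcond, hlen⟩ := lt_iSup_iff.mp hrs
    exact key M rs hcond.1 hcond.2 r N hr.le i (by exact_mod_cast hlen)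

end Groth.Agent.S14420
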