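import Groth.Statements.S5671
import Groth.Agent.S14420
import Groth.Agent.S14426
import Groth.Agent.S0559
import Groth.Agent.Lib.helper5.RegLoc3

set_option autoImplicit false
universe u
open CategoryTheory
open Dual

namespace Groth.Agent.S5671

/-- depth of a regular local ring equals its dimension -/
lemma depth_eq (A : Type u) [CommRing A] [IsRegularLocalRing A] (n : ℕ)
    (hn : ringKrullDim A = n) : LocCoh.depth A A = n := by
  have hspan : (IsLocalRing.maximalIdeal A).spanFinrank = n := by
    have h := IsRegularLocalRing.spanFinrank_maximalIdeal (R := A)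
    rw [hn] at h
    exact_mod_cast h
  obtain ⟨x, hx⟩ := Groth.Agent.H5.RegLoc.exists_fin_generators A n hspan
  have hreg := Groth.Agent.S0559.result A n hn x hx
  have hI : Ideal.span {y | y ∈ List.ofFn x} = IsLocalRing.maximalIdeal A := by
    rw [← hx]
    congr 1
    ext y
    simp [List.mem_ofFn]
  have hmem : ∀ y ∈ List.ofFn x, y ∈ IsLocalRing.maximalIdeal A := by
    intro y hy
    rw [← hI]
    exact Ideal.subset_span hy
  have h1 := (Groth.Agent.S14426.result A (List.ofFn x) hmem).1
  rw [hI, List.length_ofFn] at h1
  have h2 := Groth.Agent.Lib.helper9.Depth.length_le_idealDepth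
    (I := IsLocalRing.maximalIdeal A) (M := A) hreg.toIsWeaklyRegular hmem
  rw [List.length_ofFn] at h2
  exact le_antisymm h1 h2

/-- First assertion, in the local-algebra form to which its proof reduces it: let `A` be a regular local
ring of dimension `n`, `p ≥ 0`, and `M` a finite `A`-module whose support has dimension at most `n -
p`. Then `Ext^i_A(M, A) = 0` for every `i < p`. (The geometric statement: on a nonsingular
`n`-dimensional variety the sheaves `Ext^i(F, L)` vanish for `i < p` when `F` is coherent with
support of dimension `≤ n - p` and `L` is locally free.) -/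
theorem result (A : Type u) [CommRing A] [IsRegularLocalRing A] (M : Type u) [AddCommGroup M] [Module A M] [Module.Finite A M] (p : ℕ) (hdim : Module.supportDim A M + p ≤ ringKrullDim A) (i : ℕ) (hi : i < p) : Subsingleton (Abelian.Ext (ModuleCat.of A M) (ModuleCat.of A A) i) := by
  obtain ⟨n, hn⟩ := Groth.Agent.H5.RegLoc.exists_nat_dim A
  rcases subsingleton_or_nontrivial M with hM | hM
  · have hz : Limits.IsZero (ModuleCat.of A M) := ModuleCat.isZero_of_subsingleton _
    refine ⟨fun x y => ?_⟩
    have h0 : ∀ z : Abelian.Ext (ModuleCat.of A M) (ModuleCat.of A A) i, z = 0 := by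
      intro z
      have : z = (Abelian.Ext.mk₀ (𝟙 (ModuleCat.of A M))).comp z (zero_add i) := by simp
      rw [this, hz.eq_of_src (𝟙 _) 0, Abelian.Ext.mk₀_zero, Abelian.Ext.zero_comp]
    rw [h0 x, h0 y]
  · have hbot : Module.supportDim A M ≠ ⊥ := Module.supportDim_ne_bot_of_nontrivial A M
    have hle : Module.supportDim A M ≤ n := hn ▸ Module.supportDim_le_ringKrullDim A M
    obtain ⟨e, he⟩ := WithBot.ne_bot_iff_exists.mp hbot
    rw [← he] at hle hdim
    have he' : e ≠ ⊤ := by
      intro h
      rw [h] at hle
      have : (⊤ : ℕ∞) ≤ (n : ℕ∞) := by exact_mod_cast hle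
      exact absurd this (by simp)
    lift e to ℕ using he'
    rw [hn] at hdim
    have hrp : e + p ≤ n := by exact_mod_cast hdim
    exact Groth.Agent.S14420.result A A M n e i (depth_eq A n hn) he.symm (by omega)

end Groth.Agent.S5671
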