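import Groth.Statements.S8902
import Mathlib

set_option autoImplicit false
universe u
open CategoryTheory CategoryTheory.Limits AlgebraicGeometry TopologicalSpace
open SDiv

namespace Groth.Agent.S8902

section Helpers

theorem reg_iff {R : Type*} [CommRing R] (r : R) : IsSMulRegular R r ↔ r ∈ nonZeroDivisors R := by
  constructor
  · intro h
    rw [mem_nonZeroDivisors_iff]
    refine ⟨fun x hx => ?_, fun x hx => ?_⟩
    · exact h (by simpa using hx)
    · exact h (by simpa [mul_comm] using hx)
  · intro h a b hab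
    have h1 : r * (a - b) = 0 := by
      simp only [smul_eq_mul] at hab
      rw [mul_sub, hab, sub_self]
    exact sub_eq_zero.mp ((mem_nonZeroDivisors_iff.mp h).1 _ h1)

theorem main {X Y : Scheme.{u}} (f : X ⟶ Y) [Flat f] (U : Y.Opens) (s : Γ(Y, U))
    (hs : s ∈ Mero.regSub Y U) : f.app U s ∈ Mero.regSub X (f ⁻¹ᵁ U) := by
  intro x
  have h1 := hs ⟨f x.1, x.2⟩
  have hfl : (f.stalkMap x.1).hom.Flat := Flat.stalkMap f x.1
  letI := (f.stalkMap x.1).hom.toAlgebra
  haveI : Module.Flat (Y.presheaf.stalk (f x.1)) (X.presheaf.stalk x.1) := hfl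
  have h2 : IsSMulRegular (Y.presheaf.stalk (f x.1)) (Y.presheaf.germ U (f x.1) x.2 s) := by
    rw [reg_iff]
    exact h1
  have h3 := IsSMulRegular.of_flat (S := X.presheaf.stalk x.1) h2
  rw [reg_iff] at h3
  have e : algebraMap (Y.presheaf.stalk (f x.1)) (X.presheaf.stalk x.1)
      (Y.presheaf.germ U (f x.1) x.2 s) = X.presheaf.germ (f ⁻¹ᵁ U) x.1 x.2 (f.app U s) :=
    Scheme.Hom.germ_stalkMap_apply f U x.1 x.2 s
  rw [e] at h3
  exact h3

end Helpers

/-- Let f : X ⟶ Y be a flat morphism of schemes. Then pullbacks of meromorphic functions are defined for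
f: for every open U ⊆ Y and every regular section s of O_Y over U, the pulled-back section of O_X
over f⁻¹U is regular. -/
theorem result {X Y : Scheme.{u}} (f : X ⟶ Y) [Flat f] (U : Y.Opens) (s : Γ(Y, U))
    (hs : s ∈ Mero.regSub Y U) : f.app U s ∈ Mero.regSub X (f ⁻¹ᵁ U) := by
  exact main f U s hs

end Groth.Agent.S8902
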