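import Groth.Statements.S14729
import Mathlib

set_option autoImplicit false
universe u
open ValPrufer

namespace Groth.Agent.S14729

section Helpers

open Finset

section abstract

variable {L : Type u} [Field L]

/-- `f_s(x) = 1 + x + ... + x^(s-1)` -/
def fs (x : L) (s : ℕ) : L := ∑ k ∈ range s, x ^ k

theorem fs_add (x : L) (s t : ℕ) : fs x (s + t) = fs x s + x ^ s * fs x t := by
  unfold fs
  rw [Finset.sum_range_add, Finset.mul_sum]
  congr 1
  apply Finset.sum_congr rfl
  intro k _
  rw [pow_add]

theorem fs_one (x : L) : fs x 1 = 1 := by simp [fs]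

theorem fs_mem (A : ValuationSubring L) {x : L} (hx : x ∈ A) (s : ℕ) : fs x s ∈ A :=
  sum_mem fun k _ => pow_mem hx k

/-- if `v x < 1` then `f_s(x)` is a unit for `s ≥ 1` -/
theorem fs_not_nonunit_of_lt (A : ValuationSubring L) {x : L} (hx : A.valuation x < 1) {s : ℕ}
    (hs : 1 ≤ s) : fs x s ∉ A.nonunits := by
  obtain ⟨t, rfl⟩ : ∃ t, s = 1 + t := ⟨s - 1, by omega⟩
  rw [fs_add, fs_one, pow_one, ValuationSubring.mem_nonunits_iff]
  have hxA : x ∈ A := (A.valuation_le_one_iff x).1 hx.le
  have h1 : A.valuation (x * fs x t) < 1 := by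
    rw [map_mul]
    calc A.valuation x * A.valuation (fs x t) ≤ A.valuation x * 1 :=
          mul_le_mul_right ((A.valuation_le_one_iff _).2 (fs_mem A hxA t)) _
      _ = A.valuation x := mul_one _
      _ < 1 := hx
  have : A.valuation (1 + x * fs x t) = 1 := by
    have h2 : A.valuation (x * fs x t) < A.valuation (1 : L) := by rw [map_one]; exact h1
    rw [Valuation.map_add_eq_of_lt_left _ h2, map_one]
  rw [this]
  exact lt_irrefl _

/-- The set of bad exponents is contained in the multiples of some `c ≠ 1`. -/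
theorem exists_period (A : ValuationSubring L) (x : L) :
    ∃ c : ℕ, c ≠ 1 ∧ ∀ s, 1 ≤ s → x ∈ A → fs x s ∈ A.nonunits → c ∣ s := by
  classical
  by_cases hex : x ∈ A ∧ ∃ s, 1 ≤ s ∧ fs x s ∈ A.nonunits
  · obtain ⟨hxA, hs⟩ := hex
    refine ⟨Nat.find hs, ?_, ?_⟩
    · intro h1
      have := (Nat.find_spec hs).2
      rw [h1, fs_one, ValuationSubring.mem_nonunits_iff, map_one] at this
      exact lt_irrefl _ this
    · set c := Nat.find hs with hc
      have hc1 : 1 ≤ c := (Nat.find_spec hs).1
      have hcm : fs x c ∈ A.nonunits := (Nat.find_spec hs).2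
      -- x is a unit
      have hvx : A.valuation x = 1 := by
        rcases lt_or_eq_of_le ((A.valuation_le_one_iff x).2 hxA) with h | h
        · exact absurd hcm (fs_not_nonunit_of_lt A h hc1)
        · exact h
      intro s
      induction s using Nat.strong_induction_on with
      | _ s ih =>
        intro hs1 _ hsm
        have hcs : c ≤ s := Nat.find_min' hs ⟨hs1, hsm⟩
        rcases Nat.eq_or_lt_of_le hcs with h | h
        · rw [← h]
        · obtain ⟨t, rfl⟩ : ∃ t, s = c + t := ⟨s - c, by omega⟩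
          have ht1 : 1 ≤ t := by omega
          have h2 : x ^ c * fs x t ∈ A.nonunits := by
            have : x ^ c * fs x t = fs x (c + t) - fs x c := by rw [fs_add]; ring
            rw [this]
            exact sub_mem hsm hcm
          have h3 : fs x t ∈ A.nonunits := by
            rw [ValuationSubring.mem_nonunits_iff] at h2 ⊢
            rw [map_mul, map_pow, hvx, one_pow, one_mul] at h2
            exact h2
          have := ih t (by omega) ht1 hxA h3
          exact (Nat.dvd_add_right (dvd_refl c)).2 this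
  · refine ⟨0, by norm_num, ?_⟩
    intro s hs hxA hsm
    exact absurd ⟨hxA, s, hs, hsm⟩ hex

/-- A common good exponent for finitely many valuation subrings. -/
theorem exists_good {ι : Type*} [Finite ι] (W : ι → ValuationSubring L) (x : L) :
    ∃ s : ℕ, 2 ≤ s ∧ ∀ i, x ∈ W i → fs x s ∉ (W i).nonunits := by
  classical
  haveI := Fintype.ofFinite ι
  choose c hc1 hc using fun i => exists_period (W i) x
  refine ⟨1 + ∏ i, (if c i = 0 then 1 else c i), ?_, ?_⟩
  · have : 0 < ∏ i, (if c i = 0 then 1 else c i) := by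
      apply Finset.prod_pos
      intro i _
      split_ifs with h
      · norm_num
      · exact Nat.pos_of_ne_zero h
    omega
  · intro i hxi hbad
    have hdvd := hc i _ (by omega) hxi hbad
    by_cases h0 : c i = 0
    · rw [h0, zero_dvd_iff] at hdvd
      omega
    · have h2 : c i ∣ ∏ j, (if c j = 0 then 1 else c j) := by
        have := Finset.dvd_prod_of_mem (fun j => if c j = 0 then 1 else c j) (mem_univ i)
        simpa [h0] using this
      have h3 : c i ∣ 1 := (Nat.dvd_add_left h2).1 hdvd
      exact hc1 i (Nat.dvd_one.1 h3)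

/-- valuation of `f_s(x)` when `v x > 1` -/
theorem valuation_fs_of_gt (A : ValuationSubring L) {x : L} (hx : 1 < A.valuation x) (n : ℕ) :
    A.valuation (fs x (n + 1)) = A.valuation x ^ n := by
  induction n with
  | zero => rw [fs_one, map_one, pow_zero]
  | succ n ih =>
    have h1 : fs x (n + 1 + 1) = fs x (n + 1) + x ^ (n + 1) := by
      rw [fs_add, fs_one, mul_one]
    rw [h1]
    have h2 : A.valuation (fs x (n + 1)) < A.valuation (x ^ (n + 1)) := by
      rw [ih, map_pow, pow_succ]
      have hpos : 0 < A.valuation x ^ n := by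
        apply pow_pos
        exact lt_trans zero_lt_one hx
      calc A.valuation x ^ n = A.valuation x ^ n * 1 := (mul_one _).symm
        _ < A.valuation x ^ n * A.valuation x := by
          exact mul_lt_mul_of_pos_left hx hpos
    rw [Valuation.map_add_eq_of_lt_right _ h2, map_pow]

theorem key {ι : Type*} [Finite ι] (V : ι → ValuationSubring L) (K : Subfield L) {x : L}
    (hx : x ∈ K) :
    ∃ y : L, y ∈ K ∧ y ≠ 0 ∧ (∀ i, y ∈ V i) ∧ (∀ i, x * y ∈ V i) ∧ ∀ i, x ∈ V i → y⁻¹ ∈ V i := by
  obtain ⟨s, hs2, hgood⟩ := exists_good (fun o : Option ι => o.elim ⊤ V) x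
  have hF0 : fs x s ≠ 0 := by
    intro h0
    have := hgood none (ValuationSubring.mem_top x)
    rw [h0] at this
    exact this (zero_mem _)
  have hFK : fs x s ∈ K := sum_mem fun k _ => pow_mem hx k
  refine ⟨(fs x s)⁻¹, inv_mem hFK, inv_ne_zero hF0, ?_, ?_, ?_⟩
  all_goals
    intro i
    by_cases hxi : x ∈ V i
    · have h1 := hgood (some i) hxi
      have hFi : fs x s ∈ V i := fs_mem (V i) hxi s
      have hv : (V i).valuation (fs x s) = 1 := by
        rcases lt_or_eq_of_le (((V i).valuation_le_one_iff _).2 hFi) with h | h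
        · exact absurd (((V i).mem_nonunits_iff).2 h) h1
        · exact h
      have hyi : (fs x s)⁻¹ ∈ V i := by
        rw [← (V i).valuation_le_one_iff, map_inv₀, hv, inv_one]
      first
        | exact hyi
        | exact mul_mem hxi hyi
        | (intro _; rw [inv_inv]; exact hFi)
    · have hvx : 1 < (V i).valuation x := by
        rw [← not_le, (V i).valuation_le_one_iff]; exact hxi
      obtain ⟨n, rfl⟩ : ∃ n, s = n + 1 := ⟨s - 1, by omega⟩
      have hv := valuation_fs_of_gt (V i) hvx n
      have hpow : ∀ m : ℕ, 1 ≤ (V i).valuation x ^ m := fun m => one_le_pow₀ hvx.le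
      first
        | (rw [← (V i).valuation_le_one_iff, map_inv₀, hv]
           exact inv_le_one_of_one_le₀ (hpow n))
        | (rw [← (V i).valuation_le_one_iff, map_mul, map_inv₀, hv]
           obtain ⟨k, rfl⟩ : ∃ k, n = k + 1 := ⟨n - 1, by omega⟩
           have hx0 : (V i).valuation x ≠ 0 := ne_of_gt (lt_trans zero_lt_one hvx)
           rw [pow_succ, mul_inv, mul_comm ((V i).valuation x ^ k)⁻¹, ← mul_assoc,
             mul_inv_cancel₀ hx0, one_mul]
           exact inv_le_one_of_one_le₀ (hpow k))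
        | (intro h; exact absurd h hxi)

end abstract

section inter

variable {L : Type u} [Field L] {ι : Type*} (V : ι → ValuationSubring L) (K : Subfield L)
  (B : Subring L) (hB : ∀ x, x ∈ B ↔ x ∈ K ∧ ∀ i, x ∈ V i)
include hB

/-- the centre of `V i` on `B` -/
def pI (i : ι) : Ideal B where
  carrier := {b | (b : L) ∈ (V i).nonunits}
  add_mem' := fun ha hb => (V i).nonunits.add_mem ha hb
  zero_mem' := (V i).nonunits.zero_mem
  smul_mem' := fun c b hb => by
    change ((c * b : B) : L) ∈ (V i).nonunits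
    rw [Subring.coe_mul, ValuationSubring.mem_nonunits_iff, map_mul]
    have hc : (V i).valuation (c : L) ≤ 1 :=
      ((V i).valuation_le_one_iff _).2 (((hB _).1 c.2).2 i)
    have hb' : (V i).valuation (b : L) < 1 := ((V i).mem_nonunits_iff).1 hb
    calc (V i).valuation (c : L) * (V i).valuation (b : L)
        ≤ 1 * (V i).valuation (b : L) := mul_le_mul_left hc _
      _ = (V i).valuation (b : L) := one_mul _
      _ < 1 := hb'

theorem mem_pI (i : ι) (b : B) : b ∈ pI V K B hB i ↔ (V i).valuation (b : L) < 1 :=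
  (V i).mem_nonunits_iff

theorem val_le_one (i : ι) (b : B) : (V i).valuation (b : L) ≤ 1 :=
  ((V i).valuation_le_one_iff _).2 (((hB _).1 b.2).2 i)

theorem pI_prime (i : ι) : (pI V K B hB i).IsPrime := by
  constructor
  · intro h
    have : (1 : B) ∈ pI V K B hB i := by rw [h]; trivial
    rw [mem_pI, Subring.coe_one, map_one] at this
    exact lt_irrefl _ this
  · intro a b hab
    rw [mem_pI, Subring.coe_mul, map_mul] at hab
    by_contra hcon
    push_neg at hcon
    rw [mem_pI, mem_pI, not_lt, not_lt] at hcon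
    have ha := le_antisymm (val_le_one V K B hB i a) hcon.1
    have hb := le_antisymm (val_le_one V K B hB i b) hcon.2
    rw [ha, hb, one_mul] at hab
    exact lt_irrefl _ hab

theorem exists_le_pI [Finite ι] [Nonempty ι] (q : Ideal B) (hq : q ≠ ⊤) :
    ∃ i, q ≤ pI V K B hB i := by
  classical
  haveI := Fintype.ofFinite ι
  obtain ⟨i₀⟩ := ‹Nonempty ι›
  by_contra hcon
  have h1 := (Ideal.subset_union_prime (s := Finset.univ) (f := pI V K B hB) i₀ i₀
    (fun i _ _ _ => pI_prime V K B hB i) (I := q)).not.2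
    (fun ⟨i, _, hi⟩ => hcon ⟨i, hi⟩)
  rw [Set.not_subset] at h1
  obtain ⟨a, haq, ha⟩ := h1
  simp only [Finset.coe_univ, Set.mem_univ, Set.iUnion_true, Set.mem_iUnion, SetLike.mem_coe,
    not_exists] at ha
  have hv : ∀ i, (V i).valuation (a : L) = 1 := by
    intro i
    have := ha i
    rw [mem_pI, not_lt] at this
    exact le_antisymm (val_le_one V K B hB i a) this
  have ha0 : (a : L) ≠ 0 := by
    intro h0
    have := hv i₀
    rw [h0, map_zero] at this
    exact zero_ne_one this
  have hinv : (a : L)⁻¹ ∈ B := by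
    rw [hB]
    refine ⟨inv_mem ((hB _).1 a.2).1, fun i => ?_⟩
    rw [← (V i).valuation_le_one_iff, map_inv₀, hv i, inv_one]
  apply hq
  rw [Ideal.eq_top_iff_one]
  have : (1 : B) = ⟨(a : L)⁻¹, hinv⟩ * a := by
    apply Subtype.ext
    rw [Subring.coe_mul, Subring.coe_one]
    exact (inv_mul_cancel₀ ha0).symm
  rw [this]
  exact q.mul_mem_left _ haq

theorem finite_maxSpec [Finite ι] [Nonempty ι] : Finite (MaximalSpectrum B) := by
  classical
  have hex : ∀ M : MaximalSpectrum B, ∃ i, M.asIdeal = pI V K B hB i := by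
    intro M
    obtain ⟨i, hi⟩ := exists_le_pI V K B hB M.asIdeal M.isMaximal.ne_top
    exact ⟨i, M.isMaximal.eq_of_le (pI_prime V K B hB i).ne_top hi⟩
  choose g hg using hex
  apply Finite.of_injective g
  intro M M' h
  ext1
  rw [hg M, hg M', h]

theorem frac {x : L} [Finite ι] (hx : x ∈ K) :
    ∃ a b : L, a ∈ B ∧ b ∈ B ∧ b ≠ 0 ∧ x = a / b := by
  obtain ⟨y, hyK, hy0, hyV, hxyV, -⟩ := key V K hx
  refine ⟨x * y, y, (hB _).2 ⟨mul_mem hx hyK, hxyV⟩, (hB _).2 ⟨hyK, hyV⟩, hy0, ?_⟩
  field_simp

theorem valuationRing_loc [Finite ι] [Nonempty ι] (q : Ideal B) [q.IsPrime] :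
    ValuationRing (Localization.AtPrime q) := by
  obtain ⟨i, hqi⟩ := exists_le_pI V K B hB q (Ideal.IsPrime.ne_top ‹_›)
  -- the main claim: z ∈ V i, z ∈ K → z = w / y with y ∉ q
  have hmain : ∀ z : L, z ∈ K → z ∈ V i → ∃ w y : B, y ∉ q ∧ (w : L) = z * (y : L) := by
    intro z hzK hzV
    obtain ⟨y, hyK, hy0, hyV, hzyV, hinv⟩ := key V K hzK
    refine ⟨⟨z * y, (hB _).2 ⟨mul_mem hzK hyK, hzyV⟩⟩, ⟨y, (hB _).2 ⟨hyK, hyV⟩⟩, ?_, rfl⟩
    intro hyq
    have := hqi hyq
    rw [mem_pI] at this
    have h2 : (V i).valuation y⁻¹ ≤ 1 := ((V i).valuation_le_one_iff _).2 (hinv i hzV)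
    rw [map_inv₀] at h2
    have h3 : (V i).valuation y ≠ 0 := by
      rw [ne_eq, map_eq_zero]; exact hy0
    have : (1 : (V i).ValueGroup) < 1 := by
      calc (1 : (V i).ValueGroup) = (V i).valuation y * ((V i).valuation y)⁻¹ :=
            (mul_inv_cancel₀ h3).symm
        _ ≤ (V i).valuation y * 1 := mul_le_mul_right h2 _
        _ = (V i).valuation y := mul_one _
        _ < 1 := this
    exact lt_irrefl _ this
  haveI : PreValuationRing (Localization.AtPrime q) := by
    refine ⟨fun a b => ?_⟩
    obtain ⟨a₁, s₁, rfl⟩ := IsLocalization.exists_mk'_eq q.primeCompl a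
    obtain ⟨b₁, s₂, rfl⟩ := IsLocalization.exists_mk'_eq q.primeCompl b
    by_cases ha0 : a₁ = 0
    · refine ⟨0, Or.inr ?_⟩
      rw [ha0, IsLocalization.mk'_zero, mul_zero]
    by_cases hb0 : b₁ = 0
    · refine ⟨0, Or.inl ?_⟩
      rw [hb0, IsLocalization.mk'_zero, mul_zero]
    have hs₁0 : (s₁ : B) ≠ 0 := fun h => s₁.2 (by rw [h]; exact q.zero_mem)
    have hs₂0 : (s₂ : B) ≠ 0 := fun h => s₂.2 (by rw [h]; exact q.zero_mem)
    have hL : ∀ b : B, b ≠ 0 → (b : L) ≠ 0 := fun b hb h => hb (Subtype.ext h)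
    have hKm : ∀ b : B, (b : L) ∈ K := fun b => ((hB _).1 b.2).1
    set z : L := ((b₁ : L) * (s₁ : B)) / ((a₁ : L) * (s₂ : B)) with hz
    have hzK : z ∈ K := div_mem (mul_mem (hKm _) (hKm _)) (mul_mem (hKm _) (hKm _))
    rcases (V i).mem_or_inv_mem z with hzV | hzV
    · obtain ⟨w, y, hyq, hwy⟩ := hmain z hzK hzV
      refine ⟨IsLocalization.mk' (Localization.AtPrime q) w (⟨y, hyq⟩ : q.primeCompl), Or.inl ?_⟩
      rw [← IsLocalization.mk'_mul]
      apply IsLocalization.mk'_eq_of_eq'
      apply Subtype.ext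
      simp only [Subring.coe_mul, Submonoid.coe_mul]
      rw [hwy, hz]
      field_simp [hL _ ha0, hL _ hs₂0]
    · obtain ⟨w, y, hyq, hwy⟩ := hmain z⁻¹ (inv_mem hzK) hzV
      refine ⟨IsLocalization.mk' (Localization.AtPrime q) w (⟨y, hyq⟩ : q.primeCompl), Or.inr ?_⟩
      rw [← IsLocalization.mk'_mul]
      apply IsLocalization.mk'_eq_of_eq'
      apply Subtype.ext
      simp only [Subring.coe_mul, Submonoid.coe_mul]
      rw [hwy, hz]
      field_simp [hL _ hb0, hL _ hs₁0]

  exact ValuationRing.mk
end inter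

theorem preValuationRing_of_equiv {A A' : Type*} [CommRing A] [CommRing A'] (e : A ≃+* A')
    [PreValuationRing A] : PreValuationRing A' := by
  refine ⟨fun a b => ?_⟩
  obtain ⟨c, hc⟩ := PreValuationRing.cond (e.symm a) (e.symm b)
  refine ⟨e c, ?_⟩
  rcases hc with hc | hc
  · left
    have := congrArg e hc
    rwa [map_mul, e.apply_symm_apply, e.apply_symm_apply] at this
  · right
    have := congrArg e hc
    rwa [map_mul, e.apply_symm_apply, e.apply_symm_apply] at this

theorem main
    (R L : Type u) [CommRing R] [IsDomain R] [Field L] [Algebra R L] [IsFractionRing R L]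
    (hR : ∀ (p : Ideal R) [p.IsPrime], ValuationRing (Localization.AtPrime p))
    (hfin : Finite (MaximalSpectrum R)) (K : Subfield L) :
    (∀ (p : Ideal ↥((algebraMap R L).range ⊓ K.toSubring)) [p.IsPrime],
        ValuationRing (Localization.AtPrime p)) ∧
      Finite (MaximalSpectrum ↥((algebraMap R L).range ⊓ K.toSubring)) ∧
      ∀ x : L, x ∈ K → ∃ a b : L, a ∈ (algebraMap R L).range ⊓ K.toSubring ∧
        b ∈ (algebraMap R L).range ⊓ K.toSubring ∧ b ≠ 0 ∧ x = a / b := by
  classical
  -- the valuation subrings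
  let S : MaximalSpectrum R → Subalgebra R L := fun v =>
    Localization.subalgebra.ofField L _ v.asIdeal.primeCompl_le_nonZeroDivisors
  have hS : ∀ v : MaximalSpectrum R, ∀ x : L, x ∈ (S v).toSubring ∨ x⁻¹ ∈ (S v).toSubring := by
    intro v x
    haveI := v.isMaximal.isPrime
    haveI : ValuationRing (Localization.AtPrime v.asIdeal) := hR v.asIdeal
    let e : Localization.AtPrime v.asIdeal ≃ₐ[R] S v :=
      IsLocalization.algEquiv v.asIdeal.primeCompl _ _
    haveI : PreValuationRing (S v) := preValuationRing_of_equiv e.toRingEquiv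
    haveI : ValuationRing (S v) := ValuationRing.mk
    rcases ValuationRing.isInteger_or_isInteger (S v) x with h | h
    · left
      obtain ⟨y, rfl⟩ := h
      exact y.2
    · right
      obtain ⟨y, hy⟩ := h
      rw [← hy]
      exact y.2
  let V : MaximalSpectrum R → ValuationSubring L := fun v =>
    ValuationSubring.ofSubring (S v).toSubring (hS v)
  have hB : ∀ x, x ∈ (algebraMap R L).range ⊓ K.toSubring ↔ x ∈ K ∧ ∀ v, x ∈ V v := by
    intro x
    rw [Subring.mem_inf, and_comm]
    apply and_congr Iff.rfl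
    have h1 : x ∈ (algebraMap R L).range ↔ x ∈ (⊥ : Subalgebra R L) := by
      rw [Algebra.mem_bot]; rfl
    rw [h1, ← MaximalSpectrum.iInf_localization_eq_bot R L, Algebra.mem_iInf]
    rfl
  haveI : Nonempty (MaximalSpectrum R) := by
    obtain ⟨m, hm⟩ := Ideal.exists_maximal R
    exact ⟨⟨m, hm⟩⟩
  refine ⟨fun p _ => valuationRing_loc V K _ hB p, finite_maxSpec V K _ hB,
    fun x hx => frac V K _ hB hx⟩

end Helpers

/-- Let R be a semilocal Prüfer domain (an integral domain with finitely many maximal ideals whose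
localisations at primes are valuation rings) with fraction field L, and let K ⊆ L be a subfield.
Then R ∩ K is again a semilocal Prüfer domain and its fraction field is K, i.e. every element of K
is a quotient of two elements of R ∩ K. -/
theorem result
    (R L : Type u) [CommRing R] [IsDomain R] [Field L] [Algebra R L] [IsFractionRing R L]
    (hR : ∀ (p : Ideal R) [p.IsPrime], ValuationRing (Localization.AtPrime p))
    (hfin : Finite (MaximalSpectrum R)) (K : Subfield L) :
    (∀ (p : Ideal ↥((algebraMap R L).range ⊓ K.toSubring)) [p.IsPrime],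
        ValuationRing (Localization.AtPrime p)) ∧
      Finite (MaximalSpectrum ↥((algebraMap R L).range ⊓ K.toSubring)) ∧
      ∀ x : L, x ∈ K → ∃ a b : L, a ∈ (algebraMap R L).range ⊓ K.toSubring ∧
        b ∈ (algebraMap R L).range ⊓ K.toSubring ∧ b ≠ 0 ∧ x = a / b := by
  exact main R L hR hfin K

end Groth.Agent.S14729
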