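import Groth.Statements.S14891
import Mathlib

set_option autoImplicit false
universe u
open CAlg

namespace Groth.Agent.S14891

section Helpers

open Cardinal MvPolynomial IsLocalRing

variable {K L Γ₀ Γ₁ : Type u} [Field K] [Field L] [Algebra K L]
  [LinearOrderedCommGroupWithZero Γ₀] [LinearOrderedCommGroupWithZero Γ₁]

/-- a finite sum of nonzero elements with pairwise distinct valuations is nonzero -/
theorem sum_ne_zero_of_distinct (vL : Valuation L Γ₁) {ι : Type*} [DecidableEq ι] (s : Finset ι)
    (f : ι → L) (hs : s.Nonempty) (hne : ∀ i ∈ s, f i ≠ 0)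
    (hinj : ∀ i ∈ s, ∀ j ∈ s, vL (f i) = vL (f j) → i = j) : ∑ i ∈ s, f i ≠ 0 := by
  have key : ∃ i ∈ s, vL (∑ i ∈ s, f i) = vL (f i) := by
    induction hs using Finset.Nonempty.cons_induction with
    | singleton a => exact ⟨a, by simp, by simp⟩
    | cons a s ha hs ih =>
      obtain ⟨i, hi, hvi⟩ := ih (fun i hi => hne i (Finset.mem_cons_of_mem hi))
        (fun i hi j hj => hinj i (Finset.mem_cons_of_mem hi) j (Finset.mem_cons_of_mem hj))
      rw [Finset.sum_cons]
      have hne' : vL (f a) ≠ vL (∑ i ∈ s, f i) := by
        rw [hvi]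
        intro h
        have := hinj a (Finset.mem_cons_self a s) i (Finset.mem_cons_of_mem hi) h
        exact ha (this ▸ hi)
      rw [Valuation.map_add_of_distinct_val vL hne']
      rcases max_choice (vL (f a)) (vL (∑ i ∈ s, f i)) with h | h
      · exact ⟨a, Finset.mem_cons_self a s, h⟩
      · exact ⟨i, Finset.mem_cons_of_mem hi, h.trans hvi⟩
  obtain ⟨i, hi, hv⟩ := key
  intro h0
  rw [h0, map_zero] at hv
  exact hne i hi ((Valuation.zero_iff vL).mp hv.symm)

variable (vK : Valuation K Γ₀) (vL : Valuation L Γ₁) [vK.HasExtension vL]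

/-- Gauss lemma: a nonzero polynomial in elements with algebraically independent residues has
the valuation of one of its coefficients -/
theorem gauss {t : Type u} (y : t → vL.valuationSubring)
    (hy : AlgebraicIndependent (ResidueField vK.valuationSubring)
      (fun i => IsLocalRing.residue vL.valuationSubring (y i)))
    (G : MvPolynomial t K) (hG : G ≠ 0) :
    ∃ c : K, c ≠ 0 ∧ vL (aeval (fun i => (y i : L)) G) = vL (algebraMap K L c) := by
  classical
  have hsupp : G.support.Nonempty := by
    rw [Finset.nonempty_iff_ne_empty, Ne, MvPolynomial.support_eq_empty]; exact hG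
  obtain ⟨b₀, hb₀, hmax⟩ := Finset.exists_max_image G.support (fun b => vK (coeff b G)) hsupp
  set c := coeff b₀ G with hc
  have hc0 : c ≠ 0 := MvPolynomial.mem_support_iff.mp hb₀
  have hvc : vK c ≠ 0 := (Valuation.ne_zero_iff vK).mpr hc0
  have hle : ∀ b, vK (coeff b G / c) ≤ 1 := by
    intro b
    rw [map_div₀]
    by_cases hb : b ∈ G.support
    · exact div_le_one_of_le₀ (hmax b hb) zero_le'
    · rw [MvPolynomial.notMem_support_iff.mp hb, map_zero, zero_div]; exact zero_le'
  let d : (t →₀ ℕ) → vK.valuationSubring := fun b => ⟨coeff b G / c, hle b⟩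
  set G'' : MvPolynomial t vK.valuationSubring := ∑ b ∈ G.support, monomial b (d b) with hG''
  have hcoeff : ∀ b, coeff b G'' = d b := by
    intro b
    rw [hG'', MvPolynomial.coeff_sum]
    simp only [MvPolynomial.coeff_monomial]
    rw [Finset.sum_ite_eq' G.support b]
    by_cases hb : b ∈ G.support
    · rw [if_pos hb]
    · rw [if_neg hb]
      apply Subtype.ext
      simp [d, MvPolynomial.notMem_support_iff.mp hb]
  have hmap : MvPolynomial.map (algebraMap vK.valuationSubring K) G'' = c⁻¹ • G := by
    ext b
    rw [MvPolynomial.coeff_map, hcoeff, MvPolynomial.coeff_smul]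
    simp [d, div_eq_inv_mul]
  have hG_eq : G = c • MvPolynomial.map (algebraMap vK.valuationSubring K) G'' := by
    rw [hmap, smul_smul, mul_inv_cancel₀ hc0, one_smul]
  set w : vL.valuationSubring := aeval y G'' with hw
  have haev : aeval (fun i => (y i : L)) (MvPolynomial.map (algebraMap vK.valuationSubring K) G'')
      = (w : L) := by
    rw [MvPolynomial.aeval_map_algebraMap]
    have := MvPolynomial.aeval_algebraMap_apply (R := vK.valuationSubring) (A := vL.valuationSubring)
      (B := L) y G''
    rw [hw]
    exact this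
  -- residue of w
  have hres : IsLocalRing.residue vL.valuationSubring w =
      aeval (fun i => IsLocalRing.residue vL.valuationSubring (y i))
        (MvPolynomial.map (IsLocalRing.residue vK.valuationSubring) G'') := by
    rw [hw]
    have : (IsLocalRing.residue vL.valuationSubring).comp
        (aeval y : MvPolynomial t vK.valuationSubring →ₐ[vK.valuationSubring] vL.valuationSubring).toRingHom =
        ((aeval (fun i => IsLocalRing.residue vL.valuationSubring (y i)) :
          MvPolynomial t (ResidueField vK.valuationSubring) →ₐ[_] ResidueField vL.valuationSubring).toRingHom).comp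
          (MvPolynomial.map (IsLocalRing.residue vK.valuationSubring)) := by
      apply MvPolynomial.ringHom_ext
      · intro a
        simp
      · intro i
        simp
    exact congrArg (fun φ => φ G'') this
  have hne : MvPolynomial.map (IsLocalRing.residue vK.valuationSubring) G'' ≠ 0 := by
    intro h0
    have := congrArg (coeff b₀) h0
    rw [MvPolynomial.coeff_map, hcoeff, MvPolynomial.coeff_zero] at this
    have h1 : d b₀ = 1 := by
      apply Subtype.ext
      show coeff b₀ G / c = 1
      rw [← hc, div_self hc0]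
    rw [h1, map_one] at this
    exact one_ne_zero this
  have hres_ne : IsLocalRing.residue vL.valuationSubring w ≠ 0 := by
    rw [hres]
    intro h0
    exact hne ((algebraicIndependent_iff.mp hy) _ h0)
  have hvw : vL (w : L) = 1 := by
    have h1 : ¬ w ∈ IsLocalRing.maximalIdeal vL.valuationSubring := by
      rw [← IsLocalRing.residue_eq_zero_iff]; exact hres_ne
    rw [Valuation.mem_maximalIdeal_iff] at h1
    exact le_antisymm w.2 (not_lt.mp h1)
  refine ⟨c, hc0, ?_⟩
  rw [hG_eq, map_smul, haev, Algebra.smul_def, map_mul, hvw, mul_one]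

omit [vK.HasExtension vL] in
theorem mem_sup_of_val_eq (ξ : Lˣ) (k : Kˣ) (h : vL (ξ : L) = vL (algebraMap K L k)) :
    ξ ∈ vL.valuationSubring.unitGroup ⊔ (Units.map (algebraMap K L).toMonoidHom).range := by
  set k' : Lˣ := Units.map (algebraMap K L).toMonoidHom k with hk'
  have hξ : ξ = (ξ * k'⁻¹) * k' := by group
  rw [hξ]
  refine Subgroup.mul_mem_sup ?_ ⟨k, rfl⟩
  rw [Valuation.mem_unitGroup_iff]
  have hk'v : ((k' : Lˣ) : L) = algebraMap K L k := rfl
  have hne : vL (algebraMap K L k) ≠ 0 := by
    rw [← h]; exact (Valuation.ne_zero_iff vL).mpr ξ.ne_zero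
  rw [Units.val_mul, Units.val_inv_eq_inv_val, map_mul, map_inv₀, hk'v, h, mul_inv_cancel₀ hne]

theorem aeval_sum_eq {s t : Type u} (xL : s → L) (yL : t → L) (p : MvPolynomial (s ⊕ t) K) :
    aeval (Sum.elim xL yL) p =
      MvPolynomial.eval₂ ((aeval yL : MvPolynomial t K →ₐ[K] L) : MvPolynomial t K →+* L) xL
        (sumAlgEquiv K s t p) := by
  have : ((aeval (Sum.elim xL yL) : MvPolynomial (s ⊕ t) K →ₐ[K] L) : _ →+* L) =
      (MvPolynomial.eval₂Hom ((aeval yL : MvPolynomial t K →ₐ[K] L) : MvPolynomial t K →+* L) xL).comp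
        ((sumAlgEquiv K s t : _ ≃ₐ[K] _) : MvPolynomial (s ⊕ t) K →+* _) := by
    apply MvPolynomial.ringHom_ext
    · intro a
      simp
    · rintro (i | i)
      · simp
      · simp
  exact congrArg (fun φ => φ p) this

theorem algInd
    (s : Set (Additive Lˣ ⧸ Subgroup.toAddSubgroup
        (vL.valuationSubring.unitGroup ⊔ (Units.map (algebraMap K L).toMonoidHom).range)))
    (hs : LinearIndepOn ℤ id s)
    (t : Set (ResidueField vL.valuationSubring))
    (ht : AlgebraicIndepOn (ResidueField vK.valuationSubring) id t) :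
    #s + #t ≤ Algebra.trdeg K L := by
  classical
  have hx : ∀ q : s, ∃ x : Lˣ, (QuotientAddGroup.mk (Additive.ofMul x) :
      Additive Lˣ ⧸ Subgroup.toAddSubgroup
        (vL.valuationSubring.unitGroup ⊔ (Units.map (algebraMap K L).toMonoidHom).range)) = q.1 := by
    intro q
    obtain ⟨a, ha⟩ := QuotientAddGroup.mk_surjective q.1
    exact ⟨Additive.toMul a, ha⟩
  choose x hx using hx
  have hy : ∀ τ : t, ∃ y : vL.valuationSubring, IsLocalRing.residue vL.valuationSubring y = τ.1 :=
    fun τ => IsLocalRing.residue_surjective τ.1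
  choose y hy using hy
  have hyind : AlgebraicIndependent (ResidueField vK.valuationSubring)
      (fun i : t => IsLocalRing.residue vL.valuationSubring (y i)) := by
    have : (fun i : t => IsLocalRing.residue vL.valuationSubring (y i)) = fun i : t => id (i : ResidueField vL.valuationSubring) := by
      funext i; exact hy i
    rw [this]; exact ht
  set xL : s → L := fun q => ((x q : Lˣ) : L) with hxL
  set yL : t → L := fun τ => ((y τ : vL.valuationSubring) : L) with hyL
  have hxv : ∀ q, vL (xL q) ≠ 0 := fun q => (Valuation.ne_zero_iff vL).mpr (x q).ne_zero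
  have hind : AlgebraicIndependent K (Sum.elim xL yL) := by
    rw [algebraicIndependent_iff]
    intro p hp
    by_contra hp0
    set P' := sumAlgEquiv K s t p with hP'
    have hP'0 : P' ≠ 0 := by
      rw [hP']; exact (map_ne_zero_iff _ (sumAlgEquiv K s t).injective).mpr hp0
    rw [aeval_sum_eq, MvPolynomial.eval₂_eq] at hp
    have hsupp : P'.support.Nonempty := by
      rw [Finset.nonempty_iff_ne_empty, Ne, MvPolynomial.support_eq_empty]; exact hP'0
    have hgauss : ∀ a ∈ P'.support, ∃ c : K, c ≠ 0 ∧
        vL (aeval yL (coeff a P')) = vL (algebraMap K L c) := fun a ha =>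
      gauss vK vL y hyind (coeff a P') (MvPolynomial.mem_support_iff.mp ha)
    refine sum_ne_zero_of_distinct vL P'.support
      (fun a => ((aeval yL : MvPolynomial t K →ₐ[K] L) : MvPolynomial t K →+* L) (coeff a P') *
        ∏ i ∈ a.support, xL i ^ a i) hsupp ?_ ?_ hp
    · intro a ha
      obtain ⟨c, hc0, hvc⟩ := hgauss a ha
      apply mul_ne_zero
      · intro h0
        have : vL (aeval yL (coeff a P')) = 0 := by
          rw [show aeval yL (coeff a P') = 0 from h0, map_zero]
        rw [hvc, Valuation.zero_iff, map_eq_zero] at this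
        exact hc0 this
      · exact Finset.prod_ne_zero_iff.mpr fun i _ => pow_ne_zero _ (x i).ne_zero
    · intro a ha a' ha' hval
      obtain ⟨c, hc0, hvc⟩ := hgauss a ha
      obtain ⟨c', hc'0, hvc'⟩ := hgauss a' ha'
      simp only [map_mul, map_prod, map_pow] at hval
      have hvc2 : vL (((aeval yL : MvPolynomial t K →ₐ[K] L) : MvPolynomial t K →+* L) (coeff a P')) =
          vL (algebraMap K L c) := hvc
      have hvc2' : vL (((aeval yL : MvPolynomial t K →ₐ[K] L) : MvPolynomial t K →+* L) (coeff a' P')) =
          vL (algebraMap K L c') := hvc'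
      rw [hvc2, hvc2'] at hval
      set S := a.support ∪ a'.support with hS
      have hext : ∀ (b : s →₀ ℕ), b.support ⊆ S →
          ∏ i ∈ b.support, vL (xL i) ^ b i = ∏ i ∈ S, vL (xL i) ^ b i := by
        intro b hb
        apply Finset.prod_subset hb
        intro i _ hi
        rw [Finsupp.notMem_support_iff.mp hi, pow_zero]
      rw [hext a Finset.subset_union_left, hext a' Finset.subset_union_right] at hval
      set ξ : Lˣ := ∏ i ∈ S, (x i) ^ ((a i : ℤ) - (a' i : ℤ)) with hξ
      have hξv : vL (ξ : L) = (∏ i ∈ S, vL (xL i) ^ a i) / (∏ i ∈ S, vL (xL i) ^ a' i) := by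
        rw [hξ, Units.coe_prod, map_prod, ← Finset.prod_div_distrib]
        refine Finset.prod_congr rfl fun i _ => ?_
        rw [Units.val_zpow_eq_zpow_val, map_zpow₀, zpow_sub₀ (hxv i), zpow_natCast, zpow_natCast]
      have hA' : (∏ i ∈ S, vL (xL i) ^ a' i) ≠ 0 :=
        Finset.prod_ne_zero_iff.mpr fun i _ => pow_ne_zero _ (hxv i)
      have hcv : vL (algebraMap K L c) ≠ 0 := by
        rw [Valuation.ne_zero_iff, Ne, map_eq_zero]; exact hc0
      have hξv2 : vL (ξ : L) = vL (algebraMap K L ((Units.mk0 (c' / c) (div_ne_zero hc'0 hc0) : Kˣ) : K)) := by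
        rw [hξv, Units.val_mk0, map_div₀, map_div₀]
        rw [div_eq_div_iff hA' hcv]
        rw [mul_comm] at hval
        rw [hval]
      have hmem := mem_sup_of_val_eq vL ξ _ hξv2
      have hzero : (QuotientAddGroup.mk (Additive.ofMul ξ) :
          Additive Lˣ ⧸ Subgroup.toAddSubgroup
            (vL.valuationSubring.unitGroup ⊔ (Units.map (algebraMap K L).toMonoidHom).range)) = 0 := by
        rw [QuotientAddGroup.eq_zero_iff]
        exact hmem
      have hsum : ∑ i ∈ S, ((a i : ℤ) - (a' i : ℤ)) • (id (i : Additive Lˣ ⧸ Subgroup.toAddSubgroup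
          (vL.valuationSubring.unitGroup ⊔ (Units.map (algebraMap K L).toMonoidHom).range))) = 0 := by
        rw [← hzero, hξ, ofMul_prod, QuotientAddGroup.mk_sum]
        refine Finset.sum_congr rfl fun i _ => ?_
        rw [ofMul_zpow, QuotientAddGroup.mk_zsmul, hx i]
        rfl
      have hlin := linearIndependent_iff'.mp hs S (fun i => (a i : ℤ) - (a' i : ℤ)) hsum
      ext i
      by_cases hi : i ∈ S
      · have := hlin i hi
        omega
      · have h1 : i ∉ a.support := fun h => hi (Finset.mem_union_left _ h)
        have h2 : i ∉ a'.support := fun h => hi (Finset.mem_union_right _ h)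
        rw [Finsupp.notMem_support_iff.mp h1, Finsupp.notMem_support_iff.mp h2]
  have := hind.cardinalMk_le_trdeg
  rw [Cardinal.mk_sum, Cardinal.lift_id, Cardinal.lift_id] at this
  exact this

theorem main
    (vK : Valuation K Γ₀) (vL : Valuation L Γ₁) [vK.HasExtension vL] :
    Module.rank ℤ (Additive Lˣ ⧸ Subgroup.toAddSubgroup
        (vL.valuationSubring.unitGroup ⊔ (Units.map (algebraMap K L).toMonoidHom).range)) +
      Algebra.trdeg (IsLocalRing.ResidueField vK.valuationSubring)
        (IsLocalRing.ResidueField vL.valuationSubring) ≤ Algebra.trdeg K L := by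
  rw [Module.rank_def, Algebra.trdeg]
  haveI : Nonempty { s : Set (ResidueField vL.valuationSubring) //
      AlgebraicIndepOn (ResidueField vK.valuationSubring) id s } :=
    ⟨⟨∅, algebraicIndependent_empty_type_iff.mpr (FaithfulSMul.algebraMap_injective _ _)⟩⟩
  rw [Cardinal.ciSup_add_ciSup _ (Cardinal.bddAbove_range _) _ (Cardinal.bddAbove_range _)]
  refine ciSup_le' fun s => ciSup_le' fun t => ?_
  exact algInd vK vL s.1 s.2 t.1 t.2

end Helpers

/-- Let L/K be an extension of valued fields, i.e. v_L is a valuation on L whose restriction to K is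
equivalent to v_K. Write E for the rational rank of the quotient of value groups |L^×|/|K^×| — here
the rank of the abelian group L^× modulo the subgroup generated by the units of the valuation ring
of v_L and the image of K^× — and F for the transcendence degree of the residue field of v_L over
that of v_K. Then E + F ≤ tr.deg(L/K) (an inequality of cardinals). -/
theorem result
    {K L Γ₀ Γ₁ : Type u} [Field K] [Field L] [Algebra K L]
    [LinearOrderedCommGroupWithZero Γ₀] [LinearOrderedCommGroupWithZero Γ₁]
    (vK : Valuation K Γ₀) (vL : Valuation L Γ₁) [vK.HasExtension vL] :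
    Module.rank ℤ (Additive Lˣ ⧸ Subgroup.toAddSubgroup
        (vL.valuationSubring.unitGroup ⊔ (Units.map (algebraMap K L).toMonoidHom).range)) +
      Algebra.trdeg (IsLocalRing.ResidueField vK.valuationSubring)
        (IsLocalRing.ResidueField vL.valuationSubring) ≤ Algebra.trdeg K L := by
  exact main vK vL

end Groth.Agent.S14891
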