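import Groth.Statements.S14892
import Mathlib
import Groth.Agent.S14891

set_option autoImplicit false
universe u
open CAlg

namespace Groth.Agent.S14892

section Helpers

open Cardinal IsLocalRing

variable {K : Type u} [Field K] (A : ValuationSubring K)

/-- integers outside the prime `{m | v m < 1}` have valuation one; all have valuation a power
of a fixed `π` -/
theorem exists_pi : ∃ π : Kˣ, ∀ m : ℤ, (m : K) ≠ 0 → ∃ k : ℕ,
    A.valuation (m : K) = A.valuation (π : K) ^ k := by
  classical
  let φ : ℤ →+* A := Int.castRingHom A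
  have hφ : ∀ m : ℤ, ((φ m : A) : K) = (m : K) := fun m => by simp [φ]
  set I : Ideal ℤ := (maximalIdeal A).comap φ with hI
  haveI : I.IsPrime := Ideal.comap_isPrime φ _
  have hout : ∀ m : ℤ, m ∉ I → A.valuation (m : K) = 1 := by
    intro m hm
    have h1 : φ m ∉ maximalIdeal A := hm
    have h2 : IsUnit (φ m) := by
      by_contra h; exact h1 ((IsLocalRing.mem_maximalIdeal _).mpr h)
    have := (A.valuation_eq_one_iff (φ m)).mp h2
    rw [hφ] at this
    exact this
  by_cases hbot : I = ⊥
  · refine ⟨1, fun m hm => ⟨0, ?_⟩⟩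
    rw [pow_zero]
    apply hout
    rw [hbot, Ideal.mem_bot]
    intro h; rw [h] at hm; simp at hm
  · set g := Submodule.IsPrincipal.generator I with hg
    have hgprime : Prime g := Submodule.IsPrincipal.prime_generator_of_isPrime I hbot
    have hmemI : ∀ m : ℤ, m ∈ I ↔ g ∣ m := fun m => by
      rw [← Submodule.IsPrincipal.mem_iff_generator_dvd I]
    by_cases hgK : (g : K) = 0
    · refine ⟨1, fun m hm => ⟨0, ?_⟩⟩
      rw [pow_zero]
      apply hout
      rw [hmemI]
      rintro ⟨c, rfl⟩
      apply hm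
      push_cast
      rw [hgK, zero_mul]
    · refine ⟨Units.mk0 (g : K) hgK, fun m hm => ?_⟩
      have hm0 : m ≠ 0 := by
        intro h; rw [h] at hm; simp at hm
      have hfin : FiniteMultiplicity g m := by
        rw [Int.finiteMultiplicity_iff]
        refine ⟨?_, hm0⟩
        intro h1
        exact hgprime.not_unit (Int.isUnit_iff_natAbs_eq.mpr h1)
      obtain ⟨c, hc, hgc⟩ := hfin.exists_eq_pow_mul_and_not_dvd
      refine ⟨multiplicity g m, ?_⟩
      have hcI : c ∉ I := by rw [hmemI]; exact hgc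
      conv_lhs => rw [hc]
      push_cast
      rw [map_mul, map_pow, hout c hcI, mul_one]
      rfl

/-- every unit of the prime field has valuation a power of `π` -/
theorem exists_pi_bot : ∃ π : Kˣ, ∀ x : (⊥ : Subfield K), (x : K) ≠ 0 → ∃ e : ℤ,
    A.valuation (x : K) = A.valuation (π : K) ^ e := by
  obtain ⟨π, hπ⟩ := exists_pi A
  refine ⟨π, fun x hx => ?_⟩
  have hxmem : (x : K) ∈ Subfield.closure (∅ : Set K) := by
    rw [Subfield.closure_empty]; exact x.2
  rw [Subfield.mem_closure_iff] at hxmem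
  obtain ⟨y, hy, z, hz, hyz⟩ := hxmem
  rw [Subring.closure_empty, Subring.mem_bot] at hy hz
  obtain ⟨m₁, rfl⟩ := hy
  obtain ⟨m₂, rfl⟩ := hz
  have h2 : (m₂ : K) ≠ 0 := by
    intro h; rw [h, div_zero] at hyz; exact hx hyz.symm
  have h1 : (m₁ : K) ≠ 0 := by
    intro h; rw [h, zero_div] at hyz; exact hx hyz.symm
  obtain ⟨k₁, hk₁⟩ := hπ m₁ h1
  obtain ⟨k₂, hk₂⟩ := hπ m₂ h2
  refine ⟨(k₁ : ℤ) - k₂, ?_⟩
  have hπv : A.valuation (π : K) ≠ 0 := (Valuation.ne_zero_iff _).mpr π.ne_zero
  rw [← hyz, map_div₀, hk₁, hk₂, zpow_sub₀ hπv, zpow_natCast, zpow_natCast]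

/-- the unit group subgroup -/
noncomputable abbrev UU : Subgroup Kˣ := A.valuation.valuationSubring.unitGroup

/-- the image of the units of the prime field -/
abbrev PP : Subgroup Kˣ := (Units.map (algebraMap (⊥ : Subfield K) K).toMonoidHom).range

abbrev Q0 := Additive Kˣ ⧸ Subgroup.toAddSubgroup (UU A)

abbrev Q1 := Additive Kˣ ⧸ Subgroup.toAddSubgroup (UU A ⊔ PP (K := K))

theorem mk0_eq_zero_iff (w : Kˣ) :
    (QuotientAddGroup.mk (Additive.ofMul w) : Q0 A) = 0 ↔ A.valuation (w : K) = 1 := by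
  rw [QuotientAddGroup.eq_zero_iff]
  exact Valuation.mem_unitGroup_iff (v := A.valuation) (x := w)

/-- the canonical map `K^×/U → K^×/(U·P)` -/
noncomputable def fmap : Q0 A →ₗ[ℤ] Q1 A :=
  (QuotientAddGroup.map _ _ (AddMonoidHom.id (Additive Kˣ))
    (fun x hx => by
      show x ∈ Subgroup.toAddSubgroup (UU A ⊔ PP (K := K))
      exact (le_sup_left : UU A ≤ UU A ⊔ PP (K := K)) hx)).toIntLinearMap

theorem fmap_mk (w : Kˣ) : fmap A (QuotientAddGroup.mk (Additive.ofMul w)) =
    (QuotientAddGroup.mk (Additive.ofMul w) : Q1 A) := rfl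

theorem rank_Q0_le : Module.rank ℤ (Q0 A) ≤ Module.rank ℤ (Q1 A) + 1 := by
  obtain ⟨π, hπ⟩ := exists_pi_bot A
  rw [← LinearMap.rank_range_add_rank_ker (fmap A)]
  refine add_le_add (Submodule.rank_le _) ?_
  have hker : LinearMap.ker (fmap A) ≤
      Submodule.span ℤ {(QuotientAddGroup.mk (Additive.ofMul π) : Q0 A)} := by
    intro x hx
    obtain ⟨w', rfl⟩ := QuotientAddGroup.mk_surjective x
    obtain ⟨w, rfl⟩ : ∃ w : Kˣ, Additive.ofMul w = w' := ⟨Additive.toMul w', rfl⟩
    rw [LinearMap.mem_ker, fmap_mk, QuotientAddGroup.eq_zero_iff] at hx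
    have hx' : w ∈ UU A ⊔ PP (K := K) := hx
    rw [Subgroup.mem_sup] at hx'
    obtain ⟨u, hu, q, ⟨q₀, rfl⟩, rfl⟩ := hx'
    have hq₀ : ((q₀ : (⊥ : Subfield K)) : K) ≠ 0 := by
      have := q₀.ne_zero
      exact fun h => this (Subtype.ext h)
    obtain ⟨e, he⟩ := hπ (q₀ : (⊥ : Subfield K)) hq₀
    rw [Submodule.mem_span_singleton]
    refine ⟨e, ?_⟩
    rw [← QuotientAddGroup.mk_zsmul, ← ofMul_zpow, eq_comm, QuotientAddGroup.eq]
    show (Additive.ofMul _ : Additive Kˣ) ∈ Subgroup.toAddSubgroup (UU A)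
    have hu1 : A.valuation (u : K) = 1 := (Valuation.mem_unitGroup_iff (v := A.valuation) (x := u)).mp hu
    have hπv : A.valuation (π : K) ≠ 0 := (Valuation.ne_zero_iff _).mpr π.ne_zero
    show (u * Units.map (algebraMap (⊥ : Subfield K) K).toMonoidHom q₀)⁻¹ * π ^ e ∈ UU A
    rw [Valuation.mem_unitGroup_iff]
    rw [Units.val_mul, Units.val_inv_eq_inv_val, Units.val_mul, Units.val_zpow_eq_zpow_val,
      map_mul, map_inv₀, map_mul, map_zpow₀, hu1, one_mul]
    have : ((Units.map (algebraMap (⊥ : Subfield K) K).toMonoidHom q₀ : Kˣ) : K) =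
        ((q₀ : (⊥ : Subfield K)) : K) := rfl
    rw [this, he, inv_mul_cancel₀ (zpow_ne_zero _ hπv)]
  refine (Submodule.rank_mono hker).trans ?_
  refine (rank_span_le _).trans ?_
  simp

/-- a chain of primes of length `n` gives `n` independent elements of the value group -/
theorem length_le_rank (p : LTSeries (PrimeSpectrum A)) :
    (p.length : Cardinal.{u}) ≤ Module.rank ℤ (Q0 A) := by
  classical
  set n := p.length with hn
  have hstep : ∀ i : Fin n, ∃ a : A, a ∈ (p i.succ).asIdeal ∧ a ∉ (p i.castSucc).asIdeal := by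
    intro i
    have := p.step i
    exact SetLike.exists_of_lt ((PrimeSpectrum.asIdeal_lt_asIdeal _ _).mpr this)
  choose a ha1 ha2 using hstep
  have ha0 : ∀ i, ((a i : A) : K) ≠ 0 := by
    intro i h
    have : a i = 0 := Subtype.ext h
    exact ha2 i (this ▸ Ideal.zero_mem _)
  set u : Fin n → Kˣ := fun i => Units.mk0 ((a i : A) : K) (ha0 i) with hu
  have hmono : Monotone (fun i : Fin (n + 1) => (p i).asIdeal) := by
    intro i j hij
    exact (PrimeSpectrum.asIdeal_le_asIdeal _ _).mpr (p.monotone hij)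
  have hind : LinearIndependent ℤ
      (fun i : Fin n => (QuotientAddGroup.mk (Additive.ofMul (u i)) : Q0 A)) := by
    rw [Fintype.linearIndependent_iff]
    intro g hg
    by_contra hcon
    push_neg at hcon
    have hsum : ∑ i, g i • (QuotientAddGroup.mk (Additive.ofMul (u i)) : Q0 A) =
        QuotientAddGroup.mk (Additive.ofMul (∏ i, u i ^ g i)) := by
      rw [ofMul_prod, QuotientAddGroup.mk_sum]
      refine Finset.sum_congr rfl fun i _ => ?_
      rw [ofMul_zpow, QuotientAddGroup.mk_zsmul]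
    rw [hsum, mk0_eq_zero_iff] at hg
    -- X and Y
    set X : A := ∏ i, a i ^ (g i).toNat with hX
    set Y : A := ∏ i, a i ^ (- g i).toNat with hY
    set w : Kˣ := ∏ i, u i ^ g i with hw
    have hwA : (w : K) ∈ A := (A.valuation_le_one_iff _).mp hg.le
    have hrel : (X : K) = (w : K) * (Y : K) := by
      rw [hX, hY, hw]
      push_cast
      rw [← Finset.prod_mul_distrib]
      refine Finset.prod_congr rfl fun i _ => ?_
      have hui : ((u i : Kˣ) : K) = ((a i : A) : K) := rfl
      rw [hui]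
      have h0 := ha0 i
      rcases le_total 0 (g i) with h | h
      · have h1 : (- g i).toNat = 0 := by omega
        have h2 : ((g i).toNat : ℤ) = g i := Int.toNat_of_nonneg h
        rw [h1, pow_zero, mul_one, ← zpow_natCast, h2]
      · have h1 : (g i).toNat = 0 := by omega
        have h2 : ((- g i).toNat : ℤ) = - g i := Int.toNat_of_nonneg (by omega)
        rw [h1, pow_zero, ← zpow_natCast ((a i : A) : K) (- g i).toNat, h2, ← zpow_add₀ h0]
        simp
    have hrelA : X = (⟨(w : K), hwA⟩ : A) * Y := Subtype.ext (by simpa using hrel)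
    have hwunit : IsUnit (⟨(w : K), hwA⟩ : A) := by
      rw [A.valuation_eq_one_iff]; exact hg
    -- minimal index
    set S : Finset (Fin n) := Finset.univ.filter fun i => g i ≠ 0 with hS
    have hSne : S.Nonempty := by
      obtain ⟨i, hi⟩ := hcon
      exact ⟨i, by simp [hS, hi]⟩
    set i₀ := S.min' hSne with hi₀
    have hi₀S : g i₀ ≠ 0 := by
      have := Finset.min'_mem S hSne
      simpa [hS] using this
    set q := (p i₀.succ).asIdeal with hq
    haveI : q.IsPrime := (p i₀.succ).isPrime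
    have hnotin : ∀ i : Fin n, g i ≠ 0 → i ≠ i₀ → a i ∉ q := by
      intro i hgi hne hmem
      have hlt : i₀ < i := lt_of_le_of_ne (Finset.min'_le S i (by simp [hS, hgi])) (Ne.symm hne)
      have hle : i₀.succ ≤ i.castSucc := by
        rw [Fin.le_def]; simp only [Fin.val_succ, Fin.val_castSucc]; exact hlt
      exact ha2 i (hmono hle hmem)
    have hXq : ∀ (e : Fin n → ℕ), (∀ i, e i ≠ 0 → g i ≠ 0) → e i₀ = 0 →
        (∏ i, a i ^ e i) ∉ q := by
      intro e he he0 hmem
      rw [Ideal.IsPrime.prod_mem_iff] at hmem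
      obtain ⟨i, -, hi⟩ := hmem
      by_cases hei : e i = 0
      · rw [hei, pow_zero] at hi
        exact (Ideal.ne_top_iff_one q).mp (Ideal.IsPrime.ne_top inferInstance) hi
      · have hai : a i ∈ q := Ideal.IsPrime.mem_of_pow_mem inferInstance _ hi
        have hne : i ≠ i₀ := fun h => hei (h ▸ he0)
        exact hnotin i (he i hei) hne hai
    have hinq : ∀ (e : Fin n → ℕ), e i₀ ≠ 0 → (∏ i, a i ^ e i) ∈ q := by
      intro e he
      rw [Ideal.IsPrime.prod_mem_iff]
      refine ⟨i₀, Finset.mem_univ _, ?_⟩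
      exact Ideal.pow_mem_of_mem _ (ha1 i₀) _ (Nat.pos_of_ne_zero he)
    rcases lt_or_gt_of_ne hi₀S with hneg | hpos
    · -- g i₀ < 0 : Y ∈ q, X ∉ q
      have hY' : Y ∈ q := hinq _ (by omega)
      have hX' : X ∉ q := hXq _ (fun i hi => by omega) (by omega)
      exact hX' (hrelA ▸ Ideal.mul_mem_left _ _ hY')
    · have hX' : X ∈ q := hinq _ (by omega)
      have hY' : Y ∉ q := hXq _ (fun i hi => by omega) (by omega)
      rw [hrelA] at hX'
      rcases Ideal.IsPrime.mem_or_mem inferInstance hX' with h | h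
      · exact (Ideal.IsPrime.ne_top inferInstance) (Ideal.eq_top_of_isUnit_mem _ h hwunit)
      · exact hY' h
  have := hind.cardinal_lift_le_rank
  simpa using this

theorem main (K : Type u) [Field K] (A : ValuationSubring K) (d : ℕ)
    (hd : Algebra.trdeg (⊥ : Subfield K) K = d) :
    ringKrullDim A ≤ ((d + 1 : ℕ) : WithBot ℕ∞) := by
  unfold ringKrullDim Order.krullDim
  refine iSup_le fun p => ?_
  have h1 := length_le_rank A p
  have h2 := rank_Q0_le A
  letI vK : Valuation (⊥ : Subfield K) A.ValueGroup :=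
    A.valuation.comap (algebraMap (⊥ : Subfield K) K)
  haveI : vK.HasExtension A.valuation := ⟨Valuation.IsEquiv.refl⟩
  have h3 := Groth.Agent.S14891.result (K := (⊥ : Subfield K)) (L := K) vK A.valuation
  rw [hd] at h3
  have h4 : Module.rank ℤ (Q1 A) ≤ (d : Cardinal.{u}) := le_trans (self_le_add_right _ _) h3
  have h5 : (p.length : Cardinal.{u}) ≤ ((d + 1 : ℕ) : Cardinal.{u}) := by
    push_cast
    exact h1.trans (h2.trans (by gcongr))
  have h6 : p.length ≤ d + 1 := by exact_mod_cast h5
  exact_mod_cast h6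

end Helpers

/-- If the field K has finite transcendence degree d over its prime subfield, then every valuation
subring of K has height (Krull dimension) at most d + 1. -/
theorem result
    (K : Type u) [Field K] (A : ValuationSubring K) (d : ℕ)
    (hd : Algebra.trdeg (⊥ : Subfield K) K = d) :
    ringKrullDim A ≤ ((d + 1 : ℕ) : WithBot ℕ∞) := by
  exact main K A d hd

end Groth.Agent.S14892
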