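import Groth.Statements.S15634
import Mathlib

set_option autoImplicit false
universe u
open SchFin SchFin.RSpace

namespace Groth.Agent.S15634

open SchFin TensorProduct

/-- the 0-chain at a point -/
def pointChain {X : RSpace.{u}} {U : Set X.pt} (p : U) : Chain U 0 :=
  OrderEmbedding.ofMapLEIff (fun _ => p) (fun a b => by
    have hab : a = b := by
      have ha := a.isLt
      have hb := b.isLt
      apply Fin.ext
      omega
    simp [hab])

/-- the constant-family cochain attached to `b` in the ring of `x'`, over a set of points above `x'` -/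
def constCochain {X : RSpace.{u}} {U : Set X.pt} {R : Type u} [CommRing R] (φ : Coef X U R)
    (x' : X.pt) (hU : ∀ q ∈ U, x' ≤ q) (b : X.ring x') : Cochain φ X.str 0 :=
  fun σ => X.res (hU _ (σ (Fin.last 0)).2) b

theorem constCochain_mem {X : RSpace.{u}} {U : Set X.pt} {R : Type u} [CommRing R] (φ : Coef X U R)
    (x' : X.pt) (hU : ∀ q ∈ U, x' ≤ q) (b : X.ring x') :
    constCochain φ x' hU b ∈ cocycles φ X.str 0 := by
  show diff φ X.str 0 (constCochain φ x' hU b) = 0
  funext τ
  show (∑ j : Fin 2, ((-1 : ℤ) ^ (j : ℕ)) • (constCochain φ x' hU b).faceVal τ j) = 0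
  have key : ∀ j : Fin 2, (constCochain φ x' hU b).faceVal τ j =
      X.res (hU _ (τ (Fin.last 1)).2) b := by
    intro j
    exact X.res_comp _ _ b
  rw [Fin.sum_univ_two, key, key]
  simp

open SchFin in
/-- In a schematic finite space the restriction maps of rings along x ≤ y are epimorphisms of rings: two
ring maps out of the ring of y into a commutative ring which agree after composition with the
restriction map from the ring of x are equal. (The published statement also asserts flatness of the
restriction maps, which here is part of the standing finite-space condition, and a second clause for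
affine spaces recalled without proof; only the epimorphism clause, the degree-zero case of the
schematic condition, is stated.) -/
theorem result (X : RSpace.{u}) (hX : X.IsSchematic) {x y : X.pt} (h : x ≤ y)
    {T : Type u} [CommRing T] (g₁ g₂ : X.ring y →+* T) (hg : g₁.comp (X.res h) = g₂.comp (X.res h)) :
    g₁ = g₂ := by
  classical
  obtain ⟨_, _, hall⟩ := hX
  have hbc := (hall 0 x y h y y (le_refl y)).1
  -- notation
  set U : Set X.pt := (Hom.id X).wedge x y with hUdef
  set U' : Set X.pt := (Hom.id X).wedge y y with hU'def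
  have hU : ∀ q ∈ U, y ≤ q := fun q hq => hq.2
  have hU' : ∀ q ∈ U', y ≤ q := fun q hq => hq.2
  set φ : Coef X U (X.ring x) := Coef.ofLE x U ((Hom.id X).wedge_subset_up x y) with hφ
  set φ' : Coef X U' (X.ring y) := Coef.ofLE y U' ((Hom.id X).wedge_subset_up y y) with hφ'
  unfold IsBCAlong at hbc
  letI : Algebra (X.ring x) (X.ring y) := (X.res h).toAlgebra
  letI : Module (X.ring x) (H φ' X.str 0) := Module.compHom (H φ' X.str 0) (X.res h)
  haveI : IsScalarTower (X.ring x) (X.ring y) (H φ' X.str 0) :=
    IsScalarTower.of_algebraMap_smul fun _ _ => rfl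
  have hinj : ∀ (s₁ s₂ : X.ring y) (m₁ m₂ : H φ X.str 0),
      s₁ • resH X.str ((Hom.id X).subSrc h y) 0 m₁ = s₂ • resH X.str ((Hom.id X).subSrc h y) 0 m₂ →
      s₁ ⊗ₜ[X.ring x] m₁ = s₂ ⊗ₜ[X.ring x] m₂ := by
    intro s₁ s₂ m₁ m₂ hh
    apply hbc.equiv.injective
    rw [IsBaseChange.equiv_tmul, IsBaseChange.equiv_tmul]
    exact hh
  -- classes of constant families
  let mb : X.ring y → H φ X.str 0 := fun b =>
    H.mk φ X.str 0 ⟨constCochain φ y hU b, constCochain_mem φ y hU b⟩
  let mb' : X.ring y → H φ' X.str 0 := fun b =>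
    H.mk φ' X.str 0 ⟨constCochain φ' y hU' b, constCochain_mem φ' y hU' b⟩
  have hres : ∀ b, resH X.str ((Hom.id X).subSrc h y) 0 (mb b) = mb' b := fun b => rfl
  have hsmul : ∀ b : X.ring y, b • mb' 1 = mb' b := by
    intro b
    show b • H.mk φ' X.str 0 _ = H.mk φ' X.str 0 _
    rw [← map_smul]
    congr 1
    apply Subtype.ext
    funext σ
    show X.res (hU' _ (σ (Fin.last 0)).2) b * X.res (hU' _ (σ (Fin.last 0)).2) 1 =
      X.res (hU' _ (σ (Fin.last 0)).2) b
    rw [map_one, mul_one]
  -- the evaluation at `y`
  let p₀ : U := ⟨y, ⟨h, le_refl y⟩⟩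
  let evlin : ↥(cocycles φ X.str 0) →ₗ[X.ring x] X.ring y :=
    { toFun := fun c => c.1 (pointChain p₀)
      map_add' := fun c c' => rfl
      map_smul' := fun a c => rfl }
  have hle : (cobdry φ X.str 0).comap (cocycles φ X.str 0).subtype ≤ LinearMap.ker evlin := by
    intro c hc
    have hc0 : c.1 = 0 := by
      have : c.1 ∈ (⊥ : Submodule (X.ring x) (Cochain φ X.str 0)) := hc
      simpa using this
    show c.1 (pointChain p₀) = 0
    rw [hc0]
    rfl
  let ev : H φ X.str 0 →ₗ[X.ring x] X.ring y := Submodule.liftQ _ evlin hle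
  have hev : ∀ b, ev (mb b) = b := by
    intro b
    show X.res _ b = b
    exact X.res_self y b
  have hevsmul : ∀ (r : X.ring x) (m : H φ X.str 0), ev (r • m) = X.res h r * ev m := by
    intro r m
    rw [map_smul]
    rfl
  let F : X.ring y →+ H φ X.str 0 →+ T :=
    ((AddMonoidHom.mul (R := T)).comp g₁.toAddMonoidHom).compl₂
      (g₂.toAddMonoidHom.comp ev.toAddMonoidHom)
  have hF : ∀ a m, F a m = g₁ a * g₂ (ev m) := fun a m => rfl
  have hbal : ∀ (r : X.ring x) (a : X.ring y) (m : H φ X.str 0), F (r • a) m = F a (r • m) := by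
    intro r a m
    rw [hF, hF, hevsmul]
    have h1 : r • a = X.res h r * a := rfl
    have h2 : g₁ (X.res h r) = g₂ (X.res h r) := RingHom.congr_fun hg r
    rw [h1, map_mul, map_mul, h2]
    ring
  ext b
  have key := hinj b 1 (mb 1) (mb b) (by rw [hres, hres, hsmul, one_smul])
  have key2 := congrArg (TensorProduct.liftAddHom F hbal) key
  rw [TensorProduct.liftAddHom_tmul, TensorProduct.liftAddHom_tmul, hF, hF, hev, hev] at key2
  simpa using key2

end Groth.Agent.S15634
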