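import Groth.Statements.S15734
import Mathlib
import Groth.Agent.Lib.helper23.HJ

set_option autoImplicit false
open W4c2invhilbsl2

namespace Groth.Agent.S15734

/-- Let 0 < p < q be coprime integers and m ≥ 1 such that q − p does not divide m; put g = gcd(m, q−p),
b = (q−p)/g, α = ⌊mp/(q−p)⌋, β = the remainder of mp modulo q−p and t = (q−p−β)/g, so that 1 ≤ t <
b, and let b/t = c₁ − 1/(c₂ − 1/(⋯ − 1/c_r)) be the negative-regular (Hirzebruch–Jung) continued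
fraction expansion with every cᵢ ≥ 2; set P₀ = 0, P₁ = 1, Q₀ = −1, Q₁ = 0, Pᵢ = cᵢ₋₁Pᵢ₋₁ − Pᵢ₋₂, Qᵢ
= cᵢ₋₁Qᵢ₋₁ − Qᵢ₋₂ for 2 ≤ i ≤ r+1, and eᵢ = (α+1+m)Pᵢ − Qᵢ, lᵢ = (α+1)Pᵢ − Qᵢ, nᵢ = q·lᵢ − p·eᵢ,
which are non-negative integers for 0 ≤ i ≤ r+1; moreover g divides every nᵢ, and write tᵢ = nᵢ/g
(so t₁ = t). Then (a) for every 1 ≤ i ≤ r the remainder of t·Pᵢ on division by b equals tᵢ, and (b)
for every 1 < i ≤ r and every integer x with 0 < x < Pᵢ the remainder ρ of t·x on division by b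
satisfies tᵢ₋₁ ≤ ρ ≤ b + tᵢ − tᵢ₋₁. -/
theorem result (p q m : ℕ) (hp : 0 < p) (hpq : p < q) (hcop : Nat.Coprime p q) (hm : 0 < m) (hnt : ¬ (q - p ∣ m)) (c : List ℤ) (hc : W4c2invhilbsl2.IsHJDigits p q m c) :
    (∀ i : ℕ, 1 ≤ i → i ≤ c.length →
      Int.emod ((W4c2invhilbsl2.tT p q m : ℤ) * W4c2invhilbsl2.hjP c i) (W4c2invhilbsl2.bB p q m : ℤ) = W4c2invhilbsl2.nN p q m c i / (W4c2invhilbsl2.gcdK p q m : ℤ)) ∧
    (∀ i : ℕ, 1 < i → i ≤ c.length → ∀ x : ℤ, 0 < x → x < W4c2invhilbsl2.hjP c i →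
      W4c2invhilbsl2.nN p q m c (i - 1) / (W4c2invhilbsl2.gcdK p q m : ℤ) ≤ Int.emod ((W4c2invhilbsl2.tT p q m : ℤ) * x) (W4c2invhilbsl2.bB p q m : ℤ) ∧
      Int.emod ((W4c2invhilbsl2.tT p q m : ℤ) * x) (W4c2invhilbsl2.bB p q m : ℤ) ≤
        (W4c2invhilbsl2.bB p q m : ℤ) + W4c2invhilbsl2.nN p q m c i / (W4c2invhilbsl2.gcdK p q m : ℤ) - W4c2invhilbsl2.nN p q m c (i - 1) / (W4c2invhilbsl2.gcdK p q m : ℤ)) := by
  obtain ⟨hc2, hval⟩ := hc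
  obtain ⟨hg, ht, htb, hcopZ, hgb, hn⟩ := Groth.Agent.Lib.helper23.HJ.bridgeZ p q m hpq hcop hm hnt
  have hb : 0 < (W4c2invhilbsl2.bB p q m : ℤ) := lt_trans ht htb
  have hval' : HJFrac.hjVal c = (((W4c2invhilbsl2.bB p q m : ℤ)) : ℚ) / (((W4c2invhilbsl2.tT p q m : ℤ)) : ℚ) := by
    push_cast; exact hval
  have hdiv : ∀ i, W4c2invhilbsl2.nN p q m c i / (W4c2invhilbsl2.gcdK p q m : ℤ) =
      Groth.Agent.Lib.helper23.HJ.tS (W4c2invhilbsl2.bB p q m : ℤ) (W4c2invhilbsl2.tT p q m : ℤ) c i := by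
    intro i
    rw [hn c i, Int.mul_ediv_cancel_left _ hg.ne']
  have hpos := Groth.Agent.Lib.helper23.HJ.tS_pos _ _ c hc2 hval' hb
  have hlt := Groth.Agent.Lib.helper23.HJ.tS_lt _ _ c hc2 hval' hb
  have hmono := Groth.Agent.Lib.helper23.HJ.hjP_mono c hc2
  -- tS i ≤ tS 1 = t for 1 ≤ i ≤ r
  have hle : ∀ i, 1 ≤ i → i ≤ c.length →
      Groth.Agent.Lib.helper23.HJ.tS (W4c2invhilbsl2.bB p q m : ℤ) (W4c2invhilbsl2.tT p q m : ℤ) c i ≤
        (W4c2invhilbsl2.tT p q m : ℤ) := by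
    intro i hi1
    induction i, hi1 using Nat.le_induction with
    | base => intro _; rw [Groth.Agent.Lib.helper23.HJ.tS_one]
    | succ i hi1 ih =>
      intro hi
      exact le_trans (hlt i (by omega)).le (ih (by omega))
  constructor
  · intro i hi1 hir
    rw [hdiv]
    have e : (W4c2invhilbsl2.tT p q m : ℤ) * W4c2invhilbsl2.hjP c i =
        Groth.Agent.Lib.helper23.HJ.tS (W4c2invhilbsl2.bB p q m : ℤ) (W4c2invhilbsl2.tT p q m : ℤ) c i +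
          (W4c2invhilbsl2.bB p q m : ℤ) * W4c2invhilbsl2.hjQ c i := by
      unfold Groth.Agent.Lib.helper23.HJ.tS; ring
    show ((W4c2invhilbsl2.tT p q m : ℤ) * W4c2invhilbsl2.hjP c i) % (W4c2invhilbsl2.bB p q m : ℤ) = _
    rw [e, Int.add_mul_emod_self_left]
    exact Int.emod_eq_of_lt (hpos i hir).le (lt_of_le_of_lt (hle i hi1 hir) htb)
  · intro i hi1 hir x hx0 hx
    obtain ⟨j, rfl⟩ : ∃ j, i = j + 2 := ⟨i - 2, by omega⟩
    have e2 : j + 2 - 1 = j + 1 := by omega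
    rw [e2, hdiv, hdiv]
    show _ ≤ ((W4c2invhilbsl2.tT p q m : ℤ) * x) % (W4c2invhilbsl2.bB p q m : ℤ) ∧
      ((W4c2invhilbsl2.tT p q m : ℤ) * x) % (W4c2invhilbsl2.bB p q m : ℤ) ≤ _
    have hρ0 := Int.emod_nonneg ((W4c2invhilbsl2.tT p q m : ℤ) * x) hb.ne'
    have hρb := Int.emod_lt_of_pos ((W4c2invhilbsl2.tT p q m : ℤ) * x) hb
    have hρe : ((W4c2invhilbsl2.tT p q m : ℤ) * x) % (W4c2invhilbsl2.bB p q m : ℤ) =
        (W4c2invhilbsl2.tT p q m : ℤ) * x - (W4c2invhilbsl2.bB p q m : ℤ) *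
          (((W4c2invhilbsl2.tT p q m : ℤ) * x) / (W4c2invhilbsl2.bB p q m : ℤ)) := by
      have := Int.emod_add_mul_ediv ((W4c2invhilbsl2.tT p q m : ℤ) * x) (W4c2invhilbsl2.bB p q m : ℤ)
      linarith
    have hdet := Groth.Agent.Lib.helper23.HJ.det_PQ c (j + 1)
    have hP0 : 0 < W4c2invhilbsl2.hjP c (j + 1) := lt_of_le_of_lt (hmono j (by omega)).1 (hmono j (by omega)).2
    have hPP : W4c2invhilbsl2.hjP c (j + 1) < W4c2invhilbsl2.hjP c (j + 2) := (hmono (j + 1) (by omega)).2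
    have ht1 := (hpos (j + 2) hir).le
    have htt := hlt (j + 1) (by omega)
    constructor
    · rw [hρe] at hρ0 ⊢
      exact Groth.Agent.Lib.helper23.HJ.lattice _ _ _ _ _ _ _ _ x _ hdet rfl rfl hP0 hPP ht1 htt hx0 hx hρ0
    · have key := Groth.Agent.Lib.helper23.HJ.lattice (W4c2invhilbsl2.hjP c (j + 1)) (W4c2invhilbsl2.hjP c (j + 2))
        (W4c2invhilbsl2.hjQ c (j + 1)) (W4c2invhilbsl2.hjQ c (j + 2))
        (W4c2invhilbsl2.tT p q m : ℤ) (W4c2invhilbsl2.bB p q m : ℤ) _ _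
        (W4c2invhilbsl2.hjP c (j + 2) - x)
        (W4c2invhilbsl2.hjQ c (j + 2) - ((W4c2invhilbsl2.tT p q m : ℤ) * x) / (W4c2invhilbsl2.bB p q m : ℤ) - 1)
        hdet rfl rfl hP0 hPP ht1 htt (by omega) (by omega) ?_
      · rw [hρe]
        unfold Groth.Agent.Lib.helper23.HJ.tS at key ⊢
        linarith
      · rw [hρe] at hρ0 hρb
        unfold Groth.Agent.Lib.helper23.HJ.tS at ht1
        linarith

end Groth.Agent.S15734
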