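import Groth.Statements.S15586
import Mathlib

set_option autoImplicit false
universe u v w
open scoped TensorProduct
open RInv

namespace Groth.Agent.S15586

/-- Let `R` be a commutative ring with an involution `lam` and fixed ring `S`, and let `S'` be a
commutative `S`-algebra. If `S'` is flat over `S`, or if `2` is invertible in `S`, then `S'` is the
fixed ring of the base-changed involution `id ⊗ lam` of `S' ⊗_S R`: the structure map `S' → S' ⊗_S
R` is injective with image the fixed elements. (In general the fixed ring does not commute with base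
change.) -/
theorem result (S : Type u) (R : Type v) (S' : Type w)
    [CommRing S] [CommRing R] [Algebra S R] [CommRing S'] [Algebra S S']
    (lam : R ≃ₐ[S] R) (hlam : Function.Involutive lam)
    (hS : RInv.IsFixedRing S R lam.toRingEquiv)
    (h : Module.Flat S S' ∨ IsUnit (2 : S)) :
    RInv.IsFixedRing S' (S' ⊗[S] R)
      (Algebra.TensorProduct.congr (AlgEquiv.refl : S' ≃ₐ[S] S') lam).toRingEquiv := by
  classical
  have hcongr : ∀ x : S' ⊗[S] R,
      (Algebra.TensorProduct.congr (AlgEquiv.refl : S' ≃ₐ[S] S') lam) x =
        (lam.toLinearMap.lTensor S') x := by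
    intro x
    induction x using TensorProduct.induction_on with
    | zero => simp
    | tmul a b => simp
    | add a b ha hb => simp only [map_add, ha, hb]
  have hrange : ∀ x : S' ⊗[S] R, x ∈ Set.range (algebraMap S' (S' ⊗[S] R)) ↔
      x ∈ LinearMap.range ((Algebra.linearMap S R).lTensor S') := by
    intro x
    constructor
    · rintro ⟨s', rfl⟩
      exact ⟨s' ⊗ₜ 1, by simp [Algebra.TensorProduct.algebraMap_apply]⟩
    · rintro ⟨y, rfl⟩
      refine ⟨TensorProduct.rid S S' y, ?_⟩
      induction y using TensorProduct.induction_on with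
      | zero => simp
      | tmul a b =>
        simp [Algebra.TensorProduct.algebraMap_apply]
        rw [Algebra.algebraMap_eq_smul_one, TensorProduct.smul_tmul]
      | add a b ha hb => simp only [map_add, ha, hb]
  -- range elements are fixed
  have hfix : ∀ s' : S', (Algebra.TensorProduct.congr (AlgEquiv.refl : S' ≃ₐ[S] S') lam)
      (algebraMap S' (S' ⊗[S] R) s') = algebraMap S' (S' ⊗[S] R) s' := by
    intro s'
    simp [Algebra.TensorProduct.algebraMap_apply]
  -- the exactness of `S → R → R`
  have hex : Function.Exact (Algebra.linearMap S R) (lam.toLinearMap - (LinearMap.id : R →ₗ[S] R)) := by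
    intro r
    rw [LinearMap.sub_apply, sub_eq_zero]
    exact hS.2 r
  rcases h with hflat | h2
  · have hex' := Module.Flat.lTensor_exact S' hex
    refine ⟨?_, fun x => ⟨fun hx => ?_, ?_⟩⟩
    · have hinj := Module.Flat.lTensor_preserves_injective_linearMap (R := S) (M := S')
        (Algebra.linearMap S R) hS.1
      intro a b hab
      have : ((Algebra.linearMap S R).lTensor S') (a ⊗ₜ 1) =
          ((Algebra.linearMap S R).lTensor S') (b ⊗ₜ 1) := by
        simpa [Algebra.TensorProduct.algebraMap_apply] using hab
      have h2 := hinj this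
      have h3 := congrArg (TensorProduct.rid S S') h2
      simpa using h3
    · rw [hrange]
      rw [LinearMap.mem_range]
      refine (hex' x).1 ?_
      have hx' : (Algebra.TensorProduct.congr (AlgEquiv.refl : S' ≃ₐ[S] S') lam) x = x := hx
      rw [LinearMap.lTensor_sub, LinearMap.sub_apply, ← hcongr, hx']
      simp
    · rintro ⟨s', rfl⟩
      exact hfix s'
  · have htr : ∀ r : R, ∃ s : S, algebraMap S R s = r + lam r := by
      intro r
      have : lam.toRingEquiv (r + lam r) = r + lam r := by
        show lam (r + lam r) = r + lam r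
        rw [map_add, hlam r, add_comm]
      obtain ⟨s, hs⟩ := (hS.2 _).1 this
      exact ⟨s, hs⟩
    choose τ hτ using htr
    have τadd : ∀ a b, τ (a + b) = τ a + τ b := fun a b => hS.1 (by
      rw [map_add, hτ, hτ, hτ, map_add]; ring)
    have τsmul : ∀ (c : S) a, τ (c • a) = c • τ a := fun c a => hS.1 (by
      rw [hτ, smul_eq_mul, map_mul, hτ, map_smul, Algebra.smul_def, Algebra.smul_def]; ring)
    let τl : R →ₗ[S] S := { toFun := τ, map_add' := τadd, map_smul' := τsmul }
    obtain ⟨u, hu⟩ := h2.exists_left_inv
    have hcomp : (Algebra.linearMap S R) ∘ₗ τl = LinearMap.id + lam.toLinearMap := by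
      ext r
      simp [τl, hτ]
    have hcomp2 : τl ∘ₗ (Algebra.linearMap S R) = (2 : S) • (LinearMap.id : S →ₗ[S] S) := by
      ext
      apply hS.1
      simp [τl, hτ]
      rw [map_ofNat]
      ring
    refine ⟨?_, fun x => ⟨fun hx => ?_, ?_⟩⟩
    · intro a b hab
      have h1 : ((Algebra.linearMap S R).lTensor S') (a ⊗ₜ 1) =
          ((Algebra.linearMap S R).lTensor S') (b ⊗ₜ 1) := by
        simpa [Algebra.TensorProduct.algebraMap_apply] using hab
      have h2' := congrArg (τl.lTensor S') h1
      rw [← LinearMap.comp_apply, ← LinearMap.comp_apply, ← LinearMap.lTensor_comp, hcomp2] at h2'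
      have h3 := congrArg (TensorProduct.rid S S') h2'
      simp at h3
      have h4 := congrArg (fun z => u • z) h3
      simp only [smul_smul, hu, one_smul] at h4
      exact h4
    · rw [hrange]
      have hx' : (Algebra.TensorProduct.congr (AlgEquiv.refl : S' ≃ₐ[S] S') lam) x = x := hx
      refine ⟨u • (τl.lTensor S') x, ?_⟩
      rw [map_smul, ← LinearMap.comp_apply, ← LinearMap.lTensor_comp, hcomp, LinearMap.lTensor_add,
        LinearMap.add_apply, ← hcongr, hx', LinearMap.lTensor_id, LinearMap.id_apply,
        ← two_smul S x, smul_smul, hu, one_smul]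
    · rintro ⟨s', rfl⟩
      exact hfix s'


end Groth.Agent.S15586
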