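import Groth.Statements.S7596
import Mathlib.AlgebraicGeometry.Geometrically.Irreducible
import Mathlib.AlgebraicGeometry.PullbackCarrier
import Mathlib.AlgebraicGeometry.Stalk
import Mathlib.Tactic

set_option autoImplicit false
universe u
open CategoryTheory CategoryTheory.Limits AlgebraicGeometry
open Variety

namespace Groth.Agent.S7596


/-- the composite `Spec κ(x) → X → Spec k` is `Spec` of the residue map -/
theorem comp_eq_SpecMap_resMap (k : Type u) [Field k] (X : Scheme.{u})
    [X.Over (Spec (CommRingCat.of k))] (x : X) :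
    X.fromSpecResidueField x ≫ (X ↘ (Spec (CommRingCat.of k))) =
      Spec.map (CommRingCat.ofHom (Curv2.resMap k X x)) := by
  have h1 : (X ↘ (Spec (CommRingCat.of k))) = X.toSpecΓ ≫
      Spec.map ((Scheme.ΓSpecIso (CommRingCat.of k)).inv ≫ (X ↘ (Spec (CommRingCat.of k))).appTop) := by
    have := Scheme.toSpecΓ_naturality (X ↘ (Spec (CommRingCat.of k)))
    have h3 : (Spec (CommRingCat.of k)).toSpecΓ =
        Spec.map (Scheme.ΓSpecIso (CommRingCat.of k)).hom := by
      rw [← Scheme.isoSpec_Spec_hom]; rfl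
    rw [h3] at this
    rw [Spec.map_comp, ← Category.assoc, ← this, Category.assoc, ← Spec.map_comp,
      Iso.inv_hom_id, Spec.map_id, Category.comp_id]
  rw [h1, Scheme.fromSpecResidueField, Category.assoc, Scheme.fromSpecStalk_toSpecΓ_assoc,
    ← Spec.map_comp, ← Spec.map_comp]
  rfl

theorem fibre_subsingleton (k : Type u) [Field k] (X : Scheme.{u})
    [X.Over (Spec (CommRingCat.of k))] (K : Type u) [Field K] [Algebra k K] (x : X)
    (hx : Function.Surjective (Curv2.resMap k X x)) :
    ((Curv2.bcFst k X K).base ⁻¹' {x}).Subsingleton := by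
  let σ := X.fromSpecResidueField x
  let f := (X ↘ (Spec (CommRingCat.of k)))
  let ψ := Spec.map (CommRingCat.ofHom (algebraMap k K))
  have hθ : IsIso (σ ≫ f) := by
    rw [comp_eq_SpecMap_resMap]
    have hbij : Function.Bijective (Curv2.resMap k X x) := ⟨RingHom.injective _, hx⟩
    have : IsIso (CommRingCat.ofHom (Curv2.resMap k X x)) := by
      rw [ConcreteCategory.isIso_iff_bijective]
      exact hbij
    infer_instance
  have e1 : pullback σ (pullback.fst f ψ) ≅ pullback (σ ≫ f) ψ :=
    pullbackRightPullbackFstIso f ψ σ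
  have hiso : IsIso (pullback.snd (σ ≫ f) ψ) := inferInstance
  let e2 : pullback σ (pullback.fst f ψ) ≅ Spec (CommRingCat.of K) :=
    e1 ≪≫ asIso (pullback.snd (σ ≫ f) ψ)
  have hsub : Subsingleton ↥(pullback σ (pullback.fst f ψ)) := by
    refine ⟨fun a b => ?_⟩
    have h1 : e2.hom a = e2.hom b := Subsingleton.elim (α := PrimeSpectrum K) _ _
    have := congrArg (fun z => e2.inv z) h1
    simpa [← Scheme.Hom.comp_apply] using this
  have hr : (Curv2.bcFst k X K).base ⁻¹' {x} = Set.range (pullback.snd σ (pullback.fst f ψ)) := by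
    rw [Scheme.Pullback.range_snd, Scheme.range_fromSpecResidueField]
  rw [hr]
  rintro _ ⟨a, rfl⟩ _ ⟨b, rfl⟩
  rw [Subsingleton.elim a b]

/-- Let X be an irreducible scheme over a field k whose k-rational points (points x at which k → κ(x) is
onto) form a dense subset. Then X is geometrically irreducible over k. -/
theorem result (k : Type u) [Field k] (X : Scheme.{u}) [X.Over (Spec (CommRingCat.of k))] [IrreducibleSpace ↥X]
    (hd : Dense {x : ↥X | Function.Surjective (Curv2.resMap k X x)}) :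
    GeometricallyIrreducible (X ↘ (Spec (CommRingCat.of k))) := by
  rw [geometricallyIrreducible_iff,
    geometrically_iff_of_commRing_of_isClosedUnderIsomorphisms]
  intro K _ _
  let π := Curv2.bcFst k X K
  haveI : UniversallyOpen (Spec.map (CommRingCat.ofHom (algebraMap k K))) := inferInstance
  have hπopen : IsOpenMap π := (inferInstance : UniversallyOpen π).1 |> fun _ => π.isOpenMap
  haveI : Surjective (Spec.map (CommRingCat.ofHom (algebraMap k K))) := by
    constructor
    intro y
    exact ⟨default, Subsingleton.elim (α := PrimeSpectrum k) _ _⟩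
  have hπsurj : Function.Surjective π := π.surjective
  have hne : Nonempty ↥(Curv2.bc k X K) := by
    obtain ⟨x⟩ := (inferInstance : Nonempty X)
    obtain ⟨y, _⟩ := hπsurj x
    exact ⟨y⟩
  refine @IrreducibleSpace.mk _ _ ⟨?_⟩ hne
  rw [isPreirreducible_iff_isClosed_union_isClosed]
  intro Z₁ Z₂ hZ₁ hZ₂ hcov
  by_contra hcon
  push Not at hcon
  obtain ⟨h1, h2⟩ := hcon
  obtain ⟨y₁, -, hy₁⟩ := Set.not_subset.mp h1
  obtain ⟨y₂, -, hy₂⟩ := Set.not_subset.mp h2
  have hU₁ : IsOpen (π '' Z₁ᶜ) := hπopen _ hZ₁.isOpen_compl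
  have hU₂ : IsOpen (π '' Z₂ᶜ) := hπopen _ hZ₂.isOpen_compl
  have hne₁ : (π '' Z₁ᶜ).Nonempty := ⟨_, y₁, hy₁, rfl⟩
  have hne₂ : (π '' Z₂ᶜ).Nonempty := ⟨_, y₂, hy₂, rfl⟩
  have hinter := nonempty_preirreducible_inter hU₁ hU₂ hne₁ hne₂
  obtain ⟨x, hxmem, hxrat⟩ := hd.inter_open_nonempty _ (hU₁.inter hU₂) hinter
  obtain ⟨⟨a, ha, hax⟩, ⟨b, hb, hbx⟩⟩ := hxmem
  have hab : a = b := fibre_subsingleton k X K x hxrat hax hbx
  subst hab
  rcases hcov (Set.mem_univ a) with h | h
  · exact ha h
  · exact hb h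

end Groth.Agent.S7596
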