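import Groth.Statements.S19589
import Mathlib.Algebra.Azumaya.Basic
import Mathlib.LinearAlgebra.Contraction
import Mathlib.LinearAlgebra.Dual.Lemmas
import Mathlib.RingTheory.TensorProduct.Finite

set_option autoImplicit false
universe u v
open Brauer

namespace Groth.Agent.S19589

open TensorProduct in
theorem aux (R : Type u) [CommRing R]
    (P : Type v) [AddCommGroup P] [Module R P] [Module.Finite R P] [Module.Projective R P]
    [FaithfulSMul R P] : IsAzumaya R (Module.End R P) := by
  classical
  let dTH : Module.Dual R P ⊗[R] P ≃ₗ[R] Module.End R P := dualTensorHomEquiv R P P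
  have hproj : Module.Projective R (Module.End R P) := Module.Projective.of_equiv dTH
  have hfin : Module.Finite R (Module.End R P) := Module.Finite.equiv dTH
  have hfa : FaithfulSMul R (Module.End R P) := by
    rw [faithfulSMul_iff_algebraMap_injective]
    intro r s hrs
    apply FaithfulSMul.eq_of_smul_eq_smul (α := P)
    intro p
    have := LinearMap.congr_fun hrs p
    simpa [Module.algebraMap_end_apply] using this
  let t : (Module.End R P)ᵐᵒᵖ →ₗ[R] Module.End R (Module.Dual R P) :=
    (Module.Dual.transpose (R := R) (M := P) (M' := P)) ∘ₗ
      (MulOpposite.opLinearEquiv R).symm.toLinearMap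
  have ht : Function.Bijective t := by
    constructor
    · rw [injective_iff_map_eq_zero]
      intro g hg
      have h1 : (MulOpposite.unop g).dualMap = 0 := hg
      have hz : LinearMap.dualMap (0 : P →ₗ[R] P) = 0 :=
        map_zero (Module.Dual.transpose (R := R) (M := P) (M' := P))
      have h2 : (MulOpposite.unop g).dualMap.dualMap = (0 : P →ₗ[R] P).dualMap.dualMap := by
        rw [h1, hz]
      rw [Module.dualMap_dualMap_eq_iff] at h2
      exact MulOpposite.unop_injective h2
    · intro φ
      refine ⟨MulOpposite.op ((Module.evalEquiv R P).symm.toLinearMap ∘ₗ φ.dualMap ∘ₗ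
        (Module.evalEquiv R P).toLinearMap), ?_⟩
      ext l x
      simp [t, Module.Dual.transpose_apply]
  let tE := LinearEquiv.ofBijective t ht
  let G : Module.End R P ⊗[R] (Module.End R P)ᵐᵒᵖ ≃ₗ[R] Module.End R (Module.End R P) :=
    TensorProduct.congr (LinearEquiv.refl R _) tE ≪≫ₗ TensorProduct.comm R _ _ ≪≫ₗ
      homTensorHomEquiv R (Module.Dual R P) P (Module.Dual R P) P ≪≫ₗ dTH.conj
  have key : (AlgHom.mulLeftRight R (Module.End R P)).toLinearMap = G.toLinearMap := by
    apply TensorProduct.ext'
    intro f g
    apply LinearMap.ext
    intro h
    obtain ⟨z, rfl⟩ := dTH.surjective h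
    induction z using TensorProduct.induction_on with
    | zero => simp
    | tmul l p =>
      ext x
      simp [G, dTH, tE, t, LinearEquiv.conj_apply, Module.Dual.transpose_apply]
    | add z w hz hw => simp only [map_add, hz, hw]
  have hfun : ⇑(AlgHom.mulLeftRight R (Module.End R P)) = ⇑G := by
    funext w
    exact LinearMap.congr_fun key w
  exact { bij := by rw [hfun]; exact G.bijective }

/-- Let R be a commutative ring and P a finitely generated projective R-module which is faithful. Then
End_R(P) is an Azumaya R-algebra. (The published statement is for a finite locally free sheaf E on a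
scheme X and the sheaf of algebras End(E); this row is the case of affine X. Azumaya is taken in the
sense that includes faithfulness over R, which is why P is assumed faithful; the published notion
also admits rank zero.) -/
theorem result (R : Type u) [CommRing R]
    (P : Type v) [AddCommGroup P] [Module R P] [Module.Finite R P] [Module.Projective R P]
    [FaithfulSMul R P] : IsAzumaya R (Module.End R P) := by
  exact aux R P

end Groth.Agent.S19589
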