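import Groth.Statements.S17540
import Mathlib
import Groth.Agent.Lib.helper26.AdicSeries

set_option autoImplicit false
universe u v w
open W4c5adicflatcompl
open CAlg

namespace Groth.Agent.S17540


open Groth.Agent.Lib.helper26.AdicSum in
theorem step {A : Type*} [CommRing A] (I : Ideal A) (M : Type*) [AddCommGroup M] [Module A M]
    (Z : Type*) (m : Z → M) (hspan : Submodule.span A (Set.range m) ⊔ I • ⊤ = ⊤) (k : ℕ) (y : M)
    (hy : y ∈ (F I k : Submodule A M)) :
    ∃ c : Z →₀ A, (∀ z, c z ∈ I ^ k) ∧
      y - Finsupp.linearCombination A m c ∈ (F I (k + 1) : Submodule A M) := by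
  refine Submodule.smul_induction_on hy ?_ ?_
  · intro a ha w _
    have hw : w ∈ Submodule.span A (Set.range m) ⊔ I • ⊤ := by rw [hspan]; trivial
    obtain ⟨u, hu, w', hw', rfl⟩ := Submodule.mem_sup.mp hw
    obtain ⟨b, rfl⟩ := (Finsupp.mem_span_range_iff_exists_finsupp).mp hu
    refine ⟨a • b, ?_, ?_⟩
    · intro z
      rw [Finsupp.smul_apply, smul_eq_mul]
      exact Ideal.mul_mem_right _ _ ha
    · rw [map_smul, Finsupp.linearCombination_apply, smul_add, add_sub_cancel_left]
      have h1 : a • w' ∈ I ^ k • (I • ⊤ : Submodule A M) := Submodule.smul_mem_smul ha hw'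
      rwa [← Submodule.mul_smul, ← pow_succ] at h1
  · rintro y₁ y₂ ⟨c₁, hc₁, hy₁⟩ ⟨c₂, hc₂, hy₂⟩
    refine ⟨c₁ + c₂, fun z => by rw [Finsupp.add_apply]; exact Ideal.add_mem _ (hc₁ z) (hc₂ z), ?_⟩
    rw [map_add]
    have : y₁ + y₂ - (Finsupp.linearCombination A m c₁ + Finsupp.linearCombination A m c₂) =
        (y₁ - Finsupp.linearCombination A m c₁) + (y₂ - Finsupp.linearCombination A m c₂) := by abel
    rw [this]
    exact Submodule.add_mem _ hy₁ hy₂


/-- Let A be I-adically complete, M an I-adically complete A-module and m : Z → M a family. The images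
of the m z generate M/IM (the span of the family together with IM is all of M) if and only if the
family I-adically generates M: every x in M is the I-adically convergent sum of g z • m z for some
I-adically decaying function g : Z → A. -/
theorem result {A : Type u} [CommRing A] (I : Ideal A) [IsAdicComplete I A]
    (M : Type v) [AddCommGroup M] [Module A M] [IsAdicComplete I M] (Z : Type w) (m : Z → M) :
    Submodule.span A (Set.range m) ⊔ I • ⊤ = ⊤ ↔
      ∀ x : M, ∃ g : Z → A, g ∈ decaying I Z A ∧
        ∀ n : ℕ, ∃ S : Finset Z,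
          (∀ z, z ∉ S → g z • m z ∈ (I ^ n • ⊤ : Submodule A M)) ∧
          x - (∑ z ∈ S, g z • m z) ∈ (I ^ n • ⊤ : Submodule A M) := by
  classical
  constructor
  · intro hspan x
    open Groth.Agent.Lib.helper26.AdicSum in
    have step' : ∀ k (y : {y : M // y ∈ (F I k : Submodule A M)}), ∃ c : Z →₀ A, (∀ z, c z ∈ I ^ k) ∧
        y.1 - Finsupp.linearCombination A m c ∈ (F I (k + 1) : Submodule A M) :=
      fun k y => step I M Z m hspan k y.1 y.2
    choose cfun hc1 hc2 using step'
    open Groth.Agent.Lib.helper26.AdicSum in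
    let Y : (k : ℕ) → {y : M // y ∈ (F I k : Submodule A M)} := fun k =>
      Nat.rec (motive := fun k => {y : M // y ∈ (F I k : Submodule A M)})
        ⟨x, by simp [F]⟩
        (fun k yk => ⟨yk.1 - Finsupp.linearCombination A m (cfun k yk), hc2 k yk⟩) k
    let c : ℕ → (Z →₀ A) := fun k => cfun k (Y k)
    have hYsucc : ∀ k, (Y (k + 1)).1 = (Y k).1 - Finsupp.linearCombination A m (c k) := fun k => rfl
    have hY0 : (Y 0).1 = x := rfl
    have htel : ∀ n, x - ∑ k ∈ Finset.range n, Finsupp.linearCombination A m (c k) = (Y n).1 := by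
      intro n
      induction n with
      | zero => simp [hY0]
      | succ n ih =>
        rw [Finset.sum_range_succ, hYsucc, ← ih]
        abel
    open Groth.Agent.Lib.helper26.AdicSum in
    have hcF : ∀ k z, c k z ∈ (F I k : Submodule A A) := fun k z =>
      (mem_F_self_iff k _).mpr (hc1 k (Y k) z)
    open Groth.Agent.Lib.helper26.AdicSum in
    obtain ⟨g, hg⟩ := exists_limit (I := I) c hcF
    open Groth.Agent.Lib.helper26.AdicSum in
    refine ⟨g, limit_decaying c g hg, fun n => ⟨usupp c n, ?_, ?_⟩⟩
    · intro z hz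
      open Groth.Agent.Lib.helper26.AdicSum in
      exact smul_mem_F ((mem_F_self_iff n _).mp (limit_mem_of_not_mem c g hg n z hz)) _
    · open Groth.Agent.Lib.helper26.AdicSum in
      have h1 : ∑ z ∈ usupp c n, psum c n z • m z =
          ∑ k ∈ Finset.range n, Finsupp.linearCombination A m (c k) := by
        simp only [psum, Finset.sum_smul]
        rw [Finset.sum_comm]
        apply Finset.sum_congr rfl
        intro k hk
        rw [Finsupp.linearCombination_apply, Finsupp.sum]
        symm
        apply Finset.sum_subset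
        · intro z hz
          rw [usupp, Finset.mem_biUnion]
          exact ⟨k, hk, hz⟩
        · intro z _ hz
          rw [Finsupp.mem_support_iff, not_not] at hz
          rw [hz, zero_smul]
      open Groth.Agent.Lib.helper26.AdicSum in
      have h2 : x - ∑ z ∈ usupp c n, g z • m z =
          (Y n).1 + ∑ z ∈ usupp c n, (psum c n z - g z) • m z := by
        rw [← htel n, ← h1]
        simp only [sub_smul, Finset.sum_sub_distrib]
        abel
      rw [h2]
      refine Submodule.add_mem _ (Y n).2 (Submodule.sum_mem _ fun z _ => ?_)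
      open Groth.Agent.Lib.helper26.AdicSum in
      exact smul_mem_F ((mem_F_self_iff n _).mp (hg n z)) _
  · intro h
    rw [eq_top_iff]
    intro x _
    obtain ⟨g, -, hg⟩ := h x
    obtain ⟨S, -, hS⟩ := hg 1
    rw [pow_one] at hS
    have : x = ∑ z ∈ S, g z • m z + (x - ∑ z ∈ S, g z • m z) := by abel
    rw [this]
    refine Submodule.add_mem_sup (Submodule.sum_mem _ fun z _ => ?_) hS
    exact Submodule.smul_mem _ _ (Submodule.subset_span ⟨z, rfl⟩)

end Groth.Agent.S17540
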