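import Groth.Statements.S9235
import Mathlib

set_option autoImplicit false
universe u
open Brnch

namespace H14B

open CAlg2

theorem mem_nilradical_of_forall_minimalPrimes {A : Type u} [CommRing A] (z : A)
    (h : ∀ 𝔯 ∈ minimalPrimes A, z ∈ 𝔯) : z ∈ nilradical A := by
  have : nilradical A = sInf (minimalPrimes A) := by
    rw [minimalPrimes, Ideal.sInf_minimalPrimes]; rfl
  rw [this, Ideal.mem_sInf]
  exact fun {I} hI => h I hI

theorem nilradical_le_of_mem_minimalPrimes {A : Type u} [CommRing A] {𝔯 : Ideal A}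
    (h : 𝔯 ∈ minimalPrimes A) : nilradical A ≤ 𝔯 := by
  have : nilradical A = sInf (minimalPrimes A) := by
    rw [minimalPrimes, Ideal.sInf_minimalPrimes]; rfl
  rw [this]
  exact sInf_le h

theorem exists_idempotent (A : Type u) [CommRing A] (hfin : (minimalPrimes A).Finite)
    (𝔭 𝔮 : Ideal A) (h𝔭 : 𝔭 ∈ minimalPrimes A) (h𝔮 : 𝔮 ∈ minimalPrimes A) (hne : 𝔭 ≠ 𝔮) :
    ∃ e : normRed A, IsIdempotentElem e ∧ e ≠ 0 ∧ e ≠ 1 := by
  classical
  set s : Finset (Ideal A) := hfin.toFinset with hs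
  have hmem : ∀ 𝔯, 𝔯 ∈ s ↔ 𝔯 ∈ minimalPrimes A := fun 𝔯 => hfin.mem_toFinset
  set J : Ideal A := (s.erase 𝔭).inf id with hJ
  have hJle : ∀ 𝔯 ∈ minimalPrimes A, 𝔯 ≠ 𝔭 → J ≤ 𝔯 := fun 𝔯 h𝔯 hne' =>
    Finset.inf_le (f := id) (Finset.mem_erase.mpr ⟨hne', (hmem 𝔯).mpr h𝔯⟩)
  have hmin : ∀ {𝔞 𝔟 : Ideal A}, 𝔞 ∈ minimalPrimes A → 𝔟 ∈ minimalPrimes A → 𝔞 ≤ 𝔟 → 𝔞 = 𝔟 :=
    fun {𝔞 𝔟} ha hb hab => le_antisymm hab (hb.2 ⟨ha.1.1, bot_le⟩ hab)
  have hnot : ¬ (((𝔭 ⊔ J : Ideal A) : Set A) ⊆ ⋃ i ∈ (↑s : Set (Ideal A)), (id i : Ideal A)) := by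
    intro hsub
    obtain ⟨𝔯, h𝔯s, hle⟩ := (Ideal.subset_union_prime (f := id) 𝔭 𝔭
      (fun i hi _ _ => ((hmem i).mp hi).1.1)).mp hsub
    have h𝔯 := (hmem 𝔯).mp h𝔯s
    haveI := h𝔯.1.1
    by_cases h𝔯𝔭 : 𝔯 = 𝔭
    · subst h𝔯𝔭
      have hJ𝔯 : J ≤ 𝔯 := le_sup_right.trans hle
      rw [hJ, Ideal.IsPrime.inf_le' h𝔯.1.1] at hJ𝔯
      obtain ⟨𝔱, h𝔱, h𝔱le⟩ := hJ𝔯
      obtain ⟨h1, h2⟩ := Finset.mem_erase.mp h𝔱
      exact h1 (hmin ((hmem 𝔱).mp h2) h𝔯 h𝔱le)
    · exact h𝔯𝔭 (hmin h𝔭 h𝔯 (le_sup_left.trans hle)).symm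
  obtain ⟨t, ht, htn⟩ := Set.not_subset.mp hnot
  have htn' : ∀ 𝔯 ∈ minimalPrimes A, t ∉ 𝔯 := by
    intro 𝔯 h𝔯 ht𝔯
    apply htn
    simp only [Set.mem_iUnion]
    exact ⟨𝔯, (hmem 𝔯).mpr h𝔯, ht𝔯⟩
  obtain ⟨x, hx, y, hy, hxy⟩ := Submodule.mem_sup.mp ht
  have hxynil : x * y ∈ nilradical A := by
    apply mem_nilradical_of_forall_minimalPrimes
    intro 𝔯 h𝔯
    by_cases h𝔯𝔭 : 𝔯 = 𝔭
    · subst h𝔯𝔭; exact Ideal.mul_mem_right _ _ hx
    · exact Ideal.mul_mem_left _ _ (hJle 𝔯 h𝔯 h𝔯𝔭 hy)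
  -- the reduction
  let R := red A
  let mk : A →+* R := Ideal.Quotient.mk (nilradical A)
  have hmk0 : ∀ z, mk z = 0 ↔ z ∈ nilradical A := fun z => Ideal.Quotient.eq_zero_iff_mem
  have htnzd : mk t ∈ nonZeroDivisors R := by
    rw [mem_nonZeroDivisors_iff_right]
    intro z hz
    obtain ⟨z, rfl⟩ := Ideal.Quotient.mk_surjective z
    rw [← map_mul, hmk0] at hz
    rw [hmk0]
    apply mem_nilradical_of_forall_minimalPrimes
    intro 𝔯 h𝔯
    haveI := h𝔯.1.1
    exact (Ideal.IsPrime.mem_or_mem h𝔯.1.1 (nilradical_le_of_mem_minimalPrimes h𝔯 hz)).resolve_right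
      (htn' 𝔯 h𝔯)
  have hxx : mk x * mk x = mk x * mk t := by
    rw [← hxy, map_add, mul_add, ← map_mul mk x y, (hmk0 _).mpr hxynil, add_zero]
  let K := FractionRing R
  have hσ : IsUnit (algebraMap R K (mk t)) := IsLocalization.map_units K ⟨mk t, htnzd⟩
  set a := algebraMap R K (mk x) with ha
  set σ := algebraMap R K (mk t) with hσdef
  have haa : a * a = a * σ := by rw [ha, hσdef, ← map_mul (algebraMap R K), ← map_mul (algebraMap R K), hxx]
  obtain ⟨u, hu⟩ := hσ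
  let e : K := a * ↑u⁻¹
  have hinj : Function.Injective (algebraMap R K) := IsFractionRing.injective R K
  have he_idem : e * e = e := by
    change a * ↑u⁻¹ * (a * ↑u⁻¹) = a * ↑u⁻¹
    calc a * ↑u⁻¹ * (a * ↑u⁻¹) = (a * a) * (↑u⁻¹ * ↑u⁻¹) := by ring
      _ = a * (σ * ↑u⁻¹) * ↑u⁻¹ := by rw [haa]; ring
      _ = a * ↑u⁻¹ := by rw [← hu, Units.mul_inv, mul_one]
  have he0 : e ≠ 0 := by
    intro h0
    have ha0 : a = 0 := by
      have : a = e * u := by simp [e, mul_assoc]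
      rw [this, h0, zero_mul]
    have hx0 : mk x = 0 := hinj (by rw [map_zero]; exact ha0)
    rw [hmk0] at hx0
    apply htn' 𝔮 h𝔮
    rw [← hxy]
    exact Ideal.add_mem _ (nilradical_le_of_mem_minimalPrimes h𝔮 hx0) (hJle 𝔮 h𝔮 hne.symm hy)
  have he1 : e ≠ 1 := by
    intro h1
    have ha1 : a = σ := by
      have : a = e * u := by simp [e, mul_assoc]
      rw [this, h1, one_mul, hu]
    have hxt : mk x = mk t := hinj ha1
    have hy0 : mk y = 0 := by
      have : mk t = mk x + mk y := by rw [← map_add, hxy]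
      rw [this] at hxt
      simpa using hxt
    rw [hmk0] at hy0
    apply htn' 𝔭 h𝔭
    rw [← hxy]
    exact Ideal.add_mem _ hx (nilradical_le_of_mem_minimalPrimes h𝔭 hy0)
  haveI : Nontrivial R := Ideal.Quotient.nontrivial_iff.mpr (fun h =>
    h𝔭.1.1.ne_top (top_le_iff.mp (h ▸ nilradical_le_of_mem_minimalPrimes h𝔭)))
  have he_int : IsIntegral R e := by
    refine ⟨Polynomial.X ^ 2 - Polynomial.X, ?_, ?_⟩
    · exact (Polynomial.monic_X_pow 2).sub_of_left (by
        rw [Polynomial.degree_X_pow, Polynomial.degree_X]; norm_num)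
    · simp [pow_two, he_idem]
  refine ⟨⟨e, he_int⟩, ?_, ?_, ?_⟩
  · exact Subtype.ext he_idem
  · intro h; exact he0 (congrArg Subtype.val h)
  · intro h; exact he1 (congrArg Subtype.val h)


theorem main (A : Type u) [CommRing A] [IsLocalRing A] :
    Brnch.numBranches A = 1 ↔ CAlg2.IsUnibranch A := by
  classical
  unfold Brnch.numBranches CAlg2.IsUnibranch
  constructor
  · intro h
    by_cases hfin : (minimalPrimes A).Finite
    · simp only [hfin, if_true] at h
      obtain ⟨huniq⟩ := ENat.card_eq_one_iff_unique.mp h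
      have hall : ∀ 𝔭 ∈ minimalPrimes A, ∀ 𝔮 ∈ minimalPrimes A, 𝔭 = 𝔮 := by
        intro 𝔭 h𝔭 𝔮 h𝔮
        by_contra hne
        obtain ⟨e, he, he0, he1⟩ := exists_idempotent A hfin 𝔭 𝔮 h𝔭 h𝔮 hne
        have hnu1 : e ∈ nonunits (normRed A) := fun hu =>
          he1 ((IsIdempotentElem.iff_eq_one_of_isUnit hu).mp he)
        have hnu2 : 1 - e ∈ nonunits (normRed A) := fun hu =>
          he0 (by
            have := (IsIdempotentElem.iff_eq_one_of_isUnit hu).mp he.one_sub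
            rwa [sub_eq_self] at this)
        obtain ⟨m1, hm1, hem1⟩ := exists_max_ideal_of_mem_nonunits hnu1
        obtain ⟨m2, hm2, hem2⟩ := exists_max_ideal_of_mem_nonunits hnu2
        have heq : (⟨m1, hm1⟩ : MaximalSpectrum (normRed A)) = ⟨m2, hm2⟩ :=
          (huniq.uniq _).trans (huniq.uniq _).symm
        have hm12 : m1 = m2 := congrArg MaximalSpectrum.asIdeal heq
        apply hm2.ne_top
        rw [Ideal.eq_top_iff_one]
        have : (1 : normRed A) = e + (1 - e) := by ring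
        rw [this]
        exact Ideal.add_mem _ (hm12 ▸ hem1) hem2
      constructor
      · obtain ⟨𝔭, h𝔭, -⟩ := Ideal.exists_minimalPrimes_le
          (bot_le : (⊥ : Ideal A) ≤ IsLocalRing.maximalIdeal A)
        have hnil : nilradical A = 𝔭 := le_antisymm (nilradical_le_of_mem_minimalPrimes h𝔭)
          (fun z hz => mem_nilradical_of_forall_minimalPrimes z
            (fun 𝔯 h𝔯 => hall 𝔭 h𝔭 𝔯 h𝔯 ▸ hz))
        haveI : (nilradical A).IsPrime := hnil ▸ h𝔭.1.1
        exact Ideal.Quotient.isDomain _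
      · exact IsLocalRing.of_unique_max_ideal ⟨huniq.default.asIdeal, huniq.default.isMaximal,
          fun I hI => congrArg MaximalSpectrum.asIdeal (huniq.uniq ⟨I, hI⟩)⟩
    · simp only [hfin, if_false] at h
      exact absurd h (by simp)
  · rintro ⟨hdom, hloc⟩
    have hfin : (minimalPrimes A).Finite := by
      haveI : (nilradical A).IsPrime := (Ideal.Quotient.isDomain_iff_prime _).mp hdom
      have : minimalPrimes A = {nilradical A} := by
        change (⊥ : Ideal A).minimalPrimes = {nilradical A}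
        rw [← Ideal.radical_minimalPrimes]
        exact Ideal.minimalPrimes_eq_subsingleton_self (I := nilradical A)
      rw [this]; exact Set.finite_singleton _
    simp only [hfin, if_true]
    rw [ENat.card_eq_one_iff_unique]
    exact ⟨{ default := ⟨IsLocalRing.maximalIdeal _, inferInstance⟩
             uniq := fun m => MaximalSpectrum.ext (IsLocalRing.eq_maximalIdeal m.isMaximal) }⟩

end H14B


namespace Groth.Agent.S9235

/-- A local ring A has exactly one branch if and only if it is unibranch. Here the number of branches is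
computed as the number of maximal ideals of the integral closure of A_red in its total ring of
fractions (infinity when A has infinitely many minimal primes). -/
theorem result (A : Type u) [CommRing A] [IsLocalRing A] :
    Brnch.numBranches A = 1 ↔ CAlg2.IsUnibranch A := by
  exact H14B.main A

end Groth.Agent.S9235
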