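import Groth.Statements.S17083
import Mathlib
import Groth.Agent.Lib.helper22.BlowUpU
import Groth.Agent.Lib.helper22.BlowUpMul
import Groth.Agent.Lib.helper26.FlatCart

set_option autoImplicit false
universe u
open CategoryTheory CategoryTheory.Limits AlgebraicGeometry
open MorSch

namespace Groth.Agent.S17083


open Groth.Agent.H22.BlowUpU Groth.Agent.H22.BlowUpMul Groth.Agent.Lib.helper26.FlatCart

/-- Being an effective Cartier ideal is local on the scheme. -/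
theorem effCartier_of_local {Y : Scheme.{u}} (J : Y.IdealSheafData)
    (h : ∀ y : Y, ∃ W : Y.Opens, y ∈ W ∧ BlowUp.IsEffCartierIdeal (J.comap W.ι)) :
    BlowUp.IsEffCartierIdeal J := by
  intro y
  obtain ⟨W, hyW, hW⟩ := h y
  obtain ⟨U', hyU', f, hf, hI⟩ := hW ⟨y, hyW⟩
  refine ⟨⟨W.ι ''ᵁ U'.1, U'.2.image_of_isOpenImmersion W.ι⟩, ⟨⟨y, hyW⟩, hyU', rfl⟩,
    (W.ι.appIso U'.1).inv.hom f, ?_, ?_⟩
  · exact nzd_map_of_bijective _ (ConcreteCategory.bijective_of_isIso (W.ι.appIso U'.1).inv) f hf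
  · rw [Scheme.IdealSheafData.ideal_comap_of_isOpenImmersion] at hI
    have hsurj : Function.Surjective (W.ι.appIso U'.1).inv.hom :=
      (ConcreteCategory.bijective_of_isIso (W.ι.appIso U'.1).inv).2
    rw [← Ideal.map_comap_of_surjective _ hsurj
      (J.ideal ⟨W.ι ''ᵁ U'.1, U'.2.image_of_isOpenImmersion W.ι⟩), hI, Ideal.map_span,
      Set.image_singleton]

/-- Restriction of a base change of a morphism that is an isomorphism over an open. -/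
theorem isIso_restrict_fst {X B₁ B₂ P : Scheme.{u}} {fst : P ⟶ B₁} {snd : P ⟶ B₂}
    {σ₁ : B₁ ⟶ X} {σ₂ : B₂ ⟶ X} (sq : IsPullback fst snd σ₁ σ₂) (U : X.Opens)
    (h : IsIso (σ₂ ∣_ U)) : IsIso (fst ∣_ (σ₁ ⁻¹ᵁ U)) := by
  have big : IsPullback (fst ∣_ (σ₁ ⁻¹ᵁ U)) ((fst ⁻¹ᵁ (σ₁ ⁻¹ᵁ U)).ι ≫ snd)
      ((σ₁ ⁻¹ᵁ U).ι ≫ σ₁) σ₂ :=
    (isPullback_morphismRestrict fst (σ₁ ⁻¹ᵁ U)).paste_vert sq
  have right := isPullback_morphismRestrict σ₂ U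
  have hι : (σ₁ ⁻¹ᵁ U).ι ≫ σ₁ = (σ₁ ∣_ U) ≫ U.ι := (morphismRestrict_ι σ₁ U).symm
  have hcomm : ((fst ∣_ (σ₁ ⁻¹ᵁ U)) ≫ (σ₁ ∣_ U)) ≫ U.ι =
      ((fst ⁻¹ᵁ (σ₁ ⁻¹ᵁ U)).ι ≫ snd) ≫ σ₂ := by
    rw [Category.assoc, ← hι]; exact big.w
  let m := right.lift ((fst ∣_ (σ₁ ⁻¹ᵁ U)) ≫ (σ₁ ∣_ U)) ((fst ⁻¹ᵁ (σ₁ ⁻¹ᵁ U)).ι ≫ snd) hcomm
  have hm1 : m ≫ (σ₂ ∣_ U) = (fst ∣_ (σ₁ ⁻¹ᵁ U)) ≫ (σ₁ ∣_ U) := right.lift_fst _ _ _
  have hm2 : m ≫ (σ₂ ⁻¹ᵁ U).ι = (fst ⁻¹ᵁ (σ₁ ⁻¹ᵁ U)).ι ≫ snd := right.lift_snd _ _ _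
  have big' : IsPullback (fst ∣_ (σ₁ ⁻¹ᵁ U)) (m ≫ (σ₂ ⁻¹ᵁ U).ι) ((σ₁ ∣_ U) ≫ U.ι) σ₂ := by
    rw [hm2, ← hι]; exact big
  have left : IsPullback (fst ∣_ (σ₁ ⁻¹ᵁ U)) m (σ₁ ∣_ U) (σ₂ ∣_ U) :=
    IsPullback.of_bot big' hm1.symm right
  exact left.isIso_fst_of_isIso

theorem key {X B₁ B₂ P : Scheme.{u}} {fst : P ⟶ B₁} {snd : P ⟶ B₂} {σ₁ : B₁ ⟶ X} {σ₂ : B₂ ⟶ X}
    (sq : IsPullback fst snd σ₁ σ₂) (I₁ I₂ : X.IdealSheafData)
    (hdisj : ∀ x : X, x ∉ I₁.support ∨ x ∉ I₂.support)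
    (hσ₁ : BlowUp.IsBlowUp σ₁ I₁) (hσ₂ : BlowUp.IsBlowUp σ₂ I₂) :
    BlowUp.IsEffCartierIdeal (I₁.comap (fst ≫ σ₁)) := by
  apply effCartier_of_local
  intro p
  rcases hdisj ((fst ≫ σ₁) p) with h | h
  · let U : X.Opens := ⟨(I₁.support : Set X)ᶜ, I₁.support.isClosed.isOpen_compl⟩
    refine ⟨(fst ≫ σ₁) ⁻¹ᵁ U, h, ?_⟩
    rw [← Scheme.IdealSheafData.comap_comp]
    exact effCartier_comap_of_forall_not_mem I₁ _ (fun w => w.2)
  · let U : X.Opens := ⟨(I₂.support : Set X)ᶜ, I₂.support.isClosed.isOpen_compl⟩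
    have hiso : IsIso (σ₂ ∣_ U) :=
      isIso_morphismRestrict_of_isBlowUp I₂ σ₂ hσ₂ U (fun x hx => hx)
    have hiso' := isIso_restrict_fst sq U hiso
    refine ⟨fst ⁻¹ᵁ (σ₁ ⁻¹ᵁ U), h, ?_⟩
    rw [Scheme.IdealSheafData.comap_comp, ← Scheme.IdealSheafData.comap_comp _ _ fst,
      ← morphismRestrict_ι]
    exact effCartier_comap_of_flat _ hσ₁.1 _

/-- The closed immersion constructed in its proof, as follows. Let X be a scheme, I₁ and I₂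
quasi-coherent ideal sheaves on X with I₁ + I₂ = O_X, so that they cut out disjoint closed
subschemes Z₁ and Z₂, let σ : B → X be a blow-up of X in the ideal I₁ ∩ I₂ of Z₁ ∪ Z₂, and let σ₁ :
B₁ → X and σ₂ : B₂ → X be blow-ups of X in Z₁ and in Z₂ (blow-up in the sense of the universal
property: the inverse image ideal is effective Cartier, finally so). Then there is a morphism ι : B
→ B₁ ×_X B₂ over X which is a closed immersion; the components B → B_i are necessarily the unique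
X-morphisms given by the universal properties. (Published for X a projective space over an
algebraically closed field, Z₂ a closed point and Z₁ a finite set of closed points not containing
it, and iterated there to embed the blow-up at r distinct points as a closed subscheme of the fibre
product over X of the r blow-ups at single points.) -/
theorem result
    {X B B₁ B₂ : Scheme.{u}} (I₁ I₂ : X.IdealSheafData) (hdisj : I₁ ⊔ I₂ = ⊤)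
    (σ : B ⟶ X) (hσ : BlowUp.IsBlowUp σ (I₁ ⊓ I₂))
    (σ₁ : B₁ ⟶ X) (hσ₁ : BlowUp.IsBlowUp σ₁ I₁) (σ₂ : B₂ ⟶ X) (hσ₂ : BlowUp.IsBlowUp σ₂ I₂) :
    ∃ ι : B ⟶ pullback σ₁ σ₂, IsClosedImmersion ι ∧ ι ≫ pullback.fst σ₁ σ₂ ≫ σ₁ = σ := by
  have hsupp : ∀ x : X, x ∉ I₁.support ∨ x ∉ I₂.support := by
    intro x
    by_contra hcon
    push Not at hcon
    have h1 : x ∈ (I₁ ⊔ I₂).support := by
      rw [Scheme.IdealSheafData.support_sup]; exact ⟨hcon.1, hcon.2⟩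
    rw [hdisj, Scheme.IdealSheafData.support_top] at h1
    exact h1
  have hmul : I₁ ⊓ I₂ = I₁ * I₂ := by
    refine Scheme.IdealSheafData.ext ?_
    funext U
    have h1 : I₁.ideal U ⊔ I₂.ideal U = ⊤ := by
      have := congrArg (fun I => Scheme.IdealSheafData.ideal I U) hdisj
      simpa using this
    rw [Scheme.IdealSheafData.ideal_inf, Scheme.IdealSheafData.ideal_mul]
    exact Ideal.inf_eq_mul_of_isCoprime (Ideal.isCoprime_iff_sup_eq.mpr h1)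
  have sq : IsPullback (pullback.fst σ₁ σ₂) (pullback.snd σ₁ σ₂) σ₁ σ₂ :=
    IsPullback.of_hasPullback _ _
  have hP1 : BlowUp.IsEffCartierIdeal (I₁.comap (pullback.fst σ₁ σ₂ ≫ σ₁)) :=
    key sq I₁ I₂ hsupp hσ₁ hσ₂
  have hP2 : BlowUp.IsEffCartierIdeal (I₂.comap (pullback.fst σ₁ σ₂ ≫ σ₁)) := by
    have := key sq.flip I₂ I₁ (fun x => (hsupp x).symm) hσ₂ hσ₁
    rwa [← pullback.condition] at this
  have hP : BlowUp.IsEffCartierIdeal ((I₁ ⊓ I₂).comap (pullback.fst σ₁ σ₂ ≫ σ₁)) := by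
    rw [hmul, comap_mul]; exact effCartier_mul _ _ hP1 hP2
  have hB : BlowUp.IsEffCartierIdeal (I₁.comap σ * I₂.comap σ) := by
    rw [← comap_mul, ← hmul]; exact hσ.1
  have hB1 : BlowUp.IsEffCartierIdeal (I₁.comap σ) := effCartier_of_mul _ _ hB
  have hB2 : BlowUp.IsEffCartierIdeal (I₂.comap σ) :=
    effCartier_of_mul _ _ (by rwa [mul_comm] at hB)
  obtain ⟨h₁, hh₁, -⟩ := hσ₁.2 B σ hB1
  obtain ⟨h₂, hh₂, -⟩ := hσ₂.2 B σ hB2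
  obtain ⟨k, hk, -⟩ := hσ.2 _ (pullback.fst σ₁ σ₂ ≫ σ₁) hP
  have hιπ : pullback.lift h₁ h₂ (hh₁.trans hh₂.symm) ≫ pullback.fst σ₁ σ₂ ≫ σ₁ = σ := by
    rw [pullback.lift_fst_assoc, hh₁]
  have h1 : pullback.lift h₁ h₂ (hh₁.trans hh₂.symm) ≫ k = 𝟙 B := by
    obtain ⟨u, -, huniq⟩ := hσ.2 B σ hσ.1
    rw [huniq (pullback.lift h₁ h₂ (hh₁.trans hh₂.symm) ≫ k) (by show _ ≫ σ = σ; rw [Category.assoc, hk, hιπ]),
      huniq (𝟙 B) (Category.id_comp _)]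
  have h2 : k ≫ pullback.lift h₁ h₂ (hh₁.trans hh₂.symm) = 𝟙 _ := by
    apply pullback.hom_ext
    · obtain ⟨u, -, huniq⟩ := hσ₁.2 _ (pullback.fst σ₁ σ₂ ≫ σ₁) hP1
      rw [huniq ((k ≫ pullback.lift h₁ h₂ (hh₁.trans hh₂.symm)) ≫ pullback.fst σ₁ σ₂)
          (by show _ ≫ σ₁ = _; simp only [Category.assoc, pullback.lift_fst_assoc, hh₁, hk]),
        huniq (𝟙 _ ≫ pullback.fst σ₁ σ₂) (by show _ ≫ σ₁ = _; rw [Category.id_comp])]
    · obtain ⟨u, -, huniq⟩ := hσ₂.2 _ (pullback.fst σ₁ σ₂ ≫ σ₁) hP2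
      rw [huniq ((k ≫ pullback.lift h₁ h₂ (hh₁.trans hh₂.symm)) ≫ pullback.snd σ₁ σ₂)
          (by show _ ≫ σ₂ = _; simp only [Category.assoc, pullback.lift_snd_assoc, hh₂, hk]),
        huniq (𝟙 _ ≫ pullback.snd σ₁ σ₂) (by show _ ≫ σ₂ = _; rw [Category.id_comp, pullback.condition])]
  haveI : IsIso (pullback.lift h₁ h₂ (hh₁.trans hh₂.symm)) := ⟨k, h1, h2⟩
  exact ⟨pullback.lift h₁ h₂ (hh₁.trans hh₂.symm), inferInstance, hιπ⟩

end Groth.Agent.S17083
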