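import Groth.Statements.S18749
import Mathlib
import Groth.Agent.Lib.helper22.BlowUpU
import Groth.Agent.Lib.helper22.BlowUpMul
import Groth.Agent.Lib.helper26.CartCompl

set_option autoImplicit false
universe u
open CategoryTheory CategoryTheory.Limits AlgebraicGeometry TopologicalSpace
open ModPair

namespace Groth.Agent.S18749


open Groth.Agent.H22.BlowUpU Groth.Agent.H22.BlowUpMul Groth.Agent.H22.CartierFlat
open Groth.Agent.Lib.helper26.CartCompl

/-- The prime ideal of sections over `O` vanishing at the point `w ∈ O`. -/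
noncomputable def pt (S : Scheme.{u}) (O : S.Opens) (w : S) (hw : w ∈ O) : Ideal Γ(S, O) :=
  Ideal.comap (S.presheaf.germ O w hw).hom (IsLocalRing.maximalIdeal _)

instance pt_isPrime (S : Scheme.{u}) (O : S.Opens) (w : S) (hw : w ∈ O) : (pt S O w hw).IsPrime :=
  Ideal.comap_isPrime _ _

theorem mem_pt {S : Scheme.{u}} {O : S.Opens} {w : S} (hw : w ∈ O) (a : Γ(S, O)) :
    a ∈ pt S O w hw ↔ w ∉ S.basicOpen a := by
  rw [Scheme.mem_basicOpen _ _ w hw]
  show (S.presheaf.germ O w hw).hom a ∈ IsLocalRing.maximalIdeal _ ↔ _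
  rw [IsLocalRing.mem_maximalIdeal]
  rfl

theorem map_le_pt {S₁ S₂ : Scheme.{u}} (h : S₁ ⟶ S₂) (O₁ : S₁.Opens) (O₂ : S₂.Opens)
    (e : O₁ ≤ h ⁻¹ᵁ O₂) (w : S₁) (hw : w ∈ O₁) (A : Ideal Γ(S₂, O₂))
    (hA : A ≤ pt S₂ O₂ (h w) (e hw)) :
    Ideal.map (h.appLE O₂ O₁ e).hom A ≤ pt S₁ O₁ w hw := by
  rw [Ideal.map_le_iff_le_comap]
  intro a ha
  rw [Ideal.mem_comap, mem_pt]
  intro hmem
  have h0 := Scheme.basicOpen_appLE h O₁ O₂ e a
  rw [show S₁.basicOpen ((h.appLE O₂ O₁ e).hom a) = S₁.basicOpen (h.appLE O₂ O₁ e a) from rfl,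
    h0] at hmem
  exact ((mem_pt (S := S₂) (O := O₂) (w := h w) (e hw) a).mp (hA ha)) hmem.2

theorem not_mem_pt_map {S₁ S₂ : Scheme.{u}} (h : S₁ ⟶ S₂) (O₁ : S₁.Opens) (O₂ : S₂.Opens)
    (e : O₁ ≤ h ⁻¹ᵁ O₂) (w : S₁) (hw : w ∈ O₁) (a : Γ(S₂, O₂)) (ha : h w ∈ S₂.basicOpen a) :
    w ∈ S₁.basicOpen ((h.appLE O₂ O₁ e).hom a) := by
  have h0 := Scheme.basicOpen_appLE h O₁ O₂ e a
  rw [show S₁.basicOpen ((h.appLE O₂ O₁ e).hom a) = S₁.basicOpen (h.appLE O₂ O₁ e a) from rfl, h0]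
  exact ⟨hw, ha⟩

theorem ideal_le_pt_of_mem_support {S : Scheme.{u}} (𝓘 : S.IdealSheafData) (O : S.affineOpens)
    (w : S) (hw : w ∈ O.1) (hs : w ∈ 𝓘.support) : 𝓘.ideal O ≤ pt S O.1 w hw := by
  intro a ha
  rw [mem_pt]
  rw [Scheme.IdealSheafData.mem_support_iff_of_mem hw] at hs
  exact (Scheme.mem_zeroLocus_iff _ _ _).mp hs a ha

theorem mem_basicOpen_of_not_mem_support {S : Scheme.{u}} (𝓔 : S.IdealSheafData)
    (O : S.affineOpens) (t : Γ(S, O.1)) (hI : 𝓔.ideal O = Ideal.span {t}) (w : S) (hw : w ∈ O.1)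
    (hs : w ∉ 𝓔.support) : w ∈ S.basicOpen t := by
  by_contra h
  apply hs
  rw [Scheme.IdealSheafData.mem_support_iff_of_mem hw, hI, Scheme.zeroLocus_span,
    Scheme.zeroLocus_singleton]
  exact h


theorem isUnit_of_forall_mem_basicOpen {S : Scheme.{u}} {O : S.Opens} (f : Γ(S, O))
    (h : ∀ x ∈ O, x ∈ S.basicOpen f) : IsUnit f :=
  S.toRingedSpace.isUnit_of_isUnit_germ O f (fun x hx => (S.mem_basicOpen f x hx).mp (h x hx))

/-- A section which is invertible on `O` becomes a nonzerodivisor on the scheme-theoretic closure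
of `O`. -/
theorem nzd_image {P : Scheme.{u}} (O : P.Opens) [QuasiCompact O.ι] (M : P.affineOpens)
    (a : Γ(P, M.1)) (ha : O ⊓ M.1 ≤ P.basicOpen a) :
    (O.ι.imageι.app M.1).hom a ∈ nonZeroDivisors Γ(O.ι.image, O.ι.imageι ⁻¹ᵁ M.1) := by
  rw [mem_nonZeroDivisors_iff_right]
  intro z hz
  apply O.ι.toImage_app_injective M
  rw [map_zero]
  have h1 : (O.ι.toImage.app (O.ι.imageι ⁻¹ᵁ M.1)).hom z *
      (O.ι.toImage.app (O.ι.imageι ⁻¹ᵁ M.1)).hom ((O.ι.imageι.app M.1).hom a) = 0 := by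
    rw [← map_mul, hz, map_zero]
  have hunit : IsUnit ((O.ι.toImage.app (O.ι.imageι ⁻¹ᵁ M.1)).hom ((O.ι.imageι.app M.1).hom a)) := by
    apply isUnit_of_forall_mem_basicOpen
    intro o ho
    have h2 : O.ι.toImage o ∈ O.ι.image.basicOpen ((O.ι.imageι.app M.1).hom a) := by
      have h3 : O.ι.imageι (O.ι.toImage o) ∈ P.basicOpen a := by
        apply ha
        have h4 : O.ι.imageι (O.ι.toImage o) = O.ι o := by
          rw [← Scheme.Hom.comp_apply, O.ι.toImage_imageι]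
        rw [h4]
        refine ⟨o.2, ?_⟩
        rw [← h4]
        exact ho
      have h5 : O.ι.toImage o ∈ O.ι.imageι ⁻¹ᵁ P.basicOpen a := h3
      rwa [Scheme.preimage_basicOpen] at h5
    have h6 : o ∈ O.ι.toImage ⁻¹ᵁ O.ι.image.basicOpen ((O.ι.imageι.app M.1).hom a) := h2
    rwa [Scheme.preimage_basicOpen] at h6
  exact (hunit.mul_left_eq_zero).mp h1

theorem effCartier_comap_image {P X : Scheme.{u}} (O : P.Opens) [QuasiCompact O.ι] (φ : P ⟶ X)
    (I : X.IdealSheafData) (hI : BlowUp.IsEffCartierIdeal I)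
    (hO : O ≤ φ ⁻¹ᵁ I.support.compl) :
    BlowUp.IsEffCartierIdeal (I.comap (O.ι.imageι ≫ φ)) := by
  intro y₀
  obtain ⟨V, hxV, a, -, hIa⟩ := hI (φ (O.ι.imageι y₀))
  obtain ⟨_, ⟨M, hM, rfl⟩, hptM, hMV⟩ := P.isBasis_affineOpens.exists_subset_of_mem_open
    (show O.ι.imageι y₀ ∈ φ ⁻¹ᵁ V.1 from hxV) (φ ⁻¹ᵁ V.1).isOpen
  have hN : IsAffineOpen (O.ι.imageι ⁻¹ᵁ M) := hM.preimage _
  refine ⟨⟨_, hN⟩, hptM, (O.ι.imageι.app M).hom ((φ.appLE V.1 M hMV).hom a), ?_, ?_⟩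
  · apply nzd_image O ⟨M, hM⟩
    rintro o ⟨hoO, hoM⟩
    have h1 : φ o ∈ X.basicOpen a :=
      mem_basicOpen_of_not_mem_support I V a hIa (φ o) (hMV hoM) (hO hoO)
    exact not_mem_pt_map φ M V.1 hMV o hoM a h1
  · rw [Scheme.IdealSheafData.comap_comp,
      comap_ideal_eq_map (I.comap φ) O.ι.imageι ⟨_, hN⟩ ⟨M, hM⟩ le_rfl,
      comap_ideal_eq_map I φ ⟨M, hM⟩ V hMV, hIa, Ideal.map_span, Set.image_singleton,
      Ideal.map_span, Set.image_singleton, Scheme.Hom.app_eq_appLE]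

theorem locPrincipal_mul {P : Scheme.{u}} (𝓐 𝓑 : P.IdealSheafData)
    (hA : ∀ pt : P, ∃ (N : P.affineOpens) (s : Γ(P, N.1)), pt ∈ N.1 ∧ 𝓐.ideal N = Ideal.span {s})
    (hB : ∀ pt : P, ∃ (N : P.affineOpens) (s : Γ(P, N.1)), pt ∈ N.1 ∧ 𝓑.ideal N = Ideal.span {s}) :
    Curv2.IsLocPrincipal (𝓐 * 𝓑) := by
  intro pt _
  obtain ⟨N₁, a, h1, ha⟩ := hA pt
  obtain ⟨N₂, b, h2, hb⟩ := hB pt
  obtain ⟨_, ⟨N, hN, rfl⟩, hptN, hNle⟩ := P.isBasis_affineOpens.exists_subset_of_mem_open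
    (show pt ∈ N₁.1 ⊓ N₂.1 from ⟨h1, h2⟩) (N₁.1 ⊓ N₂.1).isOpen
  have hle1 : (⟨N, hN⟩ : P.affineOpens) ≤ N₁ := show N ≤ N₁.1 from le_trans hNle inf_le_left
  have hle2 : (⟨N, hN⟩ : P.affineOpens) ≤ N₂ := show N ≤ N₂.1 from le_trans hNle inf_le_right
  refine ⟨⟨N, hN⟩, hptN, (P.presheaf.map (homOfLE (show N ≤ N₁.1 from hle1)).op).hom a *
    (P.presheaf.map (homOfLE (show N ≤ N₂.1 from hle2)).op).hom b, ?_⟩
  rw [Scheme.IdealSheafData.ideal_mul, Pi.mul_apply, ← 𝓐.map_ideal hle1, ← 𝓑.map_ideal hle2, ha, hb,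
    Ideal.map_span, Ideal.map_span, Set.image_singleton, Set.image_singleton,
    Ideal.span_singleton_mul_span_singleton]
  rfl

theorem exists_principal_nbhd_comap {X' T : Scheme.{u}} (𝓔 : X'.IdealSheafData)
    (h𝓔 : BlowUp.IsEffCartierIdeal 𝓔) (j : T ⟶ X') (pt : T) :
    ∃ (N : T.affineOpens) (s : Γ(T, N.1)), pt ∈ N.1 ∧ (𝓔.comap j).ideal N = Ideal.span {s} := by
  obtain ⟨W', hW', t, -, hI⟩ := h𝓔 (j pt)
  obtain ⟨_, ⟨N, hN, rfl⟩, hptN, hNW'⟩ := T.isBasis_affineOpens.exists_subset_of_mem_open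
    (show pt ∈ j ⁻¹ᵁ W'.1 from hW') (j ⁻¹ᵁ W'.1).isOpen
  refine ⟨⟨N, hN⟩, (j.appLE W'.1 N hNW').hom t, hptN, ?_⟩
  rw [comap_ideal_eq_map 𝓔 j ⟨N, hN⟩ W' hNW', hI, Ideal.map_span, Set.image_singleton]

theorem quasiCompact_prodInterior {S T X : Scheme.{u}} (f : X ⟶ S) (g : T ⟶ S)
    (I : X.IdealSheafData) (J : T.IdealSheafData) (hX : BlowUp.IsEffCartierIdeal I)
    (hT : BlowUp.IsEffCartierIdeal J) : QuasiCompact (ModPair.prodInterior f g I J).ι := by
  have hlp := locPrincipal_mul (I.comap (pullback.fst f g)) (J.comap (pullback.snd f g))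
    (exists_principal_nbhd_comap I hX _) (exists_principal_nbhd_comap J hT _)
  haveI := isAffineHom_compl_of_locPrincipal _ hlp
  have heq : ModPair.prodInterior f g I J =
      (I.comap (pullback.fst f g) * J.comap (pullback.snd f g)).support.compl := by
    ext z
    rw [Scheme.IdealSheafData.support_mul, Scheme.IdealSheafData.support_comap,
      Scheme.IdealSheafData.support_comap]
    show (pullback.fst f g z ∉ I.support ∧ pullback.snd f g z ∉ J.support) ↔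
      ¬ (pullback.fst f g z ∈ I.support ∨ pullback.snd f g z ∈ J.support)
    tauto
  rw [heq]
  infer_instance

theorem mem_support_iff_le_pt {S : Scheme.{u}} (𝓘 : S.IdealSheafData) (O : S.affineOpens)
    (w : S) (hw : w ∈ O.1) : w ∈ 𝓘.support ↔ 𝓘.ideal O ≤ pt S O.1 w hw := by
  constructor
  · exact ideal_le_pt_of_mem_support 𝓘 O w hw
  · intro h
    rw [Scheme.IdealSheafData.mem_support_iff_of_mem hw, Scheme.mem_zeroLocus_iff]
    intro a ha
    exact (mem_pt hw a).mp (h ha)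

theorem ring_key {R : Type*} [CommRing R] (K : Ideal R) (a b c : R)
    (ha : a ∈ nonZeroDivisors R) (hb : b ∈ nonZeroDivisors R) (hc : c ∈ nonZeroDivisors R)
    (hsup : Ideal.span {a} ⊔ Ideal.span {b} = Ideal.span {c})
    (hK : K * Ideal.span {c} = Ideal.span {a} * Ideal.span {b}) :
    ∃ k ∈ nonZeroDivisors R, K = Ideal.span {k} ∧ K ≤ Ideal.span {a} ∧ K ≤ Ideal.span {b} ∧
      ∀ 𝔭 : Ideal R, 𝔭.IsPrime → (K ≤ 𝔭 ↔ (a ∈ 𝔭 ∨ b ∈ 𝔭)) := by
  have hac : a ∈ Ideal.span {c} := by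
    rw [← hsup]; exact Ideal.mem_sup_left (Ideal.mem_span_singleton_self a)
  have hbc : b ∈ Ideal.span {c} := by
    rw [← hsup]; exact Ideal.mem_sup_right (Ideal.mem_span_singleton_self b)
  obtain ⟨a', ha'⟩ := Ideal.mem_span_singleton'.mp hac
  obtain ⟨b', hb'⟩ := Ideal.mem_span_singleton'.mp hbc
  have ha'n : a' ∈ nonZeroDivisors R := (mul_mem_nonZeroDivisors.mp (ha' ▸ ha)).1
  have hb'n : b' ∈ nonZeroDivisors R := (mul_mem_nonZeroDivisors.mp (hb' ▸ hb)).1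
  have hkn : a' * b' * c ∈ nonZeroDivisors R := mul_mem (mul_mem ha'n hb'n) hc
  have hcancel : ∀ x y : R, x * c = y * c → x = y := by
    intro x y h
    have h0 : (x - y) * c = 0 := by rw [sub_mul, h, sub_self]
    exact sub_eq_zero.mp ((mem_nonZeroDivisors_iff_right.mp hc) _ h0)
  have hKc : K * Ideal.span {c} = Ideal.span {a' * b' * c * c} := by
    rw [hK, Ideal.span_singleton_mul_span_singleton, ← ha', ← hb']
    congr 2; ring
  have hKk : K = Ideal.span {a' * b' * c} := by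
    apply le_antisymm
    · intro x hx
      have h1 : x * c ∈ K * Ideal.span {c} := Ideal.mul_mem_mul hx (Ideal.mem_span_singleton_self c)
      rw [hKc] at h1
      obtain ⟨m, hm⟩ := Ideal.mem_span_singleton'.mp h1
      have h2 : x = m * (a' * b' * c) := hcancel _ _ (by rw [← hm]; ring)
      rw [h2]
      exact Ideal.mul_mem_left _ _ (Ideal.mem_span_singleton_self _)
    · rw [Ideal.span_singleton_le_iff_mem]
      have h1 : a' * b' * c * c ∈ K * Ideal.span {c} := by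
        rw [hKc]; exact Ideal.mem_span_singleton_self _
      obtain ⟨z, hz, hzc⟩ := Ideal.mem_mul_span_singleton.mp h1
      rw [← hcancel _ _ hzc]
      exact hz
  refine ⟨a' * b' * c, hkn, hKk, ?_, ?_, ?_⟩
  · rw [hKk, Ideal.span_singleton_le_span_singleton]
    exact ⟨b', by rw [← ha']; ring⟩
  · rw [hKk, Ideal.span_singleton_le_span_singleton]
    exact ⟨a', by rw [← hb']; ring⟩
  · intro 𝔭 h𝔭
    rw [hKk, Ideal.span_singleton_le_iff_mem]
    constructor
    · intro h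
      rcases h𝔭.mem_or_mem h with h1 | h1
      · rcases h𝔭.mem_or_mem h1 with h2 | h2
        · left; rw [← ha']; exact Ideal.mul_mem_right _ _ h2
        · right; rw [← hb']; exact Ideal.mul_mem_right _ _ h2
      · left; rw [← ha']; exact Ideal.mul_mem_left _ _ h1
    · rintro (h | h)
      · have : a' * b' * c = a * b' := by rw [← ha']; ring
        rw [this]; exact Ideal.mul_mem_right _ _ h
      · have : a' * b' * c = a' * b := by rw [← hb']; ring
        rw [this]; exact Ideal.mul_mem_left _ _ h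

/-- Let (S, I_S), (T, J), (X, I) be schemes with quasi-coherent ideal sheaves of effective Cartier
divisors and f : X ⟶ S, g : T ⟶ S morphisms satisfying the modulus condition. Let Y₀ be the
scheme-theoretic image of pr₁⁻¹(X°) ∩ pr₂⁻¹(T°) in X ×_S T, let π : Y ⟶ Y₀ be a blowing up of Y₀ in
the sum of the two ideal sheaves I, J pulled back to Y₀ (the intersection of the two pulled-back
divisors), and let K be an ideal sheaf on Y whose product with the exceptional ideal is the product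
of the pull-backs of I and J to Y. Then K is the ideal sheaf of an effective Cartier divisor (the
divisor D_X + D_T − E), the projections Y ⟶ X and Y ⟶ T satisfy the modulus condition with respect
to K, and the interior of (Y, K) is the preimage of pr₁⁻¹(X°) ∩ pr₂⁻¹(T°). -/
theorem result {S T X Y : Scheme.{u}} (IS : S.IdealSheafData)
    (J : T.IdealSheafData) (I : X.IdealSheafData) (hS : BlowUp.IsEffCartierIdeal IS)
    (hT : BlowUp.IsEffCartierIdeal J) (hX : BlowUp.IsEffCartierIdeal I)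
    (f : X ⟶ S) (hf : ModPair.IsAmbient I IS f) (g : T ⟶ S) (hg : ModPair.IsAmbient J IS g)
    (π : Y ⟶ ModPair.mprod f g I J) (K : Y.IdealSheafData) (hY : ModPair.IsAmbProd f g I J π K) :
    BlowUp.IsEffCartierIdeal K ∧
      ModPair.IsAmbient K I (π ≫ ModPair.mprodι f g I J ≫ pullback.fst f g) ∧
      ModPair.IsAmbient K J (π ≫ ModPair.mprodι f g I J ≫ pullback.snd f g) ∧
      ModPair.interior K = (π ≫ ModPair.mprodι f g I J) ⁻¹ᵁ ModPair.prodInterior f g I J := by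
  obtain ⟨hπ, hKeq⟩ := hY
  haveI hqc := quasiCompact_prodInterior f g I J hX hT
  have hI₀ : BlowUp.IsEffCartierIdeal (I.comap (ModPair.mprodι f g I J ≫ pullback.fst f g)) :=
    effCartier_comap_image (ModPair.prodInterior f g I J) (pullback.fst f g) I hX
      (fun z hz => hz.1)
  have hJ₀ : BlowUp.IsEffCartierIdeal (J.comap (ModPair.mprodι f g I J ≫ pullback.snd f g)) :=
    effCartier_comap_image (ModPair.prodInterior f g I J) (pullback.snd f g) J hT
      (fun z hz => hz.2)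
  have hI' := effCartier_comap_of_isBlowUp _ π hπ _ hI₀
  have hJ' := effCartier_comap_of_isBlowUp _ π hπ _ hJ₀
  have hC' : BlowUp.IsEffCartierIdeal ((ModPair.prodCentre f g I J).comap π) := hπ.1
  have hCsup : (ModPair.prodCentre f g I J).comap π =
      (I.comap (ModPair.mprodι f g I J ≫ pullback.fst f g)).comap π ⊔
        (J.comap (ModPair.mprodι f g I J ≫ pullback.snd f g)).comap π := by
    unfold ModPair.prodCentre
    rw [Scheme.IdealSheafData.comap_sup]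
  have hlocal : ∀ y : Y, ∃ (N : Y.affineOpens) (a b c : Γ(Y, N.1)), y ∈ N.1 ∧
      a ∈ nonZeroDivisors Γ(Y, N.1) ∧ b ∈ nonZeroDivisors Γ(Y, N.1) ∧
      c ∈ nonZeroDivisors Γ(Y, N.1) ∧
      ((I.comap (ModPair.mprodι f g I J ≫ pullback.fst f g)).comap π).ideal N = Ideal.span {a} ∧
      ((J.comap (ModPair.mprodι f g I J ≫ pullback.snd f g)).comap π).ideal N = Ideal.span {b} ∧
      ((ModPair.prodCentre f g I J).comap π).ideal N = Ideal.span {c} := by
    intro y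
    obtain ⟨U₁, hyU₁, a₁, ha₁, hIa₁⟩ := hI' y
    obtain ⟨W₂, hW₂U₁, g₁, hW₂g, hyW₂, b₂, hb₂, hJb₂⟩ := exists_good_nbhd _ hJ' U₁ y hyU₁
    obtain ⟨ha₂, hIa₂⟩ := cartier_restrict_basicOpen _ hW₂U₁ g₁ hW₂g a₁ ha₁ hIa₁
    obtain ⟨W₃, hW₃W₂, g₂, hW₃g, hyW₃, c₃, hc₃, hCc₃⟩ := exists_good_nbhd _ hC' W₂ y hyW₂
    obtain ⟨ha₃, hIa₃⟩ := cartier_restrict_basicOpen _ hW₃W₂ g₂ hW₃g _ ha₂ hIa₂
    obtain ⟨hb₃, hJb₃⟩ := cartier_restrict_basicOpen _ hW₃W₂ g₂ hW₃g b₂ hb₂ hJb₂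
    exact ⟨W₃, _, _, c₃, hyW₃, ha₃, hb₃, hc₃, hIa₃, hJb₃, hCc₃⟩
  have hkey : ∀ y : Y, ∃ (N : Y.affineOpens), y ∈ N.1 ∧
      (∃ k ∈ nonZeroDivisors Γ(Y, N.1), K.ideal N = Ideal.span {k}) ∧
      K.ideal N ≤ ((I.comap (ModPair.mprodι f g I J ≫ pullback.fst f g)).comap π).ideal N ∧
      K.ideal N ≤ ((J.comap (ModPair.mprodι f g I J ≫ pullback.snd f g)).comap π).ideal N ∧
      ∀ 𝔭 : Ideal Γ(Y, N.1), 𝔭.IsPrime → (K.ideal N ≤ 𝔭 ↔
        (((I.comap (ModPair.mprodι f g I J ≫ pullback.fst f g)).comap π).ideal N ≤ 𝔭 ∨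
          ((J.comap (ModPair.mprodι f g I J ≫ pullback.snd f g)).comap π).ideal N ≤ 𝔭)) := by
    intro y
    obtain ⟨N, a, b, c, hyN, ha, hb, hc, hIa, hJb, hCc⟩ := hlocal y
    have hsup : Ideal.span {a} ⊔ Ideal.span {b} = Ideal.span {c} := by
      rw [← hIa, ← hJb, ← hCc, hCsup]; rfl
    have hK : K.ideal N * Ideal.span {c} = Ideal.span {a} * Ideal.span {b} := by
      rw [← hIa, ← hJb, ← hCc]
      exact congrArg (fun L => Scheme.IdealSheafData.ideal L N) hKeq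
    obtain ⟨k, hk, hKk, hKa, hKb, hprime⟩ := ring_key (K.ideal N) a b c ha hb hc hsup hK
    refine ⟨N, hyN, ⟨k, hk, hKk⟩, hIa ▸ hKa, hJb ▸ hKb, fun 𝔭 h𝔭 => ?_⟩
    rw [hprime 𝔭 h𝔭, hIa, hJb, Ideal.span_singleton_le_iff_mem, Ideal.span_singleton_le_iff_mem]
  choose N hyN hNk hNI hNJ hNprime using hkey
  have hcover : ⨆ y, (N y).1 = ⊤ := top_le_iff.mp (fun y _ => by simpa using ⟨y, hyN y⟩)
  refine ⟨?_, ?_, ?_, ?_⟩
  · intro y
    obtain ⟨k, hk, hKk⟩ := hNk y
    exact ⟨N y, hyN y, k, hk, hKk⟩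
  · show K ≤ I.comap (π ≫ ModPair.mprodι f g I J ≫ pullback.fst f g)
    rw [Scheme.IdealSheafData.comap_comp]
    exact Scheme.IdealSheafData.le_of_iSup_eq_top N hcover hNI
  · show K ≤ J.comap (π ≫ ModPair.mprodι f g I J ≫ pullback.snd f g)
    rw [Scheme.IdealSheafData.comap_comp]
    exact Scheme.IdealSheafData.le_of_iSup_eq_top N hcover hNJ
  · ext y
    have hsuppK : y ∈ K.support ↔
        (y ∈ ((I.comap (ModPair.mprodι f g I J ≫ pullback.fst f g)).comap π).support ∨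
          y ∈ ((J.comap (ModPair.mprodι f g I J ≫ pullback.snd f g)).comap π).support) := by
      rw [mem_support_iff_le_pt K (N y) y (hyN y), mem_support_iff_le_pt _ (N y) y (hyN y),
        mem_support_iff_le_pt _ (N y) y (hyN y)]
      exact hNprime y _ inferInstance
    have h1 : y ∈ ((I.comap (ModPair.mprodι f g I J ≫ pullback.fst f g)).comap π).support ↔
        pullback.fst f g (ModPair.mprodι f g I J (π y)) ∈ I.support := by
      rw [Scheme.IdealSheafData.support_comap, Scheme.IdealSheafData.support_comap]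
      rfl
    have h2 : y ∈ ((J.comap (ModPair.mprodι f g I J ≫ pullback.snd f g)).comap π).support ↔
        pullback.snd f g (ModPair.mprodι f g I J (π y)) ∈ J.support := by
      rw [Scheme.IdealSheafData.support_comap, Scheme.IdealSheafData.support_comap]
      rfl
    show y ∉ K.support ↔ (pullback.fst f g (ModPair.mprodι f g I J (π y)) ∉ I.support ∧
      pullback.snd f g (ModPair.mprodι f g I J (π y)) ∉ J.support)
    rw [hsuppK, h1, h2]
    tauto

end Groth.Agent.S18749
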