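import Groth.Statements.S18735
import Mathlib
import Groth.Agent.S18749
import Groth.Agent.S17083

set_option autoImplicit false
universe u
open CategoryTheory CategoryTheory.Limits AlgebraicGeometry TopologicalSpace
open ModPair

namespace Groth.Agent.S18735


theorem isIso_restrict_of_le {A B : Scheme.{u}} (h : A ⟶ B) (W V : B.Opens) (hVW : V ≤ W)
    (hW : IsIso (h ∣_ W)) : IsIso (h ∣_ V) := by
  have e1 := morphismRestrictRestrict h W (W.ι ⁻¹ᵁ V)
  have heq : W.ι ''ᵁ (W.ι ⁻¹ᵁ V) = V := by
    rw [Scheme.Hom.image_preimage_eq_opensRange_inf, Scheme.Opens.opensRange_ι]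
    exact inf_eq_right.mpr hVW
  have e2 := e1 ≪≫ morphismRestrictEq h heq
  have h1 : IsIso (h ∣_ W ∣_ (W.ι ⁻¹ᵁ V)) := inferInstance
  exact ((MorphismProperty.isomorphisms _).arrow_mk_iso_iff e2).mp h1

/-- The closed immersion of the scheme-theoretic closure of an open `O` is an isomorphism over `O`. -/
theorem isIso_imageι_restrict {P : Scheme.{u}} (O : P.Opens) : IsIso (O.ι.imageι ∣_ O) := by
  haveI : IsClosedImmersion (O.ι.imageι ∣_ O) :=
    IsZariskiLocalAtTarget.restrict (P := @IsClosedImmersion) inferInstance O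
  have hrange : Set.range O.ι.toImage ⊆ Set.range (O.ι.imageι ⁻¹ᵁ O).ι := by
    rintro _ ⟨o, rfl⟩
    rw [Scheme.Opens.range_ι]
    show O.ι.imageι (O.ι.toImage o) ∈ O
    rw [← Scheme.Hom.comp_apply, O.ι.toImage_imageι]
    exact o.2
  let σ : (O : Scheme.{u}) ⟶ (O.ι.imageι ⁻¹ᵁ O : Scheme.{u}) :=
    IsOpenImmersion.lift (O.ι.imageι ⁻¹ᵁ O).ι O.ι.toImage hrange
  have hσ : σ ≫ (O.ι.imageι ⁻¹ᵁ O).ι = O.ι.toImage := IsOpenImmersion.lift_fac _ _ _
  have hsec : σ ≫ (O.ι.imageι ∣_ O) = 𝟙 _ := by
    rw [← cancel_mono O.ι, Category.assoc, morphismRestrict_ι, ← Category.assoc, hσ,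
      O.ι.toImage_imageι, Category.id_comp]
  haveI : IsSplitEpi (O.ι.imageι ∣_ O) := IsSplitEpi.mk' ⟨σ, hsec⟩
  exact isIso_of_mono_of_isSplitEpi _

/-- Let (S, I_S), (T, I_T), (X, I_X) be schemes equipped with quasi-coherent ideal sheaves of effective
Cartier divisors, g : T ⟶ S a morphism satisfying the modulus condition I_T ≤ I_S.comap g, and s : X
⟶ S an abstract admissible blow-up (I_X = I_S.comap s, s proper and an isomorphism over the open
complement of the support of I_S). Let Y be the scheme-theoretic image in X ×_S T of the open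
pr₁⁻¹(X°) ∩ pr₂⁻¹(T°), where X°, T° are the open complements of the supports of I_X, I_T, with
projections q : Y ⟶ T and r : Y ⟶ X. Then I_T.comap q is the ideal sheaf of an effective Cartier
divisor on Y, q is an abstract admissible blow-up from (Y, I_T.comap q) to (T, I_T), and r satisfies
the modulus condition from (Y, I_T.comap q) to (X, I_X). -/
theorem result {S T X : Scheme.{u}} (IS : S.IdealSheafData)
    (IT : T.IdealSheafData) (IX : X.IdealSheafData) (hS : BlowUp.IsEffCartierIdeal IS)
    (hT : BlowUp.IsEffCartierIdeal IT) (hX : BlowUp.IsEffCartierIdeal IX)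
    (g : T ⟶ S) (hg : ModPair.IsAmbient IT IS g) (s : X ⟶ S) (hs : ModPair.IsAdmBlowup IX IS s) :
    BlowUp.IsEffCartierIdeal (IT.comap (ModPair.mprodι s g IX IT ≫ pullback.snd s g)) ∧
      ModPair.IsAdmBlowup (IT.comap (ModPair.mprodι s g IX IT ≫ pullback.snd s g)) IT
        (ModPair.mprodι s g IX IT ≫ pullback.snd s g) ∧
      ModPair.IsAmbient (IT.comap (ModPair.mprodι s g IX IT ≫ pullback.snd s g)) IX
        (ModPair.mprodι s g IX IT ≫ pullback.fst s g) := by
  obtain ⟨hmin, hsprop, hsiso⟩ := hs
  haveI := hsprop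
  haveI hqc := Groth.Agent.S18749.quasiCompact_prodInterior s g IX IT hX hT
  have hIX : IX = IS.comap s := hmin
  -- interior IT ≤ g⁻¹ interior IS
  have hTS : ModPair.interior IT ≤ g ⁻¹ᵁ ModPair.interior IS := by
    intro t ht hmem
    apply ht
    have h1 : t ∈ (IS.comap g).support := by
      rw [Scheme.IdealSheafData.support_comap]; exact hmem
    exact Scheme.IdealSheafData.support_antitone hg h1
  -- snd⁻¹(T°) = prodInterior
  have hO : pullback.snd s g ⁻¹ᵁ ModPair.interior IT = ModPair.prodInterior s g IX IT := by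
    apply le_antisymm
    · intro z hz
      refine ⟨?_, hz⟩
      intro hmem
      have h1 : pullback.fst s g z ∈ (IS.comap s).support := hIX ▸ hmem
      rw [Scheme.IdealSheafData.support_comap] at h1
      have h2 : s (pullback.fst s g z) ∈ IS.support := h1
      have h3 : s (pullback.fst s g z) = g (pullback.snd s g z) := by
        rw [← Scheme.Hom.comp_apply, ← Scheme.Hom.comp_apply, pullback.condition]
      rw [h3] at h2
      exact hTS hz h2
    · exact inf_le_right
  refine ⟨?_, ⟨rfl, ?_, ?_⟩, ?_⟩
  · exact Groth.Agent.S18749.effCartier_comap_image (ModPair.prodInterior s g IX IT)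
      (pullback.snd s g) IT hT (fun z hz => hz.2)
  · haveI : IsProper (pullback.snd s g) := MorphismProperty.pullback_snd (P := @IsProper) s g hsprop
    infer_instance
  · rw [morphismRestrict_comp]
    have h1 : IsIso (pullback.snd s g ∣_ ModPair.interior IT) := by
      have sq : IsPullback (pullback.snd s g) (pullback.fst s g) g s :=
        (IsPullback.of_hasPullback s g).flip
      have hW := Groth.Agent.S17083.isIso_restrict_fst sq (ModPair.interior IS) hsiso
      exact isIso_restrict_of_le _ _ _ hTS hW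
    have h2 : IsIso (ModPair.mprodι s g IX IT ∣_ (pullback.snd s g ⁻¹ᵁ ModPair.interior IT)) := by
      rw [hO]
      exact isIso_imageι_restrict _
    exact IsIso.comp_isIso' h2 h1
  · show IT.comap (ModPair.mprodι s g IX IT ≫ pullback.snd s g) ≤
      IX.comap (ModPair.mprodι s g IX IT ≫ pullback.fst s g)
    generalize ModPair.mprodι s g IX IT = ιY
    have h0 : IT.comap (ιY ≫ pullback.snd s g) ≤ (IS.comap g).comap (ιY ≫ pullback.snd s g) :=
      Scheme.IdealSheafData.comap_mono (ιY ≫ pullback.snd s g) (show IT ≤ IS.comap g from hg)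
    have h1 : IX.comap (ιY ≫ pullback.fst s g) = (IS.comap g).comap (ιY ≫ pullback.snd s g) := by
      calc IX.comap (ιY ≫ pullback.fst s g)
          = (IS.comap s).comap (ιY ≫ pullback.fst s g) :=
            congrArg (fun L => Scheme.IdealSheafData.comap L (ιY ≫ pullback.fst s g)) hIX
        _ = IS.comap ((ιY ≫ pullback.fst s g) ≫ s) := (Scheme.IdealSheafData.comap_comp _ _ _).symm
        _ = IS.comap ((ιY ≫ pullback.snd s g) ≫ g) := by
            rw [Category.assoc, Category.assoc, pullback.condition]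
        _ = (IS.comap g).comap (ιY ≫ pullback.snd s g) := Scheme.IdealSheafData.comap_comp _ _ _
    rw [h1]
    exact h0

end Groth.Agent.S18735
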