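import Groth.Statements.S4860
import Mathlib
import Groth.Agent.Lib.helper7.Jac1

set_option autoImplicit false
universe u
open EGA43

namespace Groth.Agent.S4860

open Groth.Agent.Lib.helper7.Jac

/-- For an integral domain B the following are equivalent: a) the localization B_f is a field for some
nonzero f; b) the fraction field of B is a finitely generated B-algebra; c) there is a field
containing B (an injective algebra map from B) which is a finitely generated B-algebra; d) the
generic point of Spec B is open. -/
theorem result (B : Type u) [CommRing B] [IsDomain B] :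
    [∃ f : B, f ≠ 0 ∧ IsField (Localization.Away f),
      Algebra.FiniteType B (FractionRing B),
      ∃ (K : Type u) (_ : Field K) (_ : Algebra B K), Function.Injective (algebraMap B K) ∧ Algebra.FiniteType B K,
      IsOpen ({⟨⊥, Ideal.bot_prime⟩} : Set (PrimeSpectrum B))].TFAE := by
  classical
  tfae_have 1 → 2 := by
    rintro ⟨f, hf, hF⟩
    have hle : Submonoid.powers f ≤ nonZeroDivisors B :=
      powers_le_nonZeroDivisors_of_noZeroDivisors hf
    have hinj : Function.Injective (algebraMap B (Localization.Away f)) :=
      IsLocalization.injective _ hle
    have hfr : IsLocalization (nonZeroDivisors B) (Localization.Away f) :=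
      IsLocalization.of_le (Submonoid.powers f) (nonZeroDivisors B) hle (fun r hr => by
        have hne : algebraMap B (Localization.Away f) r ≠ 0 := fun h =>
          nonZeroDivisors.ne_zero hr (hinj (h.trans (map_zero _).symm))
        obtain ⟨u, hu⟩ := hF.mul_inv_cancel hne
        exact IsUnit.of_mul_eq_one u hu)
    have hft : Algebra.FiniteType B (Localization.Away f) :=
      have := IsLocalization.Away.finitePresentation (S := Localization.Away f) f
      Algebra.FiniteType.of_finitePresentation
    exact hft.equiv (IsLocalization.algEquiv (nonZeroDivisors B) (Localization.Away f)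
      (FractionRing B))
  tfae_have 2 → 3 := by
    intro h
    exact ⟨FractionRing B, inferInstance, inferInstance, IsFractionRing.injective B _, h⟩
  tfae_have 3 → 1 := by
    rintro ⟨K, instK, instA, hinj, hft⟩
    letI algFK : Algebra (FractionRing B) K := (IsFractionRing.lift hinj).toAlgebra
    have : IsScalarTower B (FractionRing B) K :=
      IsScalarTower.of_algebraMap_eq fun x => (IsFractionRing.lift_algebraMap hinj x).symm
    have : Algebra.FiniteType (FractionRing B) K :=
      Algebra.FiniteType.of_restrictScalars_finiteType B (FractionRing B) K
    have : Module.Finite (FractionRing B) K :=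
      finite_of_finite_type_of_isJacobsonRing (FractionRing B) K
    have hint : Algebra.IsIntegral (FractionRing B) K :=
      Algebra.IsIntegral.of_finite (FractionRing B) K
    obtain ⟨s, hs⟩ := hft.out
    have hm : ∀ x : K, ∃ m : nonZeroDivisors B, IsIntegral B (m • x) := fun x =>
      IsIntegral.exists_multiple_integral_of_isLocalization (nonZeroDivisors B) x
        (hint.isIntegral x)
    choose m hm using hm
    set f : B := ∏ x ∈ s, (m x : B) with hf_def
    have hf : f ≠ 0 := Finset.prod_ne_zero_iff.mpr fun x _ => nonZeroDivisors.ne_zero (m x).2
    have hunit : IsUnit (algebraMap B K f) :=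
      IsUnit.mk0 _ (fun h => hf (hinj (h.trans (map_zero _).symm)))
    letI algLK : Algebra (Localization.Away f) K := (IsLocalization.Away.lift f hunit).toAlgebra
    have htower : IsScalarTower B (Localization.Away f) K :=
      IsScalarTower.of_algebraMap_eq fun x => (IsLocalization.Away.lift_eq f hunit x).symm
    have hinjL : Function.Injective (algebraMap (Localization.Away f) K) := by
      rw [injective_iff_map_eq_zero]
      intro z hz
      obtain ⟨⟨a, y⟩, rfl⟩ := IsLocalization.mk'_surjective (Submonoid.powers f) z
      have hspec := IsLocalization.mk'_spec (Localization.Away f) a y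
      have h2 := congrArg (algebraMap (Localization.Away f) K) hspec
      rw [map_mul, hz, zero_mul, ← IsScalarTower.algebraMap_apply] at h2
      have ha : a = 0 := hinj (h2.symm.trans (map_zero _).symm)
      rw [ha]
      exact IsLocalization.mk'_zero y
    have hxs : ∀ x ∈ s, IsIntegral (Localization.Away f) x := by
      intro x hx
      have h1 : IsIntegral (Localization.Away f) ((m x) • x) := (hm x).tower_top
      have hdvd : ((m x : B)) ∣ f := Finset.dvd_prod_of_mem (fun x => (m x : B)) hx
      have hu : IsUnit (algebraMap B (Localization.Away f) (m x : B)) :=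
        isUnit_of_dvd_unit (map_dvd _ hdvd) (IsLocalization.Away.algebraMap_isUnit f)
      obtain ⟨u, hu'⟩ := hu.exists_left_inv
      have hx_eq : x = algebraMap (Localization.Away f) K u * ((m x) • x) := by
        rw [Submonoid.smul_def, Algebra.smul_def, ← mul_assoc,
          IsScalarTower.algebraMap_apply B (Localization.Away f) K, ← map_mul, hu', map_one,
          one_mul]
      rw [hx_eq]
      exact IsIntegral.mul isIntegral_algebraMap h1
    have hall : Algebra.IsIntegral (Localization.Away f) K := by
      refine ⟨fun z => ?_⟩
      have hle : Algebra.adjoin B (s : Set K) ≤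
          (integralClosure (Localization.Away f) K).restrictScalars B :=
        Algebra.adjoin_le fun x hx => hxs x hx
      have hz : z ∈ Algebra.adjoin B (s : Set K) := by
        rw [hs]
        exact Algebra.mem_top
      exact hle hz
    exact ⟨f, hf, isField_of_isIntegral_of_isField hinjL (Field.toIsField K)⟩
  tfae_have 1 → 4 := by
    rintro ⟨f, hf, hF⟩
    have heq : ({⟨⊥, Ideal.bot_prime⟩} : Set (PrimeSpectrum B)) =
        (PrimeSpectrum.basicOpen f : Set (PrimeSpectrum B)) := by
      ext p
      constructor
      · intro hp
        rw [Set.mem_singleton_iff] at hp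
        subst hp
        exact fun h => hf (Ideal.mem_bot.mp h)
      · intro hp
        have hbot : p.asIdeal = ⊥ := eq_bot_of_isField_away hf hF p.asIdeal hp
        exact PrimeSpectrum.ext hbot
    rw [heq]
    exact (PrimeSpectrum.basicOpen f).isOpen
  tfae_have 4 → 1 := by
    intro h
    obtain ⟨_, ⟨f, rfl⟩, hmem, hsub⟩ :=
      PrimeSpectrum.isTopologicalBasis_basic_opens.exists_subset_of_mem_open
        (Set.mem_singleton _) h
    have hf : f ≠ 0 := fun h0 => hmem (h0 ▸ Ideal.zero_mem _)
    refine ⟨f, hf, isField_away_of_forall hf fun p hp hfp => ?_⟩
    have := hsub (show (⟨p, hp⟩ : PrimeSpectrum B) ∈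
      (PrimeSpectrum.basicOpen f : Set (PrimeSpectrum B)) from hfp)
    exact congrArg PrimeSpectrum.asIdeal this
  tfae_finish

end Groth.Agent.S4860
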