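import Groth.Statements.S4861
import Mathlib
import Groth.Agent.Lib.helper7.Jac1

set_option autoImplicit false
universe u
open EGA43

namespace Groth.Agent.S4861

open Groth.Agent.Lib.helper7.Jac

/-- For a Noetherian integral domain B the following are equivalent (and hence equivalent to: the
fraction field of B is a finitely generated B-algebra; the generic point of Spec B is open): a) the
localization B_f is a field for some nonzero f; e) Spec B is finite; f) B is semi-local (finitely
many maximal ideals) of Krull dimension at most 1. -/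
theorem result (B : Type u) [CommRing B] [IsDomain B]
    [IsNoetherianRing B] :
    [∃ f : B, f ≠ 0 ∧ IsField (Localization.Away f),
      Finite (PrimeSpectrum B),
      Finite (MaximalSpectrum B) ∧ ringKrullDim B ≤ 1].TFAE := by
  classical
  tfae_have 1 → 3 := by
    rintro ⟨f, hf, hF⟩
    have hA : ∀ (p : Ideal B) [p.IsPrime], p ≠ ⊥ → f ∈ p := fun p _ hp => by
      by_contra hfp
      exact hp (eq_bot_of_isField_away hf hF p hfp)
    set T := (Ideal.span {f}).minimalPrimes with hT
    have hTfin : T.Finite := Ideal.finite_minimalPrimes_of_isNoetherianRing B _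
    have hTht : ∀ p ∈ T, p.height ≤ 1 := fun p hp =>
      Ideal.height_le_one_of_isPrincipal_of_mem_minimalPrimes _ p hp
    have hC : ∀ (q : Ideal B) [q.IsPrime], q ≠ ⊥ → q ∈ T := by
      intro q hq hq0
      by_contra hqT
      have hfq : Ideal.span {f} ≤ q := (Ideal.span_singleton_le_iff_mem _).mpr (hA q hq0)
      have havoid : ¬ ((q : Set B) ⊆ ⋃ p ∈ (hTfin.toFinset : Set (Ideal B)), (p : Set B)) := by
        intro hsub
        rw [Ideal.subset_union_prime (f := fun p : Ideal B => p) ⊥ ⊥
          (fun p hp _ _ => (hTfin.mem_toFinset.mp hp).1.1)] at hsub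
        obtain ⟨p', hp', hqp'⟩ := hsub
        have hp'T : p' ∈ T := hTfin.mem_toFinset.mp hp'
        have hle : p' ≤ q := hp'T.2 ⟨hq, hfq⟩ hqp'
        have heq : q = p' := le_antisymm hqp' hle
        exact hqT (heq ▸ hp'T)
      obtain ⟨x, hxq, hxT⟩ := Set.not_subset.mp havoid
      have hxT' : ∀ p ∈ T, x ∉ p := fun p hp hxp =>
        hxT (Set.mem_biUnion (show p ∈ (hTfin.toFinset : Set (Ideal B)) from
          hTfin.mem_toFinset.mpr hp) hxp)
      obtain ⟨p₀, hp₀T, hp₀q⟩ := Ideal.exists_minimalPrimes_le hfq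
      have hx0 : x ≠ 0 := fun h => hxT' p₀ hp₀T (h ▸ p₀.zero_mem)
      obtain ⟨p'', hp''min, hp''q⟩ := Ideal.exists_minimalPrimes_le
        (show Ideal.span {x} ≤ q from (Ideal.span_singleton_le_iff_mem _).mpr hxq)
      have hp''prime : p''.IsPrime := hp''min.1.1
      have hxp'' : x ∈ p'' := hp''min.1.2 (Ideal.mem_span_singleton_self x)
      have hp''0 : p'' ≠ ⊥ := fun h => hx0 (by rw [h] at hxp''; exact Ideal.mem_bot.mp hxp'')
      have hp''ht : p''.height ≤ 1 :=
        Ideal.height_le_one_of_isPrincipal_of_mem_minimalPrimes _ p'' hp''min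
      obtain ⟨p', hp'T, hp'p''⟩ := Ideal.exists_minimalPrimes_le
        (show Ideal.span {f} ≤ p'' from (Ideal.span_singleton_le_iff_mem _).mpr (hA p'' hp''0))
      have hp'prime : p'.IsPrime := hp'T.1.1
      have hp'0 : p' ≠ ⊥ := fun h => hf (by
        have := hp'T.1.2 (Ideal.mem_span_singleton_self f)
        rw [h] at this
        exact Ideal.mem_bot.mp this)
      rcases eq_or_lt_of_le hp'p'' with heq | hlt
      · exact hxT' p' hp'T (by rw [heq]; exact hxp'')
      · have h1 := Ideal.height_add_one_le_of_lt_of_isPrime hlt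
        have h2 : p'.height ≠ 0 := fun h => hp'0 (Ideal.height_eq_zero_iff_eq_bot.mp h)
        have h3 : (1 : ℕ∞) ≤ p'.height := Order.one_le_iff_ne_zero.mpr h2
        have h4 : (1 : ℕ∞) + 1 ≤ 1 := (add_le_add h3 le_rfl).trans (h1.trans hp''ht)
        exact absurd h4 (by norm_num)
    have hprimes : ∀ p : PrimeSpectrum B, p.asIdeal ∈ insert (⊥ : Ideal B) T := fun p => by
      by_cases h : p.asIdeal = ⊥
      · exact Or.inl h
      · exact Or.inr (hC p.asIdeal h)
    have hfinP : Finite (PrimeSpectrum B) := by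
      have : Finite ↥(insert (⊥ : Ideal B) T) := (hTfin.insert ⊥).to_subtype
      exact Finite.of_injective
        (fun p : PrimeSpectrum B => (⟨p.asIdeal, hprimes p⟩ : ↥(insert (⊥ : Ideal B) T)))
        (fun p q h => PrimeSpectrum.ext (congrArg Subtype.val h))
    refine ⟨Finite.of_injective _ MaximalSpectrum.toPrimeSpectrum_injective, ?_⟩
    rw [ringKrullDim_le_iff_height_le]
    intro p hp
    by_cases h : p = ⊥
    · rw [h, Ideal.height_bot]
      simp
    · exact_mod_cast hTht p (hC p h)
  tfae_have 3 → 2 := by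
    rintro ⟨hfin, hdim⟩
    have hK : Ring.KrullDimLE 1 B := Ring.krullDimLE_iff.mpr (by exact_mod_cast hdim)
    have hmax := Ring.krullDimLE_one_iff_of_isPrime_bot.mp hK
    let g : PrimeSpectrum B → Option (MaximalSpectrum B) := fun p =>
      if h : p.asIdeal = ⊥ then none else some ⟨p.asIdeal, hmax p.asIdeal h p.isPrime⟩
    refine Finite.of_injective g ?_
    intro p q hpq
    by_cases hp : p.asIdeal = ⊥ <;> by_cases hq : q.asIdeal = ⊥
    · exact PrimeSpectrum.ext (hp.trans hq.symm)
    · simp [g, hp, hq] at hpq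
    · simp [g, hp, hq] at hpq
    · simp only [g, hp, hq, dite_false, Option.some.injEq] at hpq
      exact PrimeSpectrum.ext (congrArg MaximalSpectrum.asIdeal hpq)
  tfae_have 2 → 1 := by
    intro hfin
    have hex : ∀ p : PrimeSpectrum B, ∃ x : B, x ≠ 0 ∧ (p.asIdeal ≠ ⊥ → x ∈ p.asIdeal) :=
      fun p => by
        by_cases h : p.asIdeal = ⊥
        · exact ⟨1, one_ne_zero, fun h' => absurd h h'⟩
        · obtain ⟨x, hx, hx0⟩ := Submodule.exists_mem_ne_zero_of_ne_bot h
          exact ⟨x, hx0, fun _ => hx⟩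
    choose x hx0 hxp using hex
    have := Fintype.ofFinite (PrimeSpectrum B)
    have hprod : ∏ p, x p ≠ 0 := Finset.prod_ne_zero_iff.mpr fun p _ => hx0 p
    refine ⟨∏ p, x p, hprod, isField_away_of_forall hprod fun p hp hfp => ?_⟩
    by_contra hp0
    apply hfp
    have hmem : x ⟨p, hp⟩ ∈ p := hxp ⟨p, hp⟩ hp0
    exact Ideal.mem_of_dvd p (Finset.dvd_prod_of_mem x (Finset.mem_univ ⟨p, hp⟩)) hmem
  tfae_finish

end Groth.Agent.S4861
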