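import Groth.Statements.S10967
import Mathlib
import Groth.Agent.Lib.helper4.QAffDescent

set_option autoImplicit false
universe u
open CategoryTheory AlgebraicGeometry TopologicalSpace
open MoreMor

namespace Groth.Agent.S10967

/-- Quasi-affine over an affine base: call a morphism f : X → Y quasi-affine when Y has a cover by
affine opens V_i whose preimages f⁻¹(V_i) are quasi-affine schemes (quasi-compact open subschemes of
affine schemes; equivalently quasi-compact with X → Spec Γ(X, O_X) an immersion). If Y is affine and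
f is quasi-affine in this sense, then X is a quasi-affine scheme. -/
theorem result {X Y : Scheme.{u}} [IsAffine Y]
    (f : X ⟶ Y) {ι : Type u} (V : ι → Y.Opens) (hV : iSup V = ⊤) (hVa : ∀ i, IsAffineOpen (V i))
    (hq : ∀ i, Scheme.IsQuasiAffine (↑(f ⁻¹ᵁ V i) : Scheme.{u})) :
    X.IsQuasiAffine := by
  classical
  -- finite subcover
  obtain ⟨t, ht⟩ : ∃ t : Finset ι, (⊤ : Y.Opens) ≤ ⨆ i ∈ t, V i := by
    have hc : IsCompact ((⊤ : Y.Opens) : Set Y) := by
      simpa using isCompact_univ
    have := (TopologicalSpace.Opens.isCompactElement_iff _).mpr hc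
    exact CompleteLattice.IsCompactElement.exists_finset_of_le_iSup _ this _ hV.ge
  have hcov : ∀ y : Y, ∃ i ∈ t, y ∈ V i := by
    intro y
    have : y ∈ ⨆ i ∈ t, V i := ht (by trivial)
    simpa [TopologicalSpace.Opens.mem_iSup] using this
  -- compactness
  have hqs : QuasiSeparated f := by
    rw [IsZariskiLocalAtTarget.iff_of_iSup_eq_top (P := @QuasiSeparated) V hV]
    intro i
    have := hq i
    haveI : IsAffine (V i : Scheme.{u}) := hVa i
    exact (quasiSeparated_iff_quasiSeparatedSpace _).mpr inferInstance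
  have hqc : QuasiCompact f := by
    rw [IsZariskiLocalAtTarget.iff_of_iSup_eq_top (P := @QuasiCompact) V hV]
    intro i
    have := hq i
    haveI : IsAffine (V i : Scheme.{u}) := hVa i
    exact (quasiCompact_iff_compactSpace _).mpr inferInstance
  haveI : CompactSpace X := (quasiCompact_iff_compactSpace f).mp hqc
  haveI : QuasiSeparatedSpace X := (quasiSeparated_iff_quasiSeparatedSpace f).mp hqs
  haveI : ∀ j : t, IsAffine ((V j.1 : Y.Opens) : Scheme.{u}) := fun j => hVa j.1
  refine H4QAffDesc.isQuasiAffine_of_finite_family f (σ := t)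
    (fun j => ((V j.1 : Y.Opens) : Scheme.{u})) (fun j => (V j.1).ι) ?_
    (fun j => ((f ⁻¹ᵁ V j.1 : X.Opens) : Scheme.{u})) (fun j => f ∣_ V j.1)
    (fun j => (f ⁻¹ᵁ V j.1).ι) (fun j => ?_) (fun j => hq j.1)
  · intro z
    obtain ⟨i, hi, hz⟩ := hcov z
    exact ⟨⟨i, hi⟩, by simpa using hz⟩
  · exact isPullback_morphismRestrict f (V j.1)

end Groth.Agent.S10967
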