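import Groth.Statements.S8773
import Mathlib.LinearAlgebra.TensorProduct.RightExactness

set_option autoImplicit false
universe u
open PureExt
open scoped TensorProduct

namespace Groth.Agent.S8773

/-- If `L → M → N` is a universally exact sequence of `R`-modules (exact after tensoring with any
module) then the inclusion of the image of `M → N` into `N` is universally injective. -/
theorem result (R : Type u) [CommRing R]
    {L M N : Type u} [AddCommGroup L] [Module R L] [AddCommGroup M] [Module R M] [AddCommGroup N] [Module R N]
    (f : L →ₗ[R] M) (g : M →ₗ[R] N)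
    (h : ∀ (Q : Type u) [AddCommGroup Q] [Module R Q], Function.Exact (f.rTensor Q) (g.rTensor Q)) :
    CAlgX.UniversallyInjective R (LinearMap.range g).subtype := by
  -- g ∘ f = 0
  have hgf : g ∘ₗ f = 0 := by
    ext l
    have h1 := (h R (f.rTensor R (l ⊗ₜ (1 : R)))).mpr ⟨_, rfl⟩
    simp only [LinearMap.rTensor_tmul] at h1
    have h2 := congrArg (TensorProduct.rid R N) h1
    simpa using h2
  -- factor g through its range
  let g' : M →ₗ[R] LinearMap.range g := g.rangeRestrict
  have hg' : Function.Surjective g' := g.surjective_rangeRestrict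
  have hfac : (LinearMap.range g).subtype ∘ₗ g' = g := by ext m; rfl
  have hg'f : g' ∘ₗ f = 0 := by
    ext l
    have : g (f l) = 0 := LinearMap.congr_fun hgf l
    simpa [g'] using this
  intro Q _ _
  rw [injective_iff_map_eq_zero]
  intro z hz
  obtain ⟨w, rfl⟩ := LinearMap.rTensor_surjective Q hg' z
  have h3 : g.rTensor Q w = 0 := by
    rw [← hfac, LinearMap.rTensor_comp]
    exact hz
  obtain ⟨v, rfl⟩ := (h Q w).mp h3
  rw [← LinearMap.comp_apply, ← LinearMap.rTensor_comp, hg'f, LinearMap.rTensor_zero,
    LinearMap.zero_apply]

end Groth.Agent.S8773
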