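import Groth.Statements.S19230
import Mathlib

set_option autoImplicit false
universe u v
open SigmaLin

namespace Groth.Agent.S19230

/-- Let k be a field, σ a surjective ring endomorphism of k, V a finite-dimensional k-vector space and T
: V → V additive with T (c • v) = σ c • T v. Then the set of vectors killed by some iterate of T is
a k-subspace on which a single iterate of T vanishes, it is a complement of the intersection over n
of the k-spans of the images of the n-th iterates, and T restricts to a bijection of that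
intersection onto itself. -/
theorem result
    (k : Type u) [Field k] (σ : k →+* k) (hσ : Function.Surjective σ)
    (V : Type v) [AddCommGroup V] [Module k V] [FiniteDimensional k V] (T : V →ₛₗ[σ] V) :
    (∃ W : Submodule k V, (W : Set V) = {v : V | ∃ n : ℕ, (⇑T)^[n] v = 0} ∧
      (∃ N : ℕ, ∀ v ∈ W, (⇑T)^[N] v = 0) ∧
      IsCompl W (⨅ n : ℕ, Submodule.span k (Set.range ((⇑T)^[n])))) ∧
    Set.BijOn (⇑T) (⋂ n : ℕ, (Submodule.span k (Set.range ((⇑T)^[n])) : Set V))
      (⋂ n : ℕ, (Submodule.span k (Set.range ((⇑T)^[n])) : Set V)) := by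
  classical
  set W : ℕ → Submodule k V := fun m => Submodule.span k (Set.range ((⇑T)^[m])) with hW
  -- T maps W m into W (m+1)
  have hTW : ∀ m, ∀ w ∈ W m, T w ∈ W (m + 1) := by
    intro m w hw
    induction hw using Submodule.span_induction with
    | mem x hx =>
      obtain ⟨y, rfl⟩ := hx
      apply Submodule.subset_span
      exact ⟨y, by rw [Function.iterate_succ_apply']⟩
    | zero => rw [map_zero]; exact Submodule.zero_mem _
    | add x y _ _ hx hy => rw [map_add]; exact Submodule.add_mem _ hx hy
    | smul c x _ hx => rw [LinearMap.map_smulₛₗ]; exact Submodule.smul_mem _ _ hx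
  have hanti : ∀ m, W (m + 1) ≤ W m := by
    intro m
    apply Submodule.span_mono
    rintro _ ⟨y, rfl⟩
    exact ⟨T y, by rw [Function.iterate_succ_apply]⟩
  have hanti' : Antitone W := antitone_nat_of_succ_le hanti
  -- stabilization
  obtain ⟨N, hN⟩ := IsArtinian.monotone_stabilizes (R := k) (M := V)
    ⟨fun m => OrderDual.toDual (W m), fun a b hab => hanti' hab⟩
  have hstab : ∀ m, N ≤ m → W m = W N := fun m hm =>
    (OrderDual.toDual.injective (hN m hm)).symm
  have hN1 : W (N + 1) = W N := hstab _ (Nat.le_succ N)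
  have hinf : (⨅ n, W n) = W N := le_antisymm (iInf_le _ N) (le_iInf fun n => by
    rcases le_total n N with h | h
    · exact hanti' h
    · exact (hstab n h).ge)
  -- basis of W N
  set d := Module.finrank k (W N) with hd
  let b : Module.Basis (Fin d) k (W N) := Module.finBasis k (W N)
  have hbmem : ∀ i, ((b i : W N) : V) ∈ W N := fun i => (b i).2
  have hrepr : ∀ (w : V) (hw : w ∈ W N), w = ∑ i, (b.repr ⟨w, hw⟩ i) • ((b i : W N) : V) := by
    intro w hw
    have := b.sum_repr ⟨w, hw⟩
    have h2 := congrArg (Subtype.val) this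
    simp only [Submodule.coe_sum, Submodule.coe_smul] at h2
    exact h2.symm
  have hspan : Submodule.span k (Set.range fun i => T ((b i : W N) : V)) = W N := by
    apply le_antisymm
    · rw [Submodule.span_le]
      rintro _ ⟨i, rfl⟩
      exact hN1.le (hTW N _ (hbmem i))
    · refine le_trans hN1.ge ?_
      show Submodule.span k (Set.range ((⇑T)^[N + 1])) ≤ _
      apply Submodule.span_le.mpr
      rintro _ ⟨y, rfl⟩
      rw [Function.iterate_succ_apply']
      have hy : (⇑T)^[N] y ∈ W N := Submodule.subset_span ⟨y, rfl⟩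
      rw [hrepr _ hy, map_sum]
      apply Submodule.sum_mem
      intro i _
      rw [LinearMap.map_smulₛₗ]
      exact Submodule.smul_mem _ _ (Submodule.subset_span ⟨i, rfl⟩)
  have hli : LinearIndependent k (fun i => T ((b i : W N) : V)) := by
    rw [linearIndependent_iff_card_eq_finrank_span, Set.finrank, hspan]
    simp [hd]
  have hinj : ∀ w ∈ W N, T w = 0 → w = 0 := by
    intro w hw hTw
    rw [hrepr w hw, map_sum] at hTw
    simp_rw [LinearMap.map_smulₛₗ] at hTw
    have hc := Fintype.linearIndependent_iff.mp hli _ hTw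
    rw [hrepr w hw]
    apply Finset.sum_eq_zero
    intro i _
    have : b.repr ⟨w, hw⟩ i = 0 := (map_eq_zero_iff σ σ.injective).mp (hc i)
    rw [this, zero_smul]
  have hinjn : ∀ n, ∀ w ∈ W N, (⇑T)^[n] w = 0 → w = 0 := by
    intro n
    induction n with
    | zero => intro w _ h; simpa using h
    | succ n ih =>
      intro w hw h
      rw [Function.iterate_succ_apply] at h
      have hTw : T w ∈ W N := hN1.le (hTW N w hw)
      exact hinj w hw (ih _ hTw h)
  -- surjectivity on W N
  have hsurj : ∀ y ∈ W N, ∃ x ∈ W N, T x = y := by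
    intro y hy
    rw [← hspan] at hy
    obtain ⟨c, rfl⟩ := (Submodule.mem_span_range_iff_exists_fun k).mp hy
    choose c' hc' using fun i => hσ (c i)
    refine ⟨∑ i, c' i • ((b i : W N) : V),
      Submodule.sum_mem _ fun i _ => Submodule.smul_mem _ _ (hbmem i), ?_⟩
    rw [map_sum]
    refine Finset.sum_congr rfl fun i _ => ?_
    rw [LinearMap.map_smulₛₗ, hc']
  have hsurjn : ∀ n, ∀ y ∈ W N, ∃ x ∈ W N, (⇑T)^[n] x = y := by
    intro n
    induction n with
    | zero => intro y hy; exact ⟨y, hy, rfl⟩
    | succ n ih =>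
      intro y hy
      obtain ⟨x, hx, hxy⟩ := ih y hy
      obtain ⟨z, hz, hzx⟩ := hsurj x hx
      refine ⟨z, hz, ?_⟩
      rw [Function.iterate_succ_apply, hzx, hxy]
  have hiter_smul : ∀ (n : ℕ) (c : k) (x : V), (⇑T)^[n] (c • x) = (⇑σ)^[n] c • (⇑T)^[n] x := by
    intro n
    induction n with
    | zero => intro c x; rfl
    | succ n ih =>
      intro c x
      rw [Function.iterate_succ_apply', Function.iterate_succ_apply', Function.iterate_succ_apply',
        ih, LinearMap.map_smulₛₗ]
  -- kernel submodule
  let K : Submodule k V :=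
    { carrier := {v | (⇑T)^[N] v = 0}
      add_mem' := by
        intro x y hx hy
        simp only [Set.mem_setOf_eq] at hx hy ⊢
        rw [iterate_map_add, hx, hy, add_zero]
      zero_mem' := by
        simp only [Set.mem_setOf_eq]
        rw [iterate_map_zero]
      smul_mem' := by
        intro c x hx
        simp only [Set.mem_setOf_eq] at hx ⊢
        rw [hiter_smul, hx, smul_zero] }
  have hKmem : ∀ v, v ∈ K ↔ (⇑T)^[N] v = 0 := fun v => Iff.rfl
  -- decomposition
  have hdecomp : ∀ v : V, ∃ u ∈ K, ∃ w ∈ W N, v = u + w := by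
    intro v
    have hv : (⇑T)^[N] v ∈ W N := Submodule.subset_span ⟨v, rfl⟩
    obtain ⟨w, hw, hwv⟩ := hsurjn N _ hv
    refine ⟨v - w, ?_, w, hw, by abel⟩
    rw [hKmem, iterate_map_sub, hwv, sub_self]
  have hKall : ∀ v, (∃ n : ℕ, (⇑T)^[n] v = 0) → v ∈ K := by
    rintro v ⟨n, hn⟩
    obtain ⟨u, hu, w, hw, rfl⟩ := hdecomp v
    have hu' : (⇑T)^[n + N] u = 0 := by
      rw [Function.iterate_add_apply, (hKmem u).mp hu, iterate_map_zero]
    have hw' : (⇑T)^[n + N] w = 0 := by
      have h1 : (⇑T)^[n + N] (u + w) = 0 := by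
        rw [add_comm n N, Function.iterate_add_apply, hn, iterate_map_zero]
      rw [iterate_map_add, hu', zero_add] at h1
      exact h1
    have : w = 0 := hinjn _ w hw hw'
    rw [this, add_zero]
    exact hu
  refine ⟨⟨K, ?_, ⟨N, fun v hv => (hKmem v).mp hv⟩, ?_⟩, ?_⟩
  · ext v
    exact ⟨fun hv => ⟨N, hv⟩, fun hv => hKall v hv⟩
  · rw [hinf]
    constructor
    · rw [Submodule.disjoint_def]
      intro x hxK hxW
      exact hinjn N x hxW ((hKmem x).mp hxK)
    · rw [codisjoint_iff, eq_top_iff]
      intro v _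
      obtain ⟨u, hu, w, hw, rfl⟩ := hdecomp v
      exact Submodule.add_mem_sup hu hw
  · have hS : (⋂ n : ℕ, (Submodule.span k (Set.range ((⇑T)^[n])) : Set V)) = (W N : Set V) := by
      rw [← hinf]
      rw [Submodule.coe_iInf]
    rw [hS]
    refine ⟨?_, ?_, ?_⟩
    · intro x hx
      exact hN1.le (hTW N x hx)
    · intro x hx y hy hxy
      have : x - y = 0 := hinj (x - y) (Submodule.sub_mem _ hx hy) (by rw [map_sub, hxy, sub_self])
      exact sub_eq_zero.mp this
    · intro y hy
      obtain ⟨x, hx, hxy⟩ := hsurj y hy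
      exact ⟨x, hx, hxy⟩

end Groth.Agent.S19230
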