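import Groth.Statements.S19229
import Mathlib

set_option autoImplicit false
universe u v
open SigmaLin

namespace Groth.Agent.S19229

/-- Let k be a field with a ring endomorphism σ, V a finite-dimensional k-vector space and T : V → V an
additive map with T (c • v) = σ c • T v. If some iterate of T sends v to 0 and v lies in the
k-linear span of the image of every iterate of T, then v = 0. In other words the union of the
kernels of the iterates of T and the intersection of the spans of their images meet only in 0. -/
theorem result
    (k : Type u) [Field k] (σ : k →+* k)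
    (V : Type v) [AddCommGroup V] [Module k V] [FiniteDimensional k V] (T : V →ₛₗ[σ] V) (v : V)
    (hnil : ∃ n : ℕ, (⇑T)^[n] v = 0)
    (hss : ∀ n : ℕ, v ∈ Submodule.span k (Set.range ((⇑T)^[n]))) : v = 0 := by
  classical
  set W : ℕ → Submodule k V := fun m => Submodule.span k (Set.range ((⇑T)^[m])) with hW
  -- T maps W m into W (m+1)
  have hTW : ∀ m, ∀ w ∈ W m, T w ∈ W (m + 1) := by
    intro m w hw
    induction hw using Submodule.span_induction with
    | mem x hx =>
      obtain ⟨y, rfl⟩ := hx
      apply Submodule.subset_span
      exact ⟨y, by rw [Function.iterate_succ_apply']⟩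
    | zero => rw [map_zero]; exact Submodule.zero_mem _
    | add x y _ _ hx hy => rw [map_add]; exact Submodule.add_mem _ hx hy
    | smul c x _ hx => rw [LinearMap.map_smulₛₗ]; exact Submodule.smul_mem _ _ hx
  have hanti : ∀ m, W (m + 1) ≤ W m := by
    intro m
    apply Submodule.span_mono
    rintro _ ⟨y, rfl⟩
    exact ⟨T y, by rw [Function.iterate_succ_apply]⟩
  have hanti' : Antitone W := antitone_nat_of_succ_le hanti
  -- stabilization
  obtain ⟨N, hN⟩ := IsArtinian.monotone_stabilizes (R := k) (M := V)
    ⟨fun m => OrderDual.toDual (W m), fun a b hab => hanti' hab⟩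
  have hN1 : W (N + 1) = W N := by
    have := hN (N + 1) (Nat.le_succ N)
    exact (OrderDual.toDual.injective this).symm
  -- basis of W N
  set d := Module.finrank k (W N) with hd
  let b : Module.Basis (Fin d) k (W N) := Module.finBasis k (W N)
  have hbmem : ∀ i, ((b i : W N) : V) ∈ W N := fun i => (b i).2
  -- every element of W N is a combination of b
  have hrepr : ∀ (w : V) (hw : w ∈ W N), w = ∑ i, (b.repr ⟨w, hw⟩ i) • ((b i : W N) : V) := by
    intro w hw
    have := b.sum_repr ⟨w, hw⟩
    have h2 := congrArg (Subtype.val) this
    simp only [Submodule.coe_sum, Submodule.coe_smul] at h2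
    exact h2.symm
  -- span of T b i is W N
  have hspan : Submodule.span k (Set.range fun i => T ((b i : W N) : V)) = W N := by
    apply le_antisymm
    · rw [Submodule.span_le]
      rintro _ ⟨i, rfl⟩
      exact hN1.le (hTW N _ (hbmem i))
    · refine le_trans hN1.ge ?_
      show Submodule.span k (Set.range ((⇑T)^[N + 1])) ≤ _
      apply Submodule.span_le.mpr
      rintro _ ⟨y, rfl⟩
      rw [Function.iterate_succ_apply']
      have hy : (⇑T)^[N] y ∈ W N := Submodule.subset_span ⟨y, rfl⟩
      rw [hrepr _ hy, map_sum]
      apply Submodule.sum_mem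
      intro i _
      rw [LinearMap.map_smulₛₗ]
      exact Submodule.smul_mem _ _ (Submodule.subset_span ⟨i, rfl⟩)
  have hli : LinearIndependent k (fun i => T ((b i : W N) : V)) := by
    rw [linearIndependent_iff_card_eq_finrank_span, Set.finrank, hspan]
    simp [hd]
  -- T injective on W N
  have hinj : ∀ w ∈ W N, T w = 0 → w = 0 := by
    intro w hw hTw
    rw [hrepr w hw, map_sum] at hTw
    simp_rw [LinearMap.map_smulₛₗ] at hTw
    have hc := Fintype.linearIndependent_iff.mp hli _ hTw
    rw [hrepr w hw]
    apply Finset.sum_eq_zero
    intro i _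
    have : b.repr ⟨w, hw⟩ i = 0 := (map_eq_zero_iff σ σ.injective).mp (hc i)
    rw [this, zero_smul]
  have hinjn : ∀ n, ∀ w ∈ W N, (⇑T)^[n] w = 0 → w = 0 := by
    intro n
    induction n with
    | zero => intro w _ h; simpa using h
    | succ n ih =>
      intro w hw h
      rw [Function.iterate_succ_apply] at h
      have hTw : T w ∈ W N := hN1.le (hTW N w hw)
      exact hinj w hw (ih _ hTw h)
  obtain ⟨n, hn⟩ := hnil
  exact hinjn n v (hss N) hn

end Groth.Agent.S19229
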