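import Groth.Statements.S19232
import Mathlib

set_option autoImplicit false
universe u v
open SigmaLin

namespace Groth.Agent.S19232

/-- Let k be a field with a ring endomorphism σ, and assume that for every n and every tuple (b_0, …,
b_n) of elements of k, not all zero, the equation x = Σ_{i=0}^{n} σ^{i+1}(x) σ^{i}(b_{n-i}) has a
nonzero solution x in k. Let V be a finite-dimensional k-vector space, T : V → V additive with T (c
• v) = σ c • T v, and e ∈ V a vector no iterate of T sends to 0. Then the k-span of the orbit e, T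
e, T² e, … contains a nonzero vector v with T v = v. -/
theorem result
    (k : Type u) [Field k] (σ : k →+* k)
    (V : Type v) [AddCommGroup V] [Module k V] [FiniteDimensional k V] (T : V →ₛₗ[σ] V)
    (h2 : ∀ (n : ℕ) (b : Fin (n + 1) → k), b ≠ 0 →
      ∃ x : k, x ≠ 0 ∧ x = ∑ i : Fin (n + 1), (⇑σ)^[i.val + 1] x * (⇑σ)^[i.val] (b (Fin.rev i)))
    (e : V) (he : ∀ m : ℕ, (⇑T)^[m] e ≠ 0) :
    ∃ v ∈ Submodule.span k (Set.range (fun m : ℕ => (⇑T)^[m] e)), v ≠ 0 ∧ T v = v := by
  classical
  set E : ℕ → V := fun m => (⇑T)^[m] e with hE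
  have hTE : ∀ m, T (E m) = E (m + 1) := by
    intro m
    simp only [hE]
    rw [Function.iterate_succ_apply']
  set U : ℕ → Submodule k V := fun r => Submodule.span k (Set.range (fun i : Fin r => E i)) with hU
  -- linear independence from non-membership
  have hLI : ∀ n : ℕ, (∀ j < n, E j ∉ U j) → LinearIndependent k (fun i : Fin n => E i) := by
    intro n
    induction n with
    | zero => intro _; exact linearIndependent_empty_type
    | succ n ih =>
      intro h
      rw [linearIndependent_finSucc']
      refine ⟨ih fun j hj => h j (Nat.lt_succ_of_lt hj), ?_⟩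
      exact h n (Nat.lt_succ_self n)
  -- existence of r
  have hex : ∃ r, E r ∈ U r := by
    by_contra hne
    push_neg at hne
    have := (hLI (Module.finrank k V + 1) fun j _ => hne j).fintype_card_le_finrank
    simp at this
  set r := Nat.find hex with hr
  have hrmem : E r ∈ U r := Nat.find_spec hex
  have hrmin : ∀ j < r, E j ∉ U j := fun j hj => Nat.find_min hex hj
  have hr0 : r ≠ 0 := by
    intro h0
    rw [h0] at hrmem
    have : E 0 = 0 := by
      have h1 : U 0 = ⊥ := by
        simp only [hU]
        rw [Set.range_eq_empty, Submodule.span_empty]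
      rw [h1] at hrmem
      exact (Submodule.mem_bot k).mp hrmem
    exact he 0 this
  obtain ⟨n, hn⟩ := Nat.exists_eq_succ_of_ne_zero hr0
  have hli : LinearIndependent k (fun i : Fin (n + 1) => E i) := by
    have := hLI r hrmin
    rw [hn] at this
    exact this
  have hmem' : E (n + 1) ∈ U (n + 1) := by
    have := hrmem
    rw [hn] at this
    exact this
  obtain ⟨a, ha⟩ := (Submodule.mem_span_range_iff_exists_fun k).mp hmem'
  have ha0 : a ≠ 0 := by
    intro h0
    rw [h0] at ha
    simp only [Pi.zero_apply, zero_smul, Finset.sum_const_zero] at ha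
    exact he (n + 1) ha.symm
  obtain ⟨y, hy0, hy⟩ := h2 n a ha0
  -- extend a to ℕ
  set a' : ℕ → k := fun j => if h : j < n + 1 then a ⟨j, h⟩ else 0 with ha'
  have ha'i : ∀ i : Fin (n + 1), a' i = a i := by
    intro i
    simp only [ha']
    rw [dif_pos i.2]
  -- the coefficient sequence
  set X : ℕ → k := fun j => Nat.rec (σ y * a' 0) (fun j x => σ x + σ y * a' (j + 1)) j with hX
  have hX0 : X 0 = σ y * a' 0 := rfl
  have hXs : ∀ j, X (j + 1) = σ (X j) + σ y * a' (j + 1) := fun j => rfl
  have hXformula : ∀ j, X j = ∑ i ∈ Finset.range (j + 1), (⇑σ)^[i + 1] y * (⇑σ)^[i] (a' (j - i)) := by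
    intro j
    induction j with
    | zero => simp [hX0]
    | succ j ih =>
      rw [hXs, ih, Finset.sum_range_succ' _ (j + 1), map_sum]
      congr 1
      · refine Finset.sum_congr rfl fun i _ => ?_
        rw [map_mul, ← Function.iterate_succ_apply' (⇑σ), ← Function.iterate_succ_apply' (⇑σ)]
        have : j + 1 - (i + 1) = j - i := by omega
        rw [this]
  have hXn : X n = y := by
    rw [hXformula n]
    conv_rhs => rw [hy]
    rw [← Fin.sum_univ_eq_sum_range (fun i => (⇑σ)^[i + 1] y * (⇑σ)^[i] (a' (n - i))) (n + 1)]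
    refine Finset.sum_congr rfl fun i _ => ?_
    congr 2
    rw [← ha'i, Fin.val_rev]
    congr 1
    omega
  -- the fixed vector
  refine ⟨∑ i : Fin (n + 1), X i • E i, ?_, ?_, ?_⟩
  · refine Submodule.sum_mem _ fun i _ => Submodule.smul_mem _ _ (Submodule.subset_span ⟨i, rfl⟩)
  · intro h0
    have := Fintype.linearIndependent_iff.mp hli (fun i => X i) h0 (Fin.last n)
    simp only [Fin.val_last] at this
    rw [hXn] at this
    exact hy0 this
  · rw [map_sum]
    simp_rw [LinearMap.map_smulₛₗ, hTE]
    rw [Fin.sum_univ_castSucc (fun i : Fin (n + 1) => σ (X i) • E (i + 1))]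
    rw [Fin.sum_univ_succ (fun i : Fin (n + 1) => X i • E i)]
    simp only [Fin.val_castSucc, Fin.val_last, Fin.val_succ, Fin.val_zero]
    rw [hXn, ← ha, Fin.sum_univ_succ (fun i : Fin (n + 1) => a i • E i)]
    simp only [Fin.val_succ, Fin.val_zero]
    simp_rw [hXs, hX0]
    have h1 : a' 0 = a 0 := ha'i 0
    have h2 : ∀ i : Fin n, a' (i + 1) = a i.succ := fun i => ha'i i.succ
    simp_rw [h1, h2]
    rw [smul_add, Finset.smul_sum]
    simp_rw [add_smul, mul_smul]
    rw [Finset.sum_add_distrib]
    abel

end Groth.Agent.S19232
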