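import Groth.Statements.S19233
import Mathlib
import Groth.Agent.S19229
import Groth.Agent.S19232

set_option autoImplicit false
universe u v
open SigmaLin

namespace Groth.Agent.S19233

/-- Let k be a field with a ring endomorphism σ such that (i) for every n and every tuple (b_0, …, b_n)
in k, not all zero, the equation x = Σ_{i=0}^{n} σ^{i+1}(x) σ^{i}(b_{n-i}) has a nonzero solution x
in k, and (ii) for every c in k there is y in k with σ(y) − y + c = 0. Let V be a finite-dimensional
k-vector space and T : V → V additive with T (c • v) = σ c • T v, such that the image of T spans V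
over k. Then V admits a k-basis consisting of vectors fixed by T, and the map v ↦ v − T v is
surjective. -/
theorem result
    (k : Type u) [Field k] (σ : k →+* k)
    (V : Type v) [AddCommGroup V] [Module k V] [FiniteDimensional k V] (T : V →ₛₗ[σ] V)
    (h1 : Submodule.span k (Set.range ⇑T) = ⊤)
    (h2 : ∀ (n : ℕ) (b : Fin (n + 1) → k), b ≠ 0 →
      ∃ x : k, x ≠ 0 ∧ x = ∑ i : Fin (n + 1), (⇑σ)^[i.val + 1] x * (⇑σ)^[i.val] (b (Fin.rev i)))
    (h3 : ∀ c : k, ∃ y : k, σ y - y + c = 0) :
    (∃ b : Module.Basis (Fin (Module.finrank k V)) k V, ∀ i, T (b i) = b i) ∧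
    Function.Surjective (fun v : V => v - T v) := by
  classical
  set Fix : Set V := {v | T v = v} with hFix
  set F : Submodule k V := Submodule.span k Fix with hF
  have hFT : ∀ f ∈ F, T f ∈ F := by
    intro f hf
    induction hf using Submodule.span_induction with
    | mem x hx => rw [hx]; exact Submodule.subset_span hx
    | zero => rw [map_zero]; exact Submodule.zero_mem _
    | add x y _ _ hx hy => rw [map_add]; exact Submodule.add_mem _ hx hy
    | smul c x _ hx => rw [LinearMap.map_smulₛₗ]; exact Submodule.smul_mem _ _ hx
  -- surjectivity of 1 - T on F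
  have hsurjF : ∀ w ∈ F, ∃ u ∈ F, u - T u = w := by
    intro w hw
    induction hw using Submodule.closure_induction with
    | zero => exact ⟨0, Submodule.zero_mem _, by simp⟩
    | add x y _ _ hx hy =>
      obtain ⟨u₁, hu₁, h₁⟩ := hx
      obtain ⟨u₂, hu₂, h₂⟩ := hy
      refine ⟨u₁ + u₂, Submodule.add_mem _ hu₁ hu₂, ?_⟩
      rw [map_add, ← h₁, ← h₂]
      abel
    | smul_mem c f hf =>
      obtain ⟨y, hy⟩ := h3 c
      refine ⟨y • f, Submodule.smul_mem _ _ (Submodule.subset_span hf), ?_⟩
      have hf' : T f = f := hf
      rw [LinearMap.map_smulₛₗ, hf', ← sub_smul]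
      congr 1
      linear_combination -hy
  -- F = ⊤
  have hFtop : F = ⊤ := by
    by_contra hne
    -- the quotient
    have hFle : F ≤ F.comap T := fun f hf => hFT f hf
    set T' : (V ⧸ F) →ₛₗ[σ] (V ⧸ F) := F.mapQ F T hFle with hT'
    have hT'mk : ∀ x : V, T' (Submodule.Quotient.mk x) = Submodule.Quotient.mk (T x) := fun x => rfl
    have h1' : Submodule.span k (Set.range ⇑T') = ⊤ := by
      rw [eq_top_iff]
      rintro q -
      obtain ⟨v, rfl⟩ := Submodule.Quotient.mk_surjective F q
      have hv : v ∈ Submodule.span k (Set.range ⇑T) := by rw [h1]; trivial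
      induction hv using Submodule.span_induction with
      | mem x hx =>
        obtain ⟨z, rfl⟩ := hx
        exact Submodule.subset_span ⟨Submodule.Quotient.mk z, hT'mk z⟩
      | zero => exact Submodule.zero_mem _
      | add x y _ _ hx hy =>
        rw [Submodule.Quotient.mk_add]; exact Submodule.add_mem _ hx hy
      | smul c x _ hx =>
        rw [Submodule.Quotient.mk_smul]; exact Submodule.smul_mem _ _ hx
    -- all iterates have full span
    have hall : ∀ n : ℕ, Submodule.span k (Set.range ((⇑T')^[n])) = ⊤ := by
      intro n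
      induction n with
      | zero =>
        rw [eq_top_iff]
        rintro q -
        exact Submodule.subset_span ⟨q, rfl⟩
      | succ n ih =>
        have hmaps : ∀ w ∈ Submodule.span k (Set.range ((⇑T')^[n])),
            T' w ∈ Submodule.span k (Set.range ((⇑T')^[n + 1])) := by
          intro w hw
          induction hw using Submodule.span_induction with
          | mem x hx =>
            obtain ⟨y, rfl⟩ := hx
            apply Submodule.subset_span
            exact ⟨y, by rw [Function.iterate_succ_apply']⟩
          | zero => rw [map_zero]; exact Submodule.zero_mem _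
          | add x y _ _ hx hy => rw [map_add]; exact Submodule.add_mem _ hx hy
          | smul c x _ hx => rw [LinearMap.map_smulₛₗ]; exact Submodule.smul_mem _ _ hx
        rw [eq_top_iff, ← h1', Submodule.span_le]
        rintro _ ⟨w, rfl⟩
        exact hmaps w (by rw [ih]; trivial)
    -- a nonzero element of the quotient
    obtain ⟨v₀, hv₀⟩ : ∃ v₀ : V, v₀ ∉ F := by
      by_contra hcon
      push Not at hcon
      exact hne (eq_top_iff.mpr fun v _ => hcon v)
    set e' : V ⧸ F := Submodule.Quotient.mk v₀ with he'
    have he'0 : e' ≠ 0 := by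
      rw [he', Ne, Submodule.Quotient.mk_eq_zero]
      exact hv₀
    have hnon : ∀ m : ℕ, (⇑T')^[m] e' ≠ 0 := by
      intro m hm
      exact he'0 (Groth.Agent.S19229.result k σ (V ⧸ F) T' e' ⟨m, hm⟩
        (fun n => by rw [hall n]; trivial))
    obtain ⟨v', -, hv'0, hv'fix⟩ := Groth.Agent.S19232.result k σ (V ⧸ F) T' h2 e' hnon
    obtain ⟨v, rfl⟩ := Submodule.Quotient.mk_surjective F v'
    rw [hT'mk, Submodule.Quotient.eq] at hv'fix
    obtain ⟨u, hu, huv⟩ := hsurjF _ hv'fix
    have hfix : T (v + u) = v + u := by
      rw [map_add]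
      have : T u = u - (T v - v) := by rw [← huv]; abel
      rw [this]
      abel
    have hvF : v ∈ F := by
      have h1 : v + u ∈ F := Submodule.subset_span hfix
      have := Submodule.sub_mem _ h1 hu
      simpa using this
    exact hv'0 ((Submodule.Quotient.mk_eq_zero F).mpr hvF)
  refine ⟨?_, ?_⟩
  · obtain ⟨s, hsFix, hspan, hli⟩ := exists_linearIndependent k Fix
    have hsp : ⊤ ≤ Submodule.span k (Set.range ((↑) : s → V)) := by
      rw [Subtype.range_coe, hspan, ← hF, hFtop]
    let B : Module.Basis s k V := Module.Basis.mk hli hsp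
    haveI : Fintype s := FiniteDimensional.fintypeBasisIndex B
    have hcard : Fintype.card s = Module.finrank k V := (Module.finrank_eq_card_basis B).symm
    let e : s ≃ Fin (Module.finrank k V) := Fintype.equivFinOfCardEq hcard
    refine ⟨B.reindex e, fun i => ?_⟩
    rw [Module.Basis.reindex_apply, Module.Basis.mk_apply]
    exact hsFix (e.symm i).2
  · intro w
    obtain ⟨u, -, hu⟩ := hsurjF w (by rw [hFtop]; trivial)
    exact ⟨u, hu⟩

end Groth.Agent.S19233
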