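import Groth.Statements.S19239
import Mathlib
import Groth.Agent.S19234

set_option autoImplicit false
universe u v
open SigmaLin

namespace Groth.Agent.S19239

open Polynomial in
theorem h2_frobInv (p : ℕ) [hp : Fact p.Prime] (k : Type u) [Field k] [CharP k p] [IsAlgClosed k]
    (n : ℕ) (b : Fin (n + 1) → k) (hb : b ≠ 0) :
    ∃ x : k, x ≠ 0 ∧ x = ∑ i : Fin (n + 1),
      (⇑((frobeniusEquiv k p).symm.toRingHom))^[i.val + 1] x *
        (⇑((frobeniusEquiv k p).symm.toRingHom))^[i.val] (b (Fin.rev i)) := by
  set σ : k →+* k := (frobeniusEquiv k p).symm.toRingHom with hσdef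
  have hσφ : Function.LeftInverse σ (frobenius k p) :=
    fun x => frobeniusEquiv_symm_apply_frobenius k p x
  have hσinj : Function.Injective σ := (frobeniusEquiv k p).symm.injective
  set N := p ^ (n + 1) with hN
  have hlt : ∀ i : Fin (n + 1), p ^ (n - i.val) < N :=
    fun i => Nat.pow_lt_pow_right hp.out.one_lt (by omega)
  set β : Fin (n + 1) → k := fun i => (⇑σ)^[i.val] (b (Fin.rev i)) with hβ
  obtain ⟨i₀, hi₀⟩ : ∃ i₀, β i₀ ≠ 0 := by
    by_contra hcon
    push Not at hcon
    apply hb
    funext j
    have := hcon (Fin.rev j)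
    simp only [hβ, Fin.rev_rev] at this
    exact (hσinj.iterate _) (this.trans (iterate_map_zero σ _).symm)
  set G : k[X] := ∑ i : Fin (n + 1), C (β i) * X ^ (N - p ^ (n - i.val)) - 1 with hG
  have hcoeff : G.coeff (N - p ^ (n - i₀.val)) = β i₀ := by
    rw [hG, Polynomial.coeff_sub, Polynomial.finsetSum_coeff]
    simp_rw [Polynomial.coeff_C_mul_X_pow]
    rw [Finset.sum_eq_single i₀]
    · rw [if_pos rfl, Polynomial.coeff_one, if_neg, sub_zero]
      have := hlt i₀
      omega
    · intro j _ hj
      rw [if_neg]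
      intro h
      apply hj
      have h1 := hlt i₀
      have h2 := hlt j
      have h3 : p ^ (n - i₀.val) = p ^ (n - j.val) := by omega
      have h4 := Nat.pow_right_injective hp.out.two_le h3
      ext
      have := i₀.2
      have := j.2
      omega
    · simp
  have hdeg : G.degree ≠ 0 := by
    intro h
    have h1 := Polynomial.eq_C_of_degree_eq_zero h
    have h2 := congrArg (fun q => q.coeff (N - p ^ (n - i₀.val))) h1
    simp only [hcoeff, Polynomial.coeff_C] at h2
    rw [if_neg (by have := hlt i₀; omega)] at h2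
    exact hi₀ h2
  obtain ⟨u, hu⟩ := IsAlgClosed.exists_root G hdeg
  have hu1 : ∑ i : Fin (n + 1), β i * u ^ (N - p ^ (n - i.val)) = 1 := by
    have := hu
    simp only [Polynomial.IsRoot.def, hG, Polynomial.eval_sub, Polynomial.eval_finsetSum,
      Polynomial.eval_mul, Polynomial.eval_C, Polynomial.eval_pow, Polynomial.eval_X,
      Polynomial.eval_one] at this
    exact sub_eq_zero.mp this
  have hu0 : u ≠ 0 := by
    rintro rfl
    have : ∀ i : Fin (n+1), β i * (0:k) ^ (N - p ^ (n - i.val)) = 0 := fun i => by
      rw [zero_pow (by have := hlt i; omega), mul_zero]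
    simp only [this, Finset.sum_const_zero] at hu1
    exact zero_ne_one hu1
  set w := u⁻¹ with hw
  have hw0 : w ≠ 0 := inv_ne_zero hu0
  refine ⟨w ^ N, pow_ne_zero _ hw0, ?_⟩
  have hiter : ∀ i : Fin (n + 1), (⇑σ)^[i.val + 1] (w ^ N) = w ^ p ^ (n - i.val) := by
    intro i
    have e1 : w ^ N = (⇑(frobenius k p))^[i.val + 1] (w ^ p ^ (n - i.val)) := by
      rw [iterate_frobenius, ← pow_mul, ← pow_add, hN]
      congr 2
      have := i.2
      omega
    rw [e1]
    exact (hσφ.iterate _) _
  simp_rw [hiter]
  calc w ^ N = w ^ N * 1 := (mul_one _).symm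
    _ = w ^ N * ∑ i, β i * u ^ (N - p ^ (n - i.val)) := by rw [hu1]
    _ = ∑ i, w ^ p ^ (n - i.val) * β i := by
      rw [Finset.mul_sum]
      refine Finset.sum_congr rfl fun i _ => ?_
      have : w ^ N = w ^ (p ^ (n - i.val)) * w ^ (N - p ^ (n - i.val)) := by
        rw [← pow_add]; congr 1; have := hlt i; omega
      rw [this]
      have h1 : w ^ (N - p ^ (n - i.val)) * u ^ (N - p ^ (n - i.val)) = 1 := by
        rw [← mul_pow, hw, inv_mul_cancel₀ hu0, one_pow]
      calc _ = w ^ p ^ (n - i.val) * β i * (w ^ (N - p ^ (n - i.val)) * u ^ (N - p ^ (n - i.val))) := by ring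
        _ = _ := by rw [h1, mul_one]

open Polynomial in
theorem h3_frobInv (p : ℕ) [hp : Fact p.Prime] (k : Type u) [Field k] [CharP k p] [IsAlgClosed k]
    (c : k) : ∃ y : k, (frobeniusEquiv k p).symm.toRingHom y - y + c = 0 := by
  have hdeg : (X - X ^ p + C c : k[X]).degree ≠ 0 := by
    intro h
    have h1 := Polynomial.eq_C_of_degree_eq_zero h
    have h2 := congrArg (fun q => q.coeff p) h1
    have hp0 : p ≠ 0 := hp.out.ne_zero
    have hp1 : p ≠ 1 := hp.out.ne_one
    simp [Polynomial.coeff_X, Polynomial.coeff_C, hp0, hp0.symm, hp1.symm] at h2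
  obtain ⟨z, hz⟩ := IsAlgClosed.exists_root _ hdeg
  refine ⟨z ^ p, ?_⟩
  have : (frobeniusEquiv k p).symm.toRingHom (z ^ p) = z := by
    have := frobeniusEquiv_symm_apply_frobenius k p z
    simpa [frobenius_def] using this
  rw [this]
  simpa using hz


/-- Let k be an algebraically closed field of characteristic p > 0, V a finite-dimensional k-vector
space and T : V → V an additive map with T (c • v) = σ(c) • T v for σ the inverse of the p-th power
map of k. Then v ↦ v − T v is surjective on V, and the intersection over n of the k-spans of the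
images of the iterates of T admits a k-basis consisting of vectors fixed by T. (A special case of
the statement for a surjective field endomorphism satisfying two solvability conditions.) -/
theorem result
    (p : ℕ) [Fact p.Prime] (k : Type u) [Field k] [CharP k p] [IsAlgClosed k]
    (V : Type v) [AddCommGroup V] [Module k V] [FiniteDimensional k V]
    (T : V →ₛₗ[(frobeniusEquiv k p).symm.toRingHom] V) :
    Function.Surjective (fun v : V => v - T v) ∧
    ∃ b : Module.Basis (Fin (Module.finrank k ↥(⨅ n : ℕ, Submodule.span k (Set.range ((⇑T)^[n]))))) k ↥(⨅ n : ℕ, Submodule.span k (Set.range ((⇑T)^[n]))),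
      ∀ i, T (b i : V) = (b i : V) := by
  exact Groth.Agent.S19234.result k (frobeniusEquiv k p).symm.toRingHom
    (frobeniusEquiv k p).symm.surjective V T (h2_frobInv p k) (h3_frobInv p k)

end Groth.Agent.S19239
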