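import Groth.Statements.S16985
import Mathlib

set_option autoImplicit false
universe u v
open Hoch

namespace Groth.Agent.S16985

open TensorProduct

section aux
variable (k : Type u) [CommRing k] (A : Type v) [CommRing A] [Bialgebra k A]

/-- naturality of `tail` -/
lemma tail_natural {M M' : Type v} [AddCommGroup M] [Module k M] [AddCommGroup M'] [Module k M']
    (f : M →ₗ[k] M') :
    Hoch.tail k A M' ∘ₗ f.rTensor A = (f.rTensor A).rTensor A ∘ₗ Hoch.tail k A M := by
  refine TensorProduct.ext' fun m a => ?_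
  have key : ((f.rTensor A).rTensor A ∘ₗ (TensorProduct.assoc k M A A).symm.toLinearMap ∘ₗ
      TensorProduct.mk k M (A ⊗[k] A) m) =
      (TensorProduct.assoc k M' A A).symm.toLinearMap ∘ₗ TensorProduct.mk k M' (A ⊗[k] A) (f m) := by
    refine TensorProduct.ext' fun a b => ?_
    simp
  have h := LinearMap.congr_fun key (Hoch.redComul k A a)
  simp only [LinearMap.comp_apply, LinearEquiv.coe_coe, TensorProduct.mk_apply] at h
  simp only [LinearMap.comp_apply, LinearMap.rTensor_tmul, Hoch.tail_tmul]
  exact h.symm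

variable (P : Type v) [AddCommGroup P] [Module k P]

/-- `id ⊗ ε : P ⊗ A → P` on the induced comodule -/
noncomputable def epsT : P ⊗[k] A →ₗ[k] P :=
  (TensorProduct.rid k P).toLinearMap ∘ₗ (Coalgebra.counit (R := k) (A := A)).lTensor P

/-- the contracting homotopy -/
noncomputable def sH : (n : ℕ) → ((Hoch.cochain k A (Hoch.Ind k A P) (n + 1) : Type v) →ₗ[k]
    (Hoch.cochain k A (Hoch.Ind k A P) n : Type v))
  | 0 => show (Hoch.Ind k A P ⊗[k] A →ₗ[k] Hoch.Ind k A P) from (epsT k A P).rTensor A
  | n + 1 => (sH n).rTensor A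

lemma epsT_rTensor_coactAux :
    (epsT k A P).rTensor A ∘ₗ Hoch.Ind.coactAux k A P = LinearMap.id := by
  refine TensorProduct.ext' fun p a => ?_
  have key : ((epsT k A P).rTensor A ∘ₗ (TensorProduct.assoc k P A A).symm.toLinearMap ∘ₗ
      TensorProduct.mk k P (A ⊗[k] A) p) =
      TensorProduct.mk k P A p ∘ₗ (TensorProduct.lid k A).toLinearMap ∘ₗ
        (Coalgebra.counit (R := k) (A := A)).rTensor A := by
    refine TensorProduct.ext' fun a b => ?_
    simp [epsT, TensorProduct.smul_tmul]
  have h := LinearMap.congr_fun key (Coalgebra.comul (R := k) a)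
  simp only [LinearMap.comp_apply, LinearEquiv.coe_coe, TensorProduct.mk_apply,
    Coalgebra.rTensor_counit_comul, TensorProduct.lid_tmul, one_smul] at h
  simpa [Hoch.Ind.coactAux_tmul] using h

/-- insertion of `1` before the last factor -/
noncomputable def ins : P ⊗[k] A →ₗ[k] (P ⊗[k] A) ⊗[k] A :=
  ((TensorProduct.mk k P A).flip 1).rTensor A

lemma d0_eq' : Hoch.Ind.coactAux k A P - (TensorProduct.mk k (P ⊗[k] A) A).flip 1 =
    Hoch.tail k A P + ins k A P := by
  refine TensorProduct.ext' fun p b => ?_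
  simp only [LinearMap.sub_apply, LinearMap.add_apply, Hoch.Ind.coactAux_tmul, Hoch.tail_tmul,
    LinearMap.flip_apply, TensorProduct.mk_apply, ins, LinearMap.rTensor_tmul,
    TensorProduct.tmul_sub, map_sub, TensorProduct.assoc_symm_tmul]
  try abel

lemma sH0_d0' : (epsT k A P).rTensor A ∘ₗ
      (Hoch.Ind.coactAux k A P - (TensorProduct.mk k (P ⊗[k] A) A).flip 1) =
    LinearMap.id - ((TensorProduct.mk k P A).flip 1) ∘ₗ epsT k A P := by
  rw [LinearMap.comp_sub, epsT_rTensor_coactAux]
  congr 1

lemma base_plain : ((epsT k A P).rTensor A).rTensor A ∘ₗ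
      ((Hoch.Ind.coactAux k A P - (TensorProduct.mk k (P ⊗[k] A) A).flip 1).rTensor A +
        ((-1 : k) ^ 1) • Hoch.tail k A (P ⊗[k] A)) +
    (Hoch.Ind.coactAux k A P - (TensorProduct.mk k (P ⊗[k] A) A).flip 1) ∘ₗ (epsT k A P).rTensor A =
      LinearMap.id := by
  have nat := tail_natural k A (epsT k A P)
  rw [LinearMap.comp_add, LinearMap.comp_smul, ← nat, ← LinearMap.rTensor_comp, sH0_d0',
    d0_eq', LinearMap.add_comp]
  have hins : ins k A P ∘ₗ (epsT k A P).rTensor A =
      (((TensorProduct.mk k P A).flip 1) ∘ₗ epsT k A P).rTensor A := by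
    rw [ins, ← LinearMap.rTensor_comp]
  rw [hins, LinearMap.rTensor_sub, LinearMap.rTensor_id, pow_one]
  module

lemma base_case : sH k A P 1 ∘ₗ Hoch.d k A (Hoch.Ind k A P) 1 +
    Hoch.d k A (Hoch.Ind k A P) 0 ∘ₗ sH k A P 0 = LinearMap.id :=
  base_plain k A P

lemma step_plain {X : Type v} [AddCommGroup X] [Module k X] (s : X ⊗[k] A →ₗ[k] X)
    (dX : X →ₗ[k] X ⊗[k] A) (c : k)
    (ih : s.rTensor A ∘ₗ (dX.rTensor A + c • Hoch.tail k A X) + dX ∘ₗ s = LinearMap.id) :
    (s.rTensor A).rTensor A ∘ₗ ((dX.rTensor A + c • Hoch.tail k A X).rTensor A +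
        (-c) • Hoch.tail k A (X ⊗[k] A)) +
      (dX.rTensor A + c • Hoch.tail k A X) ∘ₗ s.rTensor A = LinearMap.id := by
  have nat := tail_natural k A s
  rw [LinearMap.comp_add, LinearMap.comp_smul, ← LinearMap.rTensor_comp, LinearMap.add_comp,
    LinearMap.smul_comp, nat, ← LinearMap.rTensor_comp]
  have e2 : (s.rTensor A ∘ₗ (dX.rTensor A + c • Hoch.tail k A X)).rTensor A +
      (dX ∘ₗ s).rTensor A = LinearMap.id := by
    rw [← LinearMap.rTensor_add, ih, LinearMap.rTensor_id]
  rw [← e2]
  module

lemma step_case (m : ℕ)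
    (ih : sH k A P (m + 1) ∘ₗ Hoch.d k A (Hoch.Ind k A P) (m + 1) +
      Hoch.d k A (Hoch.Ind k A P) m ∘ₗ sH k A P m = LinearMap.id) :
    sH k A P (m + 2) ∘ₗ Hoch.d k A (Hoch.Ind k A P) (m + 2) +
      Hoch.d k A (Hoch.Ind k A P) (m + 1) ∘ₗ sH k A P (m + 1) = LinearMap.id := by
  have e3 : ((-1 : k) ^ (m + 1 + 1)) = -((-1 : k) ^ (m + 1)) := by ring
  have := step_plain k A (X := ↑(Hoch.cochain k A (Hoch.Ind k A P) m)) (sH k A P m)
    (Hoch.d k A (Hoch.Ind k A P) m) ((-1 : k) ^ (m + 1)) ih
  rw [← e3] at this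
  exact this

lemma homotopy (n : ℕ) : sH k A P (n + 1) ∘ₗ Hoch.d k A (Hoch.Ind k A P) (n + 1) +
    Hoch.d k A (Hoch.Ind k A P) n ∘ₗ sH k A P n = LinearMap.id := by
  induction n with
  | zero => exact base_case k A P
  | succ m ih => exact step_case k A P m ih

end aux

open TensorProduct in
/-- Let k be a commutative ring, A a commutative k-bialgebra flat over k (the coordinate ring of a flat
affine group scheme over Spec k; flatness and commutativity are the standing hypotheses of the
appendix and are not needed for the assertion) and P a k-module. Then the cochain complex of the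
induced comodule P ⊗ A (coaction id ⊗ Δ), with n-cochains (P ⊗ A) ⊗ A ⊗ ⋯ ⊗ A, has every
(n+1)-cocycle an (n+1)-coboundary, for all n. (The published statement is the vanishing of the
higher derived functors of invariants on coinduced modules; this row states the vanishing in
positive degrees of the cohomology of the cochain complex above, which the same appendix identifies
with those derived functors. P is taken in the universe of A, as the cochain modules require.) -/
theorem result (k : Type u) [CommRing k] (A : Type v) [CommRing A]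
    [Bialgebra k A] [Module.Flat k A] (P : Type v) [AddCommGroup P] [Module k P] (n : ℕ) :
    Hoch.cocycles k A (Hoch.Ind k A P) (n + 1) ≤ Hoch.coboundaries k A (Hoch.Ind k A P) (n + 1) := by
  intro z hz
  have hz' : Hoch.d k A (Hoch.Ind k A P) (n + 1) z = 0 := hz
  have h := LinearMap.congr_fun (homotopy k A P n) z
  simp only [LinearMap.add_apply, LinearMap.comp_apply, hz', map_zero, zero_add,
    LinearMap.id_apply] at h
  exact ⟨sH k A P n z, h⟩


end Groth.Agent.S16985
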