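import Groth.Statements.S2004
import Mathlib
-- import your own Groth.Agent.* helpers here

set_option autoImplicit false
universe u
open TensorProduct
open EtAlg

namespace Groth.Agent.S2004

theorem algRf_eq_zero_iff {R : Type u} [CommRing R] (f : R) (r : R) :
    algebraMap R (Localization.Away f) r = 0 ↔ ∃ n : ℕ, f ^ n * r = 0 := by
  rw [IsLocalization.map_eq_zero_iff (Submonoid.powers f) (Localization.Away f) r]
  constructor
  · rintro ⟨⟨_, n, rfl⟩, h⟩
    exact ⟨n, h⟩
  · rintro ⟨n, h⟩
    exact ⟨⟨f ^ n, n, rfl⟩, h⟩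

theorem isUnit_algRf {R : Type u} [CommRing R] (f : R) (n : ℕ) :
    IsUnit (algebraMap R (Localization.Away f) (f ^ n)) :=
  IsLocalization.map_units (Localization.Away f) (⟨f ^ n, n, rfl⟩ : Submonoid.powers f)

theorem awayMap_alg {R R' : Type u} [CommRing R] [CommRing R'] [Algebra R R'] (f : R) (r : R) :
    Localization.awayMap (algebraMap R R') f (algebraMap R (Localization.Away f) r) =
      algebraMap R' (Localization.Away (algebraMap R R' f)) (algebraMap R R' r) := by
  simp [Localization.awayMap, IsLocalization.Away.map]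

theorem exists_rep {R : Type u} [CommRing R] (f : R) (y : Localization.Away f) :
    ∃ (n : ℕ) (r : R), y * algebraMap R (Localization.Away f) (f ^ (n + 1)) =
      algebraMap R (Localization.Away f) r := by
  obtain ⟨⟨r, ⟨_, n, rfl⟩⟩, h⟩ := IsLocalization.surj (Submonoid.powers f) y
  refine ⟨n, f * r, ?_⟩
  simp only at h
  rw [pow_succ, map_mul, ← mul_assoc, h, map_mul, mul_comm]

theorem q1 {R R' : Type u} [CommRing R] [CommRing R'] [Algebra R R'] (f : R)
    (hq : EtGlue.QuotPowBijective R R' f) (n : ℕ) (hn : 0 < n) (x' : R') :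
    ∃ (r : R) (x'' : R'), x' = algebraMap R R' r + algebraMap R R' f ^ n * x'' := by
  obtain ⟨rbar, hr⟩ := (hq n hn).2 (Ideal.Quotient.mk _ x')
  obtain ⟨r, rfl⟩ := Ideal.Quotient.mk_surjective rbar
  rw [Ideal.quotientMap_mk, Ideal.Quotient.eq, Ideal.map_span, Set.image_singleton,
    Ideal.mem_span_singleton'] at hr
  obtain ⟨a, ha⟩ := hr
  refine ⟨r, -a, ?_⟩
  rw [map_pow] at ha
  linear_combination ha

theorem q2 {R R' : Type u} [CommRing R] [CommRing R'] [Algebra R R'] (f : R)
    (hq : EtGlue.QuotPowBijective R R' f) (n : ℕ) (hn : 0 < n) (r : R) (x'' : R')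
    (h : algebraMap R R' r = algebraMap R R' f ^ n * x'') : ∃ r₂ : R, r = f ^ n * r₂ := by
  have h0 : Ideal.quotientMap (Ideal.map (algebraMap R R') (Ideal.span {f ^ n})) (algebraMap R R')
      Ideal.le_comap_map (Ideal.Quotient.mk _ r) = 0 := by
    rw [Ideal.quotientMap_mk, Ideal.Quotient.eq_zero_iff_mem, Ideal.map_span, Set.image_singleton,
      Ideal.mem_span_singleton']
    exact ⟨x'', by rw [h, map_pow, mul_comm]⟩
  have := (hq n hn).1 (h0.trans (map_zero _).symm)
  rw [Ideal.Quotient.eq_zero_iff_mem, Ideal.mem_span_singleton'] at this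
  obtain ⟨a, ha⟩ := this
  exact ⟨a, by rw [← ha, mul_comm]⟩

/-- Let R -> R' induce bijections R/f^n R -> R'/f^n R' for all n > 0. Then (R -> R', f) is a glueing
pair if and only if R -> R' maps the f-power torsion of R bijectively onto the f-power torsion of R'
(stated as: injective on f-power torsion elements, and every f-power torsion element of R' is the
image of one of R). -/
theorem result (R R' : Type u) [CommRing R] [CommRing R'] [Algebra R R'] (f : R)
    (hq : EtGlue.QuotPowBijective R R' f) :
    EtGlue.IsGlueingPair R R' f ↔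
      ((∀ x : R, (∃ n : ℕ, f ^ n * x = 0) → algebraMap R R' x = 0 → x = 0) ∧
       (∀ x' : R', (∃ n : ℕ, algebraMap R R' f ^ n * x' = 0) →
          ∃ x : R, (∃ n : ℕ, f ^ n * x = 0) ∧ algebraMap R R' x = x')) := by
  constructor
  · rintro ⟨-, inj, mid, -⟩
    constructor
    · intro x hx hx0
      apply inj
      refine Prod.ext ?_ ?_
      · simp only [hx0, map_zero]
      · simp only [map_zero]
        exact (algRf_eq_zero_iff f x).mpr hx
    · rintro x' ⟨n, hn⟩
      have h0 : algebraMap R' (Localization.Away (algebraMap R R' f)) x' =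
          Localization.awayMap (algebraMap R R') f 0 := by
        rw [map_zero, algRf_eq_zero_iff]
        exact ⟨n, hn⟩
      obtain ⟨r, hr1, hr2⟩ := mid x' 0 h0
      exact ⟨r, (algRf_eq_zero_iff f r).mp hr2, hr1⟩
  · rintro ⟨C1, C2⟩
    refine ⟨hq, ?_, ?_, ?_⟩
    · intro r r' h
      have h1 : algebraMap R R' r = algebraMap R R' r' := congrArg Prod.fst h
      have h2 : algebraMap R (Localization.Away f) r = algebraMap R (Localization.Away f) r' :=
        congrArg Prod.snd h
      have h3 : r - r' = 0 := by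
        apply C1
        · rw [← algRf_eq_zero_iff, map_sub, h2, sub_self]
        · rw [map_sub, h1, sub_self]
      exact sub_eq_zero.mp h3
    · intro x y hxy
      obtain ⟨n, r₀, hy⟩ := exists_rep f y
      have hy' := congrArg (Localization.awayMap (algebraMap R R') f) hy
      rw [map_mul, awayMap_alg, awayMap_alg, ← hxy, ← map_mul] at hy'
      -- t := x * f'^(n+1) - alg r₀ is torsion
      have ht : ∃ k : ℕ, algebraMap R R' f ^ k * (x * algebraMap R R' (f ^ (n + 1)) -
          algebraMap R R' r₀) = 0 := by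
        rw [← algRf_eq_zero_iff, map_sub, hy', sub_self]
      obtain ⟨t₀, ht₀, ht₀'⟩ := C2 _ ht
      have h4 : algebraMap R R' (r₀ + t₀) = algebraMap R R' f ^ (n + 1) * x := by
        rw [map_add, ht₀', map_pow]
        ring
      obtain ⟨r₂, hr₂⟩ := q2 f hq (n + 1) (Nat.succ_pos n) _ _ h4
      have ht1 : ∃ k : ℕ, algebraMap R R' f ^ k * (x - algebraMap R R' r₂) = 0 := by
        refine ⟨n + 1, ?_⟩
        rw [mul_sub, ← h4, hr₂, map_mul, map_pow, sub_self]
      obtain ⟨t₁, ht₁, ht₁'⟩ := C2 _ ht1
      refine ⟨r₂ + t₁, ?_, ?_⟩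
      · rw [map_add, ht₁']
        ring
      · rw [map_add, (algRf_eq_zero_iff f t₁).mpr ht₁, add_zero]
        apply (isUnit_algRf f (n + 1)).mul_left_inj.mp
        rw [hy, ← map_mul, mul_comm, ← hr₂, map_add, (algRf_eq_zero_iff f t₀).mpr ht₀, add_zero]
    · intro z
      obtain ⟨n, x', hz⟩ := exists_rep (algebraMap R R' f) z
      obtain ⟨r, x'', hx'⟩ := q1 f hq (n + 1) (Nat.succ_pos n) x'
      obtain ⟨y, hy⟩ : ∃ y : Localization.Away f,
          y * algebraMap R (Localization.Away f) (f ^ (n + 1)) = algebraMap R (Localization.Away f) (-r) := by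
        obtain ⟨u, hu⟩ := isUnit_algRf f (n + 1)
        refine ⟨algebraMap R (Localization.Away f) (-r) * ↑u⁻¹, ?_⟩
        rw [← hu, mul_assoc, u.inv_mul, mul_one]
      refine ⟨x'', y, ?_⟩
      have hy' := congrArg (Localization.awayMap (algebraMap R R') f) hy
      rw [map_mul, awayMap_alg, awayMap_alg] at hy'
      apply (isUnit_algRf (algebraMap R R' f) (n + 1)).mul_left_inj.mp
      rw [hz, sub_mul, ← map_pow (algebraMap R R') f (n + 1), hy', hx', map_add, map_mul, map_neg,
        map_neg, map_pow]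
      ring

end Groth.Agent.S2004
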