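import Groth.Statements.S6916
import Mathlib
-- import your own Groth.Agent.* helpers here

set_option autoImplicit false
universe u
open TensorProduct
open EtAlg

namespace Groth.Agent.S6916

/-- Let `B' = B ×_A A'` be a fibre square of rings with `A' → A` surjective and `L'` any `B'`-module.
Then the canonical map from `L'` to the glueing of `(L' ⊗_{B'} B, L' ⊗_{B'} A')` is surjective:
every pair `(x, y) ∈ (B ⊗_{B'} L') × (A' ⊗_{B'} L')` with equal images in `A ⊗_{B'} L'` is of the
form `(1 ⊗ l, 1 ⊗ l)`. (It is in general not injective.) -/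
theorem result (B' B A' A : Type u) [CommRing B'] [CommRing B] [CommRing A'] [CommRing A]
    [Algebra B' B] [Algebra B' A'] [Algebra B A] [Algebra A' A] [Algebra B' A] [IsScalarTower B' B A] [IsScalarTower B' A' A]
    (hsq : EtMil.IsFibreSquare B' B A' A)
    (L' : Type u) [AddCommGroup L'] [Module B' L'] (x : B ⊗[B'] L') (y : A' ⊗[B'] L')
    (hxy : (IsScalarTower.toAlgHom B' B A).toLinearMap.rTensor L' x = (IsScalarTower.toAlgHom B' A' A).toLinearMap.rTensor L' y) :
    ∃ l : L', (1 : B) ⊗ₜ[B'] l = x ∧ (1 : A') ⊗ₜ[B'] l = y := by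
  let tB : B →ₗ[B'] A := (IsScalarTower.toAlgHom B' B A).toLinearMap
  let tA : A' →ₗ[B'] A := (IsScalarTower.toAlgHom B' A' A).toLinearMap
  let f : B' →ₗ[B'] B × A' := (Algebra.linearMap B' B).prod (Algebra.linearMap B' A')
  let g : B × A' →ₗ[B'] A := tB.coprod (-tA)
  have hg : ∀ p : B × A', g p = algebraMap B A p.1 - algebraMap A' A p.2 := by
    intro p
    simp only [g, LinearMap.coprod_apply, LinearMap.neg_apply, tB, tA, AlgHom.toLinearMap_apply,
      IsScalarTower.coe_toAlgHom']
    ring
  have hexact : Function.Exact f g := by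
    intro p
    constructor
    · intro hp
      rw [hg, sub_eq_zero] at hp
      obtain ⟨b', ⟨hb1, hb2⟩, _⟩ := hsq.2 p.1 p.2 hp
      exact ⟨b', Prod.ext hb1 hb2⟩
    · rintro ⟨b', rfl⟩
      rw [hg, sub_eq_zero]
      change algebraMap B A (algebraMap B' B b') = algebraMap A' A (algebraMap B' A' b')
      rw [← IsScalarTower.algebraMap_apply, ← IsScalarTower.algebraMap_apply]
  have hsurj : Function.Surjective g := by
    intro a
    obtain ⟨a', rfl⟩ := hsq.1 a
    refine ⟨(0, -a'), ?_⟩
    rw [hg]
    simp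
  have hex := rTensor_exact L' hexact hsurj
  let z : (B × A') ⊗[B'] L' :=
    (LinearMap.inl B' B A').rTensor L' x + (LinearMap.inr B' B A').rTensor L' y
  have hz : g.rTensor L' z = 0 := by
    simp only [z, map_add, ← LinearMap.comp_apply, ← LinearMap.rTensor_comp]
    have h1 : g ∘ₗ LinearMap.inl B' B A' = tB := by
      ext b; simp [g]
    have h2 : g ∘ₗ LinearMap.inr B' B A' = -tA := by
      ext a; simp [g]
    rw [h1, h2, LinearMap.rTensor_neg, LinearMap.neg_apply]
    change tB.rTensor L' x + -(tA.rTensor L' y) = 0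
    rw [hxy]
    exact add_neg_cancel _
  obtain ⟨w, hw⟩ := (hex z).mp hz
  refine ⟨TensorProduct.lid B' L' w, ?_, ?_⟩
  · have h1 := congrArg ((LinearMap.fst B' B A').rTensor L') hw
    simp only [z, map_add, ← LinearMap.comp_apply, ← LinearMap.rTensor_comp] at h1
    have e1 : LinearMap.fst B' B A' ∘ₗ f = Algebra.linearMap B' B := by ext; simp [f]
    have e2 : LinearMap.fst B' B A' ∘ₗ LinearMap.inl B' B A' = LinearMap.id := by ext; simp
    have e3 : LinearMap.fst B' B A' ∘ₗ LinearMap.inr B' B A' = 0 := by ext; simp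
    rw [e1, e2, e3, LinearMap.rTensor_id, LinearMap.rTensor_zero] at h1
    simp only [LinearMap.id_apply, LinearMap.zero_apply, add_zero] at h1
    rw [← h1]
    obtain ⟨l, rfl⟩ := (TensorProduct.lid B' L').symm.surjective w
    rw [LinearEquiv.apply_symm_apply, TensorProduct.lid_symm_apply, LinearMap.rTensor_tmul]
    simp
  · have h1 := congrArg ((LinearMap.snd B' B A').rTensor L') hw
    simp only [z, map_add, ← LinearMap.comp_apply, ← LinearMap.rTensor_comp] at h1
    have e1 : LinearMap.snd B' B A' ∘ₗ f = Algebra.linearMap B' A' := by ext; simp [f]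
    have e2 : LinearMap.snd B' B A' ∘ₗ LinearMap.inl B' B A' = 0 := by ext; simp
    have e3 : LinearMap.snd B' B A' ∘ₗ LinearMap.inr B' B A' = LinearMap.id := by ext; simp
    rw [e1, e2, e3, LinearMap.rTensor_id, LinearMap.rTensor_zero] at h1
    simp only [LinearMap.id_apply, LinearMap.zero_apply, zero_add] at h1
    rw [← h1]
    obtain ⟨l, rfl⟩ := (TensorProduct.lid B' L').symm.surjective w
    rw [LinearEquiv.apply_symm_apply, TensorProduct.lid_symm_apply, LinearMap.rTensor_tmul]
    simp

end Groth.Agent.S6916
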