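import Groth.Statements.S6917
-- import your own Groth.Agent.* helpers here

set_option autoImplicit false
universe u
open CategoryTheory
open EtAlg

namespace Groth.Agent.S6917

open CategoryTheory.Limits in
theorem isPushout_of_top {X₁ X₂ X₃ X₄ : TopCat.{u}} (t : X₁ ⟶ X₂) (l : X₁ ⟶ X₃) (r : X₂ ⟶ X₄)
    (b : X₃ ⟶ X₄) (w : t ≫ r = l ≫ b)
    (ha : Function.Injective r)
    (hb : ∀ (x₂ : X₂) (x₃ : X₃), r x₂ = b x₃ → ∃ x₁ : X₁, t x₁ = x₂ ∧ l x₁ = x₃)
    (hc : ∀ x₄ : X₄, x₄ ∈ Set.range r ∨ x₄ ∈ Set.range b)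
    (hd : ∀ x₃ y₃ : X₃, x₃ ∉ Set.range l → y₃ ∉ Set.range l → b x₃ = b y₃ → x₃ = y₃)
    (he : ∀ W : Set X₄, IsClosed (r ⁻¹' W) → IsClosed (b ⁻¹' W) → IsClosed W) :
    IsPushout t l r b := by
  classical
  have w' : ∀ x₁ : X₁, r (t x₁) = b (l x₁) := fun x₁ => by
    have := ConcreteCategory.congr_hom w x₁
    simpa using this
  refine ⟨⟨w⟩, ⟨?_⟩⟩
  -- the underlying function of desc
  let d : ∀ (s : PushoutCocone t l), X₄ → s.pt := fun s x₄ =>
    if h : x₄ ∈ Set.range r then s.inl h.choose else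
      s.inr ((hc x₄).resolve_left h).choose
  have hs : ∀ (s : PushoutCocone t l) (x₁ : X₁), s.inl (t x₁) = s.inr (l x₁) := fun s x₁ => by
    have := ConcreteCategory.congr_hom s.condition x₁
    simpa using this
  have d1 : ∀ (s : PushoutCocone t l) (x₂ : X₂), d s (r x₂) = s.inl x₂ := by
    intro s x₂
    have h : r x₂ ∈ Set.range r := ⟨x₂, rfl⟩
    simp only [d, dif_pos h]
    rw [ha h.choose_spec]
  have d2 : ∀ (s : PushoutCocone t l) (x₃ : X₃), d s (b x₃) = s.inr x₃ := by
    intro s x₃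
    by_cases h : b x₃ ∈ Set.range r
    · simp only [d, dif_pos h]
      obtain ⟨x₁, h1, h2⟩ := hb _ _ h.choose_spec
      rw [← h1, ← h2, hs]
    · simp only [d, dif_neg h]
      have h' := ((hc (b x₃)).resolve_left h)
      have hx₃ : x₃ ∉ Set.range l := by
        rintro ⟨x₁, rfl⟩
        exact h ⟨t x₁, w' x₁⟩
      have hy₃ : h'.choose ∉ Set.range l := by
        rintro ⟨x₁, hx₁⟩
        apply h
        refine ⟨t x₁, ?_⟩
        rw [w' x₁, hx₁, h'.choose_spec]
      rw [hd _ _ hy₃ hx₃ h'.choose_spec]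
  have dc : ∀ (s : PushoutCocone t l), Continuous (d s) := by
    intro s
    rw [continuous_iff_isClosed]
    intro Z hZ
    apply he
    · have : r ⁻¹' (d s ⁻¹' Z) = s.inl ⁻¹' Z := by
        ext x₂
        simp only [Set.mem_preimage, d1]
      rw [this]
      exact hZ.preimage s.inl.hom.continuous
    · have : b ⁻¹' (d s ⁻¹' Z) = s.inr ⁻¹' Z := by
        ext x₃
        simp only [Set.mem_preimage, d2]
      rw [this]
      exact hZ.preimage s.inr.hom.continuous
  refine PushoutCocone.IsColimit.mk _ (fun s => TopCat.ofHom ⟨d s, dc s⟩) ?_ ?_ ?_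
  · intro s
    ext x₂
    exact d1 s x₂
  · intro s
    ext x₃
    exact d2 s x₃
  · intro s m h1 h2
    ext x₄
    rcases hc x₄ with ⟨x₂, rfl⟩ | ⟨x₃, rfl⟩
    · have := ConcreteCategory.congr_hom h1 x₂
      simp only [TopCat.hom_comp, ContinuousMap.comp_apply] at this
      rw [this]
      exact (d1 s x₂).symm
    · have := ConcreteCategory.congr_hom h2 x₃
      simp only [TopCat.hom_comp, ContinuousMap.comp_apply] at this
      rw [this]
      exact (d2 s x₃).symm


section alg
variable {B' B A' A : Type u} [CommRing B'] [CommRing B] [CommRing A'] [CommRing A]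
    [Algebra B' B] [Algebra B' A'] [Algebra B A] [Algebra A' A] [Algebra B' A] [IsScalarTower B' B A] [IsScalarTower B' A' A]

theorem comm (c : B') : algebraMap B A (algebraMap B' B c) = algebraMap A' A (algebraMap B' A' c) := by
  rw [← IsScalarTower.algebraMap_apply, ← IsScalarTower.algebraMap_apply]

theorem lift (hsq : EtMil.IsFibreSquare B' B A' A) (b : B) (a' : A')
    (h : algebraMap B A b = algebraMap A' A a') :
    ∃ c : B', algebraMap B' B c = b ∧ algebraMap B' A' c = a' := by
  obtain ⟨c, hc, -⟩ := hsq.2 b a' h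
  exact ⟨c, hc⟩

theorem p_surj (hsq : EtMil.IsFibreSquare B' B A' A) : Function.Surjective (algebraMap B' B) := by
  intro b
  obtain ⟨a', ha'⟩ := hsq.1 (algebraMap B A b)
  obtain ⟨c, hc, -⟩ := lift hsq b a' ha'.symm
  exact ⟨c, hc⟩

theorem lift0 (hsq : EtMil.IsFibreSquare B' B A' A) (a' : A')
    (h : algebraMap A' A a' = 0) :
    ∃ c : B', algebraMap B' B c = 0 ∧ algebraMap B' A' c = a' :=
  lift hsq 0 a' (by rw [map_zero, h])

open PrimeSpectrum

/-- pullback property. -/
theorem pb (hsq : EtMil.IsFibreSquare B' B A' A) (y : PrimeSpectrum B) (z : PrimeSpectrum A')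
    (h : comap (algebraMap B' B) y = comap (algebraMap B' A') z) :
    ∃ w : PrimeSpectrum A, comap (algebraMap B A) w = y ∧ comap (algebraMap A' A) w = z := by
  have hmem : ∀ c : B', algebraMap B' B c ∈ y.asIdeal ↔ algebraMap B' A' c ∈ z.asIdeal := by
    intro c
    have := congrArg (fun x : PrimeSpectrum B' => c ∈ x.asIdeal) h
    simpa using this
  have hz : z ∈ Set.range (comap (algebraMap A' A)) := by
    rw [range_comap_of_surjective _ _ hsq.1, mem_zeroLocus]
    intro i hi
    obtain ⟨c, hc0, hci⟩ := lift0 hsq i (by simpa using hi)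
    rw [SetLike.mem_coe, ← hci, ← hmem, hc0]
    exact zero_mem _
  obtain ⟨w, rfl⟩ := hz
  refine ⟨w, ?_, rfl⟩
  ext b
  obtain ⟨c, rfl⟩ := p_surj hsq b
  rw [hmem]
  simp only [comap_asIdeal, Ideal.mem_comap]
  rw [comm (B := B) (A' := A') c]

/-- injectivity off the closed part. -/
theorem inj_off (hsq : EtMil.IsFibreSquare B' B A' A) (z z' : PrimeSpectrum A')
    (hz : z ∉ Set.range (comap (algebraMap A' A)))
    (h : comap (algebraMap B' A') z = comap (algebraMap B' A') z') :
    z.asIdeal ≤ z'.asIdeal := by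
  have hmem : ∀ c : B', algebraMap B' A' c ∈ z.asIdeal ↔ algebraMap B' A' c ∈ z'.asIdeal := by
    intro c
    have := congrArg (fun x : PrimeSpectrum B' => c ∈ x.asIdeal) h
    simpa using this
  rw [range_comap_of_surjective _ _ hsq.1, mem_zeroLocus, Set.not_subset] at hz
  obtain ⟨i, hi, hiz⟩ := hz
  obtain ⟨c, hc0, hci⟩ := lift0 hsq i (by simpa using hi)
  have hiz' : i ∉ z'.asIdeal := by
    rw [← hci, ← hmem, hci]; exact hiz
  intro a ha
  obtain ⟨d, hd0, hdi⟩ := lift0 hsq (i * a) (by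
    rw [map_mul]
    have : algebraMap A' A i = 0 := by simpa using hi
    rw [this, zero_mul])
  have : i * a ∈ z'.asIdeal := by
    rw [← hdi, ← hmem, hdi]
    exact Ideal.mul_mem_left _ _ ha
  exact (z'.isPrime.mem_or_mem this).resolve_left hiz'

theorem inj_off' (hsq : EtMil.IsFibreSquare B' B A' A) (z z' : PrimeSpectrum A')
    (hz : z ∉ Set.range (comap (algebraMap A' A)))
    (hz' : z' ∉ Set.range (comap (algebraMap A' A)))
    (h : comap (algebraMap B' A') z = comap (algebraMap B' A') z') :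
    z = z' := by
  ext1
  exact le_antisymm (inj_off hsq z z' hz h) (inj_off hsq z' z hz' h.symm)

theorem uniq (hsq : EtMil.IsFibreSquare B' B A' A) (c c' : B')
    (h1 : algebraMap B' B c = algebraMap B' B c') (h2 : algebraMap B' A' c = algebraMap B' A' c') :
    c = c' := by
  obtain ⟨d, -, hd⟩ := hsq.2 (algebraMap B' B c') (algebraMap B' A' c') (comm c')
  rw [hd c ⟨h1, h2⟩, hd c' ⟨rfl, rfl⟩]

theorem qJ (f : B') (hf : algebraMap B' B f = 0) (a' : A') :
    algebraMap A' A (algebraMap B' A' f * a') = 0 := by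
  rw [map_mul, ← comm (B := B) f, hf, map_zero, zero_mul]

/-- The prime of `A'` over a prime of `B'` not containing `ker (B' → B)`. -/
theorem exists_primeOver (hsq : EtMil.IsFibreSquare B' B A' A) (x : PrimeSpectrum B') (f : B')
    (hf : algebraMap B' B f = 0) (hfx : f ∉ x.asIdeal) :
    ∃ z : PrimeSpectrum A', comap (algebraMap B' A') z = x := by
  have key : ∀ a' : A', ∃ c : B', algebraMap B' B c = 0 ∧
      algebraMap B' A' c = algebraMap B' A' f * a' := fun a' => lift0 hsq _ (qJ f hf a')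
  let 𝔮 : Ideal A' :=
  { carrier := {a' | ∃ c ∈ x.asIdeal, algebraMap B' B c = 0 ∧
      algebraMap B' A' c = algebraMap B' A' f * a'}
    zero_mem' := ⟨0, zero_mem _, map_zero _, by simp⟩
    add_mem' := by
      rintro a₁ a₂ ⟨c₁, h1, h2, h3⟩ ⟨c₂, k1, k2, k3⟩
      exact ⟨c₁ + c₂, add_mem h1 k1, by rw [map_add, h2, k2, add_zero], by
        rw [map_add, h3, k3, mul_add]⟩
    smul_mem' := by
      rintro s a ⟨c, h1, h2, h3⟩
      obtain ⟨e, he0, he⟩ := key (s • a)
      obtain ⟨d, hd0, hd⟩ := key s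
      refine ⟨e, ?_, he0, he⟩
      have : f * e = d * c := by
        apply uniq hsq
        · rw [map_mul, map_mul, hf, hd0, zero_mul, zero_mul]
        · rw [map_mul, map_mul, he, hd, h3, smul_eq_mul]; ring
      have h4 : f * e ∈ x.asIdeal := by rw [this]; exact Ideal.mul_mem_left _ _ h1
      exact (x.isPrime.mem_or_mem h4).resolve_left hfx }
  have hmem : ∀ a', a' ∈ 𝔮 ↔ ∃ c ∈ x.asIdeal, algebraMap B' B c = 0 ∧
      algebraMap B' A' c = algebraMap B' A' f * a' := fun a' => Iff.rfl
  have hprime : 𝔮.IsPrime := by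
    refine ⟨?_, ?_⟩
    · rw [Ne, Ideal.eq_top_iff_one, hmem]
      rintro ⟨c, hc, hc0, hc1⟩
      apply hfx
      have : f = c := uniq hsq _ _ (by rw [hf, hc0]) (by rw [hc1, mul_one])
      rw [this]; exact hc
    · intro a₁ a₂ h12
      obtain ⟨c, hc, hc0, hc1⟩ := (hmem _).1 h12
      obtain ⟨c₁, h10, h11⟩ := key a₁
      obtain ⟨c₂, h20, h21⟩ := key a₂
      have : c₁ * c₂ = f * c := by
        apply uniq hsq
        · rw [map_mul, map_mul, hf, h10, zero_mul, zero_mul]
        · rw [map_mul, map_mul, h11, h21, hc1]; ring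
      have h4 : c₁ * c₂ ∈ x.asIdeal := by rw [this]; exact Ideal.mul_mem_left _ _ hc
      rcases x.isPrime.mem_or_mem h4 with h | h
      · exact Or.inl ((hmem _).2 ⟨c₁, h, h10, h11⟩)
      · exact Or.inr ((hmem _).2 ⟨c₂, h, h20, h21⟩)
  refine ⟨⟨𝔮, hprime⟩, ?_⟩
  ext r
  simp only [comap_asIdeal, Ideal.mem_comap]
  rw [hmem]
  constructor
  · rintro ⟨c, hc, hc0, hc1⟩
    have : c = f * r := uniq hsq _ _ (by rw [map_mul, hf, zero_mul, hc0]) (by rw [map_mul, hc1])
    rw [this] at hc
    exact (x.isPrime.mem_or_mem hc).resolve_left hfx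
  · intro hr
    exact ⟨f * r, Ideal.mul_mem_left _ _ hr, by rw [map_mul, hf, zero_mul], by rw [map_mul]⟩

theorem range_or (hsq : EtMil.IsFibreSquare B' B A' A) (x : PrimeSpectrum B') :
    x ∈ Set.range (comap (algebraMap B' B)) ∨ x ∈ Set.range (comap (algebraMap B' A')) := by
  by_cases hJ : ∀ f : B', algebraMap B' B f = 0 → f ∈ x.asIdeal
  · left
    rw [range_comap_of_surjective _ _ (p_surj hsq), mem_zeroLocus]
    intro f hf
    exact hJ f (by simpa using hf)
  · right
    push Not at hJ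
    obtain ⟨f, hf, hfx⟩ := hJ
    exact exists_primeOver hsq x f hf hfx

theorem closed_of (hsq : EtMil.IsFibreSquare B' B A' A) (W : Set (PrimeSpectrum B'))
    (h1 : IsClosed (comap (algebraMap B' B) ⁻¹' W)) (h2 : IsClosed (comap (algebraMap B' A') ⁻¹' W)) :
    IsClosed W := by
  rw [← closure_subset_iff_isClosed]
  intro x hx
  rw [← zeroLocus_vanishingIdeal_eq_closure, mem_zeroLocus] at hx
  obtain ⟨𝔟, h𝔟⟩ := (isClosed_iff_zeroLocus_ideal _).1 h1
  obtain ⟨𝔞, h𝔞⟩ := (isClosed_iff_zeroLocus_ideal _).1 h2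
  have memW : ∀ c : B', (∀ y' : PrimeSpectrum B, 𝔟 ≤ y'.asIdeal → algebraMap B' B c ∈ y'.asIdeal) →
      (∀ z' : PrimeSpectrum A', 𝔞 ≤ z'.asIdeal → algebraMap B' A' c ∈ z'.asIdeal) →
      c ∈ vanishingIdeal W := by
    intro c hc1 hc2
    rw [mem_vanishingIdeal]
    intro w hw
    rcases range_or hsq w with ⟨y', rfl⟩ | ⟨z', rfl⟩
    · have : y' ∈ zeroLocus (𝔟 : Set B) := by rw [← h𝔟]; exact hw
      exact hc1 y' this
    · have : z' ∈ zeroLocus (𝔞 : Set A') := by rw [← h𝔞]; exact hw
      exact hc2 z' this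
  by_contra hxW
  by_cases hJ : ∀ f : B', algebraMap B' B f = 0 → f ∈ x.asIdeal
  · obtain ⟨y, rfl⟩ : x ∈ Set.range (comap (algebraMap B' B)) := by
      rw [range_comap_of_surjective _ _ (p_surj hsq), mem_zeroLocus]
      intro f hf
      exact hJ f (by simpa using hf)
    have hy : y ∉ comap (algebraMap B' B) ⁻¹' W := hxW
    rw [h𝔟, mem_zeroLocus, Set.not_subset] at hy
    obtain ⟨β, hβ, hβy⟩ := hy
    have hrad : algebraMap B A β ∈ (Ideal.map (algebraMap A' A) 𝔞).radical := by
      rw [Ideal.radical_eq_sInf, Ideal.mem_sInf]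
      rintro P ⟨hP, hPprime⟩
      let w : PrimeSpectrum A := ⟨P, hPprime⟩
      have hw1 : comap (algebraMap A' A) w ∈ comap (algebraMap B' A') ⁻¹' W := by
        rw [h𝔞, mem_zeroLocus]
        intro a ha
        exact hP (Ideal.mem_map_of_mem _ ha)
      have hw2 : comap (algebraMap B A) w ∈ comap (algebraMap B' B) ⁻¹' W := by
        have e : comap (algebraMap B' B) (comap (algebraMap B A) w) =
            comap (algebraMap B' A') (comap (algebraMap A' A) w) := by
          ext c
          simp only [comap_asIdeal, Ideal.mem_comap]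
          rw [comm (B := B) (A' := A') c]
        show comap (algebraMap B' B) (comap (algebraMap B A) w) ∈ W
        rw [e]; exact hw1
      rw [h𝔟, mem_zeroLocus] at hw2
      exact hw2 hβ
    obtain ⟨n, hn⟩ := hrad
    have hn' : algebraMap B A (β ^ (n + 1)) ∈ Ideal.map (algebraMap A' A) 𝔞 := by
      rw [map_pow, pow_succ]; exact Ideal.mul_mem_right _ _ hn
    obtain ⟨α, hα, hαn⟩ := (Ideal.mem_map_iff_of_surjective _ hsq.1).1 hn'
    obtain ⟨c, hcβ, hcα⟩ := lift hsq (β ^ (n + 1)) α hαn.symm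
    have hcW : c ∈ vanishingIdeal W := by
      apply memW
      · intro y' hy'
        rw [hcβ]
        exact Ideal.pow_mem_of_mem _ (hy' hβ) _ (Nat.succ_pos n)
      · intro z' hz'
        rw [hcα]; exact hz' hα
    have : algebraMap B' B c ∈ y.asIdeal := hx hcW
    rw [hcβ] at this
    exact hβy (y.isPrime.mem_of_pow_mem _ this)
  · push Not at hJ
    obtain ⟨f, hf, hfx⟩ := hJ
    obtain ⟨z, rfl⟩ := exists_primeOver hsq x f hf hfx
    have hz : z ∉ comap (algebraMap B' A') ⁻¹' W := hxW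
    rw [h𝔞, mem_zeroLocus, Set.not_subset] at hz
    obtain ⟨α, hα, hαz⟩ := hz
    obtain ⟨c, hc0, hc1⟩ := lift0 hsq _ (qJ f hf α)
    have hcW : c ∈ vanishingIdeal W := by
      apply memW
      · intro y' hy'
        rw [hc0]; exact zero_mem _
      · intro z' hz'
        rw [hc1]; exact Ideal.mul_mem_left _ _ (hz' hα)
    have : algebraMap B' A' c ∈ z.asIdeal := hx hcW
    rw [hc1] at this
    rcases z.isPrime.mem_or_mem this with h | h
    · exact hfx h
    · exact hαz h

end alg

/-- Let `B' = B ×_A A'` be a fibre square of rings with `A' → A` surjective. Then `Spec(B') = Spec(B)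
⨿_{Spec(A)} Spec(A')`: the square of prime spectra is a pushout of topological spaces. -/
theorem result (B' B A' A : Type u) [CommRing B'] [CommRing B] [CommRing A'] [CommRing A]
    [Algebra B' B] [Algebra B' A'] [Algebra B A] [Algebra A' A] [Algebra B' A] [IsScalarTower B' B A] [IsScalarTower B' A' A]
    (hsq : EtMil.IsFibreSquare B' B A' A) :
    IsPushout (TopCat.ofHom (ContinuousMap.mk (PrimeSpectrum.comap (algebraMap B A)) (PrimeSpectrum.continuous_comap _))) (TopCat.ofHom (ContinuousMap.mk (PrimeSpectrum.comap (algebraMap A' A)) (PrimeSpectrum.continuous_comap _)))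
      (TopCat.ofHom (ContinuousMap.mk (PrimeSpectrum.comap (algebraMap B' B)) (PrimeSpectrum.continuous_comap _)))
      (TopCat.ofHom (ContinuousMap.mk (PrimeSpectrum.comap (algebraMap B' A')) (PrimeSpectrum.continuous_comap _))) := by
  apply isPushout_of_top
  · ext w c
    show algebraMap B' B c ∈ (PrimeSpectrum.comap (algebraMap B A) w).asIdeal ↔
      algebraMap B' A' c ∈ (PrimeSpectrum.comap (algebraMap A' A) w).asIdeal
    simp only [PrimeSpectrum.comap_asIdeal, Ideal.mem_comap]
    rw [comm (B := B) (A' := A') c]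
  · exact PrimeSpectrum.comap_injective_of_surjective _ (p_surj hsq)
  · intro y z h
    exact pb hsq y z h
  · intro x
    exact range_or hsq x
  · intro z z' hz hz' h
    exact inj_off' hsq z z' hz hz' h
  · intro W h1 h2
    exact closed_of hsq W h1 h2

end Groth.Agent.S6917
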