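import Groth.Statements.S10721
import Groth.Agent.Lib.helper3.BL
-- import your own Groth.Agent.* helpers here

set_option autoImplicit false
universe u
open TensorProduct
open EtAlg

namespace Groth.Agent.S10721

open TensorProduct in
theorem map_eq_lTensor (R : Type u) [CommRing R] (R' : Type u) [CommRing R'] [Algebra R R']
    (A B : Type u) [CommRing A] [Algebra R A] [CommRing B] [Algebra R B] (φ : A →ₐ[R] B)
    (w : R' ⊗[R] A) :
    (Algebra.TensorProduct.map (AlgHom.id R R') φ) w = φ.toLinearMap.lTensor R' w := by
  induction w using TensorProduct.induction_on with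
  | zero => simp only [map_zero]
  | tmul r a => rfl
  | add x y hx hy => rw [map_add, map_add, hx, hy]

/-- Glueing along a glueing pair detects closed immersions of affine schemes, stated for coordinate
rings. Let `(R → R', f)` be a glueing pair and `φ : A → B` a homomorphism of `R`-algebras with `A`,
`B` glueable as `R`-modules (so `Spec A`, `Spec B` are affine and glueable over `Spec R`). Then `φ`
is surjective (a closed immersion on spectra) if and only if `A_f → B_f` and `R' ⊗_R A → R' ⊗_R B`
are surjective. -/
theorem result (R : Type u) [CommRing R] (R' : Type u) [CommRing R'] [Algebra R R'] (f : R)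
    (hRR' : EtGlue.IsGlueingPair R R' f) (A B : Type u) [CommRing A] [Algebra R A] [CommRing B] [Algebra R B]
    (hA : EtGlue.IsGlueable R R' f A) (hB : EtGlue.IsGlueable R R' f B) (φ : A →ₐ[R] B) :
    Function.Surjective φ ↔
      Function.Surjective (Localization.awayMap φ.toRingHom (algebraMap R A f)) ∧ Function.Surjective (Algebra.TensorProduct.map (AlgHom.id R R') φ).toRingHom := by
  constructor
  · intro hφ
    constructor
    · rw [Localization.awayMap_surjective_iff]
      intro b
      obtain ⟨a, rfl⟩ := hφ b
      exact ⟨a, 0, by simp⟩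
    · intro z
      have hs : Function.Surjective (φ.toLinearMap.lTensor R') :=
        LinearMap.lTensor_surjective R' hφ
      obtain ⟨w, rfl⟩ := hs z
      exact ⟨w, map_eq_lTensor R R' A B φ w⟩
  · rintro ⟨hloc, hten⟩
    rw [Localization.awayMap_surjective_iff] at hloc
    let P : Submodule R B := LinearMap.range φ.toLinearMap
    have htors : ∀ c : B ⧸ P, ∃ n : ℕ, f ^ n • c = 0 := by
      intro c
      obtain ⟨b, rfl⟩ := Submodule.Quotient.mk_surjective P c
      obtain ⟨a, m, ham⟩ := hloc b
      refine ⟨m, ?_⟩
      rw [← Submodule.Quotient.mk_smul, Submodule.Quotient.mk_eq_zero]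
      refine ⟨a, ?_⟩
      change φ a = f ^ m • b
      have h1 : φ.toRingHom a = φ a := rfl
      have h2 : φ.toRingHom (algebraMap R A f) = algebraMap R B f := φ.commutes f
      rw [h1, h2] at ham
      rw [ham, Algebra.smul_def, map_pow]
    intro b
    have h0 : (1 : R') ⊗ₜ[R] (P.mkQ b) = 0 := by
      obtain ⟨w, hw⟩ := hten ((1 : R') ⊗ₜ[R] b)
      have hw' : φ.toLinearMap.lTensor R' w = (1 : R') ⊗ₜ[R] b := by
        rw [← map_eq_lTensor]
        exact hw
      have := congrArg (P.mkQ.lTensor R') hw'
      rw [LinearMap.lTensor_tmul, ← LinearMap.comp_apply, ← LinearMap.lTensor_comp] at this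
      rw [← this]
      have hz : P.mkQ ∘ₗ φ.toLinearMap = 0 := by
        ext a
        simp only [LinearMap.comp_apply, Submodule.mkQ_apply, LinearMap.zero_apply,
          Submodule.Quotient.mk_eq_zero]
        exact ⟨a, rfl⟩
      rw [hz, LinearMap.lTensor_zero, LinearMap.zero_apply]
    have := Groth.Agent.Lib.helper3.BL.eq_zero_of_tmul_eq_zero f hRR'.1 (B ⧸ P) htors _ h0
    rw [Submodule.mkQ_apply, Submodule.Quotient.mk_eq_zero] at this
    obtain ⟨a, ha⟩ := this
    exact ⟨a, ha⟩

end Groth.Agent.S10721
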