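import Groth.Statements.S10722
import Mathlib
import Groth.Agent.Lib.helper3.BL
import Groth.Agent.S10721
-- import your own Groth.Agent.* helpers here

set_option autoImplicit false
universe u
open TensorProduct
open EtAlg

namespace Groth.Agent.S10722

theorem ft_iff {A B : Type u} [CommRing A] [CommRing B] (g : A →+* B) :
    g.FiniteType ↔ ∃ s : Finset B, Subring.closure (Set.range g ∪ ↑s) = ⊤ := by
  unfold RingHom.FiniteType
  letI := g.toAlgebra
  constructor
  · rintro ⟨s, hs⟩
    refine ⟨s, ?_⟩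
    have h := Algebra.adjoin_eq_ring_closure (R := A) (s : Set B)
    rw [hs] at h
    rw [← RingHom.algebraMap_toAlgebra g, ← h]
    rfl
  · rintro ⟨s, hs⟩
    refine ⟨s, ?_⟩
    have h := Algebra.adjoin_eq_ring_closure (R := A) (s : Set B)
    rw [RingHom.algebraMap_toAlgebra g, hs] at h
    apply Subalgebra.toSubring_injective
    rw [h]
    rfl

theorem fwd_tensor (R : Type u) [CommRing R] (R' : Type u) [CommRing R'] [Algebra R R']
    (A B : Type u) [CommRing A] [Algebra R A] [CommRing B] [Algebra R B] (φ : A →ₐ[R] B)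
    (h : φ.toRingHom.FiniteType) :
    (Algebra.TensorProduct.map (AlgHom.id R R') φ).toRingHom.FiniteType := by
  classical
  rw [ft_iff] at h ⊢
  obtain ⟨T, hT⟩ := h
  refine ⟨T.image (fun b => (1 : R') ⊗ₜ[R] b), ?_⟩
  rw [eq_top_iff]
  intro w hw
  clear hw
  have h1 : ∀ b : B, (1 : R') ⊗ₜ[R] b ∈ Subring.closure
      (Set.range (Algebra.TensorProduct.map (AlgHom.id R R') φ).toRingHom ∪
        ↑(T.image (fun b => (1 : R') ⊗ₜ[R] b))) := by
    intro b
    have hb : b ∈ Subring.closure (Set.range φ.toRingHom ∪ ↑T) := by rw [hT]; trivial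
    induction hb using Subring.closure_induction with
    | mem x hx =>
      apply Subring.subset_closure
      rcases hx with ⟨a, rfl⟩ | hx
      · left
        exact ⟨(1 : R') ⊗ₜ[R] a, rfl⟩
      · right
        exact Finset.mem_coe.mpr (Finset.mem_image_of_mem _ hx)
    | zero => rw [tmul_zero]; exact Subring.zero_mem _
    | one => exact Subring.one_mem _
    | add x y _ _ hx hy => rw [tmul_add]; exact Subring.add_mem _ hx hy
    | neg x _ hx => rw [tmul_neg]; exact Subring.neg_mem _ hx
    | mul x y _ _ hx hy =>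
      have : (1 : R') ⊗ₜ[R] (x * y) = ((1 : R') ⊗ₜ[R] x) * ((1 : R') ⊗ₜ[R] y) := by
        rw [Algebra.TensorProduct.tmul_mul_tmul, mul_one]
      rw [this]
      exact Subring.mul_mem _ hx hy
  induction w using TensorProduct.induction_on with
  | zero => exact Subring.zero_mem _
  | tmul r b =>
    have : r ⊗ₜ[R] b = (r ⊗ₜ[R] (1 : B)) * ((1 : R') ⊗ₜ[R] b) := by
      rw [Algebra.TensorProduct.tmul_mul_tmul, mul_one, one_mul]
    rw [this]
    refine Subring.mul_mem _ (Subring.subset_closure (Or.inl ⟨r ⊗ₜ[R] (1 : A), ?_⟩)) (h1 b)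
    simp
  | add x y hx hy => exact Subring.add_mem _ hx hy

theorem fwd_away {A B : Type u} [CommRing A] [CommRing B] (φ : A →+* B) (r : A)
    (h : φ.FiniteType) : (Localization.awayMap φ r).FiniteType :=
  RingHom.finiteType_localizationPreserves.away φ r _ _ h

theorem away_closure {A B : Type u} [CommRing A] [CommRing B] (φ : A →+* B) (r : A)
    (h : (Localization.awayMap φ r).FiniteType) :
    ∃ T : Finset B, ∀ C : Subring B, Set.range φ ⊆ (C : Set B) → (↑T : Set B) ⊆ (C : Set B) →
      ∀ b : B, ∃ n : ℕ, (φ r) ^ n * b ∈ C := by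
  classical
  rw [ft_iff] at h
  obtain ⟨s, hs⟩ := h
  let M := Submonoid.powers (φ r)
  let L := Localization.Away (φ r)
  have hsurj := fun y : L => IsLocalization.surj M y
  refine ⟨s.image (fun y => (Classical.choose (hsurj y)).1), ?_⟩
  intro C hC hT b
  have hg : φ r ∈ C := hC ⟨r, rfl⟩
  have key : ∀ y : L, ∃ n : ℕ, ∃ c ∈ C, y * (algebraMap B L (φ r)) ^ n = algebraMap B L c := by
    intro y
    have hy : y ∈ Subring.closure (Set.range (Localization.awayMap φ r) ∪ ↑s) := by
      rw [hs]; trivial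
    induction hy using Subring.closure_induction with
    | mem x hx =>
      rcases hx with ⟨x, rfl⟩ | hx
      · obtain ⟨⟨a, ⟨_, n, rfl⟩⟩, ha⟩ := IsLocalization.surj (Submonoid.powers r) x
        refine ⟨n, φ a, hC ⟨a, rfl⟩, ?_⟩
        have := congrArg (Localization.awayMap φ r) ha
        rw [map_mul] at this
        simp only [map_pow] at this
        rw [Localization.awayMap, IsLocalization.Away.map, IsLocalization.map_eq,
          IsLocalization.map_eq] at this
        exact this
      · obtain ⟨n, hn⟩ := (Classical.choose (hsurj x)).2.2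
        refine ⟨n, (Classical.choose (hsurj x)).1, hT ?_, ?_⟩
        · exact Finset.mem_coe.mpr (Finset.mem_image_of_mem _ hx)
        · have := Classical.choose_spec (hsurj x)
          rw [← hn] at this
          rw [← map_pow]
          exact this
    | zero => exact ⟨0, 0, C.zero_mem, by simp⟩
    | one => exact ⟨0, 1, C.one_mem, by simp⟩
    | add x y _ _ hx hy =>
      obtain ⟨n₁, c₁, hc₁, h₁⟩ := hx
      obtain ⟨n₂, c₂, hc₂, h₂⟩ := hy
      refine ⟨n₁ + n₂, c₁ * (φ r) ^ n₂ + c₂ * (φ r) ^ n₁,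
        C.add_mem (C.mul_mem hc₁ (C.pow_mem hg _)) (C.mul_mem hc₂ (C.pow_mem hg _)), ?_⟩
      rw [map_add, map_mul, map_mul, ← h₁, ← h₂, map_pow, map_pow]
      ring
    | neg x _ hx =>
      obtain ⟨n₁, c₁, hc₁, h₁⟩ := hx
      exact ⟨n₁, -c₁, C.neg_mem hc₁, by rw [map_neg, ← h₁]; ring⟩
    | mul x y _ _ hx hy =>
      obtain ⟨n₁, c₁, hc₁, h₁⟩ := hx
      obtain ⟨n₂, c₂, hc₂, h₂⟩ := hy
      refine ⟨n₁ + n₂, c₁ * c₂, C.mul_mem hc₁ hc₂, ?_⟩
      rw [map_mul, ← h₁, ← h₂]
      ring
  obtain ⟨n, c, hc, hn⟩ := key (algebraMap B L b)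
  rw [← map_pow, ← map_mul] at hn
  obtain ⟨⟨_, m, rfl⟩, hm⟩ := IsLocalization.exists_of_eq (M := M) hn
  refine ⟨m + n, ?_⟩
  have : (φ r) ^ (m + n) * b = (φ r) ^ m * c := by
    rw [← hm]; ring
  rw [this]
  exact C.mul_mem (C.pow_mem hg _) hc

theorem tensor_closure (R : Type u) [CommRing R] (R' : Type u) [CommRing R'] [Algebra R R']
    (A B : Type u) [CommRing A] [Algebra R A] [CommRing B] [Algebra R B] (φ : A →ₐ[R] B)
    (h : (Algebra.TensorProduct.map (AlgHom.id R R') φ).toRingHom.FiniteType) :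
    ∃ T : Finset B, ∀ C : Subalgebra R B, Set.range φ ⊆ (C : Set B) → (↑T : Set B) ⊆ (C : Set B) →
      Function.Surjective (C.val.toLinearMap.lTensor R') := by
  classical
  rw [ft_iff] at h
  obtain ⟨s, hs⟩ := h
  obtain ⟨N', hfin, hN'⟩ := TensorProduct.exists_finite_submodule_right_of_setFinite
    (R := R) (M := R') (N := B) (↑s : Set (R' ⊗[R] B)) s.finite_toSet
  obtain ⟨T, hT⟩ := (Module.Finite.iff_fg.mp hfin)
  refine ⟨T, ?_⟩
  intro C hC hTC
  have hNC : N' ≤ Subalgebra.toSubmodule C := by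
    rw [← hT, Submodule.span_le]
    exact hTC
  let D : Subring (R' ⊗[R] B) := (Algebra.TensorProduct.map (AlgHom.id R R') C.val).toRingHom.range
  have hD : D = ⊤ := by
    rw [eq_top_iff, ← hs, Subring.closure_le]
    rintro w (⟨w, rfl⟩ | hw)
    · let φ' : A →ₐ[R] C := φ.codRestrict C (fun a => hC ⟨a, rfl⟩)
      have hcomp : φ = C.val.comp φ' := by
        ext a; rfl
      refine ⟨Algebra.TensorProduct.map (AlgHom.id R R') φ' w, ?_⟩
      change (Algebra.TensorProduct.map (AlgHom.id R R') C.val)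
        ((Algebra.TensorProduct.map (AlgHom.id R R') φ') w) =
        (Algebra.TensorProduct.map (AlgHom.id R R') φ) w
      induction w using TensorProduct.induction_on with
      | zero => simp only [map_zero]
      | tmul r a => rfl
      | add x y hx hy => rw [map_add, map_add, map_add, hx, hy]
    · obtain ⟨v, hv⟩ := hN' hw
      refine ⟨(Submodule.inclusion hNC).lTensor R' v, ?_⟩
      rw [← hv]
      change (Algebra.TensorProduct.map (AlgHom.id R R') C.val) _ = _
      rw [Groth.Agent.S10721.map_eq_lTensor, ← LinearMap.comp_apply, ← LinearMap.lTensor_comp]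
      rfl
  intro z
  have hz : z ∈ D := by rw [hD]; trivial
  obtain ⟨w, hw⟩ := hz
  refine ⟨w, ?_⟩
  rw [← Groth.Agent.S10721.map_eq_lTensor]
  exact hw

/-- Glueing along a glueing pair detects finite type morphisms of affine schemes, stated for coordinate
rings. Let `(R → R', f)` be a glueing pair and `φ : A → B` a homomorphism of `R`-algebras with `A`,
`B` glueable as `R`-modules (so `Spec A`, `Spec B` are affine and glueable over `Spec R`). Then `φ`
is of finite type if and only if `A_f → B_f` and `R' ⊗_R A → R' ⊗_R B` are. -/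
theorem result (R : Type u) [CommRing R] (R' : Type u) [CommRing R'] [Algebra R R'] (f : R)
    (hRR' : EtGlue.IsGlueingPair R R' f) (A B : Type u) [CommRing A] [Algebra R A] [CommRing B] [Algebra R B]
    (hA : EtGlue.IsGlueable R R' f A) (hB : EtGlue.IsGlueable R R' f B) (φ : A →ₐ[R] B) :
    φ.toRingHom.FiniteType ↔ (Localization.awayMap φ.toRingHom (algebraMap R A f)).FiniteType ∧ (Algebra.TensorProduct.map (AlgHom.id R R') φ).toRingHom.FiniteType := by
  classical
  constructor
  · intro h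
    exact ⟨fwd_away _ _ h, fwd_tensor R R' A B φ h⟩
  · rintro ⟨h1, h2⟩
    obtain ⟨T₁, hT₁⟩ := away_closure φ.toRingHom (algebraMap R A f) h1
    obtain ⟨T₂, hT₂⟩ := tensor_closure R R' A B φ h2
    rw [ft_iff]
    refine ⟨T₁ ∪ T₂, ?_⟩
    let C₀ : Subring B := Subring.closure (Set.range φ.toRingHom ∪ ↑(T₁ ∪ T₂))
    have hφC : Set.range φ.toRingHom ⊆ (C₀ : Set B) :=
      fun x hx => Subring.subset_closure (Or.inl hx)
    have hTC : (↑(T₁ ∪ T₂) : Set B) ⊆ (C₀ : Set B) :=
      fun x hx => Subring.subset_closure (Or.inr hx)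
    let C : Subalgebra R B :=
      { C₀.toSubsemiring with
        algebraMap_mem' := fun r => hφC ⟨algebraMap R A r, φ.commutes r⟩ }
    have hCC₀ : ∀ b : B, b ∈ C ↔ b ∈ C₀ := fun b => Iff.rfl
    have hT₁C : (↑T₁ : Set B) ⊆ (C₀ : Set B) := fun x hx =>
      hTC (by rw [Finset.coe_union]; exact Or.inl hx)
    have hT₂C : (↑T₂ : Set B) ⊆ (C : Set B) := fun x hx =>
      hTC (by rw [Finset.coe_union]; exact Or.inr hx)
    have hpow := hT₁ C₀ hφC hT₁C
    have hsurj := hT₂ C hφC hT₂C
    let P : Submodule R B := Subalgebra.toSubmodule C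
    have htors : ∀ c : B ⧸ P, ∃ n : ℕ, f ^ n • c = 0 := by
      intro c
      obtain ⟨b, rfl⟩ := Submodule.Quotient.mk_surjective P c
      obtain ⟨n, hn⟩ := hpow b
      refine ⟨n, ?_⟩
      rw [← Submodule.Quotient.mk_smul, Submodule.Quotient.mk_eq_zero]
      change f ^ n • b ∈ C
      rw [hCC₀, Algebra.smul_def, map_pow]
      have h2 : φ.toRingHom (algebraMap R A f) = algebraMap R B f := φ.commutes f
      rw [← h2]
      exact hn
    rw [eq_top_iff]
    intro b _
    have h0 : (1 : R') ⊗ₜ[R] (P.mkQ b) = 0 := by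
      obtain ⟨w, hw⟩ := hsurj ((1 : R') ⊗ₜ[R] b)
      have := congrArg (P.mkQ.lTensor R') hw
      rw [LinearMap.lTensor_tmul, ← LinearMap.comp_apply, ← LinearMap.lTensor_comp] at this
      rw [← this]
      have hz : P.mkQ ∘ₗ C.val.toLinearMap = 0 := by
        ext a
        simp only [LinearMap.comp_apply, Submodule.mkQ_apply, LinearMap.zero_apply,
          Submodule.Quotient.mk_eq_zero]
        exact a.2
      rw [hz, LinearMap.lTensor_zero, LinearMap.zero_apply]
    have := Groth.Agent.Lib.helper3.BL.eq_zero_of_tmul_eq_zero f hRR'.1 (B ⧸ P) htors _ h0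
    rw [Submodule.mkQ_apply, Submodule.Quotient.mk_eq_zero] at this
    exact this

end Groth.Agent.S10722
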