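import Groth.Statements.S18934
import Mathlib

set_option autoImplicit false
universe u
open Synt

namespace Groth.Agent.S18934


open Polynomial TensorProduct in
/-- The fibre algebra `K ⊗[A] A[X]/(f)` is presented by one generator and one relation. -/
noncomputable def presEquiv (A K : Type u) [CommRing A] [CommRing K] [Algebra A K] (f : A[X]) :
    (MvPolynomial (Fin 1) K ⧸ Ideal.span
      {Polynomial.aeval (MvPolynomial.X 0 : MvPolynomial (Fin 1) K) f}) ≃ₐ[K]
      K ⊗[A] AdjoinRoot f := by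
  let r₀ : MvPolynomial (Fin 1) K := Polynomial.aeval (MvPolynomial.X 0 : MvPolynomial (Fin 1) K) f
  let φ' : MvPolynomial (Fin 1) K →ₐ[K] K ⊗[A] AdjoinRoot f :=
    MvPolynomial.aeval (fun _ => (1 : K) ⊗ₜ[A] AdjoinRoot.root f)
  have hφr : φ' r₀ = 0 := by
    have h1 : φ' r₀ = (φ'.restrictScalars A) r₀ := rfl
    rw [h1, ← Polynomial.aeval_algHom_apply]
    have h2 : (φ'.restrictScalars A) (MvPolynomial.X 0) = (1 : K) ⊗ₜ[A] AdjoinRoot.root f := by
      simp [φ']
    rw [h2]
    have h3 : (1 : K) ⊗ₜ[A] AdjoinRoot.root f =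
        (Algebra.TensorProduct.includeRight : AdjoinRoot f →ₐ[A] K ⊗[A] AdjoinRoot f)
          (AdjoinRoot.root f) := rfl
    rw [h3, Polynomial.aeval_algHom_apply, AdjoinRoot.aeval_eq, AdjoinRoot.mk_self, map_zero]
  let Q := MvPolynomial (Fin 1) K ⧸ Ideal.span {r₀}
  have hQ : Polynomial.aeval (Ideal.Quotient.mk (Ideal.span {r₀}) (MvPolynomial.X 0)) f = 0 := by
    have h1 : Ideal.Quotient.mk (Ideal.span {r₀}) (MvPolynomial.X 0) =
        (Ideal.Quotient.mkₐ A (Ideal.span {r₀})) (MvPolynomial.X 0) := rfl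
    rw [h1, Polynomial.aeval_algHom_apply]
    exact Ideal.Quotient.eq_zero_iff_mem.mpr (Ideal.subset_span rfl)
  let g : AdjoinRoot f →ₐ[A] Q :=
    AdjoinRoot.liftAlgHom f (Algebra.ofId A Q) (Ideal.Quotient.mk (Ideal.span {r₀}) (MvPolynomial.X 0))
      hQ
  let ψ' : K ⊗[A] AdjoinRoot f →ₐ[K] Q :=
    Algebra.TensorProduct.lift (Algebra.ofId K Q) g (fun _ _ => Commute.all _ _)
  refine AlgEquiv.ofAlgHom (Ideal.Quotient.liftₐ (Ideal.span {r₀}) φ' ?_) ψ' ?_ ?_
  · intro x hx
    obtain ⟨c, rfl⟩ := Ideal.mem_span_singleton'.mp hx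
    rw [map_mul, hφr, mul_zero]
  · apply Algebra.TensorProduct.ext
    · ext
    · apply AdjoinRoot.algHom_ext
      have h1 : ψ' ((1 : K) ⊗ₜ[A] AdjoinRoot.root f) =
          Ideal.Quotient.mk (Ideal.span {r₀}) (MvPolynomial.X 0) := by
        simp only [ψ', Algebra.TensorProduct.lift_tmul, map_one, one_mul, g,
          AdjoinRoot.liftAlgHom_root]
      simp only [AlgHom.coe_comp, AlgHom.coe_restrictScalars', Function.comp_apply,
        Algebra.TensorProduct.includeRight_apply, AlgHom.coe_id, id_eq]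
      rw [h1]
      simp [φ']
  · apply Ideal.Quotient.algHom_ext
    apply MvPolynomial.algHom_ext
    intro i
    have hi : i = 0 := Subsingleton.elim _ _
    subst hi
    have h1 : ψ' ((1 : K) ⊗ₜ[A] AdjoinRoot.root f) =
        Ideal.Quotient.mk (Ideal.span {r₀}) (MvPolynomial.X 0) := by
      simp only [ψ', Algebra.TensorProduct.lift_tmul, map_one, one_mul, g,
        AdjoinRoot.liftAlgHom_root]
    have h2 : (Ideal.Quotient.liftₐ (Ideal.span {r₀}) φ' (by
        intro x hx
        obtain ⟨c, rfl⟩ := Ideal.mem_span_singleton'.mp hx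
        rw [map_mul, hφr, mul_zero]))
        (Ideal.Quotient.mk (Ideal.span {r₀}) (MvPolynomial.X 0)) =
          (1 : K) ⊗ₜ[A] AdjoinRoot.root f := by
      rw [← Ideal.Quotient.mkₐ_eq_mk K, Ideal.Quotient.liftₐ_apply, Ideal.Quotient.mkₐ_eq_mk,
        Ideal.Quotient.lift_mk]
      simp [φ']
    simp only [AlgHom.coe_comp, Function.comp_apply, AlgHom.coe_id, id_eq]
    erw [h2, h1]
    rfl

open Polynomial TensorProduct in
theorem free_nontrivial (A : Type u) [CommRing A] [Nontrivial A] (f : A[X]) (hf : f.Monic)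
    (hd : f.natDegree ≠ 0) : Module.Free A (AdjoinRoot f) ∧ Nontrivial (AdjoinRoot f) := by
  have hfree : Module.Free A (AdjoinRoot f) := Module.Free.of_basis (AdjoinRoot.powerBasis' hf).basis
  refine ⟨hfree, ?_⟩
  have : 0 < (AdjoinRoot.powerBasis' hf).dim := Nat.pos_of_ne_zero hd
  exact nontrivial_of_ne _ _ ((AdjoinRoot.powerBasis' hf).basis.ne_zero ⟨0, this⟩)

open Polynomial TensorProduct in
theorem faithfullyFlat (A : Type u) [CommRing A] (f : A[X]) (hf : f.Monic)
    (hd : Nontrivial A → f.natDegree ≠ 0) : Module.FaithfullyFlat A (AdjoinRoot f) := by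
  rcases subsingleton_or_nontrivial A with h | h
  · have : Module.Free A (AdjoinRoot f) := Module.Free.of_basis (AdjoinRoot.powerBasis' hf).basis
    refine ⟨fun m hm => ?_⟩
    exact absurd (Subsingleton.elim m ⊤) hm.ne_top
  · obtain ⟨h1, h2⟩ := free_nontrivial A f hf (hd h)
    infer_instance

open Polynomial TensorProduct in
theorem globalCI (A K : Type u) [CommRing A] [Field K] [Algebra A K] (f : A[X]) (hf : f.Monic)
    (hd : f.natDegree ≠ 0) :
    Synt.IsGlobalCI K (Localization.Away (1 : K ⊗[A] AdjoinRoot f)) := by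
  right
  refine ⟨1, 1, le_rfl, ?_⟩
  have hle : Submonoid.powers (1 : K ⊗[A] AdjoinRoot f) ≤ IsUnit.submonoid (K ⊗[A] AdjoinRoot f) := by
    rintro x ⟨n, rfl⟩
    simp
  let e₁ : (K ⊗[A] AdjoinRoot f) ≃ₐ[K ⊗[A] AdjoinRoot f]
      Localization.Away (1 : K ⊗[A] AdjoinRoot f) :=
    IsLocalization.atUnits (K ⊗[A] AdjoinRoot f) (Submonoid.powers 1) hle
  let e : (MvPolynomial (Fin 1) K ⧸ Ideal.span
      {Polynomial.aeval (MvPolynomial.X 0 : MvPolynomial (Fin 1) K) f}) ≃ₐ[K]
      Localization.Away (1 : K ⊗[A] AdjoinRoot f) :=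
    (presEquiv A K f).trans (e₁.restrictScalars K)
  refine ⟨e.toAlgHom.comp (Ideal.Quotient.mkₐ K _),
    fun _ => Polynomial.aeval (MvPolynomial.X 0 : MvPolynomial (Fin 1) K) f, ?_, ?_, ?_⟩
  · exact e.surjective.comp (Ideal.Quotient.mkₐ_surjective K _)
  · ext x
    rw [Set.range_const, RingHom.mem_ker]
    change e (Ideal.Quotient.mk _ x) = 0 ↔ _
    rw [map_eq_zero_iff e e.injective, Ideal.Quotient.eq_zero_iff_mem]
  · have := faithfullyFlat A f hf (fun _ => hd)
    have : Module.Finite A (AdjoinRoot f) := (AdjoinRoot.powerBasis' hf).finite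
    have : IsArtinianRing (K ⊗[A] AdjoinRoot f) := IsArtinianRing.of_finite K _
    rw [← ringKrullDim_eq_of_ringEquiv e₁.toRingEquiv]
    have : Ring.KrullDimLE 0 (K ⊗[A] AdjoinRoot f) := inferInstance
    rw [ringKrullDimZero_iff_ringKrullDim_eq_zero] at this
    rw [this]
    simp

open Polynomial in
/-- Let p be a prime, A a commutative ring and a an element of A. Then the A-algebra A[T]/(T^p − a) is
syntomic and faithfully flat over A. This is the step of the source's proof showing that adjoining a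
p-th root of any element is a covering for the syntomic topology. -/
theorem result (p : ℕ) [Fact p.Prime]
    (A : Type u) [CommRing A] (a : A) :
    Synt.IsSyntomic A (AdjoinRoot (X ^ p - C a)) ∧ Module.FaithfullyFlat A (AdjoinRoot (X ^ p - C a)) := by
  have hf : (X ^ p - C a : A[X]).Monic := monic_X_pow_sub_C a (Fact.out : p.Prime).ne_zero
  have hd : Nontrivial A → (X ^ p - C a : A[X]).natDegree ≠ 0 := by
    intro _
    rw [natDegree_X_pow_sub_C]
    exact (Fact.out : p.Prime).ne_zero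
  refine ⟨⟨?_, ?_, ?_⟩, faithfullyFlat A _ hf hd⟩
  · have := faithfullyFlat A _ hf hd
    infer_instance
  · exact Algebra.FinitePresentation.quotient (Submodule.fg_span_singleton _)
  · intro q
    have : Module.Finite A (AdjoinRoot (X ^ p - C a : A[X])) := (AdjoinRoot.powerBasis' hf).finite
    have : Nontrivial A :=
      (subsingleton_or_nontrivial A).resolve_left (fun h => q.2.ne_top (Subsingleton.elim _ _))
    refine ⟨inferInstance, fun P => ⟨1, ?_, globalCI A q.asIdeal.ResidueField _ hf (hd this)⟩⟩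
    exact fun h => P.2.ne_top ((Ideal.eq_top_iff_one _).mpr h)

end Groth.Agent.S18934
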