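import Groth.Statements.S9435
import Mathlib

set_option autoImplicit false
universe u
open CAlg

namespace Groth.Agent.S9435

open Polynomial

/-- a common denominator for finitely many elements of the residue field -/
theorem exists_common_denominator (R : Type u) [CommRing R] (p : Ideal R) [p.IsPrime]
    (F : Finset p.ResidueField) :
    ∃ s : R, s ∉ p ∧ ∀ c ∈ F, algebraMap R p.ResidueField s * c ∈
      Set.range (algebraMap R p.ResidueField) := by
  classical
  induction F using Finset.induction_on with
  | empty => exact ⟨1, fun h => Ideal.IsPrime.ne_top ‹_› ((Ideal.eq_top_iff_one p).mpr h), by simp⟩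
  | insert c F _ ih =>
    obtain ⟨s, hs, hF⟩ := ih
    obtain ⟨x, y, hy, hxy⟩ := IsFractionRing.div_surjective (A := R ⧸ p) c
    obtain ⟨a, rfl⟩ := Ideal.Quotient.mk_surjective x
    obtain ⟨t, rfl⟩ := Ideal.Quotient.mk_surjective y
    have ht : t ∉ p := by
      intro h
      have : (Ideal.Quotient.mk p t) = 0 := Ideal.Quotient.eq_zero_iff_mem.mpr h
      exact nonZeroDivisors.ne_zero hy this
    rw [Ideal.algebraMap_quotient_residueField_mk, Ideal.algebraMap_quotient_residueField_mk] at hxy
    have ht0 : algebraMap R p.ResidueField t ≠ 0 := by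
      rwa [Ne, Ideal.algebraMap_residueField_eq_zero]
    refine ⟨s * t, ?_, ?_⟩
    · intro h
      rcases Ideal.IsPrime.mem_or_mem ‹_› h with h | h
      · exact hs h
      · exact ht h
    · intro c' hc'
      rw [Finset.mem_insert] at hc'
      rcases hc' with rfl | hc'
      · refine ⟨s * a, ?_⟩
        rw [← hxy, map_mul, map_mul]
        field_simp
      · obtain ⟨b, hb⟩ := hF c' hc'
        refine ⟨t * b, ?_⟩
        rw [map_mul, map_mul, hb]
        ring

/-- Given a prime p of a ring R and a finite separable extension L of κ(p), there is an étale R-algebra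
R' with a prime p' over p whose residue field is κ(p)-isomorphic to L. Stated through an R-algebra
map ψ : R' → L whose image generates the field L: its kernel is such a prime p' and the induced
κ(p') → L is then an isomorphism over κ(p). -/
theorem result (R : Type u) [CommRing R]
    (p : Ideal R) [p.IsPrime] (L : Type u) [Field L] [Algebra p.ResidueField L] [Algebra R L]
    [IsScalarTower R p.ResidueField L] [Module.Finite p.ResidueField L]
    [Algebra.IsSeparable p.ResidueField L] :
    ∃ (R' : Type u) (_ : CommRing R') (_ : Algebra R R') (_ : Algebra.Etale R R') (ψ : R' →ₐ[R] L),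
      Subfield.closure (Set.range ψ) = ⊤ := by
  classical
  obtain ⟨α, hα⟩ := Field.exists_primitive_element p.ResidueField L
  have hαint : IsIntegral p.ResidueField α := Algebra.IsIntegral.isIntegral α
  set μ := minpoly p.ResidueField α with hμ
  have hμmonic : μ.Monic := minpoly.monic hαint
  obtain ⟨s, hs, hF⟩ := exists_common_denominator R p
    ((Finset.range μ.natDegree).image μ.coeff)
  have hs0 : algebraMap R p.ResidueField s ≠ 0 := by
    rwa [Ne, Ideal.algebraMap_residueField_eq_zero]
  set s' := algebraMap R p.ResidueField s with hs'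
  set β : L := algebraMap p.ResidueField L s' * α with hβ
  set g := scaleRoots μ s' with hg
  have hgβ : aeval β g = 0 := scaleRoots_aeval_eq_zero (minpoly.aeval _ _)
  have hgmonic : g.Monic := (monic_scaleRoots_iff s').mpr hμmonic
  have hgdeg : g.natDegree = μ.natDegree := natDegree_scaleRoots _ _
  -- `g` lifts to `R[X]`
  have hglift : g ∈ lifts (algebraMap R p.ResidueField) := by
    rw [lifts_iff_coeff_lifts]
    intro i
    rw [hg, coeff_scaleRoots]
    rcases lt_trichotomy i μ.natDegree with hi | hi | hi
    · obtain ⟨b, hb⟩ := hF (μ.coeff i) (Finset.mem_image_of_mem _ (Finset.mem_range.mpr hi))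
      obtain ⟨k, hk⟩ : ∃ k, μ.natDegree - i = k + 1 := ⟨μ.natDegree - i - 1, by omega⟩
      refine ⟨b * s ^ k, ?_⟩
      rw [hk, map_mul, map_pow, hb, pow_succ]
      ring
    · refine ⟨1, ?_⟩
      rw [hi, Nat.sub_self, pow_zero, mul_one, map_one]
      exact hμmonic.coeff_natDegree.symm
    · refine ⟨0, ?_⟩
      rw [coeff_eq_zero_of_natDegree_lt hi, zero_mul, map_zero]
  obtain ⟨f, hfg, hfdeg, hfmonic⟩ := lifts_and_natDegree_eq_and_monic hglift hgmonic
  -- `β` is again a primitive element
  have hβprim : IntermediateField.adjoin p.ResidueField {β} = ⊤ := by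
    rw [eq_top_iff, ← hα, IntermediateField.adjoin_le_iff, Set.singleton_subset_iff]
    have h1 : β ∈ IntermediateField.adjoin p.ResidueField {β} :=
      IntermediateField.mem_adjoin_simple_self _ _
    have h2 : α = algebraMap p.ResidueField L s'⁻¹ * β := by
      rw [hβ, ← mul_assoc, ← map_mul, inv_mul_cancel₀ hs0, map_one, one_mul]
    show α ∈ IntermediateField.adjoin p.ResidueField {β}
    rw [h2]
    exact mul_mem (IntermediateField.algebraMap_mem _ _) h1
  have hβint : IsIntegral p.ResidueField β := Algebra.IsIntegral.isIntegral β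
  -- `g` is the minimal polynomial of `β`
  have hgmin : g = minpoly p.ResidueField β := by
    have hdvd : minpoly p.ResidueField β ∣ g := minpoly.dvd _ _ hgβ
    have hdeg : g.natDegree ≤ (minpoly p.ResidueField β).natDegree := by
      rw [hgdeg, ← IntermediateField.adjoin.finrank hβint, hμ,
        ← IntermediateField.adjoin.finrank hαint, hα, hβprim]
    exact eq_of_monic_of_dvd_of_natDegree_le (minpoly.monic hβint) hgmonic hdvd hdeg
  have hgsep : g.Separable := by
    rw [hgmin]
    exact Algebra.IsSeparable.isSeparable p.ResidueField β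
  -- the standard étale algebra
  let P : StandardEtalePair R := ⟨f, hfmonic, derivative f, ⟨1, 0, 1, by simp⟩⟩
  have haeval : ∀ q : R[X], aeval β q = aeval β (q.map (algebraMap R p.ResidueField)) := by
    intro q
    rw [aeval_map_algebraMap]
  have hmap : P.HasMap β := by
    refine ⟨?_, ?_⟩
    · show aeval β f = 0
      rw [haeval, hfg, hgβ]
    · show IsUnit (aeval β (derivative f))
      rw [haeval, ← derivative_map, hfg]
      exact (hgsep.aeval_derivative_ne_zero hgβ).isUnit
  refine ⟨P.Ring, inferInstance, inferInstance, inferInstance, P.lift β hmap, ?_⟩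
  -- the image generates `L`
  set K := Subfield.closure (Set.range (P.lift β hmap)) with hK
  have hR : ∀ r : R, algebraMap R L r ∈ K := by
    intro r
    apply Subfield.subset_closure
    exact ⟨algebraMap R P.Ring r, AlgHom.commutes _ r⟩
  have hκ : ∀ c : p.ResidueField, algebraMap p.ResidueField L c ∈ K := by
    intro c
    obtain ⟨x, y, hy, hxy⟩ := IsFractionRing.div_surjective (A := R ⧸ p) c
    obtain ⟨a, rfl⟩ := Ideal.Quotient.mk_surjective x
    obtain ⟨t, rfl⟩ := Ideal.Quotient.mk_surjective y
    rw [Ideal.algebraMap_quotient_residueField_mk, Ideal.algebraMap_quotient_residueField_mk] at hxy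
    rw [← hxy, map_div₀, ← IsScalarTower.algebraMap_apply, ← IsScalarTower.algebraMap_apply]
    exact div_mem (hR a) (hR t)
  have hβK : β ∈ K := by
    apply Subfield.subset_closure
    exact ⟨P.X, P.lift_X β hmap⟩
  let E : IntermediateField p.ResidueField L := Subfield.toIntermediateField K hκ
  have hE : E = ⊤ := by
    rw [eq_top_iff, ← hβprim, IntermediateField.adjoin_le_iff, Set.singleton_subset_iff]
    exact hβK
  rw [eq_top_iff]
  intro x _
  have : x ∈ E := by rw [hE]; exact IntermediateField.mem_top
  exact this

end Groth.Agent.S9435
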