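import Groth.Statements.S17968
import Groth.Agent.Lib.lead.GabberIdem

set_option autoImplicit false
universe u
open Hensel

namespace Groth.Agent.S17968

open Groth.Agent.Lib.lead.Gabber in
/-- Let A be a commutative ring and I an ideal contained in the Jacobson radical of A. Suppose that for
every natural number m and every monic polynomial p over A whose reduction modulo I is the reduction
of (T^2 - T)^m, every idempotent of B/IB is the image of an idempotent of B, where B = A[T]/(p).
Then (A, I) is a henselian pair. -/
theorem result (A : Type u) [CommRing A]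
    (I : Ideal A) (hI : I ≤ Ideal.jacobson ⊥)
    (h : ∀ (m : ℕ) (p : Polynomial A), p.Monic →
      Polynomial.map (Ideal.Quotient.mk I) p =
        Polynomial.map (Ideal.Quotient.mk I) ((Polynomial.X ^ 2 - Polynomial.X) ^ m) →
      Set.SurjOn (Ideal.Quotient.mk (Ideal.map (algebraMap A (AdjoinRoot p)) I))
        {e : AdjoinRoot p | IsIdempotentElem e} {e | IsIdempotentElem e}) :
    HenselianRing A I := by
  have H : ∀ (n : ℕ), 0 < n → ∀ p : Polynomial A, p.natDegree ≤ n → (∀ i, p.coeff i ∈ I) →
      ∃ α : A, α - 1 ∈ I ∧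
        Polynomial.IsRoot (Polynomial.X ^ n * (Polynomial.X - 1) + p) α := by
    intro n hn p hpd hp
    obtain ⟨k, rfl⟩ : ∃ k, n = k + 1 := ⟨n - 1, by omega⟩
    obtain ⟨e, he, hmod⟩ := exists_idempotent_of_lift I h k p hpd hp _ rfl
    exact root_of_idempotent I hI (k + 1) p hpd hp _ rfl e he hmod
  refine ⟨hI, fun f _ a₀ h₁ h₂ => ?_⟩
  exact exists_root_of_gabber I hI H f a₀ h₁ h₂

end Groth.Agent.S17968
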