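import Groth.Statements.S0526
import Groth.Agent.Lib.helper3.PairIdem
import Groth.Agent.S17968
-- import your own Groth.Agent.* helpers here

set_option autoImplicit false
universe u
open Hensel

namespace Groth.Agent.S0526

/-- If `A` is Henselian at `I` and `B` is an integral `A`-algebra, then `B` is Henselian at `IB`. -/
theorem result (A : Type u) [CommRing A] (I : Ideal A) [HenselianRing A I] (B : Type u) [CommRing B]
    [Algebra A B] [Algebra.IsIntegral A B] : HenselianRing B (Ideal.map (algebraMap A B) I) := by
  have hI : I ≤ Ideal.jacobson ⊥ := HenselianRing.jac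
  have hIB : Ideal.map (algebraMap A B) I ≤ Ideal.jacobson ⊥ :=
    Groth.Agent.Lib.helper3.PairIdem.map_le_jacobson_of_isIntegral I hI
  refine Groth.Agent.S17968.result B _ hIB fun m p hp _ => ?_
  -- `C = B[T]/(p)` is integral over `A`
  haveI : Module.Finite B (AdjoinRoot p) := (AdjoinRoot.powerBasis' hp).finite
  haveI : Algebra.IsIntegral B (AdjoinRoot p) := Algebra.IsIntegral.of_finite B (AdjoinRoot p)
  haveI : Algebra.IsIntegral A (AdjoinRoot p) := Algebra.IsIntegral.trans B
  have h := (Groth.Agent.Lib.helper3.PairIdem.bijOn_of_henselian A I (AdjoinRoot p)).surjOn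
  have hmap : Ideal.map (algebraMap B (AdjoinRoot p)) (Ideal.map (algebraMap A B) I) =
      Ideal.map (algebraMap A (AdjoinRoot p)) I := by
    rw [Ideal.map_map, ← IsScalarTower.algebraMap_eq]
  rw [hmap]
  exact h

end Groth.Agent.S0526
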