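import Groth.Statements.S19568
import Groth.Agent.Lib.helper3.PairHzn7
import Groth.Agent.Lib.lead.PairHz
-- import your own Groth.Agent.* helpers here

set_option autoImplicit false
universe u
open Hensel

namespace Groth.Agent.S19568

open Groth.Agent.Lib.helper3.PairHzn in
/-- a henselization `B` of `(A, I)` is a henselization of every étale neighbourhood mapping to it -/
theorem isPairHenselization_of_nbhd (A : Type u) [CommRing A] (I : Ideal A)
    (B : Type u) [CommRing B] [Algebra A B] (hB : Hens2.IsPairHenselization A I B)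
    (A' : Type u) [CommRing A'] [Algebra A A'] [Algebra.Etale A A']
    (χ : A' →ₐ[A] A ⧸ I) (hχ : IsAug I χ) [Algebra A' B] [IsScalarTower A A' B] :
    Hens2.IsPairHenselization A' (I.map (algebraMap A A')) B := by
  refine ⟨?_, ?_⟩
  · have := hB.1
    rwa [Ideal.map_map, ← IsScalarTower.algebraMap_eq]
  · intro T _ J f hT hfJ
    have hJ : J ≤ Ideal.jacobson ⊥ := hT.jac
    have hfJ' : I.map (f.comp (algebraMap A A')) ≤ J := by
      rw [← Ideal.map_map]; exact hfJ
    obtain ⟨g, hg, hgu⟩ := hB.2 T J (f.comp (algebraMap A A')) hT hfJ'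
    letI : Algebra A T := (f.comp (algebraMap A A')).toAlgebra
    have hIT : I.map (algebraMap A T) ≤ J := hfJ'
    refine ⟨g, ?_, ?_⟩
    · let φ₁ : A' →ₐ[A] T :=
        { g.comp (algebraMap A' B) with
          commutes' := fun a => by
            change g (algebraMap A' B (algebraMap A A' a)) = _
            rw [← IsScalarTower.algebraMap_apply A A' B]
            exact RingHom.congr_fun hg a }
      let φ₂ : A' →ₐ[A] T := { f with commutes' := fun a => rfl }
      have := algHom_ext_of_le_jacobson I χ hχ J hJ hIT φ₁ φ₂
      ext x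
      exact AlgHom.congr_fun this x
    · intro g' hg'
      apply hgu
      rw [IsScalarTower.algebraMap_eq A A' B, ← RingHom.comp_assoc, hg']

/-- Let A be a ring, I an ideal of A and B an A-algebra which is a henselization of the pair (A, I).
Consider étale A-algebras A' for which the induced map A/I → A'/IA' is bijective. Then: (a) every
such A' admits exactly one A-algebra map to B; (b) every element of B is the image of an element of
some such A' under an A-algebra map A' → B; (c) if an A-algebra map A' → B from such an algebra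
sends an element s to 0, then there are another such algebra A'' and an A-algebra map A' → A''
sending s to 0. (All algebras are taken in the universe of A. Together with the filteredness of the
category of these algebras, (a), (b) and (c) express that B, with the maps of (a), is their
colimit.) -/
theorem result (A : Type u) [CommRing A] (I : Ideal A)
    (B : Type u) [CommRing B] [Algebra A B] (hB : Hens2.IsPairHenselization A I B) :
    (∀ (A' : Type u) [CommRing A'] [Algebra A A'] [Algebra.Etale A A'],
        Function.Bijective (Ideal.quotientMap (I.map (algebraMap A A')) (algebraMap A A') Ideal.le_comap_map) →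
          Nonempty (Unique (A' →ₐ[A] B))) ∧
    (∀ x : B, ∃ (A' : Type u) (_ : CommRing A') (_ : Algebra A A') (_ : Algebra.Etale A A'),
        Function.Bijective (Ideal.quotientMap (I.map (algebraMap A A')) (algebraMap A A') Ideal.le_comap_map) ∧
          ∃ (φ : A' →ₐ[A] B) (s : A'), φ s = x) ∧
    (∀ (A' : Type u) [CommRing A'] [Algebra A A'] [Algebra.Etale A A'],
        Function.Bijective (Ideal.quotientMap (I.map (algebraMap A A')) (algebraMap A A') Ideal.le_comap_map) →
          ∀ (φ : A' →ₐ[A] B) (s : A'), φ s = 0 →
            ∃ (A'' : Type u) (_ : CommRing A'') (_ : Algebra A A'') (_ : Algebra.Etale A A''),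
              Function.Bijective (Ideal.quotientMap (I.map (algebraMap A A'')) (algebraMap A A'') Ideal.le_comap_map) ∧
                ∃ ψ : A' →ₐ[A] A'', ψ s = 0) := by
  classical
  have hBh : HenselianRing B (I.map (algebraMap A B)) := hB.1
  have hBjac : I.map (algebraMap A B) ≤ Ideal.jacobson ⊥ := hBh.jac
  refine ⟨?_, ?_, ?_⟩
  · intro A' _ _ _ hbij
    obtain ⟨χ, hχ⟩ := Groth.Agent.Lib.helper3.PairHzn.exists_aug_of_bijective I hbij
    obtain ⟨g, -⟩ := Groth.Agent.Lib.helper3.PairHzn.exists_algHom_henselian I A' χ B
      (I.map (algebraMap A B)) le_rfl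
    exact ⟨{ default := g
             uniq := fun φ => Groth.Agent.Lib.helper3.PairHzn.algHom_ext_of_le_jacobson I χ hχ
               (I.map (algebraMap A B)) hBjac le_rfl φ g }⟩
  · intro x
    obtain ⟨e⟩ := Groth.Agent.Lib.lead.PairHz.algEquiv_of_isPairHenselization hB
      (Groth.Agent.Lib.helper3.PairHzn.isPairHenselization (A := A) (I := I))
    obtain ⟨C, _, _, _, χ, hχ, φ, c, hc⟩ := Groth.Agent.Lib.helper3.PairHzn.exists_etale_nbhd (e x)
    refine ⟨C, inferInstance, inferInstance, inferInstance,
      Groth.Agent.Lib.helper3.PairHzn.bijective_of_aug I χ hχ, e.symm.toAlgHom.comp φ, c, ?_⟩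
    change e.symm (φ c) = x
    rw [hc, AlgEquiv.symm_apply_apply]
  · intro A' _ _ _ hbij φ s hs
    obtain ⟨χ, hχ⟩ := Groth.Agent.Lib.helper3.PairHzn.exists_aug_of_bijective I hbij
    letI algA'B : Algebra A' B := φ.toRingHom.toAlgebra
    haveI : IsScalarTower A A' B := IsScalarTower.of_algebraMap_eq (fun a => (φ.commutes a).symm)
    have hB' := isPairHenselization_of_nbhd A I B hB A' χ hχ
    set I' : Ideal A' := I.map (algebraMap A A') with hI'
    obtain ⟨e'⟩ := Groth.Agent.Lib.lead.PairHz.algEquiv_of_isPairHenselization hB'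
      (Groth.Agent.Lib.helper3.PairHzn.isPairHenselization (A := A') (I := I'))
    have hs' : algebraMap A' (Groth.Agent.Lib.helper3.PairHzn.Hzn A' I') s = 0 := by
      rw [← e'.commutes s]
      have : algebraMap A' B s = 0 := hs
      rw [this, map_zero]
    obtain ⟨C, _, _, _, χ', hχ', hC0⟩ :=
      Groth.Agent.Lib.helper3.PairHzn.exists_etale_nbhd_of_algebraMap_eq_zero s hs'
    letI algAC : Algebra A C := ((algebraMap A' C).comp (algebraMap A A')).toAlgebra
    haveI towerC : IsScalarTower A A' C := IsScalarTower.of_algebraMap_eq (fun _ => rfl)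
    haveI etAC : Algebra.Etale A C := Algebra.Etale.comp A A' C
    -- the augmentation of `C` over `A`
    let q : A' ⧸ I' →ₐ[A] A ⧸ I := Ideal.Quotient.liftₐ I' χ
      (fun a ha => Groth.Agent.Lib.helper3.PairHzn.map_le_ker I χ ha)
    let χ'' : C →ₐ[A] A ⧸ I := q.comp (χ'.restrictScalars A)
    have hχ'' : Groth.Agent.Lib.helper3.PairHzn.IsAug I χ'' := by
      apply Groth.Agent.Lib.helper3.PairHzn.isAug_of_surj
      intro c
      obtain ⟨a', ha'⟩ := Groth.Agent.Lib.helper3.PairHzn.surj_of_isAug I' χ' hχ' c
      obtain ⟨a, ha⟩ := Groth.Agent.Lib.helper3.PairHzn.surj_of_isAug I χ hχ a'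
      refine ⟨a, ?_⟩
      have e1 : I'.map (algebraMap A' C) = I.map (algebraMap A C) := by
        rw [hI', Ideal.map_map, ← IsScalarTower.algebraMap_eq]
      have e2 : c - algebraMap A C a =
          (c - algebraMap A' C a') + algebraMap A' C (a' - algebraMap A A' a) := by
        rw [map_sub, ← IsScalarTower.algebraMap_apply A A' C]; ring
      rw [e2]
      refine Ideal.add_mem _ (e1 ▸ ha') ?_
      exact Groth.Agent.Lib.helper3.PairHzn.algebraMap_mem_of_mem I ha
    exact ⟨C, inferInstance, algAC, etAC,
      Groth.Agent.Lib.helper3.PairHzn.bijective_of_aug I χ'' hχ'',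
      IsScalarTower.toAlgHom A A' C, hC0⟩

end Groth.Agent.S19568
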