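import Groth.Statements.S2023
import Mathlib
import Groth.Agent.Lib.helper3.SmoothRetract
import Groth.Agent.Lib.helper3.StdSmoothLift
import Groth.Agent.Lib.helper3.SqZeroFactor
-- import your own Groth.Agent.* helpers here

set_option autoImplicit false
universe u
open Smoothing

namespace Groth.Agent.S2023

/-- Let `I` be an ideal of square zero in `R` and `Λ` an `R`-algebra with `Λ/IΛ` ind-smooth over `R/I`.
Any `R`-algebra map `A → Λ` with `A` finitely presented factors through a quotient `B/J`, where `B`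
is a smooth `R`-algebra and `J` is a finitely generated ideal contained in `IB`. -/
theorem result {R Λ A : Type u} [CommRing R] [CommRing Λ] [Algebra R Λ] (I : Ideal R)
    (hI : I ^ 2 = ⊥) (h : Smoothing.IndSmooth (R ⧸ I) (Λ ⧸ I.map (algebraMap R Λ)))
    [CommRing A] [Algebra R A] [Algebra.FinitePresentation R A] (φ : A →ₐ[R] Λ) :
    ∃ (B : Type u) (_ : CommRing B) (_ : Algebra R B), Algebra.Smooth R B ∧
      ∃ J : Ideal B, J ≤ I.map (algebraMap R B) ∧ J.FG ∧
        ∃ (g : A →ₐ[R] B ⧸ J) (k : (B ⧸ J) →ₐ[R] Λ), k.comp g = φ := by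
  classical
  open TensorProduct in
  let φ' : (R ⧸ I) ⊗[R] A →ₐ[R ⧸ I] Λ ⧸ I.map (algebraMap R Λ) :=
    Algebra.TensorProduct.lift (Algebra.ofId (R ⧸ I) (Λ ⧸ I.map (algebraMap R Λ)))
      ((Ideal.Quotient.mkₐ R (I.map (algebraMap R Λ))).comp φ) (fun _ _ => Commute.all _ _)
  obtain ⟨B1, _, _, hB1, g1, h1, hcomp⟩ := h (TensorProduct R (R ⧸ I) A) inferInstance φ'
  obtain ⟨B', _, _, _, _, hB's, ⟨r⟩, hB'std⟩ :=
    Groth.Agent.Lib.helper3.SmoothRetract.main (R := R ⧸ I) (A := B1)
  letI algRB' : Algebra R B' := ((algebraMap (R ⧸ I) B').comp (algebraMap R (R ⧸ I))).toAlgebra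
  haveI towRB' : IsScalarTower R (R ⧸ I) B' := IsScalarTower.of_algebraMap_eq (fun _ => rfl)
  obtain ⟨B₀, _, _, hB₀, ψ, hψs, hψk⟩ :=
    Groth.Agent.Lib.helper3.StdSmoothLift.exists_stdSmooth_lift R I B'
  let χ : B' →ₐ[R ⧸ I] Λ ⧸ I.map (algebraMap R Λ) := h1.comp (r.restrictScalars (R ⧸ I))
  let χ₀ : B₀ →ₐ[R] Λ ⧸ I.map (algebraMap R Λ) := (χ.restrictScalars R).comp ψ
  have hsq : (I.map (algebraMap R Λ)) ^ 2 = ⊥ := by rw [← Ideal.map_pow, hI, Ideal.map_bot]
  haveI : Algebra.Smooth R B₀ := inferInstance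
  obtain ⟨ψΛ, hψΛ⟩ := Algebra.FormallySmooth.comp_surjective (R := R) (A := B₀)
    (I.map (algebraMap R Λ)) hsq χ₀
  obtain ⟨n, f, hf, hfg⟩ := Algebra.FinitePresentation.out (R := R) (A := A)
  -- the `R`-algebra map `A → B'`
  let γ : A →ₐ[R] B' :=
    { toFun := fun a => algebraMap B1 B' (g1 (TensorProduct.tmul R (1 : R ⧸ I) a))
      map_one' := by
        rw [← Algebra.TensorProduct.one_def, map_one, map_one]
      map_mul' := fun x y => by
        rw [← map_mul, ← map_mul, Algebra.TensorProduct.tmul_mul_tmul, one_mul]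
      map_zero' := by
        rw [TensorProduct.tmul_zero, map_zero, map_zero]
      map_add' := fun x y => by
        rw [TensorProduct.tmul_add, map_add, map_add]
      commutes' := fun x => by
        have e1 : TensorProduct.tmul R (1 : R ⧸ I) (algebraMap R A x) =
            algebraMap (R ⧸ I) (TensorProduct R (R ⧸ I) A) (Ideal.Quotient.mk I x) := by
          rw [Algebra.TensorProduct.algebraMap_apply, Algebra.algebraMap_eq_smul_one,
            TensorProduct.tmul_smul, TensorProduct.smul_tmul', Algebra.smul_def, mul_one]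
          rfl
        change algebraMap B1 B' (g1 (TensorProduct.tmul R (1 : R ⧸ I) (algebraMap R A x))) = _
        rw [e1, AlgHom.commutes, ← IsScalarTower.algebraMap_apply]
        rfl }
  have hγ : ∀ a, γ a = algebraMap B1 B' (g1 (TensorProduct.tmul R (1 : R ⧸ I) a)) := fun a => rfl
  choose b hb using fun i : Fin n => hψs (γ (f (MvPolynomial.X i)))
  have hψb : ψ.comp (MvPolynomial.aeval b) = γ.comp f := by
    apply MvPolynomial.algHom_ext
    intro i
    rw [AlgHom.comp_apply, AlgHom.comp_apply, MvPolynomial.aeval_X, hb]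
  refine Groth.Agent.Lib.helper3.SqZeroFactor.core I φ B₀ ψΛ n f hf hfg b ?_ ?_
  · intro p hp
    apply hψk
    rw [RingHom.mem_ker]
    have hfp : f p = 0 := hp
    have := AlgHom.congr_fun hψb p
    rw [AlgHom.comp_apply, AlgHom.comp_apply, hfp, map_zero] at this
    exact this
  · intro i
    rw [← Ideal.Quotient.eq]
    have e1 : Ideal.Quotient.mk (I.map (algebraMap R Λ)) (ψΛ (b i)) = χ₀ (b i) :=
      AlgHom.congr_fun hψΛ (b i)
    rw [e1]
    change _ = h1 (r (ψ (b i)))
    rw [hb, hγ, AlgHom.commutes]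
    change _ = h1 (g1 (TensorProduct.tmul R (1 : R ⧸ I) (f (MvPolynomial.X i))))
    have e2 := AlgHom.congr_fun hcomp (TensorProduct.tmul R (1 : R ⧸ I) (f (MvPolynomial.X i)))
    rw [AlgHom.comp_apply] at e2
    rw [e2]
    change _ = Algebra.TensorProduct.lift _ _ _ _
    rw [Algebra.TensorProduct.lift_tmul, map_one, one_mul]
    rfl

end Groth.Agent.S2023
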