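import Groth.Statements.S11277
import Mathlib

set_option autoImplicit false
universe u v
open W4bk4grassmannian

namespace Groth.Agent.S11277

/-- Let K be a field, R = ⊕_{i ≥ 0} R_i an ℕ-graded commutative K-algebra which is an integral domain,
and s ∈ R_e a homogeneous element of degree e > 0. Let R_(s) ⊆ R[1/s] be the homogeneous
localization (fractions f / s^k with f homogeneous of degree k e). Then the image of s in R[1/s] is
transcendental over R_(s). -/
theorem result (K : Type u) [Field K] (R : Type v) [CommRing R]
    [IsDomain R] [Algebra K R] (𝒜 : ℕ → Submodule K R) [GradedAlgebra 𝒜] (e : ℕ) (he : 0 < e) (s : R)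
    (hs : s ∈ 𝒜 e) :
    Transcendental (HomogeneousLocalization.Away 𝒜 s) (algebraMap R (Localization.Away s) s) := by
  classical
  intro halg
  obtain ⟨p, hp0, hp⟩ := halg
  by_cases hs0 : s = 0
  · subst hs0
    have h1 : Subsingleton (Localization.Away (0:R)) :=
      IsLocalization.subsingleton (M := Submonoid.powers (0:R)) ⟨1, by simp⟩
    have h2 : Subsingleton (HomogeneousLocalization.Away 𝒜 (0:R)) :=
      (HomogeneousLocalization.val_injective _).subsingleton
    exact hp0 (Subsingleton.elim _ _)
  · have hinj : Function.Injective (algebraMap R (Localization.Away s)) :=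
      IsLocalization.injective _ (powers_le_nonZeroDivisors_of_noZeroDivisors hs0)
    choose n a ha hmk using fun i => HomogeneousLocalization.Away.mk_surjective 𝒜 hs (p.coeff i)
    set x := algebraMap R (Localization.Away s) s with hx
    set N := p.support.sup n with hN
    have hval : ∀ i, algebraMap _ (Localization.Away s) (p.coeff i) * x ^ (n i)
        = algebraMap R _ (a i) := by
      intro i
      rw [HomogeneousLocalization.algebraMap_apply, ← hmk i, HomogeneousLocalization.Away.val_mk,
        Localization.mk_eq_mk', hx, ← map_pow]
      exact IsLocalization.mk'_spec _ _ _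
    have hsum : ∑ i ∈ p.support, a i * s ^ (N - n i + i) = 0 := by
      apply hinj
      rw [map_zero, map_sum]
      have h0 : Polynomial.aeval x p * x ^ N = 0 := by rw [hp, zero_mul]
      rw [Polynomial.aeval_def, Polynomial.eval₂_eq_sum, Polynomial.sum_def, Finset.sum_mul] at h0
      rw [← h0]
      refine Finset.sum_congr rfl fun i hi => ?_
      have hle : n i ≤ N := Finset.le_sup hi
      rw [map_mul, map_pow, ← hval i, ← hx]
      have : N = n i + (N - n i) := by omega
      conv_rhs => rw [this]
      ring
    obtain ⟨j, hj⟩ : p.support.Nonempty := by
      rwa [Finset.nonempty_iff_ne_empty, Ne, Polynomial.support_eq_empty]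
    have hb : ∀ i ∈ p.support, a i * s ^ (N - n i + i) ∈ 𝒜 ((N + i) * e) := by
      intro i hi
      have hle : n i ≤ N := Finset.le_sup hi
      have h1 := SetLike.mul_mem_graded (ha i) (SetLike.pow_mem_graded (N - n i + i) hs)
      have h2 : n i • e + (N - n i + i) • e = (N + i) * e := by
        simp only [smul_eq_mul]
        rw [← add_mul]
        congr 1
        omega
      rwa [h2] at h1
    have hbj : a j * s ^ (N - n j + j) = 0 := by
      have := congrArg (GradedRing.proj 𝒜 ((N + j) * e)) hsum
      rw [map_sum, map_zero, Finset.sum_eq_single j] at this
      · rwa [GradedRing.proj_apply, DirectSum.decompose_of_mem_same 𝒜 (hb j hj)] at this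
      · intro i hi hij
        rw [GradedRing.proj_apply]
        apply DirectSum.decompose_of_mem_ne 𝒜 (hb i hi)
        intro h
        apply hij
        have := Nat.eq_of_mul_eq_mul_right he h
        omega
      · intro h; exact absurd hj h
    have haj : a j = 0 := by
      rcases mul_eq_zero.mp hbj with h | h
      · exact h
      · exact absurd (eq_zero_of_pow_eq_zero h) hs0
    have : p.coeff j = 0 := by
      rw [← hmk j]
      apply HomogeneousLocalization.val_injective
      rw [HomogeneousLocalization.Away.val_mk, HomogeneousLocalization.val_zero]
      simp [haj, Localization.mk_zero]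
    exact (Polynomial.mem_support_iff.mp hj) this

end Groth.Agent.S11277
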