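import Groth.Statements.S3291


set_option autoImplicit false
universe u
open Finset
open LambdaRing

namespace Groth.Agent.S3291

/-- The γ-filtration F^n K of a λ-ring with positive structure (F^0 = K, F^n for n ≥ 1 generated
additively by products γ^(r₁)(x₁)⋯γ^(r_k)(x_k) with ε(x_i) = 0 and Σ r_i ≥ n) consists of ideals,
and F^m · F^n ⊆ F^(m+n). -/
theorem result (K : Type u) [CommRing K] [LambdaRing.LambdaOps K] (P : LambdaRing.PosStructure K) :
    (∀ (n : ℕ) (a x : K), x ∈ LambdaRing.gammaFiltration P n → a * x ∈ LambdaRing.gammaFiltration P n) ∧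
    ∀ (m n : ℕ) (x y : K), x ∈ LambdaRing.gammaFiltration P m → y ∈ LambdaRing.gammaFiltration P n →
      x * y ∈ LambdaRing.gammaFiltration P (m + n) := by
  classical
  have hgamma1 : ∀ x : K, LambdaRing.gamma 1 x = x := by
    intro x
    simp [LambdaRing.gamma, Finset.sum_range_succ, LambdaRing.LambdaOps.lam_one]
  -- generators of the filtration
  let gen : ℕ → Set K := fun n => {y | ∃ (l : List (ℕ × K)), (∀ p ∈ l, P.aug p.2 = 0) ∧
    n ≤ (l.map Prod.fst).sum ∧ y = (l.map fun p => LambdaRing.gamma p.1 p.2).prod}
  have hF : ∀ n : ℕ, n ≠ 0 → LambdaRing.gammaFiltration P n = AddSubgroup.closure (gen n) := by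
    intro n hn
    simp only [LambdaRing.gammaFiltration, if_neg hn, gen]
  have hF0 : LambdaRing.gammaFiltration P 0 = ⊤ := by
    simp only [LambdaRing.gammaFiltration, if_pos]
  have part1 : ∀ (n : ℕ) (a x : K), x ∈ LambdaRing.gammaFiltration P n →
      a * x ∈ LambdaRing.gammaFiltration P n := by
    intro n a x hx
    by_cases hn : n = 0
    · subst hn
      rw [hF0]
      exact AddSubgroup.mem_top _
    rw [hF n hn] at hx ⊢
    induction hx using AddSubgroup.closure_induction with
    | mem y hy =>
      obtain ⟨l, hl, hsum, rfl⟩ := hy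
      have ha : a = (a - ((P.aug a : ℤ) : K)) + ((P.aug a : ℤ) : K) := by ring
      rw [ha, add_mul]
      refine AddSubgroup.add_mem _ ?_ ?_
      · apply AddSubgroup.subset_closure
        refine ⟨(1, a - ((P.aug a : ℤ) : K)) :: l, ?_, ?_, ?_⟩
        · intro p hp
          rcases List.mem_cons.mp hp with rfl | hp
          · simp
          · exact hl p hp
        · simp only [List.map_cons, List.sum_cons]
          omega
        · simp only [List.map_cons, List.prod_cons, hgamma1]
      · rw [← zsmul_eq_mul]
        have hmem : (l.map fun p => LambdaRing.gamma p.1 p.2).prod ∈ gen n := ⟨l, hl, hsum, rfl⟩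
        exact AddSubgroup.zsmul_mem _ (AddSubgroup.subset_closure hmem) _
    | zero => rw [mul_zero]; exact AddSubgroup.zero_mem _
    | add x y _ _ ihx ihy => rw [mul_add]; exact AddSubgroup.add_mem _ ihx ihy
    | neg x _ ih => rw [mul_neg]; exact AddSubgroup.neg_mem _ ih
  refine ⟨part1, ?_⟩
  intro m n x y hx hy
  by_cases hm : m = 0
  · subst hm
    rw [Nat.zero_add]
    exact part1 n x y hy
  by_cases hn : n = 0
  · subst hn
    rw [Nat.add_zero, mul_comm]
    exact part1 m y x hx
  have hmn : m + n ≠ 0 := by omega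
  rw [hF m hm] at hx
  rw [hF n hn] at hy
  rw [hF (m + n) hmn]
  induction hx using AddSubgroup.closure_induction with
  | mem x hxg =>
    induction hy using AddSubgroup.closure_induction with
    | mem y hyg =>
      obtain ⟨l₁, hl₁, hs₁, rfl⟩ := hxg
      obtain ⟨l₂, hl₂, hs₂, rfl⟩ := hyg
      apply AddSubgroup.subset_closure
      refine ⟨l₁ ++ l₂, ?_, ?_, ?_⟩
      · intro p hp
        rcases List.mem_append.mp hp with hp | hp
        · exact hl₁ p hp
        · exact hl₂ p hp
      · rw [List.map_append, List.sum_append]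
        omega
      · rw [List.map_append, List.prod_append]
    | zero => rw [mul_zero]; exact AddSubgroup.zero_mem _
    | add y z _ _ ihy ihz => rw [mul_add]; exact AddSubgroup.add_mem _ ihy ihz
    | neg y _ ih => rw [mul_neg]; exact AddSubgroup.neg_mem _ ih
  | zero => rw [zero_mul]; exact AddSubgroup.zero_mem _
  | add x z _ _ ihx ihz => rw [add_mul]; exact AddSubgroup.add_mem _ ihx ihz
  | neg x _ ih => rw [neg_mul]; exact AddSubgroup.neg_mem _ ih

end Groth.Agent.S3291
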