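import Groth.Statements.S0549
import Mathlib
import Groth.Agent.S0548
import Groth.Agent.S0558

set_option autoImplicit false
universe u
open CAlg

namespace Groth.Agent.S0549

/-- For a regular local domain: DVR iff dimension one. -/
theorem dvr_iff_dim_one (R : Type u) [CommRing R] [IsRegularLocalRing R] [IsDomain R] :
    IsDiscreteValuationRing R ↔ ringKrullDim R = 1 := by
  rw [← IsLocalRing.finrank_CotangentSpace_eq_one_iff]
  have h := (IsRegularLocalRing.iff_finrank_cotangentSpace R).mp inferInstance
  rw [← h]
  constructor
  · intro h1; rw [h1]; rfl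
  · intro h1
    have : ((Module.finrank (IsLocalRing.ResidueField R) (IsLocalRing.CotangentSpace R) : ℕ) : WithBot ℕ∞) = ((1 : ℕ) : WithBot ℕ∞) := h1
    exact_mod_cast this

/-- A Noetherian local ring is a discrete valuation ring exactly when its completion at the maximal
ideal is a discrete valuation ring. -/
theorem result (A : Type u) [CommRing A] [IsLocalRing A]
    [IsNoetherianRing A] :
    (∃ _ : IsDomain A, IsDiscreteValuationRing A) ↔
      ∃ _ : IsDomain (AdicCompletion (IsLocalRing.maximalIdeal A) A),
        IsDiscreteValuationRing (AdicCompletion (IsLocalRing.maximalIdeal A) A) := by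
  constructor
  · rintro ⟨hD, hV⟩
    haveI hreg : IsRegularLocalRing A := inferInstance
    haveI hreg' : IsRegularLocalRing (AdicCompletion (IsLocalRing.maximalIdeal A) A) :=
      (Groth.Agent.S0548.result A).mp hreg
    haveI hD' : IsDomain (AdicCompletion (IsLocalRing.maximalIdeal A) A) :=
      Groth.Agent.S0558.result _
    refine ⟨hD', ?_⟩
    rw [dvr_iff_dim_one, Groth.Agent.S0547.result, ← dvr_iff_dim_one]
    exact hV
  · rintro ⟨hD', hV'⟩
    haveI hreg' : IsRegularLocalRing (AdicCompletion (IsLocalRing.maximalIdeal A) A) := inferInstance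
    haveI hreg : IsRegularLocalRing A := (Groth.Agent.S0548.result A).mpr hreg'
    haveI hD : IsDomain A := Groth.Agent.S0558.result _
    refine ⟨hD, ?_⟩
    rw [dvr_iff_dim_one, ← Groth.Agent.S0547.result, ← dvr_iff_dim_one]
    exact hV'

end Groth.Agent.S0549
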