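import Groth.Statements.S0389
import Mathlib
import Groth.Agent.Lib.helper24.GenFreeE

set_option autoImplicit false
universe u
open FlatMor

namespace Groth.Agent.S0389

open Groth.Agent.Lib.helper24.GenFree in
open TensorProduct in

open TensorProduct in
/-- Generic freeness: over a domain, for a finite type algebra and a finite module over it, after
inverting one nonzero element of the base the algebra and the module become free over the base, the
algebra becomes finitely presented over the base and the module finitely presented over the algebra. -/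
theorem result {R S M : Type u} [CommRing R] [IsDomain R] [CommRing S] [Algebra R S] [Algebra.FiniteType R S] [AddCommGroup M] [Module S M] [Module R M] [IsScalarTower R S M] [Module.Finite S M] :
    ∃ f : R, f ≠ 0 ∧ Module.Free (Localization.Away f) (Localization.Away f ⊗[R] M) ∧
      Module.Free (Localization.Away f) (Localization.Away f ⊗[R] S) ∧
      Algebra.FinitePresentation (Localization.Away f) (Localization.Away f ⊗[R] S) ∧
      Module.FinitePresentation (Localization.Away (algebraMap R S f)) (LocalizedModule (Submonoid.powers (algebraMap R S f)) M) := by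
  classical
  obtain ⟨d, π, hπ⟩ := Algebra.FiniteType.iff_quotient_mvPolynomial''.mp
    (inferInstance : Algebra.FiniteType R S)
  letI : Algebra (MvPolynomial (Fin d) R) S := π.toRingHom.toAlgebra
  have hBS : ∀ (b : MvPolynomial (Fin d) R), algebraMap (MvPolynomial (Fin d) R) S b = π b :=
    fun _ => rfl
  haveI : IsScalarTower R (MvPolynomial (Fin d) R) S :=
    IsScalarTower.of_algebraMap_eq (fun r => by rw [hBS, MvPolynomial.algebraMap_eq]; simp)
  letI : Module (MvPolynomial (Fin d) R) M := Module.compHom M π.toRingHom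
  have hBM : ∀ (b : MvPolynomial (Fin d) R) (x : M), b • x = π b • x := fun _ _ => rfl
  haveI : IsScalarTower (MvPolynomial (Fin d) R) S M := ⟨fun b s x => by
    rw [hBM, Algebra.smul_def, mul_smul]; rfl⟩
  haveI : IsScalarTower R (MvPolynomial (Fin d) R) M := ⟨fun r b x => by
    rw [hBM, hBM, map_smul, smul_assoc]⟩
  haveI : Module.Finite (MvPolynomial (Fin d) R) S :=
    Module.Finite.of_surjective (Algebra.linearMap _ S) hπ
  haveI : Module.Finite (MvPolynomial (Fin d) R) M := Module.Finite.trans S M
  obtain ⟨f₁, hf₁, hM⟩ := genBasis_mvPolynomial (R := R) d M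
  obtain ⟨f₂, hf₂, hS⟩ := genBasis_mvPolynomial (R := R) d S
  -- algebra relations
  let e1 : (Fin 1 → MvPolynomial (Fin d) R) ≃ₗ[MvPolynomial (Fin d) R] MvPolynomial (Fin d) R :=
    LinearEquiv.funUnique (Fin 1) (MvPolynomial (Fin d) R) (MvPolynomial (Fin d) R)
  have he1 : ∀ (r : R) (w : Fin 1 → MvPolynomial (Fin d) R), e1 (r • w) = r • e1 w :=
    fun r w => rfl
  obtain ⟨f₃, hf₃, N₃, hN₃le, hN₃fg, hN₃tors⟩ := exists_fg_relations (R := R) d 1
    (Submodule.comap e1.toLinearMap (RingHom.ker π))
  set I' : Ideal (MvPolynomial (Fin d) R) := Submodule.map e1.toLinearMap N₃ with hI'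
  have hI'fg : I'.FG := Submodule.FG.map _ hN₃fg
  have hI'I : ∀ z ∈ I', π z = 0 := by
    rintro _ ⟨w, hw, rfl⟩
    exact hN₃le hw
  have hI'tors : ∀ z, π z = 0 → ∃ k : ℕ, f₃ ^ k • z ∈ I' := by
    intro z hz
    obtain ⟨k, hk⟩ := hN₃tors (e1.symm z) (by
      show e1 (e1.symm z) ∈ RingHom.ker π
      rw [LinearEquiv.apply_symm_apply]; exact hz)
    refine ⟨k, ⟨_, hk, ?_⟩⟩
    show e1 (f₃ ^ k • e1.symm z) = _
    rw [he1, LinearEquiv.apply_symm_apply]
  -- module relations
  obtain ⟨n, ψS, hψS⟩ := Module.Finite.exists_fin' S M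
  let πn : (Fin n → MvPolynomial (Fin d) R) →ₗ[MvPolynomial (Fin d) R] (Fin n → S) :=
    (Algebra.linearMap (MvPolynomial (Fin d) R) S).compLeft (Fin n)
  have hπn : Function.Surjective πn := by
    intro z
    choose w hw using fun i => hπ (z i)
    exact ⟨w, funext hw⟩
  have hπn_smul : ∀ (r : R) (w : Fin n → MvPolynomial (Fin d) R), πn (r • w) = r • πn w := by
    intro r w
    exact LinearMap.map_smul_of_tower πn r w
  let ψB : (Fin n → MvPolynomial (Fin d) R) →ₗ[MvPolynomial (Fin d) R] M :=
    (ψS.restrictScalars (MvPolynomial (Fin d) R)) ∘ₗ πn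
  obtain ⟨f₄, hf₄, N₄, hN₄le, hN₄fg, hN₄tors⟩ := exists_fg_relations (R := R) d n
    (LinearMap.ker ψB)
  obtain ⟨G, hG⟩ := hN₄fg
  set N' : Submodule S (Fin n → S) := Submodule.span S (πn '' (G : Set _)) with hN'
  have hN'ker : N' ≤ LinearMap.ker ψS := by
    rw [hN', Submodule.span_le]
    rintro _ ⟨g, hg, rfl⟩
    have : g ∈ LinearMap.ker ψB := hN₄le (by rw [← hG]; exact Submodule.subset_span hg)
    exact this
  have hπnN' : ∀ w ∈ N₄, πn w ∈ N' := by
    intro w hw
    rw [← hG] at hw
    induction hw using Submodule.span_induction with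
    | mem w hw => exact Submodule.subset_span ⟨w, hw, rfl⟩
    | zero => rw [map_zero]; exact N'.zero_mem
    | add a b _ _ ha hb => rw [map_add]; exact N'.add_mem ha hb
    | smul b a _ ha =>
      rw [map_smul, ← algebraMap_smul S b (πn a)]
      exact N'.smul_mem _ ha
  have hN'tors : ∀ z, ψS z = 0 → ∃ k : ℕ, f₄ ^ k • z ∈ N' := by
    intro z hz
    obtain ⟨w, rfl⟩ := hπn z
    obtain ⟨k, hk⟩ := hN₄tors w hz
    refine ⟨k, ?_⟩
    rw [← hπn_smul]
    exact hπnN' _ hk
  -- assembly
  set f : R := f₁ * f₂ * f₃ * f₄ with hf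
  have hf0 : f ≠ 0 := mul_ne_zero (mul_ne_zero (mul_ne_zero hf₁ hf₂) hf₃) hf₄
  have hMf : GenBasis f M := by
    have := (hM.mul_right (f₂ * f₃ * f₄))
    convert this using 1
    rw [hf]; ring
  have hSf : GenBasis f S := by
    have := (hS.mul_left (f₁)).mul_right (f₃ * f₄)
    convert this using 1
    rw [hf]; ring
  have hf3 : f = (f₁ * f₂ * f₄) * f₃ := by rw [hf]; ring
  refine ⟨f, hf0, hMf.free_tensor, hSf.free_tensor, ?_, ?_⟩
  · -- algebra finite presentation
    haveI : Algebra.FinitePresentation R (MvPolynomial (Fin d) R ⧸ I') :=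
      Algebra.FinitePresentation.quotient hI'fg
    let q : (MvPolynomial (Fin d) R ⧸ I') →ₐ[R] S := Ideal.Quotient.liftₐ I' π hI'I
    have hq : Function.Surjective q := by
      intro s
      obtain ⟨b, rfl⟩ := hπ s
      exact ⟨Ideal.Quotient.mk I' b, rfl⟩
    have hqker : ∀ x, q.toLinearMap x = 0 → ∃ k : ℕ, f ^ k • x = 0 := by
      intro x hx
      obtain ⟨z, rfl⟩ := Ideal.Quotient.mk_surjective x
      have hz : π z = 0 := hx
      obtain ⟨k, hk⟩ := hI'tors z hz
      refine ⟨k, ?_⟩
      rw [hf3, mul_pow, mul_smul]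
      have : f₃ ^ k • (Ideal.Quotient.mk I' z) = 0 := by
        have h1 : f₃ ^ k • (Ideal.Quotient.mk I' z) = Ideal.Quotient.mk I' (f₃ ^ k • z) :=
          (map_smul (Ideal.Quotient.mkₐ R I') (f₃ ^ k) z).symm
        rw [h1]
        exact Ideal.Quotient.eq_zero_iff_mem.mpr hk
      rw [this, smul_zero]
    have hbij := lTensor_bijective_of_torsion_ker f (Localization.Away f) q.toLinearMap hq hqker
    let Q : (Localization.Away f ⊗[R] (MvPolynomial (Fin d) R ⧸ I')) →ₐ[Localization.Away f]
        (Localization.Away f ⊗[R] S) :=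
      Algebra.TensorProduct.map (AlgHom.id (Localization.Away f) (Localization.Away f)) q
    have hQ : ∀ y, Q y = q.toLinearMap.lTensor (Localization.Away f) y := by
      intro y
      induction y using TensorProduct.induction_on with
      | zero => simp
      | tmul a x => simp [Q]
      | add a b ha hb => rw [map_add, map_add, ha, hb]
    have hQbij : Function.Bijective Q := by
      have : (Q : _ → _) = q.toLinearMap.lTensor (Localization.Away f) := funext hQ
      rw [this]; exact hbij
    haveI : Algebra.FinitePresentation (Localization.Away f)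
        (Localization.Away f ⊗[R] (MvPolynomial (Fin d) R ⧸ I')) := inferInstance
    exact Algebra.FinitePresentation.equiv (R := Localization.Away f)
      (A := Localization.Away f ⊗[R] (MvPolynomial (Fin d) R ⧸ I'))
      (AlgEquiv.ofBijective Q hQbij)
  · -- module finite presentation
    haveI : Module.FinitePresentation S ((Fin n → S) ⧸ N') :=
      Module.finitePresentation_of_free_of_surjective N'.mkQ (Submodule.mkQ_surjective N')
        (by rw [Submodule.ker_mkQ]; exact Submodule.fg_span ((Finset.finite_toSet G).image _))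
    let ψ' : ((Fin n → S) ⧸ N') →ₗ[S] M := N'.liftQ ψS hN'ker
    have hψ' : Function.Surjective ψ' := by
      intro m
      obtain ⟨z, rfl⟩ := hψS m
      exact ⟨Submodule.Quotient.mk z, rfl⟩
    have hψ'ker : ∀ x, ψ' x = 0 → ∃ s : Submonoid.powers (algebraMap R S f), s • x = 0 := by
      intro x hx
      obtain ⟨z, rfl⟩ := Submodule.Quotient.mk_surjective N' x
      have hz : ψS z = 0 := hx
      obtain ⟨k, hk⟩ := hN'tors z hz
      refine ⟨⟨(algebraMap R S f) ^ k, k, rfl⟩, ?_⟩
      rw [Submonoid.smul_def]
      show (algebraMap R S f) ^ k • (Submodule.Quotient.mk z : (Fin n → S) ⧸ N') = 0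
      rw [← Submodule.Quotient.mk_smul, Submodule.Quotient.mk_eq_zero, ← map_pow,
        algebraMap_smul, hf, mul_pow, mul_smul]
      exact N'.smul_of_tower_mem _ hk
    haveI := isLocalizedModule_comp_of_torsion_ker (Submonoid.powers (algebraMap R S f))
      (LocalizedModule.mkLinearMap (Submonoid.powers (algebraMap R S f)) M) ψ' hψ' hψ'ker
    exact FinitePresentation.of_isBaseChange
      ((LocalizedModule.mkLinearMap (Submonoid.powers (algebraMap R S f)) M) ∘ₗ ψ')
      ((isLocalizedModule_iff_isBaseChange (Submonoid.powers (algebraMap R S f))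
        (Localization.Away (algebraMap R S f)) _).mp inferInstance)

end Groth.Agent.S0389
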