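import Groth.Statements.S3824
import Mathlib

set_option autoImplicit false
universe u
open QReg16

namespace Groth.Agent.S3824

open MvPolynomial in

/-- Let f_1, …, f_n be a quasi-regular sequence in a ring A and f'_1, …, f'_n another sequence of the
same length generating the same ideal. Then (f'_i) is quasi-regular. -/
theorem result {A : Type u} [CommRing A] {n : ℕ} (f f' : Fin n → A)
    (hf : CAlgX.IsQuasiRegular f) (h : Ideal.span (Set.range f') = Ideal.span (Set.range f)) :
    CAlgX.IsQuasiRegular f' := by
  classical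
  -- transition matrices
  have h1 : ∀ i, ∃ c : Fin n → A, ∑ j, c j * f j = f' i := fun i =>
    Ideal.mem_span_range_iff_exists_fun.1 (by rw [← h]; exact Ideal.subset_span ⟨i, rfl⟩)
  have h2 : ∀ j, ∃ c : Fin n → A, ∑ i, c i * f' i = f j := fun j =>
    Ideal.mem_span_range_iff_exists_fun.1 (by rw [h]; exact Ideal.subset_span ⟨j, rfl⟩)
  choose m hm using h1
  choose k hk using h2
  set J := Ideal.span (Set.range f) with hJ
  -- `k m ≡ 1` modulo `J`
  have hkm : ∀ j l, (∑ i, k j i * m i l) - (if j = l then 1 else 0) ∈ J := by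
    intro j l
    set c : Fin n → A := fun l => (∑ i, k j i * m i l) - (if j = l then 1 else 0) with hc
    have hsum : ∑ l, c l * f l = 0 := by
      simp only [hc, sub_mul, Finset.sum_sub_distrib, Finset.sum_mul]
      rw [Finset.sum_comm]
      have : ∀ i, ∑ l, k j i * m i l * f l = k j i * f' i := by
        intro i
        rw [← hm i, Finset.mul_sum]
        exact Finset.sum_congr rfl fun l _ => by ring
      simp only [this, hk j]
      simp
    have hP : (∑ l, C (c l) * X l : MvPolynomial (Fin n) A).IsHomogeneous 1 :=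
      IsHomogeneous.sum _ _ _ fun l _ => isHomogeneous_C_mul_X _ _
    have := hf 1 _ hP (by
      rw [map_sum]
      simp only [map_mul, eval_C, eval_X, hsum]
      exact Ideal.zero_mem _) (Finsupp.single l 1)
    rw [coeff_sum] at this
    simp only [coeff_C_mul, coeff_X, Finsupp.single_left_inj one_ne_zero] at this
    simpa using this
  intro d P hP hPe dd
  rw [h] at hPe ⊢
  -- substitute
  set g : Fin n → MvPolynomial (Fin n) A := fun i => ∑ j, C (m i j) * X j with hg
  have hgh : ∀ i, (g i).IsHomogeneous 1 := fun i =>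
    IsHomogeneous.sum _ _ _ fun l _ => isHomogeneous_C_mul_X _ _
  have hQh : (bind₁ g P).IsHomogeneous d := by
    have := hP.aeval g hgh
    rwa [one_mul] at this
  have hge : ∀ i, eval f (g i) = f' i := by
    intro i
    rw [hg, map_sum]
    simp only [map_mul, eval_C, eval_X, hm i]
  have hQe : eval f (bind₁ g P) = eval f' P := by
    have := eval₂Hom_bind₁ (RingHom.id A) f g P
    rw [show (eval₂Hom (RingHom.id A) f) = eval f from rfl] at this
    rw [this]
    have : (fun i => eval f (g i)) = f' := funext hge
    rw [this]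
    rfl
  have hQ := hf d _ hQh (by rw [hQe]; exact hPe)
  -- reduce mod J
  set π := Ideal.Quotient.mk J with hπ
  have hQ0 : map π (bind₁ g P) = 0 := by
    ext e
    rw [coeff_map, coeff_zero, hπ, Ideal.Quotient.eq_zero_iff_mem]
    exact hQ e
  rw [map_bind₁] at hQ0
  set kb : Fin n → MvPolynomial (Fin n) (A ⧸ J) := fun j => ∑ l, C (π (k j l)) * X l with hkb
  have h3 := congrArg (bind₁ kb) hQ0
  rw [bind₁_bind₁, map_zero] at h3
  -- the composite substitution is the identity
  let Mb : Matrix (Fin n) (Fin n) (A ⧸ J) := Matrix.of fun i j => π (m i j)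
  let Kb : Matrix (Fin n) (Fin n) (A ⧸ J) := Matrix.of fun i j => π (k i j)
  have hKM : Kb * Mb = 1 := by
    ext j l
    rw [Matrix.mul_apply, Matrix.one_apply]
    simp only [Mb, Kb, Matrix.of_apply]
    have := hkm j l
    rw [← Ideal.Quotient.eq_zero_iff_mem, map_sub, sub_eq_zero, map_sum] at this
    simp only [map_mul] at this
    rw [this]
    split_ifs <;> simp
  have hMK : Mb * Kb = 1 := mul_eq_one_comm.1 hKM
  have hid : (fun i => bind₁ kb (map π (g i))) = (X : Fin n → MvPolynomial (Fin n) (A ⧸ J)) := by
    funext i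
    rw [hg, map_sum, map_sum]
    simp only [map_mul, map_C, map_X, bind₁_C_right, bind₁_X_right, hkb]
    have : ∑ x, C (π (m i x)) * ∑ l, C (π (k x l)) * X l =
        ∑ l, C (∑ x, π (m i x) * π (k x l)) * (X l : MvPolynomial (Fin n) (A ⧸ J)) := by
      simp only [Finset.mul_sum, map_sum, Finset.sum_mul]
      rw [Finset.sum_comm]
      exact Finset.sum_congr rfl fun l _ => Finset.sum_congr rfl fun x _ => by
        rw [map_mul]; ring
    rw [this]
    have h4 : ∀ l, ∑ x, π (m i x) * π (k x l) = (1 : Matrix (Fin n) (Fin n) (A ⧸ J)) i l := by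
      intro l
      rw [← hMK, Matrix.mul_apply]
      rfl
    simp only [h4, Matrix.one_apply]
    simp
  rw [hid, bind₁_X_left] at h3
  have h5 : map π P = 0 := h3
  have := congrArg (coeff dd) h5
  rwa [coeff_map, coeff_zero, hπ, Ideal.Quotient.eq_zero_iff_mem] at this

end Groth.Agent.S3824
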