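import Groth.Statements.S3825
import Mathlib
import Groth.Agent.S3824

set_option autoImplicit false
universe u
open QReg16

namespace Groth.Agent.S3825

open MvPolynomial in
theorem basis_of_qr {A : Type u} [CommRing A] (I : Ideal A) {m : ℕ} (f : Fin m → I)
    (hq : CAlgX.IsQuasiRegular (fun i => (f i : A)))
    (hs : Ideal.span (Set.range fun i => (f i : A)) = I) :
    LinearIndependent (A ⧸ I) (fun i => I.toCotangent (f i)) ∧
      Submodule.span (A ⧸ I) (Set.range fun i => I.toCotangent (f i)) = ⊤ := by
  classical
  constructor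
  · rw [Fintype.linearIndependent_iff]
    intro c hc i
    choose c' hc' using fun i => Ideal.Quotient.mk_surjective (c i)
    have h1 : I.toCotangent (∑ i, c' i • f i) = 0 := by
      rw [map_sum, ← hc]
      refine Finset.sum_congr rfl fun i _ => ?_
      rw [map_smul, ← hc' i]
      rfl
    rw [Ideal.toCotangent_eq_zero] at h1
    have hP : (∑ l, C (c' l) * X l : MvPolynomial (Fin m) A).IsHomogeneous 1 :=
      IsHomogeneous.sum _ _ _ fun l _ => isHomogeneous_C_mul_X _ _
    have := hq 1 _ hP (by
      rw [map_sum, hs]
      simp only [map_mul, eval_C, eval_X]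
      convert h1 using 1
      simp [Submodule.coe_sum]) (Finsupp.single i 1)
    rw [coeff_sum] at this
    simp only [coeff_C_mul, coeff_X, Finsupp.single_left_inj one_ne_zero] at this
    rw [hs] at this
    rw [← hc' i, Ideal.Quotient.eq_zero_iff_mem]
    simpa using this
  · rw [eq_top_iff]
    rintro x -
    obtain ⟨y, rfl⟩ := Ideal.toCotangent_surjective I x
    have hy : (y : A) ∈ Ideal.span (Set.range fun i => (f i : A)) := by rw [hs]; exact y.2
    obtain ⟨c, hc⟩ := Ideal.mem_span_range_iff_exists_fun.1 hy
    have : y = ∑ i, c i • f i := by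
      apply Subtype.ext
      rw [← hc]
      simp [Submodule.coe_sum]
    rw [this, map_sum]
    refine Submodule.sum_mem _ fun i _ => ?_
    rw [map_smul]
    have : c i • I.toCotangent (f i) = (Ideal.Quotient.mk I (c i)) • I.toCotangent (f i) := rfl
    rw [this]
    exact Submodule.smul_mem _ _ (Submodule.subset_span ⟨i, rfl⟩)

/-- a) iff c) (affine local form): let A be a local ring and I a proper ideal generated by some
quasi-regular sequence. For a finite family (f_i) of elements of I, the following are equivalent:
(a) (f_i) is a quasi-regular sequence generating I; (c) the classes of the f_i form a basis of the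
A/I-module I/I² (equivalently, b): (f_i) is a minimal system of generators of I). -/
theorem result {A : Type u} [CommRing A] [IsLocalRing A]
    (I : Ideal A) (hI : I ≤ IsLocalRing.maximalIdeal A)
    (hq : ∃ (r : ℕ) (g : Fin r → A), CAlgX.IsQuasiRegular g ∧ Ideal.span (Set.range g) = I)
    {m : ℕ} (f : Fin m → I) :
    (CAlgX.IsQuasiRegular (fun i => (f i : A)) ∧ Ideal.span (Set.range fun i => (f i : A)) = I) ↔
      (LinearIndependent (A ⧸ I) (fun i => I.toCotangent (f i)) ∧
        Submodule.span (A ⧸ I) (Set.range fun i => I.toCotangent (f i)) = ⊤) := by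
  classical
  constructor
  · rintro ⟨h1, h2⟩
    exact basis_of_qr I f h1 h2
  · rintro ⟨hli, hsp⟩
    obtain ⟨r, g, hg, hgI⟩ := hq
    have hIne : I ≠ ⊤ := fun h => (IsLocalRing.maximalIdeal.isMaximal A).ne_top
      (top_le_iff.1 (h ▸ hI))
    have : Nontrivial (A ⧸ I) := Ideal.Quotient.nontrivial_iff.2 hIne
    -- `f` generates `I` by Nakayama
    have hfg : I.FG := by rw [← hgI]; exact Submodule.fg_span (Set.finite_range g)
    have hjac : I ≤ Ideal.jacobson ⊥ := by
      rw [IsLocalRing.jacobson_eq_maximalIdeal ⊥ bot_ne_top]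
      exact hI
    have hle : Ideal.span (Set.range fun i => (f i : A)) ≤ I := by
      rw [Ideal.span_le]
      rintro _ ⟨i, rfl⟩
      exact (f i).2
    have hspan : Ideal.span (Set.range fun i => (f i : A)) = I := by
      refine le_antisymm hle ?_
      refine Submodule.le_of_le_smul_of_le_jacobson_bot hfg hjac ?_
      intro y hy
      have h1 : I.toCotangent ⟨y, hy⟩ ∈
          Submodule.span (A ⧸ I) (Set.range fun i => I.toCotangent (f i)) := by
        rw [hsp]; exact Submodule.mem_top
      obtain ⟨c, hc⟩ := (Submodule.mem_span_range_iff_exists_fun (A ⧸ I)).1 h1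
      choose c' hc' using fun i => Ideal.Quotient.mk_surjective (c i)
      have h2 : I.toCotangent (⟨y, hy⟩ - ∑ i, c' i • f i) = 0 := by
        rw [map_sub, map_sum, ← hc, sub_eq_zero]
        refine Finset.sum_congr rfl fun i _ => ?_
        rw [map_smul, ← hc' i]
        rfl
      rw [Ideal.toCotangent_eq_zero] at h2
      have h3 : y = (∑ i, c' i * (f i : A)) + (y - ∑ i, c' i * (f i : A)) := by ring
      rw [h3]
      refine Submodule.add_mem_sup ?_ ?_
      · exact Ideal.sum_mem _ fun i _ => Ideal.mul_mem_left _ _ (Ideal.subset_span ⟨i, rfl⟩)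
      · rw [smul_eq_mul, ← pow_two]
        convert h2 using 1
        simp [Submodule.coe_sum]
    refine ⟨?_, hspan⟩
    -- same length
    let g' : Fin r → I := fun j => ⟨g j, hgI ▸ Ideal.subset_span ⟨j, rfl⟩⟩
    obtain ⟨gli, gsp⟩ := basis_of_qr I g' hg hgI
    let b1 := Module.Basis.mk hli hsp.ge
    let b2 := Module.Basis.mk gli gsp.ge
    have hmr : m = r := by
      have := Fintype.card_congr (b1.indexEquiv b2)
      simpa using this
    subst hmr
    exact Groth.Agent.S3824.result g (fun i => (f i : A)) hg (hspan.trans hgI.symm)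

end Groth.Agent.S3825
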