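import Groth.Statements.S4693
import Mathlib

set_option autoImplicit false
universe u
open EGA4

namespace Groth.Agent.S4693

/-- for flat `N` over `A`, an element outside a prime `p'` is a non-zero-divisor on `N / p'N`. -/
theorem flat_quot_reg {A : Type u} [CommRing A] {N : Type u} [AddCommGroup N] [Module A N]
    [Module.Flat A N] (p' : Ideal A) [p'.IsPrime] {a : A} (ha : a ∉ p') {m : N}
    (hm : a • m ∈ p' • (⊤ : Submodule A N)) : m ∈ p' • (⊤ : Submodule A N) := by
  have hinj : Function.Injective (LinearMap.lsmul A (A ⧸ p') a) := by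
    intro x y hxy
    have h1 : Ideal.Quotient.mk p' a * x = Ideal.Quotient.mk p' a * y := by
      have hx : ∀ z : A ⧸ p', LinearMap.lsmul A (A ⧸ p') a z = Ideal.Quotient.mk p' a * z := by
        intro z
        obtain ⟨z, rfl⟩ := Ideal.Quotient.mk_surjective z
        rfl
      rw [← hx, ← hx]
      exact hxy
    have hne : Ideal.Quotient.mk p' a ≠ 0 := by
      rwa [Ne, Ideal.Quotient.eq_zero_iff_mem]
    exact mul_left_cancel₀ hne h1
  have h2 := Module.Flat.rTensor_preserves_injective_linearMap (M := N)
    (LinearMap.lsmul A (A ⧸ p') a) hinj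
  have h3 : IsSMulRegular (TensorProduct A (A ⧸ p') N) a := by
    intro x y hxy
    apply h2
    have : ∀ z : TensorProduct A (A ⧸ p') N,
        (LinearMap.lsmul A (A ⧸ p') a).rTensor N z = a • z := by
      intro z
      induction z using TensorProduct.induction_on with
      | zero => simp
      | tmul u v => simp [TensorProduct.smul_tmul']
      | add u v hu hv => rw [map_add, hu, hv, smul_add]
    rw [this, this]
    exact hxy
  have h4 : IsSMulRegular (N ⧸ p' • (⊤ : Submodule A N)) a :=
    ((TensorProduct.quotTensorEquivQuotSMul N p').isSMulRegular_congr a).mp h3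
  have h5 : a • (Submodule.Quotient.mk m : N ⧸ p' • (⊤ : Submodule A N)) = a • 0 := by
    rw [smul_zero, ← Submodule.Quotient.mk_smul, Submodule.Quotient.mk_eq_zero]
    exact hm
  have h6 := h4 h5
  rwa [Submodule.Quotient.mk_eq_zero] at h6

/-- going down for an algebra carrying a finite module, flat over the base, with full support. -/
theorem going_down {A B : Type u} [CommRing A] [CommRing B] [Algebra A B]
    (N : Type u) [AddCommGroup N] [Module B N] [Module A N] [IsScalarTower A B N]
    [Module.Finite B N] [Module.Flat A N] (hsupp : Module.support B N = Set.univ)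
    (q : Ideal B) [hq : q.IsPrime] (p' : Ideal A) [hp' : p'.IsPrime]
    (hle : p' ≤ q.comap (algebraMap A B)) :
    ∃ q' : Ideal B, q'.IsPrime ∧ q' ≤ q ∧ q'.comap (algebraMap A B) = p' := by
  classical
  -- the multiplicative set
  let T : Submonoid B := (p'.primeCompl.map (algebraMap A B : A →* B)) ⊔ q.primeCompl
  -- the ideal of elements carrying `N` into `p'N`
  let K : Ideal B :=
    { carrier := {x | ∀ n : N, x • n ∈ p' • (⊤ : Submodule A N)}
      add_mem' := by
        intro x y hx hy n
        rw [add_smul]
        exact Submodule.add_mem _ (hx n) (hy n)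
      zero_mem' := by
        intro n
        rw [zero_smul]
        exact Submodule.zero_mem _
      smul_mem' := by
        intro c x hx n
        rw [smul_eq_mul, mul_comm, mul_smul]
        exact hx (c • n) }
  have hK : p'.map (algebraMap A B) ≤ K := by
    rw [Ideal.map_le_iff_le_comap]
    intro c hc n
    change algebraMap A B c • n ∈ _
    rw [algebraMap_smul]
    exact Submodule.smul_mem_smul hc Submodule.mem_top
  -- `p'N ⊆ qN`
  have hsub : ∀ n : N, n ∈ p' • (⊤ : Submodule A N) → n ∈ q • (⊤ : Submodule B N) := by
    intro n hn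
    refine Submodule.smul_induction_on hn (fun c hc m _ => ?_) (fun x y hx hy => ?_)
    · rw [← algebraMap_smul B c m]
      exact Submodule.smul_mem_smul (hle hc) Submodule.mem_top
    · exact Submodule.add_mem _ hx hy
  -- an element of `N / qN` with small annihilator
  have hqs : (⟨q, hq⟩ : PrimeSpectrum B) ∈ Module.support B (N ⧸ q • (⊤ : Submodule B N)) := by
    rw [Module.support_quotient, hsupp, Set.univ_inter, PrimeSpectrum.mem_zeroLocus]
  obtain ⟨mbar, hmbar⟩ := Module.mem_support_iff_exists_annihilator.mp hqs
  obtain ⟨n0, rfl⟩ := Submodule.Quotient.mk_surjective _ mbar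
  have hdisj : Disjoint ((p'.map (algebraMap A B) : Ideal B) : Set B) (T : Set B) := by
    rw [Set.disjoint_left]
    intro x hx hxT
    obtain ⟨y, hy, b, hb, rfl⟩ := Submonoid.mem_sup.mp hxT
    obtain ⟨a, ha, rfl⟩ := Submonoid.mem_map.mp hy
    have hxK := hK hx
    have hbN : ∀ n : N, b • n ∈ p' • (⊤ : Submodule A N) := by
      intro n
      apply flat_quot_reg p' ha
      have := hxK n
      change ((algebraMap A B a) * b) • n ∈ _ at this
      rwa [mul_smul, algebraMap_smul] at this
    have hbq : b ∈ q := by
      apply hmbar
      rw [Submodule.mem_annihilator_span_singleton, ← Submodule.Quotient.mk_smul,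
        Submodule.Quotient.mk_eq_zero]
      exact hsub _ (hbN n0)
    exact hb hbq
  obtain ⟨q', hq'p, hq'le, hq'd⟩ := Ideal.exists_le_prime_disjoint _ T hdisj
  refine ⟨q', hq'p, ?_, ?_⟩
  · intro x hx
    by_contra hxq
    have hxT : x ∈ T := by
      have : x ∈ q.primeCompl := hxq
      exact (le_sup_right : q.primeCompl ≤ T) this
    exact Set.disjoint_left.mp hq'd hx hxT
  · apply le_antisymm
    · intro a ha
      by_contra hap
      have haT : algebraMap A B a ∈ T := by
        have : algebraMap A B a ∈ p'.primeCompl.map (algebraMap A B : A →* B) :=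
          Submonoid.mem_map.mpr ⟨a, hap, rfl⟩
        exact (le_sup_left : _ ≤ T) this
      exact Set.disjoint_left.mp hq'd ha haT
    · intro a ha
      exact hq'le (Ideal.mem_map_of_mem _ ha)

theorem height_le_of_going_down {A B : Type u} [CommRing A] [CommRing B] [Algebra A B]
    (N : Type u) [AddCommGroup N] [Module B N] [Module A N] [IsScalarTower A B N]
    [Module.Finite B N] [Module.Flat A N] (hsupp : Module.support B N = Set.univ) :
    ∀ (n : ℕ) (p : PrimeSpectrum A) (q : PrimeSpectrum B),
      q.asIdeal.comap (algebraMap A B) = p.asIdeal → (n : ℕ∞) ≤ Order.height p →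
        (n : ℕ∞) ≤ Order.height q := by
  intro n
  induction n with
  | zero => intro p q _ _; simp
  | succ n ih =>
    intro p q hpq hn
    obtain ⟨s, hlast, hlen⟩ := Order.exists_series_of_le_height p hn
    have hpos : s.length ≠ 0 := by omega
    -- the element before the last
    let p' : PrimeSpectrum A := s.eraseLast.last
    have hp'lt : p' < p := by
      rw [← hlast]
      exact s.eraseLast_last_rel_last hpos
    have hn' : (n : ℕ∞) ≤ Order.height p' := by
      have h1 : (s.eraseLast.length : ℕ∞) ≤ Order.height s.eraseLast.last :=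
        Order.length_le_height_last
      have h2 : s.eraseLast.length = n := by
        rw [RelSeries.eraseLast_length]
        omega
      rw [h2] at h1
      exact h1
    haveI := p'.2
    haveI := q.2
    obtain ⟨q', hq'p, hq'le, hq'c⟩ := going_down N hsupp q.asIdeal p'.asIdeal
      (by rw [hpq]; exact hp'lt.le)
    have hq'lt : (⟨q', hq'p⟩ : PrimeSpectrum B) < q := by
      refine lt_of_le_of_ne hq'le ?_
      intro h
      have : p'.asIdeal = p.asIdeal := by
        rw [← hq'c, ← hpq, ← h]
      exact hp'lt.ne (PrimeSpectrum.ext this)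
    have h3 := ih p' ⟨q', hq'p⟩ hq'c hn'
    have h4 := Order.height_add_one_le hq'lt
    calc ((n + 1 : ℕ) : ℕ∞) = (n : ℕ∞) + 1 := by push_cast; rfl
      _ ≤ Order.height (⟨q', hq'p⟩ : PrimeSpectrum B) + 1 := by gcongr
      _ ≤ Order.height q := h4

/-- Let A → B be a local homomorphism of Noetherian local rings such that the closed fibre ring B/m_A B
has Krull dimension 0 (that is, m_A B is an ideal of definition of B). Then dim B ≤ dim A. If
moreover some finite B-module which is flat over A has support equal to all of Spec B (for instance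
if B is flat over A), then dim B = dim A. -/
theorem result (A B : Type u) [CommRing A] [CommRing B] [IsNoetherianRing A]
    [IsNoetherianRing B] [IsLocalRing A] [IsLocalRing B] [Algebra A B] [IsLocalHom (algebraMap A B)]
    (h0 : ringKrullDim (EGA4.FibRing A B) = 0) :
    ringKrullDim B ≤ ringKrullDim A ∧
      (∀ (N : Type u) [AddCommGroup N] [Module B N] [Module A N] [IsScalarTower A B N] [Module.Finite B N]
          [Module.Flat A N], Module.support B N = Set.univ → ringKrullDim B = ringKrullDim A) := by
  have hcomap : (IsLocalRing.maximalIdeal B).comap (algebraMap A B) = IsLocalRing.maximalIdeal A :=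
    IsLocalRing.maximalIdeal_comap (algebraMap A B)
  refine ⟨?_, ?_⟩
  · haveI : (IsLocalRing.maximalIdeal B).LiesOver (IsLocalRing.maximalIdeal A) :=
      ⟨hcomap.symm⟩
    have h1 := Ideal.height_le_height_add_of_liesOver (IsLocalRing.maximalIdeal A)
      (IsLocalRing.maximalIdeal B)
    have h2 : (IsLocalRing.maximalIdeal B).map (Ideal.Quotient.mk
        ((IsLocalRing.maximalIdeal A).map (algebraMap A B))) =
        IsLocalRing.maximalIdeal (EGA4.FibRing A B) :=
      IsLocalRing.map_maximalIdeal_of_surjective _ Ideal.Quotient.mk_surjective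
    rw [h2] at h1
    have h3 : ((IsLocalRing.maximalIdeal (EGA4.FibRing A B)).height : WithBot ℕ∞) = 0 := by
      rw [IsLocalRing.maximalIdeal_height_eq_ringKrullDim, h0]
    have h4 : (IsLocalRing.maximalIdeal (EGA4.FibRing A B)).height = 0 := by
      exact_mod_cast h3
    rw [h4, add_zero] at h1
    rw [← IsLocalRing.maximalIdeal_height_eq_ringKrullDim,
      ← IsLocalRing.maximalIdeal_height_eq_ringKrullDim]
    exact_mod_cast h1
  · intro N _ _ _ _ _ _ hsupp
    apply le_antisymm
    · -- same argument as above
      haveI : (IsLocalRing.maximalIdeal B).LiesOver (IsLocalRing.maximalIdeal A) :=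
        ⟨hcomap.symm⟩
      have h1 := Ideal.height_le_height_add_of_liesOver (IsLocalRing.maximalIdeal A)
        (IsLocalRing.maximalIdeal B)
      have h2 : (IsLocalRing.maximalIdeal B).map (Ideal.Quotient.mk
          ((IsLocalRing.maximalIdeal A).map (algebraMap A B))) =
          IsLocalRing.maximalIdeal (EGA4.FibRing A B) :=
        IsLocalRing.map_maximalIdeal_of_surjective _ Ideal.Quotient.mk_surjective
      rw [h2] at h1
      have h3 : ((IsLocalRing.maximalIdeal (EGA4.FibRing A B)).height : WithBot ℕ∞) = 0 := by
        rw [IsLocalRing.maximalIdeal_height_eq_ringKrullDim, h0]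
      have h4 : (IsLocalRing.maximalIdeal (EGA4.FibRing A B)).height = 0 := by
        exact_mod_cast h3
      rw [h4, add_zero] at h1
      rw [← IsLocalRing.maximalIdeal_height_eq_ringKrullDim,
        ← IsLocalRing.maximalIdeal_height_eq_ringKrullDim]
      exact_mod_cast h1
    · rw [← IsLocalRing.maximalIdeal_height_eq_ringKrullDim,
        ← IsLocalRing.maximalIdeal_height_eq_ringKrullDim, WithBot.coe_le_coe]
      have hA := PrimeSpectrum.height_eq_orderHeight
        (⟨IsLocalRing.maximalIdeal A, inferInstance⟩ : PrimeSpectrum A)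
      have hB := PrimeSpectrum.height_eq_orderHeight
        (⟨IsLocalRing.maximalIdeal B, inferInstance⟩ : PrimeSpectrum B)
      change (IsLocalRing.maximalIdeal A).height = _ at hA
      change (IsLocalRing.maximalIdeal B).height = _ at hB
      rw [hA, hB, ← ENat.forall_natCast_le_iff_le]
      intro n hn
      exact height_le_of_going_down N hsupp n _ _ hcomap hn

end Groth.Agent.S4693
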