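import Groth.Statements.S6263
import Mathlib
import Groth.Agent.S4693

set_option autoImplicit false
universe u
open CAlg

namespace Groth.Agent.S6263

/-- For a ring map R → S and a finite S-module N which is flat as an R-module, generalizations lift
along the map from the support of N (a subset of Spec S) to Spec R: if p ≤ p' are primes of R and q'
is a prime of S in the support of N whose inverse image in R is p', then some prime q ≤ q' of S lies
in the support of N and has inverse image p. -/
theorem result {R S : Type u} [CommRing R] [CommRing S] [Algebra R S] (N : Type u) [AddCommGroup N] [Module S N] [Module R N] [IsScalarTower R S N] [Module.Finite S N] [Module.Flat R N] (p p' : Ideal R) [p.IsPrime] [p'.IsPrime] (hle : p ≤ p') (q' : PrimeSpectrum S) (hq' : q' ∈ Module.support S N) (hover : q'.asIdeal.under R = p') : ∃ q : PrimeSpectrum S, q ≤ q' ∧ q ∈ Module.support S N ∧ q.asIdeal.under R = p := by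
  classical
  obtain ⟨q', hq'p⟩ := q'
  have hover' : q'.comap (algebraMap R S) = p' := hover
  have hle' : p ≤ q'.comap (algebraMap R S) := hover'.symm ▸ hle
  -- the multiplicative set
  let T : Submonoid S := (p.primeCompl.map (algebraMap R S : R →* S)) ⊔ q'.primeCompl
  -- the ideal of elements carrying `N` into `pN`
  let K : Ideal S :=
    { carrier := {x | ∀ n : N, x • n ∈ p • (⊤ : Submodule R N)}
      add_mem' := by
        intro x y hx hy n
        rw [add_smul]
        exact Submodule.add_mem _ (hx n) (hy n)
      zero_mem' := by
        intro n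
        rw [zero_smul]
        exact Submodule.zero_mem _
      smul_mem' := by
        intro c x hx n
        rw [smul_eq_mul, mul_comm, mul_smul]
        exact hx (c • n) }
  have hK : p.map (algebraMap R S) ≤ K := by
    rw [Ideal.map_le_iff_le_comap]
    intro c hc n
    change algebraMap R S c • n ∈ _
    rw [algebraMap_smul]
    exact Submodule.smul_mem_smul hc Submodule.mem_top
  have hKann : Module.annihilator S N ≤ K := by
    intro x hx n
    rw [Module.mem_annihilator.mp hx n]
    exact Submodule.zero_mem _
  have hsub : ∀ n : N, n ∈ p • (⊤ : Submodule R N) → n ∈ q' • (⊤ : Submodule S N) := by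
    intro n hn
    refine Submodule.smul_induction_on hn (fun c hc m _ => ?_) (fun x y hx hy => ?_)
    · rw [← algebraMap_smul S c m]
      exact Submodule.smul_mem_smul (hle' hc) Submodule.mem_top
    · exact Submodule.add_mem _ hx hy
  have hqs : (⟨q', hq'p⟩ : PrimeSpectrum S) ∈ Module.support S (N ⧸ q' • (⊤ : Submodule S N)) := by
    rw [Module.support_quotient]
    refine ⟨hq', ?_⟩
    rw [PrimeSpectrum.mem_zeroLocus]
  obtain ⟨mbar, hmbar⟩ := Module.mem_support_iff_exists_annihilator.mp hqs
  obtain ⟨n0, rfl⟩ := Submodule.Quotient.mk_surjective _ mbar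
  have hdisj : Disjoint ((K : Ideal S) : Set S) (T : Set S) := by
    rw [Set.disjoint_left]
    intro x hxK hxT
    obtain ⟨y, hy, b, hb, rfl⟩ := Submonoid.mem_sup.mp hxT
    obtain ⟨a, ha, rfl⟩ := Submonoid.mem_map.mp hy
    have hbN : ∀ n : N, b • n ∈ p • (⊤ : Submodule R N) := by
      intro n
      apply Groth.Agent.S4693.flat_quot_reg p ha
      have := hxK n
      change ((algebraMap R S a) * b) • n ∈ _ at this
      rwa [mul_smul, algebraMap_smul] at this
    have hbq : b ∈ q' := by
      apply hmbar
      rw [Submodule.mem_annihilator_span_singleton, ← Submodule.Quotient.mk_smul,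
        Submodule.Quotient.mk_eq_zero]
      exact hsub _ (hbN n0)
    exact hb hbq
  obtain ⟨q, hqp, hqle, hqd⟩ := Ideal.exists_le_prime_disjoint _ T hdisj
  refine ⟨⟨q, hqp⟩, ?_, ?_, ?_⟩
  · intro x hx
    by_contra hxq
    have hxT : x ∈ T := by
      have : x ∈ q'.primeCompl := hxq
      exact (le_sup_right : q'.primeCompl ≤ T) this
    exact Set.disjoint_left.mp hqd hx hxT
  · rw [Module.mem_support_iff_of_finite]
    exact hKann.trans hqle
  · change q.comap (algebraMap R S) = p
    apply le_antisymm
    · intro a ha
      by_contra hap
      have haT : algebraMap R S a ∈ T := by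
        have : algebraMap R S a ∈ p.primeCompl.map (algebraMap R S : R →* S) :=
          Submonoid.mem_map.mpr ⟨a, hap, rfl⟩
        exact (le_sup_left : _ ≤ T) this
      exact Set.disjoint_left.mp hqd ha haT
    · intro a ha
      exact hqle (hK (Ideal.mem_map_of_mem _ ha))

end Groth.Agent.S6263
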