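import Groth.Statements.S0345
import Groth.Agent.Lib.helper21.GorDim
import Groth.Agent.S5790
import Groth.Agent.S0341

set_option autoImplicit false
universe u v
open Goren

namespace Groth.Agent.S0345

open CategoryTheory

/-- For a Noetherian ring A, the A-module A has finite injective dimension exactly when every
localization of A at a prime is Gorenstein and A has finite Krull dimension. -/
theorem result (A : Type u) [CommRing A] [IsNoetherianRing A] : (∃ n : ℕ, CategoryTheory.HasInjectiveDimensionLT (ModuleCat.of A A) n) ↔ (LocCoh.IsGorensteinRing A ∧ ringKrullDim A < ⊤) := by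
  constructor
  · rintro ⟨n, hn⟩
    have hloc : ∀ (p : Ideal A) [p.IsPrime], HasInjectiveDimensionLT
        (ModuleCat.of (Localization.AtPrime p) (Localization.AtPrime p)) (n + 1) := by
      intro p _
      have h1 : HasInjectiveDimensionLT (ModuleCat.of A A) (n + 1) :=
        hasInjectiveDimensionLT_of_ge _ n (n + 1) (by omega)
      have h2 := (Groth.Agent.S5790.result A A n).mp h1 ⟨p, inferInstance⟩
      exact hasInjectiveDimensionLT_of_iso (LinearEquiv.toModuleIso
        (Groth.Agent.Lib.helper9.Depth.localizedModuleSelfEquiv p)) (n + 1)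
    have hG : ∀ (p : Ideal A) [p.IsPrime],
        LocCoh.IsGorensteinLocalRing (Localization.AtPrime p) := fun p _ =>
      { exists_hasInjectiveDimensionLT := ⟨n + 1, hloc p⟩ }
    refine ⟨⟨hG⟩, ?_⟩
    have hle : ringKrullDim A ≤ (n : WithBot ℕ∞) := by
      rw [ringKrullDim_le_iff_height_le]
      intro p hp
      have := hG p
      have hlp : HasInjectiveDimensionLT
        (ModuleCat.of (Localization.AtPrime p) (Localization.AtPrime p)) (n + 1) := hloc p
      have hCM := Groth.Agent.S0341.result (Localization.AtPrime p)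
      have h1 := hCM.supportDim_eq_depth
      rw [Module.supportDim_self_eq_ringKrullDim,
        IsLocalization.AtPrime.ringKrullDim_eq_height p (Localization.AtPrime p)] at h1
      rw [h1]
      have h2 := Groth.Agent.H21.GorDim.depth_le_of_hasInjectiveDimensionLT
        (A := Localization.AtPrime p) (Localization.AtPrime p) n
      exact_mod_cast h2
    have hlt : ((n : ℕ∞) : WithBot ℕ∞) < ((⊤ : ℕ∞) : WithBot ℕ∞) :=
      WithBot.coe_lt_coe.mpr (ENat.natCast_lt_top n)
    exact lt_of_le_of_lt hle hlt
  · rintro ⟨hG, hdim⟩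
    obtain ⟨d, hd⟩ : ∃ d : ℕ, ringKrullDim A ≤ (d : WithBot ℕ∞) := by
      rcases Groth.Agent.Lib.helper9.Depth.eq_bot_or_exists_nat hdim.ne with h | ⟨d, h⟩
      · exact ⟨0, by rw [h]; exact bot_le⟩
      · exact ⟨d, h.le⟩
    refine ⟨d + 1, (Groth.Agent.S5790.result A A d).mpr ?_⟩
    intro p
    have hGp := hG.isGorensteinLocalRing_localization p.asIdeal
    obtain ⟨n, hn⟩ := hGp.exists_hasInjectiveDimensionLT
    have hCM := Groth.Agent.S0341.result (Localization.AtPrime p.asIdeal)
    have h1 := hCM.supportDim_eq_depth
    rw [Module.supportDim_self_eq_ringKrullDim,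
      IsLocalization.AtPrime.ringKrullDim_eq_height p.asIdeal
        (Localization.AtPrime p.asIdeal)] at h1
    obtain ⟨t, ht⟩ := Groth.Agent.Lib.helper9.Depth.exists_nat_depth
      (R := Localization.AtPrime p.asIdeal) (Localization.AtPrime p.asIdeal)
    have : Module.Finite (Localization.AtPrime p.asIdeal)
        (ModuleCat.of (Localization.AtPrime p.asIdeal) (Localization.AtPrime p.asIdeal)) :=
      inferInstanceAs (Module.Finite (Localization.AtPrime p.asIdeal)
        (Localization.AtPrime p.asIdeal))
    have h2 := Groth.Agent.H21.GorDim.hasInjectiveDimensionLT_of_depth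
      (ModuleCat.of (Localization.AtPrime p.asIdeal) (Localization.AtPrime p.asIdeal)) n t ht
    have htd : t ≤ d := by
      have h3 : ((p.asIdeal.height : ℕ∞) : WithBot ℕ∞) ≤ (d : WithBot ℕ∞) :=
        (ringKrullDim_le_iff_height_le _).mp hd p.isPrime
      rw [h1, ht] at h3
      exact_mod_cast h3
    have h4 : HasInjectiveDimensionLT
        (ModuleCat.of (Localization.AtPrime p.asIdeal) (Localization.AtPrime p.asIdeal)) (d + 1) :=
      hasInjectiveDimensionLT_of_ge _ (t + 1) (d + 1) (by omega)
    exact hasInjectiveDimensionLT_of_iso (LinearEquiv.toModuleIso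
      (Groth.Agent.Lib.helper9.Depth.localizedModuleSelfEquiv p.asIdeal)).symm (d + 1)

end Groth.Agent.S0345
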