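import Groth.Statements.S0342
import Groth.Agent.S0563

set_option autoImplicit false
universe u v
open Goren

namespace Groth.Agent.S0342

open CategoryTheory in
/-- Regular local rings have finite injective dimension over themselves, i.e. are Gorenstein. -/
theorem result (A : Type u) [CommRing A] [IsRegularLocalRing A] : LocCoh.IsGorensteinLocalRing A := by
  obtain ⟨d, hd⟩ := Groth.Agent.H5.RegLoc.exists_nat_dim A
  refine { exists_hasInjectiveDimensionLT := ⟨d + 1, ?_⟩ }
  apply HasInjectiveDimensionLT.mk
  intro i hi Y e
  have h1 : HasProjectiveDimensionLT (ModuleCat.of A Y) (d + 1) :=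
    Groth.Agent.S0563.result A d hd Y
  exact Subsingleton.elim (h := HasProjectiveDimensionLT.subsingleton (ModuleCat.of A Y) (d + 1) i hi _) _ _

end Groth.Agent.S0342
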