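import Groth.Statements.S5855
import Groth.Agent.Lib.helper9.ZC5
import Groth.Agent.Lib.helper9.CohB9

set_option autoImplicit false
universe u
open ZClos

namespace Groth.Agent.S5855

open CategoryTheory CategoryTheory.Limits AlgebraicGeometry Opposite TopologicalSpace
  Groth.Agent.Lib.helper9.ZC Groth.Agent.Lib.helper9 in
/-- (⇐) -/
theorem isZPureAt_of_depth {X : Scheme.{u}} [IsLocallyNoetherian X] (Z : Set X) (F : X.Modules)
    [F.IsQuasicoherent] [SheafOfModules.IsFiniteType.{u} F] (x : X)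
    (h : ∀ x' : X, x' ⤳ x → x' ∈ Z →
      (1 : ℕ∞) ≤ LocCoh.depth (X.presheaf.stalk x') (F.presheaf.stalk x')) :
    ZClos.IsZPureAt Z F x := by
  have hinj0 : ∀ a : F.presheaf.stalk x, ZClos.rhoStalk Z F x a = 0 → a = 0 := by
    intro a ha
    obtain ⟨V, hxV, t, rfl⟩ := F.presheaf.exists_germ_eq a
    obtain ⟨T, V', hV, hx', h0⟩ := (rhoStalk_germ_eq_zero_iff Z F x V hxV t).mp ha
    obtain ⟨V1, hxV1, hV1⟩ := CohB.exists_nhd_forall_depth_ge F (T.1 : Set X) T.1.isClosed x 1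
      (fun x' hx'x hx'T => by exact_mod_cast h x' hx'x (T.2 hx'T))
    obtain ⟨W', ⟨hW', hfin⟩, hxW', hW'le⟩ :=
      (Opens.isBasis_iff_nbhd.mp (CohB.isBasis_goodAffine F)) (show x ∈ V' ⊓ V1 from ⟨hx', hxV1⟩)
    haveI : IsNoetherianRing Γ(X, W') := IsLocallyNoetherian.component_noetherian ⟨W', hW'⟩
    haveI := hfin
    have hinj := CohB.res_injective_of_isAffineOpen' F hW' T.U (fun y hyW' hyU => by
      have hyT : y ∈ (T.1 : Set X) := by
        by_contra hc
        exact hyU hc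
      exact_mod_cast hV1 y (hW'le hyW').2 hyT)
    have hW'V : W' ≤ V := (hW'le.trans inf_le_left).trans hV
    have h1 : res F hW'V t = 0 := by
      apply hinj
      change res F (inf_le_left : W' ⊓ T.U ≤ W') (res F hW'V t) =
        res F (inf_le_left : W' ⊓ T.U ≤ W') 0
      rw [res_res]
      have hle : W' ⊓ T.U ≤ T.U.ι ''ᵁ T.U.ι ⁻¹ᵁ V' :=
        (inf_le_inf_right T.U (hW'le.trans inf_le_left)).trans (inf_le_ip T.U V')
      have h2 : res F hle (res F ((ip_le T.U V').trans hV) t) = res F hle 0 :=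
        congrArg (fun z => res F hle z) h0
      rw [res_res] at h2
      exact h2.trans ((map_zero _).trans (map_zero _).symm)
    refine (germ_res F hW'V x hxW' t).symm.trans ?_
    rw [h1]
    exact map_zero _
  intro a b hab
  have h1 : ZClos.rhoStalk Z F x (a - b) = 0 := by
    rw [map_sub, hab, sub_self]
  exact sub_eq_zero.mp (hinj0 _ h1)

open CategoryTheory CategoryTheory.Limits AlgebraicGeometry Opposite TopologicalSpace
  Groth.Agent.Lib.helper9.ZC Groth.Agent.Lib.helper9 in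
/-- (⇒) -/
theorem depth_of_isZPureAt {X : Scheme.{u}} [IsLocallyNoetherian X] (Z : Set X)
    (hZ : StableUnderSpecialization Z) (F : X.Modules)
    [F.IsQuasicoherent] [SheafOfModules.IsFiniteType.{u} F] (x : X)
    (hpure : ZClos.IsZPureAt Z F x) (x' : X) (hx'x : x' ⤳ x) (hx'Z : x' ∈ Z) :
    (1 : ℕ∞) ≤ LocCoh.depth (X.presheaf.stalk x') (F.presheaf.stalk x') := by
  by_contra hlt
  have hd0 : LocCoh.depth (X.presheaf.stalk x') (F.presheaf.stalk x') = 0 := by
    rw [not_le] at hlt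
    exact Order.lt_one_iff.mp hlt
  obtain ⟨W, hW, hxW, hNoeth, hfin⟩ := CohB.exists_good_affine F x
  have hx'W : x' ∈ W := hx'x.mem_open W.2 hxW
  obtain ⟨p, rfl⟩ := CohB.exists_fromSpec_eq hW hxW
  obtain ⟨q, rfl⟩ := CohB.exists_fromSpec_eq hW hx'W
  have hqp : q.asIdeal ≤ p.asIdeal := (CohB.fromSpec_specializes_iff hW q p).mp hx'x
  rw [CohB.depth_stalk_eq' F hW q] at hd0
  have hass := (Depth.depth_localization_eq_zero_iff q.asIdeal _).mp hd0
  obtain ⟨hprime, m, hm⟩ := isAssociatedPrime_iff.mp hass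
  -- the closed set `T = closure {x'}`
  obtain ⟨T, hT⟩ : ∃ T : ZClos.Cl Z, (T.1 : Set X) = closure {hW.fromSpec q} :=
    ⟨⟨⟨closure {hW.fromSpec q}, isClosed_closure⟩,
      fun y hy => hZ (specializes_iff_mem_closure.mpr hy) hx'Z⟩, rfl⟩
  have hmemU : ∀ y : PrimeSpectrum Γ(X, W), hW.fromSpec y ∈ T.U → ¬ q.asIdeal ≤ y.asIdeal := by
    intro y hy hle
    have h1 : hW.fromSpec y ∈ (T.1 : Set X) := by
      rw [hT]
      exact specializes_iff_mem_closure.mp ((CohB.fromSpec_specializes_iff hW q y).mpr hle)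
    exact hy h1
  -- (a) the section `m` vanishes on `W ∩ U_T`
  have ha : (F.restrict hW.fromSpec).presheaf.map
      (homOfLE (le_top : hW.fromSpec ⁻¹ᵁ T.U ≤ ⊤)).op m = 0 := by
    refine (CohB.map_top_eq_zero_iff _ _ m).mpr (fun y hy => ?_)
    obtain ⟨a, haq, hay⟩ := SetLike.not_le_iff_exists.mp (hmemU y hy)
    rw [Depth.mk_eq_zero_iff']
    refine ⟨⟨a, hay⟩, ?_⟩
    change a • m = 0
    rw [hm, Submodule.mem_colon_singleton, Submodule.mem_bot] at haq
    exact haq
  have ha' : res F (hW.fromSpec.image_mono (le_top : hW.fromSpec ⁻¹ᵁ T.U ≤ ⊤)) m = 0 := ha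
  have hp0 : hW.fromSpec p ∈ hW.fromSpec ''ᵁ (⊤ : (Spec Γ(X, W)).Opens) := ⟨p, trivial, rfl⟩
  -- (b) the germ of `m` at `x` is nonzero
  have hgerm : F.presheaf.germ (hW.fromSpec ''ᵁ (⊤ : (Spec Γ(X, W)).Opens)) (hW.fromSpec p) hp0 m
      ≠ 0 := by
    intro h0
    have h1 : F.presheaf.germ (hW.fromSpec ''ᵁ (⊤ : (Spec Γ(X, W)).Opens)) (hW.fromSpec p) hp0 m =
        F.presheaf.germ (hW.fromSpec ''ᵁ (⊤ : (Spec Γ(X, W)).Opens)) (hW.fromSpec p) hp0 0 :=
      h0.trans (map_zero _).symm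
    obtain ⟨V, hpV, iU, iV, hV⟩ := TopCat.Presheaf.germ_eq _ (hW.fromSpec p) hp0 hp0 _ _ h1
    have hb : (F.restrict hW.fromSpec).presheaf.map
        (homOfLE (le_top : hW.fromSpec ⁻¹ᵁ V ≤ ⊤)).op m = 0 := by
      change res F (hW.fromSpec.image_mono (le_top : hW.fromSpec ⁻¹ᵁ V ≤ ⊤)) m = 0
      have hle : hW.fromSpec ''ᵁ hW.fromSpec ⁻¹ᵁ V ≤ V := hW.fromSpec.image_preimage_le V
      have h2 : res F iU.le m = 0 := (map_eq_res F iU _).symm.trans (hV.trans (map_zero _))
      have h3 : res F hle (res F iU.le m) = res F hle 0 := congrArg (fun z => res F hle z) h2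
      rw [res_res] at h3
      exact h3.trans (map_zero _)
    have h4 := (CohB.map_top_eq_zero_iff _ _ m).mp hb p hpV
    rw [Depth.mk_eq_zero_iff'] at h4
    obtain ⟨s, hs⟩ := h4
    have hsq : (s : Γ(X, W)) ∈ q.asIdeal := by
      rw [hm, Submodule.mem_colon_singleton, Submodule.mem_bot]
      exact hs
    exact s.2 (hqp hsq)
  -- (c) conclusion
  apply hgerm
  apply hpure
  refine (rhoStalk_germ Z F (hW.fromSpec p) _ hp0 m T).trans ?_
  have hle : T.U.ι ''ᵁ T.U.ι ⁻¹ᵁ (hW.fromSpec ''ᵁ (⊤ : (Spec Γ(X, W)).Opens)) ≤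
      hW.fromSpec ''ᵁ hW.fromSpec ⁻¹ᵁ T.U := by
    rw [ZClos.ι_image_preimage, Scheme.Hom.image_preimage_eq_opensRange_inf,
      Scheme.Hom.image_top_eq_opensRange]
    exact le_of_eq (inf_comm _ _)
  have h5 : F.presheaf.map (homOfLE (T.U.ι.image_preimage_le
      (hW.fromSpec ''ᵁ (⊤ : (Spec Γ(X, W)).Opens)))).op m = 0 := by
    have h6 : res F hle (res F (hW.fromSpec.image_mono
        (le_top : hW.fromSpec ⁻¹ᵁ T.U ≤ ⊤)) m) = res F hle 0 :=
      congrArg (fun z => res F hle z) ha'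
    rw [res_res] at h6
    exact h6.trans (map_zero _)
  rw [h5, rep_zero]
  exact (map_zero _).symm

open CategoryTheory CategoryTheory.Limits AlgebraicGeometry in
/-- For a locally Noetherian scheme X, a subset Z of X stable under specialization, a coherent
O_X-module F and a point x, F is Z-pure at x (the map induced on stalks at x by ρ_{X/Z} : F →
H⁰_{X/Z}(F) is injective) if and only if the stalk F_{x'} has depth at least 1 over O_{X,x'} at
every generization x' of x lying in Z. -/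
theorem result (X : Scheme.{u}) [IsLocallyNoetherian X] (Z : Set X)
    (hZ : StableUnderSpecialization Z) (F : X.Modules) (hF : Coh.IsCoh F) (x : X) :
    ZClos.IsZPureAt Z F x ↔
      ∀ x' : X, x' ⤳ x → x' ∈ Z → (1 : ℕ∞) ≤ LocCoh.depth (X.presheaf.stalk x') (F.presheaf.stalk x') := by
  haveI := hF.1
  haveI := hF.2
  exact ⟨fun h x' hx'x hx'Z => depth_of_isZPureAt Z hZ F x h x' hx'x hx'Z,
    fun h => isZPureAt_of_depth Z F x h⟩

end Groth.Agent.S5855
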