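import Groth.Statements.S5856
import Groth.Agent.Lib.helper9.ZC9
import Groth.Agent.S5855

set_option autoImplicit false
universe u
open ZClos

namespace Groth.Agent.S5856

open CategoryTheory CategoryTheory.Limits AlgebraicGeometry Opposite TopologicalSpace
  Groth.Agent.Lib.helper9.ZC Groth.Agent.Lib.helper9 in
/-- (⇐) -/
theorem isZClosedAt_of_depth {X : Scheme.{u}} [IsLocallyNoetherian X] (Z : Set X) (F : X.Modules)
    [F.IsQuasicoherent] [SheafOfModules.IsFiniteType.{u} F] (x : X)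
    (h : ∀ x' : X, x' ⤳ x → x' ∈ Z →
      (2 : ℕ∞) ≤ LocCoh.depth (X.presheaf.stalk x') (F.presheaf.stalk x')) :
    ZClos.IsZClosedAt Z F x := by
  refine ⟨Groth.Agent.S5855.isZPureAt_of_depth Z F x
    (fun x' hx' hZ' => le_trans (by norm_num) (h x' hx' hZ')), ?_⟩
  intro g
  obtain ⟨T, V, hxV, s, rfl⟩ := exists_rep Z F x g
  obtain ⟨V1, hxV1, hV1⟩ := CohB.exists_nhd_forall_depth_ge F (T.1 : Set X) T.1.isClosed x 2
    (fun x' hx'x hx'T => by exact_mod_cast h x' hx'x (T.2 hx'T))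
  obtain ⟨W', ⟨hW', hfin⟩, hxW', hW'le⟩ :=
    (Opens.isBasis_iff_nbhd.mp (CohB.isBasis_goodAffine F)) (show x ∈ V ⊓ V1 from ⟨hxV, hxV1⟩)
  haveI : IsNoetherianRing Γ(X, W') := IsLocallyNoetherian.component_noetherian ⟨W', hW'⟩
  haveI := hfin
  have hbij := CohB.res_bijective_of_isAffineOpen' F hW' T.U (fun y hyW' hyU => by
    have hyT : y ∈ (T.1 : Set X) := by
      by_contra hc
      exact hyU hc
    exact_mod_cast hV1 y (hW'le hyW').2 hyT)
  have hW'V : W' ≤ V := hW'le.trans inf_le_left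
  have hle : W' ⊓ T.U ≤ T.U.ι ''ᵁ T.U.ι ⁻¹ᵁ V :=
    (inf_le_inf_right T.U hW'V).trans (inf_le_ip T.U V)
  obtain ⟨t, ht⟩ := hbij.2 (res F hle s)
  refine ⟨F.presheaf.germ W' x hxW' t, ?_⟩
  refine (rhoStalk_germ Z F x W' hxW' t T).trans ?_
  have e1 : rep Z F x T V hxV s = rep Z F x T W' hxW' (res F (ip_mono T.U hW'V) s) :=
    rep_res Z F x (le_refl T) hW'V hxW' (homOfLE (ip_mono T.U hW'V)) s
  refine Eq.trans ?_ e1.symm
  congr 1
  have ht' : res F (inf_le_left : W' ⊓ T.U ≤ W') t = res F hle s := ht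
  have h2 : res F (ip_le_inf T.U W') (res F (inf_le_left : W' ⊓ T.U ≤ W') t) =
      res F (ip_le_inf T.U W') (res F hle s) :=
    congrArg (fun z => res F (ip_le_inf T.U W') z) ht'
  exact ((res_res F _ (ip_le_inf T.U W') t).symm.trans h2).trans
    (res_res F hle (ip_le_inf T.U W') s)

open CategoryTheory CategoryTheory.Limits AlgebraicGeometry Opposite TopologicalSpace
  Groth.Agent.Lib.helper9.ZC Groth.Agent.Lib.helper9 in
/-- (⇒) -/
theorem depth_of_isZClosedAt {X : Scheme.{u}} [IsLocallyNoetherian X] (Z : Set X)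
    (hZ : StableUnderSpecialization Z) (F : X.Modules)
    [F.IsQuasicoherent] [SheafOfModules.IsFiniteType.{u} F] (x : X)
    (hcl : ZClos.IsZClosedAt Z F x) (x' : X) (hx'x : x' ⤳ x) (hx'Z : x' ∈ Z) :
    (2 : ℕ∞) ≤ LocCoh.depth (X.presheaf.stalk x') (F.presheaf.stalk x') := by
  obtain ⟨W, hW, hxW, hNoeth, hfin⟩ := CohB.exists_good_affine F x
  have hx'W : x' ∈ W := hx'x.mem_open W.2 hxW
  obtain ⟨p, rfl⟩ := CohB.exists_fromSpec_eq hW hxW
  obtain ⟨q, rfl⟩ := CohB.exists_fromSpec_eq hW hx'W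
  have hqp : q.asIdeal ≤ p.asIdeal := (CohB.fromSpec_specializes_iff hW q p).mp hx'x
  rw [CohB.depth_stalk_eq' F hW q]
  have hpure : ZClos.IsZPureAt Z F (hW.fromSpec p) := hcl.1
  refine Sect.two_le_depth_of_model (hW.fromSpec.base ⁻¹' Z)
    (hZ.preimage hW.fromSpec.continuous) p
    (modelInj_of_isZPureAt F hW.fromSpec hZ p hpure)
    (modelSurj_of_isZClosedAt F hW.fromSpec hZ p hcl) ?_ q hqp hx'Z
  intro q' hq'p hq'Z
  rw [← CohB.depth_stalk_eq' F hW q']
  exact Groth.Agent.S5855.depth_of_isZPureAt Z hZ F (hW.fromSpec p) hpure (hW.fromSpec q')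
    ((CohB.fromSpec_specializes_iff hW q' p).mpr hq'p) hq'Z

open CategoryTheory CategoryTheory.Limits AlgebraicGeometry in
/-- For a locally Noetherian scheme X, a subset Z of X stable under specialization, a coherent
O_X-module F and a point x, F is Z-closed at x (the map induced on stalks at x by ρ_{X/Z} : F →
H⁰_{X/Z}(F) is bijective) if and only if the stalk F_{x'} has depth at least 2 over O_{X,x'} at
every generization x' of x lying in Z. -/
theorem result (X : Scheme.{u}) [IsLocallyNoetherian X] (Z : Set X)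
    (hZ : StableUnderSpecialization Z) (F : X.Modules) (hF : Coh.IsCoh F) (x : X) :
    ZClos.IsZClosedAt Z F x ↔
      ∀ x' : X, x' ⤳ x → x' ∈ Z → (2 : ℕ∞) ≤ LocCoh.depth (X.presheaf.stalk x') (F.presheaf.stalk x') := by
  haveI := hF.1
  haveI := hF.2
  exact ⟨fun h x' hx'x hx'Z => depth_of_isZClosedAt Z hZ F x h x' hx'x hx'Z,
    fun h => isZClosedAt_of_depth Z F x h⟩

end Groth.Agent.S5856
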