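import Groth.Statements.S0601
import Groth.Agent.Lib.helper9.Serre1
import Groth.Agent.Lib.helper9.Serre2

set_option autoImplicit false
universe u
open CAlg

namespace Groth.Agent.S0601

/-- A Noetherian ring has all its local rings integrally closed domains exactly when it satisfies the
regularity condition R₁ and the depth condition S₂. -/
theorem result (R : Type u) [CommRing R] [IsNoetherianRing R] :
    (∀ (p : Ideal R) [p.IsPrime], IsDomain (Localization.AtPrime p) ∧
      IsIntegrallyClosed (Localization.AtPrime p)) ↔ (LocCoh.HasRk 1 R ∧ LocCoh.HasSk 2 R R) := by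
  constructor
  · intro h
    refine ⟨?_, ?_⟩
    · intro p _ hp
      haveI := (h p).1
      haveI := (h p).2
      apply Groth.Agent.Lib.helper9.Serre.isRegularLocalRing_of_normal_of_dim_le_one
      rw [IsLocalization.AtPrime.ringKrullDim_eq_height p (Localization.AtPrime p)]
      exact_mod_cast hp
    · intro p _
      haveI := (h p).1
      haveI := (h p).2
      rw [Groth.Agent.Lib.helper9.Depth.depth_localizedModule_self,
        Module.supportDim_eq_of_equiv (Groth.Agent.Lib.helper9.Depth.localizedModuleSelfEquiv p),
        Module.supportDim_self_eq_ringKrullDim]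
      have := Groth.Agent.Lib.helper9.Serre.min_two_dim_le_depth_of_normal
        (Localization.AtPrime p)
      exact_mod_cast this
  · rintro ⟨hR, hS⟩ p _
    have hS' : LocCoh.HasSk 2 (Localization.AtPrime p) (Localization.AtPrime p) :=
      (Groth.Agent.Lib.helper9.Depth.hasSk_congr
        (Groth.Agent.Lib.helper9.Depth.localizedModuleSelfEquiv p) 2).1
        (Groth.Agent.Lib.helper9.Depth.hasSk_localization p.primeCompl R hS)
    have hR' : LocCoh.HasRk 1 (Localization.AtPrime p) := by
      intro P _ hP
      have e := IsLocalization.localizationLocalizationAtPrimeIsoLocalization p.primeCompl P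
      have hht : (P.comap (algebraMap R (Localization.AtPrime p))).height = P.height :=
        IsLocalization.height_under p.primeCompl P
      haveI : IsRegularLocalRing
          (Localization.AtPrime (P.comap (algebraMap R (Localization.AtPrime p)))) :=
        hR _ (by rw [hht]; exact hP)
      exact IsRegularLocalRing.of_ringEquiv e.toRingEquiv
    haveI := Groth.Agent.Lib.helper9.Depth.connectedSpace_of_isLocalRing
      (A := Localization.AtPrime p)
    haveI hdom : IsDomain (Localization.AtPrime p) :=
      Groth.Agent.Lib.helper9.Serre.isDomain_of_R1_S2 _ hR' hS'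
    exact ⟨hdom, Groth.Agent.Lib.helper9.Serre.isIntegrallyClosed_of_R1_S2 _ hR' hS'⟩

end Groth.Agent.S0601
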