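import Groth.Statements.S5843
import Groth.Agent.Lib.helper9.ZC3

set_option autoImplicit false
universe u
open ZClos

namespace Groth.Agent.S5843


open CategoryTheory CategoryTheory.Limits AlgebraicGeometry Opposite TopologicalSpace
  Groth.Agent.Lib.helper9.ZC in
/-- (⇐): if all units are isomorphisms then `F` is `Z`-closed. -/
theorem isZClosed_of_forall_isIso {X : Scheme.{u}} (Z : Set X) (F : X.Modules)
    (h : ∀ T : ZClos.Cl Z, IsIso (ZClos.toDiagram Z F T)) : ZClos.IsZClosed Z F := by
  have hb : ∀ (T : ZClos.Cl Z) (V : X.Opens),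
      Function.Bijective (res F (ip_le T.U V)) := by
    intro T V
    haveI := h T
    have h1 : IsIso ((ZClos.toDiagram Z F T).app V) := inferInstance
    exact (ConcreteCategory.isIso_iff_bijective _).mp h1
  unfold ZClos.IsZClosed
  refine isIso_of_stalk_bijective _ (fun x => ?_)
  change Function.Bijective (ZClos.rhoStalk Z F x)
  have hinj0 : ∀ a : F.presheaf.stalk x, ZClos.rhoStalk Z F x a = 0 → a = 0 := by
    intro a ha
    obtain ⟨V, hx, t, rfl⟩ := F.presheaf.exists_germ_eq a
    rw [rhoStalk_germ Z F x V hx t ⊥] at ha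
    obtain ⟨T', -, V', hV, hx', i, hi⟩ := (rep_eq_zero_iff Z F x ⊥ V hx _).mp ha
    rw [map_eq_res, map_eq_res, res_res] at hi
    have h2 : res F (ip_le T'.U V') (res F hV t) = 0 := by
      rw [res_res]
      exact hi
    have h3 : res F hV t = 0 := by
      apply (hb T' V').1
      rw [h2]
      exact (map_zero _).symm
    rw [← germ_res F hV x hx' t, h3]
    exact map_zero _
  constructor
  · intro a b hab
    have h1 : ZClos.rhoStalk Z F x (a - b) = 0 := by
      rw [map_sub, hab, sub_self]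
    exact sub_eq_zero.mp (hinj0 _ h1)
  · intro g
    obtain ⟨T, V, hx, s, rfl⟩ := exists_rep Z F x g
    obtain ⟨t, ht⟩ := (hb T V).2 s
    refine ⟨F.presheaf.germ V x hx t, ?_⟩
    rw [rhoStalk_germ Z F x V hx t T]
    exact congrArg (rep Z F x T V hx) ht

open CategoryTheory CategoryTheory.Limits AlgebraicGeometry Opposite TopologicalSpace
  Groth.Agent.Lib.helper9.ZC in
/-- (⇒): if `F` is `Z`-closed then all units are isomorphisms. -/
theorem isIso_toDiagram_of_isZClosed {X : Scheme.{u}} (Z : Set X) (F : X.Modules)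
    (h : ZClos.IsZClosed Z F) (T : ZClos.Cl Z) : IsIso (ZClos.toDiagram Z F T) := by
  have hb : ∀ x : X, Function.Bijective (ZClos.rhoStalk Z F x) := by
    intro x
    haveI : IsIso (ZClos.rhoApp Z F) := h
    exact stalk_bijective_of_isIso (ZClos.rhoApp Z F) x
  refine isIso_of_stalk_bijective _ (fun x => ⟨?_, ?_⟩)
  · intro a b hab
    apply (hb x).1
    rw [rhoStalk_apply Z F x T a, rhoStalk_apply Z F x T b, hab]
  · intro y
    obtain ⟨V, hx, s, rfl⟩ := ((ZClos.resPush T.U).obj F).presheaf.exists_germ_eq y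
    change Γ(F, T.U.ι ''ᵁ T.U.ι ⁻¹ᵁ V) at s
    obtain ⟨a, ha⟩ := (hb x).2 (rep Z F x T V hx s)
    obtain ⟨V1, hx1, t, rfl⟩ := F.presheaf.exists_germ_eq a
    -- common open
    have hx2 : x ∈ V ⊓ V1 := ⟨hx, hx1⟩
    set t2 : Γ(F, V ⊓ V1) := res F inf_le_right t with ht2
    set s2 : Γ(F, T.U.ι ''ᵁ T.U.ι ⁻¹ᵁ (V ⊓ V1)) := res F (ip_mono T.U inf_le_left) s with hs2
    set t3 : Γ(F, T.U.ι ''ᵁ T.U.ι ⁻¹ᵁ (V ⊓ V1)) := res F (ip_le T.U (V ⊓ V1)) t2 with ht3
    have e1 : rep Z F x T V hx s = rep Z F x T (V ⊓ V1) hx2 s2 := by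
      have := rep_res Z F x (le_refl T) (inf_le_left : V ⊓ V1 ≤ V) hx2
        (homOfLE (ip_mono T.U inf_le_left)) s
      exact this
    have e2 : ZClos.rhoStalk Z F x (F.presheaf.germ V1 x hx1 t) =
        rep Z F x T (V ⊓ V1) hx2 t3 := by
      rw [← germ_res F (inf_le_right : V ⊓ V1 ≤ V1) x hx2 t]
      exact rhoStalk_germ Z F x (V ⊓ V1) hx2 t2 T
    have e3 : rep Z F x T (V ⊓ V1) hx2 (s2 - t3) = 0 := by
      rw [rep_sub, ← e1, ← e2, ha, sub_self]
    obtain ⟨T', hT, V', hV', hx', i, hi⟩ := (rep_eq_zero_iff Z F x T (V ⊓ V1) hx2 _).mp e3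
    rw [map_eq_res] at hi
    -- the difference on `U_T ∩ V'`
    set d : Γ(F, T.U.ι ''ᵁ T.U.ι ⁻¹ᵁ V') := res F (ip_mono T.U hV') (s2 - t3) with hd
    have hd0 : d = 0 := by
      refine eq_zero_of_germ_eq_zero F _ d (fun y hy => ?_)
      apply (hb y).1
      rw [rhoStalk_germ Z F y _ hy d T']
      have h5 : F.presheaf.map (homOfLE (T'.U.ι.image_preimage_le
          (T.U.ι ''ᵁ T.U.ι ⁻¹ᵁ V'))).op d = 0 := by
        change res F _ d = 0
        rw [hd, res_res]
        have h6 : res F ((ip_le T'.U (T.U.ι ''ᵁ T.U.ι ⁻¹ᵁ V')).trans (ip_mono T.U hV')) (s2 - t3) =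
            res F (ip_mono T'.U (ip_le T.U V')) (res F i.le (s2 - t3)) := by
          rw [res_res]
        rw [h6, hi]
        exact map_zero _
      rw [h5, rep_zero]
      exact (map_zero _).symm
    refine ⟨F.presheaf.germ V' x hx' (res F (hV'.trans inf_le_right) t), ?_⟩
    rw [toDiagram_germ Z F x T V' hx',
      resPush_germ_res Z F x T (hV'.trans inf_le_left) hx'
        (homOfLE (ip_mono T.U (hV'.trans inf_le_left))) s]
    congr 1
    have h7 : d = res F (ip_mono T.U (hV'.trans inf_le_left)) s -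
        res F (ip_le T.U V') (res F (hV'.trans inf_le_right) t) := by
      rw [hd, map_sub, hs2, ht3, ht2, res_res, res_res, res_res, res_res]
    rw [hd0] at h7
    exact (sub_eq_zero.mp h7.symm).symm

open CategoryTheory CategoryTheory.Limits AlgebraicGeometry in
/-- a) ⇔ a'), bijective case: for a locally Noetherian scheme X, a subset Z of X stable under
specialization and an arbitrary O_X-module F, the canonical map ρ_{X/Z} : F → H⁰_{X/Z}(F) is
bijective (F is Z-closed) if and only if, for every closed subset T of X contained in Z, the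
canonical map from F to the direct image of its restriction to X ∖ T is bijective. -/
theorem result (X : Scheme.{u}) [IsLocallyNoetherian X] (Z : Set X)
    (hZ : StableUnderSpecialization Z) (F : X.Modules) :
    ZClos.IsZClosed Z F ↔ ∀ T : ZClos.Cl Z, IsIso (ZClos.toDiagram Z F T) := by
  exact ⟨fun h T => isIso_toDiagram_of_isZClosed Z F h T, isZClosed_of_forall_isIso Z F⟩

end Groth.Agent.S5843
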