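import Groth.Statements.S0063
import Groth.Agent.Lib.helper1.Equalizer

set_option autoImplicit false
open CategoryTheory CategoryTheory.Limits AlgebraicGeometry Opposite
universe u
open EtBase

namespace Groth.Agent.S0063

/-- Rigidity of maps into an unramified separated scheme — two maps from a connected scheme over the
base that agree at one point, including on residue fields, coincide. -/
theorem result {X S Y : Scheme.{u}} (π : X ⟶ S)
    [FormallyUnramified π] [LocallyOfFiniteType π] [IsSeparated π]
    (h : Y ⟶ S) [ConnectedSpace Y] (f g : Y ⟶ X) (hf : f ≫ π = h) (hg : g ≫ π = h)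
    (y : Y) (hy : Y.fromSpecResidueField y ≫ f = Y.fromSpecResidueField y ≫ g) : f = g := by
  have hfg : f ≫ π = g ≫ π := hf.trans hg.symm
  obtain ⟨E, ι, hopen, hι, hclosed, huniv⟩ :=
    Groth.Agent.Lib.helper1.EqLib.exists_equalizer π f g hfg
  have hcl : IsClosedImmersion ι := hclosed inferInstance
  obtain ⟨t', ht'⟩ := huniv _ (Y.fromSpecResidueField y) hy
  have hy' : y ∈ Set.range ι := by
    have hne : Nonempty (Spec (Y.residueField y)) := inferInstance
    obtain ⟨s⟩ := hne
    refine ⟨t' s, ?_⟩
    rw [← Scheme.Hom.comp_apply, ht', Scheme.fromSpecResidueField_apply]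
  have hclopen : IsClopen (Set.range ι) :=
    ⟨ι.isClosedEmbedding.isClosed_range, ι.isOpenEmbedding.isOpen_range⟩
  have huniv' : Set.range ι = Set.univ := hclopen.eq_univ ⟨y, hy'⟩
  have hsurj : Surjective ι := ⟨Set.range_eq_univ.mp huniv'⟩
  have : IsIso ι := (isIso_iff_isOpenImmersion_and_surjective ι).mpr ⟨hopen, hsurj⟩
  exact (cancel_epi ι).mp hι

end Groth.Agent.S0063
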