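import Groth.Statements.S7584

set_option autoImplicit false
universe u
open PtTop

namespace Groth.Agent.S7584

theorem result (X : Type u) [TopologicalSpace X] [CompactSpace X]
    (h : ∀ x : X, connectedComponent x = ⋂₀ {Z : Set X | IsClopen Z ∧ x ∈ Z}) :
    T2Space (ConnectedComponents X) := by
  refine ⟨fun a b hab => ?_⟩
  obtain ⟨x, rfl⟩ := ConnectedComponents.surjective_coe a
  obtain ⟨y, rfl⟩ := ConnectedComponents.surjective_coe b
  have hy : y ∉ connectedComponent x :=
    fun hy => hab (ConnectedComponents.coe_eq_coe'.mpr hy).symm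
  rw [h x, Set.mem_sInter] at hy
  push Not at hy
  obtain ⟨Z, ⟨hZ, hxZ⟩, hyZ⟩ := hy
  have hpre : ∀ W : Set X, IsClopen W →
      (ConnectedComponents.mk) ⁻¹' ((ConnectedComponents.mk) '' W) = W := by
    intro W hW
    rw [connectedComponents_preimage_image, hW.biUnion_connectedComponent_eq]
  refine ⟨ConnectedComponents.mk '' Z, ConnectedComponents.mk '' Zᶜ, ?_, ?_,
    ⟨x, hxZ, rfl⟩, ⟨y, hyZ, rfl⟩, ?_⟩
  · rw [← ConnectedComponents.isQuotientMap_coe.isOpen_preimage, hpre Z hZ]
    exact hZ.isOpen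
  · rw [← ConnectedComponents.isQuotientMap_coe.isOpen_preimage, hpre Zᶜ hZ.compl]
    exact hZ.compl.isOpen
  · rw [Set.disjoint_left]
    rintro _ ⟨a, ha, rfl⟩ ⟨b, hb, hab'⟩
    have : b ∈ connectedComponent a := ConnectedComponents.coe_eq_coe'.mp hab'
    exact hb (hZ.connectedComponent_subset ha this)

end Groth.Agent.S7584
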