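import Groth.Statements.S0703
import Mathlib
import Groth.Agent.S7525
import Groth.Agent.S7529
import Groth.Agent.S7584

set_option autoImplicit false
open Topology
universe u
open ProEtW

namespace Groth.Agent.S0703

section Helpers

open Topology TopologicalSpace

/-- In a spectral space, connected components are intersections of clopen sets. -/
theorem connectedComponent_eq_sInter_isClopen {X : Type u} [TopologicalSpace X] [SpectralSpace X]
    (x : X) : connectedComponent x = ⋂₀ {Z : Set X | IsClopen Z ∧ x ∈ Z} := by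
  classical
  set 𝒵 : Set (Set X) := {Z : Set X | IsClopen Z ∧ x ∈ Z} with h𝒵
  set S := ⋂₀ 𝒵 with hS
  apply Set.Subset.antisymm
  · exact Set.subset_sInter fun Z hZ => hZ.1.connectedComponent_subset hZ.2
  have hxS : x ∈ S := Set.mem_sInter.2 fun Z hZ => hZ.2
  have hSc : IsClosed S := isClosed_sInter fun Z hZ => hZ.1.isClosed
  -- finite intersections stay in 𝒵
  have hfin : ∀ K : Set X, IsCompact K → K ∩ S = ∅ → ∃ Z ∈ 𝒵, K ∩ Z = ∅ := by
    intro K hK hKS
    have h1 : K ∩ ⋂ i : 𝒵, (i : Set X) = ∅ := by
      rw [← Set.sInter_eq_iInter]; exact hKS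
    obtain ⟨u, hu⟩ := hK.elim_finite_subfamily_closed (fun i : 𝒵 => (i : Set X))
      (fun i => i.2.1.isClosed) h1
    refine ⟨⋂ i ∈ u, (i : Set X), ⟨?_, ?_⟩, hu⟩
    · exact isClopen_biInter_finset fun i _ => i.2.1
    · simp only [Set.mem_iInter]
      exact fun i _ => i.2.2
  apply IsPreconnected.subset_connectedComponent _ hxS
  rw [isPreconnected_iff_subset_of_fully_disjoint_closed hSc]
  intro u v hu hv hSuv huv
  -- separate by quasi-compact opens
  have hB : IsCompact (S ∩ u) := (hSc.inter hu).isCompact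
  have hC : IsCompact (S ∩ v) := (hSc.inter hv).isCompact
  obtain ⟨U, hUc, hUo, hBU, hUv⟩ := PrespectralSpace.exists_isCompact_and_isOpen_between hB
    hv.isOpen_compl (fun z hz => fun hzv => Set.disjoint_left.1 huv hz.2 hzv)
  obtain ⟨V, hVc, hVo, hCV, hVu⟩ := PrespectralSpace.exists_isCompact_and_isOpen_between hC
    hu.isOpen_compl (fun z hz => fun hzu => Set.disjoint_left.1 huv hzu hz.2)
  have hSUV : S ⊆ U ∪ V := by
    intro z hz
    rcases hSuv hz with h | h
    · exact Or.inl (hBU ⟨hz, h⟩)
    · exact Or.inr (hCV ⟨hz, h⟩)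
  have hUVS : (U ∩ V) ∩ S = ∅ := by
    apply Set.eq_empty_of_forall_notMem
    rintro z ⟨⟨hzU, hzV⟩, hzS⟩
    rcases hSuv hzS with h | h
    · exact hVu hzV h
    · exact hUv hzU h
  obtain ⟨Z1, hZ1, hZ1e⟩ := hfin (U ∪ V)ᶜ (hUo.union hVo).isClosed_compl.isCompact (by
    apply Set.eq_empty_of_forall_notMem
    rintro z ⟨hz1, hz2⟩
    exact hz1 (hSUV hz2))
  obtain ⟨Z2, hZ2, hZ2e⟩ := hfin (U ∩ V)
    (QuasiSeparatedSpace.inter_isCompact U V hUo hUc hVo hVc) hUVS
  set Z := Z1 ∩ Z2 with hZ
  have hZclopen : IsClopen Z := hZ1.1.inter hZ2.1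
  have hxZ : x ∈ Z := ⟨hZ1.2, hZ2.2⟩
  have hZUV : Z ⊆ U ∪ V := by
    intro z hz
    by_contra h
    have : z ∈ (U ∪ V)ᶜ ∩ Z1 := ⟨h, hz.1⟩
    rw [hZ1e] at this
    exact this
  have hZdisj : ∀ z, z ∈ Z → z ∈ U → z ∈ V → False := by
    intro z hz hzU hzV
    have : z ∈ (U ∩ V) ∩ Z2 := ⟨⟨hzU, hzV⟩, hz.2⟩
    rw [hZ2e] at this
    exact this
  have hZU : IsClopen (Z ∩ U) := by
    refine ⟨?_, hZclopen.isOpen.inter hUo⟩
    have : Z ∩ U = Z ∩ Vᶜ := by
      ext z
      constructor
      · rintro ⟨hz, hzU⟩
        exact ⟨hz, fun hzV => hZdisj z hz hzU hzV⟩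
      · rintro ⟨hz, hzV⟩
        rcases hZUV hz with h | h
        · exact ⟨hz, h⟩
        · exact absurd h hzV
    rw [this]
    exact hZclopen.isClosed.inter hVo.isClosed_compl
  have hZV : IsClopen (Z ∩ V) := by
    refine ⟨?_, hZclopen.isOpen.inter hVo⟩
    have : Z ∩ V = Z ∩ Uᶜ := by
      ext z
      constructor
      · rintro ⟨hz, hzV⟩
        exact ⟨hz, fun hzU => hZdisj z hz hzU hzV⟩
      · rintro ⟨hz, hzU⟩
        rcases hZUV hz with h | h
        · exact absurd h hzU
        · exact ⟨hz, h⟩
    rw [this]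
    exact hZclopen.isClosed.inter hUo.isClosed_compl
  rcases hSuv hxS with hxu | hxv
  · left
    have hxU : x ∈ U := hBU ⟨hxS, hxu⟩
    have hSsub : S ⊆ Z ∩ U := Set.sInter_subset_of_mem (show Z ∩ U ∈ 𝒵 from ⟨hZU, hxZ, hxU⟩)
    intro z hz
    rcases hSuv hz with h | h
    · exact h
    · exact (hZdisj z (hSsub hz).1 (hSsub hz).2 (hCV ⟨hz, h⟩)).elim
  · right
    have hxV : x ∈ V := hCV ⟨hxS, hxv⟩
    have hSsub : S ⊆ Z ∩ V := Set.sInter_subset_of_mem (show Z ∩ V ∈ 𝒵 from ⟨hZV, hxZ, hxV⟩)
    intro z hz
    rcases hSuv hz with h | h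
    · exact (hZdisj z (hSsub hz).1 (hBU ⟨hz, h⟩) (hSsub hz).2).elim
    · exact h


theorem spectralSpace_of_profinite (T : Type u) [TopologicalSpace T] [CompactSpace T] [T2Space T]
    [TotallyDisconnectedSpace T] : SpectralSpace T := by
  have : PrespectralSpace T :=
    PrespectralSpace.of_isTopologicalBasis (isTopologicalBasis_isClopen (X := T))
      (fun U hU => hU.isClosed.isCompact)
  exact {}

theorem t2_connectedComponents (X : Type u) [TopologicalSpace X] [SpectralSpace X] :
    T2Space (ConnectedComponents X) :=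
  Groth.Agent.S7584.result X (fun x => connectedComponent_eq_sInter_isClopen x)

abbrev YY {X T : Type u} [TopologicalSpace X] [TopologicalSpace T]
    (g : C(T, _root_.ConnectedComponents X)) :=
  {p : X × T // _root_.ConnectedComponents.mk p.1 = g p.2}

theorem main (X T : Type u) [TopologicalSpace X] [SpectralSpace X]
    [TopologicalSpace T] [CompactSpace T] [T2Space T] [TotallyDisconnectedSpace T]
    (g : C(T, _root_.ConnectedComponents X)) :
    SpectralSpace {p : X × T // _root_.ConnectedComponents.mk p.1 = g p.2} ∧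
      ∃ e : _root_.ConnectedComponents {p : X × T // _root_.ConnectedComponents.mk p.1 = g p.2} ≃ₜ T,
        ∀ y : {p : X × T // _root_.ConnectedComponents.mk p.1 = g p.2},
          e (_root_.ConnectedComponents.mk y) = y.1.2 := by
  have hT : SpectralSpace T := spectralSpace_of_profinite T
  have hXT : SpectralSpace (X × T) := Groth.Agent.S7529.result X T
  have hT2 : T2Space (ConnectedComponents X) := t2_connectedComponents X
  have hclosed : IsClosed {p : X × T | _root_.ConnectedComponents.mk p.1 = g p.2} :=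
    isClosed_eq (ConnectedComponents.continuous_coe.comp continuous_fst)
      (g.continuous.comp continuous_snd)
  have hY : SpectralSpace {p : X × T // _root_.ConnectedComponents.mk p.1 = g p.2} :=
    Groth.Agent.S7525.result {p : X × T | _root_.ConnectedComponents.mk p.1 = g p.2}
      (Groth.Agent.Lib.helper11.Spec.isClosed_constr_of_isClosed hclosed)
  refine ⟨hY, ?_⟩
  have hq : Continuous (fun y : YY g => y.1.2) := continuous_snd.comp continuous_subtype_val
  let ē : ConnectedComponents (YY g) → T := hq.connectedComponentsLift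
  have hē : Continuous ē := hq.connectedComponentsLift_continuous
  have hēmk : ∀ y : YY g, ē (ConnectedComponents.mk y) = y.1.2 := fun y =>
    hq.connectedComponentsLift_apply_coe y
  have hsurj : Function.Surjective ē := by
    intro t
    obtain ⟨x, hx⟩ := ConnectedComponents.surjective_coe (g t)
    exact ⟨ConnectedComponents.mk (⟨(x, t), hx⟩ : YY g), hēmk _⟩
  have hinj : Function.Injective ē := by
    intro a b hab
    obtain ⟨y, rfl⟩ := ConnectedComponents.surjective_coe a
    obtain ⟨y', rfl⟩ := ConnectedComponents.surjective_coe b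
    change ē (ConnectedComponents.mk y) = ē (ConnectedComponents.mk y') at hab
    rw [hēmk, hēmk] at hab
    obtain ⟨⟨x, t⟩, hy⟩ := y
    obtain ⟨⟨x', t'⟩, hy'⟩ := y'
    simp only at hab hy hy'
    subst hab
    have hxx' : x' ∈ connectedComponent x := by
      rw [← ConnectedComponents.coe_eq_coe']
      exact hy'.trans hy.symm
    have hmem : ∀ z : connectedComponent x, ConnectedComponents.mk z.1 = g t := by
      intro z
      rw [← hy]
      exact ConnectedComponents.coe_eq_coe'.2 z.2
    let ι : connectedComponent x → YY g := fun z => ⟨(z.1, t), hmem z⟩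
    have hι : Continuous ι :=
      Continuous.subtype_mk (Continuous.prodMk continuous_subtype_val continuous_const) _
    have : PreconnectedSpace (connectedComponent x) :=
      isPreconnected_iff_preconnectedSpace.1 isPreconnected_connectedComponent
    have hpre : IsPreconnected (Set.range ι) := isPreconnected_range hι
    have h1 : (⟨(x, t), hy⟩ : YY g) ∈ Set.range ι := ⟨⟨x, mem_connectedComponent⟩, rfl⟩
    have h2 : (⟨(x', t), hy'⟩ : YY g) ∈ Set.range ι := ⟨⟨x', hxx'⟩, rfl⟩
    have := hpre.subset_connectedComponent h1 h2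
    exact (ConnectedComponents.coe_eq_coe'.2 this).symm
  have hcpt : CompactSpace (ConnectedComponents (YY g)) := inferInstance
  let e : ConnectedComponents (YY g) ≃ₜ T :=
    Continuous.homeoOfEquivCompactToT2 (f := Equiv.ofBijective ē ⟨hinj, hsurj⟩) hē
  exact ⟨e, fun y => hēmk y⟩

end Helpers

/-- Let X be a spectral space, T a profinite space and g : T -> pi_0(X) continuous; let Y be the fibre
product of X and T over pi_0(X) (pairs (x, t) with [x] = g t, subspace topology). Then Y is spectral
and the projection Y -> T induces a homeomorphism pi_0(Y) = T. -/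
theorem result (X T : Type u) [TopologicalSpace X] [SpectralSpace X]
    [TopologicalSpace T] [CompactSpace T] [T2Space T] [TotallyDisconnectedSpace T]
    (g : C(T, _root_.ConnectedComponents X)) :
    SpectralSpace {p : X × T // _root_.ConnectedComponents.mk p.1 = g p.2} ∧
      ∃ e : _root_.ConnectedComponents {p : X × T // _root_.ConnectedComponents.mk p.1 = g p.2} ≃ₜ T,
        ∀ y : {p : X × T // _root_.ConnectedComponents.mk p.1 = g p.2}, e (_root_.ConnectedComponents.mk y) = y.1.2 := by
  exact main X T g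

end Groth.Agent.S0703
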