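import Groth.Statements.S0008
import Groth.Agent.Lib.helper18.TildeCech

set_option autoImplicit false
universe u
open Coherent

namespace Groth.Agent.S0008

open AlgebraicGeometry in
/-- For a ring A, an A-module M and elements f_1, …, f_n generating the unit ideal, the Čech cohomology
of the associated module on Spec A with respect to the covering by the basic opens D(f_i) vanishes
in every positive degree. -/
theorem result (A : Type u) [CommRing A] (M : ModuleCat.{u} A)
    (n : ℕ) (f : ULift.{u} (Fin n) → A) (hf : Ideal.span (Set.range f) = ⊤) (p : ℕ) (hp : 0 < p) :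
    CategoryTheory.Limits.IsZero (CohB1.cechH (fun i => PrimeSpectrum.basicOpen (f i)) (tilde (R := CommRingCat.of A) M) p) := by
  obtain ⟨m, rfl⟩ : ∃ m, p = m + 1 := ⟨p - 1, by omega⟩
  have hcov : (⨆ i, PrimeSpectrum.basicOpen (f i)) = PrimeSpectrum.basicOpen (1 : A) := by
    rw [PrimeSpectrum.basicOpen_one]
    exact PrimeSpectrum.iSup_basicOpen_eq_top_iff.mpr hf
  have h := Groth.Agent.H18.TildeCech.exactAt_qcoh (R := CommRingCat.of A)
    (tilde (R := CommRingCat.of A) M) f (1 : A)
    (fun i => PrimeSpectrum.basicOpen (f i)) (fun i => rfl) hcov m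
  exact (HomologicalComplex.exactAt_iff_isZero_homology _ _).1 h

end Groth.Agent.S0008
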