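import Groth.Statements.S0010
import Groth.Agent.Lib.helper18.AffCount

set_option autoImplicit false
universe u
open Coherent

namespace Groth.Agent.S0010

open AlgebraicGeometry in
/-- Let X be a scheme in which the intersection of any two affine opens is affine (equivalently, X has
affine diagonal; e.g. X separated), covered by t affine opens. Then H^n(X, F) = 0 for every
quasi-coherent F and every n ≥ t. -/
theorem result (X : Scheme.{u}) (t : ℕ) (U : Fin t → X.Opens)
    (hU : ∀ i, IsAffineOpen (U i)) (hcov : ⨆ i, U i = ⊤)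
    (hd : ∀ V W : X.Opens, IsAffineOpen V → IsAffineOpen W → IsAffineOpen (V ⊓ W))
    (M : X.Modules) [Coh.IsQCoh M] (n : ℕ) (hn : t ≤ n) :
    Subsingleton (Coh.HH X M n) := by
  by_cases h1 : 1 ≤ n
  · have h := Groth.Agent.H18.AffCount.vanish M hd t U hU n hn h1
    rw [hcov] at h
    exact Groth.Agent.H18.ProfAcyc.subsingleton_H_of_HU (X := X.carrier) (Coh.toAb M) n h
  · have hn0 : n = 0 := by omega
    subst hn0
    have ht : t = 0 := by omega
    subst ht
    have hbot : (⊤ : X.Opens) = ⊥ := by rw [← hcov]; exact iSup_of_empty U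
    have hsub : Subsingleton ((Coh.toAb M).obj.obj (Opposite.op (⊤ : X.Opens))) :=
      Groth.Agent.H18.ClosedPush.subsingleton_sections_of_eq_bot (X := X.carrier) (Coh.toAb M) hbot
    exact (CategoryTheory.Sheaf.H.equiv₀ (Coh.toAb M) (T := (⊤ : X.Opens))
      CategoryTheory.Limits.isTerminalTop).toEquiv.subsingleton

end Groth.Agent.S0010
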