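import Groth.Statements.S0013
import Groth.Agent.Lib.helper18.AffVanish
import Groth.Agent.Lib.helper18.HUTop

set_option autoImplicit false
universe u
open Coherent

namespace Groth.Agent.S0013

open AlgebraicGeometry in
/-- Let X be a scheme with an open covering all of whose nonempty finite intersections are affine. For a
quasi-coherent module M and every degree p, Čech cohomology with respect to this covering is
isomorphic to sheaf cohomology; only the existence of an isomorphism of additive groups is asserted
(the published statement gives an isomorphism of modules over the global sections). -/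
theorem result (X : Scheme.{u}) {ι : Type u}
    (U : ι → X.Opens) (hcov : ⨆ i, U i = ⊤)
    (hU : ∀ s : Finset ι, s.Nonempty → IsAffineOpen (⨅ i ∈ s, U i))
    (M : X.Modules) [Coh.IsQCoh M] (p : ℕ) :
    Nonempty (↑(CohB1.cechH U M p) ≃+ Coh.HH X M p) := by
  classical
  have h : ∀ (n : ℕ) (a : Fin (n + 1) → ι) (q : ℕ),
      Subsingleton (CohTop.HU (X := X.carrier) (Coh.toAb M) (q + 1) (iInf fun k => U (a k))) := by
    intro n a q
    let s : Finset ι := Finset.image a Finset.univ
    have hs : s.Nonempty := ⟨a 0, Finset.mem_image.2 ⟨0, Finset.mem_univ _, rfl⟩⟩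
    have hV : IsAffineOpen (⨅ i ∈ s, U i) := hU s hs
    have e : (iInf fun k => U (a k)) = ⨅ i ∈ s, U i := by
      show (⨅ k, U (a k)) = ⨅ i ∈ Finset.image a Finset.univ, U i
      rw [Finset.iInf_finset_image]
      exact iInf_congr (fun k => by rw [iInf_pos (Finset.mem_univ k)])
    have h1 := Groth.Agent.H18.AffVanish.main (f := hV.fromSpec) M q
    rw [hV.opensRange_fromSpec, ← e] at h1
    exact h1
  obtain ⟨e1⟩ := Groth.Agent.H18.CechTop.cech_iso_top (X := X.carrier) U (Coh.toAb M) h p
  have hcov' : iSup U = ⊤ := hcov
  rw [hcov'] at e1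
  exact ⟨e1.trans (Groth.Agent.H18.HUTop.HUtopEquiv (X := X.carrier) (Coh.toAb M) p).symm⟩

end Groth.Agent.S0013
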