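import Groth.Statements.S0015
import Mathlib.AlgebraicGeometry.Morphisms.Affine
import Mathlib.AlgebraicGeometry.Morphisms.QuasiSeparated

set_option autoImplicit false
universe u
open Coherent

namespace Groth.Agent.S0015

open AlgebraicGeometry CategoryTheory in
/-- Inside an affine open, intersections of affine opens are affine. -/
theorem isAffineOpen_inf_of_le {X : Scheme.{u}} {A V₁ V₂ : X.Opens} (hA : IsAffineOpen A)
    (h₁ : V₁ ≤ A) (h₂ : V₂ ≤ A) (hV₁ : IsAffineOpen V₁) (hV₂ : IsAffineOpen V₂) :
    IsAffineOpen (V₁ ⊓ V₂) := by
  have : IsAffineHom (Limits.pullback.diagonal (𝟙 X)) := inferInstance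
  exact (isAffineHom_diagonal_iff (f := 𝟙 X)).mp this A hA V₁ (by simpa using h₁) V₂
    (by simpa using h₂) hV₁ hV₂

open AlgebraicGeometry in
/-- Let X be quasi-compact and quasi-separated and P a property of opens of X. If P holds for affine
opens, and P(U ∪ V) follows from P(U), P(V), P(U ∩ V) whenever U is quasi-compact open and V affine
open, then P holds for every quasi-compact open, in particular for X. -/
theorem result (X : Scheme.{u}) [CompactSpace X] [QuasiSeparatedSpace X]
    (P : X.Opens → Prop) (h₁ : ∀ U : X.Opens, IsAffineOpen U → P U)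
    (h₂ : ∀ U V : X.Opens, IsCompact (U : Set X) → IsAffineOpen V → P U → P V → P (U ⊓ V) →
      P (U ⊔ V))
    (U : X.Opens) (hU : IsCompact (U : Set X)) : P U := by
  -- Stage 1: finite unions of affine opens inside a fixed affine open.
  have stage1 : ∀ (A : X.Opens), IsAffineOpen A → ∀ n : ℕ, ∀ s : Finset X.affineOpens,
      s.card ≤ n → (∀ i ∈ s, (i : X.Opens) ≤ A) → P (s.sup (fun i => (i : X.Opens))) := by
    intro A hA n
    induction n with
    | zero =>
      intro s hs _
      have : s = ∅ := by simpa using hs
      subst this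
      simpa using h₁ ⊥ (isAffineOpen_bot X)
    | succ n ih =>
      intro s hs hsA
      classical
      rcases s.eq_empty_or_nonempty with rfl | ⟨a, ha⟩
      · simpa using h₁ ⊥ (isAffineOpen_bot X)
      · obtain ⟨t, hat, rfl⟩ : ∃ t, a ∉ t ∧ s = insert a t :=
          ⟨s.erase a, Finset.notMem_erase a s, (Finset.insert_erase ha).symm⟩
        have htcard : t.card ≤ n := by
          rw [Finset.card_insert_of_notMem hat] at hs; omega
        have htA : ∀ i ∈ t, (i : X.Opens) ≤ A := fun i hi => hsA i (Finset.mem_insert_of_mem hi)
        have haA : (a : X.Opens) ≤ A := hsA a (Finset.mem_insert_self a t)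
        rw [Finset.sup_insert, sup_comm]
        have hcompact : ∀ t' : Finset X.affineOpens,
            IsCompact ((t'.sup (fun i => (i : X.Opens)) : X.Opens) : Set X) := by
          intro t'
          rw [isCompact_iff_finite_and_eq_biUnion_affineOpens]
          refine ⟨(t' : Set X.affineOpens), t'.finite_toSet, ?_⟩
          rw [Finset.sup_eq_iSup]
          simp
        refine h₂ _ _ (hcompact t) a.2 (ih t htcard htA) (h₁ _ a.2) ?_
        -- the intersection is again a union of at most `n` affine opens inside `A`
        let g : X.affineOpens → X.affineOpens := fun i =>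
          if h : (i : X.Opens) ≤ A then
            ⟨(i : X.Opens) ⊓ (a : X.Opens), isAffineOpen_inf_of_le hA h haA i.2 a.2⟩
          else i
        have hg : ∀ i ∈ t, ((g i : X.affineOpens) : X.Opens) = (i : X.Opens) ⊓ (a : X.Opens) := by
          intro i hi
          simp only [g, dif_pos (htA i hi)]
        have key : (t.sup (fun i => (i : X.Opens))) ⊓ (a : X.Opens) =
            (t.image g).sup (fun i => (i : X.Opens)) := by
          rw [Finset.sup_image, Finset.sup_inf_distrib_right]
          exact Finset.sup_congr rfl (fun i hi => (hg i hi).symm)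
        rw [key]
        refine ih _ (Finset.card_image_le.trans htcard) ?_
        intro j hj
        obtain ⟨i, hi, rfl⟩ := Finset.mem_image.mp hj
        rw [hg i hi]
        exact inf_le_right.trans haA
  have stage1' : ∀ (A : X.Opens), IsAffineOpen A → ∀ W : X.Opens, IsCompact (W : Set X) →
      W ≤ A → P W := by
    intro A hA W hW hWA
    obtain ⟨s, hs, rfl⟩ := isCompact_iff_finite_and_eq_biUnion_affineOpens.mp hW
    have : (⨆ i ∈ s, (i : X.Opens)) = hs.toFinset.sup (fun i => (i : X.Opens)) := by
      rw [Finset.sup_eq_iSup]
      simp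
    rw [this]
    refine stage1 A hA _ _ le_rfl ?_
    intro i hi
    have hi' : i ∈ s := by simpa using hi
    exact (le_iSup₂ (f := fun (i : X.affineOpens) (_ : i ∈ s) => (i : X.Opens)) i hi').trans hWA
  -- Stage 2: general quasi-compact opens.
  refine compact_open_induction_on (P := P) U hU (h₁ ⊥ (isAffineOpen_bot X)) ?_
  intro S hS V hPS
  refine h₂ S V hS V.2 hPS (h₁ _ V.2) (stage1' V V.2 _ ?_ inf_le_right)
  exact QuasiSeparatedSpace.inter_isCompact _ _ S.2 hS V.1.2 V.2.isCompact

end Groth.Agent.S0015
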