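import Groth.Statements.S0016
import Groth.Agent.Lib.helper18.QcqsVanish

set_option autoImplicit false
universe u
open Coherent

namespace Groth.Agent.S0016

open AlgebraicGeometry in
/-- For a quasi-compact quasi-separated scheme X there is a natural number d such that H^p(X, F) = 0 for
every quasi-coherent F and every p ≥ d; vanishing is stated as Subsingleton of the cohomology group.
(The published statement gives an explicit d in terms of a covering by quasi-compact separated
opens; here only existence of some d is asserted.) -/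
theorem result (X : Scheme.{u}) [CompactSpace X]
    [QuasiSeparatedSpace X] :
    ∃ d : ℕ, ∀ (M : X.Modules), Coh.IsQCoh M → ∀ p : ℕ, d ≤ p → Subsingleton (Coh.HH X M p) := by
  classical
  obtain ⟨t, ht⟩ := isCompact_univ.elim_finite_subcover
    (fun V : X.affineOpens => ((V : X.Opens) : Set X)) (fun V => V.1.2) (by
      intro x _
      obtain ⟨V, hV, hxV, -⟩ := TopologicalSpace.Opens.isBasis_iff_nbhd.mp
        (Scheme.isBasis_affineOpens X) (TopologicalSpace.Opens.mem_top x)
      exact Set.mem_iUnion.2 ⟨⟨V, hV⟩, hxV⟩)
  have hs : ∀ V ∈ t.image (Subtype.val : X.affineOpens → X.Opens), IsAffineOpen V := by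
    intro V hV
    obtain ⟨V', _, rfl⟩ := Finset.mem_image.mp hV
    exact V'.2
  have htop : (t.image (Subtype.val : X.affineOpens → X.Opens)).sup id = ⊤ := by
    apply top_le_iff.mp
    intro x _
    obtain ⟨V, hVt, hxV⟩ := Set.mem_iUnion₂.1 (ht (Set.mem_univ x))
    have hle : (V : X.Opens) ≤ (t.image (Subtype.val : X.affineOpens → X.Opens)).sup id :=
      Finset.le_sup (f := id) (Finset.mem_image_of_mem (Subtype.val : X.affineOpens → X.Opens) hVt)
    exact SetLike.le_def.mp hle hxV
  obtain ⟨-, d, hd1, hd⟩ := Groth.Agent.H18.QcqsVanish.vanish_qs _ hs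
  refine ⟨d, fun M hM p hp => ?_⟩
  have h := hd M hM p hp
  rw [htop] at h
  exact Groth.Agent.H18.ProfAcyc.subsingleton_H_of_HU (X := X.carrier) (Coh.toAb M) p h

end Groth.Agent.S0016
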