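import Groth.Statements.S0019
import Groth.Agent.Lib.helper9.FinAff
import Groth.Agent.Lib.helper9.FPLocal2
import Mathlib.AlgebraicGeometry.Morphisms.Finite

set_option autoImplicit false
universe u
open Coherent

namespace Groth.Agent.S0019

open AlgebraicGeometry CategoryTheory Opposite TopologicalSpace Scheme.Modules
  Groth.Agent.Lib.helper9.CohB Groth.Agent.Lib.helper9.AffSect
  Groth.Agent.Lib.helper9.QcohLoc Groth.Agent.Lib.helper9.PushAff
  Groth.Agent.Lib.helper9.FinAff in
set_option backward.isDefEq.respectTransparency false in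
lemma finite_Γmod_pushforward {X Y : Scheme.{u}} (f : X ⟶ Y) [IsFinite f] (M : X.Modules)
    [M.IsQuasicoherent] [SheafOfModules.IsFiniteType.{u} M] {W : Y.Opens}
    (hW : IsAffineOpen W) :
    Module.Finite Γ(Y, W) (Γmod (((pushforward f).obj M).restrict hW.fromSpec)) := by
  have hU' : IsAffineOpen (f ⁻¹ᵁ (hW.fromSpec ''ᵁ ⊤)) := by
    rw [image_top hW]
    exact hW.preimage f
  have hV' : IsAffineOpen (hW.fromSpec ''ᵁ ⊤) := by
    rw [image_top hW]
    exact hW
  haveI := finite_Γmod M hU'
  haveI hfinU : Module.Finite Γ(X, f ⁻¹ᵁ (hW.fromSpec ''ᵁ ⊤))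
      Γ(M, f ⁻¹ᵁ (hW.fromSpec ''ᵁ ⊤)) := finite_sections M hU'
  have h1 : (f.app (hW.fromSpec ''ᵁ ⊤)).hom.Finite := IsFinite.finite_app f _ hV'
  have h2 : (Y.presheaf.map (homOfLE (image_le hW ⊤)).op).hom.Finite := by
    apply RingHom.Finite.of_surjective
    intro z
    refine ⟨Y.presheaf.map (homOfLE (le_of_eq (image_top hW).symm)).op z, ?_⟩
    exact (ringMap_map _ _ z).trans (ringMap_self _ z)
  exact finite_of_smul_eq
    ((f.app (hW.fromSpec ''ᵁ ⊤)).hom.comp (Y.presheaf.map (homOfLE (image_le hW ⊤)).op).hom)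
    (h1.comp h2)
    (N := Γ(M, f ⁻¹ᵁ (hW.fromSpec ''ᵁ ⊤)))
    { toFun := fun x => x
      invFun := fun x => x
      left_inv := fun _ => rfl
      right_inv := fun _ => rfl
      map_add' := fun _ _ => rfl }
    (fun c x => smul_H f M hW ⊤ c x)

open AlgebraicGeometry CategoryTheory Opposite TopologicalSpace Scheme.Modules
  Groth.Agent.Lib.helper9.CohB Groth.Agent.Lib.helper9.AffSect
  Groth.Agent.Lib.helper9.QcohLoc Groth.Agent.Lib.helper9.PushAff
  Groth.Agent.Lib.helper9.FinAff in
set_option backward.isDefEq.respectTransparency false in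
lemma main {X Y : Scheme.{u}} (f : X ⟶ Y) [IsFinite f] [IsLocallyNoetherian Y]
    (M : X.Modules) (hM : Coh.IsCoh M) : Coh.IsCoh ((Coh.push f).obj M) := by
  obtain ⟨hqc, hft⟩ := hM
  haveI : M.IsQuasicoherent := hqc
  haveI : SheafOfModules.IsFiniteType.{u} M := hft
  haveI hPqc : ((pushforward f).obj M).IsQuasicoherent := isQuasicoherent_pushforward f M
  refine ⟨hPqc, ?_⟩
  haveI : SheafOfModules.IsFinitePresentation.{u} ((pushforward f).obj M) := by
    apply Groth.Agent.Lib.helper9.FPLocal.isFinitePresentation_of_forall_exists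
    intro y
    obtain ⟨W, hW, hyW, -⟩ := exists_isAffineOpen_mem_and_subset (x := y) (U := ⊤) trivial
    refine ⟨W, hW, hyW, ?_⟩
    haveI : IsNoetherianRing Γ(Y, W) := IsLocallyNoetherian.component_noetherian ⟨W, hW⟩
    haveI := finite_Γmod_pushforward f M hW
    exact Module.finitePresentation_of_finite _ _
  show SheafOfModules.IsFiniteType.{u} ((pushforward f).obj M)
  infer_instance


open AlgebraicGeometry in
/-- If f : X → Y is a finite morphism of schemes with Y locally Noetherian and F is a coherent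
O_X-module, then the direct image f_*F is a coherent O_Y-module. -/
theorem result {X Y : Scheme.{u}} (f : X ⟶ Y) [IsFinite f] [IsLocallyNoetherian Y]
    (M : X.Modules) (hM : Coh.IsCoh M) : Coh.IsCoh ((Coh.push f).obj M) := by
  exact main f M hM

end Groth.Agent.S0019
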