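import Groth.Statements.S0020
import Groth.Agent.Lib.helper9.FT1

set_option autoImplicit false
universe u
open Coherent

namespace Groth.Agent.S0020

open AlgebraicGeometry in
/-- On a scheme X, the set of points at which the stalk of a finite type 𝒪_X-module M is nonzero (the
support of M) is closed. -/
theorem result (X : Scheme.{u}) (M : X.Modules) (hM : CohB1.IsFT M) :
    IsClosed (CohB1.support M) := by
  haveI : SheafOfModules.IsFiniteType.{u} M := hM
  rw [← isOpen_compl_iff, isOpen_iff_forall_mem_open]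
  intro x hx
  have hx' : Subsingleton (M.presheaf.stalk x) := not_not.mp hx
  obtain ⟨I, W, hcov, hW⟩ := Groth.Agent.Lib.helper9.CohB.exists_isOpenCover_generatingSections M
  obtain ⟨i, hi⟩ : ∃ i, x ∈ W i := by
    have : x ∈ (⨆ i, W i : X.Opens) := by
      rw [show (⨆ i, W i : X.Opens) = ⊤ from hcov]; trivial
    exact TopologicalSpace.Opens.mem_iSup.mp this
  obtain ⟨σ, hσ⟩ := hW i (W i) le_rfl
  haveI : Finite σ.I := hσ.finite
  obtain ⟨S, hSopen, hS1, hS2⟩ :=
    Groth.Agent.Lib.helper9.FT.isOpen_subsingleton_stalk (M.restrict (W i).ι) σ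
  have hiso : ∀ y : (W i).toScheme, Subsingleton ((M.restrict (W i).ι).presheaf.stalk y) ↔
      Subsingleton (M.presheaf.stalk ((W i).ι.base y)) := by
    intro y
    let e := (Scheme.Modules.restrictStalkNatIso (W i).ι y).app M
    constructor
    · intro h
      exact @Function.Injective.subsingleton _ _ _
        (CategoryTheory.ConcreteCategory.bijective_of_isIso e.inv).1 h
    · intro h
      exact @Function.Injective.subsingleton _ _ _
        (CategoryTheory.ConcreteCategory.bijective_of_isIso e.hom).1 h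
  refine ⟨(W i).ι.base '' S, ?_, (W i).ι.isOpenEmbedding.isOpenMap _ hSopen, ⟨⟨x, hi⟩, ?_, rfl⟩⟩
  · rintro _ ⟨y, hy, rfl⟩
    have h2 := (hiso y).mp (hS1 y hy)
    exact fun hns => hns h2
  · exact hS2 _ ((hiso ⟨x, hi⟩).mpr hx')

end Groth.Agent.S0020
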