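import Groth.Statements.S0022
import Groth.Agent.S0010

set_option autoImplicit false
universe u
open Coherent

namespace Groth.Agent.S0022

open AlgebraicGeometry in
/-- For any ring R, any quasi-coherent module F on projective space ℙ^n_R and any i > n, H^i(ℙ^n_R, F) =
0. (The published statement is for coherent modules over a Noetherian ring; it is stated here for
quasi-coherent modules over any ring.) -/
theorem result (n : ℕ) (R : Type u) [CommRing R]
    (M : (CohB1.ProjSpace n R).Modules) [Coh.IsQCoh M] (i : ℕ) (hi : n < i) :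
    Subsingleton (Coh.HH (CohB1.ProjSpace n R) M i) := by
  classical
  have hsep : Scheme.IsSeparated (CohB1.ProjSpace n R) := by
    unfold CohB1.ProjSpace; infer_instance
  have hdeg : ∀ j : Fin (n + 1),
      (MvPolynomial.X j : MvPolynomial (Fin (n + 1)) R) ∈ CohB1.polyGrading n R 1 :=
    fun j => MvPolynomial.isHomogeneous_X R j
  let U : Fin (n + 1) → (CohB1.ProjSpace n R).Opens := fun j =>
    (Proj.basicOpen (CohB1.polyGrading n R) (MvPolynomial.X j) : (Proj (CohB1.polyGrading n R)).Opens)
  have hU : ∀ j, IsAffineOpen (U j) := fun j =>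
    Proj.isAffineOpen_basicOpen (CohB1.polyGrading n R) (MvPolynomial.X j) (hdeg j) one_pos
  have hadj : Algebra.adjoin (CohB1.polyGrading n R 0)
      (Set.range fun j : Fin (n + 1) => (MvPolynomial.X j : MvPolynomial (Fin (n + 1)) R)) = ⊤ := by
    have key : ∀ p : MvPolynomial (Fin (n + 1)) R, p ∈ Algebra.adjoin (CohB1.polyGrading n R 0)
        (Set.range fun j : Fin (n + 1) => (MvPolynomial.X j : MvPolynomial (Fin (n + 1)) R)) := by
      intro p
      induction p using MvPolynomial.induction_on with
      | C a =>
        have hC : (MvPolynomial.C a : MvPolynomial (Fin (n + 1)) R) =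
            algebraMap (CohB1.polyGrading n R 0) _
              ⟨MvPolynomial.C a, MvPolynomial.isHomogeneous_C _ a⟩ := rfl
        rw [hC]
        exact Subalgebra.algebraMap_mem _ _
      | add p q hp hq => exact Subalgebra.add_mem _ hp hq
      | mul_X p j hp => exact Subalgebra.mul_mem _ hp (Algebra.subset_adjoin ⟨j, rfl⟩)
    exact eq_top_iff.mpr (fun p _ => key p)
  have hcov : ⨆ j, U j = ⊤ :=
    Proj.iSup_basicOpen_eq_top' (CohB1.polyGrading n R) _ (fun j => ⟨1, hdeg j⟩) hadj
  have hd : ∀ V W : (CohB1.ProjSpace n R).Opens, IsAffineOpen V → IsAffineOpen W →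
      IsAffineOpen (V ⊓ W) := fun V W hV hW => hV.inf hW
  exact Groth.Agent.S0010.result (CohB1.ProjSpace n R) (n + 1) U hU hcov hd M i (by omega)

end Groth.Agent.S0022
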