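import Groth.Statements.S0045
import Groth.Agent.Lib.helper9.QcohIso

set_option autoImplicit false
universe u
open Coherent

namespace Groth.Agent.S0045

open AlgebraicGeometry CategoryTheory in
/-- On a Noetherian scheme, any increasing sequence of quasi-coherent submodules of a coherent module is
eventually constant. -/
theorem result (X : Scheme.{u}) [IsNoetherian X] (M : X.Modules)
    (hM : Coh.IsCoh M) (F : ℕ →o Subobject M) (hF : ∀ n, Coh.IsQCoh ((F n : Subobject M) : X.Modules)) :
    ∃ n : ℕ, ∀ m : ℕ, n ≤ m → F m = F n := by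
  classical
  obtain ⟨hqcM, hftM⟩ := hM
  haveI : M.IsQuasicoherent := hqcM
  haveI : SheafOfModules.IsFiniteType.{u} M := hftM
  -- good affine neighbourhoods
  have hgood := fun x : X => Groth.Agent.Lib.helper9.CohB.exists_good_affine M x
  choose W hW hxW hNoeth hfin using hgood
  -- the chain of submodules of sections over `W x`
  let S : ∀ x : X, ℕ →o Submodule Γ(X, W x) Γ(M, W x) := fun x =>
    { toFun := fun n => LinearMap.range (Groth.Agent.Lib.helper9.FPLocal.appLin (F n).arrow (W x))
      monotone' := by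
        intro n m hnm
        rintro _ ⟨a, rfl⟩
        refine ⟨Groth.Agent.Lib.helper9.FPLocal.appLin
          (Subobject.ofLE (F n) (F m) (F.monotone hnm)) (W x) a, ?_⟩
        have h1 : Subobject.ofLE (F n) (F m) (F.monotone hnm) ≫ (F m).arrow = (F n).arrow :=
          Subobject.ofLE_arrow _
        have h2 := congrArg (fun ψ => Scheme.Modules.Hom.app ψ (W x)) h1
        exact congr($h2 a) }
  have hstab : ∀ x : X, ∃ n, ∀ m, n ≤ m → S x n = S x m := by
    intro x
    haveI := hNoeth x
    haveI := hfin x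
    haveI : Module.Finite Γ(X, W x) Γ(M, W x) :=
      Groth.Agent.Lib.helper9.AffSect.finite_sections M (hW x)
    haveI : IsNoetherian Γ(X, W x) Γ(M, W x) := isNoetherian_of_isNoetherianRing_of_finite _ _
    exact monotone_stabilizes_iff_noetherian.mpr inferInstance (S x)
  choose n₀ hn₀ using hstab
  -- finite subcover
  obtain ⟨t, ht⟩ := isCompact_univ.elim_finite_subcover (fun x : X => ((W x : X.Opens) : Set X))
    (fun x => (W x).isOpen) (fun z _ => Set.mem_iUnion.mpr ⟨z, hxW z⟩)
  refine ⟨t.sup n₀, fun m hm => ?_⟩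
  set N := t.sup n₀ with hN
  have hle : F N ≤ F m := F.monotone hm
  let φ := Subobject.ofLE (F N) (F m) hle
  have hφ : φ ≫ (F m).arrow = (F N).arrow := Subobject.ofLE_arrow _
  haveI : ((F N : Subobject M) : X.Modules).IsQuasicoherent := hF N
  haveI : ((F m : Subobject M) : X.Modules).IsQuasicoherent := hF m
  haveI : IsIso φ := by
    apply Groth.Agent.Lib.helper9.QcohIso.isIso_of_app_bijective
    intro z
    obtain ⟨x, hx⟩ := Set.mem_iUnion.mp (ht (Set.mem_univ z))
    obtain ⟨hxt, hzx⟩ := Set.mem_iUnion.mp hx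
    refine ⟨W x, hW x, hzx, ?_, ?_⟩
    · exact Groth.Agent.Lib.helper9.ZC.app_injective_of_mono φ (W x)
    · intro y
      have hxN : n₀ x ≤ N := Finset.le_sup hxt
      have hSS : S x N = S x m := (hn₀ x N hxN).symm.trans (hn₀ x m (hxN.trans hm))
      have hy : Groth.Agent.Lib.helper9.FPLocal.appLin (F m).arrow (W x) y ∈ S x N := by
        rw [hSS]
        exact ⟨y, rfl⟩
      obtain ⟨z', hz'⟩ := hy
      refine ⟨z', ?_⟩
      have h2 := congrArg (fun ψ => Scheme.Modules.Hom.app ψ (W x)) hφ
      have h3 : (F m).arrow.app (W x) (φ.app (W x) z') = (F N).arrow.app (W x) z' :=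
        congr($h2 z')
      exact Groth.Agent.Lib.helper9.ZC.app_injective_of_mono (F m).arrow (W x) (h3.trans hz')
  refine le_antisymm ?_ hle
  refine Subobject.le_of_comm (inv φ) ?_
  rw [IsIso.inv_comp_eq]
  exact hφ.symm

end Groth.Agent.S0045
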