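import Groth.Statements.S0048
import Groth.Agent.Lib.helper9.PushAff2

set_option autoImplicit false
universe u
open Coherent

namespace Groth.Agent.S0048

open AlgebraicGeometry CategoryTheory Opposite TopologicalSpace Scheme.Modules
  Groth.Agent.Lib.helper9.CohB Groth.Agent.Lib.helper9.AffSect
  Groth.Agent.Lib.helper9.QcohLoc Groth.Agent.Lib.helper9.PushAff
  Groth.Agent.Lib.helper9.PushAff2 Groth.Agent.Lib.helper9.FinAff in
set_option backward.isDefEq.respectTransparency false in
lemma main (X : Scheme.{u}) (U : X.Opens) (T : Set X)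
    (hT : IsClosed T) (hTU : T ⊆ (U : Set X)) (F : (↑U : Scheme.{u}).Modules) (hF : Coh.IsCoh F)
    (hs : ∀ x : ↥U, x ∈ CohB1.support F → (x : X) ∈ T) : Coh.IsCoh ((Coh.push U.ι).obj F) := by
  obtain ⟨hqc, hft⟩ := hF
  haveI : F.IsQuasicoherent := hqc
  haveI : SheafOfModules.IsFiniteType.{u} F := hft
  have hcov : ∀ x : X, ∃ (W : X.Opens) (hW : IsAffineOpen W), x ∈ W ∧
      (W ≤ U ∨ ∀ y : ↥U, U.ι y ∈ W → Subsingleton (F.presheaf.stalk y)) := by
    intro x
    by_cases hx : x ∈ U
    · obtain ⟨W, hW, hxW, hWU⟩ := exists_isAffineOpen_mem_and_subset (x := x) (U := U) hx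
      exact ⟨W, hW, hxW, Or.inl hWU⟩
    · have hxT : x ∈ (⟨Tᶜ, hT.isOpen_compl⟩ : X.Opens) := fun h => hx (hTU h)
      obtain ⟨W, hW, hxW, hWT⟩ := exists_isAffineOpen_mem_and_subset (x := x)
        (U := ⟨Tᶜ, hT.isOpen_compl⟩) hxT
      refine ⟨W, hW, hxW, Or.inr fun y hy => ?_⟩
      by_contra hns
      have hyT : (y : X) ∈ T := hs y hns
      have hyW : (y : X) ∈ W := hy
      exact hWT hyW hyT
  have haff : ∀ (W : X.Opens), IsAffineOpen W → W ≤ U → IsAffineOpen (U.ι ⁻¹ᵁ W) := by
    intro W hW h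
    exact hW.preimage_of_isOpenImmersion U.ι (by rw [Scheme.Opens.opensRange_ι]; exact h)
  haveI hPqc : ((pushforward U.ι).obj F).IsQuasicoherent := by
    apply Groth.Agent.Lib.helper9.QcohLocal.isQuasicoherent_of_forall_exists
    intro x
    obtain ⟨W, hW, hxW, h | h⟩ := hcov x
    · refine ⟨W, hW, hxW, ?_⟩
      rw [isQuasicoherent_iff_isIso_fromTildeΓ, isIso_fromTildeΓ_iff_isLocalizing]
      intro b
      exact isLocalizedModule_resBasic_pushforward' U.ι F hW (haff W hW h) b
    · refine ⟨W, hW, hxW, ?_⟩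
      rw [isQuasicoherent_iff_isIso_fromTildeΓ, isIso_fromTildeΓ_iff_isLocalizing]
      intro b
      exact isLocalizedModule_resBasic_pushforward_of_subsingleton U.ι F hW h b
  refine ⟨hPqc, ?_⟩
  apply Groth.Agent.Lib.helper9.FTLocal.isFiniteType_of_forall_exists
  intro x
  obtain ⟨W, hW, hxW, h | h⟩ := hcov x
  · refine ⟨W, hW, hxW, ?_⟩
    apply finite_Γmod_pushforward' U.ι F hW (haff W hW h)
    haveI : IsIso (U.ι.app (hW.fromSpec ''ᵁ ⊤)) := by
      apply Scheme.Hom.isIso_app
      rw [image_top hW, Scheme.Opens.opensRange_ι]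
      exact h
    exact RingHom.Finite.of_surjective _
      (ConcreteCategory.bijective_of_isIso (U.ι.app (hW.fromSpec ''ᵁ ⊤))).2
  · exact ⟨W, hW, hxW, finite_Γmod_pushforward_of_subsingleton U.ι F hW h⟩


open AlgebraicGeometry in
/-- Let U ⊆ X be open and T ⊆ U a subset closed in X. If F is a coherent (quasi-coherent of finite type,
i.e. `Coh.IsCoh`) module on U with support contained in T, then its direct image along U ↪ X is
again coherent in the same sense. (The published statement is for coherent modules in the usual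
sense; here both hypothesis and conclusion use the notion `Coh.IsCoh`.) -/
theorem result (X : Scheme.{u}) (U : X.Opens) (T : Set X)
    (hT : IsClosed T) (hTU : T ⊆ (U : Set X)) (F : (↑U : Scheme.{u}).Modules) (hF : Coh.IsCoh F)
    (hs : ∀ x : ↥U, x ∈ CohB1.support F → (x : X) ∈ T) : Coh.IsCoh ((Coh.push U.ι).obj F) := by
  exact main X U T hT hTU F hF hs

end Groth.Agent.S0048
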