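import Groth.Statements.S0049
import Groth.Agent.Lib.helper9.PushQCQS
import Groth.Agent.Lib.helper9.ZC7
import Groth.Agent.Lib.helper9.FPLocal2
import Groth.Agent.Lib.helper9.QcohLocal
import Mathlib.AlgebraicGeometry.Noetherian

set_option autoImplicit false
universe u
open Coherent

namespace Groth.Agent.S0049

open CategoryTheory CategoryTheory.Limits AlgebraicGeometry TopologicalSpace Opposite
  Groth.Agent.Lib.helper9.ZC in
set_option backward.isDefEq.respectTransparency false in
lemma resPush_stalk_eq_zero {X : Scheme.{u}} (M : X.Modules) (U W : X.Opens)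
    (hW : ∀ z : X, z ∈ U → z ∈ W → Subsingleton (M.presheaf.stalk z)) (x : X) (hxW : x ∈ W)
    (y : ((ZClos.resPush U).obj M).presheaf.stalk x) : y = 0 := by
  obtain ⟨V, hx, s, rfl⟩ := ((ZClos.resPush U).obj M).presheaf.exists_germ_eq y
  have hV'V : V ⊓ W ≤ V := inf_le_left
  have hx' : x ∈ V ⊓ W := ⟨hx, hxW⟩
  have h6 := TopCat.Presheaf.germ_res_apply ((ZClos.resPush U).obj M).presheaf
    (homOfLE hV'V) x hx' s
  have h7 : ((ZClos.resPush U).obj M).presheaf.map (homOfLE hV'V).op s = 0 := by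
    rw [ZClos.resPush_presheaf_map]
    refine eq_zero_of_germ_eq_zero M (U.ι ''ᵁ U.ι ⁻¹ᵁ (V ⊓ W)) _ (fun z hz => ?_)
    have hz2 : z ∈ U ⊓ (V ⊓ W) := by rwa [ZClos.ι_image_preimage] at hz
    haveI := hW z hz2.1 hz2.2.2
    exact Subsingleton.elim _ _
  rw [h7] at h6
  exact h6.symm.trans (map_zero _)

open CategoryTheory CategoryTheory.Limits AlgebraicGeometry TopologicalSpace Opposite
  Groth.Agent.Lib.helper9.ZC in
set_option backward.isDefEq.respectTransparency false in
lemma main (X : Scheme.{u}) [IsNoetherian X] (M : X.Modules) (hM : Coh.IsCoh M)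
    (Z Z' : Set X) (hZ : IsClosed Z) (hZ' : IsClosed Z') (h : CohB1.support M = Z ∪ Z') :
    ∃ S : ShortComplex X.Modules, S.ShortExact ∧ Nonempty (S.X₂ ≅ M) ∧ Coh.IsCoh S.X₁ ∧
      Coh.IsCoh S.X₃ ∧ CohB1.support S.X₁ ⊆ Z' ∧ CohB1.support S.X₃ ⊆ Z := by
  obtain ⟨hqc, hft⟩ := hM
  haveI : M.IsQuasicoherent := hqc
  haveI : SheafOfModules.IsFiniteType.{u} M := hft
  let U : X.Opens := ⟨Z'ᶜ, hZ'.isOpen_compl⟩
  let W : X.Opens := ⟨Zᶜ, hZ.isOpen_compl⟩
  haveI hqcR : (M.restrict U.ι).IsQuasicoherent := inferInstance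
  haveI hNqc : ((ZClos.resPush U).obj M).IsQuasicoherent :=
    Groth.Agent.Lib.helper9.PushQCQS.isQuasicoherent_pushforward_qcqs U.ι (M.restrict U.ι)
  let φ : M ⟶ (ZClos.resPush U).obj M := (ZClos.resPushUnit U).app M
  haveI hKqc : (kernel φ).IsQuasicoherent :=
    Groth.Agent.Lib.helper9.QcohLocal.isQuasicoherent_kernel φ
  haveI hKfp : SheafOfModules.IsFinitePresentation.{u} (kernel φ) :=
    Groth.Agent.Lib.helper9.FPLocal.isFinitePresentation_of_mono (kernel.ι φ)
  haveI hCqc : (cokernel (kernel.ι φ)).IsQuasicoherent :=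
    Groth.Agent.Lib.helper9.QcohLocal.isQuasicoherent_cokernel (kernel.ι φ)
  haveI hCfp : SheafOfModules.IsFinitePresentation.{u} (cokernel (kernel.ι φ)) :=
    Groth.Agent.Lib.helper9.QcohLocal.isFinitePresentation_of_epi (cokernel.π (kernel.ι φ))
  refine ⟨ShortComplex.mk (kernel.ι φ) (cokernel.π (kernel.ι φ)) (cokernel.condition _),
    ShortComplex.ShortExact.mk' (ShortComplex.exact_cokernel (kernel.ι φ))
      (show Mono (kernel.ι φ) from inferInstance)
      (show Epi (cokernel.π (kernel.ι φ)) from inferInstance),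
    ⟨Iso.refl _⟩, ⟨hKqc, inferInstance⟩, ⟨hCqc, inferInstance⟩, ?_, ?_⟩
  · -- Supp K ⊆ Z'
    intro x hx
    by_contra hxZ'
    apply hx
    have hxU : x ∈ U := hxZ'
    have hz : ∀ y : (kernel φ).presheaf.stalk x, y = 0 := by
      intro y
      obtain ⟨V, hxV, t, rfl⟩ := (kernel φ).presheaf.exists_germ_eq y
      have hinj := stalk_injective_of_mono (kernel.ι φ) x
      refine hinj ?_
      refine ((stalk_map_germ (kernel.ι φ) V x hxV t).trans ?_).trans (map_zero _).symm
      have hc : kernel.ι φ ≫ φ = 0 := kernel.condition φ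
      have h1 : φ.app V ((kernel.ι φ).app V t) = 0 :=
        congrArg (fun ψ : kernel φ ⟶ (ZClos.resPush U).obj M => ψ.app V t) hc
      have h2 : M.presheaf.map (homOfLE (U.ι.image_preimage_le V)).op
          ((kernel.ι φ).app V t) = 0 := h1
      have hx' : x ∈ U.ι ''ᵁ U.ι ⁻¹ᵁ V := by
        rw [ZClos.ι_image_preimage]; exact ⟨hxU, hxV⟩
      have h3 := germ_res M (U.ι.image_preimage_le V) x hx' ((kernel.ι φ).app V t)
      refine h3.symm.trans ?_
      show M.presheaf.germ _ x hx' (M.presheaf.map (homOfLE (U.ι.image_preimage_le V)).op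
        ((kernel.ι φ).app V t)) = 0
      rw [h2, map_zero]
    exact ⟨fun a b => (hz a).trans (hz b).symm⟩
  · -- Supp C ⊆ Z
    intro x hx
    by_contra hxZ
    apply hx
    have hxW : x ∈ W := hxZ
    have hsub : ∀ z : X, z ∈ U → z ∈ W → Subsingleton (M.presheaf.stalk z) := by
      intro z hzU hzW
      by_contra hns
      have hz : z ∈ CohB1.support M := hns
      rw [h] at hz
      rcases hz with h1 | h1
      · exact hzW h1
      · exact hzU h1
    have hzero := resPush_stalk_eq_zero M U W hsub x hxW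
    refine ⟨fun a b => ?_⟩
    apply stalk_injective_of_mono (Abelian.factorThruCoimage φ) x
    exact (hzero _).trans (hzero _).symm


open AlgebraicGeometry CategoryTheory in
/-- On a Noetherian scheme, if the support of a coherent module F is the union of closed sets Z and Z',
there is a short exact sequence 0 → G' → F → G → 0 of coherent modules with G' supported in Z' and G
supported in Z. -/
theorem result (X : Scheme.{u}) [IsNoetherian X] (M : X.Modules) (hM : Coh.IsCoh M)
    (Z Z' : Set X) (hZ : IsClosed Z) (hZ' : IsClosed Z') (h : CohB1.support M = Z ∪ Z') :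
    ∃ S : ShortComplex X.Modules, S.ShortExact ∧ Nonempty (S.X₂ ≅ M) ∧ Coh.IsCoh S.X₁ ∧ Coh.IsCoh S.X₃ ∧
      CohB1.support S.X₁ ⊆ Z' ∧ CohB1.support S.X₃ ⊆ Z := by
  exact main X M hM Z Z' hZ hZ' h

end Groth.Agent.S0049
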