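import Groth.Statements.S0064
import Mathlib
import Groth.Agent.Lib.helper22.UnramEq

set_option autoImplicit false
open CategoryTheory CategoryTheory.Limits AlgebraicGeometry Opposite
universe u
open EtBase

namespace Groth.Agent.S0064

section Helpers

open CategoryTheory CategoryTheory.Limits AlgebraicGeometry

theorem section_isOpenImmersion {Z T : Scheme.{u}} (p : Z ⟶ T) [FormallyUnramified p]
    [LocallyOfFiniteType p] (τ : T ⟶ Z) (hτ : τ ≫ p = 𝟙 T) : IsOpenImmersion τ := by
  haveI : MorphismProperty.HasOfPostcompProperty @IsOpenImmersion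
      (@LocallyOfFiniteType ⊓ @FormallyUnramified) := by
    rw [MorphismProperty.hasOfPostcompProperty_iff_le_diagonal]
    intro X Y f ⟨hft, hfu⟩
    exact inferInstanceAs <| IsOpenImmersion (pullback.diagonal f)
  have : IsOpenImmersion (τ ≫ p) := by rw [hτ]; infer_instance
  exact MorphismProperty.of_postcomp (W := @IsOpenImmersion)
    (W' := @LocallyOfFiniteType ⊓ @FormallyUnramified) τ p ⟨‹_›, ‹_›⟩ this

theorem locallyQuasiFinite_of_unramified {X Y : Scheme.{u}} (f : X ⟶ Y) [FormallyUnramified f]
    [LocallyOfFiniteType f] : LocallyQuasiFinite f where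
  quasiFinite_appLE {U} hU {V} hV e := by
    have h1 := f.formallyUnramified_appLE hU hV e
    have h2 := f.finiteType_appLE hU hV e
    algebraize [(f.appLE U V e).hom]
    rw [RingHom.QuasiFinite]
    infer_instance

theorem finite_sections {Z T : Scheme.{u}} [Subsingleton T] (p : Z ⟶ T) [FormallyUnramified p]
    [LocallyOfFiniteType p] [QuasiCompact p] :
    Set.Finite {τ : T ⟶ Z | τ ≫ p = 𝟙 T} := by
  rcases isEmpty_or_nonempty T with hT | ⟨⟨t₀⟩⟩
  · refine Set.Subsingleton.finite ?_
    intro a _ b _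
    exact (isInitialOfIsEmpty (X := T)).hom_ext a b
  · haveI := locallyQuasiFinite_of_unramified p
    have hfin : (Set.univ : Set Z).Finite := by
      have := p.finite_preimage_singleton t₀
      convert this
      ext z
      simp only [Set.mem_univ, Set.mem_preimage, Set.mem_singleton_iff, true_iff]
      exact Subsingleton.elim _ _
    refine Set.Finite.of_injOn (f := fun τ : T ⟶ Z => τ t₀) (fun _ _ => Set.mem_univ _) ?_ hfin
    intro τ₁ h₁ τ₂ h₂ heq
    simp only [Set.mem_setOf_eq] at h₁ h₂
    haveI := section_isOpenImmersion p τ₁ h₁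
    have hr : Set.range τ₂ ⊆ Set.range τ₁ := by
      rintro _ ⟨t, rfl⟩
      refine ⟨t₀, ?_⟩
      rw [Subsingleton.elim t t₀]
      exact heq
    have h3 : IsOpenImmersion.lift τ₁ τ₂ hr ≫ τ₁ = τ₂ := IsOpenImmersion.lift_fac _ _ _
    have h4 : IsOpenImmersion.lift τ₁ τ₂ hr = 𝟙 T := by
      calc IsOpenImmersion.lift τ₁ τ₂ hr = IsOpenImmersion.lift τ₁ τ₂ hr ≫ τ₁ ≫ p := by
            rw [h₁, Category.comp_id]
        _ = τ₂ ≫ p := by rw [← Category.assoc, h3]
        _ = 𝟙 T := h₂
    rw [← h3, h4, Category.id_comp]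

theorem finite_lifts {X S T : Scheme.{u}} [Subsingleton T] (π : X ⟶ S) [FormallyUnramified π]
    [LocallyOfFiniteType π] [QuasiCompact π] (σ : T ⟶ S) :
    Set.Finite {t : T ⟶ X | t ≫ π = σ} := by
  haveI : FormallyUnramified (pullback.snd π σ) :=
    MorphismProperty.pullback_snd (P := @FormallyUnramified) _ _ inferInstance
  have hF := finite_sections (pullback.snd π σ)
  refine Set.Finite.subset (hF.image (fun τ => τ ≫ pullback.fst π σ)) ?_
  intro t ht
  simp only [Set.mem_setOf_eq] at ht
  refine ⟨pullback.lift t (𝟙 T) (by rw [ht, Category.id_comp]), ?_, ?_⟩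
  · simp only [Set.mem_setOf_eq]
    exact pullback.lift_snd _ _ _
  · exact pullback.lift_fst _ _ _

theorem eq_of_agree_on_points {X S Y : Scheme.{u}} (π : X ⟶ S) [FormallyUnramified π]
    [LocallyOfFiniteType π] [IsSeparated π] (f g : Y ⟶ X) (w : f ≫ π = g ≫ π)
    (pt : irreducibleComponents Y → Y) (hpt : ∀ Z : irreducibleComponents Y, pt Z ∈ (Z : Set Y))
    (hfg : ∀ Z : irreducibleComponents Y,
      Y.fromSpecResidueField (pt Z) ≫ f = Y.fromSpecResidueField (pt Z) ≫ g) :
    f = g := by
  obtain ⟨U, hU, huniv, hcl⟩ := Groth.Agent.H22.UnramEq.exists_agreement_open π f g w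
  have hclopen : IsClopen (U : Set Y) := ⟨hcl inferInstance, U.isOpen⟩
  have hUtop : U = ⊤ := by
    ext x
    simp only [TopologicalSpace.Opens.coe_top, Set.mem_univ, iff_true]
    have hx : x ∈ ⋃₀ irreducibleComponents Y := by
      rw [sUnion_irreducibleComponents]; trivial
    obtain ⟨Z, hZ, hxZ⟩ := hx
    have hZirr : IsIrreducible Z := hZ.1
    have hsub : Z ⊆ (U : Set Y) := by
      refine hZirr.isPreirreducible.isPreconnected.subset_isClopen hclopen
        ⟨pt ⟨Z, hZ⟩, hpt ⟨Z, hZ⟩, ?_⟩
      refine huniv (Y.fromSpecResidueField (pt ⟨Z, hZ⟩)) (hfg ⟨Z, hZ⟩) ?_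
      rw [Scheme.range_fromSpecResidueField]
      rfl
    exact hsub hxZ
  subst hUtop
  have h1 := congrArg (fun φ => Y.topIso.inv ≫ φ) hU
  simpa [Scheme.toIso_inv_ι_assoc] using h1

theorem main {X S Y : Scheme.{u}} [IsNoetherian S] [IsNoetherian Y]
    (π : X ⟶ S) [FormallyUnramified π] [LocallyOfFiniteType π] [QuasiCompact π] [IsSeparated π]
    (h : Y ⟶ S) : Set.Finite {f : Y ⟶ X | f ≫ π = h} := by
  classical
  have hC : (irreducibleComponents Y).Finite :=
    TopologicalSpace.NoetherianSpace.finite_irreducibleComponents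
  haveI : Finite (irreducibleComponents Y) := hC.to_subtype
  have hne : ∀ Z : irreducibleComponents Y, ∃ y : Y, y ∈ (Z : Set Y) := fun Z => Z.2.1.1
  choose pt hpt using hne
  haveI : ∀ Z : irreducibleComponents Y, Finite {t : Spec (Y.residueField (pt Z)) ⟶ X |
      t ≫ π = Y.fromSpecResidueField (pt Z) ≫ h} := fun Z =>
    (finite_lifts π (Y.fromSpecResidueField (pt Z) ≫ h)).to_subtype
  let Φ : {f : Y ⟶ X | f ≫ π = h} → (∀ Z : irreducibleComponents Y,
      {t : Spec (Y.residueField (pt Z)) ⟶ X | t ≫ π = Y.fromSpecResidueField (pt Z) ≫ h}) :=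
    fun f Z => ⟨Y.fromSpecResidueField (pt Z) ≫ f.1, by
      have := f.2
      simp only [Set.mem_setOf_eq] at this ⊢
      rw [Category.assoc, this]⟩
  have hΦ : Function.Injective Φ := by
    intro f g hfg
    apply Subtype.ext
    have hf := f.2
    have hg := g.2
    simp only [Set.mem_setOf_eq] at hf hg
    refine eq_of_agree_on_points π f.1 g.1 (hf.trans hg.symm) pt hpt ?_
    intro Z
    exact congrArg Subtype.val (congrFun hfg Z)
  haveI := Finite.of_injective Φ hΦ
  exact Set.toFinite _

end Helpers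

/-- Let S be a Noetherian scheme, X → S a quasi-compact, separated, unramified morphism (formally
unramified and locally of finite type), and Y a Noetherian scheme with a morphism Y → S. Then there
are only finitely many S-morphisms Y → X. The published statement does not assume X → S separated;
it is stated here in the separated case. -/
theorem result {X S Y : Scheme.{u}} [IsNoetherian S] [IsNoetherian Y]
    (π : X ⟶ S) [FormallyUnramified π] [LocallyOfFiniteType π] [QuasiCompact π] [IsSeparated π]
    (h : Y ⟶ S) : Set.Finite {f : Y ⟶ X | f ≫ π = h} := by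
  exact main π h

end Groth.Agent.S0064
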