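import Groth.Statements.S0117
import Mathlib
import Groth.Agent.Lib.helper22.UnramEq

set_option autoImplicit false
open CategoryTheory CategoryTheory.Limits AlgebraicGeometry Opposite
universe u
open EtBase

namespace Groth.Agent.S0117

section Helpers

open CategoryTheory CategoryTheory.Limits AlgebraicGeometry

open Groth.Agent.H22.UnramEq in
/-- Lemma I: maps into an unramified `Y`-scheme agreeing after a surjective map are equal. -/
theorem eq_of_surjective_comp {T₀ T E Y : Scheme.{u}} (p : E ⟶ Y) [FormallyUnramified p]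
    [LocallyOfFiniteType p] (t : T₀ ⟶ T) [Surjective t] (a b : T ⟶ E)
    (w : a ≫ p = b ≫ p) (h : t ≫ a = t ≫ b) : a = b := by
  obtain ⟨U, hU, hU2, -⟩ := exists_agreement_open p a b w
  have hUtop : U = ⊤ := by
    apply top_le_iff.mp
    intro x _
    obtain ⟨x₀, rfl⟩ := t.surjective x
    exact hU2 t h ⟨x₀, rfl⟩
  subst hUtop
  have := congr(T.topIso.inv ≫ $hU)
  rwa [Scheme.toIso_inv_ι_assoc, Scheme.toIso_inv_ι_assoc] at this

theorem section_isOpenImmersion {Z T : Scheme.{u}} (p : Z ⟶ T) [FormallyUnramified p]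
    [LocallyOfFiniteType p] (τ : T ⟶ Z) (hτ : τ ≫ p = 𝟙 T) : IsOpenImmersion τ := by
  haveI : MorphismProperty.HasOfPostcompProperty @IsOpenImmersion
      (@LocallyOfFiniteType ⊓ @FormallyUnramified) := by
    rw [MorphismProperty.hasOfPostcompProperty_iff_le_diagonal]
    intro X Y f ⟨hft, hfu⟩
    exact inferInstanceAs <| IsOpenImmersion (pullback.diagonal f)
  have : IsOpenImmersion (τ ≫ p) := by rw [hτ]; infer_instance
  exact MorphismProperty.of_postcomp (W := @IsOpenImmersion)
    (W' := @LocallyOfFiniteType ⊓ @FormallyUnramified) τ p ⟨‹_›, ‹_›⟩ this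

/-- Lemma T: sections of an étale morphism extend uniquely along thickenings. -/
theorem exists_section_extension {E Y Y₀ : Scheme.{u}} (p : E ⟶ Y) [Etale p] (i : Y₀ ⟶ Y)
    [IsClosedImmersion i] [Surjective i] (σ₀ : Y₀ ⟶ E) (hσ₀ : σ₀ ≫ p = i) :
    ∃ σ : Y ⟶ E, σ ≫ p = 𝟙 Y ∧ i ≫ σ = σ₀ := by
  -- the base change
  let j : pullback p i ⟶ E := pullback.fst p i
  let p₀ : pullback p i ⟶ Y₀ := pullback.snd p i
  let s₀ : Y₀ ⟶ pullback p i := pullback.lift σ₀ (𝟙 Y₀) (by rw [hσ₀, Category.id_comp])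
  have hs₀p : s₀ ≫ p₀ = 𝟙 Y₀ := pullback.lift_snd _ _ _
  have hs₀j : s₀ ≫ j = σ₀ := pullback.lift_fst _ _ _
  haveI : IsOpenImmersion s₀ := section_isOpenImmersion p₀ s₀ hs₀p
  have hjhomeo : IsHomeomorph j :=
    isHomeomorph_iff_isEmbedding_surjective.mpr ⟨j.isClosedEmbedding.isEmbedding, j.surjective⟩
  have hrange : Set.range σ₀ = j '' Set.range s₀ := by
    rw [← hs₀j, Scheme.Hom.comp_base, TopCat.coe_comp, Set.range_comp]
  let U : E.Opens := ⟨Set.range σ₀, by
    rw [hrange]; exact hjhomeo.isOpenMap _ s₀.isOpenEmbedding.isOpen_range⟩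
  let q : U.toScheme ⟶ Y := U.ι ≫ p
  -- key: any map into `U` over `Y₀` is the composite with `σ₀`
  have key : ∀ {T₀ : Scheme.{u}} (c : T₀ ⟶ E) (τ : T₀ ⟶ Y₀), c ≫ p = τ ≫ i →
      Set.range c ⊆ (U : Set E) → c = τ ≫ σ₀ := by
    intro T₀ c τ hc hcU
    let c' : T₀ ⟶ pullback p i := pullback.lift c τ hc
    have hc'j : c' ≫ j = c := pullback.lift_fst _ _ _
    have hc'p : c' ≫ p₀ = τ := pullback.lift_snd _ _ _
    have hc'range : Set.range c' ⊆ Set.range s₀ := by
      rintro _ ⟨z, rfl⟩
      have h1 : j (c' z) ∈ j '' Set.range s₀ := by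
        rw [← hrange, ← Scheme.Hom.comp_apply, hc'j]
        exact hcU ⟨z, rfl⟩
      obtain ⟨w, hw, hwe⟩ := h1
      rwa [← hjhomeo.injective hwe]
    let c'' : T₀ ⟶ Y₀ := IsOpenImmersion.lift s₀ c' hc'range
    have hc'' : c'' ≫ s₀ = c' := IsOpenImmersion.lift_fac _ _ _
    have : c'' = τ := by
      rw [← hc'p, ← hc'', Category.assoc, hs₀p, Category.comp_id]
    rw [← hc'j, ← hc'', this, Category.assoc, hs₀j]
  haveI : Surjective q := ⟨fun y => by
    obtain ⟨y₀, rfl⟩ := i.surjective y
    refine ⟨⟨σ₀ y₀, ⟨y₀, rfl⟩⟩, ?_⟩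
    change (U.ι ≫ p) _ = _
    rw [Scheme.Hom.comp_apply]
    change p (σ₀ y₀) = _
    rw [← Scheme.Hom.comp_apply, hσ₀]⟩
  haveI : Etale q := inferInstanceAs (Etale (U.ι ≫ p))
  haveI : Mono q := ⟨fun {T} a b hab => by
    let t : pullback (a ≫ q) i ⟶ T := pullback.fst _ _
    let τ : pullback (a ≫ q) i ⟶ Y₀ := pullback.snd _ _
    haveI : Surjective t := inferInstanceAs (Surjective (pullback.fst _ _))
    refine eq_of_surjective_comp q t a b hab ?_
    rw [← cancel_mono U.ι]
    have h1 : (t ≫ a) ≫ U.ι = τ ≫ σ₀ := by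
      refine key _ τ ?_ ?_
      · rw [Category.assoc, Category.assoc]
        exact pullback.condition
      · rintro _ ⟨z, rfl⟩
        rw [Scheme.Hom.comp_apply]
        exact ((t ≫ a) z).2
    have h2 : (t ≫ b) ≫ U.ι = τ ≫ σ₀ := by
      refine key _ τ ?_ ?_
      · rw [Category.assoc, Category.assoc]
        change t ≫ b ≫ q = _
        rw [← hab]
        exact pullback.condition
      · rintro _ ⟨z, rfl⟩
        rw [Scheme.Hom.comp_apply]
        exact ((t ≫ b) z).2
    rw [h1, h2]⟩
  haveI : IsOpenImmersion q := IsOpenImmersion.of_flat_of_mono q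
  haveI : IsIso q := (isIso_iff_isOpenImmersion_and_surjective q).mpr ⟨inferInstance, inferInstance⟩
  refine ⟨inv q ≫ U.ι, ?_, ?_⟩
  · rw [Category.assoc]
    exact IsIso.inv_hom_id q
  · have hσ₀U : Set.range σ₀ ⊆ Set.range U.ι := by
      rw [Scheme.Opens.range_ι]
      exact subset_rfl
    let τ' : Y₀ ⟶ U.toScheme := IsOpenImmersion.lift U.ι σ₀ hσ₀U
    have hτ' : τ' ≫ U.ι = σ₀ := IsOpenImmersion.lift_fac _ _ _
    have : τ' ≫ q = i := by
      change τ' ≫ U.ι ≫ p = i
      rw [← Category.assoc, hτ', hσ₀]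
    rw [← this, Category.assoc, IsIso.hom_inv_id_assoc, hτ']


theorem main {S S₀ : Scheme.{u}} (i : S₀ ⟶ S) [IsClosedImmersion i] [Surjective i]
    (X Y : Over S) [AlgebraicGeometry.Etale X.hom] :
    Function.Bijective (fun φ : Y ⟶ X => (Over.pullback i).map φ) := by
  constructor
  · intro φ ψ h
    have h' : pullback.fst Y.hom i ≫ φ.left = pullback.fst Y.hom i ≫ ψ.left := by
      have := congr(($h).left ≫ pullback.fst X.hom i)
      simp only [Over.pullback_map_left] at this
      rwa [pullback.lift_fst, pullback.lift_fst] at this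
    ext1
    exact eq_of_surjective_comp X.hom (pullback.fst Y.hom i) φ.left ψ.left
      ((Over.w φ).trans (Over.w ψ).symm) h'
  · intro χ
    -- data
    let iY : pullback Y.hom i ⟶ Y.left := pullback.fst Y.hom i
    let σ₀' : pullback Y.hom i ⟶ X.left := χ.left ≫ pullback.fst X.hom i
    have hχ : χ.left ≫ pullback.snd X.hom i = pullback.snd Y.hom i := by
      simpa using Over.w χ
    have hσ₀' : σ₀' ≫ X.hom = iY ≫ Y.hom := by
      simp only [σ₀', iY, Category.assoc]
      rw [pullback.condition, ← Category.assoc, hχ, pullback.condition]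
    let p : pullback X.hom Y.hom ⟶ Y.left := pullback.snd X.hom Y.hom
    let σ₀ : pullback Y.hom i ⟶ pullback X.hom Y.hom := pullback.lift σ₀' iY hσ₀'
    have hσ₀ : σ₀ ≫ p = iY := pullback.lift_snd _ _ _
    obtain ⟨σ, hσ1, hσ2⟩ := exists_section_extension p iY σ₀ hσ₀
    refine ⟨Over.homMk (σ ≫ pullback.fst X.hom Y.hom) ?_, ?_⟩
    · rw [Category.assoc, pullback.condition, ← Category.assoc]
      change (σ ≫ p) ≫ Y.hom = Y.hom
      rw [hσ1, Category.id_comp]
    · ext1
      simp only [Over.pullback_map_left, Over.homMk_left]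
      apply pullback.hom_ext
      · rw [pullback.lift_fst, ← Category.assoc]
        change (iY ≫ σ) ≫ _ = _
        rw [hσ2]
        exact pullback.lift_fst _ _ _
      · rw [pullback.lift_snd, hχ]

end Helpers

/-- Topological invariance of étale morphisms, first-order form — for X étale over S and any S-scheme Y,
base change to a closed subscheme S₀ with the same underlying space gives a bijection between
S-morphisms Y → X and S₀-morphisms of the base changes. -/
theorem result {S S₀ : Scheme.{u}} (i : S₀ ⟶ S) [IsClosedImmersion i] [Surjective i]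
    (X Y : Over S) [AlgebraicGeometry.Etale X.hom] :
    Function.Bijective (fun φ : Y ⟶ X => (Over.pullback i).map φ) := by
  exact main i X Y

end Groth.Agent.S0117
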