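import Groth.Statements.S0077
import Groth.Agent.Lib.helper13.QLinear

set_option autoImplicit false
universe u
open EtBase

namespace Groth.Agent.S0077

/-- First half — on a finite-dimensional vector space over an algebraically closed field of
characteristic p, any additive p-semilinear map F has F − id surjective. -/
theorem result {k V : Type u} [Field k] [IsAlgClosed k] (p : ℕ) [Fact p.Prime] [CharP k p]
    [AddCommGroup V] [Module k V] [FiniteDimensional k V] (F : V →+ V)
    (hF : ∀ (c : k) (v : V), F (c • v) = c ^ p • F v) :
    Function.Surjective fun v => F v - v := by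
  have hφ : ∀ (c : k) (v : V), F (c • v) = c ^ (p ^ 1) • F v := by
    intro c v; rw [pow_one]; exact hF c v
  let G := Groth.Agent.Lib.helper13.QLinear.ofAdd (p := p) (r := 1) F hφ
  have h := Groth.Agent.Lib.helper13.QLinear.sub_surjective (p := p) (r := 1) Nat.one_pos _ V G rfl
  intro t
  obtain ⟨w, hw⟩ := h (-t)
  refine ⟨w, ?_⟩
  have hw' : w - F w = -t := hw
  show F w - w = t
  rw [← neg_sub, hw', neg_neg]

end Groth.Agent.S0077
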