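import Groth.Statements.S0096
import Mathlib
import Groth.Agent.Lib.helper3.FUnrSplit2
-- import your own Groth.Agent.* helpers here

set_option autoImplicit false
open CategoryTheory CategoryTheory.Limits AlgebraicGeometry Opposite
universe u
open EtBase

namespace Groth.Agent.S0096

/-- A finite unramified morphism becomes, after base change to a suitable étale neighbourhood of any
point of the base, a finite disjoint union of closed immersions. -/
theorem result {X S : Scheme.{u}} (f : X ⟶ S) [IsFinite f] [FormallyUnramified f] (s : S) :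
    ∃ (U : Scheme.{u}) (g : U ⟶ S) (_ : AlgebraicGeometry.Etale g) (u : U) (_ : g.base u = s)
      (n : ℕ) (V : Fin n → Scheme.{u}) (c : ∀ j, V j ⟶ U) (_ : ∀ j, IsClosedImmersion (c j))
      (e : (∐ V) ≅ pullback f g), ∀ j, Sigma.ι V j ≫ e.hom ≫ pullback.snd f g = c j := by
  obtain ⟨x₀, hx₀⟩ := S.affineCover.covers s
  have hx : (((S.affineCover.X (S.affineCover.idx s)).isoSpec.inv ≫
      S.affineCover.f (S.affineCover.idx s) :
        Spec Γ(S.affineCover.X (S.affineCover.idx s), ⊤) ⟶ S)).base
      ((S.affineCover.X (S.affineCover.idx s)).isoSpec.hom.base x₀) = s := by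
    rw [← Scheme.Hom.comp_apply, ← Category.assoc, Iso.hom_inv_id, Category.id_comp]
    exact hx₀
  exact Groth.Agent.Lib.helper3.FUnrSplit.main_of_chart f s _ _ _ hx

end Groth.Agent.S0096
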