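import Groth.Statements.S0098
import Mathlib
import Groth.Agent.Lib.helper7.FinUnr

set_option autoImplicit false
open CategoryTheory CategoryTheory.Limits AlgebraicGeometry Opposite
universe u
open EtBase

namespace Groth.Agent.S0098

/-- A finite étale morphism whose fibre over a point s is a single point with the same residue field is
an isomorphism over an open neighbourhood of s. -/
theorem result {X S : Scheme.{u}} (f : X ⟶ S) [IsFinite f] [AlgebraicGeometry.Etale f] (s : S) (x : X)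
    (hx : f.base ⁻¹' {s} = {x}) (hκ : Function.Surjective (f.residueFieldMap x)) :
    ∃ U : S.Opens, s ∈ U ∧ IsIso (f ∣_ U) := by
  have hfx : f x = s := by
    have h : x ∈ f.base ⁻¹' {s} := by rw [hx]; rfl
    exact h
  subst hfx
  obtain ⟨U, hxU, hU⟩ :=
    Groth.Agent.Lib.helper7.FinUnr.exists_isClosedImmersion_morphismRestrict f x hx hκ
  haveI : IsOpenImmersion (f ∣_ U) := IsOpenImmersion.of_flat_of_mono (f ∣_ U)
  let R : U.toScheme.Opens := (f ∣_ U).opensRange
  refine ⟨U.ι ''ᵁ R, ?_, ?_⟩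
  · refine ⟨⟨f x, hxU⟩, ⟨⟨x, hxU⟩, ?_⟩, rfl⟩
    exact Subtype.ext (morphismRestrict_base_coe f U ⟨x, hxU⟩)
  · have e := morphismRestrictRestrict f U R
    have h1 : IsIso ((f ∣_ U) ∣_ R) := by
      rw [isIso_iff_isOpenImmersion_and_surjective]
      refine ⟨inferInstance, ⟨?_⟩⟩
      rintro ⟨y, z, rfl⟩
      refine ⟨⟨z, ⟨z, rfl⟩⟩, ?_⟩
      exact Subtype.ext (morphismRestrict_base_coe (f ∣_ U) R ⟨z, ⟨z, rfl⟩⟩)
    exact ((MorphismProperty.isomorphisms Scheme).arrow_mk_iso_iff e).mp h1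

end Groth.Agent.S0098
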