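import Groth.Statements.S0102
import Mathlib

set_option autoImplicit false
open CategoryTheory CategoryTheory.Limits AlgebraicGeometry Opposite
universe u
open EtBase

namespace Groth.Agent.S0102

/-- A section of an abelian étale sheaf over an étale scheme U vanishes on pullback to an étale V → U
exactly when V maps into a certain largest open subset of U. -/
theorem result {S : Scheme.{u}} (F : EtCoh.Ab S) (U : S.Etale) (σ : EtCoh.sect F U) :
    ∃ W : U.left.Opens, ∀ (V : S.Etale) (φ : V ⟶ U),
      F.obj.map φ.op σ = 0 ↔ Set.range φ.left.base ⊆ (W : Set U.left) := by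
  classical
  have hopen : ∀ (V : S.Etale) (φ : V ⟶ U), IsOpen (Set.range φ.left.base) := by
    intro V φ
    exact φ.left.isOpenMap.isOpen_range
  let ι := Σ V : S.Etale, {φ : V ⟶ U // F.obj.map φ.op σ = 0}
  let W : U.left.Opens := ⟨⋃ p : ι, Set.range p.2.1.left.base,
    isOpen_iUnion (fun p => hopen _ _)⟩
  refine ⟨W, fun V φ => ⟨fun h => ?_, fun h => ?_⟩⟩
  · exact Set.subset_iUnion (fun p : ι => Set.range p.2.1.left.base) ⟨V, φ, h⟩
  · -- the sieve of maps on which the restriction vanishes
    let T : Sieve V :=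
      { arrows := fun V' ψ => F.obj.map (ψ ≫ φ).op σ = 0
        downward_closed := by
          intro Y Z f hf g
          show F.obj.map ((g ≫ f) ≫ φ).op σ = 0
          rw [Category.assoc, op_comp, Functor.map_comp]
          show F.obj.map g.op (F.obj.map (f ≫ φ).op σ) = 0
          rw [show F.obj.map (f ≫ φ).op σ = 0 from hf, map_zero] }
    have hT : T ∈ S.smallEtaleTopology V := by
      have eS : S.smallEtaleTopology =
          (S.smallPretopology (P := EtCoh.etaleMP) (Q := EtCoh.etaleMP)).toGrothendieck :=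
        Scheme.smallGrothendieckTopology_eq_toGrothendieck_smallPretopology S le_rfl
      rw [eS]
      refine (Scheme.mem_toGrothendieck_smallPretopology V _).2 ?_
      intro v
      have hv : φ.left.base v ∈ (W : Set U.left) := h ⟨v, rfl⟩
      obtain ⟨p, hp⟩ := Set.mem_iUnion.1 hv
      obtain ⟨v₁, hv₁⟩ := hp
      obtain ⟨V₁, φ₁, h₁⟩ := p
      obtain ⟨z, hz1, hz2⟩ := Scheme.Pullback.exists_preimage_pullback
        (f := φ.left) (g := φ₁.left) v v₁ hv₁.symm
      let P : S.Etale := Scheme.Etale.mk (pullback.fst φ.left φ₁.left ≫ V.hom)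
      let ψ : P ⟶ V := MorphismProperty.Over.homMk (pullback.fst φ.left φ₁.left) rfl
      have w1 : φ₁.left ≫ U.hom = V₁.hom := MorphismProperty.Over.w φ₁
      have w2 : φ.left ≫ U.hom = V.hom := MorphismProperty.Over.w φ
      let ψ₁ : P ⟶ V₁ := MorphismProperty.Over.homMk (pullback.snd φ.left φ₁.left) (by
        show pullback.snd φ.left φ₁.left ≫ V₁.hom = pullback.fst φ.left φ₁.left ≫ V.hom
        rw [← w1, ← w2, ← Category.assoc, ← Category.assoc, pullback.condition])
      have hcomm : ψ ≫ φ = ψ₁ ≫ φ₁ := MorphismProperty.Over.Hom.ext pullback.condition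
      refine ⟨P, ψ, z, ?_, ?_, hz1⟩
      · show F.obj.map (ψ ≫ φ).op σ = 0
        rw [hcomm, op_comp, Functor.map_comp]
        show F.obj.map ψ₁.op (F.obj.map φ₁.op σ) = 0
        rw [h₁, map_zero]
      · show Etale (pullback.fst φ.left φ₁.left)
        infer_instance
    have hsep := ((isSheaf_iff_isSheaf_of_type _ _).1
      ((Presheaf.isSheaf_iff_isSheaf_forget _ _ (forget AddCommGrpCat.{u + 1})).1
        F.property)).isSeparated _ hT
    apply hsep.ext
    intro V' ψ hψ
    show F.obj.map ψ.op (F.obj.map φ.op σ) = F.obj.map ψ.op 0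
    rw [map_zero]
    have : F.obj.map (ψ ≫ φ).op σ = 0 := hψ
    rw [op_comp, Functor.map_comp] at this
    exact this

end Groth.Agent.S0102
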