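import Groth.Statements.S0152
import Mathlib
-- import your own Groth.Agent.* helpers here

set_option autoImplicit false
universe u
open EtPBC

namespace Groth.Agent.S0152

namespace H5S0152
open Topology
variable {X : Type u} [TopologicalSpace X] [SpectralSpace X]

lemma compactSpace_cons : @CompactSpace X (constructibleTopology X) :=
  @Function.Surjective.compactSpace (WithConstructibleTopology X) X _ (constructibleTopology X)
    WithTopology.ofTopology (WithTopology.continuous_ofTopology _) inferInstance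
    (WithTopology.ofTopology_surjective _)

lemma isClosed_cons {U : Set X} (hU : IsOpen U) (hc : IsCompact U) :
    IsClosed[constructibleTopology X] U := by
  rw [← @isOpen_compl_iff X U (constructibleTopology X)]
  exact IsCompact.isOpen_constructibleTopology_of_isClosed (by simpa using hc) hU.isClosed_compl

theorem main (Z : Set X) (hZ : IsClosed Z)
    (hconn : ∀ x : X, IsConnected (Z ∩ closure {x}))
    (Z₁ Z₂ : Set X) (h₁ : IsClosed Z₁) (h₂ : IsClosed Z₂) (hdisj : Disjoint Z₁ Z₂)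
    (hunion : Z₁ ∪ Z₂ = Z) :
    ∃ X₁ X₂ : Set X, IsClosed X₁ ∧ IsClosed X₂ ∧ Disjoint X₁ X₂ ∧ X₁ ∪ X₂ = Set.univ ∧
      Z₁ = Z ∩ X₁ ∧ Z₂ = Z ∩ X₂ := by
  classical
  have key : ∀ x : X, (Z ∩ closure {x} ⊆ Z₁) ∨ (Z ∩ closure {x} ⊆ Z₂) := by
    intro x
    have := (hconn x).isPreconnected
    rw [isPreconnected_iff_subset_of_disjoint_closed] at this
    apply this Z₁ Z₂ h₁ h₂
    · rw [hunion]; exact Set.inter_subset_left
    · rw [Set.disjoint_iff_inter_eq_empty.mp hdisj]; simp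
  have hZ1 : Z₁ ⊆ Z := hunion ▸ Set.subset_union_left
  have hZ2 : Z₂ ⊆ Z := hunion ▸ Set.subset_union_right
  let ι := {p : Set X × Set X // IsOpen p.1 ∧ IsCompact p.1 ∧ Z₁ ⊆ p.1 ∧
    IsOpen p.2 ∧ IsCompact p.2 ∧ Z₂ ⊆ p.2}
  have hempty : (⋂ i : ι, (i.1.1 ∩ i.1.2)) = ∅ := by
    by_contra hne
    obtain ⟨x, hx⟩ := Set.nonempty_iff_ne_empty.mpr hne
    rw [Set.mem_iInter] at hx
    have hx1 : (closure {x} ∩ Z₁).Nonempty := by
      by_contra hc
      rw [Set.not_nonempty_iff_eq_empty] at hc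
      have hsub : Z₁ ⊆ (closure {x})ᶜ := by
        intro z hz hzc; exact (Set.eq_empty_iff_forall_notMem.mp hc z) ⟨hzc, hz⟩
      obtain ⟨W, hWc, hWo, hZW, hWU⟩ := PrespectralSpace.exists_isCompact_and_isOpen_between
        h₁.isCompact isClosed_closure.isOpen_compl hsub
      have := hx ⟨(W, Set.univ), hWo, hWc, hZW, isOpen_univ, isCompact_univ, Set.subset_univ _⟩
      exact hWU this.1 (subset_closure rfl)
    have hx2 : (closure {x} ∩ Z₂).Nonempty := by
      by_contra hc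
      rw [Set.not_nonempty_iff_eq_empty] at hc
      have hsub : Z₂ ⊆ (closure {x})ᶜ := by
        intro z hz hzc; exact (Set.eq_empty_iff_forall_notMem.mp hc z) ⟨hzc, hz⟩
      obtain ⟨W, hWc, hWo, hZW, hWU⟩ := PrespectralSpace.exists_isCompact_and_isOpen_between
        h₂.isCompact isClosed_closure.isOpen_compl hsub
      have := hx ⟨(Set.univ, W), isOpen_univ, isCompact_univ, Set.subset_univ _, hWo, hWc, hZW⟩
      exact hWU this.2 (subset_closure rfl)
    obtain ⟨z1, hz1c, hz1⟩ := hx1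
    obtain ⟨z2, hz2c, hz2⟩ := hx2
    rcases key x with h | h
    · have : z2 ∈ Z₁ := h ⟨hZ2 hz2, hz2c⟩
      exact Set.disjoint_left.mp hdisj this hz2
    · have : z1 ∈ Z₂ := h ⟨hZ1 hz1, hz1c⟩
      exact Set.disjoint_left.mp hdisj hz1 this
  obtain ⟨u, hu⟩ := @IsCompact.elim_finite_subfamily_closed X (constructibleTopology X) Set.univ ι
    (@isCompact_univ X (constructibleTopology X) compactSpace_cons) (fun i => i.1.1 ∩ i.1.2)
    (fun i => @IsClosed.inter X _ _ (constructibleTopology X) (isClosed_cons i.2.1 i.2.2.1)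
      (isClosed_cons i.2.2.2.2.1 i.2.2.2.2.2.1)) (by simp [hempty])
  have hfin : ∀ u : Finset ι, ∃ j : ι, j.1.1 ∩ j.1.2 ⊆ ⋂ i ∈ u, (i.1.1 ∩ i.1.2) := by
    intro u
    induction u using Finset.induction_on with
    | empty =>
      exact ⟨⟨(Set.univ, Set.univ), isOpen_univ, isCompact_univ, Set.subset_univ _, isOpen_univ,
        isCompact_univ, Set.subset_univ _⟩, by simp⟩
    | insert a s ha ih =>
      obtain ⟨j, hj⟩ := ih
      refine ⟨⟨(a.1.1 ∩ j.1.1, a.1.2 ∩ j.1.2), a.2.1.inter j.2.1,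
        a.2.2.1.inter_of_isOpen j.2.2.1 a.2.1 j.2.1, Set.subset_inter a.2.2.2.1 j.2.2.2.1,
        a.2.2.2.2.1.inter j.2.2.2.2.1,
        a.2.2.2.2.2.1.inter_of_isOpen j.2.2.2.2.2.1 a.2.2.2.2.1 j.2.2.2.2.1,
        Set.subset_inter a.2.2.2.2.2.2 j.2.2.2.2.2.2⟩, ?_⟩
      intro y hy
      simp only [Set.mem_inter_iff] at hy
      rw [Finset.set_biInter_insert]
      refine ⟨⟨hy.1.1, hy.2.1⟩, hj ⟨hy.1.2, hy.2.2⟩⟩
  obtain ⟨j, hj⟩ := hfin u
  obtain ⟨⟨U, V⟩, hUo, hUc, hZU, hVo, hVc, hZV⟩ := j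
  simp only at hj hUo hUc hZU hVo hVc hZV
  have hUV : U ∩ V = ∅ := by
    apply Set.subset_eq_empty _ hu
    intro y hy
    exact ⟨Set.mem_univ _, hj hy⟩
  have hcov : U ∪ V = Set.univ := by
    apply Set.eq_univ_of_forall
    intro x
    obtain ⟨z, hz⟩ := (hconn x).nonempty
    have hzx : x ⤳ z := specializes_iff_mem_closure.mpr hz.2
    rcases key x with h | h
    · exact Or.inl (hzx.mem_open hUo (hZU (h hz)))
    · exact Or.inr (hzx.mem_open hVo (hZV (h hz)))
  have hUeq : U = Vᶜ := by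
    ext y
    constructor
    · intro hy hy'
      exact (Set.eq_empty_iff_forall_notMem.mp hUV y) ⟨hy, hy'⟩
    · intro hy
      have : y ∈ U ∪ V := hcov ▸ Set.mem_univ y
      exact this.resolve_right hy
  have hVeq : V = Uᶜ := by rw [hUeq, compl_compl]
  refine ⟨U, V, ?_, ?_, Set.disjoint_iff_inter_eq_empty.mpr hUV, hcov, ?_, ?_⟩
  · rw [hUeq]; exact hVo.isClosed_compl
  · rw [hVeq]; exact hUo.isClosed_compl
  · ext z
    constructor
    · intro hz; exact ⟨hZ1 hz, hZU hz⟩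
    · rintro ⟨hzZ, hzU⟩
      rw [← hunion] at hzZ
      rcases hzZ with h | h
      · exact h
      · exact absurd (hZV h) (by rw [hVeq]; exact fun hh => hh hzU)
  · ext z
    constructor
    · intro hz; exact ⟨hZ2 hz, hZV hz⟩
    · rintro ⟨hzZ, hzV⟩
      rw [← hunion] at hzZ
      rcases hzZ with h | h
      · exact absurd (hZU h) (by rw [hUeq]; exact fun hh => hh hzV)
      · exact h

end H5S0152

/-- Let X be a spectral space and Z a closed subset such that Z meets the closure of every point of X in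
a connected (nonempty) set. If Z is the disjoint union of two closed subsets Z_1, Z_2 then X is the
disjoint union of closed subsets X_1, X_2 with Z_i = Z ∩ X_i. -/
theorem result (X : Type u) [TopologicalSpace X] [SpectralSpace X]
    (Z : Set X) (hZ : IsClosed Z)
    (hconn : ∀ x : X, IsConnected (Z ∩ closure {x}))
    (Z₁ Z₂ : Set X) (h₁ : IsClosed Z₁) (h₂ : IsClosed Z₂) (hdisj : Disjoint Z₁ Z₂) (hunion : Z₁ ∪ Z₂ = Z) :
    ∃ X₁ X₂ : Set X, IsClosed X₁ ∧ IsClosed X₂ ∧ Disjoint X₁ X₂ ∧ X₁ ∪ X₂ = Set.univ ∧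
      Z₁ = Z ∩ X₁ ∧ Z₂ = Z ∩ X₂ := by
  exact H5S0152.main Z hZ hconn Z₁ Z₂ h₁ h₂ hdisj hunion

end Groth.Agent.S0152
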