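import Groth.Statements.S0179
import Mathlib

set_option autoImplicit false
universe u
open EtPBC

namespace Groth.Agent.S0179

section helpers

variable {X : Type u} [TopologicalSpace X]

/-- intersection of all clopen neighbourhoods -/
def clopenInter (x : X) : Set X := ⋂ s : { s : Set X // IsClopen s ∧ x ∈ s }, (s : Set X)

lemma mem_clopenInter {x y : X} :
    y ∈ clopenInter x ↔ ∀ Z : Set X, IsClopen Z → x ∈ Z → y ∈ Z := by
  unfold clopenInter
  rw [Set.mem_iInter]
  constructor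
  · intro h Z hZ hx
    exact h ⟨Z, hZ, hx⟩
  · intro h s
    exact h s.1 s.2.1 s.2.2

lemma exists_clopen_disjoint (x : X) {K : Set X} (hK : IsCompact K)
    (h : K ∩ clopenInter x = ∅) :
    ∃ Z : Set X, IsClopen Z ∧ x ∈ Z ∧ K ∩ Z = ∅ := by
  obtain ⟨u, hu⟩ := hK.elim_finite_subfamily_closed
    (fun s : { s : Set X // IsClopen s ∧ x ∈ s } => (s : Set X)) (fun s => s.2.1.1) h
  exact ⟨⋂ s ∈ u, (s : Set X), isClopen_biInter_finset fun s _ => s.2.1,
    Set.mem_iInter₂.2 fun s _ => s.2.2, hu⟩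

theorem connectedComponent_eq_clopenInter [SpectralSpace X] (x : X) :
    connectedComponent x = clopenInter x := by
  apply Set.Subset.antisymm
  · exact connectedComponent_subset_iInter_isClopen
  refine IsPreconnected.subset_connectedComponent ?_
    (mem_clopenInter.2 fun Z _ hx => hx)
  have hs : IsClosed (clopenInter x) := isClosed_iInter fun s => s.2.1.1
  rw [isPreconnected_iff_subset_of_fully_disjoint_closed hs]
  intro a b ha hb hab ab_disj
  have hab' : a ⊆ bᶜ := fun y hya hyb => Set.disjoint_left.1 ab_disj hya hyb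
  have hba' : b ⊆ aᶜ := fun y hyb hya => Set.disjoint_left.1 ab_disj hya hyb
  obtain ⟨u, huc, huo, hau, hub⟩ :=
    PrespectralSpace.exists_isCompact_and_isOpen_between ha.isCompact hb.isOpen_compl hab'
  obtain ⟨v, hvc, hvo, hbv, hva⟩ :=
    PrespectralSpace.exists_isCompact_and_isOpen_between hb.isCompact ha.isOpen_compl hba'
  have hT : IsCompact (u ∩ v) := QuasiSeparatedSpace.inter_isCompact u v huo huc hvo hvc
  have hTS : (u ∩ v) ∩ clopenInter x = ∅ := by
    rw [Set.eq_empty_iff_forall_notMem]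
    rintro y ⟨⟨hyu, hyv⟩, hyS⟩
    rcases hab hyS with hya | hyb
    · exact hva hyv hya
    · exact hub hyu hyb
  have hKS : (u ∪ v)ᶜ ∩ clopenInter x = ∅ := by
    rw [Set.eq_empty_iff_forall_notMem]
    rintro y ⟨hy, hyS⟩
    rcases hab hyS with hya | hyb
    · exact hy (Or.inl (hau hya))
    · exact hy (Or.inr (hbv hyb))
  obtain ⟨Z₁, hZ₁, hxZ₁, hZ₁d⟩ :=
    exists_clopen_disjoint x (huo.union hvo).isClosed_compl.isCompact hKS
  obtain ⟨Z₂, hZ₂, hxZ₂, hZ₂d⟩ := exists_clopen_disjoint x hT hTS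
  have hZ : IsClopen (Z₁ ∩ Z₂) := hZ₁.inter hZ₂
  have hcover : Z₁ ∩ Z₂ ⊆ (u ∩ Z₂) ∪ (v ∩ Z₂) := by
    rintro y ⟨hy1, hy2⟩
    have hyuv : y ∈ u ∪ v := by
      by_contra hc
      have hmem : y ∈ (u ∪ v)ᶜ ∩ Z₁ := ⟨hc, hy1⟩
      rw [hZ₁d] at hmem
      exact hmem
    rcases hyuv with h | h
    · exact Or.inl ⟨h, hy2⟩
    · exact Or.inr ⟨h, hy2⟩
  have hdisj : Disjoint (u ∩ Z₂) (v ∩ Z₂) := by
    rw [Set.disjoint_left]
    rintro y ⟨hyu, hy2⟩ ⟨hyv, _⟩
    have hmem : y ∈ (u ∩ v) ∩ Z₂ := ⟨⟨hyu, hyv⟩, hy2⟩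
    rw [hZ₂d] at hmem
    exact hmem
  have H1 := isClopen_inter_of_disjoint_cover_clopen hZ hcover (huo.inter hZ₂.2)
    (hvo.inter hZ₂.2) hdisj
  have H2 := isClopen_inter_of_disjoint_cover_clopen hZ
    (by rw [Set.union_comm]; exact hcover) (hvo.inter hZ₂.2) (huo.inter hZ₂.2) hdisj.symm
  have hxuv : x ∈ u ∪ v := by
    rcases hcover ⟨hxZ₁, hxZ₂⟩ with h | h
    · exact Or.inl h.1
    · exact Or.inr h.1
  rcases hxuv with hxu | hxv
  · left
    have hSu : clopenInter x ⊆ u := by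
      intro y hy
      have := mem_clopenInter.1 hy ((Z₁ ∩ Z₂) ∩ (u ∩ Z₂)) H1 ⟨⟨hxZ₁, hxZ₂⟩, ⟨hxu, hxZ₂⟩⟩
      exact this.2.1
    intro y hy
    rcases hab hy with h | h
    · exact h
    · exact absurd h (hub (hSu hy))
  · right
    have hSv : clopenInter x ⊆ v := by
      intro y hy
      have := mem_clopenInter.1 hy ((Z₁ ∩ Z₂) ∩ (v ∩ Z₂)) H2 ⟨⟨hxZ₁, hxZ₂⟩, ⟨hxv, hxZ₂⟩⟩
      exact this.2.1
    intro y hy
    rcases hab hy with h | h
    · exact absurd h (hva (hSv hy))
    · exact h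

theorem dir1 (X : Type u) [TopologicalSpace X] [SpectralSpace X]
    (h1 : ∀ (ι : Type u) (U : ι → Set X), (∀ i, IsOpen (U i)) → (⋃ i, U i) = Set.univ →
      ∃ (n : ℕ) (V : Fin n → Set X), (∀ k, IsClopen (V k)) ∧
        Pairwise (fun k l => Disjoint (V k) (V l)) ∧ (⋃ k, V k) = Set.univ ∧ ∀ k, ∃ i, V k ⊆ U i) :
    Function.Bijective (fun x : {x : X // IsClosed ({x} : Set X)} =>
      _root_.ConnectedComponents.mk x.1) := by
  constructor
  · rintro ⟨x, hx⟩ ⟨y, hy⟩ hxy
    have hxy' : ConnectedComponents.mk x = ConnectedComponents.mk y := hxy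
    rw [ConnectedComponents.coe_eq_coe'] at hxy'
    by_contra hne
    have hne' : x ≠ y := fun h => hne (Subtype.ext h)
    obtain ⟨n, V, hVc, -, hVu, hVU⟩ := h1 (ULift.{u} Bool)
      (fun b => if b.down = true then ({x} : Set X)ᶜ else ({y} : Set X)ᶜ)
      (fun b => by
        split_ifs
        · exact hx.isOpen_compl
        · exact hy.isOpen_compl)
      (by
        refine Set.eq_univ_of_forall fun z => ?_
        by_cases hz : z = x
        · refine Set.mem_iUnion.2 ⟨⟨false⟩, ?_⟩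
          show z ∈ ({y} : Set X)ᶜ
          rw [hz]
          exact hne'
        · refine Set.mem_iUnion.2 ⟨⟨true⟩, ?_⟩
          show z ∈ ({x} : Set X)ᶜ
          exact hz)
    have hxV : x ∈ ⋃ k, V k := hVu ▸ Set.mem_univ x
    obtain ⟨k, hxk⟩ := Set.mem_iUnion.1 hxV
    have hy_mem : y ∈ connectedComponent x := by
      rw [← connectedComponent_eq hxy']
      exact mem_connectedComponent
    have hyk : y ∈ V k := (hVc k).connectedComponent_subset hxk hy_mem
    obtain ⟨⟨b⟩, hb⟩ := hVU k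
    cases b
    · have : y ∈ ({y} : Set X)ᶜ := hb hyk
      exact this rfl
    · have : x ∈ ({x} : Set X)ᶜ := hb hxk
      exact this rfl
  · intro c
    obtain ⟨y, rfl⟩ := ConnectedComponents.surjective_coe c
    obtain ⟨z, hz, hzc⟩ := (isClosed_closure (s := ({y} : Set X))).exists_closed_singleton
      ⟨y, subset_closure rfl⟩
    refine ⟨⟨z, hzc⟩, ?_⟩
    change ConnectedComponents.mk z = ConnectedComponents.mk y
    rw [ConnectedComponents.coe_eq_coe']
    exact (isConnected_singleton (x := y)).closure.subset_connectedComponent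
      (subset_closure rfl) hz

theorem dir2 (X : Type u) [TopologicalSpace X] [SpectralSpace X]
    (hbij : Function.Bijective (fun x : {x : X // IsClosed ({x} : Set X)} =>
      _root_.ConnectedComponents.mk x.1))
    (ι : Type u) (U : ι → Set X) (hUo : ∀ i, IsOpen (U i)) (hUc : (⋃ i, U i) = Set.univ) :
    ∃ (n : ℕ) (V : Fin n → Set X), (∀ k, IsClopen (V k)) ∧
        Pairwise (fun k l => Disjoint (V k) (V l)) ∧ (⋃ k, V k) = Set.univ ∧
        ∀ k, ∃ i, V k ⊆ U i := by
  classical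
  have hspec : ∀ z : X, ∃ x : X, IsClosed ({x} : Set X) ∧ z ⤳ x := by
    intro z
    obtain ⟨x, hx, hxc⟩ := (isClosed_closure (s := ({z} : Set X))).exists_closed_singleton
      ⟨z, subset_closure rfl⟩
    exact ⟨x, hxc, specializes_iff_mem_closure.2 hx⟩
  have hcomp : ∀ x : X, IsClosed ({x} : Set X) → ∀ z ∈ connectedComponent x, z ⤳ x := by
    intro x hx z hz
    obtain ⟨x', hx'c, hzx'⟩ := hspec z
    have h1 : x' ∈ connectedComponent z :=
      (isConnected_singleton (x := z)).closure.subset_connectedComponent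
        (subset_closure rfl) hzx'.mem_closure
    have h2 : connectedComponent x = connectedComponent z := connectedComponent_eq hz
    have h3 : x' ∈ connectedComponent x := by rw [h2]; exact h1
    have h4 : ConnectedComponents.mk x' = ConnectedComponents.mk x :=
      ConnectedComponents.coe_eq_coe'.2 h3
    have h5 : (⟨x', hx'c⟩ : {x : X // IsClosed ({x} : Set X)}) = ⟨x, hx⟩ :=
      hbij.1 (a₁ := ⟨x', hx'c⟩) (a₂ := ⟨x, hx⟩) h4
    have h6 : x' = x := congrArg Subtype.val h5
    rw [← h6]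
    exact hzx'
  have hW : ∀ x : {x : X // IsClosed ({x} : Set X)}, ∃ W : Set X, IsClopen W ∧ x.1 ∈ W ∧
      ∃ i, W ⊆ U i := by
    rintro ⟨x, hx⟩
    have hxU : x ∈ ⋃ i, U i := hUc ▸ Set.mem_univ x
    obtain ⟨i, hi⟩ := Set.mem_iUnion.1 hxU
    have hsub : clopenInter x ⊆ U i := by
      rw [← connectedComponent_eq_clopenInter]
      intro z hz
      exact (hcomp x hx z hz).mem_open (hUo i) hi
    have hempty : (U i)ᶜ ∩ clopenInter x = ∅ := by
      rw [Set.eq_empty_iff_forall_notMem]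
      rintro y ⟨hy1, hy2⟩
      exact hy1 (hsub hy2)
    obtain ⟨W, hW, hxW, hWd⟩ :=
      exists_clopen_disjoint x (hUo i).isClosed_compl.isCompact hempty
    refine ⟨W, hW, hxW, i, ?_⟩
    intro y hy
    by_contra hc
    have hmem : y ∈ (U i)ᶜ ∩ W := ⟨hc, hy⟩
    rw [hWd] at hmem
    exact hmem
  choose W hWc hxW i hWU using hW
  have hcover : (Set.univ : Set X) ⊆ ⋃ x, W x := by
    intro z _
    obtain ⟨x, hx, hzx⟩ := hspec z
    exact Set.mem_iUnion.2 ⟨⟨x, hx⟩, hzx.mem_open (hWc ⟨x, hx⟩).2 (hxW ⟨x, hx⟩)⟩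
  obtain ⟨t, ht⟩ := isCompact_univ.elim_finite_subcover W (fun x => (hWc x).2) hcover
  let e := t.equivFin
  let W' : Fin t.card → Set X := fun k => W (e.symm k).1
  let V : Fin t.card → Set X := fun k => W' k \ ⋃ j ∈ {j : Fin t.card | j < k}, W' j
  refine ⟨t.card, V, ?_, ?_, ?_, ?_⟩
  · intro k
    exact (hWc _).diff ((Set.toFinite _).isClopen_biUnion fun j _ => hWc _)
  · intro k l hkl
    show Disjoint (V k) (V l)
    rcases lt_or_gt_of_ne hkl with h | h
    · exact Set.disjoint_left.2 fun y hyk hyl =>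
        hyl.2 (Set.mem_biUnion (show k ∈ {j : Fin t.card | j < l} from h) hyk.1)
    · exact Set.disjoint_left.2 fun y hyk hyl =>
        hyk.2 (Set.mem_biUnion (show l ∈ {j : Fin t.card | j < k} from h) hyl.1)
  · refine Set.eq_univ_of_forall fun z => ?_
    obtain ⟨x, hxt, hzW⟩ := Set.mem_iUnion₂.1 (ht (Set.mem_univ z))
    have hne : (Finset.univ.filter (fun k : Fin t.card => z ∈ W' k)).Nonempty := by
      refine ⟨e ⟨x, hxt⟩, Finset.mem_filter.2 ⟨Finset.mem_univ _, ?_⟩⟩
      show z ∈ W (e.symm (e ⟨x, hxt⟩)).1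
      rw [Equiv.symm_apply_apply]
      exact hzW
    obtain ⟨k, hk, hmin⟩ := Finset.exists_min_image _ (fun k : Fin t.card => k) hne
    rw [Finset.mem_filter] at hk
    refine Set.mem_iUnion.2 ⟨k, hk.2, ?_⟩
    intro hmem
    obtain ⟨j, hj, hzj⟩ := Set.mem_iUnion₂.1 hmem
    have hle := hmin j (Finset.mem_filter.2 ⟨Finset.mem_univ _, hzj⟩)
    exact absurd hj (not_lt.2 hle)
  · intro k
    exact ⟨i (e.symm k).1, fun y hy => hWU _ hy.1⟩

end helpers

/-- For a spectral space X with set of closed points X_0, the following are equivalent: (1) any open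
cover of X admits a refinement by finitely many pairwise disjoint open-and-closed pieces; (2) the
map from X_0 to the space of connected components pi_0(X) is a bijection. -/
theorem result (X : Type u) [TopologicalSpace X] [SpectralSpace X] :
    (∀ (ι : Type u) (U : ι → Set X), (∀ i, IsOpen (U i)) → (⋃ i, U i) = Set.univ →
      ∃ (n : ℕ) (V : Fin n → Set X), (∀ k, IsClopen (V k)) ∧
        Pairwise (fun k l => Disjoint (V k) (V l)) ∧ (⋃ k, V k) = Set.univ ∧ ∀ k, ∃ i, V k ⊆ U i) ↔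
    Function.Bijective (fun x : {x : X // IsClosed ({x} : Set X)} => _root_.ConnectedComponents.mk x.1) := by
  constructor
  · intro h1
    exact dir1 X h1
  · intro h2 ι U hUo hUc
    exact dir2 X h2 ι U hUo hUc

end Groth.Agent.S0179
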