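import Groth.Statements.S0180
import Mathlib
import Groth.Agent.Lib.helper11.Spectral

set_option autoImplicit false
universe u
open EtPBC

namespace Groth.Agent.S0180

section Aux
open Topology Set
open Groth.Agent.Lib.helper11.Spec

/-- the set of generalizations of a closed set in a spectral space is constructibly closed. -/
theorem isClosed_constr_gen {X : Type u} [TopologicalSpace X] [SpectralSpace X] {Z : Set X}
    (hZ : IsClosed Z) : IsClosed[constructibleTopology X] {z | ∃ w ∈ Z, z ⤳ w} := by
  have heq : {z | ∃ w ∈ Z, z ⤳ w} = ⋂₀ {V : Set X | IsOpen V ∧ IsCompact V ∧ Z ⊆ V} := by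
    ext z
    constructor
    · rintro ⟨w, hw, hzw⟩ V ⟨hVo, -, hZV⟩
      exact hzw.mem_open hVo (hZV hw)
    · intro hz
      by_contra hcon
      have hdisj : Z ⊆ (closure ({z} : Set X))ᶜ := by
        intro w hw hwz
        exact hcon ⟨w, hw, specializes_iff_mem_closure.mpr hwz⟩
      obtain ⟨W, hWc, hWo, hZW, hWU⟩ := PrespectralSpace.exists_isCompact_and_isOpen_between
        hZ.isCompact isClosed_closure.isOpen_compl hdisj
      have hzW : z ∈ W := hz W ⟨hWo, hWc, hZW⟩
      exact hWU hzW (subset_closure rfl)
  rw [heq]
  refine @isClosed_sInter X (constructibleTopology X) _ fun V hV => ?_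
  exact isClosed_constr_of_isCompact_isOpen hV.2.1 hV.1

theorem main (X : Type u) [TopologicalSpace X]
    [SpectralSpace X] (h0 : IsClosed {x : X | IsClosed ({x} : Set X)})
    (huniq : ∀ x : X, ∃! z : X, IsClosed ({z} : Set X) ∧ x ⤳ z) :
    Function.Bijective (fun x : {x : X // IsClosed ({x} : Set X)} =>
      _root_.ConnectedComponents.mk x.1) := by
  choose r hr hru using huniq
  -- closed sets of closed points pull back to closed sets
  have key : ∀ Z : Set X, IsClosed Z → (∀ z ∈ Z, IsClosed ({z} : Set X)) →
      IsClosed {z | r z ∈ Z} := by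
    intro Z hZ hZ0
    have heq : {z | r z ∈ Z} = {z | ∃ w ∈ Z, z ⤳ w} := by
      ext z
      constructor
      · intro hz; exact ⟨r z, hz, (hr z).2⟩
      · rintro ⟨w, hw, hzw⟩
        have : w = r z := hru z w ⟨hZ0 w hw, hzw⟩
        change r z ∈ Z
        rw [← this]; exact hw
    rw [heq]
    refine isClosed_of_isClosed_constr_of_stableUnderSpecialization (isClosed_constr_gen hZ) ?_
    rintro z z' hzz' ⟨w, hw, hzw⟩
    have h1 : w = r z := hru z w ⟨hZ0 w hw, hzw⟩
    have h2 : r z' = r z := hru z (r z') ⟨(hr z').1, hzz'.trans (hr z').2⟩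
    exact ⟨w, hw, by rw [h1, ← h2]; exact (hr z').2⟩
  have hrfix : ∀ x : X, IsClosed ({x} : Set X) → r x = x := fun x hx =>
    (hru x x ⟨hx, specializes_rfl⟩).symm
  constructor
  · -- injective
    rintro ⟨x, hx⟩ ⟨y, hy⟩ hxy
    have hxy' : ConnectedComponents.mk x = ConnectedComponents.mk y := hxy
    rw [ConnectedComponents.coe_eq_coe'] at hxy'
    by_contra hne
    have hne' : x ≠ y := fun h => hne (Subtype.ext h)
    have hxU : x ∈ ({y} : Set X)ᶜ := hne'
    obtain ⟨U, ⟨hUo, hUc⟩, hxU', hUy⟩ :=
      PrespectralSpace.isTopologicalBasis.exists_subset_of_mem_open hxU hy.isOpen_compl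
    -- Z₁ = X₀ ∩ U is closed
    have hZ1 : IsClosed ({x : X | IsClosed ({x} : Set X)} ∩ U) := by
      refine isClosed_of_isClosed_constr_of_stableUnderSpecialization ?_ ?_
      · exact @IsClosed.inter X _ _ (constructibleTopology X) (isClosed_constr_of_isClosed h0)
          (isClosed_constr_of_isCompact_isOpen hUc hUo)
      · rintro z z' hzz' ⟨hz0, hzU⟩
        have : z' ∈ closure ({z} : Set X) := hzz'.mem_closure
        rw [(show IsClosed ({z} : Set X) from hz0).closure_eq] at this
        rw [Set.mem_singleton_iff.mp this]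
        exact ⟨hz0, hzU⟩
    have hZ2 : IsClosed ({x : X | IsClosed ({x} : Set X)} ∩ Uᶜ) := h0.inter hUo.isClosed_compl
    have hG1 := key _ hZ1 (fun z hz => hz.1)
    have hG2 := key _ hZ2 (fun z hz => hz.1)
    have hclopen : IsClopen {z | r z ∈ U} := by
      constructor
      · convert hG1 using 1
        ext z
        exact ⟨fun h => ⟨(hr z).1, h⟩, fun h => h.2⟩
      · rw [← isClosed_compl_iff]
        convert hG2 using 1
        ext z
        exact ⟨fun h => ⟨(hr z).1, h⟩, fun h => h.2⟩
    have hxG : x ∈ {z | r z ∈ U} := by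
      change r x ∈ U
      rw [hrfix x hx]; exact hxU'
    have hsub := hclopen.connectedComponent_subset hxG
    have hyG : y ∈ {z | r z ∈ U} := by
      apply hsub
      rw [← connectedComponent_eq hxy']
      exact mem_connectedComponent
    have : y ∈ U := by
      have h : r y ∈ U := hyG
      rwa [hrfix y hy] at h
    exact hUy this rfl
  · -- surjective
    intro c
    obtain ⟨y, rfl⟩ := ConnectedComponents.surjective_coe c
    refine ⟨⟨r y, (hr y).1⟩, ?_⟩
    change ConnectedComponents.mk (r y) = ConnectedComponents.mk y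
    rw [ConnectedComponents.coe_eq_coe']
    have hconn : IsConnected (closure ({y} : Set X)) := (isConnected_singleton).closure
    exact hconn.subset_connectedComponent (subset_closure rfl) (hr y).2.mem_closure

end Aux

/-- Final assertion: if X is spectral, the set X_0 of closed points is closed, and every point of X
specializes to exactly one closed point, then X_0 -> pi_0(X) is bijective (so X satisfies the
equivalent conditions of the lemma; such X are called w-local). -/
theorem result (X : Type u) [TopologicalSpace X]
    [SpectralSpace X] (h0 : IsClosed {x : X | IsClosed ({x} : Set X)})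
    (huniq : ∀ x : X, ∃! z : X, IsClosed ({z} : Set X) ∧ x ⤳ z) :
    Function.Bijective (fun x : {x : X // IsClosed ({x} : Set X)} => _root_.ConnectedComponents.mk x.1) := by
  exact main X h0 huniq
end Groth.Agent.S0180
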