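import Groth.Statements.S0191
import Mathlib

set_option autoImplicit false
universe u v w
open scoped TensorProduct
open Curves

namespace Groth.Agent.S0191

section aux

variable {k : Type u} [Field k] {A : Type v} [Ring A] [Algebra k A]
  {K : Type w} [DivisionRing K] [Algebra k K]

/-- `Φ c = ∑ⱼ bⱼ ⊗ cⱼ`. -/
noncomputable def Phi {ι : Type*} (b : ι → A) : (ι →₀ K) →ₗ[k] A ⊗[k] K :=
  Finsupp.lsum k (fun j => TensorProduct.mk k A K (b j))

@[simp] lemma Phi_single {ι : Type*} (b : ι → A) (j : ι) (n : K) :
    Phi (k := k) b (Finsupp.single j n) = b j ⊗ₜ[k] n := by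
  simp [Phi]

lemma Phi_mul_right {ι : Type*} (b : ι → A) (c : ι →₀ K) (d : K) :
    Phi (k := k) b c * ((1 : A) ⊗ₜ[k] d) =
      Phi (k := k) b (Finsupp.mapRange.linearMap (LinearMap.mulRight k d) c) := by
  induction c using Finsupp.induction_linear with
  | zero => simp
  | add f g hf hg => rw [map_add, add_mul, hf, hg, map_add, map_add]
  | single j n =>
    rw [Finsupp.mapRange.linearMap_apply, Finsupp.mapRange_single, Phi_single, Phi_single,
      Algebra.TensorProduct.tmul_mul_tmul, mul_one]
    rfl

lemma Phi_mul_left {ι : Type*} (b : ι → A) (c : ι →₀ K) (d : K) :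
    ((1 : A) ⊗ₜ[k] d) * Phi (k := k) b c =
      Phi (k := k) b (Finsupp.mapRange.linearMap (LinearMap.mulLeft k d) c) := by
  induction c using Finsupp.induction_linear with
  | zero => simp
  | add f g hf hg => rw [map_add, mul_add, hf, hg, map_add, map_add]
  | single j n =>
    rw [Finsupp.mapRange.linearMap_apply, Finsupp.mapRange_single, Phi_single, Phi_single,
      Algebra.TensorProduct.tmul_mul_tmul, one_mul]
    rfl

end aux

theorem result (k : Type u) [Field k] (A : Type v) [Ring A] [Algebra k A]
    (K : Type w) [DivisionRing K] [Algebra k K] [Algebra.IsCentral k K]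
    (I : TwoSidedIdeal (A ⊗[k] K)) :
    I = TwoSidedIdeal.span ((fun a : A => a ⊗ₜ[k] (1 : K)) '' {a : A | a ⊗ₜ[k] (1 : K) ∈ I}) := by
  classical
  set J := TwoSidedIdeal.span ((fun a : A => a ⊗ₜ[k] (1 : K)) '' {a : A | a ⊗ₜ[k] (1 : K) ∈ I})
    with hJ
  have hJI : J ≤ I := by
    rw [hJ, TwoSidedIdeal.span_le]
    rintro _ ⟨a, ha, rfl⟩
    exact ha
  refine le_antisymm ?_ hJI
  -- the subspace `I₀` and a complement `W`
  let I₀ : Submodule k A :=
    { carrier := {a : A | a ⊗ₜ[k] (1 : K) ∈ I}
      add_mem' := fun {a b} ha hb => by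
        show (a + b) ⊗ₜ[k] (1 : K) ∈ I
        rw [TensorProduct.add_tmul]; exact I.add_mem ha hb
      zero_mem' := by
        show (0 : A) ⊗ₜ[k] (1 : K) ∈ I
        rw [TensorProduct.zero_tmul]; exact I.zero_mem
      smul_mem' := fun t a ha => by
        show (t • a) ⊗ₜ[k] (1 : K) ∈ I
        have : (t • a) ⊗ₜ[k] (1 : K) = ((algebraMap k A t) ⊗ₜ[k] (1 : K)) * (a ⊗ₜ[k] (1 : K)) := by
          rw [Algebra.TensorProduct.tmul_mul_tmul, mul_one, Algebra.smul_def]
        rw [this]; exact I.mul_mem_left _ _ ha }
  obtain ⟨W, hW⟩ := Submodule.exists_isCompl I₀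
  let bW := Module.Free.chooseBasis k W
  let b : Module.Free.ChooseBasisIndex k W → A := fun j => (bW j : A)
  -- (a') every element is congruent mod `J` to some `Φ c`
  have hcong : ∀ x : A ⊗[k] K, ∃ c, x - Phi (k := k) b c ∈ J := by
    intro x
    induction x using TensorProduct.induction_on with
    | zero => exact ⟨0, by simp [J.zero_mem]⟩
    | tmul a d =>
      obtain ⟨a₀, ha₀, w, hw, rfl⟩ : ∃ a₀ ∈ I₀, ∃ w ∈ W, a₀ + w = a := by
        have : a ∈ I₀ ⊔ W := by rw [hW.sup_eq_top]; trivial
        exact Submodule.mem_sup.mp this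
      refine ⟨Finsupp.mapRange.linearMap (LinearMap.toSpanSingleton k K d) (bW.repr ⟨w, hw⟩), ?_⟩
      have hΦ : Phi (k := k) b (Finsupp.mapRange.linearMap (LinearMap.toSpanSingleton k K d)
          (bW.repr ⟨w, hw⟩)) = w ⊗ₜ[k] d := by
        have hgen : ∀ t : Module.Free.ChooseBasisIndex k W →₀ k,
            Phi (k := k) b (Finsupp.mapRange.linearMap (LinearMap.toSpanSingleton k K d) t) =
              ((Finsupp.linearCombination k bW t : W) : A) ⊗ₜ[k] d := by
          intro t
          induction t using Finsupp.induction_linear with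
          | zero => simp
          | add f g hf hg => simp only [map_add, hf, hg, Submodule.coe_add, TensorProduct.add_tmul]
          | single j n =>
            simp [b, TensorProduct.smul_tmul]
        rw [hgen, bW.linearCombination_repr]
      rw [hΦ, TensorProduct.add_tmul, add_sub_cancel_right]
      have : a₀ ⊗ₜ[k] d = (a₀ ⊗ₜ[k] (1 : K)) * ((1 : A) ⊗ₜ[k] d) := by
        rw [Algebra.TensorProduct.tmul_mul_tmul, mul_one, one_mul]
      rw [this]
      exact J.mul_mem_right _ _ (TwoSidedIdeal.subset_span ⟨a₀, ha₀, rfl⟩)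
    | add x y hx hy =>
      obtain ⟨c, hc⟩ := hx
      obtain ⟨c', hc'⟩ := hy
      refine ⟨c + c', ?_⟩
      have : x + y - Phi (k := k) b (c + c') = (x - Phi (k := k) b c) + (y - Phi (k := k) b c') := by
        rw [map_add]; abel
      rw [this]; exact J.add_mem hc hc'
  -- (b') `Φ c ∈ I → c = 0`
  have hzero : ∀ (n : ℕ) (c : Module.Free.ChooseBasisIndex k W →₀ K),
      c.support.card ≤ n → Phi (k := k) b c ∈ I → c = 0 := by
    intro n
    induction n with
    | zero =>
      intro c hc _
      have : c.support = ∅ := Finset.card_eq_zero.mp (Nat.le_zero.mp hc)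
      exact Finsupp.support_eq_empty.mp this
    | succ n ih =>
      intro c hc hcI
      by_contra hne
      obtain ⟨j₀, hj₀⟩ : ∃ j₀, j₀ ∈ c.support := by
        by_contra h
        push Not at h
        exact hne (Finsupp.support_eq_empty.mp (Finset.eq_empty_of_forall_notMem h))
      have hu : c j₀ ≠ 0 := Finsupp.mem_support_iff.mp hj₀
      -- normalize
      obtain ⟨c₁, hc₁⟩ : ∃ c₁, c₁ = Finsupp.mapRange.linearMap (LinearMap.mulRight k (c j₀)⁻¹) c :=
        ⟨_, rfl⟩
      have hc₁I : Phi (k := k) b c₁ ∈ I := by
        rw [hc₁, ← Phi_mul_right]; exact I.mul_mem_right _ _ hcI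
      have hc₁j : ∀ j, c₁ j = c j * (c j₀)⁻¹ := fun j => by simp [hc₁]
      have hc₁j₀ : c₁ j₀ = 1 := by rw [hc₁j, mul_inv_cancel₀ hu]
      have hsupp₁ : c₁.support ⊆ c.support := by
        intro j hj
        rw [Finsupp.mem_support_iff] at hj ⊢
        intro h0; apply hj; rw [hc₁j, h0, zero_mul]
      -- commutators
      have hcomm : ∀ (d : K) j, d * c₁ j = c₁ j * d := by
        intro d j
        obtain ⟨cd, hcd⟩ : ∃ cd, cd = Finsupp.mapRange.linearMap (LinearMap.mulLeft k d) c₁ -
          Finsupp.mapRange.linearMap (LinearMap.mulRight k d) c₁ := ⟨_, rfl⟩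
        have hcdI : Phi (k := k) b cd ∈ I := by
          rw [hcd, map_sub, ← Phi_mul_left, ← Phi_mul_right]
          exact I.sub_mem (I.mul_mem_left _ _ hc₁I) (I.mul_mem_right _ _ hc₁I)
        have hcdj : ∀ j, cd j = d * c₁ j - c₁ j * d := fun j => by simp [hcd]
        have hsupp : cd.support ⊆ c.support.erase j₀ := by
          intro j hj
          rw [Finsupp.mem_support_iff] at hj
          rw [Finset.mem_erase]
          constructor
          · rintro rfl
            apply hj; rw [hcdj, hc₁j₀, mul_one, one_mul, sub_self]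
          · apply hsupp₁
            rw [Finsupp.mem_support_iff]
            intro h0; apply hj; rw [hcdj, h0, mul_zero, zero_mul, sub_self]
        have hcard : cd.support.card ≤ n := by
          have h1 := Finset.card_le_card hsupp
          rw [Finset.card_erase_of_mem hj₀] at h1
          omega
        have := ih cd hcard hcdI
        have h2 := hcdj j
        rw [this, Finsupp.zero_apply] at h2
        exact sub_eq_zero.mp h2.symm
      -- all coefficients are central
      have hcentral : ∀ j, ∃ t : k, algebraMap k K t = c₁ j := by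
        intro j
        have hmem : c₁ j ∈ Subalgebra.center k K := by
          rw [Subalgebra.mem_center_iff]
          intro d; exact hcomm d j
        have := Algebra.IsCentral.out hmem
        rw [Algebra.mem_bot] at this
        exact this
      choose t ht using hcentral
      -- `Φ c₁ = w ⊗ 1`
      let tf : Module.Free.ChooseBasisIndex k W →₀ k :=
        Finsupp.onFinset c₁.support t (fun j hj => by
          rw [Finsupp.mem_support_iff]
          intro h0; apply hj
          have := ht j
          rw [h0] at this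
          exact (map_eq_zero (algebraMap k K)).mp this)
      have htf : ∀ j, tf j = t j := fun j => rfl
      have hc₁eq : c₁ = Finsupp.mapRange.linearMap (LinearMap.toSpanSingleton k K 1) tf := by
        ext j
        simp [htf, ← ht j, Algebra.algebraMap_eq_smul_one]
      have hgen : ∀ s : Module.Free.ChooseBasisIndex k W →₀ k,
          Phi (k := k) b (Finsupp.mapRange.linearMap (LinearMap.toSpanSingleton k K 1) s) =
            ((Finsupp.linearCombination k bW s : W) : A) ⊗ₜ[k] (1 : K) := by
        intro s
        induction s using Finsupp.induction_linear with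
        | zero => simp
        | add f g hf hg => simp only [map_add, hf, hg, Submodule.coe_add, TensorProduct.add_tmul]
        | single j n => simp [b, TensorProduct.smul_tmul]
      have hw0 : ((Finsupp.linearCombination k bW tf : W) : A) ∈ I₀ := by
        show _ ⊗ₜ[k] (1 : K) ∈ I
        rw [← hgen, ← hc₁eq]; exact hc₁I
      have hw : (Finsupp.linearCombination k bW tf : W) = 0 := by
        have hmem : ((Finsupp.linearCombination k bW tf : W) : A) ∈ I₀ ⊓ W :=
          ⟨hw0, (Finsupp.linearCombination k bW tf : W).2⟩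
        rw [hW.inf_eq_bot, Submodule.mem_bot] at hmem
        exact Subtype.ext hmem
      have htf0 : tf = 0 := by
        have := bW.repr_linearCombination tf
        rw [hw, map_zero] at this
        exact this.symm
      have : c₁ j₀ = 0 := by rw [hc₁eq, htf0]; simp
      rw [hc₁j₀] at this
      exact one_ne_zero this
  intro x hx
  obtain ⟨c, hc⟩ := hcong x
  have hΦI : Phi (k := k) b c ∈ I := by
    have : Phi (k := k) b c = x - (x - Phi (k := k) b c) := by abel
    rw [this]; exact I.sub_mem hx (hJI hc)
  have hc0 := hzero _ c le_rfl hΦI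
  rw [hc0, map_zero, sub_zero] at hc
  exact hc

end Groth.Agent.S0191
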