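import Groth.Statements.S0197
import Mathlib

set_option autoImplicit false
universe u v w
open scoped TensorProduct
open Curves

namespace Groth.Agent.S0197

theorem result (k : Type u) [Field k]
    (D : Type u) [DivisionRing D] [Algebra k D] [Algebra.IsCentral k D] [FiniteDimensional k D]
    (d : ℕ) (hd : Module.finrank k D = d ^ 2)
    (k' : Type u) [Field k'] [Algebra k k'] [FiniteDimensional k k'] (hs : Curves.Splits k D k') :
    d ∣ Module.finrank k k' := by
  classical
  obtain ⟨n, hn, ⟨e⟩⟩ := hs
  -- `n = d`
  have h1 : Module.finrank k' (k' ⊗[k] D) = Module.finrank k D := Module.finrank_baseChange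
  have h2 : Module.finrank k' (k' ⊗[k] D) = n * n := by
    rw [e.toLinearEquiv.finrank_eq, Module.finrank_matrix]; simp
  have hnd : n = d := by
    have : n ^ 2 = d ^ 2 := by rw [← hd, ← h1, h2, sq]
    exact Nat.pow_left_injective (n := 2) (by norm_num) this
  subst hnd
  -- the `D`-module structure on `V = k'ⁿ`
  let ρ : D →ₐ[k] Module.End k' (Fin n → k') :=
    ((Matrix.toLinAlgEquiv' : Matrix (Fin n) (Fin n) k' ≃ₐ[k'] _).restrictScalars k).toAlgHom.comp
      ((e.restrictScalars k).toAlgHom.comp (Algebra.TensorProduct.includeRight : D →ₐ[k] k' ⊗[k] D))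
  let _ : Module D (Fin n → k') := Module.compHom (Fin n → k') ρ.toRingHom
  have : IsScalarTower k D (Fin n → k') := ⟨fun c x v => by
    show ρ (c • x) v = c • ρ x v
    rw [map_smul]; rfl⟩
  have hdvd : Module.finrank k D ∣ Module.finrank k (Fin n → k') :=
    Module.finrank_dvd_finrank_right k D (Fin n → k')
  have hV : Module.finrank k (Fin n → k') = Module.finrank k k' * n := by
    rw [← Module.finrank_mul_finrank k k' (Fin n → k')]; simp
  rw [hd, hV, sq] at hdvd
  have hnpos : 0 < n := Nat.pos_of_ne_zero hn
  exact (Nat.mul_dvd_mul_iff_right hnpos).mp (by rwa [mul_comm (Module.finrank k k') n] at hdvd ⊢)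

end Groth.Agent.S0197
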