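import Groth.Statements.S0218
import Mathlib
-- import your own Groth.Agent.* helpers here

set_option autoImplicit false
universe u
open Curves

namespace Groth.Agent.S0218

namespace H5S0218
open Polynomial

variable (k : Type u) [Field k] (A : Type u) [CommRing A] [Algebra k A]

/-- from cardinality two: bottom ≠ top and every subalgebra is one of them -/
lemma two_subalgebras (h : Nat.card (Subalgebra k A) = 2) :
    (⊥ : Subalgebra k A) ≠ ⊤ ∧ ∀ S : Subalgebra k A, S = ⊥ ∨ S = ⊤ := by
  obtain ⟨x, y, hxy, huniv⟩ := Nat.card_eq_two_iff.mp h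
  have mem : ∀ S : Subalgebra k A, S = x ∨ S = y := fun S => by
    have : S ∈ ({x, y} : Set (Subalgebra k A)) := huniv ▸ Set.mem_univ S
    simpa using this
  have hbt : (⊥ : Subalgebra k A) ≠ ⊤ := by
    intro hbt
    apply hxy
    have : ∀ S : Subalgebra k A, S = ⊥ := fun S => le_antisymm (hbt ▸ le_top) bot_le
    rw [this x, this y]
  refine ⟨hbt, fun S => ?_⟩
  rcases mem ⊥ with h1 | h1 <;> rcases mem ⊤ with h2 | h2 <;> rcases mem S with h3 | h3
  all_goals first
    | exact absurd (h1.trans h2.symm) hbt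
    | exact Or.inl (h3.trans h1.symm)
    | exact Or.inr (h3.trans h2.symm)

variable {k A}

lemma isIntegral_of_two (hbt : (⊥ : Subalgebra k A) ≠ ⊤)
    (hS : ∀ S : Subalgebra k A, S = ⊥ ∨ S = ⊤) (a : A) : IsIntegral k a := by
  rcases hS (Algebra.adjoin k {a ^ 2}) with h | h
  · have : a ^ 2 ∈ (⊥ : Subalgebra k A) := h ▸ Algebra.subset_adjoin (Set.mem_singleton _)
    obtain ⟨c, hc⟩ := Algebra.mem_bot.mp this
    refine ⟨X ^ 2 - C c, monic_X_pow_sub_C c two_ne_zero, ?_⟩
    simp [← hc]
  · have : a ∈ Algebra.adjoin k {a ^ 2} := h ▸ Algebra.mem_top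
    rw [Algebra.adjoin_singleton_eq_range_aeval] at this
    obtain ⟨g, hg⟩ := this
    have hq : (X - expand k 2 g : k[X]) ≠ 0 := by
      intro h0
      have := congrArg (fun q => coeff q 1) h0
      simp [coeff_expand] at this
    have hroot : aeval a (X - expand k 2 g : k[X]) = 0 := by
      have hg' : aeval (a ^ 2) g = a := hg
      rw [map_sub, aeval_X, expand_aeval, hg', sub_self]
    exact (isAlgebraic_iff_isIntegral).mp ⟨_, hq, hroot⟩


lemma exists_gen [IsAlgClosed k] (hbt : (⊥ : Subalgebra k A) ≠ ⊤)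
    (hS : ∀ S : Subalgebra k A, S = ⊥ ∨ S = ⊤) :
    ∃ (c : A) (μ : k), c ∉ (⊥ : Subalgebra k A) ∧ c * c = μ • c := by
  obtain ⟨a, -, ha⟩ := SetLike.exists_of_lt (lt_of_le_of_ne bot_le hbt)
  haveI : Nontrivial A := by
    by_contra hnt
    rw [not_nontrivial_iff_subsingleton] at hnt
    exact hbt (le_antisymm bot_le (fun x _ => by rw [Subsingleton.elim x 1]; exact one_mem _))
  have hint := isIntegral_of_two hbt hS a
  have hdeg : (minpoly k a).degree ≠ 0 := (minpoly.degree_pos hint).ne'
  obtain ⟨r, hr⟩ := IsAlgClosed.exists_root (minpoly k a) hdeg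
  set f := minpoly k a with hf
  set h := f /ₘ (X - C r) with hh
  have hfh : (X - C r) * h = f := mul_divByMonic_eq_iff_isRoot.mpr hr
  have hf0 : f ≠ 0 := minpoly.ne_zero hint
  have hh0 : h ≠ 0 := by
    rintro h0
    rw [h0, mul_zero] at hfh
    exact hf0 hfh.symm
  set c := aeval a h with hc
  have hac : (a - algebraMap k A r) * c = 0 := by
    have : aeval a f = 0 := minpoly.aeval k a
    rw [← hfh, map_mul] at this
    simpa using this
  have hc0 : c ≠ 0 := by
    intro hc0
    have h1 := natDegree_le_natDegree (minpoly.degree_le_of_ne_zero k a hh0 hc0)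
    rw [← hf, ← hfh, natDegree_mul (X_sub_C_ne_zero r) hh0, natDegree_X_sub_C] at h1
    omega
  have hcbot : c ∉ (⊥ : Subalgebra k A) := by
    intro hcb
    obtain ⟨l, hl⟩ := Algebra.mem_bot.mp hcb
    have hl0 : l ≠ 0 := by
      rintro rfl
      apply hc0
      rw [← hl, map_zero]
    apply ha
    rw [← hl, mul_comm, ← Algebra.smul_def] at hac
    have := (smul_eq_zero.mp hac).resolve_left hl0
    rw [sub_eq_zero] at this
    rw [this]
    exact Subalgebra.algebraMap_mem _ r
  have hpow : ∀ n : ℕ, a ^ n * c = (r ^ n) • c := by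
    intro n
    induction n with
    | zero => simp
    | succ n ih =>
      have : a * c = r • c := by
        rw [sub_mul, sub_eq_zero] at hac
        rw [hac, Algebra.smul_def]
      rw [pow_succ, mul_assoc, this, mul_smul_comm, ih, smul_smul, pow_succ']
  have hP : ∀ P : k[X], aeval a P * c = (P.eval r) • c := by
    intro P
    induction P using Polynomial.induction_on' with
    | add p q hp hq => rw [map_add, add_mul, hp, hq, eval_add, add_smul]
    | monomial n t =>
      rw [aeval_monomial, eval_monomial, mul_assoc, hpow, ← Algebra.smul_def, smul_smul]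
  exact ⟨c, h.eval r, hcbot, hP h⟩


section fin
variable (hbt : (⊥ : Subalgebra k A) ≠ ⊤) (hS : ∀ S : Subalgebra k A, S = ⊥ ∨ S = ⊤)
  (c : A) (μ : k) (hc : c ∉ (⊥ : Subalgebra k A)) (hcc : c * c = μ • c)
include hS hc hcc

lemma span_eq (x : A) : ∃ α β : k, x = α • (1 : A) + β • c := by
  have htop : Algebra.adjoin k {c} = ⊤ := by
    rcases hS (Algebra.adjoin k {c}) with h | h
    · exact absurd (h ▸ Algebra.subset_adjoin (Set.mem_singleton c)) hc
    · exact h
  have hx : x ∈ Algebra.adjoin k {c} := htop ▸ Algebra.mem_top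
  induction hx using Algebra.adjoin_induction with
  | mem y hy =>
    rw [Set.mem_singleton_iff] at hy
    exact ⟨0, 1, by rw [hy]; simp⟩
  | algebraMap r => exact ⟨r, 0, by simp [Algebra.algebraMap_eq_smul_one]⟩
  | add y z _ _ hy hz =>
    obtain ⟨α, β, rfl⟩ := hy
    obtain ⟨α', β', rfl⟩ := hz
    exact ⟨α + α', β + β', by simp only [add_smul]; abel⟩
  | mul y z _ _ hy hz =>
    obtain ⟨α, β, rfl⟩ := hy
    obtain ⟨α', β', rfl⟩ := hz
    refine ⟨α * α', α * β' + α' * β + β * β' * μ, ?_⟩
    simp only [add_mul, mul_add, smul_mul_smul_comm, one_mul, mul_one, hcc, add_smul, smul_smul]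
    rw [mul_comm α' β, mul_comm (β * β') μ, ← mul_assoc]
    abel

omit hS hcc in
include hc in
lemma indep (α β : k) (h : α • (1 : A) + β • c = 0) : α = 0 ∧ β = 0 := by
  have hβ : β = 0 := by
    by_contra hβ
    apply hc
    have : c = (-(β⁻¹ * α)) • (1 : A) := by
      have h2 : β • c = -(α • (1 : A)) := eq_neg_of_add_eq_zero_right h
      calc c = β⁻¹ • (β • c) := by rw [smul_smul, inv_mul_cancel₀ hβ, one_smul]
        _ = _ := by rw [h2, smul_neg, smul_smul, neg_smul]
    rw [this, ← Algebra.algebraMap_eq_smul_one]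
    exact Subalgebra.algebraMap_mem _ _
  refine ⟨?_, hβ⟩
  rw [hβ, zero_smul, add_zero] at h
  by_contra hα
  apply hc
  have h1 : (1 : A) = 0 := by
    calc (1 : A) = α⁻¹ • (α • (1 : A)) := by rw [smul_smul, inv_mul_cancel₀ hα, one_smul]
      _ = 0 := by rw [h, smul_zero]
  have : c = 0 := by rw [← one_mul c, h1, zero_mul]
  rw [this]
  exact zero_mem _


lemma dual (hμ : μ = 0) : Nonempty (A ≃ₐ[k] DualNumber k) := by
  have hcc0 : c * c = 0 := by rw [hcc, hμ, zero_smul]
  let φ : DualNumber k →ₐ[k] A :=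
    DualNumber.lift ⟨(Algebra.ofId k A, c), hcc0, fun a => Commute.all _ _⟩
  have hφ : ∀ x : DualNumber k, φ x = x.fst • (1:A) + x.snd • c := by
    intro x
    show DualNumber.lift _ x = _
    rw [DualNumber.lift_apply_apply]
    simp [Algebra.ofId_apply, Algebra.algebraMap_eq_smul_one]
  have hbij : Function.Bijective φ := by
    constructor
    · rw [injective_iff_map_eq_zero]
      intro x hx
      rw [hφ] at hx
      obtain ⟨h1, h2⟩ := indep c hc _ _ hx
      exact TrivSqZeroExt.ext h1 h2
    · intro x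
      obtain ⟨α, β, rfl⟩ := span_eq hS c μ hc hcc x
      refine ⟨TrivSqZeroExt.inl α + TrivSqZeroExt.inr β, ?_⟩
      rw [hφ]; simp
  exact ⟨(AlgEquiv.ofBijective φ hbij).symm⟩

lemma prod (hμ : μ ≠ 0) : Nonempty (A ≃ₐ[k] (k × k)) := by
  set e := μ⁻¹ • c with he
  have hee : e * e = e := by
    rw [he, smul_mul_smul_comm, hcc, smul_smul]
    congr 1
    field_simp
  have h1 : (1 - e) * (1 - e) = 1 - e := by
    rw [sub_mul, mul_sub, mul_sub, hee]; ring
  have h2 : (1 - e) * e = 0 := by rw [sub_mul, one_mul, hee, sub_self]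
  have h3 : e * (1 - e) = 0 := by rw [mul_comm, h2]
  let L : k × k →ₗ[k] A :=
    LinearMap.coprod (LinearMap.toSpanSingleton k A (1 - e)) (LinearMap.toSpanSingleton k A e)
  have hL : ∀ x : k × k, L x = x.1 • (1 - e) + x.2 • e := fun x => by
    simp [L, LinearMap.coprod_apply, LinearMap.toSpanSingleton_apply]
  let ψ : k × k →ₐ[k] A := AlgHom.ofLinearMap L (by rw [hL]; simp) (by
      intro x y
      rw [hL, hL, hL]
      simp only [Prod.fst_mul, Prod.snd_mul, add_mul, mul_add, smul_mul_smul_comm, h1, h2, h3, hee,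
        smul_zero, add_zero, zero_add])
  have hψ : ∀ x : k × k, ψ x = x.1 • (1 : A) + ((x.2 - x.1) * μ⁻¹) • c := by
    intro x
    show L x = _
    rw [hL, he, smul_sub, smul_smul, smul_smul, sub_mul, sub_smul]
    abel
  have hbij : Function.Bijective ψ := by
    constructor
    · rw [injective_iff_map_eq_zero]
      intro x hx
      rw [hψ] at hx
      obtain ⟨h1, h2⟩ := indep c hc _ _ hx
      have : x.2 - x.1 = 0 := by
        rcases mul_eq_zero.mp h2 with h | h
        · exact h
        · exact absurd h (inv_ne_zero hμ)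
      ext
      · exact h1
      · show x.2 = 0
        rw [sub_eq_zero.mp this]; exact h1
    · intro x
      obtain ⟨α, β, rfl⟩ := span_eq hS c μ hc hcc x
      refine ⟨(α, α + β * μ), ?_⟩
      rw [hψ]
      simp only [add_sub_cancel_left, mul_assoc, mul_inv_cancel₀ hμ, mul_one]
  exact ⟨(AlgEquiv.ofBijective ψ hbij).symm⟩

end fin

end H5S0218


/-- Over an algebraically closed field k, a commutative k-algebra with exactly two k-subalgebras is
isomorphic to k × k or to the dual numbers over k. -/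
theorem result (k : Type u) [Field k] [IsAlgClosed k] (A : Type u) [CommRing A] [Algebra k A]
    (h : Nat.card (Subalgebra k A) = 2) :
    Nonempty (A ≃ₐ[k] (k × k)) ∨ Nonempty (A ≃ₐ[k] DualNumber k) := by
  obtain ⟨hbt, hS⟩ := H5S0218.two_subalgebras k A h
  obtain ⟨c, μ, hc, hcc⟩ := H5S0218.exists_gen hbt hS
  by_cases hμ : μ = 0
  · exact Or.inr (H5S0218.dual hS c μ hc hcc hμ)
  · exact Or.inl (H5S0218.prod hS c μ hc hcc hμ)

end Groth.Agent.S0218
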