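import Groth.Statements.S0219
import Mathlib
import Groth.Agent.Lib.helper7.DimSch6
import Groth.Agent.Lib.helper9.TopDim

set_option autoImplicit false
universe u
open CategoryTheory CategoryTheory.Limits AlgebraicGeometry TopologicalSpace
open Curves

namespace Groth.Agent.S0219


open TopologicalSpace in
theorem chain_false {T : Type*} [TopologicalSpace T] [T0Space T]
    (hdim : topologicalKrullDim T ≤ 1) (a b c : T) (hab : a ⤳ b) (hbc : b ⤳ c)
    (h1 : a ≠ b) (h2 : b ≠ c) : False := by
  have hlt : ∀ u v : T, u ⤳ v → u ≠ v →
      (⟨closure {v}, isIrreducible_singleton.closure, isClosed_closure⟩ : IrreducibleCloseds T) <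
        ⟨closure {u}, isIrreducible_singleton.closure, isClosed_closure⟩ := by
    intro u v huv hne
    refine lt_of_le_of_ne ?_ ?_
    · show closure {v} ⊆ closure {u}
      exact closure_minimal (Set.singleton_subset_iff.mpr huv.mem_closure) isClosed_closure
    · intro he
      have he' : closure ({v} : Set T) = closure {u} := congrArg (fun C : IrreducibleCloseds T => (C : Set T)) he
      exact hne ((inseparable_iff_closure_eq.mpr he').eq).symm
  have e1 := Order.height_add_one_le (hlt b c hbc h2)
  have e2 := Order.height_add_one_le (hlt a b hab h1)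
  have e3 : (2 : ℕ∞) ≤ Order.height
      (⟨closure {a}, isIrreducible_singleton.closure, isClosed_closure⟩ : IrreducibleCloseds T) := by
    calc (2 : ℕ∞) = 0 + 1 + 1 := by norm_num
      _ ≤ Order.height (⟨closure {c}, isIrreducible_singleton.closure, isClosed_closure⟩ :
            IrreducibleCloseds T) + 1 + 1 := by gcongr; exact zero_le
      _ ≤ Order.height (⟨closure {b}, isIrreducible_singleton.closure, isClosed_closure⟩ :
            IrreducibleCloseds T) + 1 := by gcongr
      _ ≤ _ := e2
  have e4 : ((2 : ℕ∞) : WithBot ℕ∞) ≤ 1 :=
    (WithBot.coe_le_coe.mpr e3).trans ((Order.height_le_krullDim _).trans hdim)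
  have e5 : (2 : ℕ∞) ≤ 1 := by exact_mod_cast e4
  exact absurd e5 (by norm_num)

open AlgebraicGeometry CategoryTheory TopologicalSpace in
theorem one_le_dim_closure {T : Type*} [TopologicalSpace T] [T0Space T] (x x' : T)
    (h : x ⤳ x') (hne : x ≠ x') : (1 : WithBot ℕ∞) ≤ topologicalKrullDim (closure ({x} : Set T)) := by
  let A : IrreducibleCloseds T := ⟨closure {x}, isIrreducible_singleton.closure, isClosed_closure⟩
  let B : IrreducibleCloseds T := ⟨closure {x'}, isIrreducible_singleton.closure, isClosed_closure⟩
  have hBA : B < A := by
    refine lt_of_le_of_ne ?_ ?_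
    · show closure {x'} ⊆ closure {x}
      exact closure_minimal (Set.singleton_subset_iff.mpr h.mem_closure) isClosed_closure
    · intro he
      have he' : closure ({x'} : Set T) = closure {x} := congrArg (fun C : IrreducibleCloseds T => (C : Set T)) he
      exact hne ((inseparable_iff_closure_eq.mpr he').eq).symm
  have h1 := Order.height_add_one_le hBA
  have h2 := Groth.Agent.H9TopDim.height_le_dim_closed A (closure {x}) isClosed_closure le_rfl
  have h3 : (1 : ℕ∞) ≤ Order.height A := le_trans (by simp) h1
  calc (1 : WithBot ℕ∞) ≤ ((Order.height A : ℕ∞) : WithBot ℕ∞) := by exact_mod_cast h3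
    _ ≤ _ := h2

/-- A morphism over a field from a proper scheme of dimension at most one to a separated scheme, which
does not contract any one-dimensional irreducible component to a point, is finite. -/
theorem result (k : Type u) [Field k] (X Y : Scheme.{u}) (p : X ⟶ Spec (CommRingCat.of k)) (q : Y ⟶ Spec (CommRingCat.of k))
    [IsProper p] [IsSeparated q] (f : X ⟶ Y) (hf : f ≫ q = p) (hdim : topologicalKrullDim X ≤ 1)
    (h : ∀ Z ∈ irreducibleComponents (X : Type u), topologicalKrullDim Z = 1 → (f.base '' Z).Nontrivial) :
    IsFinite f := by
  haveI : IsProper (f ≫ q) := by rw [hf]; infer_instance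
  haveI : IsProper f := IsProper.of_comp f q
  haveI : IsLocallyNoetherian X := LocallyOfFiniteType.isLocallyNoetherian p
  haveI : CompactSpace X := QuasiCompact.compactSpace_of_compactSpace p
  haveI : IsNoetherian X := {}
  haveI : LocallyQuasiFinite f := by
    apply LocallyQuasiFinite.of_finite_preimage_singleton
    intro y
    have hcl : ∀ x : X, IsClosed ({x} : Set X) → IsClosed ({f x} : Set Y) := fun x hx => by
      have := f.isClosedMap _ hx
      rwa [Set.image_singleton] at this
    have hnc : ∀ x : X, ¬ IsClosed ({x} : Set X) →
        (∀ η : X, η ⤳ x → η = x) ∧ (f '' closure {x}).Nontrivial := by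
      intro x hx
      obtain ⟨x', hx'1, hx'2⟩ : ∃ x' : X, x ⤳ x' ∧ x ≠ x' := by
        by_contra hcon
        push Not at hcon
        apply hx
        have : closure ({x} : Set X) = {x} := by
          ext z
          constructor
          · intro hz
            have := hcon z (specializes_iff_mem_closure.mpr hz)
            rw [Set.mem_singleton_iff]; exact this.symm
          · intro hz
            rw [Set.mem_singleton_iff] at hz
            rw [hz]; exact subset_closure rfl
        rw [← this]; exact isClosed_closure
      have hmax : ∀ η : X, η ⤳ x → η = x := by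
        intro η hη
        by_contra hne
        exact chain_false hdim η x x' hη hx'1 hne hx'2
      refine ⟨hmax, ?_⟩
      have hcomp : closure ({x} : Set X) ∈ irreducibleComponents (X : Type u) :=
        (Groth.Agent.Lib.helper7.DimSch.closure_mem_irreducibleComponents_iff x).mpr hmax
      apply h _ hcomp
      apply le_antisymm
      · exact (Groth.Agent.H9TopDim.dim_subset_le _).trans hdim
      · exact one_le_dim_closure x x' hx'1 hx'2
    by_cases hex : ∃ z ∈ f ⁻¹' {y}, IsClosed ({z} : Set X)
    · obtain ⟨z, hzF, hz⟩ := hex
      have hzF' : f z = y := hzF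
      have hyc : IsClosed ({y} : Set Y) := by
        have := hcl z hz
        rwa [hzF'] at this
      have hFc : IsClosed (f ⁻¹' {y}) := hyc.preimage f.continuous
      apply Groth.Agent.Lib.helper7.DimSch.finite_of_isClosed_of_forall_isClosed _ hFc
      intro x hxF
      have hxF' : f x = y := hxF
      by_contra hx
      obtain ⟨-, hnt⟩ := hnc x hx
      have hsub : f '' closure {x} ⊆ {y} := by
        rintro _ ⟨w, hw, rfl⟩
        have h1 : x ⤳ w := specializes_iff_mem_closure.mpr hw
        have h2 := h1.map f.continuous
        rw [hxF'] at h2
        have h3 := h2.mem_closure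
        rw [hyc.closure_eq] at h3
        exact h3
      exact Set.not_subsingleton_iff.mpr hnt (Set.subsingleton_singleton.anti hsub)
    · push Not at hex
      have hinj : Set.InjOn (fun x : X => closure ({x} : Set X)) (f ⁻¹' {y}) := by
        intro a _ b _ hab
        exact (inseparable_iff_closure_eq.mpr hab).eq
      have hmaps : Set.MapsTo (fun x : X => closure ({x} : Set X)) (f ⁻¹' {y})
          (irreducibleComponents (X : Type u)) := fun x hx =>
        (Groth.Agent.Lib.helper7.DimSch.closure_mem_irreducibleComponents_iff x).mpr
          (hnc x (hex x hx)).1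
      exact Set.Finite.of_injOn hmaps hinj
        TopologicalSpace.NoetherianSpace.finite_irreducibleComponents
  exact IsFinite.of_isProper_of_locallyQuasiFinite f

end Groth.Agent.S0219
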