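import Groth.Statements.S0220
import Mathlib
import Groth.Agent.Lib.helper7.LFTNoeth
import Groth.Agent.Lib.helper7.DimBC

set_option autoImplicit false
universe u
open CategoryTheory CategoryTheory.Limits AlgebraicGeometry TopologicalSpace
open Curves

namespace Groth.Agent.S0220


theorem subsingleton_of_dim_one {T : Type*} [TopologicalSpace T] [T0Space T] [IrreducibleSpace T]
    (hT : topologicalKrullDim T = 1) (Z : Set T) (hZ : IsIrreducible Z) (hZc : IsClosed Z)
    (hne : Z ≠ Set.univ) : Z.Subsingleton := by
  have hle : Order.krullDim (IrreducibleCloseds T) ≤ 1 := by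
    have : topologicalKrullDim T ≤ 1 := hT.le
    exact this
  rw [Order.krullDim_le_one_iff] at hle
  let Z' : IrreducibleCloseds T := ⟨Z, hZ, hZc⟩
  have huniv : IsIrreducible (Set.univ : Set T) := IrreducibleSpace.isIrreducible_univ T
  let U' : IrreducibleCloseds T := ⟨Set.univ, huniv, isClosed_univ⟩
  rcases hle Z' with hmin | hmax
  · intro z hz z' hz'
    have key : ∀ w ∈ Z, Z ⊆ closure {w} := by
      intro w hw
      let W' : IrreducibleCloseds T := ⟨closure {w}, isIrreducible_singleton.closure, isClosed_closure⟩
      have hW : W' ≤ Z' := by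
        show closure {w} ⊆ Z
        exact hZc.closure_subset_iff.mpr (Set.singleton_subset_iff.mpr hw)
      exact hmin hW
    have h1 : z' ∈ closure {z} := key z hz hz'
    have h2 : z ∈ closure {z'} := key z' hz' hz
    have s1 : z ⤳ z' := specializes_iff_mem_closure.mpr h1
    have s2 : z' ⤳ z := specializes_iff_mem_closure.mpr h2
    exact (s1.antisymm s2).eq
  · exfalso
    apply hne
    have hle' : Z' ≤ U' := by
      show Z ⊆ Set.univ
      exact Set.subset_univ _
    have := hmax hle'
    exact Set.eq_univ_of_univ_subset this

/-- A nonconstant morphism between curves over a field (integral, separated, finite type, dimension one)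
whose target has integrally closed local domains is flat. -/
theorem result (k : Type u) [Field k] (X Y : Scheme.{u}) (p : X ⟶ Spec (CommRingCat.of k)) (q : Y ⟶ Spec (CommRingCat.of k))
    [IsIntegral X] [IsIntegral Y] [IsSeparated p] [IsSeparated q] [LocallyOfFiniteType p] [LocallyOfFiniteType q]
    [QuasiCompact p] [QuasiCompact q] (hX : topologicalKrullDim X = 1) (hY : topologicalKrullDim Y = 1)
    (hN : ∀ y : Y, IsDomain (Y.presheaf.stalk y) ∧ IsIntegrallyClosed (Y.presheaf.stalk y))
    (f : X ⟶ Y) (hf : f ≫ q = p) (hnc : (Set.range f.base).Nontrivial) :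
    Flat f := by
  classical
  have hdense : DenseRange f.base := by
    by_contra hnd
    have hirr : IsIrreducible (Set.range f.base) := by
      rw [← Set.image_univ]
      exact (IrreducibleSpace.isIrreducible_univ X).image f.base f.continuous.continuousOn
    have hsub := subsingleton_of_dim_one hY (closure (Set.range f.base)) hirr.closure
      isClosed_closure (by
        intro h
        apply hnd
        rw [DenseRange, dense_iff_closure_eq]
        exact h)
    exact hnc.not_subsingleton (hsub.anti subset_closure)
  haveI : IsLocallyNoetherian Y :=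
    Groth.Agent.Lib.helper7.LFTNoeth.isLocallyNoetherian_of_locallyOfFiniteType q
  rw [Flat.iff_flat_stalkMap]
  intro x
  obtain ⟨hdom, hic⟩ := hN (f.base x)
  have hdim : ringKrullDim (Y.presheaf.stalk (f.base x)) ≤ 1 := by
    rw [← hY]
    exact Groth.Agent.Lib.helper7.DimBC.ringKrullDim_stalk_le_topologicalKrullDim Y _
  haveI : Ring.KrullDimLE 1 (Y.presheaf.stalk (f.base x)) := by
    rw [Ring.krullDimLE_iff]; exact hdim
  haveI : Ring.DimensionLEOne (Y.presheaf.stalk (f.base x)) :=
    ⟨fun {p} hp hp' => hp'.isMaximal_of_ne_bot hp⟩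
  haveI : IsDedekindDomain (Y.presheaf.stalk (f.base x)) :=
    { toIsDomain := hdom }
  have hinj : Function.Injective (f.stalkMap x).hom := by
    obtain ⟨_, ⟨V, hV, rfl⟩, hyV, -⟩ :=
      Y.isBasis_affineOpens.exists_subset_of_mem_open (Set.mem_univ (f.base x)) isOpen_univ
    have hV' : IsAffineOpen V := hV
    apply hV'.stalkMap_injective f x hyV
    intro g hg
    rw [Scheme.Hom.germ_stalkMap_apply] at hg
    have h0 : f.app V g = 0 := by
      apply germ_injective_of_isIntegral X x hyV
      rw [hg, map_zero]
    have hg0 : g = 0 := by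
      rw [← basicOpen_eq_bot_iff]
      by_contra hne
      have hne' : (Y.basicOpen g : Set Y).Nonempty := by
        rw [Set.nonempty_iff_ne_empty]
        intro h
        apply hne
        ext1
        simpa using h
      obtain ⟨x', hx'⟩ := hdense.exists_mem_open (Y.basicOpen g).isOpen hne'
      have : x' ∈ f ⁻¹ᵁ (Y.basicOpen g) := hx'
      rw [Scheme.preimage_basicOpen, h0, Scheme.basicOpen_zero] at this
      exact this
    rw [hg0, map_zero]
  algebraize [(f.stalkMap x).hom]
  haveI : Module.IsTorsionFree (Y.presheaf.stalk (f.base x)) (X.presheaf.stalk x) :=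
    Module.isTorsionFree_iff_algebraMap_injective.mpr hinj
  show Module.Flat (Y.presheaf.stalk (f.base x)) (X.presheaf.stalk x)
  infer_instance

end Groth.Agent.S0220
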