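import Groth.Statements.S0249
import Mathlib

set_option autoImplicit false
universe u
open Pi1

namespace Groth.Agent.S0249

open AlgebraicGeometry CategoryTheory CategoryTheory.Limits in
/-- Let A be a Noetherian local ring of dimension at least 1 and f an element of its maximal ideal. Then
some prime ideal of height exactly 1 contains f. -/
theorem result (A : Type u) [CommRing A] [IsNoetherianRing A] [IsLocalRing A]
    (h : (1 : WithBot ℕ∞) ≤ ringKrullDim A) (f : A) (hf : f ∈ IsLocalRing.maximalIdeal A) :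
    ∃ p : Ideal A, p.IsPrime ∧ f ∈ p ∧ p.height = 1 := by
  classical
  have hm1 : (1 : ℕ∞) ≤ (IsLocalRing.maximalIdeal A).height := by
    have h1 : ((IsLocalRing.maximalIdeal A).height : WithBot ℕ∞) = ringKrullDim A :=
      IsLocalRing.maximalIdeal_height_eq_ringKrullDim
    rw [← h1] at h
    exact WithBot.coe_le_coe.1 (by simpa using h)
  have hS : ({q : Ideal A | q.IsPrime ∧ f ∈ q ∧ 1 ≤ q.height} : Set (Ideal A)).Nonempty :=
    ⟨IsLocalRing.maximalIdeal A, (IsLocalRing.maximalIdeal.isMaximal A).isPrime, hf, hm1⟩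
  obtain ⟨q, ⟨hqprime, hfq, hq1⟩, hqmin⟩ :=
    (InvImage.wf (fun q : Ideal A => q.height)
      (wellFounded_lt : WellFounded ((· < ·) : ℕ∞ → ℕ∞ → Prop))).has_min _ hS
  haveI := hqprime
  refine ⟨q, hqprime, hfq, le_antisymm ?_ hq1⟩
  by_contra hcon
  have hcon' : ¬ q.height ≤ ((1 : ℕ) : ℕ∞) := by simpa using hcon
  rw [Ideal.height_le_iff] at hcon'
  push_neg at hcon'
  obtain ⟨p1, hp1prime, hp1q, hp1h⟩ := hcon'
  haveI := hp1prime
  have hp1h' : ¬ p1.height ≤ ((0 : ℕ) : ℕ∞) := by
    intro h0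
    have h00 : p1.height = 0 := le_antisymm (by simpa using h0) zero_le
    rw [h00] at hp1h
    simp at hp1h
  rw [Ideal.height_le_iff] at hp1h'
  push_neg at hp1h'
  obtain ⟨p0, hp0prime, hp0p1, _⟩ := hp1h'
  haveI := hp0prime
  have hcontra : ∀ t : Ideal A, t.IsPrime → f ∈ t → 1 ≤ t.height → t < q → False := by
    intro t ht hft ht1 htq
    haveI := ht
    exact hqmin t ⟨ht, hft, ht1⟩ (Ideal.height_strict_mono_of_isPrime_of_isPrime htq)
  have hpos : ∀ s t : Ideal A, s.IsPrime → t.IsPrime → s < t → 1 ≤ t.height := by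
    intro s t hs ht hst
    haveI := hs
    haveI := ht
    exact Order.one_le_iff_pos.2
      (lt_of_le_of_lt zero_le (Ideal.height_strict_mono_of_isPrime_of_isPrime hst))
  by_cases hfp0 : f ∈ p0
  · exact hcontra p1 hp1prime (hp0p1.le hfp0) (hpos p0 p1 hp0prime hp1prime hp0p1) hp1q
  · have hKq : p0 ⊔ Ideal.span {f} ≤ q :=
      sup_le (hp0p1.le.trans hp1q.le) ((Ideal.span_singleton_le_iff_mem q).2 hfq)
    obtain ⟨t, htmin, htq⟩ := Ideal.exists_minimalPrimes_le hKq
    haveI htprime : t.IsPrime := htmin.1.1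
    have hp0t : p0 ≤ t := le_sup_left.trans htmin.1.2
    have hft : f ∈ t := htmin.1.2 (Ideal.mem_sup_right (Ideal.mem_span_singleton_self f))
    have hp0ltt : p0 < t := lt_of_le_of_ne hp0t (fun h => hfp0 (h ▸ hft))
    have hkrull := Ideal.map_height_le_one_of_mem_minimalPrimes htmin
    have htneq : t ≠ q := by
      intro heq
      rw [heq] at hkrull
      have hsurj : Function.Surjective (Ideal.Quotient.mk p0) := Ideal.Quotient.mk_surjective
      have hker : RingHom.ker (Ideal.Quotient.mk p0) = p0 := Ideal.mk_ker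
      have hcm : ∀ B : Ideal A, p0 ≤ B →
          (B.map (Ideal.Quotient.mk p0)).comap (Ideal.Quotient.mk p0) = B := by
        intro B hB
        rw [Ideal.comap_map_of_surjective _ hsurj, ← RingHom.ker_eq_comap_bot, hker]
        exact sup_eq_left.2 hB
      haveI : (p1.map (Ideal.Quotient.mk p0)).IsPrime :=
        Ideal.map_isPrime_of_surjective hsurj (by rw [hker]; exact hp0p1.le)
      haveI : (q.map (Ideal.Quotient.mk p0)).IsPrime :=
        Ideal.map_isPrime_of_surjective hsurj (by rw [hker]; exact hp0p1.le.trans hp1q.le)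
      have hlt1 : (⊥ : Ideal (A ⧸ p0)) < p1.map (Ideal.Quotient.mk p0) := by
        rw [bot_lt_iff_ne_bot, Ne, Ideal.map_eq_bot_iff_le_ker, hker]
        exact not_le_of_gt hp0p1
      have hlt2 : p1.map (Ideal.Quotient.mk p0) < q.map (Ideal.Quotient.mk p0) := by
        refine lt_of_le_of_ne (Ideal.map_mono hp1q.le) (fun heq2 => hp1q.ne ?_)
        rw [← hcm p1 hp0p1.le, ← hcm q (hp0p1.le.trans hp1q.le), heq2]
      have h1 := Ideal.height_strict_mono_of_isPrime_of_isPrime hlt1
      have h2 := Ideal.height_strict_mono_of_isPrime_of_isPrime hlt2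
      have h3 : (p1.map (Ideal.Quotient.mk p0)).height < 1 := lt_of_lt_of_le h2 hkrull
      rw [ENat.lt_one_iff_eq_zero] at h3
      rw [h3] at h1
      exact not_lt_of_ge zero_le h1
    exact hcontra t htprime hft (hpos p0 t hp0prime htprime hp0ltt) (lt_of_le_of_ne htq htneq)

end Groth.Agent.S0249
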