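import Groth.Statements.S0253
import Mathlib

set_option autoImplicit false
universe u
open Pi1

namespace Groth.Agent.S0253

open Polynomial in
theorem exists_sep_factor {K : Type*} [Field K] (f : K[X]) (hf0 : f ≠ 0) (hc : f.coeff 1 ≠ 0) :
    ∃ g : K[X], Irreducible g ∧ g ∣ f ∧ g.Separable := by
  classical
  by_contra hcon
  push_neg at hcon
  have h1 : ∀ g ∈ UniqueFactorizationMonoid.factors f, derivative g = 0 := by
    intro g hg
    have hirr := UniqueFactorizationMonoid.irreducible_of_factor g hg
    have hdvd := UniqueFactorizationMonoid.dvd_of_mem_factors hg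
    by_contra hne
    exact hcon g hirr hdvd ((Polynomial.separable_iff_derivative_ne_zero hirr).2 hne)
  have h2 : derivative (UniqueFactorizationMonoid.factors f).prod = 0 := by
    refine Multiset.prod_induction (fun h => derivative h = 0) _ ?_ ?_ h1
    · intro a b ha hb
      rw [derivative_mul, ha, hb]
      simp
    · simp
  obtain ⟨u, hu⟩ := UniqueFactorizationMonoid.factors_prod hf0
  obtain ⟨r, hr, hru⟩ := Polynomial.isUnit_iff.1 u.isUnit
  have h3 : derivative f = 0 := by
    rw [← hu, ← hru, derivative_mul, h2, derivative_C]
    simp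
  apply hc
  have := congrArg (fun p => p.coeff 0) h3
  simpa [coeff_derivative] using this

open AlgebraicGeometry CategoryTheory CategoryTheory.Limits in
/-- Let A be an integrally closed domain whose fraction field is separably closed. Then the residue
field at any nonzero prime ideal of A is algebraically closed. -/
theorem result (A : Type u) [CommRing A] [IsDomain A] [IsIntegrallyClosed A] [IsSepClosed (FractionRing A)]
    (p : Ideal A) [p.IsPrime] (hp : p ≠ ⊥) : IsAlgClosed p.ResidueField := by
  classical
  haveI : IsIntegrallyClosed (Localization.AtPrime p) :=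
    isIntegrallyClosed_of_isLocalization _ p.primeCompl (Ideal.primeCompl_le_nonZeroDivisors p)
  obtain ⟨a, hap, ha0⟩ := Submodule.exists_mem_ne_zero_of_ne_bot hp
  have hπm : algebraMap A (Localization.AtPrime p) a ∈
      IsLocalRing.maximalIdeal (Localization.AtPrime p) :=
    (IsLocalization.AtPrime.to_map_mem_maximal_iff (Localization.AtPrime p) p a).2 hap
  have hinjAB : Function.Injective (algebraMap A (Localization.AtPrime p)) :=
    IsLocalization.injective (Localization.AtPrime p) (Ideal.primeCompl_le_nonZeroDivisors p)
  have hπ0 : algebraMap A (Localization.AtPrime p) a ≠ 0 := fun h =>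
    ha0 (hinjAB (by rw [h, map_zero]))
  have hinjBK : Function.Injective (algebraMap (Localization.AtPrime p) (FractionRing A)) :=
    IsFractionRing.injective (Localization.AtPrime p) (FractionRing A)
  have hres : IsLocalRing.residue (Localization.AtPrime p)
      (algebraMap A (Localization.AtPrime p) a) = 0 :=
    (IsLocalRing.residue_eq_zero_iff _).2 hπm
  apply IsAlgClosed.of_exists_root
  intro q hqm hqirr
  have hlift : q ∈ Polynomial.lifts (IsLocalRing.residue (Localization.AtPrime p)) := by
    rw [Polynomial.lifts_iff_coeff_lifts]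
    intro n
    exact IsLocalRing.residue_surjective _
  obtain ⟨Q, hQmap, hQdeg, hQm⟩ := Polynomial.lifts_and_degree_eq_and_monic hlift hqm
  obtain ⟨P, hPm, hPmap, hPc⟩ : ∃ P : Polynomial (Localization.AtPrime p), P.Monic ∧
      P.map (IsLocalRing.residue (Localization.AtPrime p)) = q ∧ P.coeff 1 ≠ 0 := by
    by_cases h1 : Q.coeff 1 = 0
    · refine ⟨Q + Polynomial.C (algebraMap A (Localization.AtPrime p) a) * Polynomial.X, ?_, ?_, ?_⟩
      · apply hQm.add_of_left
        have hnd : 2 ≤ Q.natDegree := by
          have hpos : 0 < q.natDegree := hqirr.natDegree_pos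
          have hdeg' : Q.natDegree = q.natDegree := Polynomial.natDegree_eq_of_degree_eq hQdeg
          by_contra hlt
          push_neg at hlt
          have h1' : Q.natDegree = 1 := by omega
          have hlc := hQm.coeff_natDegree
          rw [h1', h1] at hlc
          exact zero_ne_one hlc
        refine lt_of_le_of_lt (Polynomial.degree_C_mul_X_le _) ?_
        rw [Polynomial.degree_eq_natDegree hQm.ne_zero]
        exact_mod_cast (show 1 < Q.natDegree by omega)
      · rw [Polynomial.map_add, hQmap, Polynomial.map_mul, Polynomial.map_C, hres,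
          Polynomial.C_0, zero_mul, add_zero]
      · rw [Polynomial.coeff_add, h1, zero_add, Polynomial.coeff_C_mul, Polynomial.coeff_X_one,
          mul_one]
        exact hπ0
    · exact ⟨Q, hQm, hQmap, h1⟩
  have hPK0 : P.map (algebraMap (Localization.AtPrime p) (FractionRing A)) ≠ 0 :=
    (hPm.map _).ne_zero
  have hPKc : (P.map (algebraMap (Localization.AtPrime p) (FractionRing A))).coeff 1 ≠ 0 := by
    rw [Polynomial.coeff_map]
    intro h
    exact hPc (hinjBK (by rw [h, map_zero]))
  obtain ⟨g, hgirr, hgdvd, hgsep⟩ := exists_sep_factor _ hPK0 hPKc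
  have hgdeg := IsSepClosed.degree_eq_one_of_irreducible (FractionRing A) hgirr hgsep
  obtain ⟨α, hα⟩ := Polynomial.exists_root_of_degree_eq_one hgdeg
  have hαP : (P.map (algebraMap (Localization.AtPrime p) (FractionRing A))).IsRoot α :=
    hα.dvd hgdvd
  have hint : IsIntegral (Localization.AtPrime p) α :=
    ⟨P, hPm, by rw [← Polynomial.eval_map]; exact hαP⟩
  obtain ⟨β, hβ⟩ := IsIntegrallyClosed.isIntegral_iff.1 hint
  refine ⟨IsLocalRing.residue (Localization.AtPrime p) β, ?_⟩
  have hPβ : P.eval β = 0 := by
    apply hinjBK
    have h2 : P.eval₂ (algebraMap (Localization.AtPrime p) (FractionRing A))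
        (algebraMap (Localization.AtPrime p) (FractionRing A) β) = 0 := by
      rw [hβ, ← Polynomial.eval_map]
      exact hαP
    rw [Polynomial.eval₂_at_apply] at h2
    rw [h2, map_zero]
  rw [← hPmap, Polynomial.eval_map, Polynomial.eval₂_at_apply, hPβ, map_zero]

end Groth.Agent.S0253
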