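import Groth.Statements.S0254
import Mathlib

set_option autoImplicit false
universe u
open Pi1

namespace Groth.Agent.S0254

open Polynomial

section helpers

variable (A : Type*) [CommRing A] [IsDomain A] [IsIntegrallyClosed A]

theorem exists_irred_monic_factor (G : A[X]) (hG : G.Monic) (hd : 1 ≤ G.natDegree) :
    ∃ G₁ : A[X], G₁.Monic ∧ G₁ ∣ G ∧ Irreducible (G₁.map (algebraMap A (FractionRing A))) := by
  have hinj := IsFractionRing.injective A (FractionRing A)
  have hGK0 : G.map (algebraMap A (FractionRing A)) ≠ 0 := (hG.map _).ne_zero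
  have hGKnu : ¬ IsUnit (G.map (algebraMap A (FractionRing A))) := by
    intro h
    have := natDegree_eq_zero_of_isUnit h
    rw [hG.natDegree_map] at this
    omega
  obtain ⟨g, hgirr, hgdvd⟩ := WfDvdMonoid.exists_irreducible_factor hGKnu hGK0
  obtain ⟨G₁, hG₁⟩ := IsIntegrallyClosed.eq_map_mul_C_of_dvd (FractionRing A) hG hgdvd
  have hg0 : g ≠ 0 := hgirr.ne_zero
  have hlc : g.leadingCoeff ≠ 0 := leadingCoeff_ne_zero.2 hg0
  have hassoc : Associated (G₁.map (algebraMap A (FractionRing A))) g :=
    ⟨(Polynomial.isUnit_C.2 hlc.isUnit).unit, by rw [IsUnit.unit_spec]; exact hG₁⟩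
  have hmon : G₁.Monic := by
    have h1 := congrArg leadingCoeff hG₁
    rw [leadingCoeff_mul, leadingCoeff_C, leadingCoeff_map_of_injective hinj] at h1
    have h2 : algebraMap A (FractionRing A) G₁.leadingCoeff = 1 :=
      mul_right_cancel₀ hlc (by rw [h1, one_mul])
    exact hinj (by rw [h2, map_one])
  exact ⟨G₁, hmon, (Polynomial.map_dvd_map _ hinj hmon).1 (hassoc.dvd.trans hgdvd),
    hassoc.symm.irreducible hgirr⟩

theorem derivative_eq_zero_of_not_separable (G₁ : A[X])
    (hirr : Irreducible (G₁.map (algebraMap A (FractionRing A))))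
    (hns : ¬ (G₁.map (algebraMap A (FractionRing A))).Separable) : derivative G₁ = 0 := by
  have hinj := IsFractionRing.injective A (FractionRing A)
  have h := (separable_iff_derivative_ne_zero hirr).not.1 hns
  push_neg at h
  rw [derivative_map] at h
  exact map_injective _ hinj (by rw [h, Polynomial.map_zero])

theorem root_of_sep [IsSepClosed (FractionRing A)] (G₁ : A[X]) (hm : G₁.Monic)
    (hirr : Irreducible (G₁.map (algebraMap A (FractionRing A))))
    (hsep : (G₁.map (algebraMap A (FractionRing A))).Separable) :
    ∃ a : A, G₁ = X - C a := by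
  have hdeg := IsSepClosed.degree_eq_one_of_irreducible (FractionRing A) hirr hsep
  have hnd : G₁.natDegree = 1 := by
    have := natDegree_eq_of_degree_eq_some hdeg
    rwa [hm.natDegree_map] at this
  refine ⟨- G₁.coeff 0, ?_⟩
  rw [C_neg, sub_neg_eq_add]
  exact hm.eq_X_add_C hnd

theorem natDegree_pos_of_irred_map (G₁ : A[X]) (hm : G₁.Monic)
    (hirr : Irreducible (G₁.map (algebraMap A (FractionRing A)))) : 1 ≤ G₁.natDegree := by
  have := hirr.natDegree_pos
  rwa [hm.natDegree_map] at this

end helpers

open AlgebraicGeometry CategoryTheory CategoryTheory.Limits in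
/-- An integrally closed local domain whose fraction field is separably closed is henselian with
separably closed residue field (i.e. strictly henselian). -/
theorem result (A : Type u) [CommRing A] [IsDomain A] [IsLocalRing A] [IsIntegrallyClosed A]
    [IsSepClosed (FractionRing A)] :
    HenselianLocalRing A ∧ IsSepClosed (IsLocalRing.ResidueField A) := by
  constructor
  · refine ((HenselianLocalRing.TFAE A).out 0 1).2 ?_
    intro f hf a₀ h0 h1
    have claim : ∀ n : ℕ, ∀ G : A[X], G.natDegree = n → G.Monic → G ∣ f → aeval a₀ G = 0 →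
        ∃ a : A, G.IsRoot a ∧ IsLocalRing.residue A a = a₀ := by
      intro n
      induction n using Nat.strong_induction_on with
      | _ n ih =>
      intro G hGn hGm hGf hG0
      have hd : 1 ≤ G.natDegree := by
        by_contra hlt
        push_neg at hlt
        have h0' : G.natDegree = 0 := by omega
        have hG1 : G = 1 := Polynomial.eq_one_of_monic_natDegree_zero hGm h0'
        rw [hG1, map_one] at hG0
        exact one_ne_zero hG0
      obtain ⟨G₁, hG₁m, hG₁G, hG₁irr⟩ := exists_irred_monic_factor A G hGm hd
      obtain ⟨H, hH⟩ := hG₁G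
      have hHm : H.Monic := by
        rw [hH] at hGm
        exact hG₁m.of_mul_monic_left hGm
      by_cases hz : aeval a₀ G₁ = 0
      · have hsep : (G₁.map (algebraMap A (FractionRing A))).Separable := by
          by_contra hns
          have hder := derivative_eq_zero_of_not_separable A G₁ hG₁irr hns
          obtain ⟨Q, hQ⟩ := hGf
          have hf' : derivative f = derivative G₁ * (H * Q) + G₁ * derivative (H * Q) := by
            rw [hQ, hH, mul_assoc, derivative_mul]
          apply h1
          rw [hf', hder, zero_mul, zero_add, map_mul, hz, zero_mul]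
        obtain ⟨a, hform⟩ := root_of_sep A G₁ hG₁m hG₁irr hsep
        refine ⟨a, ?_, ?_⟩
        · rw [hH, hform]
          exact root_mul_right_of_isRoot _ (root_X_sub_C.2 rfl)
        · rw [hform, map_sub, aeval_X, aeval_C, IsLocalRing.ResidueField.algebraMap_eq] at hz
          exact (sub_eq_zero.1 hz).symm
      · have hH0 : aeval a₀ H = 0 := by
          rw [hH, map_mul] at hG0
          exact (mul_eq_zero.1 hG0).resolve_left hz
        have hlt : H.natDegree < n := by
          rw [← hGn, hH, hG₁m.natDegree_mul hHm]
          have := natDegree_pos_of_irred_map A G₁ hG₁m hG₁irr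
          omega
        obtain ⟨a, ha, hra⟩ := ih H.natDegree hlt H rfl hHm
          ((Dvd.intro_left G₁ hH.symm).trans hGf) hH0
        exact ⟨a, by rw [hH]; exact root_mul_left_of_isRoot _ ha, hra⟩
    exact claim f.natDegree f rfl hf dvd_rfl h0
  · apply IsSepClosed.of_exists_root
    intro q hqm hqirr hqsep
    have hlift : q ∈ Polynomial.lifts (IsLocalRing.residue A) := by
      rw [Polynomial.lifts_iff_coeff_lifts]
      intro n
      exact IsLocalRing.residue_surjective _
    obtain ⟨Q, hQmap, hQdeg, hQm⟩ := Polynomial.lifts_and_degree_eq_and_monic hlift hqm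
    have hd : 1 ≤ Q.natDegree := by
      rw [natDegree_eq_of_degree_eq hQdeg]
      exact hqirr.natDegree_pos
    obtain ⟨G₁, hG₁m, ⟨H, hH⟩, hG₁irr⟩ := exists_irred_monic_factor A Q hQm hd
    have hsep : (G₁.map (algebraMap A (FractionRing A))).Separable := by
      by_contra hns
      have hder := derivative_eq_zero_of_not_separable A G₁ hG₁irr hns
      have hq : q = G₁.map (IsLocalRing.residue A) * H.map (IsLocalRing.residue A) := by
        rw [← hQmap, hH, Polynomial.map_mul]
      have hq' : derivative q =
          G₁.map (IsLocalRing.residue A) * derivative (H.map (IsLocalRing.residue A)) := by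
        rw [hq, derivative_mul, derivative_map, hder, Polynomial.map_zero, zero_mul, zero_add]
      have hcop : IsCoprime q (derivative q) := hqsep
      have hunit : IsUnit (G₁.map (IsLocalRing.residue A)) :=
        hcop.isUnit_of_dvd' (Dvd.intro _ hq.symm) (Dvd.intro _ hq'.symm)
      have h0 := natDegree_eq_zero_of_isUnit hunit
      rw [hG₁m.natDegree_map] at h0
      have := natDegree_pos_of_irred_map A G₁ hG₁m hG₁irr
      omega
    obtain ⟨a, hform⟩ := root_of_sep A G₁ hG₁m hG₁irr hsep
    refine ⟨IsLocalRing.residue A a, ?_⟩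
    rw [← hQmap, Polynomial.eval_map, Polynomial.eval₂_at_apply, hH, hform]
    simp

end Groth.Agent.S0254
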