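import Groth.Statements.S0258
import Groth.Agent.Lib.helper21.PS4

set_option autoImplicit false
universe u
open Pi1

namespace Groth.Agent.S0258

open AlgebraicGeometry CategoryTheory CategoryTheory.Limits in
/-- For a Noetherian local ring A of depth at least 2, the functor restricting finite étale covers of
Spec A to the punctured spectrum is fully faithful (full and faithful). The published statement
assumes instead that the punctured spectrum of the strict henselization of A is connected; depth at
least 2 is a sufficient condition for this, and the result is stated here under that hypothesis. -/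
theorem result (A : Type u) [CommRing A] [IsNoetherianRing A] [IsLocalRing A] (hA : (2 : ℕ∞) ≤ LocCoh.depth A A) :
    (FEt.restrict (FEt.puncturedSpec A).ι).Full ∧ (FEt.restrict (FEt.puncturedSpec A).ι).Faithful := by
  have hU : ∀ x : PrimeSpectrum A,
      x ∈ (show TopologicalSpace.Opens (PrimeSpectrum A) from FEt.puncturedSpec A) ↔
        x ≠ IsLocalRing.closedPoint A := fun x => Iff.rfl
  have hbij : ∀ {T : Scheme.{u}} (g : T ⟶ Spec (CommRingCat.of A)), FEt.prop g →
      Function.Bijective (pullback.fst g (FEt.puncturedSpec A).ι).appTop.hom := by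
    intro T g hg
    haveI : IsFinite g := hg.1
    haveI : Etale g := hg.2
    exact Groth.Agent.H21.PS.fst_appTop_bijective A hA (FEt.puncturedSpec A) hU g
  have haff : ∀ {T : Scheme.{u}} (g : T ⟶ Spec (CommRingCat.of A)), FEt.prop g → IsAffine T := by
    intro T g hg
    haveI : IsFinite g := hg.1
    exact isAffine_of_isAffineHom g
  constructor
  · refine ⟨fun {Y Y'} h => ?_⟩
    haveI : IsAffine Y.left := haff Y.hom Y.prop
    haveI : IsAffine Y'.left := haff Y'.hom Y'.prop
    obtain ⟨a, ha1, ha2⟩ := Groth.Agent.H21.PS.full_core (S := Spec (CommRingCat.of A))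
      (T := Y.left) (T' := Y'.left) Y.hom Y'.hom (FEt.puncturedSpec A)
      (hbij Y.hom Y.prop) h.left (MorphismProperty.Over.w h)
    refine ⟨MorphismProperty.Over.homMk a ha1 trivial, ?_⟩
    apply MorphismProperty.Over.Hom.ext
    apply pullback.hom_ext
    · simp only [FEt.restrict, MorphismProperty.Over.pullback_map_left]
      exact (pullback.lift_fst _ _ _).trans ha2
    · simp only [FEt.restrict, MorphismProperty.Over.pullback_map_left]
      exact (pullback.lift_snd _ _ _).trans (MorphismProperty.Over.w h).symm
  · refine ⟨fun {Y Y'} a b hab => ?_⟩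
    haveI : IsAffine Y'.left := haff Y'.hom Y'.prop
    apply MorphismProperty.Over.Hom.ext
    refine Groth.Agent.H21.PS.faithful_core (S := Spec (CommRingCat.of A)) (T := Y.left)
      (T' := Y'.left) Y.hom (FEt.puncturedSpec A) (hbij Y.hom Y.prop) a.left b.left ?_
    have h1 := congrArg (fun k => k.left ≫ pullback.fst Y'.hom (FEt.puncturedSpec A).ι) hab
    simp only [FEt.restrict, MorphismProperty.Over.pullback_map_left] at h1
    exact (pullback.lift_fst _ _ _).symm.trans (h1.trans (pullback.lift_fst _ _ _))

end Groth.Agent.S0258
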