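import Groth.Statements.S0259
import Groth.Agent.Lib.helper21.PS6

set_option autoImplicit false
universe u
open Pi1

namespace Groth.Agent.S0259

open AlgebraicGeometry CategoryTheory CategoryTheory.Limits

lemma ext_aux {X T T' : Scheme.{u}} [IsLocallyNoetherian X] (g : T ⟶ X) (g' : T' ⟶ X)
    [IsFinite g] [Etale g] [IsFinite g'] (U : X.Opens)
    (h : ∀ x : X, x ∉ U → (2 : ℕ∞) ≤ LocCoh.depth (X.presheaf.stalk x) (X.presheaf.stalk x))
    (φ : (g ⁻¹ᵁ U).toScheme ⟶ T') (hφ : φ ≫ g' = (g ⁻¹ᵁ U).ι ≫ g) :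
    ∃! a : T ⟶ T', a ≫ g' = g ∧ (g ⁻¹ᵁ U).ι ≫ a = φ := by
  haveI : IsLocallyNoetherian T := LocallyOfFiniteType.isLocallyNoetherian g
  have hdepth := Groth.Agent.H21.PS.depth_two_preimage g U h
  have hbij := Groth.Agent.H21.PS.homOfLE_appTop_bijective (g ⁻¹ᵁ U) hdepth
  exact Groth.Agent.H21.PS.global_ext g g' (g ⁻¹ᵁ U) hbij φ hφ

lemma full_aux {X T T' : Scheme.{u}} (g : T ⟶ X) (g' : T' ⟶ X) (U : X.Opens)
    (hext : ∀ φ : (g ⁻¹ᵁ U).toScheme ⟶ T', φ ≫ g' = (g ⁻¹ᵁ U).ι ≫ g →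
      ∃! a : T ⟶ T', a ≫ g' = g ∧ (g ⁻¹ᵁ U).ι ≫ a = φ)
    (hl : pullback g U.ι ⟶ pullback g' U.ι)
    (hw : hl ≫ pullback.snd g' U.ι = pullback.snd g U.ι) :
    ∃ a : T ⟶ T', a ≫ g' = g ∧ pullback.fst g U.ι ≫ a = hl ≫ pullback.fst g' U.ι := by
  obtain ⟨a, ⟨ha1, ha2⟩, _⟩ := hext
    ((pullbackRestrictIsoRestrict g U).inv ≫ hl ≫ pullback.fst g' U.ι)
    (by
      rw [Category.assoc, Category.assoc, pullback.condition, ← Category.assoc hl, hw,
        ← pullback.condition, pullbackRestrictIsoRestrict_inv_fst_assoc])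
  refine ⟨a, ha1, ?_⟩
  rw [← pullbackRestrictIsoRestrict_hom_ι, Category.assoc, ha2, Iso.hom_inv_id_assoc]

lemma faithful_aux {X T T' : Scheme.{u}} (g : T ⟶ X) (g' : T' ⟶ X) (U : X.Opens)
    (hext : ∀ φ : (g ⁻¹ᵁ U).toScheme ⟶ T', φ ≫ g' = (g ⁻¹ᵁ U).ι ≫ g →
      ∃! a : T ⟶ T', a ≫ g' = g ∧ (g ⁻¹ᵁ U).ι ≫ a = φ)
    (a b : T ⟶ T') (ha : a ≫ g' = g) (hb : b ≫ g' = g)
    (h2 : pullback.fst g U.ι ≫ a = pullback.fst g U.ι ≫ b) : a = b := by
  have h3 : (g ⁻¹ᵁ U).ι ≫ b = (g ⁻¹ᵁ U).ι ≫ a := by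
    rw [← pullbackRestrictIsoRestrict_inv_fst, Category.assoc, Category.assoc, h2]
  exact (hext ((g ⁻¹ᵁ U).ι ≫ a) (by rw [Category.assoc, ha])).unique ⟨ha, rfl⟩ ⟨hb, h3⟩

open AlgebraicGeometry CategoryTheory CategoryTheory.Limits in
/-- Let X be a Noetherian scheme and U ⊆ X a dense open subscheme such that at every point x outside U
the local ring 𝒪_{X,x} has depth at least 2. Then the functor restricting finite étale covers of X
to U is full and faithful. (The published statement assumes instead that the punctured spectra of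
the strict henselizations of X at the points outside U are connected; depth at least 2 is a
sufficient condition for this and is what is assumed here.) -/
theorem result {X : Scheme.{u}} [IsNoetherian X] (U : X.Opens) (hU : Dense (U : Set X))
    (h : ∀ x : X, x ∉ U → (2 : ℕ∞) ≤ LocCoh.depth (X.presheaf.stalk x) (X.presheaf.stalk x)) :
    (FEt.restrict U.ι).Full ∧ (FEt.restrict U.ι).Faithful := by
  haveI : IsLocallyNoetherian X := inferInstance
  constructor
  · refine ⟨fun {Y Y'} hm => ?_⟩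
    haveI : IsFinite Y.hom := Y.prop.1
    haveI : Etale Y.hom := Y.prop.2
    haveI : IsFinite Y'.hom := Y'.prop.1
    obtain ⟨a, ha1, ha3⟩ := full_aux (X := X) Y.hom Y'.hom U (ext_aux (X := X) Y.hom Y'.hom U h) hm.left
      (MorphismProperty.Over.w hm)
    refine ⟨MorphismProperty.Over.homMk a ha1 trivial, ?_⟩
    apply MorphismProperty.Over.Hom.ext
    apply pullback.hom_ext
    · simp only [FEt.restrict, MorphismProperty.Over.pullback_map_left]
      exact (pullback.lift_fst _ _ _).trans ha3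
    · simp only [FEt.restrict, MorphismProperty.Over.pullback_map_left]
      exact (pullback.lift_snd _ _ _).trans (MorphismProperty.Over.w hm).symm
  · refine ⟨fun {Y Y'} a b hab => ?_⟩
    haveI : IsFinite Y.hom := Y.prop.1
    haveI : Etale Y.hom := Y.prop.2
    haveI : IsFinite Y'.hom := Y'.prop.1
    apply MorphismProperty.Over.Hom.ext
    have h1 := congrArg (fun k => k.left ≫ pullback.fst Y'.hom U.ι) hab
    simp only [FEt.restrict, MorphismProperty.Over.pullback_map_left] at h1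
    have h2 : pullback.fst Y.hom U.ι ≫ a.left = pullback.fst Y.hom U.ι ≫ b.left :=
      (pullback.lift_fst _ _ _).symm.trans (h1.trans (pullback.lift_fst _ _ _))
    exact faithful_aux (X := X) Y.hom Y'.hom U (ext_aux (X := X) Y.hom Y'.hom U h) a.left b.left
      (MorphismProperty.Over.w a) (MorphismProperty.Over.w b) h2

end Groth.Agent.S0259
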