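import Groth.Statements.S0263
import Groth.Agent.Lib.helper21.PS3

set_option autoImplicit false
universe u
open Pi1

namespace Groth.Agent.S0263

open CategoryTheory Limits AlgebraicGeometry in
theorem main (A : Type u) [CommRing A] [IsNoetherianRing A] [IsLocalRing A]
    (hA : (2 : ℕ∞) ≤ LocCoh.depth A A) {T V' : Scheme.{u}}
    (g : T ⟶ Spec (CommRingCat.of A)) [IsFinite g] [Etale g]
    (v : V' ⟶ (FEt.puncturedSpec A : Scheme.{u}))
    (i : pullback g (FEt.puncturedSpec A).ι ≅ V')
    (hi : i.hom ≫ v = pullback.snd g (FEt.puncturedSpec A).ι) :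
    ((Scheme.ΓSpecIso (CommRingCat.of A)).inv ≫ (v ≫ (FEt.puncturedSpec A).ι).appTop).hom.Finite ∧
    ((Scheme.ΓSpecIso (CommRingCat.of A)).inv ≫ (v ≫ (FEt.puncturedSpec A).ι).appTop).hom.Etale := by
  have hU : ∀ x : PrimeSpectrum A,
      x ∈ (show TopologicalSpace.Opens (PrimeSpectrum A) from FEt.puncturedSpec A) ↔
        x ≠ IsLocalRing.closedPoint A := fun x => Iff.rfl
  have hfst := Groth.Agent.H21.PS.fst_appTop_bijective A hA (FEt.puncturedSpec A) hU g
  let θ : CommRingCat.of A ⟶ Γ(T, ⊤) :=
    (Scheme.ΓSpecIso (CommRingCat.of A)).inv ≫ g.appTop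
  have hbij : Function.Bijective (Scheme.ΓSpecIso (CommRingCat.of A)).inv.hom :=
    ConcreteCategory.bijective_of_isIso (Scheme.ΓSpecIso (CommRingCat.of A)).inv
  have : IsAffine T := isAffine_of_isAffineHom g
  have hfin : θ.hom.Finite := by
    have h1 : g.appTop.hom.Finite :=
      ((HasAffineProperty.iff_of_isAffine (P := @IsFinite)).1 inferInstance).2
    exact h1.comp (RingHom.Finite.of_surjective _ hbij.2)
  have het : θ.hom.Etale := by
    have h1 : g.appTop.hom.Etale :=
      (HasRingHomProperty.iff_of_isAffine (P := @Etale)).1 inferInstance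
    exact RingHom.Etale.stableUnderComposition _ _ (RingHom.Etale.of_bijective hbij) h1
  have key : ((Scheme.ΓSpecIso (CommRingCat.of A)).inv ≫
      (v ≫ (FEt.puncturedSpec A).ι).appTop) ≫ i.hom.appTop =
      θ ≫ (pullback.fst g (FEt.puncturedSpec A).ι).appTop := by
    rw [Category.assoc, ← Scheme.Hom.comp_appTop, ← Category.assoc i.hom, hi, ← pullback.condition,
      Scheme.Hom.comp_appTop, Category.assoc]
  haveI : IsIso i.hom.appTop := inferInstanceAs (IsIso (i.hom.app ⊤))
  have key2 : (Scheme.ΓSpecIso (CommRingCat.of A)).inv ≫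
      (v ≫ (FEt.puncturedSpec A).ι).appTop =
      θ ≫ (pullback.fst g (FEt.puncturedSpec A).ι).appTop ≫ inv (i.hom.appTop) := by
    rw [← Category.assoc, IsIso.eq_comp_inv]
    exact key
  have hb2 : Function.Bijective
      ((pullback.fst g (FEt.puncturedSpec A).ι).appTop ≫ inv (i.hom.appTop)).hom := by
    rw [CommRingCat.hom_comp, RingHom.coe_comp]
    exact (ConcreteCategory.bijective_of_isIso (inv (i.hom.appTop))).comp hfst
  rw [key2, CommRingCat.hom_comp]
  exact ⟨(RingHom.Finite.of_surjective _ hb2.2).comp hfin,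
    RingHom.Etale.stableUnderComposition _ _ het (RingHom.Etale.of_bijective hb2)⟩

open AlgebraicGeometry CategoryTheory CategoryTheory.Limits in
/-- Let A be a Noetherian local ring of depth at least 2 and V a finite étale cover of the punctured
spectrum of A which is isomorphic to the restriction of some finite étale cover of Spec A. Then the
ring of global sections Γ(V, O_V) is finite and étale over A, via the ring map A → Γ(V, O_V) induced
by the composite V → Spec A. (Only this implication of the published statement is asserted here; its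
converse is not.) -/
theorem result (A : Type u) [CommRing A] [IsNoetherianRing A] [IsLocalRing A] (hA : (2 : ℕ∞) ≤ LocCoh.depth A A)
    (V : FEt.Cat (FEt.puncturedSpec A : Scheme.{u}))
    (hV : ∃ Y : FEt.Cat (Spec (CommRingCat.of A)),
      Nonempty ((FEt.restrict (FEt.puncturedSpec A).ι).obj Y ≅ V)) :
    ((Scheme.ΓSpecIso (CommRingCat.of A)).inv ≫ (V.hom ≫ (FEt.puncturedSpec A).ι).appTop).hom.Finite ∧
    ((Scheme.ΓSpecIso (CommRingCat.of A)).inv ≫ (V.hom ≫ (FEt.puncturedSpec A).ι).appTop).hom.Etale := by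
  obtain ⟨Y, ⟨e⟩⟩ := hV
  haveI : IsFinite Y.hom := Y.prop.1
  haveI : Etale Y.hom := Y.prop.2
  exact main A hA Y.hom V.hom
    ((MorphismProperty.Over.forget _ _ _ ⋙ CategoryTheory.Over.forget _).mapIso e)
    (MorphismProperty.Over.w e.hom)

end Groth.Agent.S0263
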