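import Groth.Statements.S0291
import Groth.Agent.Lib.helper9.Sect2
-- import your own Groth.Agent.* helpers here

set_option autoImplicit false
universe u
open Pi1

namespace Groth.Agent.S0291

open AlgebraicGeometry CategoryTheory CategoryTheory.Limits in
/-- Let A be a Noetherian local ring and B a finite A-algebra such that the local rings of Spec B at all
closed points have depth at least 2. Then restriction from global sections of Spec B to sections
over the preimage of the punctured spectrum of A is an isomorphism. -/
theorem result (A B : Type u) [CommRing A] [IsNoetherianRing A] [IsLocalRing A] [CommRing B] [Algebra A B]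
    [Module.Finite A B]
    (h : ∀ (m : Ideal B) (_ : m.IsMaximal), (2 : ℕ∞) ≤ LocCoh.depth (Localization.AtPrime m) (Localization.AtPrime m)) :
    IsIso ((Spec (CommRingCat.of B)).presheaf.map (homOfLE (le_top :
      Spec.map (CommRingCat.ofHom (algebraMap A B)) ⁻¹ᵁ FEt.puncturedSpec A ≤ ⊤)).op) := by
  have : IsNoetherianRing B := IsNoetherianRing.of_finite A B
  set U : (Spec (CommRingCat.of B)).Opens :=
    Spec.map (CommRingCat.ofHom (algebraMap A B)) ⁻¹ᵁ FEt.puncturedSpec A with hU
  have hmemU : ∀ q : PrimeSpectrum B, q ∉ U → q.asIdeal.IsMaximal := by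
    intro q hq
    have hq' : ¬ (PrimeSpectrum.comap (algebraMap A B) q ∈
        ({IsLocalRing.closedPoint A}ᶜ : Set (PrimeSpectrum A))) := hq
    rw [Set.mem_compl_iff, not_not, Set.mem_singleton_iff] at hq'
    have hcomap : q.asIdeal.comap (algebraMap A B) = IsLocalRing.maximalIdeal A :=
      congrArg PrimeSpectrum.asIdeal hq'
    have : Algebra.IsIntegral A B := Algebra.IsIntegral.of_finite A B
    have hmax : (q.asIdeal.comap (algebraMap A B)).IsMaximal := by
      rw [hcomap]; infer_instance
    exact Ideal.isMaximal_of_isIntegral_of_isMaximal_comap (R := A) q.asIdeal hmax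
  have hdepth : ∀ q : PrimeSpectrum B, q ∉ U →
      2 ≤ LocCoh.depth (Localization.AtPrime q.asIdeal)
        (LocalizedModule q.asIdeal.primeCompl B) := fun q hq => h q.asIdeal (hmemU q hq)
  have hass : ∀ q : PrimeSpectrum B, q.asIdeal ∈ associatedPrimes B B → q ∈ U := by
    intro q hq
    by_contra hqU
    have h2 := hdepth q hqU
    rw [(Groth.Agent.Lib.helper9.Depth.depth_localization_eq_zero_iff q.asIdeal B).mpr hq] at h2
    exact absurd h2 (by decide)
  have hbij : Function.Bijective (Groth.Agent.Lib.helper9.Sect.res (M := B)
      (le_top : U ≤ ⊤)) :=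
    ⟨Groth.Agent.Lib.helper9.Sect.res_injective_of_ass _ hass,
      Groth.Agent.Lib.helper9.Sect.res_surjective_of_depth _ hdepth⟩
  rw [ConcreteCategory.isIso_iff_bijective]
  exact hbij

end Groth.Agent.S0291
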