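import Groth.Statements.S0293
import Groth.Agent.Lib.helper21.UR3

set_option autoImplicit false
universe u
open Pi1

namespace Groth.Agent.S0293

open AlgebraicGeometry CategoryTheory CategoryTheory.Limits in
/-- Let X be a locally Noetherian scheme, U ⊆ X an open subset such that the local rings of X at points
outside U have depth at least 2, and π : Y → X a finite morphism which is étale over U and such that
the local rings of Y at points outside the preimage of U have depth at least 2. Then π is étale if
and only if it is flat. -/
theorem result {X : Scheme.{u}} [IsLocallyNoetherian X] (U : X.Opens)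
    (hU : ∀ x : X, x ∉ U → (2 : ℕ∞) ≤ LocCoh.depth (X.presheaf.stalk x) (X.presheaf.stalk x)) {Y : Scheme.{u}} (π : Y ⟶ X)
    [IsFinite π] [Etale (pullback.snd π U.ι)]
    (hY : ∀ y : Y, π.base y ∉ U → (2 : ℕ∞) ≤ LocCoh.depth (Y.presheaf.stalk y) (Y.presheaf.stalk y)) :
    Etale π ↔ Flat π := by
  constructor
  · intro h
    infer_instance
  · intro hflat
    haveI : LocallyOfFiniteType π := inferInstance
    haveI : LocallyOfFinitePresentation π :=
      LocallyOfFinitePresentation.iff_locallyOfFiniteType.2 inferInstance
    haveI : FormallyUnramified π := by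
      rw [HasRingHomProperty.iff_appLE (P := @FormallyUnramified)]
      rintro ⟨W, hW⟩ ⟨V, hV⟩ e
      have h1 : (π.app W).hom.FormallyUnramified :=
        Groth.Agent.H21.UR.app_formallyUnramified U π hY hW
      have h2 : (Y.presheaf.map (homOfLE e).op).hom.FormallyUnramified := by
        have := HasRingHomProperty.appLE (P := @FormallyUnramified) (𝟙 Y) inferInstance
          ⟨π ⁻¹ᵁ W, hW.preimage π⟩ ⟨V, hV⟩ e
        have h3 : (𝟙 Y : Y ⟶ Y).appLE (π ⁻¹ᵁ W) V e = Y.presheaf.map (homOfLE e).op := by
          rw [Scheme.Hom.appLE, Scheme.Hom.id_app]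
          exact Category.id_comp _
        rwa [h3] at this
      change (π.app W ≫ Y.presheaf.map (homOfLE e).op).hom.FormallyUnramified
      rw [CommRingCat.hom_comp]
      exact RingHom.FormallyUnramified.comp h1 h2
    exact Etale.of_formallyUnramified_of_flat π

end Groth.Agent.S0293
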