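import Groth.Statements.S0294
import Mathlib

set_option autoImplicit false
set_option linter.style.haveILetI false
universe u
open Pi1

namespace Groth.Agent.S0294

open AlgebraicGeometry CategoryTheory CategoryTheory.Limits in
lemma aux {Ω : Type u} [Field Ω] {P : Scheme.{u}} [IsAffine P]
    (snd : P ⟶ Spec (CommRingCat.of Ω)) [IsFinite snd] :
    Finite {t : Spec (CommRingCat.of Ω) ⟶ P // t ≫ snd = 𝟙 _} := by
  let e : Γ(Spec (CommRingCat.of Ω), ⊤) ≃+* Ω :=
    (Scheme.ΓSpecIso (CommRingCat.of Ω)).commRingCatIsoToRingEquiv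
  let ψ : Ω →+* Γ(P, ⊤) := snd.appTop.hom.comp e.symm.toRingHom
  have hψ : ψ.Finite :=
    RingHom.Finite.comp snd.finite_appTop (RingHom.Finite.of_surjective _ e.symm.surjective)
  letI : Algebra Ω Γ(P, ⊤) := ψ.toAlgebra
  haveI : Module.Finite Ω Γ(P, ⊤) := hψ
  let F : {t : Spec (CommRingCat.of Ω) ⟶ P // t ≫ snd = 𝟙 _} → (Γ(P, ⊤) →ₐ[Ω] Ω) := fun t =>
    { toRingHom := e.toRingHom.comp t.1.appTop.hom
      commutes' := fun a => by
        show e (t.1.appTop.hom (snd.appTop.hom (e.symm a))) = a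
        have h1 : snd.appTop ≫ t.1.appTop = 𝟙 _ := by
          rw [← Scheme.Hom.comp_appTop, t.2]
          rfl
        have h2 : t.1.appTop.hom (snd.appTop.hom (e.symm a)) = e.symm a := by
          have := congrArg (fun φ => φ.hom (e.symm a)) h1
          simpa using this
        rw [h2, e.apply_symm_apply] }
  refine Finite.of_injective F ?_
  intro t t' h
  apply Subtype.ext
  apply ext_of_isAffine
  apply CommRingCat.hom_ext
  apply RingHom.ext
  intro b
  have := congrArg (fun φ : Γ(P, ⊤) →ₐ[Ω] Ω => φ b) h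
  exact e.injective this

open AlgebraicGeometry CategoryTheory CategoryTheory.Limits in
/-- For a finite étale cover Y of a scheme X and a point ξ : Spec Ω → X with values in a field Ω, the
fibre of Y over ξ (the set of Ω-valued points of Y lying over ξ) is finite. -/
theorem result {X : Scheme.{u}} {Ω : Type u} [Field Ω] (ξ : Spec (CommRingCat.of Ω) ⟶ X) (Y : FEt.Cat X) :
    Finite (FEt.fiberObj ξ Y) := by
  haveI : IsFinite Y.hom := Y.prop.1
  let G : FEt.fiberObj ξ Y →
      {t : Spec (CommRingCat.of Ω) ⟶ pullback Y.hom ξ // t ≫ pullback.snd Y.hom ξ = 𝟙 _} :=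
    fun s => ⟨pullback.lift s.1 (𝟙 _) (by rw [s.2, Category.id_comp]), pullback.lift_snd _ _ _⟩
  haveI : IsAffine (pullback Y.hom ξ) := isAffine_of_isAffineHom (pullback.snd Y.hom ξ)
  haveI := aux (pullback.snd Y.hom ξ)
  refine Finite.of_injective G ?_
  intro s s' h
  apply Subtype.ext
  have h1 : (G s).1 ≫ pullback.fst Y.hom ξ = s.1 := pullback.lift_fst _ _ _
  have h2 : (G s').1 ≫ pullback.fst Y.hom ξ = s'.1 := pullback.lift_fst _ _ _
  rw [← h1, ← h2, h]

end Groth.Agent.S0294
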