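import Groth.Statements.S0301
import Mathlib

set_option autoImplicit false
universe u v
open InjHull

namespace Groth.Agent.S0301

/-- Over a Noetherian ring, the submodule of an injective module consisting of the elements killed by
some power of a given ideal is again injective. -/
theorem result (R : Type u) [CommRing R] [IsNoetherianRing R] (I : Type u) [AddCommGroup I] [Module R I] (hI : Module.Injective R I) (J : Ideal R) : Module.Injective R ↥(⨆ n : ℕ, Submodule.torsionBySet R I ((J ^ n : Ideal R) : Set R)) := by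
  classical
  haveI := hI
  have hTmono : Monotone (fun n : ℕ => Submodule.torsionBySet R I ((J ^ n : Ideal R) : Set R)) := by
    intro a b hab x hx
    simp only [Submodule.mem_torsionBySet_iff] at hx ⊢
    intro r
    exact hx ⟨r.1, Ideal.pow_le_pow_right hab r.2⟩
  apply Module.Baer.injective
  intro 𝔞 φ
  obtain ⟨s, hs⟩ := (Module.Finite.fg_top : (⊤ : Submodule R 𝔞).FG)
  have hmem : ∀ a : 𝔞, ∃ n : ℕ, ((φ a : _) : I) ∈
      Submodule.torsionBySet R I ((J ^ n : Ideal R) : Set R) := by
    intro a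
    exact (Submodule.mem_iSup_of_directed _ hTmono.directed_le).1 (φ a).2
  choose nn hnn using hmem
  have hall : ∀ a : 𝔞, ((φ a : _) : I) ∈
      Submodule.torsionBySet R I ((J ^ (s.sup nn) : Ideal R) : Set R) := by
    intro a
    have hle : Submodule.span R (s : Set 𝔞) ≤
        (Submodule.torsionBySet R I ((J ^ (s.sup nn) : Ideal R) : Set R)).comap
          ((Submodule.subtype _) ∘ₗ φ) := by
      rw [Submodule.span_le]
      intro b hb
      exact hTmono (Finset.le_sup hb) (hnn b)
    rw [hs] at hle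
    exact hle (Submodule.mem_top : a ∈ ⊤)
  obtain ⟨k, hk⟩ := Ideal.exists_pow_inf_eq_pow_smul J (𝔞 : Submodule R R)
  have hAR : ∀ a : R, a ∈ J ^ (s.sup nn + k) → a ∈ 𝔞 →
      a ∈ J ^ (s.sup nn) • (𝔞 : Submodule R R) := by
    intro a ha1 ha2
    have h1 : a ∈ (J ^ (s.sup nn + k) • ⊤ ⊓ 𝔞 : Submodule R R) := by
      refine ⟨?_, ha2⟩
      rw [Ideal.smul_eq_mul, Ideal.mul_top]
      exact ha1
    rw [hk _ (Nat.le_add_left k _), Nat.add_sub_cancel] at h1
    exact Submodule.smul_mono le_rfl inf_le_right h1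
  have hkill : ∀ (a : R) (ha : a ∈ 𝔞), a ∈ J ^ (s.sup nn + k) → φ ⟨a, ha⟩ = 0 := by
    intro a ha ham
    have h2 := hAR a ham ha
    have hle : J ^ (s.sup nn) • (𝔞 : Submodule R R) ≤ (LinearMap.ker φ).map 𝔞.subtype := by
      rw [Submodule.smul_le]
      intro j hj b hb
      refine ⟨j • ⟨b, hb⟩, ?_, rfl⟩
      rw [SetLike.mem_coe, LinearMap.mem_ker, map_smul]
      apply Subtype.ext
      have h3 := hall ⟨b, hb⟩
      rw [Submodule.mem_torsionBySet_iff] at h3
      simpa using h3 ⟨j, hj⟩
    obtain ⟨a', ha', hae⟩ := hle h2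
    have h4 : a' = ⟨a, ha⟩ := Subtype.ext hae
    rw [← h4]; exact ha'
  have hKker : Submodule.comap 𝔞.subtype (J ^ (s.sup nn + k) : Submodule R R) ≤
      LinearMap.ker ((Submodule.subtype _) ∘ₗ φ) := by
    intro a ha
    rw [LinearMap.mem_ker, LinearMap.comp_apply]
    have h5 : φ a = 0 := hkill a.1 a.2 ha
    rw [h5, map_zero]
  obtain ⟨h, hh⟩ := Module.Injective.extension_property R I _ _
    ((Submodule.comap 𝔞.subtype (J ^ (s.sup nn + k) : Submodule R R)).mapQ
      (J ^ (s.sup nn + k) : Submodule R R) 𝔞.subtype (le_refl _))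
    (by
      rw [injective_iff_map_eq_zero]
      intro x hx
      obtain ⟨a, rfl⟩ := Submodule.Quotient.mk_surjective _ x
      rw [Submodule.mapQ_apply] at hx
      rw [Submodule.Quotient.mk_eq_zero] at hx ⊢
      exact hx)
    ((Submodule.comap 𝔞.subtype (J ^ (s.sup nn + k) : Submodule R R)).liftQ
      ((Submodule.subtype _) ∘ₗ φ) hKker)
  have hψΓ : ∀ x : R, (h ∘ₗ (J ^ (s.sup nn + k) : Submodule R R).mkQ) x ∈
      (⨆ n : ℕ, Submodule.torsionBySet R I ((J ^ n : Ideal R) : Set R)) := by
    intro x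
    refine (le_iSup (fun n : ℕ => Submodule.torsionBySet R I ((J ^ n : Ideal R) : Set R))
      (s.sup nn + k)) ?_
    rw [Submodule.mem_torsionBySet_iff]
    intro j
    rw [← map_smul, LinearMap.comp_apply, Submodule.mkQ_apply]
    have h6 : Submodule.Quotient.mk ((j : R) • x) =
        (0 : R ⧸ (J ^ (s.sup nn + k) : Submodule R R)) := by
      rw [Submodule.Quotient.mk_eq_zero]
      exact Ideal.mul_mem_right _ _ j.2
    rw [h6, map_zero]
  refine ⟨LinearMap.codRestrict _ (h ∘ₗ (J ^ (s.sup nn + k) : Submodule R R).mkQ) hψΓ,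
    fun x hx => ?_⟩
  apply Subtype.ext
  rw [LinearMap.codRestrict_apply]
  have h7 := LinearMap.congr_fun hh
    ((Submodule.comap 𝔞.subtype (J ^ (s.sup nn + k) : Submodule R R)).mkQ ⟨x, hx⟩)
  simpa using h7

end Groth.Agent.S0301
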