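import Groth.Statements.S0319
import Groth.Agent.Lib.helper9.Depth1

set_option autoImplicit false
universe u v
open CategoryTheory
open LocCoh

namespace Groth.Agent.S0319

/-- Part (1): =(2): for a finite module M over a Noetherian ring and an ideal I with IM ≠ M, the I-depth
of M is the least i with Ext^i(R/I, M) nonzero. (Close to Mathlib's Rees criterion; kept at low
weight to pin our depth to Mathlib's Ext.) -/
theorem result (R : Type u) [CommRing R] [IsNoetherianRing R] (I : Ideal R) (M : Type u) [AddCommGroup M] [Module R M] [Module.Finite R M] (hIM : I • (⊤ : Submodule R M) ≠ ⊤) (n : ℕ) : LocCoh.idealDepth I M = n ↔ ((∀ i : ℕ, i < n → Subsingleton (Abelian.Ext (ModuleCat.of R (R ⧸ I)) (ModuleCat.of R M) i)) ∧ Nontrivial (Abelian.Ext (ModuleCat.of R (R ⧸ I)) (ModuleCat.of R M) n)) := by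
  have key := Groth.Agent.Lib.helper9.Depth.le_idealDepth_iff_ext I M hIM
  constructor
  · intro hd
    refine ⟨(key n).mp hd.ge, ?_⟩
    by_contra hnt
    rw [not_nontrivial_iff_subsingleton] at hnt
    have h1 : ((n + 1 : ℕ) : ℕ∞) ≤ LocCoh.idealDepth I M := by
      rw [key (n + 1)]
      intro i hi
      rcases Nat.lt_succ_iff_lt_or_eq.mp hi with h | rfl
      · exact (key n).mp hd.ge i h
      · exact hnt
    rw [hd] at h1
    have : n + 1 ≤ n := by exact_mod_cast h1
    omega
  · rintro ⟨hvan, hnt⟩
    have h1 : (n : ℕ∞) ≤ LocCoh.idealDepth I M := (key n).mpr hvan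
    have h2 : ¬ ((n + 1 : ℕ) : ℕ∞) ≤ LocCoh.idealDepth I M := by
      intro h
      have := (key (n + 1)).mp h n (Nat.lt_succ_self n)
      exact not_subsingleton _ this
    rw [not_le] at h2
    have h3 : LocCoh.idealDepth I M ≤ n := by
      have : LocCoh.idealDepth I M < (n : ℕ∞) + 1 := by exact_mod_cast h2
      exact (ENat.lt_add_one_iff (ENat.natCast_ne_top n)).mp this
    exact le_antisymm h3 h1

end Groth.Agent.S0319
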