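import Groth.Statements.S0337
import Groth.Agent.Lib.helper25.FrobFree

set_option autoImplicit false
universe u v
open CategoryTheory
open LocCoh

namespace Groth.Agent.S0337

open TensorProduct in
set_option backward.isDefEq.respectTransparency false in
theorem aux (p : ℕ) [Fact p.Prime] (R : Type u) [CommRing R] [IsLocalRing R] [IsNoetherianRing R] [CharP R p] (M : Type u) [AddCommGroup M] [Module R M] [Module.Finite R M] (h : Nonempty ((ModuleCat.extendScalars (frobenius R p)).obj (ModuleCat.of R M) ≅ ModuleCat.of R M)) : Module.Free R M := by
  obtain ⟨iso⟩ := h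
  have : Module.FinitePresentation R M := Module.finitePresentation_of_finite R M
  let E : @TensorProduct R _ R M _ _ (frobenius R p).toAlgebra.toModule _ ≃+ M :=
    (iso.toLinearEquiv).toAddEquiv
  refine @Groth.Agent.Lib.helper25.FrobFree.free_of_frobenius_pullback p _ R _ _ R _
    (frobenius R p).toAlgebra (RingEquiv.refl R) (fun a => rfl) M _ _ _ E.toAddMonoidHom E.bijective ?_
  intro t z
  exact (iso.toLinearEquiv).map_smul t z

/-- Over a Noetherian local ring of prime characteristic p, a finite module isomorphic to its own base
change along Frobenius is free. -/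
theorem result (p : ℕ) [Fact p.Prime] (R : Type u) [CommRing R] [IsLocalRing R] [IsNoetherianRing R] [CharP R p] (M : Type u) [AddCommGroup M] [Module R M] [Module.Finite R M] (h : Nonempty ((ModuleCat.extendScalars (frobenius R p)).obj (ModuleCat.of R M) ≅ ModuleCat.of R M)) : Module.Free R M := by
  exact aux p R M h


end Groth.Agent.S0337
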