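import Groth.Statements.S0346
import Mathlib

set_option autoImplicit false
universe u v
open CategoryTheory MonoidalCategory CartesianMonoidalCategory MonObj GrpObj AlgebraicGeometry
open GrpSch

namespace Groth.Agent.S0346

/-- The diagonal of a group object factors as `G ≅ G ⊗ 𝟙 → G ⊗ G ≅ G ⊗ G` through the unit and
the shear map. -/
theorem diag_eq {C : Type*} [Category C] [CartesianMonoidalCategory C] (G : C) [GrpObj G] :
    lift (𝟙 G) (𝟙 G) = (ρ_ G).inv ≫ (G ◁ η[G]) ≫ lift (fst G G) μ[G] := by
  apply CartesianMonoidalCategory.hom_ext
  · simp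
  · simp

/-- The shear isomorphism `(g, h) ↦ (g, g * h)` of a group object. -/
noncomputable def shear {C : Type*} [Category C] [CartesianMonoidalCategory C] (G : C) [GrpObj G] :
    G ⊗ G ≅ G ⊗ G where
  hom := lift (fst G G) μ[G]
  inv := lift (fst G G) (lift (fst G G ≫ ι[G]) (snd G G) ≫ μ[G])
  hom_inv_id := by
    apply CartesianMonoidalCategory.hom_ext
    · simp
    · simp only [Category.assoc, lift_snd, Category.id_comp]
      rw [comp_lift_assoc]
      simp only [lift_fst_assoc, lift_snd]
      rw [GrpObj.lift_inv_left_eq]
      simp
  inv_hom_id := by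
    apply CartesianMonoidalCategory.hom_ext
    · simp
    · simp only [Category.assoc, lift_snd, Category.id_comp]
      rw [← GrpObj.eq_lift_inv_left]

/-- General form: a property of morphisms stable under base change and composition holds for the
diagonal of a group scheme as soon as it holds for the unit section. -/
theorem diagonal_of_unit (P : MorphismProperty Scheme.{u}) [P.IsStableUnderBaseChange]
    [P.IsStableUnderComposition] [P.ContainsIdentities] (S : Scheme.{u}) (G : Over S) [GrpObj G]
    (h : P η[G].left) : P (Limits.pullback.diagonal G.hom) := by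
  have h1 : Limits.pullback.diagonal G.hom = (lift (𝟙 G) (𝟙 G)).left := rfl
  have h2 : lift (𝟙 G) (𝟙 G) = (ρ_ G).inv ≫ (G ◁ η[G]) ≫ (shear G).hom := diag_eq G
  rw [h1, h2, Over.comp_left, Over.comp_left]
  have : IsIso (shear G).hom.left := inferInstance
  have : IsIso (ρ_ G).inv.left := inferInstance
  rw [P.cancel_left_of_respectsIso, P.cancel_right_of_respectsIso, Over.whiskerLeft_left]
  exact MorphismProperty.pullbackMap (P.id_mem _) h (Category.id_comp _).symm
    (by simpa using (Over.w η[G]).symm)

theorem result (S : Scheme.{u}) (G : Over S) [GrpObj G] : (IsSeparated G.hom ↔ IsClosedImmersion η[G].left) ∧ (QuasiSeparated G.hom ↔ QuasiCompact η[G].left) := by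
  have hw : η[G].left ≫ G.hom = 𝟙 S := by
    have := Over.w η[G]
    simpa using this
  constructor
  · constructor
    · intro hsep
      have : IsClosedImmersion (η[G].left ≫ G.hom) := by
        rw [hw]; exact (inferInstance : @IsClosedImmersion S S (𝟙 S))
      exact IsClosedImmersion.of_comp η[G].left G.hom
    · intro hη
      exact ⟨diagonal_of_unit @IsClosedImmersion S G hη⟩
  · constructor
    · intro hsep
      have : QuasiCompact (η[G].left ≫ G.hom) := by
        rw [hw]; exact (inferInstance : @QuasiCompact S S (𝟙 S))
      exact QuasiCompact.of_comp η[G].left G.hom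
    · intro hη
      exact ⟨diagonal_of_unit @QuasiCompact S G hη⟩

end Groth.Agent.S0346
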