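import Groth.Statements.S0347
import Mathlib

set_option autoImplicit false
universe u v
open CategoryTheory MonoidalCategory CartesianMonoidalCategory MonObj GrpObj AlgebraicGeometry
open GrpSch

namespace Groth.Agent.S0347

/-- The shear isomorphism `(g, h) ↦ (g, g * h)` of a group object. -/
noncomputable def shear {C : Type*} [Category C] [CartesianMonoidalCategory C] (G : C) [GrpObj G] :
    G ⊗ G ≅ G ⊗ G where
  hom := lift (fst G G) μ[G]
  inv := lift (fst G G) (lift (fst G G ≫ ι[G]) (snd G G) ≫ μ[G])
  hom_inv_id := by
    apply CartesianMonoidalCategory.hom_ext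
    · simp
    · simp only [Category.assoc, lift_snd, Category.id_comp]
      rw [comp_lift_assoc]
      simp only [lift_fst_assoc, lift_snd]
      rw [GrpObj.lift_inv_left_eq]
      simp
  inv_hom_id := by
    apply CartesianMonoidalCategory.hom_ext
    · simp
    · simp only [Category.assoc, lift_snd, Category.id_comp]
      rw [← GrpObj.eq_lift_inv_left]

theorem shear_hom_snd {C : Type*} [Category C] [CartesianMonoidalCategory C] (G : C) [GrpObj G] :
    (shear G).hom ≫ snd G G = μ[G] := by
  simp [shear]

/-- The multiplication map of a group scheme over a field is an open map of topological spaces. -/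
theorem result (K : Type u) [Field K] (G : Over (Spec (CommRingCat.of K))) [GrpObj G] : IsOpenMap (μ[G].left : (G ⊗ G).left ⟶ G.left) := by
  have h1 : μ[G].left = (shear G).hom.left ≫ (snd G G).left := by
    rw [← Over.comp_left, shear_hom_snd]
  rw [h1]
  have h2 : UniversallyOpen G.hom := inferInstance
  have h3 : UniversallyOpen (snd G G).left := by
    rw [Over.snd_left]
    infer_instance
  have h4 : IsIso (shear G).hom.left := inferInstance
  have h5 : IsOpenMap ((shear G).hom.left) := (shear G).hom.left.homeomorph.isOpenMap
  have h6 : IsOpenMap ((snd G G).left) := (snd G G).left.isOpenMap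
  simpa using h6.comp h5

end Groth.Agent.S0347
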