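import Groth.Statements.S0349
import Mathlib
import Groth.Agent.S7823

set_option autoImplicit false
universe u v
open CategoryTheory MonoidalCategory CartesianMonoidalCategory MonObj GrpObj AlgebraicGeometry
open GrpSch

namespace Groth.Agent.S0349

section Aux
open CategoryTheory CategoryTheory.Limits MonoidalCategory CartesianMonoidalCategory MonObj GrpObj AlgebraicGeometry

theorem main (K : Type u) [Field K] (G : Over (Spec (CommRingCat.of K))) [GrpObj G]
    [IrreducibleSpace G.left] : CompactSpace G.left := by
  obtain ⟨U, hU, hne⟩ : ∃ U : G.left.Opens, IsAffineOpen U ∧ (U : Set G.left).Nonempty := by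
    obtain ⟨x⟩ := (inferInstance : Nonempty G.left)
    obtain ⟨U, hU, hx, -⟩ := exists_isAffineOpen_mem_and_subset (x := x) (U := ⊤) trivial
    exact ⟨U, hU, x, hx⟩
  have hd : Dense (U : Set G.left) := U.isOpen.dense hne
  have h := Groth.Agent.S7823.main K G U U hd hd
  haveI : IsAffine U.toScheme := hU
  have hc : IsCompact ((fst G G).left ⁻¹' (U : Set G.left) ∩ (snd G G).left ⁻¹' (U : Set G.left)) := by
    have : (fst G G).left ⁻¹' (U : Set G.left) ∩ (snd G G).left ⁻¹' (U : Set G.left) =
        Set.range (pullback.map (U.ι ≫ G.hom) (U.ι ≫ G.hom) G.hom G.hom U.ι U.ι (𝟙 _)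
          (by simp) (by simp)) := by
      rw [Scheme.Pullback.range_map, Scheme.Opens.range_ι]; rfl
    rw [this]
    exact isCompact_range (Scheme.Hom.continuous _)
  constructor
  rw [← h]
  exact hc.image μ[G].left.continuous

end Aux

/-- An irreducible group scheme over a field is quasi-compact. -/
theorem result (K : Type u) [Field K] (G : Over (Spec (CommRingCat.of K))) [GrpObj G] [IrreducibleSpace G.left] : CompactSpace G.left := by
  exact main K G

end Groth.Agent.S0349
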