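import Groth.Statements.S0351
import Mathlib

set_option autoImplicit false
universe u v
open CategoryTheory MonoidalCategory CartesianMonoidalCategory MonObj GrpObj AlgebraicGeometry
open GrpSch

namespace Groth.Agent.S0351

section Aux
open CategoryTheory CategoryTheory.Limits MonoidalCategory CartesianMonoidalCategory MonObj GrpObj AlgebraicGeometry

theorem lemF (K : Type u) [Field K] (A B : Over (Spec (CommRingCat.of K))) (S : Set B.left)
    (z : (A ⊗ B).left) (hz : (snd A B).left z ∈ closure S) :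
    z ∈ closure ((fst A B).left ⁻¹' {(fst A B).left z} ∩ (snd A B).left ⁻¹' S) := by
  obtain ⟨a, ha⟩ : ∃ a, a = (fst A B).left z := ⟨_, rfl⟩
  let T : Over (Spec (CommRingCat.of K)) := Over.mk (A.left.fromSpecResidueField a ≫ A.hom)
  let at' : T ⟶ A := Over.homMk (A.left.fromSpecResidueField a) rfl
  let j : T ⊗ B ⟶ A ⊗ B := at' ⊗ₘ 𝟙 B
  have hat : ∀ t, at'.left t = a := fun t => Scheme.fromSpecResidueField_apply _ _
  have hrange : z ∈ Set.range j.left := by
    rw [Over.tensorHom_left, Scheme.Pullback.range_map]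
    refine ⟨?_, ?_⟩
    · show (fst A B).left z ∈ Set.range at'.left
      rw [← ha]
      exact ⟨IsLocalRing.closedPoint _, hat _⟩
    · show (snd A B).left z ∈ Set.range (𝟙 B : B ⟶ B).left
      exact ⟨_, rfl⟩
  obtain ⟨w, hw⟩ := hrange
  have hjsnd : j ≫ snd A B = snd T B := by simp [j]
  have hjfst : j ≫ fst A B = fst T B ≫ at' := by simp [j]
  haveI : UniversallyOpen T.hom := inferInstance
  have hopen : IsOpenMap (snd T B).left.base := by
    rw [Over.snd_left]
    exact (pullback.snd T.hom B.hom).isOpenMap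
  rw [mem_closure_iff]
  intro N hN hzN
  have hwS : (snd T B).left w ∈ closure S := by
    rw [← hjsnd, Over.comp_left, Scheme.Hom.comp_apply, hw]; exact hz
  have hwN : w ∈ j.left ⁻¹' N := by show j.left w ∈ N; rw [hw]; exact hzN
  obtain ⟨y, ⟨w', hw'N, rfl⟩, hyS⟩ :=
    mem_closure_iff.mp hwS _ (hopen _ (hN.preimage j.left.continuous)) ⟨w, hwN, rfl⟩
  refine ⟨j.left w', hw'N, ?_, ?_⟩
  · show (fst A B).left (j.left w') = (fst A B).left z
    rw [← ha, ← Scheme.Hom.comp_apply, ← Over.comp_left, hjfst, Over.comp_left,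
      Scheme.Hom.comp_apply, hat]
  · show (snd A B).left (j.left w') ∈ S
    rw [← Scheme.Hom.comp_apply, ← Over.comp_left, hjsnd]; exact hyS

theorem lemF' (K : Type u) [Field K] (A B : Over (Spec (CommRingCat.of K))) (S : Set A.left)
    (z : (A ⊗ B).left) (hz : (fst A B).left z ∈ closure S) :
    z ∈ closure ((fst A B).left ⁻¹' S ∩ (snd A B).left ⁻¹' {(snd A B).left z}) := by
  obtain ⟨b, hb⟩ : ∃ b, b = (snd A B).left z := ⟨_, rfl⟩
  let T : Over (Spec (CommRingCat.of K)) := Over.mk (B.left.fromSpecResidueField b ≫ B.hom)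
  let bt : T ⟶ B := Over.homMk (B.left.fromSpecResidueField b) rfl
  let j : A ⊗ T ⟶ A ⊗ B := 𝟙 A ⊗ₘ bt
  have hbt : ∀ t, bt.left t = b := fun t => Scheme.fromSpecResidueField_apply _ _
  have hrange : z ∈ Set.range j.left := by
    rw [Over.tensorHom_left, Scheme.Pullback.range_map]
    refine ⟨?_, ?_⟩
    · show (fst A B).left z ∈ Set.range (𝟙 A : A ⟶ A).left
      exact ⟨_, rfl⟩
    · show (snd A B).left z ∈ Set.range bt.left
      rw [← hb]
      exact ⟨IsLocalRing.closedPoint _, hbt _⟩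
  obtain ⟨w, hw⟩ := hrange
  have hjfst : j ≫ fst A B = fst A T := by simp [j]
  have hjsnd : j ≫ snd A B = snd A T ≫ bt := by simp [j]
  haveI : UniversallyOpen T.hom := inferInstance
  have hopen : IsOpenMap (fst A T).left.base := by
    rw [Over.fst_left]
    exact (pullback.fst A.hom T.hom).isOpenMap
  rw [mem_closure_iff]
  intro N hN hzN
  have hwS : (fst A T).left w ∈ closure S := by
    rw [← hjfst, Over.comp_left, Scheme.Hom.comp_apply, hw]; exact hz
  have hwN : w ∈ j.left ⁻¹' N := by show j.left w ∈ N; rw [hw]; exact hzN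
  obtain ⟨y, ⟨w', hw'N, rfl⟩, hyS⟩ :=
    mem_closure_iff.mp hwS _ (hopen _ (hN.preimage j.left.continuous)) ⟨w, hwN, rfl⟩
  refine ⟨j.left w', hw'N, ?_, ?_⟩
  · show (fst A B).left (j.left w') ∈ S
    rw [← Scheme.Hom.comp_apply, ← Over.comp_left, hjfst]; exact hyS
  · show (snd A B).left (j.left w') = (snd A B).left z
    rw [← hb, ← Scheme.Hom.comp_apply, ← Over.comp_left, hjsnd, Over.comp_left,
      Scheme.Hom.comp_apply, hbt]

theorem lemG (K : Type u) [Field K] (A B : Over (Spec (CommRingCat.of K))) {Y : Type*}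
    [TopologicalSpace Y] (c : (A ⊗ B).left → Y) (hc : Continuous c) (SA : Set A.left)
    (SB : Set B.left) (SY : Set Y) (hSY : IsClosed SY)
    (h : ∀ z, (fst A B).left z ∈ SA → (snd A B).left z ∈ SB → c z ∈ SY)
    (z : (A ⊗ B).left) (hz1 : (fst A B).left z ∈ closure SA) (hz2 : (snd A B).left z ∈ closure SB) :
    c z ∈ SY := by
  have hcl : IsClosed (c ⁻¹' SY) := hSY.preimage hc
  have step1 : ∀ z, (fst A B).left z ∈ SA → (snd A B).left z ∈ closure SB → c z ∈ SY := by
    intro z h1 h2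
    have := lemF K A B SB z h2
    refine hcl.closure_subset_iff.mpr ?_ this
    rintro z' ⟨h1', h2'⟩
    refine h z' ?_ h2'
    rw [Set.mem_preimage, Set.mem_singleton_iff] at h1'
    rw [h1']; exact h1
  have := lemF' K A B SA z hz1
  refine hcl.closure_subset_iff.mpr ?_ this
  rintro z' ⟨h1', h2'⟩
  refine step1 z' h1' ?_
  rw [Set.mem_preimage, Set.mem_singleton_iff] at h2'
  rw [h2']; exact hz2


theorem main (K : Type u) [Field K] (H G : Over (Spec (CommRingCat.of K))) [GrpObj H] [GrpObj G]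
    (i : H ⟶ G) [IsMonHom i] [IsImmersion i.left] : IsClosedImmersion i.left := by
  refine IsClosedImmersion.of_isPreimmersion _ ?_
  have hlc : IsLocallyClosed (Set.range i.left) := i.left.isLocallyClosed_range
  have hO : IsOpen (coborder (Set.range i.left)) := hlc.isOpen_coborder
  have hUO : closure (Set.range i.left) ∩ coborder (Set.range i.left) = Set.range i.left :=
    closure_inter_coborder
  rw [← closure_subset_iff_isClosed]
  intro x hx
  let dG : G ⊗ G ⟶ G := (fst G G)⁻¹ * (snd G G)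
  let dH : H ⊗ H ⟶ H := (fst H H)⁻¹ * (snd H H)
  have hid : (i ⊗ₘ i) ≫ dG = dH ≫ i := by
    simp [dG, dH, MonObj.comp_mul, GrpObj.comp_inv, MonObj.mul_comp, GrpObj.inv_comp]
  have hrange2 : Set.range (i ⊗ₘ i).left =
      (fst G G).left ⁻¹' Set.range i.left ∩ (snd G G).left ⁻¹' Set.range i.left := by
    rw [Over.tensorHom_left, Scheme.Pullback.range_map]; rfl
  have hdU : ∀ z, (fst G G).left z ∈ Set.range i.left → (snd G G).left z ∈ Set.range i.left →
      dG.left z ∈ closure (Set.range i.left) := by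
    intro z h1 h2
    have hz : z ∈ Set.range (i ⊗ₘ i).left := by rw [hrange2]; exact ⟨h1, h2⟩
    obtain ⟨v, rfl⟩ := hz
    apply subset_closure
    rw [← Scheme.Hom.comp_apply, ← Over.comp_left, hid, Over.comp_left, Scheme.Hom.comp_apply]
    exact ⟨_, rfl⟩
  have hdZ := lemG K G G (fun z => dG.left z) dG.left.continuous (Set.range i.left)
    (Set.range i.left) (closure (Set.range i.left)) isClosed_closure hdU
  -- the T-point
  let T : Over (Spec (CommRingCat.of K)) := Over.mk (G.left.fromSpecResidueField x ≫ G.hom)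
  let xt : T ⟶ G := Over.homMk (G.left.fromSpecResidueField x) rfl
  let ψ' : T ⊗ G ⟶ G := (fst T G ≫ xt)⁻¹ * (snd T G)
  let δ : T ⟶ T ⊗ G := lift (𝟙 T) xt
  let Γ : T ⊗ G ⟶ G ⊗ G := lift ψ' (snd T G)
  let qG : G ⊗ G ⟶ G := (snd G G) * (fst G G)⁻¹
  let qH : H ⊗ H ⟶ H := (snd H H) * (fst H H)⁻¹
  have hδψ' : δ ≫ ψ' = 1 := by
    simp [δ, ψ', MonObj.comp_mul, GrpObj.comp_inv]
  have hΓq : Γ ≫ qG = fst T G ≫ xt := by
    simp [Γ, qG, ψ', MonObj.comp_mul, GrpObj.comp_inv]
  have hψq : (i ⊗ₘ i) ≫ qG = qH ≫ i := by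
    simp [qG, qH, MonObj.comp_mul, GrpObj.comp_inv, MonObj.mul_comp, GrpObj.inv_comp]
  have hψ'd : ψ' = (xt ⊗ₘ 𝟙 G) ≫ dG := by
    simp [ψ', dG, MonObj.comp_mul, GrpObj.comp_inv]
  haveI : UniversallyOpen T.hom := inferInstance
  have hopen_snd : IsOpenMap (snd T G).left.base := by
    rw [Over.snd_left]
    exact (pullback.snd T.hom G.hom).isOpenMap
  let pt : T.left := IsLocalRing.closedPoint (G.left.residueField x)
  have hxt : ∀ t, xt.left t = x := fun t => Scheme.fromSpecResidueField_apply _ _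
  let w₀ : (T ⊗ G).left := δ.left pt
  have hw₀snd : (snd T G).left w₀ = x := by
    show (snd T G).left (δ.left pt) = x
    rw [← Scheme.Hom.comp_apply, ← Over.comp_left]
    have : δ ≫ snd T G = xt := by simp [δ]
    rw [this]; exact hxt _
  have hw₀ψ' : ψ'.left w₀ ∈ Set.range i.left := by
    show ψ'.left (δ.left pt) ∈ Set.range i.left
    rw [← Scheme.Hom.comp_apply, ← Over.comp_left, hδψ', ← MonObj.one_comp (X := T) i,
      Over.comp_left, Scheme.Hom.comp_apply]
    exact ⟨_, rfl⟩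
  have hNopen : IsOpen (ψ'.left ⁻¹' coborder (Set.range i.left)) := hO.preimage ψ'.left.continuous
  have hx' : x ∈ (snd T G).left '' (ψ'.left ⁻¹' coborder (Set.range i.left)) :=
    ⟨w₀, subset_coborder hw₀ψ', hw₀snd⟩
  obtain ⟨y, ⟨w, hwN, rfl⟩, hyU⟩ := mem_closure_iff.mp hx _ (hopen_snd _ hNopen) hx'
  -- ψ' w ∈ Z
  have hwZ : ψ'.left w ∈ closure (Set.range i.left) := by
    rw [hψ'd, Over.comp_left, Scheme.Hom.comp_apply]
    apply hdZ
    · rw [← Scheme.Hom.comp_apply, ← Over.comp_left]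
      have : (xt ⊗ₘ 𝟙 G) ≫ fst G G = fst T G ≫ xt := by simp
      rw [this, Over.comp_left, Scheme.Hom.comp_apply, hxt]; exact hx
    · rw [← Scheme.Hom.comp_apply, ← Over.comp_left]
      have : (xt ⊗ₘ 𝟙 G) ≫ snd G G = snd T G := by simp
      rw [this]; exact subset_closure hyU
  have hwU : ψ'.left w ∈ Set.range i.left := by
    rw [← hUO]; exact ⟨hwZ, hwN⟩
  have hΓfst : Γ ≫ fst G G = ψ' := by simp [Γ]
  have hΓsnd : Γ ≫ snd G G = snd T G := by simp [Γ]
  have hrange : Γ.left w ∈ Set.range (i ⊗ₘ i).left := by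
    rw [hrange2]
    refine ⟨?_, ?_⟩
    · show (fst G G).left (Γ.left w) ∈ Set.range i.left
      rw [← Scheme.Hom.comp_apply, ← Over.comp_left, hΓfst]; exact hwU
    · show (snd G G).left (Γ.left w) ∈ Set.range i.left
      rw [← Scheme.Hom.comp_apply, ← Over.comp_left, hΓsnd]; exact hyU
  obtain ⟨v, hv⟩ := hrange
  have hxw : (fst T G ≫ xt).left w = x := by
    rw [Over.comp_left, Scheme.Hom.comp_apply]
    exact hxt _
  refine ⟨qH.left v, ?_⟩
  rw [← Scheme.Hom.comp_apply, ← Over.comp_left, ← hψq, Over.comp_left, Scheme.Hom.comp_apply, hv,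
    ← Scheme.Hom.comp_apply, ← Over.comp_left, hΓq, hxw]

end Aux

/-- A homomorphism of group schemes over a field which is an immersion is a closed immersion. -/
theorem result (K : Type u) [Field K] (H G : Over (Spec (CommRingCat.of K))) [GrpObj H] [GrpObj G] (i : H ⟶ G) [IsMonHom i] [IsImmersion i.left] : IsClosedImmersion i.left := by
  exact main K H G i

end Groth.Agent.S0351
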