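import Groth.Statements.S0352
import Mathlib

set_option autoImplicit false
universe u v
open CategoryTheory MonoidalCategory CartesianMonoidalCategory MonObj GrpObj AlgebraicGeometry
open GrpSch

namespace Groth.Agent.S0352

section Aux
open CategoryTheory CategoryTheory.Limits MonoidalCategory CartesianMonoidalCategory MonObj GrpObj AlgebraicGeometry

theorem main (K : Type u) [Field K] (H G : Over (Spec (CommRingCat.of K))) [GrpObj H] [GrpObj G]
    (ψ : H ⟶ G) [IsMonHom ψ] (h : IsOpen (Set.range ψ.left)) : IsClosed (Set.range ψ.left) := by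
  rw [← closure_subset_iff_isClosed]
  intro x hx
  let T : Over (Spec (CommRingCat.of K)) := Over.mk (G.left.fromSpecResidueField x ≫ G.hom)
  let xt : T ⟶ G := Over.homMk (G.left.fromSpecResidueField x) rfl
  let ψ' : T ⊗ G ⟶ G := (fst T G ≫ xt)⁻¹ * (snd T G)
  let δ : T ⟶ T ⊗ G := lift (𝟙 T) xt
  let Γ : T ⊗ G ⟶ G ⊗ G := lift ψ' (snd T G)
  let qG : G ⊗ G ⟶ G := (snd G G) * (fst G G)⁻¹
  let qH : H ⊗ H ⟶ H := (snd H H) * (fst H H)⁻¹
  have hδψ' : δ ≫ ψ' = 1 := by
    simp [δ, ψ', MonObj.comp_mul, GrpObj.comp_inv]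
  have hΓq : Γ ≫ qG = fst T G ≫ xt := by
    simp [Γ, qG, ψ', MonObj.comp_mul, GrpObj.comp_inv]
  have hψq : (ψ ⊗ₘ ψ) ≫ qG = qH ≫ ψ := by
    simp [qG, qH, MonObj.comp_mul, GrpObj.comp_inv, MonObj.mul_comp, GrpObj.inv_comp]
  haveI : UniversallyOpen T.hom := inferInstance
  have hopen_snd : IsOpenMap (snd T G).left.base := by
    rw [Over.snd_left]
    exact (pullback.snd T.hom G.hom).isOpenMap
  -- the point w₀
  let pt : T.left := IsLocalRing.closedPoint (G.left.residueField x)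
  have hxt : xt.left pt = x := Scheme.fromSpecResidueField_apply _ _
  let w₀ : (T ⊗ G).left := δ.left pt
  have hw₀snd : (snd T G).left w₀ = x := by
    show (snd T G).left (δ.left pt) = x
    rw [← Scheme.Hom.comp_apply, ← Over.comp_left]
    have : δ ≫ snd T G = xt := by simp [δ]
    rw [this]; exact hxt
  have hw₀ψ' : ψ'.left w₀ ∈ Set.range ψ.left := by
    show ψ'.left (δ.left pt) ∈ Set.range ψ.left
    rw [← Scheme.Hom.comp_apply, ← Over.comp_left, hδψ', ← MonObj.one_comp (X := T) ψ,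
      Over.comp_left, Scheme.Hom.comp_apply]
    exact ⟨_, rfl⟩
  have hNopen : IsOpen (ψ'.left ⁻¹' Set.range ψ.left) := h.preimage ψ'.left.continuous
  have hx' : x ∈ (snd T G).left '' (ψ'.left ⁻¹' Set.range ψ.left) := ⟨w₀, hw₀ψ', hw₀snd⟩
  obtain ⟨y, ⟨w, hwN, rfl⟩, hyU⟩ := mem_closure_iff.mp hx _ (hopen_snd _ hNopen) hx'
  -- Γ w in range of ψ ⊗ ψ
  have hΓfst : Γ ≫ fst G G = ψ' := by simp [Γ]
  have hΓsnd : Γ ≫ snd G G = snd T G := by simp [Γ]
  have hrange : Γ.left w ∈ Set.range (ψ ⊗ₘ ψ).left := by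
    rw [Over.tensorHom_left, Scheme.Pullback.range_map]
    refine ⟨?_, ?_⟩
    · show (fst G G).left (Γ.left w) ∈ Set.range ψ.left
      rw [← Scheme.Hom.comp_apply, ← Over.comp_left, hΓfst]; exact hwN
    · show (snd G G).left (Γ.left w) ∈ Set.range ψ.left
      rw [← Scheme.Hom.comp_apply, ← Over.comp_left, hΓsnd]; exact hyU
  obtain ⟨v, hv⟩ := hrange
  have hxw : (fst T G ≫ xt).left w = x := by
    rw [Over.comp_left, Scheme.Hom.comp_apply]
    exact Scheme.fromSpecResidueField_apply _ _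
  refine ⟨qH.left v, ?_⟩
  rw [← Scheme.Hom.comp_apply, ← Over.comp_left, ← hψq, Over.comp_left, Scheme.Hom.comp_apply, hv,
    ← Scheme.Hom.comp_apply, ← Over.comp_left, hΓq, hxw]

end Aux

/-- If the image of a homomorphism of group schemes over a field is open, it is also closed. -/
theorem result (K : Type u) [Field K] (H G : Over (Spec (CommRingCat.of K))) [GrpObj H] [GrpObj G] (ψ : H ⟶ G) [IsMonHom ψ] (h : IsOpen (Set.range ψ.left)) : IsClosed (Set.range ψ.left) := by
  exact main K H G ψ h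

end Groth.Agent.S0352
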