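import Groth.Statements.S0358
import Groth.Agent.Lib.helper9.FlatDepth4
import Groth.Agent.Lib.helper9.Depth24
import Groth.Agent.Lib.helper9.Depth7

set_option autoImplicit false
universe u v
open LocCoh

namespace Groth.Agent.S0358

/-- For a flat local homomorphism R → S of Noetherian local rings whose closed fibre S/m_R S is
Cohen–Macaulay, and a proper ideal I of S, the I-depth of S is at least dim(S/m_R S) − dim(S/(m_R S
+ I)); stated additively. -/
theorem result (R : Type u) [CommRing R] [IsLocalRing R] [IsNoetherianRing R] (S : Type u) [CommRing S] [IsLocalRing S] [IsNoetherianRing S] [Algebra R S] [IsLocalHom (algebraMap R S)] [Module.Flat R S] (hCM : LocCoh.IsCohenMacaulayLocalRing (S ⧸ (IsLocalRing.maximalIdeal R).map (algebraMap R S))) (I : Ideal S) (hI : I ≠ ⊤) : ringKrullDim (S ⧸ (IsLocalRing.maximalIdeal R).map (algebraMap R S)) ≤ ringKrullDim (S ⧸ ((IsLocalRing.maximalIdeal R).map (algebraMap R S) ⊔ I)) + ((LocCoh.idealDepth I S : ℕ∞) : WithBot ℕ∞) := by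
  classical
  set mS : Ideal S := (IsLocalRing.maximalIdeal R).map (algebraMap R S) with hmS
  set F := S ⧸ mS with hF
  haveI : IsNoetherianRing F := hCM.toIsNoetherian
  haveI : IsLocalRing F := hCM.toIsLocalRing
  have hImax : I ≤ IsLocalRing.maximalIdeal S := IsLocalRing.le_maximalIdeal hI
  have hmSmax : mS ≤ IsLocalRing.maximalIdeal S := IsLocalRing.map_maximalIdeal_le (algebraMap R S)
  set J : Ideal F := I.map (algebraMap S F) with hJ
  have hsurj : Function.Surjective (algebraMap S F) := Ideal.Quotient.mk_surjective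
  have hJtop : J ≠ ⊤ := by
    intro h
    have h1 : (1 : F) ∈ J := by rw [h]; trivial
    rw [hJ, Ideal.mem_map_iff_of_surjective _ hsurj] at h1
    obtain ⟨a, ha, ha1⟩ := h1
    have h2 : a - 1 ∈ mS := by
      rw [← Ideal.Quotient.eq_zero_iff_mem, map_sub, map_one]
      exact sub_eq_zero.mpr ha1
    have h3 : (1 : S) ∈ IsLocalRing.maximalIdeal S := by
      have := Ideal.sub_mem _ (hImax ha) (hmSmax h2)
      simp at this
    exact (Ideal.ne_top_iff_one _).mp (IsLocalRing.maximalIdeal.isMaximal S).ne_top h3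
  have hM : LocCoh.IsCohenMacaulayModule F F := hCM.supportDim_eq_depth
  have h1 := Groth.Agent.Lib.helper9.Depth.supportDim_eq_add_idealDepth_of_isCohenMacaulayModule
    J hJtop F hM
  rw [Module.supportDim_self_eq_ringKrullDim] at h1
  have hJtop' : J • (⊤ : Submodule F F) = J := by
    rw [smul_eq_mul, Ideal.mul_top]
  have h2 : Module.supportDim F (F ⧸ (J • (⊤ : Submodule F F))) = ringKrullDim (F ⧸ J) := by
    rw [Module.supportDim_eq_of_equiv (Submodule.quotEquivOfEq _ _ hJtop')]
    exact Module.supportDim_quotient_eq_ringKrullDim J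
  have h3 : ringKrullDim (F ⧸ J) = ringKrullDim (S ⧸ (mS ⊔ I)) :=
    ringKrullDim_eq_of_ringEquiv (DoubleQuot.quotQuotEquivQuotSup mS I)
  rw [h2, h3] at h1
  rw [h1]
  gcongr
  -- depth comparison
  have h4 : LocCoh.idealDepth J F = LocCoh.idealDepth I F :=
    (Groth.Agent.Lib.helper9.Depth.idealDepth_eq_of_surjective (R := S) (S := F) (M := F)
      hsurj I).symm
  rw [h4]
  obtain ⟨e⟩ := Groth.Agent.Lib.helper9.FlatDepth4.nonempty_fibreEquiv (R := R) (S := S) S
  have hmtop : mS • (⊤ : Submodule S S) = mS := by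
    rw [smul_eq_mul, Ideal.mul_top]
  have h5 : LocCoh.idealDepth I F =
      LocCoh.idealDepth I (TensorProduct R S (R ⧸ IsLocalRing.maximalIdeal R)) :=
    Groth.Agent.Lib.helper9.Depth.idealDepth_congr I
      ((Submodule.quotEquivOfEq _ _ hmtop.symm).trans e)
  rw [h5]
  exact WithBot.coe_le_coe.mpr
    (Groth.Agent.Lib.helper9.FlatDepth4.idealDepth_fibre_le (R := R) I hI S)

end Groth.Agent.S0358
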