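import Groth.Statements.S0359
import Groth.Agent.Lib.helper9.Depth23
-- import your own Groth.Agent.* helpers here

set_option autoImplicit false
universe u v
open LocCoh

namespace Groth.Agent.S0359

/-- For a finite module M over a Noetherian ring and a prime p with depth(M_p) = e finite, there is a
basic open neighbourhood of p in V(p) on which the depth of the localizations of M is at least e,
and it exceeds e at all but finitely many of those primes. -/
theorem result (R : Type u) [CommRing R] [IsNoetherianRing R] (M : Type u) [AddCommGroup M] [Module R M] [Module.Finite R M] (p : Ideal R) [p.IsPrime] (e : ℕ) (he : LocCoh.depth (Localization.AtPrime p) (LocalizedModule p.primeCompl M) = e) : ∃ f : R, f ∉ p ∧ (∀ (q : Ideal R) [q.IsPrime], p ≤ q → f ∉ q → (e : ℕ∞) ≤ LocCoh.depth (Localization.AtPrime q) (LocalizedModule q.primeCompl M)) ∧ {q : PrimeSpectrum R | p ≤ q.asIdeal ∧ f ∉ q.asIdeal ∧ LocCoh.depth (Localization.AtPrime q.asIdeal) (LocalizedModule q.asIdeal.primeCompl M) = e}.Finite := by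
  classical
  obtain ⟨xs, hlen, hxs, hreg⟩ :=
    Groth.Agent.Lib.helper9.Depth.exists_isWeaklyRegular_of_le_depth_localization p M e he.ge
  have hreg' : RingTheory.Sequence.IsWeaklyRegular (LocalizedModule p.primeCompl M)
      (xs.map (algebraMap R (Localization.AtPrime p))) :=
    (RingTheory.Sequence.isWeaklyRegular_map_algebraMap_iff (Localization.AtPrime p) _ xs).mpr hreg
  obtain ⟨f, hfp, hf⟩ :=
    Groth.Agent.Lib.helper9.Depth.exists_notMem_isWeaklyRegular_localization p xs M hreg'
  have hmemq : ∀ (q : Ideal R) [q.IsPrime], p ≤ q →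
      ∀ r ∈ xs.map (algebraMap R (Localization.AtPrime q)),
        r ∈ IsLocalRing.maximalIdeal (Localization.AtPrime q) := by
    intro q _ hpq r hr
    obtain ⟨a, ha, rfl⟩ := List.mem_map.mp hr
    exact (IsLocalization.AtPrime.to_map_mem_maximal_iff (Localization.AtPrime q) q a).mpr
      (hpq (hxs a ha))
  refine ⟨f, hfp, ?_, ?_⟩
  · intro q _ hpq hfq
    have h2 := Groth.Agent.Lib.helper9.DepthHom.length_le_idealDepth
      (I := IsLocalRing.maximalIdeal (Localization.AtPrime q)) (hf q hfq) (hmemq q hpq)
    rw [List.length_map, hlen] at h2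
    exact h2
  · let N := M ⧸ (Ideal.ofList xs • (⊤ : Submodule R M))
    have hfin : {q : PrimeSpectrum R | q.asIdeal ∈ associatedPrimes R N}.Finite :=
      (associatedPrimes.finite R N).preimage
        (fun a _ b _ hab => PrimeSpectrum.ext hab)
    refine hfin.subset ?_
    rintro q ⟨hpq, hfq, hdq⟩
    change q.asIdeal ∈ associatedPrimes R N
    rw [← Groth.Agent.Lib.helper9.Depth.depth_localization_eq_zero_iff]
    have hne : Nontrivial (LocalizedModule q.asIdeal.primeCompl M) := by
      by_contra hcon
      rw [not_nontrivial_iff_subsingleton] at hcon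
      have htop : LocCoh.depth (Localization.AtPrime q.asIdeal)
          (LocalizedModule q.asIdeal.primeCompl M) = ⊤ :=
        Groth.Agent.Lib.helper9.Depth.idealDepth_eq_top _ _ (Subsingleton.elim _ _)
      rw [htop] at hdq
      exact ENat.top_ne_natCast e hdq
    have h3 := Groth.Agent.Lib.helper9.Depth.idealDepth_quot_ofList_add_length
      (I := IsLocalRing.maximalIdeal (Localization.AtPrime q.asIdeal))
      (xs.map (algebraMap R (Localization.AtPrime q.asIdeal)))
      (LocalizedModule q.asIdeal.primeCompl M)
      (Groth.Agent.Lib.helper9.Depth.maximalIdeal_smul_top_ne_top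
        (R := Localization.AtPrime q.asIdeal) _)
      (hf q.asIdeal hfq) (hmemq q.asIdeal hpq)
    have e1 := Groth.Agent.Lib.helper9.Depth.quotLocEquiv q.asIdeal M (Ideal.ofList xs)
    rw [Ideal.map_ofList] at e1
    unfold LocCoh.depth at hdq ⊢
    rw [Groth.Agent.Lib.helper9.Depth.idealDepth_congr _ e1]
    rw [hdq, List.length_map, hlen] at h3
    have : LocCoh.idealDepth (IsLocalRing.maximalIdeal (Localization.AtPrime q.asIdeal))
        (LocalizedModule q.asIdeal.primeCompl M ⧸
          Ideal.ofList (xs.map (algebraMap R (Localization.AtPrime q.asIdeal))) •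
            (⊤ : Submodule (Localization.AtPrime q.asIdeal)
              (LocalizedModule q.asIdeal.primeCompl M))) + e = 0 + e := by
      rw [zero_add]; exact h3
    exact WithTop.add_right_cancel (ENat.natCast_ne_top e) this

end Groth.Agent.S0359
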