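import Groth.Statements.S0370
import Mathlib
import Groth.Agent.Lib.helper8.DualSelfA
import Groth.Agent.Lib.helper8.DualCMB

set_option autoImplicit false
universe u v
open CategoryTheory
attribute [local instance] HasDerivedCategory.standard
open Dual

namespace Groth.Agent.S0370

/-- A Noetherian ring admitting a finite module which, placed in degree 0, is a dualizing complex, is
Cohen–Macaulay. -/
theorem result (A : Type u) [CommRing A] [IsNoetherianRing A] (W : Type u) [AddCommGroup W] [Module A W] [Module.Finite A W] (h : Dual.IsDualizing A (Dual.inD A W)) : LocCoh.IsCohenMacaulayRing A := by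
  obtain ⟨a, b, hab⟩ := h.finite_injective_dimension
  have hinj : HasInjectiveDimensionLT (ModuleCat.of A W) ((b + 1).toNat + 1) := by
    refine HasInjectiveDimensionLT.mk (fun i hi Y e => ?_)
    have hs := hab Y (i : ℤ) (Or.inr (by omega))
    have hs' : Subsingleton (Abelian.Ext.{u} Y (ModuleCat.of A W) i) :=
      (Groth.Agent.H8.DualSelf.subsingleton_hom_shift_iff A Y (ModuleCat.of A W) i).1 hs
    exact Subsingleton.elim _ _
  have hann : Module.annihilator A W = ⊥ := by
    rw [eq_bot_iff]
    intro r hr
    rw [Module.mem_annihilator] at hr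
    rw [Submodule.mem_bot]
    apply h.toEnd_bijective.1
    show r • (𝟙 (Dual.inD A W)) = (0 : A) • (𝟙 (Dual.inD A W))
    have hmap : r • (𝟙 (Dual.inD A W)) =
        (DerivedCategory.singleFunctor (ModuleCat.{u} A) 0).map
          (r • (𝟙 (ModuleCat.of A W))) := by
      rw [CategoryTheory.Functor.map_smul, CategoryTheory.Functor.map_id]
    have hz : r • (𝟙 (ModuleCat.of A W)) = 0 := by
      ext w
      simpa using hr w
    rw [hmap, hz, CategoryTheory.Functor.map_zero, zero_smul]
  exact Groth.Agent.H8.DualCM.isCohenMacaulayRing_of_faithful_finite_injdim W _ hinj hann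

end Groth.Agent.S0370
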