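import Groth.Statements.S0379
import Groth.Agent.Lib.helper21.LC22
import Groth.Agent.Lib.helper21.LC12

set_option autoImplicit false
universe u v
open LocCoh

namespace Groth.Agent.S0379

/-- For a homomorphism of Noetherian rings A → B, if local cohomology with support in I vanishes above
degree d on all A-modules then local cohomology with support in IB vanishes above degree d on all
B-modules; if B is faithfully flat over A the converse holds too. -/
theorem result (A : Type u) [CommRing A] [IsNoetherianRing A] (B : Type u) [CommRing B] [IsNoetherianRing B] [Algebra A B] (I : Ideal A) (d : ℕ) : (LocCoh.CdLE A I d → LocCoh.CdLE B (I.map (algebraMap A B)) d) ∧ (Module.FaithfullyFlat A B → LocCoh.CdLE B (I.map (algebraMap A B)) d → LocCoh.CdLE A I d) := by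
  constructor
  · intro hI M' _ _ i hi
    obtain ⟨e⟩ := Groth.Agent.H21.LC.nonempty_FrEquiv (R := A) (R' := B) I i (ModuleCat.of B M')
    have h1 : Subsingleton ((localCohomology I i).obj
        ((Groth.Agent.H21.LC.Fr A B).obj (ModuleCat.of B M'))) :=
      hI ((Groth.Agent.H21.LC.Fr A B).obj (ModuleCat.of B M')) i hi
    exact e.toEquiv.subsingleton
  · intro hff hB M _ _ i hi
    have e := Groth.Agent.H21.LC.bcEquiv A B I i (ModuleCat.of A M)
    have h1 : Subsingleton ((localCohomology (I.map (algebraMap A B)) i).obj
        ((Groth.Agent.Lib.helper6.TorBC.bc A B).obj (ModuleCat.of A M))) :=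
      hB ((Groth.Agent.Lib.helper6.TorBC.bc A B).obj (ModuleCat.of A M)) i hi
    have h2 : Subsingleton (TensorProduct A B ((localCohomology I i).obj (ModuleCat.of A M))) :=
      e.toEquiv.subsingleton
    exact Module.FaithfullyFlat.lTensor_reflects_triviality A B _

end Groth.Agent.S0379
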