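import Groth.Statements.S0391
import Groth.Agent.S0390

set_option autoImplicit false
universe u
open FlatMor

namespace Groth.Agent.S0391

open TensorProduct in
/-- Variant of the local criterion: for a local homomorphism of Noetherian local rings R → S, a proper
ideal I of R and a finite S-module M, flatness of M over R follows once I ⊗ M injects into M and the
reduction of M modulo I is flat over the reduction of R modulo I. -/
theorem result {R S M : Type u} [CommRing R] [CommRing S] [IsLocalRing R] [IsLocalRing S] [IsNoetherianRing R] [IsNoetherianRing S] [Algebra R S] [IsLocalHom (algebraMap R S)]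
    [AddCommGroup M] [Module R M] [Module S M] [IsScalarTower R S M] [Module.Finite S M] (I : Ideal R) (hI : I ≠ ⊤)
    (h1 : Function.Injective (LinearMap.rTensor M (Submodule.subtype I)))
    (h2 : Module.Flat (R ⧸ I) ((R ⧸ I) ⊗[R] M)) : Module.Flat R M := by
  refine Groth.Agent.S0390.result (S := S) ?_
  set m := IsLocalRing.maximalIdeal R with hm
  have hIm : I ≤ m := IsLocalRing.le_maximalIdeal hI
  let Q : Ideal (R ⧸ I) := m.map (Ideal.Quotient.mk I)
  let π : m →ₗ[R] Q :=
    { toFun := fun i => ⟨Ideal.Quotient.mk I i, Ideal.mem_map_of_mem _ i.2⟩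
      map_add' := fun a b => by ext; simp
      map_smul' := fun b a => by ext; simp [Algebra.smul_def] }
  let ι : I →ₗ[R] m := Submodule.inclusion hIm
  have hcomp : ((Q.subtype).restrictScalars R) ∘ₗ π =
      (Ideal.Quotient.mkₐ R I).toLinearMap ∘ₗ m.subtype := by
    ext i; rfl
  have hcomp2 : m.subtype ∘ₗ ι = I.subtype := by
    ext i; rfl
  have hsurj : Function.Surjective π := by
    rintro ⟨y, hy⟩
    obtain ⟨i, hi, rfl⟩ := (Ideal.mem_map_iff_of_surjective _ Ideal.Quotient.mk_surjective).mp hy
    exact ⟨⟨i, hi⟩, rfl⟩
  have hex : Function.Exact ι π := by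
    intro a
    constructor
    · intro h
      have h3 := congrArg Subtype.val h
      have : (a : R) ∈ I := by
        simpa [π, Ideal.Quotient.eq_zero_iff_mem] using h3
      exact ⟨⟨a, this⟩, rfl⟩
    · rintro ⟨i, rfl⟩
      apply Subtype.ext
      simp [π, ι, Ideal.Quotient.eq_zero_iff_mem]
  have hex2 := rTensor_exact M hex hsurj
  rw [injective_iff_map_eq_zero]
  intro z hz
  have e1 : LinearMap.rTensor M ((Q.subtype).restrictScalars R) (LinearMap.rTensor M π z) = 0 := by
    rw [← LinearMap.comp_apply, ← LinearMap.rTensor_comp, hcomp, LinearMap.rTensor_comp,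
      LinearMap.comp_apply, hz, map_zero]
  have e2 : LinearMap.rTensor M π z = 0 := by
    apply Groth.Agent.H21.rTensor_inj_of_flat_quot I Q
    rw [e1, map_zero]
  obtain ⟨z', rfl⟩ := (hex2 z).mp e2
  have e3 : LinearMap.rTensor M I.subtype z' = 0 := by
    rw [← hcomp2, LinearMap.rTensor_comp, LinearMap.comp_apply]
    exact hz
  have : z' = 0 := h1 (by rw [e3, map_zero])
  rw [this, map_zero]

end Groth.Agent.S0391
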