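import Groth.Statements.S0392
import Groth.Agent.Lib.helper21.Mat225
import Groth.Agent.S0391

set_option autoImplicit false
universe u
open FlatMor

namespace Groth.Agent.S0392

open TensorProduct Groth.Agent.H21

/-- `m ⊗[R] M → M` injective (flatness over `R`) implies `mS ⊗[S] M → S ⊗[S] M` injective. -/
theorem step1 {R S M : Type u} [CommRing R] [CommRing S] [Algebra R S]
    [AddCommGroup M] [Module S M] [Module R M] [IsScalarTower R S M] [Module.Flat R M]
    (m : Ideal R) :
    Function.Injective (LinearMap.rTensor M (Submodule.subtype (m.map (algebraMap R S)))) := by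
  set mS := m.map (algebraMap R S) with hmS
  -- φ : m ⊗[R] M → mS ⊗[S] M
  let φ : m ⊗[R] M →ₗ[R] mS ⊗[S] M :=
    TensorProduct.lift
      { toFun := fun a =>
          { toFun := fun x => (⟨algebraMap R S a, Ideal.mem_map_of_mem _ a.2⟩ : mS) ⊗ₜ[S] x
            map_add' := fun x y => by rw [TensorProduct.tmul_add]
            map_smul' := fun r x => by
              simp only [RingHom.id_apply]
              rw [TensorProduct.tmul_smul] }
        map_add' := fun a b => by
          ext x
          simp only [LinearMap.coe_mk, AddHom.coe_mk, LinearMap.add_apply]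
          rw [← TensorProduct.add_tmul]
          congr 1
          ext
          simp
        map_smul' := fun r a => by
          ext x
          simp only [LinearMap.coe_mk, AddHom.coe_mk, LinearMap.smul_apply, RingHom.id_apply]
          rw [TensorProduct.smul_tmul']
          congr 1
          ext
          simp [Algebra.smul_def] }
  have hφ : ∀ (a : m) (x : M), φ (a ⊗ₜ x) =
      (⟨algebraMap R S a, Ideal.mem_map_of_mem _ a.2⟩ : mS) ⊗ₜ[S] x := fun a x => rfl
  let ψR : m ⊗[R] M →ₗ[R] M := (TensorProduct.lid R M).toLinearMap ∘ₗ LinearMap.rTensor M m.subtype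
  let ψS : mS ⊗[S] M →ₗ[S] M := (TensorProduct.lid S M).toLinearMap ∘ₗ LinearMap.rTensor M mS.subtype
  have hψR : Function.Injective ψR := by
    have : Function.Injective (LinearMap.rTensor M m.subtype) :=
      Module.Flat.rTensor_preserves_injective_linearMap _ Subtype.val_injective
    exact (TensorProduct.lid R M).injective.comp this
  have hcomp : ∀ w, ψS (φ w) = ψR w := by
    intro w
    induction w using TensorProduct.induction_on with
    | zero => simp
    | add x y hx hy => simp only [map_add, hx, hy]
    | tmul a x => simp [hφ, ψS, ψR]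
  have hsurj : Function.Surjective φ := by
    intro z
    induction z using TensorProduct.induction_on with
    | zero => exact ⟨0, map_zero _⟩
    | add x y hx hy =>
      obtain ⟨a, rfl⟩ := hx
      obtain ⟨b, rfl⟩ := hy
      exact ⟨a + b, map_add _ _ _⟩
    | tmul s x =>
      obtain ⟨s, hs⟩ := s
      have key : ∀ s (hs : s ∈ mS) (x : M), ∃ w, φ w = (⟨s, hs⟩ : mS) ⊗ₜ[S] x := by
        intro s hs
        refine Submodule.span_induction
          (p := fun s hs => ∀ x : M, ∃ w, φ w = (⟨s, hs⟩ : mS) ⊗ₜ[S] x) ?_ ?_ ?_ ?_ hs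
        · rintro _ ⟨a, ha, rfl⟩ x
          exact ⟨(⟨a, ha⟩ : m) ⊗ₜ x, hφ _ _⟩
        · intro x
          refine ⟨0, ?_⟩
          rw [map_zero]
          have : (⟨0, mS.zero_mem⟩ : mS) = 0 := rfl
          rw [this, TensorProduct.zero_tmul]
        · intro a b ha hb iha ihb x
          obtain ⟨wa, hwa⟩ := iha x
          obtain ⟨wb, hwb⟩ := ihb x
          refine ⟨wa + wb, ?_⟩
          rw [map_add, hwa, hwb, ← TensorProduct.add_tmul]
          rfl
        · intro t a ha iha x
          obtain ⟨w, hw⟩ := iha (t • x)
          refine ⟨w, ?_⟩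
          rw [hw, ← TensorProduct.smul_tmul]
          rfl
      exact key s hs x
  rw [injective_iff_map_eq_zero]
  intro z hz
  obtain ⟨w, rfl⟩ := hsurj z
  have : ψR w = 0 := by
    rw [← hcomp]
    show (TensorProduct.lid S M) (LinearMap.rTensor M mS.subtype (φ w)) = 0
    rw [hz, map_zero]
  have hw : w = 0 := hψR (by rw [this, map_zero])
  rw [hw, map_zero]

/-- Fibrewise criterion of flatness, Noetherian local form. -/
theorem result {R S S' M : Type u} [CommRing R] [CommRing S] [CommRing S'] [IsLocalRing R] [IsLocalRing S] [IsLocalRing S']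
    [IsNoetherianRing R] [IsNoetherianRing S] [IsNoetherianRing S'] [Algebra R S] [Algebra S S'] [Algebra R S'] [IsScalarTower R S S']
    [IsLocalHom (algebraMap R S)] [IsLocalHom (algebraMap S S')]
    [AddCommGroup M] [Module S' M] [Module S M] [Module R M] [IsScalarTower S S' M] [IsScalarTower R S M]
    [Module.Finite S' M] [Nontrivial M] [Module.Flat R M]
    (h : Module.Flat (S ⧸ ((IsLocalRing.maximalIdeal R).map (algebraMap R S))) ((S ⧸ ((IsLocalRing.maximalIdeal R).map (algebraMap R S))) ⊗[S] M)) :
    Module.Flat R S ∧ Module.Flat S M := by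
  have hmS_le : (IsLocalRing.maximalIdeal R).map (algebraMap R S) ≤ IsLocalRing.maximalIdeal S :=
    IsLocalRing.map_maximalIdeal_le (algebraMap R S)
  have hmS_ne : (IsLocalRing.maximalIdeal R).map (algebraMap R S) ≠ ⊤ :=
    fun h => (Ideal.IsPrime.ne_top inferInstance) (top_le_iff.mp (h ▸ hmS_le))
  have hflatS : Module.Flat S M :=
    Groth.Agent.S0391.result (R := S) (S := S') (M := M) _ hmS_ne
      (step1 (R := R) (S := S) (M := M) (IsLocalRing.maximalIdeal R)) h
  refine ⟨?_, hflatS⟩
  haveI : Module.FaithfullyFlat S M := by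
    refine ⟨fun m' hm' htop => ?_⟩
    have hm'eq : m' = IsLocalRing.maximalIdeal S := IsLocalRing.eq_maximalIdeal hm'
    subst hm'eq
    have h1 : (⊤ : Submodule S' M) ≤ IsLocalRing.maximalIdeal S' • (⊤ : Submodule S' M) := by
      intro x _
      have hx : x ∈ IsLocalRing.maximalIdeal S • (⊤ : Submodule S M) := by
        rw [htop]; exact Submodule.mem_top
      have := mem_map_smul_of_mem_smul (S := S') (IsLocalRing.maximalIdeal S) hx
      exact Submodule.smul_mono (IsLocalRing.map_maximalIdeal_le (algebraMap S S')) le_rfl this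
    have h2 := Submodule.eq_bot_of_le_smul_of_le_jacobson_bot (IsLocalRing.maximalIdeal S')
      (⊤ : Submodule S' M) (Module.Finite.fg_top) h1 (IsLocalRing.maximalIdeal_le_jacobson _)
    have : Subsingleton M := by
      refine ⟨fun a b => ?_⟩
      have ha : a ∈ (⊥ : Submodule S' M) := h2 ▸ Submodule.mem_top
      have hb : b ∈ (⊥ : Submodule S' M) := h2 ▸ Submodule.mem_top
      rw [Submodule.mem_bot] at ha hb
      rw [ha, hb]
    exact not_subsingleton M this
  exact flat_of_faithfullyFlat_module (R := R) (S := S) (M := M)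

end Groth.Agent.S0392
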