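import Groth.Statements.S0394
import Groth.Agent.Lib.helper21.Mat225

set_option autoImplicit false
universe u
open FlatMor

namespace Groth.Agent.S0394

open TensorProduct Groth.Agent.H21

/-- For a local homomorphism R → S of Noetherian local rings and a nonzero finite S-module M flat over R
whose fibre M/mM is free over S/mS (m the maximal ideal of R), M is free over S and S is flat over
R. -/
theorem result {R S M : Type u} [CommRing R] [CommRing S] [IsLocalRing R] [IsLocalRing S] [IsNoetherianRing R] [IsNoetherianRing S] [Algebra R S] [IsLocalHom (algebraMap R S)]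
    [AddCommGroup M] [Module R M] [Module S M] [IsScalarTower R S M] [Module.Finite S M] [Nontrivial M] [Module.Flat R M]
    (h : Module.Free (S ⧸ ((IsLocalRing.maximalIdeal R).map (algebraMap R S))) ((S ⧸ ((IsLocalRing.maximalIdeal R).map (algebraMap R S))) ⊗[S] M)) :
    Module.Free S M ∧ Module.Flat R S := by
  set m := IsLocalRing.maximalIdeal R with hm
  set mS := m.map (algebraMap R S) with hmS
  have hmS_le : mS ≤ IsLocalRing.maximalIdeal S := IsLocalRing.map_maximalIdeal_le (algebraMap R S)
  have hmS_ne : mS ≠ ⊤ := fun h => (Ideal.IsPrime.ne_top inferInstance) (top_le_iff.mp (h ▸ hmS_le))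
  haveI : Nontrivial (S ⧸ mS) := Ideal.Quotient.nontrivial_iff.mpr hmS_ne
  let ι := Module.Free.ChooseBasisIndex (S ⧸ mS) ((S ⧸ mS) ⊗[S] M)
  let b : Module.Basis ι (S ⧸ mS) ((S ⧸ mS) ⊗[S] M) := Module.Free.chooseBasis _ _
  haveI : Fintype ι := inferInstance
  have hx : ∀ i, ∃ x : M, (1 : S ⧸ mS) ⊗ₜ[S] x = b i := fun i => exists_one_tmul mS (b i)
  choose x hx using hx
  let uS : (ι →₀ S) →ₗ[S] M := Finsupp.linearCombination S x
  let u : (ι →₀ S) →ₗ[R] M := uS.restrictScalars R
  have hu : ∀ c : ι →₀ S, u c = ∑ i, c i • x i := by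
    intro c
    show Finsupp.linearCombination S x c = _
    rw [Finsupp.linearCombination_apply, Finsupp.sum_fintype _ _ (fun i => zero_smul S (x i))]
  -- image in the fibre
  have hfib : ∀ c : ι →₀ S, (1 : S ⧸ mS) ⊗ₜ[S] (u c) =
      ∑ i, (Ideal.Quotient.mk mS (c i)) • b i := by
    intro c
    rw [hu, TensorProduct.tmul_sum]
    refine Finset.sum_congr rfl (fun i _ => ?_)
    rw [← hx i, TensorProduct.smul_tmul', ← TensorProduct.smul_tmul, Algebra.smul_def, mul_one,
      smul_eq_mul, mul_one]
    rfl
  have h1 : Function.Injective (u.lTensor (R ⧸ m)) := by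
    rw [injective_iff_map_eq_zero]
    intro z hz
    obtain ⟨c, rfl⟩ := exists_one_tmul m z
    rw [LinearMap.lTensor_tmul, one_tmul_eq_zero_iff] at hz
    have hz' := mem_map_smul_of_mem_smul (S := S) m hz
    rw [← one_tmul_eq_zero_iff, hfib] at hz'
    have hci : ∀ i, c i ∈ mS := by
      intro i
      have := (Fintype.linearIndependent_iff.mp b.linearIndependent) _ hz' i
      exact Ideal.Quotient.eq_zero_iff_mem.mp this
    rw [one_tmul_eq_zero_iff]
    apply mem_smul_of_mem_map_smul (S := S) m
    have hc : c = ∑ i, c i • Finsupp.single i (1 : S) := by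
      ext j
      simp
    rw [hc]
    exact Submodule.sum_mem _ fun i _ => Submodule.smul_mem_smul (hci i) Submodule.mem_top
  have hinj : Function.Injective uS := mat225_injective (S := S) u h1
  have hsurj : Function.Surjective uS := by
    have htop : (⊤ : Submodule S M) ≤ LinearMap.range uS ⊔
        IsLocalRing.maximalIdeal S • (⊤ : Submodule S M) := by
      intro y _
      have : ∀ i, ∃ s : S, Ideal.Quotient.mk mS s = b.repr ((1 : S ⧸ mS) ⊗ₜ[S] y) i :=
        fun i => Ideal.Quotient.mk_surjective _
      choose s hs using this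
      let c : ι →₀ S := Finsupp.equivFunOnFinite.symm s
      have hc : ∀ i, c i = s i := fun i => rfl
      have h2 : (1 : S ⧸ mS) ⊗ₜ[S] y = (1 : S ⧸ mS) ⊗ₜ[S] (u c) := by
        rw [hfib]
        simp only [hc, hs]
        exact (b.sum_repr _).symm
      have h3 : y - u c ∈ mS • (⊤ : Submodule S M) := by
        rw [← one_tmul_eq_zero_iff, TensorProduct.tmul_sub, h2, sub_self]
      have h4 : y = u c + (y - u c) := by abel
      rw [h4]
      exact Submodule.add_mem_sup ⟨c, rfl⟩ (Submodule.smul_mono hmS_le le_rfl h3)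
    have := Submodule.le_of_le_smul_of_le_jacobson_bot (N := LinearMap.range uS)
      (Module.Finite.fg_top (R := S) (M := M)) (IsLocalRing.maximalIdeal_le_jacobson _) htop
    intro y
    exact this Submodule.mem_top
  let e : (ι →₀ S) ≃ₗ[S] M := LinearEquiv.ofBijective uS ⟨hinj, hsurj⟩
  refine ⟨Module.Free.of_equiv e, ?_⟩
  -- S is a retract of M
  have hne : Nonempty ι := by
    by_contra hemp
    rw [not_nonempty_iff] at hemp
    have : Subsingleton M := e.symm.toEquiv.subsingleton
    exact not_subsingleton M this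
  obtain ⟨i₀⟩ := hne
  let i : S →ₗ[R] M := (e.toLinearMap ∘ₗ Finsupp.lsingle i₀).restrictScalars R
  let r : M →ₗ[R] S := (Finsupp.lapply i₀ ∘ₗ e.symm.toLinearMap).restrictScalars R
  refine Module.Flat.of_retract i r ?_
  ext s
  simp [i, r]

end Groth.Agent.S0394
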