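import Groth.Statements.S0395
import Groth.Agent.Lib.helper21.Mat225

set_option autoImplicit false
universe u
open FlatMor

namespace Groth.Agent.S0395

open TensorProduct Groth.Agent.H21

/-- For a flat local homomorphism R → S of Noetherian local rings and an element f of S that is regular
on the fibre ring S/mS, the quotient of S by f is again R-flat and f is regular on S. -/
theorem result {R S : Type u} [CommRing R] [CommRing S] [IsLocalRing R] [IsLocalRing S] [IsNoetherianRing R] [IsNoetherianRing S] [Algebra R S] [IsLocalHom (algebraMap R S)] [Module.Flat R S]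
    (f : S) (hf : Ideal.Quotient.mk ((IsLocalRing.maximalIdeal R).map (algebraMap R S)) f ∈ nonZeroDivisors (S ⧸ ((IsLocalRing.maximalIdeal R).map (algebraMap R S)))) :
    Module.Flat R (S ⧸ Ideal.span {f}) ∧ f ∈ nonZeroDivisors S := by
  set m := IsLocalRing.maximalIdeal R with hm
  let u : S →ₗ[R] S := LinearMap.mulLeft R f
  have hu : ∀ x, u x = f * x := fun x => rfl
  have hmem : ∀ b : S, b ∈ m • (⊤ : Submodule R S) ↔ b ∈ m.map (algebraMap R S) := by
    intro b
    rw [Ideal.smul_top_eq_map]
    rfl
  have h : Function.Injective (u.lTensor (R ⧸ m)) := by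
    rw [injective_iff_map_eq_zero]
    intro z hz
    obtain ⟨b, rfl⟩ := exists_one_tmul m z
    rw [LinearMap.lTensor_tmul, one_tmul_eq_zero_iff, hu, hmem] at hz
    rw [one_tmul_eq_zero_iff, hmem]
    have h1 : Ideal.Quotient.mk (m.map (algebraMap R S)) b *
        Ideal.Quotient.mk (m.map (algebraMap R S)) f = 0 := by
      rw [← map_mul, mul_comm, Ideal.Quotient.eq_zero_iff_mem]; exact hz
    have h2 := (mem_nonZeroDivisors_iff_right.mp hf) _ h1
    exact Ideal.Quotient.eq_zero_iff_mem.mp h2
  have hinj := mat225_injective (S := S) u h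
  have hflat := mat225_flat (S := S) u h
  refine ⟨?_, ?_⟩
  · have hrange : LinearMap.range u = (Ideal.span {f}).restrictScalars R := by
      ext x
      simp only [LinearMap.mem_range, Submodule.restrictScalars_mem, Ideal.mem_span_singleton', hu]
      constructor
      · rintro ⟨y, rfl⟩; exact ⟨y, mul_comm _ _⟩
      · rintro ⟨y, rfl⟩; exact ⟨y, mul_comm _ _⟩
    exact Module.Flat.of_linearEquiv
      ((Submodule.quotEquivOfEq _ _ hrange).trans
        (Submodule.Quotient.restrictScalarsEquiv R (Ideal.span {f}))).symm
  · rw [mem_nonZeroDivisors_iff_right]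
    intro x hx
    apply hinj
    rw [hu, map_zero, mul_comm]; exact hx

end Groth.Agent.S0395
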