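import Groth.Statements.S0397
import Mathlib

set_option autoImplicit false
universe u
open FlatMor

namespace Groth.Agent.S0397

open IsLocalRing TensorProduct in
theorem nakayama_nilpotent {R M : Type u} [CommRing R] (I : Ideal R) (hI : IsNilpotent I)
    [AddCommGroup M] [Module R M] (N : Submodule R M) (h : N ⊔ I • ⊤ = ⊤) : N = ⊤ := by
  obtain ⟨n, hn⟩ := hI
  have key : ∀ k : ℕ, N ⊔ (I ^ k) • (⊤ : Submodule R M) = ⊤ := by
    intro k
    induction k with
    | zero => simp
    | succ k ih =>
      rw [eq_top_iff]
      calc (⊤ : Submodule R M) = N ⊔ I • (N ⊔ (I ^ k) • (⊤ : Submodule R M)) := by rw [ih, h]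
        _ = N ⊔ (I • N ⊔ I • ((I ^ k) • (⊤ : Submodule R M))) := by rw [Submodule.smul_sup]
        _ ≤ N ⊔ (I ^ (k + 1)) • (⊤ : Submodule R M) := by
          rw [← mul_smul, ← pow_succ']
          refine sup_le le_sup_left (sup_le ?_ le_sup_right)
          exact le_sup_of_le_left Submodule.smul_le_right
  have := key n
  rwa [hn, Ideal.zero_eq_bot, Submodule.bot_smul, sup_bot_eq] at this

open IsLocalRing TensorProduct Module in
/-- Over a local ring whose maximal ideal is nilpotent, every flat module (not necessarily finitely
generated) is free. -/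
theorem result {R M : Type u} [CommRing R] [IsLocalRing R] (hR : IsNilpotent (IsLocalRing.maximalIdeal R))
    [AddCommGroup M] [Module R M] [Module.Flat R M] : Module.Free R M := by
  let k := ResidueField R
  let w := Free.chooseBasis k (k ⊗[R] M)
  have ⟨v, eq⟩ := (TensorProduct.mk_surjective R M k Ideal.Quotient.mk_surjective).comp_left w
  have hli : LinearIndependent R v :=
    IsLocalRing.linearIndependent_of_flat _ (by
      have : (TensorProduct.mk R (ResidueField R) M 1) ∘ v = w := eq
      rw [this]; exact w.linearIndependent)
  refine .of_basis (.mk hli ?_)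
  rw [top_le_iff]
  apply nakayama_nilpotent _ hR
  have hmap : (Submodule.span R (Set.range v)).map (TensorProduct.mk R k M 1) = ⊤ := by
    rw [Submodule.map_span, ← Submodule.restrictScalars_span R k
      Ideal.Quotient.mk_surjective, Submodule.restrictScalars_eq_top_iff,
      ← w.span_eq, ← Set.range_comp]
    congr 2
  have := congrArg (Submodule.comap (TensorProduct.mk R k M 1)) hmap
  rw [Submodule.comap_map_eq, Submodule.comap_top] at this
  have hker : LinearMap.ker (TensorProduct.mk R k M 1) = maximalIdeal R • (⊤ : Submodule R M) :=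
    LinearMap.ker_tensorProductMk M
  rwa [hker] at this

end Groth.Agent.S0397
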