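import Groth.Statements.S12205
import Groth.Agent.Lib.helper21.TorLib

set_option autoImplicit false
universe u
open CategoryTheory
open scoped TensorProduct
open CAlg

namespace Groth.Agent.S12205

open Groth.Agent.H21.TorLib TensorProduct

section aux

variable {R : Type u} [CommRing R]

/-- If `(R/I) ⊗ M` is flat over `R/I`, then tensoring (over `R`) an injective map of
`R/I`-modules with `M` is injective. -/
theorem rTensor_inj_of_flat_quot' (I : Ideal R) (M : Type u) [AddCommGroup M] [Module R M]
    [Module.Flat (R ⧸ I) ((R ⧸ I) ⊗[R] M)]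
    {K F : Type u} [AddCommGroup K] [AddCommGroup F] [Module R K] [Module (R ⧸ I) K]
    [IsScalarTower R (R ⧸ I) K] [Module R F] [Module (R ⧸ I) F] [IsScalarTower R (R ⧸ I) F]
    (v : K →ₗ[R ⧸ I] F) (hv : Function.Injective v) :
    Function.Injective (LinearMap.rTensor M (v.restrictScalars R)) := by
  let e₁ := AlgebraTensorModule.cancelBaseChange R (R ⧸ I) (R ⧸ I) K M
  let e₂ := AlgebraTensorModule.cancelBaseChange R (R ⧸ I) (R ⧸ I) F M
  have nat : ∀ z, e₂ (LinearMap.rTensor ((R ⧸ I) ⊗[R] M) v z) =
      LinearMap.rTensor M (v.restrictScalars R) (e₁ z) := by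
    intro z
    induction z using TensorProduct.induction_on with
    | zero => simp
    | add x y hx hy => simp only [map_add, hx, hy]
    | tmul q w =>
      induction w using TensorProduct.induction_on with
      | zero => simp
      | add x y hx hy => simp only [tmul_add, map_add, hx, hy]
      | tmul b a => simp [e₁, e₂]
  have hflat : Function.Injective (LinearMap.rTensor ((R ⧸ I) ⊗[R] M) v) :=
    Module.Flat.rTensor_preserves_injective_linearMap _ hv
  intro x y hxy
  obtain ⟨x', rfl⟩ := e₁.surjective x
  obtain ⟨y', rfl⟩ := e₁.surjective y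
  rw [← nat, ← nat] at hxy
  rw [hflat (e₂.injective hxy)]

/-- Naturality of `finsuppLeft`. -/
lemma finsuppLeft_nat {P Q M : Type u} [AddCommGroup P] [AddCommGroup Q] [AddCommGroup M]
    [Module R P] [Module R Q] [Module R M] (ι : Type u) [DecidableEq ι] (v : P →ₗ[R] Q)
    (z : (ι →₀ P) ⊗[R] M) :
    TensorProduct.finsuppLeft R R Q M ι ((Finsupp.mapRange.linearMap v).rTensor M z) =
      Finsupp.mapRange.linearMap (v.rTensor M) (TensorProduct.finsuppLeft R R P M ι z) := by
  induction z using TensorProduct.induction_on with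
  | zero => simp
  | add x y hx hy => simp only [map_add, hx, hy]
  | tmul p m =>
    induction p using Finsupp.induction_linear with
    | zero => simp
    | add f g hf hg => simp only [add_tmul, map_add, hf, hg]
    | single i x =>
      ext j
      simp [TensorProduct.finsuppLeft_apply_tmul_apply, Finsupp.single_apply, apply_ite]

lemma rTensor_mapRange_injective {P Q M : Type u} [AddCommGroup P] [AddCommGroup Q]
    [AddCommGroup M] [Module R P] [Module R Q] [Module R M] (ι : Type u) (v : P →ₗ[R] Q)
    (hv : Function.Injective (v.rTensor M)) :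
    Function.Injective ((Finsupp.mapRange.linearMap (α := ι) v).rTensor M) := by
  classical
  intro x y hxy
  have h1 := congrArg (TensorProduct.finsuppLeft R R Q M ι) hxy
  rw [finsuppLeft_nat, finsuppLeft_nat] at h1
  have h2 : Function.Injective (Finsupp.mapRange.linearMap (α := ι) (v.rTensor M)) :=
    Finsupp.mapRange_injective _ (map_zero _) hv
  exact (TensorProduct.finsuppLeft R R P M ι).injective (h2 h1)

lemma mapRange_exact (I : Ideal R) (ι : Type u) :
    Function.Exact (Finsupp.mapRange.linearMap (α := ι) (Submodule.subtype I))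
      (Finsupp.mapRange.linearMap (α := ι) (Submodule.mkQ I)) := by
  rw [LinearMap.exact_iff, Finsupp.ker_mapRange, Finsupp.range_mapRange_linearMap _
    (Submodule.ker_subtype I), Submodule.ker_mkQ, Submodule.range_subtype]

/-- `Tor_1((R/I)^(ι), M) = 0` if `Tor_1(R/I, M) = 0`. -/
lemma tor_one_finsupp_quot (I : Ideal R) (M : Type u) [AddCommGroup M] [Module R M]
    (h : Limits.IsZero (T 1 (ModuleCat.of R (R ⧸ I)) (ModuleCat.of R M))) (ι : Type u) :
    Limits.IsZero (T 1 (ModuleCat.of R (ι →₀ R ⧸ I)) (ModuleCat.of R M)) := by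
  have hinj : Function.Injective (Finsupp.mapRange.linearMap (α := ι) (Submodule.subtype I)) :=
    Finsupp.mapRange_injective _ (map_zero _) (Submodule.injective_subtype I)
  have hsurj : Function.Surjective (Finsupp.mapRange.linearMap (α := ι) (Submodule.mkQ I)) :=
    Finsupp.mapRange_surjective _ (map_zero _) (Submodule.mkQ_surjective I)
  have hE := linSES_shortExact _ _ hinj (mapRange_exact I ι) hsurj
  have hflat : Module.Flat R (ModuleCat.of R (ι →₀ R)) :=
    inferInstanceAs (Module.Flat R (ι →₀ R))
  refine (isZero_iff_injective_rTensor _ hE (ModuleCat.of R M)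
    (isZero_of_flat_left (ModuleCat.of R (ι →₀ R)) _ 0)).2 ?_
  apply rTensor_mapRange_injective
  exact injective_rTensor_of_isZero _ (quotSES_shortExact I) (ModuleCat.of R M) h

/-- Step A, abstract form. -/
lemma stepA_aux (I : Ideal R) (M : Type u) [AddCommGroup M] [Module R M]
    [Module.Flat (R ⧸ I) ((R ⧸ I) ⊗[R] M)]
    (F N : Type u) [AddCommGroup N] [Module R N] [Module (R ⧸ I) N] [IsScalarTower R (R ⧸ I) N]
    [AddCommGroup F] [Module R F] [Module (R ⧸ I) F] [IsScalarTower R (R ⧸ I) F]
    (π : F →ₗ[R ⧸ I] N) (hπ : Function.Surjective π)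
    (hF : Limits.IsZero (T 1 (ModuleCat.of R F) (ModuleCat.of R M))) :
    Limits.IsZero (T 1 (ModuleCat.of R N) (ModuleCat.of R M)) := by
  have hf : Function.Injective ((LinearMap.ker π).subtype.restrictScalars R) :=
    (LinearMap.ker π).injective_subtype
  have hg : Function.Surjective (π.restrictScalars R) := hπ
  have hfg : Function.Exact ((LinearMap.ker π).subtype.restrictScalars R)
      (π.restrictScalars R) := by
    intro y
    change π y = 0 ↔ y ∈ Set.range (LinearMap.ker π).subtype
    rw [← LinearMap.mem_ker]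
    simp
  have hzero : (π.restrictScalars R) ∘ₗ ((LinearMap.ker π).subtype.restrictScalars R) = 0 :=
    hfg.linearMap_comp_eq_zero
  let E : ShortComplex (ModuleCat.{u} R) :=
    { X₁ := ModuleCat.of R (LinearMap.ker π)
      X₂ := ModuleCat.of R F
      X₃ := ModuleCat.of R N
      f := ModuleCat.ofHom ((LinearMap.ker π).subtype.restrictScalars R)
      g := ModuleCat.ofHom (π.restrictScalars R)
      zero := by
        rw [← ModuleCat.ofHom_comp, hzero]
        rfl }
  have hE : E.ShortExact := ModuleCat.shortComplex_shortExact E hfg hf hg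
  refine (isZero_iff_injective_rTensor E hE (ModuleCat.of R M) hF).2 ?_
  exact rTensor_inj_of_flat_quot' I M (K := LinearMap.ker π) (F := F)
    (LinearMap.ker π).subtype (LinearMap.ker π).injective_subtype

/-- Step A for `R/I`-modules. -/
lemma stepA' (I : Ideal R) (M : Type u) [AddCommGroup M] [Module R M]
    [Module.Flat (R ⧸ I) ((R ⧸ I) ⊗[R] M)]
    (h : Limits.IsZero (T 1 (ModuleCat.of R (R ⧸ I)) (ModuleCat.of R M)))
    (N : Type u) [AddCommGroup N] [Module R N] [Module (R ⧸ I) N] [IsScalarTower R (R ⧸ I) N] :
    Limits.IsZero (T 1 (ModuleCat.of R N) (ModuleCat.of R M)) := by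
  have hπ : Function.Surjective (Finsupp.linearCombination (R ⧸ I) (id : N → N)) :=
    fun x => ⟨Finsupp.single x 1, by simp⟩
  exact stepA_aux I M (N →₀ R ⧸ I) N _ hπ (tor_one_finsupp_quot I M h N)

/-- Step A: modules killed by `I`. -/
lemma stepA (I : Ideal R) (M : Type u) [AddCommGroup M] [Module R M]
    [Module.Flat (R ⧸ I) ((R ⧸ I) ⊗[R] M)]
    (h : Limits.IsZero (T 1 (ModuleCat.of R (R ⧸ I)) (ModuleCat.of R M)))
    (N : Type u) [AddCommGroup N] [Module R N] (hN : ∀ a : R, a ∈ I → ∀ x : N, a • x = 0) :
    Limits.IsZero (T 1 (ModuleCat.of R N) (ModuleCat.of R M)) := by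
  have htors : Module.IsTorsionBySet R N I := fun x a => hN a a.2 x
  let _ : Module (R ⧸ I) N := htors.module
  have : IsScalarTower R (R ⧸ I) N := htors.isScalarTower
  exact stepA' I M h N

end aux

/-- Let I be an ideal of a commutative ring R and M an R-module such that M/IM is flat over R/I and
Tor_1^R(R/I, M) = 0. Then Tor_1^R(N, M) = 0 for every R-module N annihilated by I^m for some m ≥ 0.
Here Tor_1^R(N, M) is the first left derived functor of N ⊗_R − evaluated at M. -/
theorem result (R : Type u) [CommRing R] (I : Ideal R) (M : Type u)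
    [AddCommGroup M] [Module R M] [Module.Flat (R ⧸ I) ((R ⧸ I) ⊗[R] M)]
    (h : Limits.IsZero (((CategoryTheory.Tor (ModuleCat.{u} R) 1).obj (ModuleCat.of R (R ⧸ I))).obj (ModuleCat.of R M)))
    (N : Type u) [AddCommGroup N] [Module R N] (m : ℕ) (hN : ∀ a : R, a ∈ I ^ m → ∀ x : N, a • x = 0) :
    Limits.IsZero (((CategoryTheory.Tor (ModuleCat.{u} R) 1).obj (ModuleCat.of R N)).obj (ModuleCat.of R M)) := by
  induction m generalizing N with
  | zero =>
    have hsub : Subsingleton N := ⟨fun x y => by
      have hx := hN 1 (by simp) x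
      have hy := hN 1 (by simp) y
      rw [one_smul] at hx hy
      rw [hx, hy]⟩
    have : Module.Flat R (ModuleCat.of R N) := inferInstanceAs (Module.Flat R N)
    exact isZero_of_flat_left (ModuleCat.of R N) (ModuleCat.of R M) 0
  | succ m ih =>
    have h1 : Limits.IsZero (T 1 (ModuleCat.of R (I • (⊤ : Submodule R N) : Submodule R N))
        (ModuleCat.of R M)) := by
      apply ih
      intro a ha x
      apply Subtype.ext
      rw [Submodule.coe_smul, Submodule.coe_zero]
      refine Submodule.smul_induction_on x.2 ?_ ?_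
      · intro b hb y _
        rw [← mul_smul]
        exact hN _ (by rw [pow_succ]; exact Ideal.mul_mem_mul ha hb) y
      · intro y z hy hz
        rw [smul_add, hy, hz, add_zero]
    have h3 : Limits.IsZero (T 1 (ModuleCat.of R (N ⧸ (I • (⊤ : Submodule R N) : Submodule R N)))
        (ModuleCat.of R M)) := by
      apply stepA I M h
      intro a ha x
      obtain ⟨y, rfl⟩ := Submodule.mkQ_surjective _ x
      rw [← map_smul, Submodule.mkQ_apply, Submodule.Quotient.mk_eq_zero]
      exact Submodule.smul_mem_smul ha Submodule.mem_top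
    exact isZero_mid₁ (quotSES (I • (⊤ : Submodule R N))) (quotSES_shortExact _)
      (ModuleCat.of R M) 1 h1 h3

end Groth.Agent.S12205
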