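import Groth.Statements.S0399
import Groth.Agent.S12205

set_option autoImplicit false
universe u
open FlatMor

namespace Groth.Agent.S0399

open TensorProduct CategoryTheory Groth.Agent.H21.TorLib

section aux

variable {A M : Type u} [CommRing A] [AddCommGroup M] [Module A M]

/-- `Tor_1(A/(f), M) = 0` when `f` is regular on `A` and `M`. -/
lemma tor_one_quot (f : A) (hA : f ∈ nonZeroDivisors A) (hM : IsSMulRegular M f) :
    Limits.IsZero (T 1 (ModuleCat.of A (A ⧸ Ideal.span {f})) (ModuleCat.of A M)) := by
  let φ : A →ₗ[A] A := f • LinearMap.id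
  have hφ : Function.Injective φ := by
    intro a b hab
    have : f * a = f * b := hab
    have h0 : f * (a - b) = 0 := by rw [mul_sub, this, sub_self]
    exact sub_eq_zero.mp ((mem_nonZeroDivisors_iff.mp hA).1 _ h0)
  have hrange : LinearMap.range φ = Ideal.span {f} := by
    ext x
    simp only [LinearMap.mem_range, Ideal.mem_span_singleton']
    constructor
    · rintro ⟨y, rfl⟩; exact ⟨y, by simp [φ, mul_comm]⟩
    · rintro ⟨y, rfl⟩; exact ⟨y, by simp [φ, mul_comm]⟩
  have hex : Function.Exact φ (Submodule.mkQ (Ideal.span {f})) := by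
    rw [LinearMap.exact_iff, Submodule.ker_mkQ, hrange]
  have hE := linSES_shortExact φ (Submodule.mkQ (Ideal.span {f})) hφ hex
    (Submodule.mkQ_surjective _)
  have hflat : Module.Flat A (ModuleCat.of A A) := inferInstanceAs (Module.Flat A A)
  refine (isZero_iff_injective_rTensor _ hE (ModuleCat.of A M)
    (isZero_of_flat_left (ModuleCat.of A A) _ 0)).2 ?_
  change Function.Injective (φ.rTensor M)
  have : φ.rTensor M = f • LinearMap.id := by
    simp only [φ, LinearMap.rTensor_smul, LinearMap.rTensor_id]
  rw [this]
  intro x y hxy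
  have hxy' : f • x = f • y := hxy
  have h2 := congrArg (TensorProduct.lid A M) hxy'
  rw [map_smul, map_smul] at h2
  exact (TensorProduct.lid A M).injective (hM h2)

/-- `f` acts injectively on `I ⊗ M`. -/
lemma smul_injective_tensor (f : A) (hA : f ∈ nonZeroDivisors A) (hM : IsSMulRegular M f)
    [Module.Flat (A ⧸ Ideal.span {f}) ((A ⧸ Ideal.span {f}) ⊗[A] M)] (I : Ideal A) :
    Function.Injective (fun z : I ⊗[A] M => f • z) := by
  let φ : I →ₗ[A] I := f • LinearMap.id
  have hφ : Function.Injective φ := by
    intro a b hab
    have h1 : f • a = f • b := hab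
    have h2 : f * (a : A) = f * (b : A) := congrArg Subtype.val h1
    have h0 : f * ((a : A) - b) = 0 := by rw [mul_sub, h2, sub_self]
    exact Subtype.ext (sub_eq_zero.mp ((mem_nonZeroDivisors_iff.mp hA).1 _ h0))
  have hex : Function.Exact φ (LinearMap.range φ).mkQ := LinearMap.exact_map_mkQ_range φ
  have hE := linSES_shortExact φ (LinearMap.range φ).mkQ hφ hex (Submodule.mkQ_surjective _)
  have hQ : ∀ a : A, a ∈ Ideal.span {f} → ∀ x : I ⧸ LinearMap.range φ, a • x = 0 := by
    intro a ha x
    obtain ⟨c, rfl⟩ := Ideal.mem_span_singleton'.mp ha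
    obtain ⟨y, rfl⟩ := Submodule.mkQ_surjective _ x
    rw [← map_smul, Submodule.mkQ_apply, Submodule.Quotient.mk_eq_zero]
    refine ⟨c • y, ?_⟩
    change f • (c • y) = (c * f) • y
    rw [smul_smul, mul_comm]
  have h3 := Groth.Agent.S12205.stepA (Ideal.span {f}) M (tor_one_quot f hA hM)
    (I ⧸ LinearMap.range φ) hQ
  have h4 := injective_rTensor_of_isZero _ hE (ModuleCat.of A M) h3
  have h5 : Function.Injective (φ.rTensor M) := h4
  have : φ.rTensor M = f • LinearMap.id := by
    simp only [φ, LinearMap.rTensor_smul, LinearMap.rTensor_id]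
  rw [this] at h5
  exact h5

end aux

open TensorProduct in
/-- For a ring A, a module M and an element f that is a nonzerodivisor on A and on M, if M_f is flat
over A_f and M/fM is flat over A/fA then M is flat over A (the source's companion statement for
faithful flatness is not stated). -/
theorem result {A M : Type u} [CommRing A] [AddCommGroup M] [Module A M] (f : A) (hA : f ∈ nonZeroDivisors A) (hM : IsSMulRegular M f)
    [Module.Flat (Localization.Away f) (LocalizedModule (Submonoid.powers f) M)]
    [Module.Flat (A ⧸ Ideal.span {f}) ((A ⧸ Ideal.span {f}) ⊗[A] M)] : Module.Flat A M := by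
  rw [Module.Flat.iff_lTensor_injective]
  intro I _
  rw [injective_iff_map_eq_zero]
  intro z hz
  have hflat : Module.Flat A (LocalizedModule (Submonoid.powers f) M) :=
    Module.Flat.trans A (Localization.Away f) (LocalizedModule (Submonoid.powers f) M)
  have hinj : Function.Injective
      (I.subtype.lTensor (LocalizedModule (Submonoid.powers f) M)) :=
    Module.Flat.lTensor_preserves_injective_linearMap _ Subtype.val_injective
  have hcomm : (I.subtype.lTensor (LocalizedModule (Submonoid.powers f) M))
      (((LocalizedModule.mkLinearMap (Submonoid.powers f) M).rTensor I) z) =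
      ((LocalizedModule.mkLinearMap (Submonoid.powers f) M).rTensor A)
        ((I.subtype.lTensor M) z) := by
    rw [← LinearMap.comp_apply, ← LinearMap.comp_apply, LinearMap.lTensor_comp_rTensor,
      LinearMap.rTensor_comp_lTensor]
  have h1 : ((LocalizedModule.mkLinearMap (Submonoid.powers f) M).rTensor I) z = 0 :=
    hinj (by rw [hcomm, hz, map_zero, map_zero])
  have h2 : (AlgebraTensorModule.rTensor A I
      (LocalizedModule.mkLinearMap (Submonoid.powers f) M)) z = 0 := h1
  obtain ⟨⟨s, k, rfl⟩, hs⟩ := (IsLocalizedModule.eq_zero_iff (Submonoid.powers f)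
    (AlgebraTensorModule.rTensor A I (LocalizedModule.mkLinearMap (Submonoid.powers f) M))).mp h2
  have hs' : f ^ k • z = 0 := hs
  -- `f` acts injectively on `M ⊗ I`
  have hb : Function.Injective (fun w : M ⊗[A] I => f • w) := by
    intro x y hxy
    have hxy' : f • x = f • y := hxy
    have h3 := congrArg (TensorProduct.comm A M I) hxy'
    rw [map_smul, map_smul] at h3
    exact (TensorProduct.comm A M I).injective (smul_injective_tensor f hA hM I h3)
  clear hs h2 h1 hcomm hz
  induction k with
  | zero => simpa using hs'
  | succ k ih =>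
    apply ih
    apply hb
    change f • (f ^ k • z) = f • 0
    rw [smul_zero, smul_smul, ← pow_succ']
    exact hs'

end Groth.Agent.S0399
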