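import Groth.Statements.S0400
import Mathlib
import Groth.Agent.Lib.helper24.NilFlat

set_option autoImplicit false
universe u
open FlatMor

namespace Groth.Agent.S0400

open TensorProduct in
open Groth.Agent.Lib.helper24 in

open TensorProduct in
/-- Fibrewise criterion of flatness, nilpotent form: let R → S be a ring map, I a nilpotent ideal of R,
and M an S-module that is flat over R and such that M/IM is flat over S/IS. Then M is flat over S.
The published statement also determines the primes of S at which S is flat over R; that part is not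
stated here. -/
theorem result {R S M : Type u} [CommRing R] [CommRing S] [Algebra R S] (I : Ideal R) (hI : IsNilpotent I)
    [AddCommGroup M] [Module S M] [Module R M] [IsScalarTower R S M] [Module.Flat R M]
    (h : Module.Flat (S ⧸ I.map (algebraMap R S)) ((S ⧸ I.map (algebraMap R S)) ⊗[S] M)) : Module.Flat S M := by
  set J : Ideal S := I.map (algebraMap R S) with hJ
  have hJnil : IsNilpotent J := by
    obtain ⟨n, hn⟩ := hI
    refine ⟨n, ?_⟩
    rw [hJ, ← Ideal.map_pow, hn]
    exact Ideal.map_bot
  refine NilFlat.flat_of_isNilpotent J M hJnil ?_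
  -- the comparison map σ : I ⊗[R] M → J ⊗[S] M
  let σ : ↥I ⊗[R] M →ₗ[R] ↥J ⊗[S] M :=
    TensorProduct.lift (LinearMap.mk₂ R
      (fun (i : ↥I) (m : M) => (⟨algebraMap R S i, Ideal.mem_map_of_mem _ i.2⟩ : ↥J) ⊗ₜ[S] m)
      (fun i i' m => by
        rw [← TensorProduct.add_tmul]
        congr 1
        exact Subtype.ext (by simp))
      (fun r i m => by
        rw [TensorProduct.smul_tmul']
        congr 1
        exact Subtype.ext (by simp [Algebra.smul_def]))
      (fun i m m' => TensorProduct.tmul_add _ _ _)
      (fun r i m => by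
        rw [TensorProduct.smul_tmul', ← algebraMap_smul S r m, ← TensorProduct.smul_tmul]
        congr 1
        exact Subtype.ext (by simp [Algebra.smul_def])))
  have hσ : ∀ (i : ↥I) (m : M), σ (i ⊗ₜ[R] m) =
      (⟨algebraMap R S i, Ideal.mem_map_of_mem _ i.2⟩ : ↥J) ⊗ₜ[S] m := fun i m => rfl
  have hσsurj : Function.Surjective σ := by
    intro x
    induction x using TensorProduct.induction_on with
    | zero => exact ⟨0, map_zero _⟩
    | add x y hx hy =>
      obtain ⟨x', rfl⟩ := hx
      obtain ⟨y', rfl⟩ := hy
      exact ⟨x' + y', map_add _ _ _⟩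
    | tmul j m =>
      obtain ⟨j, hj⟩ := j
      revert m
      refine Submodule.span_induction
        (p := fun (s : S) (hs : s ∈ J) => ∀ m : M, ∃ y, σ y = (⟨s, hs⟩ : ↥J) ⊗ₜ[S] m)
        ?_ ?_ ?_ ?_ hj
      · rintro _ ⟨i, hi, rfl⟩ m
        exact ⟨(⟨i, hi⟩ : ↥I) ⊗ₜ[R] m, rfl⟩
      · intro m
        refine ⟨0, ?_⟩
        rw [map_zero]
        have : (⟨0, J.zero_mem⟩ : ↥J) = 0 := rfl
        rw [this, TensorProduct.zero_tmul]
      · intro s t hs ht ihs iht m
        obtain ⟨y1, h1⟩ := ihs m
        obtain ⟨y2, h2⟩ := iht m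
        refine ⟨y1 + y2, ?_⟩
        rw [map_add, h1, h2, ← TensorProduct.add_tmul]
        rfl
      · intro a s hs ihs m
        obtain ⟨y, hy⟩ := ihs (a • m)
        refine ⟨y, ?_⟩
        rw [hy, ← TensorProduct.smul_tmul]
        rfl
  have hRflat : Function.Injective (I.subtype.rTensor M) :=
    Module.Flat.rTensor_preserves_injective_linearMap _ (Submodule.injective_subtype I)
  have hcomm : ∀ y : ↥I ⊗[R] M, TensorProduct.lid S M (J.subtype.rTensor M (σ y)) =
      TensorProduct.lid R M (I.subtype.rTensor M y) := by
    intro y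
    induction y using TensorProduct.induction_on with
    | zero => simp
    | add x y hx hy => simp only [map_add, hx, hy]
    | tmul i m =>
      rw [hσ]
      simp
  rw [injective_iff_map_eq_zero]
  intro x hx
  obtain ⟨y, rfl⟩ := hσsurj x
  have h1 := hcomm y
  rw [hx, map_zero] at h1
  have h2 : I.subtype.rTensor M y = 0 := (TensorProduct.lid R M).injective (by rw [← h1, map_zero])
  rw [hRflat (h2.trans (map_zero _).symm), map_zero]

end Groth.Agent.S0400
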