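import Groth.Statements.S0401
import Mathlib

set_option autoImplicit false
universe u
open FlatMor

namespace Groth.Agent.S0401

section Helpers

theorem main {R S : Type u} [CommRing R] [CommRing S] [Algebra R S]
    (q : Ideal S) [q.IsPrime] [Algebra.QuasiFiniteAt R q] :
    ringKrullDim (Localization.AtPrime q) ≤ ringKrullDim (Localization.AtPrime (q.under R)) := by
  rw [IsLocalization.AtPrime.ringKrullDim_eq_height q,
    IsLocalization.AtPrime.ringKrullDim_eq_height (q.under R), WithBot.coe_le_coe]
  have hq : q.height = Order.height (⟨q, inferInstance⟩ : PrimeSpectrum S) :=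
    PrimeSpectrum.height_eq_orderHeight ⟨q, inferInstance⟩
  have hp : (q.under R).height = Order.height (⟨q.under R, inferInstance⟩ : PrimeSpectrum R) :=
    PrimeSpectrum.height_eq_orderHeight ⟨q.under R, inferInstance⟩
  rw [hq, hp, Order.height_le_iff']
  intro s hs
  have hle : ∀ i, s i ≤ (⟨q, inferInstance⟩ : PrimeSpectrum S) := by
    intro i
    rw [← hs]
    exact LTSeries.monotone s (Fin.le_last i)
  let t : LTSeries (PrimeSpectrum R) :=
    { length := s.length
      toFun := fun i => PrimeSpectrum.comap (algebraMap R S) (s i)
      step := by
        intro i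
        have h1 : s i.castSucc < s i.succ := s.step i
        have h2 : (s i.castSucc).asIdeal ≤ (s i.succ).asIdeal := h1.le
        refine lt_of_le_of_ne (Ideal.comap_mono h2) ?_
        intro heq
        have h3 : (s i.castSucc).asIdeal.under R = (s i.succ).asIdeal.under R := heq
        have : Algebra.QuasiFiniteAt R (s i.succ).asIdeal :=
          Algebra.QuasiFiniteAt.of_le (hle i.succ)
        have h4 := Algebra.QuasiFiniteAt.eq_of_le_of_under_eq h2 h3
        exact h1.ne (PrimeSpectrum.ext h4) }
  have ht : t.last = ⟨q.under R, inferInstance⟩ := by
    change PrimeSpectrum.comap (algebraMap R S) s.last = _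
    rw [hs]
    rfl
  calc (s.length : ℕ∞) = t.length := rfl
    _ ≤ Order.height t.last := Order.length_le_height_last
    _ = _ := by rw [ht]

end Helpers


/-- For a finite type ring map R → S quasi-finite at a prime q lying over p, the dimension of S_q is at
most the dimension of R_p. -/
theorem result {R S : Type u} [CommRing R] [CommRing S] [Algebra R S] [Algebra.FiniteType R S] (q : Ideal S) [q.IsPrime] [Algebra.QuasiFiniteAt R q] :
    ringKrullDim (Localization.AtPrime q) ≤ ringKrullDim (Localization.AtPrime (q.under R)) := by
  exact main q

end Groth.Agent.S0401
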