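import Groth.Statements.S0411
import Mathlib

set_option autoImplicit false
universe u
open FlatMor

namespace Groth.Agent.S0411

section Helpers

open CategoryTheory CategoryTheory.Limits AlgebraicGeometry

/-- Prime avoidance: a finite set of points in an open of `Spec A` lies in a basic open
contained in that open. -/
theorem exists_basicOpen_of_finite {A : Type u} [CommRing A] (U : TopologicalSpace.Opens (PrimeSpectrum A))
    (T : Finset (PrimeSpectrum A)) (hT : ∀ p ∈ T, p ∈ U) :
    ∃ a : A, (∀ p ∈ T, p ∈ PrimeSpectrum.basicOpen a) ∧ PrimeSpectrum.basicOpen a ≤ U := by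
  classical
  rcases T.eq_empty_or_nonempty with rfl | ⟨p₀, hp₀⟩
  · exact ⟨0, by simp, by simp⟩
  set I : Ideal A := PrimeSpectrum.vanishingIdeal (U : Set (PrimeSpectrum A))ᶜ with hI
  have hUc : PrimeSpectrum.zeroLocus (I : Set A) = (U : Set (PrimeSpectrum A))ᶜ := by
    rw [hI, PrimeSpectrum.zeroLocus_vanishingIdeal_eq_closure]
    exact U.isOpen.isClosed_compl.closure_eq
  have hnot : ¬ ((I : Set A) ⊆ ⋃ p ∈ (↑T : Set (PrimeSpectrum A)), (p.asIdeal : Set A)) := by
    intro hsub
    have := (Ideal.subset_union_prime (s := T) (f := fun p : PrimeSpectrum A => p.asIdeal)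
      p₀ p₀ (fun p _ _ _ => p.isPrime) (I := I)).mp hsub
    obtain ⟨p, hpT, hIp⟩ := this
    have : p ∈ PrimeSpectrum.zeroLocus (I : Set A) := hIp
    rw [hUc] at this
    exact this (hT p hpT)
  rw [Set.not_subset] at hnot
  obtain ⟨a, haI, haT⟩ := hnot
  refine ⟨a, ?_, ?_⟩
  · intro p hp
    rw [PrimeSpectrum.mem_basicOpen]
    intro hap
    exact haT (Set.mem_biUnion (x := p) hp hap)
  · intro p hp
    by_contra hpU
    have : p ∈ PrimeSpectrum.zeroLocus (I : Set A) := by rw [hUc]; exact hpU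
    exact hp (this haI)

theorem exists_affine_basicOpen_of_finite (W : Scheme.{u}) [W.IsQuasiAffine] (T : Finset W) :
    ∃ r : Γ(W, ⊤), IsAffineOpen (W.basicOpen r) ∧ ∀ x ∈ T, x ∈ W.basicOpen r := by
  classical
  obtain ⟨a, haT, haU⟩ := exists_basicOpen_of_finite (A := Γ(W, ⊤)) W.toSpecΓ.opensRange
    (T.image (fun x => W.toSpecΓ x)) (by
      intro p hp
      obtain ⟨x, -, rfl⟩ := Finset.mem_image.mp hp
      exact ⟨x, rfl⟩)
  refine ⟨a, ?_, ?_⟩
  · rw [← Scheme.toSpecΓ_preimage_basicOpen]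
    rw [← Scheme.Hom.isAffineOpen_iff_of_isOpenImmersion W.toSpecΓ]
    convert! IsAffineOpen.Spec_basicOpen a
    exact SetLike.coe_injective (Set.image_preimage_eq_of_subset haU)
  · intro x hx
    rw [← Scheme.toSpecΓ_preimage_basicOpen]
    exact haT _ (Finset.mem_image_of_mem _ hx)

theorem main {X Y : Scheme.{u}} (f : X ⟶ Y) [IsAffine Y] [IsSeparated f] [LocallyQuasiFinite f]
    [LocallyOfFiniteType f] (T : Finset ↑X) : ∃ U : X.Opens, IsAffineOpen U ∧ ∀ x ∈ T, x ∈ U := by
  classical
  let W : X.Opens := ⨆ x : {x // x ∈ T}, (X.affineCover.f (X.affineCover.idx x.1)).opensRange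
  have hWc : IsCompact (W : Set X) := by
    rw [TopologicalSpace.Opens.coe_iSup]
    exact isCompact_iUnion fun x => (isAffineOpen_opensRange _).isCompact
  have hTW : ∀ x ∈ T, x ∈ W := fun x hx =>
    TopologicalSpace.Opens.mem_iSup.mpr ⟨⟨x, hx⟩, X.affineCover.covers x⟩
  haveI : CompactSpace W := isCompact_iff_compactSpace.mp hWc
  let g : W.toScheme ⟶ Y := W.ι ≫ f
  haveI : QuasiCompact g := (HasAffineProperty.iff_of_isAffine (P := @QuasiCompact)).mpr (inferInstanceAs (CompactSpace W))
  haveI : IsAffine g.normalization := isAffine_of_isAffineHom g.fromNormalization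
  haveI : W.toScheme.IsQuasiAffine := Scheme.IsQuasiAffine.of_isImmersion g.toNormalization
  let T' : Finset W.toScheme := T.attach.image (fun x => ⟨x.1, hTW x.1 x.2⟩)
  obtain ⟨r, hr, hrT⟩ := exists_affine_basicOpen_of_finite W.toScheme T'
  refine ⟨W.ι ''ᵁ (W.toScheme.basicOpen r), hr.image_of_isOpenImmersion W.ι, ?_⟩
  intro x hx
  refine ⟨⟨x, hTW x hx⟩, hrT _ ?_, rfl⟩
  exact Finset.mem_image.mpr ⟨⟨x, hx⟩, Finset.mem_attach _ _, rfl⟩

end Helpers

open AlgebraicGeometry CategoryTheory Limits in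
/-- For a separated, locally quasi-finite morphism (locally of finite type with discrete fibres) to an
affine scheme, every finite set of points of the source lies in an affine open. -/
theorem result {X Y : Scheme.{u}} (f : X ⟶ Y) [IsAffine Y] [IsSeparated f] [LocallyQuasiFinite f] [LocallyOfFiniteType f] (T : Finset ↑X) :
    ∃ U : X.Opens, IsAffineOpen U ∧ ∀ x ∈ T, x ∈ U := by
  exact main f T

end Groth.Agent.S0411
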