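import Groth.Statements.S0416
import Groth.Agent.S0415

set_option autoImplicit false
universe u
open FlatMor

namespace Groth.Agent.S0416

open AlgebraicGeometry CategoryTheory Limits in
/-- universally injective cancels on the right -/
theorem universallyInjective_of_comp {X Y Z : Scheme.{u}} (g : X ⟶ Y) (h : Y ⟶ Z)
    [UniversallyInjective (g ≫ h)] : UniversallyInjective g := by
  have h0 : UniversallyInjective (g ≫ h) := inferInstance
  have h1 : ∀ (K : Type u) [Field K],
      Function.Injective (fun a : Spec (.of K) ⟶ X ↦ a ≫ (g ≫ h)) :=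
    ((tfae_universallyInjective (g ≫ h)).out 0 1).mp h0
  have h2 : ∀ (K : Type u) [Field K],
      Function.Injective (fun a : Spec (.of K) ⟶ X ↦ a ≫ g) := by
    intro K _ a b hab
    apply h1 K
    simp only [← Category.assoc]
    exact congrArg (· ≫ h) hab
  exact ((tfae_universallyInjective g).out 0 1).mpr h2

open AlgebraicGeometry CategoryTheory Limits in
/-- When a composite of two morphisms is a universal homeomorphism and so is either factor, the
remaining factor is a universal homeomorphism as well. -/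
theorem result {X Y Z : Scheme.{u}} (g : X ⟶ Y) (h : Y ⟶ Z) :
    (FlatMor.IsUnivHomeo (g ≫ h) → FlatMor.IsUnivHomeo g → FlatMor.IsUnivHomeo h) ∧
    (FlatMor.IsUnivHomeo (g ≫ h) → FlatMor.IsUnivHomeo h → FlatMor.IsUnivHomeo g) := by
  constructor
  · intro hgh hg Y' Z' i₁ i₂ h' H
    have H1 : IsPullback (pullback.fst i₁ g) (pullback.snd i₁ g) i₁ g := .of_hasPullback i₁ g
    have H2 := H1.paste_horiz H
    have e1 : IsHomeomorph (pullback.fst i₁ g) := hg _ _ _ H1
    have e2 : IsHomeomorph (pullback.fst i₁ g ≫ h') := hgh _ _ _ H2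
    obtain ⟨φ1, hφ1⟩ := isHomeomorph_iff_exists_homeomorph.mp e1
    obtain ⟨φ2, hφ2⟩ := isHomeomorph_iff_exists_homeomorph.mp e2
    have : (h' : Y' → Z') = (φ1.symm.trans φ2) := by
      funext y
      obtain ⟨x, rfl⟩ := φ1.surjective y
      simp only [Homeomorph.trans_apply, Homeomorph.symm_apply_apply]
      rw [hφ1, hφ2]
      simp
    show IsHomeomorph (h' : Y' → Z')
    rw [this]
    exact (φ1.symm.trans φ2).isHomeomorph
  · intro hgh hh
    rw [Groth.Agent.S0415.result] at hgh hh ⊢
    obtain ⟨h1, h2, h3⟩ := hgh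
    obtain ⟨k1, k2, k3⟩ := hh
    have : IsSeparated h := inferInstance
    refine ⟨IsIntegralHom.of_comp g h, universallyInjective_of_comp g h, ⟨fun y => ?_⟩⟩
    obtain ⟨x, hx⟩ := (g ≫ h).surjective (h y)
    refine ⟨x, h.injective ?_⟩
    simpa using hx

end Groth.Agent.S0416
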