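import Groth.Statements.S0417
import Mathlib
import Groth.Agent.Lib.helper22.ThickCI

set_option autoImplicit false
universe u
open FlatMor

namespace Groth.Agent.S0417

section Helpers

open AlgebraicGeometry CategoryTheory Limits MorphismProperty

theorem main {X S S' : Scheme.{u}} (f : X ⟶ S) (i : S' ⟶ S) [IsClosedImmersion i]
    (hi : Function.Bijective i) [LocallyOfFiniteType f] [QuasiCompact f]
    [IsClosedImmersion (pullback.snd f i)] : IsClosedImmersion f := by
  haveI : Surjective i := ⟨hi.2⟩
  exact Groth.Agent.H22.ThickCI.isClosedImmersion_of_isPullback _ _ f i
    (IsPullback.of_hasPullback f i)

end Helpers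

open AlgebraicGeometry CategoryTheory Limits in
/-- Let i : S' → S be a closed immersion that is bijective on points and f : X → S a morphism of finite
type (locally of finite type and quasi-compact) whose base change X ×_S S' → S' is a closed
immersion. Then f is a closed immersion. The published statement alternatively allows S' → S of
finite presentation in place of the finite-type hypothesis on f; only the first alternative is
stated. -/
theorem result {X S S' : Scheme.{u}} (f : X ⟶ S) (i : S' ⟶ S) [IsClosedImmersion i] (hi : Function.Bijective i)
    [LocallyOfFiniteType f] [QuasiCompact f] [IsClosedImmersion (pullback.snd f i)] : IsClosedImmersion f := by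
  exact main f i hi

end Groth.Agent.S0417
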