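import Groth.Statements.S0421
import Mathlib
import Groth.Agent.Lib.helper7.DVRFib

set_option autoImplicit false
universe u
open FlatMor

namespace Groth.Agent.S0421


open AlgebraicGeometry CategoryTheory Limits TopologicalSpace

open AlgebraicGeometry CategoryTheory Limits in
theorem basicOpen_uniformizer {R : Type u} [CommRing R] [IsDomain R] [IsDiscreteValuationRing R]
    (ϖ : R) (hϖ : Irreducible ϖ) :
    (PrimeSpectrum.basicOpen ϖ : Set (PrimeSpectrum R)) = {⟨⊥, Ideal.isPrime_bot⟩} := by
  ext p
  simp only [SetLike.mem_coe, PrimeSpectrum.mem_basicOpen, Set.mem_singleton_iff]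
  constructor
  · intro hp
    by_contra hne
    have hpne : p.asIdeal ≠ ⊥ := fun h => hne (PrimeSpectrum.ext h)
    have hmax : p.asIdeal.IsMaximal := p.2.isMaximal hpne
    have : p.asIdeal = IsLocalRing.maximalIdeal R := IsLocalRing.eq_maximalIdeal hmax
    apply hp
    rw [this, hϖ.maximalIdeal_eq]
    exact Ideal.mem_span_singleton_self ϖ
  · rintro rfl h
    exact hϖ.ne_zero (by simpa using h)

open AlgebraicGeometry CategoryTheory Limits in
theorem mem_nonZeroDivisors_of_flat {R B : Type*} [CommRing R] [CommRing B] [Algebra R B]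
    [Module.Flat R B] (r : R) (hr : r ∈ nonZeroDivisors R) :
    algebraMap R B r ∈ nonZeroDivisors B := by
  rw [mem_nonZeroDivisors_iff_left]
  intro z hz
  have hreg := Module.Flat.isSMulRegular_of_nonZeroDivisors (M := B) hr
  apply hreg
  show r • z = r • 0
  rw [smul_zero, Algebra.smul_def]
  exact hz


open AlgebraicGeometry CategoryTheory Limits in
/-- For a flat morphism from a connected scheme to the spectrum of a discrete valuation ring with
reduced closed fibre, the generic fibre is connected. -/
theorem result {R : Type u} [CommRing R] [IsDomain R] [IsDiscreteValuationRing R] {X : Scheme.{u}}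
    (f : X ⟶ Spec (CommRingCat.of R)) [Flat f] [ConnectedSpace ↑X]
    (hred : IsReduced (f.fiber (IsLocalRing.closedPoint R))) :
    ConnectedSpace ↑(f.fiber (⟨⊥, Ideal.isPrime_bot⟩ : PrimeSpectrum R)) := by
  obtain ⟨ϖ, hϖ⟩ := IsDiscreteValuationRing.exists_irreducible R
  set η : PrimeSpectrum R := ⟨⊥, Ideal.isPrime_bot⟩ with hη
  haveI := hred
  set G : Set X := f ⁻¹' {η} with hG
  have hbo : ({η} : Set ↥(Spec (CommRingCat.of R))) =
      (PrimeSpectrum.basicOpen ϖ : Set (PrimeSpectrum R)) := (basicOpen_uniformizer ϖ hϖ).symm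
  have hGopen : IsOpen G := by
    rw [hG, hbo]
    exact (PrimeSpectrum.basicOpen ϖ).2.preimage f.continuous
  have hgen : ∀ x : X, ∃ x' ∈ G, x' ⤳ x := by
    intro x
    have h1 : η ⤳ f x := (PrimeSpectrum.le_iff_specializes η (f x)).1 bot_le
    obtain ⟨x', hx', hfx'⟩ := (Flat.generalizingMap f) h1
    exact ⟨x', hfx', hx'⟩
  have hdense : closure G = Set.univ := by
    ext x
    simp only [Set.mem_univ, iff_true]
    obtain ⟨x', hx', hsp⟩ := hgen x
    exact closure_mono (Set.singleton_subset_iff.2 hx') hsp.mem_closure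
  suffices _root_.IsConnected G by
    haveI : ConnectedSpace G := isConnected_iff_connectedSpace.1 this
    exact (f.fiberHomeo η).symm.surjective.connectedSpace (f.fiberHomeo η).symm.continuous
  refine ⟨?_, ?_⟩
  · obtain ⟨x⟩ := (inferInstance : Nonempty X)
    obtain ⟨x', hx', -⟩ := hgen x
    exact ⟨x', hx'⟩
  · rw [isPreconnected_iff_subset_of_disjoint]
    intro u v hu hv huv hdisj
    have key : Disjoint (closure (G ∩ u)) (closure (G ∩ v)) := by
      rw [Set.disjoint_left]
      intro x hx1 hx2
      obtain ⟨_, ⟨W, hW, rfl⟩, hxW, -⟩ :=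
        X.isBasis_affineOpens.exists_subset_of_mem_open (Set.mem_univ x) isOpen_univ
      set j := hW.fromSpec with hj
      obtain ⟨ψ, hψ⟩ := Spec.map_surjective (j ≫ f)
      algebraize [ψ.hom]
      haveI hflat : Module.Flat R Γ(X, W) := by
        have h1 : Flat (Spec.map ψ) := by rw [hψ]; infer_instance
        rw [HasRingHomProperty.Spec_iff (P := @Flat)] at h1
        exact h1
      set t := algebraMap R Γ(X, W) ϖ with ht
      have htnzd : t ∈ nonZeroDivisors Γ(X, W) :=
        mem_nonZeroDivisors_of_flat ϖ (mem_nonZeroDivisors_of_ne_zero hϖ.ne_zero)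
      have hrad : (Ideal.span {t}).IsRadical := by
        have h2 := Groth.Agent.Lib.helper7.DVRFib.isRadical_map_maximalIdeal f Γ(X, W) j hψ.symm
        rwa [hϖ.maximalIdeal_eq, Ideal.map_span, Set.image_singleton] at h2
      have hpreG : j ⁻¹' G = (PrimeSpectrum.basicOpen t : Set (PrimeSpectrum Γ(X, W))) := by
        have h3 : j ⁻¹' G = (Spec.map ψ) ⁻¹' {η} := by
          rw [hψ, hG]; rfl
        rw [h3, hbo]
        exact congrArg (fun U : Opens (PrimeSpectrum Γ(X, W)) => (U : Set (PrimeSpectrum Γ(X, W))))
          (PrimeSpectrum.comap_basicOpen ψ.hom ϖ)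
      have hd := Groth.Agent.Lib.helper7.DVRFib.disjoint_closure_of_basicOpen_eq_union t htnzd hrad
        (j ⁻¹' (G ∩ u)) (j ⁻¹' (G ∩ v))
        ((hGopen.inter hu).preimage j.continuous)
        ((hGopen.inter hv).preimage j.continuous)
        (by
          rw [Set.disjoint_left]
          rintro p ⟨hp1, hp2⟩ ⟨-, hp3⟩
          have : j p ∈ G ∩ (u ∩ v) := ⟨hp1, hp2, hp3⟩
          rw [hdisj] at this
          exact this)
        (by
          rw [← Set.preimage_union, ← Set.inter_union_distrib_left, Set.inter_eq_left.2 huv]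
          exact hpreG)
      have hxr : x ∈ Set.range j := by rw [hj, hW.range_fromSpec]; exact hxW
      obtain ⟨x', hx'⟩ := hxr
      have hc1 : x' ∈ closure (j ⁻¹' (G ∩ u)) := by
        rw [← j.isOpenEmbedding.isOpenMap.preimage_closure_eq_closure_preimage j.continuous]
        show j x' ∈ closure (G ∩ u)
        rw [hx']; exact hx1
      have hc2 : x' ∈ closure (j ⁻¹' (G ∩ v)) := by
        rw [← j.isOpenEmbedding.isOpenMap.preimage_closure_eq_closure_preimage j.continuous]
        show j x' ∈ closure (G ∩ v)
        rw [hx']; exact hx2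
      exact Set.disjoint_left.1 hd hc1 hc2
    have hcover : closure (G ∩ u) ∪ closure (G ∩ v) = Set.univ := by
      rw [← closure_union, ← Set.inter_union_distrib_left, Set.inter_eq_left.2 huv, hdense]
    have hX : _root_.IsPreconnected (Set.univ : Set X) := isPreconnected_univ
    rw [isPreconnected_iff_subset_of_disjoint_closed] at hX
    rcases hX _ _ isClosed_closure isClosed_closure hcover.ge
      (by rw [key.inter_eq]; simp) with h | h
    · left
      intro x hx
      rcases huv hx with hxu | hxv
      · exact hxu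
      · exfalso
        have h2 : x ∈ closure (G ∩ v) := subset_closure ⟨hx, hxv⟩
        exact Set.disjoint_left.1 key (h (Set.mem_univ x)) h2
    · right
      intro x hx
      rcases huv hx with hxu | hxv
      · exfalso
        have h2 : x ∈ closure (G ∩ u) := subset_closure ⟨hx, hxu⟩
        exact Set.disjoint_left.1 key h2 (h (Set.mem_univ x))
      · exact hxv

end Groth.Agent.S0421
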