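import Groth.Statements.S0423
import Mathlib.AlgebraicGeometry.Morphisms.WeaklyEtale
import Mathlib.AlgebraicGeometry.Morphisms.FormallyUnramified
import Mathlib.RingTheory.Ideal.Pure

set_option autoImplicit false
universe u
open FlatMor

namespace Groth.Agent.S0423

open TensorProduct in
/-- If the multiplication map `S ⊗[R] S → S` is flat, then `S` is formally unramified over `R`. -/
theorem formallyUnramified_of_flat_lmul' {R S : Type u} [CommRing R] [CommRing S] [Algebra R S]
    (h : (Algebra.TensorProduct.lmul' R (S := S)).toRingHom.Flat) :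
    Algebra.FormallyUnramified R S := by
  let _ : Algebra (S ⊗[R] S) S := (Algebra.TensorProduct.lmul' R (S := S)).toRingHom.toAlgebra
  have hflat : Module.Flat (S ⊗[R] S) S := h
  have hsurj : Function.Surjective (Algebra.ofId (S ⊗[R] S) S) := fun x ↦ ⟨x ⊗ₜ 1, by
    change (Algebra.TensorProduct.lmul' R (S := S)) (x ⊗ₜ 1) = x
    simp⟩
  let e := Ideal.quotientKerAlgEquivOfSurjective hsurj
  have h1 : Module.Flat (S ⊗[R] S) ((S ⊗[R] S) ⧸ RingHom.ker (Algebra.ofId (S ⊗[R] S) S)) :=
    Module.Flat.of_linearEquiv e.toLinearEquiv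
  have hI : RingHom.ker (Algebra.ofId (S ⊗[R] S) S) = KaehlerDifferential.ideal R S := rfl
  rw [hI] at h1
  have hidem : IsIdempotentElem (KaehlerDifferential.ideal R S) :=
    @Ideal.isIdempotentElem_of_pure _ _ (KaehlerDifferential.ideal R S) h1
  exact ⟨(Ideal.cotangent_subsingleton_iff _).mpr hidem⟩

open AlgebraicGeometry CategoryTheory Limits in
/-- A weakly étale morphism of schemes (flat with flat diagonal) is formally unramified. -/
theorem result {X Y : Scheme.{u}} (f : X ⟶ Y) [WeaklyEtale f] : FormallyUnramified f := by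
  wlog hY : ∃ R, Y = Spec R
  · rw [IsZariskiLocalAtTarget.iff_of_openCover (P := @FormallyUnramified) Y.affineCover]
    intro i
    exact this (pullback.snd f (Y.affineCover.f i)) ⟨_, rfl⟩
  obtain ⟨R, rfl⟩ := hY
  wlog hX : ∃ S, X = Spec S generalizing X
  · rw [IsZariskiLocalAtSource.iff_of_openCover (P := @FormallyUnramified) X.affineCover]
    intro i
    exact this (X.affineCover.f i ≫ f) ⟨_, rfl⟩
  obtain ⟨S, rfl⟩ := hX
  obtain ⟨φ, rfl : Spec.map φ = f⟩ := Spec.homEquiv.symm.surjective f
  rw [HasRingHomProperty.Spec_iff (P := @FormallyUnramified)]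
  algebraize [φ.hom]
  have hd : Flat (pullback.diagonal (Spec.map (CommRingCat.ofHom (algebraMap R S)))) :=
    WeaklyEtale.flat_diagonal (f := Spec.map φ)
  have : Flat (Spec.map (CommRingCat.ofHom
      (Algebra.TensorProduct.lmul' R (S := S)).toRingHom)) := by
    rwa [← MorphismProperty.cancel_right_of_respectsIso (P := @Flat) _
      (pullbackSpecIso R S S).inv, ← AlgebraicGeometry.diagonal_SpecMap R S]
  rw [HasRingHomProperty.Spec_iff (P := @Flat)] at this
  exact formallyUnramified_of_flat_lmul' this

end Groth.Agent.S0423
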