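import Groth.Statements.S9383
import Mathlib
import Groth.Agent.Lib.helper4.GlueOpens

set_option autoImplicit false
universe u
open QCohSub

namespace Groth.Agent.S9383

section Helpers

open AlgebraicGeometry CategoryTheory Limits TopologicalSpace Scheme

variable {S : Scheme.{u}}

lemma appLE_surj (K : S.IdealSheafData) (U : S.affineOpens) (V : K.subscheme.Opens)
    (hV : V = K.subschemeι ⁻¹ᵁ U.1) :
    Function.Surjective (K.subschemeι.appLE U.1 V hV.le) := by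
  subst hV
  rw [← Scheme.Hom.app_eq_appLE]
  exact K.subschemeι_app_surjective U

lemma appLE_ker (K : S.IdealSheafData) (U : S.affineOpens) (V : K.subscheme.Opens)
    (hV : V = K.subschemeι ⁻¹ᵁ U.1) (r : Γ(S, U.1)) :
    K.subschemeι.appLE U.1 V hV.le r = 0 ↔ r ∈ K.ideal U := by
  subst hV
  rw [← Scheme.Hom.app_eq_appLE, ← K.ker_subschemeι_app U, RingHom.mem_ker]

lemma appLE_congr' {X Y : Scheme.{u}} {f g : X ⟶ Y} (h : f = g) (U : Y.Opens) (V : X.Opens)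
    (e : V ≤ f ⁻¹ᵁ U) : f.appLE U V e = g.appLE U V (h ▸ e) := by subst h; rfl

lemma incl_appLE {K K' : S.IdealSheafData} (h : K ≤ K') (U : S.Opens) (V : K.subscheme.Opens)
    (V' : K'.subscheme.Opens) (e1 : V ≤ K.subschemeι ⁻¹ᵁ U)
    (e2 : V' ≤ (IdealSheafData.inclusion h) ⁻¹ᵁ V) (e3 : V' ≤ K'.subschemeι ⁻¹ᵁ U) :
    K.subschemeι.appLE U V e1 ≫ (IdealSheafData.inclusion h).appLE V V' e2 =
      K'.subschemeι.appLE U V' e3 := by
  rw [Scheme.Hom.appLE_comp_appLE]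
  exact appLE_congr' (IdealSheafData.inclusion_subschemeι h) _ _ _

lemma preimage_incl {K K' : S.IdealSheafData} (h : K ≤ K') (U : S.Opens) :
    (IdealSheafData.inclusion h) ⁻¹ᵁ (K.subschemeι ⁻¹ᵁ U) = K'.subschemeι ⁻¹ᵁ U := by
  rw [← IdealSheafData.inclusion_subschemeι h]; rfl

/-- every open of a subscheme is locally of the form `ι⁻¹ U` with `U` affine. -/
lemma exists_affine_nhds (K : S.IdealSheafData) (V : K.subscheme.Opens) (w : K.subscheme)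
    (hw : w ∈ V) : ∃ U : S.affineOpens, w ∈ K.subschemeι ⁻¹ᵁ U.1 ∧ K.subschemeι ⁻¹ᵁ U.1 ≤ V := by
  obtain ⟨U', hU', hU'V⟩ := K.subschemeι.isEmbedding.isInducing.isOpen_iff.mp V.2
  have hwU' : K.subschemeι w ∈ (⟨U', hU'⟩ : S.Opens) := by
    change w ∈ K.subschemeι ⁻¹' U'
    rw [hU'V]; exact hw
  obtain ⟨_, ⟨U, hU, rfl⟩, hxU, hUU'⟩ :=
    (isBasis_affineOpens S).exists_subset_of_mem_open hwU' hU'
  refine ⟨⟨U, hU⟩, hxU, ?_⟩
  intro x hx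
  have : x ∈ K.subschemeι ⁻¹' U' := hUU' hx
  rw [hU'V] at this
  exact this

/-- joint injectivity on sections. -/
lemma ji (I J : S.IdealSheafData) (V : (I ⊓ J).subscheme.Opens)
    (s : Γ((I ⊓ J).subscheme, V))
    (h1 : (IdealSheafData.inclusion (inf_le_left : I ⊓ J ≤ I)).app V s = 0)
    (h2 : (IdealSheafData.inclusion (inf_le_right : I ⊓ J ≤ J)).app V s = 0) : s = 0 := by
  choose U hU1 hU2 using fun w : V => exists_affine_nhds (I ⊓ J) V w.1 w.2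
  refine (I ⊓ J).subscheme.sheaf.eq_of_locally_eq' (fun w : V => (I ⊓ J).subschemeι ⁻¹ᵁ (U w).1) V
    (fun w => homOfLE (hU2 w)) (fun x hx => Opens.mem_iSup.mpr ⟨⟨x, hx⟩, hU1 ⟨x, hx⟩⟩) s 0 ?_
  intro w
  rw [map_zero]
  set O := (I ⊓ J).subschemeι ⁻¹ᵁ (U w).1 with hO
  set s' := (I ⊓ J).subscheme.presheaf.map (homOfLE (hU2 w)).op s with hs'
  change s' = 0
  obtain ⟨r, hr⟩ := appLE_surj (I ⊓ J) (U w) O rfl s'
  have key : ∀ (K : S.IdealSheafData) (h : I ⊓ J ≤ K),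
      (IdealSheafData.inclusion h).app V s = 0 → r ∈ K.ideal (U w) := by
    intro K h h0
    rw [← appLE_ker K (U w) ((IdealSheafData.inclusion h) ⁻¹ᵁ O) (preimage_incl h _)]
    rw [← incl_appLE h (U w).1 O _ le_rfl le_rfl]
    rw [CommRingCat.comp_apply, hr, hs', ← Scheme.Hom.app_eq_appLE]
    rw [← CommRingCat.comp_apply, Scheme.Hom.naturality, CommRingCat.comp_apply, h0, map_zero]
  have hrI := key I inf_le_left h1
  have hrJ := key J inf_le_right h2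
  rw [← hr, appLE_ker (I ⊓ J) (U w) O rfl]
  exact ⟨hrI, hrJ⟩


lemma ι_incl {K K' : S.IdealSheafData} (h : K ≤ K') (z : K'.subscheme) :
    K.subschemeι (IdealSheafData.inclusion h z) = K'.subschemeι z := by
  rw [← IdealSheafData.inclusion_subschemeι h]; rfl

lemma incl_eq_iff {K K' : S.IdealSheafData} (h : K ≤ K') (z : K'.subscheme) (x : K.subscheme) :
    IdealSheafData.inclusion h z = x ↔ K'.subschemeι z = K.subschemeι x := by
  rw [← ι_incl h]; exact K.subschemeι.isEmbedding.injective.eq_iff.symm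

lemma exists_incl_eq {K K' : S.IdealSheafData} (h : K ≤ K') (x : K.subscheme)
    (hx : K.subschemeι x ∈ K'.support) : ∃ z, IdealSheafData.inclusion h z = x := by
  rw [← SetLike.mem_coe, ← IdealSheafData.range_subschemeι] at hx
  obtain ⟨z, hz⟩ := hx
  exact ⟨z, (incl_eq_iff h z x).mpr hz⟩

lemma jsurj (I J : S.IdealSheafData) (w : (I ⊓ J).subscheme) :
    (∃ x, IdealSheafData.inclusion (inf_le_left : I ⊓ J ≤ I) x = w) ∨
      (∃ y, IdealSheafData.inclusion (inf_le_right : I ⊓ J ≤ J) y = w) := by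
  have hw : (I ⊓ J).subschemeι w ∈ (I ⊓ J).support := by
    rw [← SetLike.mem_coe, ← IdealSheafData.range_subschemeι]; exact ⟨w, rfl⟩
  have hle : (I ⊓ J).support ≤ I.support ⊔ J.support := by
    rw [← IdealSheafData.support_mul]
    refine IdealSheafData.support_antitone (le_inf ?_ ?_)
    · exact fun U => (Ideal.mul_le_left : I.ideal U * J.ideal U ≤ I.ideal U)
    · exact fun U => (Ideal.mul_le_right : I.ideal U * J.ideal U ≤ J.ideal U)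
  rcases hle hw with h | h
  · exact Or.inl (exists_incl_eq _ w h)
  · exact Or.inr (exists_incl_eq _ w h)

lemma agree (I J : S.IdealSheafData) (x : I.subscheme) (y : J.subscheme)
    (hxy : IdealSheafData.inclusion (inf_le_left : I ⊓ J ≤ I) x =
      IdealSheafData.inclusion (inf_le_right : I ⊓ J ≤ J) y) :
    ∃ z, IdealSheafData.inclusion (le_sup_left : I ≤ I ⊔ J) z = x ∧
      IdealSheafData.inclusion (le_sup_right : J ≤ I ⊔ J) z = y := by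
  have h1 : I.subschemeι x = J.subschemeι y := by
    rw [← ι_incl (inf_le_left : I ⊓ J ≤ I), ← ι_incl (inf_le_right : I ⊓ J ≤ J), hxy]
  have hx : I.subschemeι x ∈ (I ⊔ J).support := by
    rw [IdealSheafData.support_sup]
    refine ⟨?_, ?_⟩
    · rw [← IdealSheafData.range_subschemeι]; exact ⟨x, rfl⟩
    · rw [h1, ← IdealSheafData.range_subschemeι]; exact ⟨y, rfl⟩
  obtain ⟨z, hz⟩ := exists_incl_eq (le_sup_left : I ≤ I ⊔ J) x hx
  refine ⟨z, hz, ?_⟩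
  rw [incl_eq_iff, ← h1, ← hz, ι_incl]

lemma map_eqToHom_eq_zero {X : Scheme.{u}} {U V : X.Opens} (e : U = V) (s : Γ(X, V))
    (h : X.presheaf.map (eqToHom e).op s = 0) : s = 0 := by
  subst e; simpa using h

lemma epi2 {X₁ X₂ Y T : Scheme.{u}} (f₁ : X₁ ⟶ Y) (f₂ : X₂ ⟶ Y)
    (hs : ∀ y : Y, (∃ x, f₁ x = y) ∨ (∃ x, f₂ x = y))
    (hi : ∀ (V : Y.Opens) (s : Γ(Y, V)), f₁.app V s = 0 → f₂.app V s = 0 → s = 0)
    (u v : Y ⟶ T) (h₁ : f₁ ≫ u = f₁ ≫ v) (h₂ : f₂ ≫ u = f₂ ≫ v) : u = v := by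
  have hbase : ∀ y, u y = v y := by
    intro y
    rcases hs y with ⟨x, rfl⟩ | ⟨x, rfl⟩
    · exact congr($h₁ x)
    · exact congr($h₂ x)
  have hi' : ∀ (V : Y.Opens) (s t : Γ(Y, V)), f₁.app V s = f₁.app V t →
      f₂.app V s = f₂.app V t → s = t := by
    intro V s t h1 h2
    rw [← sub_eq_zero]
    apply hi V
    · rw [map_sub, h1, sub_self]
    · rw [map_sub, h2, sub_self]
  have key : ∀ {X' : Scheme.{u}} (f : X' ⟶ Y) (h : f ≫ u = f ≫ v) (hb : u.base = v.base)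
      (U : T.Opens),
      (u.app U ≫ Y.presheaf.map (eqToHom congr((Opens.map $hb.symm).obj U)).op) ≫
        f.app (v ⁻¹ᵁ U) = v.app U ≫ f.app (v ⁻¹ᵁ U) := by
    intro X' f h hb U
    have hle : v ⁻¹ᵁ U ≤ u ⁻¹ᵁ U := (congr((Opens.map $hb.symm).obj U)).le
    have e2 : u.app U ≫ Y.presheaf.map (eqToHom congr((Opens.map $hb.symm).obj U)).op =
        u.appLE U (v ⁻¹ᵁ U) hle := by
      rw [Scheme.Hom.appLE]; congr 2
    rw [e2, Scheme.Hom.app_eq_appLE (f := f), Scheme.Hom.appLE_comp_appLE,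
      Scheme.Hom.app_eq_appLE (f := v), Scheme.Hom.appLE_comp_appLE]
    exact appLE_congr' h _ _ _
  have hb : u.base = v.base := by
    ext y; exact hbase y
  refine Scheme.Hom.ext hb ?_
  intro U
  ext r
  apply hi'
  · rw [← CommRingCat.comp_apply, ← CommRingCat.comp_apply, key f₁ h₁ hb U]
  · rw [← CommRingCat.comp_apply, ← CommRingCat.comp_apply, key f₂ h₂ hb U]

lemma morphismRestrict_coe {X Y : Scheme.{u}} (f : X ⟶ Y) (O : Y.Opens) (x : (f ⁻¹ᵁ O).toScheme) :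
    ((f ∣_ O) x).1 = f x.1 := congr($(morphismRestrict_ι f O) x)

/-- (E): joint epi on every open. -/
lemma jointEpi (I J : S.IdealSheafData) (O : (I ⊓ J).subscheme.Opens) {T : Scheme.{u}}
    (u v : O.toScheme ⟶ T)
    (h₁ : (IdealSheafData.inclusion (inf_le_left : I ⊓ J ≤ I) ∣_ O) ≫ u =
      (IdealSheafData.inclusion (inf_le_left : I ⊓ J ≤ I) ∣_ O) ≫ v)
    (h₂ : (IdealSheafData.inclusion (inf_le_right : I ⊓ J ≤ J) ∣_ O) ≫ u =
      (IdealSheafData.inclusion (inf_le_right : I ⊓ J ≤ J) ∣_ O) ≫ v) : u = v := by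
  refine epi2 _ _ ?_ ?_ u v h₁ h₂
  · rintro ⟨w, hw⟩
    rcases jsurj I J w with ⟨x, rfl⟩ | ⟨y, rfl⟩
    · exact Or.inl ⟨⟨x, hw⟩, Subtype.ext (morphismRestrict_coe _ _ _)⟩
    · exact Or.inr ⟨⟨y, hw⟩, Subtype.ext (morphismRestrict_coe _ _ _)⟩
  · intro V s h1 h2
    rw [morphismRestrict_app] at h1 h2
    exact ji I J (O.ι ''ᵁ V) s (map_eqToHom_eq_zero _ _ h1) (map_eqToHom_eq_zero _ _ h2)


lemma restrict_homOfLE {X Y : Scheme.{u}} (f : X ⟶ Y) {O' O : Y.Opens} (h : O' ≤ O) :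
    (f ∣_ O') ≫ Y.homOfLE h =
      X.homOfLE (show f ⁻¹ᵁ O' ≤ f ⁻¹ᵁ O from fun _ hx => h hx) ≫ (f ∣_ O) := by
  rw [← cancel_mono O.ι]
  simp

lemma ι_topIso_inv {Y : Scheme.{u}} (O : Y.Opens) :
    O.ι ≫ Y.topIso.inv = Y.homOfLE (le_top : O ≤ ⊤) := by
  rw [← cancel_mono (Y.topIso.hom)]
  simp

lemma glue {X₁ X₂ Y T : Scheme.{u}} (f₁ : X₁ ⟶ Y) (f₂ : X₂ ⟶ Y)
    (hE : ∀ (O : Y.Opens) (u v : O.toScheme ⟶ T), (f₁ ∣_ O) ≫ u = (f₁ ∣_ O) ≫ v →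
      (f₂ ∣_ O) ≫ u = (f₂ ∣_ O) ≫ v → u = v)
    (a : X₁ ⟶ T) (b : X₂ ⟶ T)
    (hloc : ∀ y : Y, ∃ O : Y.Opens, y ∈ O ∧ ∃ c : O.toScheme ⟶ T,
      (f₁ ∣_ O) ≫ c = (f₁ ⁻¹ᵁ O).ι ≫ a ∧ (f₂ ∣_ O) ≫ c = (f₂ ⁻¹ᵁ O).ι ≫ b) :
    ∃ c : Y ⟶ T, f₁ ≫ c = a ∧ f₂ ≫ c = b := by
  choose O hyO c hc1 hc2 using hloc
  have hres : ∀ {X' : Scheme.{u}} (f : X' ⟶ Y) (a' : X' ⟶ T) (y : Y)
      (_ : (f ∣_ O y) ≫ c y = (f ⁻¹ᵁ O y).ι ≫ a') (O' : Y.Opens) (h : O' ≤ O y),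
      (f ∣_ O') ≫ Y.homOfLE h ≫ c y = (f ⁻¹ᵁ O').ι ≫ a' := by
    intro X' f a' y hc O' h
    rw [← Category.assoc, restrict_homOfLE, Category.assoc, hc, ← Category.assoc,
      Scheme.homOfLE_ι]
  obtain ⟨ψ, hψ⟩ := Groth.Agent.H4Glue.glue_iSup O c (fun y y' => by
    apply hE
    · rw [hres f₁ a y (hc1 y), hres f₁ a y' (hc1 y')]
    · rw [hres f₂ b y (hc2 y), hres f₂ b y' (hc2 y')])
  have htop : (⨆ y, O y) = ⊤ := eq_top_iff.mpr fun y _ => Opens.mem_iSup.mpr ⟨y, hyO y⟩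
  have key : ∀ (Ot : Y.Opens) (_ : Ot = ⊤) (hle : ∀ y, O y ≤ Ot) (ψ : Ot.toScheme ⟶ T)
      (_ : ∀ y, Y.homOfLE (hle y) ≫ ψ = c y), ∃ c : Y ⟶ T, f₁ ≫ c = a ∧ f₂ ≫ c = b := by
    rintro _ rfl hle ψ hψ
    refine ⟨Y.topIso.inv ≫ ψ, ?_, ?_⟩
    · refine (X₁.openCoverOfIsOpenCover (fun y => f₁ ⁻¹ᵁ O y)
        (eq_top_iff.mpr fun x _ => Opens.mem_iSup.mpr ⟨f₁ x, hyO (f₁ x)⟩)).hom_ext _ _ ?_
      intro (y : Y)
      change (f₁ ⁻¹ᵁ O y).ι ≫ f₁ ≫ Y.topIso.inv ≫ ψ = (f₁ ⁻¹ᵁ O y).ι ≫ a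
      rw [← morphismRestrict_ι_assoc, ← Category.assoc (O y).ι, ι_topIso_inv, hψ, hc1]
    · refine (X₂.openCoverOfIsOpenCover (fun y => f₂ ⁻¹ᵁ O y)
        (eq_top_iff.mpr fun x _ => Opens.mem_iSup.mpr ⟨f₂ x, hyO (f₂ x)⟩)).hom_ext _ _ ?_
      intro (y : Y)
      change (f₂ ⁻¹ᵁ O y).ι ≫ f₂ ≫ Y.topIso.inv ≫ ψ = (f₂ ⁻¹ᵁ O y).ι ≫ b
      rw [← morphismRestrict_ι_assoc, ← Category.assoc (O y).ι, ι_topIso_inv, hψ, hc2]
  exact key _ htop (le_iSup O) ψ hψ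


lemma affpo {X₁ X₂ Y T : Scheme.{u}} (f₁ : X₁ ⟶ Y) (f₂ : X₂ ⟶ Y) (a : X₁ ⟶ T) (b : X₂ ⟶ T)
    (O : Y.Opens) (Tk : T.Opens) (hTk : IsAffineOpen Tk)
    (h1 : f₁ ⁻¹ᵁ O ≤ a ⁻¹ᵁ Tk) (h2 : f₂ ⁻¹ᵁ O ≤ b ⁻¹ᵁ Tk)
    (hinj : ∀ s : Γ(Y, O), f₁.app O s = 0 → f₂.app O s = 0 → s = 0)
    (hsurj : ∀ r : Γ(T, Tk), ∃ s : Γ(Y, O), f₁.app O s = a.appLE Tk (f₁ ⁻¹ᵁ O) h1 r ∧
      f₂.app O s = b.appLE Tk (f₂ ⁻¹ᵁ O) h2 r) :
    ∃ c : O.toScheme ⟶ T, (f₁ ∣_ O) ≫ c = (f₁ ⁻¹ᵁ O).ι ≫ a ∧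
      (f₂ ∣_ O) ≫ c = (f₂ ⁻¹ᵁ O).ι ≫ b := by
  choose φ₀ hφ1 hφ2 using hsurj
  have hinj' : ∀ s t : Γ(Y, O), f₁.app O s = f₁.app O t → f₂.app O s = f₂.app O t → s = t := by
    intro s t e1 e2
    rw [← sub_eq_zero]
    apply hinj
    · rw [map_sub, e1, sub_self]
    · rw [map_sub, e2, sub_self]
  let φ : Γ(T, Tk) →+* Γ(Y, O) :=
    { toFun := φ₀
      map_one' := hinj' _ _ (by rw [hφ1, map_one, map_one]) (by rw [hφ2, map_one, map_one])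
      map_mul' := fun x y => hinj' _ _ (by rw [hφ1, map_mul, map_mul, hφ1, hφ1])
        (by rw [hφ2, map_mul, map_mul, hφ2, hφ2])
      map_zero' := hinj' _ _ (by rw [hφ1, map_zero, map_zero]) (by rw [hφ2, map_zero, map_zero])
      map_add' := fun x y => hinj' _ _ (by rw [hφ1, map_add, map_add, hφ1, hφ1])
        (by rw [hφ2, map_add, map_add, hφ2, hφ2]) }
  have e1 : CommRingCat.ofHom φ ≫ f₁.app O = a.appLE Tk (f₁ ⁻¹ᵁ O) h1 := by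
    ext r; exact hφ1 r
  have e2 : CommRingCat.ofHom φ ≫ f₂.app O = b.appLE Tk (f₂ ⁻¹ᵁ O) h2 := by
    ext r; exact hφ2 r
  refine ⟨O.toSpecΓ ≫ Spec.map (CommRingCat.ofHom φ) ≫ hTk.fromSpec, ?_, ?_⟩
  · rw [← Scheme.Opens.toSpecΓ_naturality_assoc, ← Spec.map_comp_assoc, e1,
      Scheme.Opens.toSpecΓ_SpecMap_appLE_assoc, IsAffineOpen.toSpecΓ_fromSpec,
      Scheme.Hom.resLE_comp_ι]
  · rw [← Scheme.Opens.toSpecΓ_naturality_assoc, ← Spec.map_comp_assoc, e2,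
      Scheme.Opens.toSpecΓ_SpecMap_appLE_assoc, IsAffineOpen.toSpecΓ_fromSpec,
      Scheme.Hom.resLE_comp_ι]


lemma loc_affine (I J : S.IdealSheafData) {T : Scheme.{u}} (a : I.subscheme ⟶ T)
    (b : J.subscheme ⟶ T)
    (hab : IdealSheafData.inclusion (le_sup_left : I ≤ I ⊔ J) ≫ a =
      IdealSheafData.inclusion (le_sup_right : J ≤ I ⊔ J) ≫ b)
    (U : S.affineOpens) (Tk : T.Opens) (hTk : IsAffineOpen Tk)
    (h1 : IdealSheafData.inclusion (inf_le_left : I ⊓ J ≤ I) ⁻¹ᵁ ((I ⊓ J).subschemeι ⁻¹ᵁ U.1) ≤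
      a ⁻¹ᵁ Tk)
    (h2 : IdealSheafData.inclusion (inf_le_right : I ⊓ J ≤ J) ⁻¹ᵁ ((I ⊓ J).subschemeι ⁻¹ᵁ U.1) ≤
      b ⁻¹ᵁ Tk) :
    ∃ c : ((I ⊓ J).subschemeι ⁻¹ᵁ U.1).toScheme ⟶ T,
      (IdealSheafData.inclusion (inf_le_left : I ⊓ J ≤ I) ∣_ ((I ⊓ J).subschemeι ⁻¹ᵁ U.1)) ≫ c =
        (IdealSheafData.inclusion (inf_le_left : I ⊓ J ≤ I) ⁻¹ᵁ
          ((I ⊓ J).subschemeι ⁻¹ᵁ U.1)).ι ≫ a ∧
      (IdealSheafData.inclusion (inf_le_right : I ⊓ J ≤ J) ∣_ ((I ⊓ J).subschemeι ⁻¹ᵁ U.1)) ≫ c =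
        (IdealSheafData.inclusion (inf_le_right : I ⊓ J ≤ J) ⁻¹ᵁ
          ((I ⊓ J).subschemeι ⁻¹ᵁ U.1)).ι ≫ b := by
  obtain ⟨O, hO⟩ : ∃ O, O = (I ⊓ J).subschemeι ⁻¹ᵁ U.1 := ⟨_, rfl⟩
  rw [← hO] at h1 h2 ⊢
  obtain ⟨iX, hiX⟩ : ∃ f, f = IdealSheafData.inclusion (inf_le_left : I ⊓ J ≤ I) := ⟨_, rfl⟩
  obtain ⟨iY, hiY⟩ : ∃ f, f = IdealSheafData.inclusion (inf_le_right : I ⊓ J ≤ J) := ⟨_, rfl⟩
  rw [← hiX] at h1 ⊢
  rw [← hiY] at h2 ⊢
  have hOX : iX ⁻¹ᵁ O = I.subschemeι ⁻¹ᵁ U.1 := by rw [hiX, hO, preimage_incl]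
  have hOY : iY ⁻¹ᵁ O = J.subschemeι ⁻¹ᵁ U.1 := by rw [hiY, hO, preimage_incl]
  have eX : (I ⊓ J).subschemeι.appLE U.1 O hO.le ≫ iX.app O =
      I.subschemeι.appLE U.1 (iX ⁻¹ᵁ O) hOX.le := by
    subst hiX
    rw [Scheme.Hom.app_eq_appLE]
    exact incl_appLE _ _ _ _ _ _ _
  have eY : (I ⊓ J).subschemeι.appLE U.1 O hO.le ≫ iY.app O =
      J.subschemeι.appLE U.1 (iY ⁻¹ᵁ O) hOY.le := by
    subst hiY
    rw [Scheme.Hom.app_eq_appLE]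
    exact incl_appLE _ _ _ _ _ _ _
  refine affpo iX iY a b O Tk hTk h1 h2 ?_ ?_
  · intro s e1 e2
    subst hiX hiY
    exact ji I J O s e1 e2
  · intro r
    obtain ⟨p, hp⟩ := appLE_surj I U (iX ⁻¹ᵁ O) hOX (a.appLE Tk _ h1 r)
    obtain ⟨q, hq⟩ := appLE_surj J U (iY ⁻¹ᵁ O) hOY (b.appLE Tk _ h2 r)
    obtain ⟨OZ, hOZ⟩ : ∃ OZ, OZ = (I ⊔ J).subschemeι ⁻¹ᵁ U.1 := ⟨_, rfl⟩
    have hZ1 : OZ ≤ (IdealSheafData.inclusion (le_sup_left : I ≤ I ⊔ J)) ⁻¹ᵁ (iX ⁻¹ᵁ O) := by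
      rw [hOX, preimage_incl, hOZ]
    have hZ2 : OZ ≤ (IdealSheafData.inclusion (le_sup_right : J ≤ I ⊔ J)) ⁻¹ᵁ (iY ⁻¹ᵁ O) := by
      rw [hOY, preimage_incl, hOZ]
    have hpq : (I ⊔ J).subschemeι.appLE U.1 OZ hOZ.le p =
        (I ⊔ J).subschemeι.appLE U.1 OZ hOZ.le q := by
      have e1 := incl_appLE (le_sup_left : I ≤ I ⊔ J) U.1 (iX ⁻¹ᵁ O) OZ hOX.le hZ1 hOZ.le
      have e2 := incl_appLE (le_sup_right : J ≤ I ⊔ J) U.1 (iY ⁻¹ᵁ O) OZ hOY.le hZ2 hOZ.le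
      have e3 : (I ⊔ J).subschemeι.appLE U.1 OZ hOZ.le p =
          ((IdealSheafData.inclusion (le_sup_left : I ≤ I ⊔ J)) ≫ a).appLE Tk OZ
            (hZ1.trans (fun _ hx => h1 hx)) r := by
        rw [← e1, CommRingCat.comp_apply, hp, ← CommRingCat.comp_apply,
          Scheme.Hom.appLE_comp_appLE]
      have e4 : (I ⊔ J).subschemeι.appLE U.1 OZ hOZ.le q =
          ((IdealSheafData.inclusion (le_sup_right : J ≤ I ⊔ J)) ≫ b).appLE Tk OZ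
            (hZ2.trans (fun _ hx => h2 hx)) r := by
        rw [← e2, CommRingCat.comp_apply, hq, ← CommRingCat.comp_apply,
          Scheme.Hom.appLE_comp_appLE]
      rw [e3, e4]
      exact congr($(appLE_congr' hab Tk OZ _) r)
    have hmem : p - q ∈ (I ⊔ J).ideal U := by
      rw [← appLE_ker (I ⊔ J) U OZ hOZ, map_sub, hpq, sub_self]
    change p - q ∈ I.ideal U ⊔ J.ideal U at hmem
    obtain ⟨i, hi, j, hj, hij⟩ := Submodule.mem_sup.mp hmem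
    refine ⟨(I ⊓ J).subschemeι.appLE U.1 O hO.le (p - i), ?_, ?_⟩
    · rw [← CommRingCat.comp_apply, eX, map_sub, hp, (appLE_ker I U _ hOX i).mpr hi, sub_zero]
    · have hpi : p - i = q + j := by linear_combination (-1 : Γ(S, U.1)) * hij
      rw [hpi, ← CommRingCat.comp_apply, eY, map_add, hq, (appLE_ker J U _ hOY j).mpr hj,
        add_zero]


lemma loc (I J : S.IdealSheafData) {T : Scheme.{u}} (a : I.subscheme ⟶ T)
    (b : J.subscheme ⟶ T)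
    (hab : IdealSheafData.inclusion (le_sup_left : I ≤ I ⊔ J) ≫ a =
      IdealSheafData.inclusion (le_sup_right : J ≤ I ⊔ J) ≫ b) (w : (I ⊓ J).subscheme) :
    ∃ O : (I ⊓ J).subscheme.Opens, w ∈ O ∧ ∃ c : O.toScheme ⟶ T,
      (IdealSheafData.inclusion (inf_le_left : I ⊓ J ≤ I) ∣_ O) ≫ c =
        (IdealSheafData.inclusion (inf_le_left : I ⊓ J ≤ I) ⁻¹ᵁ O).ι ≫ a ∧
      (IdealSheafData.inclusion (inf_le_right : I ⊓ J ≤ J) ∣_ O) ≫ c =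
        (IdealSheafData.inclusion (inf_le_right : I ⊓ J ≤ J) ⁻¹ᵁ O).ι ≫ b := by
  have hinjX : Function.Injective (IdealSheafData.inclusion (inf_le_left : I ⊓ J ≤ I)) :=
    (IdealSheafData.inclusion _).isClosedEmbedding.injective
  have hinjY : Function.Injective (IdealSheafData.inclusion (inf_le_right : I ⊓ J ≤ J)) :=
    (IdealSheafData.inclusion _).isClosedEmbedding.injective
  have hagree : ∀ x y, IdealSheafData.inclusion (inf_le_left : I ⊓ J ≤ I) x =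
      IdealSheafData.inclusion (inf_le_right : I ⊓ J ≤ J) y → a x = b y := by
    intro x y hxy
    obtain ⟨z, rfl, rfl⟩ := agree I J x y hxy
    exact congr($hab z)
  obtain ⟨t₀, ht1, ht2⟩ : ∃ t₀ : T,
      (∀ x, IdealSheafData.inclusion (inf_le_left : I ⊓ J ≤ I) x = w → a x = t₀) ∧
      (∀ y, IdealSheafData.inclusion (inf_le_right : I ⊓ J ≤ J) y = w → b y = t₀) := by
    rcases jsurj I J w with ⟨x, hx⟩ | ⟨y, hy⟩
    · exact ⟨a x, fun x' hx' => by rw [hinjX (hx'.trans hx.symm)],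
        fun y' hy' => (hagree x y' (hx.trans hy'.symm)).symm⟩
    · exact ⟨b y, fun x' hx' => hagree x' y (hx'.trans hy.symm),
        fun y' hy' => by rw [hinjY (hy'.trans hy.symm)]⟩
  obtain ⟨Tk, hTk, htTk, -⟩ :=
    exists_isAffineOpen_mem_and_subset (x := t₀) (U := ⊤) trivial
  obtain ⟨A, hA⟩ : ∃ A : (I ⊓ J).subscheme.Opens, (A : Set (I ⊓ J).subscheme) =
      (IdealSheafData.inclusion (inf_le_left : I ⊓ J ≤ I) '' (a ⁻¹ᵁ Tk : Set I.subscheme)ᶜ)ᶜ :=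
    ⟨⟨_, ((IdealSheafData.inclusion (inf_le_left : I ⊓ J ≤ I)).isClosedEmbedding.isClosedMap _
      (a ⁻¹ᵁ Tk).2.isClosed_compl).isOpen_compl⟩, rfl⟩
  obtain ⟨B, hB⟩ : ∃ B : (I ⊓ J).subscheme.Opens, (B : Set (I ⊓ J).subscheme) =
      (IdealSheafData.inclusion (inf_le_right : I ⊓ J ≤ J) '' (b ⁻¹ᵁ Tk : Set J.subscheme)ᶜ)ᶜ :=
    ⟨⟨_, ((IdealSheafData.inclusion (inf_le_right : I ⊓ J ≤ J)).isClosedEmbedding.isClosedMap _
      (b ⁻¹ᵁ Tk).2.isClosed_compl).isOpen_compl⟩, rfl⟩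
  have hwA : w ∈ A := by
    rw [← SetLike.mem_coe, hA]
    rintro ⟨x, hx, hxw⟩
    exact hx (show a x ∈ Tk by rw [ht1 x hxw]; exact htTk)
  have hwB : w ∈ B := by
    rw [← SetLike.mem_coe, hB]
    rintro ⟨y, hy, hyw⟩
    exact hy (show b y ∈ Tk by rw [ht2 y hyw]; exact htTk)
  obtain ⟨U, hwU, hUAB⟩ := exists_affine_nhds (I ⊓ J) (A ⊓ B) w ⟨hwA, hwB⟩
  refine ⟨(I ⊓ J).subschemeι ⁻¹ᵁ U.1, hwU, loc_affine I J a b hab U Tk hTk ?_ ?_⟩
  · intro x hx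
    have h3 : IdealSheafData.inclusion (inf_le_left : I ⊓ J ≤ I) x ∈ A := (hUAB hx).1
    rw [← SetLike.mem_coe, hA] at h3
    by_contra hxa
    exact h3 ⟨x, hxa, rfl⟩
  · intro y hy
    have h3 : IdealSheafData.inclusion (inf_le_right : I ⊓ J ≤ J) y ∈ B := (hUAB hy).2
    rw [← SetLike.mem_coe, hB] at h3
    by_contra hyb
    exact h3 ⟨y, hyb, rfl⟩

theorem main (S : Scheme.{u}) (I J : S.IdealSheafData) :
    IsPushout (Scheme.IdealSheafData.inclusion (le_sup_left : I ≤ I ⊔ J))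
      (Scheme.IdealSheafData.inclusion (le_sup_right : J ≤ I ⊔ J))
      (Scheme.IdealSheafData.inclusion (inf_le_left : I ⊓ J ≤ I))
      (Scheme.IdealSheafData.inclusion (inf_le_right : I ⊓ J ≤ J)) := by
  have hw : Scheme.IdealSheafData.inclusion (le_sup_left : I ≤ I ⊔ J) ≫
      Scheme.IdealSheafData.inclusion (inf_le_left : I ⊓ J ≤ I) =
      Scheme.IdealSheafData.inclusion (le_sup_right : J ≤ I ⊔ J) ≫
      Scheme.IdealSheafData.inclusion (inf_le_right : I ⊓ J ≤ J) := by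
    rw [IdealSheafData.inclusion_comp, IdealSheafData.inclusion_comp]
  have hE : ∀ {T : Scheme.{u}} (u v : (I ⊓ J).subscheme ⟶ T),
      Scheme.IdealSheafData.inclusion (inf_le_left : I ⊓ J ≤ I) ≫ u =
        Scheme.IdealSheafData.inclusion (inf_le_left : I ⊓ J ≤ I) ≫ v →
      Scheme.IdealSheafData.inclusion (inf_le_right : I ⊓ J ≤ J) ≫ u =
        Scheme.IdealSheafData.inclusion (inf_le_right : I ⊓ J ≤ J) ≫ v → u = v := by
    intro T u v h1 h2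
    refine epi2 _ _ (jsurj I J) (ji I J) u v h1 h2
  have hD : ∀ {T : Scheme.{u}} (a : I.subscheme ⟶ T) (b : J.subscheme ⟶ T)
      (_ : IdealSheafData.inclusion (le_sup_left : I ≤ I ⊔ J) ≫ a =
        IdealSheafData.inclusion (le_sup_right : J ≤ I ⊔ J) ≫ b),
      ∃ c : (I ⊓ J).subscheme ⟶ T,
        Scheme.IdealSheafData.inclusion (inf_le_left : I ⊓ J ≤ I) ≫ c = a ∧
        Scheme.IdealSheafData.inclusion (inf_le_right : I ⊓ J ≤ J) ≫ c = b := by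
    intro T a b hab
    exact glue _ _ (fun O u v => jointEpi I J O u v) a b (loc I J a b hab)
  refine ⟨⟨hw⟩, ⟨PushoutCocone.IsColimit.mk _ (fun s => (hD s.inl s.inr s.condition).choose)
    (fun s => (hD s.inl s.inr s.condition).choose_spec.1)
    (fun s => (hD s.inl s.inr s.condition).choose_spec.2) ?_⟩⟩
  intro s m h1 h2
  exact hE _ _ (h1.trans (hD s.inl s.inr s.condition).choose_spec.1.symm)
    (h2.trans (hD s.inl s.inr s.condition).choose_spec.2.symm)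

end Helpers


open AlgebraicGeometry CategoryTheory in
/-- For closed subschemes X, Y ⊆ S with ideal sheaves I, J, the scheme-theoretic union (ideal sheaf I ⊓
J) is the pushout, in the category of schemes, of X and Y along the scheme-theoretic intersection
(ideal sheaf I ⊔ J). The exact sequence 0 → O_{X∪Y} → O_X × O_Y → O_{X∩Y} → 0 is not stated. -/
theorem result (S : Scheme.{u}) (I J : S.IdealSheafData) :
    IsPushout (Scheme.IdealSheafData.inclusion (le_sup_left : I ≤ I ⊔ J))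
      (Scheme.IdealSheafData.inclusion (le_sup_right : J ≤ I ⊔ J))
      (Scheme.IdealSheafData.inclusion (inf_le_left : I ⊓ J ≤ I))
      (Scheme.IdealSheafData.inclusion (inf_le_right : I ⊓ J ≤ J)) := by
  exact main S I J

end Groth.Agent.S9383
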