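import Groth.Statements.S0433
import Mathlib
import Groth.Agent.S9383

set_option autoImplicit false
universe u
open FlatMor

namespace Groth.Agent.S0433

section Helpers

open AlgebraicGeometry CategoryTheory Limits TopologicalSpace Scheme

lemma res_eq_zero_iff {X : Scheme.{u}} [IsAffine X] (g : Γ(X, ⊤)) (V : X.Opens)
    (hV : V = X.basicOpen g) (r : Γ(X, ⊤)) :
    X.presheaf.map (homOfLE (le_top : V ≤ ⊤)).op r = 0 ↔ ∃ n : ℕ, g ^ n * r = 0 := by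
  subst hV
  have := (isAffineOpen_top X).isLocalization_basicOpen g
  have h := IsLocalization.map_eq_zero_iff (Submonoid.powers g) Γ(X, X.basicOpen g) r
  constructor
  · intro h0
    obtain ⟨⟨_, n, rfl⟩, hm⟩ := h.mp h0
    exact ⟨n, hm⟩
  · rintro ⟨n, hn⟩
    exact h.mpr ⟨⟨_, n, rfl⟩, hn⟩

lemma exists_res_eq {X : Scheme.{u}} [IsAffine X] (g : Γ(X, ⊤)) (V : X.Opens)
    (hV : V = X.basicOpen g) (s : Γ(X, V)) :
    ∃ (n : ℕ) (r : Γ(X, ⊤)), s * (X.presheaf.map (homOfLE (le_top : V ≤ ⊤)).op g) ^ n =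
      X.presheaf.map (homOfLE (le_top : V ≤ ⊤)).op r := by
  subst hV
  have := (isAffineOpen_top X).isLocalization_basicOpen g
  obtain ⟨⟨r, ⟨_, n, rfl⟩⟩, h⟩ := IsLocalization.surj (Submonoid.powers g) s
  refine ⟨n, r, ?_⟩
  rw [← map_pow]
  exact h

lemma isUnit_res {X : Scheme.{u}} (g : Γ(X, ⊤)) (V : X.Opens)
    (hV : V = X.basicOpen g) : IsUnit (X.presheaf.map (homOfLE (le_top : V ≤ ⊤)).op g) := by
  subst hV
  exact RingedSpace.isUnit_res_basicOpen _ g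


lemma appLE_res {X Y : Scheme.{u}} (f : X ⟶ Y) (D : Y.Opens) (V : X.Opens) (e : V ≤ f ⁻¹ᵁ D)
    (s : Γ(Y, ⊤)) :
    f.appLE D V e (Y.presheaf.map (homOfLE (le_top : D ≤ ⊤)).op s) =
      X.presheaf.map (homOfLE (le_top : V ≤ ⊤)).op (f.appTop s) := by
  rw [← CommRingCat.comp_apply, Scheme.Hom.map_appLE]
  rfl

lemma app_res {X Y : Scheme.{u}} (f : X ⟶ Y) (D : Y.Opens) (s : Γ(Y, ⊤)) :
    f.app D (Y.presheaf.map (homOfLE (le_top : D ≤ ⊤)).op s) =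
      X.presheaf.map (homOfLE (le_top : f ⁻¹ᵁ D ≤ ⊤)).op (f.appTop s) := by
  rw [Scheme.Hom.app_eq_appLE]
  exact appLE_res f D _ le_rfl s

section PartA

variable {X₁ X₂ Y Z : Scheme.{u}} [IsAffine X₁] [IsAffine X₂] [IsAffine Y] [IsAffine Z]
  (i : Z ⟶ X₁) (j : Z ⟶ X₂) (f₁ : X₁ ⟶ Y) (f₂ : X₂ ⟶ Y) (hw : i ≫ f₁ = j ≫ f₂)
  (H1 : ∀ s : Γ(Y, ⊤), f₁.appTop s = 0 → f₂.appTop s = 0 → s = 0)
  (H2 : ∀ (s₁ : Γ(X₁, ⊤)) (s₂ : Γ(X₂, ⊤)), i.appTop s₁ = j.appTop s₂ →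
    ∃ s, f₁.appTop s = s₁ ∧ f₂.appTop s = s₂)

include H1 in
lemma inj_basicOpen (f : Γ(Y, ⊤)) (s : Γ(Y, Y.basicOpen f))
    (h1 : f₁.app (Y.basicOpen f) s = 0) (h2 : f₂.app (Y.basicOpen f) s = 0) : s = 0 := by
  obtain ⟨n, r, hr⟩ := exists_res_eq f (Y.basicOpen f) rfl s
  have k1 : X₁.presheaf.map (homOfLE (le_top : f₁ ⁻¹ᵁ (Y.basicOpen f) ≤ ⊤)).op (f₁.appTop r) = 0 := by
    rw [← app_res, ← hr, map_mul, h1, zero_mul]
  have k2 : X₂.presheaf.map (homOfLE (le_top : f₂ ⁻¹ᵁ (Y.basicOpen f) ≤ ⊤)).op (f₂.appTop r) = 0 := by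
    rw [← app_res, ← hr, map_mul, h2, zero_mul]
  obtain ⟨m₁, hm₁⟩ := (res_eq_zero_iff (f₁.appTop f) _ (Scheme.preimage_basicOpen_top f₁ f) _).mp k1
  obtain ⟨m₂, hm₂⟩ := (res_eq_zero_iff (f₂.appTop f) _ (Scheme.preimage_basicOpen_top f₂ f) _).mp k2
  have h0 : f ^ (m₁ + m₂) * r = 0 := by
    apply H1
    · rw [map_mul, map_pow, pow_add, mul_comm (_ ^ m₁), mul_assoc, hm₁, mul_zero]
    · rw [map_mul, map_pow, pow_add, mul_assoc, hm₂, mul_zero]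
  have hr0 := (res_eq_zero_iff f (Y.basicOpen f) rfl r).mpr ⟨_, h0⟩
  rw [hr0] at hr
  exact ((isUnit_res f (Y.basicOpen f) rfl).pow n).mul_left_eq_zero.mp hr

include hw H2 in
lemma surj_basicOpen (f : Γ(Y, ⊤)) (s₁ : Γ(X₁, f₁ ⁻¹ᵁ (Y.basicOpen f)))
    (s₂ : Γ(X₂, f₂ ⁻¹ᵁ (Y.basicOpen f))) (VZ : Z.Opens)
    (e1 : VZ ≤ i ⁻¹ᵁ (f₁ ⁻¹ᵁ (Y.basicOpen f))) (e2 : VZ ≤ j ⁻¹ᵁ (f₂ ⁻¹ᵁ (Y.basicOpen f)))
    (hVZ : VZ = Z.basicOpen (i.appTop (f₁.appTop f)))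
    (heq : i.appLE _ VZ e1 s₁ = j.appLE _ VZ e2 s₂) :
    ∃ s : Γ(Y, Y.basicOpen f), f₁.app _ s = s₁ ∧ f₂.app _ s = s₂ := by
  have hgz : j.appTop (f₂.appTop f) = i.appTop (f₁.appTop f) := by
    have := congr(Scheme.Hom.appTop $hw f)
    rw [Scheme.Hom.comp_appTop, Scheme.Hom.comp_appTop] at this
    exact this.symm
  obtain ⟨n₁, a', ha'⟩ := exists_res_eq (f₁.appTop f) _ (Scheme.preimage_basicOpen_top f₁ f) s₁
  obtain ⟨n₂, b', hb'⟩ := exists_res_eq (f₂.appTop f) _ (Scheme.preimage_basicOpen_top f₂ f) s₂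
  obtain ⟨gZ, hgZ⟩ : ∃ gZ, gZ = i.appTop (f₁.appTop f) := ⟨_, rfl⟩
  rw [← hgZ] at hgz hVZ
  obtain ⟨σ, hσ⟩ : ∃ σ, σ = i.appLE _ VZ e1 s₁ := ⟨_, rfl⟩
  obtain ⟨ρ, hρ⟩ : ∃ ρ, ρ = Z.presheaf.map (homOfLE (le_top : VZ ≤ ⊤)).op gZ := ⟨_, rfl⟩
  have k1 : σ * ρ ^ n₁ = Z.presheaf.map (homOfLE (le_top : VZ ≤ ⊤)).op (i.appTop a') := by
    rw [← appLE_res i _ VZ e1 a', ← ha', map_mul, map_pow, appLE_res, ← hgZ, ← hρ, ← hσ]
  have k2 : σ * ρ ^ n₂ = Z.presheaf.map (homOfLE (le_top : VZ ≤ ⊤)).op (j.appTop b') := by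
    rw [← appLE_res j _ VZ e2 b', ← hb', map_mul, map_pow, appLE_res, hgz, ← hρ, ← heq, ← hσ]
  have k3 : Z.presheaf.map (homOfLE (le_top : VZ ≤ ⊤)).op
      (i.appTop ((f₁.appTop f) ^ n₂ * a') - j.appTop ((f₂.appTop f) ^ n₁ * b')) = 0 := by
    have hA : Z.presheaf.map (homOfLE (le_top : VZ ≤ ⊤)).op
        (i.appTop ((f₁.appTop f) ^ n₂ * a')) = ρ ^ n₂ * (σ * ρ ^ n₁) := by
      rw [map_mul, map_pow, map_mul, map_pow, ← hgZ, ← hρ, k1]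
    have hB : Z.presheaf.map (homOfLE (le_top : VZ ≤ ⊤)).op
        (j.appTop ((f₂.appTop f) ^ n₁ * b')) = ρ ^ n₁ * (σ * ρ ^ n₂) := by
      rw [map_mul, map_pow, map_mul, map_pow, hgz, ← hρ, k2]
    rw [map_sub, hA, hB]
    ring
  obtain ⟨m, hm⟩ := (res_eq_zero_iff gZ VZ hVZ _).mp k3
  have k4 : i.appTop ((f₁.appTop f) ^ m * ((f₁.appTop f) ^ n₂ * a')) =
      j.appTop ((f₂.appTop f) ^ m * ((f₂.appTop f) ^ n₁ * b')) := by
    rw [map_mul, map_mul (j.appTop).hom, map_pow, map_pow, ← hgZ, hgz, ← sub_eq_zero, ← mul_sub]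
    exact hm
  obtain ⟨r, hr1, hr2⟩ := H2 _ _ k4
  obtain ⟨v, hv⟩ := ((isUnit_res f (Y.basicOpen f) rfl).pow (m + n₂ + n₁)).exists_left_inv
  refine ⟨Y.presheaf.map (homOfLE (le_top : Y.basicOpen f ≤ ⊤)).op r * v, ?_, ?_⟩
  · have hv1 := congr(f₁.app (Y.basicOpen f) $hv)
    rw [map_mul, map_pow, app_res, map_one] at hv1
    rw [map_mul, app_res, hr1, map_mul, map_mul, map_pow, map_pow, ← ha']
    calc _ = s₁ * (f₁.app (Y.basicOpen f) v *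
          (X₁.presheaf.map (homOfLE (le_top : f₁ ⁻¹ᵁ (Y.basicOpen f) ≤ ⊤)).op (f₁.appTop f)) ^
            (m + n₂ + n₁)) := by rw [pow_add, pow_add]; ring
      _ = s₁ := by rw [hv1, mul_one]
  · have hv1 := congr(f₂.app (Y.basicOpen f) $hv)
    rw [map_mul, map_pow, app_res, map_one] at hv1
    rw [map_mul, app_res, hr2, map_mul, map_mul, map_pow, map_pow, ← hb']
    calc _ = s₂ * (f₂.app (Y.basicOpen f) v *
          (X₂.presheaf.map (homOfLE (le_top : f₂ ⁻¹ᵁ (Y.basicOpen f) ≤ ⊤)).op (f₂.appTop f)) ^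
            (m + n₂ + n₁)) := by rw [pow_add, pow_add]; ring
      _ = s₂ := by rw [hv1, mul_one]

end PartA


section PartB

variable {P A' B A : Type u} [CommRing P] [CommRing A'] [CommRing B] [CommRing A]
  (π₁ : P →+* B) (π₂ : P →+* A') (p : A' →+* A) (q : B →+* A)
  (hc : ∀ r, q (π₁ r) = p (π₂ r))
  (P2 : ∀ b a', q b = p a' → ∃ r, π₁ r = b ∧ π₂ r = a')
  (P3 : ∀ r, π₁ r = 0 → π₂ r = 0 → r = 0)
  (hp : Function.Surjective p)

include P2 in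
lemma lam (a' : A') (h : p a' = 0) : ∃ r, π₁ r = 0 ∧ π₂ r = a' :=
  P2 0 a' (by rw [map_zero, h])

include P3 in
lemma P3' (r r' : P) (h1 : π₁ r = π₁ r') (h2 : π₂ r = π₂ r') : r = r' :=
  sub_eq_zero.mp (P3 _ (by rw [map_sub, h1, sub_self]) (by rw [map_sub, h2, sub_self]))

include P2 hp in
lemma pi1_surj : Function.Surjective π₁ := fun b => by
  obtain ⟨a', ha'⟩ := hp (q b)
  obtain ⟨r, hr, _⟩ := P2 b a' ha'.symm
  exact ⟨r, hr⟩

include hc P2 P3 hp in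
lemma exists_point (𝔭 : PrimeSpectrum P) :
    (∃ y : PrimeSpectrum B, PrimeSpectrum.comap π₁ y = 𝔭) ∨
    (∃ k, π₁ k = 0 ∧ k ∉ 𝔭.asIdeal ∧ ∃ x : PrimeSpectrum A', PrimeSpectrum.comap π₂ x = 𝔭) := by
  by_cases hK : ∀ k, π₁ k = 0 → k ∈ 𝔭.asIdeal
  · left
    have : 𝔭 ∈ Set.range (PrimeSpectrum.comap π₁) := by
      rw [range_comap_of_surjective _ _ (pi1_surj π₁ π₂ p q P2 hp)]
      intro k hk
      exact hK k hk
    exact this
  · right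
    push Not at hK
    obtain ⟨k, hk1, hk2⟩ := hK
    refine ⟨k, hk1, hk2, ?_⟩
    have hα : p (π₂ k) = 0 := by rw [← hc, hk1, map_zero]
    have hQ : ∀ x ∈ Ideal.map π₂ 𝔭.asIdeal, ∀ r' : P, π₁ r' = 0 → π₂ r' = π₂ k * x →
        r' ∈ 𝔭.asIdeal := by
      intro x hx
      refine Submodule.span_induction (p := fun x _ => ∀ r' : P, π₁ r' = 0 →
        π₂ r' = π₂ k * x → r' ∈ 𝔭.asIdeal) ?_ ?_ ?_ ?_ hx
      · rintro _ ⟨r₀, hr₀, rfl⟩ r' h1 h2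
        have : r' = k * r₀ := P3' π₁ π₂ P3 _ _ (by rw [h1, map_mul, hk1, zero_mul])
          (by rw [h2, map_mul])
        rw [this]
        exact 𝔭.asIdeal.mul_mem_left _ hr₀
      · intro r' h1 h2
        rw [mul_zero] at h2
        rw [P3 r' h1 h2]
        exact zero_mem _
      · intro x x' _ _ ihx ihx' r' h1 h2
        obtain ⟨r₁, hr₁1, hr₁2⟩ := lam π₁ π₂ p q P2 (π₂ k * x) (by rw [map_mul, hα, zero_mul])
        obtain ⟨r₂, hr₂1, hr₂2⟩ := lam π₁ π₂ p q P2 (π₂ k * x') (by rw [map_mul, hα, zero_mul])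
        have : r' = r₁ + r₂ := P3' π₁ π₂ P3 _ _ (by rw [h1, map_add, hr₁1, hr₂1, add_zero])
          (by rw [h2, map_add, hr₁2, hr₂2, mul_add])
        rw [this]
        exact add_mem (ihx r₁ hr₁1 hr₁2) (ihx' r₂ hr₂1 hr₂2)
      · intro c x _ ihx r' h1 h2
        obtain ⟨r₁, hr₁1, hr₁2⟩ := lam π₁ π₂ p q P2 (π₂ k * x) (by rw [map_mul, hα, zero_mul])
        obtain ⟨rc, hrc1, hrc2⟩ := lam π₁ π₂ p q P2 (π₂ k * c) (by rw [map_mul, hα, zero_mul])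
        have : k * r' = rc * r₁ := P3' π₁ π₂ P3 _ _
          (by rw [map_mul, map_mul, hk1, hrc1, zero_mul, zero_mul])
          (by rw [map_mul, map_mul, h2, hrc2, hr₁2, smul_eq_mul]; ring)
        have hmem : k * r' ∈ 𝔭.asIdeal := by
          rw [this]
          exact 𝔭.asIdeal.mul_mem_left _ (ihx r₁ hr₁1 hr₁2)
        exact (𝔭.isPrime.mem_or_mem hmem).resolve_left hk2
    have : 𝔭 ∈ Set.range (PrimeSpectrum.comap π₂) := by
      rw [PrimeSpectrum.mem_range_comap_iff]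
      refine le_antisymm ?_ Ideal.le_comap_map
      intro r hr
      have := hQ (π₂ r) hr (k * r) (by rw [map_mul, hk1, zero_mul]) (by rw [map_mul])
      exact (𝔭.isPrime.mem_or_mem this).resolve_left hk2
    exact this

include hc P2 in
lemma good_f_case1 (𝔭 : PrimeSpectrum P) (k : P) (hk1 : π₁ k = 0) (hk2 : k ∉ 𝔭.asIdeal)
    (x : PrimeSpectrum A') (hx : PrimeSpectrum.comap π₂ x = 𝔭)
    (OA : Set (PrimeSpectrum A')) (hOA : IsOpen OA) (hxOA : x ∈ OA) :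
    ∃ f : P, f ∉ 𝔭.asIdeal ∧ π₁ f = 0 ∧ ∀ x' : PrimeSpectrum A', π₂ f ∉ x'.asIdeal → x' ∈ OA := by
  obtain ⟨_, ⟨a'', rfl⟩, hxa, hsub⟩ :=
    PrimeSpectrum.isTopologicalBasis_basic_opens.exists_subset_of_mem_open hxOA hOA
  have hα : p (π₂ k) = 0 := by rw [← hc, hk1, map_zero]
  obtain ⟨f, hf1, hf2⟩ := lam π₁ π₂ p q P2 (π₂ k * a'') (by rw [map_mul, hα, zero_mul])
  refine ⟨f, ?_, hf1, ?_⟩
  · rw [← hx]
    change π₂ f ∉ x.asIdeal
    rw [hf2]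
    intro h
    rcases x.isPrime.mem_or_mem h with h | h
    · exact hk2 (by rw [← hx]; exact h)
    · exact hxa h
  · intro x' hx'
    apply hsub
    change a'' ∉ x'.asIdeal
    intro h
    exact hx' (by rw [hf2]; exact x'.asIdeal.mul_mem_left _ h)

include P2 hp in
lemma good_f_case2 (𝔭 : PrimeSpectrum P) (y' : PrimeSpectrum B)
    (hy : PrimeSpectrum.comap π₁ y' = 𝔭)
    (OA : Set (PrimeSpectrum A')) (hOA : IsOpen OA) (OB : Set (PrimeSpectrum B)) (hOB : IsOpen OB)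
    (hyOB : y' ∈ OB)
    (hcompat : ∀ z : PrimeSpectrum A, PrimeSpectrum.comap q z ∈ OB → PrimeSpectrum.comap p z ∈ OA) :
    ∃ f : P, f ∉ 𝔭.asIdeal ∧ (∀ x' : PrimeSpectrum A', π₂ f ∉ x'.asIdeal → x' ∈ OA) ∧
      (∀ y'' : PrimeSpectrum B, π₁ f ∉ y''.asIdeal → y'' ∈ OB) := by
  obtain ⟨_, ⟨g, rfl⟩, hyg, hsub⟩ :=
    PrimeSpectrum.isTopologicalBasis_basic_opens.exists_subset_of_mem_open hyOB hOB
  obtain ⟨a₀, ha₀⟩ := hp (q g)
  have hmem : a₀ ∈ (PrimeSpectrum.vanishingIdeal OAᶜ ⊔ RingHom.ker p).radical := by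
    rw [Ideal.radical_eq_sInf, Ideal.mem_sInf]
    rintro 𝔮 ⟨hle, hprime⟩
    by_contra hcon
    have hxr : (⟨𝔮, hprime⟩ : PrimeSpectrum A') ∈ Set.range (PrimeSpectrum.comap p) := by
      rw [range_comap_of_surjective _ _ hp]
      exact (le_sup_right.trans hle)
    obtain ⟨z, hz⟩ := hxr
    have hgz : PrimeSpectrum.comap q z ∈ (PrimeSpectrum.basicOpen g : Set (PrimeSpectrum B)) := by
      change q g ∉ z.asIdeal
      rw [← ha₀]
      intro h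
      apply hcon
      have h' : a₀ ∈ (PrimeSpectrum.comap p z).asIdeal := h
      rw [hz] at h'
      exact h'
    have hxOA : (⟨𝔮, hprime⟩ : PrimeSpectrum A') ∈ OA := hz ▸ hcompat z (hsub hgz)
    have hxc : (⟨𝔮, hprime⟩ : PrimeSpectrum A') ∈ OAᶜ := by
      have h' : (⟨𝔮, hprime⟩ : PrimeSpectrum A') ∈
          PrimeSpectrum.zeroLocus (PrimeSpectrum.vanishingIdeal OAᶜ : Set A') :=
        (le_sup_left.trans hle)
      rw [PrimeSpectrum.zeroLocus_vanishingIdeal_eq_closure, hOA.isClosed_compl.closure_eq] at h'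
      exact h'
    exact hxc hxOA
  obtain ⟨n, hn⟩ := hmem
  have hn' : a₀ ^ (n + 1) ∈ PrimeSpectrum.vanishingIdeal OAᶜ ⊔ RingHom.ker p := by
    rw [pow_succ]
    exact Ideal.mul_mem_right _ _ hn
  obtain ⟨α', hα', κ, hκ, hsum⟩ := Submodule.mem_sup.mp hn'
  obtain ⟨f, hf1, hf2⟩ := P2 (g ^ (n + 1)) α' (by
    rw [map_pow, ← ha₀, ← map_pow, ← hsum, map_add, (RingHom.mem_ker.mp hκ), add_zero])
  refine ⟨f, ?_, ?_, ?_⟩
  · rw [← hy]
    change π₁ f ∉ y'.asIdeal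
    rw [hf1]
    intro h
    exact hyg (y'.isPrime.mem_of_pow_mem _ h)
  · intro x' hx'
    by_contra hcon
    apply hx'
    rw [hf2]
    exact (PrimeSpectrum.mem_vanishingIdeal _ _).mp hα' x' hcon
  · intro y'' hy''
    apply hsub
    change g ∉ y''.asIdeal
    intro h
    exact hy'' (by rw [hf1]; exact Ideal.pow_mem_of_mem _ h _ (Nat.succ_pos n))

end PartB


section PartC

open Groth.Agent.S9383

variable {X₁ X₂ Y Z : Scheme.{u}} [IsAffine X₁] [IsAffine X₂] [IsAffine Y] [IsAffine Z]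
  (i : Z ⟶ X₁) (j : Z ⟶ X₂) (f₁ : X₁ ⟶ Y) (f₂ : X₂ ⟶ Y) (hw : i ≫ f₁ = j ≫ f₂)
  (H1 : ∀ s : Γ(Y, ⊤), f₁.appTop s = 0 → f₂.appTop s = 0 → s = 0)
  (H2 : ∀ (s₁ : Γ(X₁, ⊤)) (s₂ : Γ(X₂, ⊤)), i.appTop s₁ = j.appTop s₂ →
    ∃ s, f₁.appTop s = s₁ ∧ f₂.appTop s = s₂)

include H1 in
lemma ji_aff (V : Y.Opens) (s : Γ(Y, V)) (h1 : f₁.app V s = 0) (h2 : f₂.app V s = 0) : s = 0 := by
  have hb : ∀ y : V, ∃ f : Γ(Y, ⊤), y.1 ∈ Y.basicOpen f ∧ Y.basicOpen f ≤ V := by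
    intro y
    obtain ⟨_, ⟨f, rfl⟩, hy, hle⟩ := Opens.isBasis_iff_nbhd.mp (isBasis_basicOpen Y) y.2
    exact ⟨f, hy, hle⟩
  choose fy hfy1 hfy2 using hb
  refine Y.sheaf.eq_of_locally_eq' (fun y : V => Y.basicOpen (fy y)) V
    (fun y => homOfLE (hfy2 y)) (fun x hx => Opens.mem_iSup.mpr ⟨⟨x, hx⟩, hfy1 ⟨x, hx⟩⟩) s 0 ?_
  intro y
  rw [map_zero]
  apply inj_basicOpen f₁ f₂ H1 (fy y)
  · change f₁.app _ (Y.presheaf.map (homOfLE (hfy2 y)).op s) = 0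
    rw [← CommRingCat.comp_apply, Scheme.Hom.naturality, CommRingCat.comp_apply, h1, map_zero]
  · change f₂.app _ (Y.presheaf.map (homOfLE (hfy2 y)).op s) = 0
    rw [← CommRingCat.comp_apply, Scheme.Hom.naturality, CommRingCat.comp_apply, h2, map_zero]

include H1 in
lemma jointEpi_aff (hs : ∀ y : Y, (∃ x, f₁ x = y) ∨ (∃ x, f₂ x = y))
    (O : Y.Opens) {T : Scheme.{u}} (u v : O.toScheme ⟶ T)
    (h₁ : (f₁ ∣_ O) ≫ u = (f₁ ∣_ O) ≫ v) (h₂ : (f₂ ∣_ O) ≫ u = (f₂ ∣_ O) ≫ v) : u = v := by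
  refine epi2 _ _ ?_ ?_ u v h₁ h₂
  · rintro ⟨w, hw⟩
    rcases hs w with ⟨x, rfl⟩ | ⟨y, rfl⟩
    · exact Or.inl ⟨⟨x, hw⟩, Subtype.ext (morphismRestrict_coe _ _ _)⟩
    · exact Or.inr ⟨⟨y, hw⟩, Subtype.ext (morphismRestrict_coe _ _ _)⟩
  · intro V s h1 h2
    rw [morphismRestrict_app] at h1 h2
    exact ji_aff f₁ f₂ H1 (O.ι ''ᵁ V) s (map_eqToHom_eq_zero _ _ h1) (map_eqToHom_eq_zero _ _ h2)

include hw H1 H2 in
lemma loc_of_good {T : Scheme.{u}} (a : X₁ ⟶ T) (b : X₂ ⟶ T) (hab : i ≫ a = j ≫ b)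
    (f : Γ(Y, ⊤)) (Tk : T.Opens) (hTk : IsAffineOpen Tk)
    (h1 : f₁ ⁻¹ᵁ Y.basicOpen f ≤ a ⁻¹ᵁ Tk) (h2 : f₂ ⁻¹ᵁ Y.basicOpen f ≤ b ⁻¹ᵁ Tk) :
    ∃ c : (Y.basicOpen f).toScheme ⟶ T,
      (f₁ ∣_ Y.basicOpen f) ≫ c = (f₁ ⁻¹ᵁ Y.basicOpen f).ι ≫ a ∧
      (f₂ ∣_ Y.basicOpen f) ≫ c = (f₂ ⁻¹ᵁ Y.basicOpen f).ι ≫ b := by
  refine affpo f₁ f₂ a b (Y.basicOpen f) Tk hTk h1 h2 (inj_basicOpen f₁ f₂ H1 f) ?_
  intro r
  have e2 : i ⁻¹ᵁ (f₁ ⁻¹ᵁ Y.basicOpen f) ≤ j ⁻¹ᵁ (f₂ ⁻¹ᵁ Y.basicOpen f) := by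
    change (i ≫ f₁) ⁻¹ᵁ Y.basicOpen f ≤ (j ≫ f₂) ⁻¹ᵁ Y.basicOpen f
    rw [hw]
  refine surj_basicOpen i j f₁ f₂ hw H2 f _ _ (i ⁻¹ᵁ (f₁ ⁻¹ᵁ Y.basicOpen f)) le_rfl e2 ?_ ?_
  · rw [Scheme.preimage_basicOpen_top, Scheme.preimage_basicOpen_top]
  · rw [← CommRingCat.comp_apply, ← CommRingCat.comp_apply, Scheme.Hom.appLE_comp_appLE,
      Scheme.Hom.appLE_comp_appLE]
    exact congr($(appLE_congr' hab Tk _ _) r)

include hw H1 H2 in
theorem gen_pushout (hs : ∀ y : Y, (∃ x, f₁ x = y) ∨ (∃ x, f₂ x = y))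
    (hgood : ∀ {T : Scheme.{u}} (a : X₁ ⟶ T) (b : X₂ ⟶ T) (_ : i ≫ a = j ≫ b) (y : Y),
      ∃ f : Γ(Y, ⊤), y ∈ Y.basicOpen f ∧ ∃ Tk : T.Opens, IsAffineOpen Tk ∧
        f₁ ⁻¹ᵁ Y.basicOpen f ≤ a ⁻¹ᵁ Tk ∧ f₂ ⁻¹ᵁ Y.basicOpen f ≤ b ⁻¹ᵁ Tk) :
    IsPushout i j f₁ f₂ := by
  have hE : ∀ {T : Scheme.{u}} (u v : Y ⟶ T), f₁ ≫ u = f₁ ≫ v → f₂ ≫ u = f₂ ≫ v → u = v := by
    intro T u v h1 h2
    exact epi2 _ _ hs (ji_aff f₁ f₂ H1) u v h1 h2
  have hD : ∀ {T : Scheme.{u}} (a : X₁ ⟶ T) (b : X₂ ⟶ T) (_ : i ≫ a = j ≫ b),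
      ∃ c : Y ⟶ T, f₁ ≫ c = a ∧ f₂ ≫ c = b := by
    intro T a b hab
    refine glue _ _ (fun O u v => jointEpi_aff f₁ f₂ H1 hs O u v) a b ?_
    intro y
    obtain ⟨f, hyf, Tk, hTk, h1, h2⟩ := hgood a b hab y
    exact ⟨Y.basicOpen f, hyf, loc_of_good i j f₁ f₂ hw H1 H2 a b hab f Tk hTk h1 h2⟩
  refine ⟨⟨hw⟩, ⟨PushoutCocone.IsColimit.mk _ (fun s => (hD s.inl s.inr s.condition).choose)
    (fun s => (hD s.inl s.inr s.condition).choose_spec.1)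
    (fun s => (hD s.inl s.inr s.condition).choose_spec.2) ?_⟩⟩
  intro s m h1 h2
  exact hE _ _ (h1.trans (hD s.inl s.inr s.condition).choose_spec.1.symm)
    (h2.trans (hD s.inl s.inr s.condition).choose_spec.2.symm)

end PartC


theorem main0433 {A A' B : Type u} [CommRing A] [CommRing A'] [CommRing B] (p : A' →+* A)
    (hp : Function.Surjective p) (q : B →+* A) :
    IsPushout (Spec.map (CommRingCat.ofHom p)) (Spec.map (CommRingCat.ofHom q))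
      (Spec.map (pullback.snd (CommRingCat.ofHom q) (CommRingCat.ofHom p)))
      (Spec.map (pullback.fst (CommRingCat.ofHom q) (CommRingCat.ofHom p))) := by
  obtain ⟨fq, hfq⟩ : ∃ fq, fq = CommRingCat.ofHom q := ⟨_, rfl⟩
  obtain ⟨gp, hgp⟩ : ∃ gp, gp = CommRingCat.ofHom p := ⟨_, rfl⟩
  rw [← hfq, ← hgp]
  have hqf : ∀ b, fq.hom b = q b := by intro b; rw [hfq]; rfl
  have hpg : ∀ a', gp.hom a' = p a' := by intro a'; rw [hgp]; rfl
  obtain ⟨π₁, hπ₁⟩ : ∃ π₁ : ↑(pullback fq gp) →+* B, π₁ = (pullback.fst fq gp).hom := ⟨_, rfl⟩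
  obtain ⟨π₂, hπ₂⟩ : ∃ π₂ : ↑(pullback fq gp) →+* A', π₂ = (pullback.snd fq gp).hom := ⟨_, rfl⟩
  have hc : ∀ r, q (π₁ r) = p (π₂ r) := by
    intro r
    have := congr($(pullback.condition (f := fq) (g := gp)) r)
    rw [CommRingCat.comp_apply, CommRingCat.comp_apply] at this
    rw [hπ₁, hπ₂, ← hqf, ← hpg]
    exact this
  have hpb := IsPullback.of_isLimit (CommRingCat.pullbackConeIsLimit fq gp)
  have P2 : ∀ b a', q b = p a' → ∃ r, π₁ r = b ∧ π₂ r = a' := by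
    intro b a' h
    obtain ⟨x, hx⟩ : ∃ x : (CommRingCat.pullbackCone fq gp).pt, x.1 = (b, a') :=
      ⟨⟨(b, a'), by change fq.hom b = gp.hom a'; rw [hqf, hpg, h]⟩, rfl⟩
    refine ⟨hpb.isoPullback.hom x, ?_, ?_⟩
    · rw [hπ₁]
      change (hpb.isoPullback.hom ≫ pullback.fst fq gp) x = b
      rw [hpb.isoPullback_hom_fst]
      exact congr(Prod.fst $hx)
    · rw [hπ₂]
      change (hpb.isoPullback.hom ≫ pullback.snd fq gp) x = a'
      rw [hpb.isoPullback_hom_snd]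
      exact congr(Prod.snd $hx)
  have P3 : ∀ r, π₁ r = 0 → π₂ r = 0 → r = 0 := by
    intro r h1 h2
    have hx : hpb.isoPullback.inv r = 0 := by
      apply Subtype.ext
      apply Prod.ext
      · change (hpb.isoPullback.inv ≫ (CommRingCat.pullbackCone fq gp).fst) r = 0
        rw [hpb.isoPullback_inv_fst, ← h1, hπ₁]
      · change (hpb.isoPullback.inv ≫ (CommRingCat.pullbackCone fq gp).snd) r = 0
        rw [hpb.isoPullback_inv_snd, ← h2, hπ₂]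
    have := congr(hpb.isoPullback.hom $hx)
    rw [Iso.inv_hom_id_apply, map_zero] at this
    exact this
  have hw : Spec.map gp ≫ Spec.map (pullback.snd fq gp) =
      Spec.map fq ≫ Spec.map (pullback.fst fq gp) := by
    rw [← Spec.map_comp, ← Spec.map_comp, pullback.condition]
  have H1 : ∀ s : Γ(Spec (pullback fq gp), ⊤), (Spec.map (pullback.snd fq gp)).appTop s = 0 →
      (Spec.map (pullback.fst fq gp)).appTop s = 0 → s = 0 := by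
    intro s h1 h2
    have e1 := congr($(Scheme.ΓSpecIso_naturality (pullback.snd fq gp)) s)
    have e2 := congr($(Scheme.ΓSpecIso_naturality (pullback.fst fq gp)) s)
    rw [CommRingCat.comp_apply, CommRingCat.comp_apply] at e1 e2
    rw [h1, map_zero] at e1
    rw [h2, map_zero] at e2
    have := P3 ((Scheme.ΓSpecIso (pullback fq gp)).hom s) (by rw [hπ₁]; exact e2.symm)
      (by rw [hπ₂]; exact e1.symm)
    have h3 := congr((Scheme.ΓSpecIso (pullback fq gp)).inv $this)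
    rw [Iso.hom_inv_id_apply, map_zero] at h3
    exact h3
  have H2 : ∀ (s₁ : Γ(Spec (CommRingCat.of A'), ⊤)) (s₂ : Γ(Spec (CommRingCat.of B), ⊤)),
      (Spec.map gp).appTop s₁ = (Spec.map fq).appTop s₂ →
      ∃ s, (Spec.map (pullback.snd fq gp)).appTop s = s₁ ∧
        (Spec.map (pullback.fst fq gp)).appTop s = s₂ := by
    intro s₁ s₂ h
    have e1 := congr($(Scheme.ΓSpecIso_naturality gp) s₁)
    have e2 := congr($(Scheme.ΓSpecIso_naturality fq) s₂)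
    rw [CommRingCat.comp_apply, CommRingCat.comp_apply] at e1 e2
    rw [h] at e1
    obtain ⟨r, hr1, hr2⟩ := P2 ((Scheme.ΓSpecIso (CommRingCat.of B)).hom s₂)
      ((Scheme.ΓSpecIso (CommRingCat.of A')).hom s₁) (by rw [← hqf, ← hpg, ← e1, ← e2])
    refine ⟨(Scheme.ΓSpecIso (pullback fq gp)).inv r, ?_, ?_⟩
    · have e3 := congr($(Scheme.ΓSpecIso_inv_naturality (pullback.snd fq gp)) r)
      rw [CommRingCat.comp_apply, CommRingCat.comp_apply] at e3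
      have hr2' : (pullback.snd fq gp) r = (Scheme.ΓSpecIso (CommRingCat.of A')).hom s₁ := by
        rw [← hr2, hπ₂]
      rw [← e3, hr2', Iso.hom_inv_id_apply]
    · have e3 := congr($(Scheme.ΓSpecIso_inv_naturality (pullback.fst fq gp)) r)
      rw [CommRingCat.comp_apply, CommRingCat.comp_apply] at e3
      have hr1' : (pullback.fst fq gp) r = (Scheme.ΓSpecIso (CommRingCat.of B)).hom s₂ := by
        rw [← hr1, hπ₁]
      rw [← e3, hr1', Iso.hom_inv_id_apply]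
  have hs : ∀ y : Spec (pullback fq gp), (∃ x, Spec.map (pullback.snd fq gp) x = y) ∨
      (∃ x, Spec.map (pullback.fst fq gp) x = y) := by
    intro y
    rcases exists_point π₁ π₂ p q hc P2 P3 hp y with ⟨y', hy'⟩ | ⟨k, -, -, x, hx⟩
    · exact Or.inr ⟨y', by rw [← hy', hπ₁]; rfl⟩
    · exact Or.inl ⟨x, by rw [← hx, hπ₂]; rfl⟩
  refine gen_pushout _ _ _ _ hw H1 H2 hs ?_
  intro T a b hab y
  rcases exists_point π₁ π₂ p q hc P2 P3 hp y with ⟨y', hy'⟩ | ⟨k, hk1, hk2, x, hx⟩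
  · obtain ⟨Tk, hTk, hbTk, -⟩ :=
      exists_isAffineOpen_mem_and_subset (x := b y') (U := ⊤) trivial
    have hcompat : ∀ z : PrimeSpectrum A, PrimeSpectrum.comap q z ∈ (b ⁻¹ᵁ Tk).1 →
        PrimeSpectrum.comap p z ∈ (a ⁻¹ᵁ Tk).1 := by
      intro z hz
      have h3 : a (Spec.map gp z) = b (Spec.map fq z) := congr($hab z)
      change a (PrimeSpectrum.comap p z) ∈ Tk
      have h4 : Spec.map gp z = PrimeSpectrum.comap p z := by rw [hgp]; rfl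
      have h5 : Spec.map fq z = PrimeSpectrum.comap q z := by rw [hfq]; rfl
      rw [← h4, h3, h5]
      exact hz
    obtain ⟨f, hf1, hf2, hf3⟩ := good_f_case2 π₁ π₂ p q P2 hp y y' hy' (a ⁻¹ᵁ Tk).1
      (a ⁻¹ᵁ Tk).2 (b ⁻¹ᵁ Tk).1 (b ⁻¹ᵁ Tk).2 hbTk hcompat
    refine ⟨(Scheme.ΓSpecIso (pullback fq gp)).inv f, ?_, Tk, hTk, ?_, ?_⟩
    · rw [basicOpen_eq_of_affine]; exact hf1
    · rw [basicOpen_eq_of_affine]
      intro x' hx'
      refine hf2 x' ?_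
      rw [hπ₂]
      exact hx'
    · rw [basicOpen_eq_of_affine]
      intro y'' hy''
      refine hf3 y'' ?_
      rw [hπ₁]
      exact hy''
  · obtain ⟨Tk, hTk, haTk, -⟩ :=
      exists_isAffineOpen_mem_and_subset (x := a x) (U := ⊤) trivial
    obtain ⟨f, hf1, hf2, hf3⟩ := good_f_case1 π₁ π₂ p q hc P2 y k hk1 hk2 x hx (a ⁻¹ᵁ Tk).1
      (a ⁻¹ᵁ Tk).2 haTk
    refine ⟨(Scheme.ΓSpecIso (pullback fq gp)).inv f, ?_, Tk, hTk, ?_, ?_⟩
    · rw [basicOpen_eq_of_affine]; exact hf1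
    · rw [basicOpen_eq_of_affine]
      intro x' hx'
      refine hf3 x' ?_
      rw [hπ₂]
      exact hx'
    · rw [basicOpen_eq_of_affine]
      intro y'' hy''
      exfalso
      apply hy''
      change (pullback.fst fq gp).hom f ∈ y''.asIdeal
      rw [← hπ₁, hf2]
      exact zero_mem _

end Helpers


open AlgebraicGeometry CategoryTheory Limits in
/-- For a surjective ring map A' → A and any ring map B → A, the spectra of A, A', B and of the fibre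
product ring B ×_A A' form a pushout square of schemes. -/
theorem result {A A' B : Type u} [CommRing A] [CommRing A'] [CommRing B] (p : A' →+* A) (hp : Function.Surjective p) (q : B →+* A) :
    IsPushout (Spec.map (CommRingCat.ofHom p)) (Spec.map (CommRingCat.ofHom q))
      (Spec.map (pullback.snd (CommRingCat.ofHom q) (CommRingCat.ofHom p)))
      (Spec.map (pullback.fst (CommRingCat.ofHom q) (CommRingCat.ofHom p))) := by
  exact main0433 p hp q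

end Groth.Agent.S0433
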