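import Groth.Statements.S8886
import Mathlib
import Groth.Agent.Lib.helper7.StalkBC

set_option autoImplicit false
universe u
open CategoryTheory CategoryTheory.Limits AlgebraicGeometry TopologicalSpace
open SDiv

namespace Groth.Agent.S8886


theorem flat_fromSpecResidueField_genericPoint (Y : Scheme.{u}) [IsIntegral Y] :
    Flat (Y.fromSpecResidueField (genericPoint ↥Y)) := by
  haveI := Groth.Agent.Lib.helper7.StalkBC.flat_fromSpecStalk Y (genericPoint ↥Y)
  letI : Field (Y.presheaf.stalk (genericPoint ↥Y)) :=
    inferInstanceAs (Field Y.functionField)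
  have hbij : Function.Bijective (Y.residue (genericPoint ↥Y)) :=
    ⟨(Y.residue (genericPoint ↥Y)).hom.injective, IsLocalRing.residue_surjective⟩
  haveI : IsIso (Y.residue (genericPoint ↥Y)) := (ConcreteCategory.isIso_iff_bijective _).2 hbij
  unfold Scheme.fromSpecResidueField
  infer_instance

theorem fromSpecStalk_bot_eq_genericPoint (Y : Scheme.{u}) [IsIntegral Y] (y : Y)
    (r : Spec (Y.presheaf.stalk y)) (hr : r.asIdeal = ⊥) :
    Y.fromSpecStalk y r = genericPoint ↥Y := by
  have h1 : genericPoint ↥Y ⤳ Y.fromSpecStalk y r := genericPoint_specializes _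
  have hmem : genericPoint ↥Y ∈ Set.range (Y.fromSpecStalk y) := by
    rw [Scheme.range_fromSpecStalk]; exact genericPoint_specializes _
  obtain ⟨r', hr'⟩ := hmem
  have h2 : r ⤳ r' :=
    (PrimeSpectrum.le_iff_specializes (r : PrimeSpectrum _) r').1
      (by show r.asIdeal ≤ r'.asIdeal; rw [hr]; exact bot_le)
  have h3 : Y.fromSpecStalk y r ⤳ genericPoint ↥Y := by
    rw [← hr']; exact h2.map (Y.fromSpecStalk y).continuous
  exact (h3.antisymm h1).eq

theorem isReduced_stalk_of_flat {X Y : Scheme.{u}} (f : X ⟶ Y) [Flat f] [IsIntegral Y]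
    [AlgebraicGeometry.IsReduced (f.fiber (genericPoint ↥Y))] (x : X) :
    _root_.IsReduced (X.presheaf.stalk x) := by
  set η := genericPoint ↥Y with hη
  haveI : Flat (Y.fromSpecResidueField η) := flat_fromSpecResidueField_genericPoint Y
  haveI : Flat (f.fiberι η) :=
    MorphismProperty.pullback_fst (P := @Flat) f (Y.fromSpecResidueField η) inferInstance
  set j := X.fromSpecStalk x with hj
  haveI : Flat j := Groth.Agent.Lib.helper7.StalkBC.flat_fromSpecStalk X x
  have key : ∀ q : Spec (X.presheaf.stalk x), f (j q) = η →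
      _root_.IsReduced ((Spec (X.presheaf.stalk x)).presheaf.stalk q) := by
    intro q hq
    have hmem : j q ∈ Set.range (f.fiberι η) := by rw [f.range_fiberι]; exact hq
    obtain ⟨z, hz⟩ := hmem
    have h1 := Groth.Agent.Lib.helper7.StalkBC.bijective_stalkMap (f.fiberι η) z
    have h2 := Groth.Agent.Lib.helper7.StalkBC.bijective_stalkMap j q
    have r1 : _root_.IsReduced (X.presheaf.stalk (f.fiberι η z)) :=
      isReduced_of_injective ((f.fiberι η).stalkMap z).hom h1.1
    rw [hz] at r1
    let e : X.presheaf.stalk (j q) ≃+* (Spec (X.presheaf.stalk x)).presheaf.stalk q :=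
      RingEquiv.ofBijective (j.stalkMap q).hom h2
    exact isReduced_of_injective e.symm.toRingHom e.symm.injective
  refine ⟨fun b hb => ?_⟩
  by_contra hb0
  algebraize [(f.stalkMap x).hom]
  haveI : Module.Flat (Y.presheaf.stalk (f x)) (X.presheaf.stalk x) := Flat.stalkMap f x
  let S : Submonoid (X.presheaf.stalk x) :=
    Algebra.algebraMapSubmonoid (X.presheaf.stalk x) (nonZeroDivisors (Y.presheaf.stalk (f x)))
  let I : Ideal (X.presheaf.stalk x) :=
    LinearMap.ker (LinearMap.toSpanSingleton (X.presheaf.stalk x) (X.presheaf.stalk x) b)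
  have hI : ∀ t, t ∈ I ↔ t * b = 0 := by
    intro t
    simp only [I, LinearMap.mem_ker, LinearMap.toSpanSingleton_apply, smul_eq_mul]
  have hdisj : Disjoint (I : Set (X.presheaf.stalk x)) S := by
    rw [Set.disjoint_left]
    rintro t ht ⟨a, ha, rfl⟩
    rw [SetLike.mem_coe, hI] at ht
    apply hb0
    have hreg := Module.Flat.isSMulRegular_of_nonZeroDivisors (M := X.presheaf.stalk x) ha
    apply hreg
    show a • b = a • 0
    rw [smul_zero, Algebra.smul_def]
    exact ht
  obtain ⟨p, hp, hIp, hpS⟩ := Ideal.exists_le_prime_disjoint I S hdisj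
  let q : Spec (X.presheaf.stalk x) := ⟨p, hp⟩
  have hq : f (j q) = η := by
    rw [← Scheme.Hom.comp_apply, hj, ← Scheme.SpecMap_stalkMap_fromSpecStalk,
      Scheme.Hom.comp_apply]
    apply fromSpecStalk_bot_eq_genericPoint
    rw [eq_bot_iff]
    intro a ha
    by_contra ha0
    have ha0' : a ≠ 0 := ha0
    have haS : algebraMap _ (X.presheaf.stalk x) a ∈ S :=
      ⟨a, mem_nonZeroDivisors_of_ne_zero ha0', rfl⟩
    exact Set.disjoint_left.1 hpS ha haS
  haveI := key q hq
  letI alg : Algebra (X.presheaf.stalk x) ((Spec (X.presheaf.stalk x)).presheaf.stalk q) :=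
    StructureSheaf.stalkAlgebra (X.presheaf.stalk x) q
  haveI : IsLocalization.AtPrime ((Spec (X.presheaf.stalk x)).presheaf.stalk q) p :=
    StructureSheaf.IsLocalization.to_stalk (X.presheaf.stalk x) q
  have hnil : IsNilpotent (algebraMap (X.presheaf.stalk x)
      ((Spec (X.presheaf.stalk x)).presheaf.stalk q) b) := hb.map _
  have hzero := hnil.eq_zero
  rw [IsLocalization.map_eq_zero_iff p.primeCompl] at hzero
  obtain ⟨m, hm⟩ := hzero
  exact m.2 (hIp ((hI _).2 hm))


/-- Let f : X ⟶ Y be a flat morphism of schemes with Y integral. If the scheme-theoretic fibre of f over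
the generic point of Y is integral, then X is integral. -/
theorem result {X Y : Scheme.{u}} (f : X ⟶ Y) [Flat f] [IsIntegral Y]
    (h : IsIntegral (f.fiber (genericPoint ↥Y))) : IsIntegral X := by
  set η := genericPoint ↥Y with hη
  haveI := h
  haveI : ∀ x : X, _root_.IsReduced (X.presheaf.stalk x) := fun x => isReduced_stalk_of_flat f x
  haveI : AlgebraicGeometry.IsReduced X := isReduced_of_isReduced_stalk X
  have hgen : GeneralizingMap f := Flat.generalizingMap f
  have hdense : closure (Set.range (f.fiberι η)) = Set.univ := by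
    rw [f.range_fiberι]
    ext x
    simp only [Set.mem_univ, iff_true]
    obtain ⟨x', hx', hfx'⟩ := hgen (a := x) (b := η) (genericPoint_specializes _)
    exact closure_mono (Set.singleton_subset_iff.2 (show x' ∈ f ⁻¹' {η} from hfx'))
      hx'.mem_closure
  haveI : IrreducibleSpace X := by
    have h1 : IsIrreducible (Set.range (f.fiberι η)) := by
      rw [← Set.image_univ]
      exact (IrreducibleSpace.isIrreducible_univ _).image _
        (f.fiberι η).continuous.continuousOn
    have h2 := h1.closure
    rw [hdense] at h2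
    exact (irreducibleSpace_def X).2 h2
  exact isIntegral_of_irreducibleSpace_of_isReduced X

end Groth.Agent.S8886
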