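import Groth.Statements.S0436
import Mathlib
import Groth.Agent.Lib.helper7.DVRFib
import Groth.Agent.Lib.helper7.LFTNoeth
import Groth.Agent.Lib.helper7.StalkBC
import Groth.Agent.S0421
import Groth.Agent.S8886

set_option autoImplicit false
universe u
open FlatMor

namespace Groth.Agent.S0436


open AlgebraicGeometry CategoryTheory Limits TopologicalSpace

/-- Stalks at points of the special fibre are reduced. -/
theorem isReduced_stalk_of_mem_special {R : Type u} [CommRing R] [IsDomain R]
    [IsDiscreteValuationRing R] {X : Scheme.{u}}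
    (f : X ⟶ Spec (CommRingCat.of R)) [LocallyOfFiniteType f] [Flat f]
    [AlgebraicGeometry.IsReduced (f.fiber (IsLocalRing.closedPoint R))] (x : X)
    (hx : f x = IsLocalRing.closedPoint R) : _root_.IsReduced (X.presheaf.stalk x) := by
  obtain ⟨ϖ, hϖ⟩ := IsDiscreteValuationRing.exists_irreducible R
  haveI : IsLocallyNoetherian X :=
    Groth.Agent.Lib.helper7.LFTNoeth.isLocallyNoetherian_of_locallyOfFiniteType f
  obtain ⟨_, ⟨W, hW, rfl⟩, hxW, -⟩ :=
    X.isBasis_affineOpens.exists_subset_of_mem_open (Set.mem_univ x) isOpen_univ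
  set j := hW.fromSpec with hj
  obtain ⟨ψ, hψ⟩ := Spec.map_surjective (j ≫ f)
  algebraize [ψ.hom]
  haveI hflat : Module.Flat R Γ(X, W) := by
    have h1 : Flat (Spec.map ψ) := by rw [hψ]; infer_instance
    rw [HasRingHomProperty.Spec_iff (P := @Flat)] at h1
    exact h1
  set t := algebraMap R Γ(X, W) ϖ with ht
  have htnzd : t ∈ nonZeroDivisors Γ(X, W) :=
    Groth.Agent.S0421.mem_nonZeroDivisors_of_flat ϖ (mem_nonZeroDivisors_of_ne_zero hϖ.ne_zero)
  have hrad : (Ideal.span {t}).IsRadical := by
    have h2 := Groth.Agent.Lib.helper7.DVRFib.isRadical_map_maximalIdeal f Γ(X, W) j hψ.symm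
    rwa [hϖ.maximalIdeal_eq, Ideal.map_span, Set.image_singleton] at h2
  haveI : IsNoetherianRing Γ(X, W) := IsLocallyNoetherian.component_noetherian ⟨W, hW⟩
  letI := TopCat.Presheaf.algebra_section_stalk X.presheaf ⟨x, hxW⟩
  haveI := hW.isLocalization_stalk ⟨x, hxW⟩
  have htq : t ∈ (hW.primeIdealOf ⟨x, hxW⟩).asIdeal := by
    have h3 : (Spec.map ψ) (hW.primeIdealOf ⟨x, hxW⟩) = IsLocalRing.closedPoint R := by
      rw [hψ, Scheme.Hom.comp_apply, hj, hW.fromSpec_primeIdealOf]
      exact hx
    have h4 : ϖ ∈ ((Spec.map ψ) (hW.primeIdealOf ⟨x, hxW⟩)).asIdeal := by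
      rw [h3]
      show ϖ ∈ IsLocalRing.maximalIdeal R
      rw [hϖ.maximalIdeal_eq]
      exact Ideal.mem_span_singleton_self ϖ
    exact h4
  exact Groth.Agent.Lib.helper7.DVRFib.isReduced_localization_of_mem t htnzd hrad
    (hW.primeIdealOf ⟨x, hxW⟩).asIdeal htq

open AlgebraicGeometry CategoryTheory Limits in
theorem bot_eq_genericPoint (R : Type u) [CommRing R] [IsDomain R] :
    (⟨⊥, Ideal.isPrime_bot⟩ : PrimeSpectrum R) = genericPoint ↥(Spec (CommRingCat.of R)) := by
  have h1 : IsGenericPoint (⟨⊥, Ideal.isPrime_bot⟩ : PrimeSpectrum R) Set.univ := by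
    rw [IsGenericPoint, PrimeSpectrum.closure_singleton]
    simp
  exact h1.eq (genericPoint_spec ↥(Spec (CommRingCat.of R)))


open AlgebraicGeometry CategoryTheory Limits in
open AlgebraicGeometry CategoryTheory Limits in
/-- For a proper flat morphism to the spectrum of a discrete valuation ring whose special fibre is
reduced, both the total space and the generic fibre are reduced. (The published statement is
stronger: instead of flatness it only needs every irreducible component of the total space to
dominate the base.) -/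
theorem result {R : Type u} [CommRing R] [IsDomain R] [IsDiscreteValuationRing R] {X : Scheme.{u}}
    (f : X ⟶ Spec (CommRingCat.of R)) [IsProper f] [Flat f]
    (hred : IsReduced (f.fiber (IsLocalRing.closedPoint R))) :
    IsReduced X ∧ IsReduced (f.fiber (⟨⊥, Ideal.isPrime_bot⟩ : PrimeSpectrum R)) := by
  haveI := hred
  haveI : IsLocallyNoetherian X :=
    Groth.Agent.Lib.helper7.LFTNoeth.isLocallyNoetherian_of_locallyOfFiniteType f
  haveI : CompactSpace X := QuasiCompact.compactSpace_of_compactSpace f
  have hst : ∀ x : X, _root_.IsReduced (X.presheaf.stalk x) := by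
    intro x
    obtain ⟨x₀, hx₀, hcl⟩ := (isClosed_closure (s := ({x} : Set X))).exists_closed_singleton
      ⟨x, subset_closure rfl⟩
    have hsp : x ⤳ x₀ := specializes_iff_mem_closure.2 hx₀
    have hfx₀ : f x₀ = IsLocalRing.closedPoint R := by
      have h1 : IsClosed (f '' {x₀}) := f.isClosedMap _ hcl
      rw [Set.image_singleton] at h1
      have h2 := (PrimeSpectrum.isClosed_singleton_iff_isMaximal (f x₀)).1 h1
      exact PrimeSpectrum.ext (IsLocalRing.eq_maximalIdeal h2)
    haveI := isReduced_stalk_of_mem_special f x₀ hfx₀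
    set jj := X.fromSpecStalk x₀ with hjj
    haveI : Flat jj := Groth.Agent.Lib.helper7.StalkBC.flat_fromSpecStalk X x₀
    have hmem : x ∈ Set.range jj := by rw [hjj, Scheme.range_fromSpecStalk]; exact hsp
    obtain ⟨q, rfl⟩ := hmem
    have hbij := Groth.Agent.Lib.helper7.StalkBC.bijective_stalkMap jj q
    letI alg : Algebra (X.presheaf.stalk x₀) ((Spec (X.presheaf.stalk x₀)).presheaf.stalk q) :=
      StructureSheaf.stalkAlgebra (X.presheaf.stalk x₀) q
    haveI : IsLocalization.AtPrime ((Spec (X.presheaf.stalk x₀)).presheaf.stalk q) q.asIdeal :=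
      StructureSheaf.IsLocalization.to_stalk (X.presheaf.stalk x₀) q
    haveI : _root_.IsReduced ((Spec (X.presheaf.stalk x₀)).presheaf.stalk q) :=
      isReduced_localizationPreserves q.asIdeal.primeCompl _ inferInstance
    exact isReduced_of_injective (jj.stalkMap q).hom hbij.1
  haveI : ∀ x : X, _root_.IsReduced (X.presheaf.stalk x) := hst
  haveI hX : AlgebraicGeometry.IsReduced X := isReduced_of_isReduced_stalk X
  refine ⟨hX, ?_⟩
  rw [bot_eq_genericPoint R]
  set η := genericPoint ↥(Spec (CommRingCat.of R)) with hη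
  haveI : Flat ((Spec (CommRingCat.of R)).fromSpecResidueField η) :=
    Groth.Agent.S8886.flat_fromSpecResidueField_genericPoint _
  haveI : Flat (f.fiberι η) :=
    MorphismProperty.pullback_fst (P := @Flat) f _ inferInstance
  haveI : ∀ z : f.fiber η, _root_.IsReduced ((f.fiber η).presheaf.stalk z) := by
    intro z
    have hbij := Groth.Agent.Lib.helper7.StalkBC.bijective_stalkMap (f.fiberι η) z
    let e : X.presheaf.stalk (f.fiberι η z) ≃+* (f.fiber η).presheaf.stalk z :=
      RingEquiv.ofBijective ((f.fiberι η).stalkMap z).hom hbij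
    exact isReduced_of_injective e.symm.toRingHom e.symm.injective
  exact isReduced_of_isReduced_stalk _

end Groth.Agent.S0436
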