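import Groth.Statements.S0443
import Mathlib

set_option autoImplicit false
universe u
open FlatMor

namespace Groth.Agent.S0443

section Helpers
open AlgebraicGeometry CategoryTheory Limits TopologicalSpace

theorem alg {A B : Type u} [CommRing A] [CommRing B] (φ : A →+* B) (hφ : φ.Finite)
    (p : Ideal A) [p.IsPrime] (q : Ideal B) [q.IsPrime] (hpq : p = q.comap φ)
    (huniq : ∀ q' : Ideal B, q'.IsPrime → q'.comap φ = p → q' = q) :
    (Localization.localRingHom p q φ hpq).Finite := by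
  algebraize [φ]
  have hqp : q.LiesOver p := ⟨hpq⟩
  have hprimes : p.primesOver B = {q} := by
    ext q'
    simp only [Ideal.primesOver, Set.mem_ofPred_eq, Set.mem_singleton_iff]
    constructor
    · rintro ⟨h1, h2⟩
      exact huniq q' h1 h2.over.symm
    · rintro rfl
      exact ⟨inferInstance, hqp⟩
  let := Localization.AtPrime.algebraOfLiesOver p q
  have := Localization.finite_of_primesOver_eq_singleton hprimes
  exact this

theorem main {X Y : Scheme.{u}} (π : X ⟶ Y) [IsFinite π] (x : X)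
    (hx : ∀ x' : ↑X, π x' = π x → x' = x) :
    (π.stalkMap x).hom.Finite := by
  obtain ⟨_, ⟨U, hU, rfl⟩, hxU, -⟩ := (Y.isBasis_affineOpens).exists_subset_of_mem_open
    (Set.mem_univ (π x)) isOpen_univ
  have hV : IsAffineOpen (π ⁻¹ᵁ U) := hU.preimage π
  have hxV : x ∈ π ⁻¹ᵁ U := hxU
  rw [RingHom.finite_respectsIso.arrow_mk_iso_iff
    (IsAffineOpen.arrowStalkMapIso π U hU (π ⁻¹ᵁ U) hV le_rfl hxV)]
  have hφ : (π.appLE U (π ⁻¹ᵁ U) le_rfl).hom.Finite := by
    rw [Scheme.Hom.appLE_eq_app]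
    exact π.finite_app U hU
  have hcomap := IsAffineOpen.comap_primeIdealOf_appLE U hU (π ⁻¹ᵁ U) hV le_rfl hxV
  refine alg _ hφ _ _ (congrArg PrimeSpectrum.asIdeal hcomap).symm ?_
  intro q' hq' hq'p
  -- the point corresponding to q'
  let z : Spec Γ(X, π ⁻¹ᵁ U) := (⟨q', hq'⟩ : PrimeSpectrum Γ(X, π ⁻¹ᵁ U))
  have h1 : π (hV.fromSpec z) = π x := by
    have h2 := IsAffineOpen.SpecMap_appLE_fromSpec π hU hV le_rfl
    have h3 : (Spec.map (π.appLE U (π ⁻¹ᵁ U) le_rfl) ≫ hU.fromSpec) z = (hV.fromSpec ≫ π) z := by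
      rw [h2]
    rw [Scheme.Hom.comp_apply, Scheme.Hom.comp_apply] at h3
    rw [← h3]
    have h4 : (Spec.map (π.appLE U (π ⁻¹ᵁ U) le_rfl)) z = hU.primeIdealOf ⟨π x, hxU⟩ := by
      apply PrimeSpectrum.ext
      exact hq'p
    rw [h4]
    exact hU.fromSpec_primeIdealOf ⟨π x, hxU⟩
  have h5 := hx _ h1
  have h6 : hV.fromSpec z = hV.fromSpec (hV.primeIdealOf ⟨x, hxV⟩) := by
    rw [h5, hV.fromSpec_primeIdealOf ⟨x, hxV⟩]
  have h7 : z = hV.primeIdealOf ⟨x, hxV⟩ := hV.fromSpec.isOpenEmbedding.injective h6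
  exact congrArg PrimeSpectrum.asIdeal h7

end Helpers


open AlgebraicGeometry CategoryTheory Limits in
/-- For a finite morphism π : X → Y and a point x of X that is the only point of its fibre, the induced
homomorphism of local rings O_{Y,π(x)} → O_{X,x} is finite. (The published lemma has further parts,
not stated here.) -/
theorem result {X Y : Scheme.{u}} (π : X ⟶ Y) [IsFinite π] (x : X) (hx : ∀ x' : ↑X, π x' = π x → x' = x) :
    (π.stalkMap x).hom.Finite := by
  exact main π x hx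

end Groth.Agent.S0443
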