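import Groth.Statements.S0445
import Groth.Agent.Lib.helper1.Equalizer

set_option autoImplicit false
universe u
open FlatMor

namespace Groth.Agent.S0445

open AlgebraicGeometry CategoryTheory Limits in
/-- Two morphisms over S into an S-scheme unramified over S which agree at a point and induce the same
map on residue fields there agree on an open neighbourhood of that point. -/
theorem result {X Y S : Scheme.{u}} (p : Y ⟶ S) [FormallyUnramified p] [LocallyOfFiniteType p] (f g : X ⟶ Y) (hfg : f ≫ p = g ≫ p)
    (x : X) (h1 : f x = g x) (h2 : f.residueFieldMap x = (Y.residueFieldCongr h1).hom ≫ g.residueFieldMap x) :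
    ∃ U : X.Opens, x ∈ U ∧ U.ι ≫ f = U.ι ≫ g := by
  obtain ⟨E, ι, hopen, hι, -, huniv⟩ :=
    Groth.Agent.Lib.helper1.EqLib.exists_equalizer p f g hfg
  have hx : X.fromSpecResidueField x ≫ f = X.fromSpecResidueField x ≫ g := by
    rw [← Scheme.Hom.SpecMap_residueFieldMap_fromSpecResidueField,
      ← Scheme.Hom.SpecMap_residueFieldMap_fromSpecResidueField, h2, Spec.map_comp,
      Category.assoc, Scheme.residueFieldCongr_fromSpecResidueField]
  obtain ⟨t', ht'⟩ := huniv _ (X.fromSpecResidueField x) hx
  refine ⟨ι.opensRange, ?_, ?_⟩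
  · have hne : Nonempty (Spec (X.residueField x)) := inferInstance
    obtain ⟨s⟩ := hne
    refine ⟨t' s, ?_⟩
    rw [← Scheme.Hom.comp_apply, ht', Scheme.fromSpecResidueField_apply]
  · have : ι.opensRange.ι = (ι.isoOpensRange).inv ≫ ι := by simp
    rw [this, Category.assoc, Category.assoc, hι]

end Groth.Agent.S0445
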