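import Groth.Statements.S0449
import Groth.Agent.Lib.helper21.FM2
import Groth.Agent.Lib.helper21.FM3
import Groth.Agent.Lib.helper21.FM4

set_option autoImplicit false
universe u
open FlatMor

namespace Groth.Agent.S0449

open AlgebraicGeometry CategoryTheory Limits in
/-- A separated, flat morphism locally of finite type that is an isomorphism over a quasi-compact,
scheme-theoretically dense open of the target is an open immersion. -/
theorem result {X S : Scheme.{u}} (f : X ⟶ S) [IsSeparated f] [LocallyOfFiniteType f] [Flat f] (U : S.Opens)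
    [QuasiCompact U.ι] [IsSchemeTheoreticallyDominant U.ι] [IsIso (f ∣_ U)] : IsOpenImmersion f := by
  haveI : Mono f := Groth.Agent.H21.FM.mono_of_iso_over_dense f U
  haveI : ∀ x, IsIso (f.stalkMap x) := fun x => Groth.Agent.H21.FM.isIso_stalkMap_of_flat_mono f x
  refine IsOpenImmersion.of_isIso_stalkMap f ?_
  refine Topology.IsOpenEmbedding.of_continuous_injective_isOpenMap f.continuous f.injective ?_
  intro T hT
  rw [isOpen_iff_forall_mem_open]
  rintro _ ⟨x, hxT, rfl⟩
  obtain ⟨V, W, hV, hW, e, hxW, hWT, hsurj⟩ :=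
    Groth.Agent.H21.FM.exists_closedImm_nhd f x
      (ConcreteCategory.bijective_of_isIso (f.stalkMap x)).2 ⟨T, hT⟩ hxT
  exact ⟨f '' (W : Set X), Set.image_mono hWT,
    Groth.Agent.H21.FM.isOpen_image_of_closedImm f U V W hV hW e hsurj, ⟨x, hxW, rfl⟩⟩

end Groth.Agent.S0449
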