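import Groth.Statements.S0455
import Groth.Agent.Lib.helper18.CechTop
import Groth.Agent.Lib.helper18.Flasque

set_option autoImplicit false
universe u
open CategoryTheory
open CohTop

namespace Groth.Agent.S0455

open TopologicalSpace CategoryTheory.Limits in
/-- If F is a flasque abelian sheaf on X, then for any family of opens the Cech cohomology groups of F
in positive degree are zero. -/
theorem result {X : TopCat.{u}} (F : CohTop.Ab X) [TopCat.Sheaf.IsFlasque F]
    {ι : Type u} (U : ι → Opens X) (p : ℕ) : IsZero (CohTop.cechH F.obj U (p + 1)) := by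
  have hsub : ∀ (q : ℕ) (V : Opens X), Subsingleton (CohTop.HU F (q + 1) V) := fun q V =>
    ⟨fun x y => (Groth.Agent.H18.Flasque.ext_freeSheaf_eq_zero F V q x).trans
      (Groth.Agent.H18.Flasque.ext_freeSheaf_eq_zero F V q y).symm⟩
  obtain ⟨e⟩ := Groth.Agent.H18.CechTop.cech_iso_top U F (fun p a q => hsub q _) (p + 1)
  have := hsub p (iSup U)
  have : Subsingleton (CohTop.cechH F.obj U (p + 1)) := e.toEquiv.subsingleton
  exact AddCommGrpCat.isZero_of_subsingleton _

end Groth.Agent.S0455
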