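import Groth.Statements.S0474
import Mathlib
import Groth.Agent.Lib.helper2.Compact
-- import your own Groth.Agent.* helpers here

set_option autoImplicit false
universe v u u'
open CategoryTheory
open CohDer

namespace Groth.Agent.S0474

open CategoryTheory.Limits in
/-- Let D be a compactly generated triangulated category with direct sums and F : D ⥤ D' an exact
functor of (pre)triangulated categories commuting with direct sums. Then F is a left adjoint. (The
source also shows the adjoint is exact; we only assert existence.) -/
theorem result {D : Type u} [Category.{v} D] [Preadditive D] [Limits.HasZeroObject D] [HasShift D ℤ]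
    [∀ n : ℤ, (shiftFunctor D n).Additive] [Pretriangulated D] [IsTriangulated D] [HasCoproducts.{v} D]
    {D' : Type u'} [Category.{v} D'] [Preadditive D'] [Limits.HasZeroObject D'] [HasShift D' ℤ]
    [∀ n : ℤ, (shiftFunctor D' n).Additive] [Pretriangulated D']
    (hD : CohDer.IsCompactlyGenerated D) (F : D ⥤ D') [F.CommShift ℤ] [F.IsTriangulated]
    [∀ (ι : Type v), PreservesColimitsOfShape (Discrete ι) F] : F.IsLeftAdjoint := by
  open Groth.Agent.Lib.helper2.Brown Groth.Agent.Lib.helper2.Compact in
  obtain ⟨ι, E, hEc, hEg⟩ := hD
  have : HasCoproductsOfShape ℕ D := hasCoproductsOfShape_nat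
  exact isLeftAdjoint_of_brown (shifts E) F
    (perfect_shifts E (fun X i α => by
      obtain ⟨β, γ, h⟩ := h2_of_compact (hEc i) X α
      exact ⟨fun _ => i, β, γ, h⟩))
    (fun Q hQ => pe_shifts_shift E hQ (-1)) (hgen_of_generates E hEg)

end Groth.Agent.S0474
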