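import Groth.Statements.S0475
import Mathlib
import Groth.Agent.Lib.helper2.Compact
-- import your own Groth.Agent.* helpers here

set_option autoImplicit false
universe v u
open CategoryTheory
open CohDer

namespace Groth.Agent.S0475

open CategoryTheory.Limits in
/-- In a pretriangulated category with direct sums the property of being a compact object contains zero,
is stable under all shifts and is closed under extensions in distinguished triangles (a triangulated
subcategory in Mathlib's sense). The source also shows it is Karoubian and saturated. -/
theorem result {D : Type u} [Category.{v} D] [Preadditive D] [Limits.HasZeroObject D] [HasShift D ℤ]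
    [∀ n : ℤ, (shiftFunctor D n).Additive] [Pretriangulated D] [HasCoproducts.{v} D] :
    ObjectProperty.IsTriangulated (fun K : D => CohDer.IsCompactObject K) := by
  open Groth.Agent.Lib.helper2.Compact ZeroObject in
  exact
    { toContainsZero := ⟨⟨(0 : D), Limits.isZero_zero D, isCompactObject_of_isZero (Limits.isZero_zero D)⟩⟩
      toIsStableUnderShift := ⟨fun n => ⟨fun K hK => isCompactObject_shift hK n⟩⟩
      toIsTriangulatedClosed₂ := ⟨fun T hT h₁ h₃ =>
        ObjectProperty.le_isoClosure _ _ (isCompactObject_ext₂ T hT h₁ h₃)⟩ }

end Groth.Agent.S0475
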