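import Groth.Statements.S0480
import Mathlib

set_option autoImplicit false
universe v u
open CategoryTheory
open CohDer

namespace Groth.Agent.S0480

open CategoryTheory.Limits in
/-- In an abelian category, if the product of a family of K-injective cochain complexes exists (it is
then the termwise product), it is again K-injective. -/
theorem result {A : Type u} [Category.{v} A] [Abelian A] {T : Type v} (I : T → CochainComplex A ℤ)
    [HasProduct I] (h : ∀ t, (I t).IsKInjective) : (∏ᶜ I).IsKInjective := by
  constructor
  intro K f hK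
  have hc : ∀ j : ℤ, ∃ i, (ComplexShape.up ℤ).Rel i j := fun j => ⟨j - 1, by simp⟩
  -- null-homotopies of the components
  have hα : ∀ t, Homotopy (𝟙 K ≫ f ≫ Pi.π I t) 0 := fun t =>
    (Homotopy.ofEq (by simp)).trans
      (CochainComplex.IsKInjective.homotopyZero (f ≫ Pi.π I t) hK)
  let g : HomologicalComplex.homotopyCofiber (𝟙 K) ⟶ ∏ᶜ I :=
    Pi.lift fun t => HomologicalComplex.homotopyCofiber.desc (𝟙 K) (f ≫ Pi.π I t) (hα t)
  have hg : HomologicalComplex.homotopyCofiber.inr (𝟙 K) ≫ g = f := by
    apply Pi.hom_ext
    intro t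
    simp [g]
  refine ⟨(Homotopy.ofEq ?_).trans
    (((HomologicalComplex.homotopyCofiber.inrCompHomotopy (𝟙 K) hc).compRight g).trans
      (Homotopy.ofEq (by simp)))⟩
  rw [Category.assoc, Category.id_comp, hg]

end Groth.Agent.S0480
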