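import Groth.Statements.S0481
import Mathlib

set_option autoImplicit false
universe v u
open CategoryTheory
open CohDer

namespace Groth.Agent.S0481

open CategoryTheory.Limits in
/-- Let u : A ⥤ B be right adjoint to an exact additive functor w : B ⥤ A between abelian categories.
Then u applied termwise sends K-injective complexes to K-injective complexes. -/
theorem result {A : Type u} [Category.{v} A] [Abelian A]
    {B : Type u} [Category.{v} B] [Abelian B] (u : A ⥤ B) (w : B ⥤ A) (adj : w ⊣ u)
    [u.Additive] [w.Additive] [PreservesFiniteLimits w] [PreservesFiniteColimits w]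
    (I : CochainComplex A ℤ) (h : I.IsKInjective) :
    CochainComplex.IsKInjective ((u.mapHomologicalComplex (ComplexShape.up ℤ)).obj I) := by
  constructor
  intro K f hK
  let fn : ∀ n, K.X n ⟶ u.obj (I.X n) := fun n => f.f n
  have hcomm : ∀ i j, fn i ≫ u.map (I.d i j) = K.d i j ≫ fn j := fun i j => f.comm i j
  -- the adjoint morphism
  let f' : (w.mapHomologicalComplex (ComplexShape.up ℤ)).obj K ⟶ I :=
    { f := fun n => (adj.homEquiv _ _).symm (fn n)
      comm' := by
        intro i j hij
        change (adj.homEquiv _ _).symm (fn i) ≫ I.d i j =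
          w.map (K.d i j) ≫ (adj.homEquiv _ _).symm (fn j)
        rw [← Adjunction.homEquiv_naturality_left_symm, ← Adjunction.homEquiv_naturality_right_symm,
          hcomm] }
  have hwK : ((w.mapHomologicalComplex (ComplexShape.up ℤ)).obj K).Acyclic := by
    intro n
    have := hK n
    rw [HomologicalComplex.exactAt_iff] at this ⊢
    exact this.map w
  have h' : Homotopy f' 0 := CochainComplex.IsKInjective.homotopyZero f' hwK
  let hn : ∀ i j, w.obj (K.X i) ⟶ I.X j := fun i j => h'.hom i j
  have hzero : ∀ i j, ¬ (ComplexShape.up ℤ).Rel j i → hn i j = 0 := fun i j hij => h'.zero i j hij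
  have hcomm' : ∀ i : ℤ, (adj.homEquiv _ _).symm (fn i) =
      w.map (K.d i (i + 1)) ≫ hn (i + 1) i + hn i (i - 1) ≫ I.d (i - 1) i := by
    intro i
    have e := h'.comm i
    have hi1 : (ComplexShape.up ℤ).Rel i (i + 1) := by simp
    have hi2 : (ComplexShape.up ℤ).Rel (i - 1) i := by simp
    rw [dNext_eq _ hi1, prevD_eq _ hi2] at e
    simp only [HomologicalComplex.zero_f, add_zero] at e
    exact e
  refine ⟨{ hom := fun i j => adj.homEquiv _ _ (hn i j)
            zero := ?_
            comm := ?_ }⟩
  · intro i j hij
    rw [hzero i j hij]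
    exact Adjunction.homAddEquiv_zero adj _ _
  · intro i
    have hi1 : (ComplexShape.up ℤ).Rel i (i + 1) := by simp
    have hi2 : (ComplexShape.up ℤ).Rel (i - 1) i := by simp
    rw [dNext_eq _ hi1, prevD_eq _ hi2]
    simp only [HomologicalComplex.zero_f, add_zero]
    have e2 := congrArg (adj.homEquiv _ _) (hcomm' i)
    rw [Equiv.apply_symm_apply, Adjunction.homAddEquiv_add, Adjunction.homEquiv_naturality_left,
      Adjunction.homEquiv_naturality_right] at e2
    exact e2

end Groth.Agent.S0481
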