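import Groth.Agent.Lib.helper10.ModColim
import Groth.Statements.S0484

set_option autoImplicit false
universe u
open CategoryTheory
open CohSite

namespace Groth.Agent.S0484
open Groth.Agent.Lib.helper10

/-- For a sheaf of rings O on a small site, the category of O-modules has exact filtered colimits and a
generator, so it is a Grothendieck abelian category. -/
theorem result {C : Type u} [SmallCategory C] (J : GrothendieckTopology C)
    (R : Sheaf J RingCat.{u}) : IsGrothendieckAbelian.{u} (SheafOfModules.{u} R) := by
  exact ModColim.isGrothendieckAbelian R

end Groth.Agent.S0484
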