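import Mathlib
import Groth.Agent.S0481
import Groth.Agent.Lib.helper10.ExtZero
import Groth.Statements.S0488

set_option autoImplicit false
universe u
open CohTop

namespace Groth.Agent.S0488

open TopologicalSpace in
/-- For an open U of X, restriction to U sends K-injective complexes of abelian sheaves on X to
K-injective complexes on U. -/
theorem result {X : TopCat.{u}} (U : Opens X) (I : CochainComplex (CohTop.Ab X) ℤ)
    (h : I.IsKInjective) :
    CochainComplex.IsKInjective (((CohTop.restrFunctor U).mapHomologicalComplex (ComplexShape.up ℤ)).obj I) := by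
  have H : Topology.IsOpenEmbedding (TopCat.Hom.hom (TopCat.ofHom ⟨_, continuous_subtype_val⟩ :
      TopCat.of U ⟶ X)) := U.isOpenEmbedding
  let w : CategoryTheory.Functor (CohTop.Ab (TopCat.of U)) (CohTop.Ab X) :=
    Groth.Agent.Lib.helper10.ExtZero.extZero H
  have : w.Additive := Groth.Agent.Lib.helper10.ExtZero.extZero_additive H
  have : CategoryTheory.Limits.PreservesFiniteLimits w :=
    Groth.Agent.Lib.helper10.ExtZero.extZero_preservesFiniteLimits H
  have : CategoryTheory.Limits.PreservesFiniteColimits w :=
    Groth.Agent.Lib.helper10.ExtZero.extZero_preservesFiniteColimits H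
  exact Groth.Agent.S0481.result (CohTop.restrFunctor U) w
    (Groth.Agent.Lib.helper10.ExtZero.extZeroAdj H) I h

end Groth.Agent.S0488
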