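import Groth.Statements.S0490
import Mathlib
-- import your own Groth.Agent.* helpers here

set_option autoImplicit false
universe v u
open CategoryTheory
open CohDer

open CategoryTheory.Limits Pretriangulated

namespace Groth.Agent.S0490

open CategoryTheory.Pretriangulated in
/-- Let A be a full triangulated subcategory of a pretriangulated category D (an object property
containing zero, stable under shifts and closed under extensions). The inclusion A → D is a left
adjoint (i.e. has a right adjoint) if and only if every object X of D fits in a distinguished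
triangle A → X → B → A[1] with A in the subcategory and B right orthogonal to it. (The source's
further conclusions about saturation are not asserted.) -/
theorem result {D : Type u} [Category.{v} D] [Preadditive D] [Limits.HasZeroObject D] [HasShift D ℤ]
    [∀ n : ℤ, (shiftFunctor D n).Additive] [Pretriangulated D]
    (P : ObjectProperty D) [P.IsTriangulated] :
    P.ι.IsLeftAdjoint ↔ ∀ X : D, ∃ (A B : D) (f : A ⟶ X) (g : X ⟶ B) (h : B ⟶ (shiftFunctor D (1 : ℤ)).obj A),
      Triangle.mk f g h ∈ distinguishedTriangles ∧ P A ∧ P.rightOrthogonal B := by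
  constructor
  · intro hadj X
    let R := P.ι.rightAdjoint
    let adj : P.ι ⊣ R := Adjunction.ofIsLeftAdjoint P.ι
    let f : (R.obj X).obj ⟶ X := adj.counit.app X
    have surj : ∀ (A' : D) (hA' : P A') (ψ : A' ⟶ X),
        ∃ a : A' ⟶ (R.obj X).obj, a ≫ f = ψ := by
      intro A' hA' ψ
      let A'' : P.FullSubcategory := ⟨A', hA'⟩
      refine ⟨(adj.homEquiv A'' X ψ).hom, ?_⟩
      have := (adj.homEquiv A'' X).symm_apply_apply ψ
      rw [Adjunction.homEquiv_counit] at this
      exact this
    have inj : ∀ (A' : D) (hA' : P A') (a : A' ⟶ (R.obj X).obj),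
        a ≫ f = 0 → a = 0 := by
      intro A' hA' a ha
      let A'' : P.FullSubcategory := ⟨A', hA'⟩
      have h1 : (adj.homEquiv A'' X).symm (ObjectProperty.homMk a) =
          (adj.homEquiv A'' X).symm (ObjectProperty.homMk 0) := by
        rw [Adjunction.homEquiv_counit, Adjunction.homEquiv_counit]
        change a ≫ f = 0 ≫ f
        rw [ha, zero_comp]
      have h2 := (adj.homEquiv A'' X).symm.injective h1
      exact congrArg InducedCategory.Hom.hom h2
    have hshift : ∀ (A' : D) (hA' : P A') (b : A' ⟶ ((R.obj X).obj)⟦(1 : ℤ)⟧),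
        b ≫ f⟦(1 : ℤ)⟧' = 0 → b = 0 := by
      intro A' hA' b hb
      let e := shiftFunctorCompIsoId D (1 : ℤ) (-1) (by norm_num)
      have nat := e.hom.naturality f
      have h3 : (b⟦(-1 : ℤ)⟧' ≫ e.hom.app _) ≫ f = 0 := by
        have h4 : (b⟦(-1 : ℤ)⟧' ≫ e.hom.app _) ≫ f =
            (b ≫ f⟦(1 : ℤ)⟧')⟦(-1 : ℤ)⟧' ≫ e.hom.app X := by
          rw [Functor.map_comp, Category.assoc, Category.assoc]
          congr 1
          exact nat.symm
        rw [h4, hb, Functor.map_zero, zero_comp]
      have h5 := inj _ (P.le_shift (-1 : ℤ) _ hA') _ h3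
      have h6 : b⟦(-1 : ℤ)⟧' = 0 := by
        rw [← cancel_mono (e.hom.app _), h5, zero_comp]
      exact (shiftFunctor D (-1 : ℤ)).map_injective (by rw [h6, Functor.map_zero])
    obtain ⟨Z, g, h, hT⟩ := Pretriangulated.distinguished_cocone_triangle f
    refine ⟨(R.obj X).obj, Z, f, g, h, hT, (R.obj X).property, ?_⟩
    intro A' φ hA'
    have hhf : h ≫ f⟦(1 : ℤ)⟧' = 0 := Pretriangulated.comp_distTriang_mor_zero₃₁ _ hT
    have hfg : f ≫ g = 0 := Pretriangulated.comp_distTriang_mor_zero₁₂ _ hT
    have h1 : φ ≫ h = 0 := by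
      apply hshift A' hA'
      rw [Category.assoc, hhf, comp_zero]
    obtain ⟨ψ, hψ⟩ : ∃ ψ : A' ⟶ X, φ = ψ ≫ g :=
      Pretriangulated.Triangle.coyoneda_exact₃ _ hT φ h1
    obtain ⟨a, ha⟩ := surj A' hA' ψ
    have h7 : φ = (a ≫ f) ≫ g := by rw [ha]; exact hψ
    rw [h7, Category.assoc, hfg, comp_zero]
  · intro htri
    rw [isLeftAdjoint_iff_hasTerminal_costructuredArrow]
    intro X
    obtain ⟨A, B, f, g, h, hT, hA, hB⟩ := htri X
    let A₀ : P.FullSubcategory := ⟨A, hA⟩
    let t : CostructuredArrow P.ι X := CostructuredArrow.mk (Y := A₀) f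
    have ex : ∀ Y : CostructuredArrow P.ι X, ∃ u : Y.left.obj ⟶ A, u ≫ f = Y.hom := by
      intro Y
      have h0 : Y.hom ≫ g = 0 := hB _ Y.left.property
      obtain ⟨u, hu⟩ := Pretriangulated.Triangle.coyoneda_exact₂ _ hT Y.hom h0
      exact ⟨u, hu.symm⟩
    have uniq : ∀ (A' : D) (hA' : P A') (v : A' ⟶ A), v ≫ f = 0 → v = 0 := by
      intro A' hA' v hv
      obtain ⟨w, hw⟩ : ∃ w : A' ⟶ B⟦(-1 : ℤ)⟧, v = w ≫ (Triangle.mk f g h).invRotate.mor₁ :=
        Pretriangulated.Triangle.coyoneda_exact₂ _
          (Pretriangulated.inv_rot_of_distTriang _ hT) v hv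
      have hB' : P.rightOrthogonal (B⟦(-1 : ℤ)⟧) := P.rightOrthogonal.le_shift (-1 : ℤ) _ hB
      have hw0 : w = 0 := hB' w hA'
      rw [hw, hw0]
      exact zero_comp
    have ht : Limits.IsTerminal t := by
      refine Limits.IsTerminal.ofUniqueHom
        (fun Y => CostructuredArrow.homMk (ObjectProperty.homMk (ex Y).choose) (ex Y).choose_spec)
        (fun Y m => ?_)
      apply CostructuredArrow.hom_ext
      apply ObjectProperty.hom_ext
      let mh : Y.left.obj ⟶ A := m.left.hom
      have h1 : mh ≫ f = Y.hom := CostructuredArrow.w m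
      have h2 := (ex Y).choose_spec
      have h3 : (mh - (ex Y).choose) ≫ f = 0 := by
        rw [Preadditive.sub_comp, h1, h2, sub_self]
      have h4 := uniq _ Y.left.property _ h3
      exact sub_eq_zero.1 h4
    exact ht.hasTerminal

end Groth.Agent.S0490
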