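import Groth.Statements.S0496
import Groth.Agent.Lib.lead.HenselLocal
-- import your own Groth.Agent.* helpers here

set_option autoImplicit false
universe u
open Hensel

namespace Groth.Agent.S0496

/-- If every factorization of the reduction of a monic polynomial into two coprime factors over the
residue field lifts to a factorization over the local ring, then the local ring is henselian. -/
theorem result (R : Type u) [CommRing R] [IsLocalRing R]
    (h : ∀ f : Polynomial R, f.Monic →
      ∀ g₀ h₀ : Polynomial (IsLocalRing.ResidueField R), IsCoprime g₀ h₀ →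
      Polynomial.map (IsLocalRing.residue R) f = g₀ * h₀ →
      ∃ g h : Polynomial R, f = g * h ∧ Polynomial.map (IsLocalRing.residue R) g = g₀ ∧
        Polynomial.map (IsLocalRing.residue R) h = h₀) :
    HenselianLocalRing R := by
  classical
  refine { is_henselian := fun f hf a₀ h₁ h₂ => ?_ }
  have hroot : (f.map (IsLocalRing.residue R)).IsRoot (IsLocalRing.residue R a₀) := by
    rw [Polynomial.IsRoot, Polynomial.eval_map, Polynomial.eval₂_at_apply]
    exact (Ideal.Quotient.eq_zero_iff_mem).mpr h₁
  obtain ⟨h₀, hh₀⟩ := Polynomial.dvd_iff_isRoot.mpr hroot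
  have hder : (Polynomial.derivative (f.map (IsLocalRing.residue R))).eval (IsLocalRing.residue R a₀) ≠ 0 := by
    rw [Polynomial.derivative_map, Polynomial.eval_map, Polynomial.eval₂_at_apply]
    exact (IsLocalRing.residue_ne_zero_iff_isUnit _).mpr h₂
  have hh₀ne : h₀.eval (IsLocalRing.residue R a₀) ≠ 0 := by
    rw [hh₀, Polynomial.derivative_mul] at hder
    simpa using hder
  have hcop : IsCoprime (Polynomial.X - Polynomial.C (IsLocalRing.residue R a₀)) h₀ := by
    rw [(Polynomial.irreducible_X_sub_C _).coprime_iff_not_dvd, Polynomial.dvd_iff_isRoot]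
    exact hh₀ne
  obtain ⟨g, h', hfg, hg, -⟩ := h f hf _ h₀ hcop hh₀
  obtain ⟨b, hb, hba⟩ := Groth.Agent.Lib.lead.HenselLocal.exists_root_of_factor hf hfg a₀ hg
  refine ⟨b, ?_, hba⟩
  rw [Polynomial.IsRoot, hfg, Polynomial.eval_mul, hb, zero_mul]

end Groth.Agent.S0496
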