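import Groth.Statements.S0497
import Mathlib
import Groth.Agent.Lib.lead.HenselMv
-- import your own Groth.Agent.* helpers here

set_option autoImplicit false
universe u
open Hensel

namespace Groth.Agent.S0497

open Polynomial

section defs
variable {A : Type*} [CommRing A] (d N : ℕ)

/-- extension by zero of a vector. -/
def ext (x : Fin (N + 1) → A) (a : ℕ) : A := if h : a < N + 1 then x ⟨a, h⟩ else 0

/-- coefficients of the monic candidate. -/
def gx (x : Fin (N + 1) → A) (a : ℕ) : A :=
  if a < d then ext N x a else if a = d then 1 else 0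

/-- coefficients of the cofactor candidate. -/
def hx (x : Fin (N + 1) → A) (b : ℕ) : A :=
  if b ≤ N - d then ext N x (d + b) else 0

/-- coefficients of the low part. -/
def ux (x : Fin (N + 1) → A) (a : ℕ) : A :=
  if a < d then ext N x a else 0

/-- the monic candidate. -/
noncomputable def gp (x : Fin (N + 1) → A) : A[X] :=
  ∑ a ∈ Finset.range (d + 1), C (gx d N x a) * X ^ a

/-- the cofactor candidate. -/
noncomputable def hp (x : Fin (N + 1) → A) : A[X] :=
  ∑ b ∈ Finset.range (N - d + 1), C (hx d N x b) * X ^ b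

/-- the low part. -/
noncomputable def up (x : Fin (N + 1) → A) : A[X] :=
  ∑ a ∈ Finset.range d, C (ux d N x a) * X ^ a

theorem coeff_gp (x : Fin (N + 1) → A) (a : ℕ) : (gp d N x).coeff a = gx d N x a := by
  rw [gp, finsetSum_coeff]
  simp only [coeff_C_mul_X_pow]
  rw [Finset.sum_ite_eq]
  split_ifs with h
  · rfl
  · rw [Finset.mem_range, not_lt] at h
    rw [gx, if_neg (by omega), if_neg (by omega)]

theorem coeff_hp (x : Fin (N + 1) → A) (b : ℕ) : (hp d N x).coeff b = hx d N x b := by
  rw [hp, finsetSum_coeff]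
  simp only [coeff_C_mul_X_pow]
  rw [Finset.sum_ite_eq]
  split_ifs with h
  · rfl
  · rw [Finset.mem_range, not_lt] at h
    rw [hx, if_neg (by omega)]

theorem coeff_up (x : Fin (N + 1) → A) (a : ℕ) : (up d N x).coeff a = ux d N x a := by
  rw [up, finsetSum_coeff]
  simp only [coeff_C_mul_X_pow]
  rw [Finset.sum_ite_eq]
  split_ifs with h
  · rfl
  · rw [Finset.mem_range, not_lt] at h
    rw [ux, if_neg (by omega)]

theorem gp_eq (x : Fin (N + 1) → A) : gp d N x = X ^ d + up d N x := by
  ext a
  rw [coeff_add, coeff_gp, coeff_up, coeff_X_pow, gx, ux]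
  by_cases h1 : a < d
  · rw [if_pos h1, if_pos h1, if_neg (by omega), zero_add]
  · rw [if_neg h1, if_neg h1, add_zero]

theorem degree_up_lt (x : Fin (N + 1) → A) : (up d N x).degree < (d : WithBot ℕ) := by
  rw [Polynomial.degree_lt_iff_coeff_zero]
  intro m hm
  rw [coeff_up, ux, if_neg (by omega)]

theorem natDegree_hp_le (x : Fin (N + 1) → A) : (hp d N x).natDegree ≤ N - d := by
  rw [Polynomial.natDegree_le_iff_coeff_eq_zero]
  intro m hm
  rw [coeff_hp, hx, if_neg (by omega)]

theorem monic_gp [Nontrivial A] (x : Fin (N + 1) → A) : (gp d N x).Monic := by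
  rw [gp_eq]
  exact Polynomial.monic_X_pow_add (degree_up_lt d N x)

theorem natDegree_gp [Nontrivial A] (x : Fin (N + 1) → A) : (gp d N x).natDegree = d := by
  rw [gp_eq]
  have h := degree_up_lt d N x
  have h1 : (X ^ d + up d N x : A[X]).degree = d := by
    rw [Polynomial.degree_add_eq_left_of_degree_lt (by rwa [degree_X_pow]), degree_X_pow]
  exact Polynomial.natDegree_eq_of_degree_eq_some h1

variable {B : Type*} [CommRing B] (φ : A →+* B)

theorem map_ext (x : Fin (N + 1) → A) (a : ℕ) : φ (ext N x a) = ext N (φ ∘ x) a := by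
  unfold ext
  split_ifs
  · rfl
  · exact map_zero φ

theorem map_gx (x : Fin (N + 1) → A) (a : ℕ) : φ (gx d N x a) = gx d N (φ ∘ x) a := by
  unfold gx
  split_ifs
  · exact map_ext N φ x a
  · exact map_one φ
  · exact map_zero φ

theorem map_hx (x : Fin (N + 1) → A) (a : ℕ) : φ (hx d N x a) = hx d N (φ ∘ x) a := by
  unfold hx
  split_ifs
  · exact map_ext N φ x _
  · exact map_zero φ

theorem map_gp (x : Fin (N + 1) → A) : (gp d N x).map φ = gp d N (φ ∘ x) := by
  ext a
  rw [coeff_map, coeff_gp, coeff_gp, map_gx]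

theorem map_hp (x : Fin (N + 1) → A) : (hp d N x).map φ = hp d N (φ ∘ x) := by
  ext a
  rw [coeff_map, coeff_hp, coeff_hp, map_hx]

end defs

section P
variable {R : Type u} [CommRing R] (d N : ℕ) (f : R[X])

/-- the system of equations. -/
noncomputable def P (i : Fin (N + 1)) : MvPolynomial (Fin (N + 1)) R :=
  ∑ p ∈ Finset.HasAntidiagonal.antidiagonal (i : ℕ),
    gx d N (MvPolynomial.X : Fin (N + 1) → MvPolynomial (Fin (N + 1)) R) p.1 *
      hx d N (MvPolynomial.X : Fin (N + 1) → MvPolynomial (Fin (N + 1)) R) p.2 -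
    MvPolynomial.C (f.coeff i)

theorem eval_comp_X (y : Fin (N + 1) → R) :
    (MvPolynomial.eval y : MvPolynomial (Fin (N + 1)) R →+* R) ∘ MvPolynomial.X = y := by
  ext j; simp

theorem eval_P (y : Fin (N + 1) → R) (i : Fin (N + 1)) :
    MvPolynomial.eval y (P d N f i) = (gp d N y * hp d N y - f).coeff i := by
  rw [P, map_sub, map_sum, MvPolynomial.eval_C, coeff_sub, coeff_mul]
  congr 1
  apply Finset.sum_congr rfl
  intro p _
  rw [map_mul, map_gx, map_hx, coeff_gp, coeff_hp, eval_comp_X]

theorem pderiv_ext (j : Fin (N + 1)) (a : ℕ) :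
    MvPolynomial.pderiv j
      (ext N (MvPolynomial.X : Fin (N + 1) → MvPolynomial (Fin (N + 1)) R) a) =
      if (j : ℕ) = a then 1 else 0 := by
  classical
  unfold ext
  split_ifs with h1 h2 h2
  · rw [MvPolynomial.pderiv_X]
    have : j = ⟨a, h1⟩ := Fin.ext h2
    rw [this, Pi.single_eq_same]
  · rw [MvPolynomial.pderiv_X, Pi.single_eq_of_ne]
    intro h; apply h2; rw [← h]
  · exfalso; have := j.2; omega
  · exact map_zero _

/-- Jacobian entries. -/
def Jf {A : Type*} [CommRing A] (y : Fin (N + 1) → A) (i j : Fin (N + 1)) : A :=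
  ∑ p ∈ Finset.HasAntidiagonal.antidiagonal (i : ℕ),
    ((if p.1 < d ∧ (j : ℕ) = p.1 then 1 else 0) * hx d N y p.2 +
      gx d N y p.1 * (if p.2 ≤ N - d ∧ (j : ℕ) = d + p.2 then 1 else 0))

theorem pderiv_gx (j : Fin (N + 1)) (a : ℕ) :
    MvPolynomial.pderiv j
      (gx d N (MvPolynomial.X : Fin (N + 1) → MvPolynomial (Fin (N + 1)) R) a) =
      if a < d ∧ (j : ℕ) = a then 1 else 0 := by
  unfold gx
  by_cases h1 : a < d
  · rw [if_pos h1, pderiv_ext]
    by_cases h2 : (j : ℕ) = a
    · rw [if_pos h2, if_pos ⟨h1, h2⟩]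
    · rw [if_neg h2, if_neg (fun h => h2 h.2)]
  · have hr : (if a < d ∧ (j : ℕ) = a then (1 : MvPolynomial (Fin (N + 1)) R) else 0) = 0 :=
      if_neg (fun h => h1 h.1)
    rw [if_neg h1, hr]
    split_ifs
    · exact Derivation.map_one_eq_zero _
    · exact map_zero _

theorem pderiv_hx (j : Fin (N + 1)) (b : ℕ) :
    MvPolynomial.pderiv j
      (hx d N (MvPolynomial.X : Fin (N + 1) → MvPolynomial (Fin (N + 1)) R) b) =
      if b ≤ N - d ∧ (j : ℕ) = d + b then 1 else 0 := by
  unfold hx
  by_cases h1 : b ≤ N - d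
  · rw [if_pos h1, pderiv_ext]
    by_cases h2 : (j : ℕ) = d + b
    · rw [if_pos h2, if_pos ⟨h1, h2⟩]
    · rw [if_neg h2, if_neg (fun h => h2 h.2)]
  · have hr : (if b ≤ N - d ∧ (j : ℕ) = d + b then (1 : MvPolynomial (Fin (N + 1)) R) else 0) = 0 :=
      if_neg (fun h => h1 h.1)
    rw [if_neg h1, hr]
    exact map_zero _

theorem eval_pderiv_P (y : Fin (N + 1) → R) (i j : Fin (N + 1)) :
    MvPolynomial.eval y (MvPolynomial.pderiv j (P d N f i)) = Jf d N y i j := by
  rw [P, map_sub, MvPolynomial.pderiv_C, sub_zero, map_sum, map_sum, Jf]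
  apply Finset.sum_congr rfl
  intro p _
  rw [Derivation.leibniz, pderiv_gx, pderiv_hx, smul_eq_mul, smul_eq_mul, map_add, map_mul, map_mul,
    map_gx, map_hx, eval_comp_X, add_comm]
  congr 1
  · rw [mul_comm]; congr 1; split_ifs <;> simp
  · congr 1; split_ifs <;> simp

end P


section J
variable {A : Type*} [CommRing A] (d N : ℕ)

theorem sum_ite_fin (a : ℕ) (v : Fin (N + 1) → A) :
    ∑ j : Fin (N + 1), (if (j : ℕ) = a then v j else 0) = ext N v a := by
  unfold ext
  split_ifs with h
  · rw [Finset.sum_eq_single (⟨a, h⟩ : Fin (N + 1))]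
    · rw [if_pos rfl]
    · intro b _ hb
      rw [if_neg]
      intro h'; apply hb; exact Fin.ext h'
    · intro h'; exact absurd (Finset.mem_univ _) h'
  · apply Finset.sum_eq_zero
    intro j _
    rw [if_neg]
    have := j.2; omega

theorem sum_Jf (y v : Fin (N + 1) → A) (i : Fin (N + 1)) :
    ∑ j, Jf d N y i j * v j = (up d N v * hp d N y + gp d N y * hp d N v).coeff i := by
  rw [coeff_add, coeff_mul, coeff_mul, ← Finset.sum_add_distrib]
  simp only [Jf, Finset.sum_mul]
  rw [Finset.sum_comm]
  apply Finset.sum_congr rfl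
  intro p _
  rw [coeff_up, coeff_hp, coeff_gp, coeff_hp]
  have h1 : ∀ j : Fin (N + 1),
      ((if p.1 < d ∧ (j : ℕ) = p.1 then 1 else 0) * hx d N y p.2 +
        gx d N y p.1 * (if p.2 ≤ N - d ∧ (j : ℕ) = d + p.2 then 1 else 0)) * v j =
      (if p.1 < d then (if (j : ℕ) = p.1 then v j else 0) else 0) * hx d N y p.2 +
        gx d N y p.1 * (if p.2 ≤ N - d then (if (j : ℕ) = d + p.2 then v j else 0) else 0) := by
    intro j
    split_ifs <;> first | ring1 | (exfalso; tauto)
  simp_rw [h1]
  rw [Finset.sum_add_distrib, ← Finset.sum_mul, ← Finset.mul_sum]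
  congr 1
  · congr 1
    unfold ux
    split_ifs
    · exact sum_ite_fin N _ v
    · exact Finset.sum_const_zero
  · congr 1
    unfold hx
    split_ifs
    · exact sum_ite_fin N _ v
    · exact Finset.sum_const_zero

end J


theorem natDegree_up_le {A : Type*} [CommRing A] (d N : ℕ) (x : Fin (N + 1) → A) :
    (up d N x).natDegree ≤ d := by
  rw [Polynomial.natDegree_le_iff_coeff_eq_zero]
  intro m hm
  rw [coeff_up, ux, if_neg (by omega)]

theorem ker_trivial {k : Type*} [Field k] (d N : ℕ) (hdN : d ≤ N) (y v : Fin (N + 1) → k)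
    (hcop : IsCoprime (gp d N y) (hp d N y))
    (hv : ∀ i : Fin (N + 1), (up d N v * hp d N y + gp d N y * hp d N v).coeff i = 0) :
    v = 0 := by
  set Q := up d N v * hp d N y + gp d N y * hp d N v with hQdef
  have hdeg : Q.natDegree ≤ N := by
    apply Polynomial.natDegree_add_le_of_degree_le
    · have := Polynomial.natDegree_mul_le_of_le (natDegree_up_le d N v) (natDegree_hp_le d N y)
      omega
    · have := Polynomial.natDegree_mul_le_of_le (natDegree_gp d N y).le (natDegree_hp_le d N v)
      omega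
  have hQ : Q = 0 := by
    ext m
    by_cases hm : m < N + 1
    · exact hv ⟨m, hm⟩
    · rw [coeff_zero]
      exact Polynomial.coeff_eq_zero_of_natDegree_lt (by omega)
  have h1 : gp d N y ∣ up d N v * hp d N y :=
    ⟨- hp d N v, by rw [mul_neg]; exact eq_neg_of_add_eq_zero_left hQ⟩
  have h2 : gp d N y ∣ up d N v := hcop.dvd_of_dvd_mul_right h1
  have h3 : up d N v = 0 := by
    by_contra hne
    have h4 := Polynomial.degree_le_of_dvd h2 hne
    have h5 : (gp d N y).degree = d := by
      rw [Polynomial.degree_eq_natDegree (monic_gp d N y).ne_zero, natDegree_gp]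
    rw [h5] at h4
    exact absurd (lt_of_le_of_lt h4 (degree_up_lt d N v)) (lt_irrefl _)
  have h4 : hp d N v = 0 := by
    rw [hQdef, h3, zero_mul, zero_add] at hQ
    exact (mul_eq_zero.mp hQ).resolve_left (monic_gp d N y).ne_zero
  funext j
  by_cases hj : (j : ℕ) < d
  · have h5 := congrArg (fun q => q.coeff j) h3
    simp only [coeff_up, ux, if_pos hj, ext, dif_pos j.2, coeff_zero] at h5
    exact h5
  · have h5 := congrArg (fun q => q.coeff (j - d)) h4
    have hj2 := j.2
    have h6 : (j : ℕ) - d ≤ N - d := by omega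
    have h7 : d + ((j : ℕ) - d) = j := by omega
    simp only [coeff_hp, hx, if_pos h6, ext, h7, dif_pos j.2, coeff_zero] at h5
    exact h5


theorem map_Jf {A B : Type*} [CommRing A] [CommRing B] (φ : A →+* B) (d N : ℕ)
    (y : Fin (N + 1) → A) (i j : Fin (N + 1)) : φ (Jf d N y i j) = Jf d N (φ ∘ y) i j := by
  unfold Jf
  rw [map_sum]
  apply Finset.sum_congr rfl
  intro p _
  rw [map_add, map_mul, map_mul, map_gx, map_hx]
  congr 1
  · congr 1; split_ifs
    · exact map_one φ
    · exact map_zero φ
  · congr 1; split_ifs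
    · exact map_one φ
    · exact map_zero φ

/-- Over a henselian local ring, any factorization of the reduction of a polynomial (not necessarily
monic) into a monic factor and a factor coprime to it lifts to a factorization over the ring in
which the lift of the monic factor is again monic (so it has the same degree as its reduction). -/
theorem result (R : Type u) [CommRing R] [HenselianLocalRing R]
    (f : Polynomial R) (g₀ h₀ : Polynomial (IsLocalRing.ResidueField R)) (hg : g₀.Monic)
    (hc : IsCoprime g₀ h₀) (hf : Polynomial.map (IsLocalRing.residue R) f = g₀ * h₀) :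
    ∃ g h : Polynomial R, f = g * h ∧ g.Monic ∧ Polynomial.map (IsLocalRing.residue R) g = g₀ ∧
      Polynomial.map (IsLocalRing.residue R) h = h₀ := by
  classical
  by_cases h0 : h₀ = 0
  · subst h0
    have hu : IsUnit g₀ := isCoprime_zero_right.mp hc
    have hg1 : g₀ = 1 := hg.eq_one_of_isUnit hu
    refine ⟨1, f, (one_mul f).symm, Polynomial.monic_one, ?_, ?_⟩
    · rw [Polynomial.map_one, hg1]
    · rw [hf, mul_zero]
  set d := g₀.natDegree with hd
  set N := f.natDegree with hN
  have hdeg : d + h₀.natDegree ≤ N := by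
    have h1 : (g₀ * h₀).natDegree = d + h₀.natDegree := hg.natDegree_mul' h0
    have h2 : (f.map (IsLocalRing.residue R)).natDegree ≤ N := Polynomial.natDegree_map_le
    rw [hf, h1] at h2
    exact h2
  have hdN : d ≤ N := by omega
  let ybar : Fin (N + 1) → IsLocalRing.ResidueField R := fun j =>
    if (j : ℕ) < d then g₀.coeff j else h₀.coeff (j - d)
  choose a₀ ha₀ using fun j => IsLocalRing.residue_surjective (R := R) (ybar j)
  have hres : (IsLocalRing.residue R) ∘ a₀ = ybar := funext ha₀
  have hgp : gp d N ybar = g₀ := by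
    ext m
    rw [coeff_gp, gx]
    by_cases h1 : m < d
    · rw [if_pos h1, ext, dif_pos (by omega)]
      show (if m < d then g₀.coeff m else h₀.coeff (m - d)) = _
      rw [if_pos h1]
    · rw [if_neg h1]
      by_cases h2 : m = d
      · rw [if_pos h2, h2]; exact hg.coeff_natDegree.symm
      · rw [if_neg h2]; exact (Polynomial.coeff_eq_zero_of_natDegree_lt (by omega)).symm
  have hhp : hp d N ybar = h₀ := by
    ext m
    rw [coeff_hp, hx]
    by_cases h1 : m ≤ N - d
    · rw [if_pos h1, ext, dif_pos (by omega)]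
      show (if d + m < d then g₀.coeff (d + m) else h₀.coeff (d + m - d)) = _
      rw [if_neg (by omega), Nat.add_sub_cancel_left]
    · rw [if_neg h1]; exact (Polynomial.coeff_eq_zero_of_natDegree_lt (by omega)).symm
  -- the approximate zero
  have hP₀ : ∀ i, MvPolynomial.eval a₀ (P d N f i) ∈ IsLocalRing.maximalIdeal R := by
    intro i
    rw [← IsLocalRing.residue_eq_zero_iff, eval_P, ← Polynomial.coeff_map, Polynomial.map_sub,
      Polynomial.map_mul, map_gp, map_hp, hres, hgp, hhp, hf, sub_self, Polynomial.coeff_zero]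
  -- the Jacobian
  have hJ : IsUnit (Matrix.of (fun i j =>
      MvPolynomial.eval a₀ (MvPolynomial.pderiv j (P d N f i)))).det := by
    rw [← IsLocalRing.residue_ne_zero_iff_isUnit, RingHom.map_det]
    intro hdet
    obtain ⟨v, hv0, hv⟩ := Matrix.exists_mulVec_eq_zero_iff.mpr hdet
    apply hv0
    apply ker_trivial d N hdN ybar v (by rw [hgp, hhp]; exact hc)
    intro i
    rw [← sum_Jf]
    have h1 := congrFun hv i
    rw [Matrix.mulVec, dotProduct] at h1
    rw [Pi.zero_apply] at h1
    rw [← h1]
    apply Finset.sum_congr rfl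
    intro j _
    congr 1
    show _ = (IsLocalRing.residue R) (MvPolynomial.eval a₀ (MvPolynomial.pderiv j (P d N f i)))
    rw [eval_pderiv_P, map_Jf, hres]
  obtain ⟨a, hzero, hcong⟩ :=
    Groth.Agent.Lib.lead.HenselLocal.exists_common_zero_of_isUnit_jacobian (N + 1) (P d N f) a₀ hP₀ hJ
  have hres' : (IsLocalRing.residue R) ∘ a = ybar := by
    rw [← hres]
    funext j
    have := hcong j
    rw [← IsLocalRing.residue_eq_zero_iff, map_sub, sub_eq_zero] at this
    exact this
  refine ⟨gp d N a, hp d N a, ?_, monic_gp d N a, ?_, ?_⟩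
  · have hdeg2 : (gp d N a * hp d N a - f).natDegree ≤ N := by
      have h1 := Polynomial.natDegree_mul_le_of_le (natDegree_gp d N a).le (natDegree_hp_le d N a)
      have h2 : (gp d N a * hp d N a).natDegree ≤ N := by omega
      have h3 := Polynomial.natDegree_sub_le_of_le h2 (le_refl f.natDegree)
      rwa [max_self] at h3
    have hz : gp d N a * hp d N a - f = 0 := by
      ext m
      by_cases hm : m < N + 1
      · rw [Polynomial.coeff_zero]
        have := hzero ⟨m, hm⟩
        rw [eval_P] at this
        exact this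
      · rw [Polynomial.coeff_zero]
        exact Polynomial.coeff_eq_zero_of_natDegree_lt (by omega)
    exact (sub_eq_zero.mp hz).symm
  · rw [map_gp, hres', hgp]
  · rw [map_hp, hres', hhp]

end Groth.Agent.S0497
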