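import Groth.Statements.S0498
import Groth.Agent.Lib.lead.Gabber
-- import your own Groth.Agent.* helpers here

set_option autoImplicit false
universe u
open Hensel

namespace Groth.Agent.S0498

/-- Over a henselian local ring, a simple root in the residue field of the reduction of an arbitrary
polynomial (monic or not) lifts to a root in the ring. -/
theorem result (R : Type u) [CommRing R] [HenselianLocalRing R]
    (f : Polynomial R) (a₀ : IsLocalRing.ResidueField R)
    (h₁ : Polynomial.eval₂ (IsLocalRing.residue R) a₀ f = 0)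
    (h₂ : Polynomial.eval₂ (IsLocalRing.residue R) a₀ (Polynomial.derivative f) ≠ 0) :
    ∃ a : R, Polynomial.IsRoot f a ∧ IsLocalRing.residue R a = a₀ := by
  obtain ⟨r, rfl⟩ := Ideal.Quotient.mk_surjective a₀
  change Polynomial.eval₂ (IsLocalRing.residue R) (IsLocalRing.residue R r) f = 0 at h₁
  change Polynomial.eval₂ (IsLocalRing.residue R) (IsLocalRing.residue R r) (Polynomial.derivative f) ≠ 0 at h₂
  rw [Polynomial.eval₂_at_apply] at h₁ h₂
  have h₁' : f.eval r ∈ IsLocalRing.maximalIdeal R := (Ideal.Quotient.eq_zero_iff_mem).mp h₁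
  have h₂' : IsUnit (Ideal.Quotient.mk (IsLocalRing.maximalIdeal R) ((Polynomial.derivative f).eval r)) :=
    isUnit_iff_ne_zero.mpr h₂
  obtain ⟨a, ha, har⟩ := Groth.Agent.Lib.lead.Gabber.HenselianRing.exists_root_of_any
    (IsLocalRing.maximalIdeal R) f r h₁' h₂'
  refine ⟨a, ha, ?_⟩
  have : IsLocalRing.residue R (a - r) = 0 := (Ideal.Quotient.eq_zero_iff_mem).mpr har
  rw [map_sub, sub_eq_zero] at this
  exact this

end Groth.Agent.S0498
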