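import Groth.Statements.S0502
import Groth.Agent.Lib.lead.HenselLocal
-- import your own Groth.Agent.* helpers here

set_option autoImplicit false
universe u
open Hensel

namespace Groth.Agent.S0502

/-- A local ring `R` is henselian as soon as every étale `R`-algebra having a prime over the maximal
ideal with trivial residue field extension admits an `R`-algebra retraction to `R`. -/
theorem result (R : Type u) [CommRing R] [IsLocalRing R]
    (h : ∀ (S : Type u) [CommRing S] [Algebra R S] [Algebra.Etale R S] (q : Ideal S) [q.IsPrime],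
      q.LiesOver (IsLocalRing.maximalIdeal R) → Function.Surjective (algebraMap R q.ResidueField) →
      Nonempty (S →ₐ[R] R)) :
    HenselianLocalRing R := by
  classical
  apply ((HenselianLocalRing.TFAE R).out 0 1).mpr
  intro f hf a₀ h₁ h₂
  -- factor the reduction
  have hroot : (f.map (IsLocalRing.residue R)).IsRoot a₀ := by
    rw [Polynomial.IsRoot, Polynomial.eval_map]
    simpa [Polynomial.aeval_def] using h₁
  obtain ⟨h₀, hh₀⟩ := Polynomial.dvd_iff_isRoot.mpr hroot
  have hder : (Polynomial.derivative (f.map (IsLocalRing.residue R))).eval a₀ ≠ 0 := by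
    rw [Polynomial.derivative_map, Polynomial.eval_map]
    simpa [Polynomial.aeval_def] using h₂
  have hh₀ne : h₀.eval a₀ ≠ 0 := by
    rw [hh₀, Polynomial.derivative_mul] at hder
    simpa using hder
  obtain ⟨hl, hhl⟩ := Polynomial.map_surjective (IsLocalRing.residue R)
    Ideal.Quotient.mk_surjective h₀
  let P : StandardEtalePair R :=
    { f := f, monic_f := hf, g := Polynomial.derivative f * hl, cond := ⟨hl, 0, 1, by ring⟩ }
  have haeval : ∀ p : Polynomial R, Polynomial.aeval a₀ p = (p.map (IsLocalRing.residue R)).eval a₀ := by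
    intro p
    rw [Polynomial.eval_map, Polynomial.aeval_def]; rfl
  have hmap : P.HasMap a₀ := by
    refine ⟨h₁, ?_⟩
    change IsUnit (Polynomial.aeval a₀ (Polynomial.derivative f * hl))
    rw [map_mul, isUnit_iff_ne_zero]
    refine mul_ne_zero h₂ ?_
    rw [haeval, hhl]; exact hh₀ne
  let φ₀ : P.Ring →ₐ[R] IsLocalRing.ResidueField R := P.lift a₀ hmap
  have hφ₀surj : Function.Surjective φ₀ := by
    intro x
    obtain ⟨r, rfl⟩ := Ideal.Quotient.mk_surjective x
    exact ⟨algebraMap R P.Ring r, by rw [AlgHom.commutes]; rfl⟩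
  let q : Ideal P.Ring := RingHom.ker φ₀.toRingHom
  have hqmax : q.IsMaximal := RingHom.ker_isMaximal_of_surjective φ₀.toRingHom hφ₀surj
  have hqprime : q.IsPrime := hqmax.isPrime
  have hlies : q.LiesOver (IsLocalRing.maximalIdeal R) := by
    refine ⟨?_⟩
    rw [Ideal.under, RingHom.comap_ker, AlgHom.toRingHom_eq_coe, φ₀.comp_algebraMap]
    exact (IsLocalRing.ker_residue (R := R)).symm
  have hsurj : Function.Surjective (algebraMap R q.ResidueField) := by
    intro x
    obtain ⟨y, rfl⟩ := Ideal.algebraMap_residueField_surjective q x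
    obtain ⟨r, hr⟩ := Ideal.Quotient.mk_surjective (φ₀ y)
    refine ⟨r, ?_⟩
    rw [IsScalarTower.algebraMap_apply R P.Ring q.ResidueField, ← sub_eq_zero, ← map_sub,
      Ideal.algebraMap_residueField_eq_zero]
    change φ₀ (algebraMap R P.Ring r - y) = 0
    rw [map_sub, AlgHom.commutes, sub_eq_zero]
    exact hr
  obtain ⟨s⟩ := h P.Ring q hlies hsurj
  have hs : P.HasMap (s P.X) := P.hasMap_X.map s
  refine ⟨s P.X, ?_, ?_⟩
  · have := hs.1
    simpa [Polynomial.coe_aeval_eq_eval] using this
  · -- residue (s X) = a₀
    set a := s P.X with ha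
    have hfa : (f.map (IsLocalRing.residue R)).eval (IsLocalRing.residue R a) = 0 := by
      rw [Polynomial.eval_map, Polynomial.eval₂_at_apply]
      have := hs.1
      rw [Polynomial.coe_aeval_eq_eval] at this
      change f.eval a = 0 at this
      rw [this, map_zero]
    have hga : IsUnit (hl.eval a) := by
      have := hs.2
      rw [Polynomial.coe_aeval_eq_eval] at this
      change IsUnit ((Polynomial.derivative f * hl).eval a) at this
      rw [Polynomial.eval_mul] at this
      exact isUnit_of_mul_isUnit_right this
    have hh₀a : h₀.eval (IsLocalRing.residue R a) ≠ 0 := by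
      rw [← hhl, Polynomial.eval_map, Polynomial.eval₂_at_apply]
      exact (IsLocalRing.residue_ne_zero_iff_isUnit _).mpr hga
    rw [hh₀, Polynomial.eval_mul] at hfa
    rcases mul_eq_zero.mp hfa with h3 | h3
    · simpa [sub_eq_zero] using h3
    · exact absurd h3 hh₀a

end Groth.Agent.S0502
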