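import Groth.Statements.S0516
import Groth.Agent.Lib.lead.HenselQF
import Groth.Agent.Lib.lead.HenselSplit

set_option autoImplicit false
universe u
open Hensel

namespace Groth.Agent.S0516

open Groth.Agent.Lib.lead.HenselLocal in
/-- An unramified algebra `S` (formally unramified of finite type) over a strictly henselian local ring
`R` is isomorphic over `R` to a product of finitely many quotient rings of `R` and an `R`-algebra in
which the maximal ideal of `R` generates the unit ideal. -/
theorem result (R : Type u) [CommRing R]
    [HenselianLocalRing R] [IsSepClosed (IsLocalRing.ResidueField R)] (S : Type u) [CommRing S] [Algebra R S]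
    [Algebra.Unramified R S] :
    ∃ (ι : Type u) (_ : Fintype ι) (A : ι → Type u) (_ : ∀ i, CommRing (A i))
      (_ : ∀ i, Algebra R (A i)) (B : Type u) (_ : CommRing B) (_ : Algebra R B),
      (∀ i, Function.Surjective (algebraMap R (A i))) ∧
      Ideal.map (algebraMap R B) (IsLocalRing.maximalIdeal R) = ⊤ ∧
      Nonempty (S ≃ₐ[R] ((∀ i, A i) × B)) := by
  classical
  have hqf : Algebra.QuasiFinite R S := inferInstance
  obtain ⟨e, he, hfin, htop⟩ := quasiFinite_split (R := R) S
  have hunr : Algebra.FormallyUnramified R (S ⧸ Ideal.span ({1 - e} : Set S)) :=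
    Algebra.FormallyUnramified.of_surjective (Ideal.Quotient.mkₐ R _) (Ideal.Quotient.mkₐ_surjective R _)
  obtain ⟨ι, hι, A, hA, halg, hloc, ⟨φ⟩⟩ :=
    finite_exists_pi_isLocalRing_alg (R := R) (S ⧸ Ideal.span ({1 - e} : Set S))
  refine ⟨ι, hι, A, hA, halg, S ⧸ Ideal.span ({e} : Set S), inferInstance, inferInstance, ?_, htop,
    ⟨?_⟩⟩
  · intro i
    have hsurj : Function.Surjective
        ((Pi.evalAlgHom R A i).comp φ.toAlgHom) := by
      intro a
      obtain ⟨s, hs⟩ := φ.surjective (Pi.single i a)
      exact ⟨s, by simp [hs]⟩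
    have : Module.Finite R (A i) := Module.Finite.of_surjective
      ((Pi.evalAlgHom R A i).comp φ.toAlgHom).toLinearMap hsurj
    have : Algebra.FormallyUnramified R (A i) :=
      Algebra.FormallyUnramified.of_surjective _ hsurj
    have := hloc i
    exact surjective_algebraMap_of_finite_unramified_sepClosed (A i)
  · exact (AlgEquiv.prodQuotientOfIsIdempotentElem R he.one_sub he (by ring)
      (by rw [sub_mul, one_mul, he.eq, sub_self])).trans (AlgEquiv.prodCongr φ AlgEquiv.refl)

end Groth.Agent.S0516
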