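import Groth.Statements.S0517
import Groth.Agent.Lib.lead.HenselFinite

set_option autoImplicit false
universe u
open Hensel

namespace Groth.Agent.S0517

open Groth.Agent.Lib.lead.HenselLocal IsLocalRing

theorem isSepClosed_of_ringEquiv {k k' : Type*} [Field k] [Field k'] (e : k ≃+* k')
    [IsSepClosed k] : IsSepClosed k' := by
  refine IsSepClosed.of_exists_root _ fun p hm hirr hsep => ?_
  have hdeg : (p.map e.symm.toRingHom).degree ≠ 0 := by
    rw [Polynomial.degree_map]
    exact (Polynomial.degree_pos_of_irreducible hirr).ne'
  obtain ⟨x, hx⟩ := IsSepClosed.exists_root (p.map e.symm.toRingHom) hdeg hsep.map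
  refine ⟨e x, ?_⟩
  have hx' : Polynomial.eval x (p.map e.symm.toRingHom) = 0 := hx
  rw [Polynomial.eval_map] at hx'
  have := congrArg e.toRingHom hx'
  rw [Polynomial.hom_eval₂, map_zero] at this
  have hc : e.toRingHom.comp e.symm.toRingHom = RingHom.id k' := by
    ext y; simp
  rw [hc] at this
  simpa [Polynomial.eval₂_id] using this

/-- The algebra map out of the quotient of a polynomial ring given by a solution. -/
noncomputable def solHom {R : Type u} [CommRing R] {n : ℕ} (P : Fin n → MvPolynomial (Fin n) R)
    {T : Type*} [CommRing T] [Algebra R T] (t : Fin n → T)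
    (ht : ∀ i, MvPolynomial.aeval t (P i) = 0) :
    (MvPolynomial (Fin n) R ⧸ Ideal.span (Set.range P)) →ₐ[R] T :=
  Ideal.Quotient.liftₐ _ (MvPolynomial.aeval t) (by
    intro a ha
    have hle : Ideal.span (Set.range P) ≤ RingHom.ker (MvPolynomial.aeval (R := R) t).toRingHom := by
      rw [Ideal.span_le]
      rintro _ ⟨i, rfl⟩
      exact ht i
    exact hle ha)

theorem solHom_mk {R : Type u} [CommRing R] {n : ℕ} (P : Fin n → MvPolynomial (Fin n) R)
    {T : Type*} [CommRing T] [Algebra R T] (t : Fin n → T)
    (ht : ∀ i, MvPolynomial.aeval t (P i) = 0) (p : MvPolynomial (Fin n) R) :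
    solHom P t ht (Ideal.Quotient.mk _ p) = MvPolynomial.aeval t p := rfl


/-- Over a local ring with separably closed residue field, the residue field at a prime of an
unramified algebra lying over the maximal ideal is trivial. -/
theorem surjective_algebraMap_residueField {R : Type*} [CommRing R] [IsLocalRing R]
    [IsSepClosed (ResidueField R)] {E : Type*} [CommRing E] [Algebra R E] [Algebra.EssFiniteType R E]
    [Algebra.FormallyUnramified R E] (q : Ideal E) [q.IsPrime] [q.LiesOver (maximalIdeal R)] :
    Function.Surjective (algebraMap R q.ResidueField) := by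
  letI := Localization.AtPrime.algebraOfLiesOver (maximalIdeal R) q
  have h1 : Algebra.IsSeparable (maximalIdeal R).ResidueField q.ResidueField := inferInstance
  have h2 : IsSepClosed (maximalIdeal R).ResidueField :=
    isSepClosed_of_ringEquiv (k := ResidueField R)
      (RingEquiv.ofBijective _ (maximalIdeal R).bijective_algebraMap_quotient_residueField)
  rw [IsScalarTower.algebraMap_eq R (maximalIdeal R).ResidueField q.ResidueField]
  exact (IsSepClosed.algebraMap_surjective _ _).comp
    (Ideal.algebraMap_residueField_surjective (maximalIdeal R))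

/-- Given strictly henselian local rings `R` and `S`, a local ring map `φ` between them, and a square
system of `n` polynomial equations in `n` unknowns over `R` whose quotient algebra is étale over
`R`, applying `φ` coordinatewise matches the solutions of the system in `Rⁿ` bijectively with the
solutions of the transported system in `Sⁿ`. -/
theorem result (R : Type u) [CommRing R]
    [HenselianLocalRing R] [IsSepClosed (IsLocalRing.ResidueField R)] (S : Type u) [CommRing S]
    [HenselianLocalRing S] [IsSepClosed (IsLocalRing.ResidueField S)] (φ : R →+* S) [IsLocalHom φ] (n : ℕ)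
    (P : Fin n → MvPolynomial (Fin n) R)
    [Algebra.Etale R (MvPolynomial (Fin n) R ⧸ Ideal.span (Set.range P))] :
    Set.BijOn (fun r : Fin n → R => φ ∘ r)
      {r : Fin n → R | ∀ i, MvPolynomial.eval r (P i) = 0}
      {s : Fin n → S | ∀ i, MvPolynomial.eval s (MvPolynomial.map φ (P i)) = 0} := by
  classical
  letI : Algebra R S := φ.toAlgebra
  have hev : ∀ (s : Fin n → S) (p : MvPolynomial (Fin n) R),
      MvPolynomial.eval s (MvPolynomial.map φ p) = MvPolynomial.aeval s p := by
    intro s p
    rw [MvPolynomial.eval_map, MvPolynomial.aeval_def]; rfl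
  have hevR : ∀ (r : Fin n → R) (p : MvPolynomial (Fin n) R),
      MvPolynomial.aeval r p = MvPolynomial.eval r p := by
    intro r p
    rw [MvPolynomial.aeval_def]; rfl
  have hcomap : (maximalIdeal S).comap φ = maximalIdeal R :=
    ((IsLocalRing.local_hom_TFAE φ).out 0 4).mp ‹IsLocalHom φ›
  refine ⟨?_, ?_, ?_⟩
  · intro r hr i
    simp only [Set.mem_setOf_eq] at hr ⊢
    rw [MvPolynomial.eval_map, ← MvPolynomial.eval₂_comp, hr i, map_zero]
  · intro r hr r' hr' hφ
    simp only [Set.mem_setOf_eq] at hr hr'
    let f := solHom P r (fun i => (hevR r (P i)).trans (hr i))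
    let f' := solHom P r' (fun i => (hevR r' (P i)).trans (hr' i))
    have hmem : ∀ i, r i - r' i ∈ maximalIdeal R := by
      intro i
      rw [IsLocalRing.mem_maximalIdeal, mem_nonunits_iff]
      intro hu
      have h0 : φ (r i - r' i) = 0 := by
        rw [map_sub, sub_eq_zero]; exact congrFun hφ i
      have := hu.map φ
      rw [h0] at this
      exact not_isUnit_zero this
    have hff' : f = f' := by
      apply unramified_algHom_ext
      have hg : (IsScalarTower.toAlgHom R R (ResidueField R)).comp f =
          (IsScalarTower.toAlgHom R R (ResidueField R)).comp f' := by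
        apply Ideal.Quotient.algHom_ext
        apply MvPolynomial.algHom_ext
        intro i
        change residue R (f (Ideal.Quotient.mk _ (MvPolynomial.X i))) =
          residue R (f' (Ideal.Quotient.mk _ (MvPolynomial.X i)))
        rw [solHom_mk, solHom_mk, MvPolynomial.aeval_X, MvPolynomial.aeval_X]
        exact (Ideal.Quotient.eq).mpr (hmem i)
      intro a
      exact AlgHom.congr_fun hg a
    funext i
    have h1 : f (Ideal.Quotient.mk _ (MvPolynomial.X i)) = r i := by
      rw [solHom_mk, MvPolynomial.aeval_X]
    have h2 : f' (Ideal.Quotient.mk _ (MvPolynomial.X i)) = r' i := by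
      rw [solHom_mk, MvPolynomial.aeval_X]
    rw [← h1, ← h2, hff']
  · intro s hs
    simp only [Set.mem_setOf_eq] at hs
    let g := solHom P s (fun i => (hev s (P i)).symm.trans (hs i))
    let q : Ideal (MvPolynomial (Fin n) R ⧸ Ideal.span (Set.range P)) :=
      (maximalIdeal S).comap g.toRingHom
    have hqp : q.IsPrime := Ideal.comap_isPrime _ _
    have hqm : q.LiesOver (maximalIdeal R) := by
      refine ⟨?_⟩
      rw [← hcomap]
      ext x
      simp only [Ideal.under, Ideal.mem_comap, q]
      rw [show g.toRingHom (algebraMap R _ x) = φ x from g.commutes x]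
    have hsurj := surjective_algebraMap_residueField (R := R) q
    obtain ⟨σ, hσ⟩ := etale_exists_section_of_prime _ q hsurj
    refine ⟨fun i => σ (Ideal.Quotient.mk _ (MvPolynomial.X i)), ?_, ?_⟩
    · intro i
      have hσ' : σ.comp (Ideal.Quotient.mkₐ R _) =
          MvPolynomial.aeval (fun i => σ (Ideal.Quotient.mk _ (MvPolynomial.X i))) :=
        MvPolynomial.aeval_unique _
      have h1 := AlgHom.congr_fun hσ' (P i)
      change MvPolynomial.eval _ (P i) = 0
      rw [← hevR, ← h1]
      change σ (Ideal.Quotient.mk _ (P i)) = 0
      rw [Ideal.Quotient.eq_zero_iff_mem.mpr (Ideal.subset_span (Set.mem_range_self i)), map_zero]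
    · have hgg : (Algebra.ofId R S).comp σ = g := by
        apply unramified_algHom_ext
        intro a
        obtain ⟨r, hr⟩ := hsurj (algebraMap _ q.ResidueField a)
        have hd : a - algebraMap R _ r ∈ q := by
          rw [← Ideal.algebraMap_residueField_eq_zero, map_sub, ← hr,
            ← IsScalarTower.algebraMap_apply, sub_self]
        have h1 : g (a - algebraMap R _ r) ∈ maximalIdeal S := hd
        have h2 : φ (σ (a - algebraMap R _ r)) ∈ maximalIdeal S := by
          have : σ (a - algebraMap R _ r) ∈ maximalIdeal R := (hσ _).mpr hd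
          rw [← hcomap] at this
          exact this
        have ha : a = algebraMap R _ r + (a - algebraMap R _ r) := by ring
        have e1 : residue S (g a) = residue S (φ r) := by
          rw [ha, map_add, map_add, (residue_eq_zero_iff _).mpr h1, add_zero, AlgHom.commutes]
          rfl
        have e2 : residue S (φ (σ a)) = residue S (φ r) := by
          rw [ha, map_add, map_add, map_add, (residue_eq_zero_iff _).mpr h2, add_zero,
            AlgHom.commutes]
          rfl
        change residue S (φ (σ a)) = residue S (g a)
        rw [e1, e2]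
      funext i
      change φ (σ (Ideal.Quotient.mk _ (MvPolynomial.X i))) = s i
      have := AlgHom.congr_fun hgg (Ideal.Quotient.mk _ (MvPolynomial.X i))
      rw [solHom_mk, MvPolynomial.aeval_X] at this
      exact this

end Groth.Agent.S0517
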