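import Groth.Statements.S0518
import Groth.Agent.Lib.lead.FiniteEtaleLift

set_option autoImplicit false
universe u
open Hensel

namespace Groth.Agent.S0518

open Groth.Agent.Lib.lead.HenselLocal IsLocalRing TensorProduct

/-- one factor -/
theorem exists_factor (R : Type u) [CommRing R] [IsLocalRing R]
    (l : Type u) [Field l] [Algebra (ResidueField R) l] [FiniteDimensional (ResidueField R) l]
    [Algebra.IsSeparable (ResidueField R) l] :
    ∃ (E : Type u) (_ : CommRing E) (_ : Algebra R E), Module.Finite R E ∧ Algebra.Etale R E ∧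
      Nonempty (ResidueField R ⊗[R] E ≃ₐ[ResidueField R] l) := by
  letI : Algebra R l := ((algebraMap (ResidueField R) l).comp (algebraMap R (ResidueField R))).toAlgebra
  haveI : IsScalarTower R (ResidueField R) l := .of_algebraMap_eq (fun _ => rfl)
  obtain ⟨Q, hQm, hu, φ, hsurj, hker⟩ := exists_monic_lift_of_finite_separable R l
  have hfin : Module.Finite R (AdjoinRoot Q) := (AdjoinRoot.powerBasis' hQm).finite
  have hEt : Algebra.Etale R (AdjoinRoot Q) := etale_adjoinRoot_of_isUnit_derivative Q hQm hu
  refine ⟨AdjoinRoot Q, inferInstance, inferInstance, hfin, hEt, ⟨?_⟩⟩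
  let t1 : ResidueField R ⊗[R] AdjoinRoot Q ≃ₐ[R]
      AdjoinRoot Q ⧸ (maximalIdeal R).map (algebraMap R (AdjoinRoot Q)) :=
    ((Algebra.TensorProduct.quotIdealMapEquivQuotTensor (AdjoinRoot Q) (maximalIdeal R)).symm).restrictScalars R
  let t2 : (AdjoinRoot Q ⧸ (maximalIdeal R).map (algebraMap R (AdjoinRoot Q))) ≃ₐ[R]
      (AdjoinRoot Q ⧸ RingHom.ker φ) := Ideal.quotientEquivAlgOfEq R hker.symm
  let t3 : (AdjoinRoot Q ⧸ RingHom.ker φ) ≃ₐ[R] l := Ideal.quotientKerAlgEquivOfSurjective hsurj
  exact AlgEquiv.extendScalarsOfSurjective (residue_surjective (R := R)) ((t1.trans t2).trans t3)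

/-- Over a henselian local ring `R` with residue field `κ`, every finite étale `κ`-algebra is the base
change of some finite étale `R`-algebra. -/
theorem result (R : Type u) [CommRing R]
    [HenselianLocalRing R] (A : Type u) [CommRing A] [Algebra (IsLocalRing.ResidueField R) A]
    [Module.Finite (IsLocalRing.ResidueField R) A] [Algebra.Etale (IsLocalRing.ResidueField R) A] :
    ∃ (S : Type u) (_ : CommRing S) (_ : Algebra R S), Module.Finite R S ∧ Algebra.Etale R S ∧
      Nonempty (TensorProduct R (IsLocalRing.ResidueField R) S ≃ₐ[IsLocalRing.ResidueField R] A) := by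
  classical
  obtain ⟨I, hI, Ai, hfield, halg, e, hprop⟩ :=
    (Algebra.Etale.iff_exists_algEquiv_prod (K := ResidueField R) (A := A)).mp inferInstance
  have := Fintype.ofFinite I
  have hex : ∀ i, ∃ (E : Type u) (_ : CommRing E) (_ : Algebra R E), Module.Finite R E ∧
      Algebra.Etale R E ∧ Nonempty (ResidueField R ⊗[R] E ≃ₐ[ResidueField R] Ai i) := by
    intro i
    haveI := (hprop i).1
    haveI := (hprop i).2
    exact exists_factor R (Ai i)
  choose E hE1 hE2 hfin hEt hiso using hex
  refine ⟨∀ i, E i, inferInstance, inferInstance, inferInstance, inferInstance, ⟨?_⟩⟩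
  let t1 : ResidueField R ⊗[R] (∀ i, E i) ≃ₐ[ResidueField R] ∀ i, ResidueField R ⊗[R] E i :=
    Algebra.TensorProduct.piRight R (ResidueField R) (ResidueField R) E
  let t2 : (∀ i, ResidueField R ⊗[R] E i) ≃ₐ[ResidueField R] ∀ i, Ai i :=
    AlgEquiv.piCongrRight (fun i => (hiso i).some)
  exact (t1.trans t2).trans e.symm

end Groth.Agent.S0518
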