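import Groth.Statements.S0519
import Groth.Agent.Lib.lead.HenselLift

set_option autoImplicit false
universe u
open Hensel

namespace Groth.Agent.S0519

open Groth.Agent.Lib.lead.HenselLocal IsLocalRing TensorProduct

theorem includeRight_residue_surjective (R : Type u) [CommRing R] [IsLocalRing R] (S : Type u)
    [CommRing S] [Algebra R S] :
    Function.Surjective
      (Algebra.TensorProduct.includeRight : S →ₐ[R] ResidueField R ⊗[R] S) := by
  intro t
  let iso := Algebra.TensorProduct.quotIdealMapEquivQuotTensor S (maximalIdeal R)
  obtain ⟨y, hy⟩ := iso.surjective t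
  obtain ⟨s, rfl⟩ := Ideal.Quotient.mk_surjective y
  exact ⟨s, hy⟩

theorem ker_includeRight_residue (R : Type u) [CommRing R] [IsLocalRing R] (S : Type u)
    [CommRing S] [Algebra R S] :
    RingHom.ker (Algebra.TensorProduct.includeRight : S →ₐ[R] ResidueField R ⊗[R] S) =
      (maximalIdeal R).map (algebraMap R S) := by
  let iso := Algebra.TensorProduct.quotIdealMapEquivQuotTensor S (maximalIdeal R)
  ext s
  rw [RingHom.mem_ker, ← Ideal.Quotient.eq_zero_iff_mem]
  constructor
  · intro h
    apply iso.injective
    rw [map_zero]
    exact h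
  · intro h
    have := congrArg iso h
    rw [map_zero] at this
    exact this

/-- Over a henselian local ring `R` with residue field `κ`, base change to `κ` gives a bijection between
`R`-algebra maps of two finite étale `R`-algebras and `κ`-algebra maps of their base changes. -/
theorem result (R : Type u) [CommRing R]
    [HenselianLocalRing R] (S₁ S₂ : Type u) [CommRing S₁] [CommRing S₂] [Algebra R S₁]
    [Algebra R S₂] [Module.Finite R S₁] [Algebra.Etale R S₁] [Module.Finite R S₂]
    [Algebra.Etale R S₂] :
    Function.Bijective (fun φ : S₁ →ₐ[R] S₂ =>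
      Algebra.TensorProduct.map (AlgHom.id (IsLocalRing.ResidueField R) (IsLocalRing.ResidueField R)) φ) := by
  rw [Function.bijective_iff_existsUnique]
  intro Ψ
  let p : S₂ →ₐ[R] ResidueField R ⊗[R] S₂ := Algebra.TensorProduct.includeRight
  let g : S₁ →ₐ[R] ResidueField R ⊗[R] S₂ :=
    (Ψ.restrictScalars R).comp Algebra.TensorProduct.includeRight
  have hker : RingHom.ker p ≤ Ideal.jacobson ⊥ := by
    rw [ker_includeRight_residue]
    exact map_maximalIdeal_le_jacobson_of_isIntegral
  obtain ⟨f, hf, huniq⟩ := etale_lift_finite_of_surjective p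
    (includeRight_residue_surjective R S₂) hker g
  have hiff : ∀ φ : S₁ →ₐ[R] S₂,
      Algebra.TensorProduct.map (AlgHom.id (ResidueField R) (ResidueField R)) φ = Ψ ↔
        p.comp φ = g := by
    intro φ
    constructor
    · intro h
      ext s
      change (1 : ResidueField R) ⊗ₜ[R] φ s = Ψ ((1 : ResidueField R) ⊗ₜ[R] s)
      rw [← h]
      simp
    · intro h
      apply Algebra.TensorProduct.ext
      · ext
      · ext s
        have := AlgHom.congr_fun h s
        change (1 : ResidueField R) ⊗ₜ[R] φ s = Ψ ((1 : ResidueField R) ⊗ₜ[R] s) at this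
        simpa using this
  exact ⟨f, (hiff f).mpr hf, fun φ hφ => huniq φ ((hiff φ).mp hφ)⟩

end Groth.Agent.S0519
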