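import Groth.Statements.S0520
import Groth.Agent.Lib.helper3.PairFactor
-- import your own Groth.Agent.* helpers here

set_option autoImplicit false
universe u
open Hensel

namespace Groth.Agent.S0520

open Polynomial in
/-- factor lifting implies root lifting -/
theorem henselian_of_factor (A : Type u) [CommRing A] (I : Ideal A) (hI : I ≤ Ideal.jacobson ⊥)
    (H : ∀ f : Polynomial A, f.Monic → ∀ g₀ h₀ : Polynomial (A ⧸ I), g₀.Monic → h₀.Monic →
        IsCoprime g₀ h₀ → Polynomial.map (Ideal.Quotient.mk I) f = g₀ * h₀ →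
        ∃ g h : Polynomial A, g.Monic ∧ h.Monic ∧ f = g * h ∧
          Polynomial.map (Ideal.Quotient.mk I) g = g₀ ∧ Polynomial.map (Ideal.Quotient.mk I) h = h₀) :
    HenselianRing A I := by
  refine ⟨hI, fun f hf a₀ h₁ h₂ => ?_⟩
  rcases subsingleton_or_nontrivial A with hsub | hnt
  · exact ⟨a₀, Subsingleton.elim _ _, by rw [sub_self]; exact I.zero_mem⟩
  have hItop : I ≠ ⊤ := by
    intro h
    have h1 : (1 : A) ∈ Ideal.jacobson (⊥ : Ideal A) := hI (h ▸ Submodule.mem_top)
    have := (Ideal.mem_jacobson_bot.mp h1) (-1)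
    simp at this
  have hntq : Nontrivial (A ⧸ I) := Ideal.Quotient.nontrivial_iff.mpr hItop
  set mk := Ideal.Quotient.mk I with hmk
  set ab : A ⧸ I := mk a₀ with hab
  set fb := f.map mk with hfb
  have hroot : fb.IsRoot ab := by
    rw [IsRoot, hfb, hab, eval_map, eval₂_at_apply]
    exact Ideal.Quotient.eq_zero_iff_mem.mpr h₁
  set qb := fb /ₘ (X - C ab) with hqb
  have hfq : (X - C ab) * qb = fb := mul_divByMonic_eq_iff_isRoot.mpr hroot
  have hfbm : fb.Monic := hf.map mk
  have hqm : qb.Monic := (monic_X_sub_C ab).of_mul_monic_left (hfq ▸ hfbm)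
  have hder : qb.eval ab = mk (f.derivative.eval a₀) := by
    have h1 : fb.derivative.eval ab = mk (f.derivative.eval a₀) := by
      rw [hfb, derivative_map, hab, eval_map, eval₂_at_apply]
    rw [← h1, ← hfq, derivative_mul, eval_add, eval_mul, eval_mul, eval_sub, eval_X, eval_C, sub_self,
      zero_mul, add_zero, derivative_sub, derivative_X, derivative_C, sub_zero, eval_one, one_mul]
  have hcop : IsCoprime qb (X - C ab) := by
    obtain ⟨w, hw⟩ := h₂.exists_right_inv
    obtain ⟨c, hc⟩ := Polynomial.X_sub_C_dvd_sub_C_eval (a := ab) (p := qb)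
    refine ⟨C w, -(C w * c), ?_⟩
    have h3 : C w * qb - C w * c * (X - C ab) = C (w * qb.eval ab) := by
      rw [C_mul, mul_assoc, mul_comm c, ← mul_sub, ← hc]; ring
    rw [hder, mul_comm w, hw, C_1] at h3
    linear_combination h3
  obtain ⟨g, h, hgm, hhm, hfgh, hg, hh⟩ := H f hf qb (X - C ab) hqm (monic_X_sub_C ab) hcop
    (by rw [← hfb, ← hfq, mul_comm])
  have hdeg : h.natDegree = 1 := by
    have := hhm.natDegree_map mk
    rw [hh, natDegree_X_sub_C] at this
    exact this.symm
  have hform : h = X + C (h.coeff 0) := hhm.eq_X_add_C hdeg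
  have hc0 : mk (h.coeff 0) = -ab := by
    rw [← coeff_map, hh]
    simp
  refine ⟨-h.coeff 0, ?_, ?_⟩
  · rw [IsRoot, hfgh, eval_mul, hform]
    simp
  · rw [← Ideal.Quotient.eq_zero_iff_mem, map_sub, map_neg]
    change -mk (h.coeff 0) - mk a₀ = 0
    rw [hc0, neg_neg, sub_self]

/-- A ring `A` is Henselian at an ideal `I` in Mathlib's sense (simple roots lift) exactly when `I` lies
in the Jacobson radical and every factorization of the reduction of a monic polynomial into two
comaximal monic factors over `A/I` lifts to a factorization into monic polynomials over `A`. -/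
theorem result (A : Type u) [CommRing A] (I : Ideal A) :
    HenselianRing A I ↔ (I ≤ Ideal.jacobson ⊥ ∧
      ∀ f : Polynomial A, f.Monic → ∀ g₀ h₀ : Polynomial (A ⧸ I), g₀.Monic → h₀.Monic →
        IsCoprime g₀ h₀ → Polynomial.map (Ideal.Quotient.mk I) f = g₀ * h₀ →
        ∃ g h : Polynomial A, g.Monic ∧ h.Monic ∧ f = g * h ∧
          Polynomial.map (Ideal.Quotient.mk I) g = g₀ ∧ Polynomial.map (Ideal.Quotient.mk I) h = h₀) := by
  constructor
  · intro hH
    exact ⟨HenselianRing.jac, fun f hf g₀ h₀ hg₀ hh₀ hc hfac =>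
      Groth.Agent.Lib.helper3.PairFactor.exists_factor_lift A I f hf g₀ h₀ hg₀ hh₀ hc hfac⟩
  · rintro ⟨hI, H⟩
    exact henselian_of_factor A I hI H

end Groth.Agent.S0520
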