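import Groth.Statements.S0523
import Groth.Agent.Lib.helper3.PairEtale
-- import your own Groth.Agent.* helpers here

set_option autoImplicit false
universe u
open Hensel

namespace Groth.Agent.S0523

open Polynomial in
theorem henselian_of_lift (A : Type u) [CommRing A] (I : Ideal A)
    (H : ∀ (A' : Type u) [CommRing A'] [Algebra A A'] [Algebra.Etale A A']
      (σ : A' →ₐ[A] A ⧸ I), ∃ τ : A' →ₐ[A] A, (Ideal.Quotient.mkₐ A I).comp τ = σ) :
    HenselianRing A I := by
  refine ⟨?_, ?_⟩
  · intro a ha
    rw [Ideal.mem_jacobson_bot]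
    intro y
    set f : A := a * y + 1 with hf
    have hmk : Ideal.Quotient.mk I f = 1 := by
      rw [hf, map_add, map_mul, Ideal.Quotient.eq_zero_iff_mem.mpr ha, zero_mul, zero_add, map_one]
    have hu : IsUnit ((Ideal.Quotient.mkₐ A I : A →+* A ⧸ I) f) := by
      change IsUnit (Ideal.Quotient.mk I f)
      rw [hmk]; exact isUnit_one
    let σ : Localization.Away f →ₐ[A] A ⧸ I :=
      IsLocalization.Away.liftAlgHom f (f := Ideal.Quotient.mkₐ A I) hu
    obtain ⟨τ, -⟩ := H (Localization.Away f) σ
    have h1 : τ (algebraMap A (Localization.Away f) f) = f := τ.commutes f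
    rw [← h1]
    exact (IsLocalization.Away.algebraMap_isUnit f).map τ
  · intro f hfm a₀ h₁ h₂
    let P : StandardEtalePair A := ⟨f, hfm, derivative f, ⟨1, 0, 1, by ring⟩⟩
    have hmap : P.HasMap (Ideal.Quotient.mk I a₀) := by
      refine ⟨?_, ?_⟩
      · change aeval (Ideal.Quotient.mk I a₀) f = 0
        rw [aeval_def, ← Ideal.Quotient.algebraMap_eq, eval₂_at_apply,
          Ideal.Quotient.algebraMap_eq]
        exact Ideal.Quotient.eq_zero_iff_mem.mpr h₁
      · change IsUnit (aeval (Ideal.Quotient.mk I a₀) (derivative f))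
        rw [aeval_def, ← Ideal.Quotient.algebraMap_eq, eval₂_at_apply,
          Ideal.Quotient.algebraMap_eq]
        exact h₂
    obtain ⟨τ, hτ⟩ := H P.Ring (P.lift _ hmap)
    refine ⟨τ P.X, ?_, ?_⟩
    · have h1 : aeval (τ P.X) f = 0 := by
        rw [aeval_algHom_apply]
        have : aeval P.X P.f = 0 := P.hasMap_X.1
        change τ (aeval P.X P.f) = 0
        rw [this, map_zero]
      rw [IsRoot, ← h1, aeval_def]
      rfl
    · have h1 := AlgHom.congr_fun hτ P.X
      rw [P.lift_X] at h1
      rw [← Ideal.Quotient.eq_zero_iff_mem, map_sub, sub_eq_zero]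
      exact h1

/-- `A` is Henselian at `I` exactly when for every étale `A`-algebra `A'` every `A`-algebra map `A' →
A/I` lifts to an `A`-algebra map `A' → A`. -/
theorem result (A : Type u) [CommRing A] (I : Ideal A) :
    HenselianRing A I ↔ ∀ (A' : Type u) [CommRing A'] [Algebra A A'] [Algebra.Etale A A']
      (σ : A' →ₐ[A] A ⧸ I), ∃ τ : A' →ₐ[A] A, (Ideal.Quotient.mkₐ A I).comp τ = σ := by
  constructor
  · intro hH A' _ _ _ σ
    exact Groth.Agent.Lib.helper3.PairEtale.exists_lift A I A' σ
  · intro H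
    exact henselian_of_lift A I H

end Groth.Agent.S0523
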