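import Groth.Statements.S0524
import Groth.Agent.Lib.lead.Gabber
-- import your own Groth.Agent.* helpers here

set_option autoImplicit false
universe u
open Hensel

namespace Groth.Agent.S0524

/-- (1) iff (5) with the uniqueness complement: `A` is Henselian at `I` exactly when `I` lies in the
Jacobson radical and, for every `n ≥ 1` and every polynomial `p` of degree at most `n` with all
coefficients in `I`, the polynomial `Tⁿ(T-1) + p` has exactly one root congruent to `1` modulo `I`. -/
theorem result (A : Type u) [CommRing A] (I : Ideal A) :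
    HenselianRing A I ↔ (I ≤ Ideal.jacobson ⊥ ∧
      ∀ (n : ℕ), 0 < n → ∀ p : Polynomial A, p.natDegree ≤ n → (∀ i, p.coeff i ∈ I) →
        ∃! α : A, α - 1 ∈ I ∧
          Polynomial.IsRoot (Polynomial.X ^ n * (Polynomial.X - 1) + p) α) := by
  constructor
  · intro hH
    refine ⟨hH.jac, fun n hn p hpd hp => ?_⟩
    obtain ⟨α, hα1, hα⟩ := Groth.Agent.Lib.lead.Gabber.gabber_of_henselian I n hn p hpd hp
    refine ⟨α, ⟨hα1, hα⟩, ?_⟩
    rintro β ⟨hβ1, hβ⟩
    refine Groth.Agent.Lib.lead.Gabber.root_unique_of_le_jacobson I hH.jac _ β α hβ hα ?_ ?_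
    · have : β - α = (β - 1) - (α - 1) := by ring
      rw [this]; exact I.sub_mem hβ1 hα1
    · rw [(Groth.Agent.Lib.lead.Gabber.gabber_eval_mem I n p hp α hα1).2]
      exact isUnit_one
  · rintro ⟨hjac, H⟩
    refine ⟨hjac, fun f _ a₀ h₁ h₂ => ?_⟩
    refine Groth.Agent.Lib.lead.Gabber.exists_root_of_gabber I hjac (fun n hn p hpd hp => ?_) f a₀ h₁ h₂
    obtain ⟨α, ⟨hα1, hα⟩, -⟩ := H n hn p hpd hp
    exact ⟨α, hα1, hα⟩

end Groth.Agent.S0524
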