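import Groth.Statements.S0530
import Mathlib
-- import your own Groth.Agent.* helpers here

set_option autoImplicit false
universe u
open Hensel

namespace Groth.Agent.S0530

open Polynomial in
/-- every element of `I` is of the form `ε ^ 2 - ε` with `ε ∈ I` -/
theorem exists_sq_sub_self (A : Type u) [CommRing A] (I : Ideal A) [HenselianRing A I]
    (i : A) (hi : i ∈ I) : ∃ ε ∈ I, ε ^ 2 - ε = i := by
  have hm : (X ^ 2 - X - C i : A[X]).Monic := by
    have h1 : (X ^ 2 - (X + C i) : A[X]).Monic := by
      apply monic_X_pow_sub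
      calc (X + C i : A[X]).degree ≤ 1 := by
            compute_degree
        _ < 2 := by norm_num
    have : (X ^ 2 - X - C i : A[X]) = X ^ 2 - (X + C i) := by ring
    rwa [this]
  obtain ⟨a, ha, ha'⟩ := HenselianRing.is_henselian (I := I) (X ^ 2 - X - C i : A[X]) hm 0
    (by simpa using hi)
    (by
      simp only [derivative_sub, derivative_X_pow, derivative_X, derivative_C, eval_sub, eval_mul,
        eval_pow, eval_X, eval_one, eval_C, eval_zero]
      simp)
  refine ⟨a, by simpa using ha', ?_⟩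
  have : eval a (X ^ 2 - X - C i : A[X]) = 0 := ha
  simp only [eval_sub, eval_pow, eval_X, eval_C] at this
  linear_combination this

/-- If `A` is Henselian at `I` and `p` is a prime ideal of `A`, then the spectrum of `A/(p + I)` is
connected. -/
theorem result (A : Type u) [CommRing A] (I : Ideal A) [HenselianRing A I]
    (p : Ideal A) [p.IsPrime] : ConnectedSpace (PrimeSpectrum (A ⧸ p ⊔ I)) := by
  have hne : p ⊔ I ≠ ⊤ := by
    intro h
    have h1 : (1 : A) ∈ p ⊔ I := by rw [h]; trivial
    obtain ⟨x, hx, i, hi, hxi⟩ := Submodule.mem_sup.mp h1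
    have hjac := (HenselianRing.jac (I := I)) hi
    rw [Ideal.mem_jacobson_bot] at hjac
    have hu := hjac (-1)
    have hx' : x = i * -1 + 1 := by linear_combination hxi
    rw [← hx'] at hu
    exact Ideal.IsPrime.ne_top ‹p.IsPrime› (Ideal.eq_top_of_isUnit_mem _ hx hu)
  have : Nontrivial (A ⧸ p ⊔ I) := Ideal.Quotient.nontrivial_iff.mpr hne
  rw [connectedSpace_iff_clopen]
  refine ⟨inferInstance, ?_⟩
  intro s hs
  obtain ⟨e, he, rfl⟩ := PrimeSpectrum.isClopen_iff.mp hs
  obtain ⟨a, rfl⟩ := Ideal.Quotient.mk_surjective e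
  have h1 : a ^ 2 - a ∈ p ⊔ I := by
    rw [← Ideal.Quotient.eq_zero_iff_mem, map_sub, map_pow, pow_two, he.eq, sub_self]
  obtain ⟨x, hx, i, hi, hxi⟩ := Submodule.mem_sup.mp h1
  obtain ⟨ε, hε, hεi⟩ := exists_sq_sub_self A I i hi
  have h2 : (a - ε) * (a + ε - 1) ∈ p := by
    have : (a - ε) * (a + ε - 1) = x := by
      linear_combination -hxi - hεi
    rwa [this]
  rcases Ideal.IsPrime.mem_or_mem ‹p.IsPrime› h2 with h | h
  · left
    have ha : a ∈ p ⊔ I := by
      have : a = (a - ε) + ε := by ring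
      rw [this]
      exact Submodule.add_mem_sup h hε
    have : Ideal.Quotient.mk (p ⊔ I) a = 0 := Ideal.Quotient.eq_zero_iff_mem.mpr ha
    rw [this]
    simp
  · right
    have ha : a - 1 ∈ p ⊔ I := by
      have : a - 1 = (a + ε - 1) + (-ε) := by ring
      rw [this]
      exact Submodule.add_mem_sup h (I.neg_mem hε)
    have : Ideal.Quotient.mk (p ⊔ I) a = 1 := by
      rw [← sub_eq_zero, ← map_one (Ideal.Quotient.mk (p ⊔ I)), ← map_sub]
      exact Ideal.Quotient.eq_zero_iff_mem.mpr ha
    rw [this]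
    simp

end Groth.Agent.S0530
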