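import Groth.Statements.S0534
import Groth.Agent.Lib.helper3.PairProj
-- import your own Groth.Agent.* helpers here

set_option autoImplicit false
universe u
open Hensel

namespace Groth.Agent.S0534

open TensorProduct Polynomial

theorem one_tmul_eq_zero_iff {R : Type*} [CommRing R] (I : Ideal R) {M : Type*} [AddCommGroup M]
    [Module R M] (x : M) :
    (1 : R ⧸ I) ⊗ₜ[R] x = 0 ↔ x ∈ (I • ⊤ : Submodule R M) := by
  rw [← (TensorProduct.quotTensorEquivQuotSMul M I).map_eq_zero_iff,
    TensorProduct.quotTensorEquivQuotSMul_mk_one_tmul, Submodule.Quotient.mk_eq_zero]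

theorem exists_one_tmul {R : Type*} [CommRing R] (I : Ideal R) {M : Type*} [AddCommGroup M]
    [Module R M] (z : (R ⧸ I) ⊗[R] M) : ∃ x : M, (1 : R ⧸ I) ⊗ₜ[R] x = z := by
  obtain ⟨x, hx⟩ := Submodule.Quotient.mk_surjective _ (TensorProduct.quotTensorEquivQuotSMul M I z)
  refine ⟨x, ?_⟩
  apply (TensorProduct.quotTensorEquivQuotSMul M I).injective
  rw [TensorProduct.quotTensorEquivQuotSMul_mk_one_tmul, hx]

/-- lifting idempotent matrices over a Henselian pair -/
theorem exists_idem_matrix {R : Type u} [CommRing R] (I : Ideal R) [HenselianRing R I] (m : ℕ)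
    (hm : m ≠ 0) (Eb : Matrix (Fin m) (Fin m) (R ⧸ I)) (hEb : Eb * Eb = Eb) :
    ∃ e : Matrix (Fin m) (Fin m) R, e * e = e ∧ e.map (Ideal.Quotient.mk I) = Eb := by
  classical
  have hIjac : I ≤ Ideal.jacobson ⊥ := HenselianRing.jac
  obtain ⟨b, hb⟩ : ∃ b : Matrix (Fin m) (Fin m) R, b.map (Ideal.Quotient.mk I) = Eb :=
    ⟨Matrix.of fun j k => (Ideal.Quotient.mk_surjective (Eb j k)).choose, by
      ext j k; exact (Ideal.Quotient.mk_surjective (Eb j k)).choose_spec⟩
  let Φ : Matrix (Fin m) (Fin m) R →ₐ[R] Matrix (Fin m) (Fin m) (R ⧸ I) :=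
    AlgHom.mapMatrix (Ideal.Quotient.mkₐ R I)
  have hΦ : ∀ M, Φ M = M.map (Ideal.Quotient.mk I) := fun M => rfl
  set z := b * b - b with hz
  have hzmap : z.map (Ideal.Quotient.mk I) = 0 := by
    rw [← hΦ, hz, map_sub, map_mul, hΦ, hb, hEb, sub_self]
  set Qp : R[X] := X * (X - C 1) with hQp
  set f := z.charpoly.comp Qp with hf
  have hfm : f.Monic := by
    rcases subsingleton_or_nontrivial R with h | h
    · exact Subsingleton.elim _ _
    · refine (Matrix.charpoly_monic z).comp (monic_X.mul (monic_X_sub_C 1)) ?_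
      rw [hQp, monic_X.natDegree_mul (monic_X_sub_C 1), natDegree_X, natDegree_X_sub_C]
      norm_num
  have hfb : aeval b f = 0 := by
    rw [hf, aeval_comp]
    have : aeval b Qp = z := by
      rw [hQp, map_mul, aeval_X, map_sub, aeval_X, aeval_C, map_one, mul_sub, mul_one]
    rw [this, Matrix.aeval_self_charpoly]
  have hfmap : f.map (Ideal.Quotient.mk I) = X ^ m * (X - C 1) ^ m := by
    rw [hf, Polynomial.map_comp, ← Matrix.charpoly_map, hzmap, Matrix.charpoly_zero, Fintype.card_fin, hQp,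
      X_pow_comp, Polynomial.map_mul, Polynomial.map_sub, Polynomial.map_X, Polynomial.map_C,
      map_one, mul_pow]
  have hunit : ∀ w : Matrix (Fin m) (Fin m) R, Φ w = 1 → IsUnit w := by
    intro w hw
    rw [Matrix.isUnit_iff_isUnit_det]
    have h1 : Ideal.Quotient.mk I w.det = 1 := by
      rw [RingHom.map_det]
      have : (Ideal.Quotient.mk I).mapMatrix w = 1 := hw
      rw [this, Matrix.det_one]
    have h2 : w.det - 1 ∈ I := by
      rw [← Ideal.Quotient.eq_zero_iff_mem, map_sub, h1, map_one, sub_self]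
    have := Ideal.mem_jacobson_bot.mp (hIjac h2) 1
    simpa using this
  obtain ⟨e, he, heb⟩ := Groth.Agent.Lib.helper3.PairProj.exists_idem_of_factor I Φ hunit b
    (by rw [hΦ, hb]; exact hEb) m hm f hfm hfb hfmap
  exact ⟨e, he, by rw [← hΦ, heb, hΦ, hb]⟩

/-- If `R` is Henselian at `I`, every finitely generated projective `R/I`-module is the base change of a
finitely generated projective `R`-module. -/
theorem result (R : Type u) [CommRing R] (I : Ideal R)
    [HenselianRing R I] (Q : Type u) [AddCommGroup Q] [Module (R ⧸ I) Q] [Module.Finite (R ⧸ I) Q]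
    [Module.Projective (R ⧸ I) Q] :
    ∃ (P : Type u) (_ : AddCommGroup P) (_ : Module R P), Module.Finite R P ∧ Module.Projective R P ∧
      Nonempty (TensorProduct R (R ⧸ I) P ≃ₗ[R ⧸ I] Q) := by
  classical
  have hIjac : I ≤ Ideal.jacobson ⊥ := HenselianRing.jac
  obtain ⟨n, s₀, hs₀⟩ := Module.Finite.exists_fin' (R ⧸ I) Q
  let pr : (Fin (n + 1) → R ⧸ I) →ₗ[R ⧸ I] (Fin n → R ⧸ I) :=
    LinearMap.funLeft (R ⧸ I) (R ⧸ I) Fin.castSucc
  have hpr : Function.Surjective pr :=
    LinearMap.funLeft_surjective_of_injective _ _ _ (Fin.castSucc_injective n)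
  let s := s₀.comp pr
  have hs : Function.Surjective s := hs₀.comp hpr
  obtain ⟨i, hi⟩ := Module.projective_lifting_property s LinearMap.id hs
  have hsi : ∀ q, s (i q) = q := fun q => LinearMap.congr_fun hi q
  let ēl : (Fin (n + 1) → R ⧸ I) →ₗ[R ⧸ I] (Fin (n + 1) → R ⧸ I) := i.comp s
  let Eb := LinearMap.toMatrix' ēl
  have hEb : Eb * Eb = Eb := by
    rw [← LinearMap.toMatrix'_comp]
    congr 1
    refine LinearMap.ext fun x => ?_
    simp only [ēl, LinearMap.comp_apply, hsi]
  have hEbv : ∀ v, Eb.mulVec v = i (s v) := by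
    intro v
    rw [← Matrix.toLin'_apply, Matrix.toLin'_toMatrix']
    rfl
  obtain ⟨e, he, heb⟩ := exists_idem_matrix I (n + 1) (Nat.succ_ne_zero n) Eb hEb
  let eL : (Fin (n + 1) → R) →ₗ[R] (Fin (n + 1) → R) := Matrix.mulVecLin e
  have heL : ∀ x, eL (eL x) = eL x := by
    intro x
    simp only [eL, Matrix.mulVecLin_apply, Matrix.mulVec_mulVec, he]
  have hmk : ∀ y : Fin (n + 1) → R, (fun j => Ideal.Quotient.mk I (eL y j)) =
      i (s fun j => Ideal.Quotient.mk I (y j)) := by
    intro y
    rw [← hEbv, ← heb]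
    funext j
    exact RingHom.map_mulVec (Ideal.Quotient.mk I) e y j
  let P : Submodule R (Fin (n + 1) → R) := LinearMap.range eL
  have hPfix : ∀ x : P, eL (x : Fin (n + 1) → R) = x := by
    rintro ⟨_, y, rfl⟩
    exact heL y
  refine ⟨P, inferInstance, inferInstance, ?_, ?_, ?_⟩
  · exact Module.Finite.range eL
  · refine Module.Projective.of_split P.subtype eL.rangeRestrict ?_
    refine LinearMap.ext fun x => Subtype.ext ?_
    exact hPfix x
  · let α : (R ⧸ I) ⊗[R] P →ₗ[R ⧸ I] Q :=
      s.comp ((TensorProduct.piScalarRight R (R ⧸ I) (R ⧸ I) (Fin (n + 1))).toLinearMap.comp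
        (P.subtype.baseChange (R ⧸ I)))
    have hα : ∀ x : P, α ((1 : R ⧸ I) ⊗ₜ[R] x) =
        s (fun j => Ideal.Quotient.mk I ((x : Fin (n + 1) → R) j)) := by
      intro x
      simp only [α, LinearMap.comp_apply, LinearMap.baseChange_tmul, LinearEquiv.coe_coe,
        Submodule.subtype_apply]
      congr 1
      rw [TensorProduct.piScalarRight_apply, TensorProduct.piScalarRightHom_tmul]
      funext j
      rw [Algebra.smul_def, mul_one]
      rfl
    refine ⟨LinearEquiv.ofBijective α ⟨?_, ?_⟩⟩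
    · rw [← LinearMap.ker_eq_bot, LinearMap.ker_eq_bot']
      intro z hz
      obtain ⟨x, rfl⟩ := exists_one_tmul I z
      rw [hα] at hz
      rw [one_tmul_eq_zero_iff]
      -- coordinates of `x` lie in `I`
      have h0 : (fun j => Ideal.Quotient.mk I ((x : Fin (n + 1) → R) j)) = 0 := by
        have := hmk (x : Fin (n + 1) → R)
        rw [hPfix x, hz, map_zero] at this
        exact this
      have hxI : ∀ j, (x : Fin (n + 1) → R) j ∈ I := fun j =>
        Ideal.Quotient.eq_zero_iff_mem.mp (congrFun h0 j)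
      have hsumrepr : (∑ j, ((x : Fin (n + 1) → R) j) • (Pi.single j 1 : Fin (n + 1) → R)) =
          (x : Fin (n + 1) → R) := by
        have := (Pi.basisFun R (Fin (n + 1))).sum_repr (x : Fin (n + 1) → R)
        simpa only [Pi.basisFun_repr, Pi.basisFun_apply] using this
      have hx : x = ∑ j, ((x : Fin (n + 1) → R) j) • (eL.rangeRestrict (Pi.single j 1)) := by
        apply Subtype.ext
        rw [Submodule.coe_sum]
        calc (x : Fin (n + 1) → R) = eL (x : Fin (n + 1) → R) := (hPfix x).symm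
          _ = eL (∑ j, ((x : Fin (n + 1) → R) j) • (Pi.single j 1 : Fin (n + 1) → R)) := by
            rw [hsumrepr]
          _ = ∑ j, ((x : Fin (n + 1) → R) j) • eL (Pi.single j 1) := by
            rw [map_sum]
            exact Finset.sum_congr rfl fun j _ => map_smul _ _ _
          _ = _ := Finset.sum_congr rfl fun j _ => rfl
      rw [hx]
      exact Submodule.sum_mem _ fun j _ => Submodule.smul_mem_smul (hxI j) Submodule.mem_top
    · intro q
      obtain ⟨y, hy⟩ : ∃ y : Fin (n + 1) → R, (fun j => Ideal.Quotient.mk I (y j)) = i q :=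
        ⟨fun j => (Ideal.Quotient.mk_surjective (i q j)).choose, by
          funext j; exact (Ideal.Quotient.mk_surjective (i q j)).choose_spec⟩
      refine ⟨(1 : R ⧸ I) ⊗ₜ[R] (eL.rangeRestrict y), ?_⟩
      rw [hα]
      have : ((eL.rangeRestrict y : P) : Fin (n + 1) → R) = eL y := rfl
      rw [this, hmk, hy, hsi, hsi]

end Groth.Agent.S0534
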