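import Groth.Statements.S0532
import Mathlib
import Groth.Agent.Lib.helper3.PairFin
import Groth.Agent.Lib.helper3.EtaleLiftQuot
import Groth.Agent.S0534
-- import your own Groth.Agent.* helpers here

set_option autoImplicit false
universe u
open Hensel

namespace Groth.Agent.S0532

open TensorProduct in
/-- a surjective `A`-algebra map `ψ : B → C` with kernel `IB` identifies `(A/I) ⊗ B` with `C` -/
theorem tensor_equiv_of_ker (A : Type u) [CommRing A] (I : Ideal A) (B C : Type u) [CommRing B]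
    [CommRing C] [Algebra A B] [Algebra (A ⧸ I) C] [Algebra A C] [IsScalarTower A (A ⧸ I) C]
    (ψ : B →ₐ[A] C) (hs : Function.Surjective ψ) (hk : RingHom.ker ψ ≤ I.map (algebraMap A B)) :
    Nonempty ((A ⧸ I) ⊗[A] B ≃ₐ[A ⧸ I] C) := by
  let Θ : (A ⧸ I) ⊗[A] B →ₐ[A ⧸ I] C :=
    Algebra.TensorProduct.lift (Algebra.ofId (A ⧸ I) C) ψ (fun _ _ => Commute.all _ _)
  have hΘ : ∀ b : B, Θ (1 ⊗ₜ b) = ψ b := by
    intro b
    simp [Θ]
  refine ⟨AlgEquiv.ofBijective Θ ⟨?_, ?_⟩⟩
  · rw [injective_iff_map_eq_zero]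
    intro z hz
    obtain ⟨b, rfl⟩ := Groth.Agent.S0534.exists_one_tmul I z
    rw [hΘ] at hz
    rw [Groth.Agent.S0534.one_tmul_eq_zero_iff, Ideal.smul_top_eq_map]
    exact hk hz
  · intro c
    obtain ⟨b, rfl⟩ := hs c
    exact ⟨1 ⊗ₜ b, hΘ b⟩

/-- If `A` is Henselian at `I`, every finite étale `A/I`-algebra is the base change of a finite étale
`A`-algebra. -/
theorem result (A : Type u) [CommRing A] (I : Ideal A) [HenselianRing A I]
    (C : Type u) [CommRing C] [Algebra (A ⧸ I) C] [Module.Finite (A ⧸ I) C] [Algebra.Etale (A ⧸ I) C] :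
    ∃ (B : Type u) (_ : CommRing B) (_ : Algebra A B), Module.Finite A B ∧ Algebra.Etale A B ∧
      Nonempty (TensorProduct A (A ⧸ I) B ≃ₐ[A ⧸ I] C) := by
  classical
  letI : Algebra A C := ((algebraMap (A ⧸ I) C).comp (Ideal.Quotient.mk I)).toAlgebra
  haveI : IsScalarTower A (A ⧸ I) C := IsScalarTower.of_algebraMap_eq (fun _ => rfl)
  obtain ⟨R, _, _, hRet, ψ, hψs, hψk⟩ :=
    Groth.Agent.Lib.helper3.EtaleLiftQuot.exists_etale_lift A I C
  have hIker : I.map (algebraMap A R) ≤ RingHom.ker ψ := by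
    rw [Ideal.map_le_iff_le_comap]
    intro a ha
    rw [Ideal.mem_comap, RingHom.mem_ker, AlgHom.commutes,
      IsScalarTower.algebraMap_apply A (A ⧸ I) C, Ideal.Quotient.algebraMap_eq,
      Ideal.Quotient.eq_zero_iff_mem.mpr ha, map_zero]
  -- generators
  obtain ⟨s, hs⟩ := (inferInstance : Module.Finite (A ⧸ I) C).fg_top
  choose rf hrf using hψs
  choose af haf using (Ideal.Quotient.mk_surjective : Function.Surjective (Ideal.Quotient.mk I))
  have hX : ∀ r : R, ∃ a : C → A, r - ∑ x ∈ s, a x • rf x ∈ I.map (algebraMap A R) := by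
    intro r
    have hr : ψ r ∈ Submodule.span (A ⧸ I) (s : Set C) := by rw [hs]; exact Submodule.mem_top
    obtain ⟨c, -, hc⟩ := Submodule.mem_span_finset.mp hr
    refine ⟨fun y => af (c y), hψk ?_⟩
    rw [RingHom.mem_ker, map_sub, map_sum, ← hc, sub_eq_zero]
    refine Finset.sum_congr rfl fun y _ => ?_
    rw [map_smul, hrf, ← IsScalarTower.algebraMap_smul (A ⧸ I) (af (c y)) y,
      Ideal.Quotient.algebraMap_eq, haf]
  haveI : Algebra.FiniteType A R := inferInstance
  obtain ⟨g, hg1, hgfin⟩ :=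
    Groth.Agent.Lib.helper3.PairFin.exists_away_finite_of_finite_quotient A I R s rf hX
  haveI : Algebra.Etale R (Localization.Away g) := Algebra.Etale.of_isLocalizationAway g
  have hBet : Algebra.Etale A (Localization.Away g) := Algebra.Etale.comp A R _
  have hψg : ψ g = 1 := by
    have := hIker hg1
    rwa [RingHom.mem_ker, map_sub, map_one, sub_eq_zero] at this
  let ψB : Localization.Away g →ₐ[A] C :=
    IsLocalization.Away.liftAlgHom (f := ψ) g (by rw [hψg]; exact isUnit_one)
  have hψBalg : ∀ r, ψB (algebraMap _ _ r) = ψ r := by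
    intro r
    simp [ψB, IsLocalization.Away.liftAlgHom]
  have hψBs : Function.Surjective ψB := fun c => ⟨algebraMap _ _ (rf c), by rw [hψBalg, hrf]⟩
  have hψBk : RingHom.ker ψB ≤ I.map (algebraMap A (Localization.Away g)) := by
    intro b hb
    rw [RingHom.mem_ker] at hb
    obtain ⟨r, ⟨_, n, rfl⟩, rfl⟩ := IsLocalization.exists_mk'_eq (Submonoid.powers g) b
    have h1 : ψ r = 0 := by
      have h2 := IsLocalization.mk'_spec (Localization.Away g) r
        (⟨g ^ n, n, rfl⟩ : Submonoid.powers g)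
      have h3 := congrArg ψB h2
      rw [map_mul, hb, zero_mul, hψBalg] at h3
      exact h3.symm
    have h4 : r ∈ I.map (algebraMap A R) := hψk h1
    rw [IsLocalization.mk'_eq_mul_mk'_one]
    refine Ideal.mul_mem_right _ _ ?_
    have h5 := Ideal.mem_map_of_mem (algebraMap R (Localization.Away g)) h4
    rw [Ideal.map_map, ← IsScalarTower.algebraMap_eq] at h5
    exact h5
  exact ⟨Localization.Away g, inferInstance, inferInstance, hgfin, hBet,
    tensor_equiv_of_ker A I _ C ψB hψBs hψBk⟩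

end Groth.Agent.S0532
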