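import Groth.Statements.S0533
import Groth.Agent.S0526
import Groth.Agent.S0534
import Groth.Agent.Lib.helper3.PairEtale
import Groth.Agent.Lib.lead.HenselLift
-- import your own Groth.Agent.* helpers here

set_option autoImplicit false
universe u
open Hensel

namespace Groth.Agent.S0533

open TensorProduct

/-- If `A` is Henselian at `I`, base change to `A/I` gives a bijection between `A`-algebra maps of two
finite étale `A`-algebras and `A/I`-algebra maps of their reductions. -/
theorem result (A : Type u) [CommRing A] (I : Ideal A) [HenselianRing A I]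
    (B₁ B₂ : Type u) [CommRing B₁] [CommRing B₂] [Algebra A B₁] [Algebra A B₂]
    [Module.Finite A B₁] [Algebra.Etale A B₁] [Module.Finite A B₂] [Algebra.Etale A B₂] :
    Function.Bijective (fun φ : B₁ →ₐ[A] B₂ =>
      Algebra.TensorProduct.map (AlgHom.id (A ⧸ I) (A ⧸ I)) φ) := by
  classical
  have hI : I ≤ Ideal.jacobson ⊥ := HenselianRing.jac
  haveI : Algebra.IsIntegral A B₂ := Algebra.IsIntegral.of_finite A B₂
  obtain ⟨J, hJdef⟩ : ∃ J : Ideal B₂, J = I.map (algebraMap A B₂) := ⟨_, rfl⟩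
  have hJ : J ≤ Ideal.jacobson ⊥ := by
    rw [hJdef]; exact Groth.Agent.Lib.helper3.PairIdem.map_le_jacobson_of_isIntegral I hI
  have key : ∀ b : B₂, (1 : A ⧸ I) ⊗ₜ[A] b = 0 ↔ b ∈ J := by
    intro b
    rw [Groth.Agent.S0534.one_tmul_eq_zero_iff, hJdef, Ideal.smul_top_eq_map]
    rfl
  constructor
  · intro φ ψ h
    apply Groth.Agent.Lib.lead.HenselLocal.unramified_algHom_ext_of_le_jacobson J hJ
    intro a
    rw [← key, TensorProduct.tmul_sub, sub_eq_zero]
    have := AlgHom.congr_fun h (1 ⊗ₜ a)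
    simpa using this
  · intro χ
    haveI : HenselianRing B₂ J := by
      rw [hJdef]; exact Groth.Agent.S0526.result A I B₂
    have hIJ : ∀ a ∈ I, (algebraMap A (B₂ ⧸ J)) a = 0 := by
      intro a ha
      rw [IsScalarTower.algebraMap_apply A B₂ (B₂ ⧸ J), Ideal.Quotient.algebraMap_eq,
        Ideal.Quotient.eq_zero_iff_mem, hJdef]
      exact Ideal.mem_map_of_mem _ ha
    let q : (A ⧸ I) ⊗[A] B₂ →ₐ[A] B₂ ⧸ J :=
      Algebra.TensorProduct.lift (Ideal.Quotient.liftₐ I (Algebra.ofId A (B₂ ⧸ J)) hIJ)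
        (Ideal.Quotient.mkₐ A J) (fun _ _ => Commute.all _ _)
    have hq : ∀ c : B₂, q (1 ⊗ₜ c) = Ideal.Quotient.mk J c := by
      intro c
      simp [q]
    let σ : B₂ ⊗[A] B₁ →ₐ[B₂] B₂ ⧸ J :=
      Algebra.TensorProduct.lift (Algebra.ofId B₂ (B₂ ⧸ J))
        ((q.comp (χ.restrictScalars A)).comp
          ((Algebra.TensorProduct.includeRight : B₁ →ₐ[A] (A ⧸ I) ⊗[A] B₁)))
        (fun _ _ => Commute.all _ _)
    obtain ⟨τ, hτ⟩ := Groth.Agent.Lib.helper3.PairEtale.exists_lift B₂ J (B₂ ⊗[A] B₁) σ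
    refine ⟨(τ.restrictScalars A).comp Algebra.TensorProduct.includeRight, ?_⟩
    apply Algebra.TensorProduct.ext
    · ext
    · ext b
      obtain ⟨c, hc⟩ := Groth.Agent.S0534.exists_one_tmul I (χ (1 ⊗ₜ b))
      have h1 : Ideal.Quotient.mk J (τ (1 ⊗ₜ b)) = Ideal.Quotient.mk J c := by
        have := AlgHom.congr_fun hτ (1 ⊗ₜ b)
        simp only [AlgHom.comp_apply, Ideal.Quotient.mkₐ_eq_mk] at this
        rw [this]
        simp only [σ, Algebra.TensorProduct.lift_tmul, map_one, one_mul, AlgHom.comp_apply,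
          Algebra.TensorProduct.includeRight_apply, AlgHom.restrictScalars_apply]
        rw [← hc, hq]
      simp only [AlgHom.comp_apply, AlgHom.restrictScalars_apply,
        Algebra.TensorProduct.includeRight_apply, Algebra.TensorProduct.map_tmul, AlgHom.id_apply]
      rw [← hc, ← sub_eq_zero, ← TensorProduct.tmul_sub, key, ← Ideal.Quotient.eq_zero_iff_mem,
        map_sub, sub_eq_zero]
      exact h1

end Groth.Agent.S0533
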