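import Groth.Statements.S0544
import Mathlib

set_option autoImplicit false
universe u
open CAlg

namespace Groth.Agent.S0544

theorem isPrecomplete_pi {R : Type u} [CommRing R] (I : Ideal R) [IsPrecomplete I R] (n : ℕ) :
    IsPrecomplete I (Fin n → R) := by
  constructor
  intro f hf
  have hcoord : ∀ i : Fin n, ∃ L : R, ∀ k, f k i ≡ L [SMOD (I ^ k • ⊤ : Submodule R R)] := by
    intro i
    apply IsPrecomplete.prec'
    intro m k hmk
    have h1 := hf hmk
    rw [SModEq.sub_mem] at h1 ⊢
    have h2 : (LinearMap.proj i : (Fin n → R) →ₗ[R] R) (f m - f k) ∈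
        (I ^ m • ⊤ : Submodule R R) := by
      have := Submodule.mem_map_of_mem (f := (LinearMap.proj i : (Fin n → R) →ₗ[R] R)) h1
      rw [Submodule.map_smul''] at this
      exact Submodule.smul_mono le_rfl le_top this
    simpa using h2
  choose L hL using hcoord
  refine ⟨L, fun k => ?_⟩
  rw [SModEq.sub_mem]
  have : f k - L = ∑ i, (f k i - L i) • (Pi.single i (1 : R) : Fin n → R) := by
    ext j
    simp [Finset.sum_apply, Pi.single_apply]
  rw [this]
  refine Submodule.sum_mem _ fun i _ => ?_
  have h3 := hL i k
  rw [SModEq.sub_mem] at h3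
  have h4 : f k i - L i ∈ I ^ k := by simpa using h3
  exact Submodule.smul_mem_smul h4 Submodule.mem_top

/-- Let `R` be complete with respect to an ideal `I` and `M` an `R`-module which is `I`-adically
separated and such that `M/IM` is finitely generated. Then `M` is a finitely generated `R`-module. -/
theorem result (R : Type u) [CommRing R]
    (I : Ideal R) [IsAdicComplete I R] (M : Type u) [AddCommGroup M] [Module R M] [IsHausdorff I M]
    (h : Module.Finite R (M ⧸ (I • ⊤ : Submodule R M))) : Module.Finite R M := by
  obtain ⟨n, g, hg⟩ := Module.Finite.exists_fin' R (M ⧸ (I • ⊤ : Submodule R M))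
  obtain ⟨f, hf⟩ := Module.projective_lifting_property (Submodule.mkQ (I • ⊤ : Submodule R M)) g
    (Submodule.mkQ_surjective _)
  have := isPrecomplete_pi I n
  have hsurj : Function.Surjective f := by
    apply surjective_of_mkQ_comp_surjective (I := I)
    rw [hf]
    exact hg
  exact Module.Finite.of_surjective f hsurj

end Groth.Agent.S0544
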