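import Groth.Statements.S0545
import Mathlib
import Groth.Agent.S2321
import Groth.Agent.Lib.helper24.AdicApprox

set_option autoImplicit false
universe u
open CAlg

namespace Groth.Agent.S0545

open Groth.Agent.Lib.helper24 in
theorem step_lemma (A : Type u) [CommRing A] [IsNoetherianRing A]
    (I J : Ideal A) [IsPrecomplete (Ideal.map (Ideal.Quotient.mk I) J) (A ⧸ I)]
    (a : ℕ → A) (ha : ∀ m n, m ≤ n → a n - a m ∈ J ^ m)
    (k : ℕ) (b : A) (hb : ∀ n, a n - b ∈ J ^ n ⊔ I ^ k) :
    ∃ b', b' - b ∈ I ^ k ∧ ∀ n, a n - b' ∈ J ^ n ⊔ I ^ (k + 1) := by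
  classical
  obtain ⟨c, hc⟩ := Ideal.exists_pow_inf_eq_pow_smul J (I ^ k : Submodule A A)
  have hAR : ∀ n, J ^ (n + c) ⊓ I ^ k ≤ J ^ n * I ^ k := by
    intro n x hx
    have h1 := hc (n + c) (by omega)
    have hx' : x ∈ J ^ (n + c) • (⊤ : Submodule A A) ⊓ (I ^ k : Submodule A A) := by
      refine ⟨?_, hx.2⟩
      rw [smul_eq_mul, Ideal.mul_top]; exact hx.1
    rw [h1, Nat.add_sub_cancel] at hx'
    exact Submodule.smul_mono le_rfl inf_le_right hx'
  have hdec : ∀ n, ∃ j ∈ J ^ n, ∃ i ∈ I ^ k, j + i = a n - b := fun n => Submodule.mem_sup.mp (hb n)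
  choose j hj i hi hji using hdec
  have hdiff : ∀ n, i (n + c + 1) - i (n + c) ∈ J ^ n * I ^ k := by
    intro n
    apply hAR n
    refine ⟨?_, sub_mem (hi _) (hi _)⟩
    have h3 : i (n + c + 1) - i (n + c) = (a (n + c + 1) - a (n + c)) - (j (n + c + 1) - j (n + c)) := by
      have h1 := hji (n + c + 1)
      have h2 := hji (n + c)
      linear_combination h1 - h2
    rw [h3]
    exact sub_mem (ha _ _ (Nat.le_succ _))
      (sub_mem (Ideal.pow_le_pow_right (Nat.le_succ _) (hj _)) (hj _))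
  obtain ⟨r, g, hg⟩ := Submodule.fg_iff_exists_fin_generating_family.mp
    ((isNoetherianRing_iff_ideal_fg A).mp inferInstance (I ^ k))
  have hgmem : ∀ t, g t ∈ I ^ k := fun t => hg ▸ Submodule.subset_span ⟨t, rfl⟩
  -- coefficients of differences
  have hβ : ∀ n, ∃ β : Fin r → A, (∀ t, β t ∈ J ^ n) ∧ ∑ t, β t * g t = i (n + c + 1) - i (n + c) := by
    intro n
    have h1 := hdiff n
    rw [← smul_eq_mul, ← hg] at h1
    obtain ⟨β, hβ1, hβ2⟩ := (Submodule.mem_ideal_smul_span_iff_exists_sum (J ^ n) g _).mp h1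
    refine ⟨β, hβ1, ?_⟩
    rw [← hβ2, Finsupp.sum_fintype _ _ (by simp)]
    rfl
  choose β hβ1 hβ2 using hβ
  obtain ⟨α, hα⟩ : ∃ α : Fin r → A, ∑ t, α t * g t = i c := by
    have h1 : i c ∈ Ideal.span (Set.range g) := by
      have := hi c
      rwa [← hg] at this
    exact (Ideal.mem_span_range_iff_exists_fun).mp h1
  have htel : ∀ N, i (N + c) = ∑ t, (α t + ∑ l ∈ Finset.range N, β l t) * g t := by
    intro N
    have h1 : ∑ l ∈ Finset.range N, (i (l + 1 + c) - i (l + c)) = i (N + c) - i (0 + c) :=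
      Finset.sum_range_sub (fun l => i (l + c)) N
    have h2 : ∑ l ∈ Finset.range N, (i (l + 1 + c) - i (l + c)) =
        ∑ t, (∑ l ∈ Finset.range N, β l t) * g t := by
      simp_rw [Finset.sum_mul]
      rw [Finset.sum_comm]
      refine Finset.sum_congr rfl fun l _ => ?_
      rw [hβ2 l]
      congr 2
      omega
    simp_rw [add_mul, Finset.sum_add_distrib, hα, ← h2, h1, zero_add]
    ring
  -- sum the series in A/I
  set Jb := Ideal.map (Ideal.Quotient.mk I) J with hJb
  have hser : ∀ t, ∃ B : A, ∀ N, (∑ l ∈ Finset.range N, β l t) - B ∈ J ^ N ⊔ I := by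
    intro t
    obtain ⟨Bb, hBb⟩ := AdicApprox.series Jb (fun l => Ideal.Quotient.mk I (β l t)) 0 (by
      intro l
      rw [Nat.sub_zero, hJb, ← Ideal.map_pow]
      exact Ideal.mem_map_of_mem _ (hβ1 l t))
    obtain ⟨B, rfl⟩ := Ideal.Quotient.mk_surjective Bb
    refine ⟨B, fun N => ?_⟩
    have h1 := hBb N
    rw [Nat.sub_zero, hJb, ← Ideal.map_pow, ← map_sum, ← map_sub] at h1
    have h2 : (∑ l ∈ Finset.range N, β l t) - B ∈
        Ideal.comap (Ideal.Quotient.mk I) (Ideal.map (Ideal.Quotient.mk I) (J ^ N)) := h1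
    rw [Ideal.comap_map_of_surjective _ Ideal.Quotient.mk_surjective, ← RingHom.ker_eq_comap_bot,
      Ideal.mk_ker] at h2
    exact h2
  choose B hB using hser
  refine ⟨b + ∑ t, (α t + B t) * g t, ?_, ?_⟩
  · rw [add_sub_cancel_left]
    exact Ideal.sum_mem _ fun t _ => Ideal.mul_mem_left _ _ (hgmem t)
  · intro n
    have h1 : a (n + c) - (b + ∑ t, (α t + B t) * g t) =
        j (n + c) + ∑ t, ((∑ l ∈ Finset.range n, β l t) - B t) * g t := by
      have h2 := hji (n + c)
      have h3 := htel n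
      have h4 : ∑ t, ((∑ l ∈ Finset.range n, β l t) - B t) * g t =
          (∑ t, (α t + ∑ l ∈ Finset.range n, β l t) * g t) - ∑ t, (α t + B t) * g t := by
        rw [← Finset.sum_sub_distrib]
        refine Finset.sum_congr rfl fun t _ => ?_
        ring
      rw [h4, ← h3]
      linear_combination -h2
    have h5 : a (n + c) - (b + ∑ t, (α t + B t) * g t) ∈ J ^ n ⊔ I ^ (k + 1) := by
      rw [h1]
      refine add_mem (Submodule.mem_sup_left (Ideal.pow_le_pow_right (Nat.le_add_right _ _) (hj _))) ?_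
      refine Ideal.sum_mem _ fun t _ => ?_
      obtain ⟨x1, hx1, x2, hx2, hx12⟩ := Submodule.mem_sup.mp (hB t n)
      rw [← hx12, add_mul]
      refine add_mem (Submodule.mem_sup_left (Ideal.mul_mem_right _ _ hx1)) (Submodule.mem_sup_right ?_)
      rw [pow_succ']
      exact Ideal.mul_mem_mul hx2 (hgmem t)
    have h6 : a n - (b + ∑ t, (α t + B t) * g t) =
        (a (n + c) - (b + ∑ t, (α t + B t) * g t)) - (a (n + c) - a n) := by ring
    rw [h6]
    exact sub_mem h5 (Submodule.mem_sup_left (ha _ _ (Nat.le_add_right _ _)))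

/-- For a Noetherian ring `A` with two ideals `I` and `J`, completeness of `A` along `I` together with
completeness of the quotient `A/I` along the image of `J` forces completeness of `A` along `J`. -/
theorem result (A : Type u) [CommRing A] [IsNoetherianRing A]
    (I J : Ideal A) [IsAdicComplete I A]
    [IsAdicComplete (Ideal.map (Ideal.Quotient.mk I) J) (A ⧸ I)] : IsAdicComplete J A := by
  have hI : I ≤ (⊥ : Ideal A).jacobson := IsAdicComplete.le_jacobson_bot I
  have hJb : Ideal.map (Ideal.Quotient.mk I) J ≤ (⊥ : Ideal (A ⧸ I)).jacobson :=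
    IsAdicComplete.le_jacobson_bot _
  have hJ : J ≤ (⊥ : Ideal A).jacobson := by
    have h1 : J ≤ Ideal.comap (Ideal.Quotient.mk I) (⊥ : Ideal (A ⧸ I)).jacobson :=
      Ideal.map_le_iff_le_comap.mp hJb
    rw [Ideal.comap_jacobson_of_surjective Ideal.Quotient.mk_surjective,
      ← RingHom.ker_eq_comap_bot, Ideal.mk_ker] at h1
    refine h1.trans ?_
    calc I.jacobson ≤ ((⊥ : Ideal A).jacobson).jacobson := Ideal.jacobson_mono hI
      _ = (⊥ : Ideal A).jacobson := Ideal.jacobson_idem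
  haveI : IsHausdorff J A := IsHausdorff.of_le_jacobson J A hJ
  have closed : ∀ (P : Ideal A) (x : A), (∀ k, x ∈ P ⊔ I ^ k) → x ∈ P := by
    intro P x hx
    have h4all : ∀ (M : Type u) [AddCommGroup M] [Module A M], Module.Finite A M →
        ∀ P : Submodule A M, (⨅ n : ℕ, P ⊔ I ^ n • (⊤ : Submodule A M)) = P :=
      ((Groth.Agent.S2321.result A I).out 0 3).mp hI
    have h4 := h4all A inferInstance P
    rw [← h4, Submodule.mem_iInf]
    intro k
    have := hx k
    rwa [← Ideal.mul_top (I ^ k), ← smul_eq_mul] at this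
  refine { toIsHausdorff := inferInstance, toIsPrecomplete := ⟨?_⟩ }
  intro a ha
  have ha' : ∀ m n, m ≤ n → a n - a m ∈ J ^ m := by
    intro m n hmn
    have := (ha hmn).symm
    rwa [SModEq.sub_mem, smul_eq_mul, Ideal.mul_top] at this
  have step := step_lemma A I J a ha'
  choose! nxt hnxt1 hnxt2 using step
  let bs : ℕ → A := fun k => Nat.rec 0 (fun k b => nxt k b) k
  have hbs : ∀ k, ∀ n, a n - bs k ∈ J ^ n ⊔ I ^ k := by
    intro k
    induction k with
    | zero => intro n; simp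
    | succ k ih => exact hnxt2 k (bs k) ih
  have hbs' : ∀ k, bs (k + 1) - bs k ∈ I ^ k := fun k => hnxt1 k (bs k) (hbs k)
  have hcauchy : ∀ m n, m ≤ n → bs n - bs m ∈ I ^ m := by
    intro m n hmn
    induction n, hmn using Nat.le_induction with
    | base => simp
    | succ n hmn ih =>
      have : bs (n + 1) - bs m = (bs (n + 1) - bs n) + (bs n - bs m) := by ring
      rw [this]
      exact add_mem (Ideal.pow_le_pow_right hmn (hbs' n)) ih
  obtain ⟨b, hb⟩ := IsPrecomplete.prec' (I := I) (M := A) bs (by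
    intro m n hmn
    rw [SModEq.sub_mem, smul_eq_mul, Ideal.mul_top, ← neg_sub]
    exact neg_mem (hcauchy m n hmn))
  refine ⟨b, fun n => ?_⟩
  rw [SModEq.sub_mem, smul_eq_mul, Ideal.mul_top]
  apply closed
  intro k
  have h1 : a n - b = (a n - bs k) + (bs k - b) := by ring
  rw [h1]
  have h2 := hb k
  rw [SModEq.sub_mem, smul_eq_mul, Ideal.mul_top] at h2
  exact add_mem (hbs k n) (Submodule.mem_sup_right h2)

end Groth.Agent.S0545
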