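import Groth.Statements.S0546
import Mathlib
import Groth.Agent.Lib.helper20.AdicSup

set_option autoImplicit false
universe u
open CAlg

namespace Groth.Agent.S0546

/-- If `I ≤ J` are ideals with `I` finitely generated and `M` is `J`-adically complete, then `M` is
`I`-adically complete. -/
theorem result (A : Type u) [CommRing A] (I J : Ideal A) (hIJ : I ≤ J)
    (hI : I.FG) (M : Type u) [AddCommGroup M] [Module A M] [IsAdicComplete J M] :
    IsAdicComplete I M := by
  classical
  have hH : IsHausdorff I M := ⟨fun x hx =>
    IsHausdorff.haus (IsAdicComplete.toIsHausdorff (I := J) (M := M)) x (fun n => by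
      have h := hx n
      rw [SModEq.sub_mem] at h ⊢
      exact Submodule.smul_mono_left (Ideal.pow_right_mono hIJ n) h)⟩
  have hP : IsPrecomplete I M := by
    obtain ⟨s, rfl⟩ := hI
    apply Groth.Agent.Lib.helper20.AdicSup.isPrecomplete_span_finset
    intro a ha
    exact Groth.Agent.Lib.helper20.AdicSup.isPrecomplete_span_singleton J a
      (hIJ (Ideal.subset_span ha))
  exact { toIsHausdorff := hH, toIsPrecomplete := hP }

end Groth.Agent.S0546
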