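import Groth.Statements.S0550
import Mathlib
import Groth.Agent.S0543
import Groth.Agent.Lib.helper26.AdicFin
-- import your own Groth.Agent.* helpers here

set_option autoImplicit false
universe u
open CAlg

namespace Groth.Agent.S0550

open W4c5adicflatcompl Groth.Agent.Lib.helper26.AdicSum in
theorem flat_aux (R : Type u) [CommRing R] [IsNoetherianRing R]
    (I : Ideal R) (α : Type u) : Module.Flat R (AdicCompletion I (α →₀ R)) := by
  classical
  have hIfg : I.FG := IsNoetherian.noetherian I
  have hN : IsNoetherianRing (AdicCompletion I R) := Groth.Agent.S0543.result R I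
  have hC : IsAdicComplete (I.map (algebraMap R (AdicCompletion I R))) (AdicCompletion I R) :=
    AdicCompletion.isAdicComplete_self I hIfg
  have hpre : IsPrecomplete I (AdicCompletion I R) :=
    (AdicCompletion.isAdicComplete (M := R) hIfg).toIsPrecomplete
  have hflat : Module.Flat (AdicCompletion I R)
      (decaying (I.map (algebraMap R (AdicCompletion I R))) α (AdicCompletion I R)) :=
    flat_decaying
  have hflatR : Module.Flat R
      (decaying (I.map (algebraMap R (AdicCompletion I R))) α (AdicCompletion I R)) :=
    Module.Flat.trans R (AdicCompletion I R) _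
  have hmem : ∀ n (s : AdicCompletion I R), s ∈ (I ^ n • ⊤ : Submodule R (AdicCompletion I R)) ↔
      s ∈ ((I.map (algebraMap R (AdicCompletion I R))) ^ n • ⊤ :
        Submodule (AdicCompletion I R) (AdicCompletion I R)) := by
    intro n s
    rw [Ideal.smul_top_eq_map, Submodule.restrictScalars_mem, Ideal.map_pow, smul_eq_mul,
      Ideal.mul_top]
  have hcar : ∀ f : α → AdicCompletion I R, f ∈ decaying I α (AdicCompletion I R) ↔
      f ∈ decaying (I.map (algebraMap R (AdicCompletion I R))) α (AdicCompletion I R) := by
    intro f
    simp only [mem_decaying_iff, hmem]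
  let e1 : AdicCompletion I (α →₀ R) ≃ₗ[R] decaying I α (AdicCompletion I R) :=
    (LinearEquiv.ofInjective (Ψ I α R) (Ψ_injective I)).trans (LinearEquiv.ofEq _ _ (Ψ_range I))
  let e2 : decaying I α (AdicCompletion I R) ≃ₗ[R]
      decaying (I.map (algebraMap R (AdicCompletion I R))) α (AdicCompletion I R) :=
    { toFun := fun f => ⟨f.1, (hcar _).mp f.2⟩
      invFun := fun f => ⟨f.1, (hcar _).mpr f.2⟩
      map_add' := fun f g => rfl
      map_smul' := fun r f => rfl
      left_inv := fun f => rfl
      right_inv := fun f => rfl }
  exact Module.Flat.of_linearEquiv (e1.trans e2)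

/-- Over a Noetherian ring `R` with an ideal `I`, the `I`-adic completion of a free module (on any index
set) is a flat `R`-module. -/
theorem result (R : Type u) [CommRing R] [IsNoetherianRing R]
    (I : Ideal R) (α : Type u) : Module.Flat R (AdicCompletion I (α →₀ R)) := by
  exact flat_aux R I α

end Groth.Agent.S0550
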