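import Groth.Statements.S0571
import Groth.Agent.Lib.helper26.N1CritB

set_option autoImplicit false
universe u
open CAlg

namespace Groth.Agent.S0571



/-- A Noetherian domain `R` is N-1 exactly when (a) `R_f` is integrally closed for some nonzero `f`, and
(b) the localization of `R` at every maximal ideal is N-1. -/
theorem result (R : Type u) [CommRing R] [IsDomain R]
    [IsNoetherianRing R] :
    CAlg.IsN1 R ↔ ((∃ f : R, f ≠ 0 ∧ IsIntegrallyClosed (Localization.Away f)) ∧
      ∀ (m : Ideal R) [m.IsMaximal], CAlg.IsN1 (Localization.AtPrime m)) := by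
  constructor
  · intro h
    exact ⟨Groth.Agent.Lib.helper26.N1Crit.exists_isIntegrallyClosed_away h,
      fun m _ => Groth.Agent.Lib.helper26.N1Crit.isN1_atPrime m h⟩
  · rintro ⟨⟨f, hf, hn⟩, hloc⟩
    exact Groth.Agent.Lib.helper26.N1Crit.finite_of_local f hf
      (Groth.Agent.Lib.helper26.N1Crit.cover_of_isIntegrallyClosed f hf hn)
      (fun m _ => Groth.Agent.Lib.helper26.N1Crit.local_stab m f
        (Groth.Agent.Lib.helper26.N1Crit.cover_of_isIntegrallyClosed f hf hn) (hloc m))

end Groth.Agent.S0571
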