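import Groth.Statements.S0574
import Groth.Agent.Lib.helper26.PInsepN2

set_option autoImplicit false
universe u
open CAlg

namespace Groth.Agent.S0574



/-- For Noetherian domains of characteristic zero the conditions N-1 and N-2 coincide. -/
theorem result (R : Type u) [CommRing R] [IsDomain R] [IsNoetherianRing R]
    [CharZero R] : CAlg.IsN1 R ↔ CAlg.IsN2 R := by
  constructor
  · intro hN1
    apply Groth.Agent.Lib.helper26.PInsepN2.isN2_of_purelyInseparable R
    intro K' _ _ _ _ hfd hpi
    haveI : CharZero (FractionRing R) :=
      charZero_of_injective_algebraMap (IsFractionRing.injective R (FractionRing R))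
    haveI : Algebra.IsSeparable (FractionRing R) K' := inferInstance
    have hsurj : Function.Surjective (algebraMap (FractionRing R) K') :=
      IsPurelyInseparable.surjective_algebraMap_of_isSeparable (FractionRing R) K'
    have hbij : Function.Bijective (algebraMap (FractionRing R) K') :=
      ⟨(algebraMap (FractionRing R) K').injective, hsurj⟩
    let e : FractionRing R ≃ₐ[R] K' :=
      AlgEquiv.ofBijective (IsScalarTower.toAlgHom R (FractionRing R) K') hbij
    haveI : Module.Finite R (integralClosure R (FractionRing R)) := hN1
    exact Module.Finite.equiv (AlgEquiv.mapIntegralClosure e).toLinearEquiv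
  · intro hN2
    exact hN2 (FractionRing R) inferInstance

end Groth.Agent.S0574
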