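import Groth.Statements.S0579
import Mathlib

set_option autoImplicit false
universe u
open CAlg

namespace Groth.Agent.S0579

/-- A local ring which is complete with respect to its maximal ideal and whose residue field has
characteristic zero admits a coefficient field: there is a ring homomorphism from the residue field
to the ring which is a section of the residue map. -/
theorem result (R : Type u) [CommRing R] [IsLocalRing R]
    [IsAdicComplete (IsLocalRing.maximalIdeal R) R] [CharZero (IsLocalRing.ResidueField R)] :
    ∃ s : IsLocalRing.ResidueField R →+* R, (IsLocalRing.residue R).comp s = RingHom.id _ := by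
  classical
  obtain ⟨ι, x, hx⟩ := exists_isTranscendenceBasis'.{u} ℚ (IsLocalRing.ResidueField R)
  haveI : Algebra.IsAlgebraic (IntermediateField.adjoin ℚ (Set.range x))
      (IsLocalRing.ResidueField R) := hx.isAlgebraic_field
  haveI : CharZero (IntermediateField.adjoin ℚ (Set.range x)) :=
    charZero_of_injective_algebraMap (algebraMap ℚ _).injective
  haveI : Algebra.IsSeparable (IntermediateField.adjoin ℚ (Set.range x))
      (IsLocalRing.ResidueField R) := inferInstance
  haveI : Algebra.FormallySmooth ℚ (IsLocalRing.ResidueField R) :=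
    Algebra.FormallySmooth.of_algebraicIndependent_of_isSeparable hx.1
  haveI : Algebra.FormallySmooth ℤ ℚ := Algebra.FormallySmooth.of_isLocalization (nonZeroDivisors ℤ)
  haveI : Algebra.FormallySmooth ℤ (IsLocalRing.ResidueField R) := by
    refine @Algebra.FormallySmooth.comp ℤ _ ℚ _ _ (IsLocalRing.ResidueField R) _ _ _ ?_ _ _
    exact IsScalarTower.of_algebraMap_eq' (RingHom.ext_int _ _)
  let f : IsLocalRing.ResidueField R →ₐ[ℤ] R ⧸ IsLocalRing.maximalIdeal R :=
    (RingHom.id (R ⧸ IsLocalRing.maximalIdeal R)).toIntAlgHom
  obtain ⟨g, hg⟩ := Algebra.FormallySmooth.exists_mkₐ_comp_eq_of_isAdicComplete (R := ℤ)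
    (I := IsLocalRing.maximalIdeal R) f
  refine ⟨g.toRingHom, ?_⟩
  ext y
  have := congr($hg y)
  exact this

end Groth.Agent.S0579
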