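import Groth.Statements.S0580
import Mathlib
import Groth.Agent.Lib.helper14.CohenExistC
import Groth.Agent.Lib.helper14.CoeffField
import Groth.Agent.Lib.helper14.PSurj


set_option autoImplicit false
universe u
open CAlg

namespace H14S0580

open IsLocalRing

theorem main (R : Type u) [CommRing R]
    [IsLocalRing R] [IsAdicComplete (IsLocalRing.maximalIdeal R) R]
    (hfg : (IsLocalRing.maximalIdeal R).FG) :
    ∃ (Λ : Type u) (_ : CommRing Λ) (n : ℕ) (f : MvPowerSeries (Fin n) Λ →+* R),
      (IsField Λ ∨ CAlg.IsCohenRing Λ) ∧ Function.Surjective f := by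
  classical
  obtain ⟨n, t, ht⟩ := Submodule.fg_iff_exists_fin_generating_family.mp hfg
  obtain ⟨p, hp⟩ := CharP.exists (ResidueField R)
  rcases CharP.char_is_prime_or_zero (ResidueField R) p with hprime | h0
  · haveI : Fact p.Prime := ⟨hprime⟩
    obtain ⟨Λ, _, _, hΛ, ⟨e⟩⟩ := H14.CohenExist.exists_cohen p (ResidueField R)
    let u : Λ →+* R ⧸ maximalIdeal R := (e : ResidueField Λ →+* ResidueField R).comp (residue Λ)
    have hu : ∀ x ∈ maximalIdeal Λ, u x = 0 := by
      intro x hx
      change e (residue Λ x) = 0
      rw [(residue_eq_zero_iff x).mpr hx, map_zero]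
    obtain ⟨v, hv⟩ := H14.CoeffField.cohen_lift hΛ u hu
    have hsurj : Function.Surjective ((Ideal.Quotient.mk (maximalIdeal R)).comp v) := by
      rw [hv]
      exact e.surjective.comp (residue_surjective)
    obtain ⟨f, hf, -, -⟩ := H14.PSurj.exists_surjective (maximalIdeal R) n t ht v hsurj
    exact ⟨Λ, inferInstance, n, f, Or.inr hΛ, hf⟩
  · subst h0
    haveI : CharZero (ResidueField R) := CharP.charP_to_charZero _
    obtain ⟨σ, hσ⟩ := H14.CoeffField.exists_section_of_charZero R
    have hsurj : Function.Surjective ((Ideal.Quotient.mk (maximalIdeal R)).comp σ) := by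
      intro y
      exact ⟨y, hσ y⟩
    obtain ⟨f, hf, -, -⟩ := H14.PSurj.exists_surjective (maximalIdeal R) n t ht σ hsurj
    exact ⟨ResidueField R, inferInstance, n, f, Or.inl (Field.toIsField _), hf⟩

end H14S0580

namespace Groth.Agent.S0580

/-- A local ring complete with respect to a finitely generated maximal ideal is a quotient of a power
series ring in finitely many variables over a ring which is either a field or a Cohen ring. -/
theorem result (R : Type u) [CommRing R]
    [IsLocalRing R] [IsAdicComplete (IsLocalRing.maximalIdeal R) R]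
    (hfg : (IsLocalRing.maximalIdeal R).FG) :
    ∃ (Λ : Type u) (_ : CommRing Λ) (n : ℕ) (f : MvPowerSeries (Fin n) Λ →+* R),
      (IsField Λ ∨ CAlg.IsCohenRing Λ) ∧ Function.Surjective f := by
  exact H14S0580.main R hfg

end Groth.Agent.S0580
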