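import Groth.Statements.S0581
import Mathlib
import Groth.Agent.Lib.helper14.CohenExistC
import Groth.Agent.Lib.helper14.CoeffField
import Groth.Agent.Lib.helper14.PSFinite3


set_option autoImplicit false
universe u
open CAlg

namespace H14S0581

open IsLocalRing MvPowerSeries

/-- a copy of the residue field, to avoid the `Algebra.id` diamond -/
def KF (R : Type u) [CommRing R] [IsLocalRing R] : Type u := ResidueField R

noncomputable instance (R : Type u) [CommRing R] [IsLocalRing R] : Field (KF R) :=
  inferInstanceAs (Field (ResidueField R))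

theorem of_section (R : Type u) [CommRing R] [IsLocalRing R] [IsNoetherianRing R]
    [IsAdicComplete (maximalIdeal R) R] (σ : ResidueField R →+* R)
    (hσ : ∀ x, residue R (σ x) = x) :
    ∃ (Λ : Type u) (_ : CommRing Λ) (n : ℕ) (f : MvPowerSeries (Fin n) Λ →+* R),
      (IsField Λ ∨ CAlg.IsCohenRing Λ) ∧ Function.Injective f ∧ f.Finite ∧
      Function.Surjective ((IsLocalRing.residue R).comp f) := by
  let σ' : KF R →+* R := σ
  letI : Algebra (KF R) R := σ'.toAlgebra
  have h1 : ∀ x : KF R, algebraMap (KF R) (ResidueField R) x = x := fun x => hσ x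
  haveI : Module.Finite (KF R) (ResidueField R) := by
    refine Module.Finite.of_surjective (Algebra.linearMap (KF R) (ResidueField R)) ?_
    intro y
    exact ⟨y, h1 y⟩
  obtain ⟨n, w, hinj, -, hfin⟩ := H14.PSFin.main_field (k₀ := KF R) (A := R)
  refine ⟨KF R, inferInstance, n, w.toRingHom, Or.inl (Field.toIsField _), hinj, hfin, ?_⟩
  intro y
  refine ⟨C (y : KF R), ?_⟩
  have h2 : w (C (y : KF R)) = algebraMap (KF R) R y := by
    rw [← w.commutes]
    congr 1
  change residue R (w (C (y : KF R))) = y
  rw [h2]
  exact hσ y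

theorem main (R : Type u) [CommRing R]
    [IsDomain R] [IsLocalRing R] [IsNoetherianRing R] [IsAdicComplete (IsLocalRing.maximalIdeal R) R] :
    ∃ (Λ : Type u) (_ : CommRing Λ) (n : ℕ) (f : MvPowerSeries (Fin n) Λ →+* R),
      (IsField Λ ∨ CAlg.IsCohenRing Λ) ∧ Function.Injective f ∧ f.Finite ∧
      Function.Surjective ((IsLocalRing.residue R).comp f) := by
  classical
  obtain ⟨p, hp⟩ := CharP.exists (ResidueField R)
  rcases CharP.char_is_prime_or_zero (ResidueField R) p with hprime | h0
  · haveI : Fact p.Prime := ⟨hprime⟩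
    by_cases hpR : (p : R) = 0
    · haveI : CharP R p := (CharP.charP_iff_prime_eq_zero hprime).mpr hpR
      let φ : ULift.{u} (ZMod p) →+* R :=
        (ZMod.castHom (dvd_refl p) R).comp
          (ULift.ringEquiv : ULift.{u} (ZMod p) ≃+* ZMod p).toRingHom
      letI : Algebra (ULift.{u} (ZMod p)) R := φ.toAlgebra
      obtain ⟨σ, hσ⟩ := H14.CoeffField.exists_section R (ULift.{u} (ZMod p))
      exact of_section R σ hσ
    · obtain ⟨Λ, _, _, hΛ, ⟨e⟩⟩ := H14.CohenExist.exists_cohen p (ResidueField R)
      let u : Λ →+* R ⧸ maximalIdeal R := (e : ResidueField Λ →+* ResidueField R).comp (residue Λ)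
      have hu : ∀ x ∈ maximalIdeal Λ, u x = 0 := by
        intro x hx
        change e (residue Λ x) = 0
        rw [(residue_eq_zero_iff x).mpr hx, map_zero]
      obtain ⟨v, hv⟩ := H14.CoeffField.cohen_lift hΛ u hu
      have hres : Function.Surjective ((residue R).comp v) := by
        have : (residue R).comp v = u := hv
        rw [this]
        exact e.surjective.comp (residue_surjective)
      obtain ⟨hdom, hdvr, hcomp, q, hq, hmq⟩ := id hΛ
      -- `q = p`
      have hqp : q = p := by
        have h1 : ((q : Λ)) ∈ maximalIdeal Λ := by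
          rw [hmq]
          exact Ideal.subset_span rfl
        have h2 : u (q : Λ) = 0 := hu _ h1
        rw [map_natCast] at h2
        have h3 : ((q : ℕ) : ResidueField R) = 0 := h2
        rw [CharP.cast_eq_zero_iff (ResidueField R) p] at h3
        exact ((Nat.prime_dvd_prime_iff_eq hprime hq).mp h3).symm
      subst hqp
      have hvq : v ((q : ℕ) : Λ) = ((q : ℕ) : R) := map_natCast v q
      have hvm : v ((q : ℕ) : Λ) ∈ maximalIdeal R := by
        rw [hvq, ← residue_eq_zero_iff, map_natCast]
        exact CharP.cast_eq_zero _ q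
      have hnzd : v ((q : ℕ) : Λ) ∈ nonZeroDivisors R := by
        rw [hvq]
        exact mem_nonZeroDivisors_of_ne_zero hpR
      haveI : IsNoetherianRing Λ := inferInstance
      obtain ⟨n, f, hC, hinj, hfin⟩ :=
        H14.PSFin.main_mixed ((q : ℕ) : Λ) hmq v hvm hnzd hres
      refine ⟨Λ, inferInstance, n, f, Or.inr hΛ, hinj, hfin, ?_⟩
      intro y
      obtain ⟨a, ha⟩ := hres y
      refine ⟨C a, ?_⟩
      rw [RingHom.comp_apply, hC]
      exact ha
  · subst h0
    haveI : CharZero (ResidueField R) := CharP.charP_to_charZero _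
    obtain ⟨σ, hσ⟩ := H14.CoeffField.exists_section_of_charZero R
    exact of_section R σ hσ

end H14S0581

namespace Groth.Agent.S0581

/-- A complete Noetherian local domain `R` contains a subring `R₀` over which it is module-finite with
the same residue field, where `R₀` is a power series ring in finitely many variables over a field or
over a Cohen ring. Stated with `R₀` given as the image of an injective ring map. -/
theorem result (R : Type u) [CommRing R]
    [IsDomain R] [IsLocalRing R] [IsNoetherianRing R] [IsAdicComplete (IsLocalRing.maximalIdeal R) R] :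
    ∃ (Λ : Type u) (_ : CommRing Λ) (n : ℕ) (f : MvPowerSeries (Fin n) Λ →+* R),
      (IsField Λ ∨ CAlg.IsCohenRing Λ) ∧ Function.Injective f ∧ f.Finite ∧
      Function.Surjective ((IsLocalRing.residue R).comp f) := by
  exact H14S0581.main R

end Groth.Agent.S0581
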