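import Groth.Statements.S0583
import Groth.Agent.Lib.helper1.Kap1
open Kap

set_option autoImplicit false
universe u
open scoped Classical
open CAlg

namespace Groth.Agent.S0583

/-- If a module is an internal direct sum of countably generated submodules, then any direct summand of
it is again an internal direct sum of countably generated submodules. -/
theorem result (R : Type u) [CommRing R] (M : Type u)
    [AddCommGroup M] [Module R M] (ι : Type u) (N : ι → Submodule R M) (hN : DirectSum.IsInternal N)
    (hc : ∀ i, CAlg.IsCountablyGenerated R (N i)) (P Q : Submodule R M) (hPQ : IsCompl P Q) :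
    ∃ (κ : Type u) (L : κ → Submodule R P), DirectSum.IsInternal L ∧
      ∀ k, CAlg.IsCountablyGenerated R (L k) := by
  have hI : iSupIndep N := hN.submodule_iSupIndep
  have hsup : ⨆ i, N i = ⊤ := hN.submodule_iSup_eq_top
  have hcg : ∀ i, CG (N i) := by
    intro i
    obtain ⟨s, hs, hspan⟩ := hc i
    refine ⟨(N i).subtype '' s, hs.image _, ?_⟩
    rw [← Submodule.map_span, hspan, Submodule.map_top, Submodule.range_subtype]
  obtain ⟨L, hLind, hLsup, hLcg⟩ := exists_family N (P.projection Q hPQ) P Q hI hsup hcg
    (fun x => Submodule.projection_apply_mem hPQ x)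
    (fun x hx => Submodule.projection_apply_of_mem_left hPQ hx)
    (fun x => by
      rw [← Submodule.projection_eq_self_sub_projection hPQ x]
      exact Submodule.projection_apply_mem hPQ.symm x)
    hPQ.disjoint
  have hLP : ∀ l ∈ L, l ≤ P := fun l hl => hLsup ▸ le_sSup hl
  have hmap : ∀ l ∈ L, (l.comap P.subtype).map P.subtype = l := by
    intro l hl
    rw [Submodule.map_comap_subtype, inf_eq_right.2 (hLP l hl)]
  have hinj : Function.Injective (Submodule.map P.subtype) :=
    Submodule.map_injective_of_injective P.injective_subtype
  refine ⟨↥L, fun k => (k.1).comap P.subtype, ?_, ?_⟩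
  · refine DirectSum.isInternal_submodule_of_iSupIndep_of_iSup_eq_top (dec_ι := _) ?_ ?_
    · rw [iSupIndep_def]
      intro k
      rw [disjoint_iff]
      apply hinj
      rw [Submodule.map_inf _ P.injective_subtype, Submodule.map_bot, hmap k.1 k.2]
      simp only [Submodule.map_iSup]
      have : ⨆ (j : ↥L), ⨆ (_ : j ≠ k), Submodule.map P.subtype (Submodule.comap P.subtype j.1)
          = ⨆ (j : ↥L), ⨆ (_ : j ≠ k), j.1 := by
        refine iSup_congr fun j => iSup_congr fun _ => hmap j.1 j.2
      rw [this]
      have h1 := (sSupIndep_iff L).1 hLind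
      rw [iSupIndep_def] at h1
      exact disjoint_iff.1 (h1 k)
    · apply hinj
      rw [Submodule.map_iSup, Submodule.map_top, Submodule.range_subtype]
      have : ⨆ (j : ↥L), Submodule.map P.subtype (Submodule.comap P.subtype j.1)
          = ⨆ (j : ↥L), j.1 := iSup_congr fun j => hmap j.1 j.2
      rw [this, ← sSup_eq_iSup', hLsup]
  · intro k
    refine CG.exists_of_injective (P.subtype ∘ₗ ((k.1).comap P.subtype).subtype) ?_ ?_ (hLcg k.1 k.2)
    · exact P.injective_subtype.comp (Submodule.injective_subtype _)
    · rw [LinearMap.range_comp, Submodule.range_subtype, hmap k.1 k.2]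

end Groth.Agent.S0583
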