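import Groth.Statements.S0582
import Groth.Agent.Lib.helper1.Kap3
import Groth.Agent.S0583

set_option autoImplicit false
universe u
open CAlg

namespace Groth.Agent.S0582

/-- A projective module, not necessarily finitely generated, over a local ring is free. -/
theorem result (R : Type u) [CommRing R] [IsLocalRing R] (P : Type u)
    [AddCommGroup P] [Module R P] [Module.Projective R P] : Module.Free R P := by
  classical
  have key : ∀ (M : Type u) [AddCommGroup M] [Module R M] (b : Module.Basis P R M)
      (P' Q' : Submodule R M), IsCompl P' Q' → Module.Projective R P' → Module.Free R P' := by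
    intro M _ _ b P' Q' hcompl hproj
    let N : P → Submodule R M := fun i => Submodule.span R {b i}
    have hN : DirectSum.IsInternal N := by
      refine DirectSum.isInternal_submodule_of_iSupIndep_of_iSup_eq_top (dec_ι := _)
        b.linearIndependent.iSupIndep_span_singleton ?_
      show ⨆ i, Submodule.span R {b i} = ⊤
      rw [← Submodule.span_range_eq_iSup, b.span_eq]
    have hNc : ∀ i, CAlg.IsCountablyGenerated R (N i) := fun i => by
      have hcg : Kap.CG (N i) := ⟨{b i}, Set.countable_singleton _, rfl⟩
      show ∃ s : Set (N i), s.Countable ∧ Submodule.span R s = ⊤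
      exact Kap.CG.exists_of_injective (R := R) (X := N i) (N i).subtype
        (Submodule.injective_subtype _) (Submodule.range_subtype _) hcg
    obtain ⟨κ, L, hL, hLc⟩ := Groth.Agent.S0583.result R M P N hN hNc P' Q' hcompl
    let e' : (DirectSum κ fun k => L k) ≃ₗ[R] P' :=
      LinearEquiv.ofBijective (DirectSum.coeLinearMap L) hL
    haveI : Module.Projective R (DirectSum κ fun k => L k) :=
      Module.Projective.of_equiv e'.symm
    haveI : ∀ k, Module.Projective R (L k) := fun k =>
      Module.Projective.of_split (DirectSum.lof R κ (fun k => L k) k)
        (DirectSum.component R κ (fun k => L k) k)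
        (by ext v; simp)
    haveI : ∀ k, Module.Free R (L k) := fun k => by
      have h1 : ∃ s : Set (L k), s.Countable ∧ Submodule.span R s = ⊤ := hLc k
      exact Kap.free_of_countable h1
    exact Module.Free.of_equiv e'
  obtain ⟨s, hs⟩ := Module.projective_def'.1 (inferInstance : Module.Projective R P)
  set p : (P →₀ R) →ₗ[R] P := Finsupp.linearCombination R (id : P → P) with hp
  have hps : ∀ v, p (s v) = v := fun v => LinearMap.congr_fun hs v
  have hsinj : Function.Injective s := fun v w h => by rw [← hps v, ← hps w, h]
  have hcompl : IsCompl (LinearMap.range s) (LinearMap.ker p) := by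
    constructor
    · rw [Submodule.disjoint_def]
      rintro _ ⟨w, rfl⟩ hw
      rw [LinearMap.mem_ker, hps] at hw
      rw [hw, map_zero]
    · rw [codisjoint_iff, eq_top_iff]
      intro v _
      have : v = s (p v) + (v - s (p v)) := by abel
      rw [this]
      refine Submodule.add_mem_sup ⟨_, rfl⟩ ?_
      rw [LinearMap.mem_ker, map_sub, hps, sub_self]
  let e : P ≃ₗ[R] LinearMap.range s := LinearEquiv.ofInjective s hsinj
  have hfree := key (P →₀ R) Finsupp.basisSingleOne _ _ hcompl (Module.Projective.of_equiv e)
  exact Module.Free.of_equiv e.symm

end Groth.Agent.S0582
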