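import Groth.Statements.S2057
import Mathlib
import Groth.Agent.S2056
-- import your own Groth.Agent.* helpers here

set_option autoImplicit false
universe u
open CAlg

namespace Groth.Agent.S2057

open TensorProduct in
theorem psr_lTensor {R P : Type u} [CommRing R] [AddCommGroup P] [Module R P] {n m : ℕ}
    (A : (Fin m → R) →ₗ[R] (Fin n → R)) (ζ : P ⊗[R] (Fin m → R)) (i : Fin n) :
    TensorProduct.piScalarRight R R P (Fin n) ((A.lTensor P) ζ) i =
      ∑ j, (A (fun k => if j = k then 1 else 0)) i • (TensorProduct.piScalarRight R R P (Fin m) ζ) j := by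
  induction ζ using TensorProduct.induction_on with
  | zero => simp
  | tmul p c =>
    rw [LinearMap.lTensor_tmul, TensorProduct.piScalarRight_apply, TensorProduct.piScalarRightHom_tmul,
      TensorProduct.piScalarRight_apply, TensorProduct.piScalarRightHom_tmul]
    simp only
    rw [LinearMap.pi_apply_eq_sum_univ A c, Finset.sum_apply, Finset.sum_smul]
    apply Finset.sum_congr rfl
    intro j _
    rw [Pi.smul_apply, smul_eq_mul, mul_comm, mul_smul]
  | add a b ha hb =>
    simp only [map_add, Pi.add_apply, ha, hb, smul_add, Finset.sum_add_distrib]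

open TensorProduct in
theorem psr_rTensor {R P P' : Type u} [CommRing R] [AddCommGroup P] [Module R P]
    [AddCommGroup P'] [Module R P'] {n : ℕ}
    (f : P →ₗ[R] P') (τ : P ⊗[R] (Fin n → R)) (i : Fin n) :
    TensorProduct.piScalarRight R R P' (Fin n) ((f.rTensor (Fin n → R)) τ) i =
      f (TensorProduct.piScalarRight R R P (Fin n) τ i) := by
  induction τ using TensorProduct.induction_on with
  | zero => simp
  | tmul p c =>
    rw [LinearMap.rTensor_tmul, TensorProduct.piScalarRight_apply, TensorProduct.piScalarRightHom_tmul,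
      TensorProduct.piScalarRight_apply, TensorProduct.piScalarRightHom_tmul]
    simp only [map_smul]
  | add a b ha hb =>
    simp only [map_add, Pi.add_apply, ha, hb]

open TensorProduct in
theorem core {R P Q : Type u} [CommRing R] [AddCommGroup P] [Module R P]
    [AddCommGroup Q] [Module R Q] {n m : ℕ}
    (A : (Fin m → R) →ₗ[R] (Fin n → R)) (g : (Fin n → R) →ₗ[R] Q) (hg : Function.Surjective g)
    (hex : Function.Exact A g) (τ : P ⊗[R] (Fin n → R)) :
    (g.lTensor P) τ = 0 ↔ ∃ z : Fin m → P, ∀ i,
      TensorProduct.piScalarRight R R P (Fin n) τ i =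
        ∑ j, (A (fun k => if j = k then 1 else 0)) i • z j := by
  have hex' : Function.Exact (A.lTensor P) (g.lTensor P) := lTensor_exact P hex hg
  constructor
  · intro h
    obtain ⟨ζ, rfl⟩ := (hex' τ).mp h
    exact ⟨TensorProduct.piScalarRight R R P (Fin m) ζ, fun i => psr_lTensor A ζ i⟩
  · rintro ⟨z, hz⟩
    apply (hex' τ).mpr
    refine ⟨(TensorProduct.piScalarRight R R P (Fin m)).symm z, ?_⟩
    apply (TensorProduct.piScalarRight R R P (Fin n)).injective
    funext i
    rw [psr_lTensor, LinearEquiv.apply_symm_apply, hz i]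

/-- An injective linear map `f : M₁ → M₂` is universally injective if and only if: whenever elements
`x_i` of `M₁` satisfy `f(x_i) = Σ_j a_{ij} y_j` for some `y_j ∈ M₂` and scalars `a_{ij}`, there are
`z_j ∈ M₁` with `x_i = Σ_j a_{ij} z_j`. -/
theorem result {R M₁ M₂ : Type u} [CommRing R] [AddCommGroup M₁]
    [Module R M₁] [AddCommGroup M₂] [Module R M₂] (f : M₁ →ₗ[R] M₂) (hf : Function.Injective f) :
    CAlgX.UniversallyInjective R f ↔
      ∀ (n m : ℕ) (x : Fin n → M₁) (y : Fin m → M₂) (a : Fin n → Fin m → R),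
        (∀ i, f (x i) = ∑ j, a i j • y j) → ∃ z : Fin m → M₁, ∀ i, x i = ∑ j, a i j • z j := by
  constructor
  · intro H n m x y a hxy
    let A : (Fin m → R) →ₗ[R] (Fin n → R) := Matrix.mulVecLin (Matrix.of a)
    have hA : ∀ (j : Fin m) (i : Fin n), (A (fun k => if j = k then 1 else 0)) i = a i j := by
      intro j i
      simp [A, Matrix.mulVec, dotProduct]
    have hex : Function.Exact A (LinearMap.range A).mkQ := LinearMap.exact_map_mkQ_range A
    have hg := Submodule.mkQ_surjective (LinearMap.range A)
    let τ := (TensorProduct.piScalarRight R R M₁ (Fin n)).symm x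
    have h1 : ((LinearMap.range A).mkQ.lTensor M₂) ((f.rTensor (Fin n → R)) τ) = 0 := by
      rw [core A _ hg hex]
      refine ⟨y, fun i => ?_⟩
      rw [psr_rTensor, LinearEquiv.apply_symm_apply, hxy i]
      exact Finset.sum_congr rfl (fun j _ => by rw [hA])
    have h2 : (f.rTensor _) (((LinearMap.range A).mkQ.lTensor M₁) τ) = 0 := by
      rw [← LinearMap.comp_apply, LinearMap.rTensor_comp_lTensor, ← LinearMap.lTensor_comp_rTensor,
        LinearMap.comp_apply, h1]
    have h3 : ((LinearMap.range A).mkQ.lTensor M₁) τ = 0 := H _ (h2.trans (map_zero _).symm)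
    rw [core A _ hg hex] at h3
    obtain ⟨z, hz⟩ := h3
    refine ⟨z, fun i => ?_⟩
    have := hz i
    rw [LinearEquiv.apply_symm_apply] at this
    rw [this]
    exact Finset.sum_congr rfl (fun j _ => by rw [hA])
  · intro H
    rw [Groth.Agent.S2056.result]
    intro Q _ _ hQ
    obtain ⟨n, m, g, A, hg, hex⟩ := Module.FinitePresentation.exists_fin' R Q
    rw [injective_iff_map_eq_zero]
    intro t ht
    obtain ⟨τ, rfl⟩ := LinearMap.lTensor_surjective M₁ hg t
    have h1 : (g.lTensor M₂) ((f.rTensor (Fin n → R)) τ) = 0 := by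
      rw [← LinearMap.comp_apply, LinearMap.lTensor_comp_rTensor, ← LinearMap.rTensor_comp_lTensor,
        LinearMap.comp_apply, ht]
    rw [core A g hg hex] at h1
    obtain ⟨y, hy⟩ := h1
    obtain ⟨z, hz⟩ := H n m (TensorProduct.piScalarRight R R M₁ (Fin n) τ) y
      (fun i j => (A (fun k => if j = k then 1 else 0)) i) (fun i => by
        rw [← psr_rTensor]
        exact hy i)
    rw [core A g hg hex]
    exact ⟨z, hz⟩

end Groth.Agent.S2057
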