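import Groth.Statements.S6348
import Groth.Agent.Lib.helper3.ML
-- import your own Groth.Agent.* helpers here

set_option autoImplicit false
universe u
open scoped TensorProduct
open CAlg

namespace Groth.Agent.S6348

open TensorProduct in
/-- `(S ⊗[R] M) ⊗[S] N ≃ M ⊗[R] N` -/
noncomputable def theta (R S : Type u) [CommRing R] [CommRing S] [Algebra R S] (M : Type u)
    [AddCommGroup M] [Module R M] (N : Type u) [AddCommGroup N] [Module S N] [Module R N]
    [IsScalarTower R S N] : TensorProduct S (TensorProduct R S M) N ≃ₗ[R] TensorProduct R M N :=
  ((TensorProduct.comm S (TensorProduct R S M) N) ≪≫ₗ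
    (TensorProduct.AlgebraTensorModule.cancelBaseChange R S S N M)).restrictScalars R ≪≫ₗ
    (TensorProduct.comm R N M)

open TensorProduct in
theorem theta_tmul (R S : Type u) [CommRing R] [CommRing S] [Algebra R S] (M : Type u)
    [AddCommGroup M] [Module R M] (N : Type u) [AddCommGroup N] [Module S N] [Module R N]
    [IsScalarTower R S N] (s : S) (m : M) (n : N) :
    theta R S M N ((s ⊗ₜ[R] m) ⊗ₜ[S] n) = m ⊗ₜ[R] (s • n) := by
  simp [theta]

open TensorProduct in
theorem key (R S : Type u) [CommRing R] [CommRing S] [Algebra R S] (M : Type u)
    [AddCommGroup M] [Module R M] (ι : Type u) (Q : ι → Type u) [∀ i, AddCommGroup (Q i)]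
    [∀ i, Module S (Q i)] [∀ i, Module R (Q i)] [∀ i, IsScalarTower R S (Q i)]
    (hM : Function.Injective (TensorProduct.piRightHom R R M Q)) :
    Function.Injective (TensorProduct.piRightHom S S (TensorProduct R S M) Q) := by
  have hcomm : ∀ x : TensorProduct S (TensorProduct R S M) (∀ i, Q i),
      (fun i => theta R S M (Q i) (TensorProduct.piRightHom S S (TensorProduct R S M) Q x i)) =
        TensorProduct.piRightHom R R M Q (theta R S M (∀ i, Q i) x) := by
    intro x
    induction x using TensorProduct.induction_on with
    | zero => simp only [map_zero]; rfl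
    | tmul a q =>
      induction a using TensorProduct.induction_on with
      | zero =>
        simp only [zero_tmul, map_zero]
        rfl
      | tmul s m =>
        funext i
        rw [TensorProduct.piRightHom_tmul, theta_tmul, theta_tmul, TensorProduct.piRightHom_tmul]
        rfl
      | add a b ha hb =>
        rw [add_tmul, map_add, map_add, map_add, ← ha, ← hb]
        funext i
        simp only [Pi.add_apply, map_add]
    | add a b ha hb =>
      rw [map_add, map_add, map_add, ← ha, ← hb]
      funext i
      simp only [Pi.add_apply, map_add]
  rw [injective_iff_map_eq_zero]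
  intro x hx
  apply (theta R S M (∀ i, Q i)).injective
  apply hM
  rw [← hcomm, hx, map_zero, map_zero]
  funext i
  simp

/-- For a ring map R → S and a Mittag-Leffler R-module M, the S-module S ⊗_R M is Mittag-Leffler. (The
companion parts on flat modules, projective modules and direct sums of countably generated modules
are standard base-change facts.) -/
theorem result (R S : Type u) [CommRing R] [CommRing S] [Algebra R S] (M : Type u)
    [AddCommGroup M] [Module R M] (hM : CAlg.IsMittagLeffler R M) :
    CAlg.IsMittagLeffler S (S ⊗[R] M) := by
  intro ι Q _ _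
  let _ : ∀ i, Module R (Q i) := fun i => Module.compHom (Q i) (algebraMap R S)
  have : ∀ i, IsScalarTower R S (Q i) := fun i =>
    IsScalarTower.of_algebraMap_smul (fun r x => rfl)
  exact key R S M ι Q (hM ι Q)

end Groth.Agent.S6348
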