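import Groth.Statements.S0586
import Mathlib.Tactic
import Mathlib.RingTheory.Flat.FaithfullyFlat.Algebra
import Groth.Agent.S2057
import Groth.Agent.S6348
import Groth.Agent.Lib.helper3.ML

set_option autoImplicit false
universe u
open CAlg

namespace Groth.Agent.S0586

open TensorProduct in
/-- compatibility of `piRightHom` over `S` and over `R` (as in helper3's `S6348.key`) -/
theorem hcomm (R S : Type u) [CommRing R] [CommRing S] [Algebra R S] (M : Type u)
    [AddCommGroup M] [Module R M] (ι : Type u) (Q : ι → Type u) [∀ i, AddCommGroup (Q i)]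
    [∀ i, Module S (Q i)] [∀ i, Module R (Q i)] [∀ i, IsScalarTower R S (Q i)]
    (x : TensorProduct S (TensorProduct R S M) (∀ i, Q i)) :
    (fun i => Groth.Agent.S6348.theta R S M (Q i)
      (TensorProduct.piRightHom S S (TensorProduct R S M) Q x i)) =
      TensorProduct.piRightHom R R M Q (Groth.Agent.S6348.theta R S M (∀ i, Q i) x) := by
  induction x using TensorProduct.induction_on with
  | zero => simp only [map_zero]; rfl
  | tmul a q =>
    induction a using TensorProduct.induction_on with
    | zero =>
      simp only [zero_tmul, map_zero]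
      rfl
    | tmul s m =>
      funext i
      rw [TensorProduct.piRightHom_tmul, Groth.Agent.S6348.theta_tmul,
        Groth.Agent.S6348.theta_tmul, TensorProduct.piRightHom_tmul]
      rfl
    | add a b ha hb =>
      rw [add_tmul, map_add, map_add, map_add, ← ha, ← hb]
      funext i
      simp only [Pi.add_apply, map_add]
  | add a b ha hb =>
    rw [map_add, map_add, map_add, ← ha, ← hb]
    funext i
    simp only [Pi.add_apply, map_add]

theorem conv_key (R S : Type u) [CommRing R] [CommRing S] [Algebra R S] (M : Type u)
    [AddCommGroup M] [Module R M] (ι : Type u) (Q : ι → Type u) [∀ i, AddCommGroup (Q i)]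
    [∀ i, Module S (Q i)] [∀ i, Module R (Q i)] [∀ i, IsScalarTower R S (Q i)]
    (hS : Function.Injective (TensorProduct.piRightHom S S (TensorProduct R S M) Q)) :
    Function.Injective (TensorProduct.piRightHom R R M Q) := by
  rw [injective_iff_map_eq_zero]
  intro y hy
  obtain ⟨x, rfl⟩ := (Groth.Agent.S6348.theta R S M (∀ i, Q i)).surjective y
  rw [← hcomm] at hy
  have h1 : TensorProduct.piRightHom S S (TensorProduct R S M) Q x = 0 := by
    funext i
    have := congrFun hy i
    exact (Groth.Agent.S6348.theta R S M (Q i)).injective (this.trans (map_zero _).symm)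
  have h2 : x = 0 := hS (h1.trans (map_zero _).symm)
  rw [h2, map_zero]

theorem injective_of_univInj {R : Type u} [CommRing R] {A B : Type u} [AddCommGroup A] [Module R A]
    [AddCommGroup B] [Module R B] (f : A →ₗ[R] B) (hf : CAlgX.UniversallyInjective R f) :
    Function.Injective f := by
  have h := hf R
  intro a b hab
  have h1 : (f.rTensor R) (TensorProduct.tmul R a (1 : R)) =
      (f.rTensor R) (TensorProduct.tmul R b (1 : R)) := by
    rw [LinearMap.rTensor_tmul, LinearMap.rTensor_tmul, hab]
  have h2 := congrArg (TensorProduct.rid R A) (h h1)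
  simpa using h2

/-- a product of universally injective maps is universally injective -/
theorem pi_univInj {R : Type u} [CommRing R] {ι : Type u} (Q N : ι → Type u)
    [∀ i, AddCommGroup (Q i)] [∀ i, Module R (Q i)] [∀ i, AddCommGroup (N i)] [∀ i, Module R (N i)]
    (g : ∀ i, Q i →ₗ[R] N i) (hg : ∀ i, CAlgX.UniversallyInjective R (g i)) :
    CAlgX.UniversallyInjective R (LinearMap.pi fun i => g i ∘ₗ LinearMap.proj i) := by
  have hinj : ∀ i, Function.Injective (g i) := fun i => injective_of_univInj (g i) (hg i)
  have hU : Function.Injective (LinearMap.pi fun i => g i ∘ₗ LinearMap.proj i) := by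
    intro a b hab
    funext i
    exact hinj i (congrFun hab i)
  rw [Groth.Agent.S2057.result _ hU]
  intro n m x y a hxy
  have h1 : ∀ i, ∃ z : Fin m → Q i, ∀ k, x k i = ∑ j, a k j • z j := by
    intro i
    apply ((Groth.Agent.S2057.result (g i) (hinj i)).mp (hg i)) n m (fun k => x k i)
      (fun j => y j i) a
    intro k
    have := congrFun (hxy k) i
    simpa using this
  choose z hz using h1
  refine ⟨fun j i => z i j, ?_⟩
  intro k
  funext i
  rw [hz i k]
  simp

open TensorProduct in
theorem mk_univInj (R S : Type u) [CommRing R] [CommRing S] [Algebra R S]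
    [Module.FaithfullyFlat R S] (Q : Type u) [AddCommGroup Q] [Module R Q] :
    CAlgX.UniversallyInjective R (TensorProduct.mk R S Q 1) := by
  intro X _ _
  have h1 : (TensorProduct.assoc R S Q X).toLinearMap ∘ₗ (TensorProduct.mk R S Q 1).rTensor X =
      TensorProduct.mk R S (Q ⊗[R] X) 1 := by
    ext q x
    simp
  have h2 : Function.Injective ((TensorProduct.assoc R S Q X).toLinearMap ∘ₗ
      (TensorProduct.mk R S Q 1).rTensor X) := by
    rw [h1]
    exact Module.FaithfullyFlat.tensorProduct_mk_injective (A := R) (B := S) (Q ⊗[R] X)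
  exact Function.Injective.of_comp h2


/-- Let `R → S` be faithfully flat and `M` an `R`-module. If `S ⊗ M` is a Mittag-Leffler `S`-module then
`M` is a Mittag-Leffler `R`-module. -/
theorem result (R : Type u) [CommRing R] (S : Type u)
    [CommRing S] [Algebra R S] [Module.FaithfullyFlat R S] (M : Type u) [AddCommGroup M] [Module R M]
    (h : CAlg.IsMittagLeffler S (TensorProduct R S M)) : CAlg.IsMittagLeffler R M := by
  intro ι Q _ _
  rw [injective_iff_map_eq_zero]
  intro z hz
  have hU := pi_univInj Q (fun α => TensorProduct R S (Q α))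
    (fun α => TensorProduct.mk R S (Q α) 1) (fun α => mk_univInj R S (Q α))
  set U : (∀ α, Q α) →ₗ[R] (∀ α, TensorProduct R S (Q α)) :=
    LinearMap.pi fun α => TensorProduct.mk R S (Q α) 1 ∘ₗ LinearMap.proj α with hUdef
  have hUl : Function.Injective (U.lTensor M) := by
    have h1 := hU M
    intro a b hab
    have h2 : U.rTensor M (TensorProduct.comm R M _ a) = U.rTensor M (TensorProduct.comm R M _ b) := by
      rw [LinearMap.rTensor_comm, LinearMap.rTensor_comm, hab]
    exact (TensorProduct.comm R M _).injective (h1 h2)
  have h3 : TensorProduct.piRightHom R R M (fun α => TensorProduct R S (Q α)) (U.lTensor M z) = 0 := by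
    rw [hUdef, Groth.Agent.Lib.helper3.ML.piRightHom_lTensor, hz]
    funext α
    simp
  have h4 : U.lTensor M z = 0 := by
    apply conv_key R S M ι (fun α => TensorProduct R S (Q α)) (h ι _)
    rw [h3, map_zero]
  exact hUl (h4.trans (map_zero _).symm)

end Groth.Agent.S0586
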