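import Groth.Statements.S0588
import Groth.Agent.S0587

set_option autoImplicit false
universe u v w
open scoped TensorProduct
open CAlg

namespace Groth.Agent.S0588

open TensorProduct

section aux

variable {R : Type u} [CommRing R]

/-- Naturality of `piRightHom` in the left factor. -/
theorem piRightHom_rTensor {M M' : Type u} [AddCommGroup M] [Module R M] [AddCommGroup M']
    [Module R M'] (f : M →ₗ[R] M') {ι : Type u} (Q : ι → Type u) [∀ i, AddCommGroup (Q i)]
    [∀ i, Module R (Q i)] (x : M ⊗[R] (∀ i, Q i)) (i : ι) :
    TensorProduct.piRightHom R R M' Q (LinearMap.rTensor (∀ i, Q i) f x) i =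
      LinearMap.rTensor (Q i) f (TensorProduct.piRightHom R R M Q x i) := by
  induction x using TensorProduct.induction_on with
  | zero => simp
  | tmul a b => simp [TensorProduct.piRightHom_tmul]
  | add x y hx hy => simp only [map_add, Pi.add_apply, hx, hy]

/-- Coordinates on `(Fin n → R) ⊗ Q`. -/
noncomputable def coord (n : ℕ) (Q : Type u) [AddCommGroup Q] [Module R Q] (k : Fin n) :
    (Fin n → R) ⊗[R] Q →ₗ[R] Q :=
  (TensorProduct.lid R Q).toLinearMap ∘ₗ LinearMap.rTensor Q (LinearMap.proj k)

theorem coord_tmul (n : ℕ) (Q : Type u) [AddCommGroup Q] [Module R Q] (k : Fin n)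
    (v : Fin n → R) (q : Q) : coord n Q k (v ⊗ₜ[R] q) = v k • q := by
  simp [coord]

theorem free_injective (n : ℕ) {ι : Type u} (Q : ι → Type u) [∀ i, AddCommGroup (Q i)]
    [∀ i, Module R (Q i)] :
    Function.Injective (TensorProduct.piRightHom R R (Fin n → R) Q) := by
  classical
  rw [injective_iff_map_eq_zero]
  intro w hw
  obtain ⟨p, rfl⟩ := Groth.Agent.S0587.exists_rep (LinearMap.id : (Fin n → R) →ₗ[R] (Fin n → R))
    Function.surjective_id (∀ i, Q i) w
  have hp : ∀ j, p j = 0 := by
    intro j
    funext i
    have h1 := congrFun hw i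
    rw [map_sum, Finset.sum_apply] at h1
    have h2 := congrArg (coord n (Q i) j) h1
    rw [map_sum] at h2
    simp only [TensorProduct.piRightHom_tmul, LinearMap.id_apply, coord_tmul, Pi.zero_apply,
      map_zero] at h2
    rw [Finset.sum_eq_single j] at h2
    · simpa using h2
    · intro b _ hb
      simp [hb.symm]
    · intro h; exact absurd (Finset.mem_univ j) h
  simp [hp]

/-- The key consequence of surjectivity for the constant family `R` indexed by `M`. -/
theorem finite_of_exists {M : Type u} [AddCommGroup M] [Module R M]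
    (h : ∃ t : M ⊗[R] (M → R), TensorProduct.piRightHom R R M (fun _ : M => R) t =
      fun m => m ⊗ₜ[R] (1 : R)) : Module.Finite R M := by
  classical
  obtain ⟨t, ht⟩ := h
  obtain ⟨T, rfl⟩ := TensorProduct.exists_finset t
  refine ⟨⟨T.image Prod.fst, ?_⟩⟩
  rw [eq_top_iff]
  intro m _
  have h1 := congrFun ht m
  rw [map_sum, Finset.sum_apply] at h1
  have h2 := congrArg (TensorProduct.rid R M) h1
  rw [map_sum] at h2
  simp only [TensorProduct.piRightHom_tmul, TensorProduct.rid_tmul, one_smul] at h2
  rw [← h2]
  refine Submodule.sum_mem _ fun p hp => ?_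
  refine Submodule.smul_mem _ _ (Submodule.subset_span ?_)
  rw [Finset.coe_image]
  exact ⟨p, hp, rfl⟩

end aux

/-- A module `M` is finitely presented exactly when for every family of modules `(Qᵢ)` the natural map
from `M ⊗ ∏ Qᵢ` to `∏ (M ⊗ Qᵢ)` is bijective. -/
theorem result (R : Type u) [CommRing R] (M : Type u)
    [AddCommGroup M] [Module R M] :
    Module.FinitePresentation R M ↔ ∀ (ι : Type u) (Q : ι → Type u) [∀ i, AddCommGroup (Q i)]
      [∀ i, Module R (Q i)], Function.Bijective (TensorProduct.piRightHom R R M Q) := by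
  constructor
  · intro hM ι Q _ _
    have hfin : Module.Finite R M := inferInstance
    refine ⟨?_, (Groth.Agent.S0587.result R M).1 hfin ι Q⟩
    obtain ⟨n, m, f, g, hf, hfg⟩ := Module.FinitePresentation.exists_fin' R M
    rw [injective_iff_map_eq_zero]
    intro z hz
    obtain ⟨w, rfl⟩ := LinearMap.rTensor_surjective (∀ i, Q i) hf z
    have hex : ∀ i, ∃ u : (Fin m → R) ⊗[R] Q i, LinearMap.rTensor (Q i) g u =
        TensorProduct.piRightHom R R (Fin n → R) Q w i := by
      intro i
      have hexact := rTensor_exact (Q i) hfg hf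
      refine (hexact (TensorProduct.piRightHom R R (Fin n → R) Q w i)).1 ?_
      rw [← piRightHom_rTensor, hz]
      rfl
    choose u hu using hex
    obtain ⟨u', hu'⟩ := (Groth.Agent.S0587.result R (Fin m → R)).1 inferInstance ι Q u
    have hw : LinearMap.rTensor (∀ i, Q i) g u' = w := by
      apply free_injective n Q
      funext i
      rw [piRightHom_rTensor, hu', hu]
    rw [← hw, ← LinearMap.comp_apply, ← LinearMap.rTensor_comp]
    have : f ∘ₗ g = 0 := hfg.linearMap_comp_eq_zero
    rw [this, LinearMap.rTensor_zero, LinearMap.zero_apply]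
  · intro h
    have hfin : Module.Finite R M :=
      (Groth.Agent.S0587.result R M).2 (fun ι Q _ _ => (h ι Q).2)
    obtain ⟨n, f, hf⟩ := Module.Finite.exists_fin' R M
    refine Module.finitePresentation_of_surjective f hf ?_
    rw [← Module.Finite.iff_fg]
    apply finite_of_exists
    -- the chase
    set K := LinearMap.ker f with hK
    let v : K → (Fin n → R) ⊗[R] R := fun m => (m : Fin n → R) ⊗ₜ[R] (1 : R)
    obtain ⟨w, hw⟩ := (Groth.Agent.S0587.result R (Fin n → R)).1 inferInstance K (fun _ => R) v
    have hfw : LinearMap.rTensor (K → R) f w = 0 := by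
      apply (h K (fun _ => R)).1
      rw [map_zero]
      funext m
      rw [piRightHom_rTensor, hw]
      show LinearMap.rTensor R f ((m : Fin n → R) ⊗ₜ[R] (1 : R)) = 0
      rw [LinearMap.rTensor_tmul]
      have : f (m : Fin n → R) = 0 := m.2
      rw [this, TensorProduct.zero_tmul]
    have hexact := rTensor_exact (K → R) (LinearMap.exact_subtype_ker_map f) hf
    obtain ⟨u', hu'⟩ := (hexact w).1 hfw
    refine ⟨u', ?_⟩
    funext m
    have hinj : Function.Injective (LinearMap.rTensor R K.subtype) :=
      Module.Flat.rTensor_preserves_injective_linearMap _ K.injective_subtype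
    apply hinj
    have h3 := piRightHom_rTensor K.subtype (fun _ : K => R) u' m
    rw [hu', hw] at h3
    exact h3.symm

end Groth.Agent.S0588
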