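import Groth.Statements.S0592
import Groth.Agent.Lib.helper11.LimSep

set_option autoImplicit false
universe u
open CategoryTheory AlgebraicGeometry
open Lim

namespace Groth.Agent.S0592

/-- Let `S` be the limit of a cofiltered system of quasi-compact quasi-separated schemes with affine
transition morphisms. If `S` is separated, then there is an index `i₀` such that every stage mapping
to `i₀` is separated. -/
theorem result {I : Type u} [SmallCategory I] [IsCofiltered I]
    (D : I ⥤ Scheme.{u}) (c : Limits.Cone D) (hc : Limits.IsLimit c)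
    [∀ (i j : I) (f : i ⟶ j), IsAffineHom (D.map f)] [∀ i, CompactSpace (D.obj i)]
    [∀ i, QuasiSeparatedSpace (D.obj i)]
    [IsSeparated (Limits.IsTerminal.from specULiftZIsTerminal c.pt)] :
    ∃ i₀ : I, ∀ (i : I) (_ : i ⟶ i₀),
      IsSeparated (Limits.IsTerminal.from specULiftZIsTerminal (D.obj i)) := by
  have hI : ∀ {i j : I} (f : i ⟶ j), IsAffineHom (D.map f) := fun f => inferInstance
  obtain ⟨i₀'⟩ := IsCofiltered.nonempty (C := I)
  have h0 : c.π.app i₀' ≫ Limits.IsTerminal.from specULiftZIsTerminal (D.obj i₀') =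
      Limits.IsTerminal.from specULiftZIsTerminal c.pt := specULiftZIsTerminal.hom_ext _ _
  have : IsSeparated (c.π.app i₀' ≫ Limits.IsTerminal.from specULiftZIsTerminal (D.obj i₀')) := by
    rw [h0]; infer_instance
  obtain ⟨j, hj⟩ := Groth.Agent.Lib.helper11.LimSep.exists_stage_isSeparated D c hc i₀'
    (Limits.IsTerminal.from specULiftZIsTerminal (D.obj i₀'))
  refine ⟨j.left, fun i φ => ?_⟩
  have h1 : Limits.IsTerminal.from specULiftZIsTerminal (D.obj i) =
      D.map φ ≫ (D.map j.hom ≫ Limits.IsTerminal.from specULiftZIsTerminal (D.obj i₀')) :=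
    specULiftZIsTerminal.hom_ext _ _
  rw [h1]
  infer_instance

end Groth.Agent.S0592
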