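import Groth.Statements.S0602
import Groth.Agent.Lib.helper9.Depth10

set_option autoImplicit false
universe u
open CAlg

namespace Groth.Agent.S0602

lemma maximalIdeal_eq_bot_of_regular {S : Type u} [CommRing S] [IsRegularLocalRing S]
    (h : ringKrullDim S = 0) : IsLocalRing.maximalIdeal S = ⊥ := by
  have h1 := IsRegularLocalRing.spanFinrank_maximalIdeal (R := S)
  rw [h] at h1
  have h0 : (IsLocalRing.maximalIdeal S).spanFinrank = 0 := by exact_mod_cast h1
  exact (Submodule.spanFinrank_eq_zero_iff_eq_bot (IsNoetherian.noetherian _)).mp h0

lemma annihilator_self (R : Type u) [CommRing R] : Module.annihilator R R = ⊥ := by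
  rw [eq_bot_iff]
  intro r hr
  have := Module.mem_annihilator.mp hr 1
  simpa using this

lemma minimalPrimes_of_height_le_zero {R : Type u} [CommRing R] (p : Ideal R) [p.IsPrime]
    (hp : p.height ≤ 0) : p ∈ minimalPrimes R :=
  Ideal.height_eq_zero_iff.mp (le_antisymm hp zero_le)

/-- A Noetherian ring is reduced exactly when it satisfies the conditions R₀ and S₁. -/
theorem result (R : Type u) [CommRing R] [IsNoetherianRing R] :
    IsReduced R ↔ (LocCoh.HasRk 0 R ∧ LocCoh.HasSk 1 R R) := by
  rw [← Groth.Agent.Lib.helper9.Depth.noEmbedded_iff_hasSk_one R, annihilator_self]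
  constructor
  · intro hred
    refine ⟨?_, ?_⟩
    · intro p _ hp
      have hmin := minimalPrimes_of_height_le_zero p (by exact_mod_cast hp)
      have hdim : Ring.KrullDimLE 0 (Localization.AtPrime p) :=
        Ring.KrullDimLE.of_isLocalization p hmin (Localization.AtPrime p)
      have hfield : IsField (Localization.AtPrime p) := Ring.KrullDimLE.isField_of_isReduced
      have hm : IsLocalRing.maximalIdeal (Localization.AtPrime p) = ⊥ :=
        IsLocalRing.isField_iff_maximalIdeal_eq.mp hfield
      rw [isRegularLocalRing_iff, hm, Submodule.spanFinrank_bot,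
        IsLocalization.AtPrime.ringKrullDim_eq_height p (Localization.AtPrime p),
        Ideal.height_eq_zero_iff.mpr hmin]
      rfl
    · intro p hp
      have hp' : IsAssociatedPrime p R := hp
      have hprime := hp'.isPrime
      rw [isAssociatedPrime_iff] at hp'
      obtain ⟨-, x, hx⟩ := hp'
      have hx0 : x ≠ 0 := by
        intro h0
        apply hprime.ne_top
        rw [hx, h0, Ideal.eq_top_iff_one, Submodule.mem_colon_singleton]
        simp
      -- `x` is outside some minimal prime
      have hrad : sInf (⊥ : Ideal R).minimalPrimes = ⊥ := by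
        rw [Ideal.sInf_minimalPrimes]
        exact nilradical_eq_zero R
      have : ∃ q ∈ (⊥ : Ideal R).minimalPrimes, x ∉ q := by
        by_contra hcon
        push Not at hcon
        apply hx0
        have : x ∈ sInf (⊥ : Ideal R).minimalPrimes := by
          rw [Ideal.mem_sInf]
          intro q hq
          exact hcon q hq
        rw [hrad] at this
        simpa using this
      obtain ⟨q, hq, hxq⟩ := this
      have hqprime : q.IsPrime := hq.1.1
      have hpq : p ≤ q := by
        intro r hr
        rw [hx, Submodule.mem_colon_singleton] at hr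
        have hr' : r * x ∈ q := by
          have : r * x = 0 := by simpa using hr
          rw [this]; exact q.zero_mem
        exact (hqprime.mem_or_mem hr').resolve_right hxq
      have hqp : q ≤ p := hq.2 ⟨hprime, bot_le⟩ hpq
      rw [le_antisymm hpq hqp]
      exact hq
  · rintro ⟨hR0, hS1⟩
    rw [isReduced_iff]
    intro x hxnil
    by_contra hx0
    obtain ⟨P, hP, hle⟩ := exists_le_isAssociatedPrime_of_isNoetherianRing R x hx0
    have hPprime : P.IsPrime := hP.isPrime
    have hmin : P ∈ (⊥ : Ideal R).minimalPrimes := hS1 P hP
    have hreg : IsRegularLocalRing (Localization.AtPrime P) :=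
      hR0 P (by rw [Ideal.height_eq_zero_iff.mpr hmin]; rfl)
    have hdim : ringKrullDim (Localization.AtPrime P) = 0 := by
      rw [IsLocalization.AtPrime.ringKrullDim_eq_height P (Localization.AtPrime P),
        Ideal.height_eq_zero_iff.mpr hmin]
      rfl
    have hm := maximalIdeal_eq_bot_of_regular hdim
    have hfield : IsField (Localization.AtPrime P) :=
      IsLocalRing.isField_iff_maximalIdeal_eq.mpr hm
    have hxP : algebraMap R (Localization.AtPrime P) x = 0 := by
      have hnil : IsNilpotent (algebraMap R (Localization.AtPrime P) x) := hxnil.map _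
      let := hfield.toField
      exact hnil.eq_zero
    rw [IsLocalization.map_eq_zero_iff P.primeCompl] at hxP
    obtain ⟨t, ht⟩ := hxP
    have htP : (t : R) ∈ P := by
      apply hle
      rw [Submodule.mem_colon_singleton]
      simpa using ht
    exact t.2 htP

end Groth.Agent.S0602
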