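import Groth.Statements.S0603
import Mathlib
import Groth.Agent.Lib.helper17.CMChain
import Groth.Agent.Lib.helper14.Catenary
set_option linter.style.haveILetI false

set_option autoImplicit false
universe u
open CAlg

namespace Groth.Agent.S0603

/-- Every Cohen–Macaulay ring (Noetherian with all local rings Cohen–Macaulay) satisfies the universally
catenary chain condition. -/
theorem result (R : Type u) [CommRing R]
    [LocCoh.IsCohenMacaulayRing R] : CAlg.IsUniversallyCatenary R := by
  refine ⟨inferInstance, fun S _ _ hS => ?_⟩
  obtain ⟨n, φ, hφ⟩ := Algebra.FiniteType.iff_quotient_mvPolynomial''.mp hS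
  haveI : IsNoetherianRing (MvPolynomial (Fin n) R) := inferInstance
  haveI : Module.Flat R (MvPolynomial (Fin n) R) := inferInstance
  have hP : LocCoh.IsCohenMacaulayRing (MvPolynomial (Fin n) R) := by
    refine Groth.Agent.Lib.helper17.FlatCM.isCM_of_flat ‹_› (fun p _ q _ => ?_)
    haveI : IsRegularRing (MvPolynomial (Fin n) p.ResidueField) := inferInstance
    haveI : IsRegularRing (p.Fiber (MvPolynomial (Fin n) R)) :=
      IsRegularRing.of_ringEquiv
        (MvPolynomial.algebraTensorAlgEquiv R p.ResidueField (σ := Fin n)).symm.toRingEquiv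
    haveI : IsRegularLocalRing (Localization.AtPrime q) := inferInstance
    exact Groth.Agent.Lib.helper17.FlatCM.isCM_of_regular _
  haveI := hP
  have hcat := Groth.Agent.Lib.helper17.CMChain.isCatenary (MvPolynomial (Fin n) R)
  have hsurj : Function.Surjective φ.toRingHom := hφ
  refine Groth.Agent.H14.isCatenary_of_embedding (PrimeSpectrum.comap φ.toRingHom) ?_ ?_ hcat
  · intro a b
    change Ideal.comap φ.toRingHom a.asIdeal ≤ Ideal.comap φ.toRingHom b.asIdeal ↔ a.asIdeal ≤ b.asIdeal
    exact Ideal.comap_le_comap_iff_of_surjective φ.toRingHom hsurj _ _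
  · intro a b y hay _
    have hy : y ∈ Set.range (PrimeSpectrum.comap φ.toRingHom) := by
      rw [range_comap_of_surjective _ _ hsurj, PrimeSpectrum.mem_zeroLocus]
      intro x hx
      have h1 : x ∈ (PrimeSpectrum.comap φ.toRingHom a).asIdeal := by
        change φ.toRingHom x ∈ a.asIdeal
        rw [RingHom.mem_ker.mp hx]
        exact a.asIdeal.zero_mem
      exact hay.le h1
    exact hy

end Groth.Agent.S0603
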