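import Groth.Statements.S0608
import Groth.Agent.Lib.helper26.RegSeqA
import Groth.Agent.Lib.helper26.RegSeqB

set_option autoImplicit false
universe u
open RRAlg

namespace Groth.Agent.S0608

open Groth.Agent.Lib.helper26 in
theorem aeval_homogeneous {A : Type u} [CommRing A] {n : ℕ} (a : Fin n → A) (d : ℕ)
    (G : MvPolynomial (Fin n) A) (hG : G.IsHomogeneous d) :
    MvPolynomial.aeval (R := A) (fun i : Fin n => Polynomial.C (a i) * (Polynomial.X : Polynomial A)) G =
      Polynomial.C (MvPolynomial.eval a G) * Polynomial.X ^ d := by
  classical
  conv_lhs => rw [← G.support_sum_monomial_coeff]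
  conv_rhs => rw [← G.support_sum_monomial_coeff]
  rw [map_sum, map_sum, map_sum, Finset.sum_mul]
  apply Finset.sum_congr rfl
  intro α hα
  have hdeg : α.degree = d := by
    have := hG (MvPolynomial.mem_support_iff.1 hα)
    rw [Finsupp.degree_eq_weight_one]
    exact this
  rw [MvPolynomial.aeval_monomial, MvPolynomial.eval_monomial, Finsupp.prod_fintype _ _ (by simp),
    Finsupp.prod_fintype _ _ (by simp)]
  simp only [mul_pow, Finset.prod_mul_distrib, Finset.prod_pow_eq_pow_sum]
  rw [← hdeg, Finsupp.degree_eq_sum, map_mul, map_prod]
  simp only [map_pow]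
  rw [Polynomial.algebraMap_eq, mul_assoc]

/-- Let a_1, …, a_n be a weakly regular sequence in a commutative ring A (each a_i is a non-zero-divisor
modulo (a_1, …, a_(i−1)); the a_i are allowed to generate the unit ideal). Then the kernel of the
A-algebra map A[X_1, …, X_n] → A[T] sending X_i to a_i·T, whose image is the Rees algebra of the
ideal (a_1, …, a_n), is the ideal generated by the elements a_i X_j − a_j X_i. (The published
statement assumes a regular sequence; only weak regularity is assumed here.) -/
theorem result {A : Type u} [CommRing A] {n : ℕ} (a : Fin n → A)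
    (ha : RingTheory.Sequence.IsWeaklyRegular A (List.ofFn a)) :
    RingHom.ker (MvPolynomial.aeval (R := A)
      (fun i : Fin n => Polynomial.C (a i) * (Polynomial.X : Polynomial A))) =
      Ideal.span {q : MvPolynomial (Fin n) A | ∃ i j : Fin n,
        q = MvPolynomial.C (a i) * MvPolynomial.X j - MvPolynomial.C (a j) * MvPolynomial.X i} := by
  classical
  have hWR : Groth.Agent.Lib.helper26.RegSeqB.WR a :=
    fun j x hx => Groth.Agent.Lib.helper26.RegSeqA.mem_of_mul_mem a ha j x hx
  apply le_antisymm
  · intro F hF
    rw [RingHom.mem_ker] at hF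
    have hcomp : ∀ d, MvPolynomial.eval a (MvPolynomial.homogeneousComponent d F) = 0 := by
      intro d
      have h1 : MvPolynomial.aeval (R := A)
          (fun i : Fin n => Polynomial.C (a i) * (Polynomial.X : Polynomial A)) F =
          ∑ i ∈ Finset.range (F.totalDegree + 1),
            Polynomial.C (MvPolynomial.eval a (MvPolynomial.homogeneousComponent i F)) *
              Polynomial.X ^ i := by
        conv_lhs => rw [← MvPolynomial.sum_homogeneousComponent F]
        rw [map_sum]
        apply Finset.sum_congr rfl
        intro i _
        exact aeval_homogeneous a i _ (MvPolynomial.homogeneousComponent_isHomogeneous i F)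
      have h2 := congrArg (fun p => Polynomial.coeff p d) h1
      simp only [Polynomial.finsetSum_coeff, Polynomial.coeff_C_mul, Polynomial.coeff_X_pow] at h2
      have hF' : MvPolynomial.aeval (R := A)
          (fun i : Fin n => Polynomial.C (a i) * (Polynomial.X : Polynomial A)) F = 0 := hF
      rw [hF', Polynomial.coeff_zero] at h2
      by_cases hd : d ∈ Finset.range (F.totalDegree + 1)
      · rw [Finset.sum_eq_single d] at h2
        · simpa using h2.symm
        · intro b _ hb
          rw [if_neg (Ne.symm hb), mul_zero]
        · intro h; exact absurd hd h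
      · rw [MvPolynomial.homogeneousComponent_eq_zero, map_zero]
        simp only [Finset.mem_range, not_lt] at hd
        omega
    rw [← MvPolynomial.sum_homogeneousComponent F]
    apply Ideal.sum_mem
    intro d _
    exact Groth.Agent.Lib.helper26.RegSeqB.QR n A a hWR d _
      (MvPolynomial.homogeneousComponent_isHomogeneous d F) (hcomp d)
  · rw [Ideal.span_le]
    rintro _ ⟨i, j, rfl⟩
    rw [SetLike.mem_coe, RingHom.mem_ker]
    simp only [map_sub, map_mul, MvPolynomial.aeval_C, MvPolynomial.aeval_X, Polynomial.algebraMap_eq]
    ring

end Groth.Agent.S0608
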