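import Groth.Statements.S0611
import Groth.Agent.Lib.helper26.RegSeqD

set_option autoImplicit false
universe u
open RRAlg

namespace Groth.Agent.S0611



/-- In a Noetherian local ring, any minimal generating set of an ideal generated by a regular sequence
is again a regular sequence: if a₁, …, aₙ is a regular sequence and b₁, …, bₙ are n elements
generating the same ideal, then b₁, …, bₙ is a regular sequence. (A regular sequence of length n
generating an ideal I is a minimal generating set of I, so "minimal" amounts to "of length n".) -/
theorem result {A : Type u} [CommRing A] [IsLocalRing A] [IsNoetherianRing A]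
    {n : ℕ} (a b : Fin n → A) (ha : RingTheory.Sequence.IsRegular A (List.ofFn a))
    (hab : Ideal.span (Set.range a) = Ideal.span (Set.range b)) :
    RingTheory.Sequence.IsRegular A (List.ofFn b) := by
  have hofa : Ideal.ofList (List.ofFn a) = Ideal.span (Set.range a) := by
    unfold Ideal.ofList
    congr 1
    ext x
    simp [List.mem_ofFn]
  have hofb : Ideal.ofList (List.ofFn b) = Ideal.span (Set.range b) := by
    unfold Ideal.ofList
    congr 1
    ext x
    simp [List.mem_ofFn]
  have hne : Ideal.span (Set.range a) ≠ ⊤ := by
    intro htop
    have := ha.top_ne_smul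
    rw [hofa, htop] at this
    exact this (by simp)
  have hle : Ideal.span (Set.range b) ≤ IsLocalRing.maximalIdeal A := by
    rw [← hab]; exact IsLocalRing.le_maximalIdeal hne
  have hbm : ∀ r ∈ List.ofFn b, r ∈ IsLocalRing.maximalIdeal A := by
    intro r hr
    rw [List.mem_ofFn] at hr
    obtain ⟨i, rfl⟩ := hr
    exact hle (Ideal.subset_span ⟨i, rfl⟩)
  have hdepth : ((List.ofFn b).length : ℕ∞) ≤ LocCoh.idealDepth (Ideal.ofList (List.ofFn b)) A := by
    rw [hofb, ← hab, ← hofa]
    have := Groth.Agent.Lib.helper9.Depth.length_le_idealDepth (I := Ideal.ofList (List.ofFn a))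
      ha.toIsWeaklyRegular (fun r hr => Ideal.subset_span hr)
    simpa using this
  have hw := Groth.Agent.Lib.helper26.RegSeqD.isWeaklyRegular_of_le_idealDepth (List.ofFn b) A hbm hdepth
  exact RingTheory.Sequence.IsRegular.of_isWeaklyRegular_of_mem_maximalIdeal A hbm hw

end Groth.Agent.S0611
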