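import Groth.Statements.S0615
import Groth.Agent.Lib.helper26.RegSeqA

set_option autoImplicit false
universe u
open RRAlg

namespace Groth.Agent.S0615

open Groth.Agent.Lib.helper26.RegSeqA in
/-- `a 0` is a nonzerodivisor modulo the ideal generated by the first `j` relations. -/
theorem nzd_mod {A : Type u} [CommRing A] {n : ℕ}
    (a : Fin (n + 1) → A) (ha : RingTheory.Sequence.IsWeaklyRegular A (List.ofFn a))
    (j : ℕ) (hj : j ≤ n) (g : MvPolynomial (Fin n) A)
    (hg : MvPolynomial.C (a 0) * g ∈ Ideal.span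
      ((fun i : Fin n => MvPolynomial.C (a 0) * MvPolynomial.X i - MvPolynomial.C (a i.succ)) ''
        {i | (i : ℕ) < j})) :
    g ∈ Ideal.span
      ((fun i : Fin n => MvPolynomial.C (a 0) * MvPolynomial.X i - MvPolynomial.C (a i.succ)) ''
        {i | (i : ℕ) < j}) := by
  classical
  set q : Fin n → MvPolynomial (Fin n) A :=
    fun i => MvPolynomial.C (a 0) * MvPolynomial.X i - MvPolynomial.C (a i.succ) with hq
  induction j generalizing g with
  | zero =>
    have hempty : {i : Fin n | (i : ℕ) < 0} = ∅ := by ext i; simp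
    rw [hempty, Set.image_empty, Ideal.span_empty, Ideal.mem_bot] at hg ⊢
    ext m
    have h1 := congrArg (MvPolynomial.coeff m) hg
    rw [MvPolynomial.coeff_C_mul, MvPolynomial.coeff_zero] at h1
    have h2 := mem_of_mul_mem a ha 0 (MvPolynomial.coeff m g) (by rw [h1]; exact zero_mem _)
    have hempty' : {i : Fin (n + 1) | i < 0} = ∅ := by ext i; simp
    rw [hempty', Set.image_empty, Ideal.span_empty, Ideal.mem_bot] at h2
    rw [h2, MvPolynomial.coeff_zero]
  | succ j ih =>
    have hjn : j < n := hj
    set jj : Fin n := ⟨j, hjn⟩ with hjj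
    set Kj := Ideal.span (q '' {i : Fin n | (i : ℕ) < j}) with hKj
    have hsplit : {i : Fin n | (i : ℕ) < j + 1} = {i : Fin n | (i : ℕ) < j} ∪ {jj} := by
      ext i
      simp only [Set.mem_ofPred_eq, Set.mem_union, Set.mem_singleton_iff, Fin.ext_iff, hjj]
      omega
    rw [hsplit, Set.image_union, Set.image_singleton, Ideal.span_union] at hg ⊢
    -- the ideal of polynomials with coefficients in (a_0, ..., a_j)
    set I : Ideal A := Ideal.span (a '' {i | i < jj.succ}) with hI
    set Lj : Ideal (MvPolynomial (Fin n) A) := Ideal.map MvPolynomial.C I with hLj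
    have hCmem : ∀ i : Fin (n + 1), i < jj.succ → MvPolynomial.C (a i) ∈ Lj := fun i hi =>
      Ideal.mem_map_of_mem _ (Ideal.subset_span ⟨i, hi, rfl⟩)
    have h0lt : (0 : Fin (n + 1)) < jj.succ := Fin.succ_pos jj
    have hα : Kj ≤ Lj := by
      rw [hKj, Ideal.span_le]
      rintro _ ⟨i, hi, rfl⟩
      have hi' : i.succ < jj.succ := by
        rw [Fin.lt_def]; simp only [Fin.val_succ, hjj]
        have : (i : ℕ) < j := hi
        omega
      exact Lj.sub_mem (Lj.mul_mem_right _ (hCmem 0 h0lt)) (hCmem _ hi')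
    have hβ : Lj ≤ Ideal.span {MvPolynomial.C (a 0)} ⊔ Kj := by
      rw [hLj, hI, Ideal.map_span, Ideal.span_le]
      rintro _ ⟨_, ⟨i, hi, rfl⟩, rfl⟩
      refine Fin.cases ?_ (fun i' hi' => ?_) i hi
      · intro _
        exact Ideal.mem_sup_left (Ideal.subset_span rfl)
      · have hi'' : (i' : ℕ) < j := by
          have := Fin.lt_def.1 hi'
          simp only [Fin.val_succ, hjj] at this
          omega
        have : MvPolynomial.C (a i'.succ) =
            MvPolynomial.C (a 0) * MvPolynomial.X i' - q i' := by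
          simp only [hq]; ring
        rw [this]
        exact Ideal.sub_mem _
          (Ideal.mem_sup_left (Ideal.mul_mem_right _ _ (Ideal.subset_span rfl)))
          (Ideal.mem_sup_right (Ideal.subset_span ⟨i', hi'', rfl⟩))
    have hγ : ∀ h : MvPolynomial (Fin n) A, MvPolynomial.C (a jj.succ) * h ∈ Lj → h ∈ Lj := by
      intro h hh
      rw [hLj, MvPolynomial.mem_map_C_iff] at hh ⊢
      intro m
      have := hh m
      rw [MvPolynomial.coeff_C_mul] at this
      exact mem_of_mul_mem a ha jj.succ _ this
    obtain ⟨k, hk, y, hy, hky⟩ := Submodule.mem_sup.1 hg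
    obtain ⟨h, rfl⟩ := Ideal.mem_span_singleton'.1 hy
    -- C (a_{j+1}) * h ∈ Lj
    have h1 : MvPolynomial.C (a jj.succ) * h ∈ Lj := by
      have : MvPolynomial.C (a jj.succ) * h =
          MvPolynomial.C (a 0) * (h * MvPolynomial.X jj - g) + k := by
        have : h * q jj = MvPolynomial.C (a 0) * g - k := by rw [← hky]; ring
        simp only [hq] at this
        linear_combination (-1 : MvPolynomial (Fin n) A) * this
      rw [this]
      exact Lj.add_mem (Lj.mul_mem_right _ (hCmem 0 h0lt)) (hα hk)
    have h2 := hβ (hγ h h1)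
    obtain ⟨z, hz, k', hk', hzk⟩ := Submodule.mem_sup.1 h2
    obtain ⟨h', rfl⟩ := Ideal.mem_span_singleton'.1 hz
    have h3 : MvPolynomial.C (a 0) * (g - h' * q jj) ∈ Kj := by
      have : MvPolynomial.C (a 0) * (g - h' * q jj) = k + k' * q jj := by
        rw [mul_sub, ← hky, ← hzk]; ring
      rw [this]
      exact Kj.add_mem hk (Kj.mul_mem_right _ hk')
    have h4 := ih (Nat.le_of_lt hjn) _ h3
    have : g = (g - h' * q jj) + h' * q jj := by ring
    rw [this]
    exact Submodule.add_mem_sup h4 (Ideal.mul_mem_left _ _ (Ideal.subset_span rfl))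

/-- Let A be a commutative ring and a_0, a_1, …, a_n a weakly regular sequence in A (for each i, a_i is
a non-zero-divisor on A/(a_0, …, a_{i−1}); the sequence is indexed here by Fin (n+1)). Then the
kernel of the A-algebra homomorphism A[T_1, …, T_n] → A[1/a_0] sending T_i to a_i/a_0 is the ideal
generated by the elements a_0 T_i − a_i for 1 ≤ i ≤ n (a presentation of the affine blow-up algebra
A[a_1/a_0, …, a_n/a_0]). -/
theorem result {A : Type u} [CommRing A] {n : ℕ}
    (a : Fin (n + 1) → A) (ha : RingTheory.Sequence.IsWeaklyRegular A (List.ofFn a)) :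
    RingHom.ker (MvPolynomial.aeval (R := A) (S₁ := Localization.Away (a 0))
      (fun i : Fin n => IsLocalization.mk' (Localization.Away (a 0)) (a i.succ)
        (⟨a 0, Submonoid.mem_powers (a 0)⟩ : Submonoid.powers (a 0)))) =
      Ideal.span (Set.range fun i : Fin n =>
        MvPolynomial.C (a 0) * MvPolynomial.X i - MvPolynomial.C (a i.succ)) := by
  classical
  set q : Fin n → MvPolynomial (Fin n) A :=
    fun i => MvPolynomial.C (a 0) * MvPolynomial.X i - MvPolynomial.C (a i.succ) with hq
  set ψ := MvPolynomial.aeval (R := A) (S₁ := Localization.Away (a 0))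
      (fun i : Fin n => IsLocalization.mk' (Localization.Away (a 0)) (a i.succ)
        (⟨a 0, Submonoid.mem_powers (a 0)⟩ : Submonoid.powers (a 0))) with hψ
  set K := Ideal.span (Set.range q) with hK
  have hKeq : K = Ideal.span (q '' {i : Fin n | (i : ℕ) < n}) := by
    rw [hK]; congr 1
    ext x; simp
  have hnzd : ∀ g : MvPolynomial (Fin n) A, MvPolynomial.C (a 0) * g ∈ K → g ∈ K := by
    intro g hg
    rw [hKeq] at hg ⊢
    exact nzd_mod a ha n le_rfl g hg
  have hnzd' : ∀ (N : ℕ) (g : MvPolynomial (Fin n) A), MvPolynomial.C (a 0 ^ N) * g ∈ K → g ∈ K := by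
    intro N
    induction N with
    | zero => intro g hg; simpa using hg
    | succ N ih =>
      intro g hg
      apply ih
      apply hnzd
      rw [← mul_assoc, ← map_mul, ← pow_succ']
      exact hg
  have hψq : ∀ i, ψ (q i) = 0 := by
    intro i
    simp only [hq, hψ, map_sub, map_mul, MvPolynomial.aeval_C, MvPolynomial.aeval_X]
    rw [sub_eq_zero]
    exact IsLocalization.mk'_spec' _ _ (⟨a 0, Submonoid.mem_powers (a 0)⟩ : Submonoid.powers (a 0))
  have key : ∀ g : MvPolynomial (Fin n) A, ∃ (d : ℕ) (c : A),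
      MvPolynomial.C (a 0 ^ d) * g - MvPolynomial.C c ∈ K ∧
      algebraMap A (Localization.Away (a 0)) c =
        algebraMap A (Localization.Away (a 0)) (a 0 ^ d) * ψ g := by
    intro g
    induction g using MvPolynomial.induction_on with
    | C c =>
      refine ⟨0, c, by simp, ?_⟩
      simp [hψ]
    | add g1 g2 h1 h2 =>
      obtain ⟨d1, c1, hk1, he1⟩ := h1
      obtain ⟨d2, c2, hk2, he2⟩ := h2
      refine ⟨d1 + d2, a 0 ^ d2 * c1 + a 0 ^ d1 * c2, ?_, ?_⟩
      · have : MvPolynomial.C (a 0 ^ (d1 + d2)) * (g1 + g2) -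
            MvPolynomial.C (a 0 ^ d2 * c1 + a 0 ^ d1 * c2) =
            MvPolynomial.C (a 0 ^ d2) * (MvPolynomial.C (a 0 ^ d1) * g1 - MvPolynomial.C c1) +
            MvPolynomial.C (a 0 ^ d1) * (MvPolynomial.C (a 0 ^ d2) * g2 - MvPolynomial.C c2) := by
          simp only [pow_add, map_mul, map_add]; ring
        rw [this]
        exact K.add_mem (K.mul_mem_left _ hk1) (K.mul_mem_left _ hk2)
      · simp only [map_add, map_mul, pow_add, he1, he2]; ring
    | mul_X g i h =>
      obtain ⟨d, c, hk, he⟩ := h
      refine ⟨d + 1, c * a i.succ, ?_, ?_⟩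
      · have : MvPolynomial.C (a 0 ^ (d + 1)) * (g * MvPolynomial.X i) -
            MvPolynomial.C (c * a i.succ) =
            (MvPolynomial.C (a 0 ^ d) * g - MvPolynomial.C c) *
              (MvPolynomial.C (a 0) * MvPolynomial.X i) + MvPolynomial.C c * q i := by
          simp only [hq, pow_succ, map_mul]; ring
        rw [this]
        exact K.add_mem (K.mul_mem_right _ hk) (K.mul_mem_left _ (Ideal.subset_span ⟨i, rfl⟩))
      · have hX : ψ (MvPolynomial.X i) = IsLocalization.mk' (Localization.Away (a 0)) (a i.succ)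
            (⟨a 0, Submonoid.mem_powers (a 0)⟩ : Submonoid.powers (a 0)) := by
          simp [hψ]
        have hspec : algebraMap A (Localization.Away (a 0)) (a 0) * ψ (MvPolynomial.X i) =
            algebraMap A (Localization.Away (a 0)) (a i.succ) := by
          rw [hX]
          exact IsLocalization.mk'_spec' _ _
            (⟨a 0, Submonoid.mem_powers (a 0)⟩ : Submonoid.powers (a 0))
        rw [map_mul, map_mul, he, ← hspec, pow_succ, map_mul]; ring
  apply le_antisymm
  · intro g hg
    rw [RingHom.mem_ker] at hg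
    obtain ⟨d, c, hk, he⟩ := key g
    have hg' : ψ g = 0 := hg
    rw [hg', mul_zero, IsLocalization.map_eq_zero_iff (Submonoid.powers (a 0))] at he
    obtain ⟨⟨_, e, rfl⟩, hec⟩ := he
    have hec' : a 0 ^ e * c = 0 := hec
    apply hnzd' (e + d)
    have : MvPolynomial.C (a 0 ^ (e + d)) * g =
        MvPolynomial.C (a 0 ^ e) * (MvPolynomial.C (a 0 ^ d) * g - MvPolynomial.C c) +
          MvPolynomial.C (a 0 ^ e * c) := by
      simp only [pow_add, map_mul]; ring
    rw [this, hec', map_zero, add_zero]
    exact K.mul_mem_left _ hk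
  · rw [hK, Ideal.span_le]
    rintro _ ⟨i, rfl⟩
    exact hψq i

end Groth.Agent.S0615
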