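import Groth.Statements.S0643
import Mathlib.RingTheory.AdjoinRoot
import Mathlib.Tactic.ComputeDegree

set_option autoImplicit false
universe u
open EtCore

namespace Groth.Agent.S0643

open Polynomial in
/-- Let A be a ring, assumed nonzero here (the published statement does not say so; over the zero ring
no polynomial has positive degree in Lean's sense), and a, b elements generating the unit ideal such
that some positive power of a is congruent to 1 modulo b. Then there is a monic polynomial P of
positive degree over A such that in B = A[y]/(P) the element a - b y is a unit. -/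
theorem result (A : Type u) [CommRing A] [Nontrivial A] (a b : A) (hab : IsCoprime a b)
    (hroot : ∃ n : ℕ, 0 < n ∧ a ^ n - 1 ∈ Ideal.span ({b} : Set A)) :
    ∃ P : A[X], P.Monic ∧ 0 < P.natDegree ∧
      IsUnit (algebraMap A (AdjoinRoot P) a - algebraMap A (AdjoinRoot P) b * AdjoinRoot.root P) := by
  obtain ⟨n, hn, hmem⟩ := hroot
  obtain ⟨c, hc⟩ := Ideal.mem_span_singleton'.mp hmem
  obtain ⟨s, t, hst⟩ := hab
  set Q : A[X] := C c * (C s * X + C t) ^ (n - 1) with hQ
  have hQnat : Q.natDegree ≤ n - 1 := by
    have h1 : (C s * X + C t : A[X]).natDegree ≤ 1 := by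
      compute_degree
    calc Q.natDegree ≤ (C c : A[X]).natDegree + ((C s * X + C t : A[X]) ^ (n - 1)).natDegree :=
          natDegree_mul_le
      _ ≤ 0 + (n - 1) * 1 := by
          gcongr
          · simp
          · exact natDegree_pow_le.trans (Nat.mul_le_mul_left _ h1)
      _ = n - 1 := by simp
  have hQdeg : Q.degree < (n : WithBot ℕ) := by
    have : Q.degree ≤ ((n - 1 : ℕ) : WithBot ℕ) := degree_le_of_natDegree_le hQnat
    refine this.trans_lt ?_
    exact_mod_cast Nat.sub_lt hn Nat.one_pos
  have hP : (X ^ n - Q).Monic := monic_X_pow_sub hQdeg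
  refine ⟨X ^ n - Q, hP, ?_, ?_⟩
  · have : (X ^ n - Q).natDegree = n := by
      rw [natDegree_sub_eq_left_of_natDegree_lt]
      · simp
      · rw [natDegree_X_pow]
        omega
    omega
  · set P : A[X] := X ^ n - Q with hPdef
    set θ : AdjoinRoot P := AdjoinRoot.root P with hθ
    set φ : A →+* AdjoinRoot P := algebraMap A (AdjoinRoot P) with hφ
    -- the relation satisfied by θ
    have hrel : θ ^ n = φ c * (φ s * θ + φ t) ^ (n - 1) := by
      have h0 : (AdjoinRoot.mk P) P = 0 := AdjoinRoot.mk_self
      have h1 : (AdjoinRoot.mk P) P = θ ^ n - φ c * (φ s * θ + φ t) ^ (n - 1) := by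
        simp only [hPdef, hQ, map_sub, map_mul, map_pow, map_add, AdjoinRoot.mk_X, AdjoinRoot.mk_C]
        rfl
      rw [h1] at h0
      exact sub_eq_zero.mp h0
    set x : AdjoinRoot P := φ b * θ with hx
    -- multiply by b ^ n
    have hrel' : x ^ n = φ b * φ c * (φ s * x + φ t * φ b) ^ (n - 1) := by
      have : x ^ n = φ b ^ n * θ ^ n := by rw [hx, mul_pow]
      rw [this, hrel]
      have hb : φ b ^ n = φ b * φ b ^ (n - 1) := by
        rw [← pow_succ']
        congr 1
        omega
      rw [hb]
      have : φ s * x + φ t * φ b = φ b * (φ s * θ + φ t) := by rw [hx]; ring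
      rw [this, mul_pow]
      ring
    -- `a - x` divides `1`
    have hdvd1 : (φ a - x) ∣ φ a ^ n - x ^ n := sub_dvd_pow_sub_pow _ _ _
    have hdvd2 : (φ a - x) ∣ (φ s * φ a + φ t * φ b) ^ (n - 1) - (φ s * x + φ t * φ b) ^ (n - 1) := by
      refine dvd_trans ?_ (sub_dvd_pow_sub_pow _ _ _)
      refine ⟨φ s, ?_⟩
      ring
    have hone : (1 : AdjoinRoot P) = (φ a ^ n - x ^ n) -
        φ b * φ c * ((φ s * φ a + φ t * φ b) ^ (n - 1) - (φ s * x + φ t * φ b) ^ (n - 1)) := by
      have e1 : φ s * φ a + φ t * φ b = 1 := by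
        rw [← map_mul, ← map_mul, ← map_add, hst, map_one]
      have e2 : φ a ^ n - 1 = φ c * φ b := by
        rw [← map_mul, hc, map_sub, map_pow, map_one]
      rw [e1, one_pow, hrel']
      have : φ a ^ n = 1 + φ c * φ b := by rw [← e2]; ring
      rw [this]
      ring
    have : (φ a - x) ∣ 1 := by
      rw [hone]
      exact dvd_sub hdvd1 (Dvd.dvd.mul_left hdvd2 _)
    exact isUnit_of_dvd_one this

end Groth.Agent.S0643
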