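import Groth.Statements.S0644
import Mathlib

set_option autoImplicit false
open CategoryTheory CategoryTheory.Limits AlgebraicGeometry Opposite
universe u
open EtCore

namespace Groth.Agent.S0644

/-- Let F be a sheaf of sets on the small etale site of S which is a subsheaf of the final sheaf, i.e.
every set of sections has at most one element. Then there is exactly one open W of S such that F is
isomorphic to the sheaf represented by W (viewed as a scheme etale over S). -/
theorem result (S : Scheme.{u}) (F : Sheaf S.smallEtaleTopology (Type u))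
    (hF : ∀ U : S.Etale, Subsingleton (F.obj.obj (op U))) :
    ∃! W : S.Opens, Nonempty (F.obj ≅ yoneda.obj (Scheme.Etale.mk W.ι)) := by
  classical
  let hm : ∀ U : S.Etale, U.left ⟶ S := fun U => U.hom
  have hopen : ∀ (U : S.Etale), IsOpen (Set.range (hm U).base) :=
    fun U => (hm U).isOpenMap.isOpen_range
  let ι := {U : S.Etale // Nonempty (F.obj.obj (op U))}
  let W : S.Opens := ⟨⋃ p : ι, Set.range (hm p.1).base, isOpen_iUnion fun p => hopen _⟩
  have hsh : Presieve.IsSheaf S.smallEtaleTopology F.obj :=
    (isSheaf_iff_isSheaf_of_type _ _).1 F.property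
  -- `F(U)` is nonempty iff `U` maps into `W`
  have key : ∀ U : S.Etale, Nonempty (F.obj.obj (op U)) ↔
      Set.range (hm U).base ⊆ (W : Set S) := by
    intro U
    constructor
    · intro h
      exact Set.subset_iUnion (fun p : ι => Set.range (hm p.1).base) ⟨U, h⟩
    · intro h
      let T : Sieve U :=
        { arrows := fun V ψ => Nonempty (F.obj.obj (op V))
          downward_closed := by
            intro Y Z f hf g
            exact ⟨F.obj.map g.op hf.some⟩ }
      have hT : T ∈ S.smallEtaleTopology U := by
        have eS : S.smallEtaleTopology =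
            (S.smallPretopology (P := EtCoh.etaleMP) (Q := EtCoh.etaleMP)).toGrothendieck :=
          Scheme.smallGrothendieckTopology_eq_toGrothendieck_smallPretopology S le_rfl
        rw [eS]
        refine (Scheme.mem_toGrothendieck_smallPretopology U _).2 ?_
        intro v
        have hv : (hm U).base v ∈ (W : Set S) := h ⟨v, rfl⟩
        obtain ⟨p, hp⟩ := Set.mem_iUnion.1 hv
        obtain ⟨u₁, hu₁⟩ := hp
        obtain ⟨U₁, h₁⟩ := p
        obtain ⟨z, hz1, hz2⟩ := Scheme.Pullback.exists_preimage_pullback
          (f := U.hom) (g := U₁.hom) v u₁ hu₁.symm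
        let P : S.Etale := Scheme.Etale.mk (pullback.fst U.hom U₁.hom ≫ U.hom)
        let ψ : P ⟶ U := MorphismProperty.Over.homMk (pullback.fst U.hom U₁.hom) rfl
        let ψ₁ : P ⟶ U₁ := MorphismProperty.Over.homMk (pullback.snd U.hom U₁.hom)
          pullback.condition.symm
        refine ⟨P, ψ, z, ⟨F.obj.map ψ₁.op h₁.some⟩, ?_, hz1⟩
        show Etale (pullback.fst U.hom U₁.hom)
        infer_instance
      let x : Presieve.FamilyOfElements F.obj T.arrows := fun V ψ hψ => hψ.some
      have hx : x.Compatible := by
        intro Y₁ Y₂ Z g₁ g₂ f₁ f₂ h₁ h₂ _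
        exact (hF Z).elim _ _
      exact ⟨(hsh T hT).amalgamate x hx⟩
  -- maps into an open subscheme
  have key2 : ∀ (W' : S.Opens) (U : S.Etale),
      Nonempty (U ⟶ Scheme.Etale.mk W'.ι) ↔ Set.range (hm U).base ⊆ (W' : Set S) := by
    intro W' U
    constructor
    · rintro ⟨f⟩
      have hw : f.left ≫ W'.ι = hm U := MorphismProperty.Over.w f
      rintro _ ⟨v, rfl⟩
      rw [← hw]
      have : (f.left ≫ W'.ι).base v = W'.ι.base (f.left.base v) := rfl
      rw [this]
      exact (f.left.base v).2
    · intro h
      have h' : Set.range (hm U).base ⊆ Set.range W'.ι.base := by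
        rw [Scheme.Opens.range_ι]
        exact h
      let l : U.left ⟶ (W' : Scheme.{u}) := IsOpenImmersion.lift W'.ι (hm U) h'
      have hl : l ≫ W'.ι = hm U := IsOpenImmersion.lift_fac _ _ _
      exact ⟨MorphismProperty.Over.homMk l hl⟩
  have sub2 : ∀ (W' : S.Opens) (U : S.Etale), Subsingleton (U ⟶ Scheme.Etale.mk W'.ι) := by
    intro W' U
    constructor
    intro f g
    apply MorphismProperty.Over.Hom.ext
    have hf : f.left ≫ W'.ι = U.hom := MorphismProperty.Over.w f
    have hg : g.left ≫ W'.ι = U.hom := MorphismProperty.Over.w g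
    exact (cancel_mono W'.ι).1 (hf.trans hg.symm)
  refine ⟨W, ⟨NatIso.ofComponents (fun U => Equiv.toIso
      { toFun := fun s => ((key2 W U.unop).2 ((key U.unop).1 ⟨s⟩)).some
        invFun := fun f => ((key U.unop).2 ((key2 W U.unop).1 ⟨f⟩)).some
        left_inv := fun s => (hF U.unop).elim _ _
        right_inv := fun f => (sub2 W U.unop).elim _ _ }) ?_⟩, ?_⟩
  · intro U V f
    ext s
    exact (sub2 W V.unop).elim _ _
  · rintro W' ⟨e⟩
    apply le_antisymm
    · -- W' ≤ W
      have h1 : Nonempty (F.obj.obj (op (Scheme.Etale.mk W'.ι))) :=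
        ⟨e.inv.app (op (Scheme.Etale.mk W'.ι)) (𝟙 _)⟩
      have h2 := (key _).1 h1
      intro x hx
      apply h2
      have : Set.range W'.ι.base = (W' : Set S) := Scheme.Opens.range_ι W'
      show x ∈ Set.range W'.ι.base
      rw [this]
      exact hx
    · intro x hx
      obtain ⟨p, hp⟩ := Set.mem_iUnion.1 hx
      obtain ⟨U, hU⟩ := p
      have h1 : Nonempty (U ⟶ Scheme.Etale.mk W'.ι) := ⟨e.hom.app (op U) hU.some⟩
      exact (key2 W' U).1 h1 hp

end Groth.Agent.S0644
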