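import Groth.Statements.S0658
import Mathlib

set_option autoImplicit false
open CategoryTheory CategoryTheory.Limits AlgebraicGeometry Opposite
universe u
open EtCore

namespace Groth.Agent.S0658

section Helpers

open CategoryTheory CategoryTheory.Limits AlgebraicGeometry Opposite TopologicalSpace

section
variable (k : Type u) [Field k] (U : Scheme.{u}) (φ : U ⟶ Spec (CommRingCat.of k))

/-- the structure map of an affine open as a ring map -/
theorem exists_ringHom {W : U.Opens} (hW : IsAffineOpen W) [Etale φ] :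
    ∃ ψ : CommRingCat.of k ⟶ Γ(U, W), Spec.map ψ = hW.fromSpec ≫ φ ∧ ψ.hom.Etale := by
  obtain ⟨ψ, hψ⟩ := Spec.map_surjective (hW.fromSpec ≫ φ)
  refine ⟨ψ, hψ, ?_⟩
  have : Etale (Spec.map ψ) := by rw [hψ]; infer_instance
  exact (HasRingHomProperty.Spec_iff (P := @Etale)).1 this

theorem isOpen_singleton [Etale φ] (x : U) : IsOpen ({x} : Set U) := by
  obtain ⟨_, ⟨W, hW, rfl⟩, hxW, -⟩ :=
    U.isBasis_affineOpens.exists_subset_of_mem_open (Set.mem_univ x) isOpen_univ
  obtain ⟨ψ, hψ, hψe⟩ := exists_ringHom k U φ hW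
  algebraize [ψ.hom]
  have hfin : Module.Finite k Γ(U, W) := Algebra.FormallyUnramified.finite_of_free k _
  have hart : IsArtinianRing Γ(U, W) := isArtinian_of_tower k inferInstance
  have hdisc : DiscreteTopology (PrimeSpectrum Γ(U, W)) := inferInstance
  have hopen : IsOpen ({hW.primeIdealOf ⟨x, hxW⟩} : Set (PrimeSpectrum Γ(U, W))) :=
    isOpen_discrete _
  have := hW.fromSpec.isOpenEmbedding.isOpenMap _ hopen
  have heq : (hW.fromSpec.base : _ → _) '' {hW.primeIdealOf ⟨x, hxW⟩} = {x} :=
    Set.image_singleton.trans (congrArg _ (hW.fromSpec_primeIdealOf ⟨x, hxW⟩))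
  rw [← heq]
  exact this

end


section
variable (k : Type u) [Field k] (U : Scheme.{u}) (φ : U ⟶ Spec (CommRingCat.of k))

theorem exists_point_data [Etale φ] (x : U) :
    ∃ (A : Type u) (_ : Field A) (_ : Algebra k A) (_ : FiniteDimensional k A)
      (_ : Algebra.IsSeparable k A) (g : Spec (CommRingCat.of A) ⟶ U),
      IsOpenImmersion g ∧ Set.range g.base = {x} ∧
        g ≫ φ = Spec.map (CommRingCat.ofHom (algebraMap k A)) := by
  let V : U.Opens := ⟨{x}, isOpen_singleton k U φ x⟩
  have hV : IsAffineOpen V := by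
    obtain ⟨_, ⟨V', hV', rfl⟩, hxV', hV'V⟩ :=
      U.isBasis_affineOpens.exists_subset_of_mem_open (show x ∈ (V : Set U) from rfl) V.isOpen
    have : V' = V := le_antisymm hV'V (by
      intro y hy
      rw [show y = x from hy]; exact hxV')
    rw [← this]; exact hV'
  obtain ⟨ψ, hψ, hψe⟩ := exists_ringHom k U φ hV
  algebraize [ψ.hom]
  have hfin : Module.Finite k Γ(U, V) := Algebra.FormallyUnramified.finite_of_free k _
  have hred : IsReduced Γ(U, V) := Algebra.FormallyUnramified.isReduced_of_field k _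
  have hmemV : ∀ p : Spec Γ(U, V), hV.fromSpec.base p = x := by
    intro p
    have : hV.fromSpec.base p ∈ (V : Set U) := by
      rw [← hV.range_fromSpec]; exact ⟨p, rfl⟩
    exact this
  have hsub : Subsingleton (PrimeSpectrum Γ(U, V)) := by
    constructor
    intro p q
    apply hV.fromSpec.isOpenEmbedding.injective
    exact (hmemV p).trans (hmemV q).symm
  have hne : Nontrivial Γ(U, V) := (hV.primeIdealOf ⟨x, rfl⟩).nontrivial
  obtain ⟨𝔪, h𝔪⟩ := Ideal.exists_maximal Γ(U, V)
  have hbot : 𝔪 = ⊥ := by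
    rw [eq_bot_iff]
    intro a ha
    have hnil : IsNilpotent a := nilpotent_iff_mem_prime.2 (fun J hJ => by
      have h1 : (⟨J, hJ⟩ : PrimeSpectrum Γ(U, V)) = ⟨𝔪, h𝔪.isPrime⟩ := Subsingleton.elim _ _
      have hJ𝔪 : J = 𝔪 := congrArg PrimeSpectrum.asIdeal h1
      rw [hJ𝔪]; exact ha)
    exact hnil.eq_zero
  have hmax : (⊥ : Ideal Γ(U, V)).IsMaximal := hbot ▸ h𝔪
  letI : Field (Γ(U, V) ⧸ (⊥ : Ideal Γ(U, V))) := Ideal.Quotient.field ⊥
  have hfinA : FiniteDimensional k (Γ(U, V) ⧸ (⊥ : Ideal Γ(U, V))) :=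
    Module.Finite.of_surjective (Ideal.Quotient.mkₐ k (⊥ : Ideal Γ(U, V))).toLinearMap
      (Ideal.Quotient.mkₐ_surjective k _)
  have hsepA : Algebra.IsSeparable k (Γ(U, V) ⧸ (⊥ : Ideal Γ(U, V))) := inferInstance
  have hbij : Function.Bijective (Ideal.Quotient.mk (⊥ : Ideal Γ(U, V))) :=
    ⟨(RingHom.injective_iff_ker_eq_bot _).2 (by rw [Ideal.mk_ker]),
      Ideal.Quotient.mk_surjective⟩
  have hiso : IsIso (Spec.map (CommRingCat.ofHom (Ideal.Quotient.mk (⊥ : Ideal Γ(U, V))))) :=
    isIso_SpecMap_iff.2 hbij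
  refine ⟨Γ(U, V) ⧸ (⊥ : Ideal Γ(U, V)), inferInstance, inferInstance, hfinA, hsepA,
    Spec.map (CommRingCat.ofHom (Ideal.Quotient.mk (⊥ : Ideal Γ(U, V)))) ≫ hV.fromSpec,
    inferInstance, ?_, ?_⟩
  · apply Set.Subset.antisymm
    · rintro _ ⟨q, rfl⟩
      exact hmemV _
    · intro y hy
      rw [show y = x from hy]
      have hsurj : Function.Surjective
          (Spec.map (CommRingCat.ofHom (Ideal.Quotient.mk (⊥ : Ideal Γ(U, V))))).base :=
        (Spec.map (CommRingCat.ofHom (Ideal.Quotient.mk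
          (⊥ : Ideal Γ(U, V))))).homeomorph.surjective
      obtain ⟨q, hq⟩ := hsurj (hV.primeIdealOf ⟨x, rfl⟩)
      refine ⟨q, ?_⟩
      change hV.fromSpec.base _ = x
      exact hmemV _
  · rw [Category.assoc, ← hψ, ← Spec.map_comp]
    rfl

end

theorem main (k : Type u) [Field k] (U : Scheme.{u}) (φ : U ⟶ Spec (CommRingCat.of k)) :
    AlgebraicGeometry.Etale φ ↔
      ∃ (ι : Type u) (K : ι → Type u) (_ : ∀ i, Field (K i)) (_ : ∀ i, Algebra k (K i))
        (_ : ∀ i, FiniteDimensional k (K i)) (_ : ∀ i, Algebra.IsSeparable k (K i))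
        (e : (∐ fun i => Spec (CommRingCat.of (K i))) ≅ U),
        ∀ i, Sigma.ι (fun i => Spec (CommRingCat.of (K i))) i ≫ e.hom ≫ φ =
          Spec.map (CommRingCat.ofHom (algebraMap k (K i))) := by
  constructor
  · intro hφ
    choose A hA1 hA2 hA3 hA4 g hg1 hg2 hg3 using exists_point_data k U φ
    have hcolim : Nonempty (IsColimit (Cofan.mk U g)) := by
      apply nonempty_isColimit_cofanMk_of
      · rw [eq_top_iff]
        intro x _
        simp only [Opens.mem_iSup]
        refine ⟨x, ?_⟩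
        change x ∈ Set.range (g x).base
        rw [hg2 x]; rfl
      · intro x y hxy
        simp only [Function.onFun]
        rw [disjoint_iff]
        ext z
        simp only [Opens.coe_inf, Set.mem_inter_iff, SetLike.mem_coe, Opens.coe_bot,
          Set.mem_empty_iff_false, iff_false, not_and]
        intro h1 h2
        have h1' : z ∈ Set.range (g x).base := h1
        have h2' : z ∈ Set.range (g y).base := h2
        rw [hg2 x] at h1'
        rw [hg2 y] at h2'
        exact hxy ((show z = x from h1').symm.trans (show z = y from h2'))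
    let e : (∐ fun x => Spec (CommRingCat.of (A x))) ≅ U :=
      (colimit.isColimit _).coconePointUniqueUpToIso hcolim.some
    refine ⟨U, A, hA1, hA2, hA3, hA4, e, fun x => ?_⟩
    have : Sigma.ι (fun x => Spec (CommRingCat.of (A x))) x ≫ e.hom = g x :=
      IsColimit.comp_coconePointUniqueUpToIso_hom (colimit.isColimit _) hcolim.some ⟨x⟩
    rw [← Category.assoc, this, hg3 x]
  · rintro ⟨ι, K, hK1, hK2, hK3, hK4, e, he⟩
    have h1 : φ = e.inv ≫ Sigma.desc (fun i => Spec.map (CommRingCat.ofHom (algebraMap k (K i)))) := by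
      rw [Iso.eq_inv_comp]
      apply Sigma.hom_ext
      intro i
      rw [he i, Sigma.ι_desc]
    rw [h1]
    have h2 : ∀ i, Etale (Spec.map (CommRingCat.ofHom (algebraMap k (K i)))) := by
      intro i
      rw [HasRingHomProperty.Spec_iff (P := @Etale)]
      rw [CommRingCat.hom_ofHom, RingHom.etale_algebraMap]
      have : Algebra.FormallyEtale k (K i) := Algebra.FormallyEtale.of_isSeparable k (K i)
      exact ⟨this, Algebra.FinitePresentation.of_finiteType.mp inferInstance⟩
    have h3 : Etale (Sigma.desc (fun i => Spec.map (CommRingCat.ofHom (algebraMap k (K i))))) :=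
      IsZariskiLocalAtSource.sigmaDesc h2
    infer_instance

end Helpers

/-- Let k be a field and φ : U → Spec k a morphism of schemes. Then φ is étale if and only if U is
isomorphic over k to a disjoint union ∐ Spec K_i with each K_i a finite separable field extension of
k. -/
theorem result (k : Type u) [Field k] (U : Scheme.{u}) (φ : U ⟶ Spec (CommRingCat.of k)) :
    AlgebraicGeometry.Etale φ ↔
      ∃ (ι : Type u) (K : ι → Type u) (_ : ∀ i, Field (K i)) (_ : ∀ i, Algebra k (K i))
        (_ : ∀ i, FiniteDimensional k (K i)) (_ : ∀ i, Algebra.IsSeparable k (K i))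
        (e : (∐ fun i => Spec (CommRingCat.of (K i))) ≅ U),
        ∀ i, Sigma.ι (fun i => Spec (CommRingCat.of (K i))) i ≫ e.hom ≫ φ =
          Spec.map (CommRingCat.ofHom (algebraMap k (K i))) := by
  exact main k U φ

end Groth.Agent.S0658
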