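import Groth.Statements.S0702
import Mathlib
-- import your own Groth.Agent.* helpers here

set_option autoImplicit false
open CategoryTheory CategoryTheory.Limits AlgebraicGeometry Opposite Topology
universe u
open ProEtW

namespace Groth.Agent.S0702

section helpers


/-- If there are no strict inclusions between primes, the spectrum is Hausdorff. -/
theorem t2Space_of_incomparable (B : Type u) [CommRing B]
    (h : ∀ q q' : PrimeSpectrum B, q.asIdeal ≤ q'.asIdeal → q = q') : T2Space (PrimeSpectrum B) := by
  refine ⟨fun p q hpq => ?_⟩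
  -- choose `f ∈ p \ q`
  have hnle : ¬ p.asIdeal ≤ q.asIdeal := fun hle => hpq (h p q hle)
  obtain ⟨f, hfp, hfq⟩ := Set.not_subset.1 hnle
  -- the multiplicative set `S = (B \ p) * f^ℕ` contains `0`
  have h0 : ∃ s : B, s ∉ p.asIdeal ∧ ∃ n : ℕ, s * f ^ n = 0 := by
    by_contra hcon
    push Not at hcon
    let S : Submonoid B := p.asIdeal.primeCompl ⊔ Submonoid.powers f
    have hdisj : Disjoint ((⊥ : Ideal B) : Set B) (S : Set B) := by
      rw [Set.disjoint_left]
      intro a ha haS
      have ha0 : a = 0 := ha
      subst ha0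
      obtain ⟨s, hs, t, ⟨n, rfl⟩, hst⟩ := Submonoid.mem_sup.1 haS
      exact hcon s hs n hst
    obtain ⟨P, hP, -, hPS⟩ := Ideal.exists_le_prime_disjoint _ _ hdisj
    have hPp : P ≤ p.asIdeal := by
      intro a haP
      by_contra hap
      exact Set.disjoint_left.1 hPS haP (Submonoid.mem_sup_left (show a ∈ p.asIdeal.primeCompl from hap))
    have hfP : f ∉ P := fun hfP =>
      Set.disjoint_left.1 hPS hfP (Submonoid.mem_sup_right (Submonoid.mem_powers f))
    have : (⟨P, hP⟩ : PrimeSpectrum B) = p := h ⟨P, hP⟩ p hPp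
    apply hfP
    have hP' : P = p.asIdeal := congrArg PrimeSpectrum.asIdeal this
    rw [hP']
    exact hfp
  obtain ⟨s, hs, n, hsn⟩ := h0
  refine ⟨PrimeSpectrum.basicOpen s, PrimeSpectrum.basicOpen f, (PrimeSpectrum.basicOpen s).2,
    (PrimeSpectrum.basicOpen f).2, hs, hfq, ?_⟩
  rw [Set.disjoint_left]
  intro x hxs hxf
  have hxs' : s ∉ x.asIdeal := hxs
  have hxf' : f ∉ x.asIdeal := hxf
  have : s * f ^ n ∈ x.asIdeal := by rw [hsn]; exact x.asIdeal.zero_mem
  rcases x.2.mem_or_mem this with h1 | h1
  · exact hxs' h1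
  · exact hxf' (x.2.mem_of_pow_mem n h1)





end helpers

/-- Let Spec A be profinite and A -> B induce algebraic extensions of residue fields at all primes. Then
Spec B is profinite. -/
theorem result (A B : Type u) [CommRing A] [CommRing B]
    [Algebra A B] [T2Space (PrimeSpectrum A)] [TotallyDisconnectedSpace (PrimeSpectrum A)]
    (h : ProEtW.AlgebraicResidueExtensions A B) :
    ProEtW.IsProfinite (PrimeSpectrum B) := by
  have hmax : ∀ q : PrimeSpectrum B, q.asIdeal.IsMaximal := by
    intro q
    have hq : q.asIdeal.IsPrime := q.2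
    have halg := h q.asIdeal
    set p := q.asIdeal.comap (algebraMap A B) with hp
    have hpmax : p.IsMaximal := by
      have hcl : IsClosed ({PrimeSpectrum.comap (algebraMap A B) q} : Set (PrimeSpectrum A)) :=
        isClosed_singleton
      exact (PrimeSpectrum.isClosed_singleton_iff_isMaximal _).1 hcl
    have hfield : IsField (A ⧸ p) := (Ideal.Quotient.maximal_ideal_iff_isField_quotient p).1 hpmax
    let : Field (A ⧸ p) := hfield.toField
    have hint : Algebra.IsIntegral (A ⧸ p) (B ⧸ q.asIdeal) := Algebra.IsAlgebraic.isIntegral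
    have hBf : IsField (B ⧸ q.asIdeal) := isField_of_isIntegral_of_isField' hfield
    exact Ideal.Quotient.maximal_of_isField _ hBf
  have hB : ∀ q q' : PrimeSpectrum B, q.asIdeal ≤ q'.asIdeal → q = q' := by
    intro q q' hle
    have := (hmax q).eq_of_le q'.2.ne_top hle
    exact PrimeSpectrum.ext this
  have : T2Space (PrimeSpectrum B) := t2Space_of_incomparable B hB
  exact ⟨inferInstance, inferInstance, inferInstance⟩

end Groth.Agent.S0702
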