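import Groth.Statements.S0704
import Mathlib
import Groth.Agent.S0703

set_option autoImplicit false
open Topology
universe u
open ProEtW

namespace Groth.Agent.S0704

section Helpers

open Topology TopologicalSpace

open Groth.Agent.S0703

theorem mk_eq_of_specializes {X : Type u} [TopologicalSpace X] {x x' : X} (h : x ⤳ x') :
    (ConnectedComponents.mk x : ConnectedComponents X) = ConnectedComponents.mk x' := by
  have hmem : x' ∈ closure ({x} : Set X) := specializes_iff_mem_closure.1 h
  have hconn : IsPreconnected (closure ({x} : Set X)) := isPreconnected_singleton.closure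
  have : x' ∈ connectedComponent x :=
    hconn.subset_connectedComponent (subset_closure rfl) hmem
  exact (ConnectedComponents.coe_eq_coe'.2 this).symm

theorem isClosed_singleton_iff_forall_specializes {Z : Type u} [TopologicalSpace Z] (z : Z) :
    IsClosed ({z} : Set Z) ↔ ∀ z', z ⤳ z' → z' = z := by
  constructor
  · intro h z' hz'
    have := specializes_iff_mem_closure.1 hz'
    rw [h.closure_eq] at this
    exact this
  · intro h
    have : closure ({z} : Set Z) = {z} := by
      apply Set.Subset.antisymm
      · intro z' hz'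
        exact h z' (specializes_iff_mem_closure.2 hz')
      · exact subset_closure
    rw [← this]
    exact isClosed_closure

section
variable {X T : Type u} [TopologicalSpace X] [TopologicalSpace T] [T2Space T]
  (g : C(T, _root_.ConnectedComponents X))

theorem specializes_iff_YY (y y' : YY g) :
    y ⤳ y' ↔ y.1.1 ⤳ y'.1.1 ∧ y.1.2 = y'.1.2 := by
  rw [← Topology.IsInducing.subtypeVal.specializes_iff]
  obtain ⟨⟨x, t⟩, hy⟩ := y
  obtain ⟨⟨x', t'⟩, hy'⟩ := y'
  rw [specializes_prod]
  constructor
  · rintro ⟨h1, h2⟩
    exact ⟨h1, h2.eq⟩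
  · rintro ⟨h1, h2⟩
    have h2' : t = t' := h2
    exact ⟨h1, h2' ▸ specializes_rfl⟩

theorem closedPoints_YY (y : YY g) :
    IsClosed ({y} : Set (YY g)) ↔ IsClosed ({y.1.1} : Set X) := by
  rw [isClosed_singleton_iff_forall_specializes, isClosed_singleton_iff_forall_specializes]
  constructor
  · intro h x' hx'
    have hmem : ConnectedComponents.mk x' = g y.1.2 := by
      rw [← mk_eq_of_specializes hx']; exact y.2
    have := h ⟨(x', y.1.2), hmem⟩ ((specializes_iff_YY g _ _).2 ⟨hx', rfl⟩)
    exact congrArg (fun z : YY g => z.1.1) this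
  · intro h y' hy'
    obtain ⟨h1, h2⟩ := (specializes_iff_YY g _ _).1 hy'
    apply Subtype.ext
    exact Prod.ext (h _ h1) h2.symm

end

theorem main (X T : Type u) [TopologicalSpace X]
    [TopologicalSpace T] [CompactSpace T] [T2Space T] [TotallyDisconnectedSpace T]
    (hX : ProEtW.IsWLocal X) (g : C(T, _root_.ConnectedComponents X)) :
    ProEtW.IsWLocal {p : X × T // _root_.ConnectedComponents.mk p.1 = g p.2} ∧
      ProEtW.IsWLocalMap
        (fun y : {p : X × T // _root_.ConnectedComponents.mk p.1 = g p.2} => y.1.1) ∧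
      ProEtW.closedPoints {p : X × T // _root_.ConnectedComponents.mk p.1 = g p.2} =
        (fun y : {p : X × T // _root_.ConnectedComponents.mk p.1 = g p.2} => y.1.1) ⁻¹'
          ProEtW.closedPoints X := by
  obtain ⟨hspec, hX0, huniq⟩ := hX
  have hYspec : SpectralSpace (YY g) := (Groth.Agent.S0703.result X T g).1
  have hcont : Continuous (fun y : YY g => y.1.1) := continuous_fst.comp continuous_subtype_val
  have hcp : ProEtW.closedPoints (YY g) =
      (fun y : YY g => y.1.1) ⁻¹' ProEtW.closedPoints X := by
    ext y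
    exact closedPoints_YY g y
  refine ⟨⟨hYspec, ?_, ?_⟩, ⟨⟨hcont, ?_⟩, ?_⟩, hcp⟩
  · change IsClosed (ProEtW.closedPoints (YY g))
    rw [hcp]
    exact hX0.preimage hcont
  · intro y
    obtain ⟨z, ⟨hz1, hz2⟩, hzu⟩ := huniq y.1.1
    have hmem : ConnectedComponents.mk z = g y.1.2 := by
      rw [← mk_eq_of_specializes hz2]; exact y.2
    refine ⟨⟨(z, y.1.2), hmem⟩, ⟨?_, ?_⟩, ?_⟩
    · exact (closedPoints_YY g _).2 hz1
    · exact (specializes_iff_YY g _ _).2 ⟨hz2, rfl⟩
    · rintro y' ⟨hy'1, hy'2⟩
      obtain ⟨h1, h2⟩ := (specializes_iff_YY g _ _).1 hy'2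
      apply Subtype.ext
      exact Prod.ext (hzu _ ⟨(closedPoints_YY g _).1 hy'1, h1⟩) h2.symm
  · intro U hUo hUc
    have hT2 : T2Space (ConnectedComponents X) := t2_connectedComponents X
    have hclosed : IsClosed {p : X × T | _root_.ConnectedComponents.mk p.1 = g p.2} :=
      isClosed_eq (ConnectedComponents.continuous_coe.comp continuous_fst)
        (g.continuous.comp continuous_snd)
    rw [Topology.IsEmbedding.subtypeVal.isCompact_iff]
    have : (Subtype.val : YY g → X × T) '' ((fun y : YY g => y.1.1) ⁻¹' U) =
        {p : X × T | _root_.ConnectedComponents.mk p.1 = g p.2} ∩ (U ×ˢ Set.univ) := by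
      ext p
      constructor
      · rintro ⟨y, hy, rfl⟩
        exact ⟨y.2, hy, Set.mem_univ _⟩
      · rintro ⟨hp1, hp2, -⟩
        exact ⟨⟨p, hp1⟩, hp2, rfl⟩
    rw [this]
    exact (hUc.prod isCompact_univ).inter_left hclosed
  · intro y hy
    exact (closedPoints_YY g y).1 hy

end Helpers

/-- With X, T, g and the fibre product Y of X and T over pi_0(X) as in the first part, if X is moreover
w-local then Y is w-local, the projection Y -> X is w-local, and the closed points of Y are exactly
the points mapping to closed points of X. -/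
theorem result (X T : Type u) [TopologicalSpace X]
    [TopologicalSpace T] [CompactSpace T] [T2Space T] [TotallyDisconnectedSpace T]
    (hX : ProEtW.IsWLocal X) (g : C(T, _root_.ConnectedComponents X)) :
    ProEtW.IsWLocal {p : X × T // _root_.ConnectedComponents.mk p.1 = g p.2} ∧
      ProEtW.IsWLocalMap (fun y : {p : X × T // _root_.ConnectedComponents.mk p.1 = g p.2} => y.1.1) ∧
      ProEtW.closedPoints {p : X × T // _root_.ConnectedComponents.mk p.1 = g p.2} =
        (fun y : {p : X × T // _root_.ConnectedComponents.mk p.1 = g p.2} => y.1.1) ⁻¹' ProEtW.closedPoints X := by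
  exact main X T hX g

end Groth.Agent.S0704
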