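import Groth.Statements.S0706
import Mathlib
-- import your own Groth.Agent.* helpers here

set_option autoImplicit false
open CategoryTheory CategoryTheory.Limits AlgebraicGeometry Opposite Topology
universe u
open ProEtW

namespace Groth.Agent.S0706

/-- Let f be an element and I an ideal of A, and Z the intersection of D(f) and V(I) in Spec A. There is
a multiplicative subset S of A for which the image of Spec(S^{-1}A) in Spec A consists precisely of
the points having a specialization in Z. -/
theorem result (A : Type u) [CommRing A] (f : A) (I : Ideal A) :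
    ∃ S : Submonoid A,
      Set.range (PrimeSpectrum.comap (algebraMap A (Localization S))) =
        {x | ∃ z : PrimeSpectrum A,
          z ∈ (PrimeSpectrum.basicOpen f : Set (PrimeSpectrum A)) ∩ PrimeSpectrum.zeroLocus I ∧ x ⤳ z} := by
  classical
  -- `Z = D(f) ∩ V(I)`
  set Z : Set (PrimeSpectrum A) :=
    (PrimeSpectrum.basicOpen f : Set (PrimeSpectrum A)) ∩ PrimeSpectrum.zeroLocus I with hZ
  let S : Submonoid A :=
    { carrier := {a | ∀ z ∈ Z, a ∉ z.asIdeal}
      one_mem' := fun z _ h1 => z.2.ne_top ((Ideal.eq_top_iff_one _).2 h1)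
      mul_mem' := fun {a b} ha hb z hz hab => by
        rcases z.2.mem_or_mem hab with h | h
        · exact ha z hz h
        · exact hb z hz h }
  refine ⟨S, ?_⟩
  rw [PrimeSpectrum.localization_comap_range (Localization S) S]
  ext x
  simp only [Set.mem_ofPred_eq]
  constructor
  · intro hdisj
    -- the ideal `x + I` does not meet the powers of `f`
    have hmiss : Disjoint ((x.asIdeal ⊔ I : Ideal A) : Set A) (Submonoid.powers f : Set A) := by
      rw [Set.disjoint_left]
      rintro a ha ⟨n, rfl⟩
      obtain ⟨q, hq, b, hb, hqb⟩ := Submodule.mem_sup.1 ha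
      -- `q = f^n - b ∈ x`, so `q ∉ S`, so `q ∈ z` for some `z ∈ Z`
      have hqS : q ∉ S := fun hqS => Set.disjoint_left.1 hdisj hqS hq
      have : ∃ z ∈ Z, q ∈ z.asIdeal := by
        by_contra hcon
        push Not at hcon
        exact hqS hcon
      obtain ⟨z, hz, hqz⟩ := this
      have hbz : b ∈ z.asIdeal := by
        have := hz.2
        rw [PrimeSpectrum.mem_zeroLocus] at this
        exact this hb
      have hfz : f ^ n ∈ z.asIdeal := by
        have hqb' : q + b = f ^ n := hqb
        rw [← hqb']; exact z.asIdeal.add_mem hqz hbz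
      have hf : f ∈ z.asIdeal := z.2.mem_of_pow_mem n hfz
      exact hz.1 hf
    obtain ⟨P, hP, hle, hPdisj⟩ := Ideal.exists_le_prime_disjoint _ _ hmiss
    refine ⟨⟨P, hP⟩, ⟨?_, ?_⟩, ?_⟩
    · intro hfP
      exact Set.disjoint_left.1 hPdisj hfP (Submonoid.mem_powers f)
    · rw [PrimeSpectrum.mem_zeroLocus]
      exact fun a ha => hle (Ideal.mem_sup_right ha)
    · rw [← PrimeSpectrum.le_iff_specializes]
      exact fun a ha => hle (Ideal.mem_sup_left ha)
  · rintro ⟨z, hz, hxz⟩
    rw [← PrimeSpectrum.le_iff_specializes] at hxz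
    rw [Set.disjoint_left]
    intro a haS hax
    exact haS z hz (hxz hax)

end Groth.Agent.S0706
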