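import Groth.Statements.S0729
import Mathlib
-- import your own Groth.Agent.* helpers here

set_option autoImplicit false
open CategoryTheory CategoryTheory.Limits AlgebraicGeometry Opposite
universe u
open ProEtS

namespace Groth.Agent.S0729

section helpers


set_option backward.isDefEq.respectTransparency.types false in
noncomputable instance preservesFiniteLimits_eps (X : Scheme.{u}) :
    PreservesFiniteLimits (eps X) := by
  have h : PreservesFiniteLimits (eps X ⋙ Scheme.ProEt.forget X) := by
    show PreservesFiniteLimits (Scheme.Etale.forget X)
    infer_instance
  exact preservesFiniteLimits_of_reflects_of_preserves (eps X) (Scheme.ProEt.forget X)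

set_option backward.isDefEq.respectTransparency.types false in
theorem coverPreserving_eps (X : Scheme.{u}) :
    CoverPreserving X.smallEtaleTopology (Scheme.ProEt.topology X) (eps X) := by
  constructor
  intro U S hS
  have eX : X.smallEtaleTopology =
      (X.smallPretopology (P := EtCoh.etaleMP) (Q := EtCoh.etaleMP)).toGrothendieck :=
    Scheme.smallGrothendieckTopology_eq_toGrothendieck_smallPretopology X le_rfl
  rw [eX] at hS
  replace hS := (Scheme.mem_toGrothendieck_smallPretopology U S).1 hS
  choose V g y hg hP hy using hS
  let R : Presieve ((eps X).obj U) :=
    Presieve.ofArrows (fun x : U.left => (eps X).obj (V x)) (fun x => (eps X).map (g x))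
  have hR : R ∈ Scheme.ProEt.precoverage X ((eps X).obj U) := by
    show R.map (Scheme.ProEt.forget X ⋙ Over.forget X) ∈ Scheme.proetalePrecoverage _
    rw [Presieve.map_ofArrows]
    apply Scheme.etalePrecoverage_le_proetalePrecoverage
    show Presieve.ofArrows (fun x : U.left => (V x).left) (fun x => (g x).left) ∈
      Scheme.precoverage @Etale U.left
    rw [Scheme.ofArrows_mem_precoverage_iff]
    exact ⟨fun x => ⟨x, y x, hy x⟩, hP⟩
  refine GrothendieckTopology.superset_covering _ ?_ (Precoverage.generate_mem_toGrothendieck hR)
  rw [Sieve.generate_le_iff]
  rintro _ _ ⟨x⟩
  exact Sieve.image_mem_functorPushforward _ _ (hg x)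


end helpers

/-- Every étale covering of a scheme X is a pro-étale covering, in the form used to define the
comparison morphism of sites ε : X_proét → X_ét: the inclusion functor from the small étale site of
X to the small pro-étale site of X is continuous. -/
theorem result (X : Scheme.{u}) : ProEtS.EpsCont X := by
  have : RepresentablyFlat (eps X) := flat_of_preservesFiniteLimits _
  exact Functor.isContinuous_of_coverPreserving (compatiblePreservingOfFlat _ _)
    (coverPreserving_eps X)

end Groth.Agent.S0729
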