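import Groth.Statements.S0733
import Mathlib
-- import your own Groth.Agent.* helpers here

set_option autoImplicit false
open CategoryTheory CategoryTheory.Limits AlgebraicGeometry Opposite Topology
universe u
open scoped TensorProduct
open ProEtW

namespace Groth.Agent.S0733

section helpers


/-- pushout of `A → B` along `A → A'` in `Under`, as the tensor product. -/
noncomputable def key (A B A' : Type u) [CommRing A] [CommRing B] [CommRing A']
    [Algebra A B] [Algebra A A'] :
    (Under.pushout (CommRingCat.ofHom (algebraMap A A'))).obj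
        (Under.mk (CommRingCat.ofHom (algebraMap A B))) ≅
      Under.mk (CommRingCat.ofHom (algebraMap A' (A' ⊗[A] B))) := by
  refine Under.isoMk ?_ ?_
  · exact (colimit.isoColimitCocone ⟨_, CommRingCat.pushoutCoconeIsColimit A B A'⟩) ≪≫
      (Algebra.TensorProduct.comm A B A').toRingEquiv.toCommRingCatIso
  · dsimp
    rw [← Category.assoc]
    erw [colimit.isoColimitCocone_ι_hom]
    ext x
    simp [CommRingCat.pushoutCocone_inr]

lemma etale_of_iso {A' : Type u} [CommRing A'] (P Q : Under (CommRingCat.of A')) (e : P ≅ Q)
    (h : letI := Q.hom.hom.toAlgebra; Algebra.Etale A' Q.right) :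
    letI := P.hom.hom.toAlgebra; Algebra.Etale A' P.right := by
  let _ := P.hom.hom.toAlgebra
  let _ := Q.hom.hom.toAlgebra
  let φ : Q.right ≃ₐ[A'] P.right :=
    { (Under.forget _ |>.mapIso e).symm.commRingCatIsoToRingEquiv with
      commutes' := fun r => by
        have := Under.w e.inv
        exact congr($(this).hom r) }
  exact Algebra.Etale.of_equiv φ


end helpers

/-- If A -> B is ind-etale (a filtered colimit of etale A-algebras) and A -> A' is any ring map, then A'
-> A' (x)_A B is ind-etale. -/
theorem result (A B A' : Type u) [CommRing A] [CommRing B] [CommRing A']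
    [Algebra A B] [Algebra A A'] (h : EtPBC.IsIndEtale A B) :
    EtPBC.IsIndEtale A' (A' ⊗[A] B) := by
  obtain ⟨J, _, _, D, c, hc, hD, ⟨e⟩⟩ := h
  let g : CommRingCat.of A ⟶ CommRingCat.of A' := CommRingCat.ofHom (algebraMap A A')
  refine ⟨J, inferInstance, inferInstance, D ⋙ Under.pushout g, (Under.pushout g).mapCocone c,
    isColimitOfPreserves _ hc, ?_, ?_⟩
  · intro j
    have hj := hD j
    let _ := (D.obj j).hom.hom.toAlgebra
    have e1 : (D ⋙ Under.pushout g).obj j ≅
        Under.mk (CommRingCat.ofHom (algebraMap A' (A' ⊗[A] (D.obj j).right))) :=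
      key A (D.obj j).right A'
    refine etale_of_iso _ _ e1 ?_
    have hE : Algebra.Etale A' (A' ⊗[A] (D.obj j).right) := inferInstance
    have heq : (algebraMap A' (A' ⊗[A] (D.obj j).right)).toAlgebra =
        Algebra.TensorProduct.leftAlgebra := Algebra.algebra_ext _ _ (fun r => rfl)
    show @Algebra.Etale A' (A' ⊗[A] (D.obj j).right) _ _ (algebraMap A' _).toAlgebra
    rw [heq]; exact hE
  · exact ⟨(Under.pushout g).mapIso e ≪≫ key A B A'⟩

end Groth.Agent.S0733
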