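import Groth.Statements.S0738
import Mathlib
-- import your own Groth.Agent.* helpers here

set_option autoImplicit false
open Topology
universe u
open ProEtW

namespace Groth.Agent.S0738

section helpers

open Topology TopologicalSpace

theorem quasiSeparatedSpace_of_isClosedEmbedding {X Y : Type*} [TopologicalSpace X]
    [TopologicalSpace Y] [QuasiSeparatedSpace Y] [PrespectralSpace Y] (f : X → Y)
    (hf : IsClosedEmbedding f) : QuasiSeparatedSpace X := by
  have hb : IsTopologicalBasis (Set.image (Set.preimage f) { U : Set Y | IsOpen U ∧ IsCompact U }) :=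
    PrespectralSpace.isTopologicalBasis.isInducing hf.isInducing
  let ι := { U : Set Y // IsOpen U ∧ IsCompact U }
  let b : ι → Set X := fun U => f ⁻¹' U.1
  have hrange : Set.range b = Set.image (Set.preimage f) { U : Set Y | IsOpen U ∧ IsCompact U } := by
    ext s
    constructor
    · rintro ⟨U, rfl⟩
      exact ⟨U.1, U.2, rfl⟩
    · rintro ⟨U, hU, rfl⟩
      exact ⟨⟨U, hU⟩, rfl⟩
  refine QuasiSeparatedSpace.of_isTopologicalBasis (b := b) (hrange ▸ hb) ?_
  intro U V
  have : b U ∩ b V = f ⁻¹' (U.1 ∩ V.1) := rfl
  rw [this]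
  apply hf.isCompact_preimage
  exact QuasiSeparatedSpace.inter_isCompact _ _ U.2.1 U.2.2 V.2.1 V.2.2

theorem spectralSpace_of_isClosedEmbedding {X Y : Type*} [TopologicalSpace X]
    [TopologicalSpace Y] [SpectralSpace Y] (f : X → Y)
    (hf : IsClosedEmbedding f) : SpectralSpace X where
  __ := hf.quasiSober
  __ := PrespectralSpace.of_isClosedEmbedding f hf
  __ := quasiSeparatedSpace_of_isClosedEmbedding f hf
  __ := hf.isEmbedding.t0Space
  __ := hf.compactSpace




theorem isClosed_singleton_subtype_iff {X : Type u} [TopologicalSpace X] (Y : Set X) (hY : IsClosed Y)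
    (y : Y) : IsClosed ({y} : Set Y) ↔ IsClosed ({(y : X)} : Set X) := by
  have hce : IsClosedEmbedding (Subtype.val : Y → X) := hY.isClosedEmbedding_subtypeVal
  constructor
  · intro h
    have := hce.isClosedMap _ h
    simpa using this
  · intro h
    have := h.preimage (continuous_subtype_val (p := fun x => x ∈ Y))
    convert this using 1
    ext z
    simp [Subtype.ext_iff]


end helpers

/-- A closed subset of a w-local spectral space is w-local (with the subspace topology). -/
theorem result (X : Type u) [TopologicalSpace X] (hX : ProEtW.IsWLocal X)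
    (Y : Set X) (hY : IsClosed Y) : ProEtW.IsWLocal ↥Y := by
  obtain ⟨hspec, hcl, huniq⟩ := hX
  have hce : IsClosedEmbedding (Subtype.val : Y → X) := hY.isClosedEmbedding_subtypeVal
  refine ⟨spectralSpace_of_isClosedEmbedding _ hce, ?_, ?_⟩
  · have : {y : Y | IsClosed ({y} : Set Y)} = Subtype.val ⁻¹' {x : X | IsClosed ({x} : Set X)} := by
      ext y
      exact isClosed_singleton_subtype_iff Y hY y
    rw [this]
    exact hcl.preimage continuous_subtype_val
  · intro y
    obtain ⟨c, ⟨hc1, hc2⟩, hc3⟩ := huniq (y : X)
    have hcY : c ∈ Y := by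
      have : c ∈ closure ({(y : X)} : Set X) := hc2.mem_closure
      exact (closure_minimal (Set.singleton_subset_iff.2 y.2) hY) this
    refine ⟨⟨c, hcY⟩, ⟨?_, ?_⟩, ?_⟩
    · exact (isClosed_singleton_subtype_iff Y hY ⟨c, hcY⟩).2 hc1
    · exact (hce.isInducing.specializes_iff).1 hc2
    · rintro c' ⟨h1, h2⟩
      have := hc3 (c' : X) ⟨(isClosed_singleton_subtype_iff Y hY c').1 h1,
        (hce.isInducing.specializes_iff).2 h2⟩
      exact Subtype.ext this

end Groth.Agent.S0738
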