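import Groth.Statements.S0743
import Mathlib

set_option autoImplicit false
open CategoryTheory CategoryTheory.Limits AlgebraicGeometry Opposite
universe u
open ProEtS

namespace Groth.Agent.S0743

/-- For an etale morphism j : U -> X and an abelian sheaf G on U_et, eps^{-1} (j_! G) and j_! (eps^{-1}
G) are isomorphic as abelian sheaves on X_proet (existence of an isomorphism; continuity binders
assumed). -/
theorem result {U X : Scheme.{u}} (j : U ⟶ X) [Etale j] [EtShriek.JCont j]
    [ProEtS.JPCont j] [ProEtS.EpsCont U] [ProEtS.EpsCont X] (G : EtCoh.Ab U) :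
    Nonempty ((ProEtS.epsPull X).obj ((EtShriek.extZero j).obj G) ≅
      (ProEtS.extZeroP j).obj ((ProEtS.epsPull U).obj G)) := by
  haveI hW : WeaklyEtale j := inferInstance
  let e : EtShriek.compEtale j ⋙ ProEtS.eps X ≅ ProEtS.eps U ⋙ ProEtS.compP j := Iso.refl _
  haveI h1 : (EtShriek.compEtale j ⋙ ProEtS.eps X).IsContinuous U.smallEtaleTopology
      (Scheme.ProEt.topology X) :=
    Functor.isContinuous_comp (EtShriek.compEtale j) (ProEtS.eps X) U.smallEtaleTopology
      X.smallEtaleTopology (Scheme.ProEt.topology X)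
  haveI h2 : (ProEtS.eps U ⋙ ProEtS.compP j).IsContinuous U.smallEtaleTopology
      (Scheme.ProEt.topology X) :=
    Functor.isContinuous_comp (ProEtS.eps U) (ProEtS.compP j) U.smallEtaleTopology
      (Scheme.ProEt.topology U) (Scheme.ProEt.topology X)
  let r : ProEtS.epsPush X ⋙ EtShriek.restrAlong j ≅ ProEtS.restrP j ⋙ ProEtS.epsPush U :=
    Functor.sheafPushforwardContinuousComp' (F := EtShriek.compEtale j) (G := ProEtS.eps X)
      (FG := ProEtS.eps U ⋙ ProEtS.compP j) e AddCommGrpCat.{u + 1}
      U.smallEtaleTopology X.smallEtaleTopology (Scheme.ProEt.topology X) ≪≫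
    (Functor.sheafPushforwardContinuousComp (ProEtS.eps U) (ProEtS.compP j)
      AddCommGrpCat.{u + 1} U.smallEtaleTopology (Scheme.ProEt.topology U)
      (Scheme.ProEt.topology X)).symm
  let n : EtShriek.extZero j ⋙ ProEtS.epsPull X ≅ ProEtS.epsPull U ⋙ ProEtS.extZeroP j :=
    (((EtShriek.extZeroAdj j).comp (ProEtS.epsAdj X)).ofNatIsoRight r).leftAdjointUniq
      ((ProEtS.epsAdj U).comp (ProEtS.extZeroPAdj j))
  exact ⟨n.app G⟩

end Groth.Agent.S0743
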