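import Groth.Statements.S0781
import Mathlib
-- import your own Groth.Agent.* helpers here

set_option autoImplicit false
open CategoryTheory CategoryTheory.Limits AlgebraicGeometry Opposite
universe u
open Desc

namespace Groth.Agent.S0781

/-- Two morphisms into a scheme étale over `S` which agree after precomposition with a surjective
morphism are equal. -/
theorem eq_of_surjective_comp_eq {T U₁ U₂ S : Scheme.{u}} (t : T ⟶ U₁) [Surjective t]
    (f₁ : U₁ ⟶ S) (f₂ : U₂ ⟶ S) [Etale f₂] (g g' : U₁ ⟶ U₂) (hg : g ≫ f₂ = f₁) (hg' : g' ≫ f₂ = f₁)
    (h : t ≫ g = t ≫ g') : g = g' := by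
  let l : U₁ ⟶ pullback f₂ f₂ := pullback.lift g g' (by rw [hg, hg'])
  let e : pullback l (pullback.diagonal f₂) ⟶ U₁ := pullback.fst _ _
  have he : IsOpenImmersion e := inferInstance
  have hcond : e ≫ l = pullback.snd l (pullback.diagonal f₂) ≫ pullback.diagonal f₂ :=
    pullback.condition
  have hl1 : l ≫ pullback.fst f₂ f₂ = g := pullback.lift_fst _ _ _
  have hl2 : l ≫ pullback.snd f₂ f₂ = g' := pullback.lift_snd _ _ _
  have h1 : e ≫ g = pullback.snd l (pullback.diagonal f₂) := by
    have := congrArg (fun m => m ≫ pullback.fst f₂ f₂) hcond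
    simp only [Category.assoc, hl1, pullback.diagonal_fst, Category.comp_id] at this
    exact this
  have h2 : e ≫ g' = pullback.snd l (pullback.diagonal f₂) := by
    have := congrArg (fun m => m ≫ pullback.snd f₂ f₂) hcond
    simp only [Category.assoc, hl2, pullback.diagonal_snd, Category.comp_id] at this
    exact this
  -- `t` factors through `e`
  let s : T ⟶ pullback l (pullback.diagonal f₂) :=
    pullback.lift t (t ≫ g) (by
      apply pullback.hom_ext
      · simp only [Category.assoc, hl1, pullback.diagonal_fst, Category.comp_id]
      · simp only [Category.assoc, hl2, pullback.diagonal_snd, Category.comp_id, h])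
  have hs : s ≫ e = t := pullback.lift_fst _ _ _
  have hsurj : Surjective e := by
    have : Surjective (s ≫ e) := by rw [hs]; infer_instance
    exact Surjective.of_comp s e
  have hiso : IsIso e := by
    rw [isIso_iff_isOpenImmersion_and_epi_base]
    refine ⟨he, ?_⟩
    rw [TopCat.epi_iff_surjective]
    exact e.surjective
  rw [← cancel_epi e, h1, h2]


/-- If p : X → S is a surjective morphism of schemes, then for schemes U₁, U₂ étale over S, two
S-morphisms U₁ → U₂ whose base changes to X agree, as morphisms of canonical descent data relative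
to p, are equal; that is, the canonical-descent-datum functor is faithful on schemes étale over S.
(Descent data are taken in functor-of-points form, equivalent by the Yoneda lemma to an isomorphism
over X ×_S X satisfying the cocycle condition.) -/
theorem result {X S : Scheme.{u}} (p : X ⟶ S) [Surjective p] (U₁ U₂ : Over S)
    [Etale U₁.hom] [Etale U₂.hom] : Function.Injective ((Desc.toDD p).map : (U₁ ⟶ U₂) → _) := by
  intro g g' h
  have h1 : ((Desc.toDD p).map g).hom.left = ((Desc.toDD p).map g').hom.left := by rw [h]
  have h2 : pullback.map p U₁.hom p U₂.hom (𝟙 X) g.left (𝟙 S) (by simp) (by simp) =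
      pullback.map p U₁.hom p U₂.hom (𝟙 X) g'.left (𝟙 S) (by simp) (by simp) := h1
  have h3 : pullback.snd p U₁.hom ≫ g.left = pullback.snd p U₁.hom ≫ g'.left := by
    have := congrArg (fun m => m ≫ pullback.snd p U₂.hom) h2
    simp only [pullback.map] at this
    rw [pullback.lift_snd, pullback.lift_snd] at this
    exact this
  ext
  exact eq_of_surjective_comp_eq (pullback.snd p U₁.hom) U₁.hom U₂.hom g.left g'.left
    (Over.w g) (Over.w g') h3

end Groth.Agent.S0781
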