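import Groth.Statements.S0784
import Groth.Agent.Lib.helper3.PairFinPart2

set_option autoImplicit false
open CategoryTheory CategoryTheory.Limits AlgebraicGeometry Opposite
universe u
open Desc

namespace Groth.Agent.S0784

theorem locallyQuasiFinite_of_etale {X Y : Scheme.{u}} (f : X ⟶ Y) [Etale f] :
    LocallyQuasiFinite f := by
  rw [HasRingHomProperty.iff_appLE (P := @LocallyQuasiFinite)]
  intro U V e
  have h : (f.appLE U.1 V.1 e).hom.Etale := Etale.etale_appLE f U.2 V.2 e
  algebraize [(f.appLE U.1 V.1 e).hom]
  change Algebra.QuasiFinite _ _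
  infer_instance

/-- Let (A, I) be a henselian pair and g : U ⟶ Spec A quasi-compact, separated and etale such that the
base change of U to Spec(A/I) is finite over Spec(A/I). Then U is the disjoint union of an open and
closed subscheme finite over Spec A and an open and closed subscheme with no points lying over V(I). -/
theorem result (A : Type u) [CommRing A] (I : Ideal A) [HenselianRing A I]
    {U : Scheme.{u}} (g : U ⟶ Spec (CommRingCat.of A)) [QuasiCompact g] [IsSeparated g] [Etale g]
    (hfin : IsFinite (pullback.snd g (Spec.map (CommRingCat.ofHom (Ideal.Quotient.mk I))))) :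
    ∃ W : U.Opens, IsClosed (W : Set U) ∧ IsFinite (W.ι ≫ g) ∧
      ∀ u : U, u ∉ W → ¬ I ≤ (g.base u : PrimeSpectrum A).asIdeal := by
  have hqf : LocallyQuasiFinite g := locallyQuasiFinite_of_etale g
  have hN : IsAffine g.normalization := isAffine_of_isAffineHom g.fromNormalization
  let B : CommRingCat.{u} := Γ(g.normalization, ⊤)
  let φ : CommRingCat.of A ⟶ B := (Scheme.ΓSpecIso (CommRingCat.of A)).inv ≫ g.fromNormalization.appTop
  have hp : g.normalization.isoSpec.hom ≫ Spec.map φ = g.fromNormalization := by
    simp only [φ, Spec.map_comp]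
    rw [← Category.assoc, Scheme.isoSpec_hom_naturality, Category.assoc, Scheme.isoSpec_Spec_hom,
      ← Spec.map_comp, Iso.inv_hom_id, Spec.map_id, Category.comp_id]
  have hφ : φ.hom.IsIntegral := by
    rw [← IsIntegralHom.SpecMap_iff]
    have : Spec.map φ = g.normalization.isoSpec.inv ≫ g.fromNormalization := by
      rw [← hp, Iso.inv_hom_id_assoc]
    rw [this]
    infer_instance
  let j : U ⟶ Spec B := g.toNormalization ≫ g.normalization.isoSpec.hom
  have hj : j ≫ Spec.map φ = g := by
    simp only [j, Category.assoc, hp, Scheme.Hom.toNormalization_fromNormalization]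
  exact Groth.Agent.Lib.helper3.PairFinPart2.main_of_factor A I g B φ hφ j hj hfin

end Groth.Agent.S0784
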