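import Groth.Statements.S0790
import Mathlib
import Groth.Agent.Lib.helper2.ProperOver
-- import your own Groth.Agent.* helpers here

set_option autoImplicit false
universe u
open Coherent

namespace Groth.Agent.S0790

section helpers


end helpers

open CategoryTheory AlgebraicGeometry in
/-- Let X and Y be schemes locally of finite type over S and f : X → Y a proper morphism over S. If Z ⊆
Y is closed and proper over S, its preimage in X is again closed and proper over S. -/
theorem result {X Y S : Scheme.{u}} (p : X ⟶ S) (q : Y ⟶ S)
    [LocallyOfFiniteType p] [LocallyOfFiniteType q] (f : X ⟶ Y) [IsProper f] (w : f ≫ q = p)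
    (Z : Set Y) (hZ : ClSub.IsProperOver q Z) : ClSub.IsProperOver p (⇑f ⁻¹' Z) := by
  obtain ⟨hcl, hp⟩ := hZ
  set ι := (Scheme.IdealSheafData.vanishingIdeal ⟨Z, hcl⟩).subschemeι with hι
  have hr : Set.range ι = Z := by
    rw [hι, Scheme.IdealSheafData.range_subschemeι,
      Scheme.IdealSheafData.coe_support_vanishingIdeal]
    rfl
  have hrange : Set.range (Limits.pullback.fst f ι) = f ⁻¹' Z := by
    rw [Scheme.Pullback.range_fst, hr]
  have hprop : IsProper (Limits.pullback.fst f ι ≫ p) := by
    rw [← w, ← Category.assoc, Limits.pullback.condition, Category.assoc]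
    infer_instance
  rw [← hrange]
  exact (Groth.Agent.Lib.helper2.ProperOver.isProperOver_range_iff p (Limits.pullback.fst f ι)).2 hprop

end Groth.Agent.S0790
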