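import Groth.Statements.S0796
import Groth.Agent.Lib.helper2.ProperOver
import Groth.Agent.Lib.helper9.StalkExact
import Groth.Agent.S0020

set_option autoImplicit false
universe u
open Coherent

namespace Groth.Agent.S0796

open CategoryTheory CategoryTheory.Limits AlgebraicGeometry in
lemma isProperOver_of_subset {X S : Scheme.{u}} (f : X ⟶ S) {Z Z₁ : Set X}
    (hZ : ClSub.IsProperOver f Z) (hZ₁ : IsClosed Z₁) (hsub : Z₁ ⊆ Z) :
    ClSub.IsProperOver f Z₁ := by
  obtain ⟨hcl, hp⟩ := hZ
  refine ⟨hZ₁, ?_⟩
  have hle : Scheme.IdealSheafData.vanishingIdeal ⟨Z, hcl⟩ ≤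
      Scheme.IdealSheafData.vanishingIdeal ⟨Z₁, hZ₁⟩ :=
    Scheme.IdealSheafData.vanishingIdeal_antimono hsub
  have e : (Scheme.IdealSheafData.vanishingIdeal ⟨Z₁, hZ₁⟩).subschemeι ≫ f =
      Scheme.IdealSheafData.inclusion hle ≫
        ((Scheme.IdealSheafData.vanishingIdeal ⟨Z, hcl⟩).subschemeι ≫ f) := by
    rw [Scheme.IdealSheafData.inclusion_subschemeι_assoc]
  rw [e]
  haveI := hp
  haveI hci : IsClosedImmersion (Scheme.IdealSheafData.inclusion hle) := by
    have : IsClosedImmersion (Scheme.IdealSheafData.inclusion hle ≫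
        (Scheme.IdealSheafData.vanishingIdeal ⟨Z, hcl⟩).subschemeι) := by
      rw [Scheme.IdealSheafData.inclusion_subschemeι]; infer_instance
    exact IsClosedImmersion.of_comp (Scheme.IdealSheafData.inclusion hle)
      (Scheme.IdealSheafData.vanishingIdeal ⟨Z, hcl⟩).subschemeι
  infer_instance

open CategoryTheory CategoryTheory.Limits AlgebraicGeometry
  Groth.Agent.Lib.helper9.StalkExact in
lemma support_eq_union {X : Scheme.{u}} (E : ShortComplex X.Modules) (hE : E.ShortExact) :
    CohB1.support E.X₂ = CohB1.support E.X₁ ∪ CohB1.support E.X₃ := by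
  haveI := hE.mono_f
  haveI := hE.epi_g
  ext x
  constructor
  · intro hx
    by_contra hcon
    rw [Set.mem_union, not_or] at hcon
    obtain ⟨h1, h3⟩ := hcon
    haveI s1 : Subsingleton (E.X₁.presheaf.stalk x) := not_not.mp h1
    haveI s3 : Subsingleton (E.X₃.presheaf.stalk x) := not_not.mp h3
    apply hx
    have hz : ∀ m : E.X₂.presheaf.stalk x, m = 0 := by
      intro m
      have hgm : stalkLin E.g x m = 0 := Subsingleton.elim _ _
      obtain ⟨n, hn⟩ := (stalkLin_exact E hE.exact x m).mp hgm
      rw [← hn, Subsingleton.elim n 0, map_zero]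
    exact ⟨fun a b => (hz a).trans (hz b).symm⟩
  · rintro (hx | hx) hsub
    · haveI := hsub
      exact hx ((stalkLin_injective_of_mono E.f x).subsingleton)
    · haveI := hsub
      exact hx ((stalkLin_surjective_of_epi E.g x).subsingleton)

open CategoryTheory CategoryTheory.Limits AlgebraicGeometry in
lemma main {X S : Scheme.{u}} (f : X ⟶ S) [LocallyOfFiniteType f]
    (E : ShortComplex X.Modules) (hE : E.ShortExact)
    (h₁ : Coh.IsCoh E.X₁) (h₃ : Coh.IsCoh E.X₃) :
    ClSub.IsProperOver f (CohB1.support E.X₂) ↔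
      ClSub.IsProperOver f (CohB1.support E.X₁) ∧ ClSub.IsProperOver f (CohB1.support E.X₃) := by
  have hsupp := support_eq_union E hE
  have c1 : IsClosed (CohB1.support E.X₁) := Groth.Agent.S0020.result X E.X₁ h₁.2
  have c3 : IsClosed (CohB1.support E.X₃) := Groth.Agent.S0020.result X E.X₃ h₃.2
  constructor
  · intro h
    exact ⟨isProperOver_of_subset f h c1 (by rw [hsupp]; exact Set.subset_union_left),
      isProperOver_of_subset f h c3 (by rw [hsupp]; exact Set.subset_union_right)⟩
  · rintro ⟨p1, p3⟩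
    rw [hsupp, Set.union_eq_iUnion]
    apply Groth.Agent.Lib.helper2.ProperOver.isProperOver_iUnion f
    intro b
    cases b
    · exact p3
    · exact p1


open CategoryTheory AlgebraicGeometry in
/-- Part (2), through the usual criterion for Serre subcategories. Let S be locally Noetherian and f : X
→ S locally of finite type. For a short exact sequence 0 → F₁ → F₂ → F₃ → 0 of coherent O_X-modules,
the support of F₂ is proper over S if and only if the supports of F₁ and F₃ are. -/
theorem result {X S : Scheme.{u}} (f : X ⟶ S) [LocallyOfFiniteType f]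
    [IsLocallyNoetherian S] (E : ShortComplex X.Modules) (hE : E.ShortExact)
    (h₁ : Coh.IsCoh E.X₁) (h₂ : Coh.IsCoh E.X₂) (h₃ : Coh.IsCoh E.X₃) :
    ClSub.IsProperOver f (CohB1.support E.X₂) ↔
      ClSub.IsProperOver f (CohB1.support E.X₁) ∧ ClSub.IsProperOver f (CohB1.support E.X₃) := by
  exact main f E hE h₁ h₃

end Groth.Agent.S0796
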