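import Groth.Statements.S0797
import Mathlib

set_option autoImplicit false
universe u
open Formal2

namespace Groth.Agent.S0797

section helpers




section
variable {A : Type u} [CommRing A] (M : ℕ → Type u) [∀ n, AddCommGroup (M n)] [∀ n, Module A (M n)]
  (f : ∀ n, M (n + 1) →ₗ[A] M n)

/-- images of `m : M n` in lower levels (junk `0` above). -/
noncomputable def lower : ∀ n, M n → ∀ k, M k
  | 0, m => fun k => if h : k = 0 then h ▸ m else 0
  | (n + 1), m => fun k => if h : k = n + 1 then h ▸ m else lower n (f n m) k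

theorem lower_self : ∀ n (m : M n), lower M f n m n = m
  | 0, m => by simp [lower]
  | (n + 1), m => by simp [lower]

theorem lower_compat : ∀ n (m : M n) k, k < n → f k (lower M f n m (k + 1)) = lower M f n m k
  | 0, m, k, h => by omega
  | (n + 1), m, k, h => by
    by_cases hk : k = n
    · subst hk
      have h1 : lower M f (k + 1) m (k + 1) = m := lower_self M f (k + 1) m
      have h2 : lower M f (k + 1) m k = lower M f k (f k m) k := by
        simp [lower]
      rw [h1, h2, lower_self]
    · have h1 : lower M f (n + 1) m (k + 1) = lower M f n (f n m) (k + 1) := by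
        have : k + 1 ≠ n + 1 := by omega
        rw [lower]
        exact dif_neg this
      have h2 : lower M f (n + 1) m k = lower M f n (f n m) k := by
        have : k ≠ n + 1 := by omega
        rw [lower]
        exact dif_neg this
      rw [h1, h2]
      exact lower_compat n (f n m) k (by omega)

theorem exists_lift (hf : ∀ n, Function.Surjective (f n)) (n : ℕ) (m : M n) :
    ∃ x : ∀ k, M k, (∀ k, f k (x (k + 1)) = x k) ∧ x n = m := by
  let x : ∀ k, M k := fun k => Nat.rec (motive := fun k => M k) (lower M f n m 0)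
    (fun k xk => if k + 1 ≤ n then lower M f n m (k + 1) else (hf k xk).choose) k
  have hx0 : x 0 = lower M f n m 0 := rfl
  have hxs : ∀ k, x (k + 1) = if k + 1 ≤ n then lower M f n m (k + 1) else (hf k (x k)).choose :=
    fun k => rfl
  have hle : ∀ k, k ≤ n → x k = lower M f n m k := by
    intro k hk
    cases k with
    | zero => exact hx0
    | succ k => rw [hxs, if_pos hk]
  refine ⟨x, fun k => ?_, ?_⟩
  · by_cases hk : k + 1 ≤ n
    · rw [hle (k + 1) hk, hle k (by omega)]
      exact lower_compat M f n m k (by omega)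
    · rw [hxs, if_neg hk]
      exact (hf k (x k)).choose_spec
  · rw [hle n le_rfl, lower_self]

theorem zero_below (x : ∀ k, M k) (hx : ∀ k, f k (x (k + 1)) = x k) (m n : ℕ) (h : m ≤ n)
    (hn : x n = 0) : x m = 0 := by
  have key : ∀ j, x (m + j) = 0 → x m = 0 := by
    intro j
    induction j with
    | zero => exact fun h => h
    | succ j ih =>
      intro h
      apply ih
      rw [← hx (m + j)]
      have : x (m + j + 1) = 0 := h
      rw [this, map_zero]
  apply key (n - m)
  have : m + (n - m) = n := by omega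
  rw [this]; exact hn

end



section
variable {A : Type u} [CommRing A] (M : ℕ → Type u) [∀ n, AddCommGroup (M n)] [∀ n, Module A (M n)]
  (f : ∀ n, M (n + 1) →ₗ[A] M n)

/-- all levels are generated by the lifts of generators of level 0 -/
theorem span_levels [IsNoetherianRing A] (I : Ideal A) [IsAdicComplete I A]
    [∀ n, Module.Finite A (M n)]
    (hker : ∀ n, LinearMap.ker (f n) = I ^ (n + 1) • (⊤ : Submodule A (M (n + 1))))
    {t : ℕ} (X : Fin t → ∀ k, M k) (hX : ∀ i k, f k (X i (k + 1)) = X i k)
    (h0 : Submodule.span A (Set.range fun i => X i 0) = ⊤) :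
    ∀ n, Submodule.span A (Set.range fun i => X i n) = ⊤ := by
  intro n
  induction n with
  | zero => exact h0
  | succ n ih =>
    rw [eq_top_iff]
    refine Submodule.le_of_le_smul_of_le_jacobson_bot (I := I)
      (Module.finite_def.mp inferInstance) (IsAdicComplete.le_jacobson_bot I) ?_
    intro y _
    have hy : f n y ∈ Submodule.span A (Set.range fun i => X i n) := by rw [ih]; trivial
    rw [Submodule.mem_span_range_iff_exists_fun] at hy
    obtain ⟨c, hc⟩ := hy
    have h1 : y - ∑ i, c i • X i (n + 1) ∈ LinearMap.ker (f n) := by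
      rw [LinearMap.mem_ker, map_sub, map_sum, ← hc, sub_eq_zero]
      refine Finset.sum_congr rfl fun i _ => ?_
      rw [map_smul, hX]
    rw [hker] at h1
    have h2 : I ^ (n + 1) • (⊤ : Submodule A (M (n + 1))) ≤ I • ⊤ :=
      Submodule.smul_mono (Ideal.pow_le_self (by omega)) le_rfl
    have h3 : y = ∑ i, c i • X i (n + 1) + (y - ∑ i, c i • X i (n + 1)) := by abel
    rw [h3]
    refine Submodule.add_mem_sup ?_ (h2 h1)
    exact Submodule.sum_mem _ fun i _ =>
      Submodule.smul_mem _ _ (Submodule.subset_span ⟨i, rfl⟩)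

/-- refinement step -/
theorem refine_step (I : Ideal A)
    (hker : ∀ n, LinearMap.ker (f n) = I ^ (n + 1) • (⊤ : Submodule A (M (n + 1))))
    {t : ℕ} (X : Fin t → ∀ k, M k)
    (hspan : ∀ n, Submodule.span A (Set.range fun i => X i n) = ⊤)
    (z : ∀ k, M k) (hz : ∀ k, f k (z (k + 1)) = z k) (n : ℕ) (hn : z n = 0) :
    ∃ b : Fin t → A, (∀ i, b i ∈ I ^ (n + 1)) ∧ z (n + 1) = ∑ i, b i • X i (n + 1) := by
  have h1 : z (n + 1) ∈ LinearMap.ker (f n) := by
    rw [LinearMap.mem_ker, hz, hn]
  rw [hker, ← hspan (n + 1), Submodule.mem_ideal_smul_span_iff_exists_sum] at h1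
  obtain ⟨c, hc, hsum⟩ := h1
  refine ⟨c, hc, ?_⟩
  rw [← hsum, Finsupp.sum_fintype]
  intro i; exact zero_smul _ _

end



section
variable {A : Type u} [CommRing A] (M : ℕ → Type u) [∀ n, AddCommGroup (M n)] [∀ n, Module A (M n)]
  (f : ∀ n, M (n + 1) →ₗ[A] M n)

theorem compat_comb {t : ℕ} (X : Fin t → ∀ k, M k) (hX : ∀ i k, f k (X i (k + 1)) = X i k)
    (x : ∀ k, M k) (hx : ∀ k, f k (x (k + 1)) = x k) (s : Fin t → A) (k : ℕ) :
    f k ((x - ∑ i, s i • X i) (k + 1)) = (x - ∑ i, s i • X i) k := by
  simp only [Pi.sub_apply, Finset.sum_apply, Pi.smul_apply, map_sub, map_sum, map_smul, hx, hX]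

theorem approx (I : Ideal A) [IsAdicComplete I A]
    (hk : ∀ n, I ^ (n + 1) • (⊤ : Submodule A (M n)) = ⊥)
    (hker : ∀ n, LinearMap.ker (f n) = I ^ (n + 1) • (⊤ : Submodule A (M (n + 1))))
    {t : ℕ} (X : Fin t → ∀ k, M k) (hX : ∀ i k, f k (X i (k + 1)) = X i k)
    (hspan : ∀ n, Submodule.span A (Set.range fun i => X i n) = ⊤)
    (x : ∀ k, M k) (hx : ∀ k, f k (x (k + 1)) = x k) (n : ℕ) (hn : x n = 0) :
    ∃ a : Fin t → A, (∀ i, a i ∈ I ^ (n + 1)) ∧ x = ∑ i, a i • X i := by
  have hpow : ∀ {i j : ℕ}, i ≤ j → I ^ j ≤ I ^ i := fun h => Ideal.pow_le_pow_right h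
  have hkill : ∀ (j : ℕ) (r : A) (m : M j), r ∈ I ^ (j + 1) → r • m = 0 := by
    intro j r m hr
    have : r • m ∈ I ^ (j + 1) • (⊤ : Submodule A (M j)) :=
      Submodule.smul_mem_smul hr trivial
    rw [hk] at this
    exact (Submodule.mem_bot A).mp this
  have step : ∀ (k : ℕ) (s : Fin t → A), (x - ∑ i, s i • X i) (n + k) = 0 →
      ∃ b : Fin t → A, (∀ i, b i ∈ I ^ (n + k + 1)) ∧
        (x - ∑ i, (s + b) i • X i) (n + k + 1) = 0 := by
    intro k s hs
    obtain ⟨b, hb, hz⟩ := refine_step M f I hker X hspan (x - ∑ i, s i • X i)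
      (compat_comb M f X hX x hx s) (n + k) hs
    refine ⟨b, hb, ?_⟩
    have e : (x - ∑ i, (s + b) i • X i) (n + k + 1) =
        (x - ∑ i, s i • X i) (n + k + 1) - ∑ i, b i • X i (n + k + 1) := by
      simp only [Pi.sub_apply, Finset.sum_apply, Pi.smul_apply, Pi.add_apply, add_smul,
        Finset.sum_add_distrib]
      abel
    rw [e, hz, sub_self]
  let S : ℕ → Type u := fun k =>
    {s : Fin t → A // (∀ i, s i ∈ I ^ (n + 1)) ∧ (x - ∑ i, s i • X i) (n + k) = 0}
  let s0 : S 0 := ⟨0, fun i => Ideal.zero_mem _, by simpa using hn⟩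
  let next : ∀ k, S k → S (k + 1) := fun k s =>
    ⟨s.1 + (step k s.1 s.2.2).choose,
      fun i => Ideal.add_mem _ (s.2.1 i)
        (hpow (by omega) ((step k s.1 s.2.2).choose_spec.1 i)),
      (step k s.1 s.2.2).choose_spec.2⟩
  let seq : ∀ k, S k := fun k => Nat.rec s0 next k
  have hseq0 : (seq 0).1 = 0 := rfl
  have hdiff : ∀ k i, (seq (k + 1)).1 i - (seq k).1 i ∈ I ^ (n + k + 1) := by
    intro k i
    have : (seq (k + 1)).1 i = (seq k).1 i + (step k (seq k).1 (seq k).2.2).choose i := rfl
    rw [this, add_sub_cancel_left]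
    exact (step k (seq k).1 (seq k).2.2).choose_spec.1 i
  have hcauchy : ∀ i k k', k ≤ k' → (seq k').1 i - (seq k).1 i ∈ I ^ (n + k + 1) := by
    intro i k k' hkk
    induction k', hkk using Nat.le_induction with
    | base => simp
    | succ k' hkk ih =>
      have : (seq (k' + 1)).1 i - (seq k).1 i =
          ((seq (k' + 1)).1 i - (seq k').1 i) + ((seq k').1 i - (seq k).1 i) := by ring
      rw [this]
      exact Ideal.add_mem _ (hpow (by omega) (hdiff k' i)) ih
  have hlim : ∀ i, ∃ a : A, ∀ m, (seq m).1 i - a ∈ I ^ m := by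
    intro i
    obtain ⟨a, ha⟩ := IsPrecomplete.prec (I := I) (M := A) inferInstance
      (f := fun m => (seq m).1 i) (by
        intro m m' hmm
        rw [SModEq.sub_mem, smul_eq_mul, Ideal.mul_top]
        have := hcauchy i m m' hmm
        have h2 : (seq m).1 i - (seq m').1 i = -((seq m').1 i - (seq m).1 i) := by ring
        rw [h2]
        exact neg_mem (hpow (by omega) this))
    refine ⟨a, fun m => ?_⟩
    have := ha m
    rwa [SModEq.sub_mem, smul_eq_mul, Ideal.mul_top] at this
  choose a ha using hlim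
  have hstrong : ∀ i k, a i - (seq k).1 i ∈ I ^ (n + k + 1) := by
    intro i k
    have h1 := ha i (n + k + 1)
    have h2 := hcauchy i k (n + k + 1) (by omega)
    have : a i - (seq k).1 i =
        -((seq (n + k + 1)).1 i - a i) + ((seq (n + k + 1)).1 i - (seq k).1 i) := by ring
    rw [this]
    exact Ideal.add_mem _ (neg_mem h1) h2
  refine ⟨a, fun i => ?_, ?_⟩
  · have := hstrong i 0
    rw [hseq0] at this
    simpa using this
  · have hy : ∀ j, (x - ∑ i, a i • X i) j = 0 := by
      intro j
      apply zero_below M f _ (compat_comb M f X hX x hx a) j (n + j) (by omega)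
      have e : (x - ∑ i, a i • X i) (n + j) =
          (x - ∑ i, (seq j).1 i • X i) (n + j) - ∑ i, (a i - (seq j).1 i) • X i (n + j) := by
        simp only [Pi.sub_apply, Finset.sum_apply, Pi.smul_apply, sub_smul,
          Finset.sum_sub_distrib]
        abel
      rw [e, (seq j).2.2, zero_sub, neg_eq_zero]
      exact Finset.sum_eq_zero fun i _ => hkill (n + j) _ _ (hstrong i j)
    have : x - ∑ i, a i • X i = 0 := funext hy
    exact sub_eq_zero.mp this

end


end helpers

/-- The module-theoretic heart, over a base that is already complete (so that the completion of A is A).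
Let A be Noetherian and I-adically complete, and let (M_n, f_n : M_{n+1} → M_n) be an inverse system
of finite A-modules with M_n annihilated by I^(n+1) and f_n surjective with kernel I^(n+1) M_{n+1}
(indices shifted by one). Then the A-module of compatible sequences is finitely generated, each
projection to M_n is surjective, and its kernel is I^(n+1) times the module of compatible sequences. -/
theorem result (A : Type u) [CommRing A] [IsNoetherianRing A] (I : Ideal A)
    [IsAdicComplete I A] (M : ℕ → Type u) [∀ n, AddCommGroup (M n)] [∀ n, Module A (M n)]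
    [∀ n, Module.Finite A (M n)] (f : ∀ n, M (n + 1) →ₗ[A] M n) (hf : ∀ n, Function.Surjective (f n))
    (hk : ∀ n, I ^ (n + 1) • (⊤ : Submodule A (M n)) = ⊥)
    (hker : ∀ n, LinearMap.ker (f n) = I ^ (n + 1) • (⊤ : Submodule A (M (n + 1))))
    (L : Submodule A (∀ n, M n)) (hL : ∀ x : ∀ n, M n, x ∈ L ↔ ∀ n, f n (x (n + 1)) = x n) :
    Module.Finite A L ∧ ∀ n, Function.Surjective ((LinearMap.proj n).comp L.subtype : L →ₗ[A] M n) ∧
      LinearMap.ker ((LinearMap.proj n).comp L.subtype : L →ₗ[A] M n) = I ^ (n + 1) • (⊤ : Submodule A L) := by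
  obtain ⟨t, g, hg⟩ := Module.Finite.exists_fin (R := A) (M := M 0)
  choose X hXc hX0 using fun i => exists_lift M f hf 0 (g i)
  have hXL : ∀ i, X i ∈ L := fun i => (hL _).mpr (hXc i)
  have h0 : Submodule.span A (Set.range fun i => X i 0) = ⊤ := by
    have : (fun i => X i 0) = g := funext hX0
    rw [this, hg]
  have hspan := span_levels M f I hker X hXc h0
  have happ := approx M f I hk hker X hXc hspan
  -- every element of L is a combination
  have hcomb : ∀ x : ∀ k, M k, x ∈ L → ∃ a : Fin t → A, x = ∑ i, a i • X i := by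
    intro x hxL
    have hx := (hL x).mp hxL
    have h1 : x 0 ∈ Submodule.span A (Set.range fun i => X i 0) := by rw [h0]; trivial
    rw [Submodule.mem_span_range_iff_exists_fun] at h1
    obtain ⟨c, hc⟩ := h1
    have hyL : x - ∑ i, c i • X i ∈ L :=
      L.sub_mem hxL (L.sum_mem fun i _ => L.smul_mem _ (hXL i))
    have hy0 : (x - ∑ i, c i • X i) 0 = 0 := by
      simp only [Pi.sub_apply, Finset.sum_apply, Pi.smul_apply, hc, sub_self]
    obtain ⟨a, _, ha⟩ := happ _ ((hL _).mp hyL) 0 hy0
    refine ⟨c + a, ?_⟩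
    have : x = ∑ i, c i • X i + ∑ i, a i • X i := by
      rw [← ha]; abel
    rw [this, ← Finset.sum_add_distrib]
    exact Finset.sum_congr rfl fun i _ => by rw [Pi.add_apply, add_smul]
  refine ⟨?_, fun n => ⟨?_, ?_⟩⟩
  · rw [Module.finite_def, Submodule.fg_def]
    refine ⟨Set.range fun i => (⟨X i, hXL i⟩ : L), Set.finite_range _, ?_⟩
    rw [eq_top_iff]
    rintro ⟨x, hxL⟩ _
    obtain ⟨a, ha⟩ := hcomb x hxL
    have : (⟨x, hxL⟩ : L) = ∑ i, a i • (⟨X i, hXL i⟩ : L) := by
      apply Subtype.ext
      simp only [Submodule.coe_sum, Submodule.coe_smul]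
      exact ha
    rw [this]
    exact Submodule.sum_mem _ fun i _ =>
      Submodule.smul_mem _ _ (Submodule.subset_span ⟨i, rfl⟩)
  · intro m
    obtain ⟨x, hx, hxn⟩ := exists_lift M f hf n m
    exact ⟨⟨x, (hL x).mpr hx⟩, hxn⟩
  · apply le_antisymm
    · rintro ⟨x, hxL⟩ hxk
      have hxn : x n = 0 := hxk
      obtain ⟨a, ha1, ha2⟩ := happ x ((hL x).mp hxL) n hxn
      have : (⟨x, hxL⟩ : L) = ∑ i, a i • (⟨X i, hXL i⟩ : L) := by
        apply Subtype.ext
        simp only [Submodule.coe_sum, Submodule.coe_smul]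
        exact ha2
      rw [this]
      exact Submodule.sum_mem _ fun i _ => Submodule.smul_mem_smul (ha1 i) trivial
    · rw [Submodule.smul_le]
      intro r hr y _
      rw [LinearMap.mem_ker]
      change (r • y).1 n = 0
      have h1 : r • (y.1 n) ∈ I ^ (n + 1) • (⊤ : Submodule A (M n)) :=
        Submodule.smul_mem_smul hr trivial
      rw [hk] at h1
      exact (Submodule.mem_bot A).mp h1

end Groth.Agent.S0797
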