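import Groth.Statements.S0800
import Groth.Agent.Lib.helper18.SpecColim4
import Groth.Agent.Lib.helper18.RpushColim


set_option autoImplicit false
universe u
open Coherent

namespace Groth.Agent.S0800

open CategoryTheory CategoryTheory.Limits AlgebraicGeometry in
/-- Let f : X → S be quasi-compact and quasi-separated. Then for every p the higher direct image functor
R^p f_* on abelian sheaves (on the underlying spaces) preserves filtered colimits. -/
theorem result {X S : Scheme.{u}} (f : X ⟶ S) [QuasiCompact f]
    [QuasiSeparated f] (p : ℕ) (J : Type u) [SmallCategory J] [IsFiltered J] :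
    PreservesColimitsOfShape J (Coh.RpushAb f p) := by
  constructor
  intro F
  refine Groth.Agent.H18.RpushColim.main_top f.base F p ?_
  rw [TopologicalSpace.Opens.isBasis_iff_nbhd]
  intro U x hx
  obtain ⟨V, hV, hxV, hVU⟩ := TopologicalSpace.Opens.isBasis_iff_nbhd.mp
    (Scheme.isBasis_affineOpens S) hx
  refine ⟨V, ?_, hxV, hVU⟩
  have hcomp : IsCompact ((f ⁻¹ᵁ V : X.Opens) : Set X) := f.isCompact_preimage hV.isCompact
  have hqs : IsQuasiSeparated ((f ⁻¹ᵁ V : X.Opens) : Set X) :=
    f.isQuasiSeparated_preimage hV.isQuasiSeparated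
  have hQ : Groth.Agent.H18.SpecColim.QC (X := X.carrier) (f ⁻¹ᵁ V) :=
    { basis := fun W y hy _ => by
        obtain ⟨W', hW', hyW', hW'W⟩ := TopologicalSpace.Opens.isBasis_iff_nbhd.mp
          (Scheme.isBasis_affineOpens X) hy
        exact ⟨W', hW'.isCompact, hyW', hW'W⟩
      qs := fun W W' hW hW' hWc hW'c => hqs _ _ hW W.2 hWc hW' W'.2 hW'c }
  have h := Groth.Agent.H18.SpecColim.preservesColimitsOfShape_H (X := X.carrier) (f ⁻¹ᵁ V) hcomp hQ
    J p
  exact h.preservesColimit

end Groth.Agent.S0800
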