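import Groth.Statements.S0825
import Groth.Agent.Lib.helper21.LC26

set_option autoImplicit false
universe u
open scoped BigOperators
open LocCoh

namespace Groth.Agent.S0825

/-- Let A be a Noetherian ring and I the ideal generated by f_1, …, f_r, with cohomological dimension
exactly 1. Then there are c ≥ 1 and A-linear maps φ_j : I^c → A such that x = Σ_j f_j φ_j(x) for
every x ∈ I^c. -/
theorem result (A : Type u) [CommRing A] [IsNoetherianRing A] (r : ℕ) (f : Fin r → A)
    (h₁ : LocCoh.CdLE A (Ideal.span (Set.range f)) 1) (h₀ : ¬ LocCoh.CdLE A (Ideal.span (Set.range f)) 0) :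
    ∃ (c : ℕ) (φ : Fin r → (↥(Ideal.span (Set.range f) ^ (c + 1)) →ₗ[A] A)),
      ∀ x : ↥(Ideal.span (Set.range f) ^ (c + 1)), (x : A) = ∑ j, f j * φ j x := by
  classical
  set I := Ideal.span (Set.range f) with hI
  let π₀ : (Fin r → A) →ₗ[A] A := Fintype.linearCombination A f
  have hπ₀ : LinearMap.range π₀ = I := by
    rw [hI]
    exact Fintype.range_linearCombination A f
  let π : (Fin r → A) →ₗ[A] I := π₀.codRestrict I (fun v => by rw [← hπ₀]; exact ⟨v, rfl⟩)
  have hπ : Function.Surjective π := by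
    rintro ⟨y, hy⟩
    rw [← hπ₀] at hy
    obtain ⟨v, hv⟩ := hy
    exact ⟨v, Subtype.ext hv⟩
  have hT := LinearMap.shortExact_shortComplexKer hπ
  have hK : Subsingleton ((localCohomology I (0 + 1 + 1)).obj π.shortComplexKer.X₁) :=
    h₁ (LinearMap.ker π) 2 (by omega)
  let φ : (Groth.Agent.H21.LC.powSES I 1).X₁ ⟶ π.shortComplexKer.X₃ :=
    ModuleCat.ofHom (Submodule.inclusion (by rw [pow_one] : I ^ 1 ≤ I))
  obtain ⟨m, hm, ψ, hψ⟩ := Groth.Agent.H21.LC.exists_lift_of_subsingleton I hT hK 1 φ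
  obtain ⟨c, rfl⟩ : ∃ c, m = c + 1 := ⟨m - 1, by omega⟩
  refine ⟨c, fun j => (LinearMap.proj j) ∘ₗ ψ.hom, fun x => ?_⟩
  have h1 := congrArg (fun t => (t.hom x : I).1) hψ
  have h2 : π₀ (ψ.hom x) = (x : A) := h1
  rw [← h2]
  show Fintype.linearCombination A f (ψ.hom x) = _
  rw [Fintype.linearCombination_apply]
  refine Finset.sum_congr rfl (fun j _ => ?_)
  rw [smul_eq_mul, mul_comm]
  rfl

end Groth.Agent.S0825
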