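import Groth.Statements.S0828
import Groth.Agent.Lib.helper9.LocFree4

set_option autoImplicit false
universe u
open Coherent

namespace Groth.Agent.S0828

open CategoryTheory AlgebraicGeometry in
set_option backward.isDefEq.respectTransparency false in
lemma main (X : Scheme.{u}) [IsLocallyNoetherian X]
    (hreg : ∀ x : X, IsRegularLocalRing (X.presheaf.stalk x)) (F : X.Modules) (hF : Coh.IsCoh F) :
    (CohB1.support F = Set.univ ∧
        ∀ x : X, LocCoh.IsCohenMacaulayModule (X.presheaf.stalk x) ↑(F.presheaf.stalk x)) ↔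
      ∀ x : X, ∃ (U : X.Opens) (n : ℕ), x ∈ U ∧ 0 < n ∧
        Nonempty (F.restrict U.ι ≅ FlatMod.freeMod (↑U) n) := by
  obtain ⟨hq, hft⟩ := hF
  haveI : F.IsQuasicoherent := hq
  haveI : SheafOfModules.IsFiniteType.{u} F := hft
  haveI hfp : SheafOfModules.IsFinitePresentation.{u} F :=
    Groth.Agent.Lib.helper9.FPLocal.isFinitePresentation_of_isCoh F
  constructor
  · rintro ⟨hsupp, hCM⟩ x
    have hnt : ∀ y : X, Nontrivial (F.presheaf.stalk y) := fun y => by
      have hy : y ∈ CohB1.support F := hsupp ▸ Set.mem_univ y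
      exact not_subsingleton_iff_nontrivial.mp hy
    haveI := hreg x
    haveI := Groth.Agent.Lib.helper9.LocFree.finite_stalk_of_fp F x
    have h1 := Groth.Agent.Lib.helper9.LocFree.supportDim_stalk_eq_ringKrullDim F hnt x
    have h2 : ((LocCoh.depth (X.presheaf.stalk x) (F.presheaf.stalk x) : ℕ∞) : WithBot ℕ∞) =
        ringKrullDim (X.presheaf.stalk x) := (hCM x).symm.trans h1
    have hfree := Groth.Agent.Lib.helper6.AusBuchE.free_of_depth_eq_dim (X.presheaf.stalk x)
      (F.presheaf.stalk x) h2
    obtain ⟨V, n, hxV, ⟨i⟩⟩ :=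
      Groth.Agent.Lib.helper9.LocFree.exists_nhd_restrict_iso_freeMod_of_fp F x hfree
    exact ⟨V, n, hxV,
      (Groth.Agent.Lib.helper9.LocFree.nontrivial_stalk_iff_pos F n i x hxV).mp (hnt x), ⟨i⟩⟩
  · intro h
    constructor
    · ext x
      simp only [Set.mem_univ, iff_true]
      obtain ⟨V, n, hxV, hn, ⟨i⟩⟩ := h x
      have := (Groth.Agent.Lib.helper9.LocFree.nontrivial_stalk_iff_pos F n i x hxV).mpr hn
      exact not_subsingleton_iff_nontrivial.mpr this
    · intro x
      obtain ⟨V, n, hxV, hn, ⟨i⟩⟩ := h x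
      haveI := hreg x
      haveI := Groth.Agent.Lib.helper9.LocFree.free_stalk_of_restrict_iso F n i x hxV
      haveI := Groth.Agent.Lib.helper9.LocFree.finite_stalk_of_fp F x
      haveI := (Groth.Agent.Lib.helper9.LocFree.nontrivial_stalk_iff_pos F n i x hxV).mpr hn
      exact Groth.Agent.Lib.helper9.LocFree.isCohenMacaulayModule_of_flat _ _


open CategoryTheory AlgebraicGeometry in
/-- Let X be a regular scheme (locally Noetherian with regular local rings) and F a coherent O_X-module.
Then F has support all of X and Cohen–Macaulay stalks if and only if F is finite locally free of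
positive rank near every point. -/
theorem result (X : Scheme.{u}) [IsLocallyNoetherian X]
    (hreg : ∀ x : X, IsRegularLocalRing (X.presheaf.stalk x)) (F : X.Modules) (hF : Coh.IsCoh F) :
    (CohB1.support F = Set.univ ∧
        ∀ x : X, LocCoh.IsCohenMacaulayModule (X.presheaf.stalk x) ↑(F.presheaf.stalk x)) ↔
      ∀ x : X, ∃ (U : X.Opens) (n : ℕ), x ∈ U ∧ 0 < n ∧
        Nonempty (F.restrict U.ι ≅ FlatMod.freeMod (↑U) n) := by
  exact main X hreg F hF

end Groth.Agent.S0828
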