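import Groth.Statements.S0866
import Mathlib
import Groth.Agent.Lib.helper23.Godement

set_option autoImplicit false
universe u
open CategoryTheory
open CohTop

namespace Groth.Agent.S0866

/-- The first step of the Godement resolution, for abelian sheaves: let f : X_disc -> X be the identity
map from X with the discrete topology. For an abelian sheaf F on X, the adjunction unit F -> f_*
f^{-1} F is a monomorphism and f_* f^{-1} F is a flasque sheaf. (The source builds the whole
functorial flasque resolution by iterating f_* f^{-1} and proves it is a stalkwise homotopy
equivalence; only this first step is asserted here.) -/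
theorem result {X : TopCat.{u}} (F : CohTop.Ab X) :
    Mono ((TopCat.Sheaf.pullbackPushforwardAdjunction AddCommGrpCat.{u}
      (TopCat.adj₁.counit.app X)).unit.app F) ∧
    TopCat.Sheaf.IsFlasque ((CohTop.push (TopCat.adj₁.counit.app X)).obj
      ((CohTop.pull (TopCat.adj₁.counit.app X)).obj F)) := by
  refine ⟨Godement.mono_unit_of_surjective F _ (fun x => ⟨x, rfl⟩), ?_⟩
  have hd : DiscreteTopology ((forget TopCat.{u} ⋙ TopCat.discrete).obj X) := ⟨rfl⟩
  have := @Godement.flasque_of_discrete _ hd ((CohTop.pull (TopCat.adj₁.counit.app X)).obj F)
  exact TopCat.Sheaf.IsFlasque.pushforward_isFlasque _ _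

end Groth.Agent.S0866
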