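import Groth.Statements.S0925
import Mathlib
import Groth.Agent.Lib.helper23.ClEmb

set_option autoImplicit false
universe u
open CategoryTheory
open CohTop

namespace Groth.Agent.S0925

open TopologicalSpace in
/-- For an open U of X with closed complement Z and an injective abelian sheaf I on X, the sheaf H_Z(I),
the sheaf on Z of sections of I supported in Z (pullback to Z of the kernel of I -> j_* j^{-1} I, j
: U -> X), is an injective abelian sheaf on Z. -/
theorem result {X : TopCat.{u}} (U : Opens X) (I : CohTop.Ab X) [Injective I] :
    Injective (CohCx.HZ U I) := by
  have hU : (U : Set X) = (Set.range (CohCx.inclCompl U))ᶜ := by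
    have : Set.range (CohCx.inclCompl U) = ((U : Set X)ᶜ : Set X) := Subtype.range_coe
    rw [this, compl_compl]
  have adj := ClEmb.adjPush U hU Topology.IsInducing.subtypeVal
  have : (CohTop.push (CohCx.inclCompl U)).PreservesMonomorphisms :=
    Functor.preservesMonomorphisms_of_adjunction
      (TopCat.Sheaf.pullbackPushforwardAdjunction AddCommGrpCat.{u} (CohCx.inclCompl U))
  exact Injective.injective_of_adjoint adj I

end Groth.Agent.S0925
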