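import Groth.Statements.S0928
import Mathlib
-- import your own Groth.Agent.* helpers here

set_option autoImplicit false
universe u
open CategoryTheory
open CohDer

namespace Groth.Agent.S0928

universe u₁ v₁ w₁

open MorphismProperty ZeroObject CategoryTheory.Limits in
/-- In a Grothendieck abelian category there are functorial injective embeddings. -/
theorem exists_functorial_injective_embedding (A : Type u₁) [Category.{v₁} A] [Abelian A]
    [IsGrothendieckAbelian.{w₁} A] :
    ∃ (J : A ⥤ A) (j : 𝟭 _ ⟶ J), ∀ F : A, Injective (J.obj F) ∧ Mono (j.app F) := by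
  let data := functorialFactorizationData (monomorphisms A) (monomorphisms A).rlp
  let T : A ⥤ Arrow A :=
    { obj := fun X => Arrow.mk (0 : X ⟶ (0 : A))
      map := fun {X Y} f => Arrow.homMk (u := f) (v := 𝟙 (0 : A)) (by simp)
      map_id := by intro X; ext <;> simp
      map_comp := by intro X Y Z f g; ext <;> simp }
  refine ⟨T ⋙ data.Z, Functor.whiskerLeft T data.i, fun F => ⟨?_, ?_⟩⟩
  · have h := data.hp (T.obj F)
    have hz : data.p.app (T.obj F) = 0 := (isZero_zero A).eq_of_tgt _ _
    rw [hz] at h
    rw [injective_iff_rlp_monomorphisms_zero]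
    exact h
  · exact data.hi (T.obj F)

open CategoryTheory.Limits in
theorem isGrothendieckAbelian_presheaf {C : Type u} [SmallCategory C] :
    IsGrothendieckAbelian.{u} (Cᵒᵖ ⥤ AddCommGrpCat.{u}) where
  ab5OfSize := ⟨fun J _ _ => inferInstance⟩


/-- On a small category C the category of presheaves of abelian groups has functorial injective
embeddings: there are an endofunctor J of the presheaf category and a natural transformation from
the identity to J with each component a monomorphism into an injective presheaf. -/
theorem result {C : Type u} [SmallCategory C] :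
    ∃ (J : (Cᵒᵖ ⥤ AddCommGrpCat.{u}) ⥤ (Cᵒᵖ ⥤ AddCommGrpCat.{u})) (j : 𝟭 _ ⟶ J),
      ∀ F : Cᵒᵖ ⥤ AddCommGrpCat.{u}, Injective (J.obj F) ∧ Mono (j.app F) := by
  have := isGrothendieckAbelian_presheaf (C := C)
  exact exists_functorial_injective_embedding.{u + 1, u, u} (Cᵒᵖ ⥤ AddCommGrpCat.{u})

end Groth.Agent.S0928
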