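import Groth.Statements.S0929
import Mathlib
-- import your own Groth.Agent.* helpers here

set_option autoImplicit false
universe u
open CategoryTheory
open CohDer

namespace Groth.Agent.S0929

universe u₁ v₁ w₁

open MorphismProperty ZeroObject CategoryTheory.Limits in
/-- In a Grothendieck abelian category there are functorial injective embeddings. -/
theorem exists_functorial_injective_embedding (A : Type u₁) [Category.{v₁} A] [Abelian A]
    [IsGrothendieckAbelian.{w₁} A] :
    ∃ (J : A ⥤ A) (j : 𝟭 _ ⟶ J), ∀ F : A, Injective (J.obj F) ∧ Mono (j.app F) := by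
  let data := functorialFactorizationData (monomorphisms A) (monomorphisms A).rlp
  let T : A ⥤ Arrow A :=
    { obj := fun X => Arrow.mk (0 : X ⟶ (0 : A))
      map := fun {X Y} f => Arrow.homMk (u := f) (v := 𝟙 (0 : A)) (by simp)
      map_id := by intro X; ext <;> simp
      map_comp := by intro X Y Z f g; ext <;> simp }
  refine ⟨T ⋙ data.Z, Functor.whiskerLeft T data.i, fun F => ⟨?_, ?_⟩⟩
  · have h := data.hp (T.obj F)
    have hz : data.p.app (T.obj F) = 0 := (isZero_zero A).eq_of_tgt _ _
    rw [hz] at h
    rw [injective_iff_rlp_monomorphisms_zero]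
    exact h
  · exact data.hi (T.obj F)

section
open CategoryTheory.Limits
variable {C : Type u} [SmallCategory C] (O : Cᵒᵖ ⥤ RingCat.{u})

theorem ab5 : AB5OfSize.{u, u} (PresheafOfModules.{u} O) :=
  ⟨fun J _ _ => HasExactColimitsOfShape.domain_of_functor J (PresheafOfModules.toPresheaf.{u} O)⟩

theorem hasSeparator : HasSeparator (PresheafOfModules.{u} O) := by
  have h := PresheafOfModules.freeYoneda.isSeparating O
  exact ⟨_, h.isSeparator_coproduct⟩

theorem isGrothendieckAbelian : IsGrothendieckAbelian.{u} (PresheafOfModules.{u} O) where
  ab5OfSize := ab5 O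
  hasSeparator := hasSeparator O

end


/-- For a presheaf of rings O on a small category C, the category of presheaves of O-modules has
functorial injective embeddings (an endofunctor J with a natural transformation from the identity
whose components are monomorphisms into injective objects). -/
theorem result {C : Type u} [SmallCategory C]
    (O : Cᵒᵖ ⥤ RingCat.{u}) :
    ∃ (J : PresheafOfModules.{u} O ⥤ PresheafOfModules.{u} O) (j : 𝟭 _ ⟶ J),
      ∀ F : PresheafOfModules.{u} O, Injective (J.obj F) ∧ Mono (j.app F) := by
  have := isGrothendieckAbelian O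
  exact exists_functorial_injective_embedding.{u + 1, u, u} (PresheafOfModules.{u} O)

end Groth.Agent.S0929
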