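import Groth.Statements.S0930
import Groth.Agent.S12541
import Groth.Prelude.Def_CohPull
import Mathlib

set_option autoImplicit false
universe u
open CategoryTheory
attribute [local instance] HasDerivedCategory.standard
open CohTop

namespace Groth.Agent.S0930

/-- For continuous maps f : X -> Y and g : Y -> Z, the composite of the right derived functors Rf_* :
D^+(X) -> D^+(Y) and Rg_* : D^+(Y) -> D^+(Z) is isomorphic to R(g ∘ f)_* (existence of an
isomorphism of functors between bounded below derived categories). -/
theorem result {X Y Z : TopCat.{u}} (f : X ⟶ Y) (g : Y ⟶ Z) :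
    Nonempty ((CohTop.push f).rightDerivedFunctorPlus ⋙ (CohTop.push g).rightDerivedFunctorPlus ≅
      (CohTop.push (f ≫ g)).rightDerivedFunctorPlus) := by
  let F := CohTop.push f
  let G := CohTop.push g
  have : Limits.PreservesFiniteLimits F := by
    have := (CohPull.invPushAdj f).rightAdjoint_preservesLimits
    infer_instance
  have : Limits.PreservesFiniteLimits G := by
    have := (CohPull.invPushAdj g).rightAdjoint_preservesLimits
    infer_instance
  have hFG : ∀ I : CohTop.Ab X, Injective I →
      IsIso (G.rightDerivedFunctorPlusUnit.app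
        ((HomotopyCategory.Plus.singleFunctor (CohTop.Ab Y) 0).obj (F.obj I))) := by
    intro I hI
    have : Injective (F.obj I) := Injective.injective_of_adjoint (CohPull.invPushAdj f) I
    rw [Groth.Agent.H18.RDPlus.unit_isIso_single_iff]
    exact ⟨inferInstance, Groth.Agent.H18.RDPlus.FAcyc.of_injective G _⟩
  have key := Groth.Agent.S12541.result F G hFG
  obtain ⟨α, hα⟩ : ∃ α : (F ⋙ G).mapHomotopyCategoryPlus ⋙ DerivedCategory.Plus.Qh ⟶
      DerivedCategory.Plus.Qh ⋙ (F.rightDerivedFunctorPlus ⋙ G.rightDerivedFunctorPlus),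
      (F.rightDerivedFunctorPlus ⋙ G.rightDerivedFunctorPlus).IsRightDerivedFunctor α
        (HomotopyCategory.Plus.quasiIso (CohTop.Ab X)) := ⟨_, key⟩
  exact ⟨Functor.rightDerivedNatIso _ _ α ((CohTop.push (f ≫ g)).rightDerivedFunctorPlusUnit)
    (HomotopyCategory.Plus.quasiIso (CohTop.Ab X)) (Iso.refl _)⟩

end Groth.Agent.S0930
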