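import Groth.Statements.S0973
import Mathlib
import Groth.Agent.Lib.helper2.DerTrunc
import Groth.Agent.Lib.helper2.ShiftHom
-- import your own Groth.Agent.* helpers here

set_option autoImplicit false
universe w v u
open CategoryTheory CategoryTheory.Limits
open CohDer

namespace Groth.Agent.S0973

section helpers

set_option linter.unusedSectionVars false

open DerivedCategory Groth.Agent.Lib.helper2.DerTrunc Groth.Agent.Lib.helper2.ShiftHom
  CategoryTheory.Triangulated CategoryTheory.Pretriangulated CategoryTheory.Limits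

variable {A : Type u} [Category.{v} A] [Abelian A] [HasDerivedCategory.{w} A]

/-- the Ext vanishing hypothesis -/
def ExtHyp (K : DerivedCategory A) : Prop :=
  ∀ (i j : ℤ) (p : ℕ), j < i → 2 ≤ p →
    ∀ f : (singleFunctor A 0).obj ((homologyFunctor A i).obj K) ⟶
      (shiftFunctor (DerivedCategory A) (p : ℤ)).obj
        ((singleFunctor A 0).obj ((homologyFunctor A j).obj K)), f = 0

lemma ht_single (K : DerivedCategory A) (hExt : ExtHyp K) (i j : ℤ) (hji : j < i) :
    HT ((singleFunctor A i).obj ((homologyFunctor A i).obj K))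
      ((singleFunctor A j).obj ((homologyFunctor A j).obj K)) 1 := by
  have h : HT ((singleFunctor A 0).obj ((homologyFunctor A i).obj K))
      ((singleFunctor A 0).obj ((homologyFunctor A j).obj K)) ((i - j + 1).toNat : ℤ) :=
    hExt i j (i - j + 1).toNat hji (by omega)
  have hp : ((i - j + 1).toNat : ℤ) = i - j + 1 := Int.toNat_of_nonneg (by omega)
  have h1 := ht_of_eq hp h
  have h2 := (ht_shift_left_iff (-i) (1 - j) (i - j + 1) (by ring)).2 h1
  have h3 := (ht_shift_iff (-j) 1 (1 - j) (by ring)).2 h2
  exact ht_of_iso_right (singleIsoShift _ j).symm (ht_of_iso_left (singleIsoShift _ i).symm h3)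

lemma exists_section (K : DerivedCategory A) (a : ℤ) [K.IsGE a] (hExt : ExtHyp K) (i : ℤ) :
    ∃ ψ : (singleFunctor A i).obj ((homologyFunctor A i).obj K) ⟶ K,
      IsIso ((homologyFunctor A i).map ψ) := by
  -- L = τ_{≤ i} K
  have hLle : ((TStructure.t.truncLT (i + 1)).obj K).IsLE i :=
    inferInstanceAs (TStructure.t.IsLE ((TStructure.t.truncLT (i + 1)).obj K) i)
  have hLge : ((TStructure.t.truncLT (i + 1)).obj K).IsGE a :=
    inferInstanceAs (TStructure.t.IsGE ((TStructure.t.truncLT (i + 1)).obj K) a)
  obtain ⟨L, ι, hL, hLle, hLge, hι⟩ : ∃ (L : DerivedCategory A) (ι : L ⟶ K), True ∧ L.IsLE i ∧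
      L.IsGE a ∧ ∀ j, j ≤ i → IsIso ((homologyFunctor A j).map ι) :=
    ⟨_, (TStructure.t.truncLTι (i + 1)).app K, trivial, hLle, hLge,
      fun j hj => isIso_homology_map_truncLTι K (i + 1) j (by omega)⟩
  -- the truncation triangle of L at i
  have hT := TStructure.t.triangleLTGE_distinguished i L
  have hMge : ((TStructure.t.truncGE i).obj L).IsGE i :=
    inferInstanceAs (TStructure.t.IsGE ((TStructure.t.truncGE i).obj L) i)
  have hMle : ((TStructure.t.truncGE i).obj L).IsLE i :=
    inferInstanceAs (TStructure.t.IsLE ((TStructure.t.truncGE i).obj L) i)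
  have hNge : ((TStructure.t.truncLT i).obj L).IsGE a :=
    inferInstanceAs (TStructure.t.IsGE ((TStructure.t.truncLT i).obj L) a)
  have hNle : ((TStructure.t.truncLT i).obj L).IsLE (i - 1) :=
    inferInstanceAs (TStructure.t.IsLE ((TStructure.t.truncLT i).obj L) (i - 1))
  have hπ : IsIso ((homologyFunctor A i).map ((TStructure.t.truncGEπ i).app L)) :=
    isIso_homology_map_truncGEπ L i i le_rfl
  have hιi := hι i le_rfl
  -- M ≅ S_i
  obtain ⟨e⟩ := exists_iso_single_homology ((TStructure.t.truncGE i).obj L) i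
  let eH : (homologyFunctor A i).obj ((TStructure.t.truncGE i).obj L) ≅ (homologyFunctor A i).obj K :=
    (asIso ((homologyFunctor A i).map ((TStructure.t.truncGEπ i).app L))).symm ≪≫
      asIso ((homologyFunctor A i).map ι)
  let eM : (TStructure.t.truncGE i).obj L ≅
      (singleFunctor A i).obj ((homologyFunctor A i).obj K) :=
    e ≪≫ (singleFunctor A i).mapIso eH
  -- vanishing of maps M ⟶ N⟦1⟧
  have hvan : HT ((TStructure.t.truncGE i).obj L) ((TStructure.t.truncLT i).obj L) 1 := by
    letI : ∀ n : ℤ, ObjectProperty.IsClosedUnderIsomorphisms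
        (fun Y : A => n < i ∧ Nonempty (Y ≅ (homologyFunctor A n).obj K)) :=
      fun n => ⟨fun {X Y} e' h => ⟨h.1, ⟨e'.symm ≪≫ h.2.some⟩⟩⟩
    letI : ObjectProperty.IsClosedUnderIsomorphisms
        (fun Z : DerivedCategory A => HT ((TStructure.t.truncGE i).obj L) Z 1) :=
      ⟨fun {X Y} e' h => ht_of_iso_right e' h⟩
    refine bounded_induction
      (fun n => (fun Y : A => n < i ∧ Nonempty (Y ≅ (homologyFunctor A n).obj K)))
      (fun Z : DerivedCategory A => HT ((TStructure.t.truncGE i).obj L) Z 1)
      (fun Z hZ => ht_of_isZero_right hZ 1)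
      (fun T hT h₁ h₃ => ht_ext₂ T hT _ 1 h₁ h₃)
      ?_ ((TStructure.t.truncLT i).obj L) a (i - 1) ?_
    · rintro n Y ⟨hn, ⟨eY⟩⟩
      exact ht_of_iso_right ((singleFunctor A n).mapIso eY.symm)
        (ht_of_iso_left eM.symm (ht_single K hExt i n hn))
    · intro j _ hj
      have h1 := isIso_homology_map_truncLTι L i j (by omega)
      have h2 := hι j (by omega)
      exact ⟨by omega, ⟨asIso ((homologyFunctor A j).map ((TStructure.t.truncLTι i).app L)) ≪≫
        asIso ((homologyFunctor A j).map ι)⟩⟩
  -- the section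
  obtain ⟨s, hs⟩ : ∃ s : (TStructure.t.truncGE i).obj L ⟶ L,
      𝟙 _ = s ≫ (TStructure.t.truncGEπ i).app L :=
    Triangle.coyoneda_exact₃ _ hT (𝟙 ((TStructure.t.truncGE i).obj L)) (hvan _)
  refine ⟨eM.inv ≫ s ≫ ι, ?_⟩
  have hs' : IsIso ((homologyFunctor A i).map s) := by
    have h1 : (homologyFunctor A i).map s ≫
        (homologyFunctor A i).map ((TStructure.t.truncGEπ i).app L) = 𝟙 _ := by
      rw [← Functor.map_comp, ← hs, CategoryTheory.Functor.map_id]
    have h2 : (homologyFunctor A i).map s =
        inv ((homologyFunctor A i).map ((TStructure.t.truncGEπ i).app L)) := by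
      rw [← cancel_mono ((homologyFunctor A i).map ((TStructure.t.truncGEπ i).app L)), h1,
        IsIso.inv_hom_id]
    rw [h2]; infer_instance
  rw [Functor.map_comp, Functor.map_comp]
  infer_instance

end helpers

/-- Let K be an object of the derived category of an abelian category with cohomology concentrated in
degrees a, …, b. Suppose that for all i > j and p ≥ 2 every morphism H^i(K) ⟶ H^j(K)[p] in the
derived category (an element of Ext^p) vanishes. Then K splits: it is isomorphic to ⨁_{a ≤ i ≤ b}
Hⁱ(K)[-i]. -/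
theorem result {A : Type u} [Category.{v} A] [Abelian A] [HasDerivedCategory.{w} A]
    (K : DerivedCategory A) (a b : ℤ) [K.IsGE a] [K.IsLE b]
    (hExt : ∀ (i j : ℤ) (p : ℕ), j < i → 2 ≤ p →
      ∀ f : (DerivedCategory.singleFunctor A 0).obj ((DerivedCategory.homologyFunctor A i).obj K) ⟶
        ((DerivedCategory.singleFunctor A 0).obj ((DerivedCategory.homologyFunctor A j).obj K))⟦(p : ℤ)⟧, f = 0)
    [HasBiproduct (fun i : Finset.Icc a b => (DerivedCategory.singleFunctor A (i : ℤ)).obj ((DerivedCategory.homologyFunctor A (i : ℤ)).obj K))] :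
    Nonempty (K ≅ ⨁ (fun i : Finset.Icc a b => (DerivedCategory.singleFunctor A (i : ℤ)).obj ((DerivedCategory.homologyFunctor A (i : ℤ)).obj K))) := by
  classical
  have hExt' : ExtHyp K := hExt
  choose ψ hψ using fun i : ℤ => exists_section K a hExt' i
  have key : ∀ (S : Finset.Icc a b → DerivedCategory A)
      (hS : S = fun i : Finset.Icc a b => (DerivedCategory.singleFunctor A (i : ℤ)).obj
        ((DerivedCategory.homologyFunctor A (i : ℤ)).obj K)) [HasBiproduct S]
      (ψ' : ∀ i : Finset.Icc a b, S i ⟶ K)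
      (hψ' : ∀ i : Finset.Icc a b, IsIso ((DerivedCategory.homologyFunctor A (i : ℤ)).map (ψ' i))),
      IsIso (biproduct.desc ψ') := by
    intro S hS _ ψ' hψ'
    rw [DerivedCategory.isIso_iff]
    intro j
    have hsum : 𝟙 ((DerivedCategory.homologyFunctor A j).obj (⨁ S)) =
        ∑ i : Finset.Icc a b, (DerivedCategory.homologyFunctor A j).map (biproduct.π S i) ≫
          (DerivedCategory.homologyFunctor A j).map (biproduct.ι S i) := by
      rw [← CategoryTheory.Functor.map_id, ← biproduct.total, Functor.map_sum]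
      simp only [Functor.map_comp]
    have hzero : ∀ i : Finset.Icc a b, (i : ℤ) ≠ j →
        IsZero ((DerivedCategory.homologyFunctor A j).obj (S i)) := by
      intro i hij
      subst hS
      rcases lt_or_gt_of_ne hij with h | h
      · exact DerivedCategory.isZero_of_isLE _ (i : ℤ) j h
      · exact DerivedCategory.isZero_of_isGE _ (i : ℤ) j h
    by_cases hj : a ≤ j ∧ j ≤ b
    · have h1 : (DerivedCategory.homologyFunctor A j).map
            (biproduct.π S ⟨j, Finset.mem_Icc.2 hj⟩) ≫
          (DerivedCategory.homologyFunctor A j).map (biproduct.ι S ⟨j, Finset.mem_Icc.2 hj⟩) =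
          𝟙 _ := by
        rw [hsum, Finset.sum_eq_single (⟨j, Finset.mem_Icc.2 hj⟩ : Finset.Icc a b)]
        · intro i _ hi
          have hne : (i : ℤ) ≠ j := fun h => hi (Subtype.ext h)
          rw [(hzero i hne).eq_of_tgt
            ((DerivedCategory.homologyFunctor A j).map (biproduct.π S i)) 0, zero_comp]
        · intro h
          exact absurd (Finset.mem_univ _) h
      have h2 : (DerivedCategory.homologyFunctor A j).map
            (biproduct.ι S ⟨j, Finset.mem_Icc.2 hj⟩) ≫
          (DerivedCategory.homologyFunctor A j).map (biproduct.π S ⟨j, Finset.mem_Icc.2 hj⟩) =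
          𝟙 _ := by
        rw [← Functor.map_comp, biproduct.ι_π_self, CategoryTheory.Functor.map_id]
      have hιiso : IsIso ((DerivedCategory.homologyFunctor A j).map
          (biproduct.ι S ⟨j, Finset.mem_Icc.2 hj⟩)) := ⟨⟨_, h2, h1⟩⟩
      have h3 : (DerivedCategory.homologyFunctor A j).map
            (biproduct.ι S ⟨j, Finset.mem_Icc.2 hj⟩) ≫
          (DerivedCategory.homologyFunctor A j).map (biproduct.desc ψ') =
          (DerivedCategory.homologyFunctor A j).map (ψ' ⟨j, Finset.mem_Icc.2 hj⟩) := by
        rw [← Functor.map_comp, biproduct.ι_desc]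
      have h4 : IsIso ((DerivedCategory.homologyFunctor A j).map
            (biproduct.ι S ⟨j, Finset.mem_Icc.2 hj⟩) ≫
          (DerivedCategory.homologyFunctor A j).map (biproduct.desc ψ')) := by
        rw [h3]
        exact hψ' ⟨j, Finset.mem_Icc.2 hj⟩
      exact IsIso.of_isIso_comp_left ((DerivedCategory.homologyFunctor A j).map
          (biproduct.ι S ⟨j, Finset.mem_Icc.2 hj⟩)) _
    · have hK0 : IsZero ((DerivedCategory.homologyFunctor A j).obj K) := by
        rcases not_and_or.1 hj with h | h
        · exact DerivedCategory.isZero_of_isGE K a j (by omega)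
        · exact DerivedCategory.isZero_of_isLE K b j (by omega)
      have hS0 : IsZero ((DerivedCategory.homologyFunctor A j).obj (⨁ S)) := by
        rw [IsZero.iff_id_eq_zero, hsum]
        apply Finset.sum_eq_zero
        intro i _
        have hne : (i : ℤ) ≠ j := by
          intro h
          apply hj
          rw [← h]
          exact Finset.mem_Icc.1 i.2
        rw [(hzero i hne).eq_of_tgt
          ((DerivedCategory.homologyFunctor A j).map (biproduct.π S i)) 0, zero_comp]
      exact ⟨⟨0, hS0.eq_of_src _ _, hK0.eq_of_src _ _⟩⟩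
  have := key _ rfl (fun i : Finset.Icc a b => ψ (i : ℤ)) (fun i => hψ (i : ℤ))
  exact ⟨(asIso (biproduct.desc (fun i : Finset.Icc a b => ψ (i : ℤ)))).symm⟩

end Groth.Agent.S0973
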