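import Groth.Statements.S0976
import Mathlib
-- import your own Groth.Agent.* helpers here

set_option autoImplicit false
universe v u
open CategoryTheory
open CohDer

namespace Groth.Agent.S0976

section helpers
open CategoryTheory.Pretriangulated CategoryTheory.Triangulated ZeroObject

variable {D : Type u} [Category.{v} D] [Preadditive D] [Limits.HasZeroObject D] [HasShift D ℤ]
    [∀ n : ℤ, (shiftFunctor D n).Additive] [Pretriangulated D] [IsTriangulated D]

/-- the class of objects admitting a decomposition triangle -/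
def Dec (P : ObjectProperty D) : ObjectProperty D := fun X =>
  ∃ (A B : D) (f : A ⟶ X) (g : X ⟶ B) (h : B ⟶ (shiftFunctor D (1 : ℤ)).obj A),
      Triangle.mk f g h ∈ distinguishedTriangles ∧ P A ∧ P.rightOrthogonal B

/-- main extension step for an isomorphism-closed triangulated `P`. -/
theorem dec_ext (P : ObjectProperty D) [P.IsTriangulated] [P.IsClosedUnderIsomorphisms]
    (T : Triangle D) (hT : T ∈ distTriang D) (h₁ : Dec P T.obj₁) (h₃ : Dec P T.obj₃) :
    Dec P T.obj₂ := by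
  obtain ⟨X₁, X₂, X₃, u, v, w⟩ := T
  obtain ⟨A₁, B₁, a₁, b₁, c₁, hT₁, hA₁, hB₁⟩ := h₁
  obtain ⟨A₃, B₃, a₃, b₃, c₃, hT₃, hA₃, hB₃⟩ := h₃
  dsimp at a₁ b₁ a₃ b₃ hT₁ hT₃ ⊢
  -- Step 1 : fibre `Y` of `q = v ≫ b₃`
  obtain ⟨Y, y, z, hY⟩ := distinguished_cocone_triangle₁ (v ≫ b₃)
  let o₁ := someOctahedron' (rfl : v ≫ b₃ = v ≫ b₃) hT hT₃ hY
  have hT₁' := o₁.mem
  -- o₁.m₁ : X₁ ⟶ Y, o₁.m₃ : Y ⟶ A₃
  -- Step 2 : extend b₁ along m₁
  have hz : (Triangle.mk o₁.m₁ o₁.m₃ (a₃ ≫ w)).invRotate.mor₁ ≫ b₁ = 0 :=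
    hB₁ _ (P.le_shift (-1 : ℤ) _ hA₃)
  obtain ⟨r, hr⟩ := Triangle.yoneda_exact₂ _ (inv_rot_of_distTriang _ hT₁') b₁ hz
  -- Step 3 : fibre of r
  obtain ⟨A', α, ρ, hA'⟩ := distinguished_cocone_triangle₁ r
  let o₂ := someOctahedron hr.symm hT₁' (rot_of_distTriang _ hA') (rot_of_distTriang _ hT₁)
  have hPA' : P A' := by
    have h1 : P (A'⟦(1 : ℤ)⟧) :=
      P.ext_of_isTriangulatedClosed₃ _ o₂.mem hA₃ (P.le_shift (1 : ℤ) _ hA₁)
    have h2 : P ((A'⟦(1 : ℤ)⟧)⟦(-1 : ℤ)⟧) := P.le_shift (-1 : ℤ) _ h1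
    exact P.prop_of_iso (shiftShiftNeg A' (1 : ℤ)) h2
  -- Step 4
  obtain ⟨C, β, γ, hC⟩ := distinguished_cocone_triangle (α ≫ y)
  let o₃ := someOctahedron (rfl : α ≫ y = α ≫ y) hA' hY hC
  have hPC : P.rightOrthogonal C :=
    P.rightOrthogonal.ext_of_isTriangulatedClosed₂ _ o₃.mem hB₁ hB₃
  exact ⟨A', C, α ≫ y, β, γ, hC, hPA', hPC⟩



lemma rightOrthogonal_isoClosure (P : ObjectProperty D) :
    P.isoClosure.rightOrthogonal = P.rightOrthogonal := by
  ext Y
  constructor
  · intro h X f hX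
    exact h f (P.le_isoClosure _ hX)
  · rintro h X f ⟨X', hX', ⟨e⟩⟩
    have : e.inv ≫ f = 0 := h _ hX'
    rw [← cancel_epi e.inv, this, Limits.comp_zero]

lemma dec_isoClosure (P : ObjectProperty D) : Dec P.isoClosure = Dec P := by
  ext X
  constructor
  · rintro ⟨A, B, f, g, h, hT, ⟨A', hA', ⟨e⟩⟩, hB⟩
    rw [rightOrthogonal_isoClosure] at hB
    refine ⟨A', B, e.inv ≫ f, g, h ≫ e.hom⟦(1 : ℤ)⟧', ?_, hA', hB⟩
    refine isomorphic_distinguished _ hT _ ?_
    refine Triangle.isoMk _ _ e.symm (Iso.refl _) (Iso.refl _) (Category.comp_id _)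
      ((Category.comp_id _).trans (Category.id_comp _).symm) ?_
    show (h ≫ (shiftFunctor D (1 : ℤ)).map e.hom) ≫ (shiftFunctor D (1 : ℤ)).map e.inv = 𝟙 B ≫ h
    rw [Category.assoc, ← Functor.map_comp, e.hom_inv_id, CategoryTheory.Functor.map_id, Category.comp_id,
      Category.id_comp]
  · rintro ⟨A, B, f, g, h, hT, hA, hB⟩
    rw [← rightOrthogonal_isoClosure] at hB
    exact ⟨A, B, f, g, h, hT, P.le_isoClosure _ hA, hB⟩

instance dec_isClosedUnderIsomorphisms (P : ObjectProperty D) :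
    (Dec P).IsClosedUnderIsomorphisms where
  of_iso := by
    rintro X Y e ⟨A, B, f, g, h, hT, hA, hB⟩
    refine ⟨A, B, f ≫ e.hom, e.inv ≫ g, h, ?_, hA, hB⟩
    refine isomorphic_distinguished _ hT _ ?_
    refine Triangle.isoMk _ _ (Iso.refl _) e.symm (Iso.refl _) ?_ ?_ ?_
    · show (f ≫ e.hom) ≫ e.inv = 𝟙 A ≫ f
      rw [Category.assoc, e.hom_inv_id, Category.comp_id, Category.id_comp]
    · show (e.inv ≫ g) ≫ 𝟙 B = e.inv ≫ g
      exact Category.comp_id _
    · show h ≫ (shiftFunctor D (1 : ℤ)).map (𝟙 A) = 𝟙 B ≫ h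
      rw [CategoryTheory.Functor.map_id, Category.comp_id, Category.id_comp]

theorem dec_isTriangulated (P : ObjectProperty D) [P.IsTriangulated] :
    (Dec P).IsTriangulated := by
  have h0 : (Dec P).ContainsZero := by
    obtain ⟨Z, hZ, hPZ⟩ := P.exists_prop_of_containsZero
    exact ⟨⟨Z, hZ, Z, 0, 𝟙 Z, 0, 0, contractible_distinguished Z, hPZ,
      P.rightOrthogonal.prop_zero⟩⟩
  have hs : (Dec P).IsStableUnderShift ℤ := by
    refine ⟨fun n => ⟨?_⟩⟩
    rintro X ⟨A, B, f, g, h, hT, hA, hB⟩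
    have hT' := Triangle.shift_distinguished _ hT n
    exact ⟨_, _, _, _, _, hT', P.le_shift n _ hA, P.rightOrthogonal.le_shift n _ hB⟩
  have h2 : (Dec P).IsTriangulatedClosed₂ := by
    refine ObjectProperty.IsTriangulatedClosed₂.mk' ?_
    intro T hT h₁ h₃
    rw [← dec_isoClosure] at h₁ h₃ ⊢
    have : P.isoClosure.IsTriangulated := { }
    exact dec_ext P.isoClosure T hT h₁ h₃
  exact { }


end helpers

open CategoryTheory.Pretriangulated in
/-- Let P be a triangulated subcategory of a triangulated category D (an object property containing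
zero, stable under shifts, closed under extensions). Consider the class of objects X sitting in a
distinguished triangle A → X → B → A[1] with P A and B right orthogonal to P. This class is again
stable under shifts and closed under extensions, i.e. satisfies two-out-of-three in distinguished
triangles. -/
theorem result {D : Type u} [Category.{v} D] [Preadditive D] [Limits.HasZeroObject D] [HasShift D ℤ]
    [∀ n : ℤ, (shiftFunctor D n).Additive] [Pretriangulated D] [IsTriangulated D]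
    (P : ObjectProperty D) [P.IsTriangulated] :
    ObjectProperty.IsTriangulated (fun X : D => ∃ (A B : D) (f : A ⟶ X) (g : X ⟶ B) (h : B ⟶ (shiftFunctor D (1 : ℤ)).obj A),
      Triangle.mk f g h ∈ distinguishedTriangles ∧ P A ∧ P.rightOrthogonal B) := by
  exact dec_isTriangulated P

end Groth.Agent.S0976
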