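import Groth.Statements.S0984
import Mathlib
import Groth.Agent.Lib.helper2.Compact
-- import your own Groth.Agent.* helpers here

set_option autoImplicit false
universe v u
open CategoryTheory
open DerLim

namespace Groth.Agent.S0984

open CategoryTheory.Limits CategoryTheory.Pretriangulated in
/-- Let D be a triangulated category with all small direct sums and E a small family of compact objects
which generates D. Every object X of D is a homotopy colimit of a sequential system X₀ → X₁ → X₂ → …
in which X₀ is a direct sum of shifts of members of E and each transition map Xₙ → Xₙ₊₁ sits in a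
distinguished triangle Yₙ → Xₙ → Xₙ₊₁ → Yₙ[1] with Yₙ a direct sum of shifts of members of E. -/
theorem result {D : Type u} [Category.{v} D] [Preadditive D] [Limits.HasZeroObject D] [HasShift D ℤ]
    [∀ n : ℤ, (shiftFunctor D n).Additive] [Pretriangulated D] [IsTriangulated D] [HasCoproducts.{v} D]
    [HasColimitsOfShape (Discrete ℕ) D]
    {ι : Type v} (E : ι → D) (hc : ∀ i, CohDer.IsCompactObject (E i)) (hg : CohDer.Generates E) (X : D) :
    ∃ (K : ℕ → D) (f : ∀ n, K n ⟶ K (n + 1)) (i : ∀ n, K n ⟶ X),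
      DerLim.IsHocolim K f X i ∧
      (∃ (κ : Type v) (a : κ → ι) (m : κ → ℤ), Nonempty (K 0 ≅ ∐ (fun k => (shiftFunctor D (m k)).obj (E (a k))))) ∧
      ∀ n, ∃ (κ : Type v) (a : κ → ι) (m : κ → ℤ) (y : (∐ fun k => (shiftFunctor D (m k)).obj (E (a k))) ⟶ K n)
        (z : K (n + 1) ⟶ (shiftFunctor D (1 : ℤ)).obj (∐ fun k => (shiftFunctor D (m k)).obj (E (a k)))),
        Triangle.mk y (f n) z ∈ distinguishedTriangles := by
  open Groth.Agent.Lib.helper2.Brown Groth.Agent.Lib.helper2.Compact in
  obtain ⟨K, f, i, c, hT, ⟨κ, idx, ⟨e⟩⟩, hstep⟩ := exists_hocolim_presentation (shifts E)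
    (perfect_shifts E (fun X i α => by
      obtain ⟨β, γ, h⟩ := h2_of_compact (hc i) X α
      exact ⟨fun _ => i, β, γ, h⟩))
    (fun Q hQ => pe_shifts_shift E hQ (-1)) (hgen_of_generates E hg) X
  refine ⟨K, f, i, ⟨c, hT⟩, ⟨κ, fun k => (idx k).1, fun k => (idx k).2, ⟨e⟩⟩, fun n => ?_⟩
  obtain ⟨κ', idx', y, z, hT'⟩ := hstep n
  exact ⟨κ', fun k => (idx' k).1, fun k => (idx' k).2, y, z, hT'⟩

end Groth.Agent.S0984
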