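import Groth.Statements.S1076
import Mathlib
import Groth.Agent.Lib.helper2.Compact
-- import your own Groth.Agent.* helpers here

set_option autoImplicit false
universe v u
open CategoryTheory
open DerLim

namespace Groth.Agent.S1076


section helpers
set_option linter.unusedSectionVars false
open CategoryTheory.Pretriangulated CategoryTheory.Limits Groth.Agent.Lib.helper2.Compact
open Groth.Agent.Lib.helper2

variable {D : Type u} [Category.{v} D] [Preadditive D] [HasZeroObject D] [HasShift D ℤ]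
  [∀ n : ℤ, (shiftFunctor D n).Additive] [Pretriangulated D] [IsTriangulated D]
  [HasCoproducts.{v} D] {ι : Type v} (E : ι → D)

/-- the property "is one of the `E i`, `i ∈ s`" -/
def Ps (s : Finset ι) : ObjectProperty D := fun Y => ∃ i ∈ s, Y = E i

/-- the envelope -/
abbrev Env (s : Finset ι) : ObjectProperty D := (Ps E s).triangEnvelope

lemma env_mono {s s' : Finset ι} (h : s ⊆ s') : Env E s ≤ Env E s' :=
  ObjectProperty.monotone_triangEnvelope (fun _ ⟨i, hi, e⟩ => ⟨i, h hi, e⟩)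

lemma ps_nonempty {s : Finset ι} {i₀ : ι} (h : i₀ ∈ s) : (Ps E s).Nonempty :=
  ⟨⟨E i₀, i₀, h, rfl⟩⟩

lemma env_shift {s : Finset ι} {i : ι} (hi : i ∈ s) (m : ℤ) :
    Env E s ((shiftFunctor D m).obj (E i)) :=
  (Env E s).le_shift m _ ((Ps E s).le_triangEnvelope _ ⟨i, hi, rfl⟩)

lemma env_finite_coprod {κ : Type v} (a : κ → ι) (m : κ → ℤ) (t : Finset κ) {s : Finset ι}
    {i₀ : ι} (hi₀ : i₀ ∈ s) (hs : ∀ j ∈ t, a j ∈ s) :
    Env E s (∐ (fun j : t => (shiftFunctor D (m j.1)).obj (E (a j.1)))) := by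
  have := ps_nonempty E hi₀
  exact prop_sigma_finite _ (Env E s) (fun j => env_shift E
    (hs j.1 j.2) (m j.1))

/-- the conclusion, with a marked index -/
def Concl (i₀ : ι) {C Kn : D} (φ : C ⟶ Kn) : Prop :=
  ∃ (s : Finset ι) (_ : i₀ ∈ s) (E' : D) (g : C ⟶ E') (h : E' ⟶ Kn), Env E s E' ∧ g ≫ h = φ

lemma base (i₀ : ι) {K0 : D} {κ : Type v} (a : κ → ι) (m : κ → ℤ)
    (e : K0 ≅ ∐ (fun k => (shiftFunctor D (m k)).obj (E (a k))))
    (C : D) (hC : CohDer.IsCompactObject C) (φ : C ⟶ K0) : Concl E i₀ φ := by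
  classical
  let X : κ → D := fun k => (shiftFunctor D (m k)).obj (E (a k))
  obtain ⟨t, g₀, hg₀⟩ := exists_factor_finite hC (Cofan.mk (∐ X) (Sigma.ι X))
    (coproductIsCoproduct X) (φ ≫ e.hom)
  refine ⟨insert i₀ (t.image a), Finset.mem_insert_self _ _, _, g₀,
    Sigma.desc (fun j : t => Sigma.ι X j.1) ≫ e.inv,
    env_finite_coprod E a m t (Finset.mem_insert_self _ _)
      (fun j hj => Finset.mem_insert_of_mem (Finset.mem_image_of_mem a hj)), ?_⟩
  rw [← Category.assoc]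
  have : g₀ ≫ Sigma.desc (fun j : t => Sigma.ι X j.1) = φ ≫ e.hom := hg₀.symm
  rw [this, Category.assoc, e.hom_inv_id, Category.comp_id]

lemma step (i₀ : ι) (hc : ∀ i, CohDer.IsCompactObject (E i))
    {Kn Kn1 : D} (fn : Kn ⟶ Kn1) {κ : Type v} (a : κ → ι) (m : κ → ℤ)
    (y : (∐ fun k => (shiftFunctor D (m k)).obj (E (a k))) ⟶ Kn)
    (z : Kn1 ⟶ (shiftFunctor D (1 : ℤ)).obj (∐ fun k => (shiftFunctor D (m k)).obj (E (a k))))
    (hT : Triangle.mk y fn z ∈ distTriang D)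
    (IH : ∀ (C : D), CohDer.IsCompactObject C → ∀ φ : C ⟶ Kn, Concl E i₀ φ)
    (C : D) (hC : CohDer.IsCompactObject C) (φ : C ⟶ Kn1) : Concl E i₀ φ := by
  classical
  let X : κ → D := fun k => (shiftFunctor D (m k)).obj (E (a k))
  obtain ⟨t, g₀, hg₀⟩ := exists_factor_finite hC
    (Cofan.mk ((shiftFunctor D (1 : ℤ)).obj (∐ X))
      (fun k => (shiftFunctor D (1 : ℤ)).map (Sigma.ι X k)))
    (CoprodTriangle.isColimitShift X) (φ ≫ z)
  let F : D := ∐ (fun j : t => X j.1)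
  let u : F ⟶ ∐ X := Sigma.desc (fun j : t => Sigma.ι X j.1)
  let σ' : (∐ fun j : t => (shiftFunctor D (1 : ℤ)).obj (X j.1)) ⟶ (shiftFunctor D (1 : ℤ)).obj F :=
    Sigma.desc (fun j : t => (shiftFunctor D (1 : ℤ)).map (Sigma.ι (fun j : t => X j.1) j))
  let w : C ⟶ (shiftFunctor D (1 : ℤ)).obj F := g₀ ≫ σ'
  have hw : w ≫ (shiftFunctor D (1 : ℤ)).map u = φ ≫ z := by
    rw [hg₀]
    dsimp only [w]
    rw [Category.assoc]
    congr 1
    apply Sigma.hom_ext
    intro j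
    simp only [σ', u, colimit.ι_desc_assoc, colimit.ι_desc, Cofan.mk_pt, Cofan.mk_ι_app,
      ← Functor.map_comp]
    rfl
  have hF : CohDer.IsCompactObject F :=
    isCompactObject_sigma_finite _ (fun j => isCompactObject_shift (hc (a j.1)) (m j.1))
  have hs_F : i₀ ∈ insert i₀ (t.image a) := Finset.mem_insert_self _ _
  have hFenv : Env E (insert i₀ (t.image a)) F :=
    env_finite_coprod E a m t hs_F
      (fun j hj => Finset.mem_insert_of_mem (Finset.mem_image_of_mem a hj))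
  obtain ⟨C', p, q, hT'⟩ := distinguished_cocone_triangle₂ w
  have hC' : CohDer.IsCompactObject C' := isCompactObject_ext₂ _ hT' hF hC
  obtain ⟨ψ, hψ₁, hψ₂⟩ : ∃ ψ : C' ⟶ Kn, p ≫ ψ = u ≫ y ∧ q ≫ φ = ψ ≫ fn :=
    complete_distinguished_triangle_morphism₂ _ _ hT' hT u φ hw
  obtain ⟨s₁, hs₁, E₁, g', h', henv₁, hgh'⟩ := IH C' hC' ψ
  obtain ⟨E₂, r, d, hT₂⟩ := distinguished_cocone_triangle (p ≫ g')
  obtain ⟨g₁, hg₁a, hg₁b⟩ : ∃ g₁ : C ⟶ E₂, q ≫ g₁ = g' ≫ r ∧
      w ≫ (shiftFunctor D (1 : ℤ)).map (𝟙 F) = g₁ ≫ d :=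
    complete_distinguished_triangle_morphism _ _ hT' hT₂ (𝟙 F) g'
      (by
        change p ≫ g' = 𝟙 F ≫ p ≫ g'
        rw [Category.id_comp])
  rw [CategoryTheory.Functor.map_id, Category.comp_id] at hg₁b
  obtain ⟨h₁, hh₁a, hh₁b⟩ : ∃ h₁ : E₂ ⟶ Kn1, r ≫ h₁ = h' ≫ fn ∧
      d ≫ (shiftFunctor D (1 : ℤ)).map u = h₁ ≫ z :=
    complete_distinguished_triangle_morphism _ _ hT₂ hT u h'
      (by
        change (p ≫ g') ≫ h' = u ≫ y
        rw [Category.assoc, hgh', hψ₁])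
  have h0 : (φ - g₁ ≫ h₁) ≫ z = 0 := by
    rw [Preadditive.sub_comp, Category.assoc, ← hh₁b, ← Category.assoc, ← hg₁b, hw, sub_self]
  obtain ⟨θ, hθ⟩ : ∃ θ : C ⟶ Kn, φ - g₁ ≫ h₁ = θ ≫ fn :=
    Triangle.coyoneda_exact₃ _ hT _ h0
  obtain ⟨s₂, hs₂, E₃, g₂, h₂, henv₂, hgh₂⟩ := IH C hC θ
  let s : Finset ι := insert i₀ (t.image a) ∪ s₁ ∪ s₂
  have hi₀ : i₀ ∈ s := Finset.mem_union_left _ (Finset.mem_union_left _ hs_F)
  have := ps_nonempty E hi₀
  have hE₂ : Env E s E₂ :=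
    (Env E s).ext_of_isTriangulatedClosed₃ _ hT₂
      (env_mono E (Finset.subset_union_left.trans Finset.subset_union_left) _ hFenv)
      (env_mono E (Finset.subset_union_right.trans Finset.subset_union_left) _ henv₁)
  have hE₃ : Env E s E₃ := env_mono E Finset.subset_union_right _ henv₂
  have hE' : Env E s (E₂ ⊞ E₃) :=
    (Env E s).ext_of_isTriangulatedClosed₂ _ (binaryBiproductTriangle_distinguished E₂ E₃) hE₂ hE₃
  refine ⟨s, hi₀, E₂ ⊞ E₃, biprod.lift g₁ g₂, biprod.desc h₁ (h₂ ≫ fn), hE', ?_⟩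
  rw [biprod.lift_desc, ← Category.assoc, hgh₂, ← hθ]
  abel

end helpers

open CategoryTheory.Limits CategoryTheory.Pretriangulated in
/-- Let D be a triangulated category with all small direct sums and E a small nonempty family of compact
objects (nonempty so that the envelope of a finite subfamily can contain a zero object). Let X₀ → X₁
→ … be a sequential system in which X₀ is a direct sum of shifts of members of E and each Xₙ → Xₙ₊₁
sits in a distinguished triangle Yₙ → Xₙ → Xₙ₊₁ → Yₙ[1] with Yₙ a direct sum of shifts of members of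
E. Then every morphism from a compact object C to some Xₙ factors through an object of the
triangulated envelope (closure under shifts, finite sums, summands and extensions) of finitely many
members of E. -/
theorem result {D : Type u} [Category.{v} D] [Preadditive D] [Limits.HasZeroObject D] [HasShift D ℤ]
    [∀ n : ℤ, (shiftFunctor D n).Additive] [Pretriangulated D] [IsTriangulated D] [HasCoproducts.{v} D]
    {ι : Type v} [Nonempty ι] (E : ι → D) (hc : ∀ i, CohDer.IsCompactObject (E i))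
    (K : ℕ → D) (f : ∀ n, K n ⟶ K (n + 1))
    (h0 : ∃ (κ : Type v) (a : κ → ι) (m : κ → ℤ), Nonempty (K 0 ≅ ∐ (fun k => (shiftFunctor D (m k)).obj (E (a k)))))
    (hstep : ∀ n, ∃ (κ : Type v) (a : κ → ι) (m : κ → ℤ) (y : (∐ fun k => (shiftFunctor D (m k)).obj (E (a k))) ⟶ K n)
      (z : K (n + 1) ⟶ (shiftFunctor D (1 : ℤ)).obj (∐ fun k => (shiftFunctor D (m k)).obj (E (a k)))),
      Triangle.mk y (f n) z ∈ distinguishedTriangles)
    (C : D) (hC : CohDer.IsCompactObject C) (n : ℕ) (φ : C ⟶ K n) :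
    ∃ (s : Finset ι) (E' : D) (g : C ⟶ E') (h : E' ⟶ K n),
      ObjectProperty.triangEnvelope (fun Y : D => ∃ i ∈ s, Y = E i) E' ∧ g ≫ h = φ := by
  obtain ⟨i₀⟩ := ‹Nonempty ι›
  suffices h : ∀ (n : ℕ) (C : D), CohDer.IsCompactObject C → ∀ φ : C ⟶ K n, Concl E i₀ φ by
    obtain ⟨s, _, E', g, h', henv, hgh⟩ := h n C hC φ
    exact ⟨s, E', g, h', henv, hgh⟩
  intro n
  induction n with
  | zero =>
    obtain ⟨κ, a, m, ⟨e⟩⟩ := h0
    exact fun C hC φ => base E i₀ a m e C hC φ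
  | succ n ih =>
    obtain ⟨κ, a, m, y, z, hT⟩ := hstep n
    exact fun C hC φ => step E i₀ hc (f n) a m y z hT ih C hC φ

end Groth.Agent.S1076
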