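import Groth.Statements.S0978
import Mathlib
import Groth.Agent.Lib.helper2.Compact
import Groth.Agent.S0984
import Groth.Agent.S1076
-- import your own Groth.Agent.* helpers here

set_option autoImplicit false
universe v u
open CategoryTheory
open CohDer

namespace Groth.Agent.S0978

open CategoryTheory.Limits in
/-- Let D be a triangulated category with all small direct sums and E a compact object. Then E generates
D (an object admitting only zero maps from all shifts of E is zero) if and only if D is compactly
generated and every compact object lies in the triangulated envelope of E (objects reachable from E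
by shifts, finite sums, direct summands and extensions). -/
theorem result {D : Type u} [Category.{v} D] [Preadditive D] [Limits.HasZeroObject D] [HasShift D ℤ]
    [∀ n : ℤ, (shiftFunctor D n).Additive] [Pretriangulated D] [IsTriangulated D] [HasCoproducts.{v} D]
    [HasColimitsOfShape (Discrete ℕ) D]
    (E : D) (hE : CohDer.IsCompactObject E) :
    CohDer.Generates (fun _ : Unit => E) ↔
      (CohDer.IsCompactlyGenerated D ∧ ∀ X : D, CohDer.IsCompactObject X → ObjectProperty.triangEnvelope (fun Y : D => Y = E) X) := by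
  open Groth.Agent.Lib.helper2.Compact in
  constructor
  · intro hg
    let E' : PUnit.{v + 1} → D := fun _ => E
    have hc : ∀ i, CohDer.IsCompactObject (E' i) := fun _ => hE
    have hg' : CohDer.Generates E' := fun K hK => hg K (fun _ n f => hK PUnit.unit n f)
    refine ⟨⟨PUnit.{v + 1}, E', hc, hg'⟩, fun X hX => ?_⟩
    obtain ⟨K, f, i, ⟨c, hT⟩, h0, hstep⟩ := Groth.Agent.S0984.result E' hc hg' X
    obtain ⟨N, g', hg'⟩ := exists_factor_of_hocolim K f hX i c hT (𝟙 X)
    obtain ⟨s, E'', g, h, henv, hgh⟩ := Groth.Agent.S1076.result E' hc K f h0 hstep X hX N g'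
    have hr : Retract X E'' :=
      { i := g
        r := h ≫ i N
        retract := by rw [← Category.assoc, hgh, ← hg'] }
    have h1 : (fun Y : D => ∃ i ∈ s, Y = E' i) ≤ (fun Y : D => Y = E) := fun Y ⟨_, _, h⟩ => h
    exact ObjectProperty.IsStableUnderRetracts.of_retract hr
      (ObjectProperty.monotone_triangEnvelope h1 _ henv)
  · rintro ⟨⟨ι, S, hSc, hSg⟩, henv⟩ K hK
    let P : ObjectProperty D := fun Z => ∃ n : ℤ, Nonempty (Z ≅ (shiftFunctor D n).obj K)
    have : P.IsStableUnderShift ℤ :=
      ⟨fun a => ⟨fun Z ⟨n, ⟨e⟩⟩ => ⟨n + a, ⟨(shiftFunctor D a).mapIso e ≪≫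
        ((shiftFunctorAdd' D n a (n + a) rfl).app K).symm⟩⟩⟩⟩
    have : P.leftOrthogonal.IsStableUnderRetracts :=
      ⟨fun {X Y} r hY Z f hZ => by
        have h1 : f = r.i ≫ r.r ≫ f := by rw [r.retract_assoc]
        rw [h1, hY (r.r ≫ f) hZ, comp_zero]⟩
    have hle : ObjectProperty.triangEnvelope (fun Y : D => Y = E) ≤ P.leftOrthogonal := by
      rw [ObjectProperty.triangEnvelope_le_iff]
      rintro Y rfl Z f ⟨n, ⟨e⟩⟩
      have := hK () n (f ≫ e.hom)
      rw [← cancel_mono e.hom, this, zero_comp]
    apply hSg
    intro i n f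
    exact hle _ (henv _ (hSc i)) f ⟨n, ⟨Iso.refl _⟩⟩

end Groth.Agent.S0978
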