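import Groth.Statements.S0982
import Mathlib
import Groth.Agent.Lib.helper2.TruncDer
-- import your own Groth.Agent.* helpers here

set_option autoImplicit false
universe w v u
open CategoryTheory CategoryTheory.Limits
open CohDer

namespace Groth.Agent.S0982

/-- Let K : ℕ ⥤ CochainComplex A ℤ be a sequence of cochain maps K₀ → K₁ → K₂ → … in an abelian category
with Hⁱ(K₀) = 0 for i > 0 and such that for every j < n the map H⁻ʲ(Kⱼ) → H⁻ʲ(Kⱼ₊₁) is zero. Then in
the derived category the composite K₀ → Kₙ factors through the canonical truncation τ_{≤ -n}Kₙ → Kₙ. -/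
theorem result {A : Type u} [Category.{v} A] [Abelian A] [HasDerivedCategory.{w} A]
    (K : ℕ ⥤ CochainComplex A ℤ) (n : ℕ)
    (h0 : ∀ i : ℤ, 0 < i → IsZero ((K.obj 0).homology i))
    (hz : ∀ j : ℕ, j < n → HomologicalComplex.homologyMap (K.map (homOfLE (Nat.le_succ j))) (-(j : ℤ)) = 0) :
    ∃ φ : DerivedCategory.Q.obj (K.obj 0) ⟶ DerivedCategory.Q.obj ((K.obj n).truncLE (-(n : ℤ))),
      φ ≫ DerivedCategory.Q.map ((K.obj n).ιTruncLE (-(n : ℤ))) = DerivedCategory.Q.map (K.map (homOfLE (Nat.zero_le n))) := by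
  classical
  open Groth.Agent.Lib.helper2.TruncDer DerivedCategory in
  have gen : ∀ m : ℕ, m ≤ n → ∀ a : ℤ, a = -(m : ℤ) →
      ∃ φ : DerivedCategory.Q.obj (K.obj 0) ⟶ DerivedCategory.Q.obj ((K.obj m).truncLE a),
        φ ≫ DerivedCategory.Q.map ((K.obj m).ιTruncLE a) =
          DerivedCategory.Q.map (K.map (homOfLE (Nat.zero_le m))) := by
    intro m
    induction m with
    | zero =>
      intro _ a ha
      obtain rfl : a = 0 := by simpa using ha
      have h1 : (K.obj 0).IsLE 0 := by
        rw [CochainComplex.isLE_iff]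
        intro i hi
        rw [HomologicalComplex.exactAt_iff_isZero_homology]
        exact h0 i hi
      have h2 : QuasiIso ((K.obj 0).ιTruncLE 0) := inferInstance
      have h3 : IsIso (Q.map ((K.obj 0).ιTruncLE 0)) := by
        rw [isIso_Q_map_iff_quasiIso]; exact h2
      have h4 : K.map (homOfLE (Nat.zero_le 0)) = 𝟙 _ := by
        rw [← K.map_id]; rfl
      refine ⟨inv (Q.map ((K.obj 0).ιTruncLE 0)), ?_⟩
      rw [IsIso.inv_hom_id, h4, CategoryTheory.Functor.map_id]
    | succ m ih =>
      intro hm a ha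
      obtain ⟨φ, hφ⟩ := ih (Nat.le_of_succ_le hm) (a + 1) (by rw [ha]; push_cast; ring)
      have hz' := hz m hm
      have hidx : -(m : ℤ) = a + 1 := by rw [ha]; push_cast; ring
      rw [hidx] at hz'
      obtain ⟨χ, hχ⟩ := step_truncLE (K.obj m) (K.obj (m + 1)) (K.map (homOfLE (Nat.le_succ m)))
        (a + 1) a rfl hz'
      refine ⟨φ ≫ χ, ?_⟩
      rw [Category.assoc, hχ, Functor.map_comp, ← Category.assoc, hφ, ← Functor.map_comp,
        ← Functor.map_comp]
      rfl
  exact gen n le_rfl _ rfl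

end Groth.Agent.S0982
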