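import Groth.Statements.S0983
import Mathlib

set_option autoImplicit false
universe v u
open CategoryTheory
open CohDer

namespace Groth.Agent.S0983

open CategoryTheory.Pretriangulated in
/-- In a triangulated category, a commutative square f ≫ v = u ≫ f' (with f : X ⟶ Y, f' : X' ⟶ Y', u : X
⟶ X', v : Y ⟶ Y') extends to a diagram with three distinguished rows (X, Y, Z), (X', Y', Z'), (X'',
Y'', Z'') and three distinguished columns (X, X', X''), (Y, Y', Y''), (Z, Z', Z''), in which all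
squares commute except the one formed by the third morphisms of the last row and last column, which
anticommutes; the fourth row and column are the shifts of the first ones. -/
theorem result {D : Type u} [Category.{v} D] [Preadditive D] [Limits.HasZeroObject D] [HasShift D ℤ]
    [∀ n : ℤ, (shiftFunctor D n).Additive] [Pretriangulated D] [IsTriangulated D]
    {X Y X' Y' : D} (f : X ⟶ Y) (f' : X' ⟶ Y') (u : X ⟶ X') (v : Y ⟶ Y') (comm : f ≫ v = u ≫ f') :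
    ∃ (Z Z' X'' Y'' Z'' : D) (g : Y ⟶ Z) (h : Z ⟶ (shiftFunctor D (1 : ℤ)).obj X)
      (g' : Y' ⟶ Z') (h' : Z' ⟶ (shiftFunctor D (1 : ℤ)).obj X')
      (f'' : X'' ⟶ Y'') (g'' : Y'' ⟶ Z'') (h'' : Z'' ⟶ (shiftFunctor D (1 : ℤ)).obj X'')
      (u' : X' ⟶ X'') (u'' : X'' ⟶ (shiftFunctor D (1 : ℤ)).obj X)
      (v' : Y' ⟶ Y'') (v'' : Y'' ⟶ (shiftFunctor D (1 : ℤ)).obj Y)
      (w : Z ⟶ Z') (w' : Z' ⟶ Z'') (w'' : Z'' ⟶ (shiftFunctor D (1 : ℤ)).obj Z),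
      Triangle.mk f g h ∈ distinguishedTriangles ∧ Triangle.mk f' g' h' ∈ distinguishedTriangles ∧
      Triangle.mk f'' g'' h'' ∈ distinguishedTriangles ∧
      Triangle.mk u u' u'' ∈ distinguishedTriangles ∧ Triangle.mk v v' v'' ∈ distinguishedTriangles ∧
      Triangle.mk w w' w'' ∈ distinguishedTriangles ∧
      g ≫ w = v ≫ g' ∧ h ≫ (shiftFunctor D (1 : ℤ)).map u = w ≫ h' ∧
      f' ≫ v' = u' ≫ f'' ∧ g' ≫ w' = v' ≫ g'' ∧ h' ≫ (shiftFunctor D (1 : ℤ)).map u' = w' ≫ h'' ∧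
      f'' ≫ v'' = u'' ≫ (shiftFunctor D (1 : ℤ)).map f ∧ g'' ≫ w'' = v'' ≫ (shiftFunctor D (1 : ℤ)).map g ∧
      h'' ≫ (shiftFunctor D (1 : ℤ)).map u'' = -(w'' ≫ (shiftFunctor D (1 : ℤ)).map h) := by
  obtain ⟨Z, g, h, hT1⟩ := distinguished_cocone_triangle f
  obtain ⟨Z', g', h', hT2⟩ := distinguished_cocone_triangle f'
  obtain ⟨X'', u', u'', hT4⟩ := distinguished_cocone_triangle u
  obtain ⟨Y'', v', v'', hT5⟩ := distinguished_cocone_triangle v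
  obtain ⟨A, b, c, hTa⟩ := distinguished_cocone_triangle (f ≫ v)
  obtain ⟨m₁, m₃, a1, a2, a3, a4, mem1⟩ :=
    Triangulated.someOctahedron (rfl : f ≫ v = f ≫ v) hT1 hT5 hTa
  obtain ⟨n₁, n₃, b1, b2, b3, b4, mem2⟩ :=
    Triangulated.someOctahedron (comm.symm : u ≫ f' = f ≫ v) hT4 hT2 hTa
  obtain ⟨Z'', g'', h'', hT3⟩ := distinguished_cocone_triangle (n₁ ≫ m₃)
  have h23 : Triangle.mk m₃ (v'' ≫ (shiftFunctor D (1 : ℤ)).map g)
      (-((shiftFunctor D (1 : ℤ)).map m₁)) ∈ distinguishedTriangles :=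
    rot_of_distTriang _ mem1
  obtain ⟨p₁, p₃, c1, c2, c3, c4, mem3⟩ :=
    Triangulated.someOctahedron (rfl : n₁ ≫ m₃ = n₁ ≫ m₃) mem2 h23 hT3
  have e : (-((shiftFunctor D (1 : ℤ)).map m₁)) ≫ (shiftFunctor D (1 : ℤ)).map n₃ =
      -((shiftFunctor D (1 : ℤ)).map (m₁ ≫ n₃)) := by
    rw [Functor.map_comp, Preadditive.neg_comp]
  rw [e] at mem3
  have hT6 : Triangle.mk (m₁ ≫ n₃) p₁ p₃ ∈ distinguishedTriangles :=
    (rotate_distinguished_triangle _).mpr mem3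
  refine ⟨Z, Z', X'', Y'', Z'', g, h, g', h', n₁ ≫ m₃, g'', h'', u', u'', v', v'',
    m₁ ≫ n₃, p₁, p₃, hT1, hT2, hT3, hT4, hT5, hT6, ?_, ?_, ?_, ?_, ?_, ?_, ?_, ?_⟩
  · -- g ≫ w = v ≫ g'
    calc g ≫ m₁ ≫ n₃ = (g ≫ m₁) ≫ n₃ := (Category.assoc _ _ _).symm
      _ = (v ≫ b) ≫ n₃ := by rw [a1]
      _ = v ≫ b ≫ n₃ := Category.assoc _ _ _
      _ = v ≫ g' := by rw [b3]
  · -- h ≫ u⟦1⟧ = w ≫ h'
    calc h ≫ (shiftFunctor D (1 : ℤ)).map u = (m₁ ≫ c) ≫ (shiftFunctor D (1 : ℤ)).map u := by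
          rw [a2]
      _ = m₁ ≫ c ≫ (shiftFunctor D (1 : ℤ)).map u := Category.assoc _ _ _
      _ = m₁ ≫ n₃ ≫ h' := by rw [b4]
      _ = (m₁ ≫ n₃) ≫ h' := (Category.assoc _ _ _).symm
  · -- f' ≫ v' = u' ≫ f''
    calc f' ≫ v' = f' ≫ b ≫ m₃ := by rw [a3]
      _ = (f' ≫ b) ≫ m₃ := (Category.assoc _ _ _).symm
      _ = (u' ≫ n₁) ≫ m₃ := by rw [b1]
      _ = u' ≫ n₁ ≫ m₃ := Category.assoc _ _ _
  · -- g' ≫ w' = v' ≫ g''
    calc g' ≫ p₁ = (b ≫ n₃) ≫ p₁ := by rw [b3]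
      _ = b ≫ n₃ ≫ p₁ := Category.assoc _ _ _
      _ = b ≫ m₃ ≫ g'' := by rw [c1]
      _ = (b ≫ m₃) ≫ g'' := (Category.assoc _ _ _).symm
      _ = v' ≫ g'' := by rw [a3]
  · -- h' ≫ u'⟦1⟧ = w' ≫ h''
    exact c2.symm
  · -- f'' ≫ v'' = u'' ≫ f⟦1⟧
    calc (n₁ ≫ m₃) ≫ v'' = n₁ ≫ m₃ ≫ v'' := Category.assoc _ _ _
      _ = n₁ ≫ c ≫ (shiftFunctor D (1 : ℤ)).map f := by rw [a4]
      _ = (n₁ ≫ c) ≫ (shiftFunctor D (1 : ℤ)).map f := (Category.assoc _ _ _).symm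
      _ = u'' ≫ (shiftFunctor D (1 : ℤ)).map f := by rw [b2]
  · -- g'' ≫ w'' = v'' ≫ g⟦1⟧
    exact c3
  · -- h'' ≫ u''⟦1⟧ = -(w'' ≫ h⟦1⟧)
    calc h'' ≫ (shiftFunctor D (1 : ℤ)).map u''
        = h'' ≫ (shiftFunctor D (1 : ℤ)).map (n₁ ≫ c) := by rw [b2]
      _ = (h'' ≫ (shiftFunctor D (1 : ℤ)).map n₁) ≫ (shiftFunctor D (1 : ℤ)).map c := by
          rw [Functor.map_comp, Category.assoc]
      _ = (p₃ ≫ (-((shiftFunctor D (1 : ℤ)).map m₁))) ≫ (shiftFunctor D (1 : ℤ)).map c := by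
          rw [c4]
      _ = -(p₃ ≫ (shiftFunctor D (1 : ℤ)).map (m₁ ≫ c)) := by
          rw [Functor.map_comp, Preadditive.comp_neg, Preadditive.neg_comp, Category.assoc]
      _ = -(p₃ ≫ (shiftFunctor D (1 : ℤ)).map h) := by rw [a2]

end Groth.Agent.S0983
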