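import Groth.Statements.S0986
import Mathlib
-- import your own Groth.Agent.* helpers here

set_option autoImplicit false
universe v u
open CategoryTheory CategoryTheory.Limits
open DerLim

namespace Groth.Agent.S0986


section helpers

variable {A : Type u} [Category.{v} A] [Abelian A] (X : ℕ → A) (f : ∀ n, X n ⟶ X (n + 1))
  [HasCoproduct X]

/-- the idempotent of `∐ X` killing the summands of index `< n` -/
noncomputable def E (n : ℕ) : ∐ X ⟶ ∐ X :=
  Sigma.desc (fun k => if n ≤ k then Sigma.ι X k else 0)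

lemma ι_E (n k : ℕ) : Sigma.ι X k ≫ E X n = if n ≤ k then Sigma.ι X k else 0 := by
  simp [E]

lemma shiftMap_E (n : ℕ) : shiftMap X f ≫ E X (n + 1) = E X n ≫ shiftMap X f := by
  apply Sigma.hom_ext
  intro k
  simp only [shiftMap, colimit.ι_desc_assoc, Cofan.mk_pt, Cofan.mk_ι_app, Category.assoc, ι_E]
  rw [← Category.assoc, ι_E]
  by_cases h : n ≤ k
  · simp [h]
  · simp [h]

lemma E_zero : E X 0 = 𝟙 _ := by
  apply Sigma.hom_ext
  intro k
  simp [ι_E]

lemma comp_E_of_comp_shiftMap {T : A} (x : T ⟶ ∐ X) (hx : x ≫ (𝟙 _ - shiftMap X f) = 0) (n : ℕ) :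
    x ≫ E X n = x := by
  have hx' : x ≫ shiftMap X f = x := by
    rw [Preadditive.comp_sub, Category.comp_id, sub_eq_zero] at hx
    exact hx.symm
  induction n with
  | zero => rw [E_zero, Category.comp_id]
  | succ n ih =>
    calc x ≫ E X (n + 1) = (x ≫ shiftMap X f) ≫ E X (n + 1) := by rw [hx']
      _ = x ≫ E X n ≫ shiftMap X f := by rw [Category.assoc, shiftMap_E]
      _ = x := by rw [← Category.assoc, ih, hx']

end helpers


section key

variable {A : Type u} [Category.{v} A] [Abelian A] (X : ℕ → A) [HasCoproduct X]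
  [HasColimitsOfShape ℕ A] [HasExactColimitsOfShape ℕ A]

/-- the sequence `∐ X → ∐ X → ⋯` with transition maps `E (n+1)` -/
noncomputable abbrev C : ℕ ⥤ A := Functor.ofSequence (X := fun _ => ∐ X) (fun n => E X (n + 1))

/-- the colimit injections, with source written as `∐ X` -/
noncomputable def cι (n : ℕ) : ∐ X ⟶ colimit (C X) := colimit.ι (C X) n

omit [HasExactColimitsOfShape ℕ A] in
lemma C_w (n : ℕ) : E X (n + 1) ≫ cι X (n + 1) = cι X n := by
  have := colimit.w (C X) (homOfLE (Nat.le_add_right n 1))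
  rw [Functor.ofSequence_map_homOfLE_succ] at this
  exact this

omit [HasExactColimitsOfShape ℕ A] in
lemma ι_colimit_ι_C (d : ℕ) : ∀ (n k : ℕ), k < n + d + 1 →
    Sigma.ι X k ≫ cι X n = 0 := by
  induction d with
  | zero =>
    intro n k hk
    rw [← C_w, ← Category.assoc, ι_E, if_neg (by lia), zero_comp]
  | succ d ih =>
    intro n k hk
    rw [← C_w, ← Category.assoc, ι_E]
    by_cases h : n + 1 ≤ k
    · rw [if_pos h]
      exact ih (n + 1) k (by lia)
    · rw [if_neg h, zero_comp]

omit [HasExactColimitsOfShape ℕ A] in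
lemma colimit_ι_C (n : ℕ) : cι X n = 0 := by
  apply Sigma.hom_ext
  intro k
  rw [comp_zero]
  exact ι_colimit_ι_C X k n k (by lia)

omit [HasExactColimitsOfShape ℕ A] in
lemma isZero_colimit_C : IsZero (colimit (C X)) := by
  rw [IsZero.iff_id_eq_zero]
  apply colimit.hom_ext
  intro n
  show cι X n ≫ _ = cι X n ≫ _
  rw [colimit_ι_C, zero_comp, zero_comp]

lemma isZero_of_mono {T : A} (x : T ⟶ ∐ X) [Mono x] (hx : ∀ n, x ≫ E X n = x) : IsZero T := by
  let ξ : (Functor.const ℕ).obj T ⟶ C X :=
    NatTrans.ofSequence (fun _ => x) (by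
      intro n
      dsimp
      rw [Category.id_comp, Functor.ofSequence_map_homOfLE_succ]
      exact (hx (n + 1)).symm)
  have : Mono ξ := by
    have hmx : Mono x := inferInstance
    have : ∀ n, Mono (ξ.app n) := fun n => hmx
    exact NatTrans.mono_of_mono_app ξ
  have hpres : PreservesFiniteLimits (colim (J := ℕ) (C := A)) :=
    HasExactColimitsOfShape.preservesFiniteLimits
  have hm : Mono (colim.map ξ) := inferInstance
  have hz : IsZero (colim.obj ((Functor.const ℕ).obj T)) :=
    IsZero.of_mono (colim.map ξ) (isZero_colimit_C X)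
  rw [IsZero.iff_id_eq_zero]
  have h1 : colimit.ι ((Functor.const ℕ).obj T) 0 ≫
      colimit.desc ((Functor.const ℕ).obj T) ⟨T, 𝟙 _⟩ = 𝟙 T := by
    simp
  rw [← h1, hz.eq_of_tgt (colimit.ι ((Functor.const ℕ).obj T) 0) 0, zero_comp]

end key

/-- Let A be an abelian category in which colimits of sequences ℕ ⥤ A exist and are exact, and F : ℕ ⥤ A
a sequence whose direct sum ⨁ Fₙ exists. Then the map 1 - shift on ⨁ Fₙ followed by the canonical
map ⨁ Fₙ → colim F is a short exact sequence 0 → ⨁ Fₙ → ⨁ Fₙ → colim F → 0. -/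
theorem result {A : Type u} [Category.{v} A] [Abelian A]
    [HasColimitsOfShape ℕ A] [HasExactColimitsOfShape ℕ A] (F : ℕ ⥤ A) [HasCoproduct F.obj] :
    ∃ w : (𝟙 (∐ F.obj) - DerLim.shiftMap F.obj (fun n => F.map (homOfLE (Nat.le_succ n)))) ≫
        Sigma.desc (fun n => colimit.ι F n) = 0,
      (ShortComplex.mk _ _ w).ShortExact := by
  have w : (𝟙 (∐ F.obj) - DerLim.shiftMap F.obj (fun n => F.map (homOfLE (Nat.le_succ n)))) ≫
      Sigma.desc (fun n => colimit.ι F n) = 0 := by
    apply Sigma.hom_ext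
    intro n
    simp [DerLim.shiftMap, Preadditive.comp_sub, Preadditive.sub_comp]
  refine ⟨w, ?_⟩
  have hmono : Mono (𝟙 (∐ F.obj) -
      DerLim.shiftMap F.obj (fun n => F.map (homOfLE (Nat.le_succ n)))) := by
    apply Preadditive.mono_of_isZero_kernel
    exact isZero_of_mono F.obj (kernel.ι _)
      (fun n => comp_E_of_comp_shiftMap _ _ _ (kernel.condition _) n)
  have hepi : Epi (Sigma.desc (fun n => colimit.ι F n)) :=
    ⟨fun g h hgh => colimit.hom_ext (fun n => by simpa using Sigma.ι _ n ≫= hgh)⟩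
  have hcok : IsColimit (CokernelCofork.ofπ (Sigma.desc (fun n => colimit.ι F n)) w) := by
    refine CokernelCofork.IsColimit.ofπ' _ _ (fun {W} φ hφ => ?_)
    have hφ' : ∀ n : ℕ, F.map (homOfLE (Nat.le_succ n)) ≫ Sigma.ι F.obj (n + 1) ≫ φ =
        Sigma.ι F.obj n ≫ φ := by
      intro n
      have := Sigma.ι F.obj n ≫= hφ
      simp only [DerLim.shiftMap, Preadditive.sub_comp, Preadditive.comp_sub, Category.id_comp,
        comp_zero, colimit.ι_desc_assoc, Cofan.mk_pt, Cofan.mk_ι_app, Category.assoc,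
        sub_eq_zero] at this
      exact this.symm
    let c : Cocone F :=
      { pt := W
        ι := NatTrans.ofSequence (fun n => Sigma.ι F.obj n ≫ φ) (by
          intro n
          dsimp
          rw [Category.comp_id]
          exact hφ' n) }
    refine ⟨colimit.desc F c, ?_⟩
    apply Sigma.hom_ext
    intro n
    simp [c]
  exact { exact := ShortComplex.exact_of_g_is_cokernel _ hcok }

end Groth.Agent.S0986
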