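import Groth.Statements.S0987
import Mathlib
import Groth.Agent.Lib.helper2.KZeroEuler
-- import your own Groth.Agent.* helpers here

set_option autoImplicit false
universe w v u
open CategoryTheory CategoryTheory.Limits
open KZero

namespace Groth.Agent.S0987

/-- For an abelian category A there is an isomorphism between K₀(A) and K₀ of the bounded derived
category D^b(A) (objects of D(A) with bounded cohomology, with the distinguished triangles of D(A))
which sends the class of an object X to the class of X placed in degree 0. -/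
theorem result (A : Type u) [Category.{v} A] [Abelian A] [HasDerivedCategory.{w} A] :
    ∃ φ : KZero.K0 A ≃+ KZero.K0tr (fun X : DerivedCategory A => ∃ a b : ℤ, X.IsGE a ∧ X.IsLE b),
      ∀ X : A, φ (KZero.cl X) =
        KZero.clTr (fun X : DerivedCategory A => ∃ a b : ℤ, X.IsGE a ∧ X.IsLE b) ((DerivedCategory.singleFunctor A 0).obj X) := by
  classical
  let P : ObjectProperty A := ⊤
  have : P.ContainsZero := by
    obtain ⟨Z, hZ⟩ := HasZeroObject.zero (C := A)
    exact ⟨⟨Z, hZ, trivial⟩⟩
  have : P.IsClosedUnderIsomorphisms := ⟨fun _ _ => trivial⟩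
  have : P.IsClosedUnderKernels := ⟨fun _ _ => trivial⟩
  let Q' : ObjectProperty (DerivedCategory A) := fun X => ∃ a b : ℤ, X.IsGE a ∧ X.IsLE b
  change ∃ φ : KZero.K0 A ≃+ KZero.K0tr Q', ∀ X : A, φ (KZero.cl X) =
    KZero.clTr Q' ((DerivedCategory.singleFunctor A 0).obj X)
  have hQ : ∀ K, Groth.Agent.Lib.helper2.KZeroEuler.QP P K → Q' K := fun K h => h.2
  have hQ' : ∀ K, Q' K → Groth.Agent.Lib.helper2.KZeroEuler.QP P K :=
    fun K h => ⟨fun _ => trivial, h⟩
  -- additivity of the class functions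
  have hc : Groth.Agent.Lib.helper2.KZeroEuler.IsAdditive P (KZero.cl (A := A)) := by
    intro S hS h₁ h₂ h₃
    have h0 : (QuotientAddGroup.mk (FreeAbelianGroup.of S.X₂ -
        FreeAbelianGroup.of S.X₁ - FreeAbelianGroup.of S.X₃) : KZero.K0 A) = 0 :=
      (QuotientAddGroup.eq_zero_iff _).2 (AddSubgroup.subset_closure ⟨S, hS, rfl⟩)
    rw [QuotientAddGroup.mk_sub, QuotientAddGroup.mk_sub, sub_sub, sub_eq_zero] at h0
    exact h0
  have hd : Groth.Agent.Lib.helper2.KZeroEuler.IsTriAdditive
      (Groth.Agent.Lib.helper2.KZeroEuler.QP P) (KZero.clTr Q') := by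
    intro T hT h₁ h₂ h₃
    have h₁' := hQ _ h₁
    have h₂' := hQ _ h₂
    have h₃' := hQ _ h₃
    have h0 : (QuotientAddGroup.mk (FreeAbelianGroup.of ⟨T.obj₂, h₂'⟩ -
        FreeAbelianGroup.of ⟨T.obj₁, h₁'⟩ - FreeAbelianGroup.of ⟨T.obj₃, h₃'⟩) :
        KZero.K0tr Q') = 0 :=
      (QuotientAddGroup.eq_zero_iff _).2 (AddSubgroup.subset_closure ⟨T, h₁', h₂', h₃', hT, rfl⟩)
    rw [QuotientAddGroup.mk_sub, QuotientAddGroup.mk_sub, sub_sub, sub_eq_zero] at h0
    simp only [KZero.clTr, dif_pos h₁', dif_pos h₂', dif_pos h₃']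
    exact h0
  have hsingle : ∀ X : A, Q' ((DerivedCategory.singleFunctor A 0).obj X) := fun X =>
    hQ _ (Groth.Agent.Lib.helper2.KZeroEuler.QP_single 0 (trivial : P X))
  -- the map `φ`
  let φ₀ : FreeAbelianGroup A →+ KZero.K0tr Q' :=
    FreeAbelianGroup.lift (fun X : A =>
      KZero.clTr Q' ((DerivedCategory.singleFunctor A 0).obj X))
  have hφ₀ : KZero.relAb A ≤ φ₀.ker := by
    refine (AddSubgroup.closure_le _).2 ?_
    rintro x ⟨S, hS, rfl⟩
    change φ₀ _ = 0
    simp only [map_sub, φ₀, FreeAbelianGroup.lift_apply_of]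
    have := hd _ hS.singleTriangle_distinguished
      (Groth.Agent.Lib.helper2.KZeroEuler.QP_single 0 (trivial : P S.X₁))
      (Groth.Agent.Lib.helper2.KZeroEuler.QP_single 0 (trivial : P S.X₂))
      (Groth.Agent.Lib.helper2.KZeroEuler.QP_single 0 (trivial : P S.X₃))
    change KZero.clTr _ ((DerivedCategory.singleFunctor A 0).obj S.X₂) =
      KZero.clTr _ ((DerivedCategory.singleFunctor A 0).obj S.X₁) +
      KZero.clTr _ ((DerivedCategory.singleFunctor A 0).obj S.X₃) at this
    rw [this]
    abel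
  let φ : KZero.K0 A →+ KZero.K0tr Q' := QuotientAddGroup.lift (KZero.relAb A) φ₀ hφ₀
  have hφ : ∀ (X : A), φ (KZero.cl X) =
      KZero.clTr Q' ((DerivedCategory.singleFunctor A 0).obj X) := by
    intro X
    change φ₀ (FreeAbelianGroup.of X) = _
    simp only [φ₀, FreeAbelianGroup.lift_apply_of]
  -- the map `ψ`
  let ψ₀ : FreeAbelianGroup (Subtype Q') →+ KZero.K0 A :=
    FreeAbelianGroup.lift (fun K : Subtype Q' =>
      Groth.Agent.Lib.helper2.KZeroEuler.chi (KZero.cl (A := A)) K.1)
  have hψ₀ : KZero.relTr Q' ≤ ψ₀.ker := by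
    refine (AddSubgroup.closure_le _).2 ?_
    rintro x ⟨T, h₁, h₂, h₃, hT, rfl⟩
    change ψ₀ _ = 0
    simp only [map_sub, ψ₀, FreeAbelianGroup.lift_apply_of]
    obtain ⟨a₁, b₁, ha₁, hb₁⟩ := h₁
    obtain ⟨a₃, b₃, ha₃, hb₃⟩ := h₃
    have := Groth.Agent.Lib.helper2.KZeroEuler.chi_additive hc T hT
      (fun _ => trivial) (fun _ => trivial) (fun _ => trivial)
      (min a₁ a₃) (max b₁ b₃)
      (fun n hn => by
        obtain hn | hn := hn
        · exact DerivedCategory.isZero_of_isGE T.obj₁ a₁ n (lt_of_lt_of_le hn (min_le_left _ _))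
        · exact DerivedCategory.isZero_of_isLE T.obj₁ b₁ n (lt_of_le_of_lt (le_max_left _ _) hn))
      (fun n hn => by
        obtain hn | hn := hn
        · exact DerivedCategory.isZero_of_isGE T.obj₃ a₃ n (lt_of_lt_of_le hn (min_le_right _ _))
        · exact DerivedCategory.isZero_of_isLE T.obj₃ b₃ n (lt_of_le_of_lt (le_max_right _ _) hn))
    rw [this]
    abel
  let ψ : KZero.K0tr Q' →+ KZero.K0 A := QuotientAddGroup.lift (KZero.relTr Q') ψ₀ hψ₀
  -- `ψ ∘ φ = id`
  have hψφ : ∀ x, ψ (φ x) = x := by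
    intro x
    induction x using QuotientAddGroup.induction_on with
    | H z =>
      induction z using FreeAbelianGroup.induction_on with
      | zero => simp
      | of X =>
        change ψ (φ (KZero.cl X)) = KZero.cl X
        rw [hφ X]
        simp only [KZero.clTr, dif_pos (hsingle X)]
        change ψ₀ (FreeAbelianGroup.of _) = _
        simp only [ψ₀, FreeAbelianGroup.lift_apply_of]
        exact Groth.Agent.Lib.helper2.KZeroEuler.chi_single hc (trivial : P X)
      | neg X ih =>
        rw [QuotientAddGroup.mk_neg, map_neg, map_neg, ih]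
      | add x y hx hy =>
        rw [QuotientAddGroup.mk_add, map_add, map_add, hx, hy]
  -- surjectivity of `φ`
  have hsurj : Function.Surjective φ := by
    intro y
    induction y using QuotientAddGroup.induction_on with
    | H z =>
      induction z using FreeAbelianGroup.induction_on with
      | zero => exact ⟨0, map_zero _⟩
      | of K =>
        have h1 : (QuotientAddGroup.mk (FreeAbelianGroup.of K) : KZero.K0tr Q') =
            KZero.clTr Q' K.1 := by
          simp only [KZero.clTr, dif_pos K.2]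
        rw [h1]
        exact Groth.Agent.Lib.helper2.KZeroEuler.d_mem_of_devissage hd φ.range
          (fun X _ => ⟨KZero.cl X, hφ X⟩) K.1 (hQ' _ K.2)
      | neg X ih =>
        obtain ⟨x, hx⟩ := ih
        exact ⟨-x, by rw [map_neg, hx, QuotientAddGroup.mk_neg]⟩
      | add x y hx hy =>
        obtain ⟨x', hx'⟩ := hx
        obtain ⟨y', hy'⟩ := hy
        exact ⟨x' + y', by rw [map_add, hx', hy', QuotientAddGroup.mk_add]⟩
  have hinj : Function.Injective φ := Function.LeftInverse.injective hψφ
  exact ⟨AddEquiv.ofBijective φ ⟨hinj, hsurj⟩, fun X => hφ X⟩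

end Groth.Agent.S0987
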