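import Groth.Statements.S0989
import Mathlib
-- import your own Groth.Agent.* helpers here

set_option autoImplicit false
universe w v u
open CategoryTheory CategoryTheory.Limits
open CohDer

namespace Groth.Agent.S0989


section helpers

open CategoryTheory.Pretriangulated DerivedCategory

variable {A : Type u} [Category.{v} A] [Abelian A]

/-- retract-closedness of a weak Serre class -/
lemma prop_of_retract (P : ObjectProperty A) (h0 : ∃ Z : A, IsZero Z ∧ P Z)
    (hP : ∀ S : ComposableArrows A 4, S.Exact → P (S.obj 0) → P (S.obj 1) → P (S.obj 3) →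
      P (S.obj 4) → P (S.obj 2)) {X Y : A} (r : Retract X Y) (hY : P Y) : P X := by
  obtain ⟨Z, hZ, hPZ⟩ := h0
  have w1 : (𝟙 Y - r.r ≫ r.i) ≫ r.r = 0 := by simp [Preadditive.sub_comp]
  have e1 : (ShortComplex.mk (𝟙 Y - r.r ≫ r.i) r.r w1).Exact := by
    rw [ShortComplex.exact_iff_exact_up_to_refinements]
    intro B x₂ hx₂
    dsimp at x₂ hx₂
    refine ⟨B, 𝟙 B, inferInstance, x₂, ?_⟩
    dsimp
    rw [Preadditive.comp_sub, ← Category.assoc, hx₂]
    simp
  have e2 : (ShortComplex.mk r.r (0 : X ⟶ Z) comp_zero).Exact := by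
    rw [ShortComplex.exact_iff_epi _ rfl]
    dsimp
    exact (IsSplitEpi.mk' ⟨r.i, r.retract⟩ : IsSplitEpi r.r).epi
  have e3 : (ShortComplex.mk (0 : X ⟶ Z) (0 : Z ⟶ Z) comp_zero).Exact :=
    ShortComplex.exact_of_isZero_X₂ _ hZ
  have hS : (ComposableArrows.mk₄ (𝟙 Y - r.r ≫ r.i) r.r (0 : X ⟶ Z) (0 : Z ⟶ Z)).Exact :=
    ComposableArrows.exact_of_δ₀ e1.exact_toComposableArrows
      (ComposableArrows.exact_of_δ₀ e2.exact_toComposableArrows e3.exact_toComposableArrows)
  exact hP _ hS hY hY hPZ hPZ


/-- two-out-of-three (middle) for the cohomology property -/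
lemma prop_ext₂ [HasDerivedCategory.{w} A] (P : ObjectProperty A)
    (hP : ∀ S : ComposableArrows A 4, S.Exact → P (S.obj 0) → P (S.obj 1) → P (S.obj 3) →
      P (S.obj 4) → P (S.obj 2)) (T : Triangle (DerivedCategory A)) (hT : T ∈ distTriang _)
    (h₁ : ∀ n : ℤ, P ((homologyFunctor A n).obj T.obj₁))
    (h₃ : ∀ n : ℤ, P ((homologyFunctor A n).obj T.obj₃)) (n : ℤ) :
    P ((homologyFunctor A n).obj T.obj₂) := by
  have hS : (ComposableArrows.mk₄ (HomologySequence.δ T (n - 1) n (by lia))
      ((homologyFunctor A n).map T.mor₁) ((homologyFunctor A n).map T.mor₂)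
      (HomologySequence.δ T n (n + 1) rfl)).Exact :=
    ComposableArrows.exact_of_δ₀
      (HomologySequence.exact₁ T hT (n - 1) n (by lia)).exact_toComposableArrows
      (ComposableArrows.exact_of_δ₀ (HomologySequence.exact₂ T hT n).exact_toComposableArrows
        (HomologySequence.exact₃ T hT n (n + 1) rfl).exact_toComposableArrows)
  exact hP _ hS (h₃ _) (h₁ _) (h₃ _) (h₁ _)

end helpers

/-- Let P be a weak Serre class in an abelian category A: P is closed under isomorphisms, holds for a
zero object, and whenever X₀ → X₁ → X₂ → X₃ → X₄ is exact with P holding for X₀, X₁, X₃, X₄ it holds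
for X₂. Then the class of objects of the derived category all of whose cohomology objects satisfy P
is a triangulated subcategory (contains zero, stable under shifts, closed under extensions) which is
moreover closed under retracts (saturated). -/
theorem result {A : Type u} [Category.{v} A] [Abelian A] [HasDerivedCategory.{w} A]
    (P : ObjectProperty A) [P.IsClosedUnderIsomorphisms] (h0 : ∃ Z : A, IsZero Z ∧ P Z)
    (hP : ∀ S : ComposableArrows A 4, S.Exact → P (S.obj 0) → P (S.obj 1) → P (S.obj 3) → P (S.obj 4) → P (S.obj 2)) :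
    ObjectProperty.IsTriangulated (fun X : DerivedCategory A => ∀ n : ℤ, P ((DerivedCategory.homologyFunctor A n).obj X)) ∧
    ObjectProperty.IsStableUnderRetracts (fun X : DerivedCategory A => ∀ n : ℤ, P ((DerivedCategory.homologyFunctor A n).obj X)) := by
  have hret : ∀ {X Y : A}, Retract X Y → P Y → P X := fun r hY => prop_of_retract P h0 hP r hY
  refine ⟨?_, ?_⟩
  · have hzero : ObjectProperty.ContainsZero
        (fun X : DerivedCategory A => ∀ n : ℤ, P ((DerivedCategory.homologyFunctor A n).obj X)) := by
      obtain ⟨Z0, hZ0⟩ := (inferInstance : Limits.HasZeroObject (DerivedCategory A))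
      refine ⟨⟨Z0, hZ0, fun n => ?_⟩⟩
      obtain ⟨Z, hZ, hPZ⟩ := h0
      have : IsZero ((DerivedCategory.homologyFunctor A n).obj Z0) :=
        Functor.map_isZero _ hZ0
      exact P.prop_of_iso (hZ.iso this) hPZ
    have hshift : ObjectProperty.IsStableUnderShift
        (fun X : DerivedCategory A => ∀ n : ℤ, P ((DerivedCategory.homologyFunctor A n).obj X)) ℤ := by
      refine ⟨fun a => ⟨fun X hX n => ?_⟩⟩
      exact P.prop_of_iso
        (((DerivedCategory.homologyFunctor A 0).shiftIso a n (a + n) rfl).app X).symm (hX (a + n))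
    have hiso : ObjectProperty.IsClosedUnderIsomorphisms
        (fun X : DerivedCategory A => ∀ n : ℤ, P ((DerivedCategory.homologyFunctor A n).obj X)) :=
      ⟨fun e hX n => P.prop_of_iso ((DerivedCategory.homologyFunctor A n).mapIso e) (hX n)⟩
    have hext : ObjectProperty.IsTriangulatedClosed₂
        (fun X : DerivedCategory A => ∀ n : ℤ, P ((DerivedCategory.homologyFunctor A n).obj X)) :=
      ObjectProperty.IsTriangulatedClosed₂.mk' (fun T hT h₁ h₃ n => prop_ext₂ P hP T hT h₁ h₃ n)
    exact { toContainsZero := hzero, toIsStableUnderShift := hshift, toIsTriangulatedClosed₂ := hext }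
  · refine ⟨fun {X Y} r hY n => ?_⟩
    exact hret (r.map (DerivedCategory.homologyFunctor A n)) (hY n)

end Groth.Agent.S0989
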