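import Groth.Statements.S0992
import Mathlib
-- import your own Groth.Agent.* helpers here

set_option autoImplicit false
universe w
open CategoryTheory CategoryTheory.Limits Opposite
open CohDer

namespace Groth.Agent.S0992

section core

set_option linter.unusedSectionVars false
set_option linter.unusedVariables false

variable {I : Type*} [LinearOrder I] [WellFoundedLT I]
  {G : I → ℤ → Type*} [∀ β n, AddCommGroup (G β n)]
  (d : ∀ β (i j : ℤ), G β i →+ G β j)
  (ρ : ∀ (γ β : I), γ ≤ β → ∀ n, G β n →+ G γ n)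

/-- compatibility of a partial family -/
def Compat (S : I → Prop) (n : ℤ) (x : ∀ γ, S γ → G γ n) : Prop :=
  ∀ γ γ' (h : γ ≤ γ') (h' : S γ') (hγ : S γ), ρ γ γ' h n (x γ' h') = x γ hγ

/-- the extension property at level `β` -/
def PropA (β : I) : Prop :=
  ∀ (i j k : ℤ), i + 1 = j → j + 1 = k → ∀ (zβ : G β j), d β j k zβ = 0 →
    ∀ (w : ∀ γ, γ < β → G γ i), Compat ρ (· < β) i w →
      (∀ γ (h : γ < β), d γ i j (w γ h) = ρ γ β h.le j zβ) →
      ∃ y : G β i, d β i j y = zβ ∧ ∀ γ (h : γ < β), ρ γ β h.le i y = w γ h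

variable (ρ_id : ∀ β n (x : G β n), ρ β β le_rfl n x = x)
  (ρ_comp : ∀ (γ₁ γ₂ γ₃ : I) (h₁ : γ₁ ≤ γ₂) (h₂ : γ₂ ≤ γ₃) n (x : G γ₃ n),
    ρ γ₁ γ₂ h₁ n (ρ γ₂ γ₃ h₂ n x) = ρ γ₁ γ₃ (h₁.trans h₂) n x)
  (ρ_d : ∀ (γ β : I) (h : γ ≤ β) i j (x : G β i), ρ γ β h j (d β i j x) = d γ i j (ρ γ β h i x))
  (dd : ∀ β i j k (x : G β i), d β j k (d β i j x) = 0)
  (exact : ∀ β (i j k : ℤ), i + 1 = j → j + 1 = k → ∀ x : G β j, d β j k x = 0 →
    ∃ y : G β i, d β i j y = x)
  (surj : ∀ β n (x : ∀ γ, γ < β → G γ n), Compat ρ (· < β) n x →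
    ∃ y : G β n, ∀ γ (h : γ < β), ρ γ β h.le n y = x γ h)

include ρ_id in
/-- solving `d t = v` compatibly over a lower set, given the extension property on it -/
lemma propB (S : I → Prop) (hS : ∀ γ γ', γ ≤ γ' → S γ' → S γ) (hA : ∀ γ, S γ → PropA d ρ γ)
    (i j k : ℤ) (hij : i + 1 = j) (hjk : j + 1 = k) (v : ∀ γ, S γ → G γ j)
    (hv : Compat ρ S j v) (hcyc : ∀ γ h, d γ j k (v γ h) = 0) :
    ∃ t : ∀ γ, S γ → G γ i, Compat ρ S i t ∧ ∀ γ h, d γ i j (t γ h) = v γ h := by
  classical
  let F : ∀ γ, (∀ γ', γ' < γ → G γ' i) → G γ i := fun γ prev =>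
    if hγ : S γ then
      if good : Compat ρ (· < γ) i prev ∧
          ∀ γ' (h' : γ' < γ), d γ' i j (prev γ' h') = ρ γ' γ h'.le j (v γ hγ) then
        Classical.choose (hA γ hγ i j k hij hjk (v γ hγ) (hcyc γ hγ) prev good.1 good.2)
      else 0
    else 0
  let T : ∀ γ, G γ i := WellFounded.fix (wellFounded_lt (α := I)) F
  have T_eq : ∀ γ, T γ = F γ (fun γ' _ => T γ') := fun γ =>
    WellFounded.fix_eq (wellFounded_lt (α := I)) F γ
  have key : ∀ γ (hγ : S γ), d γ i j (T γ) = v γ hγ ∧
      ∀ γ' (h' : γ' < γ), ρ γ' γ h'.le i (T γ) = T γ' := by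
    intro γ
    induction γ using WellFoundedLT.induction with
    | ind γ ih =>
      intro hγ
      have good : Compat ρ (· < γ) i (fun γ' _ => T γ') ∧
          ∀ γ' (h' : γ' < γ), d γ' i j (T γ') = ρ γ' γ h'.le j (v γ hγ) := by
        constructor
        · intro γ₁ γ₂ h12 h2 h1
          rcases eq_or_lt_of_le h12 with h | h
          · subst h
            exact ρ_id _ _ _
          · exact (ih γ₂ h2 (hS _ _ h2.le hγ)).2 γ₁ h
        · intro γ' h'
          rw [(ih γ' h' (hS _ _ h'.le hγ)).1]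
          exact (hv γ' γ h'.le hγ _).symm
      have hT : T γ = Classical.choose
          (hA γ hγ i j k hij hjk (v γ hγ) (hcyc γ hγ) (fun γ' _ => T γ') good.1 good.2) := by
        rw [T_eq γ]
        simp only [F, dif_pos hγ, dif_pos good]
      have hspec := Classical.choose_spec
          (hA γ hγ i j k hij hjk (v γ hγ) (hcyc γ hγ) (fun γ' _ => T γ') good.1 good.2)
      rw [← hT] at hspec
      exact hspec
  refine ⟨fun γ _ => T γ, ?_, fun γ h => (key γ h).1⟩
  intro γ γ' h h' hγ
  rcases eq_or_lt_of_le h with h0 | h0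
  · subst h0
    exact ρ_id _ _ _
  · exact (key γ' h').2 γ h0

include ρ_id ρ_comp ρ_d dd exact surj in
lemma propA_all (β : I) : PropA d ρ β := by
  induction β using WellFoundedLT.induction with
  | ind β ih =>
    intro i j k hij hjk zβ hz w hw hdw
    -- lift w
    obtain ⟨y₀, hy₀⟩ := surj β i w hw
    -- u := zβ - d y₀
    have hu_cyc : d β j k (zβ - d β i j y₀) = 0 := by
      rw [map_sub, hz, dd, sub_zero]
    obtain ⟨v₀, hv₀⟩ := exact β i j k hij hjk _ hu_cyc
    have hρu : ∀ γ (h : γ < β), ρ γ β h.le j (zβ - d β i j y₀) = 0 := by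
      intro γ h
      rw [map_sub, ρ_d, hy₀ γ h, hdw γ h, sub_self]
    -- the family v γ := ρ v₀, cycles in degree i
    have hvc : Compat ρ (· < β) i (fun γ (h : γ < β) => ρ γ β h.le i v₀) := by
      intro γ γ' h h' hγ
      exact ρ_comp _ _ _ _ _ _ _
    have hvcyc : ∀ γ (h : γ < β), d γ i j (ρ γ β h.le i v₀) = 0 := by
      intro γ h
      rw [← ρ_d, hv₀, hρu γ h]
    obtain ⟨t, ht, hdt⟩ := propB d ρ ρ_id (fun γ => γ < β) (fun γ γ' h h' => lt_of_le_of_lt h h')
      (fun γ h => ih γ h) (i - 1) i j (by ring) hij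
      (fun γ (h : γ < β) => ρ γ β h.le i v₀) hvc hvcyc
    obtain ⟨t₀, ht₀⟩ := surj β (i - 1) t ht
    refine ⟨y₀ + v₀ - d β (i - 1) i t₀, ?_, ?_⟩
    · rw [map_sub, map_add, hv₀, dd, sub_zero]
      abel
    · intro γ h
      rw [map_sub, map_add, hy₀ γ h, ρ_d, ht₀ γ h, hdt γ h]
      abel

end core

/-- Let I be a well-ordered type and K : Iᵒᵖ ⥤ CochainComplex Ab an inverse system of acyclic complexes
of abelian groups such that for every β and every degree n, each family of elements of the Kⁿ_γ (γ <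
β) compatible under the transition maps lifts to an element of Kⁿ_β (i.e. Kⁿ_β → lim_{γ<β} Kⁿ_γ is
surjective). Then the limit complex lim K is acyclic. -/
theorem result {I : Type w} [LinearOrder I] [WellFoundedLT I]
    (K : Iᵒᵖ ⥤ CochainComplex AddCommGrpCat.{w} ℤ)
    (hac : ∀ (β : I) (n : ℤ), (K.obj (op β)).ExactAt n)
    (hsurj : ∀ (β : I) (n : ℤ) (x : ∀ γ : {γ : I // γ < β}, (K.obj (op γ.1)).X n),
      (∀ (γ γ' : {γ : I // γ < β}) (h : γ.1 ≤ γ'.1), ((K.map (homOfLE h).op).f n).hom (x γ') = x γ) →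
      ∃ y : (K.obj (op β)).X n, ∀ γ : {γ : I // γ < β}, ((K.map (homOfLE γ.2.le).op).f n).hom y = x γ)
    (n : ℤ) : (limit K).ExactAt n := by
  classical
  -- basic facts about the transition maps
  have hmapid : ∀ β : I, K.map (homOfLE (le_refl β)).op = 𝟙 _ := by
    intro β
    rw [← K.map_id]; rfl
  have hmapcomp : ∀ (γ₁ γ₂ γ₃ : I) (h₁ : γ₁ ≤ γ₂) (h₂ : γ₂ ≤ γ₃),
      K.map (homOfLE h₂).op ≫ K.map (homOfLE h₁).op = K.map (homOfLE (h₁.trans h₂)).op := by
    intro γ₁ γ₂ γ₃ h₁ h₂
    rw [← K.map_comp]; rfl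
  -- the core statement
  have core := fun (i j k : ℤ) (hij : i + 1 = j) (hjk : j + 1 = k) =>
    propB (I := I) (G := fun β n => ((K.obj (op β)).X n : Type w))
      (fun β i j => ((K.obj (op β)).d i j).hom)
      (fun γ β h n => ((K.map (homOfLE h).op).f n).hom)
      (by
        intro β n x
        change ((K.map (homOfLE (le_refl β)).op).f n).hom x = x
        rw [hmapid]; rfl)
      (fun _ => True) (fun _ _ _ _ => trivial)
      (fun γ _ => propA_all (I := I) (G := fun β n => ((K.obj (op β)).X n : Type w))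
        (fun β i j => ((K.obj (op β)).d i j).hom)
        (fun γ β h n => ((K.map (homOfLE h).op).f n).hom)
        (by
          intro β n x
          change ((K.map (homOfLE (le_refl β)).op).f n).hom x = x
          rw [hmapid]; rfl)
        (by
          intro γ₁ γ₂ γ₃ h₁ h₂ n x
          change ((K.map (homOfLE h₁).op).f n).hom (((K.map (homOfLE h₂).op).f n).hom x) =
            ((K.map (homOfLE (h₁.trans h₂)).op).f n).hom x
          rw [← hmapcomp γ₁ γ₂ γ₃ h₁ h₂]; rfl)
        (by
          intro γ β h i j x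
          change ((K.map (homOfLE h).op).f j).hom (((K.obj (op β)).d i j).hom x) =
            ((K.obj (op γ)).d i j).hom (((K.map (homOfLE h).op).f i).hom x)
          have := (K.map (homOfLE h).op).comm i j
          exact (congrArg (fun φ => φ.hom x) this).symm)
        (by
          intro β i j k x
          change ((K.obj (op β)).d j k).hom (((K.obj (op β)).d i j).hom x) = 0
          have := (K.obj (op β)).d_comp_d i j k
          exact congrArg (fun φ => φ.hom x) this)
        (by
          intro β i j k hij hjk x hx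
          have hex := hac β j
          rw [HomologicalComplex.exactAt_iff' _ i j k (by simp [← hij]) (by simp [← hjk]),
            ShortComplex.ab_exact_iff] at hex
          exact hex x hx)
        (by
          intro β n x hx
          obtain ⟨y, hy⟩ := hsurj β n (fun γ => x γ.1 γ.2) (by
            intro γ γ' h
            exact hx γ.1 γ'.1 h γ'.2 γ.2)
          exact ⟨y, fun γ h => hy ⟨γ, h⟩⟩)
        γ)
      i j k hij hjk
  rw [HomologicalComplex.exactAt_iff' _ (n - 1) n (n + 1) (by simp) (by simp),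
    ShortComplex.ab_exact_iff]
  intro x₂ hx₂
  change ((limit K).d n (n + 1)).hom x₂ = 0 at hx₂
  -- the family of projections
  obtain ⟨t, htc, htd⟩ := core (n - 1) n (n + 1) (by ring) rfl
    (fun β _ => ((limit.π K (op β)).f n).hom x₂)
    (by
      intro γ γ' h _ _
      change ((K.map (homOfLE h).op).f n).hom (((limit.π K (op γ')).f n).hom x₂) =
        ((limit.π K (op γ)).f n).hom x₂
      rw [← limit.w K (homOfLE h).op]; rfl)
    (by
      intro β _
      change ((K.obj (op β)).d n (n + 1)).hom (((limit.π K (op β)).f n).hom x₂) = 0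
      have := (limit.π K (op β)).comm n (n + 1)
      have h2 := congrArg (fun φ => φ.hom x₂) this
      rw [AddCommGrpCat.hom_comp, AddCommGrpCat.hom_comp] at h2
      simp only [AddMonoidHom.coe_comp, Function.comp_apply] at h2
      rw [h2, hx₂, map_zero])
  -- limit cone in types
  have hlim : ∀ m : ℤ, Nonempty (IsLimit
      ((HomologicalComplex.eval _ (ComplexShape.up ℤ) m ⋙ forget AddCommGrpCat.{w}).mapCone
        (limit.cone K))) :=
    fun m => ⟨isLimitOfPreserves _ (limit.isLimit K)⟩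
  have hlim' := fun m => (Types.isLimit_iff _).1 (hlim m)
  -- lift t
  obtain ⟨x₁, hx₁, -⟩ := hlim' (n - 1) (fun j => t j.unop trivial) (by
    intro j j' f
    have h : j'.unop ≤ j.unop := leOfHom f.unop
    have hf : f = (homOfLE h).op := by
      apply Quiver.Hom.unop_inj
      apply Subsingleton.elim
    subst hf
    exact htc j'.unop j.unop h trivial trivial)
  refine ⟨x₁, ?_⟩
  -- compare via uniqueness
  obtain ⟨y, -, hyu⟩ := hlim' n (fun j => ((limit.π K j).f n).hom x₂) (by
    intro j j' f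
    change ((K.map f).f n).hom (((limit.π K j).f n).hom x₂) = ((limit.π K j').f n).hom x₂
    rw [← limit.w K f]; rfl)
  have e1 := hyu x₂ (fun j => rfl)
  have e2 := hyu (((limit K).d (n - 1) n).hom x₁) (by
    intro j
    change ((limit.π K j).f n).hom (((limit K).d (n - 1) n).hom x₁) = ((limit.π K j).f n).hom x₂
    have hc := (limit.π K j).comm (n - 1) n
    have h2 := congrArg (fun φ => φ.hom x₁) hc
    rw [AddCommGrpCat.hom_comp, AddCommGrpCat.hom_comp] at h2
    simp only [AddMonoidHom.coe_comp, Function.comp_apply] at h2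
    rw [← h2]
    have h3 := hx₁ j
    change ((limit.π K j).f (n - 1)).hom x₁ = t j.unop trivial at h3
    rw [h3]
    exact htd j.unop trivial)
  exact e2.trans e1.symm

end Groth.Agent.S0992
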