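import Groth.Statements.S10093
import Groth.Agent.Lib.helper15.AlgSpRepBySp

set_option autoImplicit false
universe u
open CategoryTheory CategoryTheory.Limits AlgebraicGeometry
open AlgSp

namespace Groth.Agent.S10093

/-- The composition of two maps of presheaves of sets on schemes over `S` which are representable by
algebraic spaces is representable by algebraic spaces. -/
theorem result (S : Scheme.{u}) (F G H : AlgSp.PSp S) (a : F ⟶ G) (b : G ⟶ H)
    (ha : AlgSp.RepBySp a) (hb : AlgSp.RepBySp b) : AlgSp.RepBySp (a ≫ b) := by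
  intro U ζ F' k1 k2 sq
  have hG' : AlgSp.IsAlgSpaceP (pullback b ζ) :=
    hb ζ (pullback.fst b ζ) (pullback.snd b ζ) (IsPullback.of_hasPullback b ζ)
  let l : F' ⟶ pullback b ζ := pullback.lift (k1 ≫ a) k2 (by rw [Category.assoc]; exact sq.w)
  have hl2 : l ≫ pullback.snd b ζ = k2 := pullback.lift_snd _ _ _
  have hl1 : l ≫ pullback.fst b ζ = k1 ≫ a := pullback.lift_fst _ _ _
  have s : IsPullback (l ≫ pullback.snd b ζ) k1 ζ (a ≫ b) := by
    rw [hl2]; exact sq.flip
  have sqL : IsPullback l k1 (pullback.fst b ζ) a :=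
    IsPullback.of_right s hl1 (IsPullback.of_hasPullback b ζ).flip
  have hl : AlgSp.RepBySp l := Groth.Agent.Lib.H15.AS.repBySp_of_isPullback sqL.flip ha
  exact Groth.Agent.Lib.H15.AS.isAlgSpaceP_of_repBySp l hl hG'

end Groth.Agent.S10093
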