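import Groth.Statements.S10107
import Groth.Agent.Lib.helper15.AlgSpQuot2
import Groth.Agent.Lib.helper15.AlgSpFpqcLocal
import Groth.Agent.Lib.helper15.AlgSpFpqcCov2
import Groth.Agent.Lib.helper15.AlgSpSeven
import Groth.Agent.Lib.helper15.AlgSpEtale2
import Groth.Agent.Lib.helper15.AlgSpFinite
import Groth.Agent.Lib.helper15.AlgSpOpenSub3

set_option autoImplicit false
universe u
open CategoryTheory CategoryTheory.Limits AlgebraicGeometry
open AlgSp
open Groth.Agent.Lib.H15.Quot Groth.Agent.Lib.H15.AS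

namespace Groth.Agent.S10107

theorem locP_yon_map_comp_etale {S : Scheme.{u}} {P : MorphismProperty Scheme.{u}} (hP : GoodP P)
    {F : AlgSp.Sp S} {T' V : Over S} (f : T' ⟶ V) (b : (AlgSp.yon S).obj V ⟶ F) (hf : P f.left)
    (hb : AlgSp.RepWith @Etale b) : AlgSp.LocP P ((AlgSp.yon S).map f ≫ b) := by
  have := hP.mul
  have := hP.bc
  have hb' : AlgSp.RepWith P b := repWith_mono (fun _ _ e he => hP.etale_le e he) hb
  exact locP_of_repWith P
    (fun A B C e p he hp => MorphismProperty.comp_mem _ _ _ (hP.etale_le e he) hp)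
    (repWith_yon_map_comp P f b hf hb')

theorem main (S : Scheme.{u}) (R U : AlgSp.Sp S)
    (hR : AlgSp.IsAlgSpace R) (hU : AlgSp.IsAlgSpace U) (s t : R ⟶ U) (hj : AlgSp.IsEqvRelSp s t)
    (hF : AlgSp.IsAlgSpace (AlgSp.quotSp s t)) {Q : MorphismProperty Scheme.{u}} (hQ : GoodP Q)
    [IsZariskiLocalAtTarget Q] [IsZariskiLocalAtSource Q]
    [Q.DescendsAlong (@Surjective ⊓ @Flat ⊓ @QuasiCompact)]
    (hs : AlgSp.LocP Q s) : AlgSp.LocP Q (AlgSp.quotSpπ s t) := by
  haveI : Epi (AlgSp.quotSpπ s t) := epi_quotSpπ s t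
  haveI := isIso_lift_kernelPair s t hj
  -- the second projection of the kernel pair has `Q`
  have hsnd : AlgSp.LocP Q (pullback.snd (AlgSp.quotSpπ s t) (AlgSp.quotSpπ s t)) := by
    have e : pullback.snd (AlgSp.quotSpπ s t) (AlgSp.quotSpπ s t) =
        (asIso (pullback.lift t s (AlgSp.quotSp_condition s t).symm :
          R ⟶ pullback (AlgSp.quotSpπ s t) (AlgSp.quotSpπ s t))).symm.hom ≫ s := by
      change _ = inv _ ≫ s
      rw [IsIso.eq_inv_comp, pullback.lift_snd]
    rw [e]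
    exact locP_iso_comp Q _ hs
  have hK : AlgSp.IsAlgSpace (pullback (AlgSp.quotSpπ s t) (AlgSp.quotSpπ s t)) :=
    isAlgSpace_of_isPullback hF.diag hU hU (IsPullback.of_hasPullback _ _)
  obtain ⟨V, b, hbe, hbs⟩ := hF.atlas
  obtain ⟨Sv, hSv, hl⟩ := exists_cover_lift (AlgSp.quotSpπ s t) b
  have hx : ∀ v : ↥V.left, ∃ (T' : Over S) (f : T' ⟶ V) (a : (AlgSp.yon S).obj T' ⟶ U),
      Flat f.left ∧ LocallyOfFinitePresentation f.left ∧ v ∈ Set.range f.left ∧
        a ≫ AlgSp.quotSpπ s t = (AlgSp.yon S).map f ≫ b := by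
    intro v
    obtain ⟨T', f, hf, h1, h2, h3⟩ := exists_mem_of_mem_J Sv hSv v
    obtain ⟨a, ha⟩ := hl f hf
    exact ⟨T', f, a, h1, h2, h3, ha⟩
  choose T' f a hfl hlfp hv ha using hx
  have hYi : ∀ v : ↥V.left, AlgSp.IsAlgSpace ((AlgSp.yon S).obj (T' v)) := fun v =>
    AlgSp.IsAlgSpace.yon_obj _
  have hfppf : AlgSp.IsFppfCover (fun v : ↥V.left => (AlgSp.yon S).obj (T' v))
      (fun v => a v ≫ AlgSp.quotSpπ s t) := by
    refine ⟨fun v => ?_, fun y => ?_⟩
    · show AlgSp.LocP @Flat (a v ≫ AlgSp.quotSpπ s t) ∧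
        AlgSp.LocP @LocallyOfFinitePresentation (a v ≫ AlgSp.quotSpπ s t)
      rw [ha v]
      exact ⟨locP_yon_map_comp_etale goodP_flat (f v) b (hfl v) hbe,
        locP_yon_map_comp_etale goodP_lfp (f v) b (hlfp v) hbe⟩
    · obtain ⟨v, rfl⟩ := surjective_ofPt b hbs y
      obtain ⟨t', ht'⟩ := hv v
      refine ⟨v, ?_⟩
      show _ ∈ Set.range (AlgSp.Points.map (a v ≫ AlgSp.quotSpπ s t))
      rw [ha v, range_map_eq_range_ofPt]
      exact ⟨t', by rw [ofPt_yon_map_comp, ht']⟩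
  have hfpqc := isFpqcCover_of_isFppfCover hF _ hYi _ hfppf
  have key := isLocalOnBase_fpqc_locP hQ (fun v : ↥V.left => (AlgSp.yon S).obj (T' v))
    (fun v => a v ≫ AlgSp.quotSpπ s t) hF hYi hfpqc (AlgSp.quotSpπ s t) hU
    (fun v => pullback (pullback.snd (AlgSp.quotSpπ s t) (AlgSp.quotSpπ s t)) (a v))
    (fun v => pullback.snd _ _) (fun v => pullback.fst _ _ ≫ pullback.fst _ _)
    (fun v => isAlgSpace_of_isPullback hU.diag hK (hYi v) (IsPullback.of_hasPullback _ _))
    (fun v => (IsPullback.of_hasPullback (pullback.snd (AlgSp.quotSpπ s t) (AlgSp.quotSpπ s t))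
      (a v)).paste_horiz (IsPullback.of_hasPullback (AlgSp.quotSpπ s t) (AlgSp.quotSpπ s t)))
  refine key.2 fun v => ?_
  exact locP_of_isPullback_gen hQ hK hU (hYi v) (IsPullback.of_hasPullback _ _) hsnd

/-- Let `F = U/R` be an algebraic space which is the fppf quotient of a groupoid in algebraic spaces
`(U, R, s, t, c)` over `S` with `s, t` flat and locally of finite presentation and `j = (t, s)` an
equivalence relation (equivalently, the composition being determined by it, of an equivalence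
relation `s, t : R ⟶ U` of algebraic spaces with these properties). Then `U ⟶ F` is surjective, flat
and locally of finite presentation. -/
theorem result (S : Scheme.{u}) (R U : AlgSp.Sp S)
    (hR : AlgSp.IsAlgSpace R) (hU : AlgSp.IsAlgSpace U) (s t : R ⟶ U) (hj : AlgSp.IsEqvRelSp s t)
    (hs : AlgSp.LocP @Flat s ∧ AlgSp.LocP @LocallyOfFinitePresentation s)
    (ht : AlgSp.LocP @Flat t ∧ AlgSp.LocP @LocallyOfFinitePresentation t)
    (hF : AlgSp.IsAlgSpace (AlgSp.quotSp s t)) :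
    AlgSp.IsSurjectiveMor (AlgSp.quotSpπ s t) ∧ AlgSp.LocP @Flat (AlgSp.quotSpπ s t) ∧
      AlgSp.LocP @LocallyOfFinitePresentation (AlgSp.quotSpπ s t) := by
  haveI : Epi (AlgSp.quotSpπ s t) := epi_quotSpπ s t
  refine ⟨isSurjectiveMor_of_epi _, ?_, ?_⟩
  · exact main S R U hR hU s t hj hF goodP_flat hs.1
  · exact main S R U hR hU s t hj hF goodP_lfp hs.2

end Groth.Agent.S10107
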