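import Groth.Statements.S10114
import Groth.Agent.Lib.helper15.AlgSpQuot

set_option autoImplicit false
universe u
open CategoryTheory CategoryTheory.Limits AlgebraicGeometry
open AlgSp
open Groth.Agent.Lib.H15.Quot

namespace Groth.Agent.S10114

/-- Let `s, t : R ⟶ U` be a pre-equivalence relation of algebraic spaces, `g : U' ⟶ U` a morphism of
algebraic spaces and `s', t' : R' ⟶ U'` the restriction of the pre-relation along `g` (so `R' = (U'
× U') ×_{U × U} R`). Then the induced map of quotient sheaves `U'/R' ⟶ U/R` is injective, and it is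
an isomorphism when `g` is a surjection of sheaves. -/
theorem result (S : Scheme.{u}) (R U R' U' : AlgSp.Sp S)
    (hR : AlgSp.IsAlgSpace R) (hU : AlgSp.IsAlgSpace U) (hR' : AlgSp.IsAlgSpace R') (hU' : AlgSp.IsAlgSpace U')
    (s t : R ⟶ U) (hpre : AlgSp.IsPreEqvRelSp s t) (g : U' ⟶ U) (s' t' : R' ⟶ U') (r : R' ⟶ R)
    (hsq : IsPullback (prod.lift t' s') r (prod.map g g) (prod.lift t s))
    (ψ : AlgSp.quotSp s' t' ⟶ AlgSp.quotSp s t) (hψ : AlgSp.quotSpπ s' t' ≫ ψ = g ≫ AlgSp.quotSpπ s t) :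
    Mono ψ ∧ (Epi g → IsIso ψ) := by
  have hmono : Mono ψ := by
    refine mono_of_epi_of_forall (AlgSp.quotSpπ s' t') ψ fun T a b hab => ?_
    have h1 : (a ≫ g) ≫ AlgSp.quotSpπ s t = (b ≫ g) ≫ AlgSp.quotSpπ s t := by
      rw [Category.assoc, Category.assoc, ← hψ]; exact hab
    obtain ⟨Sv, hSv, hrel⟩ := exists_cover_rel s t hpre (a ≫ g) (b ≫ g) h1
    refine eq_of_locally_eq _ _ Sv hSv fun T' f hf => ?_
    obtain ⟨r₀, hr1, hr2⟩ := hrel f hf
    have hcompat : prod.lift ((AlgSp.yon S).map f ≫ a) ((AlgSp.yon S).map f ≫ b) ≫ prod.map g g =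
        r₀ ≫ prod.lift t s := by
      apply prod.hom_ext
      · simp only [Category.assoc, prod.map_fst, prod.lift_fst_assoc, prod.lift_fst]; exact hr1.symm
      · simp only [Category.assoc, prod.map_snd, prod.lift_snd_assoc, prod.lift_snd]; exact hr2.symm
    have hl1 := hsq.lift_fst _ _ hcompat
    have e1 : hsq.lift _ _ hcompat ≫ t' = (AlgSp.yon S).map f ≫ a := by
      have := congrArg (fun k => k ≫ prod.fst) hl1
      simpa only [Category.assoc, prod.lift_fst] using this
    have e2 : hsq.lift _ _ hcompat ≫ s' = (AlgSp.yon S).map f ≫ b := by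
      have := congrArg (fun k => k ≫ prod.snd) hl1
      simpa only [Category.assoc, prod.lift_snd] using this
    generalize hsq.lift _ _ hcompat = r' at e1 e2
    rw [← Category.assoc, ← Category.assoc, ← e1, ← e2, Category.assoc, Category.assoc,
      AlgSp.quotSp_condition]
  refine ⟨hmono, fun hg => ?_⟩
  haveI : Epi (g ≫ AlgSp.quotSpπ s t) := epi_comp _ _
  haveI : Epi (AlgSp.quotSpπ s' t' ≫ ψ) := by rw [hψ]; infer_instance
  haveI : Epi ψ := epi_of_epi (AlgSp.quotSpπ s' t') ψ
  exact isIso_of_mono_of_epi ψ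

end Groth.Agent.S10114
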