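import Groth.Statements.S10123
import Groth.Agent.Lib.helper15.AlgSpLocPGen2
import Groth.Agent.Lib.helper15.AlgSpFibre

set_option autoImplicit false
universe u
open CategoryTheory CategoryTheory.Limits AlgebraicGeometry
open AlgSp AlgSp.GroupoidSp
open Groth.Agent.Lib.H15.AS

namespace Groth.Agent.S10123

theorem gen {S : Scheme.{u}} {P : MorphismProperty Scheme.{u}} (hP : GoodP P) {U U' R R' : AlgSp.Sp S}
    (hU : AlgSp.IsAlgSpace U) (hU' : AlgSp.IsAlgSpace U') (hR : AlgSp.IsAlgSpace R)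
    (hR' : AlgSp.IsAlgSpace R') (s t : R ⟶ U) (g : U' ⟶ U) (fR : R' ⟶ R) (s' t' : R' ⟶ U')
    (ws : fR ≫ s = s' ≫ g) (wt : fR ≫ t = t' ≫ g)
    (huniv : ∀ {T : AlgSp.Sp S} (r : T ⟶ R) (y z : T ⟶ U'), r ≫ t = y ≫ g → r ≫ s = z ≫ g →
      ∃ r' : T ⟶ R', r' ≫ fR = r ∧ r' ≫ t' = y ∧ r' ≫ s' = z)
    (hext : ∀ {T : AlgSp.Sp S} (r1 r2 : T ⟶ R'), r1 ≫ fR = r2 ≫ fR → r1 ≫ t' = r2 ≫ t' →
      r1 ≫ s' = r2 ≫ s' → r1 = r2)
    (hs : AlgSp.LocP P s) (hg : AlgSp.LocP P g) : AlgSp.LocP P s' := by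
  have sqQ := IsPullback.of_hasPullback s g
  have hQ : AlgSp.IsAlgSpace (pullback s g) := isAlgSpace_of_isPullback hU.diag hR hU' sqQ
  have hq2 : AlgSp.LocP P (pullback.snd s g) := locP_of_isPullback_gen hP hR hU hU' sqQ hs
  have hcond : ∀ c : PullbackCone (pullback.fst s g ≫ t) g,
      (c.fst ≫ pullback.fst s g) ≫ t = c.snd ≫ g := fun c => by
    rw [Category.assoc]; exact c.condition
  have hcond2 : ∀ c : PullbackCone (pullback.fst s g ≫ t) g,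
      (c.fst ≫ pullback.fst s g) ≫ s = (c.fst ≫ pullback.snd s g) ≫ g := fun c => by
    rw [Category.assoc, Category.assoc, pullback.condition]
  have sqm : IsPullback (pullback.lift fR s' ws) t' (pullback.fst s g ≫ t) g := by
    have w : pullback.lift fR s' ws ≫ pullback.fst s g ≫ t = t' ≫ g := by
      rw [pullback.lift_fst_assoc, wt]
    refine ⟨⟨w⟩, ⟨PullbackCone.IsLimit.mk w
      (fun c => (huniv (c.fst ≫ pullback.fst s g) c.snd (c.fst ≫ pullback.snd s g)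
        (hcond c) (hcond2 c)).choose) ?_ ?_ ?_⟩⟩
    · intro c
      obtain ⟨h1, h2, h3⟩ := (huniv (c.fst ≫ pullback.fst s g) c.snd (c.fst ≫ pullback.snd s g)
        (hcond c) (hcond2 c)).choose_spec
      apply pullback.hom_ext
      · rw [Category.assoc, pullback.lift_fst, h1]
      · rw [Category.assoc, pullback.lift_snd, h3]
    · intro c
      exact (huniv (c.fst ≫ pullback.fst s g) c.snd (c.fst ≫ pullback.snd s g)
        (hcond c) (hcond2 c)).choose_spec.2.1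
    · intro c m hm1 hm2
      obtain ⟨h1, h2, h3⟩ := (huniv (c.fst ≫ pullback.fst s g) c.snd (c.fst ≫ pullback.snd s g)
        (hcond c) (hcond2 c)).choose_spec
      apply hext
      · rw [h1, ← hm1, Category.assoc, pullback.lift_fst]
      · rw [h2, hm2]
      · rw [h3, ← hm1, Category.assoc, pullback.lift_snd]
  have hm : AlgSp.LocP P (pullback.lift fR s' ws) :=
    locP_of_isPullback_gen hP hU' hU hQ sqm.flip hg
  have e : s' = pullback.lift fR s' ws ≫ pullback.snd s g := (pullback.lift_snd _ _ _).symm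
  rw [e]
  exact locP_comp_gen hP hR' hQ hU' hm hq2

theorem huniv {S : Scheme.{u}} {B : AlgSp.Sp S} {G G' : AlgSp.GroupoidSp B}
    {φ : AlgSp.GroupoidSp.Hom G' G} (hφ : φ.IsRestriction) {T : AlgSp.Sp S} (r : T ⟶ G.R)
    (y z : T ⟶ G'.U) (h1 : r ≫ G.t = y ≫ φ.fU) (h2 : r ≫ G.s = z ≫ φ.fU) :
    ∃ r' : T ⟶ G'.R, r' ≫ φ.fR = r ∧ r' ≫ G'.t = y ∧ r' ≫ G'.s = z := by
  have hyz : y ≫ G'.pU = z ≫ G'.pU := by
    rw [← φ.fU_over, ← Category.assoc, ← h1, ← Category.assoc, ← h2, Category.assoc, Category.assoc,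
      G.t_over, G.s_over]
  have hcomp : r ≫ G.j = pullback.lift y z hyz ≫ φ.prodMap := by
    apply pullback.hom_ext
    · rw [Category.assoc, G.j_fst, Category.assoc]
      unfold AlgSp.GroupoidSp.Hom.prodMap
      rw [pullback.lift_fst, pullback.lift_fst_assoc, h1]
    · rw [Category.assoc, G.j_snd, Category.assoc]
      unfold AlgSp.GroupoidSp.Hom.prodMap
      rw [pullback.lift_snd, pullback.lift_snd_assoc, h2]
  refine ⟨hφ.lift r (pullback.lift y z hyz) hcomp, hφ.lift_fst _ _ _, ?_, ?_⟩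
  · have := hφ.lift_snd r (pullback.lift y z hyz) hcomp
    rw [← G'.j_fst, ← Category.assoc, this, pullback.lift_fst]
  · have := hφ.lift_snd r (pullback.lift y z hyz) hcomp
    rw [← G'.j_snd, ← Category.assoc, this, pullback.lift_snd]

theorem hext {S : Scheme.{u}} {B : AlgSp.Sp S} {G G' : AlgSp.GroupoidSp B}
    {φ : AlgSp.GroupoidSp.Hom G' G} (hφ : φ.IsRestriction) {T : AlgSp.Sp S} (r1 r2 : T ⟶ G'.R)
    (h0 : r1 ≫ φ.fR = r2 ≫ φ.fR) (h1 : r1 ≫ G'.t = r2 ≫ G'.t) (h2 : r1 ≫ G'.s = r2 ≫ G'.s) :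
    r1 = r2 := by
  apply hφ.hom_ext h0
  apply pullback.hom_ext
  · rw [Category.assoc, Category.assoc, G'.j_fst, h1]
  · rw [Category.assoc, Category.assoc, G'.j_snd, h2]

/-- Let `(U', R', s', t', c')` be the restriction of a groupoid in algebraic spaces `(U, R, s, t, c)`
over `B` along `g : U' ⟶ U`. If `s, t, g` are locally of finite type (resp. locally of finite
presentation, resp. flat) then so are `s', t'`. -/
theorem result (S : Scheme.{u}) (B : AlgSp.Sp S) (hB : AlgSp.IsAlgSpace B)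
    (G G' : AlgSp.GroupoidSp B) (hU : AlgSp.IsAlgSpace G.U) (hR : AlgSp.IsAlgSpace G.R)
    (hU' : AlgSp.IsAlgSpace G'.U) (hR' : AlgSp.IsAlgSpace G'.R) (φ : AlgSp.GroupoidSp.Hom G' G)
    (hφ : φ.IsRestriction) :
    (AlgSp.LocP @LocallyOfFiniteType G.s → AlgSp.LocP @LocallyOfFiniteType G.t →
        AlgSp.LocP @LocallyOfFiniteType φ.fU →
        AlgSp.LocP @LocallyOfFiniteType G'.s ∧ AlgSp.LocP @LocallyOfFiniteType G'.t) ∧
      (AlgSp.LocP @LocallyOfFinitePresentation G.s → AlgSp.LocP @LocallyOfFinitePresentation G.t →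
        AlgSp.LocP @LocallyOfFinitePresentation φ.fU →
        AlgSp.LocP @LocallyOfFinitePresentation G'.s ∧ AlgSp.LocP @LocallyOfFinitePresentation G'.t) ∧
      (AlgSp.LocP @Flat G.s → AlgSp.LocP @Flat G.t → AlgSp.LocP @Flat φ.fU →
        AlgSp.LocP @Flat G'.s ∧ AlgSp.LocP @Flat G'.t) := by
  have hu1 := @huniv S B G G' φ hφ
  have he1 := @hext S B G G' φ hφ
  have hu2 : ∀ {T : AlgSp.Sp S} (r : T ⟶ G.R) (y z : T ⟶ G'.U), r ≫ G.s = y ≫ φ.fU → r ≫ G.t = z ≫ φ.fU →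
      ∃ r' : T ⟶ G'.R, r' ≫ φ.fR = r ∧ r' ≫ G'.s = y ∧ r' ≫ G'.t = z := by
    intro T r y z h1 h2
    obtain ⟨r', a, b, c⟩ := hu1 r z y h2 h1
    exact ⟨r', a, c, b⟩
  have he2 : ∀ {T : AlgSp.Sp S} (r1 r2 : T ⟶ G'.R), r1 ≫ φ.fR = r2 ≫ φ.fR → r1 ≫ G'.s = r2 ≫ G'.s →
      r1 ≫ G'.t = r2 ≫ G'.t → r1 = r2 := fun r1 r2 a b c => he1 r1 r2 a c b
  refine ⟨fun hs ht hg => ⟨?_, ?_⟩, fun hs ht hg => ⟨?_, ?_⟩, fun hs ht hg => ⟨?_, ?_⟩⟩
  · exact gen goodP_lft hU hU' hR hR' G.s G.t φ.fU φ.fR G'.s G'.t φ.comm_s φ.comm_t hu1 he1 hs hg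
  · exact gen goodP_lft hU hU' hR hR' G.t G.s φ.fU φ.fR G'.t G'.s φ.comm_t φ.comm_s hu2 he2 ht hg
  · exact gen goodP_lfp hU hU' hR hR' G.s G.t φ.fU φ.fR G'.s G'.t φ.comm_s φ.comm_t hu1 he1 hs hg
  · exact gen goodP_lfp hU hU' hR hR' G.t G.s φ.fU φ.fR G'.t G'.s φ.comm_t φ.comm_s hu2 he2 ht hg
  · exact gen goodP_flat hU hU' hR hR' G.s G.t φ.fU φ.fR G'.s G'.t φ.comm_s φ.comm_t hu1 he1 hs hg
  · exact gen goodP_flat hU hU' hR hR' G.t G.s φ.fU φ.fR G'.t G'.s φ.comm_t φ.comm_s hu2 he2 ht hg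

end Groth.Agent.S10123
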