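import Groth.Statements.S10115
import Groth.Agent.Lib.helper15.AlgSpQuot
import Groth.Agent.Lib.helper15.AlgSpGpd
import Groth.Agent.S10123

set_option autoImplicit false
universe u
open CategoryTheory CategoryTheory.Limits AlgebraicGeometry
open AlgSp AlgSp.GroupoidSp
open Groth.Agent.Lib.H15.Quot Groth.Agent.Lib.H15.Gpd

namespace Groth.Agent.S10115

theorem isPreEqvRelSp_groupoid {S : Scheme.{u}} {B : AlgSp.Sp S} (G : AlgSp.GroupoidSp B) :
    AlgSp.IsPreEqvRelSp G.s G.t := by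
  intro T
  refine ⟨fun a => ?_, fun {a b} h => ?_, fun {a b c} h1 h2 => ?_⟩
  · exact ⟨a ≫ G.e, by rw [Category.assoc, G.e_t, Category.comp_id],
      by rw [Category.assoc, G.e_s, Category.comp_id]⟩
  · obtain ⟨r, rfl, rfl⟩ := h
    exact ⟨r ≫ G.i, by rw [Category.assoc, G.i_t], by rw [Category.assoc, G.i_s]⟩
  · obtain ⟨r1, rfl, hb⟩ := h1
    obtain ⟨r2, hb2, rfl⟩ := h2
    exact ⟨cmp G r1 r2 (hb.trans hb2.symm), cmp_t G _ _ _, cmp_s G _ _ _⟩

/-- For a groupoid `(U, R, s, t, c)` in algebraic spaces over `B`, let `(U', R', s', t', c')` be its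
restriction along a morphism `g : U' ⟶ U` over `B`. Then `U'/R' ⟶ U/R` is injective; if the
composite `h : U' ×_{g, U, t} R ⟶ R ⟶ U` of the projection with `s` is a surjection of fppf sheaves
(for instance if `g` is), then it is bijective. -/
theorem result (S : Scheme.{u}) (B : AlgSp.Sp S) (hB : AlgSp.IsAlgSpace B)
    (G G' : AlgSp.GroupoidSp B) (hU : AlgSp.IsAlgSpace G.U) (hR : AlgSp.IsAlgSpace G.R)
    (hU' : AlgSp.IsAlgSpace G'.U) (hR' : AlgSp.IsAlgSpace G'.R) (φ : AlgSp.GroupoidSp.Hom G' G)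
    (hφ : φ.IsRestriction) (ψ : G'.quot ⟶ G.quot) (hψ : G'.quotπ ≫ ψ = φ.fU ≫ G.quotπ) :
    Mono ψ ∧ (Epi (pullback.snd φ.fU G.t ≫ G.s) → IsIso ψ) := by
  have hψ' : AlgSp.quotSpπ G'.s G'.t ≫ ψ = φ.fU ≫ AlgSp.quotSpπ G.s G.t := hψ
  have hpre := isPreEqvRelSp_groupoid G
  have hmono : Mono ψ := by
    refine mono_of_epi_of_forall (AlgSp.quotSpπ G'.s G'.t) ψ fun T a b hab => ?_
    have h1 : (a ≫ φ.fU) ≫ AlgSp.quotSpπ G.s G.t = (b ≫ φ.fU) ≫ AlgSp.quotSpπ G.s G.t := by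
      rw [Category.assoc, Category.assoc, ← hψ']; exact hab
    obtain ⟨Sv, hSv, hrel⟩ := exists_cover_rel G.s G.t hpre (a ≫ φ.fU) (b ≫ φ.fU) h1
    refine eq_of_locally_eq _ _ Sv hSv fun T' f hf => ?_
    obtain ⟨r₀, hr1, hr2⟩ := hrel f hf
    obtain ⟨r', -, e1, e2⟩ := Groth.Agent.S10123.huniv hφ r₀ ((AlgSp.yon S).map f ≫ a)
      ((AlgSp.yon S).map f ≫ b) (by rw [hr1, Category.assoc]) (by rw [hr2, Category.assoc])
    rw [← Category.assoc, ← Category.assoc, ← e1, ← e2, Category.assoc, Category.assoc,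
      AlgSp.quotSp_condition]
  refine ⟨hmono, fun hh => ?_⟩
  have e : (pullback.snd φ.fU G.t ≫ G.s) ≫ AlgSp.quotSpπ G.s G.t =
      (pullback.fst φ.fU G.t ≫ AlgSp.quotSpπ G'.s G'.t) ≫ ψ := by
    rw [Category.assoc, Category.assoc, hψ', AlgSp.quotSp_condition, ← Category.assoc,
      ← pullback.condition, Category.assoc]
    rfl
  have h3 : Epi ((pullback.snd φ.fU G.t ≫ G.s) ≫ AlgSp.quotSpπ G.s G.t) := epi_comp _ _
  rw [e] at h3
  haveI : Epi ψ := @epi_of_epi _ _ _ _ _ (pullback.fst φ.fU G.t ≫ AlgSp.quotSpπ G'.s G'.t) ψ h3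
  exact isIso_of_mono_of_epi ψ

end Groth.Agent.S10115
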