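import Groth.Statements.S10116
import Groth.Agent.Lib.helper15.AlgSpFibre
import Groth.Agent.Lib.helper15.AlgSpDiag
import Groth.Agent.Lib.helper15.AlgSpRepIff

set_option autoImplicit false
universe u
open CategoryTheory CategoryTheory.Limits AlgebraicGeometry MonoidalCategory MonObj
open AlgSp
open CartesianMonoidalCategory Groth.Agent.Lib.H15.AS

namespace Groth.Agent.S10116

section
variable {S : Scheme.{u}} {B : AlgSp.Sp S} (G : Over B) [GrpObj G]

/-- `(g, h) ↦ g⁻¹ h`. -/
noncomputable def delta : G ⊗ G ⟶ G := (fst G G)⁻¹ * snd G G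

theorem sec : (η[G]).left ≫ G.hom = 𝟙 B := Over.w η[G]

theorem sqC : IsPullback (pullback.diagonal G.hom) G.hom (delta G).left (η[G]).left := by
  have hd : (delta G).left ≫ G.hom = (G ⊗ G).hom := Over.w (delta G)
  have w : pullback.diagonal G.hom ≫ (delta G).left = G.hom ≫ (η[G]).left := by
    -- the diagonal as a morphism over `B`
    have e : (lift (𝟙 G) (𝟙 G) : G ⟶ G ⊗ G).left = pullback.diagonal G.hom := by
      apply pullback.hom_ext
      · rw [pullback.diagonal_fst]
        exact congrArg (fun k => k.left) (lift_fst (𝟙 G) (𝟙 G))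
      · rw [pullback.diagonal_snd]
        exact congrArg (fun k => k.left) (lift_snd (𝟙 G) (𝟙 G))
    have h1 : lift (𝟙 G) (𝟙 G) ≫ delta G = toUnit G ≫ η[G] := by
      unfold delta
      rw [MonObj.comp_mul, GrpObj.comp_inv, lift_fst, lift_snd, inv_mul_cancel, Hom.one_def]
    have := congrArg (fun k => k.left) h1
    rw [← e]
    exact this
  have key : ∀ c : PullbackCone (delta G).left (η[G]).left,
      c.fst ≫ pullback.fst G.hom G.hom = c.fst ≫ pullback.snd G.hom G.hom := by
    intro c
    have hb : c.snd = c.fst ≫ (G ⊗ G).hom := by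
      have := congrArg (fun k => k ≫ G.hom) c.condition
      simp only [Category.assoc, sec, Category.comp_id, hd] at this
      exact this.symm
    let xx : Over.mk (c.fst ≫ (G ⊗ G).hom) ⟶ G ⊗ G := Over.homMk c.fst rfl
    have h1 : xx ≫ delta G = toUnit _ ≫ η[G] := by
      apply Over.OverMorphism.ext
      change c.fst ≫ (delta G).left = (c.fst ≫ (G ⊗ G).hom) ≫ (η[G]).left
      rw [← hb]; exact c.condition
    unfold delta at h1
    rw [MonObj.comp_mul, GrpObj.comp_inv, ← Hom.one_def, inv_mul_eq_one] at h1
    exact congrArg (fun k => k.left) h1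
  refine ⟨⟨w⟩, ⟨PullbackCone.IsLimit.mk w (fun c => c.fst ≫ pullback.fst G.hom G.hom) ?_ ?_ ?_⟩⟩
  · intro c
    apply pullback.hom_ext
    · rw [Category.assoc, pullback.diagonal_fst, Category.comp_id]
    · rw [Category.assoc, pullback.diagonal_snd, Category.comp_id]; exact key c
  · intro c
    have := congrArg (fun k => k ≫ G.hom) c.condition
    simp only [Category.assoc, sec, Category.comp_id, hd] at this
    rw [Category.assoc, ← this]
    rfl
  · intro c m hm1 hm2
    rw [← hm1, Category.assoc, pullback.diagonal_fst, Category.comp_id]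

theorem circle (P : MorphismProperty (AlgSp.Sp S)) [P.IsStableUnderBaseChange] [P.IsMultiplicative]
    [P.RespectsIso] :
    (P.diagonal G.hom → P (η[G]).left) ∧ (P (η[G]).left → P.diagonal G.hom) := by
  refine ⟨fun h => ?_, fun h => ?_⟩
  · haveI : P.HasOfPostcompProperty P.diagonal :=
      MorphismProperty.hasOfPostcompProperty_iff_le_diagonal.2 le_rfl
    refine P.of_postcomp (η[G]).left G.hom h ?_
    rw [sec G]; exact P.id_mem _
  · exact P.of_isPullback (sqC G).flip h

end

/-- Let `G` be a group algebraic space over an algebraic space `B` with unit `e : B ⟶ G`. Then `G ⟶ B`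
is separated if and only if `e` is a closed immersion, quasi-separated if and only if `e` is
quasi-compact, and if `G ⟶ B` is locally separated then `e` is an immersion. (The published
statement makes the last part an equivalence as well; this row states only that a locally separated
`G ⟶ B` has `e` an immersion.) -/
theorem result (S : Scheme.{u}) (B : AlgSp.Sp S) (hB : AlgSp.IsAlgSpace B)
    (G : Over B) [GrpObj G] (hG : AlgSp.IsAlgSpace G.left) :
    (AlgSp.IsSeparatedMor G.hom ↔ AlgSp.RepWith @IsClosedImmersion (η[G]).left) ∧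
      (AlgSp.IsQuasiSeparatedMor G.hom ↔ AlgSp.IsQuasiCompactMor (η[G]).left) ∧
      (AlgSp.IsLocallySeparatedMor G.hom → AlgSp.RepWith @IsImmersion (η[G]).left) := by
  obtain ⟨a2, a3⟩ := circle G (AlgSp.RepWith @IsClosedImmersion)
  obtain ⟨b2, b3⟩ := circle G (AlgSp.RepWith @QuasiCompact)
  obtain ⟨c2, c3⟩ := circle G (AlgSp.RepWith @IsImmersion)
  obtain ⟨d2, d3⟩ := circle G (AlgSp.Representable (S := S))
  have hrepE : AlgSp.Representable (η[G]).left := d2 (representable_diagonal hG G.hom)
  refine ⟨⟨a2, a3⟩, ⟨fun h => ?_, fun h => ?_⟩, c2⟩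
  · exact (repWith_quasiCompact_iff hB hG hrepE).1 (b2 h)
  · exact b3 ((repWith_quasiCompact_iff hB hG hrepE).2 h)

end Groth.Agent.S10116
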