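import Groth.Statements.S10117
import Groth.Agent.Lib.helper15.AlgSpMono

set_option autoImplicit false
universe u
open CategoryTheory CategoryTheory.Limits AlgebraicGeometry MonoidalCategory MonObj
open AlgSp AlgSp.GAction
open CartesianMonoidalCategory Groth.Agent.Lib.H15.AS

namespace Groth.Agent.S10117

theorem one_smul {S : Scheme.{u}} {B : AlgSp.Sp S} {G X : Over B} [GrpObj G] (a : AlgSp.GAction G X)
    {Y : Over B} (x : Y ⟶ X) : lift (toUnit Y ≫ η[G]) x ≫ a.act = x := by
  rw [← lift_whiskerRight, Category.assoc, a.one_act, leftUnitor_hom, lift_snd]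

theorem mul_smul {S : Scheme.{u}} {B : AlgSp.Sp S} {G X : Over B} [GrpObj G] (a : AlgSp.GAction G X)
    {Y : Over B} (g h : Y ⟶ G) (x : Y ⟶ X) :
    lift (lift g h ≫ μ[G]) x ≫ a.act = lift g (lift h x ≫ a.act) ≫ a.act := by
  rw [← lift_whiskerRight, Category.assoc, a.mul_act, lift_lift_associator_hom_assoc,
    lift_whiskerLeft_assoc]

theorem shear_cancel {S : Scheme.{u}} {B : AlgSp.Sp S} {G X : Over B} [GrpObj G] (a : AlgSp.GAction G X)
    (ha : a.IsFree) {T : Over S} (β : (AlgSp.yon S).obj T ⟶ B)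
    (g₁ g₂ : Over.mk β ⟶ G) (x : Over.mk β ⟶ X)
    (h : lift g₁ x ≫ a.act = lift g₂ x ≫ a.act) : g₁ = g₂ := by
  have key : lift (g₂⁻¹ * g₁) x ≫ a.act = x := by
    rw [Hom.mul_def, mul_smul, h, ← mul_smul, ← Hom.mul_def, inv_mul_cancel, Hom.one_def, one_smul]
  have := ha β _ x key
  rw [← Hom.one_def] at this
  exact (inv_mul_eq_one.1 this).symm

/-- If a group algebraic space `G` over `B` acts freely on an algebraic space `X` over `B`, then `G ×_B
X ⟶ X ×_B X`, `(g, x) ↦ (g x, x)`, is a monomorphism. (The published statement is an equivalence;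
this row states only the direction from free to monomorphism.) -/
theorem result (S : Scheme.{u}) (B : AlgSp.Sp S) (hB : AlgSp.IsAlgSpace B)
    (G X : Over B) [GrpObj G] (hG : AlgSp.IsAlgSpace G.left) (hX : AlgSp.IsAlgSpace X.left)
    (a : AlgSp.GAction G X) (ha : a.IsFree) :
    Mono (CartesianMonoidalCategory.lift a.act (CartesianMonoidalCategory.snd G X)).left := by
  refine mono_of_forall_yon _ fun T u v huv => ?_
  have hv : v ≫ (G ⊗ X).hom = u ≫ (G ⊗ X).hom := by
    rw [← Over.w (lift a.act (snd G X)), ← Category.assoc, ← huv, Category.assoc]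
  let uu : Over.mk (u ≫ (G ⊗ X).hom) ⟶ G ⊗ X := Over.homMk u rfl
  let vv : Over.mk (u ≫ (G ⊗ X).hom) ⟶ G ⊗ X := Over.homMk v hv
  have hf : uu ≫ lift a.act (snd G X) = vv ≫ lift a.act (snd G X) := Over.OverMorphism.ext huv
  have h1 : uu ≫ a.act = vv ≫ a.act := by
    have := congrArg (fun k => k ≫ fst X X) hf
    simpa only [Category.assoc, lift_fst] using this
  have h2 : uu ≫ snd G X = vv ≫ snd G X := by
    have := congrArg (fun k => k ≫ snd X X) hf
    simpa only [Category.assoc, lift_snd] using this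
  have e1 : lift (uu ≫ fst G X) (uu ≫ snd G X) = uu := by
    apply CartesianMonoidalCategory.hom_ext <;> simp
  have e2 : lift (vv ≫ fst G X) (uu ≫ snd G X) = vv := by
    rw [h2]; apply CartesianMonoidalCategory.hom_ext <;> simp
  have h3 : uu ≫ fst G X = vv ≫ fst G X :=
    shear_cancel a ha _ _ _ (uu ≫ snd G X) (by rw [e1, e2]; exact h1)
  have h4 : uu = vv := by
    apply CartesianMonoidalCategory.hom_ext
    · exact h3
    · exact h2
  exact congrArg (fun k => k.left) h4

end Groth.Agent.S10117
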