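import Groth.Statements.S10122
import Groth.Agent.Lib.helper15.AlgSpGpd
import Groth.Agent.Lib.helper15.AlgSpFibre
import Groth.Agent.Lib.helper15.AlgSpDiag
import Groth.Agent.Lib.helper15.AlgSpRepIff

set_option autoImplicit false
universe u
open CategoryTheory CategoryTheory.Limits AlgebraicGeometry
open AlgSp AlgSp.GroupoidSp
open Groth.Agent.Lib.H15.Gpd Groth.Agent.Lib.H15.AS

namespace Groth.Agent.S10122

section
variable {S : Scheme.{u}} {B : AlgSp.Sp S} (G : AlgSp.GroupoidSp B)

theorem delta_h1 : (pullback.fst G.j G.j ≫ G.i) ≫ G.s = pullback.snd G.j G.j ≫ G.t := by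
  rw [Category.assoc, G.i_s, ← G.j_fst, ← Category.assoc, pullback.condition, Category.assoc]

theorem fst_s_eq : pullback.fst G.j G.j ≫ G.s = pullback.snd G.j G.j ≫ G.s := by
  rw [← G.j_snd, ← Category.assoc, pullback.condition, Category.assoc]

/-- `(r, r') ↦ r⁻¹ ∘ r'`, a point of the stabilizer. -/
noncomputable def delta : pullback G.j G.j ⟶ G.stabilizer :=
  pullback.lift (cmp G (pullback.fst G.j G.j ≫ G.i) (pullback.snd G.j G.j) (delta_h1 G))
    (pullback.snd G.j G.j ≫ G.s) (by
      apply pullback.hom_ext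
      · rw [Category.assoc, G.j_fst, cmp_t, Category.assoc, G.i_t, Category.assoc]
        unfold AlgSp.GroupoidSp.diag
        rw [pullback.lift_fst, Category.comp_id]
        exact fst_s_eq G
      · rw [Category.assoc, G.j_snd, cmp_s, Category.assoc]
        unfold AlgSp.GroupoidSp.diag
        rw [pullback.lift_snd, Category.comp_id])

theorem delta_ι : delta G ≫ G.stabilizerι =
    cmp G (pullback.fst G.j G.j ≫ G.i) (pullback.snd G.j G.j) (delta_h1 G) :=
  pullback.lift_fst _ _ _

theorem delta_toU : delta G ≫ G.stabilizerToU = pullback.snd G.j G.j ≫ G.s :=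
  pullback.lift_snd _ _ _

theorem diag_fst : G.diag ≫ pullback.fst G.pU G.pU = 𝟙 _ := by
  unfold AlgSp.GroupoidSp.diag; rw [pullback.lift_fst]

theorem sec (eG : G.U ⟶ G.stabilizer) (heG : eG ≫ G.stabilizerι = G.e) :
    eG ≫ G.stabilizerToU = 𝟙 _ := by
  have h : eG ≫ G.stabilizerToU ≫ G.diag = G.e ≫ G.j := by
    rw [← heG, Category.assoc]
    congr 1
    exact pullback.condition.symm
  have := congrArg (fun k => k ≫ pullback.fst G.pU G.pU) h
  simp only [Category.assoc, diag_fst, G.j_fst, G.e_t, Category.comp_id] at this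
  exact this

theorem sqC (eG : G.U ⟶ G.stabilizer) (heG : eG ≫ G.stabilizerι = G.e) :
    IsPullback (pullback.diagonal G.j) G.s (delta G) eG := by
  have hsec := sec G eG heG
  have w : pullback.diagonal G.j ≫ delta G = G.s ≫ eG := by
    apply pullback.hom_ext
    · change (pullback.diagonal G.j ≫ delta G) ≫ G.stabilizerι = (G.s ≫ eG) ≫ G.stabilizerι
      have hr : (G.s ≫ eG) ≫ G.stabilizerι = G.s ≫ G.e := by rw [Category.assoc, heG]
      rw [Category.assoc, delta_ι, precomp_cmp, hr]
      have e1 : pullback.diagonal G.j ≫ pullback.fst G.j G.j ≫ G.i = 𝟙 G.R ≫ G.i := by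
        rw [← Category.assoc, pullback.diagonal_fst]
      have e2 : pullback.diagonal G.j ≫ pullback.snd G.j G.j = 𝟙 G.R := pullback.diagonal_snd _
      refine (cmp_congr G e1 e2 _).trans ?_
      exact (G.i_comp (𝟙 G.R)).trans (Category.id_comp _)
    · change (pullback.diagonal G.j ≫ delta G) ≫ G.stabilizerToU = (G.s ≫ eG) ≫ G.stabilizerToU
      rw [Category.assoc, delta_toU, ← Category.assoc, pullback.diagonal_snd, Category.id_comp,
        Category.assoc, hsec, Category.comp_id]
  -- key: a cone forces the two components to agree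
  have key : ∀ c : PullbackCone (delta G) eG,
      c.fst ≫ pullback.fst G.j G.j = c.fst ≫ pullback.snd G.j G.j := by
    intro c
    have h1 := congrArg (fun k => k ≫ G.stabilizerι) c.condition
    simp only [Category.assoc, delta_ι, heG] at h1
    rw [precomp_cmp] at h1
    have h2 := congrArg (fun k => k ≫ G.stabilizerToU) c.condition
    simp only [Category.assoc, delta_toU, hsec, Category.comp_id] at h2
    -- a = c.fst ≫ p1, b = c.fst ≫ p2
    have hab_t : (c.fst ≫ pullback.fst G.j G.j) ≫ G.t = (c.fst ≫ pullback.snd G.j G.j) ≫ G.t := by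
      rw [Category.assoc, Category.assoc, ← G.j_fst, ← Category.assoc (pullback.fst G.j G.j),
        pullback.condition, Category.assoc]
    have hab_s : (c.fst ≫ pullback.fst G.j G.j) ≫ G.s = c.snd := by
      rw [Category.assoc, fst_s_eq, ← Category.assoc]; exact h2
    have k3 := K3 G (c.fst ≫ pullback.fst G.j G.j) (c.fst ≫ pullback.snd G.j G.j) hab_t
    have e1 : cmp G ((c.fst ≫ pullback.fst G.j G.j) ≫ G.i) (c.fst ≫ pullback.snd G.j G.j)
        (by rw [Category.assoc, G.i_s]; exact hab_t) =
        (c.fst ≫ pullback.fst G.j G.j) ≫ G.s ≫ G.e := by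
      refine (cmp_congr G (Category.assoc _ _ _) rfl _).trans (h1.trans ?_)
      rw [← hab_s, Category.assoc]
    rw [← k3]
    refine ((G.comp_e (c.fst ≫ pullback.fst G.j G.j)).symm.trans ?_)
    exact cmp_congr G rfl e1.symm _
  refine ⟨⟨w⟩, ⟨PullbackCone.IsLimit.mk w (fun c => c.fst ≫ pullback.fst G.j G.j) ?_ ?_ ?_⟩⟩
  · intro c
    apply pullback.hom_ext
    · rw [Category.assoc, pullback.diagonal_fst, Category.comp_id]
    · rw [Category.assoc, pullback.diagonal_snd, Category.comp_id]; exact key c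
  · intro c
    have h2 := congrArg (fun k => k ≫ G.stabilizerToU) c.condition
    simp only [Category.assoc, delta_toU, hsec, Category.comp_id] at h2
    rw [Category.assoc, fst_s_eq, ← Category.assoc]; exact h2
  · intro c m hm1 hm2
    rw [← hm1, Category.assoc, pullback.diagonal_fst, Category.comp_id]

theorem circle (P : MorphismProperty (AlgSp.Sp S)) [P.IsStableUnderBaseChange] [P.IsMultiplicative]
    [P.RespectsIso] (eG : G.U ⟶ G.stabilizer) (heG : eG ≫ G.stabilizerι = G.e) :
    (P.diagonal G.j → P.diagonal G.stabilizerToU) ∧ (P.diagonal G.stabilizerToU → P eG) ∧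
      (P eG → P.diagonal G.j) := by
  refine ⟨fun h => ?_, fun h => ?_, fun h => ?_⟩
  · exact P.diagonal.of_isPullback (IsPullback.of_hasPullback G.j G.diag) h
  · haveI : P.HasOfPostcompProperty P.diagonal :=
      MorphismProperty.hasOfPostcompProperty_iff_le_diagonal.2 le_rfl
    refine P.of_postcomp eG G.stabilizerToU h ?_
    rw [sec G eG heG]; exact P.id_mem _
  · exact P.of_isPullback (sqC G eG heG).flip h

end

/-- Let `(U, R, s, t, c)` be a groupoid in algebraic spaces over `B` with stabilizer `G ⟶ U` and unit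
section `e : U ⟶ G`. Then (1) `j : R ⟶ U ×_B U` is separated iff `G ⟶ U` is separated iff `e` is a
closed immersion; (3) `j` is quasi-separated iff `G ⟶ U` is quasi-separated iff `e` is
quasi-compact; (2) if `j` or `G ⟶ U` is locally separated then `e` is an immersion. The unit section
is written as any morphism `U ⟶ G` lifting the identity `e : U ⟶ R` of the groupoid. (The published
part (2) is a three-way equivalence; this row states only that `j` locally separated, or `G ⟶ U`
locally separated, implies that `e` is an immersion.) -/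
theorem result (S : Scheme.{u}) (B : AlgSp.Sp S) (hB : AlgSp.IsAlgSpace B)
    (G : AlgSp.GroupoidSp B) (hU : AlgSp.IsAlgSpace G.U) (hR : AlgSp.IsAlgSpace G.R)
    (eG : G.U ⟶ G.stabilizer) (heG : eG ≫ G.stabilizerι = G.e) :
    ((AlgSp.IsSeparatedMor G.j ↔ AlgSp.IsSeparatedMor G.stabilizerToU) ∧
        (AlgSp.IsSeparatedMor G.j ↔ AlgSp.RepWith @IsClosedImmersion eG)) ∧
      ((AlgSp.IsQuasiSeparatedMor G.j ↔ AlgSp.IsQuasiSeparatedMor G.stabilizerToU) ∧
        (AlgSp.IsQuasiSeparatedMor G.j ↔ AlgSp.IsQuasiCompactMor eG)) ∧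
      ((AlgSp.IsLocallySeparatedMor G.j → AlgSp.RepWith @IsImmersion eG) ∧
        (AlgSp.IsLocallySeparatedMor G.stabilizerToU → AlgSp.RepWith @IsImmersion eG)) := by
  have hUU : AlgSp.IsAlgSpace (pullback G.pU G.pU) :=
    isAlgSpace_of_isPullback hB.diag hU hU (IsPullback.of_hasPullback _ _)
  have hStab : AlgSp.IsAlgSpace G.stabilizer :=
    isAlgSpace_of_isPullback hUU.diag hR hU (IsPullback.of_hasPullback G.j G.diag)
  obtain ⟨a1, a2, a3⟩ := circle G (AlgSp.RepWith @IsClosedImmersion) eG heG
  obtain ⟨b1, b2, b3⟩ := circle G (AlgSp.RepWith @QuasiCompact) eG heG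
  obtain ⟨c1, c2, c3⟩ := circle G (AlgSp.RepWith @IsImmersion) eG heG
  obtain ⟨d1, d2, d3⟩ := circle G (AlgSp.Representable (S := S)) eG heG
  have hrepE : AlgSp.Representable eG := d2 (representable_diagonal hStab G.stabilizerToU)
  refine ⟨⟨⟨a1, fun h => a3 (a2 h)⟩, ⟨fun h => a2 (a1 h), a3⟩⟩,
    ⟨⟨b1, fun h => b3 (b2 h)⟩, ⟨fun h => ?_, fun h => ?_⟩⟩, ⟨fun h => c2 (c1 h), c2⟩⟩
  · exact (repWith_quasiCompact_iff hU hStab hrepE).1 (b2 (b1 h))
  · exact b3 ((repWith_quasiCompact_iff hU hStab hrepE).2 h)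

end Groth.Agent.S10122
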