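import Groth.Statements.S10124
import Groth.Agent.Lib.helper15.AlgSpGpd

set_option autoImplicit false
universe u
open CategoryTheory CategoryTheory.Limits AlgebraicGeometry
open AlgSp AlgSp.GroupoidSp
open Groth.Agent.Lib.H15.Gpd

namespace Groth.Agent.S10124

/-- Let `(U, R, s, t, c)` be a groupoid in algebraic spaces over `B`, `K` a field and `r, r' : Spec K ⟶
R` with `t ∘ r = t ∘ r'`; put `u = s ∘ r`, `u' = s ∘ r'`. Then the fibres `Spec K ×_{u, U, s} R` and
`Spec K ×_{u', U, s} R` are isomorphic as spaces over `Spec K` (existence of an isomorphism over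
`Spec K`). -/
theorem result (S : Scheme.{u}) (B : AlgSp.Sp S) (hB : AlgSp.IsAlgSpace B)
    (G : AlgSp.GroupoidSp B) (hU : AlgSp.IsAlgSpace G.U) (hR : AlgSp.IsAlgSpace G.R)
    (K : Type u) [Field K] (σ : Spec (CommRingCat.of K) ⟶ S)
    (r r' : (AlgSp.yon S).obj (Over.mk σ) ⟶ G.R) (h : r ≫ G.t = r' ≫ G.t) :
    Nonempty (Over.mk (pullback.fst (r ≫ G.s) G.s) ≅ Over.mk (pullback.fst (r' ≫ G.s) G.s)) := by
  have key : ∀ (r r' : (AlgSp.yon S).obj (Over.mk σ) ⟶ G.R) (h : r ≫ G.t = r' ≫ G.t),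
      ∃ F : pullback (r ≫ G.s) G.s ⟶ pullback (r' ≫ G.s) G.s,
        F ≫ pullback.fst (r' ≫ G.s) G.s = pullback.fst (r ≫ G.s) G.s ∧
        F ≫ pullback.snd (r' ≫ G.s) G.s =
          tr G (pullback.fst (r ≫ G.s) G.s ≫ r) (pullback.fst (r ≫ G.s) G.s ≫ r')
            (pullback.snd (r ≫ G.s) G.s)
            (by rw [Category.assoc, Category.assoc, h])
            (by rw [Category.assoc, ← pullback.condition]) := by
    intro r r' h
    refine ⟨pullback.lift (pullback.fst (r ≫ G.s) G.s)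
      (tr G (pullback.fst (r ≫ G.s) G.s ≫ r) (pullback.fst (r ≫ G.s) G.s ≫ r')
        (pullback.snd (r ≫ G.s) G.s) (by rw [Category.assoc, Category.assoc, h])
        (by rw [Category.assoc, ← pullback.condition])) ?_, pullback.lift_fst _ _ _,
      pullback.lift_snd _ _ _⟩
    rw [tr_s, Category.assoc]
  obtain ⟨F, hF1, hF2⟩ := key r r' h
  obtain ⟨F', hF'1, hF'2⟩ := key r' r h.symm
  refine ⟨Over.isoMk ⟨F, F', ?_, ?_⟩ hF1⟩
  · apply pullback.hom_ext
    · rw [Category.assoc, hF'1, hF1, Category.id_comp]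
    · rw [Category.assoc, hF'2, precomp_tr, Category.id_comp]
      refine (tr_congr G (by rw [← Category.assoc, hF1]) (by rw [← Category.assoc, hF1]) hF2 _ _).trans ?_
      exact tr_tr G _ _ _ _ _
  · apply pullback.hom_ext
    · rw [Category.assoc, hF1, hF'1, Category.id_comp]
    · rw [Category.assoc, hF2, precomp_tr, Category.id_comp]
      refine (tr_congr G (by rw [← Category.assoc, hF'1]) (by rw [← Category.assoc, hF'1]) hF'2 _ _).trans ?_
      exact tr_tr G _ _ _ _ _

end Groth.Agent.S10124
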