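import Groth.Statements.S10125
import Groth.Agent.Lib.helper15.AlgSpOverField
import Groth.Agent.Lib.helper15.AlgSpFinite

set_option autoImplicit false
universe u
open CategoryTheory CategoryTheory.Limits AlgebraicGeometry MonoidalCategory MonObj
open AlgSp
open CartesianMonoidalCategory Groth.Agent.Lib.H15.AS

namespace Groth.Agent.S10125

/-- The shear isomorphism `(g, h) ↦ (g h, h)` of a group object. -/
noncomputable def grpShear {S : Scheme.{u}} {B : AlgSp.Sp S} (G : Over B) [GrpObj G] : G ⊗ G ≅ G ⊗ G where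
  hom := lift (fst G G * snd G G) (snd G G)
  inv := lift (fst G G * (snd G G)⁻¹) (snd G G)
  hom_inv_id := by
    rw [comp_lift, MonObj.comp_mul, GrpObj.comp_inv, lift_fst, lift_snd, mul_inv_cancel_right,
      lift_fst_snd]
  inv_hom_id := by
    rw [comp_lift, MonObj.comp_mul, lift_fst, lift_snd, inv_mul_cancel_right, lift_fst_snd]

theorem mul_eq_grpShear {S : Scheme.{u}} {B : AlgSp.Sp S} (G : Over B) [GrpObj G] :
    μ[G] = (grpShear G).hom ≫ fst G G := by
  have : (grpShear G).hom = lift (fst G G * snd G G) (snd G G) := rfl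
  rw [this, lift_fst, MonObj.mul_eq_mul]

/-- For a group algebraic space `G` over a field `k`, the multiplication `m` of `G`, a morphism `G ×_k G
⟶ G`, is both flat and universally open. (The published situation allows any base scheme `S` with
`k` a field over `S`; this row takes `S = Spec k`.) -/
theorem result (k : Type u) [Field k]
    (G : Over ((AlgSp.yon (Spec (CommRingCat.of k))).obj (Over.mk (𝟙 _)))) [GrpObj G]
    (hG : AlgSp.IsAlgSpace G.left) :
    AlgSp.LocP @Flat (μ[G]).left ∧ AlgSp.IsUnivOpenMor (μ[G]).left := by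
  have hB : AlgSp.IsAlgSpace ((AlgSp.yon (Spec (CommRingCat.of k))).obj (Over.mk (𝟙 _))) :=
    AlgSp.IsAlgSpace.yon_obj _
  obtain ⟨hs1, hs2⟩ := flat_univOpen_to_field hG k (𝟙 (Spec (CommRingCat.of k))) G.hom
  have sq : IsPullback (pullback.snd G.hom G.hom) (pullback.fst G.hom G.hom) G.hom G.hom :=
    (IsPullback.of_hasPullback G.hom G.hom).flip
  have h1 : AlgSp.LocP @Flat (pullback.fst G.hom G.hom) :=
    locP_of_isPullback_gen goodP_flat hG hB hG sq hs1
  have h2 : AlgSp.IsUnivOpenMor (pullback.fst G.hom G.hom) := univSp_of_isPullback _ sq hs2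
  have e : (μ[G]).left = ((Over.forget _).mapIso (grpShear G)).hom ≫ pullback.fst G.hom G.hom := by
    have := congrArg (fun m => m.left) (mul_eq_grpShear G)
    exact this
  constructor
  · rw [e]
    exact locP_iso_comp @Flat _ h1
  · intro Z Z' hZ g z1 z2 sqZ
    refine h2 hZ g (z1 ≫ ((Over.forget _).mapIso (grpShear G)).hom) z2 ?_
    exact IsPullback.of_iso sqZ (Iso.refl _) ((Over.forget _).mapIso (grpShear G)) (Iso.refl _)
      (Iso.refl _) (by simp) (by simp)
      (by rw [Iso.refl_hom, Category.comp_id]; exact e) (by simp)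

end Groth.Agent.S10125
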