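import Groth.Statements.S10126
import Groth.Agent.Lib.helper15.AlgSpGpd2
import Groth.Agent.Lib.helper15.AlgSpOverField
import Groth.Agent.Lib.helper15.AlgSpFinite

set_option autoImplicit false
universe u
open CategoryTheory CategoryTheory.Limits AlgebraicGeometry
open AlgSp AlgSp.GroupoidSp
open Groth.Agent.Lib.H15.Gpd Groth.Agent.Lib.H15.AS

namespace Groth.Agent.S10126

/-- Let `(U, R, s, t, c)` be a groupoid in algebraic spaces over `B` whose object space is `U = Spec k`,
with `k` a field. Then the composition `c : R ×_{s, U, t} R ⟶ R` is flat and universally open. -/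
theorem result (S : Scheme.{u}) (B : AlgSp.Sp S) (hB : AlgSp.IsAlgSpace B)
    (G : AlgSp.GroupoidSp B) (hR : AlgSp.IsAlgSpace G.R) (k : Type u) [Field k]
    (σ : Spec (CommRingCat.of k) ⟶ S) (eU : G.U ≅ (AlgSp.yon S).obj (Over.mk σ)) :
    AlgSp.LocP @Flat G.c ∧ AlgSp.IsUnivOpenMor G.c := by
  have hU : AlgSp.IsAlgSpace G.U := (AlgSp.IsAlgSpace.yon_obj (Over.mk σ)).of_iso eU.symm
  obtain ⟨hs1, hs2⟩ := flat_univOpen_to_field_iso hR k σ eU G.s
  have sq : IsPullback (pullback.snd G.s G.s) (pullback.fst G.s G.s) G.s G.s :=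
    (IsPullback.of_hasPullback G.s G.s).flip
  have h1 : AlgSp.LocP @Flat (pullback.fst G.s G.s) :=
    locP_of_isPullback_gen goodP_flat hR hU hR sq hs1
  have h2 : AlgSp.IsUnivOpenMor (pullback.fst G.s G.s) := univSp_of_isPullback _ sq hs2
  constructor
  · rw [c_eq_shear]
    exact locP_iso_comp @Flat (shear G) h1
  · intro Z Z' hZ g z1 z2 sqZ
    refine h2 hZ g (z1 ≫ (shear G).hom) z2 ?_
    exact IsPullback.of_iso sqZ (Iso.refl _) (shear G) (Iso.refl _) (Iso.refl _) (by simp) (by simp)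
      (by rw [Iso.refl_hom, Category.comp_id]; exact c_eq_shear G) (by simp)

end Groth.Agent.S10126
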