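import Groth.Statements.S10130
import Groth.Agent.Lib.helper15.AlgSpGpd
import Groth.Agent.Lib.helper15.AlgSpOpenSub
import Groth.Agent.Lib.helper15.AlgSpPoints

set_option autoImplicit false
universe u
open CategoryTheory CategoryTheory.Limits AlgebraicGeometry
open AlgSp AlgSp.GroupoidSp
open Groth.Agent.Lib.H15.Gpd Groth.Agent.Lib.H15.AS

namespace Groth.Agent.S10130

/-- Let `(U, R, s, t, c)` be a groupoid in algebraic spaces over `B` with `s, t` open. For every open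
subspace `W ⊂ U`, the open subspace `s(t⁻¹(W))` of `U` is `R`-invariant. -/
theorem result (S : Scheme.{u}) (B : AlgSp.Sp S) (hB : AlgSp.IsAlgSpace B)
    (G : AlgSp.GroupoidSp B) (hU : AlgSp.IsAlgSpace G.U) (hR : AlgSp.IsAlgSpace G.R)
    (hs : AlgSp.IsOpenMor G.s) (ht : AlgSp.IsOpenMor G.t)
    (W W' : AlgSp.Sp S) (w : W ⟶ G.U) (w' : W' ⟶ G.U)
    (hw : AlgSp.RepWith @IsOpenImmersion w) (hw' : AlgSp.RepWith @IsOpenImmersion w')
    (himg : Set.range (AlgSp.Points.map w') =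
      AlgSp.Points.map G.s '' (AlgSp.Points.map G.t ⁻¹' Set.range (AlgSp.Points.map w))) :
    G.IsInvariant w' := by
  have hE : ∀ ρ : AlgSp.Points G.R,
      (AlgSp.Points.map G.t ρ ∈ Set.range (AlgSp.Points.map w')) ↔
        (AlgSp.Points.map G.s ρ ∈ Set.range (AlgSp.Points.map w')) := by
    intro ρ
    rw [himg]
    constructor
    · rintro ⟨ρ', hρ'W, hρ's⟩
      obtain ⟨ξ, hξ1, hξ2⟩ :=
        points_exists_of_isPullback (IsPullback.of_hasPullback G.s G.t) ρ' ρ hρ's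
      refine ⟨AlgSp.Points.map G.c ξ, ?_, ?_⟩
      · show AlgSp.Points.map G.t (AlgSp.Points.map G.c ξ) ∈ Set.range (AlgSp.Points.map w)
        rw [← AlgSp.Points.map_comp, ct, AlgSp.Points.map_comp, hξ1]; exact hρ'W
      · rw [← AlgSp.Points.map_comp, cs, AlgSp.Points.map_comp, hξ2]
    · rintro ⟨ρ', hρ'W, hρ's⟩
      have e : AlgSp.Points.map G.s ρ' = AlgSp.Points.map G.t (AlgSp.Points.map G.i ρ) := by
        rw [← AlgSp.Points.map_comp, G.i_t]; exact hρ's
      obtain ⟨ξ, hξ1, hξ2⟩ :=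
        points_exists_of_isPullback (IsPullback.of_hasPullback G.s G.t) ρ' _ e
      refine ⟨AlgSp.Points.map G.c ξ, ?_, ?_⟩
      · show AlgSp.Points.map G.t (AlgSp.Points.map G.c ξ) ∈ Set.range (AlgSp.Points.map w)
        rw [← AlgSp.Points.map_comp, ct, AlgSp.Points.map_comp, hξ1]; exact hρ'W
      · rw [← AlgSp.Points.map_comp, cs, AlgSp.Points.map_comp, hξ2, ← AlgSp.Points.map_comp,
          G.i_s]
  intro T r
  have key : ∀ b : (AlgSp.yon S).obj T ⟶ G.U, (∃ a : (AlgSp.yon S).obj T ⟶ W', a ≫ w' = b) ↔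
      Set.range (AlgSp.Points.map b) ⊆ Set.range (AlgSp.Points.map w') := by
    intro b; constructor
    · rintro ⟨a, rfl⟩ _ ⟨x, rfl⟩
      exact ⟨AlgSp.Points.map a x, (AlgSp.Points.map_comp _ _ _).symm⟩
    · exact exists_factor_of_range_subset w' hw' b
  rw [key, key]
  constructor
  · rintro h _ ⟨x, rfl⟩
    rw [AlgSp.Points.map_comp]
    exact (hE _).1 (by rw [← AlgSp.Points.map_comp]; exact h ⟨x, rfl⟩)
  · rintro h _ ⟨x, rfl⟩
    rw [AlgSp.Points.map_comp]
    exact (hE _).2 (by rw [← AlgSp.Points.map_comp]; exact h ⟨x, rfl⟩)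

end Groth.Agent.S10130
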