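import Groth.Statements.S10131
import Groth.Agent.S10130
import Groth.Agent.Lib.helper15.AlgSpOpenSub3
import Groth.Agent.Lib.helper15.AlgSpQC

set_option autoImplicit false
universe u
open CategoryTheory CategoryTheory.Limits AlgebraicGeometry
open AlgSp AlgSp.GroupoidSp
open Groth.Agent.Lib.H15.Gpd Groth.Agent.Lib.H15.AS

namespace Groth.Agent.S10131

theorem aux (S : Scheme.{u}) (B : AlgSp.Sp S) (hB : AlgSp.IsAlgSpace B)
    (G : AlgSp.GroupoidSp B) (hU : AlgSp.IsAlgSpace G.U) (hR : AlgSp.IsAlgSpace G.R)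
    (hs : AlgSp.IsOpenMor G.s ∧ AlgSp.IsQuasiCompactMor G.s) (ht : AlgSp.IsOpenMor G.t ∧ AlgSp.IsQuasiCompactMor G.t)
    (Ω₀ : Set (AlgSp.Points G.U)) (hΩ₀ : IsOpen Ω₀) (hW₀qc : AlgSp.IsQuasiCompactSp (openSub G.U Ω₀))
    (x : AlgSp.Points G.U) (hx : x ∈ Ω₀) :
    ∃ (W : AlgSp.Sp S) (w : W ⟶ G.U), AlgSp.RepWith @IsOpenImmersion w ∧ G.IsInvariant w ∧
      AlgSp.IsQuasiCompactSp W ∧ x ∈ Set.range (AlgSp.Points.map w) := by
  have hW₀ : AlgSp.IsAlgSpace (openSub G.U Ω₀) := isAlgSpace_openSub hU hΩ₀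
  have sqP := IsPullback.of_hasPullback G.t (openSubι G.U Ω₀)
  have hPqc : AlgSp.IsQuasiCompactSp (pullback G.t (openSubι G.U Ω₀)) :=
    ht.2 hW₀ hW₀qc (openSubι G.U Ω₀) _ _ sqP
  obtain ⟨Ω, hΩdef⟩ : ∃ Ω : Set (AlgSp.Points G.U),
    Ω = AlgSp.Points.map G.s '' (AlgSp.Points.map G.t ⁻¹' Ω₀) := ⟨_, rfl⟩
  have hΩ : IsOpen Ω := by
    rw [hΩdef]; exact hs.1 _ (hΩ₀.preimage (AlgSp.Points.continuous_map G.t))
  have hw := repWith_isOpenImmersion_openSubι G.U hΩ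
  have hw₀ := repWith_isOpenImmersion_openSubι G.U hΩ₀
  have hWalg : AlgSp.IsAlgSpace (openSub G.U Ω) := isAlgSpace_openSub hU hΩ
  have hrange_fst : Set.range (AlgSp.Points.map (pullback.fst G.t (openSubι G.U Ω₀))) =
      AlgSp.Points.map G.t ⁻¹' Ω₀ := by
    ext ρ
    constructor
    · rintro ⟨ξ, rfl⟩
      show AlgSp.Points.map G.t _ ∈ Ω₀
      rw [← AlgSp.Points.map_comp, pullback.condition, AlgSp.Points.map_comp]
      exact (Set.ext_iff.1 (range_map_openSubι G.U Ω₀) _).1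
        ⟨AlgSp.Points.map (pullback.snd G.t (openSubι G.U Ω₀)) ξ, rfl⟩
    · intro hρ
      have hρ' : AlgSp.Points.map G.t ρ ∈ Set.range (AlgSp.Points.map (openSubι G.U Ω₀)) := by
        rw [range_map_openSubι]; exact hρ
      obtain ⟨y, hy⟩ := hρ'
      obtain ⟨ξ, hξ1, -⟩ := points_exists_of_isPullback sqP ρ y hy.symm
      exact ⟨ξ, hξ1⟩
  have hrange : Set.range (AlgSp.Points.map (pullback.fst G.t (openSubι G.U Ω₀) ≫ G.s)) = Ω := by
    rw [points_map_comp_fun, Set.range_comp, hrange_fst, hΩdef]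
  obtain ⟨g, hg⟩ := exists_factor_of_range_subset (openSubι G.U Ω) hw
    (pullback.fst G.t (openSubι G.U Ω₀) ≫ G.s) (by rw [hrange, range_map_openSubι])
  have hgs : AlgSp.IsSurjectiveMor g := by
    intro y
    have hy : AlgSp.Points.map (openSubι G.U Ω) y ∈ Ω :=
      (Set.ext_iff.1 (range_map_openSubι G.U Ω) _).1 ⟨y, rfl⟩
    have hy' : AlgSp.Points.map (openSubι G.U Ω) y ∈
        Set.range (AlgSp.Points.map (pullback.fst G.t (openSubι G.U Ω₀) ≫ G.s)) := by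
      rw [hrange]; exact hy
    obtain ⟨ξ, hξ⟩ := hy'
    refine ⟨ξ, ?_⟩
    apply injective_points_map_of_mono (openSubι G.U Ω)
    rw [← AlgSp.Points.map_comp, hg]; exact hξ
  refine ⟨openSub G.U Ω, openSubι G.U Ω, hw, ?_, ?_, ?_⟩
  · refine Groth.Agent.S10130.result S B hB G hU hR hs.1 ht.1 (openSub G.U Ω₀) (openSub G.U Ω)
      (openSubι G.U Ω₀) (openSubι G.U Ω) hw₀ hw ?_
    rw [range_map_openSubι, range_map_openSubι, hΩdef]
  · exact isQuasiCompactSp_of_isSurjectiveMor hWalg.atlas hgs hPqc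
  · rw [range_map_openSubι, hΩdef]
    refine ⟨AlgSp.Points.map G.e x, ?_, ?_⟩
    · show AlgSp.Points.map G.t _ ∈ Ω₀
      rw [← AlgSp.Points.map_comp, G.e_t, AlgSp.Points.map_id]
      exact hx
    · rw [← AlgSp.Points.map_comp, G.e_s, AlgSp.Points.map_id]

/-- Let `(U, R, s, t, c)` be a groupoid in algebraic spaces over `B` with `s, t` open and quasi-compact.
Then `U` has an open covering by `R`-invariant quasi-compact open subspaces. -/
theorem result (S : Scheme.{u}) (B : AlgSp.Sp S) (hB : AlgSp.IsAlgSpace B)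
    (G : AlgSp.GroupoidSp B) (hU : AlgSp.IsAlgSpace G.U) (hR : AlgSp.IsAlgSpace G.R)
    (hs : AlgSp.IsOpenMor G.s ∧ AlgSp.IsQuasiCompactMor G.s) (ht : AlgSp.IsOpenMor G.t ∧ AlgSp.IsQuasiCompactMor G.t)
    (x : AlgSp.Points G.U) :
    ∃ (W : AlgSp.Sp S) (w : W ⟶ G.U), AlgSp.RepWith @IsOpenImmersion w ∧ G.IsInvariant w ∧
      AlgSp.IsQuasiCompactSp W ∧ x ∈ Set.range (AlgSp.Points.map w) := by
  obtain ⟨V, p, hpe, hps⟩ := hU.atlas
  obtain ⟨v, rfl⟩ := surjective_ofPt p hps x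
  obtain ⟨A, hA, hvA, -⟩ := exists_isAffineOpen_mem_and_subset (x := v) (U := ⊤) trivial
  obtain ⟨hΩ₀, a', ha', ha'e, ha's⟩ := exists_chart_openSub p hpe A
  have hcpt : CompactSpace ↥(overOpen V A).left := isCompact_iff_compactSpace.mp hA.isCompact
  exact aux S B hB G hU hR hs ht _ hΩ₀ ⟨overOpen V A, a', ha'e, ha's, hcpt⟩ _ ⟨v, hvA, rfl⟩

end Groth.Agent.S10131
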