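import Groth.Statements.S10132
import Groth.Agent.Lib.helper15.AlgSpOverField
import Groth.Agent.Lib.helper15.AlgSpAffine
import Groth.Agent.Lib.helper15.AlgSpLocPGen2
import Groth.Agent.Lib.helper15.AlgSpLocalSource2
import Groth.Agent.Lib.helper15.AlgSpFibre
import Groth.Agent.S10123

set_option autoImplicit false
universe u
open CategoryTheory CategoryTheory.Limits AlgebraicGeometry
open AlgSp AlgSp.GroupoidSp
open Groth.Agent.Lib.H15.AS

namespace Groth.Agent.S10132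

/-- surjective, flat and universally open -/
def Good3 {S : Scheme.{u}} {X Y : AlgSp.Sp S} (f : X ⟶ Y) : Prop :=
  AlgSp.IsSurjectiveMor f ∧ AlgSp.LocP @Flat f ∧ AlgSp.IsUnivOpenMor f

theorem surj_of_section {S : Scheme.{u}} {X Y : AlgSp.Sp S} (e : Y ⟶ X) (f : X ⟶ Y) (h : e ≫ f = 𝟙 Y) :
    AlgSp.IsSurjectiveMor f := by
  intro y
  exact ⟨AlgSp.Points.map e y, by rw [← AlgSp.Points.map_comp, h, AlgSp.Points.map_id]⟩

theorem surj_bc {S : Scheme.{u}} {X Y X' Y' : AlgSp.Sp S} {f : X ⟶ Y} {k : Y' ⟶ Y} {k' : X' ⟶ X}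
    {f' : X' ⟶ Y'} (sq : IsPullback k' f' f k) (hf : AlgSp.IsSurjectiveMor f) :
    AlgSp.IsSurjectiveMor f' := by
  intro y
  obtain ⟨x, hx⟩ := hf (AlgSp.Points.map k y)
  obtain ⟨p, -, hp⟩ := points_exists_of_isPullback sq x y hx
  exact ⟨p, hp⟩

theorem surj_comp {S : Scheme.{u}} {X Y Z : AlgSp.Sp S} {f : X ⟶ Y} {g : Y ⟶ Z}
    (hf : AlgSp.IsSurjectiveMor f) (hg : AlgSp.IsSurjectiveMor g) : AlgSp.IsSurjectiveMor (f ≫ g) := by
  intro z
  obtain ⟨y, rfl⟩ := hg z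
  obtain ⟨x, rfl⟩ := hf y
  exact ⟨x, AlgSp.Points.map_comp _ _ _⟩

theorem good3_bc {S : Scheme.{u}} {X Y X' Y' : AlgSp.Sp S} (hX : AlgSp.IsAlgSpace X)
    (hY : AlgSp.IsAlgSpace Y) (hY' : AlgSp.IsAlgSpace Y') {f : X ⟶ Y} {k : Y' ⟶ Y} {k' : X' ⟶ X}
    {f' : X' ⟶ Y'} (sq : IsPullback k' f' f k) (hf : Good3 f) : Good3 f' :=
  ⟨surj_bc sq hf.1, locP_of_isPullback_gen goodP_flat hX hY hY' sq hf.2.1,
    univSp_of_isPullback _ sq hf.2.2⟩

theorem good3_comp {S : Scheme.{u}} {X Y Z : AlgSp.Sp S} (hX : AlgSp.IsAlgSpace X)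
    (hY : AlgSp.IsAlgSpace Y) (hZ : AlgSp.IsAlgSpace Z) {f : X ⟶ Y} {g : Y ⟶ Z}
    (hf : Good3 f) (hg : Good3 g) : Good3 (f ≫ g) :=
  ⟨surj_comp hf.1 hg.1, locP_comp_gen goodP_flat hX hY hZ hf.2.1 hg.2.1,
    isUnivOpenMor_comp hY hZ hf.2.2 hg.2.2⟩

theorem isAffineMor_comp_iso {S : Scheme.{u}} {X Y Y' : AlgSp.Sp S} (e : Y ≅ Y') {f : X ⟶ Y}
    (hf : AlgSp.IsAffineMor f) : AlgSp.IsAffineMor (f ≫ e.hom) := by
  intro Z hZ g
  obtain ⟨W, i, fstW, sqW, hW⟩ := hf hZ (g ≫ e.inv)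
  refine ⟨W, i, fstW, ?_, hW⟩
  have low : IsPullback (g ≫ e.inv) (𝟙 _) e.hom g := IsPullback.of_vert_isIso ⟨by simp⟩
  have := sqW.paste_vert low
  simpa using this

theorem sqm_of_restriction {S : Scheme.{u}} {U U' R R' : AlgSp.Sp S}
    (s t : R ⟶ U) (g : U' ⟶ U) (fR : R' ⟶ R) (s' t' : R' ⟶ U')
    (ws : fR ≫ s = s' ≫ g) (wt : fR ≫ t = t' ≫ g)
    (huniv : ∀ {T : AlgSp.Sp S} (r : T ⟶ R) (y z : T ⟶ U'), r ≫ t = y ≫ g → r ≫ s = z ≫ g →
      ∃ r' : T ⟶ R', r' ≫ fR = r ∧ r' ≫ t' = y ∧ r' ≫ s' = z)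
    (hext : ∀ {T : AlgSp.Sp S} (r1 r2 : T ⟶ R'), r1 ≫ fR = r2 ≫ fR → r1 ≫ t' = r2 ≫ t' →
      r1 ≫ s' = r2 ≫ s' → r1 = r2) :
    IsPullback (pullback.lift fR s' ws) t' (pullback.fst s g ≫ t) g := by
  have hcond : ∀ c : PullbackCone (pullback.fst s g ≫ t) g,
      (c.fst ≫ pullback.fst s g) ≫ t = c.snd ≫ g := fun c => by
    rw [Category.assoc]; exact c.condition
  have hcond2 : ∀ c : PullbackCone (pullback.fst s g ≫ t) g,
      (c.fst ≫ pullback.fst s g) ≫ s = (c.fst ≫ pullback.snd s g) ≫ g := fun c => by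
    rw [Category.assoc, Category.assoc, pullback.condition]
  have w : pullback.lift fR s' ws ≫ pullback.fst s g ≫ t = t' ≫ g := by
    rw [pullback.lift_fst_assoc, wt]
  refine ⟨⟨w⟩, ⟨PullbackCone.IsLimit.mk w
    (fun c => (huniv (c.fst ≫ pullback.fst s g) c.snd (c.fst ≫ pullback.snd s g)
      (hcond c) (hcond2 c)).choose) ?_ ?_ ?_⟩⟩
  · intro c
    obtain ⟨h1, h2, h3⟩ := (huniv (c.fst ≫ pullback.fst s g) c.snd (c.fst ≫ pullback.snd s g)
      (hcond c) (hcond2 c)).choose_spec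
    apply pullback.hom_ext
    · rw [Category.assoc, pullback.lift_fst, h1]
    · rw [Category.assoc, pullback.lift_snd, h3]
  · intro c
    exact (huniv (c.fst ≫ pullback.fst s g) c.snd (c.fst ≫ pullback.snd s g)
      (hcond c) (hcond2 c)).choose_spec.2.1
  · intro c m hm1 hm2
    obtain ⟨h1, h2, h3⟩ := (huniv (c.fst ≫ pullback.fst s g) c.snd (c.fst ≫ pullback.snd s g)
      (hcond c) (hcond2 c)).choose_spec
    apply hext
    · rw [h1, ← hm1, Category.assoc, pullback.lift_fst]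
    · rw [h2, hm2]
    · rw [h3, ← hm1, Category.assoc, pullback.lift_snd]

/-- Let `(U, R, s, t, c)` be a groupoid in algebraic spaces over `B` whose object space is `U = Spec k`,
let `k ⊂ k'` be a field extension and `(U', R', s', t', c')` the restriction along `Spec k' ⟶ Spec
k`. Then `s, t, s', t'`, `Spec k' ⟶ Spec k` and `R' ⟶ R` are surjective, flat and universally open,
and `R' ⟶ R` is moreover affine. (The published statement lists every arrow of the restriction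
diagram; this row omits the six arrows through `R ×_{s,U} U'` and `U' ×_{U,t} R`, each a base change
of `s`, `t` or `Spec k' ⟶ Spec k`.) -/
theorem result (S : Scheme.{u}) (B : AlgSp.Sp S) (hB : AlgSp.IsAlgSpace B)
    (G G' : AlgSp.GroupoidSp B) (hR : AlgSp.IsAlgSpace G.R) (hR' : AlgSp.IsAlgSpace G'.R)
    (k k' : Type u) [Field k] [Field k'] [Algebra k k'] (σ : Spec (CommRingCat.of k) ⟶ S)
    (eU : G.U ≅ ((AlgSp.yon S).obj (Over.mk σ)))
    (eU' : G'.U ≅ ((AlgSp.yon S).obj (Over.mk (Spec.map (CommRingCat.ofHom (algebraMap k k')) ≫ σ))))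
    (φ : AlgSp.GroupoidSp.Hom G' G) (hφ : φ.IsRestriction)
    (hfU : φ.fU = eU'.hom ≫ (AlgSp.yon S).map (Over.homMk (Spec.map (CommRingCat.ofHom (algebraMap k k'))) rfl :
      Over.mk (Spec.map (CommRingCat.ofHom (algebraMap k k')) ≫ σ) ⟶ Over.mk σ) ≫ eU.inv) :
    (∀ f ∈ [G.s, G.t], AlgSp.IsSurjectiveMor f ∧ AlgSp.LocP @Flat f ∧ AlgSp.IsUnivOpenMor f) ∧
      (∀ f ∈ [G'.s, G'.t], AlgSp.IsSurjectiveMor f ∧ AlgSp.LocP @Flat f ∧ AlgSp.IsUnivOpenMor f) ∧
      (AlgSp.IsSurjectiveMor φ.fU ∧ AlgSp.LocP @Flat φ.fU ∧ AlgSp.IsUnivOpenMor φ.fU) ∧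
      (AlgSp.IsSurjectiveMor φ.fR ∧ AlgSp.LocP @Flat φ.fR ∧ AlgSp.IsUnivOpenMor φ.fR ∧ AlgSp.IsAffineMor φ.fR) := by
  have hU : AlgSp.IsAlgSpace G.U := (AlgSp.IsAlgSpace.yon_obj (Over.mk σ)).of_iso eU.symm
  have hU' : AlgSp.IsAlgSpace G'.U := (AlgSp.IsAlgSpace.yon_obj _).of_iso eU'.symm
  have hGs : Good3 G.s := ⟨surj_of_section G.e G.s G.e_s,
    (flat_univOpen_to_field_iso hR k σ eU G.s).1, (flat_univOpen_to_field_iso hR k σ eU G.s).2⟩
  have hGt : Good3 G.t := ⟨surj_of_section G.e G.t G.e_t,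
    (flat_univOpen_to_field_iso hR k σ eU G.t).1, (flat_univOpen_to_field_iso hR k σ eU G.t).2⟩
  have hGs' : Good3 G'.s := ⟨surj_of_section G'.e G'.s G'.e_s,
    (flat_univOpen_to_field_iso hR' k' _ eU' G'.s).1, (flat_univOpen_to_field_iso hR' k' _ eU' G'.s).2⟩
  have hGt' : Good3 G'.t := ⟨surj_of_section G'.e G'.t G'.e_t,
    (flat_univOpen_to_field_iso hR' k' _ eU' G'.t).1, (flat_univOpen_to_field_iso hR' k' _ eU' G'.t).2⟩
  -- the morphism on objects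
  have hfUs : AlgSp.IsSurjectiveMor φ.fU := by
    intro y
    have hsub : Subsingleton (AlgSp.Points G.U) := by
      have := points_spec_field_subsingleton (S := S) σ
      refine ⟨fun a b => ?_⟩
      have h := Subsingleton.elim (AlgSp.Points.map eU.hom a) (AlgSp.Points.map eU.hom b)
      have := congrArg (AlgSp.Points.map eU.inv) h
      simpa only [← AlgSp.Points.map_comp, Iso.hom_inv_id, AlgSp.Points.map_id] using this
    have hne : Nonempty (AlgSp.Points G'.U) := by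
      have : Nonempty ↥(Spec (CommRingCat.of k')) := inferInstance
      obtain ⟨z⟩ := this
      exact ⟨AlgSp.Points.map eU'.inv
        (AlgSp.Points.ofPt (𝟙 ((AlgSp.yon S).obj (Over.mk
          (Spec.map (CommRingCat.ofHom (algebraMap k k')) ≫ σ)))) z)⟩
    obtain ⟨x⟩ := hne
    exact ⟨x, Subsingleton.elim _ _⟩
  have hfU3 : Good3 φ.fU := ⟨hfUs, (flat_univOpen_to_field_iso hU' k σ eU φ.fU).1,
    (flat_univOpen_to_field_iso hU' k σ eU φ.fU).2⟩
  have hfUaff : AlgSp.IsAffineMor φ.fU := by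
    rw [hfU]
    refine isAffineMor_iso_comp eU' ?_
    refine isAffineMor_comp_iso eU.symm ?_
    refine isAffineMor_of_repWith_isAffineHom ((AlgSp.repWith_yon_map_iff _ _).2 ?_)
    change IsAffineHom (Spec.map (CommRingCat.ofHom (algebraMap k k')))
    infer_instance
  -- R' ⟶ R as a composite of two base changes
  have sqQ := IsPullback.of_hasPullback G.s φ.fU
  have hQ : AlgSp.IsAlgSpace (pullback G.s φ.fU) := isAlgSpace_of_isPullback hU.diag hR hU' sqQ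
  have sqm := sqm_of_restriction G.s G.t φ.fU φ.fR G'.s G'.t φ.comm_s φ.comm_t
    (fun r y z h1 h2 => Groth.Agent.S10123.huniv hφ r y z h1 h2)
    (fun r1 r2 a b c => Groth.Agent.S10123.hext hφ r1 r2 a b c)
  have hq1 : Good3 (pullback.fst G.s φ.fU) := good3_bc hU' hU hR sqQ.flip hfU3
  have hm1 : Good3 (pullback.lift φ.fR G'.s φ.comm_s) := good3_bc hU' hU hQ sqm.flip hfU3
  have hq1a : AlgSp.IsAffineMor (pullback.fst G.s φ.fU) := isAffineMor_of_isPullback sqQ.flip hfUaff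
  have hm1a : AlgSp.IsAffineMor (pullback.lift φ.fR G'.s φ.comm_s) :=
    isAffineMor_of_isPullback sqm.flip hfUaff
  have efR : φ.fR = pullback.lift φ.fR G'.s φ.comm_s ≫ pullback.fst G.s φ.fU :=
    (pullback.lift_fst _ _ _).symm
  have hfR : Good3 φ.fR := by
    rw [efR]; exact good3_comp hR' hQ hR hm1 hq1
  have hfRa : AlgSp.IsAffineMor φ.fR := by
    rw [efR]; exact isAffineMor_comp hm1a hq1a
  refine ⟨?_, ?_, hfU3, hfR.1, hfR.2.1, hfR.2.2, hfRa⟩
  · intro f hf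
    simp only [List.mem_cons, List.not_mem_nil, or_false] at hf
    rcases hf with rfl | rfl
    · exact hGs
    · exact hGt
  · intro f hf
    simp only [List.mem_cons, List.not_mem_nil, or_false] at hf
    rcases hf with rfl | rfl
    · exact hGs'
    · exact hGt'

end Groth.Agent.S10132
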