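import Groth.Statements.S9871
import Mathlib

set_option autoImplicit false
universe u
open CategoryTheory CategoryTheory.Limits AlgebraicGeometry
open AlgSp

namespace Groth.Agent.S9871

theorem sqm_gen {C : Type*} [Category C] [HasPullbacks C] {U U' R R' : C}
    (s t : R ⟶ U) (g : U' ⟶ U) (fR : R' ⟶ R) (s' t' : R' ⟶ U')
    (ws : fR ≫ s = s' ≫ g) (wt : fR ≫ t = t' ≫ g)
    (huniv : ∀ {T : C} (r : T ⟶ R) (y z : T ⟶ U'), r ≫ t = y ≫ g → r ≫ s = z ≫ g →
      ∃ r' : T ⟶ R', r' ≫ fR = r ∧ r' ≫ t' = y ∧ r' ≫ s' = z)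
    (hext : ∀ {T : C} (r1 r2 : T ⟶ R'), r1 ≫ fR = r2 ≫ fR → r1 ≫ t' = r2 ≫ t' →
      r1 ≫ s' = r2 ≫ s' → r1 = r2) :
    IsPullback (pullback.lift fR s' ws) t' (pullback.fst s g ≫ t) g := by
  have hcond : ∀ c : PullbackCone (pullback.fst s g ≫ t) g,
      (c.fst ≫ pullback.fst s g) ≫ t = c.snd ≫ g := fun c => by
    rw [Category.assoc]; exact c.condition
  have hcond2 : ∀ c : PullbackCone (pullback.fst s g ≫ t) g,
      (c.fst ≫ pullback.fst s g) ≫ s = (c.fst ≫ pullback.snd s g) ≫ g := fun c => by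
    rw [Category.assoc, Category.assoc, pullback.condition]
  have w : pullback.lift fR s' ws ≫ pullback.fst s g ≫ t = t' ≫ g := by
    rw [pullback.lift_fst_assoc, wt]
  refine ⟨⟨w⟩, ⟨PullbackCone.IsLimit.mk w
    (fun c => (huniv (c.fst ≫ pullback.fst s g) c.snd (c.fst ≫ pullback.snd s g)
      (hcond c) (hcond2 c)).choose) ?_ ?_ ?_⟩⟩
  · intro c
    obtain ⟨h1, h2, h3⟩ := (huniv (c.fst ≫ pullback.fst s g) c.snd (c.fst ≫ pullback.snd s g)
      (hcond c) (hcond2 c)).choose_spec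
    apply pullback.hom_ext
    · rw [Category.assoc, pullback.lift_fst, h1]
    · rw [Category.assoc, pullback.lift_snd, h3]
  · intro c
    exact (huniv (c.fst ≫ pullback.fst s g) c.snd (c.fst ≫ pullback.snd s g)
      (hcond c) (hcond2 c)).choose_spec.2.1
  · intro c m hm1 hm2
    obtain ⟨h1, h2, h3⟩ := (huniv (c.fst ≫ pullback.fst s g) c.snd (c.fst ≫ pullback.snd s g)
      (hcond c) (hcond2 c)).choose_spec
    apply hext
    · rw [h1, ← hm1, Category.assoc, pullback.lift_fst]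
    · rw [h2, hm2]
    · rw [h3, ← hm1, Category.assoc, pullback.lift_snd]

theorem etale_gen {S : Scheme.{u}} {R U R' U' : Over S} (s t : R ⟶ U) (g : U' ⟶ U) (fR : R' ⟶ R)
    (s' t' : R' ⟶ U') [Etale g.left]
    (ws : fR ≫ s = s' ≫ g) (wt : fR ≫ t = t' ≫ g)
    (huniv : ∀ {T : Over S} (r : T ⟶ R) (y z : T ⟶ U'), r ≫ t = y ≫ g → r ≫ s = z ≫ g →
      ∃ r' : T ⟶ R', r' ≫ fR = r ∧ r' ≫ t' = y ∧ r' ≫ s' = z)
    (hext : ∀ {T : Over S} (r1 r2 : T ⟶ R'), r1 ≫ fR = r2 ≫ fR → r1 ≫ t' = r2 ≫ t' →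
      r1 ≫ s' = r2 ≫ s' → r1 = r2) (hs : Etale s.left) : Etale s'.left := by
  have sqm := sqm_gen s t g fR s' t' ws wt huniv hext
  have sqQ := IsPullback.of_hasPullback s g
  have sqm' := sqm.flip.map (Over.forget S)
  have sqQ' := sqQ.map (Over.forget S)
  have h1 : Etale (pullback.snd s g).left :=
    MorphismProperty.of_isPullback (P := @Etale) sqQ' hs
  have h2 : Etale (pullback.lift fR s' ws).left :=
    MorphismProperty.of_isPullback (P := @Etale) sqm' (inferInstance : Etale g.left)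
  have e : s' = pullback.lift fR s' ws ≫ pullback.snd s g := (pullback.lift_snd _ _ _).symm
  rw [e, Over.comp_left]
  infer_instance

theorem huniv {S : Scheme.{u}} {R U R' U' : Over S} {s t : R ⟶ U}
    {g : U' ⟶ U} {s' t' : R' ⟶ U'} {r : R' ⟶ R}
    (hsq : IsPullback (prod.lift t' s') r (prod.map g g) (prod.lift t s))
    {T : Over S} (r₀ : T ⟶ R) (y z : T ⟶ U') (h1 : r₀ ≫ t = y ≫ g) (h2 : r₀ ≫ s = z ≫ g) :
    ∃ r' : T ⟶ R', r' ≫ r = r₀ ∧ r' ≫ t' = y ∧ r' ≫ s' = z := by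
  have hcompat : prod.lift y z ≫ prod.map g g = r₀ ≫ prod.lift t s := by
    apply prod.hom_ext
    · simp only [Category.assoc, prod.map_fst, prod.lift_fst_assoc, prod.lift_fst]; exact h1.symm
    · simp only [Category.assoc, prod.map_snd, prod.lift_snd_assoc, prod.lift_snd]; exact h2.symm
  have hl1 := hsq.lift_fst _ _ hcompat
  refine ⟨hsq.lift _ _ hcompat, hsq.lift_snd _ _ hcompat, ?_, ?_⟩
  · have := congrArg (fun k => k ≫ prod.fst) hl1
    simpa only [Category.assoc, prod.lift_fst] using this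
  · have := congrArg (fun k => k ≫ prod.snd) hl1
    simpa only [Category.assoc, prod.lift_snd] using this

theorem hext {S : Scheme.{u}} {R U R' U' : Over S} {s t : R ⟶ U}
    {g : U' ⟶ U} {s' t' : R' ⟶ U'} {r : R' ⟶ R}
    (hsq : IsPullback (prod.lift t' s') r (prod.map g g) (prod.lift t s))
    {T : Over S} (r1 r2 : T ⟶ R') (h0 : r1 ≫ r = r2 ≫ r) (h1 : r1 ≫ t' = r2 ≫ t')
    (h2 : r1 ≫ s' = r2 ≫ s') : r1 = r2 := by
  apply hsq.hom_ext ?_ h0
  apply prod.hom_ext
  · simp only [Category.assoc, prod.lift_fst]; exact h1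
  · simp only [Category.assoc, prod.lift_snd]; exact h2

/-- Let `s, t : R ⟶ U` be an etale equivalence relation on a scheme `U` over `S` and let `g : U' ⟶ U` be
an etale morphism over `S`. Let `s', t' : R' ⟶ U'` be the restriction to `U'`: `R'`, with `(t', s')`
and `R' ⟶ R`, is the fibre product of `U' ×_S U'` and `R` over `U ×_S U`. Then `s', t'` is again an
etale equivalence relation. -/
theorem result (S : Scheme.{u}) {R U R' U' : Over S} (s t : R ⟶ U)
    (g : U' ⟶ U) (s' t' : R' ⟶ U') (r : R' ⟶ R)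
    (hsq : IsPullback (prod.lift t' s') r (prod.map g g) (prod.lift t s))
    (h : AlgSp.IsEtaleEqvRel s t) [Etale g.left] :
    AlgSp.IsEtaleEqvRel s' t' := by
  have hu1 := @huniv S R U R' U' s t g s' t' r hsq
  have he1 := @hext S R U R' U' s t g s' t' r hsq
  have ws : r ≫ s = s' ≫ g := by
    have := congrArg (fun k => k ≫ prod.snd) hsq.w
    simpa only [Category.assoc, prod.lift_snd, prod.map_snd, prod.lift_snd_assoc] using this.symm
  have wt : r ≫ t = t' ≫ g := by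
    have := congrArg (fun k => k ≫ prod.fst) hsq.w
    simpa only [Category.assoc, prod.lift_fst, prod.map_fst, prod.lift_fst_assoc] using this.symm
  have hu2 : ∀ {T : Over S} (r₀ : T ⟶ R) (y z : T ⟶ U'), r₀ ≫ s = y ≫ g → r₀ ≫ t = z ≫ g →
      ∃ r' : T ⟶ R', r' ≫ r = r₀ ∧ r' ≫ s' = y ∧ r' ≫ t' = z := by
    intro T r₀ y z h1 h2
    obtain ⟨r', a, b, c⟩ := hu1 r₀ z y h2 h1
    exact ⟨r', a, c, b⟩
  have he2 : ∀ {T : Over S} (r1 r2 : T ⟶ R'), r1 ≫ r = r2 ≫ r → r1 ≫ s' = r2 ≫ s' →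
      r1 ≫ t' = r2 ≫ t' → r1 = r2 := fun r1 r2 a b c => he1 r1 r2 a c b
  have hs : Etale s.left := h.etale_left
  have ht : Etale t.left := h.etale_right
  refine ⟨⟨?_, ?_⟩, ?_, ?_⟩
  · -- injective
    intro T r1 r2 h1 h2
    apply he1 r1 r2 ?_ h1 h2
    apply h.injective T
    · rw [Category.assoc, Category.assoc, wt, ← Category.assoc, ← Category.assoc, h1]
    · rw [Category.assoc, Category.assoc, ws, ← Category.assoc, ← Category.assoc, h2]
  · -- equivalence
    intro T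
    have hE := h.equivalence T
    have key : ∀ a b : T ⟶ U', (∃ r' : T ⟶ R', r' ≫ t' = a ∧ r' ≫ s' = b) ↔
        (∃ r₀ : T ⟶ R, r₀ ≫ t = a ≫ g ∧ r₀ ≫ s = b ≫ g) := by
      intro a b
      constructor
      · rintro ⟨r', rfl, rfl⟩
        exact ⟨r' ≫ r, by rw [Category.assoc, wt, Category.assoc],
          by rw [Category.assoc, ws, Category.assoc]⟩
      · rintro ⟨r₀, h1, h2⟩
        obtain ⟨r', -, e1, e2⟩ := hu1 r₀ a b h1 h2
        exact ⟨r', e1, e2⟩
    exact ⟨fun a => (key a a).2 (hE.refl _),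
      fun {a b} hab => (key b a).2 (hE.symm ((key a b).1 hab)),
      fun {a b c} h1 h2 => (key a c).2 (hE.trans ((key a b).1 h1) ((key b c).1 h2))⟩
  · exact etale_gen s t g r s' t' ws wt hu1 he1 hs
  · exact etale_gen t s g r t' s' wt ws hu2 he2 ht

end Groth.Agent.S9871
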