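import Groth.Statements.S10141
import Mathlib
import Groth.Agent.S9871
import Groth.Agent.Lib.helper15.AlgSpQuot3
import Groth.Agent.Lib.helper15.AlgSpQuotSh

set_option autoImplicit false
universe u
open CategoryTheory CategoryTheory.Limits AlgebraicGeometry
open AlgSp
open Groth.Agent.Lib.H15.Quot Groth.Agent.Lib.H15.AS

namespace Groth.Agent.S10141

variable {S : Scheme.{u}} (G : Grpd.GroupoidScheme S)

/-- The relation defined by a groupoid scheme on `T`-points, at the level of schemes. -/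
theorem rel_iff_scheme {T : Over S} (a b : T ⟶ Over.mk G.pU) :
    (∃ r : (AlgSp.yon S).obj T ⟶ (AlgSp.yon S).obj (Over.mk G.pR),
      r ≫ (AlgSp.yon S).map (Over.homMk G.t G.t_over : Over.mk G.pR ⟶ Over.mk G.pU) = (AlgSp.yon S).map a ∧
      r ≫ (AlgSp.yon S).map (Over.homMk G.s G.s_over : Over.mk G.pR ⟶ Over.mk G.pU) = (AlgSp.yon S).map b) ↔
    ∃ ρ : T.left ⟶ G.R, ρ ≫ G.t = a.left ∧ ρ ≫ G.s = b.left := by
  constructor
  · rintro ⟨r, h1, h2⟩
    obtain ⟨ρ, rfl⟩ := (AlgSp.yon S).map_surjective r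
    rw [← Functor.map_comp] at h1 h2
    exact ⟨ρ.left, congrArg (fun k => k.left) ((AlgSp.yon S).map_injective h1),
      congrArg (fun k => k.left) ((AlgSp.yon S).map_injective h2)⟩
  · rintro ⟨ρ, h1, h2⟩
    have hw : ρ ≫ G.pR = T.hom := by
      rw [← G.t_over, ← Category.assoc, h1]; exact Over.w a
    refine ⟨(AlgSp.yon S).map (Over.homMk ρ hw : T ⟶ Over.mk G.pR), ?_, ?_⟩
    · rw [← Functor.map_comp]; congr 1; ext; exact h1
    · rw [← Functor.map_comp]; congr 1; ext; exact h2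

theorem isPreEqvRelSp_groupoidScheme :
    AlgSp.IsPreEqvRelSp ((AlgSp.yon S).map (Over.homMk G.s G.s_over : Over.mk G.pR ⟶ Over.mk G.pU))
      ((AlgSp.yon S).map (Over.homMk G.t G.t_over : Over.mk G.pR ⟶ Over.mk G.pU)) := by
  intro T
  refine ⟨fun a => ?_, fun {a b} h => ?_, fun {a b c} h1 h2 => ?_⟩
  · obtain ⟨a, rfl⟩ := (AlgSp.yon S).map_surjective a
    rw [rel_iff_scheme]
    exact ⟨a.left ≫ G.e, by rw [Category.assoc, G.e_t]; exact Category.comp_id _,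
      by rw [Category.assoc, G.e_s]; exact Category.comp_id _⟩
  · obtain ⟨a, rfl⟩ := (AlgSp.yon S).map_surjective a
    obtain ⟨b, rfl⟩ := (AlgSp.yon S).map_surjective b
    rw [rel_iff_scheme] at h ⊢
    obtain ⟨ρ, h1, h2⟩ := h
    exact ⟨ρ ≫ G.i, by rw [Category.assoc, G.i_t, h2], by rw [Category.assoc, G.i_s, h1]⟩
  · obtain ⟨a, rfl⟩ := (AlgSp.yon S).map_surjective a
    obtain ⟨b, rfl⟩ := (AlgSp.yon S).map_surjective b
    obtain ⟨c, rfl⟩ := (AlgSp.yon S).map_surjective c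
    rw [rel_iff_scheme] at h1 h2 ⊢
    obtain ⟨ρ1, h11, h12⟩ := h1
    obtain ⟨ρ2, h21, h22⟩ := h2
    have h : ρ1 ≫ G.s = ρ2 ≫ G.t := h12.trans h21.symm
    exact ⟨pullback.lift ρ1 ρ2 h ≫ G.c, (G.comp_t ρ1 ρ2 h).trans h11, (G.comp_s ρ1 ρ2 h).trans h22⟩

section
variable {U' : Scheme.{u}} (g : U' ⟶ G.U)

local notation "sO" => (Over.homMk G.s G.s_over : Over.mk G.pR ⟶ Over.mk G.pU)
local notation "tO" => (Over.homMk G.t G.t_over : Over.mk G.pR ⟶ Over.mk G.pU)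
local notation "gO" => (Over.homMk g rfl : Over.mk (g ≫ G.pU) ⟶ Over.mk G.pU)
set_option quotPrecheck false in
local notation "πq" => AlgSp.quotSpπ ((AlgSp.yon S).map sO) ((AlgSp.yon S).map tO)

theorem preimage_eq :
    AlgSp.Points.ofPt πq ⁻¹' Set.range (AlgSp.Points.ofPt ((AlgSp.yon S).map gO ≫ πq)) =
      Set.range ⇑(pullback.snd g G.t ≫ G.s) := by
  ext u
  constructor
  · rintro ⟨u', hu'⟩
    rw [ofPt_yon_map_comp] at hu'
    obtain ⟨ρ, h1, h2⟩ := ofPt_π_eq_of_pre sO tO (isPreEqvRelSp_groupoidScheme G) _ _ hu'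
    obtain ⟨z, -, hz⟩ := Scheme.Pullback.exists_preimage_pullback (f := g) (g := G.t) u' ρ h1.symm
    refine ⟨z, ?_⟩
    change G.s ((pullback.snd g G.t) z) = u
    rw [hz]; exact h2
  · rintro ⟨z, rfl⟩
    refine ⟨pullback.fst g G.t z, ?_⟩
    have hc : g (pullback.fst g G.t z) = G.t (pullback.snd g G.t z) := by
      rw [← Scheme.Hom.comp_apply, pullback.condition, Scheme.Hom.comp_apply]
    rw [ofPt_yon_map_comp]
    change AlgSp.Points.ofPt πq (g (pullback.fst g G.t z)) =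
      AlgSp.Points.ofPt πq (G.s (pullback.snd g G.t z))
    rw [hc]
    have e1 := ofPt_yon_map_comp tO πq (pullback.snd g G.t z)
    have e2 := ofPt_yon_map_comp sO πq (pullback.snd g G.t z)
    rw [AlgSp.quotSp_condition] at e2
    exact e1.symm.trans e2

theorem local_lift (W : G.U.Opens)
    (hW : (W : Set ↥G.U) = Set.range ⇑(pullback.snd g G.t ≫ G.s))
    (hlift : pullback g G.t ⟶ ↑W) (hh : hlift ≫ W.ι = pullback.snd g G.t ≫ G.s)
    (hsurj : Sheaf.IsLocallySurjective ((AlgSp.yon S).map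
      (Over.homMk hlift ((Category.assoc _ _ _).symm.trans (congrArg (· ≫ G.pU) hh)) :
        Over.mk ((pullback.snd g G.t ≫ G.s) ≫ G.pU) ⟶ Over.mk (W.ι ≫ G.pU))))
    {T : Over S} (x : (AlgSp.yon S).obj T ⟶ AlgSp.quotSp ((AlgSp.yon S).map sO) ((AlgSp.yon S).map tO))
    (hx : ∀ τ : ↥T.left, AlgSp.Points.ofPt x τ ∈
      Set.range (AlgSp.Points.ofPt ((AlgSp.yon S).map gO ≫ πq))) :
    ∃ Sv : Sieve T, Sv ∈ AlgSp.J S T ∧ ∀ ⦃T' : Over S⦄ (f : T' ⟶ T), Sv f →
      ∃ b : (AlgSp.yon S).obj T' ⟶ (AlgSp.yon S).obj (Over.mk (g ≫ G.pU)),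
        b ≫ (AlgSp.yon S).map gO ≫ πq = (AlgSp.yon S).map f ≫ x := by
  obtain ⟨Sv, hSv, hl⟩ := exists_cover_lift πq x
  let Sv' : Sieve T :=
    { arrows := fun T' f => ∃ b : (AlgSp.yon S).obj T' ⟶ (AlgSp.yon S).obj (Over.mk (g ≫ G.pU)),
        b ≫ (AlgSp.yon S).map gO ≫ πq = (AlgSp.yon S).map f ≫ x
      downward_closed := by
        rintro Y Z f ⟨b, hb⟩ h
        exact ⟨(AlgSp.yon S).map h ≫ b, by rw [Category.assoc, hb, Functor.map_comp, Category.assoc]⟩ }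
  refine ⟨Sv', ?_, fun T' f hf => hf⟩
  refine (AlgSp.J S).transitive hSv Sv' fun T' f hf => ?_
  obtain ⟨a, ha⟩ := hl f hf
  obtain ⟨a₀, rfl⟩ := (AlgSp.yon S).map_surjective a
  have hrange : Set.range a₀.left ⊆ Set.range W.ι := by
    rintro _ ⟨τ', rfl⟩
    rw [Scheme.Opens.range_ι, hW, ← preimage_eq G g]
    rw [Set.mem_preimage, ← ofPt_yon_map_comp, ha, ofPt_yon_map_comp]; exact hx _
  let a₁ : T'.left ⟶ ↑W := IsOpenImmersion.lift W.ι a₀.left hrange
  have ha₁ : a₁ ≫ W.ι = a₀.left := IsOpenImmersion.lift_fac _ _ _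
  have hw1 : a₁ ≫ W.ι ≫ G.pU = T'.hom := by
    rw [← Category.assoc, ha₁]; exact Over.w a₀
  haveI : Epi ((AlgSp.yon S).map
      (Over.homMk hlift ((Category.assoc _ _ _).symm.trans (congrArg (· ≫ G.pU) hh)) :
        Over.mk ((pullback.snd g G.t ≫ G.s) ≫ G.pU) ⟶ Over.mk (W.ι ≫ G.pU))) :=
    (Sheaf.isLocallySurjective_iff_epi _).1 hsurj
  obtain ⟨Sv2, hSv2, hl2⟩ := exists_cover_lift ((AlgSp.yon S).map
      (Over.homMk hlift ((Category.assoc _ _ _).symm.trans (congrArg (· ≫ G.pU) hh)) :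
        Over.mk ((pullback.snd g G.t ≫ G.s) ≫ G.pU) ⟶ Over.mk (W.ι ≫ G.pU)))
    ((AlgSp.yon S).map (Over.homMk a₁ hw1 : T' ⟶ Over.mk (W.ι ≫ G.pU)))
  refine (AlgSp.J S).superset_covering ?_ hSv2
  intro T'' f' hf'
  obtain ⟨z, hz⟩ := hl2 f' hf'
  obtain ⟨z₀, rfl⟩ := (AlgSp.yon S).map_surjective z
  rw [← Functor.map_comp, ← Functor.map_comp] at hz
  have hz' := congrArg (fun k => k.left) ((AlgSp.yon S).map_injective hz)
  have hz1 : z₀.left ≫ hlift = f'.left ≫ a₁ := hz'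
  have hz2 : z₀.left ≫ pullback.snd g G.t ≫ G.s = f'.left ≫ a₀.left := by
    have : z₀.left ≫ hlift ≫ W.ι = f'.left ≫ a₀.left := by
      rw [← Category.assoc, hz1, Category.assoc, ha₁]
    rw [hh] at this; exact this
  have hwz : z₀.left ≫ (pullback.snd g G.t ≫ G.s) ≫ G.pU = T''.hom := Over.w z₀
  have hwb : (z₀.left ≫ pullback.fst g G.t) ≫ g ≫ G.pU = T''.hom := by
    have e : pullback.fst g G.t ≫ g ≫ G.pU = (pullback.snd g G.t ≫ G.s) ≫ G.pU := by
      rw [← Category.assoc, pullback.condition, Category.assoc, G.t_over, Category.assoc, G.s_over]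
    rw [Category.assoc, e]; exact hwz
  have hwρ : (z₀.left ≫ pullback.snd g G.t) ≫ G.pR = T''.hom := by
    have e : pullback.snd g G.t ≫ G.pR = (pullback.snd g G.t ≫ G.s) ≫ G.pU := by
      rw [Category.assoc, G.s_over]
    rw [Category.assoc, e]; exact hwz
  let b : T'' ⟶ Over.mk (g ≫ G.pU) := Over.homMk (z₀.left ≫ pullback.fst g G.t) hwb
  let ρ : T'' ⟶ Over.mk G.pR := Over.homMk (z₀.left ≫ pullback.snd g G.t) hwρ
  have e1 : b ≫ gO = ρ ≫ tO := by
    ext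
    change (z₀.left ≫ pullback.fst g G.t) ≫ g = (z₀.left ≫ pullback.snd g G.t) ≫ G.t
    exact (Category.assoc _ _ _).trans ((congrArg (z₀.left ≫ ·) pullback.condition).trans
      (Category.assoc _ _ _).symm)
  have e2 : ρ ≫ sO = f' ≫ a₀ := by
    ext
    change (z₀.left ≫ pullback.snd g G.t) ≫ G.s = f'.left ≫ a₀.left
    exact (Category.assoc _ _ _).trans hz2
  refine ⟨(AlgSp.yon S).map b, ?_⟩
  change _ = (AlgSp.yon S).map (f' ≫ f) ≫ x
  rw [← Category.assoc, ← Functor.map_comp, e1, Functor.map_comp, Category.assoc,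
    ← AlgSp.quotSp_condition, ← Category.assoc, ← Functor.map_comp, e2, Functor.map_comp,
    Category.assoc, ha, Functor.map_comp, Category.assoc]

end


/-- Let `(U, R, s, t, c)` be a groupoid scheme over `S` and `g : U' ⟶ U` a morphism such that the
composite `h : U' ×_{g, U, t} R ⟶ R ⟶ U` of the projection with `s` has open image `W ⊂ U` and `h :
U' ×_{g, U, t} R ⟶ W` is a surjection of fppf sheaves. Then for the restriction `R' = R|_{U'}` the
map of fppf quotient sheaves `U'/R' ⟶ U/R` is representable and an open immersion. -/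
theorem result (S : Scheme.{u}) (G : Grpd.GroupoidScheme S)
    (U' : Scheme.{u}) (g : U' ⟶ G.U) (W : G.U.Opens)
    (hW : (W : Set ↥G.U) = Set.range ⇑(pullback.snd g G.t ≫ G.s))
    (hlift : pullback g G.t ⟶ ↑W) (hh : hlift ≫ W.ι = pullback.snd g G.t ≫ G.s)
    (hsurj : Sheaf.IsLocallySurjective ((AlgSp.yon S).map
      (Over.homMk hlift ((Category.assoc _ _ _).symm.trans (congrArg (· ≫ G.pU) hh)) :
        Over.mk ((pullback.snd g G.t ≫ G.s) ≫ G.pU) ⟶ Over.mk (W.ι ≫ G.pU))))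
    (R' : Over S) (s' t' : R' ⟶ Over.mk (g ≫ G.pU)) (r : R' ⟶ Over.mk G.pR)
    (hsq : IsPullback (prod.lift t' s') r
      (prod.map (Over.homMk g rfl : Over.mk (g ≫ G.pU) ⟶ Over.mk G.pU) (Over.homMk g rfl : Over.mk (g ≫ G.pU) ⟶ Over.mk G.pU))
      (prod.lift (Over.homMk G.t G.t_over : Over.mk G.pR ⟶ Over.mk G.pU) (Over.homMk G.s G.s_over : Over.mk G.pR ⟶ Over.mk G.pU)))
    (ψ : QuotSh.quot Scheme.fppfPrecoverage s' t' ⟶
      QuotSh.quot Scheme.fppfPrecoverage (Over.homMk G.s G.s_over : Over.mk G.pR ⟶ Over.mk G.pU) (Over.homMk G.t G.t_over : Over.mk G.pR ⟶ Over.mk G.pU))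
    (hψ : QuotSh.quotπ Scheme.fppfPrecoverage s' t' ≫ ψ =
      QuotSh.repMap Scheme.fppfPrecoverage (Over.homMk g rfl : Over.mk (g ≫ G.pU) ⟶ Over.mk G.pU) ≫ QuotSh.quotπ Scheme.fppfPrecoverage _ _) :
    AlgSp.RepWith @IsOpenImmersion ψ := by
  have hpre := isPreEqvRelSp_groupoidScheme G
  have hψ' : AlgSp.quotSpπ ((AlgSp.yon S).map s') ((AlgSp.yon S).map t') ≫
      ((quotIso s' t').hom ≫ ψ ≫ (quotIso (Over.homMk G.s G.s_over : Over.mk G.pR ⟶ Over.mk G.pU)
        (Over.homMk G.t G.t_over : Over.mk G.pR ⟶ Over.mk G.pU)).inv) =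
      (AlgSp.yon S).map (Over.homMk g rfl : Over.mk (g ≫ G.pU) ⟶ Over.mk G.pU) ≫
        AlgSp.quotSpπ ((AlgSp.yon S).map (Over.homMk G.s G.s_over : Over.mk G.pR ⟶ Over.mk G.pU))
          ((AlgSp.yon S).map (Over.homMk G.t G.t_over : Over.mk G.pR ⟶ Over.mk G.pU)) := by
    rw [← Category.assoc, π_quotIso_hom, ← cancel_mono (quotIso _ _).hom, Category.assoc,
      Category.assoc, Category.assoc, Iso.inv_hom_id, Category.comp_id, π_quotIso_hom]
    unfold qp
    rw [Category.assoc, hψ, ← Category.assoc, ← yon_map_repIso_inv, Category.assoc]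
  haveI hmono : Mono ((quotIso s' t').hom ≫ ψ ≫
      (quotIso (Over.homMk G.s G.s_over : Over.mk G.pR ⟶ Over.mk G.pU)
        (Over.homMk G.t G.t_over : Over.mk G.pR ⟶ Over.mk G.pU)).inv) := by
    refine mono_of_epi_of_forall (AlgSp.quotSpπ ((AlgSp.yon S).map s') ((AlgSp.yon S).map t')) _
      fun T a b hab => ?_
    rw [hψ'] at hab
    have h1 : (a ≫ (AlgSp.yon S).map (Over.homMk g rfl : Over.mk (g ≫ G.pU) ⟶ Over.mk G.pU)) ≫
        AlgSp.quotSpπ ((AlgSp.yon S).map (Over.homMk G.s G.s_over : Over.mk G.pR ⟶ Over.mk G.pU))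
          ((AlgSp.yon S).map (Over.homMk G.t G.t_over : Over.mk G.pR ⟶ Over.mk G.pU)) =
        (b ≫ (AlgSp.yon S).map (Over.homMk g rfl : Over.mk (g ≫ G.pU) ⟶ Over.mk G.pU)) ≫
        AlgSp.quotSpπ ((AlgSp.yon S).map (Over.homMk G.s G.s_over : Over.mk G.pR ⟶ Over.mk G.pU))
          ((AlgSp.yon S).map (Over.homMk G.t G.t_over : Over.mk G.pR ⟶ Over.mk G.pU)) := by
      rw [Category.assoc, Category.assoc]; exact hab
    obtain ⟨Sv, hSv, hrel⟩ := exists_cover_rel _ _ hpre _ _ h1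
    refine eq_of_locally_eq _ _ Sv hSv fun T' f hf => ?_
    obtain ⟨r₀, hr1, hr2⟩ := hrel f hf
    obtain ⟨r₁, rfl⟩ := (AlgSp.yon S).map_surjective r₀
    obtain ⟨a₁, rfl⟩ := (AlgSp.yon S).map_surjective a
    obtain ⟨b₁, rfl⟩ := (AlgSp.yon S).map_surjective b
    obtain ⟨r', -, e1, e2⟩ := Groth.Agent.S9871.huniv hsq r₁ (f ≫ a₁) (f ≫ b₁)
      ((AlgSp.yon S).map_injective (by simpa only [Functor.map_comp, Category.assoc] using hr1))
      ((AlgSp.yon S).map_injective (by simpa only [Functor.map_comp, Category.assoc] using hr2))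
    rw [← Category.assoc, ← Category.assoc, ← Functor.map_comp, ← Functor.map_comp, ← e1, ← e2,
      Functor.map_comp, Functor.map_comp, Category.assoc, Category.assoc, AlgSp.quotSp_condition]
  have hΩ : IsOpen (Set.range (AlgSp.Points.ofPt
      ((AlgSp.yon S).map (Over.homMk g rfl : Over.mk (g ≫ G.pU) ⟶ Over.mk G.pU) ≫
        AlgSp.quotSpπ ((AlgSp.yon S).map (Over.homMk G.s G.s_over : Over.mk G.pR ⟶ Over.mk G.pU))
          ((AlgSp.yon S).map (Over.homMk G.t G.t_over : Over.mk G.pR ⟶ Over.mk G.pU))))) := by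
    refine isOpen_of_isOpen_preimage (AlgSp.quotSpπ _ _) _ ?_
    rw [preimage_eq G g, ← hW]
    exact W.2
  have h := repWith_isOpenImmersion_of_local_lift
    (AlgSp.quotSpπ ((AlgSp.yon S).map s') ((AlgSp.yon S).map t')) _ (by rw [hψ']; exact hΩ)
    (by rw [hψ']; exact fun T x hx => local_lift G g W hW hlift hh hsurj x hx)
  have h2 := (MorphismProperty.cancel_left_of_respectsIso (AlgSp.RepWith @IsOpenImmersion)
    (quotIso s' t').hom _).1 h
  exact (MorphismProperty.cancel_right_of_respectsIso (AlgSp.RepWith @IsOpenImmersion)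
    _ (quotIso _ _).inv).1 h2

end Groth.Agent.S10141
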