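import Groth.Statements.S10142
import Mathlib

set_option autoImplicit false
universe u
open CategoryTheory CategoryTheory.Limits AlgebraicGeometry
open AlgSp AlgSp.GroupoidSp

namespace Groth.Agent.S10142

variable {S : Scheme.{u}} {B : AlgSp.Sp S} (G : AlgSp.GroupoidSp B)

/-- Composition of `T`-valued arrows. -/
noncomputable def cmp {T : AlgSp.Sp S} (α β : T ⟶ G.R) (h : α ≫ G.s = β ≫ G.t) : T ⟶ G.R :=
  pullback.lift α β h ≫ G.c

theorem cmp_congr {T : AlgSp.Sp S} {α α' β β' : T ⟶ G.R} (hα : α = α') (hβ : β = β')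
    (h : α ≫ G.s = β ≫ G.t) :
    cmp G α β h = cmp G α' β' (by rw [← hα, ← hβ]; exact h) := by
  subst hα hβ; rfl

theorem cmp_s {T : AlgSp.Sp S} (α β : T ⟶ G.R) (h : α ≫ G.s = β ≫ G.t) :
    cmp G α β h ≫ G.s = β ≫ G.s := G.comp_s α β h

theorem cmp_t {T : AlgSp.Sp S} (α β : T ⟶ G.R) (h : α ≫ G.s = β ≫ G.t) :
    cmp G α β h ≫ G.t = α ≫ G.t := G.comp_t α β h

theorem cmp_assoc {T : AlgSp.Sp S} (α β γ : T ⟶ G.R) (h₁ : α ≫ G.s = β ≫ G.t)
    (h₂ : β ≫ G.s = γ ≫ G.t) :
    cmp G (cmp G α β h₁) γ ((cmp_s G α β h₁).trans h₂) =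
      cmp G α (cmp G β γ h₂) (h₁.trans (cmp_t G β γ h₂).symm) := G.assoc α β γ h₁ h₂

theorem precomp_cmp {T T' : AlgSp.Sp S} (m : T' ⟶ T) (α β : T ⟶ G.R) (h : α ≫ G.s = β ≫ G.t) :
    m ≫ cmp G α β h = cmp G (m ≫ α) (m ≫ β) (by rw [Category.assoc, Category.assoc, h]) := by
  unfold cmp
  have hm : m ≫ pullback.lift α β h =
      pullback.lift (m ≫ α) (m ≫ β) (by rw [Category.assoc, Category.assoc, h]) := by
    apply pullback.hom_ext
    · rw [Category.assoc, pullback.lift_fst, pullback.lift_fst]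
    · rw [Category.assoc, pullback.lift_snd, pullback.lift_snd]
  rw [← Category.assoc, hm]

theorem hc {T : AlgSp.Sp S} (m : T ⟶ pullback G.s G.t) :
    m ≫ G.c = cmp G (m ≫ pullback.fst _ _) (m ≫ pullback.snd _ _)
      (by rw [Category.assoc, Category.assoc, pullback.condition]) := by
  unfold cmp
  have hm : m = pullback.lift (m ≫ pullback.fst G.s G.t) (m ≫ pullback.snd G.s G.t)
      (by rw [Category.assoc, Category.assoc, pullback.condition]) := by
    apply pullback.hom_ext
    · rw [pullback.lift_fst]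
    · rw [pullback.lift_snd]
  conv_lhs => rw [hm]

theorem hc1 : G.c = cmp G (pullback.fst G.s G.t) (pullback.snd G.s G.t) pullback.condition := by
  have := hc G (𝟙 (pullback G.s G.t))
  rw [Category.id_comp] at this
  refine this.trans (cmp_congr G (Category.id_comp _) (Category.id_comp _) _)

theorem cs : G.c ≫ G.s = pullback.snd G.s G.t ≫ G.s := by
  conv_lhs => rw [hc1 G]
  exact cmp_s G _ _ _

theorem ct : G.c ≫ G.t = pullback.fst G.s G.t ≫ G.t := by
  conv_lhs => rw [hc1 G]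
  exact cmp_t G _ _ _

theorem K1 {T : AlgSp.Sp S} (γ β : T ⟶ G.R) (w : γ ≫ G.s = β ≫ G.s) :
    cmp G (cmp G γ (β ≫ G.i) (by rw [Category.assoc, G.i_t]; exact w)) β
      (by rw [cmp_s, Category.assoc, G.i_s]) = γ := by
  refine (cmp_assoc G γ (β ≫ G.i) β _ (by rw [Category.assoc, G.i_s])).trans ?_
  have hmid : cmp G (β ≫ G.i) β (by rw [Category.assoc, G.i_s]) = γ ≫ G.s ≫ G.e :=
    (G.i_comp β).trans (by rw [← Category.assoc, ← w, Category.assoc])
  exact (cmp_congr G rfl hmid _).trans (G.comp_e γ)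

theorem K2 {T : AlgSp.Sp S} (α β : T ⟶ G.R) (h : α ≫ G.s = β ≫ G.t) :
    cmp G (cmp G α β h) (β ≫ G.i) (by rw [cmp_s, Category.assoc, G.i_t]) = α := by
  refine (cmp_assoc G α β (β ≫ G.i) h (by rw [Category.assoc, G.i_t])).trans ?_
  have hmid : cmp G β (β ≫ G.i) (by rw [Category.assoc, G.i_t]) = α ≫ G.s ≫ G.e :=
    (G.comp_i β).trans (by rw [← Category.assoc, ← h, Category.assoc])
  exact (cmp_congr G rfl hmid _).trans (G.comp_e α)

theorem K3 {T : AlgSp.Sp S} (α β : T ⟶ G.R) (h : α ≫ G.t = β ≫ G.t) :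
    cmp G α (cmp G (α ≫ G.i) β (by rw [Category.assoc, G.i_s]; exact h))
      (by rw [cmp_t, Category.assoc, G.i_t]) = β := by
  refine (cmp_assoc G α (α ≫ G.i) β (by rw [Category.assoc, G.i_t])
    (by rw [Category.assoc, G.i_s]; exact h)).symm.trans ?_
  have hmid : cmp G α (α ≫ G.i) (by rw [Category.assoc, G.i_t]) = β ≫ G.t ≫ G.e :=
    (G.comp_i α).trans (by rw [← Category.assoc, h, Category.assoc])
  exact (cmp_congr G hmid rfl _).trans (G.e_comp β)

theorem K4 {T : AlgSp.Sp S} (α β : T ⟶ G.R) (h : α ≫ G.s = β ≫ G.t) :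
    cmp G (α ≫ G.i) (cmp G α β h) (by rw [cmp_t, Category.assoc, G.i_s]) = β := by
  refine (cmp_assoc G (α ≫ G.i) α β (by rw [Category.assoc, G.i_s]) h).symm.trans ?_
  have hmid : cmp G (α ≫ G.i) α (by rw [Category.assoc, G.i_s]) = β ≫ G.t ≫ G.e :=
    (G.i_comp α).trans (by rw [← Category.assoc, h, Category.assoc])
  exact (cmp_congr G hmid rfl _).trans (G.e_comp β)

theorem part1 : IsPullback G.c (pullback.snd G.s G.t) G.s G.s := by
  refine ⟨⟨cs G⟩, ⟨PullbackCone.IsLimit.mk _
    (fun s => pullback.lift (cmp G s.fst (s.snd ≫ G.i)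
        (by rw [Category.assoc, G.i_t]; exact s.condition)) s.snd
      (by rw [cmp_s, Category.assoc, G.i_s])) (fun s => ?_) (fun s => ?_)
    (fun s m h1 h2 => ?_)⟩⟩
  · rw [hc]
    refine (cmp_congr G (pullback.lift_fst _ _ _) (pullback.lift_snd _ _ _) _).trans ?_
    exact K1 G s.fst s.snd s.condition
  · exact pullback.lift_snd _ _ _
  · apply pullback.hom_ext
    · rw [pullback.lift_fst]
      have hK := K2 G (m ≫ pullback.fst _ _) (m ≫ pullback.snd _ _)
        (by rw [Category.assoc, Category.assoc, pullback.condition])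
      rw [← hK]
      exact cmp_congr G ((hc G m).symm.trans h1) (by rw [h2]) _
    · rw [pullback.lift_snd]
      exact h2

/-- For a groupoid in algebraic spaces `(U, R, s, t, c, e, i)` over `B`: the square with sides `c : R
×_{s,U,t} R ⟶ R`, `pr_1 : R ×_{s,U,t} R ⟶ R`, `s` and `s` is cartesian, and the morphism `R
×_{t,U,t} R ⟶ R ×_{s,U,t} R`, `(α, β) ↦ (α, i(α) ∘ β)`, is an isomorphism whose composite with `c`
is the second projection `pr_1 : R ×_{t,U,t} R ⟶ R`. (The published statement also lists the square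
formed by `pr_0`, `pr_1`, `s`, `t`, which is cartesian by definition of the fibre product.) -/
theorem result (S : Scheme.{u}) (B : AlgSp.Sp S) (hB : AlgSp.IsAlgSpace B)
    (G : AlgSp.GroupoidSp B) (hU : AlgSp.IsAlgSpace G.U) (hR : AlgSp.IsAlgSpace G.R) :
    IsPullback G.c (pullback.snd G.s G.t) G.s G.s ∧
      ∀ φ : pullback G.t G.t ⟶ pullback G.s G.t,
        φ ≫ pullback.fst G.s G.t = pullback.fst G.t G.t →
        φ ≫ pullback.snd G.s G.t =
          pullback.lift (pullback.fst G.t G.t ≫ G.i) (pullback.snd G.t G.t)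
            ((Category.assoc _ _ _).trans ((congrArg (pullback.fst G.t G.t ≫ ·) G.i_s).trans pullback.condition)) ≫ G.c →
        IsIso φ ∧ φ ≫ G.c = pullback.snd G.t G.t := by
  refine ⟨part1 G, fun φ h1 h2 => ?_⟩
  have hφc : φ ≫ G.c = pullback.snd G.t G.t := by
    rw [hc G φ]
    refine (cmp_congr G h1 h2 _).trans ?_
    exact K3 G _ _ pullback.condition
  refine ⟨⟨pullback.lift (pullback.fst G.s G.t) G.c (ct G).symm, ?_, ?_⟩, hφc⟩
  · apply pullback.hom_ext
    · rw [Category.assoc, pullback.lift_fst, h1, Category.id_comp]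
    · rw [Category.assoc, pullback.lift_snd, hφc, Category.id_comp]
  · apply pullback.hom_ext
    · rw [Category.assoc, h1, pullback.lift_fst, Category.id_comp]
    · rw [Category.assoc, h2, Category.id_comp]
      change _ ≫ cmp G _ _ _ = _
      rw [precomp_cmp]
      refine (cmp_congr G (by rw [← Category.assoc, pullback.lift_fst])
        ((pullback.lift_snd _ _ _).trans (hc1 G)) _).trans ?_
      exact K4 G _ _ pullback.condition

end Groth.Agent.S10142
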