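import Groth.Statements.S10145
import Groth.Agent.Lib.helper15.AlgSpGpd

set_option autoImplicit false
universe u
open CategoryTheory CategoryTheory.Limits AlgebraicGeometry
open AlgSp AlgSp.GroupoidSp
open Groth.Agent.Lib.H15.Gpd

namespace Groth.Agent.S10145

/-- Let `(U, R, s, t, c)` be a groupoid in algebraic spaces over `B` whose object space is `U = Spec k`,
and let `r : Spec k ⟶ R` be such that `s ∘ r` and `t ∘ r` are automorphisms of `Spec k`; write `a =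
r ∘ (s ∘ r)⁻¹`, so that `s ∘ a = id` and `t ∘ a` is an automorphism. Then `R ⟶ R`, `f ↦ c(a ∘ t ∘ f,
f)`, is an automorphism of `R` mapping `e` to `a` (the point `r`). -/
theorem result (S : Scheme.{u}) (B : AlgSp.Sp S) (hB : AlgSp.IsAlgSpace B)
    (G : AlgSp.GroupoidSp B) (hR : AlgSp.IsAlgSpace G.R) (k : Type u) [Field k]
    (σ : Spec (CommRingCat.of k) ⟶ S) (eU : G.U ≅ (AlgSp.yon S).obj (Over.mk σ))
    (a : G.U ⟶ G.R) (ha : a ≫ G.s = 𝟙 G.U) [IsIso (a ≫ G.t)] :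
    IsIso (pullback.lift (G.t ≫ a) (𝟙 G.R) (((Category.assoc _ _ _).trans (congrArg (G.t ≫ ·) ha)).trans ((Category.comp_id _).trans (Category.id_comp _).symm)) ≫ G.c) ∧
      G.e ≫ (pullback.lift (G.t ≫ a) (𝟙 G.R) (((Category.assoc _ _ _).trans (congrArg (G.t ≫ ·) ha)).trans ((Category.comp_id _).trans (Category.id_comp _).symm)) ≫ G.c) = a := by
  have h0 : (G.t ≫ a) ≫ G.s = 𝟙 G.R ≫ G.t := by
    rw [Category.assoc, ha, Category.comp_id, Category.id_comp]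
  have hτ : inv (a ≫ G.t) ≫ a ≫ G.t = 𝟙 _ := IsIso.inv_hom_id _
  have hτ' : (a ≫ G.t) ≫ inv (a ≫ G.t) = 𝟙 _ := IsIso.hom_inv_id _
  have h1 : ((G.t ≫ inv (a ≫ G.t) ≫ a) ≫ G.i) ≫ G.s = 𝟙 G.R ≫ G.t := by
    rw [Category.assoc, G.i_s, Category.assoc, Category.assoc, hτ, Category.comp_id, Category.id_comp]
  have hL : pullback.lift (G.t ≫ a) (𝟙 G.R) (((Category.assoc _ _ _).trans (congrArg (G.t ≫ ·) ha)).trans
      ((Category.comp_id _).trans (Category.id_comp _).symm)) ≫ G.c = cmp G (G.t ≫ a) (𝟙 G.R) h0 := rfl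
  rw [hL]
  have hLt : cmp G (G.t ≫ a) (𝟙 G.R) h0 ≫ G.t = G.t ≫ a ≫ G.t := by
    rw [cmp_t, Category.assoc]
  have hMt : cmp G ((G.t ≫ inv (a ≫ G.t) ≫ a) ≫ G.i) (𝟙 G.R) h1 ≫ G.t = G.t ≫ inv (a ≫ G.t) := by
    rw [cmp_t, Category.assoc, G.i_t, Category.assoc, Category.assoc, ha, Category.comp_id]
  constructor
  · refine ⟨cmp G ((G.t ≫ inv (a ≫ G.t) ≫ a) ≫ G.i) (𝟙 G.R) h1, ?_, ?_⟩
    · -- L ≫ M = 𝟙
      rw [precomp_cmp]
      have e1 : cmp G (G.t ≫ a) (𝟙 G.R) h0 ≫ (G.t ≫ inv (a ≫ G.t) ≫ a) ≫ G.i = (G.t ≫ a) ≫ G.i := by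
        rw [Category.assoc, ← Category.assoc (cmp G _ _ _), hLt]
        simp only [Category.assoc]
        rw [← Category.assoc a G.t, ← Category.assoc (a ≫ G.t), hτ', Category.id_comp]
      have e2 : cmp G (G.t ≫ a) (𝟙 G.R) h0 ≫ 𝟙 G.R = cmp G (G.t ≫ a) (𝟙 G.R) h0 := Category.comp_id _
      refine (cmp_congr G e1 e2 _).trans ?_
      exact K4 G (G.t ≫ a) (𝟙 G.R) h0
    · -- M ≫ L = 𝟙
      rw [precomp_cmp]
      have e1 : cmp G ((G.t ≫ inv (a ≫ G.t) ≫ a) ≫ G.i) (𝟙 G.R) h1 ≫ G.t ≫ a =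
          G.t ≫ inv (a ≫ G.t) ≫ a := by
        rw [← Category.assoc, hMt, Category.assoc]
      have e2 : cmp G ((G.t ≫ inv (a ≫ G.t) ≫ a) ≫ G.i) (𝟙 G.R) h1 ≫ 𝟙 G.R =
          cmp G ((G.t ≫ inv (a ≫ G.t) ≫ a) ≫ G.i) (𝟙 G.R) h1 := Category.comp_id _
      refine (cmp_congr G e1 e2 _).trans ?_
      exact K3 G (G.t ≫ inv (a ≫ G.t) ≫ a) (𝟙 G.R)
        (by rw [Category.assoc, Category.assoc, hτ, Category.comp_id, Category.id_comp])
  · rw [precomp_cmp]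
    have e1 : G.e ≫ G.t ≫ a = a := by rw [← Category.assoc, G.e_t, Category.id_comp]
    have e2 : G.e ≫ 𝟙 G.R = a ≫ G.s ≫ G.e := by
      rw [Category.comp_id, ← Category.assoc, ha, Category.id_comp]
    refine (cmp_congr G e1 e2 _).trans ?_
    exact G.comp_e a

end Groth.Agent.S10145
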