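import Groth.Statements.S10148
import Mathlib
-- import your own Groth.Agent.* helpers here

set_option autoImplicit false
universe u
open LinTop

namespace Groth.Agent.S10148

open Filter Topology Polynomial in
theorem henselian_aux
    (A : Type u) [CommRing A] [UniformSpace A] [IsUniformAddGroup A] [IsTopologicalRing A]
    [IsLinearTopology A A] [T2Space A] [CompleteSpace A] (I : Ideal A)
    (hIopen : IsOpen (I : Set A)) (hInil : ∀ f ∈ I, IsTopologicallyNilpotent f) :
    HenselianRing A I := by
  classical
  haveI : NonarchimedeanAddGroup A := ⟨fun U hU => by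
    obtain ⟨J, hJo, hJU⟩ := (IsLinearTopology.hasBasis_open_ideal (R := A)).mem_iff.mp hU
    exact ⟨⟨J.toAddSubgroup, hJo⟩, hJU⟩⟩
  have hlim : ∀ s : ℕ → A, Tendsto (fun n => s (n + 1) - s n) atTop (𝓝 0) →
      ∃ a, Tendsto s atTop (𝓝 a) := fun s hs =>
    cauchySeq_tendsto_of_complete (NonarchimedeanAddGroup.cauchySeq_of_tendsto_sub_nhds_zero hs)
  have hIclosed : IsClosed (I : Set A) :=
    AddSubgroup.isClosed_of_isOpen I.toAddSubgroup hIopen
  -- a criterion for convergence to zero
  have hzero : ∀ (s : ℕ → A) (t : A), IsTopologicallyNilpotent t →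
      (∀ n, s n ∈ Ideal.span {t} ^ (n + 1)) → Tendsto s atTop (𝓝 0) := by
    intro s t ht hs
    rw [(IsLinearTopology.hasBasis_open_ideal (R := A)).tendsto_right_iff]
    intro J hJ
    have h1 : ∀ᶠ n in atTop, t ^ n ∈ (J : Set A) := ht (hJ.mem_nhds J.zero_mem)
    obtain ⟨N, hN⟩ := eventually_atTop.mp h1
    refine eventually_atTop.mpr ⟨N, fun n hn => ?_⟩
    have h2 : Ideal.span {t} ^ (n + 1) ≤ J := by
      rw [Ideal.span_singleton_pow, Ideal.span_le, Set.singleton_subset_iff]
      rw [pow_succ]
      exact J.mul_mem_right _ (hN n hn)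
    exact h2 (hs n)
  have hunit : ∀ x ∈ I, IsUnit (1 + x) := by
    intro x hx
    let s : ℕ → A := fun n => ∑ i ∈ Finset.range n, (-x) ^ i
    have hnx : IsTopologicallyNilpotent (-x) := hInil _ (I.neg_mem hx)
    have hs : Tendsto (fun n => s (n + 1) - s n) atTop (𝓝 0) := by
      have : (fun n => s (n + 1) - s n) = fun n => (-x) ^ n := by
        ext n; simp [s, Finset.sum_range_succ]
      rw [this]; exact hnx
    obtain ⟨y, hy⟩ := hlim s hs
    have h1 : Tendsto (fun n => (1 + x) * s n) atTop (𝓝 ((1 + x) * y)) := hy.const_mul _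
    have h2 : Tendsto (fun n => (1 + x) * s n) atTop (𝓝 1) := by
      have : (fun n => (1 + x) * s n) = fun n => 1 - (-x) ^ n := by
        ext n
        have := mul_neg_geom_sum (-x) n
        simpa [sub_neg_eq_add] using this
      rw [this]
      have := (tendsto_const_nhds (x := (1 : A)) (f := atTop)).sub hnx
      simpa using this
    have := tendsto_nhds_unique h1 h2
    exact IsUnit.of_mul_eq_one _ this
  have hjac : I ≤ Ideal.jacobson ⊥ := by
    intro x hx
    rw [Ideal.mem_jacobson_bot]
    intro y
    rw [add_comm]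
    exact hunit _ (I.mul_mem_right y hx)
  refine ⟨hjac, ?_⟩
  intro f _ a₀ h₁ h₂
  let f' := derivative f
  let c : ℕ → A := fun n => Nat.recOn n a₀ fun _ b => b - f.eval b * Ring.inverse (f'.eval b)
  have hc : ∀ n, c (n + 1) = c n - f.eval (c n) * Ring.inverse (f'.eval (c n)) := by
    intro n
    simp only [c]
  have hc_mod : ∀ n, c n ≡ a₀ [SMOD I] := by
    intro n
    induction n with
    | zero => rfl
    | succ n ih => ?_
    rw [hc, sub_eq_add_neg, ← add_zero a₀]
    refine ih.add ?_
    rw [SModEq.zero, Ideal.neg_mem_iff]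
    refine I.mul_mem_right _ ?_
    rw [← SModEq.zero] at h₁ ⊢
    exact (ih.eval f).trans h₁
  have hf'c : ∀ n, IsUnit (f'.eval (c n)) := by
    intro n
    have := isLocalHom_of_le_jacobson_bot I hjac
    apply IsUnit.of_map (Ideal.Quotient.mk I)
    convert! h₂ using 1
    exact SModEq.def.mp ((hc_mod n).eval _)
  set t := f.eval a₀ with ht
  have htnil : IsTopologicallyNilpotent t := hInil t h₁
  have hfcI : ∀ n, f.eval (c n) ∈ Ideal.span {t} ^ (n + 1) := by
    intro n
    induction n with
    | zero =>
      rw [zero_add, pow_one]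
      exact Ideal.subset_span rfl
    | succ n ih => ?_
    rw [← taylor_eval_sub (c n), hc, sub_eq_add_neg, sub_eq_add_neg,
      add_neg_cancel_comm]
    rw [eval_eq_sum, sum_over_range' _ _ _ (lt_add_of_pos_right _ zero_lt_two), ←
      Finset.sum_range_add_sum_Ico _ (Nat.le_add_left _ _)]
    swap
    · intro i
      rw [zero_mul]
    refine Ideal.add_mem _ ?_ ?_
    · rw [← one_add_one_eq_two, Finset.sum_range_succ, Finset.range_one, Finset.sum_singleton,
        taylor_coeff_zero, taylor_coeff_one, pow_zero, pow_one, mul_one, mul_neg,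
        mul_left_comm, Ring.mul_inverse_cancel _ (hf'c n), mul_one, add_neg_cancel]
      exact Ideal.zero_mem _
    · refine Submodule.sum_mem _ ?_
      simp only [Finset.mem_Ico]
      rintro i ⟨h2i, _⟩
      have aux : n + 2 ≤ i * (n + 1) := by trans 2 * (n + 1) <;> nlinarith only [h2i]
      refine Ideal.mul_mem_left _ _ (Ideal.pow_le_pow_right aux ?_)
      rw [pow_mul']
      exact Ideal.pow_mem_pow ((Ideal.neg_mem_iff _).2 <| Ideal.mul_mem_right _ _ ih) _
  have hdiff : Tendsto (fun n => c (n + 1) - c n) atTop (𝓝 0) := by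
    apply hzero _ t htnil
    intro n
    rw [hc, sub_sub_cancel_left, Ideal.neg_mem_iff]
    exact Ideal.mul_mem_right _ _ (hfcI n)
  obtain ⟨a, ha⟩ := hlim c hdiff
  refine ⟨a, ?_, ?_⟩
  · change f.eval a = 0
    have h1 : Tendsto (fun n => f.eval (c n)) atTop (𝓝 (f.eval a)) :=
      (f.continuous.tendsto a).comp ha
    have h2 : Tendsto (fun n => f.eval (c n)) atTop (𝓝 0) := hzero _ t htnil hfcI
    exact tendsto_nhds_unique h1 h2
  · have h1 : Tendsto (fun n => c n - a₀) atTop (𝓝 (a - a₀)) := ha.sub_const a₀
    refine hIclosed.mem_of_tendsto h1 (Eventually.of_forall fun n => ?_)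
    exact (SModEq.sub_mem).mp (hc_mod n)

/-- Let A be a weakly admissible topological ring (linearly topologized, Hausdorff and complete, having
a weak ideal of definition) and let I be a weak ideal of definition of A, that is, an open ideal
consisting of topologically nilpotent elements. Then (A, I) is a henselian pair. -/
theorem result
    (A : Type u) [CommRing A] [UniformSpace A] [IsUniformAddGroup A] [IsTopologicalRing A]
    (hA : LinTop.IsWeaklyAdmissible A) (I : Ideal A) (hI : LinTop.IsWeakIdealOfDefinition A I) :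
    HenselianRing A I := by
  obtain ⟨⟨hlin, -⟩, hT2, hcomp⟩ := hA
  obtain ⟨hIopen, hInil⟩ := hI
  exact henselian_aux A I hIopen hInil

end Groth.Agent.S10148
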