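import Groth.Statements.S10150
import Groth.Agent.Lib.helper15.LinTopNil

set_option autoImplicit false
universe u v w
open LinTop

namespace Groth.Agent.S10150

open Groth.Agent.Lib.H15 Filter Topology

/-- Let φ : A → B be a continuous ring homomorphism between weakly pre-admissible linearly topologized
rings. Then φ is taut if and only if, for each weak ideal of definition I of A, the closure of the
ideal generated by φ(I) is again a weak ideal of definition, now of B, and every neighbourhood of 0
in B contains one of these closures. (The published statement takes A and B weakly admissible, that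
is, moreover Hausdorff and complete; completeness plays no role and this row omits it.) -/
theorem result
    (A : Type u) [CommRing A] [TopologicalSpace A] [IsTopologicalRing A] [IsLinearTopology A A]
    (B : Type v) [CommRing B] [TopologicalSpace B] [IsTopologicalRing B] [IsLinearTopology B B]
    (hA : LinTop.IsWeaklyPreadmissible A) (hB : LinTop.IsWeaklyPreadmissible B)
    (φ : A →+* B) (hφ : Continuous φ) :
    LinTop.IsTaut φ ↔
      ((∀ I : Ideal A, LinTop.IsWeakIdealOfDefinition A I →
          LinTop.IsWeakIdealOfDefinition B (I.map φ).closure) ∧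
        ∀ U ∈ nhds (0 : B), ∃ I : Ideal A, LinTop.IsWeakIdealOfDefinition A I ∧
          ((I.map φ).closure : Set B) ⊆ U) := by
  have _ := hB
  obtain ⟨-, I₀, hI₀op, hI₀nil⟩ := hA
  -- intersecting an open ideal with `I₀` gives a weak ideal of definition
  have hinter : ∀ I' : Ideal A, IsOpen (I' : Set A) → IsWeakIdealOfDefinition A (I' ⊓ I₀) := by
    intro I' hI'
    refine ⟨?_, fun f hf => hI₀nil f hf.2⟩
    exact hI'.inter hI₀op
  constructor
  · rintro ⟨-, h2, h3⟩
    refine ⟨?_, ?_⟩
    · rintro I ⟨hIop, hInil⟩
      refine ⟨?_, ?_⟩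
      · rw [Ideal.coe_closure]; exact h2 I hIop
      · intro g hg
        exact IsTopologicallyNilpotent.mem_topologicalNilradical_iff.mp
          (LT.closure_map_le_topologicalNilradical hφ I hInil hg)
    · intro U hU
      obtain ⟨I', hI'op, hI'U⟩ := h3 U hU
      refine ⟨I' ⊓ I₀, hinter I' hI'op, subset_trans ?_ hI'U⟩
      rw [Ideal.coe_closure]
      exact closure_mono (fun x hx => Ideal.map_mono (inf_le_left : I' ⊓ I₀ ≤ I') hx)
  · rintro ⟨h1, h2⟩
    refine ⟨hφ, ?_, ?_⟩
    · intro I' hI'
      have hw := h1 _ (hinter I' hI')
      have hop : IsOpen ((((I' ⊓ I₀).map φ).closure : Ideal B) : Set B) := hw.1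
      rw [← Ideal.coe_closure]
      exact Ideal.isOpen_of_isOpen_subideal
        (LT.closure_mono (Ideal.map_mono (inf_le_left : I' ⊓ I₀ ≤ I'))) hop
    · intro U hU
      obtain ⟨I, hI, hIU⟩ := h2 U hU
      refine ⟨I, hI.1, ?_⟩
      rwa [Ideal.coe_closure] at hIU

end Groth.Agent.S10150
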