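import Groth.Statements.S10151
import Groth.Agent.Lib.helper15.LinTopBasic

set_option autoImplicit false
universe u v w
open LinTop

namespace Groth.Agent.S10151

open Groth.Agent.Lib.H15

/-- Given linearly topologized rings A, B, C and continuous ring maps ψ : B → C and φ : A → B, tautness
of the composite A → C implies that ψ is taut. -/
theorem result
    (A : Type u) [CommRing A] [TopologicalSpace A] [IsTopologicalRing A] [IsLinearTopology A A]
    (B : Type v) [CommRing B] [TopologicalSpace B] [IsTopologicalRing B] [IsLinearTopology B B]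
    (C : Type w) [CommRing C] [TopologicalSpace C] [IsTopologicalRing C] [IsLinearTopology C C]
    (φ : A →+* B) (ψ : B →+* C) (hφ : Continuous φ) (hψ : Continuous ψ)
    (h : LinTop.IsTaut (ψ.comp φ)) : LinTop.IsTaut ψ := by
  obtain ⟨-, h2, h3⟩ := h
  refine ⟨hψ, ?_, ?_⟩
  · intro J hJ
    have hI : IsOpen ((J.comap φ : Ideal A) : Set A) := LT.isOpen_comap hφ hJ
    have hop := h2 _ hI
    have hle : ((J.comap φ).map (ψ.comp φ) : Ideal C) ≤ J.map ψ := by
      rw [← Ideal.map_map]
      exact Ideal.map_mono Ideal.map_comap_le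
    rw [← Ideal.coe_closure] at hop ⊢
    exact Ideal.isOpen_of_isOpen_subideal (LT.closure_mono hle) hop
  · intro U hU
    obtain ⟨I, hI, hIU⟩ := h3 U hU
    have hKop : IsOpen (closure ((I.map (ψ.comp φ) : Ideal C) : Set C)) := h2 I hI
    rw [← Ideal.coe_closure] at hKop hIU
    refine ⟨(I.map (ψ.comp φ)).closure.comap ψ, LT.isOpen_comap hψ hKop, ?_⟩
    refine subset_trans ?_ hIU
    have hle : (((I.map (ψ.comp φ)).closure.comap ψ).map ψ : Ideal C) ≤ (I.map (ψ.comp φ)).closure :=
      Ideal.map_comap_le
    have := LT.closure_mono hle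
    intro x hx
    have hx' := this (by rwa [← SetLike.mem_coe, Ideal.coe_closure])
    rw [← SetLike.mem_coe, Ideal.coe_closure, Ideal.coe_closure, closure_closure] at hx'
    rwa [Ideal.coe_closure]

end Groth.Agent.S10151
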