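import Groth.Statements.S10152
import Groth.Agent.Lib.helper15.LinTopBasic

set_option autoImplicit false
universe u v w
open LinTop

namespace Groth.Agent.S10152

open Groth.Agent.Lib.H15 Filter Topology

/-- Let φ : A → B be a taut homomorphism of linearly topologized rings. If A has a countable fundamental
system of open ideals, then so does B (equivalently, the neighbourhood filters of 0 are countably
generated). -/
theorem result
    (A : Type u) [CommRing A] [TopologicalSpace A] [IsTopologicalRing A] [IsLinearTopology A A]
    (B : Type v) [CommRing B] [TopologicalSpace B] [IsTopologicalRing B] [IsLinearTopology B B]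
    (φ : A →+* B) (hφ : LinTop.IsTaut φ) (hA : (nhds (0 : A)).IsCountablyGenerated) :
    (nhds (0 : B)).IsCountablyGenerated := by
  obtain ⟨-, h2, h3⟩ := hφ
  obtain ⟨I, hIop, hIbasis⟩ :=
    (IsLinearTopology.hasBasis_open_ideal (R := A)).exists_antitone_subbasis
  have hbasis : (𝓝 (0 : B)).HasBasis (fun _ : ℕ => True)
      (fun n => closure (((I n).map φ : Ideal B) : Set B)) := by
    refine ⟨fun U => ⟨fun hU => ?_, ?_⟩⟩
    · obtain ⟨I', hI'op, hI'U⟩ := h3 U hU
      obtain ⟨n, -, hn⟩ := hIbasis.toHasBasis.mem_iff.mp (hI'op.mem_nhds I'.zero_mem)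
      refine ⟨n, trivial, subset_trans ?_ hI'U⟩
      exact closure_mono (fun x hx => Ideal.map_mono (show I n ≤ I' from hn) hx)
    · rintro ⟨n, -, hn⟩
      refine mem_of_superset ((h2 (I n) (hIop n)).mem_nhds ?_) hn
      exact subset_closure (Ideal.zero_mem _)
  exact hbasis.isCountablyGenerated

end Groth.Agent.S10152
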