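import Groth.Statements.S10154
import Groth.Agent.Lib.helper15.LinTopBasic

set_option autoImplicit false
universe u v w
open LinTop

namespace Groth.Agent.S10154

open Groth.Agent.Lib.H15 Filter Topology

/-- Let φ : A → B be a taut homomorphism of linearly topologized rings. If A is pre-admissible, then B
is pre-admissible. -/
theorem result
    (A : Type u) [CommRing A] [TopologicalSpace A] [IsTopologicalRing A] [IsLinearTopology A A]
    (B : Type v) [CommRing B] [TopologicalSpace B] [IsTopologicalRing B] [IsLinearTopology B B]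
    (φ : A →+* B) (hφ : LinTop.IsTaut φ) (hA : LinTop.IsPreadmissible A) :
    LinTop.IsPreadmissible B := by
  obtain ⟨-, h2, h3⟩ := hφ
  obtain ⟨-, I, hIop, hIpow⟩ := hA
  refine ⟨inferInstance, (I.map φ).closure, ?_, ?_⟩
  · rw [Ideal.coe_closure]; exact h2 I hIop
  · intro U hU
    obtain ⟨I', hI'op, hI'U⟩ := h3 U hU
    obtain ⟨n, hn0, hn⟩ := hIpow _ (hI'op.mem_nhds I'.zero_mem)
    refine ⟨n, hn0, subset_trans ?_ hI'U⟩
    have h1 : (I.map φ).closure ^ n ≤ ((I.map φ) ^ n).closure := LT.closure_pow_le _ n
    have h2' : ((I.map φ) ^ n).closure ≤ (I'.map φ).closure := by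
      rw [← Ideal.map_pow]
      exact LT.closure_mono (Ideal.map_mono (show I ^ n ≤ I' from hn))
    intro x hx
    have := h2' (h1 hx)
    rwa [← SetLike.mem_coe, Ideal.coe_closure] at this

end Groth.Agent.S10154
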