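import Groth.Statements.S10155
import Groth.Agent.Lib.helper15.SuccApprox
import Groth.Agent.Lib.helper15.LinTopSeries
import Groth.Agent.Lib.helper15.LinTopFG

set_option autoImplicit false
universe u v w
open LinTop

namespace Groth.Agent.S10155

open Filter Topology UniformSpace Uniformity Groth.Agent.Lib.H15

/-- Let φ : A → B be a taut homomorphism of linearly topologized rings with dense image. Assume A is
Hausdorff and complete with a countable fundamental system of open ideals and B is Hausdorff. Then φ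
is surjective and open, so that B is the quotient of A by the closed ideal ker φ with the quotient
topology, and B is complete. -/
theorem result
    (A : Type u) [CommRing A] [UniformSpace A] [IsUniformAddGroup A] [IsTopologicalRing A]
    [IsLinearTopology A A] [T2Space A] [CompleteSpace A] (hA : (nhds (0 : A)).IsCountablyGenerated)
    (B : Type v) [CommRing B] [UniformSpace B] [IsUniformAddGroup B] [IsTopologicalRing B]
    [IsLinearTopology B B] [T2Space B]
    (φ : A →+* B) (hφ : LinTop.IsTaut φ) (hd : DenseRange φ) :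
    Function.Surjective φ ∧ IsOpenQuotientMap φ ∧ CompleteSpace B := by
  classical
  obtain ⟨hcont, h2, h3⟩ := hφ
  have hnonarch : NonarchimedeanAddGroup A := LT.nonarchimedeanAddGroup_of_isLinearTopology A
  obtain ⟨I, hIop, hIbasis⟩ :=
    (IsLinearTopology.hasBasis_open_ideal (R := A)).exists_antitone_subbasis
  have hIanti : Antitone I := fun i j hij => hIbasis.antitone hij
  let J : ℕ → Ideal B := fun k => ((I k).map φ).closure
  have hJop : ∀ k, IsOpen ((J k : Ideal B) : Set B) := by
    intro k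
    change IsOpen ((((I k).map φ).closure : Ideal B) : Set B)
    rw [Ideal.coe_closure]; exact h2 _ (hIop k)
  have hJanti : Antitone J := fun i j hij => LT.closure_mono (Ideal.map_mono (hIanti hij))
  have hJbasis : ∀ U ∈ 𝓝 (0 : B), ∃ k, ((J k : Ideal B) : Set B) ⊆ U := by
    intro U hU
    obtain ⟨I', hI'op, hI'U⟩ := h3 U hU
    obtain ⟨k, -, hk⟩ := hIbasis.toHasBasis.mem_iff.mp (hI'op.mem_nhds I'.zero_mem)
    refine ⟨k, subset_trans ?_ hI'U⟩
    change ((((I k).map φ).closure : Ideal B) : Set B) ⊆ _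
    rw [Ideal.coe_closure]
    exact closure_mono (fun x hx => Ideal.map_mono (show I k ≤ I' from hk) hx)
  have hIbasis' : ∀ U ∈ 𝓝 (0 : A), ∃ k, ((I k : Ideal A) : Set A) ⊆ U := by
    intro U hU
    obtain ⟨k, -, hk⟩ := hIbasis.toHasBasis.mem_iff.mp hU
    exact ⟨k, hk⟩
  -- density: every element of `B` is congruent to an element of `φ(A)` modulo `J k`
  have hdense : ∀ (k : ℕ) (b : B), ∃ a : A, b - φ a ∈ J k := by
    intro k b
    have hnhd : {z : B | b - z ∈ J k} ∈ 𝓝 b := by
      have hc : Continuous fun z : B => b - z := by fun_prop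
      have : Tendsto (fun z : B => b - z) (𝓝 b) (𝓝 0) := by
        have := hc.tendsto b
        simpa using this
      exact this ((hJop k).mem_nhds (J k).zero_mem)
    obtain ⟨z, hz⟩ := hd.inter_nhds_nonempty hnhd
    obtain ⟨a, rfl⟩ := hz.1
    exact ⟨a, hz.2⟩
  -- approximation
  have hmap_sub : ∀ k, ∀ z ∈ (I k).map φ, ∃ g ∈ I k, z - φ g ∈ J (k + 1) := by
    intro k z hz
    refine Submodule.span_induction (p := fun z _ => ∃ g ∈ I k, z - φ g ∈ J (k + 1))
      ?_ ?_ ?_ ?_ hz
    · rintro _ ⟨i, hi, rfl⟩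
      exact ⟨i, hi, by simp⟩
    · exact ⟨0, (I k).zero_mem, by simp⟩
    · rintro x y _ _ ⟨g, hg, hxg⟩ ⟨g', hg', hyg'⟩
      refine ⟨g + g', (I k).add_mem hg hg', ?_⟩
      have : x + y - φ (g + g') = (x - φ g) + (y - φ g') := by rw [map_add]; ring
      rw [this]; exact (J (k + 1)).add_mem hxg hyg'
    · rintro b x _ ⟨g, hg, hxg⟩
      obtain ⟨a, ha⟩ := hdense (k + 1) b
      refine ⟨a * g, (I k).mul_mem_left a hg, ?_⟩
      have : b • x - φ (a * g) = b * (x - φ g) + (b - φ a) * φ g := by
        rw [map_mul, smul_eq_mul]; ring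
      rw [this]
      exact (J (k + 1)).add_mem ((J (k + 1)).mul_mem_left b hxg) ((J (k + 1)).mul_mem_right _ ha)
  have happrox : ∀ k, ∀ y ∈ (J k).toAddSubgroup, ∃ g ∈ (I k).toAddSubgroup,
      y - φ.toAddMonoidHom g ∈ (J (k + 1)).toAddSubgroup := by
    intro k y hy
    have hy1 : y ∈ ((I k).map φ).closure := hy
    have hy2 := LT.closure_le_sup_of_isOpen _ (hJop (k + 1)) hy1
    obtain ⟨z, hz, j, hj, rfl⟩ := Submodule.mem_sup.mp hy2
    obtain ⟨g, hg, hzg⟩ := hmap_sub k z hz
    refine ⟨g, hg, ?_⟩
    change z + j - φ g ∈ J (k + 1)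
    have : z + j - φ g = (z - φ g) + j := by ring
    rw [this]; exact (J (k + 1)).add_mem hzg hj
  have key : ∀ k, ∀ y ∈ J k, ∃ x ∈ I k, φ x = y := by
    intro k y hy
    exact succApprox φ.toAddMonoidHom hcont (fun k => (I k).toAddSubgroup)
      (fun k => (J k).toAddSubgroup) (fun k => LT.isClosed_of_isOpen (hIop k))
      (fun i j hij => hIanti hij) hIbasis' (fun i j hij => hJanti hij) hJbasis happrox k y hy
  have hsurj : Function.Surjective φ := by
    intro y
    obtain ⟨a, ha⟩ := hdense 0 y
    obtain ⟨x, -, hx⟩ := key 0 _ ha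
    exact ⟨x + a, by rw [map_add, hx]; ring⟩
  have hopen : IsOpenMap φ := by
    rw [IsTopologicalAddGroup.isOpenMap_iff_nhds_zero]
    intro s hs
    rw [mem_map] at hs
    obtain ⟨k, hk⟩ := hIbasis' _ hs
    refine mem_of_superset ((hJop k).mem_nhds (J k).zero_mem) ?_
    intro y hy
    obtain ⟨x, hx, rfl⟩ := key k y hy
    exact hk hx
  refine ⟨hsurj, ⟨hsurj, hcont, hopen⟩, ?_⟩
  -- completeness of `B`
  have hBcount : (𝓝 (0 : B)).IsCountablyGenerated := by
    have hbasis : (𝓝 (0 : B)).HasBasis (fun _ : ℕ => True) (fun k => ((J k : Ideal B) : Set B)) := by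
      refine ⟨fun U => ⟨fun hU => ?_, ?_⟩⟩
      · obtain ⟨k, hk⟩ := hJbasis U hU
        exact ⟨k, trivial, hk⟩
      · rintro ⟨k, -, hk⟩
        exact mem_of_superset ((hJop k).mem_nhds (J k).zero_mem) hk
    exact hbasis.isCountablyGenerated
  have : (𝓤 B).IsCountablyGenerated := IsUniformAddGroup.uniformity_countably_generated
  refine UniformSpace.complete_of_convergent_controlled_sequences
    (fun N => {p : B × B | p.2 - p.1 ∈ J N}) ?_ ?_
  · intro N
    rw [uniformity_eq_comap_nhds_zero B]
    exact preimage_mem_comap ((hJop N).mem_nhds (J N).zero_mem)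
  · intro u hu
    have hd' : ∀ k, u (k + 1) - u k ∈ J k := fun k => hu k k (k + 1) le_rfl (Nat.le_succ k)
    have hex : ∀ k, ∃ a ∈ I k, φ a = u (k + 1) - u k := fun k => key k _ (hd' k)
    choose a haI haφ using hex
    obtain ⟨a', ha'⟩ := hsurj (u 0)
    have hatend : Tendsto a atTop (𝓝 0) := by
      intro U hU
      obtain ⟨m, hm⟩ := hIbasis' U hU
      rw [mem_map, mem_atTop_sets]
      exact ⟨m, fun j hj => hm (hIanti hj (haI j))⟩
    have hsummable : Summable a := by
      apply NonarchimedeanAddGroup.summable_of_tendsto_cofinite_zero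
      rw [Nat.cofinite_eq_atTop]
      exact hatend
    have hu_eq : ∀ n, u n = φ (a' + ∑ k ∈ Finset.range n, a k) := by
      intro n
      induction n with
      | zero => simp [ha']
      | succ n ih =>
        rw [Finset.sum_range_succ, ← add_assoc, map_add, ← ih, haφ]; ring
    refine ⟨φ (a' + ∑' k, a k), ?_⟩
    have h1 : Tendsto (fun n => a' + ∑ k ∈ Finset.range n, a k) atTop (𝓝 (a' + ∑' k, a k)) :=
      tendsto_const_nhds.add hsummable.hasSum.tendsto_sum_nat
    have h2 := (hcont.tendsto _).comp h1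
    have : (fun n => u n) = (fun n => φ (a' + ∑ k ∈ Finset.range n, a k)) := funext hu_eq
    rw [show u = fun n => u n from rfl, this]
    exact h2

end Groth.Agent.S10155
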