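import Groth.Statements.S10156
import Groth.Agent.Lib.helper15.LinTopBasic

set_option autoImplicit false
universe u v w
open LinTop

namespace Groth.Agent.S10156

open Groth.Agent.Lib.H15 Filter Topology

/-- Given pre-adic rings A, B, C and continuous ring maps ψ : B → C and φ : A → B, adicness of the
composite A → C implies that ψ is adic. -/
theorem result
    (A : Type u) [CommRing A] [TopologicalSpace A] [IsTopologicalRing A] (hA : LinTop.IsPreadic A)
    (B : Type v) [CommRing B] [TopologicalSpace B] [IsTopologicalRing B] (hB : LinTop.IsPreadic B)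
    (C : Type w) [CommRing C] [TopologicalSpace C] [IsTopologicalRing C] (hC : LinTop.IsPreadic C)
    (φ : A →+* B) (ψ : B →+* C) (hφ : Continuous φ) (hψ : Continuous ψ)
    (h : LinTop.IsAdicHom (ψ.comp φ)) : LinTop.IsAdicHom ψ := by
  have _ := hA
  have _ := hC
  obtain ⟨I, ⟨hIop, hIpow⟩, hK⟩ := h
  obtain ⟨J₀, hJ₀⟩ := hB
  have hK' := (isAdic_iff.mp hK)
  have hJ₀' := (isAdic_iff.mp hJ₀)
  -- `ψ⁻¹(K)` is open, so contains a power of `J₀`
  have hKop : IsOpen ((I.map (ψ.comp φ) : Ideal C) : Set C) := by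
    have := hK'.1 1; rwa [pow_one] at this
  obtain ⟨m, hm⟩ := hJ₀'.2 _ ((LT.isOpen_comap hψ hKop).mem_nhds (Ideal.zero_mem _))
  have hm' : J₀ ^ (m + 1) ≤ (I.map (ψ.comp φ)).comap ψ :=
    (Ideal.pow_le_pow_right (Nat.le_succ m)).trans hm
  refine ⟨J₀ ^ (m + 1) ⊔ I.map φ, ⟨?_, ?_⟩, ?_⟩
  · exact Ideal.isOpen_of_isOpen_subideal le_sup_left (hJ₀'.1 _)
  · intro U hU
    obtain ⟨N, hN⟩ := hJ₀'.2 U hU
    obtain ⟨k, hk0, hk⟩ := hIpow _ ((LT.isOpen_comap hφ (hJ₀'.1 N)).mem_nhds (Ideal.zero_mem _))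
    refine ⟨N + k, by omega, subset_trans ?_ hN⟩
    have h1 : (J₀ ^ (m + 1) ⊔ I.map φ) ^ (N + k) ≤ (J₀ ^ (m + 1)) ^ N ⊔ (I.map φ) ^ k :=
      Ideal.sup_pow_add_le_pow_sup_pow
    have h2 : (J₀ ^ (m + 1)) ^ N ≤ J₀ ^ N := by
      rw [← pow_mul]
      exact Ideal.pow_le_pow_right (Nat.le_mul_of_pos_left N (Nat.succ_pos m))
    have h3 : (I.map φ) ^ k ≤ J₀ ^ N := by
      rw [← Ideal.map_pow, Ideal.map_le_iff_le_comap]
      exact hk
    exact fun x hx => (sup_le h2 h3) (h1 hx)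
  · have heq : (J₀ ^ (m + 1) ⊔ I.map φ).map ψ = I.map (ψ.comp φ) := by
      rw [Ideal.map_sup, Ideal.map_map]
      exact sup_eq_right.mpr (Ideal.map_le_iff_le_comap.mpr hm')
    rw [heq]
    exact hK

end Groth.Agent.S10156
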