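import Groth.Statements.S10157
import Groth.Agent.Lib.helper15.LinTopBasic

set_option autoImplicit false
universe u v w
open LinTop

namespace Groth.Agent.S10157

open Groth.Agent.Lib.H15 Filter Topology

/-- A continuous adic homomorphism φ : A → B between pre-adic topological rings is taut. -/
theorem result
    (A : Type u) [CommRing A] [TopologicalSpace A] [IsTopologicalRing A] (hA : LinTop.IsPreadic A)
    (B : Type v) [CommRing B] [TopologicalSpace B] [IsTopologicalRing B] (hB : LinTop.IsPreadic B)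
    (φ : A →+* B) (hφ : Continuous φ) (h : LinTop.IsAdicHom φ) : LinTop.IsTaut φ := by
  obtain ⟨I, ⟨hIop, hIpow⟩, hadic⟩ := h
  obtain ⟨J, hJ⟩ := hA
  rw [isAdic_iff] at hadic hJ
  obtain ⟨hKop, hKbasis⟩ := hadic
  obtain ⟨hJop, hJbasis⟩ := hJ
  -- powers of `I` are open in `A`
  have hIn : ∀ n : ℕ, IsOpen ((I ^ n : Ideal A) : Set A) := by
    intro n
    obtain ⟨k, hk⟩ := hJbasis _ (hIop.mem_nhds I.zero_mem)
    have : (J ^ k) ^ n ≤ I ^ n := Ideal.pow_right_mono (show J ^ k ≤ I from hk) n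
    rw [← pow_mul] at this
    exact Ideal.isOpen_of_isOpen_subideal this (hJop _)
  refine ⟨hφ, ?_, ?_⟩
  · intro I' hI'
    obtain ⟨n, hn0, hn⟩ := hIpow _ (hI'.mem_nhds I'.zero_mem)
    have hle : (I.map φ) ^ n ≤ I'.map φ := by
      rw [← Ideal.map_pow]; exact Ideal.map_mono (show I ^ n ≤ I' from hn)
    have hop : IsOpen ((I'.map φ : Ideal B) : Set B) :=
      Ideal.isOpen_of_isOpen_subideal hle (hKop n)
    rw [LT.closure_eq_of_isOpen hop]
    exact hop
  · intro U hU
    obtain ⟨n, hn⟩ := hKbasis U hU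
    refine ⟨I ^ n, hIn n, ?_⟩
    rw [Ideal.map_pow, LT.closure_eq_of_isOpen (hKop n)]
    exact hn

end Groth.Agent.S10157
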