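import Groth.Statements.S10158
import Groth.Agent.Lib.helper15.LinTopSeries

set_option autoImplicit false
universe u v w
open LinTop

namespace Groth.Agent.S10158

open Groth.Agent.Lib.H15 Filter Topology

/-- Let φ : A → B be a taut homomorphism of linearly topologized rings. Assume A is pre-adic with a
finitely generated ideal of definition I and B is Hausdorff and complete. Then the topology of B is
the φ(I)B-adic topology; in particular B is adic with a finitely generated ideal of definition and φ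
is adic. -/
theorem result
    (A : Type u) [CommRing A] [TopologicalSpace A] [IsTopologicalRing A] (hA : LinTop.IsPreadic A)
    (I : Ideal A) (hI : LinTop.IsIdealOfDefinition A I) (hfg : I.FG)
    (B : Type v) [CommRing B] [UniformSpace B] [IsUniformAddGroup B] [IsTopologicalRing B]
    [IsLinearTopology B B] [T2Space B] [CompleteSpace B]
    (φ : A →+* B) (hφ : LinTop.IsTaut φ) :
    IsAdic (I.map φ) := by
  obtain ⟨hcont, h2, h3⟩ := hφ
  obtain ⟨hIop, hIpow⟩ := hI
  obtain ⟨K, hK⟩ := hA
  rw [isAdic_iff] at hK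
  obtain ⟨hKop, hKbasis⟩ := hK
  -- powers of `I` are open in `A`
  have hIn : ∀ n : ℕ, IsOpen ((I ^ n : Ideal A) : Set A) := by
    intro n
    obtain ⟨k, hk⟩ := hKbasis _ (hIop.mem_nhds I.zero_mem)
    have : (K ^ k) ^ n ≤ I ^ n := Ideal.pow_right_mono (show K ^ k ≤ I from hk) n
    rw [← pow_mul] at this
    exact Ideal.isOpen_of_isOpen_subideal this (hKop _)
  have hopen : ∀ n : ℕ, IsOpen (closure (((I.map φ) ^ n : Ideal B) : Set B)) := by
    intro n
    rw [← Ideal.map_pow]
    exact h2 _ (hIn n)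
  have hbasis : ∀ U ∈ nhds (0 : B), ∃ n : ℕ, closure (((I.map φ) ^ n : Ideal B) : Set B) ⊆ U := by
    intro U hU
    obtain ⟨I', hI'op, hI'U⟩ := h3 U hU
    obtain ⟨n, -, hn⟩ := hIpow _ (hI'op.mem_nhds I'.zero_mem)
    refine ⟨n, subset_trans ?_ hI'U⟩
    rw [← Ideal.map_pow]
    exact closure_mono (fun x hx => Ideal.map_mono (show I ^ n ≤ I' from hn) hx)
  rw [isAdic_iff]
  have hfgB : (I.map φ).FG := hfg.map φ
  have heq : ∀ n : ℕ, closure (((I.map φ) ^ n : Ideal B) : Set B) =
      (((I.map φ) ^ n : Ideal B) : Set B) :=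
    fun n => Set.Subset.antisymm (LT.closure_pow_subset (I.map φ) hfgB hopen hbasis n) subset_closure
  refine ⟨fun n => ?_, fun U hU => ?_⟩
  · rw [← heq n]; exact hopen n
  · obtain ⟨n, hn⟩ := hbasis U hU
    exact ⟨n, (heq n) ▸ hn⟩

end Groth.Agent.S10158
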