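import Groth.Statements.S10159
import Groth.Agent.Lib.helper15.LinTopTaut

set_option autoImplicit false
universe u v w
open LinTop

namespace Groth.Agent.S10159

open Groth.Agent.Lib.H15 Filter Topology

/-- A copy of the ring `A` carrying the `I`-adic topology. -/
def AdicCopy (A : Type u) [CommRing A] (_I : Ideal A) : Type u := A

namespace AdicCopy

variable (A : Type u) [CommRing A] (I : Ideal A)

instance : CommRing (AdicCopy A I) := inferInstanceAs (CommRing A)

instance : TopologicalSpace (AdicCopy A I) := I.adicTopology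

instance : IsTopologicalRing (AdicCopy A I) := (I.nonarchimedean).toIsTopologicalRing

/-- the ideal `I` in the copy -/
def ideal : Ideal (AdicCopy A I) := I

/-- the identity map from the copy -/
def toRing : AdicCopy A I →+* A := RingHom.id A

lemma isAdic_ideal : IsAdic (ideal A I) := rfl

end AdicCopy

/-- For a ring A carrying a linear topology, the following four conditions are equivalent: (1) A is
weakly pre-adic; (2) there exist a pre-adic topological ring A' and a taut continuous ring
homomorphism A' → A (A' is taken in the universe of A, which suffices since A with an adic topology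
serves); (3) A has an ideal of definition, and for at least one ideal of definition I every closure
cl(I^n) with n ≥ 1 is open; (4) A has an ideal of definition, and for each of its ideals of
definition I every closure cl(I^n) with n ≥ 1 is open. -/
theorem result
    (A : Type u) [CommRing A] [TopologicalSpace A] [IsTopologicalRing A] [IsLinearTopology A A] :
    List.TFAE [LinTop.IsWeaklyPreadic A,
      ∃ (A' : Type u) (_ : CommRing A') (_ : TopologicalSpace A') (_ : IsTopologicalRing A')
        (φ : A' →+* A), LinTop.IsPreadic A' ∧ LinTop.IsTaut φ,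
      LinTop.IsPreadmissible A ∧ ∃ I : Ideal A, LinTop.IsIdealOfDefinition A I ∧
        ∀ n : ℕ, 0 < n → IsOpen (closure ((I ^ n : Ideal A) : Set A)),
      LinTop.IsPreadmissible A ∧ ∀ I : Ideal A, LinTop.IsIdealOfDefinition A I →
        ∀ n : ℕ, 0 < n → IsOpen (closure ((I ^ n : Ideal A) : Set A))] := by
  tfae_have 1 → 4 := by
    intro h
    exact ⟨LT.isPreadmissible_of_isWeaklyPreadic h,
      fun I hI n _ => LT.isOpen_closure_pow_of_isWeaklyPreadic h hI n⟩
  tfae_have 4 → 3 := by
    rintro ⟨hpre, h⟩
    have hpre' := hpre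
    obtain ⟨-, I, hI⟩ := hpre'
    exact ⟨hpre, I, hI, h I hI⟩
  tfae_have 3 → 1 := by
    rintro ⟨-, I, hI, h⟩
    exact LT.isWeaklyPreadic_of_isIdealOfDefinition hI h
  tfae_have 2 → 1 := by
    rintro ⟨A', _, _, _, φ, hA', hφ⟩
    exact LT.isWeaklyPreadic_of_isTaut hφ (LT.isWeaklyPreadic_of_isPreadic hA')
  tfae_have 1 → 2 := by
    rintro ⟨-, I, hIop, hIbasis⟩
    refine ⟨AdicCopy A I, inferInstance, inferInstance, inferInstance, AdicCopy.toRing A I,
      ⟨AdicCopy.ideal A I, AdicCopy.isAdic_ideal A I⟩, ?_⟩
    have hadic := (isAdic_iff (J := AdicCopy.ideal A I)).mp (AdicCopy.isAdic_ideal A I)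
    have hcont : Continuous (AdicCopy.toRing A I) := by
      apply continuous_of_continuousAt_zero (AdicCopy.toRing A I).toAddMonoidHom
      change Tendsto (AdicCopy.toRing A I) (𝓝 0) (𝓝 ((AdicCopy.toRing A I) 0))
      rw [map_zero]
      intro U hU
      obtain ⟨n, hn⟩ := hIbasis U hU
      have h1 : ((AdicCopy.ideal A I ^ n : Ideal (AdicCopy A I)) : Set (AdicCopy A I)) ∈
          𝓝 (0 : AdicCopy A I) := (hadic.1 n).mem_nhds (Ideal.zero_mem _)
      refine mem_of_superset h1 ?_
      intro x hx
      exact hn (subset_closure hx)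
    refine ⟨hcont, ?_, ?_⟩
    · intro I' hI'
      obtain ⟨n, hn⟩ := hadic.2 _ (hI'.mem_nhds I'.zero_mem)
      have hmap : (I'.map (AdicCopy.toRing A I) : Ideal A) = (I' : Ideal A) := Ideal.map_id I'
      rw [hmap]
      have hle : (I ^ n : Ideal A) ≤ (I' : Ideal A) := hn
      have hop : IsOpen (((I ^ n).closure : Ideal A) : Set A) := by
        rw [Ideal.coe_closure]; exact hIop n
      rw [← Ideal.coe_closure]
      exact Ideal.isOpen_of_isOpen_subideal (LT.closure_mono hle) hop
    · intro U hU
      obtain ⟨n, hn⟩ := hIbasis U hU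
      refine ⟨AdicCopy.ideal A I ^ n, hadic.1 n, ?_⟩
      have hmap : ((AdicCopy.ideal A I ^ n).map (AdicCopy.toRing A I) : Ideal A) = I ^ n :=
        Ideal.map_id _
      rw [hmap]
      exact hn
  tfae_finish

end Groth.Agent.S10159
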