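import Groth.Statements.S10160
import Groth.Agent.Lib.helper15.LinTopBasic

set_option autoImplicit false
universe u v w
open LinTop

namespace Groth.Agent.S10160

open Groth.Agent.Lib.H15 Filter Topology

/-- A weakly adic topological ring is admissible and has a countable fundamental system of open ideals. -/
theorem result
    (A : Type u) [CommRing A] [UniformSpace A] [IsUniformAddGroup A] [IsTopologicalRing A] (hA : LinTop.IsWeaklyAdic A) :
    LinTop.IsAdmissible A ∧ (nhds (0 : A)).IsCountablyGenerated := by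
  obtain ⟨⟨hlin, I, hIop, hIbasis⟩, hT2, hC⟩ := hA
  refine ⟨⟨⟨hlin, I.closure, ?_, ?_⟩, hT2, hC⟩, ?_⟩
  · have := hIop 1
    rwa [pow_one, ← Ideal.coe_closure] at this
  · intro U hU
    obtain ⟨n, hn⟩ := hIbasis U hU
    refine ⟨n + 1, Nat.succ_pos n, ?_⟩
    intro x hx
    apply hn
    have h1 : I.closure ^ (n + 1) ≤ I.closure ^ n := Ideal.pow_le_pow_right (Nat.le_succ n)
    have := LT.closure_pow_le I n (h1 hx)
    rwa [← SetLike.mem_coe, Ideal.coe_closure] at this
  · have hbasis : (𝓝 (0 : A)).HasBasis (fun _ : ℕ => True)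
        (fun n => closure ((I ^ n : Ideal A) : Set A)) := by
      refine ⟨fun U => ⟨fun hU => ?_, ?_⟩⟩
      · obtain ⟨n, hn⟩ := hIbasis U hU
        exact ⟨n, trivial, hn⟩
      · rintro ⟨n, -, hn⟩
        exact mem_of_superset ((hIop n).mem_nhds (subset_closure (Ideal.zero_mem _))) hn
    exact hbasis.isCountablyGenerated

end Groth.Agent.S10160
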