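import Groth.Statements.S10164
import Groth.Agent.Lib.helper15.LinTopFG
import Groth.Agent.S10163

set_option autoImplicit false
universe u v w
open LinTop

namespace Groth.Agent.S10164

open Groth.Agent.Lib.H15 Filter Topology

/-- Let A be weakly adic and I an ideal of definition of A with I/I₂ finitely generated, where I₂
denotes the closure of I^2 (here: I maps onto a finitely generated ideal of A/I₂). Then A is adic,
and some finitely generated ideal of A is an ideal of definition. -/
theorem result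
    (A : Type u) [CommRing A] [UniformSpace A] [IsUniformAddGroup A] [IsTopologicalRing A] (hA : LinTop.IsWeaklyAdic A)
    (I : Ideal A) (hI : LinTop.IsIdealOfDefinition A I)
    (hfg : (I.map (Ideal.Quotient.mk ((I ^ 2).closure))).FG) :
    LinTop.IsAdicRing A ∧ ∃ J : Ideal A, LinTop.IsIdealOfDefinition A J ∧ J.FG := by
  classical
  obtain ⟨hwp, hT2, hC⟩ := hA
  have hlin : IsLinearTopology A A := hwp.1
  have hop : ∀ n : ℕ, IsOpen (closure ((I ^ n : Ideal A) : Set A)) :=
    fun n => LT.isOpen_closure_pow_of_isWeaklyPreadic hwp hI n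
  have hbasis : ∀ U ∈ 𝓝 (0 : A), ∃ n : ℕ, closure ((I ^ n : Ideal A) : Set A) ⊆ U := by
    intro U hU
    obtain ⟨I', hI'op, hI'U⟩ := (IsLinearTopology.hasBasis_open_ideal (R := A)).mem_iff.mp hU
    obtain ⟨n, -, hn⟩ := hI.2 _ (hI'op.mem_nhds I'.zero_mem)
    exact ⟨n, (closure_minimal hn (LT.isClosed_of_isOpen hI'op)).trans hI'U⟩
  -- lift the generators
  set π := Ideal.Quotient.mk ((I ^ 2).closure) with hπ
  have hsurj : Function.Surjective π := Ideal.Quotient.mk_surjective
  obtain ⟨t, ht⟩ := hfg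
  have hlift : ∀ y : ↥(t : Set (A ⧸ (I ^ 2).closure)), ∃ x ∈ I, π x = y := by
    intro y
    have : (y : A ⧸ (I ^ 2).closure) ∈ I.map π := by
      rw [← ht]; exact Ideal.subset_span y.2
    exact (Ideal.mem_map_iff_of_surjective π hsurj).mp this
  choose g hgI hgπ using hlift
  let J : Ideal A := Ideal.span (Set.range g)
  have hJfg : J.FG := Submodule.fg_span (Set.finite_range g)
  have hJI : J ≤ I := Ideal.span_le.mpr (by rintro _ ⟨y, rfl⟩; exact hgI y)
  have hJmap : J.map π = I.map π := by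
    rw [← ht]
    change (Ideal.span (Set.range g)).map π = _
    rw [Ideal.map_span]
    congr 1
    ext z
    constructor
    · rintro ⟨_, ⟨y, rfl⟩, rfl⟩
      rw [hgπ]; exact y.2
    · intro hz
      exact ⟨g ⟨z, hz⟩, ⟨⟨z, hz⟩, rfl⟩, hgπ ⟨z, hz⟩⟩
  have hIJ : I ≤ J ⊔ (I ^ 2).closure := by
    intro x hx
    have h1 : π x ∈ J.map π := by rw [hJmap]; exact Ideal.mem_map_of_mem π hx
    obtain ⟨j, hj, hjx⟩ := (Ideal.mem_map_iff_of_surjective π hsurj).mp h1
    have h2 : x - j ∈ (I ^ 2).closure := by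
      rw [← Ideal.Quotient.eq]; exact hjx.symm
    have : x = j + (x - j) := by ring
    rw [this]
    exact Submodule.add_mem_sup hj h2
  have heq : ∀ n : ℕ, closure ((J ^ n : Ideal A) : Set A) = closure ((I ^ n : Ideal A) : Set A) :=
    LT.closure_pow_eq_of_le_sup hJI hIJ hop hbasis
  have hadic : IsAdic J := by
    refine Groth.Agent.S10163.result A J hJfg (fun n => ?_) (fun U hU => ?_)
    · rw [heq n]; exact hop n
    · obtain ⟨n, hn⟩ := hbasis U hU
      exact ⟨n, by rw [heq n]; exact hn⟩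
  refine ⟨⟨⟨J, hadic⟩, hT2, hC⟩, J, ⟨?_, ?_⟩, hJfg⟩
  · have := (isAdic_iff.mp hadic).1 1
    rwa [pow_one] at this
  · intro U hU
    obtain ⟨n, hn⟩ := (isAdic_iff.mp hadic).2 U hU
    exact ⟨n + 1, Nat.succ_pos n, (fun x hx => hn (Ideal.pow_le_pow_right (Nat.le_succ n) hx))⟩

end Groth.Agent.S10164
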