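import Groth.Statements.S10165
import Groth.Agent.Lib.helper15.LinTopBasic

set_option autoImplicit false
universe u v w
open LinTop

namespace Groth.Agent.S10165

open Groth.Agent.Lib.H15 Filter Topology

/-- Let φ : A → B be a taut homomorphism of linearly topologized rings. If A is weakly pre-adic, then B
is weakly pre-adic. -/
theorem result
    (A : Type u) [CommRing A] [TopologicalSpace A] [IsTopologicalRing A] [IsLinearTopology A A]
    (B : Type v) [CommRing B] [TopologicalSpace B] [IsTopologicalRing B] [IsLinearTopology B B]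
    (φ : A →+* B) (hφ : LinTop.IsTaut φ) (hA : LinTop.IsWeaklyPreadic A) :
    LinTop.IsWeaklyPreadic B := by
  obtain ⟨hcont, h2, h3⟩ := hφ
  obtain ⟨-, I, hIop, hIbasis⟩ := hA
  refine ⟨inferInstance, I.map φ, ?_, ?_⟩
  · intro n
    have hop : IsOpen (((I ^ n).closure : Ideal A) : Set A) := by
      rw [Ideal.coe_closure]; exact hIop n
    have := h2 _ hop
    rw [← Ideal.coe_closure, LT.closure_map_closure_eq hcont, Ideal.map_pow,
      Ideal.coe_closure] at this
    exact this
  · intro U hU
    obtain ⟨I', hI'op, hI'U⟩ := h3 U hU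
    obtain ⟨n, hn⟩ := hIbasis _ (hI'op.mem_nhds I'.zero_mem)
    refine ⟨n, subset_trans ?_ hI'U⟩
    rw [← Ideal.map_pow]
    refine closure_mono (fun x hx => Ideal.map_mono (show I ^ n ≤ I' from ?_) hx)
    exact fun y hy => hn (subset_closure hy)

end Groth.Agent.S10165
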