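import Groth.Statements.S10166
import Groth.Agent.Lib.helper15.LinTopFFlat

set_option autoImplicit false
universe u v w
open LinTop

namespace Groth.Agent.S10166

open Groth.Agent.Lib.H15 Filter Topology

/-- Let φ : A → B be a taut homomorphism of linearly topologized rings such that for every open ideal I
of A, with J the closure of φ(I)B, the induced map A/I → B/J is faithfully flat. If B has a
countable fundamental system of open ideals, then so does A. -/
theorem result
    (A : Type u) [CommRing A] [TopologicalSpace A] [IsTopologicalRing A] [IsLinearTopology A A]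
    (B : Type v) [CommRing B] [TopologicalSpace B] [IsTopologicalRing B] [IsLinearTopology B B]
    (φ : A →+* B) (hφ : LinTop.IsTautFFlat φ) (hB : (nhds (0 : B)).IsCountablyGenerated) :
    (nhds (0 : A)).IsCountablyGenerated := by
  have hφ' := hφ
  obtain ⟨⟨hcont, h2, h3⟩, -⟩ := hφ
  obtain ⟨V, hVop, hVbasis⟩ :=
    (IsLinearTopology.hasBasis_open_ideal (R := B)).exists_antitone_subbasis
  -- for each `n` choose an open ideal of `A` whose extension closure lies in `V n`
  have hex : ∀ n, ∃ I : Ideal A, IsOpen (I : Set A) ∧
      closure ((I.map φ : Ideal B) : Set B) ⊆ (V n : Set B) :=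
    fun n => h3 _ ((hVop n).mem_nhds (V n).zero_mem)
  choose I hIop hIV using hex
  have hbasis : (𝓝 (0 : A)).HasBasis (fun _ : ℕ => True) (fun n => ((I n : Ideal A) : Set A)) := by
    refine ⟨fun U => ⟨fun hU => ?_, ?_⟩⟩
    · obtain ⟨I', hI'op, hI'U⟩ :=
        (IsLinearTopology.hasBasis_open_ideal (R := A)).mem_iff.mp hU
      have hJop : IsOpen (((I'.map φ).closure : Ideal B) : Set B) := by
        rw [Ideal.coe_closure]; exact h2 I' hI'op
      obtain ⟨n, -, hn⟩ := hVbasis.toHasBasis.mem_iff.mp (hJop.mem_nhds (Ideal.zero_mem _))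
      refine ⟨n, trivial, subset_trans ?_ hI'U⟩
      intro x hx
      rw [SetLike.mem_coe, ← LT.comap_closure_map_eq hφ' hI'op, Ideal.mem_comap]
      apply hn
      apply hIV n
      exact subset_closure (Ideal.mem_map_of_mem φ hx)
    · rintro ⟨n, -, hn⟩
      exact mem_of_superset ((hIop n).mem_nhds (I n).zero_mem) hn
  exact hbasis.isCountablyGenerated

end Groth.Agent.S10166
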