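import Groth.Statements.S10167
import Groth.Agent.Lib.helper15.LinTopFFlat
import Groth.Agent.Lib.helper15.LinTopNil

set_option autoImplicit false
universe u v w
open LinTop

namespace Groth.Agent.S10167

open Groth.Agent.Lib.H15 Filter Topology

/-- Let φ : A → B be a taut homomorphism of linearly topologized rings such that for every open ideal I
of A the induced ring map A/I → B/J, where J denotes the closure of φ(I)B, is faithfully flat. If B
has a weak ideal of definition (B is weakly pre-admissible), then so does A. -/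
theorem result
    (A : Type u) [CommRing A] [TopologicalSpace A] [IsTopologicalRing A] [IsLinearTopology A A]
    (B : Type v) [CommRing B] [TopologicalSpace B] [IsTopologicalRing B] [IsLinearTopology B B]
    (φ : A →+* B) (hφ : LinTop.IsTautFFlat φ) (hB : LinTop.IsWeaklyPreadmissible B) :
    LinTop.IsWeaklyPreadmissible A := by
  have hφ' := hφ
  obtain ⟨⟨hcont, h2, h3⟩, -⟩ := hφ
  obtain ⟨-, J, hJop, hJnil⟩ := hB
  obtain ⟨I, hIop, hIJ⟩ := h3 _ (hJop.mem_nhds J.zero_mem)
  refine ⟨inferInstance, I, hIop, ?_⟩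
  intro f hf
  rw [LT.isTopologicallyNilpotent_iff]
  intro I' hI'
  obtain ⟨I'', hI''op, hI''⟩ := (IsLinearTopology.hasBasis_open_ideal (R := A)).mem_iff.mp hI'
  have hJ'op : IsOpen (closure ((I''.map φ : Ideal B) : Set B)) := h2 I'' hI''op
  have hφf : IsTopologicallyNilpotent (φ f) :=
    hJnil _ (hIJ (subset_closure (Ideal.mem_map_of_mem φ hf)))
  obtain ⟨n, hn⟩ := hφf.exists_pow_mem_of_mem_nhds
    (hJ'op.mem_nhds (subset_closure (Ideal.zero_mem _)))
  refine ⟨n, hI'' ?_⟩
  rw [SetLike.mem_coe, ← LT.comap_closure_map_eq hφ' hI''op, Ideal.mem_comap, map_pow,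
    ← SetLike.mem_coe, Ideal.coe_closure]
  exact hn

end Groth.Agent.S10167
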