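import Groth.Statements.S10168
import Groth.Agent.Lib.helper15.LinTopFFlat

set_option autoImplicit false
universe u v w
open LinTop

namespace Groth.Agent.S10168

open Groth.Agent.Lib.H15 Filter Topology

/-- Let φ : A → B be a taut homomorphism of linearly topologized rings such that for every open ideal I
of A, with J the closure of φ(I)B, the induced map A/I → B/J is faithfully flat. If B is
pre-admissible, then A is pre-admissible. -/
theorem result
    (A : Type u) [CommRing A] [TopologicalSpace A] [IsTopologicalRing A] [IsLinearTopology A A]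
    (B : Type v) [CommRing B] [TopologicalSpace B] [IsTopologicalRing B] [IsLinearTopology B B]
    (φ : A →+* B) (hφ : LinTop.IsTautFFlat φ) (hB : LinTop.IsPreadmissible B) :
    LinTop.IsPreadmissible A := by
  have hφ' := hφ
  obtain ⟨⟨hcont, h2, h3⟩, -⟩ := hφ
  obtain ⟨-, J, hJop, hJpow⟩ := hB
  obtain ⟨I, hIop, hIJ⟩ := h3 _ (hJop.mem_nhds J.zero_mem)
  refine ⟨inferInstance, I, ⟨hIop, ?_⟩⟩
  intro U hU
  obtain ⟨I', hI'op, hI'U⟩ := (IsLinearTopology.hasBasis_open_ideal (R := A)).mem_iff.mp hU
  have hJ'op : IsOpen (closure ((I'.map φ : Ideal B) : Set B)) := h2 I' hI'op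
  obtain ⟨n, hn0, hn⟩ := hJpow _ (hJ'op.mem_nhds (subset_closure (Ideal.zero_mem _)))
  refine ⟨n, hn0, subset_trans ?_ hI'U⟩
  intro x hx
  rw [SetLike.mem_coe, ← LT.comap_closure_map_eq hφ' hI'op, Ideal.mem_comap,
    ← SetLike.mem_coe, Ideal.coe_closure]
  apply hn
  have h1 : I.map φ ≤ J := fun y hy => hIJ (subset_closure hy)
  have h2' : (I ^ n).map φ ≤ J ^ n := by
    rw [Ideal.map_pow]; exact Ideal.pow_right_mono h1 n
  exact h2' (Ideal.mem_map_of_mem φ hx)

end Groth.Agent.S10168
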