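import Groth.Statements.S10169
import Groth.Agent.Lib.helper15.LinTopTaut

set_option autoImplicit false
universe u v w
open LinTop

namespace Groth.Agent.S10169

open Groth.Agent.Lib.H15 Filter Topology

/-- Let φ : A → B be a taut homomorphism of linearly topologized rings such that for every open ideal I
of A the induced ring map A/I → B/J, where J denotes the closure of φ(I)B, is faithfully flat. Weak
pre-adicness then descends: when B is weakly pre-adic, A is as well. -/
theorem result
    (A : Type u) [CommRing A] [TopologicalSpace A] [IsTopologicalRing A] [IsLinearTopology A A]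
    (B : Type v) [CommRing B] [TopologicalSpace B] [IsTopologicalRing B] [IsLinearTopology B B]
    (φ : A →+* B) (hφ : LinTop.IsTautFFlat φ) (hB : LinTop.IsWeaklyPreadic B) :
    LinTop.IsWeaklyPreadic A := by
  have htaut := hφ.1
  obtain ⟨hcont, h2, h3⟩ := hφ.1
  obtain ⟨-, J, hJ⟩ := LT.isPreadmissible_of_isWeaklyPreadic hB
  obtain ⟨I, hIop, hIJ⟩ := h3 _ (hJ.1.mem_nhds J.zero_mem)
  have hI : IsIdealOfDefinition A I := LT.isIdealOfDefinition_of_tautFFlat hφ hIop hJ hIJ
  refine LT.isWeaklyPreadic_of_isIdealOfDefinition hI ?_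
  intro n _
  -- `J' = closure (φ(I)B)` is an ideal of definition of `B`
  have hJ' : IsIdealOfDefinition B (I.map φ).closure := LT.isIdealOfDefinition_closure_map htaut hI
  have hop1 : IsOpen (closure (((I.map φ).closure ^ n : Ideal B) : Set B)) :=
    LT.isOpen_closure_pow_of_isWeaklyPreadic hB hJ' n
  -- hence `closure (φ(I^n)B)` is open
  have hle : closure (((I.map φ).closure ^ n : Ideal B) : Set B) ⊆
      closure (((I ^ n).map φ : Ideal B) : Set B) := by
    have h1 : (I.map φ).closure ^ n ≤ ((I.map φ) ^ n).closure := LT.closure_pow_le _ n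
    rw [← Ideal.map_pow] at h1
    have := closure_mono (s := (((I.map φ).closure ^ n : Ideal B) : Set B))
      (t := ((((I ^ n).map φ).closure : Ideal B) : Set B)) (fun x hx => h1 hx)
    rwa [Ideal.coe_closure, closure_closure] at this
  have hop2 : IsOpen (closure (((I ^ n).map φ : Ideal B) : Set B)) := by
    have hop1' : IsOpen ((((I.map φ).closure ^ n).closure : Ideal B) : Set B) := by
      rw [Ideal.coe_closure]; exact hop1
    rw [← Ideal.coe_closure]
    refine Ideal.isOpen_of_isOpen_subideal (U := ((I.map φ).closure ^ n).closure) ?_ hop1'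
    intro x hx
    rw [← SetLike.mem_coe, Ideal.coe_closure] at hx ⊢
    exact hle hx
  obtain ⟨I', hI'op, hI'⟩ := h3 _ (hop2.mem_nhds (subset_closure (Ideal.zero_mem _)))
  have hsub : (I' : Set A) ⊆ closure ((I ^ n : Ideal A) : Set A) :=
    LT.le_closure_of_tautFFlat hφ hI'
  exact LT.isOpen_closure_of_le hI'op hsub

end Groth.Agent.S10169
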