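import Groth.Statements.S10170
import Groth.Agent.Lib.helper15.LinTopNak
import Groth.Agent.Lib.helper15.LinTopFG
import Groth.Agent.Lib.helper15.LinTopTaut
import Groth.Agent.S10164
import Groth.Agent.S10169

set_option autoImplicit false
universe u v w
open LinTop

namespace Groth.Agent.S10170

open Groth.Agent.Lib.H15 Filter Topology

/-- Let φ : A → B be a taut homomorphism of linearly topologized rings such that for every open ideal I
of A the induced ring map A/I → B/J, where J denotes the closure of φ(I)B, is faithfully flat.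
Suppose A is Hausdorff and complete, and B is adic with some finitely generated ideal of definition.
Then A is adic, and some finitely generated ideal of A is an ideal of definition. -/
theorem result
    (A : Type u) [CommRing A] [UniformSpace A] [IsUniformAddGroup A] [IsTopologicalRing A] [IsLinearTopology A A] [T2Space A] [CompleteSpace A]
    (B : Type v) [CommRing B] [UniformSpace B] [IsUniformAddGroup B] [IsTopologicalRing B] (hB : LinTop.IsAdicRing B)
    (hJ : ∃ J : Ideal B, LinTop.IsIdealOfDefinition B J ∧ J.FG)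
    (φ : A →+* B) (hφ : LinTop.IsTautFFlat φ) :
    LinTop.IsAdicRing A ∧ ∃ I : Ideal A, LinTop.IsIdealOfDefinition A I ∧ I.FG := by
  classical
  obtain ⟨hBpre, -, -⟩ := hB
  have hwpB : IsWeaklyPreadic B := LT.isWeaklyPreadic_of_isPreadic hBpre
  have hlinB : IsLinearTopology B B := hwpB.1
  have hwpA : IsWeaklyPreadic A := Groth.Agent.S10169.result A B φ hφ hwpB
  obtain ⟨J, hJdef, hJfg⟩ := hJ
  obtain ⟨hcont, h2, h3⟩ := hφ.1
  -- `B` is `J`-adic
  obtain ⟨J₀, hJ₀⟩ := hBpre
  rw [isAdic_iff] at hJ₀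
  have hJn : ∀ n : ℕ, IsOpen ((J ^ n : Ideal B) : Set B) := by
    intro n
    obtain ⟨k, hk⟩ := hJ₀.2 _ (hJdef.1.mem_nhds J.zero_mem)
    have : (J₀ ^ k) ^ n ≤ J ^ n := Ideal.pow_right_mono (show J₀ ^ k ≤ J from hk) n
    rw [← pow_mul] at this
    exact Ideal.isOpen_of_isOpen_subideal this (hJ₀.1 _)
  -- an ideal of definition `I₁` of `A` with `closure (φ(I₁)B) ⊆ J`
  obtain ⟨I₁, hI₁op, hI₁J⟩ := h3 _ (hJdef.1.mem_nhds J.zero_mem)
  have hI₁def : IsIdealOfDefinition A I₁ :=
    LT.isIdealOfDefinition_of_tautFFlat hφ hI₁op hJdef hI₁J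
  have hK₁op : IsOpen (closure ((I₁.map φ : Ideal B) : Set B)) := h2 I₁ hI₁op
  obtain ⟨m, hm0, hm⟩ := hJdef.2 _ (hK₁op.mem_nhds (subset_closure (Ideal.zero_mem _)))
  -- generators of `J ^ m`
  obtain ⟨t, ht⟩ := Ideal.FG.pow (n := m) hJfg
  have hV : IsOpen ((J ^ (2 * m) : Ideal B) : Set B) := hJn _
  have hgen : ∀ g ∈ t, ∃ I' : Ideal A, I' ≤ I₁ ∧ I'.FG ∧ g ∈ I'.map φ ⊔ J ^ (2 * m) := by
    intro g hg
    have hg1 : g ∈ (I₁.map φ).closure := by
      rw [← SetLike.mem_coe, Ideal.coe_closure]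
      apply hm
      rw [← ht]; exact Ideal.subset_span hg
    have hg2 := LT.closure_le_sup_of_isOpen _ hV hg1
    obtain ⟨p, hp, h, hh, rfl⟩ := Submodule.mem_sup.mp hg2
    obtain ⟨I', hI'le, hI'fg, hpI'⟩ := LT.exists_fg_le_of_mem_map φ I₁ hp
    exact ⟨I', hI'le, hI'fg, Submodule.add_mem_sup hpI' hh⟩
  choose! I'g hI'gle hI'gfg hI'gmem using hgen
  let I' : Ideal A := t.sup I'g
  have hI'fg : I'.FG := Submodule.fg_finset_sup t I'g hI'gfg
  have hI'le : I' ≤ I₁ := Finset.sup_le hI'gle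
  have hPQ : J ^ m ≤ I'.map φ ⊔ (J ^ m) ^ 2 := by
    rw [← ht, Ideal.span_le]
    intro g hg
    have h1 := hI'gmem g hg
    have h2' : (I'g g).map φ ≤ I'.map φ := Ideal.map_mono (Finset.le_sup (f := I'g) hg)
    have h3' : J ^ (2 * m) = (Ideal.span (t : Set B)) ^ 2 := by
      rw [ht, ← pow_mul, mul_comm]
    rw [← h3']
    exact sup_le_sup_right h2' _ h1
  have hnak : ∀ k : ℕ, J ^ m ≤ I'.map φ ⊔ (J ^ m) ^ (k + 1) :=
    fun k => LT.le_sup_pow_of_le_sup_sq hPQ (k + 1) (Nat.succ_le_succ (Nat.zero_le k))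
  have hJm_le : J ^ m ≤ (I'.map φ).closure := by
    refine LT.le_closure_of_forall_le_sup (fun k => (J ^ m) ^ (k + 1)) ?_ hnak
    intro U hU
    obtain ⟨n, -, hn⟩ := hJdef.2 U hU
    refine ⟨n, subset_trans ?_ hn⟩
    intro x hx
    rw [SetLike.mem_coe, ← pow_mul] at hx
    exact Ideal.pow_le_pow_right (by nlinarith) hx
  -- hence `closure (φ(I')B)` is open
  have hK'op : IsOpen (closure ((I'.map φ : Ideal B) : Set B)) := by
    rw [← Ideal.coe_closure]
    exact Ideal.isOpen_of_isOpen_subideal hJm_le (hJn m)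
  obtain ⟨I₃, hI₃op, hI₃⟩ := h3 _ (hK'op.mem_nhds (subset_closure (Ideal.zero_mem _)))
  have hI₃le : (I₃ : Set A) ⊆ closure (I' : Set A) := LT.le_closure_of_tautFFlat hφ hI₃
  -- the ideal of definition `I = closure I'`
  have hIop : IsOpen ((I'.closure : Ideal A) : Set A) := by
    rw [Ideal.coe_closure]; exact LT.isOpen_closure_of_le hI₃op hI₃le
  have hIle : I'.closure ≤ I₁ := by
    intro x hx
    rw [← SetLike.mem_coe, Ideal.coe_closure] at hx
    exact closure_minimal (fun y hy => hI'le hy) (LT.isClosed_of_isOpen hI₁op) hx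
  have hIdef : IsIdealOfDefinition A I'.closure := by
    refine ⟨hIop, fun U hU => ?_⟩
    obtain ⟨n, hn0, hn⟩ := hI₁def.2 U hU
    exact ⟨n, hn0, fun x hx => hn (Ideal.pow_right_mono hIle n hx)⟩
  have hsqop : IsOpen ((((I'.closure) ^ 2).closure : Ideal A) : Set A) := by
    rw [Ideal.coe_closure]
    exact LT.isOpen_closure_pow_of_isWeaklyPreadic hwpA hIdef 2
  have hIsup : I'.closure ≤ I' ⊔ ((I'.closure) ^ 2).closure :=
    LT.closure_le_sup_of_isOpen _ hsqop
  have hfg : ((I'.closure).map (Ideal.Quotient.mk (((I'.closure) ^ 2).closure))).FG := by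
    have heq : (I'.closure).map (Ideal.Quotient.mk (((I'.closure) ^ 2).closure)) =
        I'.map (Ideal.Quotient.mk (((I'.closure) ^ 2).closure)) := by
      apply le_antisymm
      · refine (Ideal.map_mono hIsup).trans ?_
        rw [Ideal.map_sup, Ideal.map_quotient_self, sup_bot_eq]
      · exact Ideal.map_mono (LT.le_closure _)
    rw [heq]
    exact hI'fg.map _
  exact Groth.Agent.S10164.result A ⟨hwpA, inferInstance, inferInstance⟩ I'.closure hIdef hfg

end Groth.Agent.S10170
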