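import Groth.Statements.S10171
import Mathlib.Topology.Algebra.GroupCompletion
import Mathlib.Topology.Algebra.Group.Quotient

set_option autoImplicit false
universe u v w
open LinTop

namespace Groth.Agent.S10171

open Filter Topology UniformSpace

/-- Let M be a linearly topologized module over a ring R and N a submodule. Write M^ for the separated
completion of M and (M/N)^ for that of M/N (quotient topology, additive uniform structure). Then the
kernel of the induced map M^ → (M/N)^ is the closure of the image of N in M^; that closure is the
completion of N, so this is the exactness of 0 → N^ → M^ → (M/N)^ at M^. -/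
theorem result
    {R : Type u} [Ring R] {M : Type v} [AddCommGroup M] [Module R M] [UniformSpace M]
    [IsUniformAddGroup M] [IsLinearTopology R M] (N : Submodule R M) :
    (@UniformSpace.Completion.map M _ (M ⧸ N.toAddSubgroup)
        (IsTopologicalAddGroup.rightUniformSpace (M ⧸ N.toAddSubgroup))
        (QuotientAddGroup.mk' N.toAddSubgroup)) ⁻¹' {0} =
      closure (Set.range (fun n : N => ((n : M) : UniformSpace.Completion M))) := by
  let _ : UniformSpace (M ⧸ N.toAddSubgroup) :=
    IsTopologicalAddGroup.rightUniformSpace (M ⧸ N.toAddSubgroup)
  have : IsUniformAddGroup (M ⧸ N.toAddSubgroup) := isUniformAddGroup_of_addCommGroup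
  set π : M →+ M ⧸ N.toAddSubgroup := QuotientAddGroup.mk' N.toAddSubgroup with hπ
  have hπc : Continuous π := QuotientAddGroup.continuous_mk
  have hπu : UniformContinuous π := uniformContinuous_addMonoidHom_of_continuous hπc
  have hmapc : Continuous (Completion.map π) := Completion.continuous_map
  have hmap_coe : ∀ m : M, Completion.map π (m : Completion M) =
      ((π m : M ⧸ N.toAddSubgroup) : Completion (M ⧸ N.toAddSubgroup)) :=
    fun m => Completion.map_coe hπu m
  have hmap_sub : ∀ a b : Completion M,
      Completion.map π (a - b) = Completion.map π a - Completion.map π b :=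
    fun a b => map_sub (AddMonoidHom.completion π hπc) a b
  apply Set.Subset.antisymm
  · -- kernel ⊆ closure of the image of `N`
    intro x hx
    have hx0 : Completion.map π x = 0 := hx
    rw [mem_closure_iff_nhds]
    intro t ht
    -- a neighbourhood of `0`
    have ht0 : {w : Completion M | x + w ∈ t} ∈ 𝓝 (0 : Completion M) := by
      have hc : Continuous fun w : Completion M => x + w := by fun_prop
      have : Tendsto (fun w : Completion M => x + w) (𝓝 0) (𝓝 x) := by
        have := hc.tendsto 0
        simpa using this
      exact this ht
    obtain ⟨W₀, ⟨hW₀, hW₀cl⟩, hW₀t⟩ := (closed_nhds_basis (0 : Completion M)).mem_iff.mp ht0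
    have hpre : (fun a : M => (a : Completion M)) ⁻¹' W₀ ∈ 𝓝 (0 : M) := by
      have hc : Continuous (fun a : M => (a : Completion M)) := Completion.continuous_coe M
      have := hc.tendsto 0
      rw [Completion.coe_zero] at this
      exact this hW₀
    obtain ⟨P, hPop, hP⟩ := (IsLinearTopology.hasBasis_open_submodule R (M := M)).mem_iff.mp hpre
    -- the open subgroup `W`
    let W : AddSubgroup (Completion M) :=
      (P.toAddSubgroup.map (Completion.toCompl : M →+ Completion M)).topologicalClosure
    have hWcoe : (W : Set (Completion M)) = closure ((fun a : M => (a : Completion M)) '' (P : Set M)) := rfl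
    have hWW₀ : (W : Set (Completion M)) ⊆ W₀ := by
      rw [hWcoe]
      refine closure_minimal ?_ hW₀cl
      rintro _ ⟨a, ha, rfl⟩
      exact hP ha
    have hWnhds : (W : Set (Completion M)) ∈ 𝓝 (0 : Completion M) := by
      rw [hWcoe]
      have := Completion.isDenseInducing_coe.closure_image_mem_nhds (hPop.mem_nhds P.zero_mem)
      rwa [Completion.coe_zero] at this
    -- approximate `x` by an element of `M`
    have hxnhd : {y : Completion M | y - x ∈ W} ∈ 𝓝 x := by
      have hc : Continuous fun y : Completion M => y - x := by fun_prop
      have : Tendsto (fun y : Completion M => y - x) (𝓝 x) (𝓝 0) := by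
        have := hc.tendsto x
        simpa using this
      exact this hWnhds
    obtain ⟨y, hy⟩ := (Completion.denseRange_coe (α := M)).inter_nhds_nonempty hxnhd
    have hy1 : y - x ∈ W := hy.2
    have hy2 : y ∈ Set.range (fun a : M => (a : Completion M)) := hy.1
    obtain ⟨m, rfl⟩ := hy2
    have hm : ((m : Completion M) - x) ∈ W := hy1
    -- the image of `m` in the completion of the quotient lies in the closure of `π(P)`
    have h1 : ((π m : M ⧸ N.toAddSubgroup) : Completion (M ⧸ N.toAddSubgroup)) ∈
        closure ((fun q : M ⧸ N.toAddSubgroup => (q : Completion (M ⧸ N.toAddSubgroup))) ''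
          (π '' (P : Set M))) := by
      have e1 : ((π m : M ⧸ N.toAddSubgroup) : Completion (M ⧸ N.toAddSubgroup)) =
          Completion.map π ((m : Completion M) - x) := by
        rw [hmap_sub, hmap_coe, hx0, sub_zero]
      rw [e1]
      have h2 : Completion.map π ((m : Completion M) - x) ∈ Completion.map π '' (W : Set _) :=
        ⟨_, hm, rfl⟩
      have h3 := image_closure_subset_closure_image hmapc (hWcoe ▸ h2)
      have e2 : Completion.map π '' ((fun a : M => (a : Completion M)) '' (P : Set M)) =
          (fun q : M ⧸ N.toAddSubgroup => (q : Completion (M ⧸ N.toAddSubgroup))) ''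
            (π '' (P : Set M)) := by
        rw [Set.image_image, Set.image_image]
        exact Set.image_congr fun a _ => hmap_coe a
      rwa [e2] at h3
    have h4 : π m ∈ closure (π '' (P : Set M)) := by
      rw [(Completion.isUniformInducing_coe (M ⧸ N.toAddSubgroup)).isInducing.closure_eq_preimage_closure_image]
      exact h1
    -- `π(P)` is an open, hence closed, subgroup
    have hπPop : IsOpen (π '' (P : Set M)) := QuotientAddGroup.isOpenMap_coe _ hPop
    have hπPcl : IsClosed (π '' (P : Set M)) := by
      have : (π '' (P : Set M)) = ((P.toAddSubgroup.map π : AddSubgroup _) : Set _) := rfl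
      rw [this] at hπPop ⊢
      exact AddSubgroup.isClosed_of_isOpen _ hπPop
    rw [hπPcl.closure_eq] at h4
    obtain ⟨p, hp, hpm⟩ := h4
    have hn : m - p ∈ N := by
      have : π (m - p) = 0 := by rw [map_sub, hpm, sub_self]
      exact (QuotientAddGroup.eq_zero_iff _).mp this
    refine ⟨((m - p : M) : Completion M), ?_, ⟨⟨m - p, hn⟩, rfl⟩⟩
    have hpW : ((p : M) : Completion M) ∈ W := subset_closure ⟨p, hp, rfl⟩
    have hw : ((m : Completion M) - x) - (p : Completion M) ∈ W := W.sub_mem hm hpW
    have := hW₀t (hWW₀ hw)
    have e : x + (((m : Completion M) - x) - (p : Completion M)) = ((m - p : M) : Completion M) := by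
      rw [Completion.coe_sub]; abel
    rw [← e]; exact this
  · -- closure of the image of `N` ⊆ kernel
    refine closure_minimal ?_ (isClosed_singleton.preimage hmapc)
    rintro _ ⟨n, rfl⟩
    change Completion.map π ((n : M) : Completion M) = 0
    rw [hmap_coe]
    have : π (n : M) = 0 := (QuotientAddGroup.eq_zero_iff _).mpr n.2
    rw [this, Completion.coe_zero]

end Groth.Agent.S10171
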