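import Groth.Statements.S10172
import Groth.Agent.Lib.helper15.SuccApprox
import Mathlib.Topology.Algebra.GroupCompletion
import Mathlib.Topology.Algebra.Group.Quotient

set_option autoImplicit false
universe u v w
open LinTop

namespace Groth.Agent.S10172

open Filter Topology UniformSpace Groth.Agent.Lib.H15

/-- Let M be a linearly topologized module over a ring R having a countable fundamental system of
neighbourhoods of 0, and N a submodule. With M^ and (M/N)^ the separated completions of M and of M/N
(quotient topology, additive uniform structure), the induced map M^ → (M/N)^ is surjective and open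
(so, its kernel being the completion of N, the sequence 0 → N^ → M^ → (M/N)^ → 0 is exact). -/
theorem result
    {R : Type u} [Ring R] {M : Type v} [AddCommGroup M] [Module R M] [UniformSpace M]
    [IsUniformAddGroup M] [IsLinearTopology R M] (hc : (nhds (0 : M)).IsCountablyGenerated)
    (N : Submodule R M) :
    Function.Surjective (@UniformSpace.Completion.map M _ (M ⧸ N.toAddSubgroup)
        (IsTopologicalAddGroup.rightUniformSpace (M ⧸ N.toAddSubgroup))
        (QuotientAddGroup.mk' N.toAddSubgroup)) ∧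
      IsOpenMap (@UniformSpace.Completion.map M _ (M ⧸ N.toAddSubgroup)
        (IsTopologicalAddGroup.rightUniformSpace (M ⧸ N.toAddSubgroup))
        (QuotientAddGroup.mk' N.toAddSubgroup)) := by
  let _ : UniformSpace (M ⧸ N.toAddSubgroup) :=
    IsTopologicalAddGroup.rightUniformSpace (M ⧸ N.toAddSubgroup)
  have : IsUniformAddGroup (M ⧸ N.toAddSubgroup) := isUniformAddGroup_of_addCommGroup
  set π : M →+ M ⧸ N.toAddSubgroup := QuotientAddGroup.mk' N.toAddSubgroup with hπ
  have hπc : Continuous π := QuotientAddGroup.continuous_mk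
  have hπu : UniformContinuous π := uniformContinuous_addMonoidHom_of_continuous hπc
  have hπsurj : Function.Surjective π := QuotientAddGroup.mk'_surjective _
  have hπopen : IsOpenMap π := QuotientAddGroup.isOpenMap_coe
  let f : Completion M →+ Completion (M ⧸ N.toAddSubgroup) := AddMonoidHom.completion π hπc
  have hfc : Continuous f := AddMonoidHom.continuous_completion π hπc
  have hf_coe : ∀ m : M, f (m : Completion M) =
      ((π m : M ⧸ N.toAddSubgroup) : Completion (M ⧸ N.toAddSubgroup)) :=
    fun m => AddMonoidHom.completion_coe π hπc m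
  change Function.Surjective f ∧ IsOpenMap f
  -- countable basis of open submodules
  obtain ⟨P, hPop, hPbasis⟩ :=
    (IsLinearTopology.hasBasis_open_submodule R (M := M)).exists_antitone_subbasis
  have hPanti : Antitone P := fun i j hij => hPbasis.antitone hij
  let W : ℕ → AddSubgroup (Completion M) := fun k =>
    ((P k).toAddSubgroup.map (Completion.toCompl : M →+ Completion M)).topologicalClosure
  let W' : ℕ → AddSubgroup (Completion (M ⧸ N.toAddSubgroup)) := fun k =>
    (((P k).toAddSubgroup.map π).map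
      (Completion.toCompl : (M ⧸ N.toAddSubgroup) →+ Completion (M ⧸ N.toAddSubgroup))).topologicalClosure
  have hWcoe : ∀ k, (W k : Set (Completion M)) =
      closure ((fun a : M => (a : Completion M)) '' (P k : Set M)) := fun k => rfl
  have hW'coe : ∀ k, (W' k : Set (Completion (M ⧸ N.toAddSubgroup))) =
      closure ((fun q : M ⧸ N.toAddSubgroup => (q : Completion (M ⧸ N.toAddSubgroup))) ''
        (π '' (P k : Set M))) := fun k => rfl
  have hWcl : ∀ k, IsClosed (W k : Set (Completion M)) := fun k =>
    AddSubgroup.isClosed_topologicalClosure _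
  have hWanti : Antitone W := fun i j hij =>
    AddSubgroup.topologicalClosure_mono (AddSubgroup.map_mono (fun x hx => hPanti hij hx))
  have hW'anti : Antitone W' := fun i j hij =>
    AddSubgroup.topologicalClosure_mono
      (AddSubgroup.map_mono (AddSubgroup.map_mono (fun x hx => hPanti hij hx)))
  have hWnhds : ∀ k, (W k : Set (Completion M)) ∈ 𝓝 (0 : Completion M) := by
    intro k
    rw [hWcoe]
    have := Completion.isDenseInducing_coe.closure_image_mem_nhds
      ((hPop k).mem_nhds (P k).zero_mem)
    rwa [Completion.coe_zero] at this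
  have hW'nhds : ∀ k, (W' k : Set (Completion (M ⧸ N.toAddSubgroup))) ∈
      𝓝 (0 : Completion (M ⧸ N.toAddSubgroup)) := by
    intro k
    rw [hW'coe]
    have h0 : π '' (P k : Set M) ∈ 𝓝 (0 : M ⧸ N.toAddSubgroup) := by
      have := (hπopen _ (hPop k)).mem_nhds ⟨0, (P k).zero_mem, map_zero π⟩
      exact this
    have := Completion.isDenseInducing_coe.closure_image_mem_nhds h0
    rwa [Completion.coe_zero] at this
  have hWbasis : ∀ U ∈ 𝓝 (0 : Completion M), ∃ k, (W k : Set (Completion M)) ⊆ U := by
    intro U hU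
    obtain ⟨W₀, ⟨hW₀, hW₀cl⟩, hW₀U⟩ := (closed_nhds_basis (0 : Completion M)).mem_iff.mp hU
    have hpre : (fun a : M => (a : Completion M)) ⁻¹' W₀ ∈ 𝓝 (0 : M) := by
      have hc' : Continuous (fun a : M => (a : Completion M)) := Completion.continuous_coe M
      have := hc'.tendsto 0
      rw [Completion.coe_zero] at this
      exact this hW₀
    obtain ⟨k, -, hk⟩ := hPbasis.toHasBasis.mem_iff.mp hpre
    refine ⟨k, subset_trans ?_ hW₀U⟩
    rw [hWcoe]
    refine closure_minimal ?_ hW₀cl
    rintro _ ⟨a, ha, rfl⟩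
    exact hk ha
  have hW'basis : ∀ U ∈ 𝓝 (0 : Completion (M ⧸ N.toAddSubgroup)),
      ∃ k, (W' k : Set (Completion (M ⧸ N.toAddSubgroup))) ⊆ U := by
    intro U hU
    obtain ⟨W₀, ⟨hW₀, hW₀cl⟩, hW₀U⟩ :=
      (closed_nhds_basis (0 : Completion (M ⧸ N.toAddSubgroup))).mem_iff.mp hU
    have hpre : (fun a : M => ((π a : M ⧸ N.toAddSubgroup) :
        Completion (M ⧸ N.toAddSubgroup))) ⁻¹' W₀ ∈ 𝓝 (0 : M) := by
      have hc' : Continuous (fun a : M => ((π a : M ⧸ N.toAddSubgroup) :
          Completion (M ⧸ N.toAddSubgroup))) :=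
        (Completion.continuous_coe (M ⧸ N.toAddSubgroup)).comp hπc
      have := hc'.tendsto 0
      rw [map_zero, Completion.coe_zero] at this
      exact this hW₀
    obtain ⟨k, -, hk⟩ := hPbasis.toHasBasis.mem_iff.mp hpre
    refine ⟨k, subset_trans ?_ hW₀U⟩
    rw [hW'coe]
    refine closure_minimal ?_ hW₀cl
    rintro _ ⟨_, ⟨a, ha, rfl⟩, rfl⟩
    exact hk ha
  have hnonarch : NonarchimedeanAddGroup (Completion M) := by
    refine ⟨fun U hU => ?_⟩
    obtain ⟨k, hk⟩ := hWbasis U hU
    exact ⟨⟨W k, (W k).isOpen_of_mem_nhds (hWnhds k)⟩, hk⟩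
  have happrox : ∀ k, ∀ y ∈ W' k, ∃ g ∈ W k, y - f g ∈ W' (k + 1) := by
    intro k y hy
    have hnhd : {z : Completion (M ⧸ N.toAddSubgroup) | y - z ∈ W' (k + 1)} ∈ 𝓝 y := by
      have hc' : Continuous fun z : Completion (M ⧸ N.toAddSubgroup) => y - z := by fun_prop
      have : Tendsto (fun z : Completion (M ⧸ N.toAddSubgroup) => y - z) (𝓝 y) (𝓝 0) := by
        have := hc'.tendsto y
        simpa using this
      exact this (hW'nhds (k + 1))
    have hy' : y ∈ closure ((fun q : M ⧸ N.toAddSubgroup =>
        (q : Completion (M ⧸ N.toAddSubgroup))) '' (π '' (P k : Set M))) := hy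
    obtain ⟨z, hz1, ⟨_, ⟨p, hp, rfl⟩, rfl⟩⟩ := mem_closure_iff_nhds.mp hy' _ hnhd
    refine ⟨(p : Completion M), subset_closure ⟨p, hp, rfl⟩, ?_⟩
    rw [hf_coe]
    exact hz1
  have key : ∀ k, ∀ y ∈ W' k, ∃ x ∈ W k, f x = y :=
    fun k y hy => succApprox f hfc W W' hWcl hWanti hWbasis hW'anti hW'basis happrox k y hy
  constructor
  · intro y
    have hnhd : {z : Completion (M ⧸ N.toAddSubgroup) | y - z ∈ W' 0} ∈ 𝓝 y := by
      have hc' : Continuous fun z : Completion (M ⧸ N.toAddSubgroup) => y - z := by fun_prop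
      have : Tendsto (fun z : Completion (M ⧸ N.toAddSubgroup) => y - z) (𝓝 y) (𝓝 0) := by
        have := hc'.tendsto y
        simpa using this
      exact this (hW'nhds 0)
    obtain ⟨z, hz⟩ := (Completion.denseRange_coe (α := M ⧸ N.toAddSubgroup)).inter_nhds_nonempty hnhd
    have hz1 : y - z ∈ W' 0 := hz.2
    have hz2 : z ∈ Set.range (fun q : M ⧸ N.toAddSubgroup =>
        (q : Completion (M ⧸ N.toAddSubgroup))) := hz.1
    obtain ⟨q, rfl⟩ := hz2
    obtain ⟨m, rfl⟩ := hπsurj q
    obtain ⟨x, -, hx⟩ := key 0 _ hz1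
    refine ⟨x + (m : Completion M), ?_⟩
    rw [map_add, hx, hf_coe]; abel
  · rw [IsTopologicalAddGroup.isOpenMap_iff_nhds_zero]
    intro s hs
    rw [mem_map] at hs
    obtain ⟨k, hk⟩ := hWbasis _ hs
    refine mem_of_superset (hW'nhds k) ?_
    intro y hy
    obtain ⟨x, hx, rfl⟩ := key k y hy
    exact hk hx

end Groth.Agent.S10172
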