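import Groth.Statements.S10183
import Groth.Agent.Lib.helper15.AlgSpSeven2
import Groth.Agent.Lib.helper15.UnramLqf

set_option autoImplicit false
universe u
open CategoryTheory CategoryTheory.Limits AlgebraicGeometry Topology TopologicalSpace
open AlgSp

namespace Groth.Agent.S10183

/-- Let X be an algebraic space over a scheme S, a : h_U ⟶ X a representable etale map from a scheme U
over S, and R a scheme over S with h_R = h_U ×_X h_U whose two projections s, t : R ⟶ U are
quasi-compact (for instance if a is quasi-compact). Then the maps |U| → |X| and |R| → |X| have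
finite fibres. -/
theorem result {S : Scheme.{u}} (X : AlgSp.Space S) {R U : Over S}
    (a : (AlgSp.yon S).obj U ⟶ X.obj) (ha : AlgSp.RepWith @Etale a) (s t : R ⟶ U)
    (hR : IsPullback ((AlgSp.yon S).map t) ((AlgSp.yon S).map s) a a)
    [QuasiCompact s.left] [QuasiCompact t.left] (x : AlgSp.Points X.obj) :
    (AlgSp.Points.ofPt a ⁻¹' {x}).Finite ∧
      (AlgSp.Points.ofPt ((AlgSp.yon S).map t ≫ a) ⁻¹' {x}).Finite := by
  have hse : Etale s.left := ((AlgSp.repWith_iff _ _).1 ha).2 a ((AlgSp.yon S).map t) s hR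
  have hte : Etale t.left := ((AlgSp.repWith_iff _ _).1 ha).2 a ((AlgSp.yon S).map s) t hR.flip
  have hsq : LocallyQuasiFinite s.left := Groth.Agent.Lib.H15.locallyQuasiFinite_of_formallyUnramified _
  have htq : LocallyQuasiFinite t.left := Groth.Agent.Lib.H15.locallyQuasiFinite_of_formallyUnramified _
  have h1 : (AlgSp.Points.ofPt a ⁻¹' {x}).Finite := by
    by_cases hne : (AlgSp.Points.ofPt a ⁻¹' {x}).Nonempty
    · obtain ⟨u₀, hu₀⟩ := hne
      have hu₀' : AlgSp.Points.ofPt a u₀ = x := hu₀
      refine Set.Finite.subset (((s.left).finite_preimage_singleton u₀).image (fun r => t.left r)) ?_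
      intro u hu
      have hu' : AlgSp.Points.ofPt a u = x := hu
      obtain ⟨r, hr1, hr2⟩ := Groth.Agent.Lib.H15.AS.exists_point_of_ofPt_eq hR u u₀
        (hu'.trans hu₀'.symm)
      exact ⟨r, hr2, hr1⟩
    · rw [Set.not_nonempty_iff_eq_empty] at hne
      rw [hne]
      exact Set.finite_empty
  refine ⟨h1, ?_⟩
  have : AlgSp.Points.ofPt ((AlgSp.yon S).map t ≫ a) ⁻¹' {x} =
      (fun r => t.left r) ⁻¹' (AlgSp.Points.ofPt a ⁻¹' {x}) := by
    ext r
    simp only [Set.mem_preimage, Set.mem_singleton_iff]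
    rw [Groth.Agent.Lib.H15.AS.ofPt_yon_map_comp]
  rw [this]
  exact h1.preimage' fun u _ => (t.left).finite_preimage_singleton u

end Groth.Agent.S10183
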