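import Groth.Statements.S10188
import Mathlib
import Groth.Agent.Lib.helper15.AlgSpLocP2

set_option autoImplicit false
universe u
open CategoryTheory CategoryTheory.Limits AlgebraicGeometry Topology TopologicalSpace
open AlgSp

namespace Groth.Agent.S10188

/-- Let P be a property of schemes that is local in the etale topology (for every scheme V and every
etale covering family of V, V has P if and only if all members have P), and let X be an algebraic
space over a scheme S. Then X has P etale locally (some surjective etale chart from a scheme with P)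
if and only if every scheme admitting a representable etale map to X has P. -/
theorem result {S : Scheme.{u}} (P : Scheme.{u} → Prop)
    (hP : ∀ (V : Scheme.{u}) (𝒰 : Scheme.Cover.{u} (Scheme.precoverage @Etale) V), P V ↔ ∀ i, P (𝒰.X i))
    (X : AlgSp.Space S) :
    AlgSp.EtaleLocally P X.obj ↔
      ∀ (U : Over S) (a : (AlgSp.yon S).obj U ⟶ X.obj), AlgSp.RepWith @Etale a → P U.left := by
  constructor
  · rintro ⟨U₀, p₀, hp₀e, hp₀s, hPU₀⟩ U a ha
    have hrep : AlgSp.Representable p₀ := hp₀e.rep
    have sq := hrep.isPullback' a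
    -- `W = U₀ ×_X U`
    have hw2e : Etale (hrep.snd a).left := hp₀e.property_snd a
    have hw2s : Surjective (hrep.snd a).left := hp₀s.property_snd a
    have hw1e : Etale (hrep.fst' a).left :=
      ((AlgSp.repWith_iff _ _).1 ha).2 p₀ ((AlgSp.yon S).map (hrep.snd a)) (hrep.fst' a) sq.flip
    -- `P W`
    have hPW : P (hrep.pullback a).left := by
      let 𝒰 : Scheme.Cover.{u} (Scheme.precoverage @Etale) U₀.left :=
        Scheme.Cover.mkOfCovers (PUnit.{u + 1} ⊕ PUnit.{u + 1})
          (fun j => Sum.elim (fun _ => (hrep.pullback a).left) (fun _ => U₀.left) j)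
          (fun j => match j with
            | Sum.inl _ => (hrep.fst' a).left
            | Sum.inr _ => 𝟙 U₀.left)
          (fun x => ⟨Sum.inr PUnit.unit, x, rfl⟩)
          (fun j => match j with
            | Sum.inl _ => hw1e
            | Sum.inr _ => (inferInstance : Etale (𝟙 U₀.left)))
      exact ((hP U₀.left 𝒰).1 hPU₀) (Sum.inl PUnit.unit)
    let 𝒱 : Scheme.Cover.{u} (Scheme.precoverage @Etale) U.left :=
      Scheme.Cover.mkOfCovers PUnit.{u + 1} (fun _ => (hrep.pullback a).left)
        (fun _ => (hrep.snd a).left)
        (fun x => by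
          obtain ⟨y, hy⟩ := hw2s.surj x
          exact ⟨PUnit.unit, y, hy⟩)
        (fun _ => hw2e)
    exact (hP U.left 𝒱).2 (fun _ => hPW)
  · intro h
    obtain ⟨U₀, p₀, hp₀e, hp₀s⟩ := X.property.atlas
    exact ⟨U₀, p₀, hp₀e, hp₀s, h U₀ p₀ hp₀e⟩

end Groth.Agent.S10188
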