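import Groth.Statements.S10196
import Groth.Agent.Lib.helper15.AlgSpPres

set_option autoImplicit false
universe u
open CategoryTheory CategoryTheory.Limits AlgebraicGeometry Topology TopologicalSpace
open AlgSp

namespace Groth.Agent.S10196

/-- Let X be an algebraic space over a scheme S, a : h_U ⟶ X a representable etale map from a scheme U
over S, and X' ⟶ X the open subspace whose image in |X| is the (open) image of U. Then a factors
through a representable etale and surjective a' : h_U ⟶ X', and if R is a scheme over S with h_R =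
h_U ×_X h_U then also h_R = h_U ×_{X'} h_U and (U, R, a') is a presentation of X'. -/
theorem result {S : Scheme.{u}} {X X' : AlgSp.Space S} {U : Over S}
    (a : (AlgSp.yon S).obj U ⟶ X.obj) (ha : AlgSp.RepWith @Etale a)
    (j : X' ⟶ X) (hj : AlgSp.RepWith @IsOpenImmersion j.hom)
    (himage : Set.range (AlgSp.Points.map j.hom) = Set.range (AlgSp.Points.ofPt a)) :
    ∃ a' : (AlgSp.yon S).obj U ⟶ X'.obj, a' ≫ j.hom = a ∧ AlgSp.RepWith @Etale a' ∧ AlgSp.RepWith @Surjective a' ∧
      ∀ (R : Over S) (s t : R ⟶ U), IsPullback ((AlgSp.yon S).map t) ((AlgSp.yon S).map s) a a →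
        AlgSp.IsPresentation s t a' := by
  have hmono : Mono j.hom := Groth.Agent.Lib.H15.AS.mono_of_repWith (P := @IsOpenImmersion)
    (fun _ _ g (hg : IsOpenImmersion g) => (inferInstance : Mono g)) j.hom hj
  have hrange : Set.range (AlgSp.Points.map a) ⊆ Set.range (AlgSp.Points.map j.hom) := by
    rw [himage, Groth.Agent.Lib.H15.AS.range_map_eq_range_ofPt]
  obtain ⟨a', ha'⟩ := Groth.Agent.Lib.H15.AS.exists_factor_of_range_subset j.hom hj a hrange
  have he : AlgSp.RepWith @Etale a' := by
    apply Groth.Agent.Lib.H15.AS.repWith_of_comp_mono @Etale a' j.hom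
    rw [ha']
    exact ha
  have hsurj : AlgSp.RepWith @Surjective a' := by
    refine Groth.Agent.Lib.H15.AS.repWith_surjective_of_isSurjectiveMor he.rep
      (Groth.Agent.Lib.H15.AS.isSurjectiveMor_of_surjective_ofPt a' ?_)
    intro y
    have hy : AlgSp.Points.map j.hom y ∈ Set.range (AlgSp.Points.ofPt a) := by
      rw [← himage]
      exact ⟨y, rfl⟩
    obtain ⟨w, hw⟩ := hy
    refine ⟨w, ?_⟩
    apply Groth.Agent.Lib.H15.AS.injective_points_map_of_mono j.hom
    rw [AlgSp.Points.map_ofPt, ha', hw]
  refine ⟨a', ha', he, hsurj, ?_⟩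
  intro R s t sq
  have sq' : IsPullback ((AlgSp.yon S).map t) ((AlgSp.yon S).map s) a' a' := by
    rw [← ha'] at sq
    exact IsKernelPair.cancel_right_of_mono sq
  exact ⟨Groth.Agent.Lib.H15.AS.isEtaleEqvRel_of_isPullback a' he s t sq', he, hsurj, sq'⟩

end Groth.Agent.S10196
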