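import Groth.Statements.S10210
import Groth.Agent.Lib.helper15.AlgSpEtale2
open Groth.Agent.Lib.H15.AS

set_option autoImplicit false
universe u
open CategoryTheory CategoryTheory.Limits AlgebraicGeometry Topology TopologicalSpace
open AlgSp

namespace Groth.Agent.S10210

/-- Let X, Y, Z be algebraic spaces over a scheme S, g : X ⟶ Z and h : Y ⟶ Z etale morphisms and f : X ⟶
Y a morphism with f ≫ h = g. Then f is etale. -/
theorem result {S : Scheme.{u}} {X Y Z : AlgSp.Space S} (f : X ⟶ Y) (h : Y ⟶ Z) (g : X ⟶ Z)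
    (w : f ≫ h = g) (hg : AlgSp.IsEtaleMor g.hom) (hh : AlgSp.IsEtaleMor h.hom) :
    AlgSp.IsEtaleMor f.hom := by
  apply isEtaleMor_of_locP_etale Y.property
  intro U V a b k ha hb comm
  have hbh : AlgSp.RepWith @Etale (b ≫ h.hom) := hh b hb
  have hag : AlgSp.RepWith @Etale (a ≫ g.hom) := hg a ha
  have e : a ≫ g.hom = (AlgSp.yon S).map k ≫ (b ≫ h.hom) := by
    rw [← w]
    change a ≫ f.hom ≫ h.hom = _
    rw [← Category.assoc, comm, Category.assoc]
  rw [e] at hag
  exact prop_of_repWith_yon_map_comp_etale goodP_etale k (b ≫ h.hom) hbh hag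

end Groth.Agent.S10210
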