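import Groth.Statements.S10213
import Groth.Agent.Lib.helper15.AlgSpOpenSub3
open Groth.Agent.Lib.H15.AS

set_option autoImplicit false
universe u
open CategoryTheory CategoryTheory.Limits AlgebraicGeometry Topology TopologicalSpace
open AlgSp

namespace Groth.Agent.S10213

/-- For an algebraic space X over a scheme S there is a surjective etale map h_U ⟶ X where U is a
disjoint union of affine schemes, each of which maps into an affine open of S. -/
theorem result {S : Scheme.{u}} (X : AlgSp.Space S) :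
    ∃ (ι : Type u) (V : ι → Scheme.{u}) (_ : ∀ i, IsAffine (V i)) (q : (∐ V) ⟶ S)
      (p : (AlgSp.yon S).obj (Over.mk q) ⟶ X.obj),
      AlgSp.RepWith @Etale p ∧ AlgSp.RepWith @Surjective p ∧
        ∀ i, ∃ W : S.Opens, IsAffineOpen W ∧ ∀ v : ↥(V i), (Sigma.ι V i ≫ q) v ∈ W := by
  obtain ⟨U, a, hae, has⟩ := X.property.atlas
  have key : ∀ u : ↥U.left, ∃ (O : U.left.Opens) (W : S.Opens), IsAffineOpen O ∧ IsAffineOpen W ∧ u ∈ O ∧
      ∀ v ∈ O, U.hom v ∈ W := by
    intro u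
    obtain ⟨_, ⟨W, hW, rfl⟩, huW, -⟩ := S.isBasis_affineOpens.exists_subset_of_mem_open
      (Set.mem_univ (U.hom u)) isOpen_univ
    obtain ⟨_, ⟨O, hO, rfl⟩, huO, hOW⟩ := U.left.isBasis_affineOpens.exists_subset_of_mem_open
      (show u ∈ ((U.hom ⁻¹ᵁ W : U.left.Opens) : Set ↥U.left) from huW) (U.hom ⁻¹ᵁ W).isOpen
    exact ⟨O, W, hO, hW, huO, fun v hv => hOW hv⟩
  choose O W hO hW huO hOW using key
  let V : ↥U.left → Scheme.{u} := fun u => (O u : Scheme.{u})
  let c : (∐ V) ⟶ U.left := Sigma.desc (fun u => (O u).ι)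
  have hc : Etale c := IsZariskiLocalAtSource.sigmaDesc (P := @Etale) (fun u => (inferInstance : Etale (O u).ι))
  have hcs : Surjective c := by
    refine ⟨fun u => ?_⟩
    refine ⟨(Sigma.ι V u) ⟨u, huO u⟩, ?_⟩
    rw [← Scheme.Hom.comp_apply, Sigma.ι_desc]
    rfl
  let φ : Over.mk (c ≫ U.hom) ⟶ U := Over.homMk c rfl
  refine ⟨↥U.left, V, fun u => hO u, c ≫ U.hom, (AlgSp.yon S).map φ ≫ a,
    repWith_yon_map_comp @Etale φ a hc hae, repWith_yon_map_comp @Surjective φ a hcs has, fun u => ?_⟩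
  refine ⟨W u, hW u, fun v => ?_⟩
  rw [← Category.assoc, Sigma.ι_desc, Scheme.Hom.comp_apply]
  exact hOW u _ v.2

end Groth.Agent.S10213
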