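import Groth.Statements.S10214
import Groth.Agent.Lib.helper15.AlgSpOpenSub3
open Groth.Agent.Lib.H15.AS

set_option autoImplicit false
universe u
open CategoryTheory CategoryTheory.Limits AlgebraicGeometry Topology TopologicalSpace
open AlgSp

namespace Groth.Agent.S10214

/-- Every algebraic space X over a scheme S has a Zariski covering by open subspaces X_i such that each
X_i has a surjective etale map from an affine scheme; moreover the affine schemes may be taken to
map into affine opens of S. -/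
theorem result {S : Scheme.{u}} (X : AlgSp.Space S) :
    ∃ (ι : Type u) (Xi : ι → AlgSp.Space S) (j : ∀ i, Xi i ⟶ X),
      AlgSp.IsZarCover (fun i => (Xi i).obj) (fun i => (j i).hom) ∧
        ∀ i, ∃ (U : Over S) (p : (AlgSp.yon S).obj U ⟶ (Xi i).obj), IsAffine U.left ∧
          AlgSp.RepWith @Etale p ∧ AlgSp.RepWith @Surjective p ∧
          ∃ W : S.Opens, IsAffineOpen W ∧ ∀ v : ↥U.left, U.hom v ∈ W := by
  obtain ⟨U, a, hae, has⟩ := X.property.atlas
  have key : ∀ u : ↥U.left, ∃ (O : U.left.Opens) (W : S.Opens), IsAffineOpen O ∧ IsAffineOpen W ∧ u ∈ O ∧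
      ∀ v ∈ O, U.hom v ∈ W := by
    intro u
    obtain ⟨_, ⟨W, hW, rfl⟩, huW, -⟩ := S.isBasis_affineOpens.exists_subset_of_mem_open
      (Set.mem_univ (U.hom u)) isOpen_univ
    obtain ⟨_, ⟨O, hO, rfl⟩, huO, hOW⟩ := U.left.isBasis_affineOpens.exists_subset_of_mem_open
      (show u ∈ ((U.hom ⁻¹ᵁ W : U.left.Opens) : Set ↥U.left) from huW) (U.hom ⁻¹ᵁ W).isOpen
    exact ⟨O, W, hO, hW, huO, fun v hv => hOW hv⟩
  choose O W hO hW huO hOW using key
  have h2 := fun u => exists_chart_openSub a hae (O u)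
  choose hΩ a' ha'1 ha'e ha's using h2
  refine ⟨↥U.left, fun u => ⟨openSub X.obj (AlgSp.Points.ofPt a '' (O u : Set ↥U.left)),
      isAlgSpace_openSub X.property (hΩ u)⟩,
    fun u => ObjectProperty.homMk (openSubι X.obj _), ⟨fun u => ?_, fun x => ?_⟩, fun u => ?_⟩
  · exact repWith_isOpenImmersion_openSubι X.obj (hΩ u)
  · obtain ⟨u, rfl⟩ := surjective_ofPt a has x
    refine ⟨u, ?_⟩
    show AlgSp.Points.ofPt a u ∈ Set.range (AlgSp.Points.map (openSubι X.obj _))
    rw [range_map_openSubι]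
    exact ⟨u, huO u, rfl⟩
  · refine ⟨overOpen U (O u), a' u, hO u, ha'e u, ha's u, W u, hW u, ?_⟩
    intro v
    show ((O u).ι ≫ U.hom) v ∈ W u
    rw [Scheme.Hom.comp_apply]
    exact hOW u _ v.2

end Groth.Agent.S10214
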