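import Groth.Statements.S10215
import Groth.Agent.Lib.helper15.AlgSpMonoField

set_option autoImplicit false
universe u
open CategoryTheory CategoryTheory.Limits AlgebraicGeometry Topology TopologicalSpace
open AlgSp

namespace Groth.Agent.S10215

/-- Let X be an algebraic space over a scheme S and p : Spec K ⟶ X, q : Spec L ⟶ X morphisms from
spectra of fields over S which determine the same point of |X|, with p a monomorphism. Then q
factors uniquely through p. -/
theorem result {S : Scheme.{u}} (X : AlgSp.Space S) (p q : AlgSp.FieldPt X.obj)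
    (h : AlgSp.Points.mk p = AlgSp.Points.mk q) [Mono p.toHom] :
    ∃! c : q.pt ⟶ p.pt, (AlgSp.yon S).map c ≫ p.toHom = q.toHom := by
  have hrep : AlgSp.Representable p.toHom := X.property.representable_from_yon _
  have sq := hrep.isPullback' q.toHom
  have hmono : Mono ((AlgSp.yon S).map (hrep.snd q.toHom)) := sq.mono_snd_of_mono
  have hne : Nonempty (AlgSp.Points ((AlgSp.yon S).obj (hrep.pullback q.toHom))) := by
    have e : AlgSp.Points.map p.toHom (AlgSp.Points.mk (Groth.Agent.Lib.H15.AS.fieldPtSelf p)) =
        AlgSp.Points.map q.toHom (AlgSp.Points.mk (Groth.Agent.Lib.H15.AS.fieldPtSelf q)) := by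
      have h1 := Groth.Agent.Lib.H15.AS.map_fieldPtHom_self p
      have h2 := Groth.Agent.Lib.H15.AS.map_fieldPtHom_self q
      exact (h1.trans h).trans h2.symm
    obtain ⟨z, -, -⟩ := Groth.Agent.Lib.H15.AS.points_exists_of_isPullback sq _ _ e
    exact ⟨z⟩
  have hiso : IsIso ((AlgSp.yon S).map (hrep.snd q.toHom)) :=
    Groth.Agent.Lib.H15.AS.isIso_of_mono_to_field q.str (AlgSp.IsAlgSpace.yon_obj _) _ hne
  have hiso' : IsIso (hrep.snd q.toHom) := isIso_of_reflects_iso _ (AlgSp.yon S)
  refine ⟨inv (hrep.snd q.toHom) ≫ hrep.fst' q.toHom, ?_, ?_⟩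
  · change (AlgSp.yon S).map (inv (hrep.snd q.toHom) ≫ hrep.fst' q.toHom) ≫ p.toHom = q.toHom
    rw [Functor.map_comp, Category.assoc, sq.w, ← Category.assoc, ← Functor.map_comp,
      IsIso.inv_hom_id, CategoryTheory.Functor.map_id, Category.id_comp]
  · intro c hc
    apply (AlgSp.yon S).map_injective
    rw [← cancel_mono p.toHom, hc, Functor.map_comp, Category.assoc, sq.w, ← Category.assoc,
      ← Functor.map_comp, IsIso.inv_hom_id, CategoryTheory.Functor.map_id, Category.id_comp]

end Groth.Agent.S10215
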