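import Groth.Statements.S10216
import Groth.Agent.Lib.helper15.MonoClosedImm
import Groth.Agent.Lib.helper15.AlgSpSeven2
import Groth.Agent.Lib.helper15.UnramLqf
open Groth.Agent.Lib.H15.AS

set_option autoImplicit false
universe u
open CategoryTheory CategoryTheory.Limits AlgebraicGeometry Topology TopologicalSpace
open AlgSp

namespace Groth.Agent.S10216

/-- Let φ : U ⟶ X be an etale morphism of algebraic spaces over a scheme S, take a geometric point x̄ :
Spec k ⟶ X of X whose image in |X| is x, and let u ∈ |U| with φ(u) = x. Then there is a geometric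
point ū : Spec k ⟶ U (with the same field k) lying over u and with φ ∘ ū = x̄. -/
theorem result {S : Scheme.{u}} {U X : AlgSp.Space S} (φ : U ⟶ X)
    (hφ : AlgSp.IsEtaleMor φ.hom) (xbar : AlgSp.FieldPt X.obj) (hx : xbar.IsGeometric)
    (u : AlgSp.Points U.obj) (hu : AlgSp.Points.map φ.hom u = AlgSp.Points.mk xbar) :
    ∃ ubar : (AlgSp.yon S).obj xbar.pt ⟶ U.obj,
      ubar ≫ φ.hom = xbar.toHom ∧ AlgSp.Points.ofPt ubar (IsLocalRing.closedPoint xbar.K) = u := by
  haveI : IsAlgClosed xbar.K := hx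
  obtain ⟨T, a, hae, has⟩ := U.property.atlas
  obtain ⟨t, rfl⟩ := surjective_ofPt a has u
  have hce : AlgSp.RepWith @Etale (a ≫ φ.hom) := hφ a hae
  have hc : AlgSp.Representable (a ≫ φ.hom) := hce.rep
  have sq := hc.isPullback' xbar.toHom
  have hse : Etale (hc.snd xbar.toHom).left := hce.property_snd xbar.toHom
  let g0 : (hc.pullback xbar.toHom).left ⟶ Spec (CommRingCat.of xbar.K) := (hc.snd xbar.toHom).left
  haveI : Etale g0 := hse
  haveI : LocallyQuasiFinite g0 := Groth.Agent.Lib.H15.locallyQuasiFinite_of_formallyUnramified g0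
  haveI : DiscreteTopology ↥(hc.pullback xbar.toHom).left :=
    Groth.Agent.Lib.H15.discreteTopology_of_lqf_field g0
  have e0 : AlgSp.Points.ofPt (a ≫ φ.hom) t =
      AlgSp.Points.ofPt xbar.toHom (IsLocalRing.closedPoint xbar.K) := by
    rw [AlgSp.Points.ofPt_toHom, ← hu, AlgSp.Points.map_ofPt]
  obtain ⟨z, hz1, hz2⟩ := exists_point_of_ofPt_eq sq t _ e0
  let s : Spec (CommRingCat.of xbar.K) ⟶ (hc.pullback xbar.toHom).left :=
    pointOfClosedPoint g0 z (isClosed_discrete _)
  have hs1 : s ≫ g0 = 𝟙 _ := pointOfClosedPoint_comp g0 z (isClosed_discrete _)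
  have hs2 : s (IsLocalRing.closedPoint xbar.K) = z := pointOfClosedPoint_apply g0 z (isClosed_discrete _) _
  have hw : s ≫ (hc.pullback xbar.toHom).hom = xbar.pt.hom := by
    have h1 : (hc.snd xbar.toHom).left ≫ xbar.pt.hom = (hc.pullback xbar.toHom).hom :=
      Over.w (hc.snd xbar.toHom)
    rw [← h1]
    change s ≫ g0 ≫ _ = _
    rw [← Category.assoc, hs1, Category.id_comp]
  let s' : xbar.pt ⟶ hc.pullback xbar.toHom := Over.homMk s hw
  have hs' : s' ≫ hc.snd xbar.toHom = 𝟙 _ := by
    apply Over.OverMorphism.ext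
    exact hs1
  refine ⟨(AlgSp.yon S).map (s' ≫ hc.fst' xbar.toHom) ≫ a, ?_, ?_⟩
  · rw [Category.assoc, Functor.map_comp, Category.assoc, sq.w, ← Category.assoc, ← Functor.map_comp, hs',
      CategoryTheory.Functor.map_id, Category.id_comp]
  · rw [ofPt_yon_map_comp]
    congr 1
    show (hc.fst' xbar.toHom).left (s (IsLocalRing.closedPoint xbar.K)) = t
    rw [hs2, hz1]

end Groth.Agent.S10216
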