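import Groth.Statements.S10218
import Groth.Agent.Lib.helper15.MonoClosedImm
import Groth.Agent.Lib.helper15.UnramLqf

set_option autoImplicit false
universe u
open CategoryTheory CategoryTheory.Limits AlgebraicGeometry Topology TopologicalSpace
open AlgSp

namespace Groth.Agent.S10218

/-- Let X be an algebraic space over a scheme S, x̄ a geometric point of X, (U, ū) an etale
neighbourhood of x̄ and {U_i ⟶ U} an etale covering of U in the small etale site of X. Then for some
index i the point x̄ lifts to U_i compatibly, that is, (U_i, ū_i) ⟶ (U, ū) is a morphism of etale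
neighbourhoods for a suitable lift ū_i. -/
theorem result {S : Scheme.{u}} (X : AlgSp.Space S) (p : AlgSp.FieldPt X.obj) (hp : p.IsGeometric)
    (N : AlgSp.EtNbhd p) {ι : Type u} (Ui : ι → AlgSp.EtOver X.obj) (g : ∀ i, Ui i ⟶ N.1)
    (hcov : Presieve.ofArrows Ui g ∈ AlgSp.etPre X.obj N.1) :
    ∃ (i : ι) (ui : (AlgSp.FieldPt.liftsTo p).obj (Ui i)), (AlgSp.FieldPt.liftsTo p).map (g i) ui = N.2 := by
  haveI : IsAlgClosed p.K := hp
  rw [AlgSp.ofArrows_mem_etPre_iff] at hcov
  let ubar : p.pt ⟶ N.1.obj.left := N.2.1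
  let u0 : Spec (CommRingCat.of p.K) ⟶ N.1.obj.left.left := ubar.left
  obtain ⟨i, w, hw⟩ := hcov (u0 (IsLocalRing.closedPoint p.K))
  let gi : (Ui i).obj.left.left ⟶ N.1.obj.left.left := (g i).hom.left.left
  haveI : Etale gi := AlgSp.EtOver.etale_left (g i)
  obtain ⟨z, hz1, hz2⟩ := Scheme.Pullback.exists_preimage_pullback (f := u0) (g := gi)
    (IsLocalRing.closedPoint p.K) w hw.symm
  haveI : Etale (pullback.fst u0 gi) := inferInstance
  haveI : LocallyQuasiFinite (pullback.fst u0 gi) :=
    Groth.Agent.Lib.H15.locallyQuasiFinite_of_formallyUnramified _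
  haveI : DiscreteTopology ↥(pullback u0 gi) :=
    Groth.Agent.Lib.H15.discreteTopology_of_lqf_field (pullback.fst u0 gi)
  let s : Spec (CommRingCat.of p.K) ⟶ pullback u0 gi :=
    pointOfClosedPoint (pullback.fst u0 gi) z (isClosed_discrete _)
  have hs1 : s ≫ pullback.fst u0 gi = 𝟙 _ := pointOfClosedPoint_comp _ z (isClosed_discrete _)
  have hcomp : (s ≫ pullback.snd u0 gi) ≫ gi = u0 := by
    rw [Category.assoc, ← pullback.condition, ← Category.assoc, hs1, Category.id_comp]
  have hw1 : gi ≫ N.1.obj.left.hom = (Ui i).obj.left.hom := Over.w (g i).hom.left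
  have hw2 : u0 ≫ N.1.obj.left.hom = p.pt.hom := Over.w ubar
  let ui : p.pt ⟶ (Ui i).obj.left := Over.homMk (s ≫ pullback.snd u0 gi) (by
    rw [← hw1, ← Category.assoc, hcomp, hw2])
  have hui : ui ≫ (g i).hom.left = ubar := by
    apply Over.OverMorphism.ext
    exact hcomp
  refine ⟨i, ⟨ui, ?_⟩, ?_⟩
  · rw [← AlgSp.EtOver.w (g i), ← Category.assoc, ← Functor.map_comp, hui]
    exact N.2.2
  · apply Subtype.ext
    exact hui

end Groth.Agent.S10218
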