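import Groth.Statements.S10219
import Groth.Agent.Lib.helper15.AlgSpEtPoint2

set_option autoImplicit false
universe u
open CategoryTheory CategoryTheory.Limits AlgebraicGeometry Topology TopologicalSpace
open AlgSp

namespace Groth.Agent.S10219

/-- For an algebraic space X over a scheme S and a geometric point x̄ of X, the stalk functors F ↦ F_x̄
on sheaves of sets and on abelian sheaves on the small etale site of X are exact (they preserve
finite limits and finite colimits). -/
theorem result {S : Scheme.{u}} (X : AlgSp.Space S) (p : AlgSp.FieldPt X.obj) (hp : p.IsGeometric) :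
    (PreservesFiniteLimits (AlgSp.stalkEtFunctor (Type (u + 1)) p) ∧
      PreservesFiniteColimits (AlgSp.stalkEtFunctor (Type (u + 1)) p)) ∧
    (PreservesFiniteLimits (AlgSp.stalkEtFunctor AddCommGrpCat.{u + 1} p) ∧
      PreservesFiniteColimits (AlgSp.stalkEtFunctor AddCommGrpCat.{u + 1} p)) := by
  let Φ := Groth.Agent.Lib.H15.AS.etPoint X.property p hp
  haveI : AB5OfSize.{u, u} (Type (u + 1)) := AB5OfSize_shrink.{u, u, u + 1, u + 1} _
  haveI : AB5OfSize.{u, u} AddCommGrpCat.{u + 1} := AB5OfSize_shrink.{u, u, u + 1, u + 1} _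
  refine ⟨⟨?_, ?_⟩, ⟨?_, ?_⟩⟩
  · exact (inferInstance : PreservesFiniteLimits (Φ.sheafFiber (A := Type (u + 1))))
  · exact (inferInstance : PreservesFiniteColimits (Φ.sheafFiber (A := Type (u + 1))))
  · exact (inferInstance : PreservesFiniteLimits (Φ.sheafFiber (A := AddCommGrpCat.{u + 1})))
  · exact (inferInstance : PreservesFiniteColimits (Φ.sheafFiber (A := AddCommGrpCat.{u + 1})))

end Groth.Agent.S10219
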