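import Groth.Statements.S10220
import Groth.Agent.Lib.helper15.AlgSpEtPoint3
import Groth.Agent.Lib.helper15.PointLocal
open Groth.Agent.Lib.H15 Groth.Agent.Lib.H15.AS

set_option autoImplicit false
universe u
open CategoryTheory CategoryTheory.Limits AlgebraicGeometry Topology TopologicalSpace
open AlgSp

namespace Groth.Agent.S10220

/-- Let X be an algebraic space over a scheme S and a : F ⟶ G a map of sheaves of sets on the small
etale site of X. Then a is injective (a monomorphism) if and only if the induced map on stalks F_x̄
→ G_x̄ is injective for every geometric point x̄ of X, and a is surjective (an epimorphism of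
sheaves) if and only if all these stalk maps are surjective. -/
theorem result {S : Scheme.{u}} (X : AlgSp.Space S) {F G : AlgSp.EtSh X.obj (Type (u + 1))} (a : F ⟶ G) :
    (Mono a ↔ ∀ p : AlgSp.FieldPt X.obj, p.IsGeometric →
        Function.Injective ((AlgSp.stalkEtFunctor (Type (u + 1)) p).map a)) ∧
    (Epi a ↔ ∀ p : AlgSp.FieldPt X.obj, p.IsGeometric →
        Function.Surjective ((AlgSp.stalkEtFunctor (Type (u + 1)) p).map a)) := by
  haveI : AB5OfSize.{u, u} (Type (u + 1)) := AB5OfSize_shrink.{u, u, u + 1, u + 1} _
  refine ⟨⟨fun hm p hp => ?_, fun H => ?_⟩, ⟨fun he p hp => ?_, fun H => ?_⟩⟩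
  · let Φ := etPoint X.property p hp
    haveI : Mono (Φ.sheafFiber.map a) := inferInstance
    exact (mono_iff_injective (Φ.sheafFiber.map a)).1 inferInstance
  · suffices h : Mono a.hom from Sheaf.Hom.mono_of_presheaf_mono _ _ a
    suffices h : ∀ E, Mono (a.hom.app E) from NatTrans.mono_of_mono_app _
    intro E
    rw [mono_iff_injective]
    intro s t hst
    have hcov : Presheaf.equalizerSieve (F := F.obj) (X := E) s t ∈ AlgSp.etTop X.obj E.unop := by
      refine mem_etTop_of_forall_geometric _ fun p hp x => ?_
      obtain ⟨Y, g, y, hy, hg⟩ := PointLocal.exists_equalizer_of_injective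
        (etPoint X.property p hp) a.hom (H p hp) s t hst x
      exact ⟨Y, g, hg, y, hy⟩
    exact (((isSheaf_iff_isSheaf_of_type _ _).1 F.2).isSeparated _ hcov).ext fun Y g hg => hg
  · let Φ := etPoint X.property p hp
    haveI : Epi (Φ.sheafFiber.map a) := inferInstance
    exact (epi_iff_surjective (Φ.sheafFiber.map a)).1 inferInstance
  · haveI : Sheaf.IsLocallySurjective a := by
      refine ⟨fun {E} s => ?_⟩
      refine mem_etTop_of_forall_geometric _ fun p hp x => ?_
      obtain ⟨Y, g, y, hy, t, ht⟩ := PointLocal.exists_image_of_surjective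
        (etPoint X.property p hp) a.hom (H p hp) s x
      exact ⟨Y, g, ⟨t, ht⟩, y, hy⟩
    infer_instance

end Groth.Agent.S10220
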