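import Groth.Statements.S10221
import Groth.Agent.Lib.helper15.AlgSpEtPoint3
import Groth.Agent.Lib.helper15.PointLocal
open Groth.Agent.Lib.H15 Groth.Agent.Lib.H15.AS

set_option autoImplicit false
universe u
open CategoryTheory CategoryTheory.Limits AlgebraicGeometry Topology TopologicalSpace
open AlgSp

namespace Groth.Agent.S10221

/-- Let X be an algebraic space over a scheme S. A short complex of abelian sheaves on the small etale
site of X (maps f, g with g ∘ f = 0) is exact if and only if it is exact on stalks at all geometric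
points x̄ of X: every element of the middle stalk killed by g_x̄ is in the image of f_x̄. -/
theorem result {S : Scheme.{u}} (X : AlgSp.Space S) (C : ShortComplex (AlgSp.AbEt X.obj)) :
    C.Exact ↔ ∀ p : AlgSp.FieldPt X.obj, p.IsGeometric →
      ∀ y : ↥((AlgSp.stalkEtFunctor AddCommGrpCat.{u + 1} p).obj C.X₂),
        ((AlgSp.stalkEtFunctor AddCommGrpCat.{u + 1} p).map C.g) y = 0 →
          ∃ x : ↥((AlgSp.stalkEtFunctor AddCommGrpCat.{u + 1} p).obj C.X₁),
            ((AlgSp.stalkEtFunctor AddCommGrpCat.{u + 1} p).map C.f) x = y := by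
  haveI : AB5OfSize.{u, u} AddCommGrpCat.{u + 1} := AB5OfSize_shrink.{u, u, u + 1, u + 1} _
  haveI : PreservesFilteredColimitsOfSize.{u, u} (forget AddCommGrpCat.{u + 1}) :=
    preservesFilteredColimitsOfSize_shrink.{u, u + 1, u, u + 1} _
  have hadd : ∀ (p : AlgSp.FieldPt X.obj) (hp : p.IsGeometric),
      ((etPoint X.property p hp).sheafFiber (A := AddCommGrpCat.{u + 1})).Additive := fun p hp =>
    Functor.additive_of_preserves_binary_products _
  constructor
  · intro hC p hp
    let Φ := etPoint X.property p hp
    haveI := hadd p hp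
    have h1 : (C.map (Φ.sheafFiber (A := AddCommGrpCat.{u + 1}))).Exact := hC.map _
    exact (ShortComplex.ab_exact_iff _).1 h1
  · intro H
    rw [ShortComplex.exact_iff_isZero_homology]
    have hst : ∀ (p : AlgSp.FieldPt X.obj) (hp : p.IsGeometric),
        IsZero (((etPoint X.property p hp).sheafFiber (A := AddCommGrpCat.{u + 1})).obj C.homology) := by
      intro p hp
      let Φ := etPoint X.property p hp
      haveI := hadd p hp
      have h1 : (C.map (Φ.sheafFiber (A := AddCommGrpCat.{u + 1}))).Exact :=
        (ShortComplex.ab_exact_iff _).2 (H p hp)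
      rw [ShortComplex.exact_iff_isZero_homology] at h1
      exact h1.of_iso (ShortComplex.mapHomologyIso C (Φ.sheafFiber (A := AddCommGrpCat.{u + 1}))).symm
    generalize C.homology = M at hst
    rw [IsZero.iff_id_eq_zero]
    apply Sheaf.hom_ext
    ext E s
    change s = 0
    have hcov : Presheaf.equalizerSieve (F := M.obj) (X := E) s 0 ∈ AlgSp.etTop X.obj E.unop := by
      refine mem_etTop_of_forall_geometric _ fun p hp x => ?_
      let Φ := etPoint X.property p hp
      haveI : Subsingleton ↑(Φ.presheafFiber.obj M.obj) :=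
        AddCommGrpCat.subsingleton_of_isZero (hst p hp)
      have e : Φ.toPresheafFiber E.unop x M.obj s = Φ.toPresheafFiber E.unop x M.obj 0 :=
        Subsingleton.elim _ _
      obtain ⟨Y, g, y, hy, hg⟩ := (Φ.toPresheafFiber_eq_iff' E.unop x s 0).1 e
      exact ⟨Y, g, hg, y, hy⟩
    exact Sheaf.isSeparated M _ _ hcov s 0 fun Y g hg => hg

end Groth.Agent.S10221
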