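import Groth.Statements.S10222
import Groth.Agent.Lib.helper15.AlgSpRedStalk
open Groth.Agent.Lib.H15 Groth.Agent.Lib.H15.AS

set_option autoImplicit false
universe u
open CategoryTheory CategoryTheory.Limits AlgebraicGeometry Topology TopologicalSpace
open AlgSp

namespace Groth.Agent.S10222

/-- (1) if and only if (2): an algebraic space X over a scheme S is reduced if and only if at each x ∈
|X| the local ring of X is reduced, the latter meaning that for some scheme U, some representable
etale h_U ⟶ X and some point u of U mapping to x, the local ring of U at u is reduced. (The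
assertions about global sections in the published statement are not part of this row.) -/
theorem result {S : Scheme.{u}} (X : AlgSp.Space S) :
    AlgSp.IsReducedSp X.obj ↔
      ∀ x : AlgSp.Points X.obj, AlgSp.HasAt (fun U u => _root_.IsReduced ↥(U.presheaf.stalk u)) X.obj x := by
  constructor
  · rintro ⟨V, b, hbe, hbs, hV⟩ x
    obtain ⟨v, hv⟩ := surjective_ofPt b hbs x
    exact ⟨V, b, v, hbe, hv, inferInstance⟩
  · intro H
    obtain ⟨U, a, hae, has⟩ := X.property.atlas
    refine ⟨U, a, hae, has, ?_⟩
    apply +allowSynthFailures isReduced_of_isReduced_stalk
    intro u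
    obtain ⟨U', a', u', ha'e, hu', hred⟩ := H (AlgSp.Points.ofPt a u)
    exact (isReduced_stalk_iff_of_charts a a' hae ha'e u u' hu'.symm).2 hred

end Groth.Agent.S10222
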