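import Groth.Statements.S10225
import Groth.Agent.Lib.helper15.AlgSpRedStalk
import Groth.Agent.Lib.helper15.AlgSpOEtStalk
open Groth.Agent.Lib.H15 Groth.Agent.Lib.H15.AS

set_option autoImplicit false
universe u
open CategoryTheory CategoryTheory.Limits AlgebraicGeometry Topology TopologicalSpace
open AlgSp

namespace Groth.Agent.S10225

/-- Let X be an algebraic space over a scheme S and x̄ a geometric point of X lying over x ∈ |X|. Then
the local ring of X at x is reduced (for some etale chart h_U ⟶ X and some point u of U over x, the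
local ring of U at u is reduced) if and only if the etale local ring of X at x̄ is reduced; in
particular the latter does not depend on the choice of x̄ over x. -/
theorem result {S : Scheme.{u}} (X : AlgSp.Space S) (p : AlgSp.FieldPt X.obj) (hp : p.IsGeometric) :
    AlgSp.HasAt (fun U u => _root_.IsReduced ↥(U.presheaf.stalk u)) X.obj (AlgSp.Points.mk p) ↔
      _root_.IsReduced ↥(AlgSp.OEtStalk p) := by
  constructor
  · rintro ⟨U, a, u, hae, hu, hred⟩
    refine ⟨fun τ hτ => ?_⟩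
    obtain ⟨N, s, rfl⟩ := oetι_jointly_surjective X.property p hp τ
    obtain ⟨n, hn⟩ := hτ
    rw [← map_pow, oetι_eq_zero_iff X.property p hp] at hn
    obtain ⟨N', g, hg⟩ := hn
    rw [← oetι_map X.property p hp g s]
    obtain ⟨s', hs'⟩ : ∃ s' : Γ(N'.1.obj.left.left, ⊤), s' = g.1.hom.left.left.appTop.hom s := ⟨_, rfl⟩
    rw [← hs']
    have hs'n : s' ^ n = 0 := by rw [hs', ← map_pow]; exact hg
    obtain ⟨e', he'⟩ : ∃ e' : ↥N'.1.obj.left.left, e' = N'.2.1.left (IsLocalRing.closedPoint p.K) := ⟨_, rfl⟩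
    have hred' : _root_.IsReduced ↥(N'.1.obj.left.left.presheaf.stalk e') :=
      (isReduced_stalk_iff_of_charts N'.1.obj.hom a N'.1.property hae e' u
        ((he' ▸ ofPt_liftsTo p N'.2 _).trans hu.symm)).2 hred
    have hgerm : N'.1.obj.left.left.presheaf.germ ⊤ e' trivial s' = 0 := by
      apply hred'.eq_zero
      exact ⟨n, by rw [← map_pow, hs'n, map_zero]⟩
    obtain ⟨W, hW, iU, iV, hres⟩ : ∃ (W : N'.1.obj.left.left.Opens) (_ : e' ∈ W)
        (iU : W ⟶ (⊤ : N'.1.obj.left.left.Opens)) (iV : W ⟶ (⊤ : N'.1.obj.left.left.Opens)),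
        N'.1.obj.left.left.presheaf.map iU.op s' = N'.1.obj.left.left.presheaf.map iV.op 0 :=
      TopCat.Presheaf.germ_eq N'.1.obj.left.left.presheaf (U := ⊤) (V := ⊤) e' trivial trivial
        s' 0 (by rw [hgerm, map_zero])
    obtain ⟨l'', hl''⟩ := exists_etNbhd_etOpen p hp N' W (he' ▸ hW)
    let N'' : AlgSp.EtNbhd p := ⟨etOpen N'.1 W, l''⟩
    let g' : N'' ⟶ N' := ⟨etOpenι N'.1 W, hl''⟩
    rw [← oetι_map X.property p hp g' s']
    have hle : W.ι ''ᵁ ⊤ ≤ W := by rw [Scheme.Opens.ι_image_top]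
    have hop : (homOfLE (le_top : W.ι ''ᵁ ⊤ ≤ ⊤)).op = iU.op ≫ (homOfLE hle).op := by
      rw [← op_comp]
      exact congrArg Quiver.Hom.op (Subsingleton.elim _ _)
    have hz : g'.1.hom.left.left.appTop.hom s' = 0 := by
      change (N'.1.obj.left.left.presheaf.map (homOfLE (le_top : W.ι ''ᵁ ⊤ ≤ ⊤)).op).hom s' = 0
      rw [hop, Functor.map_comp]
      change (N'.1.obj.left.left.presheaf.map (homOfLE hle).op).hom
        ((N'.1.obj.left.left.presheaf.map iU.op).hom s') = 0
      have hres' : (N'.1.obj.left.left.presheaf.map iU.op).hom s' =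
          (N'.1.obj.left.left.presheaf.map iV.op).hom 0 := hres
      rw [hres', map_zero, map_zero]
    rw [hz, map_zero]
  · intro hred
    obtain ⟨U, a, hae, has⟩ := X.property.atlas
    obtain ⟨u, hu⟩ := surjective_ofPt a has (AlgSp.Points.mk p)
    obtain ⟨U0, hU0, huU0⟩ : ∃ U0 : U.left.Opens, IsAffineOpen U0 ∧ u ∈ U0 := by
      obtain ⟨_, ⟨U0, hU0, rfl⟩, huU0, -⟩ :=
        U.left.isBasis_affineOpens.exists_subset_of_mem_open (Set.mem_univ u) isOpen_univ
      exact ⟨U0, hU0, huU0⟩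
    have hbe : AlgSp.RepWith @Etale ((AlgSp.yon S).map (overOpenι U U0) ≫ a) :=
      repWith_yon_map_comp @Etale (overOpenι U U0) a (by change Etale U0.ι; infer_instance) hae
    obtain ⟨x0, hx0def⟩ : ∃ x0 : ↥(overOpen U U0).left, x0 = ⟨u, huU0⟩ := ⟨_, rfl⟩
    have hx0 : AlgSp.Points.ofPt ((AlgSp.yon S).map (overOpenι U U0) ≫ a) x0 = AlgSp.Points.mk p := by
      rw [hx0def]
      exact (ofPt_yon_map_comp _ _ _).trans hu
    refine ⟨overOpen U U0, _, x0, hbe, hx0, ?_⟩
    obtain ⟨ubar, hubar, hcp⟩ := exists_lift_of_isGeometric _ hbe p hp x0 hx0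
    let N : AlgSp.EtNbhd p := ⟨AlgSp.EtOver.mk _ hbe, ⟨ubar, hubar⟩⟩
    haveI : IsAffine N.1.obj.left.left := hU0
    exact isReduced_stalk_of_oetStalk X.property p hp N x0 hcp hred

end Groth.Agent.S10225
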