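import Groth.Statements.S10230
import Groth.Agent.Lib.helper15.AlgSpEtOpen
open Groth.Agent.Lib.H15 Groth.Agent.Lib.H15.AS

set_option autoImplicit false
universe u
open CategoryTheory CategoryTheory.Limits AlgebraicGeometry Topology TopologicalSpace
open AlgSp

namespace Groth.Agent.S10230

/-- Let X be an algebraic space over a scheme S and F a subsheaf of the final object of the small etale
topos of X, i.e. a sheaf of sets all of whose section sets have at most one element. Then there is a
unique open W of |X| with F = h_W: for every U etale over X, F(U) is nonempty if and only if U ⟶ X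
maps |U| into W. -/
theorem result {S : Scheme.{u}} (X : AlgSp.Space S)
    (F : AlgSp.EtSh X.obj (Type (u + 1))) (hF : ∀ E : AlgSp.EtOver X.obj, Subsingleton (F.obj.obj (Opposite.op E))) :
    ∃! W : Set (AlgSp.Points X.obj), IsOpen W ∧
      ∀ E : AlgSp.EtOver X.obj, Nonempty (F.obj.obj (Opposite.op E)) ↔ Set.range (AlgSp.Points.ofPt E.obj.hom) ⊆ W := by
  have huniq : ∀ W W' : Set (AlgSp.Points X.obj), IsOpen W →
      (∀ E : AlgSp.EtOver X.obj, Nonempty (F.obj.obj (Opposite.op E)) ↔
        Set.range (AlgSp.Points.ofPt E.obj.hom) ⊆ W) →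
      (∀ E : AlgSp.EtOver X.obj, Nonempty (F.obj.obj (Opposite.op E)) ↔
        Set.range (AlgSp.Points.ofPt E.obj.hom) ⊆ W') → W ⊆ W' := by
    intro W W' hW h h' x hx
    obtain ⟨U, a, hae, has⟩ := X.property.atlas
    obtain ⟨u, rfl⟩ := surjective_ofPt a has x
    let U' : U.left.Opens :=
      ⟨AlgSp.Points.ofPt a ⁻¹' W, (AlgSp.Points.continuous_ofPt a).isOpen_preimage _ hW⟩
    let E' := etOpen (AlgSp.EtOver.mk a hae) U'
    have hE' : ∀ t : ↥E'.obj.left.left, AlgSp.Points.ofPt E'.obj.hom t = AlgSp.Points.ofPt a t.1 :=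
      fun t => ofPt_yon_map_comp (overOpenι U U') a t
    have h1 : Set.range (AlgSp.Points.ofPt E'.obj.hom) ⊆ W := by
      rintro _ ⟨t, rfl⟩
      rw [hE']
      exact t.2
    exact (h' E').1 ((h E').2 h1) ⟨⟨u, hx⟩, hE' _⟩
  let W : Set (AlgSp.Points X.obj) :=
    ⋃ E : {E : AlgSp.EtOver X.obj // Nonempty (F.obj.obj (Opposite.op E))},
      Set.range (AlgSp.Points.ofPt E.1.obj.hom)
  have hWo : IsOpen W := isOpen_iUnion fun E =>
    (isOpenMap_ofPt _ (repWith_universallyOpen_of_etale E.1.property)).isOpen_range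
  have hWp : ∀ E : AlgSp.EtOver X.obj, Nonempty (F.obj.obj (Opposite.op E)) ↔
      Set.range (AlgSp.Points.ofPt E.obj.hom) ⊆ W := by
    intro E
    constructor
    · intro hne
      exact Set.subset_iUnion (fun E : {E : AlgSp.EtOver X.obj // Nonempty (F.obj.obj (Opposite.op E))} =>
        Set.range (AlgSp.Points.ofPt E.1.obj.hom)) ⟨E, hne⟩
    · intro hsub
      let R : Sieve E :=
        { arrows := fun Y _ => Nonempty (F.obj.obj (Opposite.op Y))
          downward_closed := fun {Y Z g} hg h => hg.map (F.obj.map h.op) }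
      have hR : R ∈ AlgSp.etTop X.obj E := by
        refine mem_etTop_of_forall_geometric _ fun p hp x => ?_
        have hx : AlgSp.Points.ofPt E.obj.hom (x.1.left (IsLocalRing.closedPoint p.K)) ∈ W :=
          hsub ⟨_, rfl⟩
        obtain ⟨⟨E', hE'⟩, e', he'⟩ := Set.mem_iUnion.1 hx
        rw [ofPt_liftsTo p x] at he'
        obtain ⟨ubar, hubar, -⟩ := exists_lift_of_isGeometric E'.obj.hom E'.property p hp e' he'
        haveI := isCofiltered_etNbhd X.property p hp
        let N1 : AlgSp.EtNbhd p := ⟨E, x⟩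
        let N2 : AlgSp.EtNbhd p := ⟨E', ⟨ubar, hubar⟩⟩
        refine ⟨(IsCofiltered.min N1 N2).1, (IsCofiltered.minToLeft N1 N2).1, ?_,
          (IsCofiltered.min N1 N2).2, (IsCofiltered.minToLeft N1 N2).2⟩
        exact hE'.map (F.obj.map (IsCofiltered.minToRight N1 N2).1.op)
      have hsh : Presieve.IsSheafFor F.obj R.arrows :=
        ((isSheaf_iff_isSheaf_of_type _ _).1 F.2) R hR
      let fam : Presieve.FamilyOfElements F.obj R.arrows := fun Y g hg => Classical.choice hg
      have hcomp : fam.Compatible := fun Y₁ Y₂ Z g₁ g₂ f₁ f₂ h₁ h₂ _ =>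
        (hF Z).elim _ _
      obtain ⟨t, -, -⟩ := hsh fam hcomp
      exact ⟨t⟩
  refine ⟨W, ⟨hWo, hWp⟩, fun W' hW' => ?_⟩
  exact Set.Subset.antisymm (huniq W' W hW'.1 hW'.2 hWp) (huniq W W' hWo hWp hW'.2)

end Groth.Agent.S10230
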