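import Groth.Statements.S10242
import Groth.Agent.Lib.helper15.AlgSpRedStalk
open Groth.Agent.Lib.H15 Groth.Agent.Lib.H15.AS

set_option autoImplicit false
universe u
open CategoryTheory CategoryTheory.Limits AlgebraicGeometry Topology TopologicalSpace
open AlgSp

namespace Groth.Agent.S10242

/-- Let X be a reduced algebraic space over a scheme S. Then the ring of global sections of the
structure sheaf of X (on the small etale site) is reduced, and if a global section f satisfies X =
V(f), meaning that its restriction to every scheme U etale over X has empty non-vanishing locus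
D(f|_U), then f = 0. -/
theorem result {S : Scheme.{u}} (X : AlgSp.Space S) (hX : AlgSp.IsReducedSp X.obj) :
    _root_.IsReduced ↥(AlgSp.gsectEt (AlgSp.OEt X.obj)) ∧
      ∀ f : ↥(AlgSp.gsectEt (AlgSp.OEt X.obj)),
        (∀ E : AlgSp.EtOver X.obj,
            E.obj.left.left.basicOpen ((limit.π (AlgSp.OEt X.obj).obj (Opposite.op E)) f).down = ⊥) →
          f = 0 := by
  have hred : ∀ E : AlgSp.EtOver X.obj, IsReduced E.obj.left.left := fun E =>
    isReduced_of_isReducedSp hX E.obj.hom E.property
  have hext : ∀ f g : ↥(AlgSp.gsectEt (AlgSp.OEt X.obj)),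
      (∀ E : AlgSp.EtOver X.obj, (limit.π (AlgSp.OEt X.obj).obj (Opposite.op E)) f =
        (limit.π (AlgSp.OEt X.obj).obj (Opposite.op E)) g) → f = g := fun f g h =>
    Concrete.limit_ext (AlgSp.OEt X.obj).obj f g (fun j => h j.unop)
  constructor
  · refine ⟨fun f hf => ?_⟩
    apply hext
    intro E
    rw [map_zero]
    obtain ⟨n, hn⟩ := hf
    have hnil : IsNilpotent ((limit.π (AlgSp.OEt X.obj).obj (Opposite.op E)) f) :=
      ⟨n, by rw [← map_pow, hn, map_zero]⟩
    haveI := hred E
    haveI : _root_.IsReduced ↥((AlgSp.OEt X.obj).obj.obj (Opposite.op E)) :=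
      isReduced_of_injective (ULift.ringEquiv (R := Γ(E.obj.left.left, ⊤))) (ULift.ringEquiv).injective
    exact hnil.eq_zero
  · intro f hf
    apply hext
    intro E
    rw [map_zero]
    haveI := hred E
    have h0 := (basicOpen_eq_bot_iff _).1 (hf E)
    exact ULift.ext _ _ h0

end Groth.Agent.S10242
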