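import Groth.Statements.S10247
import Groth.Agent.Lib.helper15.AlgSpEtOpen
open Groth.Agent.Lib.H15 Groth.Agent.Lib.H15.AS

set_option autoImplicit false
universe u
open CategoryTheory CategoryTheory.Limits AlgebraicGeometry Topology TopologicalSpace
open AlgSp

namespace Groth.Agent.S10247

/-- Let X be an algebraic space over a scheme S. Together with its structure sheaf O_X, the small etale
site of X is a locally ringed site: for every scheme U etale over X and every global function f on U
there is a covering sieve of U in the small etale site along each of whose arrows f or 1 - f pulls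
back to a unit, and whenever 0 = 1 holds in the ring of global functions of U the empty sieve covers
U. -/
theorem result {S : Scheme.{u}} (X : AlgSp.Space S) :
    ModSite.IsLocallyRinged (AlgSp.etTop X.obj) (AlgSp.OEt X.obj) := by
  refine ⟨fun U f => ?_, fun U h01 => ?_⟩
  · let T : Scheme.{u} := U.obj.left.left
    let f0 : Γ(T, ⊤) := f.down
    let W : Bool → T.Opens := fun b => cond b (T.basicOpen f0) (T.basicOpen (1 - f0))
    have hcov : ∀ x : ↥T, ∃ b, x ∈ W b := by
      intro x
      rcases IsLocalRing.isUnit_or_isUnit_one_sub_self (T.presheaf.germ ⊤ x trivial f0) with h | h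
      · exact ⟨true, (T.mem_basicOpen_top f0 x).2 h⟩
      · refine ⟨false, (T.mem_basicOpen_top (1 - f0) x).2 ?_⟩
        rw [map_sub, map_one]
        exact h
    refine ⟨_, ofArrows_etOpen_mem_etTop U W hcov, fun V g hg => ?_⟩
    obtain ⟨b, hb⟩ := range_subset_of_ofArrows_etOpen U W g hg
    have hmap : ∀ s : (AlgSp.OEt X.obj).obj.obj (Opposite.op U),
        ((AlgSp.OEt X.obj).obj.map g.op).hom s = ULift.up (g.hom.left.left.appTop.hom s.down) :=
      fun s => rfl
    have hunit : ∀ a : Γ(V.obj.left.left, ⊤), IsUnit a →
        IsUnit (ULift.up.{u + 1} a : ↥((AlgSp.OEt X.obj).obj.obj (Opposite.op V))) := fun a ha =>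
      ha.map (ULift.ringEquiv (R := Γ(V.obj.left.left, ⊤))).symm
    cases b with
    | true =>
      left
      rw [hmap]
      exact hunit _ (isUnit_appTop_of_range_subset _ f0 hb)
    | false =>
      right
      rw [hmap]
      exact hunit _ (isUnit_appTop_of_range_subset (T := T) g.hom.left.left (1 - f0 : Γ(T, ⊤)) hb)
  · refine bot_mem_etTop_of_isEmpty U (isEmpty_of_zero_eq_one _ ?_)
    exact congrArg ULift.down h01

end Groth.Agent.S10247
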