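import Groth.Statements.S10249
import Groth.Agent.Lib.helper15.AlgSpDimEtale

set_option autoImplicit false
universe u
open CategoryTheory CategoryTheory.Limits AlgebraicGeometry Topology TopologicalSpace
open AlgSp

namespace Groth.Agent.S10249

/-- Let X and Y be algebraic spaces over a scheme S, f : X ⟶ Y an etale morphism and x ∈ |X| with image
y ∈ |Y|. Then (1) X at x and Y at y have the same dimension: for every d, some etale chart h_U ⟶ X
from a scheme U and some point u of U over x have local dimension d (of the topological space U at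
u) if and only if the same holds for Y at y; and (2) the local rings of X at x and of Y at y have
the same Krull dimension, in the same some-chart sense with the Krull dimension of the local ring of
U at u. -/
theorem result {S : Scheme.{u}} {X Y : AlgSp.Space S} (f : X ⟶ Y)
    (hf : AlgSp.IsEtaleMor f.hom) (x : AlgSp.Points X.obj) :
    (∀ d : WithBot ℕ∞,
        AlgSp.HasAt (fun U u => FlatMor.localDim ↥U u = d) X.obj x ↔
          AlgSp.HasAt (fun U u => FlatMor.localDim ↥U u = d) Y.obj (AlgSp.Points.map f.hom x)) ∧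
    (∀ d : WithBot ℕ∞,
        AlgSp.HasAt (fun U u => ringKrullDim ↥(U.presheaf.stalk u) = d) X.obj x ↔
          AlgSp.HasAt (fun U u => ringKrullDim ↥(U.presheaf.stalk u) = d) Y.obj (AlgSp.Points.map f.hom x)) := by
  have key : ∀ (Q : ∀ U : Scheme.{u}, ↥U → WithBot ℕ∞),
      (∀ {Z : AlgSp.Sp S} (_ : AlgSp.IsAlgSpace Z) {U U' : Over S}
        (a : (AlgSp.yon S).obj U ⟶ Z) (a' : (AlgSp.yon S).obj U' ⟶ Z) (_ : AlgSp.RepWith @Etale a)
        (_ : AlgSp.RepWith @Etale a') (u : ↥U.left) (u' : ↥U'.left)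
        (_ : AlgSp.Points.ofPt a u = AlgSp.Points.ofPt a' u'), Q U.left u = Q U'.left u') →
      ∀ d : WithBot ℕ∞, AlgSp.HasAt (fun U u => Q U u = d) X.obj x ↔
          AlgSp.HasAt (fun U u => Q U u = d) Y.obj (AlgSp.Points.map f.hom x) := by
    intro Q hQ d
    constructor
    · rintro ⟨U, a, u, hae, hu, hd⟩
      refine ⟨U, a ≫ f.hom, u, hf a hae, ?_, hd⟩
      rw [← hu, AlgSp.Points.map_ofPt]
    · rintro ⟨V, b, v, hbe, hv, hd⟩
      obtain ⟨U, p, hpe, hps⟩ := X.property.atlas
      obtain ⟨u, hu⟩ := Groth.Agent.Lib.H15.AS.surjective_ofPt p hps x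
      refine ⟨U, p, u, hpe, hu, ?_⟩
      rw [← hd]
      refine hQ Y.property (p ≫ f.hom) b (hf p hpe) hbe u v ?_
      rw [hv, ← hu, AlgSp.Points.map_ofPt]
  refine ⟨key (fun U u => FlatMor.localDim ↥U u) ?_, key (fun U u => ringKrullDim ↥(U.presheaf.stalk u)) ?_⟩
  · intro Z hZ U U' a a' ha ha' u u' e
    exact Groth.Agent.Lib.H15.AS.localDim_eq_of_charts hZ a a' ha ha' u u' e
  · intro Z hZ U U' a a' ha ha' u u' e
    exact Groth.Agent.Lib.H15.AS.ringKrullDim_stalk_eq_of_charts hZ a a' ha ha' u u' e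

end Groth.Agent.S10249
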