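import Groth.Statements.S10250
import Groth.Agent.Lib.helper15.AlgSpDimEtale

set_option autoImplicit false
universe u
open CategoryTheory CategoryTheory.Limits AlgebraicGeometry Topology TopologicalSpace
open AlgSp

namespace Groth.Agent.S10250

/-- Let f : X ⟶ Y be an etale and surjective morphism of algebraic spaces over a scheme S. Then X and Y
have the same dimension (the dimension of an algebraic space being the supremum of the Krull
dimensions of the schemes etale over it). -/
theorem result {S : Scheme.{u}} {X Y : AlgSp.Space S} (f : X ⟶ Y)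
    (hf : AlgSp.IsEtaleMor f.hom) (hs : AlgSp.IsSurjectiveMor f.hom) :
    AlgSp.dim X.obj = AlgSp.dim Y.obj := by
  unfold AlgSp.dim
  apply le_antisymm
  · refine iSup_le fun U => iSup_le fun a => iSup_le fun ha => ?_
    exact le_iSup_of_le U (le_iSup_of_le (a ≫ f.hom) (le_iSup_of_le (hf a ha) le_rfl))
  · refine iSup_le fun V => iSup_le fun b => iSup_le fun hbe => ?_
    obtain ⟨U, p, hpe, hps⟩ := X.property.atlas
    have hqe : AlgSp.RepWith @Etale (p ≫ f.hom) := hf p hpe
    have hqs : AlgSp.IsSurjectiveMor (p ≫ f.hom) := by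
      intro y
      obtain ⟨x, rfl⟩ := hs y
      obtain ⟨t, rfl⟩ := Groth.Agent.Lib.H15.AS.isSurjectiveMor_of_repWith hps x
      exact ⟨t, AlgSp.Points.map_comp _ _ _⟩
    have hrep : AlgSp.Representable (p ≫ f.hom) := hqe.rep
    have sq := hrep.isPullback' b
    have h2 : Etale (hrep.snd b).left := hqe.property_snd b
    have h2s : Surjective (hrep.snd b).left :=
      (Groth.Agent.Lib.H15.AS.isSurjectiveMor_yon_map_iff _).1
        (Groth.Agent.Lib.H15.AS.isSurjectiveMor_of_isPullback sq hqs)
    have h1 : Etale (hrep.fst' b).left :=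
      ((AlgSp.repWith_iff _ _).1 hbe).2 (p ≫ f.hom) ((AlgSp.yon S).map (hrep.snd b)) (hrep.fst' b) sq.flip
    have hW : AlgSp.RepWith @Etale ((AlgSp.yon S).map (hrep.fst' b) ≫ p) :=
      Groth.Agent.Lib.H15.AS.repWith_yon_map_comp @Etale _ p h1 hpe
    rw [← Groth.Agent.Lib.H15.AS.topologicalKrullDim_eq_of_etale_surjective (hrep.snd b).left h2s.surj]
    exact le_iSup_of_le _ (le_iSup_of_le _ (le_iSup_of_le hW le_rfl))

end Groth.Agent.S10250
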