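import Groth.Statements.S10254
import Groth.Agent.Lib.helper15.AlgSpEtPoint4
open Groth.Agent.Lib.H15 Groth.Agent.Lib.H15.AS

set_option autoImplicit false
universe u
open CategoryTheory CategoryTheory.Limits AlgebraicGeometry Topology TopologicalSpace
open AlgSp

namespace Groth.Agent.S10254

/-- On the small etale site with scheme objects: let X be an algebraic space over a scheme S, F an
abelian sheaf on the small etale site of X, U an object of that site and σ ∈ F(U). Then there is an
open subset W of U such that: for every morphism φ : V ⟶ U of the site, σ|_V = 0 if and only if φ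
maps V into W (in particular W is the largest open subscheme of U on which σ restricts to zero); and
for every geometric point x̄ of X and every lift ū of x̄ to U, the image of σ in the stalk F_x̄
through the etale neighbourhood (U, ū) vanishes if and only if the point of U under ū lies in W.
(The published statement is for abelian sheaves on the site of algebraic spaces etale over X; this
row is its restriction to the site of schemes etale over X, where V ranges over schemes.) -/
theorem result {S : Scheme.{u}} (X : AlgSp.Space S) (F : AlgSp.AbEt X.obj)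
    (U : AlgSp.EtOver X.obj) (σ : ↥(F.obj.obj (Opposite.op U))) :
    ∃ W : TopologicalSpace.Opens ↥U.obj.left.left,
      (∀ (V : AlgSp.EtOver X.obj) (φ : V ⟶ U),
          (F.obj.map φ.op).hom σ = 0 ↔ Set.range (fun v => φ.hom.left.left v) ⊆ (W : Set ↥U.obj.left.left)) ∧
      (∀ p : AlgSp.FieldPt X.obj, p.IsGeometric → ∀ l : (AlgSp.FieldPt.liftsTo p).obj U,
          (AlgSp.stalkEtι p F ⟨U, l⟩).hom σ = 0 ↔ l.1.left (IsLocalRing.closedPoint p.K) ∈ W) := by
  haveI : AB5OfSize.{u, u} AddCommGrpCat.{u + 1} := AB5OfSize_shrink.{u, u, u + 1, u + 1} _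
  haveI : PreservesFilteredColimitsOfSize.{u, u} (forget AddCommGrpCat.{u + 1}) :=
    preservesFilteredColimitsOfSize_shrink.{u, u + 1, u, u + 1} _
  let I := Σ V : AlgSp.EtOver X.obj, {φ : V ⟶ U // (F.obj.map φ.op).hom σ = 0}
  let W : TopologicalSpace.Opens ↥U.obj.left.left :=
    ⟨⋃ i : I, Set.range (fun v => i.2.1.hom.left.left v), isOpen_iUnion fun i => by
      haveI : Etale i.2.1.hom.left.left := AlgSp.EtOver.etale_left i.2.1
      exact i.2.1.hom.left.left.isOpenMap.isOpen_range⟩
  have hW : ∀ w : ↥U.obj.left.left, w ∈ W ↔ ∃ i : I, ∃ v, i.2.1.hom.left.left v = w := by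
    intro w
    change w ∈ ⋃ i : I, Set.range (fun v => i.2.1.hom.left.left v) ↔ _
    rw [Set.mem_iUnion]
    rfl
  have key : ∀ (p : AlgSp.FieldPt X.obj) (hp : p.IsGeometric) (l : (AlgSp.FieldPt.liftsTo p).obj U),
      (etPoint X.property p hp).toPresheafFiber U l F.obj σ = 0 ↔
        l.1.left (IsLocalRing.closedPoint p.K) ∈ W := by
    intro p hp l
    let Φ := etPoint X.property p hp
    rw [hW]
    constructor
    · intro h0
      have e : Φ.toPresheafFiber U l F.obj σ = Φ.toPresheafFiber U l F.obj 0 := by
        rw [map_zero]; exact h0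
      obtain ⟨Y, g, y, hy, hg⟩ := (Φ.toPresheafFiber_eq_iff' U l σ 0).1 e
      have h3 : (F.obj.map g.op) σ = (F.obj.map g.op) 0 := hg
      rw [map_zero] at h3
      refine ⟨⟨Y, g, h3⟩, y.1.left (IsLocalRing.closedPoint p.K), ?_⟩
      have h1 : y.1 ≫ g.hom.left = l.1 := congrArg Subtype.val hy
      rw [← h1]
      rfl
    · rintro ⟨⟨V, φ, hφ⟩, v, hv⟩
      obtain ⟨y, hy⟩ := exists_liftsTo_of_mem_range p hp φ l v hv
      have h1 := Φ.toPresheafFiber_w_apply φ y F.obj σ
      have hy' : Φ.fiber.map φ y = l := hy
      rw [hy'] at h1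
      rw [← h1]
      have h2 : (F.obj.map φ.op) σ = 0 := hφ
      rw [h2, map_zero]
  refine ⟨W, ?_, ?_⟩
  · intro V φ
    constructor
    · rintro h0 _ ⟨v, rfl⟩
      exact (hW _).2 ⟨⟨V, φ, h0⟩, v, rfl⟩
    · intro hsub
      change (F.obj.map φ.op) σ = 0
      have hcov : Presheaf.equalizerSieve (F := F.obj) (X := Opposite.op V) ((F.obj.map φ.op) σ) 0 ∈
          AlgSp.etTop X.obj V := by
        refine mem_etTop_of_forall_geometric _ fun p hp x => ?_
        let Φ := etPoint X.property p hp
        have h1 := Φ.toPresheafFiber_w_apply φ x F.obj σ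
        have h2 : Φ.toPresheafFiber U (Φ.fiber.map φ x) F.obj σ = 0 := by
          refine (key p hp _).2 (hsub ⟨x.1.left (IsLocalRing.closedPoint p.K), ?_⟩)
          rfl
        rw [h2] at h1
        have e : Φ.toPresheafFiber V x F.obj ((F.obj.map φ.op) σ) = Φ.toPresheafFiber V x F.obj 0 := by
          rw [map_zero]; exact h1
        obtain ⟨Y, g, y, hy, hg⟩ := (Φ.toPresheafFiber_eq_iff' V x _ 0).1 e
        exact ⟨Y, g, hg, y, hy⟩
      exact Sheaf.isSeparated F _ _ hcov _ 0 fun Y g hg => hg
  · intro p hp l
    exact key p hp l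

end Groth.Agent.S10254
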