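import Groth.Statements.S10256
import Groth.Agent.Lib.helper15.AlgSpEtPoint4
open Groth.Agent.Lib.H15 Groth.Agent.Lib.H15.AS

set_option autoImplicit false
universe u
open CategoryTheory CategoryTheory.Limits AlgebraicGeometry Topology TopologicalSpace
open AlgSp

namespace Groth.Agent.S10256

/-- Let X be an algebraic space over a scheme S, F an abelian sheaf on the small etale site of X and x ∈
|X|. Then x lies in the support of F, in the sense that the stalk F_x̄ is nonzero for some geometric
point x̄ over x, if and only if x is the image of a point u of some U etale over X lying in the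
support of some section σ ∈ F(U), i.e. such that σ does not restrict to zero on any V ⟶ U whose
image contains u. (The published definition of the support allows any, equivalently some, geometric
point over x; this row uses the existential form and does not assert that the two readings agree.) -/
theorem result {S : Scheme.{u}} (X : AlgSp.Space S) (F : AlgSp.AbEt X.obj)
    (x : AlgSp.Points X.obj) :
    (∃ p : AlgSp.FieldPt X.obj, p.IsGeometric ∧ AlgSp.Points.mk p = x ∧ ¬ IsZero (AlgSp.stalkEt p F)) ↔
      ∃ (U : AlgSp.EtOver X.obj) (σ : ↥(F.obj.obj (Opposite.op U))) (u : ↥U.obj.left.left),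
        AlgSp.Points.ofPt U.obj.hom u = x ∧
          ∀ (V : AlgSp.EtOver X.obj) (φ : V ⟶ U), (F.obj.map φ.op).hom σ = 0 →
            u ∉ Set.range (fun v => φ.hom.left.left v) := by
  haveI : AB5OfSize.{u, u} AddCommGrpCat.{u + 1} := AB5OfSize_shrink.{u, u, u + 1, u + 1} _
  haveI : PreservesFilteredColimitsOfSize.{u, u} (forget AddCommGrpCat.{u + 1}) :=
    preservesFilteredColimitsOfSize_shrink.{u, u + 1, u, u + 1} _
  constructor
  · rintro ⟨p, hp, rfl, hF⟩
    let Φ := etPoint X.property p hp
    have hne : ∃ τ : ↑(Φ.presheafFiber.obj F.obj), τ ≠ 0 := by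
      by_contra hcon
      push Not at hcon
      haveI : Subsingleton ↑(AlgSp.stalkEt p F) := ⟨fun a b => (hcon a).trans (hcon b).symm⟩
      exact hF (AddCommGrpCat.isZero_of_subsingleton _)
    obtain ⟨τ, hτ⟩ := hne
    obtain ⟨U, l, σ, rfl⟩ := Φ.toPresheafFiber_jointly_surjective τ
    refine ⟨U, σ, l.1.left (IsLocalRing.closedPoint p.K), ofPt_liftsTo p l _, ?_⟩
    rintro V φ hσ ⟨v, hv⟩
    obtain ⟨y, hy⟩ := exists_liftsTo_of_mem_range p hp φ l v hv
    apply hτ
    have h1 := Φ.toPresheafFiber_w_apply φ y F.obj σ
    have hy' : Φ.fiber.map φ y = l := hy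
    rw [hy'] at h1
    rw [← h1]
    have h2 : (F.obj.map φ.op) σ = 0 := hσ
    rw [h2, map_zero]
  · rintro ⟨U, σ, u, rfl, H⟩
    obtain ⟨p, hp, l, hl⟩ := exists_geometric_lift U u
    refine ⟨p, hp, ?_, ?_⟩
    · rw [← hl]
      exact (ofPt_liftsTo p l _).symm
    · intro hF
      let Φ := etPoint X.property p hp
      haveI : Subsingleton ↑(Φ.presheafFiber.obj F.obj) := AddCommGrpCat.subsingleton_of_isZero hF
      have e : Φ.toPresheafFiber U l F.obj σ = Φ.toPresheafFiber U l F.obj 0 :=
        Subsingleton.elim _ _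
      obtain ⟨Y, g, y, hy, hg⟩ := (Φ.toPresheafFiber_eq_iff' U l σ 0).1 e
      refine H Y g ?_ ⟨y.1.left (IsLocalRing.closedPoint p.K), ?_⟩
      · have h3 : (F.obj.map g.op) σ = (F.obj.map g.op) 0 := hg
        rw [map_zero] at h3
        exact h3
      · rw [← hl]
        have h1 : y.1 ≫ g.hom.left = l.1 := congrArg Subtype.val hy
        rw [← h1]
        rfl

end Groth.Agent.S10256
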