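import Groth.Statements.S10257
import Groth.Agent.Lib.helper15.AlgSpEtPoint4
open Groth.Agent.Lib.H15 Groth.Agent.Lib.H15.AS

set_option autoImplicit false
universe u
open CategoryTheory CategoryTheory.Limits AlgebraicGeometry Topology TopologicalSpace
open AlgSp

namespace Groth.Agent.S10257

/-- Let X be an algebraic space over a scheme S and O' a sheaf of commutative rings on the small etale
site of X. Then the support of O', the set of points x ∈ |X| such that the stalk O'_x̄ is not the
zero ring for some geometric point x̄ over x, is closed in |X|. (The published definition of the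
support allows any, equivalently some, geometric point over x; this row uses the existential form
and does not assert that the two readings agree.) -/
theorem result {S : Scheme.{u}} (X : AlgSp.Space S)
    (O' : AlgSp.EtSh X.obj CommRingCat.{u + 1}) :
    IsClosed {x : AlgSp.Points X.obj |
      ∃ p : AlgSp.FieldPt X.obj, p.IsGeometric ∧ AlgSp.Points.mk p = x ∧ Nontrivial ↥(AlgSp.stalkEt p O')} := by
  haveI : HasColimitsOfSize.{u, u} CommRingCat.{u + 1} :=
    hasColimitsOfSizeShrink.{u, u, u + 1, u + 1} _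
  haveI : PreservesFilteredColimitsOfSize.{u, u} (forget CommRingCat.{u + 1}) :=
    preservesFilteredColimitsOfSize_shrink.{u, u + 1, u, u + 1} _
  rw [← isOpen_compl_iff, isOpen_iff_forall_mem_open]
  intro x hx
  obtain ⟨U, a, hae, has⟩ := X.property.atlas
  obtain ⟨u, rfl⟩ := surjective_ofPt a has x
  obtain ⟨p, hp, l, hl⟩ := exists_geometric_lift (AlgSp.EtOver.mk a hae) u
  have hmk : AlgSp.Points.mk p = AlgSp.Points.ofPt a u := by
    rw [← hl]
    exact (ofPt_liftsTo p l _).symm
  let Φ := etPoint X.property p hp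
  have htriv : ¬ Nontrivial ↥(AlgSp.stalkEt p O') := fun hn => hx ⟨p, hp, hmk, hn⟩
  rw [not_nontrivial_iff_subsingleton] at htriv
  have e : Φ.toPresheafFiber (AlgSp.EtOver.mk a hae) l O'.obj 1 =
      Φ.toPresheafFiber (AlgSp.EtOver.mk a hae) l O'.obj 0 := htriv.elim _ _
  obtain ⟨Y, g, y, hy, hg⟩ := (Φ.toPresheafFiber_eq_iff' _ l 1 0).1 e
  have h10 : (1 : ↥(O'.obj.obj (Opposite.op Y))) = 0 := by
    have h3 : (O'.obj.map g.op) 1 = (O'.obj.map g.op) 0 := hg
    rwa [map_one, map_zero] at h3
  refine ⟨Set.range (AlgSp.Points.ofPt Y.obj.hom), ?_, ?_, ?_⟩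
  · rintro _ ⟨y', rfl⟩ ⟨p', hp', hmk', hn⟩
    obtain ⟨ubar, hubar, -⟩ := exists_lift_of_isGeometric Y.obj.hom Y.property p' hp' y' hmk'.symm
    let Φ' := etPoint X.property p' hp'
    let l' : (AlgSp.FieldPt.liftsTo p').obj Y := ⟨ubar, hubar⟩
    have h1 : Φ'.toPresheafFiber Y l' O'.obj 1 = 1 := map_one _
    have h0 : Φ'.toPresheafFiber Y l' O'.obj 0 = 0 := map_zero _
    rw [h10, h0] at h1
    exact zero_ne_one (α := ↥(AlgSp.stalkEt p' O')) h1
  · exact (isOpenMap_ofPt _ (repWith_universallyOpen_of_etale Y.property)).isOpen_range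
  · refine ⟨y.1.left (IsLocalRing.closedPoint p.K), ?_⟩
    rw [ofPt_liftsTo p y, hmk]

end Groth.Agent.S10257
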