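import Groth.Statements.S10258
import Groth.Agent.Lib.helper15.AlgSpEtPoint2
open Groth.Agent.Lib.H15 Groth.Agent.Lib.H15.AS

set_option autoImplicit false
universe u
open CategoryTheory CategoryTheory.Limits AlgebraicGeometry Topology TopologicalSpace
open AlgSp

namespace Groth.Agent.S10258

/-- Let X be an algebraic space over a scheme S, a : F ⟶ G a morphism of abelian sheaves on the small
etale site of X and x ∈ |X|. If a is surjective (an epimorphism of sheaves) and x lies in the
support of G, i.e. G_x̄ ≠ 0 for some geometric point x̄ over x, then x lies in the support of F; if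
a is injective (a monomorphism) and x lies in the support of F, then x lies in the support of G.
(The published definition of the support allows any, equivalently some, geometric point over x; this
row uses the existential form and does not assert that the two readings agree.) -/
theorem result {S : Scheme.{u}} (X : AlgSp.Space S) {F G : AlgSp.AbEt X.obj}
    (a : F ⟶ G) (x : AlgSp.Points X.obj) :
    (Epi a → (∃ p : AlgSp.FieldPt X.obj, p.IsGeometric ∧ AlgSp.Points.mk p = x ∧ ¬ IsZero (AlgSp.stalkEt p G)) →
        ∃ p : AlgSp.FieldPt X.obj, p.IsGeometric ∧ AlgSp.Points.mk p = x ∧ ¬ IsZero (AlgSp.stalkEt p F)) ∧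
    (Mono a → (∃ p : AlgSp.FieldPt X.obj, p.IsGeometric ∧ AlgSp.Points.mk p = x ∧ ¬ IsZero (AlgSp.stalkEt p F)) →
        ∃ p : AlgSp.FieldPt X.obj, p.IsGeometric ∧ AlgSp.Points.mk p = x ∧ ¬ IsZero (AlgSp.stalkEt p G)) := by
  haveI : AB5OfSize.{u, u} AddCommGrpCat.{u + 1} := AB5OfSize_shrink.{u, u, u + 1, u + 1} _
  constructor
  · rintro he ⟨p, hp, hx, hG⟩
    refine ⟨p, hp, hx, fun hF => hG ?_⟩
    let Φ := etPoint X.property p hp
    haveI : Epi (Φ.sheafFiber.map a) := inferInstance
    have hs : Function.Surjective (Φ.sheafFiber.map a) :=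
      (AddCommGrpCat.epi_iff_surjective _).1 inferInstance
    haveI : Subsingleton ↑(Φ.sheafFiber.obj F) := AddCommGrpCat.subsingleton_of_isZero hF
    have hG' : Subsingleton ↑(Φ.sheafFiber.obj G) := hs.subsingleton
    haveI : Subsingleton ↑(AlgSp.stalkEt p G) := hG'
    exact AddCommGrpCat.isZero_of_subsingleton _
  · rintro hm ⟨p, hp, hx, hF⟩
    refine ⟨p, hp, hx, fun hG => hF ?_⟩
    let Φ := etPoint X.property p hp
    haveI : Mono (Φ.sheafFiber.map a) := inferInstance
    have hi : Function.Injective (Φ.sheafFiber.map a) :=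
      (AddCommGrpCat.mono_iff_injective _).1 inferInstance
    haveI : Subsingleton ↑(Φ.sheafFiber.obj G) := AddCommGrpCat.subsingleton_of_isZero hG
    have hF' : Subsingleton ↑(Φ.sheafFiber.obj F) := hi.subsingleton
    haveI : Subsingleton ↑(AlgSp.stalkEt p F) := hF'
    exact AddCommGrpCat.isZero_of_subsingleton _

end Groth.Agent.S10258
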