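import Groth.Statements.S10263
import Mathlib
import Groth.Agent.Lib.helper15.AlgSpLocP2

set_option autoImplicit false
universe u
open CategoryTheory CategoryTheory.Limits AlgebraicGeometry
open AlgSp

namespace Groth.Agent.S10263

/-- If the composite X -> Y -> Z is unramified then X -> Y is unramified. -/
theorem result {S : Scheme.{u}} {X Y Z : AlgSp.Space S} (f : X ⟶ Y) (g : Y ⟶ Z)
    (h : AlgSp.LocP (@LocallyOfFiniteType ⊓ @FormallyUnramified) (f ≫ g).hom) :
    AlgSp.LocP (@LocallyOfFiniteType ⊓ @FormallyUnramified) f.hom := by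
  intro U V a b hh ha hb w
  have hk : AlgSp.RepWith (@LocallyOfFiniteType ⊓ @FormallyUnramified) (a ≫ (f ≫ g).hom) :=
    Groth.Agent.Lib.H15.AS.repWith_comp_of_locP (@LocallyOfFiniteType ⊓ @FormallyUnramified)
      Z.property h a ha
  have e : a ≫ (f ≫ g).hom = (AlgSp.yon S).map hh ≫ (b ≫ g.hom) := by
    change a ≫ f.hom ≫ g.hom = _
    rw [← Category.assoc, w, Category.assoc]
  rw [e] at hk
  exact Groth.Agent.Lib.H15.AS.prop_of_repWith_yon_map_comp (@LocallyOfFiniteType ⊓ @FormallyUnramified)
    (fun A B i (hi : IsImmersion i) => ⟨(inferInstance : LocallyOfFiniteType i),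
      (inferInstance : FormallyUnramified i)⟩) hh (b ≫ g.hom) hk

end Groth.Agent.S10263
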