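import Groth.Statements.S10270
import Mathlib
import Groth.Agent.Lib.helper15.AlgSpFinite

set_option autoImplicit false
universe u
open CategoryTheory CategoryTheory.Limits AlgebraicGeometry
open AlgSp

namespace Groth.Agent.S10270

/-- A morphism of algebraic spaces is integral if and only if it is affine and universally closed. -/
theorem result {S : Scheme.{u}} {X Y : AlgSp.Space S} (f : X ⟶ Y) :
    AlgSp.IsIntegralMor f.hom ↔ (AlgSp.IsAffineMor f.hom ∧ AlgSp.IsUnivClosedMor f.hom) := by
  constructor
  · intro h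
    refine ⟨fun Z hZ g => ?_, ?_⟩
    · obtain ⟨W, i, fst, sq, hW, hint⟩ := h hZ g
      exact ⟨W, i, fst, sq, hW⟩
    · refine Groth.Agent.Lib.H15.AS.isUnivClosedMor_of_affine fun Z hZ g P fst snd sq => ?_
      obtain ⟨W, i, fstW, sqW, hW, hint⟩ := h hZ g
      have : IsIntegralHom i.left := hint
      have : UniversallyClosed i.left := inferInstance
      exact Groth.Agent.Lib.H15.AS.isClosedMap_of_iso_yon_map i (sqW.isoIsPullback _ _ sq) snd
        (IsPullback.isoIsPullback_hom_snd _ _ _ _)
  · rintro ⟨haff, huc⟩ Z hZ g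
    obtain ⟨W, i, fstW, sqW, hW⟩ := haff hZ g
    refine ⟨W, i, fstW, sqW, hW, ?_⟩
    have h1 : AlgSp.IsUnivClosedMor ((AlgSp.yon S).map i) :=
      Groth.Agent.Lib.H15.AS.univSp_of_isPullback _ sqW huc
    have h2 : UniversallyClosed i.left :=
      Groth.Agent.Lib.H15.AS.universallyClosed_of_isUnivClosedMor_yon i h1
    have : IsAffine Z.left := hZ
    have : IsAffine W.left := hW
    have h3 : IsAffineHom i.left := inferInstance
    exact IsIntegralHom.iff_universallyClosed_and_isAffineHom.2 ⟨h2, h3⟩

end Groth.Agent.S10270
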