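import Groth.Statements.S9903
import Mathlib
import Groth.Agent.Lib.helper15.AlgSpSep2
import Groth.Agent.Lib.helper15.AlgSpMono
import Groth.Agent.Lib.helper15.AlgSpQC

set_option autoImplicit false
universe u
open CategoryTheory CategoryTheory.Limits AlgebraicGeometry
open AlgSp

namespace Groth.Agent.S9903

/-- (1) ⇔ (3): a morphism of algebraic spaces is separated (resp. quasi-separated) if and only if its
base change to every affine scheme over the target is. -/
theorem result {S : Scheme.{u}} {X Y : AlgSp.Space S} (f : X ⟶ Y) :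
    (AlgSp.IsSeparatedMor f.hom ↔
      ∀ (Z : Over S), IsAffine Z.left → ∀ (g : (AlgSp.yon S).obj Z ⟶ Y.obj) (P : AlgSp.Sp S)
        (fst : P ⟶ X.obj) (snd : P ⟶ (AlgSp.yon S).obj Z), IsPullback fst snd f.hom g →
        AlgSp.IsSeparatedMor snd) ∧
    (AlgSp.IsQuasiSeparatedMor f.hom ↔
      ∀ (Z : Over S), IsAffine Z.left → ∀ (g : (AlgSp.yon S).obj Z ⟶ Y.obj) (P : AlgSp.Sp S)
        (fst : P ⟶ X.obj) (snd : P ⟶ (AlgSp.yon S).obj Z), IsPullback fst snd f.hom g →
        AlgSp.IsQuasiSeparatedMor snd) := by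
  have hXX : AlgSp.IsAlgSpace (pullback f.hom f.hom) :=
    Groth.Agent.Lib.H15.AS.isAlgSpace_of_isPullback Y.property.diag X.property X.property
      (IsPullback.of_hasPullback f.hom f.hom)
  -- the key pasting: a base change of `Δ_f` to a scheme `Z` is a base change of the diagonal of `X_Z ⟶ Z`
  have key : ∀ (Z : Over S) (g : (AlgSp.yon S).obj Z ⟶ pullback f.hom f.hom) (E : AlgSp.Sp S)
      (e1 : E ⟶ X.obj) (e2 : E ⟶ (AlgSp.yon S).obj Z),
      IsPullback e1 e2 (pullback.diagonal f.hom) g →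
      ∃ (g' : (AlgSp.yon S).obj Z ⟶ pullback
          (pullback.snd f.hom (g ≫ pullback.fst f.hom f.hom ≫ f.hom))
          (pullback.snd f.hom (g ≫ pullback.fst f.hom f.hom ≫ f.hom)))
        (e1' : E ⟶ pullback f.hom (g ≫ pullback.fst f.hom f.hom ≫ f.hom)),
        IsPullback e1' e2 (pullback.diagonal
          (pullback.snd f.hom (g ≫ pullback.fst f.hom f.hom ≫ f.hom))) g' := by
    intro Z g E e1 e2 sqE
    have sqP := IsPullback.of_hasPullback f.hom (g ≫ pullback.fst f.hom f.hom ≫ f.hom)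
    obtain ⟨g', hg'⟩ := Groth.Agent.Lib.H15.AS.exists_lift_to_diagonalObj g sqP
    have sqΔ := Groth.Agent.Lib.H15.AS.isPullback_diagonal_of_isPullback sqP
    have hw : e1 ≫ pullback.diagonal f.hom = (e2 ≫ g') ≫ pullback.map _ _ f.hom f.hom _ _ _
        sqP.w.symm sqP.w.symm := by
      rw [sqE.w, Category.assoc, hg']
    refine ⟨g', sqΔ.lift e1 (e2 ≫ g') hw, ?_⟩
    have h1 : sqΔ.lift e1 (e2 ≫ g') hw ≫ pullback.fst f.hom _ = e1 := sqΔ.lift_fst _ _ _
    have h2 : sqΔ.lift e1 (e2 ≫ g') hw ≫ pullback.diagonal _ = e2 ≫ g' := sqΔ.lift_snd _ _ _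
    have big : IsPullback (sqΔ.lift e1 (e2 ≫ g') hw ≫ pullback.fst f.hom _) e2
        (pullback.diagonal f.hom) (g' ≫ pullback.map _ _ f.hom f.hom _ _ _
          sqP.w.symm sqP.w.symm) := by
      rw [h1, hg']; exact sqE
    exact IsPullback.of_right big h2 sqΔ
  constructor
  · constructor
    · intro h Z _ g P fst snd sq
      exact MorphismProperty.of_isPullback (P := (AlgSp.RepWith @IsClosedImmersion).diagonal) sq h
    · intro H
      rw [Groth.Agent.Lib.H15.AS.isSeparatedMor_iff_isUnivClosedMor_diagonal X.property f.hom]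
      refine Groth.Agent.Lib.H15.AS.isUnivClosedMor_of_affine fun Z hZ g E e1 e2 sqE => ?_
      obtain ⟨g', e1', sqE'⟩ := key Z g E e1 e2 sqE
      have hsep : AlgSp.IsSeparatedMor (pullback.snd f.hom (g ≫ pullback.fst f.hom f.hom ≫ f.hom)) :=
        H Z hZ _ _ _ _ (IsPullback.of_hasPullback f.hom _)
      have hci : AlgSp.RepWith @IsClosedImmersion e2 := MorphismProperty.of_isPullback sqE' hsep
      have huc : AlgSp.IsUnivClosedMor e2 :=
        (Groth.Agent.Lib.H15.AS.repWith_universallyClosed_iff hci.rep).1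
          (Groth.Agent.Lib.H15.AS.repWith_mono (fun _ _ g (hg : IsClosedImmersion g) =>
            (inferInstance : UniversallyClosed g)) hci)
      exact huc (AlgSp.IsAlgSpace.yon_obj Z) (𝟙 _) (𝟙 _) e2 (IsPullback.id_horiz e2)
  · constructor
    · intro h Z _ g P fst snd sq
      exact MorphismProperty.of_isPullback (P := (AlgSp.RepWith @QuasiCompact).diagonal) sq h
    · intro H
      rw [Groth.Agent.Lib.H15.AS.isQuasiSeparatedMor_iff_isQuasiCompactMor_diagonal X.property
        Y.property f.hom]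
      refine Groth.Agent.Lib.H15.AS.isQuasiCompactMor_of_affine X.property hXX
        fun Z hZ g E e1 e2 sqE => ?_
      obtain ⟨g', e1', sqE'⟩ := key Z g E e1 e2 sqE
      have hqs : AlgSp.IsQuasiSeparatedMor
          (pullback.snd f.hom (g ≫ pullback.fst f.hom f.hom ≫ f.hom)) :=
        H Z hZ _ _ _ _ (IsPullback.of_hasPullback f.hom _)
      have hqc : AlgSp.RepWith @QuasiCompact e2 := MorphismProperty.of_isPullback sqE' hqs
      have hE : AlgSp.IsAlgSpace E :=
        Groth.Agent.Lib.H15.AS.isAlgSpace_of_isPullback hXX.diag X.property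
          (AlgSp.IsAlgSpace.yon_obj Z) sqE
      have hqcm : AlgSp.IsQuasiCompactMor e2 :=
        (Groth.Agent.Lib.H15.AS.repWith_quasiCompact_iff hE (AlgSp.IsAlgSpace.yon_obj Z) hqc.rep).1 hqc
      have : IsAffine Z.left := hZ
      exact hqcm (AlgSp.IsAlgSpace.yon_obj Z) (Groth.Agent.Lib.H15.AS.isQuasiCompactSp_yon Z)
        (𝟙 _) (𝟙 _) e2 (IsPullback.id_horiz e2)

end Groth.Agent.S9903
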