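import Groth.Statements.S10271
import Mathlib
import Groth.Agent.Lib.helper15.AlgSpFinite
import Groth.Agent.Lib.helper15.AlgSpMono
import Groth.Agent.S9903

set_option autoImplicit false
universe u
open CategoryTheory CategoryTheory.Limits AlgebraicGeometry
open AlgSp

namespace Groth.Agent.S10271

/-- A morphism of algebraic spaces is finite if and only if it is affine and proper. -/
theorem result {S : Scheme.{u}} {X Y : AlgSp.Space S} (f : X ⟶ Y) :
    AlgSp.IsFiniteMor f.hom ↔ (AlgSp.IsAffineMor f.hom ∧ AlgSp.IsProperMor f.hom) := by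
  constructor
  · intro h
    refine ⟨fun Z hZ g => ?_, ?_, ⟨?_, ?_⟩, ?_⟩
    · obtain ⟨W, i, fst, sq, hW, hfin⟩ := h hZ g
      exact ⟨W, i, fst, sq, hW⟩
    · refine ((Groth.Agent.S9903.result f).1).2 fun Z hZ g P fst snd sq => ?_
      obtain ⟨W, i, fstW, sqW, hW, hfin⟩ := h hZ g
      have : IsFinite i.left := hfin
      have hs : AlgSp.IsSeparatedMor ((AlgSp.yon S).map i) :=
        (AlgSp.repWith_diagonal_yon_map_iff @IsClosedImmersion i).2
          (inferInstance : IsClosedImmersion (pullback.diagonal i.left))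
      have he : (sqW.isoIsPullback _ _ sq).hom ≫ snd = (AlgSp.yon S).map i :=
        IsPullback.isoIsPullback_hom_snd _ _ _ _
      rw [← he] at hs
      exact (MorphismProperty.cancel_left_of_respectsIso
        (AlgSp.RepWith @IsClosedImmersion).diagonal _ snd).1 hs
    · refine Groth.Agent.Lib.H15.AS.locP_lft_of_affine Y.property fun Z hZ g P fst snd sq => ?_
      obtain ⟨W, i, fstW, sqW, hW, hfin⟩ := h hZ g
      have : IsFinite i.left := hfin
      have hl := Groth.Agent.Lib.H15.AS.locP_lft_yon_map i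
      have he : (sqW.isoIsPullback _ _ sq).hom ≫ snd = (AlgSp.yon S).map i :=
        IsPullback.isoIsPullback_hom_snd _ _ _ _
      obtain ⟨e, he'⟩ : ∃ e : (AlgSp.yon S).obj W ≅ P, e.hom ≫ snd = (AlgSp.yon S).map i := ⟨_, he⟩
      have h2 : snd = e.symm.hom ≫ (AlgSp.yon S).map i := by
        rw [← he']; simp
      rw [h2]
      exact Groth.Agent.Lib.H15.AS.locP_iso_comp _ _ hl
    · refine Groth.Agent.Lib.H15.AS.isQuasiCompactMor_of_affine X.property Y.property
        fun Z hZ g P fst snd sq => ?_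
      obtain ⟨W, i, fstW, sqW, hW, hfin⟩ := h hZ g
      have : IsAffine W.left := hW
      exact Groth.Agent.Lib.H15.AS.isQuasiCompactSp_of_iso (sqW.isoIsPullback _ _ sq)
        (Groth.Agent.Lib.H15.AS.isQuasiCompactSp_yon W)
    · refine Groth.Agent.Lib.H15.AS.isUnivClosedMor_of_affine fun Z hZ g P fst snd sq => ?_
      obtain ⟨W, i, fstW, sqW, hW, hfin⟩ := h hZ g
      have : IsFinite i.left := hfin
      have : UniversallyClosed i.left := inferInstance
      exact Groth.Agent.Lib.H15.AS.isClosedMap_of_iso_yon_map i (sqW.isoIsPullback _ _ sq) snd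
        (IsPullback.isoIsPullback_hom_snd _ _ _ _)
  · rintro ⟨haff, hsep, ⟨hlft, hqc⟩, huc⟩ Z hZ g
    obtain ⟨W, i, fstW, sqW, hW⟩ := haff hZ g
    refine ⟨W, i, fstW, sqW, hW, ?_⟩
    have h1 : AlgSp.IsUnivClosedMor ((AlgSp.yon S).map i) :=
      Groth.Agent.Lib.H15.AS.univSp_of_isPullback _ sqW huc
    have h2 : UniversallyClosed i.left :=
      Groth.Agent.Lib.H15.AS.universallyClosed_of_isUnivClosedMor_yon i h1
    have h4 : AlgSp.LocP @LocallyOfFiniteType ((AlgSp.yon S).map i) :=
      Groth.Agent.Lib.H15.AS.locP_lft_of_isPullback X.property Y.property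
        (AlgSp.IsAlgSpace.yon_obj Z) sqW hlft
    have h5 : LocallyOfFiniteType i.left := AlgSp.locP_yon_map h4
    have : IsAffine Z.left := hZ
    have : IsAffine W.left := hW
    have h3 : IsAffineHom i.left := inferInstance
    have h6 : IsProper i.left := {}
    exact IsFinite.iff_isProper_and_isAffineHom.2 ⟨h6, h3⟩

end Groth.Agent.S10271
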