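import Groth.Statements.S10272
import Mathlib
import Groth.Agent.Lib.helper15.AlgSpFinite

set_option autoImplicit false
universe u
open CategoryTheory CategoryTheory.Limits AlgebraicGeometry
open AlgSp

namespace Groth.Agent.S10272

/-- If g is separated and the composite of f and g is finite (resp. integral) then f is finite (resp.
integral). -/
theorem result {S : Scheme.{u}} {X Y Z : AlgSp.Space S} (f : X ⟶ Y) (g : Y ⟶ Z)
    (hg : AlgSp.IsSeparatedMor g.hom) :
    (AlgSp.IsFiniteMor (f ≫ g).hom → AlgSp.IsFiniteMor f.hom) ∧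
    (AlgSp.IsIntegralMor (f ≫ g).hom → AlgSp.IsIntegralMor f.hom) := by
  have key : ∀ (Z : Over S) (z : (AlgSp.yon S).obj Z ⟶ Y.obj) (W : Over S) (i : W ⟶ Z)
      (fstW : (AlgSp.yon S).obj W ⟶ X.obj),
      IsPullback fstW ((AlgSp.yon S).map i) (f ≫ g).hom (z ≫ g.hom) →
      ∃ (W' : Over S) (j : W' ⟶ W) (fst' : (AlgSp.yon S).obj W' ⟶ X.obj),
        IsPullback fst' ((AlgSp.yon S).map (j ≫ i)) f.hom z ∧ IsClosedImmersion j.left := by
    intro Z z W i fstW sqW
    have hfg : (f ≫ g).hom = f.hom ≫ g.hom := rfl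
    rw [hfg] at sqW
    have sqmd := pullback_map_diagonal_isPullback f.hom z g.hom
    have hmd : AlgSp.RepWith @IsClosedImmersion (pullback.mapDesc f.hom z g.hom) :=
      MorphismProperty.of_isPullback sqmd hg
    let e := (IsPullback.of_hasPullback (f.hom ≫ g.hom) (z ≫ g.hom)).isoIsPullback _ _ sqW
    have he2 : e.hom ≫ (AlgSp.yon S).map i = pullback.snd (f.hom ≫ g.hom) (z ≫ g.hom) :=
      IsPullback.isoIsPullback_hom_snd _ _ _ _
    have hm : AlgSp.RepWith @IsClosedImmersion (pullback.mapDesc f.hom z g.hom ≫ e.hom) :=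
      (MorphismProperty.cancel_right_of_respectsIso _ _ e.hom).2 hmd
    have hrep := hm.rep
    have sqj := hrep.isPullback (𝟙 _)
    have hiso : IsIso (hrep.fst (𝟙 _)) := sqj.isIso_fst_of_isIso
    have hj : IsClosedImmersion (hrep.snd (𝟙 _)).left := hm.property_snd (𝟙 _)
    have sq0 := IsPullback.of_hasPullback f.hom z
    have s1 : IsPullback (hrep.fst (𝟙 _)) (hrep.fst (𝟙 _) ≫ pullback.snd f.hom z)
        (pullback.snd f.hom z) (𝟙 _) := IsPullback.of_horiz_isIso ⟨by simp⟩
    have big := s1.paste_horiz sq0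
    rw [Category.id_comp] at big
    have hsnd : hrep.fst (𝟙 _) ≫ pullback.snd f.hom z =
        (AlgSp.yon S).map (hrep.snd (𝟙 _) ≫ i) := by
      have h1 : pullback.mapDesc f.hom z g.hom ≫ pullback.snd (f.hom ≫ g.hom) (z ≫ g.hom) =
          pullback.snd f.hom z := by
        rw [pullback.lift_snd, Category.comp_id]
      rw [← h1, ← he2, ← Category.assoc, ← Category.assoc, Category.assoc (hrep.fst (𝟙 _)), sqj.w,
        Category.comp_id, Functor.map_comp]
    rw [hsnd] at big
    exact ⟨_, hrep.snd (𝟙 _), _, big, hj⟩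
  constructor
  · intro h Z hZ z
    obtain ⟨W, i, fstW, sqW, hW, hfin⟩ := h hZ (z ≫ g.hom)
    obtain ⟨W', j, fst', sq', hj⟩ := key Z z W i fstW sqW
    have : IsAffine W.left := hW
    have : IsFinite i.left := hfin
    refine ⟨W', j ≫ i, fst', sq', isAffine_of_isAffineHom j.left, ?_⟩
    rw [Over.comp_left]
    infer_instance
  · intro h Z hZ z
    obtain ⟨W, i, fstW, sqW, hW, hint⟩ := h hZ (z ≫ g.hom)
    obtain ⟨W', j, fst', sq', hj⟩ := key Z z W i fstW sqW
    have : IsAffine W.left := hW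
    have : IsIntegralHom i.left := hint
    refine ⟨W', j ≫ i, fst', sq', isAffine_of_isAffineHom j.left, ?_⟩
    rw [Over.comp_left]
    infer_instance

end Groth.Agent.S10272
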