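import Groth.Statements.S10273
import Mathlib
import Groth.Agent.Lib.helper15.AlgSpAffLoc
import Groth.Agent.Lib.helper15.AlgSpMono
import Groth.Agent.Lib.helper15.AlgSpClosed
import Groth.Agent.Lib.helper15.AlgSpQC
import Groth.Agent.Lib.helper15.AlgSpQC3
import Groth.Agent.S9903

set_option autoImplicit false
universe u
open CategoryTheory CategoryTheory.Limits AlgebraicGeometry
open AlgSp

namespace Groth.Agent.S10273

/-- (1) ⇔ (3): properness of a morphism of algebraic spaces can be tested after base change to affine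
schemes over the target. -/
theorem result {S : Scheme.{u}} {X Y : AlgSp.Space S} (f : X ⟶ Y) :
    AlgSp.IsProperMor f.hom ↔
      ∀ (Z : Over S), IsAffine Z.left → ∀ (g : (AlgSp.yon S).obj Z ⟶ Y.obj) (P : AlgSp.Sp S) (fst : P ⟶ X.obj)
        (snd : P ⟶ (AlgSp.yon S).obj Z), IsPullback fst snd f.hom g → AlgSp.IsProperMor snd := by
  constructor
  · intro hf Z _ g P fst snd sq
    obtain ⟨hsep, ⟨hlft, hqc⟩, huc⟩ := hf
    have hP : AlgSp.IsAlgSpace P :=
      Groth.Agent.Lib.H15.AS.isAlgSpace_of_isPullback Y.property.diag X.property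
        (AlgSp.IsAlgSpace.yon_obj Z) sq
    refine ⟨?_, ⟨?_, ?_⟩, ?_⟩
    · exact MorphismProperty.of_isPullback (P := (AlgSp.RepWith @IsClosedImmersion).diagonal) sq hsep
    · exact Groth.Agent.Lib.H15.AS.locP_lft_of_isPullback X.property Y.property
        (AlgSp.IsAlgSpace.yon_obj Z) sq hlft
    · exact Groth.Agent.Lib.H15.AS.isQuasiCompactMor_of_isPullback sq hqc
    · exact Groth.Agent.Lib.H15.AS.univSp_of_isPullback _ sq huc
  · intro H
    refine ⟨?_, ⟨?_, ?_⟩, ?_⟩
    · exact ((Groth.Agent.S9903.result f).1).2 fun Z hZ g P fst snd sq => (H Z hZ g P fst snd sq).1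
    · exact Groth.Agent.Lib.H15.AS.locP_lft_of_affine Y.property
        fun Z hZ g P fst snd sq => (H Z hZ g P fst snd sq).2.1.1
    · refine Groth.Agent.Lib.H15.AS.isQuasiCompactMor_of_affine X.property Y.property
        fun Z hZ g P fst snd sq => ?_
      have : IsAffine Z.left := hZ
      exact (H Z hZ g P fst snd sq).2.1.2 (AlgSp.IsAlgSpace.yon_obj Z)
        (Groth.Agent.Lib.H15.AS.isQuasiCompactSp_yon Z) (𝟙 _) (𝟙 _) snd (IsPullback.id_horiz snd)
    · refine Groth.Agent.Lib.H15.AS.isUnivClosedMor_of_affine fun Z hZ g P fst snd sq => ?_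
      exact (H Z hZ g P fst snd sq).2.2 (AlgSp.IsAlgSpace.yon_obj Z) (𝟙 _) (𝟙 _) snd
        (IsPullback.id_horiz snd)

end Groth.Agent.S10273
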