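import Groth.Statements.S9949
import Mathlib
import Groth.Agent.Lib.helper15.AlgSpLocP4

set_option autoImplicit false
universe u
open CategoryTheory CategoryTheory.Limits AlgebraicGeometry
open AlgSp

namespace Groth.Agent.S9949

/-- (5) ⇒ (1): being locally of finite type descends along a surjective etale base change from a scheme. -/
theorem result {S : Scheme.{u}} {X Y : AlgSp.Space S} (f : X ⟶ Y) (V : Over S)
    (p : (AlgSp.yon S).obj V ⟶ Y.obj) (hp : AlgSp.RepWith @Etale p) (hps : AlgSp.RepWith @Surjective p)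
    {P : AlgSp.Sp S} (fst : P ⟶ X.obj) (snd : P ⟶ (AlgSp.yon S).obj V) (sq : IsPullback fst snd f.hom p)
    (h : AlgSp.LocP @LocallyOfFiniteType snd) : AlgSp.LocP @LocallyOfFiniteType f.hom := by
  obtain ⟨U, a, hae, has⟩ := X.property.atlas
  have hrep : AlgSp.Representable p := hp.rep
  have sqk := hrep.isPullback' (a ≫ f.hom)
  have hu1e : Etale (hrep.snd (a ≫ f.hom)).left := hp.property_snd _
  have hu1s : Surjective (hrep.snd (a ≫ f.hom)).left := hps.property_snd _
  let aP := sq.lift ((AlgSp.yon S).map (hrep.snd (a ≫ f.hom)) ≫ a)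
    ((AlgSp.yon S).map (hrep.fst' (a ≫ f.hom))) (by rw [Category.assoc]; exact sqk.w.symm)
  have haP1 : aP ≫ fst = (AlgSp.yon S).map (hrep.snd (a ≫ f.hom)) ≫ a := sq.lift_fst _ _ _
  have haP2 : aP ≫ snd = (AlgSp.yon S).map (hrep.fst' (a ≫ f.hom)) := sq.lift_snd _ _ _
  have big : IsPullback (aP ≫ snd) ((AlgSp.yon S).map (hrep.snd (a ≫ f.hom))) p (a ≫ f.hom) := by
    rw [haP2]; exact sqk
  have left : IsPullback aP ((AlgSp.yon S).map (hrep.snd (a ≫ f.hom))) fst a :=
    IsPullback.of_right big haP1 sq.flip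
  have haPe : AlgSp.RepWith @Etale aP := (AlgSp.RepWith @Etale).of_isPullback left.flip hae
  have hl : LocallyOfFiniteType (hrep.fst' (a ≫ f.hom)).left :=
    h aP (𝟙 _) (hrep.fst' (a ≫ f.hom)) haPe (AlgSp.repWith_id @Etale V) (by rw [haP2]; simp)
  exact Groth.Agent.Lib.H15.AS.locP_lft_of_chart
    ((AlgSp.yon S).map (hrep.snd (a ≫ f.hom)) ≫ a) p (hrep.fst' (a ≫ f.hom))
    (Groth.Agent.Lib.H15.AS.repWith_yon_map_comp @Etale _ a hu1e hae)
    (Groth.Agent.Lib.H15.AS.repWith_yon_map_comp @Surjective _ a hu1s has) hp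
    (by rw [Category.assoc]; exact sqk.w.symm) hl

end Groth.Agent.S9949
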