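import Groth.Statements.S10274
import Mathlib
import Groth.Agent.Lib.helper15.AlgSpSep
import Groth.Agent.S9949
import Groth.Agent.S9924

set_option autoImplicit false
universe u
open CategoryTheory CategoryTheory.Limits AlgebraicGeometry
open AlgSp

namespace Groth.Agent.S10274

/-- (4) ⇒ (1): properness of a morphism of algebraic spaces descends along a surjective etale base
change from a scheme. -/
theorem result {S : Scheme.{u}} {X Y : AlgSp.Space S} (f : X ⟶ Y) (V : Over S)
    (p : (AlgSp.yon S).obj V ⟶ Y.obj) (hp : AlgSp.RepWith @Etale p) (hps : AlgSp.RepWith @Surjective p)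
    {P : AlgSp.Sp S} (fst : P ⟶ X.obj) (snd : P ⟶ (AlgSp.yon S).obj V) (sq : IsPullback fst snd f.hom p)
    (h : AlgSp.IsProperMor snd) : AlgSp.IsProperMor f.hom := by
  obtain ⟨hsep, ⟨hlft, hqc⟩, huc⟩ := h
  refine ⟨?_, ⟨?_, ?_⟩, ?_⟩
  · exact Groth.Agent.Lib.H15.AS.isSeparatedMor_of_base_change X.property Y.property
      (AlgSp.IsAlgSpace.yon_obj V) hp hps sq hsep
  · exact Groth.Agent.S9949.result f V p hp hps fst snd sq hlft
  · exact Groth.Agent.Lib.H15.AS.isQuasiCompactMor_of_univOpen_surjective_base_change X.property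
      Y.property (AlgSp.IsAlgSpace.yon_obj V) sq
      ((Groth.Agent.Lib.H15.AS.repWith_universallyOpen_iff hp.rep).1
        (Groth.Agent.Lib.H15.AS.repWith_universallyOpen_of_etale hp))
      (Groth.Agent.Lib.H15.AS.isSurjectiveMor_of_repWith hps) hqc
  · exact Groth.Agent.S9924.result f V p hp hps fst snd sq huc

end Groth.Agent.S10274
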