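import Groth.Statements.S10276
import Mathlib
import Groth.Agent.Lib.helper15.AlgSpLocP5
import Groth.Agent.Lib.helper15.AlgSpUnivComp
import Groth.Agent.Lib.helper15.AlgSpQC3

set_option autoImplicit false
universe u
open CategoryTheory CategoryTheory.Limits AlgebraicGeometry
open AlgSp

namespace Groth.Agent.S10276

/-- A composition of proper morphisms of algebraic spaces is proper. -/
theorem result {S : Scheme.{u}} {X Y Z : AlgSp.Space S} (f : X ⟶ Y) (g : Y ⟶ Z)
    (hf : AlgSp.IsProperMor f.hom) (hg : AlgSp.IsProperMor g.hom) : AlgSp.IsProperMor (f ≫ g).hom := by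
  obtain ⟨hsep, ⟨hlft, hqc⟩, huc⟩ := hf
  obtain ⟨hsep', ⟨hlft', hqc'⟩, huc'⟩ := hg
  refine ⟨?_, ⟨?_, ?_⟩, ?_⟩
  · exact MorphismProperty.comp_mem (AlgSp.RepWith @IsClosedImmersion).diagonal f.hom g.hom hsep hsep'
  · exact Groth.Agent.Lib.H15.AS.locP_lft_comp X.property Y.property Z.property hlft hlft'
  · exact Groth.Agent.Lib.H15.AS.isQuasiCompactMor_comp Y.property Z.property hqc hqc'
  · refine Groth.Agent.Lib.H15.AS.univSp_comp _ (fun A B C x y hx hy => ?_) Y.property Z.property huc huc'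
    change IsClosedMap (AlgSp.Points.map (x ≫ y))
    rw [Groth.Agent.Lib.H15.AS.points_map_comp_fun]
    exact IsClosedMap.comp hy hx

end Groth.Agent.S10276
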