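import Groth.Statements.S10277
import Mathlib
import Groth.Agent.Lib.helper15.AlgSpLocP
import Groth.Agent.Lib.helper15.AlgSpImm
import Groth.Agent.Lib.helper15.AlgSpRepIff

set_option autoImplicit false
universe u
open CategoryTheory CategoryTheory.Limits AlgebraicGeometry
open AlgSp

namespace Groth.Agent.S10277

/-- A closed immersion of algebraic spaces is proper. -/
theorem result {S : Scheme.{u}} {X Y : AlgSp.Space S} (i : X ⟶ Y)
    (hi : AlgSp.RepWith @IsClosedImmersion i.hom) : AlgSp.IsProperMor i.hom := by
  refine ⟨Groth.Agent.Lib.H15.AS.isSeparatedMor_of_repWith_isClosedImmersion hi, ⟨?_, ?_⟩, ?_⟩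
  · refine Groth.Agent.Lib.H15.AS.locP_of_repWith @LocallyOfFiniteType
      (fun A B C e p he hp => ?_)
      (Groth.Agent.Lib.H15.AS.repWith_mono (fun _ _ g (hg : IsClosedImmersion g) =>
        (inferInstance : LocallyOfFiniteType g)) hi)
    have : Etale e := he
    have : LocallyOfFiniteType p := hp
    exact (inferInstance : LocallyOfFiniteType (e ≫ p))
  · exact (Groth.Agent.Lib.H15.AS.repWith_quasiCompact_iff X.property Y.property hi.rep).1
      (Groth.Agent.Lib.H15.AS.repWith_mono (fun _ _ g (hg : IsClosedImmersion g) =>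
        (inferInstance : QuasiCompact g)) hi)
  · exact (Groth.Agent.Lib.H15.AS.repWith_universallyClosed_iff hi.rep).1
      (Groth.Agent.Lib.H15.AS.repWith_mono (fun _ _ g (hg : IsClosedImmersion g) =>
        (inferInstance : UniversallyClosed g)) hi)

end Groth.Agent.S10277
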