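import Groth.Statements.S10278
import Mathlib
import Groth.Agent.Lib.helper15.AlgSpProper
import Groth.Agent.Lib.helper15.AlgSpDiag2

set_option autoImplicit false
universe u
open CategoryTheory CategoryTheory.Limits AlgebraicGeometry
open AlgSp

namespace Groth.Agent.S10278

/-- Over a separated Y -> B, a morphism X -> Y from a space universally closed (resp. proper) over B is
universally closed with closed image (resp. proper). -/
theorem result {S : Scheme.{u}} {X Y B : AlgSp.Space S} (f : X ⟶ Y) (p : X ⟶ B)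
    (q : Y ⟶ B) (comm : f ≫ q = p) (hq : AlgSp.IsSeparatedMor q.hom) :
    (AlgSp.IsUnivClosedMor p.hom →
      AlgSp.IsUnivClosedMor f.hom ∧ IsClosed (Set.range (AlgSp.Points.map f.hom))) ∧
    (AlgSp.IsProperMor p.hom → AlgSp.IsProperMor f.hom) := by
  have hpq : p.hom = f.hom ≫ q.hom := by rw [← comm]; rfl
  have sq0 := pullback_lift_diagonal_isPullback f.hom q.hom
  have hΓ : AlgSp.RepWith @IsClosedImmersion (pullback.lift (𝟙 X.obj) f.hom (by simp) :
      X.obj ⟶ pullback (f.hom ≫ q.hom) q.hom) := MorphismProperty.of_isPullback sq0 hq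
  have sq1 := IsPullback.of_hasPullback (f.hom ≫ q.hom) q.hom
  have hW : AlgSp.IsAlgSpace (pullback (f.hom ≫ q.hom) q.hom) :=
    Groth.Agent.Lib.H15.AS.isAlgSpace_of_isPullback B.property.diag X.property Y.property sq1
  have e : f.hom = pullback.lift (𝟙 X.obj) f.hom (by simp) ≫ pullback.snd (f.hom ≫ q.hom) q.hom := by
    rw [pullback.lift_snd]
  constructor
  · intro hp
    rw [hpq] at hp
    have h1 : AlgSp.IsUnivClosedMor (pullback.lift (𝟙 X.obj) f.hom (by simp) :
        X.obj ⟶ pullback (f.hom ≫ q.hom) q.hom) :=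
      (Groth.Agent.Lib.H15.AS.repWith_universallyClosed_iff hΓ.rep).1
        (Groth.Agent.Lib.H15.AS.repWith_mono (fun _ _ g (hg : IsClosedImmersion g) =>
          (inferInstance : UniversallyClosed g)) hΓ)
    have h2 : AlgSp.IsUnivClosedMor (pullback.snd (f.hom ≫ q.hom) q.hom) :=
      Groth.Agent.Lib.H15.AS.univSp_of_isPullback _ sq1 hp
    have h3 : AlgSp.IsUnivClosedMor f.hom := by
      rw [e]
      exact Groth.Agent.Lib.H15.AS.isUnivClosedMor_comp hW Y.property h1 h2
    refine ⟨h3, ?_⟩
    have hcl : IsClosedMap (AlgSp.Points.map f.hom) :=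
      h3 Y.property (𝟙 _) (𝟙 _) f.hom (IsPullback.id_horiz f.hom)
    rw [← Set.image_univ]
    exact hcl _ isClosed_univ
  · intro hp
    rw [hpq] at hp
    have h1 := Groth.Agent.Lib.H15.AS.isProperMor_of_repWith_isClosedImmersion X.property hW hΓ
    have h2 : AlgSp.IsProperMor (pullback.snd (f.hom ≫ q.hom) q.hom) :=
      Groth.Agent.Lib.H15.AS.isProperMor_of_isPullback X.property B.property Y.property sq1 hp
    rw [e]
    exact Groth.Agent.Lib.H15.AS.isProperMor_comp X.property hW Y.property h1 h2

end Groth.Agent.S10278
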