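import Groth.Statements.S10279
import Mathlib
import Groth.Agent.Lib.helper15.AlgSpQC

set_option autoImplicit false
universe u
open CategoryTheory CategoryTheory.Limits AlgebraicGeometry
open AlgSp

namespace Groth.Agent.S10279

/-- The target of a surjective morphism over B from a space universally closed over B is universally
closed over B (hence proper over B as soon as it is also separated and of finite type over B, by
definition). -/
theorem result {S : Scheme.{u}} {X Y B : AlgSp.Space S} (f : X ⟶ Y) (p : X ⟶ B)
    (q : Y ⟶ B) (comm : f ≫ q = p) (hp : AlgSp.IsUnivClosedMor p.hom) (hf : AlgSp.IsSurjectiveMor f.hom) :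
    AlgSp.IsUnivClosedMor q.hom := by
  intro T T' hT g t1 t2 sqT
  have sqX := IsPullback.of_hasPullback f.hom t1
  have big := sqX.paste_vert sqT
  have hpq : p.hom = f.hom ≫ q.hom := by rw [← comm]; rfl
  rw [← hpq] at big
  have hcl : IsClosedMap (AlgSp.Points.map (pullback.snd f.hom t1 ≫ t2)) := hp hT g _ _ big
  have hsurj : AlgSp.IsSurjectiveMor (pullback.snd f.hom t1) :=
    Groth.Agent.Lib.H15.AS.isSurjectiveMor_of_isPullback sqX hf
  intro C hC
  have : AlgSp.Points.map t2 '' C =
      AlgSp.Points.map (pullback.snd f.hom t1 ≫ t2) '' (AlgSp.Points.map (pullback.snd f.hom t1) ⁻¹' C) := by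
    rw [Groth.Agent.Lib.H15.AS.points_map_comp_fun, Set.image_comp,
      Set.image_preimage_eq _ hsurj]
  rw [this]
  exact hcl _ (hC.preimage (AlgSp.Points.continuous_map _))

end Groth.Agent.S10279
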