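import Groth.Statements.S10280
import Mathlib
import Groth.Agent.Lib.helper15.AlgSpDiag
import Groth.Agent.Lib.helper15.AlgSpRepIff

set_option autoImplicit false
universe u
open CategoryTheory CategoryTheory.Limits AlgebraicGeometry
open AlgSp

namespace Groth.Agent.S10280

/-- F is separated if and only if its diagonal is universally closed, if and only if its diagonal is
proper. -/
theorem result {S : Scheme.{u}} {X Y : AlgSp.Space S} (f : X ⟶ Y) :
    (AlgSp.IsSeparatedMor f.hom ↔ AlgSp.IsUnivClosedMor (pullback.diagonal f.hom)) ∧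
    (AlgSp.IsSeparatedMor f.hom ↔ AlgSp.IsProperMor (pullback.diagonal f.hom)) := by
  have hrep := Groth.Agent.Lib.H15.AS.representable_diagonal X.property f.hom
  have hlft := Groth.Agent.Lib.H15.AS.repWith_lft_diagonal X.property f.hom
  have hmono : AlgSp.RepWith (MorphismProperty.monomorphisms Scheme.{u}) (pullback.diagonal f.hom) :=
    Groth.Agent.Lib.H15.AS.repWith_mono_of_mono _ hrep
  have hXX : AlgSp.IsAlgSpace (pullback f.hom f.hom) :=
    Groth.Agent.Lib.H15.AS.isAlgSpace_of_isPullback Y.property.diag X.property X.property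
      (IsPullback.of_hasPullback f.hom f.hom)
  have h1 : AlgSp.IsSeparatedMor f.hom → AlgSp.IsUnivClosedMor (pullback.diagonal f.hom) := fun h =>
    (Groth.Agent.Lib.H15.AS.repWith_universallyClosed_iff hrep).1
      (Groth.Agent.Lib.H15.AS.repWith_mono (fun _ _ g (hg : IsClosedImmersion g) =>
        (inferInstance : UniversallyClosed g)) h)
  have h2 : AlgSp.IsUnivClosedMor (pullback.diagonal f.hom) → AlgSp.IsSeparatedMor f.hom := fun h => by
    have huc := (Groth.Agent.Lib.H15.AS.repWith_universallyClosed_iff hrep).2 h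
    change AlgSp.RepWith @IsClosedImmersion (pullback.diagonal f.hom)
    rw [AlgSp.repWith_iff] at hlft hmono huc ⊢
    refine ⟨hrep, fun U V g fst snd sq => ?_⟩
    have i1 : LocallyOfFiniteType snd.left := hlft.2 g fst snd sq
    have i2 : Mono snd.left := hmono.2 g fst snd sq
    have i3 : UniversallyClosed snd.left := huc.2 g fst snd sq
    have i4 : IsProper snd.left := {}
    exact (IsClosedImmersion.iff_isProper_and_mono snd.left).2 ⟨i4, i2⟩
  refine ⟨⟨h1, h2⟩, ⟨fun h => ⟨?_, ⟨?_, ?_⟩, h1 h⟩, fun h => h2 h.2.2⟩⟩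
  · exact Groth.Agent.Lib.H15.AS.isSeparatedMor_of_repWith_isClosedImmersion h
  · refine Groth.Agent.Lib.H15.AS.locP_of_repWith @LocallyOfFiniteType
      (fun A B C e p he hp => ?_) hlft
    have : Etale e := he
    have : LocallyOfFiniteType p := hp
    exact (inferInstance : LocallyOfFiniteType (e ≫ p))
  · exact (Groth.Agent.Lib.H15.AS.repWith_quasiCompact_iff X.property hXX hrep).1
      (Groth.Agent.Lib.H15.AS.repWith_mono (fun _ _ g (hg : IsClosedImmersion g) =>
        (inferInstance : QuasiCompact g)) h)

end Groth.Agent.S10280
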