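import Groth.Statements.S10305
import Groth.Agent.Lib.helper25.SmSynt

set_option autoImplicit false
universe u
open CategoryTheory CategoryTheory.Limits AlgebraicGeometry
open AlgSp

namespace Groth.Agent.S10305


/-- A smooth morphism of algebraic spaces is syntomic. -/
theorem result {S : Scheme.{u}} {X Y : AlgSp.Space S} (f : X ⟶ Y)
    (hf : AlgSp.LocP @Smooth f.hom) : AlgSp.IsSyntomicMor f.hom := by
  exact Groth.Agent.Lib.helper25.SmSynt.S10305_aux f hf


end Groth.Agent.S10305
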