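import Groth.Statements.S1031
import Mathlib
-- import your own Groth.Agent.* helpers here

set_option autoImplicit false
universe v u
open CategoryTheory
open CohDer

namespace Groth.Agent.S1031


section helpers
open CategoryTheory.Limits CategoryTheory.Pretriangulated CategoryTheory.ObjectProperty

variable {D : Type u} [Category.{v} D] [Preadditive D] [HasZeroObject D] [HasShift D ℤ]
    [∀ n : ℤ, (shiftFunctor D n).Additive] [Pretriangulated D]

/-- closure under binary products in pointwise form -/
def ProdClosed (P : ObjectProperty D) : Prop :=
  ∀ (X : WalkingPair → D), (∀ j, P (X j)) → P (∏ᶜ X)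

lemma prodClosed_of_isClosedUnderBinaryProducts (P : ObjectProperty D)
    [P.IsClosedUnderBinaryProducts] : ProdClosed P := by
  intro X hX
  exact P.prop_of_isLimit (limit.isLimit (Discrete.functor X)) (fun ⟨j⟩ => hX j)

lemma isClosedUnderBinaryProducts_of_prodClosed (P : ObjectProperty D)
    [P.IsClosedUnderIsomorphisms] (h : ProdClosed P) : P.IsClosedUnderBinaryProducts where
  limitsOfShape_le := by
    rintro X ⟨p⟩
    have e : X ≅ ∏ᶜ (fun j => p.diag.obj ⟨j⟩) :=
      IsLimit.conePointsIsoOfNatIso p.isLimit (limit.isLimit _) Discrete.natIsoFunctor
    exact P.prop_of_iso e.symm (h _ (fun j => p.prop_diag_obj ⟨j⟩))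

lemma prodClosed_retractClosure (P : ObjectProperty D) (h : ProdClosed P) :
    ProdClosed P.retractClosure := by
  intro X hX
  choose Y hY r using hX
  refine ⟨∏ᶜ Y, h Y hY, ⟨?_⟩⟩
  exact { i := Limits.Pi.map (fun j => (r j).some.i)
          r := Limits.Pi.map (fun j => (r j).some.r)
          retract := by
            rw [Limits.Pi.map_comp_map]
            simp }

lemma prodClosed_extensionProduct (P Q : ObjectProperty D) (hP : ProdClosed P)
    (hQ : ProdClosed Q) : ProdClosed (extensionProduct P Q) := by
  intro X hX
  choose Y Z f g h hT hY hZ using hX
  exact ⟨_, _, _, _, _, productTriangle_distinguished (fun j => Triangle.mk (f j) (g j) (h j)) hT,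
    hP Y hY, hQ Z hZ⟩

lemma prodClosed_extensionProductIter (P : ObjectProperty D) (hP : ProdClosed P) (n : ℕ) :
    ProdClosed (P.extensionProductIter n) := by
  induction n with
  | zero => exact hP
  | succ n ih =>
    rw [extensionProductIter_succ]
    exact prodClosed_extensionProduct _ _ hP ih

lemma prodClosed_triangEnvelopeIter (P : ObjectProperty D) (n : ℕ) :
    ProdClosed (P.triangEnvelopeIter n) := by
  apply prodClosed_retractClosure
  apply prodClosed_extensionProductIter
  apply prodClosed_retractClosure
  exact prodClosed_of_isClosedUnderBinaryProducts _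

end helpers

/-- Let D be a triangulated category admitting a strong generator G (every object is reached from G by
shifts, finite sums, summands and a uniformly bounded number of extensions). Then every classical
generator E of D (every object reached from E with some finite number of extensions) is itself a
strong generator. -/
theorem result {D : Type u} [Category.{v} D] [Preadditive D] [Limits.HasZeroObject D] [HasShift D ℤ]
    [∀ n : ℤ, (shiftFunctor D n).Additive] [Pretriangulated D] [IsTriangulated D]
    (G E : D) (hG : ObjectProperty.IsStrongTriangulatedGenerator (fun X : D => X = G))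
    (hE : ObjectProperty.IsClassicalTriangulatedGenerator (fun X : D => X = E)) :
    ObjectProperty.IsStrongTriangulatedGenerator (fun X : D => X = E) := by
  obtain ⟨n, hn⟩ := hG
  have hGE : ObjectProperty.triangEnvelope (fun X : D => X = E) G := by
    rw [ObjectProperty.isClassicalTriangulatedGenerator_iff] at hE
    rw [hE]
    trivial
  obtain ⟨m, hm⟩ := (ObjectProperty.prop_triangEnvelope_iff _ _).1 hGE
  have hne : ObjectProperty.Nonempty (fun X : D => X = E) := ⟨E, rfl⟩
  have hne' : (ObjectProperty.triangEnvelopeIter (fun X : D => X = E) m).Nonempty :=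
    .mono (ObjectProperty.le_triangEnvelopeIter _ m)
  have hbp : (ObjectProperty.triangEnvelopeIter (fun X : D => X = E) m).IsClosedUnderBinaryProducts :=
    isClosedUnderBinaryProducts_of_prodClosed _ (prodClosed_triangEnvelopeIter _ m)
  have h0 : ObjectProperty.triangEnvelopeIter (fun X : D => X = G) 0 ≤
      ObjectProperty.triangEnvelopeIter (fun X : D => X = E) m := by
    rw [ObjectProperty.triangEnvelopeIter_zero, ObjectProperty.retractClosure_le_iff,
      ObjectProperty.binaryProductsClosure_le_iff, ObjectProperty.shiftClosure_le_iff]
    rintro X rfl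
    exact hm
  have hk : ∀ k : ℕ, ObjectProperty.triangEnvelopeIter (fun X : D => X = G) k ≤
      ObjectProperty.triangEnvelopeIter (fun X : D => X = E) (k * (m + 1) + m) := by
    intro k
    induction k with
    | zero => simpa using h0
    | succ k ih =>
      rw [ObjectProperty.triangEnvelopeIter_succ, ← ObjectProperty.triangEnvelopeIter_zero,
        show (k + 1) * (m + 1) + m = (m + 1) + (k * (m + 1) + m) by ring,
        ObjectProperty.triangEnvelopeIter_add (fun X : D => X = E) (n := m + 1) (n' := m) rfl]
      apply ObjectProperty.monotone_retractClosure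
      exact (ObjectProperty.monotone_extensionProduct_left _ h0).trans
        (ObjectProperty.monotone_extensionProduct_right _ ih)
  refine ⟨n * (m + 1) + m, eq_top_iff.2 ?_⟩
  rw [← hn]
  exact hk n

end Groth.Agent.S1031
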