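import Groth.Statements.S10310
import Groth.Agent.Lib.helper15.FibreDimZero
import Groth.Agent.Lib.helper15.AlgSpSeven2
open Groth.Agent.Lib.H15.AS

set_option autoImplicit false
universe u
open CategoryTheory CategoryTheory.Limits AlgebraicGeometry
open AlgSp

namespace Groth.Agent.S10310

/-- A morphism locally of finite type is locally quasi-finite if and only if it has relative dimension 0
at every point. -/
theorem result {S : Scheme.{u}} {X Y : AlgSp.Space S} (f : X ⟶ Y)
    (hf : AlgSp.LocP @LocallyOfFiniteType f.hom) :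
    AlgSp.LocP (@LocallyQuasiFinite ⊓ @LocallyOfFiniteType) f.hom ↔
      ∀ x : AlgSp.Points X.obj, AlgSp.HasAtMor (fun _ _ h u => FlatMor.fibreDimAt h u = 0) f.hom x := by
  constructor
  · intro hlqf x
    obtain ⟨U, a, hae, has⟩ := X.property.atlas
    obtain ⟨V, b, hbe, hbs⟩ := Y.property.atlas
    obtain ⟨U', p, h, hpe, hps, wh⟩ := exists_chart_cover f.hom a b hbe hbs
    have ha'e : AlgSp.RepWith @Etale ((AlgSp.yon S).map p ≫ a) :=
      repWith_yon_map_comp @Etale p a hpe hae
    have ha's : AlgSp.RepWith @Surjective ((AlgSp.yon S).map p ≫ a) :=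
      repWith_yon_map_comp @Surjective p a hps has
    obtain ⟨u, rfl⟩ := surjective_ofPt _ ha's x
    refine ⟨U', V, (AlgSp.yon S).map p ≫ a, b, h, u, ha'e, hbe, wh, rfl, ?_⟩
    have hP := hlqf _ _ h ha'e hbe wh
    haveI : LocallyQuasiFinite h.left := hP.1
    exact Groth.Agent.Lib.H15.fibreDimAt_eq_zero_of_locallyQuasiFinite h.left u
  · intro H
    refine locP_of_forall_hasAtMor goodP_lqf_lft (fun x => ?_)
    obtain ⟨U, V, a, b, h, u, hae, hbe, w, hu, hdim⟩ := H x
    haveI hlft : LocallyOfFiniteType h.left := hf a b h hae hbe w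
    obtain ⟨W, huW, hW⟩ := Groth.Agent.Lib.H15.exists_opens_lqf_of_fibreDimAt_eq_zero h.left u hdim
    exact ⟨U, V, a, b, h, u, hae, hbe, w, hu, W, huW, hW⟩

end Groth.Agent.S10310
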