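import Groth.Statements.S10312
import Groth.Agent.Lib.helper15.AlgSpUnramLocus
import Groth.Agent.Lib.helper15.AlgSpFibreChart
import Groth.Agent.Lib.helper15.MonoClosedImm
open Groth.Agent.Lib.H15 Groth.Agent.Lib.H15.AS

set_option autoImplicit false
universe u
open CategoryTheory CategoryTheory.Limits AlgebraicGeometry
open AlgSp

namespace Groth.Agent.S10312

/-- For X -> Y over Z with X -> Z locally of finite type, the locus where X -> Y is unramified is an
open subset of |X| whose formation commutes with base change along any Z' -> Z. -/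
theorem result {S : Scheme.{u}} {X Y Z Z' Y' X' : AlgSp.Space S} (f : X ⟶ Y)
    (p : X ⟶ Z) (q : Y ⟶ Z) (comm : f ≫ q = p) (hp : AlgSp.LocP @LocallyOfFiniteType p.hom) (g : Z' ⟶ Z)
    (a : Y' ⟶ Y) (q' : Y' ⟶ Z') (sq1 : IsPullback a.hom q'.hom q.hom g.hom)
    (b : X' ⟶ X) (f' : X' ⟶ Y') (sq2 : IsPullback b.hom f'.hom f.hom a.hom) :
    IsOpen {x : AlgSp.Points X.obj | AlgSp.HasAtMor (fun U _ h u => ∃ W : U.Opens, u ∈ W ∧ LocallyOfFiniteType (W.ι ≫ h) ∧ FormallyUnramified (W.ι ≫ h)) f.hom x} ∧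
    {x' : AlgSp.Points X'.obj | AlgSp.HasAtMor (fun U _ h u => ∃ W : U.Opens, u ∈ W ∧ LocallyOfFiniteType (W.ι ≫ h) ∧ FormallyUnramified (W.ι ≫ h)) f'.hom x'} =
      AlgSp.Points.map b.hom ⁻¹' {x : AlgSp.Points X.obj | AlgSp.HasAtMor (fun U _ h u => ∃ W : U.Opens, u ∈ W ∧ LocallyOfFiniteType (W.ι ≫ h) ∧ FormallyUnramified (W.ι ≫ h)) f.hom x} := by
  classical
  have hcomm : f.hom ≫ q.hom = p.hom := congrArg (fun k => k.hom) comm
  have hf : AlgSp.LocP @LocallyOfFiniteType f.hom := by
    refine locP_of_comp_gen goodP_lft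
      (fun A B C f g (h : LocallyOfFiniteType (f ≫ g)) => locallyOfFiniteType_of_comp f g) Z.property
      (g := q.hom) ?_
    rw [hcomm]
    exact hp
  refine ⟨?_, ?_⟩
  · rw [isOpen_iff_forall_mem_open]
    rintro x ⟨U, V, a0, b0, h, u, hae, hbe, w, hu, W, huW, hlft, hfu⟩
    refine ⟨AlgSp.Points.ofPt a0 '' (W : Set ↥U.left), ?_,
      isOpenMap_ofPt a0 (repWith_universallyOpen_of_etale hae) _ W.2, ⟨u, huW, hu⟩⟩
    rintro _ ⟨w', hw', rfl⟩
    exact ⟨U, V, a0, b0, h, w', hae, hbe, w, rfl, W, hw', hlft, hfu⟩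
  · ext x'
    simp only [Set.mem_ofPred_eq, Set.mem_preimage]
    constructor
    · -- unramified upstairs implies unramified downstairs
      rintro ⟨U2, V2, a2, b2, h2, u2, ha2e, hb2e, w2, hu2, W2, hu2W, hlft2, hfu2⟩
      obtain ⟨hΩ, a', ha', ha'e, ha's⟩ := exists_chart_openSub a2 ha2e W2
      have hj := repWith_isOpenImmersion_openSubι X'.obj hΩ
      have hjf : AlgSp.LocP (@LocallyOfFiniteType ⊓ @FormallyUnramified)
          (openSubι X'.obj (AlgSp.Points.ofPt a2 '' (W2 : Set ↥U2.left)) ≫ f'.hom) := by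
        refine locP_of_chart_gen goodP_lft_unram a' b2 (overOpenι U2 W2 ≫ h2) ha'e ha's hb2e ?_ ?_
        · rw [← Category.assoc, ha', Category.assoc, w2, Functor.map_comp, Category.assoc]
        · change (@LocallyOfFiniteType ⊓ @FormallyUnramified) (W2.ι ≫ h2.left)
          exact ⟨hlft2, hfu2⟩
      have hx'mem : x' ∈ Set.range (AlgSp.Points.map
          (openSubι X'.obj (AlgSp.Points.ofPt a2 '' (W2 : Set ↥U2.left)))) := by
        rw [range_map_openSubι]
        exact ⟨u2, hu2W, hu2⟩
      -- atlas chart of f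
      obtain ⟨U1, a1, ha1e, ha1s⟩ := X.property.atlas
      obtain ⟨V, bY, hbe, hbs⟩ := Y.property.atlas
      obtain ⟨U, p1, h, hp1e, hp1s, wh⟩ := exists_chart_cover f.hom a1 bY hbe hbs
      have hae : AlgSp.RepWith @Etale ((AlgSp.yon S).map p1 ≫ a1) :=
        repWith_yon_map_comp @Etale p1 a1 hp1e ha1e
      have has : AlgSp.RepWith @Surjective ((AlgSp.yon S).map p1 ≫ a1) :=
        repWith_yon_map_comp @Surjective p1 a1 hp1s ha1s
      generalize (AlgSp.yon S).map p1 ≫ a1 = a0 at wh hae has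
      have hlft : LocallyOfFiniteType h.left := hf a0 bY h hae hbe wh
      -- atlas of Y'
      obtain ⟨V', b', hb'e, hb's⟩ := Y'.property.atlas
      have sqF'' := IsPullback.of_hasPullback f'.hom b'
      have sqF := sqF''.paste_horiz sq2
      have hbY : AlgSp.Representable bY := hbe.rep
      obtain ⟨c, sqc, hcq⟩ := exists_fibre_chart sqF a0 bY h hbY wh
      have hce : AlgSp.RepWith @Etale c := MorphismProperty.of_isPullback sqc.flip hae
      have hcs : AlgSp.RepWith @Surjective c := MorphismProperty.of_isPullback sqc.flip has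
      have hαe : AlgSp.RepWith @Etale (c ≫ pullback.fst f'.hom b') :=
        MorphismProperty.comp_mem _ _ _ hce (MorphismProperty.of_isPullback sqF''.flip hb'e)
      have hαs : AlgSp.RepWith @Surjective (c ≫ pullback.fst f'.hom b') :=
        MorphismProperty.comp_mem _ _ _ hcs (MorphismProperty.of_isPullback sqF''.flip hb's)
      have hβe : AlgSp.RepWith @Etale ((AlgSp.yon S).map (hbY.snd (b' ≫ a.hom)) ≫ b') :=
        repWith_yon_map_comp @Etale (hbY.snd (b' ≫ a.hom)) b' (hbe.property_snd _) hb'e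
      have w' : (c ≫ pullback.fst f'.hom b') ≫ f'.hom =
          (AlgSp.yon S).map (pullback.snd h (hbY.fst' (b' ≫ a.hom))) ≫
            (AlgSp.yon S).map (hbY.snd (b' ≫ a.hom)) ≫ b' := by
        rw [Category.assoc, sqF''.w, ← Category.assoc, hcq, Functor.map_comp, Category.assoc]
      obtain ⟨n, hn, hnx⟩ := range_subset_image_unramAt _ f'.hom hj hjf _ _ _ hαe hαs hβe w' hx'mem
      have sqS := isPullback_left_pullback h (hbY.fst' (b' ≫ a.hom))
      obtain ⟨W, huW, hW⟩ := (UL.unramAt_iff_of_isPullback sqS n).1 hn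
      refine ⟨U, V, a0, bY, h, (pullback.fst h (hbY.fst' (b' ≫ a.hom))).left n, hae, hbe, wh, ?_,
        W, huW, inferInstance, hW⟩
      rw [← hnx, ← ofPt_yon_map_comp, ← sqc.w, ← Category.assoc, AlgSp.Points.map_ofPt]
    · -- unramified downstairs implies unramified upstairs
      rintro ⟨U, V, a0, b0, h, u, hae, hbe, w, hu, W, huW, hlft, hfu⟩
      obtain ⟨hΩ, a', ha', ha'e, ha's⟩ := exists_chart_openSub a0 hae W
      have hX0 := isAlgSpace_openSub X.property hΩ
      have hj := repWith_isOpenImmersion_openSubι X.obj hΩ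
      have hjf : AlgSp.LocP (@LocallyOfFiniteType ⊓ @FormallyUnramified)
          (openSubι X.obj (AlgSp.Points.ofPt a0 '' (W : Set ↥U.left)) ≫ f.hom) := by
        refine locP_of_chart_gen goodP_lft_unram a' b0 (overOpenι U W ≫ h) ha'e ha's hbe ?_ ?_
        · rw [← Category.assoc, ha', Category.assoc, w, Functor.map_comp, Category.assoc]
        · change (@LocallyOfFiniteType ⊓ @FormallyUnramified) (W.ι ≫ h.left)
          exact ⟨hlft, hfu⟩
      have sq3 := IsPullback.of_hasPullback b.hom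
        (openSubι X.obj (AlgSp.Points.ofPt a0 '' (W : Set ↥U.left)))
      have hX2 : AlgSp.IsAlgSpace (pullback b.hom
          (openSubι X.obj (AlgSp.Points.ofPt a0 '' (W : Set ↥U.left)))) :=
        isAlgSpace_of_isPullback X.property.diag X'.property hX0 sq3
      have hj2 : AlgSp.RepWith @IsOpenImmersion (pullback.fst b.hom
          (openSubι X.obj (AlgSp.Points.ofPt a0 '' (W : Set ↥U.left)))) :=
        MorphismProperty.of_isPullback sq3.flip hj
      have hr := range_map_fst_of_isPullback sq3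
      have hx2 : x' ∈ Set.range (AlgSp.Points.map (pullback.fst b.hom
          (openSubι X.obj (AlgSp.Points.ofPt a0 '' (W : Set ↥U.left))))) := by
        rw [hr, range_map_openSubι]
        exact ⟨u, huW, hu⟩
      obtain ⟨x2, rfl⟩ := hx2
      have big := sq3.flip.paste_vert sq2
      have hloc := locP_of_isPullback_gen goodP_lft_unram hX0 Y.property Y'.property big hjf
      obtain ⟨U2, V2, a2, b2, h2, u2, ha2e, hb2e, w2, hu2, W2, hu2W, hP⟩ :=
        hasAtMor_of_locP goodP_lft_unram hX2 Y'.property hloc x2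
      refine ⟨U2, V2, a2 ≫ pullback.fst b.hom _, b2, h2, u2, ?_, hb2e, ?_, ?_, W2, hu2W, hP.1, hP.2⟩
      · exact MorphismProperty.comp_mem _ _ _ ha2e
          (repWith_mono (fun _ _ g (hg : IsOpenImmersion g) => (inferInstance : Etale g)) hj2)
      · rw [Category.assoc]
        exact w2
      · rw [← AlgSp.Points.map_ofPt, hu2]

end Groth.Agent.S10312
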