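import Groth.Statements.S10329
import Groth.Agent.Lib.helper15.FibreDimZero
import Groth.Agent.Lib.helper15.AlgSpSeven2
import Groth.Agent.Lib.helper15.AlgSpDimEtale
import Groth.Agent.Lib.helper15.AlgSpOpenSub3
open Groth.Agent.Lib.H15 Groth.Agent.Lib.H15.AS

set_option autoImplicit false
universe u
open CategoryTheory CategoryTheory.Limits AlgebraicGeometry
open AlgSp

namespace Groth.Agent.S10329

/-- If the fibre of a morphism locally of finite type has dimension 0 at a point, then the morphism is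
locally quasi-finite on some open subspace containing the image of that point. -/
theorem result {S : Scheme.{u}} {X Y F : AlgSp.Space S} (f : X ⟶ Y)
    (hf : AlgSp.LocP @LocallyOfFiniteType f.hom) (k : Type u) [Field k] (str : Spec (.of k) ⟶ S)
    (y : (AlgSp.yon S).obj (Over.mk str) ⟶ Y.obj) (p : F ⟶ X) (q : F.obj ⟶ (AlgSp.yon S).obj (Over.mk str))
    (sq : IsPullback p.hom q f.hom y) (z : AlgSp.Points F.obj)
    (hz : AlgSp.HasAt (fun U u => FlatMor.localDim ↥U u = 0) F.obj z) :
    ∃ (X' : AlgSp.Space S) (j : X' ⟶ X), AlgSp.RepWith @IsOpenImmersion j.hom ∧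
      AlgSp.Points.map p.hom z ∈ Set.range (AlgSp.Points.map j.hom) ∧
      AlgSp.LocP (@LocallyQuasiFinite ⊓ @LocallyOfFiniteType) (j ≫ f).hom := by
  classical
  obtain ⟨U0, a0, z0, ha0e, hz0, hdim0⟩ := hz
  obtain ⟨U1, a1, ha1e, ha1s⟩ := X.property.atlas
  obtain ⟨V, b, hbe, hbs⟩ := Y.property.atlas
  obtain ⟨U, p1, h, hp1e, hp1s, wh⟩ := exists_chart_cover f.hom a1 b hbe hbs
  have hae : AlgSp.RepWith @Etale ((AlgSp.yon S).map p1 ≫ a1) :=
    repWith_yon_map_comp @Etale p1 a1 hp1e ha1e
  have has : AlgSp.RepWith @Surjective ((AlgSp.yon S).map p1 ≫ a1) :=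
    repWith_yon_map_comp @Surjective p1 a1 hp1s ha1s
  generalize (AlgSp.yon S).map p1 ≫ a1 = a at wh hae has
  have hlft : LocallyOfFiniteType h.left := hf a b h hae hbe wh
  have hb : AlgSp.Representable b := hbe.rep
  have sqVK := hb.isPullback' y
  have hψe : Etale (hb.snd y).left := hbe.property_snd y
  have sqU' : IsPullback (pullback.fst h (hb.fst' y)) (pullback.snd h (hb.fst' y)) h (hb.fst' y) :=
    IsPullback.of_hasPullback _ _
  have sqU'S : IsPullback (pullback.fst h (hb.fst' y)).left (pullback.snd h (hb.fst' y)).left h.left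
      (hb.fst' y).left := sqU'.map (Over.forget S)
  have outer := (sqU'.flip.map (AlgSp.yon S)).paste_horiz sqVK.flip
  rw [← wh] at outer
  have wc : ((AlgSp.yon S).map (pullback.fst h (hb.fst' y)) ≫ a) ≫ f.hom =
      ((AlgSp.yon S).map (pullback.snd h (hb.fst' y)) ≫ (AlgSp.yon S).map (hb.snd y)) ≫ y := by
    rw [Category.assoc]
    exact outer.w.symm
  have hc1 : sq.lift _ _ wc ≫ p.hom = (AlgSp.yon S).map (pullback.fst h (hb.fst' y)) ≫ a :=
    sq.lift_fst _ _ wc
  have hc2 : sq.lift _ _ wc ≫ q =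
      (AlgSp.yon S).map (pullback.snd h (hb.fst' y)) ≫ (AlgSp.yon S).map (hb.snd y) :=
    sq.lift_snd _ _ wc
  rw [← hc2] at outer
  have sqc : IsPullback (sq.lift _ _ wc) ((AlgSp.yon S).map (pullback.fst h (hb.fst' y))) p.hom a :=
    IsPullback.of_right outer hc1 sq.flip
  generalize sq.lift _ _ wc = c at hc1 hc2 sqc
  have hce : AlgSp.RepWith @Etale c := MorphismProperty.of_isPullback sqc.flip hae
  have hcs : AlgSp.RepWith @Surjective c := MorphismProperty.of_isPullback sqc.flip has
  obtain ⟨p2, hp2⟩ := surjective_ofPt c hcs z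
  have hdim : FlatMor.localDim ↥(pullback h (hb.fst' y)).left p2 = 0 := by
    rw [localDim_eq_of_charts F.property c a0 hce ha0e p2 z0 (hp2.trans hz0.symm)]
    exact hdim0
  -- the scheme-level statements
  have hpr2lft : LocallyOfFiniteType (pullback.snd h (hb.fst' y)).left :=
    MorphismProperty.of_isPullback (P := @LocallyOfFiniteType) sqU'S hlft
  let g0 : (pullback h (hb.fst' y)).left ⟶ Spec (CommRingCat.of k) :=
    (pullback.snd h (hb.fst' y)).left ≫ (hb.snd y).left
  have hg0 : LocallyOfFiniteType g0 := inferInstance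
  have hN : IsLocallyNoetherian (pullback h (hb.fst' y)).left :=
    isLocallyNoetherian_of_lft_field g0
  have hopen : IsOpen ({p2} : Set ↥(pullback h (hb.fst' y)).left) :=
    isOpen_singleton_of_localDim_eq_zero p2 hdim
  have hqf2 : (pullback.snd h (hb.fst' y)).left.QuasiFiniteAt p2 :=
    (quasiFiniteAt_iff_exists_isOpen _ p2).2 ⟨{p2}, hopen, rfl, fun x' hx' _ => hx'⟩
  have hqf : h.left.QuasiFiniteAt ((pullback.fst h (hb.fst' y)).left p2) :=
    quasiFiniteAt_of_isPullback sqU'S p2 hqf2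
  have hu : AlgSp.Points.ofPt a ((pullback.fst h (hb.fst' y)).left p2) = AlgSp.Points.map p.hom z := by
    rw [← hp2, AlgSp.Points.map_ofPt, hc1, ofPt_yon_map_comp]
  generalize (pullback.fst h (hb.fst' y)).left p2 = u at hqf hu
  obtain ⟨hΩ, a', ha', ha'e, ha's⟩ := exists_chart_openSub a hae h.left.quasiFiniteLocus
  refine ⟨⟨openSub X.obj _, isAlgSpace_openSub X.property hΩ⟩,
    ObjectProperty.homMk (openSubι X.obj _), repWith_isOpenImmersion_openSubι X.obj hΩ, ?_, ?_⟩
  · change _ ∈ Set.range (AlgSp.Points.map (openSubι X.obj _))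
    rw [range_map_openSubι]
    exact ⟨u, hqf, hu⟩
  · change AlgSp.LocP _ (openSubι X.obj _ ≫ f.hom)
    refine locP_of_chart_gen goodP_lqf_lft a' b (overOpenι U h.left.quasiFiniteLocus ≫ h) ha'e ha's hbe
      ?_ ?_
    · rw [← Category.assoc, ha', Category.assoc, wh, Functor.map_comp, Category.assoc]
    · change (@LocallyQuasiFinite ⊓ @LocallyOfFiniteType) (h.left.quasiFiniteLocus.ι ≫ h.left)
      exact ⟨inferInstance, inferInstance⟩

end Groth.Agent.S10329
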