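import Groth.Statements.S10313
import Groth.Agent.Lib.helper15.AlgSpFibreChart
import Groth.Agent.Lib.helper15.MonoClosedImm
import Groth.Agent.S10329
open Groth.Agent.Lib.H15 Groth.Agent.Lib.H15.AS

set_option autoImplicit false
universe u
open CategoryTheory CategoryTheory.Limits AlgebraicGeometry
open AlgSp

namespace Groth.Agent.S10313

/-- For f locally of finite type there is an open subspace of X on which f is locally quasi-finite,
outside of which the relative dimension is at least 1, and whose formation commutes with base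
change. -/
theorem result {S : Scheme.{u}} {X Y : AlgSp.Space S} (f : X ⟶ Y)
    (hf : AlgSp.LocP @LocallyOfFiniteType f.hom) :
    ∃ (X' : AlgSp.Space S) (j : X' ⟶ X), AlgSp.RepWith @IsOpenImmersion j.hom ∧
      AlgSp.LocP (@LocallyQuasiFinite ⊓ @LocallyOfFiniteType) (j ≫ f).hom ∧
      (∀ x : AlgSp.Points X.obj, x ∉ Set.range (AlgSp.Points.map j.hom) →
        AlgSp.HasAtMor (fun _ _ h u => 1 ≤ FlatMor.fibreDimAt h u) f.hom x) ∧
      ∀ (Y'' X'' : AlgSp.Space S) (g : Y'' ⟶ Y) (b : X'' ⟶ X) (f'' : X'' ⟶ Y''),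
        IsPullback b.hom f''.hom f.hom g.hom → ∀ x'' : AlgSp.Points X''.obj,
          AlgSp.Points.map b.hom x'' ∈ Set.range (AlgSp.Points.map j.hom) ↔ AlgSp.HasAtMor (fun U _ h u => ∃ W : U.Opens, u ∈ W ∧ LocallyQuasiFinite (W.ι ≫ h) ∧ LocallyOfFiniteType (W.ι ≫ h)) f''.hom x'' := by
  classical
  obtain ⟨U1, a1, ha1e, ha1s⟩ := X.property.atlas
  obtain ⟨V, b, hbe, hbs⟩ := Y.property.atlas
  obtain ⟨U, p1, h, hp1e, hp1s, wh⟩ := exists_chart_cover f.hom a1 b hbe hbs
  have hae : AlgSp.RepWith @Etale ((AlgSp.yon S).map p1 ≫ a1) :=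
    repWith_yon_map_comp @Etale p1 a1 hp1e ha1e
  have has : AlgSp.RepWith @Surjective ((AlgSp.yon S).map p1 ≫ a1) :=
    repWith_yon_map_comp @Surjective p1 a1 hp1s ha1s
  generalize (AlgSp.yon S).map p1 ≫ a1 = a at wh hae has
  have hlft : LocallyOfFiniteType h.left := hf a b h hae hbe wh
  obtain ⟨hΩ, a', ha', ha'e, ha's⟩ := exists_chart_openSub a hae h.left.quasiFiniteLocus
  have hX' := isAlgSpace_openSub X.property hΩ
  have hj := repWith_isOpenImmersion_openSubι X.obj hΩ
  have hjf : AlgSp.LocP (@LocallyQuasiFinite ⊓ @LocallyOfFiniteType)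
      (openSubι X.obj (AlgSp.Points.ofPt a '' (h.left.quasiFiniteLocus : Set ↥U.left)) ≫ f.hom) := by
    refine locP_of_chart_gen goodP_lqf_lft a' b (overOpenι U h.left.quasiFiniteLocus ≫ h) ha'e ha's hbe
      ?_ ?_
    · rw [← Category.assoc, ha', Category.assoc, wh, Functor.map_comp, Category.assoc]
    · change (@LocallyQuasiFinite ⊓ @LocallyOfFiniteType) (h.left.quasiFiniteLocus.ι ≫ h.left)
      exact ⟨inferInstance, inferInstance⟩
  refine ⟨⟨openSub X.obj _, hX'⟩, ObjectProperty.homMk (openSubι X.obj _), hj, hjf, ?_, ?_⟩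
  · intro x hx
    change x ∉ Set.range (AlgSp.Points.map (openSubι X.obj _)) at hx
    rw [range_map_openSubι] at hx
    obtain ⟨u, rfl⟩ := surjective_ofPt a has x
    refine ⟨U, V, a, b, h, u, hae, hbe, wh, rfl, ?_⟩
    have hnq : ¬ h.left.QuasiFiniteAt u := fun hq => hx ⟨u, hq, rfl⟩
    have h0 : FlatMor.fibreDimAt h.left u ≠ 0 :=
      fun h0 => hnq (quasiFiniteAt_of_fibreDimAt_eq_zero h.left u h0)
    have h1 : 0 ≤ FlatMor.fibreDimAt h.left u := Groth.Agent.H9TopDim.localDim_nonneg _
    change 1 ≤ FlatMor.fibreDimAt h.left u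
    generalize FlatMor.fibreDimAt h.left u = d at h0 h1 ⊢
    induction d using WithBot.recBotCoe with
    | bot => exact absurd h1 (by simp)
    | coe n =>
      have hn : n ≠ 0 := fun hn => h0 (by rw [hn]; rfl)
      have := Order.one_le_iff_ne_zero.2 hn
      exact_mod_cast this
  · intro Y'' X'' g bb f'' sq0 x''
    change AlgSp.Points.map bb.hom x'' ∈ Set.range (AlgSp.Points.map (openSubι X.obj _)) ↔ _
    constructor
    · intro hx
      have sq2 := IsPullback.of_hasPullback bb.hom
        (openSubι X.obj (AlgSp.Points.ofPt a '' (h.left.quasiFiniteLocus : Set ↥U.left)))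
      have hX2 : AlgSp.IsAlgSpace (pullback bb.hom
          (openSubι X.obj (AlgSp.Points.ofPt a '' (h.left.quasiFiniteLocus : Set ↥U.left)))) :=
        isAlgSpace_of_isPullback X.property.diag X''.property hX' sq2
      have hj2 : AlgSp.RepWith @IsOpenImmersion (pullback.fst bb.hom
          (openSubι X.obj (AlgSp.Points.ofPt a '' (h.left.quasiFiniteLocus : Set ↥U.left)))) :=
        MorphismProperty.of_isPullback sq2.flip hj
      have hr := range_map_fst_of_isPullback sq2
      have hx2 : x'' ∈ Set.range (AlgSp.Points.map (pullback.fst bb.hom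
          (openSubι X.obj (AlgSp.Points.ofPt a '' (h.left.quasiFiniteLocus : Set ↥U.left))))) := by
        rw [hr]
        exact hx
      obtain ⟨x2, rfl⟩ := hx2
      have big := sq2.flip.paste_vert sq0
      have hloc := locP_of_isPullback_gen goodP_lqf_lft hX' Y.property Y''.property big hjf
      obtain ⟨U2, V2, a2, b2, h2, u2, ha2e, hb2e, w2, hu2, W2, hu2W, hP⟩ :=
        hasAtMor_of_locP goodP_lqf_lft hX2 Y''.property hloc x2
      refine ⟨U2, V2, a2 ≫ pullback.fst bb.hom _, b2, h2, u2, ?_, hb2e, ?_, ?_, W2, hu2W, hP.1, hP.2⟩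
      · exact MorphismProperty.comp_mem _ _ _ ha2e
          (repWith_mono (fun _ _ g (hg : IsOpenImmersion g) => (inferInstance : Etale g)) hj2)
      · rw [Category.assoc]
        exact w2
      · rw [← AlgSp.Points.map_ofPt, hu2]
    · rintro ⟨U2, V2, a2, b2, h2, u2, ha2e, hb2e, w2, hu2, W2, hu2W, hlqf, hlft2⟩
      rw [range_map_openSubι]
      -- restrict the chart to `W2`
      obtain ⟨U3, a3, h3, u3, ha3e, w3, hlqf3, hlft3, hu3⟩ : ∃ (U3 : Over S)
          (a3 : (AlgSp.yon S).obj U3 ⟶ X''.obj) (h3 : U3 ⟶ V2) (u3 : ↥U3.left),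
          AlgSp.RepWith @Etale a3 ∧ a3 ≫ f''.hom = (AlgSp.yon S).map h3 ≫ b2 ∧
            LocallyQuasiFinite h3.left ∧ LocallyOfFiniteType h3.left ∧
              AlgSp.Points.ofPt a3 u3 = x'' := by
        refine ⟨overOpen U2 W2, (AlgSp.yon S).map (overOpenι U2 W2) ≫ a2, overOpenι U2 W2 ≫ h2,
          ⟨u2, hu2W⟩, ?_, ?_, hlqf, hlft2, ?_⟩
        · exact repWith_yon_map_comp @Etale (overOpenι U2 W2) a2
            (by change Etale W2.ι; infer_instance) ha2e
        · rw [Category.assoc, w2, Functor.map_comp, Category.assoc]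
        · rw [ofPt_yon_map_comp]
          exact hu2
      clear hlqf hlft2 hu2 w2 ha2e hu2W
      -- the field point
      let k : Type u := U3.left.residueField u3
      let str : Spec (CommRingCat.of k) ⟶ S := U3.left.fromSpecResidueField u3 ≫ U3.hom
      let ιk : Over.mk str ⟶ U3 := Over.homMk (U3.left.fromSpecResidueField u3) rfl
      let pt : ↥(Over.mk str).left := (show ↥(Over.mk str).left from
        (default : ↥(Spec (CommRingCat.of k))))
      have hpt : ιk.left pt = u3 := Scheme.fromSpecResidueField_apply _ _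
      let y'' : (AlgSp.yon S).obj (Over.mk str) ⟶ Y''.obj := (AlgSp.yon S).map ιk ≫ a3 ≫ f''.hom
      have sqF'' := IsPullback.of_hasPullback f''.hom y''
      have hF : AlgSp.IsAlgSpace (pullback f''.hom y'') :=
        isAlgSpace_of_isPullback Y''.property.diag X''.property (AlgSp.IsAlgSpace.yon_obj _) sqF''
      have sqF := sqF''.paste_horiz sq0
      have hb2 : AlgSp.Representable b2 := hb2e.rep
      obtain ⟨c, sqc, hcq⟩ := exists_fibre_chart sqF'' a3 b2 h3 hb2 w3
      have hce : AlgSp.RepWith @Etale c := MorphismProperty.of_isPullback sqc.flip ha3e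
      have e : AlgSp.Points.ofPt b2 (h3.left u3) = AlgSp.Points.ofPt y'' pt := by
        change _ = AlgSp.Points.ofPt ((AlgSp.yon S).map ιk ≫ a3 ≫ f''.hom) pt
        rw [ofPt_yon_map_comp, hpt, w3, ofPt_yon_map_comp]
      obtain ⟨v', hv'1, hv'2⟩ := exists_point_of_ofPt_eq (hb2.isPullback' y'') (h3.left u3) pt e
      have sqU'S := isPullback_left_pullback h3 (hb2.fst' y'')
      obtain ⟨p2, hp21, hp22⟩ := exists_preimage_of_isPullback sqU'S u3 v' hv'1.symm
      have hlqf4 : LocallyQuasiFinite (pullback.snd h3 (hb2.fst' y'')).left :=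
        MorphismProperty.of_isPullback (P := @LocallyQuasiFinite) sqU'S hlqf3
      have hψe : Etale (hb2.snd y'').left := hb2e.property_snd y''
      have hψq : LocallyQuasiFinite (hb2.snd y'').left :=
        locallyQuasiFinite_of_formallyUnramified _
      let g0 : (pullback h3 (hb2.fst' y'')).left ⟶ Spec (CommRingCat.of k) :=
        (pullback.snd h3 (hb2.fst' y'')).left ≫ (hb2.snd y'').left
      have hg0 : LocallyQuasiFinite g0 := inferInstance
      have hdisc : DiscreteTopology ↥(pullback h3 (hb2.fst' y'')).left :=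
        discreteTopology_of_lqf_field g0
      have hdim : FlatMor.localDim ↥(pullback h3 (hb2.fst' y'')).left p2 = 0 :=
        localDim_eq_zero_of_isOpen_singleton p2 (isOpen_discrete _)
      obtain ⟨X1, j1, hj1, hz1, hloc1⟩ := Groth.Agent.S10329.result (F := ⟨pullback f''.hom y'', hF⟩) f hf k str
        (y'' ≫ g.hom) (ObjectProperty.homMk (pullback.fst f''.hom y'' ≫ bb.hom))
        (pullback.snd f''.hom y'') sqF (AlgSp.Points.ofPt c p2) ⟨_, c, p2, hce, rfl, hdim⟩
      have hsub := range_subset_image_quasiFiniteLocus j1.hom f.hom hj1 hloc1 a b h hae has hbe wh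
      apply hsub
      convert hz1 using 1
      change _ = AlgSp.Points.map (pullback.fst f''.hom y'' ≫ bb.hom) (AlgSp.Points.ofPt c p2)
      rw [AlgSp.Points.map_ofPt, ← Category.assoc, sqc.w, Category.assoc, ofPt_yon_map_comp, hp21,
        ← AlgSp.Points.map_ofPt, hu3]

end Groth.Agent.S10313
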