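import Groth.Statements.S1032
import Mathlib
-- import your own Groth.Agent.* helpers here

set_option autoImplicit false
universe w v v' u u'
open CategoryTheory CategoryTheory.Limits
open CohDer

namespace Groth.Agent.S1032


section helpers
open DerivedCategory

variable {A : Type u} [Category.{v} A] [Abelian A]

/-- the K-injective objects of the homotopy category -/
abbrev KInj (A : Type u) [Category.{v} A] [Abelian A] :
    ObjectProperty (HomotopyCategory A (ComplexShape.up ℤ)) :=
  (HomotopyCategory.subcategoryAcyclic A).rightOrthogonal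

lemma Qh_map_bijective [HasDerivedCategory.{w} A] (K I : HomotopyCategory A (ComplexShape.up ℤ))
    (hI : KInj A I) : Function.Bijective (Qh.map : (K ⟶ I) → _) :=
  ObjectProperty.rightOrthogonal.map_bijective_of_isTriangulated hI Qh K

/-- precomposition with a quasi-isomorphism is bijective on maps to a K-injective -/
lemma precomp_bijective {K K' I : HomotopyCategory A (ComplexShape.up ℤ)}
    (hI : KInj A I) (s : K ⟶ K') (hs : HomotopyCategory.quasiIso A (ComplexShape.up ℤ) s) :
    Function.Bijective (fun g : K' ⟶ I => s ≫ g) := by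
  rw [HomotopyCategory.quasiIso_eq_trW_subcategoryAcyclic] at hs
  have hI' : (HomotopyCategory.subcategoryAcyclic A).rightOrthogonal I := hI
  rw [← ObjectProperty.isLocal_trW] at hI'
  exact hI' _ hs


variable (A) in
/-- the localizer morphism given by the inclusion of K-injectives -/
def Φ : LocalizerMorphism (MorphismProperty.isomorphisms (KInj A).FullSubcategory)
    (HomotopyCategory.quasiIso A (ComplexShape.up ℤ)) where
  functor := (KInj A).ι
  map := fun X Y f (hf : IsIso f) => by
    have : IsIso ((KInj A).ι.map f) := inferInstance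
    exact MorphismProperty.of_isIso _ _

lemma exists_res (hK : ∀ K : CochainComplex A ℤ, ∃ (I : CochainComplex A ℤ) (f : K ⟶ I),
    I.IsKInjective ∧ QuasiIso f) (X : HomotopyCategory A (ComplexShape.up ℤ)) :
    ∃ (I : (KInj A).FullSubcategory) (w : X ⟶ I.obj),
      HomotopyCategory.quasiIso A (ComplexShape.up ℤ) w := by
  obtain ⟨K, rfl⟩ := HomotopyCategory.quotient_obj_surjective X
  obtain ⟨I, f, hI, hf⟩ := hK K
  refine ⟨⟨(HomotopyCategory.quotient _ _).obj I,
    (CochainComplex.isKInjective_iff_rightOrthogonal I).1 hI⟩,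
    (HomotopyCategory.quotient _ _).map f, ?_⟩
  rwa [HomotopyCategory.quotient_map_mem_quasiIso_iff]



lemma isLocalizedEquivalence [HasDerivedCategory.{w} A]
    (hK : ∀ K : CochainComplex A ℤ, ∃ (I : CochainComplex A ℤ) (f : K ⟶ I),
      I.IsKInjective ∧ QuasiIso f) : (Φ A).IsLocalizedEquivalence := by
  let G : (KInj A).FullSubcategory ⥤ DerivedCategory A := (KInj A).ι ⋙ Qh
  have hfull : G.Full := ⟨fun {X Y} f => by
    obtain ⟨g, hg⟩ := (Qh_map_bijective X.obj Y.obj Y.property).surjective f
    exact ⟨ObjectProperty.homMk g, hg⟩⟩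
  have hfaith : G.Faithful := ⟨fun {X Y} f g hfg => by
    apply ObjectProperty.hom_ext
    exact (Qh_map_bijective X.obj Y.obj Y.property).injective hfg⟩
  have hess : G.EssSurj := ⟨fun Y => by
    obtain ⟨I, w, hw⟩ := exists_res hK (Qh.objPreimage Y)
    have := Localization.inverts Qh (HomotopyCategory.quasiIso A (ComplexShape.up ℤ)) w hw
    exact ⟨I, ⟨(asIso (Qh.map w)).symm ≪≫ Qh.objObjPreimageIso Y⟩⟩⟩
  have : G.IsEquivalence := { }
  have : CatCommSq (Φ A).functor (𝟭 _) Qh G := ⟨(Functor.leftUnitor _).symm⟩
  exact LocalizerMorphism.IsLocalizedEquivalence.mk' (Φ A) (𝟭 _) Qh G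

lemma isConnected_rightResolution
    (hK : ∀ K : CochainComplex A ℤ, ∃ (I : CochainComplex A ℤ) (f : K ⟶ I),
      I.IsKInjective ∧ QuasiIso f) (X : HomotopyCategory A (ComplexShape.up ℤ)) :
    IsConnected ((Φ A).RightResolution X) := by
  have : Nonempty ((Φ A).RightResolution X) := by
    obtain ⟨I, w, hw⟩ := exists_res hK X
    exact ⟨⟨w, hw⟩⟩
  apply zigzag_isConnected
  intro R R'
  obtain ⟨f, hf⟩ := (precomp_bijective R'.X₁.property R.w R.hw).surjective R'.w
  exact Zigzag.of_hom ⟨ObjectProperty.homMk f, hf⟩

lemma arrow_hasRightResolutions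
    (hK : ∀ K : CochainComplex A ℤ, ∃ (I : CochainComplex A ℤ) (f : K ⟶ I),
      I.IsKInjective ∧ QuasiIso f) : (Φ A).arrow.HasRightResolutions := by
  intro f
  obtain ⟨I, wl, hwl⟩ := exists_res hK f.left
  obtain ⟨J, wr, hwr⟩ := exists_res hK f.right
  obtain ⟨g, hg⟩ := (precomp_bijective J.property wl hwl).surjective (f.hom ≫ wr)
  exact ⟨{ X₁ := Arrow.mk (ObjectProperty.homMk g : I ⟶ J)
           w := Arrow.homMk wl wr hg
           hw := ⟨hwl, hwr⟩ }⟩


end helpers

/-- Let A be an abelian category in which every cochain complex admits a quasi-isomorphism to a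
K-injective complex, and let F be an exact functor from the homotopy category K(A) to a
pretriangulated category. Then F has a right derived functor RF with respect to quasi-isomorphisms
(defined on D(A)), and the canonical map F(I) ⟶ RF(I) is an isomorphism for every K-injective
complex I. -/
theorem result {A : Type u} [Category.{v} A] [Abelian A] [HasDerivedCategory.{w} A]
    (hKinj : ∀ K : CochainComplex A ℤ, ∃ (I : CochainComplex A ℤ) (f : K ⟶ I), I.IsKInjective ∧ QuasiIso f)
    {D' : Type u'} [Category.{v'} D'] [Preadditive D'] [Limits.HasZeroObject D'] [HasShift D' ℤ]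
    [∀ n : ℤ, (shiftFunctor D' n).Additive] [Pretriangulated D']
    [IsTriangulated D']
    (F : HomotopyCategory A (ComplexShape.up ℤ) ⥤ D') [F.CommShift ℤ] [F.IsTriangulated] :
    F.HasRightDerivedFunctor (HomotopyCategory.quasiIso A (ComplexShape.up ℤ)) ∧
    ∀ [F.HasRightDerivedFunctor (HomotopyCategory.quasiIso A (ComplexShape.up ℤ))] (I : CochainComplex A ℤ), I.IsKInjective →
      IsIso ((F.totalRightDerivedUnit DerivedCategory.Qh (HomotopyCategory.quasiIso A (ComplexShape.up ℤ))).app
        ((HomotopyCategory.quotient A (ComplexShape.up ℤ)).obj I)) := by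
  have := isLocalizedEquivalence hKinj
  have := isConnected_rightResolution hKinj
  have := arrow_hasRightResolutions hKinj
  have : (Φ A).IsRightDerivabilityStructure :=
    LocalizerMorphism.IsRightDerivabilityStructure.mk' (Φ A)
  have h : (Φ A).Derives F := MorphismProperty.isInvertedBy_isomorphisms _
  have hp := h.hasPointwiseRightDerivedFunctor
  refine ⟨inferInstance, ?_⟩
  intro _ I hI
  exact h.isIso_of_isRightDerivedFunctor
    (F.totalRightDerivedUnit DerivedCategory.Qh (HomotopyCategory.quasiIso A (ComplexShape.up ℤ)))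
    ⟨(HomotopyCategory.quotient A (ComplexShape.up ℤ)).obj I,
      (CochainComplex.isKInjective_iff_rightOrthogonal I).1 hI⟩

end Groth.Agent.S1032
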