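import Groth.Statements.S10326
import Groth.Agent.Lib.helper15.AlgSpNoeth

set_option autoImplicit false
universe u
open CategoryTheory CategoryTheory.Limits AlgebraicGeometry
open AlgSp

namespace Groth.Agent.S10326

/-- Every scheme etale over a locally Noetherian algebraic space has quasi-compact opens with finitely
many irreducible components. -/
theorem result {S : Scheme.{u}} (X : AlgSp.Space S)
    (hX : AlgSp.IsLocNoethSp X.obj) (U : Over S) (a : (AlgSp.yon S).obj U ⟶ X.obj) (ha : AlgSp.RepWith @Etale a)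
    (W : U.left.Opens) (hW : IsCompact (W : Set ↥U.left)) : (irreducibleComponents ↥W).Finite := by
  obtain ⟨V, p, hpe, hps, hV⟩ := hX
  have hVn : IsLocallyNoetherian V.left := hV
  let W'' : Over S := Over.mk (W.ι ≫ U.hom)
  let j : W'' ⟶ U := Over.homMk W.ι rfl
  have hj : Etale j.left := by change Etale W.ι; infer_instance
  have ha' : AlgSp.RepWith @Etale ((AlgSp.yon S).map j ≫ a) :=
    Groth.Agent.Lib.H15.AS.repWith_yon_map_comp @Etale j a hj ha
  have hrep : AlgSp.Representable p := hpe.rep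
  have sq := hrep.isPullback' ((AlgSp.yon S).map j ≫ a)
  have h2e : Etale (hrep.snd ((AlgSp.yon S).map j ≫ a)).left := hpe.property_snd _
  have h2s : Surjective (hrep.snd ((AlgSp.yon S).map j ≫ a)).left := hps.property_snd _
  have h1 : Etale (hrep.fst' ((AlgSp.yon S).map j ≫ a)).left :=
    ((AlgSp.repWith_iff _ _).1 ha').2 p ((AlgSp.yon S).map (hrep.snd ((AlgSp.yon S).map j ≫ a)))
      (hrep.fst' ((AlgSp.yon S).map j ≫ a)) sq.flip
  have hPn : IsLocallyNoetherian (hrep.pullback ((AlgSp.yon S).map j ≫ a)).left :=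
    LocallyOfFiniteType.isLocallyNoetherian (hrep.fst' ((AlgSp.yon S).map j ≫ a)).left
  have hLN : AlgSp.IsLocNoethSp ((AlgSp.yon S).obj W'') :=
    ⟨_, (AlgSp.yon S).map (hrep.snd ((AlgSp.yon S).map j ≫ a)),
      (AlgSp.repWith_yon_map_iff _ _).2 h2e, (AlgSp.repWith_yon_map_iff _ _).2 h2s, hPn⟩
  have hWc : CompactSpace ↥W''.left := isCompact_iff_compactSpace.1 hW
  have hQC : AlgSp.IsQuasiCompactSp ((AlgSp.yon S).obj W'') :=
    ⟨W'', 𝟙 _, AlgSp.repWith_id _ _, AlgSp.repWith_id _ _, hWc⟩
  have hN := Groth.Agent.Lib.H15.AS.noetherianSpace_points hQC hLN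
  have hN' : TopologicalSpace.NoetherianSpace ↥W''.left := (AlgSp.Points.schemeHomeo W'').isInducing.noetherianSpace
  have hN'' : TopologicalSpace.NoetherianSpace ↥W := hN'
  exact TopologicalSpace.NoetherianSpace.finite_irreducibleComponents

end Groth.Agent.S10326
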