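import Groth.Statements.S1034
import Mathlib
import Groth.Agent.Lib.helper2.SeqColim
-- import your own Groth.Agent.* helpers here

set_option autoImplicit false
universe v v' u u'
open CategoryTheory CategoryTheory.Limits
open DerLim

namespace Groth.Agent.S1034


section helpers
open Groth.Agent.Lib.helper2.SeqColim

variable {D : Type u} [Category.{v} D] [Preadditive D]
  {A : Type u'} [Category.{v'} A] [Abelian A] [HasColimitsOfShape ℕ A] [HasExactColimitsOfShape ℕ A]
  (H : D ⥤ A) [H.Additive] (K : ℕ → D) (f : ∀ n, K n ⟶ K (n + 1)) [HasCoproduct K]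
  [PreservesColimit (Discrete.functor K) H]

omit [Preadditive D] [Abelian A] [HasColimitsOfShape ℕ A] [HasExactColimitsOfShape ℕ A]
  [H.Additive] in
include K in
lemma hasCoproduct_map : HasCoproduct (fun n => H.obj (K n)) := by
  have : HasColimit (Discrete.functor K ⋙ H) :=
    ⟨⟨⟨H.mapCocone (colimit.cocone _), isColimitOfPreserves H (colimit.isColimit _)⟩⟩⟩
  exact hasColimit_of_iso (Discrete.compNatIsoDiscrete K H).symm

variable [HasCoproduct (fun n => H.obj (K n))]

omit [HasColimitsOfShape ℕ A] [HasExactColimitsOfShape ℕ A] [PreservesColimit (Discrete.functor K) H] in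
lemma comparison_comm :
    sigmaComparison H K ≫ H.map (𝟙 _ - shiftMap K f) =
      (𝟙 _ - shiftMap (fun n => H.obj (K n)) (fun n => H.map (f n))) ≫ sigmaComparison H K := by
  apply Sigma.hom_ext
  intro n
  have e1 : Sigma.ι K n ≫ (𝟙 _ - shiftMap K f) = Sigma.ι K n - f n ≫ Sigma.ι K (n + 1) := by
    simp [shiftMap, Preadditive.comp_sub]
  have e2 : Sigma.ι (fun n => H.obj (K n)) n ≫
      (𝟙 _ - shiftMap (fun n => H.obj (K n)) (fun n => H.map (f n))) =
      Sigma.ι (fun n => H.obj (K n)) n - H.map (f n) ≫ Sigma.ι (fun n => H.obj (K n)) (n + 1) := by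
    simp [shiftMap, Preadditive.comp_sub]
  rw [ι_comp_sigmaComparison_assoc, ← H.map_comp, e1, reassoc_of% e2, Preadditive.sub_comp,
    Category.assoc, ι_comp_sigmaComparison, ι_comp_sigmaComparison, H.map_sub, H.map_comp]

lemma mono_map : Mono (H.map (𝟙 _ - shiftMap K f)) := by
  have h1 := mono_one_sub_shiftMap (fun n => H.obj (K n)) (fun n => H.map (f n))
  have h2 : Mono (sigmaComparison H K ≫ H.map (𝟙 _ - shiftMap K f)) := by
    rw [comparison_comm]
    infer_instance
  have : H.map (𝟙 _ - shiftMap K f) =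
      inv (sigmaComparison H K) ≫ (sigmaComparison H K ≫ H.map (𝟙 _ - shiftMap K f)) := by simp
  rw [this]
  infer_instance

/-- the canonical map `H(∐ K) ⟶ colim H(K n)` -/
noncomputable def π : H.obj (∐ K) ⟶ colimit (Functor.ofSequence (fun n => H.map (f n))) :=
  inv (sigmaComparison H K) ≫ toColimit _ _

omit [HasExactColimitsOfShape ℕ A] [H.Additive] in
lemma map_ι_π (n : ℕ) : H.map (Sigma.ι K n) ≫ π H K f =
    colimit.ι (Functor.ofSequence (fun n => H.map (f n))) n := by
  rw [π, map_ι_comp_inv_sigmaComparison_assoc, ι_toColimit]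

omit [HasExactColimitsOfShape ℕ A] in
lemma map_π_zero : H.map (𝟙 _ - shiftMap K f) ≫ π H K f = 0 := by
  rw [π, ← cancel_epi (sigmaComparison H K), comp_zero, ← Category.assoc, comparison_comm,
    Category.assoc, IsIso.hom_inv_id_assoc, one_sub_shiftMap_toColimit]

omit [HasExactColimitsOfShape ℕ A] in
/-- `colim H(K n)` is the cokernel of `H(1 - shift)`. -/
noncomputable def isColimitπ :
    IsColimit (CokernelCofork.ofπ (π H K f) (map_π_zero H K f)) := by
  have hepi : Epi (π H K f) := by dsimp [π]; infer_instance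
  refine CokernelCofork.IsColimit.ofπ' _ _ (fun {W} φ hφ => ?_)
  have h2 : (𝟙 _ - shiftMap (fun n => H.obj (K n)) (fun n => H.map (f n))) ≫
      (sigmaComparison H K ≫ φ) = 0 := by
    rw [← Category.assoc, ← comparison_comm, Category.assoc, hφ, comp_zero]
  refine ⟨(isColimitCokernelCofork _ _).desc (CokernelCofork.ofπ _ h2), ?_⟩
  have := (isColimitCokernelCofork (fun n => H.obj (K n)) (fun n => H.map (f n))).fac
    (CokernelCofork.ofπ _ h2) WalkingParallelPair.one
  dsimp at this
  rw [π, Category.assoc, this, IsIso.inv_hom_id_assoc]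

end helpers

open CategoryTheory.Pretriangulated in
/-- Let D be a pretriangulated category with countable direct sums, A an abelian category with exact
colimits of shape ℕ, and H : D ⥤ A a homological functor that preserves countable direct sums. If L
(with maps iₙ : Kₙ ⟶ L) is a homotopy colimit of a system (Kₙ, fₙ), then H(L) is the colimit of the
H(Kₙ): there is an isomorphism colimₙ H(Kₙ) ≅ H(L) compatible with the maps H(iₙ). -/
theorem result {D : Type u} [Category.{v} D] [Preadditive D] [Limits.HasZeroObject D] [HasShift D ℤ]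
    [∀ n : ℤ, (shiftFunctor D n).Additive] [Pretriangulated D] [IsTriangulated D] [HasColimitsOfShape (Discrete ℕ) D]
    {A : Type u'} [Category.{v'} A] [Abelian A] [HasColimitsOfShape ℕ A] [HasExactColimitsOfShape ℕ A]
    (H : D ⥤ A) [H.IsHomological] [PreservesColimitsOfShape (Discrete ℕ) H]
    (K : ℕ → D) (f : ∀ n, K n ⟶ K (n + 1)) (L : D) (i : ∀ n, K n ⟶ L) (hL : DerLim.IsHocolim K f L i) :
    ∃ e : colimit (Functor.ofSequence (fun n => H.map (f n))) ≅ H.obj L,
      ∀ n : ℕ, colimit.ι (Functor.ofSequence (fun n => H.map (f n))) n ≫ e.hom = H.map (i n) := by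
  obtain ⟨c, hT⟩ := hL
  have hadd : H.Additive := inferInstance
  have hcop : HasCoproduct (fun n => H.obj (K n)) := hasCoproduct_map H K
  have hcop' : HasCoproduct (fun n => (shiftFunctor D (1 : ℤ) ⋙ H).obj (K n)) :=
    hasCoproduct_map (shiftFunctor D (1 : ℤ) ⋙ H) K
  have ex1 := H.map_distinguished_exact _ hT
  have ex2 := H.map_distinguished_exact _ (rot_of_distTriang _ hT)
  have ex3 := H.map_distinguished_exact _ (rot_of_distTriang _ (rot_of_distTriang _ hT))
  have hm : Mono (H.map ((shiftFunctor D (1 : ℤ)).map (𝟙 (∐ K) - shiftMap K f))) :=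
    mono_map (shiftFunctor D (1 : ℤ) ⋙ H) K f
  have hc : H.map c = 0 := by
    have h0 := ((shortComplexOfDistTriangle _
      (rot_of_distTriang _ (rot_of_distTriang _ hT))).map H).zero
    rw [← cancel_mono (H.map ((shiftFunctor D (1 : ℤ)).map (𝟙 (∐ K) - shiftMap K f))), zero_comp]
    simp only [ShortComplex.map_f, ShortComplex.map_g, shortComplexOfDistTriangle_f,
      shortComplexOfDistTriangle_g, Triangle.rotate_mor₁, Triangle.rotate_mor₂,
      Triangle.rotate_mor₃, Triangle.mk_mor₁, Triangle.mk_mor₃] at h0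
    have h0' : H.map c ≫ (-(H.map ((shiftFunctor D (1 : ℤ)).map (𝟙 (∐ K) - shiftMap K f)))) = 0 := by
      rw [← H.map_neg]
      exact h0
    rw [Preadditive.comp_neg, neg_eq_zero] at h0'
    exact h0'
  have hb : Epi (H.map (Sigma.desc i)) := by
    have := (ShortComplex.exact_iff_epi _ (by exact hc)).1 ex2
    exact this
  have hcok : IsColimit (CokernelCofork.ofπ (H.map (Sigma.desc i))
      ((shortComplexOfDistTriangle _ hT).map H).zero) :=
    haveI : Epi ((shortComplexOfDistTriangle _ hT).map H).g := hb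
    ex1.gIsCokernel
  let e := IsColimit.coconePointUniqueUpToIso (isColimitπ H K f) hcok
  refine ⟨e, fun n => ?_⟩
  have h1 : π H K f ≫ e.hom = H.map (Sigma.desc i) :=
    IsColimit.comp_coconePointUniqueUpToIso_hom (isColimitπ H K f) hcok WalkingParallelPair.one
  calc colimit.ι (Functor.ofSequence fun n => H.map (f n)) n ≫ e.hom
      = (H.map (Sigma.ι K n) ≫ π H K f) ≫ e.hom := by rw [map_ι_π H K f n]; rfl
    _ = H.map (Sigma.ι K n) ≫ H.map (Sigma.desc i) := by rw [Category.assoc, h1]
    _ = H.map (i n) := by rw [← H.map_comp, Sigma.ι_desc]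

end Groth.Agent.S1034
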