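import Groth.Statements.S10340
import Groth.Agent.Lib.helper15.AlgSpDecent

set_option autoImplicit false
universe u
open CategoryTheory CategoryTheory.Limits AlgebraicGeometry Topology TopologicalSpace
open AlgSp

namespace Groth.Agent.S10340

/-- Let S be a scheme, X a decent algebraic space over S, and a : h_U ⟶ X a representable etale map from
a scheme U. If two points u, u' of U have the same image in |X| and u' specializes to u, then u =
u'. -/
theorem result {S : Scheme.{u}} (X : AlgSp.Space S) (hX : AlgSp.IsDecent X.obj)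
    {U : Over S} (a : (AlgSp.yon S).obj U ⟶ X.obj) (ha : AlgSp.RepWith @Etale a) (u u' : ↥U.left)
    (he : AlgSp.Points.ofPt a u = AlgSp.Points.ofPt a u') (hs : u' ⤳ u) : u = u' := by
  obtain ⟨p, hp, -, hq⟩ := hX (AlgSp.Points.ofPt a u)
  obtain ⟨w₀, hw₀⟩ := U.left.affineCover.covers u
  let j := U.left.affineCover.f (U.left.affineCover.idx u)
  have hj : IsOpenImmersion j := inferInstance
  let U' : Over S := Over.mk (j ≫ U.hom)
  let φ : U' ⟶ U := Over.homMk j rfl
  have hφ : Etale φ.left := by change Etale j; infer_instance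
  have ha' : AlgSp.RepWith @Etale ((AlgSp.yon S).map φ ≫ a) :=
    Groth.Agent.Lib.H15.AS.repWith_yon_map_comp @Etale φ a hφ ha
  have hc : CompactSpace ↥U'.left := by
    change CompactSpace ↥(U.left.affineCover.X (U.left.affineCover.idx u))
    infer_instance
  have hfin := Groth.Agent.Lib.H15.AS.finite_fibre_of_quasiCompact_fieldPt p hq
    ((AlgSp.yon S).map φ ≫ a) ha'
  refine Groth.Agent.Lib.H15.AS.eq_of_specializes_of_finite_fibre a ha u u' he hs (Set.range j)
    j.isOpenEmbedding.isOpen_range ⟨w₀, hw₀⟩ ?_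
  refine (hfin.image (fun w => j w)).subset ?_
  rintro _ ⟨hv, w, rfl⟩
  refine ⟨w, ?_, rfl⟩
  show AlgSp.Points.ofPt ((AlgSp.yon S).map φ ≫ a) w = AlgSp.Points.mk p
  rw [Groth.Agent.Lib.H15.AS.ofPt_yon_map_comp, hp]
  exact hv

end Groth.Agent.S10340
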