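import Groth.Statements.S10342
import Groth.Agent.Lib.helper15.AlgSpDecent

set_option autoImplicit false
universe u
open CategoryTheory CategoryTheory.Limits AlgebraicGeometry Topology TopologicalSpace
open AlgSp

namespace Groth.Agent.S10342

/-- Let X be a locally Noetherian algebraic space over a scheme S and a : h_U ⟶ X a representable etale
map from a scheme U. If two points u, u' of U have the same image in |X| and u' specializes to u,
then u = u'. -/
theorem result {S : Scheme.{u}} (X : AlgSp.Space S)
    (hX : AlgSp.IsLocNoethSp X.obj) {U : Over S} (a : (AlgSp.yon S).obj U ⟶ X.obj) (ha : AlgSp.RepWith @Etale a)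
    (u u' : ↥U.left) (he : AlgSp.Points.ofPt a u = AlgSp.Points.ofPt a u') (hs : u' ⤳ u) : u = u' := by
  obtain ⟨V, p, hpe, hps, hV⟩ := hX
  obtain ⟨v, hv⟩ := Groth.Agent.Lib.H15.AS.surjective_ofPt p hps (AlgSp.Points.ofPt a u)
  have h1 := Groth.Agent.Lib.H15.AS.ringKrullDim_stalk_eq_of_charts X.property a p ha hpe u v hv.symm
  have h2 := Groth.Agent.Lib.H15.AS.ringKrullDim_stalk_eq_of_charts X.property a p ha hpe u' v
    (he.symm.trans hv.symm)
  have h3 : ringKrullDim ↥(V.left.presheaf.stalk v) < ⊤ := ringKrullDim_lt_top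
  by_contra hne
  have hlt : u < u' := by
    refine lt_of_le_not_ge (Scheme.le_iff_specializes.2 hs) ?_
    intro h
    exact hne ((Scheme.le_iff_specializes.1 h).antisymm hs).eq
  rw [ringKrullDim_stalk_eq_coheight] at h1 h2
  have h4 : Order.coheight u' < ⊤ := by
    have : ((Order.coheight u' : ℕ∞) : WithBot ℕ∞) < ⊤ := h2 ▸ h3
    rw [lt_top_iff_ne_top] at this ⊢
    intro h
    apply this
    rw [h]
    rfl
  have h5 := Order.coheight_strictAnti hlt h4
  have h6 : ((Order.coheight u : ℕ∞) : WithBot ℕ∞) = ((Order.coheight u' : ℕ∞) : WithBot ℕ∞) :=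
    h1.trans h2.symm
  have h7 : Order.coheight u = Order.coheight u' := by exact_mod_cast h6
  exact absurd h7 (ne_of_gt h5)

end Groth.Agent.S10342
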