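import Groth.Statements.S10344
import Groth.Agent.Lib.helper15.AlgSpDecent
import Groth.Agent.Lib.helper15.AlgSpLocPGen2

set_option autoImplicit false
universe u
open CategoryTheory CategoryTheory.Limits AlgebraicGeometry Topology TopologicalSpace
open AlgSp

namespace Groth.Agent.S10344

/-- Let S be a scheme, Y and X algebraic spaces over S, and f : Y ⟶ X a flat morphism, and let x' ⤳ x be
a specialization in |X|, where x' is represented by a monomorphism Spec k ⟶ X which is representable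
quasi-compact (for instance X decent). Then generalizations lift along f at x: every y ∈ |Y| over x
has a generization y' over x'. -/
theorem result {S : Scheme.{u}} {X Y : AlgSp.Space S} (f : Y ⟶ X)
    (hf : AlgSp.LocP @Flat f.hom) (x x' : AlgSp.Points X.obj) (h : x' ⤳ x)
    (hx' : ∃ p : AlgSp.FieldPt X.obj, AlgSp.Points.mk p = x' ∧ Mono p.toHom ∧ AlgSp.RepWith @QuasiCompact p.toHom)
    (y : AlgSp.Points Y.obj) (hy : AlgSp.Points.map f.hom y = x) :
    ∃ y' : AlgSp.Points Y.obj, y' ⤳ y ∧ AlgSp.Points.map f.hom y' = x' := by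
  obtain ⟨p, rfl, -, hq⟩ := hx'
  obtain ⟨U, b, hbe, hbs⟩ := X.property.atlas
  obtain ⟨V, a, hae, has⟩ := Y.property.atlas
  obtain ⟨v, hv⟩ := Groth.Agent.Lib.H15.AS.surjective_ofPt a has y
  obtain ⟨V', π, g, hπe, hπs, comm⟩ := Groth.Agent.Lib.H15.AS.exists_chart_cover f.hom a b hbe hbs
  obtain ⟨v', hv'⟩ := hπs.surj v
  have ha' : AlgSp.RepWith @Etale ((AlgSp.yon S).map π ≫ a) :=
    Groth.Agent.Lib.H15.AS.repWith_yon_map_comp @Etale π a hπe hae
  have hflat : Flat g.left := hf _ b g ha' hbe comm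
  have hy' : AlgSp.Points.ofPt ((AlgSp.yon S).map π ≫ a) v' = y := by
    rw [Groth.Agent.Lib.H15.AS.ofPt_yon_map_comp, hv', hv]
  have hu : AlgSp.Points.ofPt b (g.left v') = x := by
    rw [← Groth.Agent.Lib.H15.AS.ofPt_yon_map_comp, ← comm, ← AlgSp.Points.map_ofPt, hy', hy]
  have h1 : AlgSp.Points.mk p ⤳ AlgSp.Points.ofPt b (g.left v') := by rw [hu]; exact h
  obtain ⟨u', hu's, hu'⟩ :=
    Groth.Agent.Lib.H15.AS.exists_generization_of_quasiCompact_fieldPt p hq b hbe _ h1
  obtain ⟨v'', hv''s, hv''⟩ := Flat.generalizingMap g.left hu's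
  refine ⟨AlgSp.Points.ofPt ((AlgSp.yon S).map π ≫ a) v'', ?_, ?_⟩
  · rw [← hy']
    exact hv''s.map (AlgSp.Points.continuous_ofPt _)
  · rw [AlgSp.Points.map_ofPt, comm, Groth.Agent.Lib.H15.AS.ofPt_yon_map_comp]
    have : g.left v'' = u' := hv''
    rw [this, hu']

end Groth.Agent.S10344
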