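import Groth.Statements.S10347
import Groth.Agent.Lib.helper15.AlgSpDimLqf

set_option autoImplicit false
universe u
open CategoryTheory CategoryTheory.Limits AlgebraicGeometry Topology TopologicalSpace
open AlgSp

namespace Groth.Agent.S10347

/-- For a locally quasi-finite morphism f : X ⟶ Y of algebraic spaces over a scheme S (locally
quasi-finite and locally of finite type, etale locally on source and target), dim X ≤ dim Y. -/
theorem result {S : Scheme.{u}} {X Y : AlgSp.Space S} (f : X ⟶ Y)
    (hf : AlgSp.LocP (@LocallyQuasiFinite ⊓ @LocallyOfFiniteType) f.hom) :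
    AlgSp.dim X.obj ≤ AlgSp.dim Y.obj := by
  unfold AlgSp.dim
  refine iSup_le fun U => iSup_le fun a => iSup_le fun hae => ?_
  obtain ⟨V, b, hbe, hbs⟩ := Y.property.atlas
  obtain ⟨U', π, g, hπe, hπs, comm⟩ := Groth.Agent.Lib.H15.AS.exists_chart_cover f.hom a b hbe hbs
  have ha' : AlgSp.RepWith @Etale ((AlgSp.yon S).map π ≫ a) :=
    Groth.Agent.Lib.H15.AS.repWith_yon_map_comp @Etale π a hπe hae
  have hg : LocallyQuasiFinite g.left := (hf _ b g ha' hbe comm).1
  rw [← Groth.Agent.Lib.H15.AS.topologicalKrullDim_eq_of_etale_surjective π.left hπs.surj]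
  refine (Groth.Agent.Lib.H15.AS.topologicalKrullDim_le_of_locallyQuasiFinite g.left).trans ?_
  exact le_iSup_of_le V (le_iSup_of_le b (le_iSup_of_le hbe le_rfl))

end Groth.Agent.S10347
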