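import Groth.Statements.S10348
import Groth.Agent.Lib.helper15.AlgSpDimLqf

set_option autoImplicit false
universe u
open CategoryTheory CategoryTheory.Limits AlgebraicGeometry Topology TopologicalSpace
open AlgSp

namespace Groth.Agent.S10348

/-- Let S be a scheme, X and Y algebraic spaces over S, and f : X ⟶ Y a morphism which is locally
quasi-finite; let x ∈ |X| have image y ∈ |Y|. Then the local ring of X at x has dimension at most
that of the local ring of Y at the point y (both dimensions read on etale charts through the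
points). -/
theorem result {S : Scheme.{u}} {X Y : AlgSp.Space S} (f : X ⟶ Y)
    (hf : AlgSp.LocP (@LocallyQuasiFinite ⊓ @LocallyOfFiniteType) f.hom) (x : AlgSp.Points X.obj)
    (d e : WithBot ℕ∞)
    (hx : AlgSp.HasAt (fun U u => ringKrullDim ↥(U.presheaf.stalk u) = d) X.obj x)
    (hy : AlgSp.HasAt (fun V v => ringKrullDim ↥(V.presheaf.stalk v) = e) Y.obj (AlgSp.Points.map f.hom x)) :
    d ≤ e := by
  obtain ⟨U, a, u, hae, hu, hd⟩ := hx
  obtain ⟨V₁, b₁, v₁, hb₁e, hv₁, he⟩ := hy
  obtain ⟨V, b, hbe, hbs⟩ := Y.property.atlas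
  obtain ⟨U', π, g, hπe, hπs, comm⟩ := Groth.Agent.Lib.H15.AS.exists_chart_cover f.hom a b hbe hbs
  obtain ⟨u', hu'⟩ := hπs.surj u
  have ha' : AlgSp.RepWith @Etale ((AlgSp.yon S).map π ≫ a) :=
    Groth.Agent.Lib.H15.AS.repWith_yon_map_comp @Etale π a hπe hae
  have hg : LocallyQuasiFinite g.left := (hf _ b g ha' hbe comm).1
  have h1 : ringKrullDim ↥(U'.left.presheaf.stalk u') = d := by
    rw [Groth.Agent.Lib.H15.AS.ringKrullDim_stalk_eq_of_etale π.left u', hu', hd]
  have h2 : AlgSp.Points.ofPt b (g.left u') = AlgSp.Points.ofPt b₁ v₁ := by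
    rw [hv₁, ← hu, ← Groth.Agent.Lib.H15.AS.ofPt_yon_map_comp, ← comm, ← AlgSp.Points.map_ofPt,
      Groth.Agent.Lib.H15.AS.ofPt_yon_map_comp, hu']
  have h3 := Groth.Agent.Lib.H15.AS.ringKrullDim_stalk_eq_of_charts Y.property b b₁ hbe hb₁e
    (g.left u') v₁ h2
  rw [← h1, ← he, ← h3]
  exact Groth.Agent.Lib.H15.AS.ringKrullDim_stalk_le_of_locallyQuasiFinite g.left u' 

end Groth.Agent.S10348
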