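import Groth.Statements.S10349
import Groth.Agent.Lib.helper15.StalkField
import Groth.Agent.Lib.helper15.AlgSpMonoField
import Groth.Agent.Lib.helper15.AlgSpSeven2
open Groth.Agent.Lib.H15.AS

set_option autoImplicit false
universe u
open CategoryTheory CategoryTheory.Limits AlgebraicGeometry Topology TopologicalSpace
open AlgSp

namespace Groth.Agent.S10349

/-- Let S be a scheme, X a decent algebraic space over S, k a field over S and p : h_{Spec k} ⟶ X a
surjective etale map. Then X ≅ h_{Spec k'} for a field k' over S, and p corresponds to a finite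
etale morphism Spec k ⟶ Spec k' over S, so that k is a finite separable extension of k'. -/
theorem result {S : Scheme.{u}} (X : AlgSp.Space S)
    (hX : AlgSp.IsDecent X.obj) (k : Type u) [Field k] (str : Spec (CommRingCat.of k) ⟶ S)
    (p : (AlgSp.yon S).obj (Over.mk str) ⟶ X.obj) (hp : AlgSp.RepWith @Etale p) (hs : AlgSp.RepWith @Surjective p) :
    ∃ (k' : Type u) (_ : Field k') (str' : Spec (CommRingCat.of k') ⟶ S)
      (e : (AlgSp.yon S).obj (Over.mk str') ≅ X.obj) (c : Over.mk str ⟶ Over.mk str'),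
      (AlgSp.yon S).map c ≫ e.hom = p ∧ IsFinite c.left ∧ Etale c.left := by
  let x : AlgSp.Points X.obj := AlgSp.Points.ofPt p
    (show ↥(Over.mk str).left from (default : ↥(Spec (CommRingCat.of k))))
  obtain ⟨q, hq, hqm, hqq⟩ := hX x
  have hrep : AlgSp.Representable q.toHom := hqq.rep
  have sq := hrep.isPullback' p
  have h1 : Mono ((AlgSp.yon S).map (hrep.snd p)) := sq.mono_snd_of_mono
  have e0 : AlgSp.Points.ofPt q.toHom (default : ↥(Spec (CommRingCat.of q.K))) =
      AlgSp.Points.ofPt p (show ↥(Over.mk str).left from (default : ↥(Spec (CommRingCat.of k)))) := by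
    rw [AlgSp.Points.ofPt_toHom, hq]
  obtain ⟨t, -, -⟩ := exists_point_of_ofPt_eq sq _ _ e0
  have hne : Nonempty (AlgSp.Points ((AlgSp.yon S).obj (hrep.pullback p))) :=
    ⟨AlgSp.Points.ofScheme _ t⟩
  have h2 : IsIso ((AlgSp.yon S).map (hrep.snd p)) :=
    isIso_of_mono_to_field str (AlgSp.IsAlgSpace.yon_obj _) _ hne
  have hpe : Epi p := epi_of_repWith_etale_surjective p hp hs
  have hfac : (inv ((AlgSp.yon S).map (hrep.snd p)) ≫ (AlgSp.yon S).map (hrep.fst' p)) ≫ q.toHom = p := by
    rw [Category.assoc, sq.w, IsIso.inv_hom_id_assoc]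
  have hqe : Epi q.toHom := epi_of_epi_fac hfac
  have hqi : IsIso q.toHom := isIso_of_mono_of_epi _
  refine ⟨q.K, q.field, q.str, asIso q.toHom, (AlgSp.yon S).preimage (p ≫ inv q.toHom), ?_, ?_⟩
  · rw [Functor.map_preimage, asIso_hom, Category.assoc, IsIso.inv_hom_id, Category.comp_id]
  · have hce : AlgSp.RepWith @Etale ((AlgSp.yon S).map ((AlgSp.yon S).preimage (p ≫ inv q.toHom))) := by
      rw [Functor.map_preimage]
      exact MorphismProperty.RespectsIso.postcomp _ _ _ hp
    have hce' : Etale ((AlgSp.yon S).preimage (p ≫ inv q.toHom)).left :=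
      (AlgSp.repWith_yon_map_iff _ _).1 hce
    refine ⟨?_, hce'⟩
    haveI : Etale (show Spec (CommRingCat.of k) ⟶ Spec (CommRingCat.of q.K) from
      ((AlgSp.yon S).preimage (p ≫ inv q.toHom)).left) := hce'
    exact Groth.Agent.Lib.H15.isFinite_of_etale_fields
      (show Spec (CommRingCat.of k) ⟶ Spec (CommRingCat.of q.K) from
        ((AlgSp.yon S).preimage (p ≫ inv q.toHom)).left)

end Groth.Agent.S10349
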