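import Groth.Statements.S10356
import Groth.Agent.Lib.helper15.AlgSpDecent4
open Groth.Agent.Lib.H15.AS

set_option autoImplicit false
universe u
open CategoryTheory CategoryTheory.Limits AlgebraicGeometry Topology TopologicalSpace
open AlgSp

namespace Groth.Agent.S10356

/-- A reduced decent algebraic space X over a scheme S whose space of points is a single point is
isomorphic to h_{Spec k} for a field k over S. -/
theorem result {S : Scheme.{u}} (X : AlgSp.Space S)
    (hX : AlgSp.IsDecent X.obj) (hr : AlgSp.EtaleLocally (fun U => IsReduced U) X.obj)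
    [Nonempty (AlgSp.Points X.obj)] [Subsingleton (AlgSp.Points X.obj)] :
    ∃ (k : Type u) (_ : Field k) (str : Spec (CommRingCat.of k) ⟶ S),
      Nonempty ((AlgSp.yon S).obj (Over.mk str) ≅ X.obj) := by
  obtain ⟨x⟩ := (inferInstance : Nonempty (AlgSp.Points X.obj))
  obtain ⟨q, hq, hqm, hqq⟩ := hX x
  obtain ⟨U, a, hae, has, hred⟩ := hr
  haveI : IsReduced U.left := hred
  have hxc : IsClosed ({AlgSp.Points.mk q} : Set (AlgSp.Points X.obj)) := by
    have : ({AlgSp.Points.mk q} : Set (AlgSp.Points X.obj)) = Set.univ := by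
      ext y
      simp only [Set.mem_singleton_iff, Set.mem_univ, iff_true]
      exact Subsingleton.elim _ _
    rw [this]
    exact isClosed_univ
  obtain ⟨hci, hrange⟩ := isClosedImmersion_snd_of_isDecent hX q hqm hqq hxc a hae
  have hrep : AlgSp.Representable q.toHom := hqq.rep
  have sq := hrep.isPullback' a
  haveI : Surjective (hrep.snd a).left := by
    refine ⟨fun u => ?_⟩
    have : u ∈ Set.range (hrep.snd a).left := by
      rw [hrange]
      exact Subsingleton.elim _ _
    exact this
  have hiso : IsIso (hrep.snd a).left := isIso_of_isClosedImmersion_of_surjective _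
  have hiso' : IsIso (hrep.snd a) := by
    haveI : IsIso ((Over.forget S).map (hrep.snd a)) := hiso
    exact isIso_of_reflects_iso _ (Over.forget S)
  have h2 : IsIso ((AlgSp.yon S).map (hrep.snd a)) := inferInstance
  have hpe : Epi a := epi_of_repWith_etale_surjective a hae has
  have hfac : (inv ((AlgSp.yon S).map (hrep.snd a)) ≫ (AlgSp.yon S).map (hrep.fst' a)) ≫ q.toHom = a := by
    rw [Category.assoc, sq.w, IsIso.inv_hom_id_assoc]
  have hqe : Epi q.toHom := epi_of_epi_fac hfac
  have hqi : IsIso q.toHom := isIso_of_mono_of_epi _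
  exact ⟨q.K, q.field, q.str, ⟨asIso q.toHom⟩⟩

end Groth.Agent.S10356
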