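import Groth.Statements.S10357
import Groth.Agent.Lib.helper15.AlgSpClosedPt

set_option autoImplicit false
universe u
open CategoryTheory CategoryTheory.Limits AlgebraicGeometry Topology TopologicalSpace
open AlgSp

namespace Groth.Agent.S10357

/-- Let S be a scheme, X a decent algebraic space over S, and Spec k ⟶ X a morphism over S from the
spectrum of a field whose image in S is a closed point s with k algebraic over κ(s). Then the image
point of |X| is closed. Here Spec k ⟶ S is written as Spec k ⟶ Spec κ(s) ⟶ S for a ring map φ : κ(s)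
→ k, integral since k is algebraic over κ(s). -/
theorem result {S : Scheme.{u}} (X : AlgSp.Space S)
    (hX : AlgSp.IsDecent X.obj) (s : ↥S) (hs : IsClosed ({s} : Set ↥S)) (k : Type u) [Field k]
    (φ : S.residueField s ⟶ CommRingCat.of k) (hφ : φ.hom.IsIntegral)
    (p : (AlgSp.yon S).obj (Over.mk (Spec.map φ ≫ S.fromSpecResidueField s)) ⟶ X.obj)
    (t : ↥(Spec (CommRingCat.of k))) :
    IsClosed ({AlgSp.Points.ofPt p t} : Set (AlgSp.Points X.obj)) := by
  obtain ⟨U, a, hae, has⟩ := X.property.atlas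
  have hq := Groth.Agent.Lib.H15.AS.isQuotientMap_ofPt a
    (Groth.Agent.Lib.H15.AS.repWith_universallyOpen_of_etale hae) has
  rw [← hq.isClosed_preimage]
  obtain ⟨q, hqx, -, hqq⟩ := hX (AlgSp.Points.ofPt p t)
  refine Groth.Agent.Lib.H15.AS.isClosed_of_locally_finite_of_closed_points _ ?_ ?_
  · intro u hu
    exact Groth.Agent.Lib.H15.AS.isClosed_singleton_chart_of_algebraic s hs k φ hφ p t a hae u hu
  · intro w
    obtain ⟨U', φ', w₀, haff, hoi, hw₀, ha'⟩ := Groth.Agent.Lib.H15.AS.exists_affine_chart_nhd a hae w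
    have hc : CompactSpace ↥U'.left := inferInstance
    have hfin := Groth.Agent.Lib.H15.AS.finite_fibre_of_quasiCompact_fieldPt q hqq _ ha'
    refine ⟨Set.range φ'.left, φ'.left.isOpenEmbedding.isOpen_range, ⟨w₀, hw₀⟩, ?_⟩
    refine (hfin.image (fun w => φ'.left w)).subset ?_
    rintro _ ⟨hv, w', rfl⟩
    refine ⟨w', ?_, rfl⟩
    show AlgSp.Points.ofPt ((AlgSp.yon S).map φ' ≫ a) w' = AlgSp.Points.mk q
    rw [Groth.Agent.Lib.H15.AS.ofPt_yon_map_comp, hqx]
    exact hv

end Groth.Agent.S10357
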