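import Groth.Statements.S10362
import Groth.Agent.Lib.helper15.AlgSpDecent
import Groth.Agent.Lib.helper15.AlgSpMonoField

set_option autoImplicit false
universe u
open CategoryTheory CategoryTheory.Limits AlgebraicGeometry Topology TopologicalSpace
open AlgSp

namespace Groth.Agent.S10362

/-- (4) ⇒ (6): let X be an algebraic space over a scheme S and x ∈ |X| a point represented by a
monomorphism Spec k ⟶ X which is representable quasi-compact. Then every morphism Spec k' ⟶ X in the
class of x, where k' is a field, is representable quasi-compact. -/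
theorem result {S : Scheme.{u}} (X : AlgSp.Space S)
    (p q : AlgSp.FieldPt X.obj) (hm : Mono p.toHom) (hp : AlgSp.RepWith @QuasiCompact p.toHom)
    (h : AlgSp.Points.mk q = AlgSp.Points.mk p) : AlgSp.RepWith @QuasiCompact q.toHom := by
  have hrep : AlgSp.Representable p.toHom := hp.rep
  have sq := hrep.isPullback' q.toHom
  have hmono : Mono ((AlgSp.yon S).map (hrep.snd q.toHom)) := sq.mono_snd_of_mono
  have e : AlgSp.Points.ofPt p.toHom (default : ↥(Spec (CommRingCat.of p.K))) =
      AlgSp.Points.ofPt q.toHom (default : ↥(Spec (CommRingCat.of q.K))) := by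
    rw [AlgSp.Points.ofPt_toHom, AlgSp.Points.ofPt_toHom, h]
  obtain ⟨t, -, -⟩ := Groth.Agent.Lib.H15.AS.exists_point_of_ofPt_eq sq _ _ e
  have hiso : IsIso ((AlgSp.yon S).map (hrep.snd q.toHom)) :=
    Groth.Agent.Lib.H15.AS.isIso_of_mono_to_field q.str (AlgSp.IsAlgSpace.yon_obj _)
      ((AlgSp.yon S).map (hrep.snd q.toHom)) ⟨AlgSp.Points.ofScheme _ t⟩
  have hiso2 : IsIso (hrep.snd q.toHom) := isIso_of_fully_faithful (AlgSp.yon S) _
  have hiso3 : IsIso (hrep.snd q.toHom).left := inferInstanceAs (IsIso ((Over.forget S).map _))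
  have hc : CompactSpace ↥(hrep.pullback q.toHom).left := by
    have : CompactSpace ↥q.pt.left := by
      change CompactSpace ↥(Spec (CommRingCat.of q.K))
      infer_instance
    exact (Scheme.homeoOfIso (asIso (hrep.snd q.toHom).left)).symm.compactSpace
  have hqc : QuasiCompact (hrep.fst' q.toHom).left := by
    have : QuasiSeparatedSpace ↥p.pt.left := by
      change QuasiSeparatedSpace ↥(Spec (CommRingCat.of p.K))
      infer_instance
    infer_instance
  have h1 : AlgSp.RepWith @QuasiCompact ((AlgSp.yon S).map (hrep.fst' q.toHom) ≫ p.toHom) :=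
    Groth.Agent.Lib.H15.AS.repWith_yon_map_comp @QuasiCompact _ _ hqc hp
  rw [sq.w] at h1
  exact (MorphismProperty.cancel_left_of_respectsIso (AlgSp.RepWith @QuasiCompact) _ _).1 h1

end Groth.Agent.S10362
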