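import Groth.Statements.S10359
import Groth.Agent.Lib.helper15.MonoClosedImm
import Groth.Agent.Lib.helper15.StalkField
import Groth.Agent.Lib.helper15.AlgSpDecent3
open Groth.Agent.Lib.H15.AS

set_option autoImplicit false
universe u
open CategoryTheory CategoryTheory.Limits AlgebraicGeometry Topology TopologicalSpace
open AlgSp

namespace Groth.Agent.S10359

/-- On a decent algebraic space X over a scheme S every closed point x of |X| is represented by a closed
immersion Spec k ⟶ X, where k is a field. -/
theorem result {S : Scheme.{u}} (X : AlgSp.Space S)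
    (hX : AlgSp.IsDecent X.obj) (x : AlgSp.Points X.obj) (hx : IsClosed ({x} : Set (AlgSp.Points X.obj))) :
    ∃ p : AlgSp.FieldPt X.obj, AlgSp.Points.mk p = x ∧ AlgSp.RepWith @IsClosedImmersion p.toHom := by
  obtain ⟨p, hp, hpm, hpq⟩ := hX x
  refine ⟨p, hp, ?_⟩
  have hrep : AlgSp.Representable p.toHom := hpq.rep
  obtain ⟨U, a, hae, has⟩ := X.property.atlas
  have sq := hrep.isPullback' a
  haveI := Groth.Agent.Lib.helper1.isClosedImmersion_descendsAlong.{u}
  refine repWith_of_etale_cover_target @IsClosedImmersion hrep hae has sq ?_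
  rw [AlgSp.repWith_yon_map_iff]
  have h1 : Mono ((AlgSp.yon S).map (hrep.snd a)) := sq.mono_snd_of_mono
  have h2 : Mono (hrep.snd a) := (AlgSp.yon S).mono_of_mono_map h1
  haveI h3 : Mono (hrep.snd a).left := inferInstance
  have he : Etale (hrep.fst' a).left :=
    ((AlgSp.repWith_iff _ _).1 hae).2 p.toHom ((AlgSp.yon S).map (hrep.snd a)) (hrep.fst' a) sq.flip
  let g0 : (hrep.pullback a).left ⟶ Spec (CommRingCat.of p.K) := (hrep.fst' a).left
  haveI : Etale g0 := he
  haveI : LocallyQuasiFinite g0 := Groth.Agent.Lib.H15.locallyQuasiFinite_of_formallyUnramified g0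
  haveI : DiscreteTopology ↥(hrep.pullback a).left := Groth.Agent.Lib.H15.discreteTopology_of_lqf_field g0
  have hrange : Set.range (hrep.snd a).left = AlgSp.Points.ofPt a ⁻¹' {x} := by
    ext u
    constructor
    · rintro ⟨w, rfl⟩
      show AlgSp.Points.ofPt a ((hrep.snd a).left w) = x
      rw [← ofPt_yon_map_comp, ← sq.w, ofPt_yon_map_comp, AlgSp.Points.ofPt_toHom, hp]
    · intro hu
      have hu' : AlgSp.Points.ofPt a u = x := hu
      have e : AlgSp.Points.ofPt p.toHom (default : ↥(Spec (CommRingCat.of p.K))) =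
          AlgSp.Points.ofPt a u := by
        rw [hu', ← hp]; exact AlgSp.Points.ofPt_toHom p _
      obtain ⟨t, -, ht⟩ := exists_point_of_ofPt_eq sq _ u e
      exact ⟨t, ht⟩
  have hcont : Continuous (AlgSp.Points.ofPt a) := AlgSp.Points.continuous_ofPt a
  have hmem : ∀ w, AlgSp.Points.ofPt a ((hrep.snd a).left w) = x := fun w => by
    have : (hrep.snd a).left w ∈ Set.range (hrep.snd a).left := ⟨w, rfl⟩
    rw [hrange] at this
    exact this
  apply Groth.Agent.Lib.H15.isClosedImmersion_of_mono_of_discrete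
  · intro w
    exact Groth.Agent.Lib.H15.isField_stalk_of_etale_field g0 w
  · intro w
    apply isClosed_of_closure_subset
    intro t' ht'
    have hs : (hrep.snd a).left w ⤳ t' := specializes_iff_mem_closure.2 ht'
    have hs' : AlgSp.Points.ofPt a ((hrep.snd a).left w) ⤳ AlgSp.Points.ofPt a t' := hs.map hcont
    rw [hmem w] at hs'
    have ht'x : AlgSp.Points.ofPt a t' = x := by
      have := specializes_iff_mem_closure.1 hs'
      rw [hx.closure_eq] at this
      exact this
    have := eq_of_specializes_of_isDecent hX a hae t' ((hrep.snd a).left w)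
      (by rw [ht'x, hmem w]) hs
    exact this
  · intro u
    obtain ⟨U', φ, w₀, haff, hoi, hw₀, ha'⟩ := exists_affine_chart_nhd a hae u
    haveI : CompactSpace ↥U'.left := inferInstance
    have hfin := finite_fibre_of_quasiCompact_fieldPt p hpq _ ha'
    refine ⟨Set.range φ.left, φ.left.isOpenEmbedding.isOpen_range, ⟨w₀, hw₀⟩, ?_⟩
    refine (hfin.image (fun w => φ.left w)).subset ?_
    rintro _ ⟨⟨w', rfl⟩, hw'⟩
    refine ⟨w', ?_, rfl⟩
    show AlgSp.Points.ofPt ((AlgSp.yon S).map φ ≫ a) w' = AlgSp.Points.mk p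
    rw [ofPt_yon_map_comp, hp]
    rw [hrange] at hw'
    exact hw'
  · rw [hrange]
    exact hx.preimage hcont

end Groth.Agent.S10359
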