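import Groth.Statements.S10364
import Groth.Agent.Lib.helper15.AlgSpDecent3
import Groth.Agent.Lib.helper15.AlgSpBasic
open Groth.Agent.Lib.H15.AS

set_option autoImplicit false
universe u
open CategoryTheory CategoryTheory.Limits AlgebraicGeometry Topology TopologicalSpace
open AlgSp

namespace Groth.Agent.S10364

/-- Let X be an algebraic space over a scheme S with a Zariski covering by open subspaces X_i ⟶ X. If
each X_i is decent then X is decent. -/
theorem result {S : Scheme.{u}} (X : AlgSp.Space S) {ι : Type u} (Xi : ι → AlgSp.Space S)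
    (j : ∀ i, Xi i ⟶ X) (hj : AlgSp.IsZarCover (fun i => (Xi i).obj) (fun i => (j i).hom))
    (hd : ∀ i, AlgSp.IsDecent (Xi i).obj) : AlgSp.IsDecent X.obj := by
  have hle : (@IsOpenImmersion : MorphismProperty Scheme.{u}) ≤ MorphismProperty.monomorphisms Scheme.{u} :=
    fun _ _ f hf => by
      haveI : IsOpenImmersion f := hf
      exact MorphismProperty.monomorphisms.infer_property f
  have hle2 : (@IsOpenImmersion : MorphismProperty Scheme.{u}) ≤ @Etale := fun _ _ f hf => by
    haveI : IsOpenImmersion f := hf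
    exact (inferInstance : Etale f)
  have hjm : ∀ i, Mono (j i).hom := fun i => mono_of_repWith hle _ (hj.1 i)
  have hje : ∀ i, AlgSp.RepWith @Etale (j i).hom := fun i => repWith_mono hle2 (hj.1 i)
  intro x
  obtain ⟨i, y, rfl⟩ := hj.2 x
  obtain ⟨p, hp, hpm, hpq⟩ := hd i y
  have hm : Mono (p.map (j i).hom).toHom := by
    rw [AlgSp.FieldPt.toHom_map]; exact @mono_comp _ _ _ _ _ _ hpm _ (hjm i)
  refine ⟨p.map (j i).hom, ?_, hm, ?_⟩
  · rw [← AlgSp.Points.map_mk, hp]
  · refine repWith_quasiCompact_of_finite_fibres X.property _ hm ?_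
    intro V ψ hV hψ
    haveI : CompactSpace ↥V.left := inferInstance
    choose Ui ai haie hais using fun i => (Xi i).property.atlas
    let ι' := Σ i : ι, (Ui i).left.affineOpens
    let U' : ι' → Over S := fun k => overOpen (Ui k.1) k.2.1
    let φ : ∀ k : ι', (AlgSp.yon S).obj (U' k) ⟶ X.obj := fun k =>
      ((AlgSp.yon S).map (overOpenι (Ui k.1) k.2.1) ≫ ai k.1) ≫ (j k.1).hom
    have hφ1 : ∀ k : ι', AlgSp.RepWith @Etale ((AlgSp.yon S).map (overOpenι (Ui k.1) k.2.1) ≫ ai k.1) :=
      fun k => repWith_yon_map_comp @Etale _ _ (by change Etale k.2.1.ι; infer_instance) (haie k.1)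
    refine finite_fibre_of_etale_cover_finite_fibres _ U' φ ?_ ?_ ?_ ψ hψ
    · intro k
      exact (AlgSp.RepWith @Etale).comp_mem _ _ (hφ1 k) (hje k.1)
    · intro y'
      obtain ⟨i', y'', rfl⟩ := hj.2 y'
      obtain ⟨u, rfl⟩ := surjective_ofPt _ (hais i') y''
      obtain ⟨_, ⟨O, hO, rfl⟩, huO, -⟩ := (Ui i').left.isBasis_affineOpens.exists_subset_of_mem_open
        (Set.mem_univ u) isOpen_univ
      refine ⟨⟨i', ⟨O, hO⟩⟩, ⟨u, huO⟩, ?_⟩
      show AlgSp.Points.ofPt (((AlgSp.yon S).map (overOpenι (Ui i') O) ≫ ai i') ≫ (j i').hom) ⟨u, huO⟩ = _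
      rw [← AlgSp.Points.map_ofPt, ofPt_yon_map_comp]
      rfl
    · intro k
      by_cases hx : ∃ y', AlgSp.Points.map (j k.1).hom y' = AlgSp.Points.map (j i).hom y
      · obtain ⟨y', hy'⟩ := hx
        obtain ⟨p', hp', hpm', hpq'⟩ := hd k.1 y'
        haveI : CompactSpace ↥(U' k).left := by
          haveI : IsAffine (U' k).left := k.2.2
          infer_instance
        have hfin := finite_fibre_of_quasiCompact_fieldPt p' hpq' _ (hφ1 k)
        refine hfin.subset ?_
        intro u hu
        have hu' : AlgSp.Points.ofPt (φ k) u = AlgSp.Points.mk (p.map (j i).hom) := hu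
        show AlgSp.Points.ofPt _ u = AlgSp.Points.mk p'
        haveI := hjm k.1
        apply injective_points_map_of_mono (j k.1).hom
        rw [AlgSp.Points.map_ofPt, hp', hy', ← hp, AlgSp.Points.map_mk]
        exact hu'
      · convert Set.finite_empty
        ext u
        simp only [Set.mem_preimage, Set.mem_singleton_iff, Set.mem_empty_iff_false, iff_false]
        intro hu
        apply hx
        refine ⟨AlgSp.Points.ofPt ((AlgSp.yon S).map (overOpenι (Ui k.1) k.2.1) ≫ ai k.1) u, ?_⟩
        rw [AlgSp.Points.map_ofPt, ← hp, AlgSp.Points.map_mk]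
        exact hu

end Groth.Agent.S10364
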