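import Groth.Statements.S10365
import Groth.Agent.Lib.helper15.StalkField
import Groth.Agent.Lib.helper15.AlgSpPoints
open Groth.Agent.Lib.H15.AS

set_option autoImplicit false
universe u
open CategoryTheory CategoryTheory.Limits AlgebraicGeometry Topology TopologicalSpace
open AlgSp

namespace Groth.Agent.S10365

/-- Let Z be an algebraic space over a scheme S admitting a surjective flat morphism Spec k ⟶ Z from the
spectrum of a field. Then every morphism Spec k' ⟶ Z from the spectrum of a field is surjective and
flat. -/
theorem result {S : Scheme.{u}} (Z : AlgSp.Space S)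
    (k : Type u) [Field k] (str : Spec (CommRingCat.of k) ⟶ S) (p : (AlgSp.yon S).obj (Over.mk str) ⟶ Z.obj)
    (hpf : AlgSp.LocP @Flat p) (hps : AlgSp.IsSurjectiveMor p)
    (k' : Type u) [Field k'] (str' : Spec (CommRingCat.of k') ⟶ S) (q : (AlgSp.yon S).obj (Over.mk str') ⟶ Z.obj) :
    AlgSp.LocP @Flat q ∧ AlgSp.IsSurjectiveMor q := by
  constructor
  · intro A B a b h hae hbe w
    apply Groth.Agent.Lib.H15.flat_of_forall_isField_stalk
    intro y
    have hb : AlgSp.Representable b := hbe.rep
    have sq := hb.isPullback' p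
    have he : Etale (hb.snd p).left := hbe.property_snd p
    have hfl : Flat (hb.fst' p).left :=
      hpf ((AlgSp.yon S).map (hb.snd p)) b (hb.fst' p) ((AlgSp.repWith_yon_map_iff _ _).2 he) hbe sq.w.symm
    have hsurj : AlgSp.IsSurjectiveMor ((AlgSp.yon S).map (hb.fst' p)) :=
      isSurjectiveMor_of_isPullback sq.flip hps
    obtain ⟨y', rfl⟩ := ((isSurjectiveMor_yon_map_iff _).1 hsurj).surj y
    have hg : Etale (show (hb.pullback p).left ⟶ Spec (CommRingCat.of k) from (hb.snd p).left) := he
    exact Groth.Agent.Lib.H15.isField_stalk_of_flat (hb.fst' p).left y'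
      (Groth.Agent.Lib.H15.isField_stalk_of_etale_field
        (show (hb.pullback p).left ⟶ Spec (CommRingCat.of k) from (hb.snd p).left) y')
  · intro z
    have : Subsingleton (AlgSp.Points ((AlgSp.yon S).obj (Over.mk str))) :=
      points_spec_field_subsingleton str
    obtain ⟨x, rfl⟩ := hps z
    obtain ⟨x', hx'⟩ := hps (AlgSp.Points.ofPt q
      (show ↥(Over.mk str').left from (default : ↥(Spec (CommRingCat.of k')))))
    refine ⟨AlgSp.Points.ofScheme _
      (show ↥(Over.mk str').left from (default : ↥(Spec (CommRingCat.of k')))), ?_⟩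
    rw [Subsingleton.elim x x', hx', AlgSp.Points.ofPt_eq_map_ofScheme]

end Groth.Agent.S10365
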