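import Groth.Statements.S10366
import Groth.Agent.Lib.helper15.AlgSpMono
import Groth.Agent.Lib.helper15.AlgSpSeven
import Groth.Agent.Lib.helper15.AlgSpEtale2
import Groth.Agent.Lib.helper15.AlgSpPoints
import Groth.Agent.Lib.helper15.AlgSpPoints2
import Groth.Agent.Lib.helper15.AlgSpCodimZero
import Groth.Agent.Lib.helper15.EtaleRedStalk
import Groth.Agent.Lib.helper7.StalkBC

set_option autoImplicit false
universe u
open CategoryTheory CategoryTheory.Limits AlgebraicGeometry Topology TopologicalSpace
open AlgSp
open Groth.Agent.Lib.H15.AS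
open Groth.Agent.Lib.H15

namespace Groth.Agent.S10366

/-- (1) ⇔ (2): an algebraic space Z over a scheme S is reduced with |Z| a single point if and only if
there is a surjective flat morphism Spec k ⟶ Z from the spectrum of a field. -/
theorem result {S : Scheme.{u}} (Z : AlgSp.Space S) :
    (AlgSp.EtaleLocally (fun U => IsReduced U) Z.obj ∧ Nonempty (AlgSp.Points Z.obj) ∧ Subsingleton (AlgSp.Points Z.obj)) ↔
      ∃ (k : Type u) (_ : Field k) (str : Spec (CommRingCat.of k) ⟶ S) (p : (AlgSp.yon S).obj (Over.mk str) ⟶ Z.obj),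
        AlgSp.LocP @Flat p ∧ AlgSp.IsSurjectiveMor p := by

  constructor
  · rintro ⟨⟨U, a, hae, has, hUred⟩, ⟨z⟩, hsub⟩
    have hUr : IsReduced U.left := hUred
    obtain ⟨u, -⟩ := surjective_ofPt a has z
    have hne : Nonempty ↥U.left := ⟨u⟩
    obtain ⟨w, hw⟩ := (dense_setOf_ringKrullDim_stalk_eq_zero U.left).nonempty
    have hw' : ringKrullDim ↥(U.left.presheaf.stalk w) = 0 := hw
    have hK : Ring.KrullDimLE 0 ↥(U.left.presheaf.stalk w) :=
      ringKrullDimZero_iff_ringKrullDim_eq_zero.2 hw'
    have hred : _root_.IsReduced ↥(U.left.presheaf.stalk w) := inferInstance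
    have hF : IsField ↥(U.left.presheaf.stalk w) := Ring.KrullDimLE.isField_of_isReduced
    let j : Over.mk (U.left.fromSpecStalk w ≫ U.hom) ⟶ U := Over.homMk (U.left.fromSpecStalk w) rfl
    have hj : Flat j.left := Groth.Agent.Lib.helper7.StalkBC.flat_fromSpecStalk U.left w
    refine ⟨↥(U.left.presheaf.stalk w), hF.toField, U.left.fromSpecStalk w ≫ U.hom,
      (AlgSp.yon S).map j ≫ a, ?_, ?_⟩
    · refine locP_of_chart_gen goodP_flat (𝟙 _) a j (AlgSp.repWith_id _ _) (AlgSp.repWith_id _ _) hae
        (Category.id_comp _) hj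
    · intro y
      exact ⟨AlgSp.Points.ofPt (𝟙 _) (IsLocalRing.closedPoint _), Subsingleton.elim _ _⟩
  · rintro ⟨k, _, str, p, hfl, hs⟩
    have hT : AlgSp.IsAlgSpace ((AlgSp.yon S).obj (Over.mk str)) := AlgSp.IsAlgSpace.yon_obj _
    have hrep : AlgSp.Representable p := Z.property.representable_from_yon p
    have h1 : AlgSp.RepWith @Flat p :=
      (locP_iff_repWith_of_representable goodP_flat hT Z.property hrep).1 hfl
    have h3 : AlgSp.RepWith @Surjective p := repWith_surjective_of_isSurjectiveMor hrep hs
    have : Subsingleton ↥(Over.mk str).left := by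
      change Subsingleton (PrimeSpectrum k); infer_instance
    have hsub : Subsingleton (AlgSp.Points ((AlgSp.yon S).obj (Over.mk str))) :=
      (AlgSp.Points.schemeHomeo (Over.mk str)).symm.injective.subsingleton
    refine ⟨?_, ?_, ?_⟩
    · obtain ⟨U, a, hae, has⟩ := Z.property.atlas
      refine ⟨U, a, hae, has, ?_⟩
      have sq := hrep.isPullback' a
      have he : Etale (hrep.fst' a).left :=
        ((AlgSp.repWith_iff _ _).1 hae).2 p ((AlgSp.yon S).map (hrep.snd a)) (hrep.fst' a) sq.flip
      have hf : Flat (hrep.snd a).left := h1.property_snd a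
      have hsj : Surjective (hrep.snd a).left := h3.property_snd a
      have : IsReduced (Over.mk str).left := by
        change IsReduced (Spec (CommRingCat.of k)); infer_instance
      have : IsReduced (hrep.pullback a).left := isReduced_of_etale (hrep.fst' a).left
      exact isReduced_of_flat_of_surjective (hrep.snd a).left
    · exact ⟨AlgSp.Points.map p (AlgSp.Points.ofPt (𝟙 _) (IsLocalRing.closedPoint k))⟩
    · refine ⟨fun x y => ?_⟩
      obtain ⟨x', rfl⟩ := hs x
      obtain ⟨y', rfl⟩ := hs y
      rw [Subsingleton.elim x' y']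

end Groth.Agent.S10366
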