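import Groth.Statements.S10367
import Groth.Agent.Lib.helper15.AlgSpSingleton
import Groth.Agent.Lib.helper15.AlgSpNoeth3
import Groth.Agent.S10366

set_option autoImplicit false
universe u
open CategoryTheory CategoryTheory.Limits AlgebraicGeometry Topology TopologicalSpace
open AlgSp
open Groth.Agent.Lib.H15.AS

namespace Groth.Agent.S10367

/-- (2) ⇒ (3): if an algebraic space Z over a scheme S admits a surjective flat morphism Spec k ⟶ Z with
k a field, then it also admits such a morphism which is moreover locally of finite type. -/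
theorem result {S : Scheme.{u}} (Z : AlgSp.Space S)
    (k : Type u) [Field k] (str : Spec (CommRingCat.of k) ⟶ S) (p : (AlgSp.yon S).obj (Over.mk str) ⟶ Z.obj)
    (hpf : AlgSp.LocP @Flat p) (hps : AlgSp.IsSurjectiveMor p) :
    ∃ (k' : Type u) (_ : Field k') (str' : Spec (CommRingCat.of k') ⟶ S) (q : (AlgSp.yon S).obj (Over.mk str') ⟶ Z.obj),
      AlgSp.LocP @LocallyOfFiniteType q ∧ AlgSp.LocP @Flat q ∧ AlgSp.IsSurjectiveMor q := by

  obtain ⟨-, -, hsub⟩ := (Groth.Agent.S10366.result Z).2 ⟨k, inferInstance, str, p, hpf, hps⟩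
  obtain ⟨U, a, hae, has⟩ := Z.property.atlas
  obtain ⟨u, -⟩ := surjective_ofPt a has
    (AlgSp.Points.map p (AlgSp.Points.ofPt (𝟙 _) (IsLocalRing.closedPoint k)))
  have hfield := fun w => isField_stalk_of_flat_surjective_fieldPt Z.property str p hpf hps a hae w
  obtain ⟨k', hk', j, hjlft, -⟩ := exists_field_lft_to_scheme U.left u
  have hjfl : Flat j := flat_of_forall_isField_stalk j hfield
  let j' : Over.mk (j ≫ U.hom) ⟶ U := Over.homMk j rfl
  refine ⟨k', hk', j ≫ U.hom, (AlgSp.yon S).map j' ≫ a, ?_, ?_, ?_⟩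
  · exact locP_of_chart_gen goodP_lft (𝟙 _) a j' (AlgSp.repWith_id _ _) (AlgSp.repWith_id _ _) hae
      (Category.id_comp _) hjlft
  · exact locP_of_chart_gen goodP_flat (𝟙 _) a j' (AlgSp.repWith_id _ _) (AlgSp.repWith_id _ _) hae
      (Category.id_comp _) hjfl
  · intro y
    exact ⟨AlgSp.Points.ofPt (𝟙 _) (IsLocalRing.closedPoint k'), Subsingleton.elim _ _⟩

end Groth.Agent.S10367
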