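import Groth.Statements.S10368
import Groth.Agent.Lib.helper15.AlgSpSingleton
import Groth.Agent.Lib.helper15.AlgSpNoeth3
import Groth.Agent.S10366

set_option autoImplicit false
universe u
open CategoryTheory CategoryTheory.Limits AlgebraicGeometry Topology TopologicalSpace
open AlgSp
open Groth.Agent.Lib.H15.AS

namespace Groth.Agent.S10368

/-- An algebraic space Z over a scheme S is reduced, locally Noetherian and has |Z| a single point if
and only if there is a locally finitely presented, flat, surjective morphism Spec k ⟶ Z from the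
spectrum of a field. -/
theorem result {S : Scheme.{u}} (Z : AlgSp.Space S) :
    (AlgSp.EtaleLocally (fun U => IsReduced U) Z.obj ∧ AlgSp.IsLocNoethSp Z.obj ∧ Nonempty (AlgSp.Points Z.obj) ∧ Subsingleton (AlgSp.Points Z.obj)) ↔
      ∃ (k : Type u) (_ : Field k) (str : Spec (CommRingCat.of k) ⟶ S) (p : (AlgSp.yon S).obj (Over.mk str) ⟶ Z.obj),
        AlgSp.LocP @LocallyOfFinitePresentation p ∧ AlgSp.LocP @Flat p ∧ AlgSp.IsSurjectiveMor p := by

  constructor
  · rintro ⟨hr, hN, hne, hsub⟩
    obtain ⟨k, hk, str, p, hfl, hs⟩ := (Groth.Agent.S10366.result Z).1 ⟨hr, hne, hsub⟩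
    obtain ⟨U, a, hae, has, hUN⟩ := hN
    obtain ⟨z⟩ := hne
    obtain ⟨u, -⟩ := surjective_ofPt a has z
    have hfield := fun w => isField_stalk_of_flat_surjective_fieldPt Z.property str p hfl hs a hae w
    obtain ⟨k', hk', j, -, hjlfp⟩ := exists_field_lft_to_scheme U.left u
    have hjfp : LocallyOfFinitePresentation j := hjlfp hUN
    have hjfl : Flat j := flat_of_forall_isField_stalk j hfield
    let j' : Over.mk (j ≫ U.hom) ⟶ U := Over.homMk j rfl
    refine ⟨k', hk', j ≫ U.hom, (AlgSp.yon S).map j' ≫ a, ?_, ?_, ?_⟩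
    · exact locP_of_chart_gen goodP_lfp (𝟙 _) a j' (AlgSp.repWith_id _ _) (AlgSp.repWith_id _ _) hae
        (Category.id_comp _) hjfp
    · exact locP_of_chart_gen goodP_flat (𝟙 _) a j' (AlgSp.repWith_id _ _) (AlgSp.repWith_id _ _) hae
        (Category.id_comp _) hjfl
    · intro y
      exact ⟨AlgSp.Points.ofPt (𝟙 _) (IsLocalRing.closedPoint k'), Subsingleton.elim _ _⟩
  · rintro ⟨k, hk, str, p, hfp, hfl, hs⟩
    obtain ⟨hr, hne, hsub⟩ := (Groth.Agent.S10366.result Z).2 ⟨k, hk, str, p, hfl, hs⟩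
    refine ⟨hr, ?_, hne, hsub⟩
    refine isLocNoethSp_of_fppf_surjective Z.property hfl hfp hs ?_
    refine ⟨Over.mk str, 𝟙 _, AlgSp.repWith_id _ _, AlgSp.repWith_id _ _, ?_⟩
    change IsLocallyNoetherian (Spec (CommRingCat.of k))
    infer_instance

end Groth.Agent.S10368
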