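import Groth.Statements.S10369
import Groth.Agent.Lib.helper15.AlgSpMono
import Groth.Agent.Lib.helper15.AlgSpMonoField
import Groth.Agent.Lib.helper15.AlgSpSeven
import Groth.Agent.Lib.helper15.AlgSpEtale2
import Groth.Agent.Lib.helper15.AlgSpFibre
import Groth.Agent.Lib.helper15.AlgSpPoints

set_option autoImplicit false
universe u
open CategoryTheory CategoryTheory.Limits AlgebraicGeometry Topology TopologicalSpace
open AlgSp
open Groth.Agent.Lib.H15.AS

namespace Groth.Agent.S10369

/-- Let S be a scheme, Z' and Z algebraic spaces over S, and Z' ⟶ Z a monomorphism, and suppose there is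
a locally finitely presented, flat, surjective morphism Spec k ⟶ Z from the spectrum of a field.
Then Z' is empty or Z' ⟶ Z is an isomorphism. -/
theorem result {S : Scheme.{u}} {Z' Z : AlgSp.Space S} (f : Z' ⟶ Z)
    [Mono f.hom]
    (hZ : ∃ (k : Type u) (_ : Field k) (str : Spec (CommRingCat.of k) ⟶ S) (p : (AlgSp.yon S).obj (Over.mk str) ⟶ Z.obj),
        AlgSp.LocP @LocallyOfFinitePresentation p ∧ AlgSp.LocP @Flat p ∧ AlgSp.IsSurjectiveMor p) :
    IsEmpty (AlgSp.Points Z'.obj) ∨ IsIso f := by

  obtain ⟨k, _, str, p, hlfp, hfl, hs⟩ := hZ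
  have hT : AlgSp.IsAlgSpace ((AlgSp.yon S).obj (Over.mk str)) := AlgSp.IsAlgSpace.yon_obj _
  have hrep : AlgSp.Representable p := Z.property.representable_from_yon p
  have h1 : AlgSp.RepWith @Flat p :=
    (locP_iff_repWith_of_representable goodP_flat hT Z.property hrep).1 hfl
  have h2 : AlgSp.RepWith @LocallyOfFinitePresentation p :=
    (locP_iff_repWith_of_representable goodP_lfp hT Z.property hrep).1 hlfp
  have h3 : AlgSp.RepWith @Surjective p := repWith_surjective_of_isSurjectiveMor hrep hs
  have hepi : Epi p := by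
    have := isLocallySurjective_of_repWith_fppf p h1 h2 h3
    infer_instance
  have sq := IsPullback.of_hasPullback f.hom p
  have hP : AlgSp.IsAlgSpace (pullback f.hom p) :=
    isAlgSpace_of_isPullback Z.property.diag Z'.property hT sq
  by_cases hne : Nonempty (AlgSp.Points (pullback f.hom p))
  · right
    have hiso : IsIso (pullback.snd f.hom p) := isIso_of_mono_to_field str hP _ hne
    have hfac : (inv (pullback.snd f.hom p) ≫ pullback.fst f.hom p) ≫ f.hom = p := by
      rw [Category.assoc, pullback.condition, IsIso.inv_hom_id_assoc]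
    have : Epi f.hom := epi_of_epi_fac hfac
    have : IsIso f.hom := isIso_of_mono_of_epi f.hom
    have : IsIso ((ObjectProperty.ι _).map f) := this
    exact isIso_of_reflects_iso f (ObjectProperty.ι _)
  · left
    refine ⟨fun z' => hne ?_⟩
    obtain ⟨t, ht⟩ := hs (AlgSp.Points.map f.hom z')
    obtain ⟨q, -, -⟩ := points_exists_of_isPullback sq z' t ht.symm
    exact ⟨q⟩

end Groth.Agent.S10369
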