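import Groth.Statements.S10408
import Groth.Agent.Lib.helper15.AlgSpNoeth4
import Groth.Agent.Lib.helper15.AlgSpSeven2
import Groth.Agent.Lib.helper15.AlgSpDecent2
import Groth.Agent.Lib.helper15.AlgSpPoints2
import Groth.Agent.Lib.helper15.AlgSpLiftSpace

set_option autoImplicit false
universe u
open CategoryTheory CategoryTheory.Limits AlgebraicGeometry Topology TopologicalSpace
open AlgSp
open Groth.Agent.Lib.H15.AS

namespace Groth.Agent.S10408

theorem locallyQuasiFinite_of_etale {X Y : Scheme.{u}} (f : X ⟶ Y) [Etale f] : LocallyQuasiFinite f := by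
  rw [HasRingHomProperty.iff_appLE (P := @LocallyQuasiFinite)]
  intro U V e
  have h : (f.appLE U V e).hom.Etale :=
    HasRingHomProperty.appLE @Etale f inferInstance U V e
  algebraize [(f.appLE U V e).hom]
  change Algebra.QuasiFinite _ _
  infer_instance

/-- (4) ⇒ (2): let S be a scheme and X an algebraic space over S. Suppose x ∈ |X| is a point represented
by a monomorphism Spec k ⟶ X, where k is a field. Then for every etale φ : U ⟶ X with U a scheme and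
all u, u' ∈ U over x, the map |U ×_X U| → |U| ×_{|X|} |U| has finite fibre over the point (u, u'). -/
theorem result {S : Scheme.{u}} (X : AlgSp.Space S) (x : AlgSp.Points X.obj)
    (hx : ∃ p : AlgSp.FieldPt X.obj, AlgSp.Points.mk p = x ∧ Mono p.toHom) {U : Over S}
    (φ : (AlgSp.yon S).obj U ⟶ X.obj) (hφ : AlgSp.RepWith @Etale φ) (u u' : ↥U.left)
    (hu : AlgSp.Points.ofPt φ u = x) (hu' : AlgSp.Points.ofPt φ u' = x) :
    ∀ (R : Over S) (s t : R ⟶ U), IsPullback ((AlgSp.yon S).map t) ((AlgSp.yon S).map s) φ φ →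
          {r : ↥R.left | s.left r = u ∧ t.left r = u'}.Finite := by
  intro R s t sq
  obtain ⟨p, hp, hmono⟩ := hx
  haveI := hmono
  have hrep : AlgSp.Representable φ := hφ.rep
  let V := hrep.pullback p.toHom
  let ν : V ⟶ U := hrep.fst' p.toHom
  let π : V ⟶ p.pt := hrep.snd p.toHom
  have sqV : IsPullback ((AlgSp.yon S).map ν) ((AlgSp.yon S).map π) φ p.toHom :=
    hrep.isPullback' p.toHom
  haveI hπE : Etale π.left := hφ.property_snd p.toHom
  haveI : Mono ((AlgSp.yon S).map ν) := sqV.mono_fst_of_mono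
  haveI : Mono ν := (AlgSp.yon S).mono_of_mono_map inferInstance
  haveI : Mono ν.left := inferInstance
  have hνinj : Function.Injective ν.left := ν.left.injective
  have hxu : ∀ w : U.left, AlgSp.Points.ofPt φ w = x → ∃ v : V.left, ν.left v = w := by
    intro w hw
    obtain ⟨v, hv, -⟩ := exists_point_of_ofPt_eq sqV w (IsLocalRing.closedPoint p.K)
      (by rw [hw, AlgSp.Points.ofPt_toHom, hp])
    exact ⟨v, hv⟩
  obtain ⟨v, hv⟩ := hxu u hu
  obtain ⟨v', hv'⟩ := hxu u' hu'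
  obtain ⟨V₁', hvV₁⟩ := exists_affineOpen_mem' V v
  obtain ⟨V₂', hvV₂⟩ := exists_affineOpen_mem' V v'
  obtain ⟨V₁, hV₁e⟩ : ∃ V₁ : V.left.Opens, V₁ = V₁'.1 := ⟨_, rfl⟩
  obtain ⟨V₂, hV₂e⟩ : ∃ V₂ : V.left.Opens, V₂ = V₂'.1 := ⟨_, rfl⟩
  haveI : IsAffine (V₁ : Scheme.{u}) := hV₁e ▸ V₁'.2
  haveI : IsAffine (V₂ : Scheme.{u}) := hV₂e ▸ V₂'.2
  replace hvV₁ : v ∈ V₁ := hV₁e ▸ hvV₁
  replace hvV₂ : v' ∈ V₂ := hV₂e ▸ hvV₂
  let P : Scheme.{u} := pullback (V₁.ι ≫ π.left) (V₂.ι ≫ π.left)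
  let Pₒ : Over S := Over.mk (pullback.fst (V₁.ι ≫ π.left) (V₂.ι ≫ π.left) ≫ V₁.ι ≫ V.hom)
  have hVhom : V.hom = π.left ≫ p.pt.hom := (Over.w π).symm
  let pr₁ : Pₒ ⟶ V := Over.homMk (pullback.fst (V₁.ι ≫ π.left) (V₂.ι ≫ π.left) ≫ V₁.ι)
    (Category.assoc _ _ _)
  let pr₂ : Pₒ ⟶ V := Over.homMk (pullback.snd (V₁.ι ≫ π.left) (V₂.ι ≫ π.left) ≫ V₂.ι) (by
    change (pullback.snd (V₁.ι ≫ π.left) (V₂.ι ≫ π.left) ≫ V₂.ι) ≫ V.hom =
      pullback.fst (V₁.ι ≫ π.left) (V₂.ι ≫ π.left) ≫ V₁.ι ≫ V.hom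
    rw [hVhom, Category.assoc, ← Category.assoc V₂.ι, ← pullback.condition_assoc, Category.assoc])
  have hpr : pr₁ ≫ π = pr₂ ≫ π := by
    ext
    change (pullback.fst (V₁.ι ≫ π.left) (V₂.ι ≫ π.left) ≫ V₁.ι) ≫ π.left =
      (pullback.snd (V₁.ι ≫ π.left) (V₂.ι ≫ π.left) ≫ V₂.ι) ≫ π.left
    rw [Category.assoc, Category.assoc, pullback.condition]
  have hνφ : ∀ k : Pₒ ⟶ V, (AlgSp.yon S).map (k ≫ ν) ≫ φ = (AlgSp.yon S).map (k ≫ π) ≫ p.toHom := by
    intro k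
    rw [Functor.map_comp, Category.assoc, sqV.w, ← Category.assoc, ← Functor.map_comp]
  obtain ⟨β, hβ⟩ := (AlgSp.yon S).map_surjective
    (sq.lift ((AlgSp.yon S).map (pr₂ ≫ ν)) ((AlgSp.yon S).map (pr₁ ≫ ν))
      (by rw [hνφ, hνφ, hpr]))
  have hβt : β ≫ t = pr₂ ≫ ν := (AlgSp.yon S).map_injective (by
    rw [Functor.map_comp, hβ, sq.lift_fst])
  have hβs : β ≫ s = pr₁ ≫ ν := (AlgSp.yon S).map_injective (by
    rw [Functor.map_comp, hβ, sq.lift_snd])
  -- finiteness of `P`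
  have hfin : (Set.univ : Set P).Finite := by
    let γ : P ⟶ Spec (.of p.K) := pullback.fst (V₁.ι ≫ π.left) (V₂.ι ≫ π.left) ≫ V₁.ι ≫ π.left
    haveI : Etale γ := inferInstance
    haveI : IsAffine p.pt.left := (inferInstance : IsAffine (Spec (CommRingCat.of p.K)))
    haveI : IsAffine P := by dsimp only [P]; infer_instance
    haveI : LocallyQuasiFinite γ := locallyQuasiFinite_of_etale γ
    have h1 := finite_preimage_singleton_of_compactSpace γ (IsLocalRing.closedPoint p.K)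
    refine h1.subset fun z _ => ?_
    exact Subsingleton.elim _ _
  refine (hfin.image β.left).subset ?_
  rintro r ⟨hs, ht⟩
  let q : AlgSp.FieldPt X.obj := AlgSp.FieldPt.ofPt ((AlgSp.yon S).map t ≫ φ) r
  have hq : AlgSp.Points.mk q = AlgSp.Points.mk p := by
    change AlgSp.Points.ofPt ((AlgSp.yon S).map t ≫ φ) r = _
    rw [ofPt_yon_map_comp, ht, hu', hp]
  obtain ⟨ψ, hψ⟩ := exists_factor_of_mono_fieldPt X.property q p hq
  let ιr : q.pt ⟶ R := Over.homMk (R.left.fromSpecResidueField r) rfl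
  have hq' : q.toHom = (AlgSp.yon S).map ιr ≫ (AlgSp.yon S).map t ≫ φ := AlgSp.FieldPt.toHom_ofPt _ _
  let ρ' : q.pt ⟶ V := hrep.lift' (ιr ≫ t) ψ (by
    rw [Functor.map_comp, Category.assoc, ← hq', hψ])
  have hρ'1 : ρ' ≫ ν = ιr ≫ t := hrep.lift'_fst _ _ _
  have hρ'2 : ρ' ≫ π = ψ := hrep.lift'_snd _ _ _
  let ρ : q.pt ⟶ V := hrep.lift' (ιr ≫ s) ψ (by
    rw [Functor.map_comp, Category.assoc, ← sq.w, ← hq', hψ])
  have hρ1 : ρ ≫ ν = ιr ≫ s := hrep.lift'_fst _ _ _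
  have hρ2 : ρ ≫ π = ψ := hrep.lift'_snd _ _ _
  have hpt : ∀ y : q.pt.left, ιr.left y = r := fun y => Scheme.fromSpecResidueField_apply r y
  have hρv : ∀ y : q.pt.left, ρ.left y = v := by
    intro y
    apply hνinj
    have := congrArg (fun m : q.pt ⟶ U => m.left y) hρ1
    simp only [Over.comp_left, Scheme.Hom.comp_apply] at this
    rw [this, hpt, hs, hv]
  have hρv' : ∀ y : q.pt.left, ρ'.left y = v' := by
    intro y
    apply hνinj
    have := congrArg (fun m : q.pt ⟶ U => m.left y) hρ'1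
    simp only [Over.comp_left, Scheme.Hom.comp_apply] at this
    rw [this, hpt, ht, hv']
  let ρ₁ : q.pt.left ⟶ (V₁ : Scheme.{u}) := IsOpenImmersion.lift V₁.ι ρ.left (by
    rintro _ ⟨y, rfl⟩
    rw [Scheme.Opens.range_ι, hρv]
    exact hvV₁)
  have hρ₁ : ρ₁ ≫ V₁.ι = ρ.left := IsOpenImmersion.lift_fac _ _ _
  let ρ₂ : q.pt.left ⟶ (V₂ : Scheme.{u}) := IsOpenImmersion.lift V₂.ι ρ'.left (by
    rintro _ ⟨y, rfl⟩
    rw [Scheme.Opens.range_ι, hρv']
    exact hvV₂)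
  have hρ₂ : ρ₂ ≫ V₂.ι = ρ'.left := IsOpenImmersion.lift_fac _ _ _
  let z : q.pt.left ⟶ P := pullback.lift ρ₁ ρ₂ (by
    rw [← Category.assoc, hρ₁, ← Category.assoc, hρ₂, ← Over.comp_left, ← Over.comp_left, hρ2, hρ'2])
  let zₒ : q.pt ⟶ Pₒ := Over.homMk z (by
    change z ≫ pullback.fst (V₁.ι ≫ π.left) (V₂.ι ≫ π.left) ≫ V₁.ι ≫ V.hom = q.pt.hom
    rw [pullback.lift_fst_assoc, ← Category.assoc, hρ₁]
    exact Over.w ρ)
  have hz1 : zₒ ≫ pr₁ = ρ := by
    ext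
    change z ≫ pullback.fst (V₁.ι ≫ π.left) (V₂.ι ≫ π.left) ≫ V₁.ι = ρ.left
    rw [pullback.lift_fst_assoc, hρ₁]
  have hz2 : zₒ ≫ pr₂ = ρ' := by
    ext
    change z ≫ pullback.snd (V₁.ι ≫ π.left) (V₂.ι ≫ π.left) ≫ V₂.ι = ρ'.left
    rw [pullback.lift_snd_assoc, hρ₂]
  have hzβ : zₒ ≫ β = ιr := by
    apply (AlgSp.yon S).map_injective
    apply sq.hom_ext
    · rw [← Functor.map_comp, ← Functor.map_comp, Category.assoc, hβt, ← Category.assoc, hz2, hρ'1]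
    · rw [← Functor.map_comp, ← Functor.map_comp, Category.assoc, hβs, ← Category.assoc, hz1, hρ1]
  let c : q.pt.left := IsLocalRing.closedPoint q.K
  refine ⟨z c, Set.mem_univ _, ?_⟩
  have := congrArg (fun m : q.pt ⟶ R => m.left c) hzβ
  simp only [Over.comp_left, Scheme.Hom.comp_apply] at this
  rw [hpt] at this
  exact this

end Groth.Agent.S10408
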