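import Groth.Statements.S10389
import Groth.Agent.Lib.helper15.AlgSpNoeth4
import Groth.Agent.Lib.helper15.AlgSpSeven2
import Groth.Agent.Lib.helper15.AlgSpLiftSpace
import Groth.Agent.Lib.helper15.AlgSpPoints3
import Groth.Agent.S10408

set_option autoImplicit false
universe u
open CategoryTheory CategoryTheory.Limits AlgebraicGeometry Topology TopologicalSpace
open AlgSp
open Groth.Agent.Lib.H15.AS

namespace Groth.Agent.S10389

theorem core {S : Scheme.{u}} {X Y Z W : AlgSp.Space S} (f : X ⟶ Y)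
    (g : Z ⟶ Y) (p : W ⟶ X) (q : W ⟶ Z) (hW : IsPullback p.hom q.hom f.hom g.hom) (x : AlgSp.Points X.obj)
    (z : AlgSp.Points Z.obj) (hxz : AlgSp.Points.map f.hom x = AlgSp.Points.map g.hom z)
    (r : AlgSp.FieldPt Y.obj) (hr : AlgSp.Points.mk r = AlgSp.Points.map g.hom z) (hmono : Mono r.toHom)
    {U V : Over S} (a : (AlgSp.yon S).obj U ⟶ Z.obj) (b : (AlgSp.yon S).obj V ⟶ Y.obj) (h : U ⟶ V)
    (u : ↥U.left) (ha : AlgSp.RepWith @Etale a) (hb : AlgSp.RepWith @Etale b)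
    (comm : a ≫ g.hom = (AlgSp.yon S).map h ≫ b) (hu : AlgSp.Points.ofPt a u = z)
    (hlqf : LocallyQuasiFinite h.left) :
    {w : AlgSp.Points W.obj | AlgSp.Points.map p.hom w = x ∧ AlgSp.Points.map q.hom w = z}.Finite := by
  obtain ⟨px, rfl⟩ := AlgSp.Points.mk_surjective x
  haveI := hmono
  have hpp : AlgSp.Points.mk (px.map f.hom) = AlgSp.Points.mk r := by
    rw [hr, ← hxz]; rfl
  obtain ⟨φK, hφK⟩ : ∃ φK : px.pt ⟶ r.pt, (AlgSp.yon S).map φK ≫ r.toHom = px.toHom ≫ f.hom := by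
    obtain ⟨φ, hφ⟩ := exists_factor_of_mono_fieldPt Y.property (px.map f.hom) r hpp
    rw [AlgSp.FieldPt.toHom_map] at hφ
    exact ⟨φ, hφ⟩
  have hrep := hb.rep
  let Vk : Over S := hrep.pullback r.toHom
  let ν : Vk ⟶ V := hrep.fst' r.toHom
  let π : Vk ⟶ r.pt := hrep.snd r.toHom
  have sqV : IsPullback ((AlgSp.yon S).map ν) ((AlgSp.yon S).map π) b r.toHom :=
    hrep.isPullback' r.toHom
  haveI hπE : Etale π.left := hb.property_snd r.toHom
  haveI : Mono ((AlgSp.yon S).map ν) := sqV.mono_fst_of_mono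
  haveI : Mono ν := (AlgSp.yon S).mono_of_mono_map inferInstance
  let Uk : Over S := pullback h ν
  let μ : Uk ⟶ U := pullback.fst h ν
  let ρ : Uk ⟶ Vk := pullback.snd h ν
  haveI : Mono μ := inferInstance
  haveI : Mono μ.left := inferInstance
  have hμinj : Function.Injective μ.left := μ.left.injective
  have sqU : IsPullback μ ρ h ν := IsPullback.of_hasPullback h ν
  have hρ : LocallyQuasiFinite ρ.left :=
    MorphismProperty.of_isPullback (P := @LocallyQuasiFinite) (sqU.map (Over.forget S)) hlqf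
  have hπq : LocallyQuasiFinite π.left := Groth.Agent.S10408.locallyQuasiFinite_of_etale π.left
  have hρπ : LocallyQuasiFinite (ρ ≫ π).left := by
    change LocallyQuasiFinite (ρ.left ≫ π.left); infer_instance
  let T : Over S := pullback φK (ρ ≫ π)
  let pr₁ : T ⟶ px.pt := pullback.fst φK (ρ ≫ π)
  let pr₂ : T ⟶ Uk := pullback.snd φK (ρ ≫ π)
  have sqT : IsPullback pr₁ pr₂ φK (ρ ≫ π) := IsPullback.of_hasPullback _ _
  have hpr₁ : LocallyQuasiFinite pr₁.left :=
    MorphismProperty.of_isPullback (P := @LocallyQuasiFinite) (sqT.flip.map (Over.forget S)) hρπ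
  have haffK : IsAffine px.pt.left := by
    change IsAffine (Spec (CommRingCat.of px.K)); infer_instance
  have haffk : IsAffine r.pt.left := by
    change IsAffine (Spec (CommRingCat.of r.K)); infer_instance
  have haffφ : IsAffineHom φK.left := inferInstance
  have hpr₂ : IsAffineHom pr₂.left :=
    MorphismProperty.of_isPullback (P := @IsAffineHom) (sqT.map (Over.forget S)) haffφ
  have sqUk : IsPullback ((AlgSp.yon S).map μ) ((AlgSp.yon S).map ρ ≫ (AlgSp.yon S).map π)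
      ((AlgSp.yon S).map h ≫ b) r.toHom := (sqU.map (AlgSp.yon S)).paste_vert sqV
  have sqT' : IsPullback ((AlgSp.yon S).map pr₁) ((AlgSp.yon S).map pr₂) ((AlgSp.yon S).map φK)
      ((AlgSp.yon S).map ρ ≫ (AlgSp.yon S).map π) := by
    have := sqT.map (AlgSp.yon S)
    rwa [Functor.map_comp] at this
  have sqBig : IsPullback ((AlgSp.yon S).map pr₂ ≫ (AlgSp.yon S).map μ) ((AlgSp.yon S).map pr₁)
      ((AlgSp.yon S).map h ≫ b) ((AlgSp.yon S).map φK ≫ r.toHom) := sqT'.flip.paste_horiz sqUk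
  have wW : ((AlgSp.yon S).map pr₁ ≫ px.toHom) ≫ f.hom =
      (((AlgSp.yon S).map pr₂ ≫ (AlgSp.yon S).map μ) ≫ a) ≫ g.hom := by
    rw [Category.assoc, ← hφK, Category.assoc, comm, sqBig.w]
  obtain ⟨tW, htW1, htW2⟩ : ∃ tW : (AlgSp.yon S).obj T ⟶ W.obj,
      tW ≫ p.hom = (AlgSp.yon S).map pr₁ ≫ px.toHom ∧
      tW ≫ q.hom = ((AlgSp.yon S).map pr₂ ≫ (AlgSp.yon S).map μ) ≫ a :=
    ⟨hW.lift _ _ wW, hW.lift_fst _ _ _, hW.lift_snd _ _ _⟩
  let F : Set ↥T.left := {t | μ.left (pr₂.left t) = u}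
  have hF : F.Finite := by
    by_cases hne : F.Nonempty
    · obtain ⟨t₀, ht₀⟩ := hne
      obtain ⟨A, hA⟩ := exists_affineOpen_mem' Uk (pr₂.left t₀)
      have hO : IsAffineOpen (pr₂.left ⁻¹ᵁ A.1) := A.2.preimage pr₂.left
      obtain ⟨O, hOe⟩ : ∃ O : T.left.Opens, O = pr₂.left ⁻¹ᵁ A.1 := ⟨_, rfl⟩
      have hsub : F ⊆ (O : Set ↥T.left) := by
        intro t ht
        have e : pr₂.left t = pr₂.left t₀ := hμinj (ht.trans ht₀.symm)
        rw [hOe]
        change pr₂.left t ∈ A.1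
        rw [e]; exact hA
      haveI : IsAffine (O : Scheme.{u}) := hOe ▸ hO
      have hsubK : Subsingleton ↥px.pt.left := by
        change Subsingleton ↥(Spec (CommRingCat.of px.K)); infer_instance
      haveI : QuasiSeparatedSpace ↥px.pt.left := by
        change QuasiSeparatedSpace ↥(Spec (CommRingCat.of px.K)); infer_instance
      haveI : QuasiCompact (O.ι ≫ pr₁.left) := inferInstance
      haveI : LocallyQuasiFinite (O.ι ≫ pr₁.left) := inferInstance
      have hfin := (O.ι ≫ pr₁.left).finite_preimage_singleton ((O.ι ≫ pr₁.left) ⟨t₀, hsub ht₀⟩)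
      have huniv : ((O.ι ≫ pr₁.left) ⁻¹' {(O.ι ≫ pr₁.left) ⟨t₀, hsub ht₀⟩}) = Set.univ := by
        ext y
        simp only [Set.mem_preimage, Set.mem_singleton_iff, Set.mem_univ, iff_true]
        exact Subsingleton.elim _ _
      rw [huniv] at hfin
      refine (hfin.image O.ι).subset ?_
      intro t ht
      exact ⟨⟨t, hsub ht⟩, Set.mem_univ _, rfl⟩
    · rw [Set.not_nonempty_iff_eq_empty] at hne
      rw [hne]; exact Set.finite_empty
  refine (hF.image (AlgSp.Points.ofPt tW)).subset ?_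
  rintro w ⟨hw1, hw2⟩
  have sqK := IsPullback.of_hasPullback p.hom px.toHom
  obtain ⟨w₁, hw₁a, hw₁b⟩ := points_exists_of_isPullback sqK w
    (AlgSp.Points.ofScheme px.pt (IsLocalRing.closedPoint px.K)) (by
      rw [hw1, ← AlgSp.Points.ofPt_eq_map_ofScheme, AlgSp.Points.ofPt_toHom])
  have sqKU := IsPullback.of_hasPullback (pullback.fst p.hom px.toHom ≫ q.hom) a
  obtain ⟨w₂, hw₂a, hw₂b⟩ := points_exists_of_isPullback sqKU w₁ (AlgSp.Points.ofScheme U u) (by
      rw [AlgSp.Points.map_comp, hw₁a, hw2, ← AlgSp.Points.ofPt_eq_map_ofScheme, hu])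
  have wθ : pullback.snd (pullback.fst p.hom px.toHom ≫ q.hom) a ≫ ((AlgSp.yon S).map h ≫ b) =
      (pullback.fst (pullback.fst p.hom px.toHom ≫ q.hom) a ≫ pullback.snd p.hom px.toHom) ≫
        ((AlgSp.yon S).map φK ≫ r.toHom) := by
    rw [← comm, ← Category.assoc, ← sqKU.w, hφK, Category.assoc, Category.assoc, ← hW.w,
      Category.assoc, ← Category.assoc (pullback.snd p.hom px.toHom), ← sqK.w, Category.assoc]
  obtain ⟨θ, hθ1, hθ2⟩ : ∃ θ : pullback (pullback.fst p.hom px.toHom ≫ q.hom) a ⟶ (AlgSp.yon S).obj T,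
      θ ≫ ((AlgSp.yon S).map pr₂ ≫ (AlgSp.yon S).map μ) =
        pullback.snd (pullback.fst p.hom px.toHom ≫ q.hom) a ∧
      θ ≫ (AlgSp.yon S).map pr₁ =
        pullback.fst (pullback.fst p.hom px.toHom ≫ q.hom) a ≫ pullback.snd p.hom px.toHom :=
    ⟨sqBig.lift _ _ wθ, sqBig.lift_fst _ _ _, sqBig.lift_snd _ _ _⟩
  have hθW : θ ≫ tW = pullback.fst (pullback.fst p.hom px.toHom ≫ q.hom) a ≫
      pullback.fst p.hom px.toHom := by
    apply hW.hom_ext
    · rw [Category.assoc, htW1, ← Category.assoc, hθ2, Category.assoc, Category.assoc, sqK.w]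
    · rw [Category.assoc, htW2, ← Category.assoc, hθ1, Category.assoc, sqKU.w]
  obtain ⟨t, ht⟩ := (AlgSp.Points.schemeHomeo T).surjective (AlgSp.Points.map θ w₂)
  refine ⟨t, ?_, ?_⟩
  · change μ.left (pr₂.left t) = u
    apply (AlgSp.Points.schemeHomeo U).injective
    have h1 := AlgSp.Points.map_yon_map_apply (pr₂ ≫ μ) t
    rw [ht, Functor.map_comp, ← AlgSp.Points.map_comp, hθ1, hw₂b] at h1
    exact h1.symm
  · rw [AlgSp.Points.ofPt_eq_map_ofScheme]
    change AlgSp.Points.map tW (AlgSp.Points.schemeHomeo T t) = w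
    rw [ht, ← AlgSp.Points.map_comp, hθW, AlgSp.Points.map_comp, hw₂a, hw₁a]

/-- Let W = X ×_Y Z be a fibre product of algebraic spaces over a scheme S with projections p, q, and
let x ∈ |X|, z ∈ |Z| lie over the same point y ∈ |Y|. If y is represented by a monomorphism Spec k ⟶
Y from the spectrum of a field and g : Z ⟶ Y is quasi-finite at z, then the set of points of |W|
mapping to x and to z is finite. (Special case: Y decent and g etale.) -/
theorem result {S : Scheme.{u}} {X Y Z W : AlgSp.Space S} (f : X ⟶ Y)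
    (g : Z ⟶ Y) (p : W ⟶ X) (q : W ⟶ Z) (hW : IsPullback p.hom q.hom f.hom g.hom) (x : AlgSp.Points X.obj)
    (z : AlgSp.Points Z.obj) (hxz : AlgSp.Points.map f.hom x = AlgSp.Points.map g.hom z)
    (hy : ∃ r : AlgSp.FieldPt Y.obj, AlgSp.Points.mk r = AlgSp.Points.map g.hom z ∧ Mono r.toHom)
    (hg : AlgSp.HasAtMor (fun U _ h u => ∃ W : U.Opens, u ∈ W ∧ LocallyQuasiFinite (W.ι ≫ h) ∧ LocallyOfFiniteType (W.ι ≫ h)) g.hom z) :
    {w : AlgSp.Points W.obj | AlgSp.Points.map p.hom w = x ∧ AlgSp.Points.map q.hom w = z}.Finite := by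
  obtain ⟨r, hr, hmono⟩ := hy
  obtain ⟨U, V, a, b, h, u, ha, hb, comm, hu, W₀, huW, hlqf, -⟩ := hg
  refine core f g p q hW x z hxz r hr hmono ((AlgSp.yon S).map (overOpenι U W₀) ≫ a) b
    (overOpenι U W₀ ≫ h) ⟨u, huW⟩ (repWith_etale_overOpen a ha W₀) hb ?_ ?_ ?_
  · rw [Category.assoc, comm, Functor.map_comp, Category.assoc]
  · rw [ofPt_yon_map_comp]
    exact hu
  · change LocallyQuasiFinite (W₀.ι ≫ h.left)
    exact hlqf

end Groth.Agent.S10389
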