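import Groth.Statements.S10414
import Groth.Agent.S10371
import Groth.Agent.Lib.helper15.AlgSpEtale2
import Groth.Agent.Lib.helper15.AlgSpQC

set_option autoImplicit false
universe u
open CategoryTheory CategoryTheory.Limits AlgebraicGeometry Topology TopologicalSpace
open AlgSp
open Groth.Agent.Lib.H15.AS

namespace Groth.Agent.S10414

/-- Let S be a scheme, X an algebraic space over S, x ∈ |X|, and Z_x ⟶ X the residual space of x (a
monomorphism with image {x} from a space which admits a locally finitely presented, flat, surjective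
morphism whose source is the spectrum of a field). Then Z_x is isomorphic to Spec k' for some field
k' if and only if the point x is represented by some monomorphism Spec k ⟶ X. (The decent case, in
which the right side holds at every point, is not part of this row.) -/
theorem result {S : Scheme.{u}} (X : AlgSp.Space S) (x : AlgSp.Points X.obj)
    {Z : AlgSp.Space S} (i : Z ⟶ X) [Mono i.hom] (hi : Set.range (AlgSp.Points.map i.hom) = {x})
    (hZ : ∃ (k : Type u) (_ : Field k) (str : Spec (CommRingCat.of k) ⟶ S) (p : (AlgSp.yon S).obj (Over.mk str) ⟶ Z.obj),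
        AlgSp.LocP @LocallyOfFinitePresentation p ∧ AlgSp.LocP @Flat p ∧ AlgSp.IsSurjectiveMor p) :
    (∃ (k : Type u) (_ : Field k) (str : Spec (CommRingCat.of k) ⟶ S), Nonempty (Z.obj ≅ (AlgSp.yon S).obj (Over.mk str))) ↔
      ∃ p : AlgSp.FieldPt X.obj, AlgSp.Points.mk p = x ∧ Mono p.toHom := by

  constructor
  · rintro ⟨k, hk, str, ⟨e⟩⟩
    let q : (AlgSp.yon S).obj (Over.mk str) ⟶ X.obj := e.inv ≫ i.hom
    let P : AlgSp.FieldPt X.obj := ⟨k, str, (AlgSp.J S).uliftYonedaEquiv q⟩
    have hP : P.toHom = q := Equiv.symm_apply_apply _ _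
    refine ⟨P, ?_, ?_⟩
    · have h1 : AlgSp.Points.mk P = AlgSp.Points.ofPt P.toHom (IsLocalRing.closedPoint k) :=
        (AlgSp.Points.ofPt_toHom P _).symm
      have h2 : AlgSp.Points.ofPt P.toHom (IsLocalRing.closedPoint k) ∈
          Set.range (AlgSp.Points.map i.hom) := by
        rw [hP]
        exact ⟨AlgSp.Points.ofPt e.inv (IsLocalRing.closedPoint k), rfl⟩
      rw [hi] at h2
      rw [h1]; exact h2
    · rw [hP]; infer_instance
  · rintro ⟨p, hp, hm⟩
    let Z' : AlgSp.Space S := ⟨(AlgSp.yon S).obj p.pt, AlgSp.IsAlgSpace.yon_obj _⟩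
    let i' : Z' ⟶ X := ObjectProperty.homMk p.toHom
    have : Mono i'.hom := hm
    have hi' : Set.range (AlgSp.Points.map i'.hom) = {x} := by
      ext y
      constructor
      · rintro ⟨t, rfl⟩
        obtain ⟨s, rfl⟩ := (AlgSp.Points.schemeHomeo p.pt).surjective t
        have : AlgSp.Points.map p.toHom (AlgSp.Points.ofPt (𝟙 _) s) = AlgSp.Points.mk p := by
          rw [AlgSp.Points.map_ofPt, Category.id_comp]; exact AlgSp.Points.ofPt_toHom p s
        exact this.trans hp
      · rintro rfl
        refine ⟨AlgSp.Points.ofPt (𝟙 _) (IsLocalRing.closedPoint p.K), ?_⟩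
        have : AlgSp.Points.map p.toHom (AlgSp.Points.ofPt (𝟙 _) (IsLocalRing.closedPoint p.K)) =
            AlgSp.Points.mk p := by
          rw [AlgSp.Points.map_ofPt, Category.id_comp]; exact AlgSp.Points.ofPt_toHom p _
        exact this.trans hp
    have hZ' : ∃ (k : Type u) (_ : Field k) (str : Spec (CommRingCat.of k) ⟶ S)
        (q : (AlgSp.yon S).obj (Over.mk str) ⟶ Z'.obj),
        AlgSp.LocP @LocallyOfFinitePresentation q ∧ AlgSp.LocP @Flat q ∧ AlgSp.IsSurjectiveMor q := by
      refine ⟨p.K, inferInstance, p.str, 𝟙 _, ?_, ?_, fun y => ⟨y, ?_⟩⟩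
      · exact locP_of_chart_gen goodP_lfp (𝟙 _) (𝟙 _) (𝟙 p.pt) (AlgSp.repWith_id _ _)
          (AlgSp.repWith_id _ _) (AlgSp.repWith_id _ _) (by simp) (by simpa using (inferInstance : LocallyOfFinitePresentation (𝟙 p.pt.left)))
      · exact locP_of_chart_gen goodP_flat (𝟙 _) (𝟙 _) (𝟙 p.pt) (AlgSp.repWith_id _ _)
          (AlgSp.repWith_id _ _) (AlgSp.repWith_id _ _) (by simp) (by simpa using (inferInstance : Flat (𝟙 p.pt.left)))
      · exact congrFun (points_map_comp_fun (𝟙 _) (𝟙 _)) y ▸ (by simp [AlgSp.Points.map_id])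
    obtain ⟨e, -⟩ := Groth.Agent.S10371.result X x i i' hi hi' hZ hZ'
    exact ⟨p.K, inferInstance, p.str, ⟨(ObjectProperty.ι _).mapIso e.symm⟩⟩

end Groth.Agent.S10414
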