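import Groth.Statements.S10465
import Groth.Agent.Lib.helper15.AlgSpFieldBC
import Groth.Agent.Lib.helper7.GeomRed3

set_option autoImplicit false
universe u
open CategoryTheory CategoryTheory.Limits AlgebraicGeometry Topology TopologicalSpace
open AlgSp
open Groth.Agent.Lib.H15.AS

namespace Groth.Agent.S10465

/-- For a field extension k'/k and an algebraic space X over k, geometric connectedness of X over k is
equivalent to geometric connectedness of its base change X_{k'} over k' (the base changes of X_{k'}
to extensions K of k' being the base changes X_K of X, geometric connectedness of X_{k'} over k'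
reads: |X_K| is connected for every field K over k'). -/
theorem result (k : Type u) [Field k] (X : AlgSp.Space (Spec (CommRingCat.of k))) (k' : Type u) [Field k'] [Algebra k k'] :
    (∀ (K : Type u) [Field K] [Algebra k K], ConnectedSpace (AlgSp.Points (X.obj ⨯ (AlgSp.yon (Spec (CommRingCat.of k))).obj (Over.mk (Spec.map (CommRingCat.ofHom (algebraMap k K))))))) ↔
      ∀ (K : Type u) [Field K] [Algebra k K] [Algebra k' K] [IsScalarTower k k' K],
        ConnectedSpace (AlgSp.Points (X.obj ⨯ (AlgSp.yon (Spec (CommRingCat.of k))).obj (Over.mk (Spec.map (CommRingCat.ofHom (algebraMap k K)))))) := by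

  constructor
  · intro H K _ _ _ _
    exact H K
  · intro H K _ _
    obtain ⟨L, hL, φK, φΩ, hφ⟩ := Groth.Agent.Lib.helper7.GeomRed3.exists_common_extension k K k'
    letI : Algebra k L := (φK.comp (algebraMap k K)).toAlgebra
    letI : Algebra k' L := φΩ.toAlgebra
    have : IsScalarTower k k' L := IsScalarTower.of_algebraMap_eq' hφ
    have hconn := H L
    let g : specOver k L ⟶ specOver k K := Over.homMk (Spec.map (CommRingCat.ofHom φK)) (by
      change Spec.map (CommRingCat.ofHom φK) ≫ Spec.map (CommRingCat.ofHom (algebraMap k K)) =
        Spec.map (CommRingCat.ofHom (algebraMap k L))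
      rw [← Spec.map_comp]
      rfl)
    exact (isSurjectiveMor_bcSpMap X.obj g).connectedSpace (AlgSp.Points.continuous_map _)

end Groth.Agent.S10465
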