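import Groth.Statements.S1560
import Mathlib
import Groth.Agent.S8193
import Groth.Agent.S1541

set_option autoImplicit false
universe u
open CategoryTheory CategoryTheory.Limits AlgebraicGeometry
open Variety

namespace Groth.Agent.S1560


open TensorProduct in
theorem isGeometricallyReduced_of_perfectField_of_isReduced (k A : Type u) [Field k] [CommRing A]
    [Algebra k A] [PerfectField k] [_root_.IsReduced A] : Algebra.IsGeometricallyReduced k A := by
  rw [Algebra.isGeometricallyReduced_field_iff]
  haveI : _root_.IsReduced (A ⊗[k] AlgebraicClosure k) := by
    refine IsReduced.tensorProduct_of_flat_of_forall_fg fun E hE => ?_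
    haveI : Algebra.FiniteType k E := (Subalgebra.fg_iff_finiteType E).1 hE
    haveI : Algebra.IsIntegral k E :=
      Algebra.IsIntegral.of_injective E.val Subtype.val_injective
    have hEf : IsField E := isField_of_isIntegral_of_isField' (R := k) (Field.toIsField k)
    letI : Field E := hEf.toField
    haveI : Algebra.IsAlgebraic k E := inferInstance
    haveI : Algebra.IsSeparable k E := inferInstance
    haveI : Module.Finite k E := Algebra.IsIntegral.finite
    haveI : Algebra.FormallyEtale k E := Algebra.FormallyEtale.of_isSeparable k E
    haveI : Algebra.FinitePresentation k E := Algebra.FinitePresentation.of_finiteType.mp inferInstance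
    haveI : Algebra.Etale k E := {}
    haveI : Algebra.Etale A (A ⊗[k] E) := inferInstance
    haveI : Module.Finite A (A ⊗[k] E) := inferInstance
    exact Groth.Agent.S8193.isReduced_of_finite_etale A (A ⊗[k] E)
  exact isReduced_of_injective (Algebra.TensorProduct.comm k (AlgebraicClosure k) A).toAlgHom
    (AlgEquiv.injective _)

/-- Let X be a scheme over a perfect field k and x a point whose local ring is reduced. Then X is
geometrically reduced at x. -/
theorem result (k : Type u) [Field k] (X : Scheme.{u}) [X.Over (Spec (CommRingCat.of k))] [PerfectField k] (x : X)
    [IsReduced (X.presheaf.stalk x)] : Curv2.IsGeomReducedAt k X x := by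
  rw [Groth.Agent.S1541.result]
  letI := Curv2.stalkAlgebra k X x
  exact isGeometricallyReduced_of_perfectField_of_isReduced k (X.presheaf.stalk x)

end Groth.Agent.S1560
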