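import Groth.Statements.S10475
import Groth.Agent.Lib.helper15.AlgSpGeomRed
import Groth.Agent.Lib.helper7.StalkBC
import Groth.Agent.S1560

set_option autoImplicit false
universe u
open CategoryTheory CategoryTheory.Limits AlgebraicGeometry Topology TopologicalSpace
open AlgSp

namespace Groth.Agent.S10475

/-- Let k be a perfect field and X a reduced algebraic space over k. Then X is geometrically reduced
over k (geometrically reduced at every point). -/
theorem result (k : Type u) [Field k] [PerfectField k]
    (X : AlgSp.Space (Spec (CommRingCat.of k))) (hX : AlgSp.EtaleLocally (fun U => IsReduced U) X.obj) (x : AlgSp.Points X.obj) :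
    (∃ (U : Over (Spec (CommRingCat.of k))) (a : (AlgSp.yon (Spec (CommRingCat.of k))).obj U ⟶ X.obj) (u : ↥U.left),
      AlgSp.RepWith @Etale a ∧ AlgSp.Points.ofPt a u = x ∧ FBase.IsGeomReducedAt U.hom u) := by

  obtain ⟨U, a, hae, has, hUred⟩ := hX
  obtain ⟨u, hu⟩ := Groth.Agent.Lib.H15.AS.surjective_ofPt a has x
  refine ⟨U, a, u, hae, hu, ?_⟩
  intro K _ _ x' hx'
  have hUr : IsReduced U.left := hUred
  letI : Algebra k (U.left.presheaf.stalk u) :=
    ((U.left.presheaf.germ ⊤ u trivial).hom.comp
      (U.hom.appTop.hom.comp (Scheme.ΓSpecIso (CommRingCat.of k)).inv.hom)).toAlgebra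
  have hφ : Spec.map (CommRingCat.ofHom (algebraMap k (U.left.presheaf.stalk u))) =
      U.left.fromSpecStalk u ≫ U.hom :=
    (Groth.Agent.Lib.helper7.StalkBC.fromSpecStalk_comp U.hom u).symm
  have : _root_.IsReduced (U.left.presheaf.stalk u) := inferInstance
  have : Algebra.IsGeometricallyReduced k (U.left.presheaf.stalk u) :=
    Groth.Agent.S1560.isGeometricallyReduced_of_perfectField_of_isReduced k _
  exact Groth.Agent.Lib.helper7.StalkBC.isReduced_stalk_pullback U.hom u hφ
    (Spec.map (CommRingCat.ofHom (algebraMap k K))) x' hx'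

end Groth.Agent.S10475
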