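import Groth.Statements.S10476
import Groth.Agent.Lib.helper15.AlgSpFieldBC
import Groth.Agent.Lib.helper15.AlgSpRedStalk
import Groth.Agent.Lib.helper15.AlgSpGeomRed

set_option autoImplicit false
universe u
open CategoryTheory CategoryTheory.Limits AlgebraicGeometry Topology TopologicalSpace
open AlgSp
open Groth.Agent.Lib.H15.AS

namespace Groth.Agent.S10476

/-- (1) ⇔ (2): let k be a field of characteristic p > 0 and X an algebraic space over k. Then X is
geometrically reduced over k exactly when X_K is reduced for all field extensions K of k. -/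
theorem result (k : Type u) [Field k] (p : ℕ) [Fact p.Prime] [CharP k p]
    (X : AlgSp.Space (Spec (CommRingCat.of k))) :
    (∀ x : AlgSp.Points X.obj, (∃ (U : Over (Spec (CommRingCat.of k))) (a : (AlgSp.yon (Spec (CommRingCat.of k))).obj U ⟶ X.obj) (u : ↥U.left),
      AlgSp.RepWith @Etale a ∧ AlgSp.Points.ofPt a u = x ∧ FBase.IsGeomReducedAt U.hom u)) ↔
      ∀ (K : Type u) [Field K] [Algebra k K], AlgSp.EtaleLocally (fun U => IsReduced U) (X.obj ⨯ (AlgSp.yon (Spec (CommRingCat.of k))).obj (Over.mk (Spec.map (CommRingCat.ofHom (algebraMap k K))))) := by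

  constructor
  · intro H K _ _
    obtain ⟨U, a, hae, has⟩ := X.property.atlas
    refine ⟨bcOver U K, bcChart a K, repWith_bcChart @Etale a hae K, repWith_bcChart @Surjective a has K, ?_⟩
    change IsReduced (FBase.bc U.hom K)
    apply +allowSynthFailures isReduced_of_isReduced_stalk
    intro x'
    have h1 := (geomRedAt_iff_forall X.property _).1 (H (AlgSp.Points.ofPt a ((FBase.bcπ U.hom K).base x')))
      U a _ hae rfl
    exact h1 K x' rfl
  · intro H x
    obtain ⟨U, a, hae, has⟩ := X.property.atlas
    obtain ⟨u, hu⟩ := surjective_ofPt a has x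
    refine ⟨U, a, u, hae, hu, ?_⟩
    intro K _ _ x' hx'
    have hred : IsReduced (bcOver U K).left :=
      isReduced_of_isReducedSp (H K) (bcChart a K) (repWith_bcChart @Etale a hae K)
    have : IsReduced (FBase.bc U.hom K) := hred
    infer_instance

end Groth.Agent.S10476
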