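import Groth.Statements.S10478
import Groth.Agent.Lib.helper15.AlgSpFieldBC
import Groth.Agent.Lib.helper15.AlgSpRedStalk
import Groth.Agent.Lib.helper7.GeomRed
import Groth.Agent.S1548

set_option autoImplicit false
universe u
open CategoryTheory CategoryTheory.Limits AlgebraicGeometry Topology TopologicalSpace
open AlgSp

namespace Groth.Agent.S10478

open Groth.Agent.Lib.H15.AS

/-- (3) ⇒ (2): let k be a field of characteristic p > 0 and X an algebraic space over k. If X_{k'} is
reduced whenever k' is a finite purely inseparable extension of k, then X_K is reduced for every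
field extension K of k. -/
theorem result (k : Type u) [Field k] (p : ℕ) [Fact p.Prime]
    [CharP k p] (X : AlgSp.Space (Spec (CommRingCat.of k)))
    (h : ∀ (k' : Type u) [Field k'] [Algebra k k'], Module.Finite k k' → IsPurelyInseparable k k' →
      AlgSp.EtaleLocally (fun U => IsReduced U) (X.obj ⨯ (AlgSp.yon (Spec (CommRingCat.of k))).obj (Over.mk (Spec.map (CommRingCat.ofHom (algebraMap k k'))))))
    (K : Type u) [Field K] [Algebra k K] : AlgSp.EtaleLocally (fun U => IsReduced U) (X.obj ⨯ (AlgSp.yon (Spec (CommRingCat.of k))).obj (Over.mk (Spec.map (CommRingCat.ofHom (algebraMap k K))))) := by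
  obtain ⟨U, a, hae, has⟩ := X.property.atlas
  let _ : U.left.Over (Spec (CommRingCat.of k)) := ⟨U.hom⟩
  have hgr : GeometricallyReduced U.hom := by
    refine Groth.Agent.S1548.result k p U.left ?_
    intro k' _ _ _ _
    have hred1 : IsReduced (bcOver U k').left :=
      isReduced_of_isReducedSp (h k' inferInstance inferInstance) (bcChart a k')
        (repWith_bcChart @Etale a hae k')
    exact hred1
  have hred2 : IsReduced (pullback U.hom (Spec.map (CommRingCat.ofHom (algebraMap k K)))) :=
    Groth.Agent.Lib.helper7.GeomRed.isReduced_pullback_of_geometricallyReduced U.hom _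
  exact ⟨bcOver U K, bcChart a K, repWith_bcChart @Etale a hae K, repWith_bcChart @Surjective a has K, hred2⟩

end Groth.Agent.S10478
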