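import Groth.Statements.S10481
import Groth.Agent.Lib.helper15.AlgSpGeomRed

set_option autoImplicit false
universe u
open CategoryTheory CategoryTheory.Limits AlgebraicGeometry Topology TopologicalSpace
open AlgSp

namespace Groth.Agent.S10481

/-- Let k be a field, f : X ⟶ Y a morphism of algebraic spaces over k and x a point of X at which f is
etale. Then X is geometrically reduced at x if and only if Y is geometrically reduced at the image
of x. -/
theorem result (k : Type u) [Field k] {X Y : AlgSp.Space (Spec (CommRingCat.of k))} (f : X ⟶ Y)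
    (x : AlgSp.Points X.obj)
    (he : AlgSp.HasAtMor (fun U _ h u => ∃ W : U.Opens, u ∈ W ∧ Etale (W.ι ≫ h)) f.hom x) :
    (∃ (U : Over (Spec (CommRingCat.of k))) (a : (AlgSp.yon (Spec (CommRingCat.of k))).obj U ⟶ X.obj) (u : ↥U.left),
      AlgSp.RepWith @Etale a ∧ AlgSp.Points.ofPt a u = x ∧ FBase.IsGeomReducedAt U.hom u) ↔ (∃ (U : Over (Spec (CommRingCat.of k))) (a : (AlgSp.yon (Spec (CommRingCat.of k))).obj U ⟶ Y.obj) (u : ↥U.left),
      AlgSp.RepWith @Etale a ∧ AlgSp.Points.ofPt a u = (AlgSp.Points.map f.hom x) ∧ FBase.IsGeomReducedAt U.hom u) := by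

  obtain ⟨U, V, a, b, h, u, ha, hb, comm, hu, W, huW, hW⟩ := he
  have hι : Etale (Groth.Agent.Lib.H15.AS.overOpenι U W).left := by
    change Etale W.ι; infer_instance
  have hcomp : Etale (Groth.Agent.Lib.H15.AS.overOpenι U W ≫ h).left := hW
  have e1 := Groth.Agent.Lib.H15.AS.isGeomReducedAt_iff_of_etale
    (Groth.Agent.Lib.H15.AS.overOpenι U W) hι (⟨u, huW⟩ : ↥(Groth.Agent.Lib.H15.AS.overOpen U W).left)
  have e2 := Groth.Agent.Lib.H15.AS.isGeomReducedAt_iff_of_etale
    (Groth.Agent.Lib.H15.AS.overOpenι U W ≫ h) hcomp (⟨u, huW⟩ : ↥(Groth.Agent.Lib.H15.AS.overOpen U W).left)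
  have e3 : FBase.IsGeomReducedAt U.hom u ↔ FBase.IsGeomReducedAt V.hom (h.left u) := e1.symm.trans e2
  have hv : AlgSp.Points.ofPt b (h.left u) = AlgSp.Points.map f.hom x := by
    rw [← Groth.Agent.Lib.H15.AS.ofPt_yon_map_comp, ← comm, ← hu]; rfl
  constructor
  · intro H
    have := (Groth.Agent.Lib.H15.AS.geomRedAt_iff_forall X.property x).1 H U a u ha hu
    exact ⟨V, b, h.left u, hb, hv, e3.1 this⟩
  · intro H
    have := (Groth.Agent.Lib.H15.AS.geomRedAt_iff_forall Y.property _).1 H V b (h.left u) hb hv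
    exact ⟨U, a, u, ha, hu, e3.2 this⟩

end Groth.Agent.S10481
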