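import Groth.Statements.S10508
import Groth.Agent.Lib.helper15.AlgSpFpqcCov3

set_option autoImplicit false
universe u
open CategoryTheory CategoryTheory.Limits AlgebraicGeometry
open AlgSp

namespace Groth.Agent.S10508

/-- Let `X` be an algebraic space over `S`, `{X_i ⟶ X}` a family of morphisms of algebraic spaces and
`h_U ⟶ X` a representable etale, representable surjective map from a scheme `U` over `S`, with
pullback squares of sheaves exhibiting algebraic spaces `U_i` as `U ×_X X_i`. Then `{X_i ⟶ X}` is an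
fpqc covering of `X` if and only if `{U_i ⟶ h_U}` is an fpqc covering of `h_U`. -/
theorem result {S : Scheme.{u}} (X : AlgSp.Space S) {ι : Type u}
    (Xi : ι → AlgSp.Space S) (g : ∀ i, Xi i ⟶ X) {U : Over S} (p : (AlgSp.yon S).obj U ⟶ X.obj)
    (hp : AlgSp.RepWith @Etale p) (hps : AlgSp.RepWith @Surjective p)
    (Ui : ι → AlgSp.Space S) (q : ∀ i, (Ui i).obj ⟶ (AlgSp.yon S).obj U) (p' : ∀ i, Ui i ⟶ Xi i)
    (sq : ∀ i, IsPullback (q i) (p' i).hom p (g i).hom) :
    AlgSp.IsFpqcCover (fun i => (Xi i).obj) (fun i => (g i).hom) ↔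
      AlgSp.IsFpqcCover (fun i => (Ui i).obj) q := by
  constructor
  · intro h
    exact Groth.Agent.Lib.H15.AS.isFpqcCover_of_isPullback X.property (AlgSp.IsAlgSpace.yon_obj U) p
      (fun i => (Xi i).obj) (fun i => (Xi i).property) (fun i => (g i).hom) (fun i => (Ui i).obj) q
      (fun i => (p' i).hom) sq h
  · intro h
    exact Groth.Agent.Lib.H15.AS.isFpqcCover_of_chart (fun i => (Xi i).obj) (fun i => (g i).hom) p hp hps
      (fun i => (Ui i).obj) (fun i => (Ui i).property) q (fun i => (p' i).hom) sq h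

end Groth.Agent.S10508
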