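import Groth.Statements.S1051
import Mathlib
-- import your own Groth.Agent.* helpers here

set_option autoImplicit false
universe v u
open CategoryTheory
open CohDer

namespace Groth.Agent.S1051


section helpers
open CategoryTheory.Pretriangulated CategoryTheory.Limits ZeroObject
set_option linter.unusedSectionVars false

variable {D : Type u} [Category.{v} D] [Preadditive D] [HasZeroObject D] [HasShift D ℤ]
    [∀ n : ℤ, (shiftFunctor D n).Additive] [Pretriangulated D]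

/-- Lemma Z -/
lemma eq_zero_of_comp_eq_zero {Y' X' Y : D} (a : Y' ⟶ X') (b : X' ⟶ Y)
    (c : Y ⟶ (shiftFunctor D (1 : ℤ)).obj Y') (hT : Triangle.mk a b c ∈ distTriang D) (M : D)
    (hM : ∀ ψ : (shiftFunctor D (1 : ℤ)).obj M ⟶ Y, ψ = 0) (φ : M ⟶ Y') (hφ : φ ≫ a = 0) :
    φ = 0 := by
  have h1 : (shiftFunctor D (1 : ℤ)).map φ ≫ (shiftFunctor D (1 : ℤ)).map a = 0 := by
    rw [← Functor.map_comp, hφ, Functor.map_zero]
  obtain ⟨ψ, hψ⟩ := Triangle.coyoneda_exact₁ _ hT ((shiftFunctor D (1 : ℤ)).map φ) h1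
  have hψ' : (shiftFunctor D (1 : ℤ)).map φ = 0 := by
    refine hψ.trans ?_
    rw [hM ψ]
    exact zero_comp
  apply (shiftFunctor D (1 : ℤ)).map_injective
  rw [hψ', Functor.map_zero]

lemma zero_of_shift_eq {A Y : D} {s t : ℤ} (h : s = t)
    (hs : ∀ φ : (shiftFunctor D s).obj A ⟶ Y, φ = 0) :
    ∀ φ : (shiftFunctor D t).obj A ⟶ Y, φ = 0 := by
  subst h; exact hs

lemma zero_of_shift_add {A Y : D} {s t : ℤ} (h : s + 1 = t)
    (ht : ∀ φ : (shiftFunctor D t).obj A ⟶ Y, φ = 0) :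
    ∀ ψ : (shiftFunctor D (1 : ℤ)).obj ((shiftFunctor D s).obj A) ⟶ Y, ψ = 0 := by
  intro ψ
  have h1 := ht (((shiftFunctorAdd' D s 1 t h).app A).hom ≫ ψ)
  rw [← cancel_epi ((shiftFunctorAdd' D s 1 t h).app A).hom, h1, comp_zero]

structure St (X : ChainComplex D ℕ) (n k : ℕ) where
  Y : D
  a : Y ⟶ X.X k
  inv : ∀ i : ℕ, k + 2 < i → i ≤ n →
    ∀ φ : (shiftFunctor D ((i : ℤ) - (k : ℤ) - 2)).obj (X.X i) ⟶ Y, φ = 0
  r : k + 2 ≤ n → ∀ θ : X.X (k + 2) ⟶ Y, θ ≫ a = 0 → θ = 0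
  b : k + 1 ≤ n → ∃ b : X.X (k + 1) ⟶ Y, b ≫ a = X.d (k + 1) k

structure Step (X : ChainComplex D ℕ) (n k : ℕ) (s : St X n k) where
  t : St X n (k + 1)
  b : X.X (k + 1) ⟶ s.Y
  c : s.Y ⟶ (shiftFunctor D (1 : ℤ)).obj t.Y
  h : k < n → Triangle.mk t.a b c ∈ distTriang D ∧ b ≫ s.a = X.d (k + 1) k

lemma exists_step (X : ChainComplex D ℕ) (n : ℕ)
    (hX : ∀ i j : ℕ, j + 2 < i → i ≤ n →
      ∀ φ : (shiftFunctor D ((i : ℤ) - j - 2)).obj (X.X i) ⟶ X.X j, φ = 0)
    (k : ℕ) (s : St X n k) : Nonempty (Step X n k s) := by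
  by_cases hk : k < n
  · obtain ⟨b, hb⟩ := s.b hk
    obtain ⟨Z, f, h, hT⟩ := distinguished_cocone_triangle₁ b
    refine ⟨{ t := { Y := Z, a := f, inv := ?_, r := ?_, b := ?_ }, b := b, c := h,
              h := fun _ => ⟨hT, hb⟩ }⟩
    · intro i hi hin φ
      refine eq_zero_of_comp_eq_zero f b h hT _ ?_ φ ?_
      · exact zero_of_shift_add (by push_cast; ring) (s.inv i (by omega) hin)
      · exact hX i (k + 1) hi hin _
    · intro hk3 θ hθ
      refine eq_zero_of_comp_eq_zero f b h hT _ ?_ θ hθ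
      exact zero_of_shift_eq (by push_cast; ring) (s.inv (k + 3) (by omega) hk3)
    · intro hk2
      have hθ : X.d (k + 2) (k + 1) ≫ b = 0 :=
        s.r hk2 _ (by rw [Category.assoc, hb, X.d_comp_d])
      obtain ⟨g, hg⟩ := Triangle.coyoneda_exact₂ _ hT (X.d (k + 2) (k + 1)) hθ
      exact ⟨g, hg.symm⟩
  · refine ⟨{ t := { Y := (0 : D), a := 0, inv := ?_, r := ?_, b := ?_ }, b := 0, c := 0,
              h := fun h => absurd h hk }⟩
    · intro i hi hin; omega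
    · intro h; omega
    · intro h; omega

noncomputable def state (X : ChainComplex D ℕ) (n : ℕ)
    (hX : ∀ i j : ℕ, j + 2 < i → i ≤ n →
      ∀ φ : (shiftFunctor D ((i : ℤ) - j - 2)).obj (X.X i) ⟶ X.X j, φ = 0) :
    ∀ k : ℕ, St X n k := fun k =>
  Nat.rec (motive := fun k => St X n k)
    { Y := X.X 0
      a := 𝟙 _
      inv := fun i hi hin φ => hX i 0 hi hin φ
      r := fun _ θ hθ => by simpa using hθ
      b := fun _ => ⟨X.d 1 0, by simp⟩ }
    (fun k s => (Classical.choice (exists_step X n hX k s)).t) k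

end helpers

open CategoryTheory.Pretriangulated in
/-- Let X be a chain complex in a triangulated category D and n a natural number; consider the finite
complex Xₙ → Xₙ₋₁ → … → X₀. If every morphism Xᵢ[i - j - 2] ⟶ Xⱼ with j + 2 < i ≤ n vanishes, then
there is a Postnikov system for it: objects Yₖ (k ≤ n), an isomorphism Y₀ ⟶ X₀, and for each k < n a
distinguished triangle Yₖ₊₁ ⟶ Xₖ₊₁ ⟶ Yₖ ⟶ Yₖ₊₁[1] such that Xₖ₊₁ ⟶ Yₖ ⟶ Xₖ is the differential of X. -/
theorem result {D : Type u} [Category.{v} D] [Preadditive D] [Limits.HasZeroObject D] [HasShift D ℤ]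
    [∀ n : ℤ, (shiftFunctor D n).Additive] [Pretriangulated D] [IsTriangulated D]
    (X : ChainComplex D ℕ) (n : ℕ)
    (hX : ∀ i j : ℕ, j + 2 < i → i ≤ n → ∀ φ : (shiftFunctor D ((i : ℤ) - j - 2)).obj (X.X i) ⟶ X.X j, φ = 0) :
    ∃ (Y : ℕ → D) (a : ∀ k, Y k ⟶ X.X k) (b : ∀ k, X.X (k + 1) ⟶ Y k) (c : ∀ k, Y k ⟶ (shiftFunctor D (1 : ℤ)).obj (Y (k + 1))),
      IsIso (a 0) ∧ ∀ k, k < n → Triangle.mk (a (k + 1)) (b k) (c k) ∈ distinguishedTriangles ∧ b k ≫ a k = X.d (k + 1) k := by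
  refine ⟨fun k => (state X n hX k).Y, fun k => (state X n hX k).a,
    fun k => (Classical.choice (exists_step X n hX k (state X n hX k))).b,
    fun k => (Classical.choice (exists_step X n hX k (state X n hX k))).c, ?_, ?_⟩
  · show IsIso (𝟙 (X.X 0))
    infer_instance
  · intro k hk
    exact (Classical.choice (exists_step X n hX k (state X n hX k))).h hk

end Groth.Agent.S1051
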