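import Groth.Statements.S10510
import Groth.Agent.Lib.helper15.AlgSpCover2

set_option autoImplicit false
universe u
open CategoryTheory CategoryTheory.Limits AlgebraicGeometry
open AlgSp
open Groth.Agent.Lib.H15.AS

namespace Groth.Agent.S10510

/-- An fppf covering `{X_i ⟶ X}` of an algebraic space `X` over `S` by algebraic spaces is jointly
surjective as a family of maps of fppf sheaves: every `h_T ⟶ X` from a scheme `T` over `S` lifts,
locally for the fppf topology on `T`, through members of the family. -/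
theorem result {S : Scheme.{u}} (X : AlgSp.Space S) {ι : Type u}
    (Xi : ι → AlgSp.Space S) (g : ∀ i, Xi i ⟶ X)
    (h : AlgSp.IsFppfCover (fun i => (Xi i).obj) (fun i => (g i).hom))
    (T : Over S) (t : (AlgSp.yon S).obj T ⟶ X.obj) :
    ∃ (κ : Type u) (Tk : κ → Over S) (c : ∀ k, Tk k ⟶ T),
      Sieve.ofArrows Tk c ∈ AlgSp.J S T ∧
      ∀ k, ∃ (i : ι) (l : (AlgSp.yon S).obj (Tk k) ⟶ (Xi i).obj), l ≫ (g i).hom = (AlgSp.yon S).map (c k) ≫ t := by

  classical
  obtain ⟨hP, hsurj⟩ := h
  have hT : AlgSp.IsAlgSpace ((AlgSp.yon S).obj T) := AlgSp.IsAlgSpace.yon_obj T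
  -- the fibre products and their atlases
  have key : ∀ i, ∃ (U : Over S) (c : U ⟶ T) (l : (AlgSp.yon S).obj U ⟶ (Xi i).obj),
      l ≫ (g i).hom = (AlgSp.yon S).map c ≫ t ∧ Flat c.left ∧ LocallyOfFinitePresentation c.left ∧
      ∀ (y : AlgSp.Points (Xi i).obj) (x : T.left),
        AlgSp.Points.map (g i).hom y = AlgSp.Points.ofPt t x → x ∈ Set.range c.left := by
    intro i
    have sq := IsPullback.of_hasPullback (g i).hom t
    have hF : AlgSp.IsAlgSpace (pullback (g i).hom t) :=
      isAlgSpace_of_isPullback X.property.diag (Xi i).property hT sq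
    obtain ⟨U, a, hae, has⟩ := hF.atlas
    obtain ⟨c, hc⟩ := (AlgSp.yon S).map_surjective (a ≫ pullback.snd (g i).hom t)
    have hfl : AlgSp.LocP @Flat (pullback.snd (g i).hom t) :=
      locP_of_isPullback_gen goodP_flat (Xi i).property X.property hT sq (hP i).1
    have hlfp : AlgSp.LocP @LocallyOfFinitePresentation (pullback.snd (g i).hom t) :=
      locP_of_isPullback_gen goodP_lfp (Xi i).property X.property hT sq (hP i).2
    have hw : a ≫ pullback.snd (g i).hom t = (AlgSp.yon S).map c ≫ 𝟙 _ := by rw [hc, Category.comp_id]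
    refine ⟨U, c, a ≫ pullback.fst (g i).hom t, ?_, ?_, ?_, ?_⟩
    · rw [Category.assoc, sq.w, ← Category.assoc, hc]
    · exact hfl a (𝟙 _) c hae (AlgSp.repWith_id _ T) hw
    · exact hlfp a (𝟙 _) c hae (AlgSp.repWith_id _ T) hw
    · intro y x e
      obtain ⟨p, -, hp⟩ := points_exists_of_isPullback sq y (AlgSp.Points.ofPt (𝟙 _) x)
        (by rw [e, AlgSp.Points.map_ofPt, Category.id_comp])
      obtain ⟨u, rfl⟩ := surjective_ofPt a has p
      rw [AlgSp.Points.map_ofPt, ← hc] at hp
      have h2 : AlgSp.Points.ofPt ((AlgSp.yon S).map c) u = AlgSp.Points.ofPt (𝟙 _) (c.left u) := by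
        have := ofPt_yon_map_comp c (𝟙 ((AlgSp.yon S).obj T)) u
        rwa [Category.comp_id] at this
      rw [h2] at hp
      exact ⟨u, (AlgSp.Points.schemeHomeo T).injective hp⟩
  choose U c l hl hfl hlfp hpt using key
  refine ⟨ι, U, c, ofArrows_mem_J U c hfl hlfp ?_, fun i => ⟨i, l i, hl i⟩⟩
  intro x
  obtain ⟨i, y, hy⟩ := hsurj (AlgSp.Points.ofPt t x)
  exact ⟨i, hpt i y x hy⟩

end Groth.Agent.S10510
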