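import Groth.Statements.S10565
import Groth.Agent.Lib.helper15.AlgSpSmoothLocalST
open Groth.Agent.Lib.H15.AS

set_option autoImplicit false
universe u
open CategoryTheory CategoryTheory.Limits AlgebraicGeometry
open AlgSp AlgSp.IsSmoothLocalST

namespace Groth.Agent.S10565

/-- A property P of morphisms of algebraic spaces over S that is smooth local on source-and-target is
(1) smooth local on the source, (2) smooth local on the base, and (3) stable under postcomposition
with smooth morphisms: whenever g : Y ⟶ Z is smooth and f : X ⟶ Y has P, the composite f ≫ g has P. -/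
theorem result {S : Scheme.{u}} {P : MorphismProperty (AlgSp.Sp S)}
    (hP : AlgSp.IsSmoothLocalST P) :
    AlgSp.IsLocalOnSource (AlgSp.IsSmCover (S := S)) P ∧
    AlgSp.IsLocalOnBase (AlgSp.IsSmCover (S := S)) P ∧
    (∀ ⦃X Y Z : AlgSp.Space S⦄ (f : X ⟶ Y) (g : Y ⟶ Z), P f.hom → AlgSp.LocP @Smooth g.hom → P (f ≫ g).hom) := by
  exact ⟨Groth.Agent.Lib.H15.AS.IsSmoothLocalST.isLocalOnSource hP,
    Groth.Agent.Lib.H15.AS.IsSmoothLocalST.isLocalOnBase hP,
    fun X Y Z f g hf hg =>
      Groth.Agent.Lib.H15.AS.IsSmoothLocalST.postcomp hP X.property Y.property Z.property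
        f.hom g.hom hf hg⟩

end Groth.Agent.S10565
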