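import Groth.Statements.S10573
import Groth.Agent.Lib.helper15.AlgSpFpqcTop

set_option autoImplicit false
universe u
open CategoryTheory CategoryTheory.Limits AlgebraicGeometry
open AlgSp

namespace Groth.Agent.S10573

/-- Let {g_i : T_i ⟶ T} be a family of algebraic spaces over S forming an fpqc covering, and let W_i ⊂
|T_i| be open subsets (open subspaces) such that for all i, j the two projections T_i ×_T T_j ⟶ T_i,
T_j pull W_i and W_j back to the same subset of |T_i ×_T T_j|. Then there is a unique open subset W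
⊂ |T| with g_i⁻¹(W) = W_i for every i. -/
theorem result {S : Scheme.{u}} {ι : Type u} {T : AlgSp.Space S}
    (Ti : ι → AlgSp.Space S) (g : ∀ i, Ti i ⟶ T)
    (hg : AlgSp.IsFpqcCover (fun i => (Ti i).obj) (fun i => (g i).hom))
    (Wi : ∀ i, Set (AlgSp.Points (Ti i).obj)) (hW : ∀ i, IsOpen (Wi i))
    (hc : ∀ i j, AlgSp.Points.map (pullback.fst (g i).hom (g j).hom) ⁻¹' Wi i =
      AlgSp.Points.map (pullback.snd (g i).hom (g j).hom) ⁻¹' Wi j) :
    ∃! W : TopologicalSpace.Opens (AlgSp.Points T.obj), ∀ i, AlgSp.Points.map (g i).hom ⁻¹' (W : Set (AlgSp.Points T.obj)) = Wi i := by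
  have hpts := Groth.Agent.Lib.H15.AS.exists_point_of_isFpqcCover hg
  have key : ∀ i, AlgSp.Points.map (g i).hom ⁻¹'
      (⋃ j, AlgSp.Points.map (g j).hom '' Wi j) = Wi i := by
    intro i
    ext x
    constructor
    · intro hx
      obtain ⟨j, y, hy, hxy⟩ := Set.mem_iUnion.1 hx
      obtain ⟨τ, hτ1, hτ2⟩ := Groth.Agent.Lib.H15.AS.points_exists_of_isPullback
        (IsPullback.of_hasPullback (g i).hom (g j).hom) x y hxy.symm
      have h1 : τ ∈ AlgSp.Points.map (pullback.snd (g i).hom (g j).hom) ⁻¹' Wi j := by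
        rw [Set.mem_preimage, hτ2]; exact hy
      rw [← hc i j, Set.mem_preimage, hτ1] at h1
      exact h1
    · intro hx
      exact Set.mem_iUnion.2 ⟨i, x, hx, rfl⟩
  have hopen : IsOpen (⋃ j, AlgSp.Points.map (g j).hom '' Wi j) := by
    apply Groth.Agent.Lib.H15.AS.isOpen_of_isFpqcCover T.property hg
    intro i
    rw [key i]
    exact hW i
  refine ⟨⟨_, hopen⟩, key, ?_⟩
  intro W' hW'
  ext y
  constructor
  · intro hy
    obtain ⟨i, η, rfl⟩ := hpts y
    have : η ∈ AlgSp.Points.map (g i).hom ⁻¹' (W' : Set (AlgSp.Points T.obj)) := hy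
    rw [hW' i] at this
    exact Set.mem_iUnion.2 ⟨i, η, this, rfl⟩
  · intro hy
    obtain ⟨i, η, hη, rfl⟩ := Set.mem_iUnion.1 hy
    have : η ∈ AlgSp.Points.map (g i).hom ⁻¹' (W' : Set (AlgSp.Points T.obj)) := by
      rw [hW' i]; exact hη
    exact this

end Groth.Agent.S10573
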