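import Groth.Statements.S10582
import Groth.Agent.Lib.helper15.AlgSpFpqcLocal3
import Groth.Agent.Lib.helper15.AlgSpPoints3
import Groth.Agent.Lib.helper15.AlgSpQC
import Groth.Agent.Lib.helper15.AlgSpFibre

set_option autoImplicit false
universe u
open CategoryTheory CategoryTheory.Limits AlgebraicGeometry
open AlgSp
open Groth.Agent.Lib.H15.AS

namespace Groth.Agent.S10582

/-- A monomorphism of algebraic spaces that is quasi-compact, flat and surjective is an isomorphism. -/
theorem result {S : Scheme.{u}} {X Y : AlgSp.Space S} (f : X ⟶ Y)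
    (hqc : AlgSp.IsQuasiCompactMor f.hom) (hflat : AlgSp.LocP @Flat f.hom) (hsurj : AlgSp.IsSurjectiveMor f.hom)
    [Mono f.hom] : IsIso f.hom := by
  have hX := X.property
  have hY := Y.property
  -- `{f}` is an fpqc covering of `Y`
  have hcov : AlgSp.IsFpqcCover (fun _ : PUnit.{u + 1} => X.obj) (fun _ => f.hom) := by
    refine ⟨fun _ => hflat, ?_⟩
    intro Z hZ h
    have sqZ := IsPullback.of_hasPullback f.hom h
    have hZ'sp : AlgSp.IsAlgSpace (pullback f.hom h) :=
      isAlgSpace_of_isPullback hY.diag hX (AlgSp.IsAlgSpace.yon_obj Z) sqZ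
    have hZq : AlgSp.IsQuasiCompactSp ((AlgSp.yon S).obj Z) := by
      haveI : CompactSpace ↥Z.left := inferInstance
      exact isQuasiCompactSp_yon Z
    have hZ'q : AlgSp.IsQuasiCompactSp (pullback f.hom h) :=
      hqc (AlgSp.IsAlgSpace.yon_obj Z) hZq h _ _ sqZ
    obtain ⟨W, a, hW, hae, has⟩ := exists_affine_chart_of_isQuasiCompactSp hZ'q
    obtain ⟨c, hc⟩ := (AlgSp.yon S).map_surjective (a ≫ pullback.snd f.hom h)
    have hsndflat : AlgSp.LocP @Flat (pullback.snd f.hom h) :=
      locP_of_isPullback_gen goodP_flat hX hY (AlgSp.IsAlgSpace.yon_obj Z) sqZ hflat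
    have hcflat : Flat c.left :=
      hsndflat a (𝟙 _) c hae (AlgSp.repWith_id @Etale Z) (by rw [hc, Category.comp_id])
    have hsndsurj : AlgSp.IsSurjectiveMor (pullback.snd f.hom h) :=
      isSurjectiveMor_of_isPullback sqZ hsurj
    have hcsurj : Function.Surjective c.left := by
      have h1 : AlgSp.IsSurjectiveMor ((AlgSp.yon S).map c) := by
        rw [hc]
        exact isSurjectiveMor_comp (isSurjectiveMor_of_repWith has) hsndsurj
      exact ((isSurjectiveMor_yon_map_iff c).1 h1).surj
    refine ⟨1, fun _ => W, fun _ => c, fun _ => hW, fun _ => hcflat, fun z => ?_, fun _ => ?_⟩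
    · obtain ⟨w, hw⟩ := hcsurj z
      exact ⟨0, w, hw⟩
    · refine ⟨PUnit.unit, a ≫ pullback.fst f.hom h, ?_⟩
      rw [Category.assoc, pullback.condition, ← Category.assoc, ← hc]
  have key := isLocalOnBase_fpqc_isomorphisms (S := S) (fun _ : PUnit.{u + 1} => X.obj)
    (fun _ => f.hom) hY (fun _ => hX) hcov f.hom hX (fun _ => pullback f.hom f.hom)
    (fun _ => pullback.snd f.hom f.hom) (fun _ => pullback.fst f.hom f.hom)
    (fun _ => isAlgSpace_of_isPullback hY.diag hX hX (IsPullback.of_hasPullback f.hom f.hom))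
    (fun _ => IsPullback.of_hasPullback f.hom f.hom)
  refine key.2 fun _ => ?_
  change IsIso (pullback.snd f.hom f.hom)
  infer_instance

end Groth.Agent.S10582
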