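import Groth.Statements.S10620
import Groth.Agent.Lib.helper15.AlgSpFormal

set_option autoImplicit false
universe u
open CategoryTheory CategoryTheory.Limits AlgebraicGeometry
open AlgSp

namespace Groth.Agent.S10620

/-- Let a : F ⟶ G and b : H ⟶ G be morphisms of fppf sheaves on (Sch/S) and let a' : P ⟶ H be the base
change of a along b (any pullback square). If a is formally smooth, resp. formally etale, resp.
formally unramified, then so is a'. (The published statement is for transformations of arbitrary
presheaves of sets on (Sch/S)_fppf; this row takes fppf sheaves, the case of algebraic spaces.) -/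
theorem result {S : Scheme.{u}} {F G H P : AlgSp.Sp S} (a : F ⟶ G) (b : H ⟶ G)
    (b' : P ⟶ F) (a' : P ⟶ H) (hP : IsPullback b' a' a b) :
    (AlgSp.IsFormallySmoothMor a → AlgSp.IsFormallySmoothMor a') ∧
    (AlgSp.IsFormallyEtaleMor a → AlgSp.IsFormallyEtaleMor a') ∧
    (AlgSp.IsFormallyUnramifiedMor a → AlgSp.IsFormallyUnramifiedMor a') := by
  refine ⟨fun ha => Groth.Agent.Lib.H15.AS.isFormallySmoothMor_of_isPullback hP ha, fun ha => ?_,
    fun ha => Groth.Agent.Lib.H15.AS.isFormallyUnramifiedMor_of_isPullback hP ha⟩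
  rw [Groth.Agent.Lib.H15.AS.isFormallyEtaleMor_iff] at ha ⊢
  exact ⟨Groth.Agent.Lib.H15.AS.isFormallySmoothMor_of_isPullback hP ha.1,
    Groth.Agent.Lib.H15.AS.isFormallyUnramifiedMor_of_isPullback hP ha.2⟩

end Groth.Agent.S10620
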