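import Groth.Statements.S10621
import Groth.Agent.Lib.helper15.AlgSpFormalEt2
import Groth.Agent.Lib.helper15.AlgSpFormalBridge
import Groth.Agent.Lib.helper15.AlgSpLocPGen2

set_option autoImplicit false
universe u
open CategoryTheory CategoryTheory.Limits AlgebraicGeometry
open AlgSp
open Groth.Agent.Lib.H15.AS

namespace Groth.Agent.S10621

/-- For a morphism f : X ⟶ Y of algebraic spaces over S, these conditions are equivalent: f is formally
unramified (lifting along square-zero thickenings of affine schemes); for every scheme U with a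
representable etale U ⟶ X, every scheme V with a representable etale V ⟶ Y and every compatible U ⟶
V, the morphism of schemes U ⟶ V is formally unramified; and this holds as soon as it holds for one
such diagram in which both charts are moreover surjective. Formal unramifiedness of a morphism of
schemes is Mathlib's FormallyUnramified (formally unramified ring maps on affine opens, no
finite-type condition), which agrees with the lifting definition used here. -/
theorem result {S : Scheme.{u}} {X Y : AlgSp.Space S} (f : X ⟶ Y) :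
    (AlgSp.IsFormallyUnramifiedMor f.hom ↔ AlgSp.LocP @FormallyUnramified f.hom) ∧
    (∀ (U V : Over S) (a : (AlgSp.yon S).obj U ⟶ X.obj) (b : (AlgSp.yon S).obj V ⟶ Y.obj) (h : U ⟶ V),
      AlgSp.RepWith @Etale a → AlgSp.RepWith @Surjective a → AlgSp.RepWith @Etale b → AlgSp.RepWith @Surjective b →
      a ≫ f.hom = (AlgSp.yon S).map h ≫ b → FormallyUnramified h.left → AlgSp.IsFormallyUnramifiedMor f.hom) := by
  have part2 : ∀ (U V : Over S) (a : (AlgSp.yon S).obj U ⟶ X.obj) (b : (AlgSp.yon S).obj V ⟶ Y.obj)
      (h : U ⟶ V), AlgSp.RepWith @Etale a → AlgSp.RepWith @Surjective a → AlgSp.RepWith @Etale b →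
      AlgSp.RepWith @Surjective b → a ≫ f.hom = (AlgSp.yon S).map h ≫ b → FormallyUnramified h.left →
      AlgSp.IsFormallyUnramifiedMor f.hom := by
    intro U V a b h ha ha' hb hb' w hh
    have h1 : AlgSp.IsFormallyUnramifiedMor ((AlgSp.yon S).map h) :=
      (isFormallyUnramifiedMor_yon_map_iff h).2 hh
    have h2 : AlgSp.IsFormallyUnramifiedMor ((AlgSp.yon S).map h ≫ b) :=
      isFormallyUnramifiedMor_comp h1
        ((isFormallyEtaleMor_iff _).1 (isFormallyEtaleMor_of_repWith_etale hb)).2
    rw [← w] at h2
    exact isFormallyUnramifiedMor_of_comp_etale_surj ha ha' h2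
  refine ⟨⟨?_, ?_⟩, part2⟩
  · intro hf U V a b h ha hb w
    have h1 : AlgSp.IsFormallyUnramifiedMor (a ≫ f.hom) :=
      isFormallyUnramifiedMor_comp
        ((isFormallyEtaleMor_iff _).1 (isFormallyEtaleMor_of_repWith_etale ha)).2 hf
    rw [w] at h1
    exact (isFormallyUnramifiedMor_yon_map_iff h).1 (isFormallyUnramifiedMor_of_comp h1)
  · intro hL
    obtain ⟨V, b, hb, hb'⟩ := Y.property.atlas
    obtain ⟨U, a, ha, ha'⟩ := X.property.atlas
    obtain ⟨U', p, h, hpE, hpS, w⟩ := exists_chart_cover f.hom a b hb hb'
    have haE : AlgSp.RepWith @Etale ((AlgSp.yon S).map p ≫ a) :=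
      (AlgSp.RepWith @Etale).comp_mem _ _ ((AlgSp.repWith_yon_map_iff _ _).2 hpE) ha
    have haS : AlgSp.RepWith @Surjective ((AlgSp.yon S).map p ≫ a) :=
      (AlgSp.RepWith @Surjective).comp_mem _ _ ((AlgSp.repWith_yon_map_iff _ _).2 hpS) ha'
    exact part2 U' V _ b h haE haS hb hb' w (hL _ b h haE hb w)

end Groth.Agent.S10621
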