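import Groth.Statements.S10627
import Groth.Agent.Lib.helper15.AlgSpFormalEt2
import Groth.Agent.Lib.helper15.AlgSpEtale
import Groth.Agent.Lib.helper15.AlgSpEtale2
import Groth.Agent.S10622

set_option autoImplicit false
universe u
open CategoryTheory CategoryTheory.Limits AlgebraicGeometry
open AlgSp
open Groth.Agent.Lib.H15.AS

namespace Groth.Agent.S10627

/-- A morphism f : X ⟶ Y of algebraic spaces over S is etale if and only if it is locally of finite
presentation and formally etale (lifting sense). -/
theorem result {S : Scheme.{u}} {X Y : AlgSp.Space S} (f : X ⟶ Y) :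
    AlgSp.IsEtaleMor f.hom ↔ AlgSp.LocP @LocallyOfFinitePresentation f.hom ∧ AlgSp.IsFormallyEtaleMor f.hom := by
  constructor
  · intro hf
    refine ⟨fun U V a b h ha hb w => ?_, ?_⟩
    · have : Etale h.left := locP_etale_of_isEtaleMor hf a b h ha hb w
      infer_instance
    · obtain ⟨U, a, ha, ha'⟩ := X.property.atlas
      exact isFormallyEtaleMor_of_comp_etale_surj ha ha'
        (isFormallyEtaleMor_of_repWith_etale (hf a ha))
  · rintro ⟨hlfp, hfe⟩
    refine isEtaleMor_of_locP_etale Y.property fun U V a b h ha hb w => ?_
    exact (Groth.Agent.S1489.result h.left).2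
      ⟨hlfp a b h ha hb w, (Groth.Agent.S10622.result f).1.1 hfe a b h ha hb w⟩

end Groth.Agent.S10627
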