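import Groth.Statements.S10630
import Groth.Agent.Lib.helper15.AlgSpLiftSpace

set_option autoImplicit false
universe u
open CategoryTheory CategoryTheory.Limits AlgebraicGeometry
open AlgSp
open Groth.Agent.Lib.H15.AS

namespace Groth.Agent.S10630

/-- (1) ⇔ (3): let h : Z ⟶ X be a morphism of algebraic spaces over S and let i : Z ⟶ Z', h' : Z' ⟶ X be
a first order thickening of Z over X (i ≫ h' = h). Then (i, h') is a universal first order
thickening of Z over X if and only if for every first order thickening j : T ⟶ T' of schemes over S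
with T' affine, every a : T ⟶ Z and b : T' ⟶ X with j ≫ b = a ≫ h, there is exactly one a' : T' ⟶ Z'
with j ≫ a' = a ≫ i and a' ≫ h' = b. -/
theorem result {S : Scheme.{u}} {Z Z' X : AlgSp.Space S} (h : Z ⟶ X) (i : Z ⟶ Z')
    (h' : Z' ⟶ X) (hi : AlgSp.IsFOThickMor i.hom) (w : i ≫ h' = h) :
    AlgSp.IsUnivFOThick h.hom i.hom h'.hom ↔
      ∀ (T T' : Over S) (j : T ⟶ T'), IsAffine T'.left → AlgSp.IsFOThickMor ((AlgSp.yon S).map j) →
        ∀ (a : (AlgSp.yon S).obj T ⟶ Z.obj) (b : (AlgSp.yon S).obj T' ⟶ X.obj),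
          (AlgSp.yon S).map j ≫ b = a ≫ h.hom →
          ∃! a' : (AlgSp.yon S).obj T' ⟶ Z'.obj, (AlgSp.yon S).map j ≫ a' = a ≫ i.hom ∧ a' ≫ h'.hom = b := by
  have w' : i.hom ≫ h'.hom = h.hom := congrArg (fun k => k.hom) w
  constructor
  · rintro ⟨-, -, H⟩ T T' j hT' hj a b hjb
    exact H (AlgSp.IsAlgSpace.yon_obj T) (AlgSp.IsAlgSpace.yon_obj T') ((AlgSp.yon S).map j) a b hj hjb
  · intro H
    refine ⟨hi, w', ?_⟩
    intro T T' hT hT' j a b hj hjb
    -- local uniqueness and existence on affine etale charts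
    have key : ∀ ⦃V' : Over S⦄, IsAffine V'.left → ∀ (e : (AlgSp.yon S).obj V' ⟶ T'),
        AlgSp.RepWith @Etale e →
        ∃! ℓ : (AlgSp.yon S).obj V' ⟶ Z'.obj, IsLiftOn h'.hom j (a ≫ i.hom) b e ℓ := by
      intro V' hV' e he
      have hrep : AlgSp.Representable j := hj.1.rep
      have sq := hrep.isPullback e
      have hFO := isFOThickMor_chart hj e he
      have hc : (AlgSp.yon S).map (hrep.snd e) ≫ (e ≫ b) = (hrep.fst e ≫ a) ≫ h.hom := by
        rw [← Category.assoc, ← sq.w, Category.assoc, hjb, Category.assoc]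
      obtain ⟨ℓ, ⟨h1, h2⟩, hu⟩ := H _ V' (hrep.snd e) hV' hFO (hrep.fst e ≫ a) (e ≫ b) hc
      refine ⟨ℓ, (isLiftOn_iff_of_isPullback h'.hom (a ≫ i.hom) b sq ℓ).2
        ⟨h2, by rw [h1, Category.assoc]⟩, fun ℓ' hℓ' => ?_⟩
      have hℓ'' := (isLiftOn_iff_of_isPullback h'.hom (a ≫ i.hom) b sq ℓ').1 hℓ'
      exact hu ℓ' ⟨by rw [hℓ''.2, Category.assoc], hℓ''.1⟩
    have hU : LocUniqLift h'.hom j (a ≫ i.hom) b := by
      intro V' hV' e he ℓ ℓ' hℓ hℓ'
      obtain ⟨ℓ₀, -, hu⟩ := key hV' e he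
      rw [hu ℓ hℓ, hu ℓ' hℓ']
    have hE : LocExistsLift h'.hom j (a ≫ i.hom) b := by
      intro V' hV' e he
      obtain ⟨ℓ₀, h0, -⟩ := key hV' e he
      exact ⟨ℓ₀, h0⟩
    obtain ⟨l, h1, h2⟩ := lift_exists' hT' hU hE
    exact ⟨l, ⟨h1, h2⟩, fun l' ⟨h1', h2'⟩ => lift_unique' hT' hU h1' h2' h1 h2⟩

end Groth.Agent.S10630
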