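import Groth.Statements.S10631
import Groth.Agent.Lib.helper15.AlgSpLiftSpace

set_option autoImplicit false
universe u
open CategoryTheory CategoryTheory.Limits AlgebraicGeometry
open AlgSp
open Groth.Agent.Lib.H15.AS

namespace Groth.Agent.S10631

/-- Consider morphisms Z ⟶ Y ⟶ X of algebraic spaces over S. If (i : Z ⟶ Z', h' : Z' ⟶ Y) is, over Y, a
universal first order thickening of Z and g : Y ⟶ X is formally etale, then (i, h' ≫ g) is, over X,
a universal first order thickening of Z. -/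
theorem result {S : Scheme.{u}} {Z Z' Y X : AlgSp.Space S} (hZ : Z ⟶ Y) (g : Y ⟶ X)
    (i : Z ⟶ Z') (h' : Z' ⟶ Y) (HU : AlgSp.IsUnivFOThick hZ.hom i.hom h'.hom) (hg : AlgSp.IsFormallyEtaleMor g.hom) :
    AlgSp.IsUnivFOThick (hZ ≫ g).hom i.hom (h' ≫ g).hom := by
  obtain ⟨hi, hw, HU3⟩ := HU
  refine ⟨hi, ?_, ?_⟩
  · change i.hom ≫ h'.hom ≫ g.hom = hZ.hom ≫ g.hom
    rw [← Category.assoc, hw]
  · intro T T' hT hT' j a b hj hjb
    -- lift `b` to `Y`
    have w1 : (a ≫ hZ.hom) ≫ g.hom = j ≫ b := by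
      rw [hjb, Category.assoc]; rfl
    obtain ⟨b', ⟨hb1, hb2⟩, hbu⟩ := lift_existsUnique_of_isFOThickMor hT' hg hj w1
    obtain ⟨a', ⟨ha1, ha2⟩, hau⟩ := HU3 hT hT' j a b' hj hb1
    refine ⟨a', ⟨ha1, ?_⟩, fun a'' ⟨h1, h2⟩ => ?_⟩
    · change a' ≫ h'.hom ≫ g.hom = b
      rw [← Category.assoc, ha2, hb2]
    · apply hau
      refine ⟨h1, ?_⟩
      apply hbu
      refine ⟨?_, ?_⟩
      · rw [← Category.assoc, h1, Category.assoc, hw]
      · rw [Category.assoc]; exact h2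

end Groth.Agent.S10631
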