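import Groth.Statements.S10632
import Groth.Agent.Lib.helper15.AlgSpFormalEt2
import Groth.Agent.Lib.helper15.AlgSpLiftSpace
import Groth.Agent.Lib.helper15.AlgSpThick
import Groth.Agent.S10627

set_option autoImplicit false
universe u
open CategoryTheory CategoryTheory.Limits AlgebraicGeometry
open AlgSp
open Groth.Agent.Lib.H15.AS

namespace Groth.Agent.S10632

/-- Let e : Z ⟶ Y be an etale morphism of algebraic spaces over S, hY : Y ⟶ X, and let (iY : Y ⟶ Y', hY'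
: Y' ⟶ X) be a universal first order thickening of Y over X. Let e' : Z' ⟶ Y' be etale with iZ : Z ⟶
Z' making Z = Y ×_{Y'} Z' a pullback square. Then (iZ, e' ≫ hY') is a universal first order
thickening of Z over X. -/
theorem result {S : Scheme.{u}} {Z Y Y' Z' X : AlgSp.Space S} (e : Z ⟶ Y)
    (he : AlgSp.IsEtaleMor e.hom) (hY : Y ⟶ X) (iY : Y ⟶ Y') (hY' : Y' ⟶ X)
    (HU : AlgSp.IsUnivFOThick hY.hom iY.hom hY'.hom) (iZ : Z ⟶ Z') (e' : Z' ⟶ Y') (he' : AlgSp.IsEtaleMor e'.hom)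
    (sq : IsPullback e.hom iZ.hom iY.hom e'.hom) :
    AlgSp.IsUnivFOThick (e ≫ hY).hom iZ.hom (e' ≫ hY').hom := by
  obtain ⟨hiY, hcomm, huniv⟩ := HU
  have hfe' : AlgSp.IsFormallyEtaleMor e'.hom := ((Groth.Agent.S10627.result e').1 he').2
  have hiZ : AlgSp.IsFOThickMor iZ.hom := by
    refine ⟨isThickMor_of_isPullback sq hiY.1, fun V W b fst snd hV hb hpb => ?_⟩
    exact hiY.2 (b ≫ e'.hom) (fst ≫ e.hom) snd hV (he' b hb) (hpb.flip.paste_vert sq.flip).flip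
  refine ⟨hiZ, ?_, ?_⟩
  · change iZ.hom ≫ e'.hom ≫ hY'.hom = e.hom ≫ hY.hom
    rw [← Category.assoc, ← sq.w, Category.assoc, hcomm]
  · intro T T' hT hT' j a b hj w
    have w1 : j ≫ b = (a ≫ e.hom) ≫ hY.hom := by rw [Category.assoc]; exact w
    obtain ⟨c, ⟨hc1, hc2⟩, hcu⟩ := huniv hT hT' j (a ≫ e.hom) b hj w1
    have w2 : (a ≫ iZ.hom) ≫ e'.hom = j ≫ c := by
      rw [Category.assoc, ← sq.w, ← Category.assoc, hc1]
    obtain ⟨a', ⟨ha1, ha2⟩, hau⟩ := lift_existsUnique_of_isFOThickMor hT' hfe' hj w2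
    refine ⟨a', ⟨ha1, ?_⟩, ?_⟩
    · change a' ≫ e'.hom ≫ hY'.hom = b
      rw [← Category.assoc, ha2, hc2]
    · rintro a'' ⟨h1, h2⟩
      have h2' : (a'' ≫ e'.hom) ≫ hY'.hom = b := by rw [Category.assoc]; exact h2
      have hc : a'' ≫ e'.hom = c := hcu _ ⟨by
        rw [← Category.assoc, h1, Category.assoc, ← sq.w, Category.assoc], h2'⟩
      exact hau _ ⟨h1, hc⟩

end Groth.Agent.S10632
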