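import Groth.Statements.S10633
import Groth.Agent.Lib.helper15.AlgSpUnivThick
import Groth.Agent.Lib.helper15.AlgSpPoints
import Groth.Agent.S10627

set_option autoImplicit false
universe u
open CategoryTheory CategoryTheory.Limits AlgebraicGeometry
open AlgSp
open Groth.Agent.Lib.H15.AS

namespace Groth.Agent.S10633

theorem HUcomm {S : Scheme.{u}} {T T' Y X : AlgSp.Sp S} {hY : Y ⟶ X} (a : T ⟶ Y) (b : T' ⟶ X)
    (j : T ⟶ T') (comm : j ≫ b = a ≫ hY) : j ≫ b = a ≫ hY := comm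

/-- Let e : Z ⟶ Y be a surjective etale morphism of algebraic spaces over S, hY : Y ⟶ X, and let (Z ⊂
Z') ⟶ (Y ⊂ Y') be an etale morphism of first order thickenings over X: iZ : Z ⟶ Z' and iY : Y ⟶ Y'
first order thickenings, f' : Z' ⟶ Y' etale with iZ ≫ f' = e ≫ iY, hY' : Y' ⟶ X with iY ≫ hY' = hY.
If (iZ, f' ≫ hY') is a universal first order thickening of Z over X, then (iY, hY') is a universal
first order thickening of Y over X. -/
theorem result {S : Scheme.{u}} {Z Y Z' Y' X : AlgSp.Space S} (e : Z ⟶ Y)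
    (he : AlgSp.IsEtaleMor e.hom) (hes : AlgSp.IsSurjectiveMor e.hom) (hY : Y ⟶ X)
    (iZ : Z ⟶ Z') (iY : Y ⟶ Y') (hiZ : AlgSp.IsFOThickMor iZ.hom) (hiY : AlgSp.IsFOThickMor iY.hom)
    (f' : Z' ⟶ Y') (hf' : AlgSp.IsEtaleMor f'.hom) (w : iZ ≫ f' = e ≫ iY) (hY' : Y' ⟶ X) (w' : iY ≫ hY' = hY)
    (HU : AlgSp.IsUnivFOThick (e ≫ hY).hom iZ.hom (f' ≫ hY').hom) :
    AlgSp.IsUnivFOThick hY.hom iY.hom hY'.hom := by
  have w₁ : iZ.hom ≫ f'.hom = e.hom ≫ iY.hom := congrArg (fun k => k.hom) w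
  have w₂ : iY.hom ≫ hY'.hom = hY.hom := congrArg (fun k => k.hom) w'
  refine ⟨hiY, w₂, ?_⟩
  intro T T' hT hT' j a b hj comm
  have hf'fe : AlgSp.IsFormallyEtaleMor f'.hom := ((Groth.Agent.S10627.result f').1 hf').2
  obtain ⟨Z₀, a₀, ha₀e, ha₀s⟩ := Z.property.atlas
  have hē : AlgSp.RepWith @Etale (a₀ ≫ e.hom) := he a₀ ha₀e
  have hēs : AlgSp.RepWith @Surjective (a₀ ≫ e.hom) :=
    repWith_surjective_of_isSurjectiveMor hē.rep
      (isSurjectiveMor_comp (isSurjectiveMor_of_repWith ha₀s) hes)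
  have key : ∀ (V' : Over S) (hV' : IsAffine V'.left) (e' : (AlgSp.yon S).obj V' ⟶ T')
      (he' : AlgSp.RepWith @Etale e'),
      ∃! ℓ : (AlgSp.yon S).obj V' ⟶ Y'.obj, IsLiftOn hY'.hom j (a ≫ iY.hom) b e' ℓ := by
    intro V' hV' e' he'
    haveI := hV'
    have hrep : AlgSp.Representable j := hj.1.rep
    have sqV := hrep.isPullback e'
    have hthick : AlgSp.thick (hrep.snd e').left := hj.1.property_snd e'
    haveI : IsClosedImmersion (hrep.snd e').left := hthick.1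
    have hsq : AlgSp.sqZero (hrep.snd e').left := hj.2 e' (hrep.fst e') (hrep.snd e') hV' he' sqV
    have comm' : (hrep.fst e' ≫ a ≫ iY.hom) ≫ hY'.hom =
        (AlgSp.yon S).map (hrep.snd e') ≫ e' ≫ b := by
      rw [Category.assoc, Category.assoc, w₂, ← HUcomm a b j comm, ← Category.assoc, sqV.w,
        Category.assoc]
    obtain ⟨sq, φ, ψ, hφψ, htop, hbot⟩ := exists_infSq_of_chart hY'.hom (hrep.snd e') hsq
      (hrep.fst e' ≫ a ≫ iY.hom) (e' ≫ b) comm'
    have ht : sq.top = ((AlgSp.yon S).map φ.hom ≫ hrep.fst e' ≫ a) ≫ iY.hom := by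
      rw [htop, Category.assoc, Category.assoc]
    have hFO : ∀ (W' TJ : Over S) (ec : W' ⟶ sq.ptT') (jJ : TJ ⟶ W') (θ₀ : TJ ⟶ sq.ptT),
        IsAffine W'.left → Etale ec.left → IsPullback jJ θ₀ ec sq.j →
          AlgSp.IsFOThickMor ((AlgSp.yon S).map jJ) := by
      intro W' TJ ec jJ θ₀ _ hecE hpb
      have sq1 := hpb.flip.map (AlgSp.yon S)
      have sq2 := (IsPullback.of_horiz_isIso
        (⟨hφψ⟩ : CommSq φ.hom sq.j (hrep.snd e') ψ.hom)).map (AlgSp.yon S)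
      have sq3 := (sq1.paste_horiz sq2).paste_horiz sqV
      refine isFOThickMor_of_isPullback_chart hj _ ?_ _ jJ sq3
      have hψE : Etale ψ.hom.left := inferInstance
      exact (AlgSp.RepWith (S := S) @Etale).comp_mem _ _
        ((AlgSp.RepWith (S := S) @Etale).comp_mem _ _ ((AlgSp.repWith_yon_map_iff _ _).2 hecE)
          ((AlgSp.repWith_yon_map_iff _ _).2 hψE)) he'
    have hM := univ_hasUniqLift w₁ w₂ HU hf'fe a₀ hē hēs sq _ ht hFO
    have hjψ : hrep.snd e' ≫ ψ.inv = φ.inv ≫ sq.j := by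
      rw [Iso.eq_inv_comp, ← Category.assoc, hφψ, Category.assoc, Iso.hom_inv_id, Category.comp_id]
    obtain ⟨l₀, ⟨hl1, hl2⟩, hl₀u⟩ := hM
    refine ⟨(AlgSp.yon S).map ψ.inv ≫ l₀,
      (isLiftOn_iff_of_isPullback hY'.hom (a ≫ iY.hom) b sqV _).2 ⟨?_, ?_⟩, ?_⟩
    · rw [Category.assoc, hl2, hbot, ← Functor.map_comp_assoc, Iso.inv_hom_id,
        CategoryTheory.Functor.map_id, Category.id_comp]
    · rw [← Functor.map_comp_assoc, hjψ, Functor.map_comp_assoc, hl1, htop,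
        ← Functor.map_comp_assoc, Iso.inv_hom_id, CategoryTheory.Functor.map_id, Category.id_comp]
    · intro ℓ hℓ
      replace hℓ := (isLiftOn_iff_of_isPullback hY'.hom (a ≫ iY.hom) b sqV ℓ).1 hℓ
      have h0 : (AlgSp.yon S).map ψ.hom ≫ ℓ = l₀ := by
        apply hl₀u
        constructor
        · rw [← Functor.map_comp_assoc, ← hφψ, Functor.map_comp_assoc, hℓ.2, htop]
        · rw [Category.assoc, hℓ.1, hbot]
      rw [← h0, ← Functor.map_comp_assoc, Iso.inv_hom_id, CategoryTheory.Functor.map_id,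
        Category.id_comp]
  have hU : LocUniqLift hY'.hom j (a ≫ iY.hom) b := fun V' hV' e' he' ℓ ℓ' h h' =>
    (key V' hV' e' he').unique h h'
  have hE : LocExistsLift hY'.hom j (a ≫ iY.hom) b := fun V' hV' e' he' =>
    (key V' hV' e' he').exists
  obtain ⟨l, hl1, hl2⟩ := lift_exists' hT' hU hE
  exact ⟨l, ⟨hl1, hl2⟩, fun l' h => lift_unique' hT' hU h.1 h.2 hl1 hl2⟩

end Groth.Agent.S10633
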