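import Groth.Statements.S10659


set_option autoImplicit false
universe u
open CategoryTheory CategoryTheory.Limits AlgebraicGeometry
open AlgSp

namespace Groth.Agent.S10659

/-- For a property P of morphisms of schemes that is etale local on the target (local for the etale
precoverage) and a representable morphism f : X ⟶ Y of algebraic spaces over S: if for one scheme V
with a representable etale surjective b : h_V ⟶ Y and one pullback square of f along b with corner
h_W the projection W ⟶ V has P, then f has P etale locally on the target in the representable sense,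
i.e. every such projection along every etale h_V ⟶ Y has P. (The published statement also asserts
the converse direction and that, for X and Y representable, the condition is equivalent to f having
P; this row states only that one surjective etale chart suffices.) -/
theorem result {S : Scheme.{u}} (P : MorphismProperty Scheme.{u}) [P.IsLocalAtTarget Scheme.etalePrecoverage]
    {X Y : AlgSp.Space S} (f : X ⟶ Y) (hf : AlgSp.Representable f.hom)
    {V W : Over S} (b : (AlgSp.yon S).obj V ⟶ Y.obj) (hb1 : AlgSp.RepWith @Etale b) (hb2 : AlgSp.RepWith @Surjective b)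
    (fst : (AlgSp.yon S).obj W ⟶ X.obj) (snd : W ⟶ V)
    (sq : IsPullback fst ((AlgSp.yon S).map snd) f.hom b) (hP : P snd.left) :
    AlgSp.RepLocT P f.hom := by

  classical
  -- étale base change for P
  have hbc : ∀ {A B A' B' : Scheme.{u}} {f₀ : A ⟶ B} {g₀ : B' ⟶ B} {p₁ : A' ⟶ A} {p₂ : A' ⟶ B'},
      IsPullback p₁ p₂ f₀ g₀ → Etale g₀ → P f₀ → P p₂ := by
    intro A B A' B' f₀ g₀ p₁ p₂ sq₀ hg₀ hf₀
    let 𝒰 : Scheme.Cover.{0} (Scheme.precoverage @Etale) B := (Scheme.coverOfIsIso.{0} (P := @Etale) (𝟙 B)).add g₀ hg₀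
    exact MorphismProperty.IsLocalAtTarget.of_isPullback (K := Scheme.etalePrecoverage) 𝒰 none sq₀ hf₀
  -- descent along a surjective étale map
  have hdesc : ∀ {A B A' B' : Scheme.{u}} {f₀ : A ⟶ B} {g₀ : B' ⟶ B} {p₁ : A' ⟶ A} {p₂ : A' ⟶ B'},
      IsPullback p₁ p₂ f₀ g₀ → Etale g₀ → Surjective g₀ → P p₂ → P f₀ := by
    intro A B A' B' f₀ g₀ p₁ p₂ sq₀ hg₀ hg₁ hp₂
    have hmem : Presieve.singleton g₀ ∈ Scheme.etalePrecoverage B := by
      rw [Scheme.etalePrecoverage, Scheme.singleton_mem_precoverage_iff]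
      exact ⟨hg₁.surj, hg₀⟩
    refine MorphismProperty.IsLocalAtTarget.of_forall_pullbackSnd (K := Scheme.etalePrecoverage) hmem ?_
    intro U g _ hg
    cases hg
    have e := sq₀.isoPullback_inv_snd
    rw [← e]
    exact (P.cancel_left_of_respectsIso _ _).2 hp₂
  refine ⟨hf, ?_⟩
  intro V' W' b' fst' snd' hb' sq'
  obtain ⟨V'', q, r0, sqV⟩ := hb1.1 b'
  have hq1 : Etale q.left := hb1.2 b' r0 q sqV
  have hq2 : Surjective q.left := hb2.2 b' r0 q sqV
  obtain ⟨r, rfl⟩ := (AlgSp.yon S).map_surjective r0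
  have hr : Etale r.left := hb'.2 b ((AlgSp.yon S).map q) r sqV.flip
  obtain ⟨W'', snd'', fst'', sq''⟩ := hf ((AlgSp.yon S).map q ≫ b')
  -- the square over V'' → V'
  have w' : fst'' ≫ f.hom = ((AlgSp.yon S).map snd'' ≫ (AlgSp.yon S).map q) ≫ b' := by
    rw [sq''.w, Category.assoc]
  obtain ⟨l', hl'⟩ := (AlgSp.yon S).map_surjective (sq'.lift fst'' ((AlgSp.yon S).map snd'' ≫ (AlgSp.yon S).map q) w')
  have h1' : (AlgSp.yon S).map l' ≫ fst' = fst'' := by rw [hl', sq'.lift_fst]
  have h2' : (AlgSp.yon S).map l' ≫ (AlgSp.yon S).map snd' = (AlgSp.yon S).map snd'' ≫ (AlgSp.yon S).map q := by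
    rw [hl', sq'.lift_snd]
  have sqL' : IsPullback ((AlgSp.yon S).map l') ((AlgSp.yon S).map snd'') ((AlgSp.yon S).map snd') ((AlgSp.yon S).map q) :=
    IsPullback.of_right (by rw [h1']; exact sq'') h2' sq'
  have c' : l' ≫ snd' = snd'' ≫ q := (AlgSp.yon S).map_injective (by simpa using h2')
  have sqS' : IsPullback l'.left snd''.left snd'.left q.left :=
    (IsPullback.of_map (AlgSp.yon S) c' sqL').map (Over.forget S)
  -- the square over V'' → V
  have sq''2 : IsPullback fst'' ((AlgSp.yon S).map snd'') f.hom ((AlgSp.yon S).map r ≫ b) := by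
    rw [sqV.w]; exact sq''
  have w : fst'' ≫ f.hom = ((AlgSp.yon S).map snd'' ≫ (AlgSp.yon S).map r) ≫ b := by
    rw [sq''2.w, Category.assoc]
  obtain ⟨l, hl⟩ := (AlgSp.yon S).map_surjective (sq.lift fst'' ((AlgSp.yon S).map snd'' ≫ (AlgSp.yon S).map r) w)
  have h1 : (AlgSp.yon S).map l ≫ fst = fst'' := by rw [hl, sq.lift_fst]
  have h2 : (AlgSp.yon S).map l ≫ (AlgSp.yon S).map snd = (AlgSp.yon S).map snd'' ≫ (AlgSp.yon S).map r := by
    rw [hl, sq.lift_snd]
  have sqL : IsPullback ((AlgSp.yon S).map l) ((AlgSp.yon S).map snd'') ((AlgSp.yon S).map snd) ((AlgSp.yon S).map r) :=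
    IsPullback.of_right (by rw [h1]; exact sq''2) h2 sq
  have c : l ≫ snd = snd'' ≫ r := (AlgSp.yon S).map_injective (by simpa using h2)
  have sqS : IsPullback l.left snd''.left snd.left r.left :=
    (IsPullback.of_map (AlgSp.yon S) c sqL).map (Over.forget S)
  exact hdesc sqS' hq1 hq2 (hbc sqS hr hP)

end Groth.Agent.S10659
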