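import Groth.Statements.S1072
import Mathlib
-- import your own Groth.Agent.* helpers here

set_option autoImplicit false
universe v v' u u'
open CategoryTheory CategoryTheory.Limits
open CohDer

namespace Groth.Agent.S1072


section helpers
open CategoryTheory.Limits

variable {C : Type u} [Category.{v} C] [Abelian C] (W : MorphismProperty C)
  [W.HasLeftCalculusOfFractions] [W.HasRightCalculusOfFractions]
  {D : Type u'} [Category.{v'} D] (L : C ⥤ D) [L.IsLocalization W] [Preadditive D] [L.Additive]

include W

lemma map_eq_zero_precomp {X Y : C} (f : X ⟶ Y) (h : L.map f = 0) :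
    ∃ (Z : C) (s : Z ⟶ X) (_ : W s), s ≫ f = 0 := by
  rw [← L.map_zero, MorphismProperty.map_eq_iff_precomp L W] at h
  obtain ⟨Z, s, hs, eq⟩ := h
  exact ⟨Z, s, hs, by simpa using eq⟩

lemma map_eq_zero_postcomp {X Y : C} (f : X ⟶ Y) (h : L.map f = 0) :
    ∃ (Z : C) (s : Y ⟶ Z) (_ : W s), f ≫ s = 0 := by
  rw [← L.map_zero, MorphismProperty.map_eq_iff_postcomp L W] at h
  obtain ⟨Z, s, hs, eq⟩ := h
  exact ⟨Z, s, hs, by simpa using eq⟩

/-- key: cancellation on images of objects suffices for mono -/
lemma mono_map_of_cancel {X Y : C} (f : X ⟶ Y)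
    (hf : ∀ ⦃Z : C⦄ (z : Z ⟶ X), L.map z ≫ L.map f = 0 → L.map z = 0) : Mono (L.map f) := by
  have := Localization.essSurj L W
  rw [Preadditive.mono_iff_cancel_zero]
  intro T z hz
  obtain ⟨φ, hφ⟩ := Localization.exists_rightFraction L W ((L.objObjPreimageIso T).hom ≫ z)
  rw [← cancel_epi (L.objObjPreimageIso T).hom, comp_zero, hφ,
    ← cancel_epi (L.map φ.s), comp_zero, MorphismProperty.RightFraction.map_s_comp_map]
  apply hf φ.f
  have : L.map φ.s ≫ (L.objObjPreimageIso T).hom ≫ z = L.map φ.f := by
    rw [hφ, MorphismProperty.RightFraction.map_s_comp_map]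
  rw [← this, Category.assoc, Category.assoc, hz, comp_zero, comp_zero]

lemma epi_map_of_cancel {X Y : C} (f : X ⟶ Y)
    (hf : ∀ ⦃Z : C⦄ (z : Y ⟶ Z), L.map f ≫ L.map z = 0 → L.map z = 0) : Epi (L.map f) := by
  have := Localization.essSurj L W
  rw [Preadditive.epi_iff_cancel_zero]
  intro T z hz
  obtain ⟨φ, hφ⟩ := Localization.exists_leftFraction L W (z ≫ (L.objObjPreimageIso T).inv)
  rw [← cancel_mono (L.objObjPreimageIso T).inv, zero_comp, hφ,
    ← cancel_mono (L.map φ.s), zero_comp, MorphismProperty.LeftFraction.map_comp_map_s]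
  apply hf φ.f
  have : L.map φ.f = z ≫ (L.objObjPreimageIso T).inv ≫ L.map φ.s := by
    rw [← Category.assoc, hφ, MorphismProperty.LeftFraction.map_comp_map_s]
  rw [this, reassoc_of% hz, zero_comp]

lemma preservesMonomorphisms : L.PreservesMonomorphisms where
  preserves {X Y} f _ := by
    apply mono_map_of_cancel W L
    intro Z z hz
    rw [← L.map_comp] at hz
    obtain ⟨Z', s, hs, eq⟩ := map_eq_zero_precomp W L _ hz
    have h0 : s ≫ z = 0 := by
      rw [← cancel_mono f, Category.assoc, eq, zero_comp]
    have := Localization.inverts L W s hs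
    rw [← cancel_epi (L.map s), ← L.map_comp, h0, L.map_zero, comp_zero]

lemma preservesEpimorphisms : L.PreservesEpimorphisms where
  preserves {X Y} f _ := by
    apply epi_map_of_cancel W L
    intro Z z hz
    rw [← L.map_comp] at hz
    obtain ⟨Z', s, hs, eq⟩ := map_eq_zero_postcomp W L _ hz
    have h0 : z ≫ s = 0 := by
      rw [← cancel_epi f, ← Category.assoc, eq, comp_zero]
    have := Localization.inverts L W s hs
    rw [← cancel_mono (L.map s), ← L.map_comp, h0, L.map_zero, zero_comp]

end helpers


section helpers2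
open CategoryTheory.Limits

variable {C : Type u} [Category.{v} C] [Abelian C] (W : MorphismProperty C)
  [W.HasLeftCalculusOfFractions] [W.HasRightCalculusOfFractions]
  {D : Type u'} [Category.{v'} D] (L : C ⥤ D) [L.IsLocalization W] [Preadditive D] [L.Additive]

include W

set_option backward.isDefEq.respectTransparency false in
lemma preservesKernel {X Y : C} (f : X ⟶ Y) :
    PreservesLimit (parallelPair f 0) L := by
  have := preservesMonomorphisms W L
  have := Localization.essSurj L W
  suffices ∀ (T : D) (z : T ⟶ L.obj X) (hz : z ≫ L.map f = 0),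
      ∃ (l : T ⟶ L.obj (kernel f)), l ≫ L.map (kernel.ι f) = z from
    preservesLimit_of_preserves_limit_cone (kernelIsKernel f)
      ((KernelFork.isLimitMapConeEquiv _ L).2
        (Fork.IsLimit.ofExistsUnique
          (fun s ↦ existsUnique_of_exists_of_unique
            (this _ _ (KernelFork.condition s))
            (fun _ _ h₁ h₂ ↦ by simpa [cancel_mono] using h₁.trans h₂.symm))))
  intro T w hw
  wlog hw' : ∃ (Z : C) (hZ : T = L.obj Z) (z : Z ⟶ X), w = eqToHom hZ ≫ L.map z
      generalizing T
  · obtain ⟨φ, hφ⟩ := Localization.exists_rightFraction L W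
      ((L.objObjPreimageIso T).hom ≫ w)
    rw [← cancel_epi (L.map φ.s),
      MorphismProperty.RightFraction.map_s_comp_map] at hφ
    obtain ⟨l, hl⟩ := this _ (L.map φ.f) (by
      rw [← hφ, Category.assoc, Category.assoc, hw, comp_zero, comp_zero]) ⟨_, rfl, by simp⟩
    exact ⟨(L.objObjPreimageIso T).inv ≫ inv (L.map φ.s) ≫ l, by simp [hl, ← hφ]⟩
  obtain ⟨Z, rfl, z, rfl⟩ := hw'
  simp only [eqToHom_refl, Category.id_comp, ← L.map_comp] at hw
  obtain ⟨Z', t, ht, fac⟩ := map_eq_zero_precomp W L _ hw
  have := Localization.inverts L W t ht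
  rw [← Category.assoc] at fac
  exact ⟨inv (L.map t) ≫ L.map (kernel.lift _ _ fac), by simp [← Functor.map_comp]⟩

set_option backward.isDefEq.respectTransparency false in
lemma preservesCokernel {X Y : C} (f : X ⟶ Y) :
    PreservesColimit (parallelPair f 0) L := by
  have := preservesEpimorphisms W L
  have := Localization.essSurj L W
  suffices ∀ (T : D) (z : L.obj Y ⟶ T) (hz : L.map f ≫ z = 0),
      ∃ (l : L.obj (cokernel f) ⟶ T), L.map (cokernel.π f) ≫ l = z from
    preservesColimit_of_preserves_colimit_cocone (cokernelIsCokernel f)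
      ((CokernelCofork.isColimitMapCoconeEquiv _ L).2
        (Cofork.IsColimit.ofExistsUnique
          (fun s ↦ existsUnique_of_exists_of_unique
            (this _ _ (CokernelCofork.condition s))
            (fun _ _ h₁ h₂ ↦ by simpa [cancel_epi] using h₁.trans h₂.symm))))
  intro T w hw
  wlog hw' : ∃ (Z : C) (hZ : L.obj Z = T) (z : Y ⟶ Z), w = L.map z ≫ eqToHom hZ
      generalizing T
  · obtain ⟨φ, hφ⟩ := Localization.exists_leftFraction L W
      (w ≫ (L.objObjPreimageIso T).inv)
    rw [← cancel_mono (L.map φ.s), Category.assoc,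
      MorphismProperty.LeftFraction.map_comp_map_s] at hφ
    obtain ⟨l, hl⟩ := this _ (L.map φ.f) (by rw [← hφ, reassoc_of% hw, zero_comp]) ⟨_, rfl, by simp⟩
    exact ⟨l ≫ inv (L.map φ.s) ≫ (L.objObjPreimageIso T).hom, by simp [reassoc_of% hl, ← hφ]⟩
  obtain ⟨Z, rfl, z, rfl⟩ := hw'
  simp only [eqToHom_refl, Category.comp_id, ← L.map_comp] at hw
  obtain ⟨Z', t, ht, fac⟩ := map_eq_zero_postcomp W L _ hw
  rw [Category.assoc] at fac
  have := Localization.inverts L W t ht
  exact ⟨L.map (cokernel.desc _ _ fac) ≫ inv (L.map t), by simp [← L.map_comp_assoc]⟩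

include L

set_option backward.isDefEq.respectTransparency false in
lemma hasKernels : HasKernels D where
  has_limit f := by
    obtain ⟨g, ⟨e⟩⟩ :=
      (Localization.essSurj_mapArrow L W).mem_essImage (Arrow.mk f)
    have := preservesKernel W L g.hom
    have : HasLimit (parallelPair (L.map g.hom) 0) :=
      ⟨_, (KernelFork.isLimitMapConeEquiv _ L).1
        (isLimitOfPreserves L (kernelIsKernel g.hom))⟩
    exact hasLimit_of_iso (show parallelPair (L.map g.hom) 0 ≅ _ from
      parallelPair.ext (Arrow.leftFunc.mapIso e) (Arrow.rightFunc.mapIso e))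

set_option backward.isDefEq.respectTransparency false in
lemma hasCokernels : HasCokernels D where
  has_colimit f := by
    obtain ⟨g, ⟨e⟩⟩ :=
      (Localization.essSurj_mapArrow L W).mem_essImage (Arrow.mk f)
    have := preservesCokernel W L g.hom
    have : HasColimit (parallelPair (L.map g.hom) 0) :=
      ⟨_, (CokernelCofork.isColimitMapCoconeEquiv _ L).1
        (isColimitOfPreserves L (cokernelIsCokernel g.hom))⟩
    exact hasColimit_of_iso (show _ ≅ parallelPair (L.map g.hom) 0 from
      parallelPair.ext (Arrow.leftFunc.mapIso e.symm) (Arrow.rightFunc.mapIso e.symm))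

lemma hasFiniteProducts : HasFiniteProducts D :=
  have := Localization.essSurj L W
  L.hasFiniteProducts_of_additive_of_essSurj

end helpers2


section helpers3
open CategoryTheory.Limits

variable {C : Type u} [Category.{v} C] [Abelian C] (W : MorphismProperty C)
  [W.HasLeftCalculusOfFractions] [W.HasRightCalculusOfFractions]
  {D : Type u'} [Category.{v'} D] (L : C ⥤ D) [L.IsLocalization W] [Preadditive D] [L.Additive]

include W L

set_option backward.isDefEq.respectTransparency false in
lemma mono_iff {X Y : D} (f : X ⟶ Y) :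
    Mono f ↔ ∃ (X' Y' : C) (f' : X' ⟶ Y') (_ : Mono f'),
      Nonempty (Arrow.mk (L.map f') ≅ Arrow.mk f) := by
  have := preservesMonomorphisms W L
  have := Localization.essSurj_mapArrow L W
  refine ⟨fun _ ↦ ?_, ?_⟩
  · suffices ∀ ⦃X Y : C⦄ (f : X ⟶ Y) (_ : Mono (L.map f)),
      ∃ (X' Y' : C) (f' : X' ⟶ Y') (_ : Mono f'),
          Nonempty (Arrow.mk (L.map f') ≅ Arrow.mk (L.map f)) by
        let e := L.mapArrow.objObjPreimageIso (Arrow.mk f)
        obtain ⟨X', Y', f', _, ⟨e'⟩⟩ := this _
          (((MorphismProperty.monomorphisms D).arrow_iso_iff e).2 (.infer_property f))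
        exact ⟨_, _, f', inferInstance, ⟨e' ≪≫ e⟩⟩
    intro X Y f hf
    have hk : L.map (kernel.ι f) = 0 := by
      rw [← cancel_mono (L.map f), zero_comp, ← L.map_comp, kernel.condition, L.map_zero]
    have := preservesCokernel W L (kernel.ι f)
    have hiso : IsIso (L.map (Abelian.coimage.π f)) :=
      CokernelCofork.IsColimit.isIso_π _ ((CokernelCofork.isColimitMapCoconeEquiv _ L).1
        (isColimitOfPreserves L (cokernelIsCokernel (kernel.ι f)))) hk
    refine ⟨_, _, Abelian.factorThruCoimage f, inferInstance, ⟨?_⟩⟩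
    exact Arrow.isoMk (asIso (L.map (Abelian.coimage.π f))).symm (Iso.refl _)
      (by
        dsimp
        rw [Category.comp_id, IsIso.inv_comp_eq, ← L.map_comp, Abelian.coimage.fac])
  · rintro ⟨X', Y', f', _, ⟨e⟩⟩
    exact ((MorphismProperty.monomorphisms D).arrow_mk_iso_iff e).1
      (by simpa using inferInstanceAs (Mono (L.map f')))

set_option backward.isDefEq.respectTransparency false in
lemma epi_iff {X Y : D} (f : X ⟶ Y) :
    Epi f ↔ ∃ (X' Y' : C) (f' : X' ⟶ Y') (_ : Epi f'),
      Nonempty (Arrow.mk (L.map f') ≅ Arrow.mk f) := by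
  have := preservesEpimorphisms W L
  have := Localization.essSurj_mapArrow L W
  refine ⟨fun _ ↦ ?_, ?_⟩
  · suffices ∀ ⦃X Y : C⦄ (f : X ⟶ Y) (_ : Epi (L.map f)),
      ∃ (X' Y' : C) (f' : X' ⟶ Y') (_ : Epi f'),
          Nonempty (Arrow.mk (L.map f') ≅ Arrow.mk (L.map f)) by
        let e := L.mapArrow.objObjPreimageIso (Arrow.mk f)
        obtain ⟨X', Y', f', _, ⟨e'⟩⟩ := this _
          (((MorphismProperty.epimorphisms D).arrow_iso_iff e).2 (.infer_property f))
        exact ⟨_, _, f', inferInstance, ⟨e' ≪≫ e⟩⟩
    intro X Y f hf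
    have hk : L.map (cokernel.π f) = 0 := by
      rw [← cancel_epi (L.map f), comp_zero, ← L.map_comp, cokernel.condition, L.map_zero]
    have := preservesKernel W L (cokernel.π f)
    have hiso : IsIso (L.map (Abelian.image.ι f)) :=
      KernelFork.IsLimit.isIso_ι _ ((KernelFork.isLimitMapConeEquiv _ L).1
        (isLimitOfPreserves L (kernelIsKernel (cokernel.π f)))) hk
    refine ⟨_, _, Abelian.factorThruImage f, inferInstance, ⟨?_⟩⟩
    exact Arrow.isoMk (Iso.refl _) (asIso (L.map (Abelian.image.ι f)))
      (by
        dsimp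
        rw [Category.id_comp, ← L.map_comp, Abelian.image.fac])
  · rintro ⟨X', Y', f', _, ⟨e⟩⟩
    exact ((MorphismProperty.epimorphisms D).arrow_mk_iso_iff e).1
      (by simpa using inferInstanceAs (Epi (L.map f')))

lemma isNormalMonoCategory : IsNormalMonoCategory D where
  normalMonoOfMono f hf := by
    rw [mono_iff W L] at hf
    obtain ⟨X', Y', f', _, ⟨e⟩⟩ := hf
    let hf' := normalMonoOfMono f'
    have := preservesKernel W L hf'.g
    refine ⟨NormalMono.ofArrowIso ?_ e⟩
    exact {
      Z := L.obj hf'.Z
      g := L.map hf'.g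
      w := by rw [← L.map_comp]; simp [hf'.w]
      isLimit :=
        (KernelFork.isLimitMapConeEquiv _ L).1
          (isLimitOfPreserves L hf'.isLimit) }

lemma isNormalEpiCategory : IsNormalEpiCategory D where
  normalEpiOfEpi f hf := by
    rw [epi_iff W L] at hf
    obtain ⟨X', Y', f', _, ⟨e⟩⟩ := hf
    let hf' := normalEpiOfEpi f'
    have := preservesCokernel W L hf'.g
    refine ⟨NormalEpi.ofArrowIso ?_ e⟩
    exact {
      W := L.obj hf'.W
      g := L.map hf'.g
      w := by rw [← L.map_comp]; simp [hf'.w]
      isColimit :=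
        (CokernelCofork.isColimitMapCoconeEquiv _ L).1
          (isColimitOfPreserves L hf'.isColimit) }

/-- the abelian structure on the localized category -/
@[instance_reducible]
noncomputable def abelian : Abelian D := by
  have := hasFiniteProducts W L
  have := hasKernels W L
  have := hasCokernels W L
  have := isNormalMonoCategory W L
  have := isNormalEpiCategory W L
  constructor

lemma preservesFiniteLimits : PreservesFiniteLimits L := by
  let := abelian W L
  rw [((Functor.preservesFiniteLimits_tfae L).out 3 2 :)]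
  intro _ _ f
  exact preservesKernel W L f

lemma preservesFiniteColimits : PreservesFiniteColimits L := by
  let := abelian W L
  rw [((Functor.preservesFiniteColimits_tfae L).out 3 2 :)]
  intro _ _ f
  exact preservesCokernel W L f

end helpers3

/-- Let A be an abelian category, W a class of morphisms admitting both left and right calculus of
fractions, and L : A ⥤ D a localization functor for W. Then D admits the structure of an abelian
category and L is exact (preserves finite limits and finite colimits). -/
theorem result {A : Type u} [Category.{v} A] [Abelian A]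
    (W : MorphismProperty A) [W.HasLeftCalculusOfFractions] [W.HasRightCalculusOfFractions]
    {D : Type u'} [Category.{v'} D] (L : A ⥤ D) [L.IsLocalization W] :
    Nonempty (Abelian D) ∧ PreservesFiniteLimits L ∧ PreservesFiniteColimits L := by
  let := Localization.preadditive L W
  have := Localization.functor_additive L W
  exact ⟨⟨abelian W L⟩, preservesFiniteLimits W L, preservesFiniteColimits W L⟩

end Groth.Agent.S1072
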