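import Groth.Statements.S10727
import Mathlib
import Groth.Agent.Lib.helper3.BLGlue
-- import your own Groth.Agent.* helpers here

set_option autoImplicit false
universe u
open TensorProduct
open EtAlg

namespace Groth.Agent.S10727

open Groth.Agent.Lib.helper3

section construction

variable {R : Type u} [CommRing R] {R' : Type u} [CommRing R'] [Algebra R R']
    (f : R) {A₁ : Type u} [CommRing A₁] [Algebra R A₁]
    {A' : Type u} [CommRing A'] [Algebra R A'] [Algebra R' A']
    [IsScalarTower R R' A'] (φ : Localization.Away (algebraMap R A' f) ≃ₐ[R'] R' ⊗[R] A₁)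

/-- the glued algebra as a subalgebra of `A' × A₁`. -/
def gluedAlg : Subalgebra R (A' × A₁) where
  carrier := {p | φ (algebraMap A' (Localization.Away (algebraMap R A' f)) p.1) = (1 : R') ⊗ₜ[R] p.2}
  mul_mem' := by
    intro p q hp hq
    simp only [Set.mem_ofPred_eq] at hp hq ⊢
    rw [Prod.fst_mul, Prod.snd_mul, map_mul, map_mul, hp, hq,
      Algebra.TensorProduct.tmul_mul_tmul, mul_one]
  one_mem' := by
    simp only [Set.mem_ofPred_eq, Prod.fst_one, Prod.snd_one, map_one]
    rfl
  add_mem' := by
    intro p q hp hq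
    simp only [Set.mem_ofPred_eq] at hp hq ⊢
    rw [Prod.fst_add, Prod.snd_add, map_add, map_add, hp, hq, tmul_add]
  zero_mem' := by
    simp only [Set.mem_ofPred_eq, Prod.fst_zero, Prod.snd_zero, map_zero, tmul_zero]
  algebraMap_mem' := by
    intro r
    simp only [Set.mem_ofPred_eq, Prod.algebraMap_apply]
    have h2 : algebraMap R A' r = algebraMap R' A' (algebraMap R R' r) :=
      IsScalarTower.algebraMap_apply R R' A' r
    have h3 := IsScalarTower.algebraMap_apply R' A' (Localization.Away (algebraMap R A' f))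
      (algebraMap R R' r)
    have h1 : algebraMap A' (Localization.Away (algebraMap R A' f)) (algebraMap R A' r) =
        algebraMap R' (Localization.Away (algebraMap R A' f)) (algebraMap R R' r) :=
      (congrArg _ h2).trans h3.symm
    rw [h1, AlgEquiv.commutes, Algebra.TensorProduct.algebraMap_apply]
    rw [Algebra.algebraMap_self_apply, Algebra.algebraMap_eq_smul_one (A := R'),
      Algebra.algebraMap_eq_smul_one (A := A₁), TensorProduct.smul_tmul]

/-- first projection -/
def q₁ : gluedAlg f φ →ₐ[R] A' := (AlgHom.fst R A' A₁).comp (gluedAlg f φ).val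

/-- second projection -/
def q₂ : gluedAlg f φ →ₐ[R] A₁ := (AlgHom.snd R A' A₁).comp (gluedAlg f φ).val

theorem spec (m : gluedAlg f φ) :
    φ (algebraMap A' (Localization.Away (algebraMap R A' f)) (q₁ f φ m)) =
      (1 : R') ⊗ₜ[R] (q₂ f φ m) := m.2

/-- the localization map of `A'` as an `R'`-linear map. -/
noncomputable def gLin : A' →ₗ[R'] Localization.Away (algebraMap R A' f) :=
  (IsScalarTower.toAlgHom R' A' (Localization.Away (algebraMap R A' f))).toLinearMap

instance gLin_isLoc : IsLocalizedModule (Submonoid.powers (algebraMap R R' f))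
    (gLin f (R' := R') (A' := A')) := by
  unfold gLin
  rw [isLocalizedModule_iff_isLocalization, Algebra.algebraMapSubmonoid_powers,
    ← IsScalarTower.algebraMap_apply R R' A']
  infer_instance

theorem isPB : BLGlue.IsPB (gLin f (R' := R') (A' := A')) φ.toLinearEquiv
    (q₁ f φ).toLinearMap (q₂ f φ).toLinearMap where
  spec := fun m => spec f φ m
  ext := fun m m' h1 h2 => Subtype.ext (Prod.ext h1 h2)
  exists_mk := fun x y h => ⟨⟨(x, y), h⟩, rfl, rfl⟩

end construction

theorem main (R : Type u) [CommRing R] (R' : Type u) [CommRing R'] [Algebra R R']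
    (f : R) (hRR' : EtGlue.IsGlueingPair R R' f) (A₁ : Type u) [CommRing A₁] [Algebra R A₁]
    (h₁ : IsUnit (algebraMap R A₁ f)) (A' : Type u) [CommRing A'] [Algebra R A'] [Algebra R' A']
    [IsScalarTower R R' A'] (φ : Localization.Away (algebraMap R A' f) ≃ₐ[R'] R' ⊗[R] A₁) :
    ∃ (A : Type u) (_ : CommRing A) (_ : Algebra R A) (_ : EtGlue.IsGlueable R R' f A)
      (e₁ : Localization.Away (algebraMap R A f) ≃ₐ[R] A₁) (e' : R' ⊗[R] A ≃ₐ[R'] A'),
      ∀ a : A, φ (algebraMap A' (Localization.Away (algebraMap R A' f)) (e' ((1 : R') ⊗ₜ[R] a))) =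
        (1 : R') ⊗ₜ[R] e₁ (algebraMap A (Localization.Away (algebraMap R A f)) a) := by
  have hf : Function.Bijective fun x : A₁ => f • x := by
    have : (fun x : A₁ => f • x) = fun x => algebraMap R A₁ f * x := by
      funext x; exact Algebra.smul_def f x
    rw [this]
    exact IsUnit.isUnit_iff_mulLeft_bijective.mp h₁
  have hpb := isPB f φ
  have hgl : EtGlue.IsGlueable R R' f (gluedAlg f φ) := BLGlue.glueable f hpb hf hRR'
  let ψ : R' ⊗[R] (gluedAlg f φ) →ₐ[R'] A' :=
    Algebra.TensorProduct.productLeftAlgHom (Algebra.ofId R' A') (q₁ f φ)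
  have hψ : ∀ ξ, ψ ξ = (q₁ f φ).toLinearMap.liftBaseChange R' ξ := by
    intro ξ
    induction ξ using TensorProduct.induction_on with
    | zero => simp only [map_zero]
    | tmul r a =>
      rw [LinearMap.liftBaseChange_tmul, Algebra.smul_def]
      rfl
    | add x y hx hy => rw [map_add, map_add, hx, hy]
  have hψbij : Function.Bijective ψ := by
    constructor
    · intro x y h
      rw [hψ, hψ] at h
      exact BLGlue.phi_injective f hpb hf hRR' h
    · intro x
      obtain ⟨ξ, hξ⟩ := BLGlue.phi_surjective f hpb hRR'.1 x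
      exact ⟨ξ, by rw [hψ]; exact hξ⟩
  let e' : R' ⊗[R] (gluedAlg f φ) ≃ₐ[R'] A' := AlgEquiv.ofBijective ψ hψbij
  letI : Algebra (gluedAlg f φ) A₁ := (q₂ f φ).toRingHom.toAlgebra
  have hst : IsScalarTower R (gluedAlg f φ) A₁ :=
    IsScalarTower.of_algebraMap_eq (fun r => ((q₂ f φ).commutes r).symm)
  have hloc2 : IsLocalizedModule (Submonoid.powers f) (q₂ f φ).toLinearMap :=
    BLGlue.isLoc_p₂ f hpb hf
  have hloc : IsLocalization (Submonoid.powers (algebraMap R (gluedAlg f φ) f)) A₁ := by
    rw [← Algebra.algebraMapSubmonoid_powers, ← isLocalizedModule_iff_isLocalization]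
    exact hloc2
  let e₁A := IsLocalization.algEquiv (Submonoid.powers (algebraMap R (gluedAlg f φ) f))
    (Localization.Away (algebraMap R (gluedAlg f φ) f)) A₁
  refine ⟨gluedAlg f φ, inferInstance, inferInstance, hgl, e₁A.restrictScalars R, e', ?_⟩
  intro a
  have h1 : e' ((1 : R') ⊗ₜ[R] a) = q₁ f φ a := by
    have : e' ((1 : R') ⊗ₜ[R] a) = ψ ((1 : R') ⊗ₜ[R] a) := rfl
    rw [this, hψ, LinearMap.liftBaseChange_tmul, one_smul]
    rfl
  have h2 : (e₁A.restrictScalars R) (algebraMap (gluedAlg f φ)
      (Localization.Away (algebraMap R (gluedAlg f φ) f)) a) = q₂ f φ a := by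
    change e₁A _ = _
    rw [AlgEquiv.commutes]
    rfl
  rw [h1, h2]
  exact spec f φ a

/-- Glueing affine schemes along a glueing pair, stated for their coordinate rings. Let `(R → R', f)` be
a glueing pair, `A₁` an `R`-algebra in which `f` is invertible, `A'` an `R'`-algebra and `φ : A'_f ≅
R' ⊗_R A₁` an isomorphism of `R'`-algebras. Then there is an `R`-algebra `A`, glueable as an
`R`-module, with isomorphisms `A_f ≅ A₁` of `R`-algebras and `R' ⊗_R A ≅ A'` of `R'`-algebras under
which `φ` is the canonical identification `(R' ⊗_R A)_f = R' ⊗_R A_f`. (The published statement is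
that base change is an equivalence between affine schemes over `Spec R` that are glueable and
triples of affine schemes over `Spec R_f`, `Spec R'_f`, `Spec R'` with cartesian squares; this row
states only that every such triple arises, on coordinate rings.) -/
theorem result (R : Type u) [CommRing R] (R' : Type u) [CommRing R'] [Algebra R R']
    (f : R) (hRR' : EtGlue.IsGlueingPair R R' f) (A₁ : Type u) [CommRing A₁] [Algebra R A₁]
    (h₁ : IsUnit (algebraMap R A₁ f)) (A' : Type u) [CommRing A'] [Algebra R A'] [Algebra R' A']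
    [IsScalarTower R R' A'] (φ : Localization.Away (algebraMap R A' f) ≃ₐ[R'] R' ⊗[R] A₁) :
    ∃ (A : Type u) (_ : CommRing A) (_ : Algebra R A) (_ : EtGlue.IsGlueable R R' f A)
      (e₁ : Localization.Away (algebraMap R A f) ≃ₐ[R] A₁) (e' : R' ⊗[R] A ≃ₐ[R'] A'),
      ∀ a : A, φ (algebraMap A' (Localization.Away (algebraMap R A' f)) (e' ((1 : R') ⊗ₜ[R] a))) =
        (1 : R') ⊗ₜ[R] e₁ (algebraMap A (Localization.Away (algebraMap R A f)) a) := by
  exact main R R' f hRR' A₁ h₁ A' φ

end Groth.Agent.S10727
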