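import Groth.Statements.S10760
import Groth.Agent.Lib.helper15.AlgSpThick

set_option autoImplicit false
universe u
open CategoryTheory CategoryTheory.Limits AlgebraicGeometry
open AlgSp
open Groth.Agent.Lib.H15.AS

namespace Groth.Agent.S10760

/-- Let f : X ⟶ Y be a morphism of algebraic spaces over S that is locally of finite type, and let i : Z
⟶ X, i' : Z' ⟶ X be closed subspaces (representable closed immersions) with the same image in |X|.
If the composite Z ⟶ Y is proper, then so is Z' ⟶ Y. (That properness of every closed subspace with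
support T implies properness of the reduced one, and that this implies properness of some closed
subspace with support T, is immediate.) -/
theorem result {S : Scheme.{u}} {X Y Z Z' : AlgSp.Space S}
    (f : X ⟶ Y) (hf : AlgSp.LocP @LocallyOfFiniteType f.hom)
    (i : Z ⟶ X) (i' : Z' ⟶ X)
    (hi : AlgSp.RepWith @IsClosedImmersion i.hom) (hi' : AlgSp.RepWith @IsClosedImmersion i'.hom)
    (heq : Set.range (AlgSp.Points.map i.hom) = Set.range (AlgSp.Points.map i'.hom))
    (hZ : AlgSp.IsProperMor (i ≫ f).hom) :
    AlgSp.IsProperMor (i' ≫ f).hom := by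
  have hX := X.property
  have hY := Y.property
  have hZs := Z.property
  have hZ's := Z'.property
  -- W = Z ×_X Z'
  have sqW := IsPullback.of_hasPullback i.hom i'.hom
  have hW : AlgSp.IsAlgSpace (pullback i.hom i'.hom) := isAlgSpace_of_isPullback hX.diag hZs hZ's sqW
  -- the projections are closed immersions
  have ha : AlgSp.RepWith @IsClosedImmersion (pullback.fst i.hom i'.hom) :=
    MorphismProperty.of_isPullback (P := AlgSp.RepWith @IsClosedImmersion) sqW.flip hi'
  have hb : AlgSp.RepWith @IsClosedImmersion (pullback.snd i.hom i'.hom) :=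
    MorphismProperty.of_isPullback (P := AlgSp.RepWith @IsClosedImmersion) sqW hi
  -- `b` is surjective on points
  have hbs : AlgSp.IsSurjectiveMor (pullback.snd i.hom i'.hom) := by
    intro z'
    have hz : AlgSp.Points.map i'.hom z' ∈ Set.range (AlgSp.Points.map i.hom) := by
      rw [heq]; exact ⟨z', rfl⟩
    obtain ⟨z, hz⟩ := hz
    obtain ⟨p, _, hp⟩ := points_exists_of_isPullback sqW z z' hz
    exact ⟨p, hp⟩
  have hbt : AlgSp.IsThickMor (pullback.snd i.hom i'.hom) := by
    have h2 := repWith_surjective_of_isSurjectiveMor hb.rep hbs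
    rw [AlgSp.IsThickMor, AlgSp.repWith_iff]
    refine ⟨hb.rep, fun U V g fst snd sq => ⟨?_, ?_⟩⟩
    · exact ((AlgSp.repWith_iff _ _).1 hb).2 g fst snd sq
    · exact ((AlgSp.repWith_iff _ _).1 h2).2 g fst snd sq
  have hid : AlgSp.IsThickMor (𝟙 Y.obj) := (AlgSp.RepWith (S := S) AlgSp.thick).id_mem Y.obj
  -- W ⟶ Y is proper
  have hWY : AlgSp.IsProperMor (pullback.fst i.hom i'.hom ≫ (i ≫ f).hom) :=
    isProperMor_comp hW hZs hY (isProperMor_of_repWith_isClosedImmersion hW hZs ha) hZ
  have w : pullback.snd i.hom i'.hom ≫ (i' ≫ f).hom =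
      (pullback.fst i.hom i'.hom ≫ (i ≫ f).hom) ≫ 𝟙 Y.obj := by
    rw [Category.comp_id]
    change pullback.snd i.hom i'.hom ≫ i'.hom ≫ f.hom = pullback.fst i.hom i'.hom ≫ i.hom ≫ f.hom
    rw [← Category.assoc, ← Category.assoc, pullback.condition]
  obtain ⟨hsep, ⟨hlft, hqc⟩, huc⟩ := hWY
  refine ⟨(isSeparatedMor_iff_of_thick hW hZ's hY hY hbt hid w).1 hsep, ⟨?_, ?_⟩, ?_⟩
  · change AlgSp.LocP @LocallyOfFiniteType (i'.hom ≫ f.hom)
    refine locP_lft_comp hZ's hX hY ?_ hf
    refine locP_of_repWith @LocallyOfFiniteType (fun A B C e p he hp => ?_)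
      (repWith_mono (fun _ _ g (hg : IsClosedImmersion g) =>
        (inferInstance : LocallyOfFiniteType g)) hi')
    have : Etale e := he
    have : LocallyOfFiniteType p := hp
    exact (inferInstance : LocallyOfFiniteType (e ≫ p))
  · exact (isQuasiCompactMor_iff_of_thick hW hZ's hY hY hbt hid w).1 hqc
  · exact (isUnivClosedMor_iff_of_thick hZ's hY hY hbt hid w).1 huc

end Groth.Agent.S10760
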