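import Groth.Statements.S1077
import Mathlib
import Groth.Agent.Lib.helper17.SubobjLattice
-- import your own Groth.Agent.* helpers here

set_option autoImplicit false
universe v u
open CategoryTheory CategoryTheory.Limits
open CohDer
open Groth.Agent.Lib.helper17

namespace Groth.Agent.S1077

/-- An object X of an abelian category is Artinian and Noetherian if and only if there is a finite chain
of subobjects ⊥ = F₀ ≤ F₁ ≤ … ≤ Fₙ = ⊤ of X whose successive quotients Fᵢ₊₁/Fᵢ are simple. -/
theorem result {A : Type u} [Category.{v} A] [Abelian A] (X : A) :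
    (IsArtinianObject X ∧ IsNoetherianObject X) ↔
      ∃ (n : ℕ) (F : Fin (n + 1) → Subobject X) (hF : Monotone F), F 0 = ⊥ ∧ F (Fin.last n) = ⊤ ∧
        ∀ i : Fin n, Simple (cokernel (Subobject.ofLE (F (Fin.castSucc i)) (F (Fin.succ i)) (hF (Fin.castSucc_lt_succ (i := i)).le))) := by
  constructor
  · rintro ⟨hA, hN⟩
    have : WellFoundedLT (Subobject X) := (NoethObj.isArtinianObject_iff_wellFoundedLT X).1 hA
    have : WellFoundedGT (Subobject X) := (NoethObj.isNoetherianObject_iff_wellFoundedGT X).1 hN
    obtain ⟨a, ha0, n, han, hcov⟩ :=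
      exists_covBy_seq_of_wellFoundedLT_wellFoundedGT (Subobject X)
    have h0 : a 0 = ⊥ := isMin_iff_eq_bot.1 ha0
    have hn : a n = ⊤ := isMax_iff_eq_top.1 han
    have hmono : ∀ i j : ℕ, i ≤ j → j ≤ n → a i ≤ a j := by
      intro i j hij
      induction j, hij using Nat.le_induction with
      | base => intro _; exact le_rfl
      | succ j hij ih =>
        intro hj
        exact (ih (Nat.le_of_succ_le hj)).trans (hcov j hj).le
    refine ⟨n, fun i => a i, ?_, ?_, ?_, ?_⟩
    · intro i j hij
      exact hmono i j hij (Nat.le_of_lt_succ j.isLt)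
    · simpa using h0
    · simpa using hn
    · intro i
      exact SubobjLattice.simple_cokernel_of_covBy (hcov i i.isLt)
  · rintro ⟨n, F, hF, hF0, hFn, hFs⟩
    have key : ∀ i : Fin (n + 1),
        IsArtinianObject (F i : A) ∧ IsNoetherianObject (F i : A) := by
      intro i
      induction i using Fin.induction with
      | zero =>
        have hz := SubobjLattice.isZero_of_eq_bot _ hF0
        exact ⟨isArtinianObject_of_isZero hz, isNoetherianObject_of_isZero hz⟩
      | succ i ih =>
        obtain ⟨h1, h2⟩ := ih
        have := hFs i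
        exact ⟨SubobjLattice.isArtinianObject_of_simple_cokernel
            (hF (Fin.castSucc_lt_succ (i := i)).le),
          SubobjLattice.isNoetherianObject_of_simple_cokernel
            (hF (Fin.castSucc_lt_succ (i := i)).le)⟩
    obtain ⟨h1, h2⟩ := key (Fin.last n)
    have hiso : IsIso (F (Fin.last n)).arrow := by rw [hFn]; infer_instance
    exact ⟨NoethObj.isArtinianObject_of_iso (asIso (F (Fin.last n)).arrow),
      NoethObj.isNoetherianObject_of_iso (asIso (F (Fin.last n)).arrow)⟩

end Groth.Agent.S1077
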