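import Groth.Statements.S1079
import Mathlib
import Groth.Agent.Lib.helper2.Brown
-- import your own Groth.Agent.* helpers here

set_option autoImplicit false
universe v u
open CategoryTheory CategoryTheory.Limits
open CohDer

namespace Groth.Agent.S1079


section helpers
set_option linter.unusedSectionVars false
open CategoryTheory.Pretriangulated CategoryTheory.Limits Groth.Agent.Lib.helper2.Brown

variable {D : Type u} [Category.{v} D] [Preadditive D] [HasZeroObject D] [HasShift D ℤ]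
  [∀ n : ℤ, (shiftFunctor D n).Additive] [Pretriangulated D]

/-- the coproduct case -/
theorem isIdempotentComplete_of_coproducts [HasCoproductsOfShape ℕ D] :
    IsIdempotentComplete D := by
  refine ⟨fun X e he => ?_⟩
  let s : ∐ (cst X) ⟶ ∐ (cst X) := shiftMap (cst X) (fun _ => e)
  let E : ∐ (cst X) ⟶ ∐ (cst X) := Limits.Sigma.map (fun _ => e)
  let R : ∐ (cst X) ⟶ ∐ (cst X) := oneSubRetr X ≫ E + (𝟙 _ - E)
  have hs : ∀ n, Sigma.ι (cst X) n ≫ s = e ≫ Sigma.ι (cst X) (n + 1) := fun n => by simp [s]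
  have hR : ∀ m, Sigma.ι (cst X) m ≫ R =
      -(∑ k ∈ Finset.range m, e ≫ Sigma.ι (cst X) k) + (Sigma.ι (cst X) m - e ≫ Sigma.ι (cst X) m) := by
    intro m
    simp only [R, E, oneSubRetr, Preadditive.comp_add, Preadditive.comp_sub, Category.comp_id,
      colimit.ι_desc_assoc, Cofan.mk_pt, Cofan.mk_ι_app, Preadditive.neg_comp,
      Preadditive.sum_comp, Sigma.ι_map]
  have hsR : (𝟙 _ - s) ≫ R = 𝟙 _ := by
    apply Sigma.hom_ext
    intro n
    rw [Preadditive.sub_comp, Preadditive.comp_sub, Category.id_comp, Category.comp_id,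
      ← Category.assoc, hs, Category.assoc, hR, hR, Finset.sum_range_succ]
    simp only [Preadditive.comp_add, Preadditive.comp_sub, Preadditive.comp_neg,
      Preadditive.comp_sum, ← Category.assoc, he]
    abel
  obtain ⟨Y, π, δ, hT⟩ := distinguished_cocone_triangle (𝟙 (∐ (cst X)) - s)
  have hδ : δ = 0 := by
    have h1 : δ ≫ (shiftFunctor D (1 : ℤ)).map (𝟙 (∐ (cst X)) - s) = 0 :=
      comp_distTriang_mor_zero₃₁ _ hT
    have h2 := h1 =≫ (shiftFunctor D (1 : ℤ)).map R
    rw [Category.assoc, ← Functor.map_comp, hsR, CategoryTheory.Functor.map_id, Category.comp_id,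
      zero_comp] at h2
    exact h2
  have hπ : (𝟙 (∐ (cst X)) - s) ≫ π = 0 := comp_distTriang_mor_zero₁₂ _ hT
  have hπ' : ∀ n, Sigma.ι (cst X) n ≫ π = e ≫ Sigma.ι (cst X) (n + 1) ≫ π := by
    intro n
    have := Sigma.ι (cst X) n ≫= hπ
    rw [comp_zero, Preadditive.sub_comp, Preadditive.comp_sub, Category.id_comp, sub_eq_zero,
      ← Category.assoc, hs, Category.assoc] at this
    exact this
  have hπ'' : ∀ n, Sigma.ι (cst X) (n + 1) ≫ π = Sigma.ι (cst X) n ≫ π := by
    intro n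
    calc Sigma.ι (cst X) (n + 1) ≫ π = e ≫ Sigma.ι (cst X) (n + 1 + 1) ≫ π := hπ' (n + 1)
      _ = (e ≫ e) ≫ Sigma.ι (cst X) (n + 1 + 1) ≫ π := by rw [he]
      _ = e ≫ Sigma.ι (cst X) (n + 1) ≫ π := by rw [Category.assoc, ← hπ' (n + 1)]
      _ = Sigma.ι (cst X) n ≫ π := (hπ' n).symm
  have hπ0 : ∀ n, Sigma.ι (cst X) n ≫ π = Sigma.ι (cst X) 0 ≫ π := by
    intro n
    induction n with
    | zero => rfl
    | succ n ih => rw [hπ'', ih]
  have heπ : e ≫ Sigma.ι (cst X) 0 ≫ π = Sigma.ι (cst X) 0 ≫ π := by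
    calc e ≫ Sigma.ι (cst X) 0 ≫ π = e ≫ Sigma.ι (cst X) (0 + 1) ≫ π := by rw [hπ0 (0 + 1)]
      _ = Sigma.ι (cst X) 0 ≫ π := (hπ' 0).symm
  let desc : ∐ (cst X) ⟶ X := Sigma.desc (fun _ => e)
  have hdesc : (𝟙 (∐ (cst X)) - s) ≫ desc = 0 := by
    apply Sigma.hom_ext
    intro n
    rw [comp_zero, Preadditive.sub_comp, Preadditive.comp_sub, Category.id_comp,
      ← Category.assoc, hs]
    simp [desc, he]
  obtain ⟨i, hi⟩ : ∃ i : Y ⟶ X, desc = π ≫ i := Triangle.yoneda_exact₂ _ hT desc hdesc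
  let r : X ⟶ Y := Sigma.ι (cst X) 0 ≫ π
  refine ⟨Y, i, r, ?_, ?_⟩
  · have h1 : π ≫ (i ≫ r - 𝟙 Y) = 0 := by
      rw [Preadditive.comp_sub, Category.comp_id, ← Category.assoc, ← hi, sub_eq_zero]
      apply Sigma.hom_ext
      intro n
      simp only [desc, r, colimit.ι_desc_assoc, Cofan.mk_pt, Cofan.mk_ι_app]
      rw [heπ, hπ0 n]
    obtain ⟨t, ht⟩ := Triangle.yoneda_exact₃ _ hT (i ≫ r - 𝟙 Y) h1
    have ht' : i ≫ r - 𝟙 Y = δ ≫ t := ht
    rw [hδ, zero_comp, sub_eq_zero] at ht'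
    exact ht'
  · change (Sigma.ι (cst X) 0 ≫ π) ≫ i = e
    rw [Category.assoc, ← hi]
    simp [desc]

end helpers

/-- A pretriangulated category which has countable coproducts, or countable products, is Karoubian
(idempotent complete). -/
theorem result {D : Type u} [Category.{v} D] [Preadditive D] [Limits.HasZeroObject D] [HasShift D ℤ]
    [∀ n : ℤ, (shiftFunctor D n).Additive] [Pretriangulated D]
    (h : HasColimitsOfShape (Discrete ℕ) D ∨ HasLimitsOfShape (Discrete ℕ) D) : IsIdempotentComplete D := by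
  rcases h with h | h
  · exact isIdempotentComplete_of_coproducts
  · open CategoryTheory.Pretriangulated.Opposite in
    have : Limits.HasColimitsOfShape (Discrete ℕ) Dᵒᵖ := by
      have : Limits.HasLimitsOfShape (Discrete ℕ)ᵒᵖ D :=
        Limits.hasLimitsOfShape_of_equivalence (Discrete.opposite ℕ).symm
      exact Limits.hasColimitsOfShape_op_of_hasLimitsOfShape
    rw [← Idempotents.isIdempotentComplete_iff_opposite]
    exact isIdempotentComplete_of_coproducts

end Groth.Agent.S1079
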