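import Groth.Statements.S10803
import Groth.Agent.Lib.helper15.AlgSpNoeth4
import Groth.Agent.Lib.helper15.AlgSpSeven2
import Groth.Agent.Lib.helper15.AlgSpLocP
import Groth.Agent.Lib.helper15.AlgSpNoeth2
import Groth.Agent.S10408

set_option autoImplicit false
universe u
open CategoryTheory CategoryTheory.Limits AlgebraicGeometry Topology TopologicalSpace
open AlgSp
open Groth.Agent.Lib.H15.AS

namespace Groth.Agent.S10803

variable {S : Scheme.{u}}

/-- If the fibre over a field-valued point `p` is locally Noetherian and `p` factors through a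
field-valued point `p₀`, then the fibre over `p₀` is locally Noetherian (fpqc descent). -/
theorem isLocNoethSp_fibre_of_factor {X Y : AlgSp.Sp S} (hX : AlgSp.IsAlgSpace X)
    (hY : AlgSp.IsAlgSpace Y) (f : X ⟶ Y) (p p₀ : AlgSp.FieldPt Y)
    (φ : p.pt ⟶ p₀.pt) (hφ : (AlgSp.yon S).map φ ≫ p₀.toHom = p.toHom)
    (hNoeth : ∀ ⦃P : AlgSp.Sp S⦄ (fst : P ⟶ X) (snd : P ⟶ (AlgSp.yon S).obj p.pt),
      IsPullback fst snd f p.toHom → AlgSp.IsLocNoethSp P)
    {Q : AlgSp.Sp S} (qfst : Q ⟶ X) (qsnd : Q ⟶ (AlgSp.yon S).obj p₀.pt)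
    (hQ : IsPullback qfst qsnd f p₀.toHom) : AlgSp.IsLocNoethSp Q := by
  have sqP := IsPullback.of_hasPullback f p.toHom
  have hP := hNoeth _ _ sqP
  have w : pullback.fst f p.toHom ≫ f =
      (pullback.snd f p.toHom ≫ (AlgSp.yon S).map φ) ≫ p₀.toHom := by
    rw [Category.assoc, hφ]; exact pullback.condition
  obtain ⟨g, hg1, hg2⟩ : ∃ g : pullback f p.toHom ⟶ Q, g ≫ qfst = pullback.fst f p.toHom ∧
      g ≫ qsnd = pullback.snd f p.toHom ≫ (AlgSp.yon S).map φ :=
    ⟨hQ.lift _ _ w, hQ.lift_fst _ _ _, hQ.lift_snd _ _ _⟩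
  have sqg : IsPullback g (pullback.snd f p.toHom) qsnd ((AlgSp.yon S).map φ) := by
    refine IsPullback.of_right ?_ hg2 hQ
    rw [hg1, hφ]; exact sqP
  have hQalg : AlgSp.IsAlgSpace Q :=
    isAlgSpace_of_isPullback hY.diag hX (AlgSp.IsAlgSpace.yon_obj p₀.pt) hQ
  have hsub : Subsingleton ↥p₀.pt.left := by
    change Subsingleton ↥(Spec (CommRingCat.of p₀.K)); infer_instance
  have hint : IsIntegral p₀.pt.left := by
    change IsIntegral (Spec (CommRingCat.of p₀.K)); infer_instance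
  have hflat : Flat φ.left := inferInstance
  have hsurj : Surjective φ.left :=
    ⟨fun y => ⟨(IsLocalRing.closedPoint p.K : ↥(Spec (CommRingCat.of p.K))), Subsingleton.elim _ _⟩⟩
  have hcpt : CompactSpace ↥p.pt.left := by
    change CompactSpace ↥(Spec (CommRingCat.of p.K)); infer_instance
  have hqs : QuasiSeparatedSpace ↥p₀.pt.left := by
    change QuasiSeparatedSpace ↥(Spec (CommRingCat.of p₀.K)); infer_instance
  have hqc : QuasiCompact φ.left := inferInstance
  exact isLocNoethSp_of_baseChange_fpqc φ g (pullback.snd f p.toHom) qsnd sqg hQalg hP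

/-- If the fibre over a field-valued point `p` is locally Noetherian and `q` maps to `p` by a
morphism locally of finite type, then the fibre over `q` is locally Noetherian. -/
theorem isLocNoethSp_fibre_of_lft {X Y : AlgSp.Sp S} (hX : AlgSp.IsAlgSpace X)
    (hY : AlgSp.IsAlgSpace Y) (f : X ⟶ Y) (p q : AlgSp.FieldPt Y)
    (ψ : q.pt ⟶ p.pt) (hψ : (AlgSp.yon S).map ψ ≫ p.toHom = q.toHom)
    (hlft : LocallyOfFiniteType ψ.left)
    (hNoeth : ∀ ⦃P : AlgSp.Sp S⦄ (fst : P ⟶ X) (snd : P ⟶ (AlgSp.yon S).obj p.pt),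
      IsPullback fst snd f p.toHom → AlgSp.IsLocNoethSp P)
    {Q : AlgSp.Sp S} (qfst : Q ⟶ X) (qsnd : Q ⟶ (AlgSp.yon S).obj q.pt)
    (hQ : IsPullback qfst qsnd f q.toHom) : AlgSp.IsLocNoethSp Q := by
  have sqP := IsPullback.of_hasPullback f p.toHom
  have hP := hNoeth _ _ sqP
  have w : qfst ≫ f = (qsnd ≫ (AlgSp.yon S).map ψ) ≫ p.toHom := by
    rw [Category.assoc, hψ]; exact hQ.w
  obtain ⟨g, hg1, hg2⟩ : ∃ g : Q ⟶ pullback f p.toHom, g ≫ pullback.fst f p.toHom = qfst ∧
      g ≫ pullback.snd f p.toHom = qsnd ≫ (AlgSp.yon S).map ψ :=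
    ⟨sqP.lift _ _ w, sqP.lift_fst _ _ _, sqP.lift_snd _ _ _⟩
  have sqg : IsPullback g qsnd (pullback.snd f p.toHom) ((AlgSp.yon S).map ψ) := by
    refine IsPullback.of_right ?_ hg2 sqP
    rw [hg1, hψ]; exact hQ
  have hQalg : AlgSp.IsAlgSpace Q :=
    isAlgSpace_of_isPullback hY.diag hX (AlgSp.IsAlgSpace.yon_obj q.pt) hQ
  have hrw : AlgSp.RepWith @LocallyOfFiniteType ((AlgSp.yon S).map ψ) :=
    (AlgSp.repWith_yon_map_iff _ _).2 hlft
  have hg : AlgSp.RepWith @LocallyOfFiniteType g :=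
    (AlgSp.RepWith @LocallyOfFiniteType).of_isPullback sqg.flip hrw
  have hloc : AlgSp.LocP @LocallyOfFiniteType g :=
    locP_of_repWith @LocallyOfFiniteType (fun _ _ _ e p he hp => by
      have := he; have := hp; infer_instance) hg
  exact isLocNoethSp_of_locP_lft hQalg hloc hP

/-- (3) ⇒ (2) (with (2) ⇒ (1) ⇒ (3) immediate, this gives the equivalence of the three conditions
defining a locally Noetherian fibre over y): take a morphism f : X ⟶ Y of algebraic spaces over a
scheme S and a point y of |Y|. Suppose that for some field k and some point p : Spec k ⟶ Y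
representing y the fibre X_p (any pullback of f along the morphism of p) is locally Noetherian. Then
for every scheme V, every representable etale h_V ⟶ Y and every point v of V mapping to y, the fibre
X_v = Spec κ(v) ×_Y X is locally Noetherian. -/
theorem result {S : Scheme.{u}} (X Y : AlgSp.Space S) (f : X ⟶ Y)
    (y : AlgSp.Points Y.obj) (p : AlgSp.FieldPt Y.obj) (hp : AlgSp.Points.mk p = y)
    (hNoeth : ∀ ⦃P : AlgSp.Sp S⦄ (fst : P ⟶ X.obj) (snd : P ⟶ (AlgSp.yon S).obj p.pt),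
      IsPullback fst snd f.hom p.toHom → AlgSp.IsLocNoethSp P)
    (V : Over S) (b : (AlgSp.yon S).obj V ⟶ Y.obj) (hb : AlgSp.RepWith @Etale b) (v : ↥V.left)
    (hv : AlgSp.Points.ofPt b v = y)
    {Q : AlgSp.Sp S} (qfst : Q ⟶ X.obj) (qsnd : Q ⟶ (AlgSp.yon S).obj (AlgSp.FieldPt.ofPt b v).pt)
    (hQ : IsPullback qfst qsnd f.hom (AlgSp.FieldPt.ofPt b v).toHom) :
    AlgSp.IsLocNoethSp Q := by
  subst hp
  have hrep := hb.rep
  have sqT := hrep.isPullback' p.toHom
  have e : AlgSp.Points.ofPt b v = AlgSp.Points.ofPt p.toHom (IsLocalRing.closedPoint p.K) := by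
    rw [hv, AlgSp.Points.ofPt_toHom]
  obtain ⟨t, rfl, -⟩ := exists_point_of_ofPt_eq sqT v (IsLocalRing.closedPoint p.K) e
  -- notation
  let T : Over S := hrep.pullback p.toHom
  let τ : T ⟶ V := hrep.fst' p.toHom
  let σ : T ⟶ p.pt := hrep.snd p.toHom
  have sqT' : IsPullback ((AlgSp.yon S).map τ) ((AlgSp.yon S).map σ) b p.toHom := sqT
  have hσe : Etale σ.left := hb.property_snd p.toHom
  -- the point `t` of `T` is closed
  have hlqf : LocallyQuasiFinite σ.left := Groth.Agent.S10408.locallyQuasiFinite_of_etale σ.left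
  have hsub : Subsingleton ↥p.pt.left := by
    change Subsingleton ↥(Spec (CommRingCat.of p.K)); infer_instance
  have hdisc : DiscreteTopology ↥T.left := by
    rw [← isDiscrete_univ_iff]
    have h1 := σ.left.isDiscrete_preimage_singleton (σ.left t)
    have h2 : (σ.left ⁻¹' {σ.left t} : Set ↥T.left) = Set.univ := by
      ext z
      simp only [Set.mem_preimage, Set.mem_singleton_iff, Set.mem_univ, iff_true]
      exact Subsingleton.elim _ _
    rwa [h2] at h1
  have hcl : IsClosed ({t} : Set ↥T.left) := isClosed_discrete _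
  have hci : IsClosedImmersion (T.left.fromSpecResidueField t) :=
    isClosed_singleton_iff_isClosedImmersion.mp hcl
  -- the field point of `t`
  let qt : AlgSp.FieldPt Y.obj := AlgSp.FieldPt.ofPt ((AlgSp.yon S).map τ ≫ b) t
  let ιt : qt.pt ⟶ T := Over.homMk (T.left.fromSpecResidueField t) rfl
  have hqt : qt.toHom = (AlgSp.yon S).map ιt ≫ (AlgSp.yon S).map τ ≫ b :=
    AlgSp.FieldPt.toHom_ofPt _ _
  -- (a) the fibre over `qt` is locally Noetherian
  have hψ₁ : (AlgSp.yon S).map (ιt ≫ σ) ≫ p.toHom = qt.toHom := by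
    rw [hqt, Functor.map_comp, Category.assoc, ← sqT'.w]
  have hlft : LocallyOfFiniteType (ιt ≫ σ).left := by
    change LocallyOfFiniteType (T.left.fromSpecResidueField t ≫ σ.left)
    infer_instance
  have hNoeth' : ∀ ⦃P : AlgSp.Sp S⦄ (fst : P ⟶ X.obj) (snd : P ⟶ (AlgSp.yon S).obj qt.pt),
      IsPullback fst snd f.hom qt.toHom → AlgSp.IsLocNoethSp P := fun P fst snd sq =>
    isLocNoethSp_fibre_of_lft X.property Y.property f.hom p qt (ιt ≫ σ) hψ₁ hlft hNoeth fst snd sq
  -- (b) descend along `Spec κ(t) ⟶ Spec κ(τ t)`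
  let pv : AlgSp.FieldPt Y.obj := AlgSp.FieldPt.ofPt b (τ.left t)
  let ιv : pv.pt ⟶ V := Over.homMk (V.left.fromSpecResidueField (τ.left t)) rfl
  have hpv : pv.toHom = (AlgSp.yon S).map ιv ≫ b := AlgSp.FieldPt.toHom_ofPt _ _
  let φ : qt.pt ⟶ pv.pt := Over.homMk (Spec.map (τ.left.residueFieldMap t)) (by
    change Spec.map (τ.left.residueFieldMap t) ≫ V.left.fromSpecResidueField (τ.left t) ≫ V.hom =
      T.left.fromSpecResidueField t ≫ T.hom
    rw [← Category.assoc, Scheme.Hom.SpecMap_residueFieldMap_fromSpecResidueField, Category.assoc,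
      Over.w τ])
  have hφι : φ ≫ ιv = ιt ≫ τ := by
    apply Over.OverMorphism.ext
    exact Scheme.Hom.SpecMap_residueFieldMap_fromSpecResidueField _ _
  have hφ : (AlgSp.yon S).map φ ≫ pv.toHom = qt.toHom := by
    rw [hpv, hqt, ← Category.assoc, ← Functor.map_comp, hφι, Functor.map_comp, Category.assoc]
  exact isLocNoethSp_fibre_of_factor X.property Y.property f.hom qt pv φ hφ hNoeth' qfst qsnd hQ

end Groth.Agent.S10803
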