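import Groth.Statements.S10821
import Mathlib

set_option autoImplicit false
universe u
open AlgebraicGeometry Topology TopologicalSpace
open Variety

namespace Groth.Agent.S10821

section Helpers

open AlgebraicGeometry CategoryTheory TopologicalSpace

section
variable (k : Type u) [Field k] (n : ℕ)

local notation "𝒜" => CohB1.polyGrading n k
local notation "A" => MvPolynomial (Fin (n + 1)) k

/-- the generic point of projective space. -/
noncomputable def b0 : ProjectiveSpectrum 𝒜 :=
  ⟨⊥, (Ideal.isPrime_bot : (⊥ : Ideal A).IsPrime), by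
    intro hle
    have h1 : (MvPolynomial.X 0 : A) ∈ HomogeneousIdeal.irrelevant 𝒜 :=
      HomogeneousIdeal.mem_irrelevant_of_mem 𝒜 (i := 1) one_pos (MvPolynomial.isHomogeneous_X _ _)
    have h2 : (MvPolynomial.X 0 : A) ∈ (⊥ : HomogeneousIdeal 𝒜) := hle h1
    have h3 : (MvPolynomial.X 0 : A) ∈ (⊥ : Ideal A) := h2
    rw [Ideal.mem_bot] at h3
    exact MvPolynomial.X_ne_zero _ h3⟩

lemma isMin_iff (x : ProjectiveSpectrum 𝒜) : IsMin x ↔ x.asHomogeneousIdeal.toIdeal = ⊥ := by
  constructor
  · intro h
    have h1 : b0 k n ≤ x := by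
      change (b0 k n).asHomogeneousIdeal ≤ x.asHomogeneousIdeal
      intro f hf
      have : f ∈ (⊥ : Ideal A) := hf
      rw [Ideal.mem_bot] at this
      rw [this]
      exact zero_mem _
    have h2 : x.asHomogeneousIdeal ≤ (b0 k n).asHomogeneousIdeal := h h1
    rw [eq_bot_iff]
    intro f hf
    exact h2 hf
  · intro h b hb
    change x.asHomogeneousIdeal ≤ b.asHomogeneousIdeal
    intro f hf
    have hf' : f ∈ x.asHomogeneousIdeal.toIdeal := hf
    rw [h, Ideal.mem_bot] at hf'
    rw [hf']
    exact zero_mem _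

lemma height_eq_one_iff (p : ProjectiveSpectrum 𝒜) :
    Order.height p = 1 ↔ p.asHomogeneousIdeal.toIdeal ≠ ⊥ ∧
      ∀ x : ProjectiveSpectrum 𝒜, x < p → x.asHomogeneousIdeal.toIdeal = ⊥ := by
  have h1 : Order.height p ≤ 1 ↔
      ∀ x : ProjectiveSpectrum 𝒜, x < p → x.asHomogeneousIdeal.toIdeal = ⊥ := by
    have := Order.height_le_coe_iff (x := p) (n := 1)
    rw [Nat.cast_one] at this
    rw [this]
    refine forall₂_congr fun x _ => ?_
    rw [Order.lt_one_iff, Order.height_eq_zero, isMin_iff]
  have h2 : 1 ≤ Order.height p ↔ p.asHomogeneousIdeal.toIdeal ≠ ⊥ := by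
    rw [Order.one_le_iff_pos, Order.height_pos, isMin_iff]
  rw [le_antisymm_iff, h1, h2, and_comm]

lemma lemB (y : ProjectiveSpectrum 𝒜) (f : A) (hf : Irreducible f)
    (hy : y.asHomogeneousIdeal.toIdeal = Ideal.span {f}) : Order.height y = 1 := by
  rw [height_eq_one_iff]
  constructor
  · rw [hy, Ne, Ideal.span_singleton_eq_bot]
    exact hf.ne_zero
  · intro x hxy
    by_contra hne
    obtain ⟨g, hgx, hg⟩ := Ideal.IsPrime.exists_mem_prime_of_ne_bot x.isPrime hne
    have hlt : x.asHomogeneousIdeal.toIdeal < y.asHomogeneousIdeal.toIdeal := hxy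
    have hgy : g ∈ Ideal.span {f} := hy ▸ hlt.le hgx
    rw [Ideal.mem_span_singleton] at hgy
    have hassoc : Associated f g := hf.associated_of_dvd hg.irreducible hgy
    have hfx : f ∈ x.asHomogeneousIdeal.toIdeal := by
      obtain ⟨u, hu⟩ := hassoc.symm
      rw [← hu]
      exact Ideal.mul_mem_right _ _ hgx
    apply hlt.not_ge
    rw [hy, Ideal.span_singleton_le_iff_mem]
    exact hfx

lemma top_ne_zero (f : A) (hf : f ≠ 0) :
    MvPolynomial.homogeneousComponent f.totalDegree f ≠ 0 := by
  obtain ⟨m, hm, hmd⟩ := Finset.exists_mem_eq_sup f.support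
    (MvPolynomial.support_nonempty.mpr hf) (fun s => s.sum fun _ e => e)
  intro h0
  have h1 : MvPolynomial.coeff m (MvPolynomial.homogeneousComponent f.totalDegree f) =
      MvPolynomial.coeff m f := by
    rw [MvPolynomial.coeff_homogeneousComponent, if_pos]
    exact hmd.symm
  rw [h0, MvPolynomial.coeff_zero] at h1
  exact (MvPolynomial.mem_support_iff.mp hm) h1.symm

lemma lemA (p : ProjectiveSpectrum 𝒜) (hp : Order.height p = 1) :
    ∃ (d : ℕ) (f : A), f.IsHomogeneous d ∧ Irreducible f ∧
      p.asHomogeneousIdeal.toIdeal = Ideal.span {f} := by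
  rw [height_eq_one_iff] at hp
  obtain ⟨hne, hmin⟩ := hp
  -- a nonzero homogeneous element
  obtain ⟨g, hgp, hg0⟩ := Submodule.exists_mem_ne_zero_of_ne_bot hne
  obtain ⟨e, he0⟩ : ∃ e, MvPolynomial.homogeneousComponent e g ≠ 0 := by
    by_contra hcon
    push Not at hcon
    apply hg0
    rw [← MvPolynomial.sum_homogeneousComponent (φ := g)]
    exact Finset.sum_eq_zero fun i _ => hcon i
  have hdec : ∀ (e : ℕ) (g : A), (DirectSum.decompose 𝒜 g e : A) =
      MvPolynomial.homogeneousComponent e g :=
    fun e g => MvPolynomial.decomposition.decompose'_apply g e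
  set h := MvPolynomial.homogeneousComponent e g with hh
  have hhp : h ∈ p.asHomogeneousIdeal.toIdeal := by
    rw [hh, ← hdec]
    exact p.asHomogeneousIdeal.isHomogeneous e hgp
  have hhhom : SetLike.IsHomogeneousElem 𝒜 h :=
    ⟨e, MvPolynomial.homogeneousComponent_mem e g⟩
  -- a prime factor in p
  obtain ⟨s, hs, hsassoc⟩ := UniqueFactorizationMonoid.exists_prime_factors h he0
  have hsp : s.prod ∈ p.asHomogeneousIdeal.toIdeal := by
    obtain ⟨c, hc⟩ := hsassoc.symm.dvd
    rw [hc]
    exact Ideal.mul_mem_right _ _ hhp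
  obtain ⟨f, hfs, hfp⟩ := (p.isPrime.multiset_prod_mem_iff_exists_mem s).mp hsp
  have hfprime : Prime f := hs f hfs
  have hfh : f ∣ h := (Multiset.dvd_prod hfs).trans hsassoc.dvd
  -- the homogeneous core of (f)
  have hspanprime : (Ideal.span {f}).IsPrime :=
    (Ideal.span_singleton_prime hfprime.ne_zero).mpr hfprime
  have hspanle : Ideal.span {f} ≤ p.asHomogeneousIdeal.toIdeal :=
    (Ideal.span_singleton_le_iff_mem _).mpr hfp
  have hcorele : ((Ideal.span {f}).homogeneousCore 𝒜).toIdeal ≤ Ideal.span {f} :=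
    Ideal.toIdeal_homogeneousCore_le 𝒜 _
  let x : ProjectiveSpectrum 𝒜 :=
    ⟨(Ideal.span {f}).homogeneousCore 𝒜, hspanprime.homogeneousCore, fun hirr =>
      p.not_irrelevant_le (fun a ha => hspanle (hcorele (hirr ha)))⟩
  have hxp : x ≤ p := fun a ha => hspanle (hcorele ha)
  have hhx : h ∈ x.asHomogeneousIdeal.toIdeal :=
    Ideal.mem_homogeneousCore_of_homogeneous_of_mem hhhom (Ideal.mem_span_singleton.mpr hfh)
  have hxeq : x = p := by
    by_contra hxne
    have hx0 := hmin x (lt_of_le_of_ne hxp hxne)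
    rw [hx0, Ideal.mem_bot] at hhx
    exact he0 hhx
  have hpf : p.asHomogeneousIdeal.toIdeal = Ideal.span {f} := by
    apply le_antisymm _ hspanle
    rw [← hxeq]
    exact hcorele
  -- top component
  have hf0 := hfprime.ne_zero
  set ft := MvPolynomial.homogeneousComponent f.totalDegree f with hft
  have hft0 : ft ≠ 0 := top_ne_zero k n f hf0
  have hftp : ft ∈ Ideal.span {f} := by
    rw [← hpf, hft, ← hdec]
    exact p.asHomogeneousIdeal.isHomogeneous _ hfp
  obtain ⟨c, hc⟩ := Ideal.mem_span_singleton.mp hftp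
  have hc0 : c ≠ 0 := by
    rintro rfl
    rw [mul_zero] at hc
    exact hft0 hc
  have hfthom : ft.IsHomogeneous f.totalDegree :=
    MvPolynomial.homogeneousComponent_isHomogeneous _ _
  have hdeg : ft.totalDegree = f.totalDegree := hfthom.totalDegree hft0
  rw [hc, MvPolynomial.totalDegree_mul_of_isDomain hf0 hc0] at hdeg
  have hcdeg : c.totalDegree = 0 := by omega
  rw [MvPolynomial.totalDegree_eq_zero_iff_eq_C] at hcdeg
  have hcu : IsUnit c := by
    rw [hcdeg]
    apply IsUnit.map
    apply IsUnit.mk0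
    intro h0
    apply hc0
    rw [hcdeg, h0, map_zero]
  have hassoc : Associated f ft := ⟨hcu.unit, by rw [hc]; rfl⟩
  refine ⟨f.totalDegree, ft, hfthom, hassoc.irreducible hfprime.irreducible, ?_⟩
  rw [hpf]
  exact Ideal.span_singleton_eq_span_singleton.mpr hassoc

instance instQS : QuasiSober (ProjectiveSpectrum 𝒜) :=
  inferInstanceAs (QuasiSober ↥(Proj 𝒜))

instance instT0 : T0Space (ProjectiveSpectrum 𝒜) :=
  inferInstanceAs (T0Space ↥(Proj 𝒜))

/-- generic point of an irreducible closed subset. -/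
noncomputable def gp (Z : IrreducibleCloseds (ProjectiveSpectrum 𝒜)) : ProjectiveSpectrum 𝒜 :=
  Z.isIrreducible'.genericPoint

lemma gp_spec (Z : IrreducibleCloseds (ProjectiveSpectrum 𝒜)) :
    closure {gp k n Z} = (Z : Set (ProjectiveSpectrum 𝒜)) :=
  Z.isIrreducible'.isGenericPoint_genericPoint Z.isClosed'

lemma closure_pt (y : ProjectiveSpectrum 𝒜) :
    closure {y} = ProjectiveSpectrum.zeroLocus 𝒜 (y.asHomogeneousIdeal.toIdeal : Set A) := by
  rw [← ProjectiveSpectrum.zeroLocus_vanishingIdeal_eq_closure,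
    ProjectiveSpectrum.vanishingIdeal_singleton]
  rfl

/-- the order isomorphism with the dual of the poset of points. -/
noncomputable def eIso : IrreducibleCloseds (ProjectiveSpectrum 𝒜) ≃o (ProjectiveSpectrum 𝒜)ᵒᵈ where
  toFun Z := OrderDual.toDual (gp k n Z)
  invFun x := ⟨closure {OrderDual.ofDual x}, isIrreducible_singleton.closure, isClosed_closure⟩
  left_inv Z := by
    apply IrreducibleCloseds.ext
    exact gp_spec k n Z
  right_inv x := by
    apply congrArg OrderDual.toDual
    have h1 : IsGenericPoint (gp k n ⟨closure {OrderDual.ofDual x},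
        isIrreducible_singleton.closure, isClosed_closure⟩) (closure {OrderDual.ofDual x}) :=
      gp_spec k n _
    have h2 : IsGenericPoint (OrderDual.ofDual x) (closure {OrderDual.ofDual x}) := rfl
    exact h1.eq h2
  map_rel_iff' := by
    intro Z Z'
    change gp k n Z' ≤ gp k n Z ↔ Z ≤ Z'
    rw [ProjectiveSpectrum.le_iff_mem_closure, gp_spec]
    constructor
    · intro h
      change (Z : Set (ProjectiveSpectrum 𝒜)) ⊆ Z'
      rw [← gp_spec k n Z]
      exact Z'.isClosed'.closure_subset_iff.mpr (Set.singleton_subset_iff.mpr h)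
    · intro h
      apply h
      have hm : gp k n Z ∈ (Z : Set (ProjectiveSpectrum 𝒜)) := by
        rw [← gp_spec k n Z]; exact subset_closure rfl
      exact hm

lemma coheight_eq (Z : IrreducibleCloseds (ProjectiveSpectrum 𝒜)) :
    Order.coheight Z = Order.height (gp k n Z) := by
  rw [← Order.coheight_orderIso (eIso k n) Z]
  rfl

theorem main10821 (Z : IrreducibleCloseds (ProjectiveSpectrum 𝒜)) :
    Order.coheight Z = 1 ↔
      ∃ (d : ℕ) (f : A), f.IsHomogeneous d ∧ Irreducible f ∧
        (Z : Set (ProjectiveSpectrum 𝒜)) = ProjectiveSpectrum.zeroLocus 𝒜 ({f} : Set A) := by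
  rw [coheight_eq]
  constructor
  · intro h
    obtain ⟨d, f, hfh, hfi, hpf⟩ := lemA k n _ h
    refine ⟨d, f, hfh, hfi, ?_⟩
    rw [← gp_spec k n Z, closure_pt, hpf, ProjectiveSpectrum.zeroLocus_span]
  · rintro ⟨d, f, hfh, hfi, hZ⟩
    have hfp : f ∈ (gp k n Z).asHomogeneousIdeal.toIdeal := by
      have hmem : gp k n Z ∈ (Z : Set (ProjectiveSpectrum 𝒜)) := by
        rw [← gp_spec k n Z]
        exact subset_closure rfl
      rw [hZ, ProjectiveSpectrum.mem_zeroLocus] at hmem
      exact hmem rfl
    have hprime : Prime f := UniqueFactorizationMonoid.irreducible_iff_prime.mp hfi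
    let y : ProjectiveSpectrum 𝒜 :=
      ⟨⟨Ideal.span {f}, Ideal.homogeneous_span 𝒜 _ (fun x hx => by
          rw [Set.mem_singleton_iff] at hx
          rw [hx]
          exact ⟨d, hfh⟩)⟩,
        (Ideal.span_singleton_prime hprime.ne_zero).mpr hprime,
        fun hirr => (gp k n Z).not_irrelevant_le (fun a ha =>
          (Ideal.span_singleton_le_iff_mem _).mpr hfp (hirr ha))⟩
    have hy : y.asHomogeneousIdeal.toIdeal = Ideal.span {f} := rfl
    have hcl : closure {y} = closure {gp k n Z} := by
      rw [gp_spec, hZ, closure_pt, hy, ProjectiveSpectrum.zeroLocus_span]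
    have hyp : y = gp k n Z := by
      have h1 : IsGenericPoint y (closure {y}) := rfl
      have h2 : IsGenericPoint (gp k n Z) (closure {y}) := hcl.symm
      exact h1.eq h2
    rw [← hyp]
    exact lemB k n y f hfi hy

end
end Helpers


/-- For a field k and an irreducible closed subset Z of projective n-space over k, Z has codimension 1
(the longest chain of irreducible closed subsets strictly above Z has length 1) if and only if Z is
the zero set V_+(f) of an irreducible homogeneous polynomial f in n + 1 variables. -/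
theorem result (k : Type u) [Field k] (n : ℕ)
    (Z : TopologicalSpace.IrreducibleCloseds (ProjectiveSpectrum (CohB1.polyGrading n k))) :
    Order.coheight Z = 1 ↔
      ∃ (d : ℕ) (f : MvPolynomial (Fin (n + 1)) k), f.IsHomogeneous d ∧ Irreducible f ∧
        (Z : Set (ProjectiveSpectrum (CohB1.polyGrading n k))) =
          ProjectiveSpectrum.zeroLocus (CohB1.polyGrading n k) ({f} : Set (MvPolynomial (Fin (n + 1)) k)) := by
  exact main10821 k n Z

end Groth.Agent.S10821
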