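import Groth.Statements.S10829
import Mathlib

set_option autoImplicit false
universe u
open AlgebraicGeometry
open Variety

namespace Groth.Agent.S10829

section Helpers

open AlgebraicGeometry CategoryTheory TopologicalSpace

section
variable (k : Type u) [Field k] (n : ℕ)

local notation "𝒜" => CohB1.polyGrading n k
local notation "A" => MvPolynomial (Fin (n + 1)) k

lemma le_irrelevant (p : HomogeneousIdeal 𝒜) (hp : p.toIdeal ≠ ⊤) :
    p.toIdeal ≤ (HomogeneousIdeal.irrelevant 𝒜).toIdeal := by
  intro f hf
  rw [HomogeneousIdeal.mem_iff, HomogeneousIdeal.mem_irrelevant_iff, GradedRing.proj_apply]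
  have h0 : (DirectSum.decompose 𝒜 f 0 : A) ∈ p.toIdeal := p.isHomogeneous 0 hf
  have hmem : (DirectSum.decompose 𝒜 f 0 : A) ∈ 𝒜 0 := SetLike.coe_mem _
  have hmem' : (DirectSum.decompose 𝒜 f 0 : A) ∈ (1 : Submodule k A) := by
    rw [← MvPolynomial.homogeneousSubmodule_zero]
    exact hmem
  obtain ⟨c, hc⟩ := Submodule.mem_one.mp hmem'
  by_cases hc0 : c = 0
  · rw [← hc, hc0, map_zero]
  · exfalso
    apply hp
    rw [Ideal.eq_top_iff_one]
    have hu : IsUnit (algebraMap k A c) := (IsUnit.mk0 c hc0).map _
    rw [hc] at hu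
    exact (Ideal.eq_top_of_isUnit_mem _ h0 hu) ▸ Submodule.mem_top

lemma irrelevant_isPrime : (HomogeneousIdeal.irrelevant 𝒜).toIdeal.IsPrime :=
  RingHom.ker_isPrime (GradedRing.projZeroRingHom 𝒜)

/-- the map to the prime spectrum. -/
noncomputable def toPS : WithTop (ProjectiveSpectrum 𝒜) → PrimeSpectrum A
  | (x : ProjectiveSpectrum 𝒜) => ⟨x.asHomogeneousIdeal.toIdeal, x.isPrime⟩
  | ⊤ => ⟨(HomogeneousIdeal.irrelevant 𝒜).toIdeal, irrelevant_isPrime k n⟩

lemma toPS_strictMono : StrictMono (toPS k n) := by
  rw [WithTop.strictMono_iff]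
  constructor
  · intro x y hxy
    change (⟨x.asHomogeneousIdeal.toIdeal, x.isPrime⟩ : PrimeSpectrum A) <
      ⟨y.asHomogeneousIdeal.toIdeal, y.isPrime⟩
    rw [← PrimeSpectrum.asIdeal_lt_asIdeal]
    exact hxy
  · intro x
    change (⟨x.asHomogeneousIdeal.toIdeal, x.isPrime⟩ : PrimeSpectrum A) <
      ⟨(HomogeneousIdeal.irrelevant 𝒜).toIdeal, irrelevant_isPrime k n⟩
    rw [← PrimeSpectrum.asIdeal_lt_asIdeal]
    refine lt_of_le_of_ne (le_irrelevant k n _ x.isPrime.ne_top) ?_
    intro h
    apply x.not_irrelevant_le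
    intro f hf
    change f ∈ x.asHomogeneousIdeal.toIdeal
    have h' : x.asHomogeneousIdeal.toIdeal = (HomogeneousIdeal.irrelevant 𝒜).toIdeal := h
    rw [h']
    exact hf

lemma upper [Nonempty (ProjectiveSpectrum 𝒜)] :
    Order.krullDim (ProjectiveSpectrum 𝒜) ≤ (n : WithBot ℕ∞) := by
  have h1 := Order.krullDim_le_of_strictMono (toPS k n) (toPS_strictMono k n)
  rw [Order.krullDim_WithTop] at h1
  have h2 : Order.krullDim (PrimeSpectrum A) = (n : WithBot ℕ∞) + 1 := by
    change ringKrullDim A = _
    rw [MvPolynomial.ringKrullDim_of_isNoetherianRing, ringKrullDim_eq_zero_of_field, zero_add,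
      Nat.card_eq_fintype_card, Fintype.card_fin]
    norm_cast
  rw [h2] at h1
  exact (ENat.WithBot.add_le_add_one_right_iff).mp h1  -- placeholder

/-- kill the first `j` variables. -/
noncomputable def phi (j : ℕ) : A →ₐ[k] A :=
  MvPolynomial.aeval (fun i : Fin (n + 1) => if (i : ℕ) < j then 0 else MvPolynomial.X i)

lemma phi_X (j : ℕ) (i : Fin (n + 1)) :
    phi k n j (MvPolynomial.X i) = if (i : ℕ) < j then 0 else MvPolynomial.X i := by
  rw [phi, MvPolynomial.aeval_X]

lemma phi_homog (j d : ℕ) (f : A) (hf : f.IsHomogeneous d) : (phi k n j f).IsHomogeneous d := by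
  have h := hf.aeval (S := k) (fun i : Fin (n + 1) => if (i : ℕ) < j then 0 else MvPolynomial.X i)
    (n := 1) (fun i => by
      split_ifs
      · exact MvPolynomial.isHomogeneous_zero _ _ _
      · exact MvPolynomial.isHomogeneous_X _ _)
  rw [one_mul] at h
  exact h

lemma ker_phi_homog (j : ℕ) : Ideal.IsHomogeneous 𝒜 (RingHom.ker (phi k n j)) := by
  intro d f hf
  rw [RingHom.mem_ker] at hf ⊢
  have hd : (DirectSum.decompose 𝒜 f d : A) = MvPolynomial.homogeneousComponent d f :=
    MvPolynomial.decomposition.decompose'_apply f d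
  rw [hd]
  by_cases hdeg : f.totalDegree < d
  · rw [MvPolynomial.homogeneousComponent_eq_zero _ _ hdeg, map_zero]
  · have hsum := congr(phi k n j $(MvPolynomial.sum_homogeneousComponent (φ := f)))
    rw [map_sum, hf] at hsum
    have h2 := congr(MvPolynomial.homogeneousComponent d $hsum)
    rw [map_sum, map_zero, Finset.sum_eq_single d] at h2
    · rwa [MvPolynomial.homogeneousComponent_eq_self
        (phi_homog k n j d _ (MvPolynomial.homogeneousComponent_isHomogeneous d f))] at h2
    · intro e _ hne
      rw [MvPolynomial.homogeneousComponent_of_mem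
        (phi_homog k n j e _ (MvPolynomial.homogeneousComponent_isHomogeneous e f)),
        if_neg hne.symm]
    · intro hnot
      exfalso
      apply hnot
      rw [Finset.mem_range]
      omega

/-- the chain of points. -/
noncomputable def pt (j : Fin (n + 1)) : ProjectiveSpectrum 𝒜 :=
  ⟨⟨RingHom.ker (phi k n j), ker_phi_homog k n j⟩, RingHom.ker_isPrime _, by
    intro hle
    have h1 : (MvPolynomial.X (Fin.last n) : A) ∈ HomogeneousIdeal.irrelevant 𝒜 :=
      HomogeneousIdeal.mem_irrelevant_of_mem 𝒜 (i := 1) one_pos (MvPolynomial.isHomogeneous_X _ _)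
    have h2 : (MvPolynomial.X (Fin.last n) : A) ∈ RingHom.ker (phi k n j) := hle h1
    rw [RingHom.mem_ker, phi_X, if_neg] at h2
    · exact MvPolynomial.X_ne_zero _ h2
    · simp only [Fin.val_last, not_lt]
      exact Nat.lt_succ_iff.mp j.2⟩

lemma pt_strictMono : StrictMono (pt k n) := by
  intro j j' hjj'
  have hle : RingHom.ker (phi k n j) ≤ RingHom.ker (phi k n j') := by
    have hcomp : (phi k n j').comp (phi k n j) = phi k n j' := by
      apply MvPolynomial.algHom_ext
      intro i
      rw [AlgHom.comp_apply, phi_X, phi_X]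
      split_ifs with h1 h2 h2
      · rw [map_zero]
      · exfalso
        have : (j : ℕ) < j' := hjj'
        omega
      · rw [phi_X, if_pos h2]
      · rw [phi_X, if_neg h2]
    intro f hf
    rw [RingHom.mem_ker] at hf ⊢
    have := congr($hcomp f)
    rw [AlgHom.comp_apply, hf, map_zero] at this
    exact this.symm
  refine lt_of_le_of_ne hle ?_
  intro heq
  have hmem : (MvPolynomial.X j : A) ∈ (pt k n j').asHomogeneousIdeal.toIdeal := by
    change _ ∈ RingHom.ker (phi k n j')
    rw [RingHom.mem_ker, phi_X, if_pos (show (j : ℕ) < j' from hjj')]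
  have heq' : (pt k n j).asHomogeneousIdeal.toIdeal = (pt k n j').asHomogeneousIdeal.toIdeal :=
    congr(($heq).asHomogeneousIdeal.toIdeal)
  rw [← heq'] at hmem
  change _ ∈ RingHom.ker (phi k n j) at hmem
  rw [RingHom.mem_ker, phi_X, if_neg (lt_irrefl _)] at hmem
  exact MvPolynomial.X_ne_zero _ hmem

lemma dim_eq : Order.krullDim (ProjectiveSpectrum 𝒜) = (n : WithBot ℕ∞) := by
  haveI : Nonempty (ProjectiveSpectrum 𝒜) := ⟨pt k n 0⟩
  refine le_antisymm (upper k n) ?_
  exact Order.le_krullDim_iff.mpr ⟨LTSeries.mk n (pt k n) (pt_strictMono k n), rfl⟩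

/-- the identity, typed. -/
def toP (x : ↥(CohB1.ProjSpace n k)) : ProjectiveSpectrum 𝒜 := x
/-- the identity, typed. -/
def ofP (x : ProjectiveSpectrum 𝒜) : ↥(CohB1.ProjSpace n k) := x

theorem main10829 : topologicalKrullDim ↥(CohB1.ProjSpace n k) = (n : WithBot ℕ∞) := by
  rw [← dim_eq k n, ← Order.krullDim_orderDual (α := ProjectiveSpectrum 𝒜)]
  unfold topologicalKrullDim
  letI : PartialOrder ↥(CohB1.ProjSpace n k) := specializationOrder _
  rw [Order.krullDim_eq_of_orderIso (irreducibleSetEquivPoints (α := ↥(CohB1.ProjSpace n k)))]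
  let e : ↥(CohB1.ProjSpace n k) ≃o (ProjectiveSpectrum 𝒜)ᵒᵈ :=
    { toFun := fun x => OrderDual.toDual (toP k n x)
      invFun := fun x => ofP k n (OrderDual.ofDual x)
      left_inv := fun _ => rfl
      right_inv := fun _ => rfl
      map_rel_iff' := by
        intro a b
        have h2 : (a ≤ b) ↔ b ⤳ a := Iff.rfl
        rw [h2]
        have h1 : (OrderDual.toDual (toP k n a) ≤ OrderDual.toDual (toP k n b)) ↔
            toP k n b ≤ toP k n a := OrderDual.toDual_le_toDual
        refine h1.trans ?_
        rw [ProjectiveSpectrum.le_iff_mem_closure, specializes_iff_mem_closure]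
        rfl }
  exact Order.krullDim_eq_of_orderIso e

end
end Helpers


/-- For a field k and a natural number n, projective n-space over k (Proj of the polynomial ring in n +
1 variables graded by degree) has Krull dimension n as a topological space. (The published statement
also gives affine n-space dimension n; that half is the Krull dimension of a polynomial ring and is
not restated here.) -/
theorem result (k : Type u) [Field k] (n : ℕ) :
    topologicalKrullDim ↥(CohB1.ProjSpace n k) = (n : WithBot ℕ∞) := by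
  exact main10829 k n

end Groth.Agent.S10829
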