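import Groth.Statements.S10820
import Mathlib
import Groth.Agent.S10821
import Groth.Agent.S10829

set_option autoImplicit false
universe u
open AlgebraicGeometry Topology TopologicalSpace
open Variety

namespace Groth.Agent.S10820

section Helpers

open AlgebraicGeometry TopologicalSpace

section
variable (k : Type u) [Field k] (n : ℕ)

local notation "𝒜" => CohB1.polyGrading n k
local notation "A" => MvPolynomial (Fin (n + 1)) k

open Groth.Agent.S10821 Groth.Agent.S10829

/-- the irrelevant ideal has height at least n + 1. -/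
lemma le_height : ((n : ℕ∞) + 1) ≤ (HomogeneousIdeal.irrelevant 𝒜).toIdeal.height := by
  haveI := irrelevant_isPrime k n
  haveI : Nonempty (ProjectiveSpectrum 𝒜) := ⟨pt k n 0⟩
  have h1 : (HomogeneousIdeal.irrelevant 𝒜).toIdeal.height = Order.height (toPS k n ⊤) :=
    PrimeSpectrum.height_eq_orderHeight (toPS k n ⊤)
  rw [h1]
  have h2 := Order.height_le_height_apply_of_strictMono (toPS k n) (toPS_strictMono k n) ⊤
  refine le_trans ?_ h2
  have h3 : ((Order.height (⊤ : WithTop (ProjectiveSpectrum 𝒜)) : ℕ∞) : WithBot ℕ∞) =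
      Order.krullDim (WithTop (ProjectiveSpectrum 𝒜)) := Order.height_top_eq_krullDim
  rw [Order.krullDim_WithTop, dim_eq k n] at h3
  have h4 : ((Order.height (⊤ : WithTop (ProjectiveSpectrum 𝒜)) : ℕ∞) : WithBot ℕ∞) =
      (((n : ℕ∞) + 1 : ℕ∞) : WithBot ℕ∞) := by
    rw [h3]; rfl
  exact (WithBot.coe_injective h4).ge

lemma not_irr_le (hn : 2 ≤ n) (Q : Ideal A) [Q.IsPrime] (hQ : Q.height ≤ 2) :
    ¬ (HomogeneousIdeal.irrelevant 𝒜).toIdeal ≤ Q := by
  intro hle
  have h1 := Ideal.height_mono hle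
  have h2 : ((n : ℕ∞) + 1) ≤ 2 := (le_height k n).trans (h1.trans hQ)
  have h3 : ((n + 1 : ℕ) : ℕ∞) ≤ ((2 : ℕ) : ℕ∞) := by exact_mod_cast h2
  have h4 : n + 1 ≤ 2 := by exact_mod_cast h3
  omega

/-- the point given by the homogeneous core of a prime of height at most 2. -/
noncomputable def cp (hn : 2 ≤ n) (Q : Ideal A) [hQp : Q.IsPrime] (hQ : Q.height ≤ 2) :
    ProjectiveSpectrum 𝒜 :=
  ⟨Q.homogeneousCore 𝒜, hQp.homogeneousCore, fun hirr =>
    not_irr_le k n hn Q hQ (fun a ha => Ideal.toIdeal_homogeneousCore_le 𝒜 Q (hirr ha))⟩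

lemma cp_le (hn : 2 ≤ n) (Q : Ideal A) [Q.IsPrime] (hQ : Q.height ≤ 2) :
    (cp k n hn Q hQ).asHomogeneousIdeal.toIdeal ≤ Q :=
  Ideal.toIdeal_homogeneousCore_le 𝒜 Q

lemma mem_cp (hn : 2 ≤ n) (Q : Ideal A) [Q.IsPrime] (hQ : Q.height ≤ 2) (a : A) (d : ℕ)
    (ha : a.IsHomogeneous d) (haQ : a ∈ Q) : a ∈ (cp k n hn Q hQ).asHomogeneousIdeal.toIdeal :=
  Ideal.mem_homogeneousCore_of_homogeneous_of_mem ⟨d, ha⟩ haQ

lemma prime_le_span_irred (x' : Ideal A) [hx' : x'.IsPrime] (hne : x' ≠ ⊥) (h : A)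
    (hh : Irreducible h) (hle : x' ≤ Ideal.span {h}) : x' = Ideal.span {h} := by
  refine le_antisymm hle ?_
  obtain ⟨g', hg'x, hg'⟩ := Ideal.IsPrime.exists_mem_prime_of_ne_bot hx' hne
  have hg'h : g' ∈ Ideal.span {h} := hle hg'x
  rw [Ideal.mem_span_singleton] at hg'h
  have hassoc : Associated h g' := hh.associated_of_dvd hg'.irreducible hg'h
  rw [Ideal.span_singleton_le_iff_mem]
  obtain ⟨u, hu⟩ := hassoc.symm
  rw [← hu]
  exact Ideal.mul_mem_right _ _ hg'x

/-- two elements of the irrelevant ideal have a common zero. -/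
lemma common_zero (hn : 2 ≤ n) (a b : A)
    (ha : a ∈ (HomogeneousIdeal.irrelevant 𝒜).toIdeal)
    (hb : b ∈ (HomogeneousIdeal.irrelevant 𝒜).toIdeal) :
    ∃ Q : Ideal A, ∃ (_ : Q.IsPrime), Q.height ≤ 2 ∧ a ∈ Q ∧ b ∈ Q := by
  haveI := irrelevant_isPrime k n
  have hle : Ideal.span ({a, b} : Set A) ≤ (HomogeneousIdeal.irrelevant 𝒜).toIdeal := by
    rw [Ideal.span_le]
    rintro _ (rfl | rfl)
    · exact ha
    · exact hb
  obtain ⟨Q, hQmin, hQle⟩ := Ideal.exists_minimalPrimes_le hle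
  have hht : Q.height ≤ 2 := by
    have := Ideal.height_le_card_of_mem_minimalPrimes_span (s := ({a, b} : Set A))
      (Set.toFinite _) hQmin
    refine this.trans ?_
    have : ({a, b} : Set A).ncard ≤ 2 := by
      exact (Set.ncard_insert_le _ _).trans (by rw [Set.ncard_singleton])
    exact_mod_cast this
  exact ⟨Q, hQmin.1.1, hht, hQmin.1.2 (Ideal.subset_span (Set.mem_insert _ _)),
    hQmin.1.2 (Ideal.subset_span (Set.mem_insert_of_mem _ (Set.mem_singleton _)))⟩

/-- the point of a prime factor of a homogeneous polynomial. -/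
lemma factor_point (hn : 2 ≤ n) (d : ℕ) (f : A) (hf : f.IsHomogeneous d) (hf0 : f ≠ 0)
    (b : A) (hb : Prime b) (hbf : b ∣ f) :
    ∃ x : ProjectiveSpectrum 𝒜, x.asHomogeneousIdeal.toIdeal = Ideal.span {b} := by
  haveI hPp : (Ideal.span {b}).IsPrime := (Ideal.span_singleton_prime hb.ne_zero).mpr hb
  have hPht : (Ideal.span {b}).height ≤ 2 := by
    have h1 : (Ideal.span {b}).height ≤ 1 :=
      Ideal.height_le_one_of_isPrincipal_of_mem_minimalPrimes (Ideal.span {b}) (Ideal.span {b})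
        (by rw [Ideal.minimalPrimes_eq_subsingleton_self]; rfl)
    exact h1.trans (by decide)
  refine ⟨cp k n hn (Ideal.span {b}) hPht, ?_⟩
  have hfx : f ∈ (cp k n hn (Ideal.span {b}) hPht).asHomogeneousIdeal.toIdeal :=
    mem_cp k n hn _ hPht f d hf (Ideal.mem_span_singleton.mpr hbf)
  haveI := (cp k n hn (Ideal.span {b}) hPht).isPrime
  apply prime_le_span_irred k n _ _ b hb.irreducible (cp_le k n hn _ hPht)
  intro hbot
  rw [hbot, Ideal.mem_bot] at hfx
  exact hf0 hfx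

theorem main10820 (d : ℕ) (hn : 2 ≤ n) (f : A) (hf : f.IsHomogeneous d) (hd : 0 < d)
    (hf0 : f ≠ 0) : IsConnected (ProjectiveSpectrum.zeroLocus 𝒜 ({f} : Set A)) := by
  obtain ⟨s, hs, hsassoc⟩ := UniqueFactorizationMonoid.exists_prime_factors f hf0
  -- points of the factors
  have hpt : ∀ b ∈ s, ∃ x : ProjectiveSpectrum 𝒜, x.asHomogeneousIdeal.toIdeal = Ideal.span {b} :=
    fun b hb => factor_point k n hn d f hf hf0 b (hs b hb)
      ((Multiset.dvd_prod hb).trans hsassoc.dvd)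
  have hirrb : ∀ b ∈ s, b ∈ (HomogeneousIdeal.irrelevant 𝒜).toIdeal := by
    intro b hb
    obtain ⟨x, hx⟩ := hpt b hb
    have h1 : b ∈ x.asHomogeneousIdeal.toIdeal := by
      rw [hx]; exact Ideal.mem_span_singleton_self b
    exact le_irrelevant k n x.asHomogeneousIdeal x.isPrime.ne_top h1
  have hVb : ∀ b ∈ s, IsConnected (ProjectiveSpectrum.zeroLocus 𝒜 ({b} : Set A)) := by
    intro b hb
    obtain ⟨x, hx⟩ := hpt b hb
    have : ProjectiveSpectrum.zeroLocus 𝒜 ({b} : Set A) = closure {x} := by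
      rw [closure_pt, hx, ProjectiveSpectrum.zeroLocus_span]
    rw [this]
    exact isIrreducible_singleton.closure.isConnected
  have hmemV : ∀ x : ProjectiveSpectrum 𝒜, x ∈ ProjectiveSpectrum.zeroLocus 𝒜 ({f} : Set A) ↔
      ∃ b ∈ s, x ∈ ProjectiveSpectrum.zeroLocus 𝒜 ({b} : Set A) := by
    intro x
    simp only [ProjectiveSpectrum.mem_zeroLocus, Set.singleton_subset_iff, SetLike.mem_coe]
    have h1 : f ∈ x.asHomogeneousIdeal ↔ s.prod ∈ x.asHomogeneousIdeal.toIdeal := by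
      constructor
      · intro h
        obtain ⟨c, hc⟩ := hsassoc.symm.dvd
        rw [hc]
        exact Ideal.mul_mem_right _ _ h
      · intro h
        obtain ⟨c, hc⟩ := hsassoc.dvd
        rw [hc]
        exact Ideal.mul_mem_right _ _ h
    rw [h1, x.isPrime.multiset_prod_mem_iff_exists_mem]
    rfl
  -- pairwise intersections
  have hpair : ∀ b ∈ s, ∀ b' ∈ s, (ProjectiveSpectrum.zeroLocus 𝒜 ({b} : Set A) ∩
      ProjectiveSpectrum.zeroLocus 𝒜 ({b'} : Set A)).Nonempty := by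
    intro b hb b' hb'
    obtain ⟨Q, hQp, hQht, hbQ, hb'Q⟩ := common_zero k n hn b b' (hirrb b hb) (hirrb b' hb')
    obtain ⟨x, hx⟩ := hpt b hb
    obtain ⟨x', hx'⟩ := hpt b' hb'
    have hbx : b ∈ (cp k n hn Q hQht).asHomogeneousIdeal.toIdeal := by
      have : x.asHomogeneousIdeal.toIdeal ≤ (Q.homogeneousCore 𝒜).toIdeal := by
        rw [← x.asHomogeneousIdeal.toIdeal_homogeneousCore_eq_self]
        apply Ideal.homogeneousCore_mono
        rw [hx]
        exact (Ideal.span_singleton_le_iff_mem _).mpr hbQ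
      apply this
      rw [hx]; exact Ideal.mem_span_singleton_self b
    have hb'x : b' ∈ (cp k n hn Q hQht).asHomogeneousIdeal.toIdeal := by
      have : x'.asHomogeneousIdeal.toIdeal ≤ (Q.homogeneousCore 𝒜).toIdeal := by
        rw [← x'.asHomogeneousIdeal.toIdeal_homogeneousCore_eq_self]
        apply Ideal.homogeneousCore_mono
        rw [hx']
        exact (Ideal.span_singleton_le_iff_mem _).mpr hb'Q
      apply this
      rw [hx']; exact Ideal.mem_span_singleton_self b'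
    refine ⟨cp k n hn Q hQht, ?_, ?_⟩
    · rw [ProjectiveSpectrum.mem_zeroLocus, Set.singleton_subset_iff]; exact hbx
    · rw [ProjectiveSpectrum.mem_zeroLocus, Set.singleton_subset_iff]; exact hb'x
  -- nonemptiness
  have hfirr : f ∈ (HomogeneousIdeal.irrelevant 𝒜).toIdeal :=
    HomogeneousIdeal.mem_irrelevant_of_mem 𝒜 hd hf
  obtain ⟨Q0, hQ0p, hQ0ht, hfQ0, -⟩ := common_zero k n hn f f hfirr hfirr
  have hx0 : cp k n hn Q0 hQ0ht ∈ ProjectiveSpectrum.zeroLocus 𝒜 ({f} : Set A) := by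
    rw [ProjectiveSpectrum.mem_zeroLocus, Set.singleton_subset_iff]
    exact mem_cp k n hn Q0 hQ0ht f d hf hfQ0
  obtain ⟨b0, hb0, hx0b0⟩ := (hmemV _).mp hx0
  refine ⟨⟨_, hx0⟩, ?_⟩
  -- the union
  have hU : ProjectiveSpectrum.zeroLocus 𝒜 ({f} : Set A) =
      ⋃ b : {b // b ∈ s}, (ProjectiveSpectrum.zeroLocus 𝒜 ({b0} : Set A) ∪
        ProjectiveSpectrum.zeroLocus 𝒜 ({(b : A)} : Set A)) := by
    ext x
    rw [hmemV, Set.mem_iUnion]
    constructor
    · rintro ⟨b, hb, hxb⟩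
      exact ⟨⟨b, hb⟩, Or.inr hxb⟩
    · rintro ⟨⟨b, hb⟩, hxb | hxb⟩
      · exact ⟨b0, hb0, hxb⟩
      · exact ⟨b, hb, hxb⟩
  rw [hU]
  apply isPreconnected_iUnion
  · refine ⟨cp k n hn Q0 hQ0ht, Set.mem_iInter.mpr fun b => Or.inl hx0b0⟩
  · rintro ⟨b, hb⟩
    exact IsPreconnected.union' (hpair b0 hb0 b hb) (hVb b0 hb0).isPreconnected
      (hVb b hb).isPreconnected

end
end Helpers


/-- For a field k, n ≥ 2 and a nonzero homogeneous polynomial f of degree d ≥ 1 in n + 1 variables, the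
hypersurface V_+(f) in projective n-space over k (as a subspace of Proj of the polynomial ring
graded by degree) is connected and nonempty. -/
theorem result (k : Type u) [Field k] (n d : ℕ) (hn : 2 ≤ n)
    (f : MvPolynomial (Fin (n + 1)) k) (hf : f.IsHomogeneous d) (hd : 0 < d) (hf0 : f ≠ 0) :
    IsConnected (ProjectiveSpectrum.zeroLocus (CohB1.polyGrading n k)
      ({f} : Set (MvPolynomial (Fin (n + 1)) k))) := by
  exact main10820 k n d hn f hf hd hf0

end Groth.Agent.S10820
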