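import Groth.Statements.S19926
import Mathlib
import Groth.Agent.S10821
import Groth.Agent.S10829
import Groth.Agent.Lib.helper7.DimFT

set_option autoImplicit false
universe u
open ProjDeg

namespace Groth.Agent.S19926

section Helpers

open AlgebraicGeometry TopologicalSpace

section
variable (k : Type u) [Field k] (n : ℕ)

local notation "𝒜" => CohB1.polyGrading n k
local notation "A" => MvPolynomial (Fin (n + 1)) k

open Groth.Agent.S10821 Groth.Agent.S10829

lemma spec_iff (x y : ProjectiveSpectrum 𝒜) : x ⤳ y ↔ x ≤ y := by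
  rw [ProjectiveSpectrum.le_iff_mem_closure, specializes_iff_mem_closure]

lemma irr_isMaximal : (HomogeneousIdeal.irrelevant 𝒜).toIdeal.IsMaximal := by
  have h : (HomogeneousIdeal.irrelevant 𝒜).toIdeal =
      RingHom.ker (MvPolynomial.constantCoeff : A →+* k) := by
    ext a
    rw [RingHom.mem_ker, MvPolynomial.constantCoeff_eq]
    have hdec : (DirectSum.decompose 𝒜 a 0 : A) = MvPolynomial.homogeneousComponent 0 a :=
      MvPolynomial.decomposition.decompose'_apply a 0
    change a ∈ HomogeneousIdeal.irrelevant 𝒜 ↔ _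
    rw [HomogeneousIdeal.mem_irrelevant_iff, GradedRing.proj_apply, hdec,
      MvPolynomial.homogeneousComponent_zero]
    constructor
    · intro h1; exact MvPolynomial.C_injective _ _ (by rw [h1, map_zero])
    · intro h1; rw [h1, map_zero]
  rw [h]
  exact RingHom.ker_isMaximal_of_surjective _
    (fun c => ⟨MvPolynomial.C c, MvPolynomial.constantCoeff_C _ c⟩)

/-- the step: a homogeneous prime just above a relevant point. -/
lemma step (x : ProjectiveSpectrum 𝒜) :
    ∃ Q : Ideal A, ∃ (_ : Q.IsPrime), (Q.homogeneousCore 𝒜).toIdeal = Q ∧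
      x.asHomogeneousIdeal.toIdeal < Q ∧
      ringKrullDim (A ⧸ Q) + 1 = ringKrullDim (A ⧸ x.asHomogeneousIdeal.toIdeal) := by
  classical
  haveI := irrelevant_isPrime k n
  set m := (HomogeneousIdeal.irrelevant 𝒜).toIdeal with hm
  set P := x.asHomogeneousIdeal.toIdeal with hP
  haveI hPp : P.IsPrime := x.isPrime
  have hxm : P ≤ m := le_irrelevant k n _ x.isPrime.ne_top
  -- a homogeneous element of positive degree outside `x`
  obtain ⟨a, hairr, hax⟩ := SetLike.not_le_iff_exists.mp x.not_irrelevant_le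
  have hcomp : ∃ i, (DirectSum.decompose 𝒜 a i : A) ∉ P := by
    by_contra hcon
    push Not at hcon
    apply hax
    change a ∈ P
    rw [← DirectSum.sum_support_decompose 𝒜 a]
    exact Ideal.sum_mem _ (fun i _ => hcon i)
  obtain ⟨i, hi⟩ := hcomp
  have hi0 : i ≠ 0 := by
    rintro rfl
    apply hi
    have h0 : (DirectSum.decompose 𝒜 a 0 : A) = 0 := by
      have := (HomogeneousIdeal.mem_irrelevant_iff 𝒜 a).mp hairr
      rwa [GradedRing.proj_apply] at this
    rw [h0]
    exact zero_mem _
  set l : A := (DirectSum.decompose 𝒜 a i : A) with hl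
  have hlhom : l.IsHomogeneous i :=
    (MvPolynomial.mem_homogeneousSubmodule _ _).mp (SetLike.coe_mem _)
  have hlm : l ∈ m := HomogeneousIdeal.mem_irrelevant_of_mem 𝒜 (Nat.pos_of_ne_zero hi0) hlhom
  have hIm : P ⊔ Ideal.span {l} ≤ m := sup_le hxm ((Ideal.span_singleton_le_iff_mem _).mpr hlm)
  obtain ⟨Q, hQmin, hQle⟩ := Ideal.exists_minimalPrimes_le hIm
  haveI hQp : Q.IsPrime := hQmin.1.1
  have hIQ : P ⊔ Ideal.span {l} ≤ Q := hQmin.1.2
  have hPQ : P ≤ Q := le_sup_left.trans hIQ
  have hlQ : l ∈ Q := hIQ (Ideal.mem_sup_right (Ideal.mem_span_singleton_self l))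
  have hPQlt : P < Q := lt_of_le_of_ne hPQ (fun h => hi (h ▸ hlQ))
  have hcore : (Q.homogeneousCore 𝒜).toIdeal = Q := by
    apply le_antisymm (Ideal.toIdeal_homogeneousCore_le 𝒜 Q)
    apply hQmin.2 ⟨hQp.homogeneousCore, ?_⟩ (Ideal.toIdeal_homogeneousCore_le 𝒜 Q)
    apply sup_le
    · have h1 : (x.asHomogeneousIdeal.toIdeal.homogeneousCore 𝒜).toIdeal ≤
          (Q.homogeneousCore 𝒜).toIdeal := Ideal.homogeneousCore_mono 𝒜 hPQ
      rwa [x.asHomogeneousIdeal.toIdeal_homogeneousCore_eq_self] at h1
    · rw [Ideal.span_singleton_le_iff_mem]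
      exact Ideal.mem_homogeneousCore_of_homogeneous_of_mem ⟨i, hlhom⟩ hlQ
  refine ⟨Q, hQp, hcore, hPQlt, ?_⟩
  -- height one in the quotient
  let π := Ideal.Quotient.mk P
  have hπ : Function.Surjective π := Ideal.Quotient.mk_surjective
  have hker : RingHom.ker π = P := Ideal.mk_ker
  have hcm : ∀ J : Ideal A, P ≤ J → (J.map π).comap π = J := by
    intro J hJ
    rw [Ideal.comap_map_of_surjective π hπ, ← RingHom.ker_eq_comap_bot, hker, sup_eq_left.mpr hJ]
  haveI hQ'p : (Q.map π).IsPrime :=
    Ideal.map_isPrime_of_surjective hπ (by rw [hker]; exact hPQ)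
  have hQ'min : Q.map π ∈ (Ideal.span {π l}).minimalPrimes := by
    refine ⟨⟨hQ'p, ?_⟩, ?_⟩
    · rw [Ideal.span_singleton_le_iff_mem]; exact Ideal.mem_map_of_mem π hlQ
    · rintro P' ⟨hP'p, hP'l⟩ hP'le
      have h1 : P ⊔ Ideal.span {l} ≤ P'.comap π := by
        apply sup_le
        · intro a ha
          rw [Ideal.mem_comap]
          have : π a = 0 := Ideal.Quotient.eq_zero_iff_mem.mpr ha
          rw [this]; exact zero_mem _
        · rw [Ideal.span_singleton_le_iff_mem, Ideal.mem_comap]
          exact hP'l (Ideal.mem_span_singleton_self _)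
      have h2 : P'.comap π ≤ Q := by
        rw [← hcm Q hPQ]
        exact Ideal.comap_mono hP'le
      have h3 : Q ≤ P'.comap π := hQmin.2 ⟨Ideal.comap_isPrime π P', h1⟩ h2
      calc Q.map π ≤ (P'.comap π).map π := Ideal.map_mono h3
        _ = P' := Ideal.map_comap_of_surjective π hπ P'
  have hht : (Q.map π).height = 1 := by
    apply le_antisymm (Ideal.height_le_one_of_isPrincipal_of_mem_minimalPrimes _ _ hQ'min)
    rw [Order.one_le_iff_pos, pos_iff_ne_zero, Ne, Ideal.height_eq_zero_iff_eq_bot]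
    intro hbot
    have h1 := hcm Q hPQ
    rw [hbot, ← RingHom.ker_eq_comap_bot, hker] at h1
    exact hPQlt.ne h1
  have h2 := Groth.Agent.Lib.helper7.DimFT.ringKrullDim_quotient_add_one_of_height_eq_one
    (k := k) (A ⧸ P) (Q.map π) hht
  have h4 : ringKrullDim ((A ⧸ P) ⧸ Q.map π) = ringKrullDim (A ⧸ Q) :=
    ringKrullDim_eq_of_ringEquiv (DoubleQuot.quotQuotEquivQuotOfLE hPQ)
  rw [← h2, h4]

lemma upper : ∀ (N : ℕ) (x : ProjectiveSpectrum 𝒜), Order.coheight x = N →
    ringKrullDim (A ⧸ x.asHomogeneousIdeal.toIdeal) ≤ (N : WithBot ℕ∞) + 1 := by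
  intro N
  induction N using Nat.strong_induction_on with
  | _ N ih =>
    intro x hx
    obtain ⟨Q, hQp, hcore, hlt, hdim⟩ := step k n x
    rw [← hdim]
    by_cases hrel : (HomogeneousIdeal.irrelevant 𝒜).toIdeal ≤ Q
    · haveI := irr_isMaximal k n
      have hQm : Q = (HomogeneousIdeal.irrelevant 𝒜).toIdeal :=
        ((irr_isMaximal k n).eq_of_le hQp.ne_top hrel).symm
      haveI : Q.IsMaximal := hQm ▸ irr_isMaximal k n
      letI : Field (A ⧸ Q) := Ideal.Quotient.field Q
      rw [ringKrullDim_eq_zero_of_field, zero_add]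
      have : (0 : WithBot ℕ∞) ≤ (N : WithBot ℕ∞) := by exact_mod_cast Nat.zero_le N
      exact le_add_of_nonneg_left this
    · let y : ProjectiveSpectrum 𝒜 := ⟨Q.homogeneousCore 𝒜, hQp.homogeneousCore, fun h =>
        hrel (fun a ha => Ideal.toIdeal_homogeneousCore_le 𝒜 Q (h ha))⟩
      have hy : y.asHomogeneousIdeal.toIdeal = Q := hcore
      have hxy : x < y := by
        change x.asHomogeneousIdeal.toIdeal < y.asHomogeneousIdeal.toIdeal
        rw [hy]; exact hlt
      have h1 : Order.coheight y + 1 ≤ Order.coheight x := Order.coheight_add_one_le hxy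
      rw [hx] at h1
      have hyfin : Order.coheight y ≠ ⊤ := by
        intro htop
        rw [htop, top_add] at h1
        exact ENat.natCast_ne_top N (top_le_iff.mp h1)
      obtain ⟨N', hN'⟩ := ENat.ne_top_iff_exists.mp hyfin
      have h2 : N' + 1 ≤ N := by
        rw [← hN'] at h1
        exact_mod_cast h1
      have h3 := ih N' (by omega) y hN'.symm
      rw [hy] at h3
      have h4 : (N' : WithBot ℕ∞) + 1 ≤ (N : WithBot ℕ∞) := by exact_mod_cast h2
      calc ringKrullDim (A ⧸ Q) + 1 ≤ ((N' : WithBot ℕ∞) + 1) + 1 := by gcongr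
        _ ≤ (N : WithBot ℕ∞) + 1 := by gcongr

lemma lower (x : ProjectiveSpectrum 𝒜) :
    ((Order.coheight x : ℕ∞) : WithBot ℕ∞) + 1 ≤
      ringKrullDim (A ⧸ x.asHomogeneousIdeal.toIdeal) := by
  have h1 := Order.coheight_le_coheight_apply_of_strictMono (toPS k n) (toPS_strictMono k n)
    (x : WithTop (ProjectiveSpectrum 𝒜))
  rw [Order.coheight_coe_withTop] at h1
  have h2 : toPS k n (x : WithTop (ProjectiveSpectrum 𝒜)) =
      ⟨x.asHomogeneousIdeal.toIdeal, x.isPrime⟩ := rfl
  rw [h2] at h1
  have h3 : ((Order.coheight (⟨x.asHomogeneousIdeal.toIdeal, x.isPrime⟩ : PrimeSpectrum A) : ℕ∞) :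
      WithBot ℕ∞) = ringKrullDim (A ⧸ x.asHomogeneousIdeal.toIdeal) := by
    rw [Order.coheight_eq_krullDim_Ici, ringKrullDim_quotient]
    have hset : Set.Ici (⟨x.asHomogeneousIdeal.toIdeal, x.isPrime⟩ : PrimeSpectrum A) =
        PrimeSpectrum.zeroLocus (x.asHomogeneousIdeal.toIdeal : Set A) := by
      ext q
      rw [Set.mem_Ici, PrimeSpectrum.mem_zeroLocus, ← PrimeSpectrum.asIdeal_le_asIdeal]
      rfl
    rw [hset]
  rw [← h3]
  exact_mod_cast h1

/-- points of a closed subset versus its irreducible closed subsets. -/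
noncomputable def vIso (V : Set (ProjectiveSpectrum 𝒜)) (hV : IsClosed V) :
    IrreducibleCloseds ↥V ≃o (↥V)ᵒᵈ :=
  haveI : QuasiSober ↥V := hV.isClosedEmbedding_subtypeVal.quasiSober
  { toFun := fun Z => OrderDual.toDual Z.isIrreducible'.genericPoint
    invFun := fun x =>
      ⟨closure {OrderDual.ofDual x}, isIrreducible_singleton.closure, isClosed_closure⟩
    left_inv := fun Z =>
      IrreducibleCloseds.ext (Z.isIrreducible'.isGenericPoint_genericPoint Z.isClosed')
    right_inv := fun x => by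
      apply congrArg OrderDual.toDual
      have h1 : IsGenericPoint
          ((isIrreducible_singleton (x := OrderDual.ofDual x)).closure.genericPoint)
          (closure {OrderDual.ofDual x}) :=
        (isIrreducible_singleton.closure).isGenericPoint_genericPoint isClosed_closure
      have h2 : IsGenericPoint (OrderDual.ofDual x) (closure {OrderDual.ofDual x}) := rfl
      exact h1.eq h2
    map_rel_iff' := by
      intro Z Z'
      have hz : closure {Z.isIrreducible'.genericPoint} = (Z : Set ↥V) :=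
        Z.isIrreducible'.isGenericPoint_genericPoint Z.isClosed'
      have hz' : closure {Z'.isIrreducible'.genericPoint} = (Z' : Set ↥V) :=
        Z'.isIrreducible'.isGenericPoint_genericPoint Z'.isClosed'
      change (Z'.isIrreducible'.genericPoint : ProjectiveSpectrum 𝒜) ≤
        (Z.isIrreducible'.genericPoint : ProjectiveSpectrum 𝒜) ↔ Z ≤ Z'
      rw [← spec_iff, ← subtype_specializes_iff, specializes_iff_mem_closure, hz']
      constructor
      · intro h
        change (Z : Set ↥V) ⊆ Z'
        rw [← hz]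
        exact Z'.isClosed'.closure_subset_iff.mpr (Set.singleton_subset_iff.mpr h)
      · intro h
        apply h
        have hm : Z.isIrreducible'.genericPoint ∈ (Z : Set ↥V) := by
          rw [← hz]; exact subset_closure rfl
        exact hm }

lemma dim_V (x : ProjectiveSpectrum 𝒜) :
    topologicalKrullDim ↥(ProjectiveSpectrum.zeroLocus 𝒜 (x.asHomogeneousIdeal.toIdeal : Set A)) =
      ((Order.coheight x : ℕ∞) : WithBot ℕ∞) := by
  have hVc : IsClosed (ProjectiveSpectrum.zeroLocus 𝒜 (x.asHomogeneousIdeal.toIdeal : Set A)) :=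
    ProjectiveSpectrum.isClosed_zeroLocus 𝒜 _
  unfold topologicalKrullDim
  rw [Order.krullDim_eq_of_orderIso (vIso k n _ hVc), Order.krullDim_orderDual,
    Order.coheight_eq_krullDim_Ici]
  have hset : ProjectiveSpectrum.zeroLocus 𝒜 (x.asHomogeneousIdeal.toIdeal : Set A) = Set.Ici x := by
    ext y
    rw [ProjectiveSpectrum.mem_zeroLocus, Set.mem_Ici]
    rfl
  rw [hset]

theorem main19926 (p : Ideal A) [hp : p.IsPrime] (hph : p.IsHomogeneous 𝒜)
    (hrel : ¬ (HomogeneousIdeal.irrelevant 𝒜).toIdeal ≤ p) :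
    ringKrullDim (A ⧸ p) =
      topologicalKrullDim ↥(ProjectiveSpectrum.zeroLocus 𝒜 (p : Set A)) + 1 := by
  let x : ProjectiveSpectrum 𝒜 := ⟨⟨p, hph⟩, hp, fun h => hrel (fun a ha => h ha)⟩
  have hx : x.asHomogeneousIdeal.toIdeal = p := rfl
  have h1 := dim_V k n x
  rw [hx] at h1
  rw [h1]
  have hfin : Order.coheight x ≠ ⊤ := by
    intro htop
    have h2 : ((Order.coheight x : ℕ∞) : WithBot ℕ∞) ≤ Order.krullDim (ProjectiveSpectrum 𝒜) :=
      Order.coheight_le_krullDim x
    rw [htop, dim_eq k n] at h2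
    have h3 : ((⊤ : ℕ∞) : WithBot ℕ∞) ≤ ((n : ℕ∞) : WithBot ℕ∞) := h2
    exact ENat.natCast_ne_top n (top_le_iff.mp (WithBot.coe_le_coe.mp h3))
  obtain ⟨N, hN⟩ := ENat.ne_top_iff_exists.mp hfin
  refine le_antisymm ?_ ?_
  · have := upper k n N x hN.symm
    rw [hx] at this
    rw [← hN]
    exact this
  · have := lower k n x
    rw [hx] at this
    exact this

end
end Helpers


/-- Let k be a field, n ≥ 0, S = k[X_0, …, X_n] graded by degree, and p a homogeneous prime ideal of S
which does not contain the irrelevant ideal S_+, so that X = V_+(p) is a nonempty integral closed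
subscheme of P^n_k (every such subscheme arises this way); its affine cone C(X) ⊆ A^{n+1}_k, the
closure of the preimage of X under the projection from A^{n+1} minus the origin, is the closed
subset V(p), with coordinate ring S/p. Then dim C(X) = dim X + 1: the Krull dimension of S/p is the
topological Krull dimension of the closed subset V_+(p) of Proj S plus one. -/
theorem result (k : Type u) [Field k] (n : ℕ)
    (p : Ideal (MvPolynomial (Fin (n + 1)) k)) [p.IsPrime] (hph : p.IsHomogeneous (CohB1.polyGrading n k))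
    (hrel : ¬ (HomogeneousIdeal.irrelevant (CohB1.polyGrading n k)).toIdeal ≤ p) :
    ringKrullDim (MvPolynomial (Fin (n + 1)) k ⧸ p) =
      topologicalKrullDim ↥(ProjectiveSpectrum.zeroLocus (CohB1.polyGrading n k) (p : Set (MvPolynomial (Fin (n + 1)) k))) + 1 := by
  exact main19926 k n p hph hrel

end Groth.Agent.S19926
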