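import Groth.Statements.S10822
import Mathlib
import Groth.Agent.S10821
import Groth.Agent.S10829
import Groth.Agent.S19926
import Groth.Agent.Lib.helper7.DimFT

set_option autoImplicit false
universe u
open AlgebraicGeometry Topology TopologicalSpace
open Variety

namespace Groth.Agent.S10822

section Helpers

open AlgebraicGeometry TopologicalSpace

section
variable (k : Type u) [Field k] (n : ℕ)

local notation "𝒜" => CohB1.polyGrading n k
local notation "A" => MvPolynomial (Fin (n + 1)) k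

open Groth.Agent.S10821 Groth.Agent.S10829 Groth.Agent.S19926

lemma dimA_eq (x : ProjectiveSpectrum 𝒜) :
    ringKrullDim (A ⧸ x.asHomogeneousIdeal.toIdeal) =
      ((Order.coheight x : ℕ∞) : WithBot ℕ∞) + 1 := by
  haveI := x.isPrime
  have h := main19926 k n x.asHomogeneousIdeal.toIdeal x.asHomogeneousIdeal.isHomogeneous
    (fun h => x.not_irrelevant_le (fun a ha => h ha))
  rw [h, dim_V]

lemma coheight_fin (x : ProjectiveSpectrum 𝒜) : ∃ N : ℕ, Order.coheight x = N := by
  have hfin : Order.coheight x ≠ ⊤ := by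
    intro htop
    have h2 : ((Order.coheight x : ℕ∞) : WithBot ℕ∞) ≤ Order.krullDim (ProjectiveSpectrum 𝒜) :=
      Order.coheight_le_krullDim x
    rw [htop, dim_eq k n] at h2
    have h3 : ((⊤ : ℕ∞) : WithBot ℕ∞) ≤ ((n : ℕ∞) : WithBot ℕ∞) := h2
    exact ENat.natCast_ne_top n (top_le_iff.mp (WithBot.coe_le_coe.mp h3))
  obtain ⟨N, hN⟩ := ENat.ne_top_iff_exists.mp hfin
  exact ⟨N, hN.symm⟩

/-- a minimal prime over `x + (l)` is homogeneous and drops the dimension by one. -/
lemma stepQ (x : ProjectiveSpectrum 𝒜) (l : A) (i : ℕ) (hlhom : l.IsHomogeneous i)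
    (hlx : l ∉ x.asHomogeneousIdeal.toIdeal) (Q : Ideal A)
    (hQmin : Q ∈ (x.asHomogeneousIdeal.toIdeal ⊔ Ideal.span {l}).minimalPrimes) :
    (Q.homogeneousCore 𝒜).toIdeal = Q ∧
      ringKrullDim (A ⧸ Q) + 1 = ringKrullDim (A ⧸ x.asHomogeneousIdeal.toIdeal) := by
  set P := x.asHomogeneousIdeal.toIdeal with hP
  haveI hPp : P.IsPrime := x.isPrime
  haveI hQp : Q.IsPrime := hQmin.1.1
  have hIQ : P ⊔ Ideal.span {l} ≤ Q := hQmin.1.2
  have hPQ : P ≤ Q := le_sup_left.trans hIQ
  have hlQ : l ∈ Q := hIQ (Ideal.mem_sup_right (Ideal.mem_span_singleton_self l))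
  have hPQlt : P < Q := lt_of_le_of_ne hPQ (fun h => hlx (h ▸ hlQ))
  have hcore : (Q.homogeneousCore 𝒜).toIdeal = Q := by
    apply le_antisymm (Ideal.toIdeal_homogeneousCore_le 𝒜 Q)
    apply hQmin.2 ⟨hQp.homogeneousCore, ?_⟩ (Ideal.toIdeal_homogeneousCore_le 𝒜 Q)
    apply sup_le
    · have h1 : (x.asHomogeneousIdeal.toIdeal.homogeneousCore 𝒜).toIdeal ≤
          (Q.homogeneousCore 𝒜).toIdeal := Ideal.homogeneousCore_mono 𝒜 hPQ
      rwa [x.asHomogeneousIdeal.toIdeal_homogeneousCore_eq_self] at h1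
    · rw [Ideal.span_singleton_le_iff_mem]
      exact Ideal.mem_homogeneousCore_of_homogeneous_of_mem ⟨i, hlhom⟩ hlQ
  refine ⟨hcore, ?_⟩
  let π := Ideal.Quotient.mk P
  have hπ : Function.Surjective π := Ideal.Quotient.mk_surjective
  have hker : RingHom.ker π = P := Ideal.mk_ker
  have hcm : ∀ J : Ideal A, P ≤ J → (J.map π).comap π = J := by
    intro J hJ
    rw [Ideal.comap_map_of_surjective π hπ, ← RingHom.ker_eq_comap_bot, hker, sup_eq_left.mpr hJ]
  haveI hQ'p : (Q.map π).IsPrime :=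
    Ideal.map_isPrime_of_surjective hπ (by rw [hker]; exact hPQ)
  have hQ'min : Q.map π ∈ (Ideal.span {π l}).minimalPrimes := by
    refine ⟨⟨hQ'p, ?_⟩, ?_⟩
    · rw [Ideal.span_singleton_le_iff_mem]; exact Ideal.mem_map_of_mem π hlQ
    · rintro P' ⟨hP'p, hP'l⟩ hP'le
      have h1 : P ⊔ Ideal.span {l} ≤ P'.comap π := by
        apply sup_le
        · intro a ha
          rw [Ideal.mem_comap]
          have : π a = 0 := Ideal.Quotient.eq_zero_iff_mem.mpr ha
          rw [this]; exact zero_mem _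
        · rw [Ideal.span_singleton_le_iff_mem, Ideal.mem_comap]
          exact hP'l (Ideal.mem_span_singleton_self _)
      have h2 : P'.comap π ≤ Q := by
        rw [← hcm Q hPQ]
        exact Ideal.comap_mono hP'le
      have h3 : Q ≤ P'.comap π := hQmin.2 ⟨Ideal.comap_isPrime π P', h1⟩ h2
      calc Q.map π ≤ (P'.comap π).map π := Ideal.map_mono h3
        _ = P' := Ideal.map_comap_of_surjective π hπ P'
  have hht : (Q.map π).height = 1 := by
    apply le_antisymm (Ideal.height_le_one_of_isPrincipal_of_mem_minimalPrimes _ _ hQ'min)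
    rw [Order.one_le_iff_pos, pos_iff_ne_zero, Ne, Ideal.height_eq_zero_iff_eq_bot]
    intro hbot
    have h1 := hcm Q hPQ
    rw [hbot, ← RingHom.ker_eq_comap_bot, hker] at h1
    exact hPQlt.ne h1
  have h2 := Groth.Agent.Lib.helper7.DimFT.ringKrullDim_quotient_add_one_of_height_eq_one
    (k := k) (A ⧸ P) (Q.map π) hht
  have h4 : ringKrullDim ((A ⧸ P) ⧸ Q.map π) = ringKrullDim (A ⧸ Q) :=
    ringKrullDim_eq_of_ringEquiv (DoubleQuot.quotQuotEquivQuotOfLE hPQ)
  rw [← h2, h4]

/-- dimension of the closure of a point inside a closed subspace. -/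
lemma dim_C (W : Set (ProjectiveSpectrum 𝒜)) (hW : IsClosed W) (C : Set ↥W) (c : ↥W)
    (hc : closure {c} = C) :
    topologicalKrullDim ↥C =
      ((Order.coheight (c : ProjectiveSpectrum 𝒜) : ℕ∞) : WithBot ℕ∞) := by
  rw [← dim_V k n (c : ProjectiveSpectrum 𝒜)]
  have hmemC : ∀ y : ↥W, y ∈ C ↔ (c : ProjectiveSpectrum 𝒜) ≤ y := by
    intro y
    rw [← hc, ← specializes_iff_mem_closure, subtype_specializes_iff, spec_iff]
  have hmemV : ∀ y : ProjectiveSpectrum 𝒜,
      y ∈ ProjectiveSpectrum.zeroLocus 𝒜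
        ((c : ProjectiveSpectrum 𝒜).asHomogeneousIdeal.toIdeal : Set A) ↔
      (c : ProjectiveSpectrum 𝒜) ≤ y := by
    intro y
    rw [ProjectiveSpectrum.mem_zeroLocus]
    rfl
  have hW' : ∀ y : ProjectiveSpectrum 𝒜, (c : ProjectiveSpectrum 𝒜) ≤ y → y ∈ W := by
    intro y hy
    have h1 : y ∈ closure {(c : ProjectiveSpectrum 𝒜)} := by
      rw [← ProjectiveSpectrum.le_iff_mem_closure]; exact hy
    exact (hW.closure_subset_iff.mpr (Set.singleton_subset_iff.mpr c.2)) h1
  let e : ↥C ≃ₜ ↥(ProjectiveSpectrum.zeroLocus 𝒜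
      ((c : ProjectiveSpectrum 𝒜).asHomogeneousIdeal.toIdeal : Set A)) :=
    { toFun := fun y => ⟨y.1.1, (hmemV _).mpr ((hmemC y.1).mp y.2)⟩
      invFun := fun y => ⟨⟨y.1, hW' _ ((hmemV _).mp y.2)⟩, (hmemC _).mpr ((hmemV _).mp y.2)⟩
      left_inv := fun y => rfl
      right_inv := fun y => rfl
      continuous_toFun :=
        Continuous.subtype_mk (continuous_subtype_val.comp continuous_subtype_val) _
      continuous_invFun :=
        Continuous.subtype_mk (Continuous.subtype_mk continuous_subtype_val _) _ }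
  exact IsHomeomorph.topologicalKrullDim_eq e e.isHomeomorph

theorem main10822 (d : ℕ) (X : Set (ProjectiveSpectrum 𝒜)) (hXc : IsClosed X)
    (hXi : IsIrreducible X) (hXd : 0 < topologicalKrullDim ↥X)
    (f : A) (hf : f.IsHomogeneous d)
    (hV : (ProjectiveSpectrum.zeroLocus 𝒜 ({f} : Set A)).Nonempty)
    (hX : ¬ X ⊆ ProjectiveSpectrum.zeroLocus 𝒜 ({f} : Set A)) :
    (X ∩ ProjectiveSpectrum.zeroLocus 𝒜 ({f} : Set A)).Nonempty ∧
      ∀ C ∈ irreducibleComponents ↥(X ∩ ProjectiveSpectrum.zeroLocus 𝒜 ({f} : Set A)),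
        topologicalKrullDim ↥C + 1 = topologicalKrullDim ↥X := by
  haveI := irrelevant_isPrime k n
  set m := (HomogeneousIdeal.irrelevant 𝒜).toIdeal with hm
  -- the generic point of X
  set x := gp k n ⟨X, hXi, hXc⟩ with hxdef
  have hxX : closure {x} = X := gp_spec k n ⟨X, hXi, hXc⟩
  set P := x.asHomogeneousIdeal.toIdeal with hP
  have hXeq : X = ProjectiveSpectrum.zeroLocus 𝒜 (P : Set A) := by
    rw [← hxX, closure_pt]
  have hmemX : ∀ y : ProjectiveSpectrum 𝒜, y ∈ X ↔ x ≤ y := by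
    intro y
    rw [hXeq, ProjectiveSpectrum.mem_zeroLocus]
    rfl
  have hmemVf : ∀ y : ProjectiveSpectrum 𝒜,
      y ∈ ProjectiveSpectrum.zeroLocus 𝒜 ({f} : Set A) ↔ f ∈ y.asHomogeneousIdeal.toIdeal := by
    intro y
    rw [ProjectiveSpectrum.mem_zeroLocus, Set.singleton_subset_iff]
    rfl
  have hfP : f ∉ P := by
    intro hfP
    apply hX
    intro y hy
    rw [hmemVf]
    exact ((hmemX y).mp hy) hfP
  have hfm : f ∈ m := by
    obtain ⟨w, hw⟩ := hV
    exact le_irrelevant k n w.asHomogeneousIdeal w.isPrime.ne_top ((hmemVf w).mp hw)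
  have hdimX : topologicalKrullDim ↥X = ((Order.coheight x : ℕ∞) : WithBot ℕ∞) := by
    rw [hXeq]; exact dim_V k n x
  obtain ⟨Nx, hNx⟩ := coheight_fin k n x
  have hNxpos : 0 < Nx := by
    rw [hdimX, hNx] at hXd
    exact_mod_cast hXd
  have hdimAx := dimA_eq k n x
  have hWc : IsClosed (X ∩ ProjectiveSpectrum.zeroLocus 𝒜 ({f} : Set A)) :=
    hXc.inter (ProjectiveSpectrum.isClosed_zeroLocus 𝒜 _)
  -- a point from a homogeneous prime
  have hpoint : ∀ (Q : Ideal A) (hQp : Q.IsPrime), (Q.homogeneousCore 𝒜).toIdeal = Q →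
      ¬ m ≤ Q → ∃ z : ProjectiveSpectrum 𝒜, z.asHomogeneousIdeal.toIdeal = Q := by
    intro Q hQp hcore hrel
    exact ⟨⟨Q.homogeneousCore 𝒜, hQp.homogeneousCore, fun h =>
      hrel (fun a ha => Ideal.toIdeal_homogeneousCore_le 𝒜 Q (h ha))⟩, hcore⟩
  constructor
  · have hIm : P ⊔ Ideal.span {f} ≤ m :=
      sup_le (le_irrelevant k n _ x.isPrime.ne_top) ((Ideal.span_singleton_le_iff_mem _).mpr hfm)
    obtain ⟨Q, hQmin, hQle⟩ := Ideal.exists_minimalPrimes_le hIm
    obtain ⟨hcore, hdim⟩ := stepQ k n x f d hf hfP Q hQmin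
    have hrel : ¬ m ≤ Q := by
      intro hrel
      haveI : Q.IsPrime := hQmin.1.1
      have hQm : Q = m := ((irr_isMaximal k n).eq_of_le hQmin.1.1.ne_top hrel).symm
      haveI : Q.IsMaximal := hQm ▸ irr_isMaximal k n
      letI : Field (A ⧸ Q) := Ideal.Quotient.field Q
      rw [ringKrullDim_eq_zero_of_field, zero_add, hdimAx, hNx] at hdim
      have h1 : ((1 : ℕ) : WithBot ℕ∞) = ((Nx + 1 : ℕ) : WithBot ℕ∞) := by exact_mod_cast hdim
      have h2 : (1 : ℕ) = Nx + 1 := by exact_mod_cast h1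
      omega
    obtain ⟨z, hz⟩ := hpoint Q hQmin.1.1 hcore hrel
    refine ⟨z, (hmemX z).mpr ?_, (hmemVf z).mpr ?_⟩
    · change P ≤ z.asHomogeneousIdeal.toIdeal
      rw [hz]; exact le_sup_left.trans hQmin.1.2
    · rw [hz]
      exact hQmin.1.2 (Ideal.mem_sup_right (Ideal.mem_span_singleton_self f))
  · intro C hC
    haveI : QuasiSober ↥(X ∩ ProjectiveSpectrum.zeroLocus 𝒜 ({f} : Set A)) :=
      hWc.isClosedEmbedding_subtypeVal.quasiSober
    have hCcl : IsClosed C := isClosed_of_mem_irreducibleComponents C hC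
    have hCirr : IsIrreducible C := hC.1
    set c := hCirr.genericPoint with hcdef
    have hcC : closure {c} = C := hCirr.isGenericPoint_genericPoint hCcl
    set z : ProjectiveSpectrum 𝒜 := c.1 with hzdef
    have hzX : x ≤ z := (hmemX z).mp c.2.1
    have hfz : f ∈ z.asHomogeneousIdeal.toIdeal := (hmemVf z).mp c.2.2
    have hIz : P ⊔ Ideal.span {f} ≤ z.asHomogeneousIdeal.toIdeal :=
      sup_le hzX ((Ideal.span_singleton_le_iff_mem _).mpr hfz)
    haveI := z.isPrime
    obtain ⟨Q, hQmin, hQle⟩ := Ideal.exists_minimalPrimes_le hIz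
    obtain ⟨hcore, hdim⟩ := stepQ k n x f d hf hfP Q hQmin
    have hrel : ¬ m ≤ Q := fun h => z.not_irrelevant_le (fun a ha => hQle (h ha))
    obtain ⟨q, hq⟩ := hpoint Q hQmin.1.1 hcore hrel
    have hqz : q ≤ z := by
      change q.asHomogeneousIdeal.toIdeal ≤ z.asHomogeneousIdeal.toIdeal
      rw [hq]; exact hQle
    have hqW : q ∈ X ∩ ProjectiveSpectrum.zeroLocus 𝒜 ({f} : Set A) := by
      refine ⟨(hmemX q).mpr ?_, (hmemVf q).mpr ?_⟩
      · change P ≤ q.asHomogeneousIdeal.toIdeal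
        rw [hq]; exact le_sup_left.trans hQmin.1.2
      · rw [hq]
        exact hQmin.1.2 (Ideal.mem_sup_right (Ideal.mem_span_singleton_self f))
    let q' : ↥(X ∩ ProjectiveSpectrum.zeroLocus 𝒜 ({f} : Set A)) := ⟨q, hqW⟩
    have hq'c : q' ⤳ c := by
      rw [subtype_specializes_iff, spec_iff]; exact hqz
    have hCsub : C ≤ closure {q'} := by
      rw [← hcC]
      exact isClosed_closure.closure_subset_iff.mpr
        (Set.singleton_subset_iff.mpr (specializes_iff_mem_closure.mp hq'c))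
    have hsub2 : closure {q'} ≤ C := hC.2 isIrreducible_singleton.closure hCsub
    have hq'C : q' ∈ C := hsub2 (subset_closure rfl)
    have hcq' : c ⤳ q' := by
      rw [specializes_iff_mem_closure, hcC]; exact hq'C
    have hzq : z ≤ q := by
      rw [subtype_specializes_iff, spec_iff] at hcq'
      exact hcq'
    have hzeq : z = q := le_antisymm hzq hqz
    have hdimz := dimA_eq k n z
    rw [hzeq, hq] at hdimz
    rw [hdimz, hdimAx, ← hzeq] at hdim
    obtain ⟨Nz, hNz⟩ := coheight_fin k n z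
    rw [dim_C k n _ hWc C c hcC, hdimX, hNx, hNz]
    rw [hNx, hNz] at hdim
    have h1 : ((Nz + 1 + 1 : ℕ) : WithBot ℕ∞) = ((Nx + 1 : ℕ) : WithBot ℕ∞) := by
      exact_mod_cast hdim
    have h2 : Nz + 1 + 1 = Nx + 1 := by exact_mod_cast h1
    have h3 : Nz + 1 = Nx := by omega
    exact_mod_cast h3

end
end Helpers


/-- Let k be a field, X an irreducible closed subset of projective n-space over k of positive dimension,
and f a homogeneous polynomial in n + 1 variables whose zero set V_+(f) is nonempty and does not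
contain X. Then X meets V_+(f), and every irreducible component C of X ∩ V_+(f) has dim C + 1 = dim
X, i.e. codimension 1 in X (all maximal chains of irreducible closed subsets of X have length dim
X). -/
theorem result (k : Type u) [Field k] (n d : ℕ)
    (X : Set (ProjectiveSpectrum (CohB1.polyGrading n k))) (hXc : IsClosed X) (hXi : IsIrreducible X)
    (hXd : 0 < topologicalKrullDim ↥X)
    (f : MvPolynomial (Fin (n + 1)) k) (hf : f.IsHomogeneous d)
    (hV : (ProjectiveSpectrum.zeroLocus (CohB1.polyGrading n k)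
      ({f} : Set (MvPolynomial (Fin (n + 1)) k))).Nonempty)
    (hX : ¬ X ⊆ ProjectiveSpectrum.zeroLocus (CohB1.polyGrading n k)
      ({f} : Set (MvPolynomial (Fin (n + 1)) k))) :
    (X ∩ ProjectiveSpectrum.zeroLocus (CohB1.polyGrading n k)
        ({f} : Set (MvPolynomial (Fin (n + 1)) k))).Nonempty ∧
      ∀ C ∈ irreducibleComponents ↥(X ∩ ProjectiveSpectrum.zeroLocus (CohB1.polyGrading n k)
          ({f} : Set (MvPolynomial (Fin (n + 1)) k))),
        topologicalKrullDim ↥C + 1 = topologicalKrullDim ↥X := by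
  exact main10822 k n d X hXc hXi hXd f hf hV hX

end Groth.Agent.S10822
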