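import Groth.Statements.S10823
import Mathlib
import Groth.Agent.S10821
import Groth.Agent.S10829
import Groth.Agent.S19926
import Groth.Agent.S10822
import Groth.Agent.Lib.helper7.DimFT

set_option autoImplicit false
universe u
open AlgebraicGeometry Topology TopologicalSpace
open Variety

namespace Groth.Agent.S10823

section Helpers

open AlgebraicGeometry TopologicalSpace

section
variable (k : Type u) [Field k] (n : ℕ)

local notation "𝒜" => CohB1.polyGrading n k
local notation "A" => MvPolynomial (Fin (n + 1)) k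

open Groth.Agent.S10821 Groth.Agent.S10829 Groth.Agent.S19926 Groth.Agent.S10822

/-- a minimal prime over `x + (f_1, …, f_r)` is homogeneous and drops the dimension by at most r. -/
lemma stepR (x : ProjectiveSpectrum 𝒜) (r : ℕ) (f : Fin r → A) (d : Fin r → ℕ)
    (hf : ∀ i, (f i).IsHomogeneous (d i)) (Q : Ideal A)
    (hQmin : Q ∈ (x.asHomogeneousIdeal.toIdeal ⊔ Ideal.span (Set.range f)).minimalPrimes) :
    (Q.homogeneousCore 𝒜).toIdeal = Q ∧
      ringKrullDim (A ⧸ x.asHomogeneousIdeal.toIdeal) ≤ ringKrullDim (A ⧸ Q) + (r : WithBot ℕ∞) := by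
  classical
  set P := x.asHomogeneousIdeal.toIdeal with hP
  haveI hPp : P.IsPrime := x.isPrime
  haveI hQp : Q.IsPrime := hQmin.1.1
  have hIQ : P ⊔ Ideal.span (Set.range f) ≤ Q := hQmin.1.2
  have hPQ : P ≤ Q := le_sup_left.trans hIQ
  have hfQ : ∀ i, f i ∈ Q := fun i =>
    hIQ (Ideal.mem_sup_right (Ideal.subset_span (Set.mem_range_self i)))
  have hcore : (Q.homogeneousCore 𝒜).toIdeal = Q := by
    apply le_antisymm (Ideal.toIdeal_homogeneousCore_le 𝒜 Q)
    apply hQmin.2 ⟨hQp.homogeneousCore, ?_⟩ (Ideal.toIdeal_homogeneousCore_le 𝒜 Q)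
    apply sup_le
    · have h1 : (x.asHomogeneousIdeal.toIdeal.homogeneousCore 𝒜).toIdeal ≤
          (Q.homogeneousCore 𝒜).toIdeal := Ideal.homogeneousCore_mono 𝒜 hPQ
      rwa [x.asHomogeneousIdeal.toIdeal_homogeneousCore_eq_self] at h1
    · rw [Ideal.span_le]
      rintro _ ⟨i, rfl⟩
      exact Ideal.mem_homogeneousCore_of_homogeneous_of_mem ⟨d i, hf i⟩ (hfQ i)
  refine ⟨hcore, ?_⟩
  let π := Ideal.Quotient.mk P
  have hπ : Function.Surjective π := Ideal.Quotient.mk_surjective
  have hker : RingHom.ker π = P := Ideal.mk_ker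
  have hcm : ∀ J : Ideal A, P ≤ J → (J.map π).comap π = J := by
    intro J hJ
    rw [Ideal.comap_map_of_surjective π hπ, ← RingHom.ker_eq_comap_bot, hker, sup_eq_left.mpr hJ]
  haveI hQ'p : (Q.map π).IsPrime :=
    Ideal.map_isPrime_of_surjective hπ (by rw [hker]; exact hPQ)
  let S' : Finset (A ⧸ P) := Finset.univ.image (fun i => π (f i))
  have hQ'min : Q.map π ∈ (Ideal.span (S' : Set (A ⧸ P))).minimalPrimes := by
    refine ⟨⟨hQ'p, ?_⟩, ?_⟩
    · rw [Ideal.span_le]
      intro b hb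
      obtain ⟨i, -, rfl⟩ := Finset.mem_image.mp (Finset.mem_coe.mp hb)
      exact Ideal.mem_map_of_mem π (hfQ i)
    · rintro P' ⟨hP'p, hP'l⟩ hP'le
      have h1 : P ⊔ Ideal.span (Set.range f) ≤ P'.comap π := by
        apply sup_le
        · intro a ha
          rw [Ideal.mem_comap]
          have : π a = 0 := Ideal.Quotient.eq_zero_iff_mem.mpr ha
          rw [this]; exact zero_mem _
        · rw [Ideal.span_le]
          rintro _ ⟨i, rfl⟩
          change π (f i) ∈ P'
          exact hP'l (Ideal.subset_span (Finset.mem_coe.mpr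
            (Finset.mem_image_of_mem _ (Finset.mem_univ i))))
      have h2 : P'.comap π ≤ Q := by
        rw [← hcm Q hPQ]
        exact Ideal.comap_mono hP'le
      have h3 : Q ≤ P'.comap π := hQmin.2 ⟨Ideal.comap_isPrime π P', h1⟩ h2
      calc Q.map π ≤ (P'.comap π).map π := Ideal.map_mono h3
        _ = P' := Ideal.map_comap_of_surjective π hπ P'
  have hht : (Q.map π).height ≤ (r : ℕ∞) := by
    refine (Ideal.height_le_card_of_mem_minimalPrimes_span_finset hQ'min).trans ?_
    have : S'.card ≤ r := by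
      refine Finset.card_image_le.trans ?_
      rw [Finset.card_univ, Fintype.card_fin]
    exact_mod_cast this
  have h2 := Groth.Agent.Lib.helper7.DimFT.ringKrullDim_quotient_add_height
    (k := k) (A ⧸ P) (Q.map π)
  have h4 : ringKrullDim ((A ⧸ P) ⧸ Q.map π) = ringKrullDim (A ⧸ Q) :=
    ringKrullDim_eq_of_ringEquiv (DoubleQuot.quotQuotEquivQuotOfLE hPQ)
  rw [← h2, h4]
  have h5 : (((Q.map π).height : ℕ∞) : WithBot ℕ∞) ≤ ((r : ℕ∞) : WithBot ℕ∞) :=
    WithBot.coe_le_coe.mpr hht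
  exact add_le_add le_rfl h5

theorem main10823 (r : ℕ) (X : Set (ProjectiveSpectrum 𝒜)) (hXc : IsClosed X)
    (hXi : IsIrreducible X) (f : Fin r → A) (d : Fin r → ℕ)
    (hf : ∀ i, (f i).IsHomogeneous (d i)) (hd : ∀ i, 0 < d i) :
    (∀ C ∈ irreducibleComponents ↥(X ∩ ProjectiveSpectrum.zeroLocus 𝒜 (Set.range f)),
        topologicalKrullDim ↥X ≤ topologicalKrullDim ↥C + (r : WithBot ℕ∞)) ∧
      ((r : WithBot ℕ∞) ≤ topologicalKrullDim ↥X →
        (X ∩ ProjectiveSpectrum.zeroLocus 𝒜 (Set.range f)).Nonempty) := by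
  haveI := irrelevant_isPrime k n
  set m := (HomogeneousIdeal.irrelevant 𝒜).toIdeal with hm
  set x := gp k n ⟨X, hXi, hXc⟩ with hxdef
  have hxX : closure {x} = X := gp_spec k n ⟨X, hXi, hXc⟩
  set P := x.asHomogeneousIdeal.toIdeal with hP
  have hXeq : X = ProjectiveSpectrum.zeroLocus 𝒜 (P : Set A) := by
    rw [← hxX, closure_pt]
  have hmemX : ∀ y : ProjectiveSpectrum 𝒜, y ∈ X ↔ x ≤ y := by
    intro y
    rw [hXeq, ProjectiveSpectrum.mem_zeroLocus]
    rfl
  have hmemVf : ∀ y : ProjectiveSpectrum 𝒜,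
      y ∈ ProjectiveSpectrum.zeroLocus 𝒜 (Set.range f) ↔
        ∀ i, f i ∈ y.asHomogeneousIdeal.toIdeal := by
    intro y
    rw [ProjectiveSpectrum.mem_zeroLocus, Set.range_subset_iff]
    rfl
  have hfm : ∀ i, f i ∈ m := fun i => HomogeneousIdeal.mem_irrelevant_of_mem 𝒜 (hd i) (hf i)
  have hdimX : topologicalKrullDim ↥X = ((Order.coheight x : ℕ∞) : WithBot ℕ∞) := by
    rw [hXeq]; exact dim_V k n x
  obtain ⟨Nx, hNx⟩ := coheight_fin k n x
  have hdimAx := dimA_eq k n x
  have hWc : IsClosed (X ∩ ProjectiveSpectrum.zeroLocus 𝒜 (Set.range f)) :=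
    hXc.inter (ProjectiveSpectrum.isClosed_zeroLocus 𝒜 _)
  have hpoint : ∀ (Q : Ideal A) (hQp : Q.IsPrime), (Q.homogeneousCore 𝒜).toIdeal = Q →
      ¬ m ≤ Q → ∃ z : ProjectiveSpectrum 𝒜, z.asHomogeneousIdeal.toIdeal = Q := by
    intro Q hQp hcore hrel
    exact ⟨⟨Q.homogeneousCore 𝒜, hQp.homogeneousCore, fun h =>
      hrel (fun a ha => Ideal.toIdeal_homogeneousCore_le 𝒜 Q (h ha))⟩, hcore⟩
  have hmemQ : ∀ (Q : Ideal A), P ⊔ Ideal.span (Set.range f) ≤ Q →
      ∀ z : ProjectiveSpectrum 𝒜, z.asHomogeneousIdeal.toIdeal = Q →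
        z ∈ X ∩ ProjectiveSpectrum.zeroLocus 𝒜 (Set.range f) := by
    intro Q hIQ z hz
    refine ⟨(hmemX z).mpr ?_, (hmemVf z).mpr ?_⟩
    · change P ≤ z.asHomogeneousIdeal.toIdeal
      rw [hz]; exact le_sup_left.trans hIQ
    · intro i
      rw [hz]
      exact hIQ (Ideal.mem_sup_right (Ideal.subset_span (Set.mem_range_self i)))
  constructor
  · intro C hC
    haveI : QuasiSober ↥(X ∩ ProjectiveSpectrum.zeroLocus 𝒜 (Set.range f)) :=
      hWc.isClosedEmbedding_subtypeVal.quasiSober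
    have hCcl : IsClosed C := isClosed_of_mem_irreducibleComponents C hC
    have hCirr : IsIrreducible C := hC.1
    set c := hCirr.genericPoint with hcdef
    have hcC : closure {c} = C := hCirr.isGenericPoint_genericPoint hCcl
    set z : ProjectiveSpectrum 𝒜 := c.1 with hzdef
    have hzX : x ≤ z := (hmemX z).mp c.2.1
    have hfz : ∀ i, f i ∈ z.asHomogeneousIdeal.toIdeal := (hmemVf z).mp c.2.2
    have hIz : P ⊔ Ideal.span (Set.range f) ≤ z.asHomogeneousIdeal.toIdeal := by
      apply sup_le hzX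
      rw [Ideal.span_le]
      rintro _ ⟨i, rfl⟩
      exact hfz i
    haveI := z.isPrime
    obtain ⟨Q, hQmin, hQle⟩ := Ideal.exists_minimalPrimes_le hIz
    obtain ⟨hcore, hdim⟩ := stepR k n x r f d hf Q hQmin
    have hrel : ¬ m ≤ Q := fun h => z.not_irrelevant_le (fun a ha => hQle (h ha))
    obtain ⟨q, hq⟩ := hpoint Q hQmin.1.1 hcore hrel
    have hqz : q ≤ z := by
      change q.asHomogeneousIdeal.toIdeal ≤ z.asHomogeneousIdeal.toIdeal
      rw [hq]; exact hQle
    have hqW := hmemQ Q hQmin.1.2 q hq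
    let q' : ↥(X ∩ ProjectiveSpectrum.zeroLocus 𝒜 (Set.range f)) := ⟨q, hqW⟩
    have hq'c : q' ⤳ c := by
      rw [subtype_specializes_iff, spec_iff]; exact hqz
    have hCsub : C ≤ closure {q'} := by
      rw [← hcC]
      exact isClosed_closure.closure_subset_iff.mpr
        (Set.singleton_subset_iff.mpr (specializes_iff_mem_closure.mp hq'c))
    have hsub2 : closure {q'} ≤ C := hC.2 isIrreducible_singleton.closure hCsub
    have hq'C : q' ∈ C := hsub2 (subset_closure rfl)
    have hcq' : c ⤳ q' := by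
      rw [specializes_iff_mem_closure, hcC]; exact hq'C
    have hzq : z ≤ q := by
      rw [subtype_specializes_iff, spec_iff] at hcq'
      exact hcq'
    have hzeq : z = q := le_antisymm hzq hqz
    have hdimz := dimA_eq k n z
    rw [hzeq, hq] at hdimz
    rw [hdimz, hdimAx, ← hzeq] at hdim
    obtain ⟨Nz, hNz⟩ := coheight_fin k n z
    rw [dim_C k n _ hWc C c hcC, hdimX, hNx, hNz]
    rw [hNx, hNz] at hdim
    have h1 : ((Nx + 1 : ℕ) : WithBot ℕ∞) ≤ ((Nz + 1 + r : ℕ) : WithBot ℕ∞) := by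
      exact_mod_cast hdim
    have h2 : Nx + 1 ≤ Nz + 1 + r := by exact_mod_cast h1
    have h3 : Nx ≤ Nz + r := by omega
    exact_mod_cast h3
  · intro hr
    rw [hdimX, hNx] at hr
    have hr' : r ≤ Nx := by exact_mod_cast hr
    have hIm : P ⊔ Ideal.span (Set.range f) ≤ m := by
      apply sup_le (le_irrelevant k n _ x.isPrime.ne_top)
      rw [Ideal.span_le]
      rintro _ ⟨i, rfl⟩
      exact hfm i
    obtain ⟨Q, hQmin, hQle⟩ := Ideal.exists_minimalPrimes_le hIm
    obtain ⟨hcore, hdim⟩ := stepR k n x r f d hf Q hQmin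
    have hrel : ¬ m ≤ Q := by
      intro hrel
      haveI : Q.IsPrime := hQmin.1.1
      have hQm : Q = m := ((irr_isMaximal k n).eq_of_le hQmin.1.1.ne_top hrel).symm
      haveI : Q.IsMaximal := hQm ▸ irr_isMaximal k n
      letI : Field (A ⧸ Q) := Ideal.Quotient.field Q
      rw [ringKrullDim_eq_zero_of_field, zero_add, hdimAx, hNx] at hdim
      have h1 : ((Nx + 1 : ℕ) : WithBot ℕ∞) ≤ ((r : ℕ) : WithBot ℕ∞) := by exact_mod_cast hdim
      have h2 : Nx + 1 ≤ r := by exact_mod_cast h1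
      omega
    obtain ⟨z, hz⟩ := hpoint Q hQmin.1.1 hcore hrel
    exact ⟨z, hmemQ Q hQmin.1.2 z hz⟩

end
end Helpers


/-- Let k be a field, X an irreducible closed subset of projective n-space over k, and f_1, …, f_r
nonzero homogeneous polynomials of positive degrees in n + 1 variables. Then every irreducible
component C of X ∩ V_+(f_1, …, f_r) has codimension at most r in X, i.e. dim X ≤ dim C + r, and if
dim X ≥ r the intersection is nonempty. -/
theorem result (k : Type u) [Field k] (n r : ℕ)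
    (X : Set (ProjectiveSpectrum (CohB1.polyGrading n k))) (hXc : IsClosed X) (hXi : IsIrreducible X)
    (f : Fin r → MvPolynomial (Fin (n + 1)) k) (d : Fin r → ℕ)
    (hf : ∀ i, (f i).IsHomogeneous (d i)) (hd : ∀ i, 0 < d i) (hf0 : ∀ i, f i ≠ 0) :
    (∀ C ∈ irreducibleComponents ↥(X ∩ ProjectiveSpectrum.zeroLocus (CohB1.polyGrading n k) (Set.range f)),
        topologicalKrullDim ↥X ≤ topologicalKrullDim ↥C + (r : WithBot ℕ∞)) ∧
      ((r : WithBot ℕ∞) ≤ topologicalKrullDim ↥X →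
        (X ∩ ProjectiveSpectrum.zeroLocus (CohB1.polyGrading n k) (Set.range f)).Nonempty) := by
  exact main10823 k n r X hXc hXi f d hf hd

end Groth.Agent.S10823
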