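import Groth.Statements.S10828
import Mathlib

set_option autoImplicit false
universe u
open CategoryTheory AlgebraicGeometry
open Variety

namespace Groth.Agent.S10828

section Aux
open AlgebraicGeometry CategoryTheory Limits TopologicalSpace

/-- two embeddings into an algebraic closure differ by an automorphism -/
theorem exists_aut (k L K : Type u) [Field k] [Field L] [Field K] [Algebra k L] [Algebra k K]
    [IsAlgClosure k K] (ψ₁ ψ₂ : L →ₐ[k] K) :
    ∃ σ : K ≃ₐ[k] K, ∀ a, σ (ψ₁ a) = ψ₂ a := by
  letI := ψ₁.toRingHom.toAlgebra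
  haveI : IsScalarTower k L K := IsScalarTower.of_algebraMap_eq fun c => (ψ₁.commutes c).symm
  haveI : IsAlgClosed K := IsAlgClosure.isAlgClosed k
  haveI : Normal k K := IsAlgClosure.normal k K
  refine ⟨AlgEquiv.ofBijective (ψ₂.liftNormal K) (AlgHom.normal_bijective k K K _), fun a => ?_⟩
  exact ψ₂.liftNormal_commutes K a


theorem closed_of_point (k K : Type u) [Field k] [Field K]
    [Algebra k K] [IsAlgClosure k K] {X : Scheme.{u}} (f : X ⟶ Spec (CommRingCat.of k))
    [LocallyOfFiniteType f] (p : Spec (CommRingCat.of K) ⟶ X)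
    (hp : p ≫ f = Spec.map (CommRingCat.ofHom (algebraMap k K))) :
    IsClosed ({p.base (IsLocalRing.closedPoint K)} : Set X) := by
  haveI : IsAlgClosed K := IsAlgClosure.isAlgClosed k
  haveI : Algebra.IsAlgebraic k K := IsAlgClosure.isAlgebraic
  let g := Spec.map (CommRingCat.ofHom (algebraMap k K))
  have hg : IsIntegralHom g := by
    rw [IsIntegralHom.SpecMap_iff]
    exact algebraMap_isIntegral_iff.mpr inferInstance
  let s : Spec (CommRingCat.of K) ⟶ pullback f g := pullback.lift p (𝟙 _) (by rw [hp]; simp [g])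
  have hs : s ≫ pullback.snd f g = 𝟙 _ := pullback.lift_snd _ _ _
  have hs1 : s ≫ pullback.fst f g = p := pullback.lift_fst _ _ _
  have hcl : IsClosed ({s.base (IsLocalRing.closedPoint K)} : Set ↥(pullback f g)) :=
    (pointEquivClosedPoint (pullback.snd f g) ⟨s, hs⟩).2
  have := (pullback.fst f g).isClosedMap _ hcl
  rw [Set.image_singleton, ← Scheme.Hom.comp_apply, hs1] at this
  exact this


theorem point_of_closed (k K : Type u) [Field k] [Field K]
    [Algebra k K] [IsAlgClosure k K] {X : Scheme.{u}} (f : X ⟶ Spec (CommRingCat.of k))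
    [LocallyOfFiniteType f] (x : X) (hx : IsClosed ({x} : Set X)) :
    ∃ p : Spec (CommRingCat.of K) ⟶ X, p ≫ f = Spec.map (CommRingCat.ofHom (algebraMap k K)) ∧
      p.base (IsLocalRing.closedPoint K) = x := by
  haveI : IsAlgClosed K := IsAlgClosure.isAlgClosed k
  haveI : IsClosedImmersion (X.fromSpecResidueField x) :=
    isClosed_singleton_iff_isClosedImmersion.mp hx
  have hfin : IsFinite (X.fromSpecResidueField x ≫ f) :=
    isFinite_iff_locallyOfFiniteType_of_jacobsonSpace.mpr inferInstance
  let φ₀ : CommRingCat.of k ⟶ X.residueField x := Spec.preimage (X.fromSpecResidueField x ≫ f)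
  have hφ₀ : Spec.map φ₀ = X.fromSpecResidueField x ≫ f := Spec.map_preimage _
  have hfinite : φ₀.hom.Finite := by
    rw [← IsFinite.SpecMap_iff, hφ₀]; exact hfin
  letI := φ₀.hom.toAlgebra
  haveI : Module.Finite k (X.residueField x) := hfinite
  haveI : Algebra.IsAlgebraic k (X.residueField x) := Algebra.IsAlgebraic.of_finite _ _
  let ψ : X.residueField x →ₐ[k] K := IsAlgClosed.lift
  refine ⟨Spec.map (CommRingCat.ofHom ψ.toRingHom) ≫ X.fromSpecResidueField x, ?_, ?_⟩
  · rw [Category.assoc, ← hφ₀, ← Spec.map_comp]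
    congr 1
    ext c
    exact ψ.commutes c
  · rw [Scheme.Hom.comp_apply]
    exact Scheme.fromSpecResidueField_apply _ _

theorem aut_of_same (k K : Type u) [Field k] [Field K]
    [Algebra k K] [IsAlgClosure k K] {X : Scheme.{u}} (f : X ⟶ Spec (CommRingCat.of k))
    (x : X) (ψ₁ ψ₂ : X.residueField x ⟶ CommRingCat.of K)
    (h₁ : (Spec.map ψ₁ ≫ X.fromSpecResidueField x) ≫ f =
      Spec.map (CommRingCat.ofHom (algebraMap k K)))
    (h₂ : (Spec.map ψ₂ ≫ X.fromSpecResidueField x) ≫ f =
      Spec.map (CommRingCat.ofHom (algebraMap k K))) :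
    ∃ σ : K ≃ₐ[k] K, Spec.map ψ₂ ≫ X.fromSpecResidueField x =
      Spec.map (CommRingCat.ofHom σ.toRingHom) ≫ Spec.map ψ₁ ≫ X.fromSpecResidueField x := by
  let φ₀ : CommRingCat.of k ⟶ X.residueField x := Spec.preimage (X.fromSpecResidueField x ≫ f)
  have hφ₀ : Spec.map φ₀ = X.fromSpecResidueField x ≫ f := Spec.map_preimage _
  rw [Category.assoc, ← hφ₀, ← Spec.map_comp] at h₁ h₂
  have e₁ := Spec.map_injective h₁
  have e₂ := Spec.map_injective h₂
  letI := φ₀.hom.toAlgebra
  let ψ₁' : X.residueField x →ₐ[k] K :=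
    { ψ₁.hom with commutes' := fun c => congr($e₁ c) }
  let ψ₂' : X.residueField x →ₐ[k] K :=
    { ψ₂.hom with commutes' := fun c => congr($e₂ c) }
  obtain ⟨σ, hσ⟩ := exists_aut k (X.residueField x) K ψ₁' ψ₂'
  refine ⟨σ, ?_⟩
  rw [← Spec.map_comp_assoc]
  congr 2
  ext a
  exact (hσ a).symm


theorem main (k K : Type u) [Field k] [Field K]
    [Algebra k K] [IsAlgClosure k K] {X : Scheme.{u}} (f : X ⟶ Spec (CommRingCat.of k))
    [LocallyOfFiniteType f] :
    (∀ x : X, IsClosed ({x} : Set X) ↔
        ∃ p : Spec (CommRingCat.of K) ⟶ X, p ≫ f = Spec.map (CommRingCat.ofHom (algebraMap k K)) ∧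
          p.base (IsLocalRing.closedPoint K) = x) ∧
      ∀ p q : Spec (CommRingCat.of K) ⟶ X,
        p ≫ f = Spec.map (CommRingCat.ofHom (algebraMap k K)) →
        q ≫ f = Spec.map (CommRingCat.ofHom (algebraMap k K)) →
          (p.base (IsLocalRing.closedPoint K) = q.base (IsLocalRing.closedPoint K) ↔
            ∃ σ : K ≃ₐ[k] K, q = Spec.map (CommRingCat.ofHom σ.toRingHom) ≫ p) := by
  refine ⟨fun x => ⟨point_of_closed k K f x, ?_⟩, fun p q hp hq => ⟨fun hpq => ?_, ?_⟩⟩
  · rintro ⟨p, hp, rfl⟩
    exact closed_of_point k K f p hp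
  · have key : ∀ (x y : X) (hxy : x = y) (ψ₁ : X.residueField x ⟶ CommRingCat.of K)
        (ψ₂ : X.residueField y ⟶ CommRingCat.of K),
        (Spec.map ψ₁ ≫ X.fromSpecResidueField x) ≫ f =
          Spec.map (CommRingCat.ofHom (algebraMap k K)) →
        (Spec.map ψ₂ ≫ X.fromSpecResidueField y) ≫ f =
          Spec.map (CommRingCat.ofHom (algebraMap k K)) →
        ∃ σ : K ≃ₐ[k] K, Spec.map ψ₂ ≫ X.fromSpecResidueField y =
          Spec.map (CommRingCat.ofHom σ.toRingHom) ≫ Spec.map ψ₁ ≫ X.fromSpecResidueField x := by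
      rintro x _ rfl ψ₁ ψ₂ h₁ h₂
      exact aut_of_same k K f x ψ₁ ψ₂ h₁ h₂
    have ep := Scheme.descResidueField_stalkClosedPointTo_fromSpecResidueField K X p
    have eq := Scheme.descResidueField_stalkClosedPointTo_fromSpecResidueField K X q
    obtain ⟨σ, hσ⟩ := key _ _ hpq _ _ (by rw [ep]; exact hp) (by rw [eq]; exact hq)
    rw [ep, eq] at hσ
    exact ⟨σ, hσ⟩
  · rintro ⟨σ, rfl⟩
    rw [Scheme.Hom.comp_apply]
    congr 1
    exact Subsingleton.elim _ _

end Aux

/-- Let k be a field, K an algebraic closure of k with its group G of k-automorphisms, and X a k-scheme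
locally of finite type. The map sending a K-valued point of X over k to its image point identifies
the closed points of X with the G-orbits in X(K): a point is closed if and only if it is the image
of some K-valued point, and two K-valued points have the same image if and only if one is obtained
from the other by composing with Spec of a k-automorphism of K. -/
theorem result (k K : Type u) [Field k] [Field K]
    [Algebra k K] [IsAlgClosure k K] {X : Scheme.{u}} (f : X ⟶ Spec (CommRingCat.of k))
    [LocallyOfFiniteType f] :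
    (∀ x : X, IsClosed ({x} : Set X) ↔
        ∃ p : Spec (CommRingCat.of K) ⟶ X, p ≫ f = Spec.map (CommRingCat.ofHom (algebraMap k K)) ∧
          p.base (IsLocalRing.closedPoint K) = x) ∧
      ∀ p q : Spec (CommRingCat.of K) ⟶ X,
        p ≫ f = Spec.map (CommRingCat.ofHom (algebraMap k K)) →
        q ≫ f = Spec.map (CommRingCat.ofHom (algebraMap k K)) →
          (p.base (IsLocalRing.closedPoint K) = q.base (IsLocalRing.closedPoint K) ↔
            ∃ σ : K ≃ₐ[k] K, q = Spec.map (CommRingCat.ofHom σ.toRingHom) ≫ p) := by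
  exact main k K f

end Groth.Agent.S10828
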