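import Groth.Statements.S10830

set_option autoImplicit false
universe u
open Topology TopologicalSpace
open TopDim

namespace Groth.Agent.S10830

/-- In an irreducible topological space X of finite Krull dimension, every proper closed subset Y has
strictly smaller Krull dimension than X. -/
theorem result (X : Type u) [TopologicalSpace X]
    [IrreducibleSpace X] (hfin : topologicalKrullDim X ≠ ⊤) (Y : Set X) (hY : IsClosed Y) (hYX : Y ≠ Set.univ) :
    topologicalKrullDim ↥Y < topologicalKrullDim X := by
  classical
  -- the top element of `IrreducibleCloseds X`
  let T : IrreducibleCloseds X := ⟨Set.univ, IrreducibleSpace.isIrreducible_univ X, isClosed_univ⟩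
  have hind : IsInducing ((↑) : Y → X) := IsInducing.subtypeVal
  let φ : IrreducibleCloseds Y → IrreducibleCloseds X :=
    IrreducibleCloseds.map ((↑) : Y → X) hind.continuous
  have hφ : StrictMono φ := IrreducibleCloseds.map_strictMono_of_isInducing hind
  have hφlt : ∀ Z : IrreducibleCloseds Y, φ Z < T := by
    intro Z
    have hsub : (φ Z : Set X) ⊆ Y := by
      change closure (((↑) : Y → X) '' (Z : Set Y)) ⊆ Y
      refine closure_minimal ?_ hY
      rintro _ ⟨y, _, rfl⟩
      exact y.2
    refine lt_of_le_of_ne (fun x _ => Set.mem_univ x) ?_
    intro h
    apply hYX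
    have : (φ Z : Set X) = Set.univ := congrArg (fun W : IrreducibleCloseds X => (W : Set X)) h
    exact Set.eq_univ_of_univ_subset (this ▸ hsub)
  haveI : Nonempty (IrreducibleCloseds X) := ⟨T⟩
  have hX0 : (0 : WithBot ℕ∞) ≤ topologicalKrullDim X := Order.krullDim_nonneg
  by_cases hemp : IsEmpty (IrreducibleCloseds Y)
  · have : topologicalKrullDim ↥Y = ⊥ := Order.krullDim_eq_bot
    rw [this]
    exact lt_of_lt_of_le (WithBot.bot_lt_coe 0) hX0
  · rw [not_isEmpty_iff] at hemp
    -- every chain in Y yields a chain in X longer by one
    have key : topologicalKrullDim ↥Y + 1 ≤ topologicalKrullDim X := by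
      unfold topologicalKrullDim
      rw [← Order.krullDim_WithTop]
      let ψ : WithTop (IrreducibleCloseds Y) → IrreducibleCloseds X := fun z =>
        match z with
        | ⊤ => T
        | (z : IrreducibleCloseds Y) => φ z
      refine Order.krullDim_le_of_strictMono ψ ?_
      intro a b hab
      induction a using WithTop.recTopCoe with
      | top => exact absurd hab (not_top_lt)
      | coe a =>
        induction b using WithTop.recTopCoe with
        | top => exact hφlt a
        | coe b => exact hφ (WithTop.coe_lt_coe.mp hab)
    -- conclude
    have hY0 : (0 : WithBot ℕ∞) ≤ topologicalKrullDim ↥Y := Order.krullDim_nonneg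
    generalize topologicalKrullDim X = a at *
    generalize topologicalKrullDim ↥Y = b at *
    induction a using WithBot.recBotCoe with
    | bot => simp at hX0
    | coe a =>
      induction b using WithBot.recBotCoe with
      | bot => simp at hY0
      | coe b =>
        have ha : a ≠ ⊤ := fun h => hfin (by rw [h]; rfl)
        norm_cast at key ⊢
        lift a to ℕ using ha
        have hb : b ≠ ⊤ := by
          rintro rfl
          simp at key
        lift b to ℕ using hb
        norm_cast at key ⊢

end Groth.Agent.S10830
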