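import Groth.Statements.S10831

set_option autoImplicit false
universe u
open Topology TopologicalSpace
open TopDim

namespace Groth.Agent.S10831

/-- preimage in a subspace of an irreducible subset contained in that subspace is irreducible -/
theorem isIrreducible_preimage_val {X : Type u} [TopologicalSpace X] {Y W : Set X} (hWY : W ⊆ Y)
    (hW : IsIrreducible W) : IsIrreducible (((↑) : Y → X) ⁻¹' W) := by
  obtain ⟨⟨w, hw⟩, hpre⟩ := hW
  refine ⟨⟨⟨w, hWY hw⟩, hw⟩, ?_⟩
  intro u v hu hv hnu hnv
  obtain ⟨u', hu', rfl⟩ := isOpen_induced_iff.mp hu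
  obtain ⟨v', hv', rfl⟩ := isOpen_induced_iff.mp hv
  obtain ⟨a, ha1, ha2⟩ := hnu
  obtain ⟨b, hb1, hb2⟩ := hnv
  obtain ⟨c, hc1, hc2, hc3⟩ := hpre u' v' hu' hv' ⟨a.1, ha1, ha2⟩ ⟨b.1, hb1, hb2⟩
  exact ⟨⟨c, hWY hc1⟩, hc1, hc2, hc3⟩

/-- The Krull dimension of a topological space is the supremum of the Krull dimensions of its
irreducible components. -/
theorem result (X : Type u) [TopologicalSpace X] :
    topologicalKrullDim X = ⨆ Y ∈ irreducibleComponents X, topologicalKrullDim ↥Y := by
  classical
  apply le_antisymm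
  · unfold topologicalKrullDim
    rw [Order.krullDim_eq_iSup_height]
    apply iSup_le
    intro Z
    rw [Order.height_eq_krullDim_Iic]
    obtain ⟨Y, hY, hZY⟩ :=
      exists_mem_irreducibleComponents_subset_of_isIrreducible (Z : Set X) Z.isIrreducible
    refine le_trans ?_ (le_iSup₂ (f := fun Y (_ : Y ∈ irreducibleComponents X) =>
      Order.krullDim (IrreducibleCloseds ↥Y)) Y hY)
    let ψ : Set.Iic Z → IrreducibleCloseds ↥Y := fun W =>
      { carrier := ((↑) : Y → X) ⁻¹' (W.1 : Set X)
        isIrreducible' := isIrreducible_preimage_val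
          (fun x hx => hZY (W.2 hx)) W.1.isIrreducible
        isClosed' := W.1.isClosed.preimage continuous_subtype_val }
    refine Order.krullDim_le_of_strictMono ψ ?_
    intro A B hAB
    have hle : ψ A ≤ ψ B := fun y hy => hAB.le hy
    refine lt_of_le_of_ne hle ?_
    intro heq
    apply hAB.ne
    apply Subtype.ext
    apply IrreducibleCloseds.ext
    apply Set.Subset.antisymm hAB.le
    intro x hx
    have hxY : x ∈ Y := hZY (B.2 hx)
    have h1 : (⟨x, hxY⟩ : Y) ∈ (ψ B : Set Y) := hx
    have h2 : (⟨x, hxY⟩ : Y) ∈ (ψ A : Set Y) := by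
      rw [heq]; exact h1
    exact h2
  · apply iSup₂_le
    intro Y _
    exact topologicalKrullDim_subspace_le X Y

end Groth.Agent.S10831
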