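import Groth.Statements.S10833
import Mathlib
import Groth.Agent.Lib.helper7.DimFT

set_option autoImplicit false
universe u
open Variety

namespace Groth.Agent.S10833

/-- Let k be a field and A a k-algebra of finite type that is an integral domain. Then every chain of
prime ideals of A admitting no refinement — it starts at the zero ideal, ends at a maximal ideal,
and no prime ideal lies strictly between two consecutive members — has length equal to the Krull
dimension of A. -/
theorem result (k A : Type u) [Field k] [CommRing A]
    [IsDomain A] [Algebra k A] [Algebra.FiniteType k A] (c : LTSeries (PrimeSpectrum A))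
    (h0 : c.head.asIdeal = ⊥) (hmax : c.last.asIdeal.IsMaximal)
    (hsat : ∀ i : Fin c.length, c i.castSucc ⋖ c i.succ) :
    (c.length : WithBot ℕ∞) = ringKrullDim A := by
  have key : ∀ (i : ℕ) (hi : i < c.length + 1),
      ringKrullDim (A ⧸ (c ⟨i, hi⟩).asIdeal) + (i : WithBot ℕ∞) = ringKrullDim A := by
    intro i
    induction i with
    | zero =>
      intro hi
      have h1 : (c ⟨0, hi⟩).asIdeal = ⊥ := h0
      rw [h1]
      simp only [Nat.cast_zero, add_zero]
      exact ringKrullDim_eq_of_ringEquiv (RingEquiv.quotientBot A)
    | succ i ih =>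
      intro hi
      have hi' : i < c.length := by omega
      have ih' := ih (by omega)
      set q := (c ⟨i, by omega⟩).asIdeal with hq
      set p := (c ⟨i + 1, hi⟩).asIdeal with hp
      have hcov := hsat ⟨i, hi'⟩
      have hqp : q < p := hcov.1
      have hcov' : ∀ q' : Ideal A, q'.IsPrime → q < q' → ¬ q' < p := by
        intro q' hq' h1 h2
        exact hcov.2 (c := ⟨q', hq'⟩) h1 h2
      haveI : (p.map (Ideal.Quotient.mk q)).IsPrime :=
        Ideal.isPrime_map_quotientMk_of_isPrime hqp.le
      have h1 := Groth.Agent.Lib.helper7.DimFT.height_map_quotient_eq_one q p hqp hcov'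
      have h2 := Groth.Agent.Lib.helper7.DimFT.ringKrullDim_quotient_add_one_of_height_eq_one
        (k := k) (A ⧸ q) (p.map (Ideal.Quotient.mk q)) h1
      have h4 : ringKrullDim ((A ⧸ q) ⧸ p.map (Ideal.Quotient.mk q)) = ringKrullDim (A ⧸ p) :=
        ringKrullDim_eq_of_ringEquiv (DoubleQuot.quotQuotEquivQuotOfLE hqp.le)
      rw [← ih', ← h2, h4]
      push_cast
      abel
  have hlast := key c.length (by omega)
  have h1 : (c ⟨c.length, by omega⟩).asIdeal = c.last.asIdeal := rfl
  rw [h1] at hlast
  letI : Field (A ⧸ c.last.asIdeal) := Ideal.Quotient.field _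
  rw [ringKrullDim_eq_zero_of_field, zero_add] at hlast
  exact hlast

end Groth.Agent.S10833
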