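import Groth.Statements.S10834
import Groth.Agent.Lib.helper9.Serre1
import Groth.Agent.Lib.helper9.Serre2
import Groth.Agent.Lib.helper9.Depth24
import Groth.Agent.Lib.helper6.AusBuchE

set_option autoImplicit false
universe u
open CAlg

namespace Groth.Agent.S10834

open Groth.Agent.Lib.helper9.Depth Groth.Agent.Lib.helper9.Serre LocCoh Pointwise

/-- a regular local ring is Cohen–Macaulay as a module over itself. -/
lemma isCM_of_regular (C : Type u) [CommRing C] [IsRegularLocalRing C] :
    IsCohenMacaulayModule C C := by
  obtain ⟨d, hd⟩ := Groth.Agent.H5.RegLoc.exists_nat_dim C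
  have := Groth.Agent.Lib.helper6.AusBuchE.depth_eq_dim C d hd
  unfold IsCohenMacaulayModule
  rw [Module.supportDim_self_eq_ringKrullDim, hd, this]
  rfl

/-- `S_k` for `A/(f)` as an `A`-module when all local rings of `A` are regular. -/
lemma hasSk_quot (A : Type u) [CommRing A] [IsNoetherianRing A]
    (hreg : ∀ (p : Ideal A) (_ : p.IsPrime), IsRegularLocalRing (Localization.AtPrime p))
    (f : A) (k : ℕ) : HasSk k A (QuotSMulTop f A) := by
  intro Q hQ
  by_cases hfQ : f ∈ Q
  · haveI := hreg Q hQ
    haveI : IsDomain (Localization.AtPrime Q) := Groth.Agent.H5.RegLoc.isDomain _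
    have e1 := quotSMulTopLocEquiv Q A f
    have e2 : QuotSMulTop (algebraMap A (Localization.AtPrime Q) f)
        (LocalizedModule Q.primeCompl A) ≃ₗ[Localization.AtPrime Q]
        QuotSMulTop (algebraMap A (Localization.AtPrime Q) f) (Localization.AtPrime Q) :=
      QuotSMulTop.congr _ (localizedModuleSelfEquiv Q)
    have hCM : IsCohenMacaulayModule (Localization.AtPrime Q)
        (QuotSMulTop (algebraMap A (Localization.AtPrime Q) f) (Localization.AtPrime Q)) := by
      by_cases hg : algebraMap A (Localization.AtPrime Q) f = 0
      · rw [hg]
        have hbot : (0 : Localization.AtPrime Q) •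
            (⊤ : Submodule (Localization.AtPrime Q) (Localization.AtPrime Q)) = ⊥ := by
          rw [eq_bot_iff]
          intro x hx
          rw [Submodule.mem_smul_pointwise_iff_exists] at hx
          obtain ⟨y, -, rfl⟩ := hx
          simp
        exact (isCohenMacaulayModule_congr (Submodule.quotEquivOfEqBot _ hbot)).2
          (isCM_of_regular _)
      · apply isCohenMacaulayModule_quotSMulTop (isCM_of_regular _)
        · exact (IsLocalization.AtPrime.to_map_mem_maximal_iff (Localization.AtPrime Q) Q f).mpr hfQ
        · intro x y hxy
          simp only [smul_eq_mul] at hxy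
          exact mul_left_cancel₀ hg hxy
    have hCM' : IsCohenMacaulayModule (Localization.AtPrime Q)
        (LocalizedModule Q.primeCompl (QuotSMulTop f A)) :=
      (isCohenMacaulayModule_congr (e1.trans e2)).2 hCM
    unfold IsCohenMacaulayModule at hCM'
    rw [hCM']
    exact min_le_right _ _
  · haveI := subsingleton_localization_quotSMulTop_of_notMem Q A hfQ
    rw [Module.supportDim_eq_bot_of_subsingleton, min_eq_right bot_le]
    exact bot_le

/-- Let A be a Noetherian ring whose localizations at all prime ideals are regular local rings, and f an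
element of A generating a prime ideal, so that A/(f) is an integral domain (an integral hypersurface
in the regular affine scheme Spec A). Then A/(f) is normal (integrally closed in its fraction field)
if and only if it is regular in codimension 1, i.e. its localization at every prime at which the
local ring has dimension 1 is a regular local ring. -/
theorem result (A : Type u) [CommRing A]
    [IsNoetherianRing A] (hreg : ∀ (p : Ideal A) (_ : p.IsPrime), IsRegularLocalRing (Localization.AtPrime p))
    (f : A) (hf : (Ideal.span ({f} : Set A)).IsPrime) :
    IsIntegrallyClosed (A ⧸ Ideal.span ({f} : Set A)) ↔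
      ∀ q : PrimeSpectrum (A ⧸ Ideal.span ({f} : Set A)),
        ringKrullDim (Localization.AtPrime q.asIdeal) = 1 →
          IsRegularLocalRing (Localization.AtPrime q.asIdeal) := by
  haveI : (Ideal.span ({f} : Set A)).IsPrime := hf
  haveI : IsDomain (A ⧸ Ideal.span ({f} : Set A)) := Ideal.Quotient.isDomain _
  constructor
  · intro hIC q hq
    haveI := hIC
    haveI : IsDomain (Localization.AtPrime q.asIdeal) :=
      IsLocalization.isDomain_localization q.asIdeal.primeCompl_le_nonZeroDivisors
    haveI : IsIntegrallyClosed (Localization.AtPrime q.asIdeal) :=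
      isIntegrallyClosed_of_isLocalization _ q.asIdeal.primeCompl
        q.asIdeal.primeCompl_le_nonZeroDivisors
    exact isRegularLocalRing_of_normal_of_dim_le_one _ hq.le
  · intro h
    have hS : HasSk 2 (A ⧸ Ideal.span ({f} : Set A)) (A ⧸ Ideal.span ({f} : Set A)) := by
      rw [hasSk_iff_of_surjective (R := A) Ideal.Quotient.mk_surjective 2]
      have e : QuotSMulTop f A ≃ₗ[A] (A ⧸ Ideal.span ({f} : Set A)) :=
        Submodule.quotEquivOfEq _ _ (by
          rw [← Submodule.ideal_span_singleton_smul f ⊤, smul_eq_mul, Ideal.mul_top])
      exact (hasSk_congr e 2).1 (hasSk_quot A hreg f 2)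
    have hR : HasRk 1 (A ⧸ Ideal.span ({f} : Set A)) := by
      intro q hq hht
      by_cases h0 : q.height = 0
      · have hbot : q = ⊥ := Ideal.height_eq_zero_iff_eq_bot.1 h0
        let _ : Field (Localization.AtPrime q) := IsField.toField <| by
          simp [IsLocalRing.isField_iff_maximalIdeal_eq, ← Localization.AtPrime.map_eq_maximalIdeal,
            hbot]
        infer_instance
      · have h1 : q.height = 1 := by
          apply le_antisymm (by exact_mod_cast hht)
          exact Order.one_le_iff_ne_zero.2 h0
        apply h ⟨q, hq⟩
        rw [IsLocalization.AtPrime.ringKrullDim_eq_height q (Localization.AtPrime q), h1]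
        rfl
    exact isIntegrallyClosed_of_R1_S2 _ hR hS

end Groth.Agent.S10834
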