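import Groth.Statements.S10836
import Mathlib

set_option autoImplicit false
universe u
open Coh

namespace Groth.Agent.S10836aux

variable (A : Type u) [CommRing A]

/-- the multiplicative set of elements outside all primes of `Z` -/
def compl (Z : Set (PrimeSpectrum A)) : Submonoid A := ⨅ p ∈ Z, p.asIdeal.primeCompl

lemma mem_compl (Z : Set (PrimeSpectrum A)) (s : A) : s ∈ compl A Z ↔ ∀ p ∈ Z, s ∉ p.asIdeal := by
  simp only [compl, Submonoid.mem_iInf]
  rfl

/-- the localization at the complement of a finite union of primes is semilocal -/
lemma finite_maximalSpectrum (Z : Set (PrimeSpectrum A)) (hZ : Z.Finite) :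
    Finite (MaximalSpectrum (Localization (compl A Z))) := by
  classical
  have key : ∀ 𝔐 : MaximalSpectrum (Localization (compl A Z)), ∃ p : Z,
      𝔐.asIdeal = (p : PrimeSpectrum A).asIdeal.map (algebraMap A (Localization (compl A Z))) := by
    intro 𝔐
    have hmax := 𝔐.isMaximal
    have hprime : (𝔐.asIdeal.under A).IsPrime := Ideal.IsPrime.under A 𝔐.asIdeal
    have hdisj := (IsLocalization.disjoint_under_iff (compl A Z) (Localization (compl A Z))
      𝔐.asIdeal).mpr hmax.ne_top
    have hsub : ((𝔐.asIdeal.under A : Ideal A) : Set A) ⊆
        ⋃ p ∈ ((hZ.toFinset : Finset (PrimeSpectrum A)) : Set (PrimeSpectrum A)), (p.asIdeal : Set A) := by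
      intro x hx
      have hxS : x ∉ compl A Z := fun h => Set.disjoint_left.mp hdisj h hx
      rw [mem_compl] at hxS
      push Not at hxS
      obtain ⟨p, hp, hxp⟩ := hxS
      simp only [Set.mem_iUnion]
      exact ⟨p, by simpa using hp, hxp⟩
    obtain ⟨p, hp, hle⟩ := (Ideal.subset_union_prime (f := fun p : PrimeSpectrum A => p.asIdeal)
      ⟨_, hprime⟩ ⟨_, hprime⟩ (fun p _ _ _ => p.isPrime)).mp hsub
    have hpZ : p ∈ Z := by simpa using hp
    refine ⟨⟨p, hpZ⟩, ?_⟩
    have hne : p.asIdeal.map (algebraMap A (Localization (compl A Z))) ≠ ⊤ := by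
      rw [IsLocalization.map_algebraMap_ne_top_iff_disjoint (compl A Z)]
      rw [Set.disjoint_left]
      intro x hxS hxp
      exact (mem_compl A Z x).mp hxS p hpZ hxp
    have hle' : 𝔐.asIdeal ≤ p.asIdeal.map (algebraMap A (Localization (compl A Z))) := by
      rw [← IsLocalization.map_under (compl A Z) (Localization (compl A Z)) 𝔐.asIdeal]
      exact Ideal.map_mono hle
    exact hmax.eq_of_le hne hle'
  choose g hg using key
  have hinj : Function.Injective g := by
    intro 𝔐 𝔐' h
    apply MaximalSpectrum.ext
    rw [hg 𝔐, hg 𝔐', h]
  have : Finite Z := hZ.to_subtype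
  exact Finite.of_injective g hinj


open TensorProduct in
theorem main (M : Type u) [AddCommGroup M] [Module A M] [Module.Finite A M] [Module.Projective A M]
    (r : ℕ) (hr : ∀ p : PrimeSpectrum A, Module.rankAtStalk M p = r)
    (Z : Set (PrimeSpectrum A)) (hZ : Z.Finite) :
    ∃ s : A, (∀ p ∈ Z, s ∉ p.asIdeal) ∧
      Nonempty (Module.Basis (Fin r) (Localization.Away s) (LocalizedModule (Submonoid.powers s) M)) := by
  have hfin := finite_maximalSpectrum A Z hZ
  have hrank : ∀ P : MaximalSpectrum (Localization (compl A Z)),
      Module.finrank (Localization (compl A Z) ⧸ P.1)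
        ((Localization (compl A Z) ⧸ P.1) ⊗[Localization (compl A Z)] LocalizedModule (compl A Z) M) = r := by
    intro P
    let _ := Ideal.Quotient.field P.1
    have h1 : Module.rankAtStalk (R := Localization (compl A Z) ⧸ P.1)
        ((Localization (compl A Z) ⧸ P.1) ⊗[Localization (compl A Z)] LocalizedModule (compl A Z) M) =
        Module.finrank _ _ := Module.rankAtStalk_eq_finrank_of_free
    have h2 := congrFun h1 ⟨⊥, Ideal.isPrime_bot⟩
    rw [Module.rankAtStalk_baseChange, Module.rankAtStalk_isBaseChange
      (IsLocalizedModule.isBaseChange (compl A Z) (Localization (compl A Z))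
        (LocalizedModule.mkLinearMap (compl A Z) M)), hr] at h2
    exact h2.symm
  obtain ⟨b⟩ := Module.nonempty_basis_of_flat_of_finrank_eq (Localization (compl A Z))
    (LocalizedModule (compl A Z) M) r hrank
  have hfp : Module.FinitePresentation A M := Module.finitePresentation_of_projective A M
  obtain ⟨s, hs, b', _⟩ := Module.FinitePresentation.exists_basis_localizedModule_powers (compl A Z)
    (LocalizedModule.mkLinearMap (compl A Z) M) (Localization (compl A Z)) b
  exact ⟨s, (mem_compl A Z s).mp hs, ⟨b'⟩⟩

end Groth.Agent.S10836aux

namespace Groth.Agent.S10836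

/-- Let A be a commutative ring, M a finitely generated projective A-module whose rank at every prime is
r, and Z a finite set of prime ideals of A. Then there is an element s of A outside every prime of Z
such that the localized module M_s has a basis of r elements over A_s. (The published statement is
for a finite locally free module of constant rank r on a scheme and a finite set of points inside an
affine open Spec A, and produces a basic open D(s) containing the points on which the module is free
of rank r; its argument begins by replacing the scheme with Spec A, and this row states that case.) -/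
theorem result (A : Type u) [CommRing A]
    (M : Type u) [AddCommGroup M] [Module A M] [Module.Finite A M] [Module.Projective A M] (r : ℕ)
    (hr : ∀ p : PrimeSpectrum A, Module.rankAtStalk M p = r)
    (Z : Set (PrimeSpectrum A)) (hZ : Z.Finite) :
    ∃ s : A, (∀ p ∈ Z, s ∉ p.asIdeal) ∧
      Nonempty (Module.Basis (Fin r) (Localization.Away s) (LocalizedModule (Submonoid.powers s) M)) := by
  exact Groth.Agent.S10836aux.main A M r hr Z hZ

end Groth.Agent.S10836
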