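import Groth.Statements.S10837
import Mathlib.AlgebraicGeometry.Morphisms.UniversallyOpen
import Mathlib.RingTheory.Ideal.GoingDown

set_option autoImplicit false
universe u
open CategoryTheory AlgebraicGeometry Topology
open Mor

namespace Groth.Agent.S10837

/-- If `Spec S → Spec R` is open then going down holds. -/
theorem hasGoingDown_of_isOpenMap_comap {R S : Type*} [CommRing R] [CommRing S] [Algebra R S]
    (h : IsOpenMap (PrimeSpectrum.comap (algebraMap R S))) : Algebra.HasGoingDown R S where
  exists_ideal_le_liesOver_of_lt {p} _ Q _ hlt := by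
    classical
    -- the multiplicative set (S \ Q) * image (R \ p)
    let M : Submonoid S := Q.primeCompl ⊔ (p.primeCompl.map (algebraMap R S))
    have hdisj : Disjoint (p.map (algebraMap R S) : Set S) (M : Set S) := by
      rw [Set.disjoint_left]
      intro s hs hsM
      obtain ⟨g, hg, t, ht, rfl⟩ := Submonoid.mem_sup.mp hsM
      obtain ⟨r, hr, rfl⟩ := ht
      -- the image of D(g) is open and contains Q ∩ R hence p
      have hopen : IsOpen (PrimeSpectrum.comap (algebraMap R S) ''
          (PrimeSpectrum.basicOpen g : Set (PrimeSpectrum S))) :=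
        h _ (PrimeSpectrum.basicOpen g).2
      have hQmem : PrimeSpectrum.comap (algebraMap R S) ⟨Q, inferInstance⟩ ∈
          PrimeSpectrum.comap (algebraMap R S) ''
            (PrimeSpectrum.basicOpen g : Set (PrimeSpectrum S)) :=
        ⟨⟨Q, inferInstance⟩, hg, rfl⟩
      have hspec : (⟨p, inferInstance⟩ : PrimeSpectrum R) ⤳
          PrimeSpectrum.comap (algebraMap R S) ⟨Q, inferInstance⟩ :=
        (PrimeSpectrum.le_iff_specializes _ _).mp hlt.le
      obtain ⟨P1, hP1g, hP1⟩ := hopen.stableUnderGeneralization hspec hQmem
      have hP1' : P1.asIdeal.comap (algebraMap R S) = p := by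
        have := congrArg PrimeSpectrum.asIdeal hP1
        simpa using this
      have hle : p.map (algebraMap R S) ≤ P1.asIdeal := by
        rw [Ideal.map_le_iff_le_comap, hP1']
      have hmem : g * algebraMap R S r ∈ P1.asIdeal := hle hs
      rcases P1.2.mem_or_mem hmem with h1 | h1
      · exact hP1g h1
      · apply hr
        change r ∈ p
        rw [← hP1']
        exact h1
    obtain ⟨P, hP, hpP, hPM⟩ := Ideal.exists_le_prime_disjoint (p.map (algebraMap R S)) M hdisj
    refine ⟨P, ?_, hP, ⟨?_⟩⟩
    · intro s hs
      by_contra hsQ
      exact Set.disjoint_left.mp hPM hs (Submonoid.mem_sup_left (show s ∈ Q.primeCompl from hsQ))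
    · apply le_antisymm
      · intro r hr
        exact hpP (Ideal.mem_map_of_mem _ hr)
      · intro r hr
        by_contra hrp
        have : algebraMap R S r ∈ (M : Set S) :=
          Submonoid.mem_sup_right ⟨r, hrp, rfl⟩
        exact Set.disjoint_left.mp hPM hr this

/-- For a morphism of schemes f : X → Y which is open as a map of topological spaces, generalizations
lift along f: every generalization of f(x) is the image of a generalization of x. -/
theorem result {X Y : Scheme.{u}} (f : X ⟶ Y) (hf : IsOpenMap f.base) :
    GeneralizingMap f.base := by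
  change topologically GeneralizingMap f
  wlog hY : ∃ R, Y = Spec R
  · rw [IsZariskiLocalAtTarget.iff_of_openCover (P := topologically GeneralizingMap) Y.affineCover]
    intro i
    dsimp only [Scheme.Cover.pullbackHom]
    refine this _ ?_ ⟨_, rfl⟩
    exact IsZariskiLocalAtTarget.of_isPullback (P := topologically IsOpenMap)
      (iY := Y.affineCover.f i) (IsPullback.of_hasPullback ..) hf
  obtain ⟨R, rfl⟩ := hY
  wlog hX : ∃ S, X = Spec S
  · rw [IsZariskiLocalAtSource.iff_of_openCover (P := topologically GeneralizingMap) X.affineCover]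
    intro i
    refine this _ _ ?_ ⟨_, rfl⟩
    exact IsZariskiLocalAtSource.comp (P := topologically IsOpenMap) hf _
  obtain ⟨S, rfl⟩ := hX
  obtain ⟨φ, rfl⟩ := Spec.map_surjective f
  algebraize [φ.hom]
  apply Algebra.HasGoingDown.iff_generalizingMap_primeSpectrumComap.mp
  exact hasGoingDown_of_isOpenMap_comap hf

end Groth.Agent.S10837
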