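import Groth.Statements.S10838
import Groth.Agent.S10837

set_option autoImplicit false
universe u
open CategoryTheory AlgebraicGeometry Topology
open Mor

namespace Groth.Agent.S10838

open TopologicalSpace in
/-- chains of irreducible closed subsets lift along a generalizing continuous map to a sober space -/
theorem exists_ltSeries_of_generalizingMap {X Y : Type*} [TopologicalSpace X] [TopologicalSpace Y]
    [QuasiSober Y] (f : X → Y) (hf : Continuous f) (hg : GeneralizingMap f)
    (p : LTSeries (IrreducibleCloseds Y)) (x : X) (hx : closure {f x} = (p.head : Set Y)) :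
    ∃ q : LTSeries (IrreducibleCloseds X), q.length = p.length ∧
      (q.head : Set X) = closure {x} := by
  induction p using RelSeries.inductionOn generalizing x with
  | singleton Z =>
    exact ⟨RelSeries.singleton _ ⟨closure {x}, isIrreducible_singleton.closure, isClosed_closure⟩,
      rfl, rfl⟩
  | cons l Z lt ih =>
    simp only [RelSeries.head_cons] at hx
    -- generic point of `l.head`
    obtain ⟨y', hy'⟩ := QuasiSober.sober l.head.isIrreducible l.head.isClosed
    have hy'cl : closure {y'} = (l.head : Set Y) := hy'.def
    have hfxZ : f x ∈ (Z : Set Y) := hx ▸ subset_closure (Set.mem_singleton _)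
    have hspec : y' ⤳ f x := by
      rw [specializes_iff_mem_closure, hy'cl]
      exact (le_of_lt (show Z < l.head from lt)) hfxZ
    obtain ⟨x', hx'x, hfx'⟩ := hg hspec
    obtain ⟨q', hq'len, hq'head⟩ := ih x' (by rw [hfx', hy'cl])
    have hlt : (⟨closure {x}, isIrreducible_singleton.closure, isClosed_closure⟩ :
        IrreducibleCloseds X) < q'.head := by
      refine lt_of_le_of_ne ?_ ?_
      · change closure {x} ⊆ (q'.head : Set X)
        rw [hq'head]
        exact specializes_iff_closure_subset.mp hx'x
      · intro heq
        have h1 : closure {x} = (q'.head : Set X) :=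
          congrArg (fun W : IrreducibleCloseds X => (W : Set X)) heq
        rw [hq'head] at h1
        have h2 : x ⤳ x' := by
          rw [specializes_iff_closure_subset, h1]
        have h3 : f x ⤳ f x' := h2.map hf
        rw [specializes_iff_closure_subset, hfx', hy'cl, hx] at h3
        exact absurd (lt_of_lt_of_le (show Z < l.head from lt) h3) (lt_irrefl _)
    refine ⟨q'.cons _ hlt, ?_, ?_⟩
    · simp [hq'len]
    · simp

/-- dimension inequality for surjective generalizing maps onto a sober space -/
theorem topologicalKrullDim_le_of_generalizingMap {X Y : Type*} [TopologicalSpace X]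
    [TopologicalSpace Y] [QuasiSober Y] (f : X → Y) (hf : Continuous f) (hg : GeneralizingMap f)
    (hs : Function.Surjective f) : topologicalKrullDim Y ≤ topologicalKrullDim X := by
  unfold topologicalKrullDim Order.krullDim
  apply iSup_le
  intro p
  obtain ⟨y, hy⟩ := QuasiSober.sober p.head.isIrreducible p.head.isClosed
  obtain ⟨x, rfl⟩ := hs y
  obtain ⟨q, hq, -⟩ := exists_ltSeries_of_generalizingMap f hf hg p x hy.def
  rw [← hq]
  exact le_iSup (fun q : LTSeries (TopologicalSpace.IrreducibleCloseds X) =>
    (q.length : WithBot ℕ∞)) q

/-- For a morphism of schemes f : X → Y which is open as a map of topological spaces, the Krull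
dimension of the image f(X) (with the subspace topology from Y) is at most the Krull dimension of X. -/
theorem result {X Y : Scheme.{u}} (f : X ⟶ Y) (hf : IsOpenMap f.base) :
    topologicalKrullDim ↥(Set.range f.base) ≤ topologicalKrullDim ↥X := by
  have hgen : GeneralizingMap f.base := Groth.Agent.S10837.result f hf
  have hopen : IsOpen (Set.range f.base) := hf.isOpen_range
  have : QuasiSober ↥(Set.range f.base) := hopen.isOpenEmbedding_subtypeVal.quasiSober
  refine topologicalKrullDim_le_of_generalizingMap (Set.rangeFactorization f.base)
    (f.base.hom.continuous.subtype_mk _) ?_ Set.rangeFactorization_surjective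
  intro x y hy
  have hy' : (y : Y) ⤳ f.base x := by
    have := IsInducing.subtypeVal.specializes_iff.mpr hy
    simpa [Set.rangeFactorization] using this
  obtain ⟨x', hx', hfx'⟩ := hgen hy'
  exact ⟨x', hx', Subtype.ext hfx'⟩

end Groth.Agent.S10838
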