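import Groth.Statements.S10840
import Mathlib
import Groth.Agent.S10821
import Groth.Agent.S10829

set_option autoImplicit false
universe u
open AlgebraicGeometry Topology
open Variety

namespace Groth.Agent.S10840

section Helpers

open AlgebraicGeometry CategoryTheory TopologicalSpace

section Top
variable {X : Type*} [TopologicalSpace X] [QuasiSober X] [T0Space X]

lemma dim_le_zero (V : Set X) (hV : IsClosed V)
    (h : ∀ x ∈ V, ∀ y ∈ V, x ⤳ y → x = y) : topologicalKrullDim ↥V ≤ 0 := by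
  haveI : QuasiSober ↥V := hV.isClosedEmbedding_subtypeVal.quasiSober
  unfold topologicalKrullDim
  rw [Order.krullDim_nonpos_iff_forall_isMax]
  intro Z Z' hle
  have hz : closure {Z.isIrreducible'.genericPoint} = (Z : Set ↥V) :=
    Z.isIrreducible'.isGenericPoint_genericPoint Z.isClosed'
  have hz' : closure {Z'.isIrreducible'.genericPoint} = (Z' : Set ↥V) :=
    Z'.isIrreducible'.isGenericPoint_genericPoint Z'.isClosed'
  set z := Z.isIrreducible'.genericPoint with hzdef
  set z' := Z'.isIrreducible'.genericPoint with hz'def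
  have hmem : z ∈ (Z' : Set ↥V) := by
    have : z ∈ (Z : Set ↥V) := by rw [← hz]; exact subset_closure rfl
    exact hle this
  rw [← hz', ← specializes_iff_mem_closure, subtype_specializes_iff] at hmem
  have heq : (z' : X) = z := h _ z'.2 _ z.2 hmem
  have heq' : z' = z := Subtype.ext heq
  change (Z' : Set ↥V) ⊆ Z
  rw [← hz, ← hz', heq']

lemma dim_pos (V : Set X) (x y : X) (hx : x ∈ V) (hy : y ∈ V) (hxy : x ⤳ y) (hne : x ≠ y) :
    0 < topologicalKrullDim ↥V := by
  unfold topologicalKrullDim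
  rw [Order.krullDim_pos_iff]
  let x' : ↥V := ⟨x, hx⟩
  let y' : ↥V := ⟨y, hy⟩
  refine ⟨⟨closure {y'}, isIrreducible_singleton.closure, isClosed_closure⟩,
    ⟨closure {x'}, isIrreducible_singleton.closure, isClosed_closure⟩, ?_⟩
  have hxy' : x' ⤳ y' := (subtype_specializes_iff x' y').mpr hxy
  refine lt_of_le_of_ne ?_ ?_
  · change closure {y'} ⊆ closure {x'}
    exact isClosed_closure.closure_subset_iff.mpr
      (Set.singleton_subset_iff.mpr (specializes_iff_mem_closure.mp hxy'))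
  · intro heq
    have heq' : closure {y'} = closure {x'} := congrArg (fun Z : IrreducibleCloseds ↥V => (Z : Set ↥V)) heq
    have hmem : x' ∈ closure {y'} := by rw [heq']; exact subset_closure rfl
    have hyx' : y' ⤳ x' := specializes_iff_mem_closure.mpr hmem
    have hyx : y ⤳ x := (subtype_specializes_iff y' x').mp hyx'
    exact hne (hxy.antisymm hyx).eq

end Top

section
variable (k : Type u) [Field k]

local notation "𝒜" => CohB1.polyGrading 2 k
local notation "A" => MvPolynomial (Fin (2 + 1)) k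

open Groth.Agent.S10821 Groth.Agent.S10829

lemma spec_iff (x y : ProjectiveSpectrum 𝒜) : x ⤳ y ↔ x ≤ y := by
  rw [ProjectiveSpectrum.le_iff_mem_closure, specializes_iff_mem_closure]

/-- the irrelevant ideal has height at least 3. -/
lemma three_le_height : (3 : ℕ∞) ≤ (HomogeneousIdeal.irrelevant 𝒜).toIdeal.height := by
  haveI := irrelevant_isPrime k 2
  haveI : Nonempty (ProjectiveSpectrum 𝒜) := ⟨pt k 2 0⟩
  have h1 : (HomogeneousIdeal.irrelevant 𝒜).toIdeal.height = Order.height (toPS k 2 ⊤) :=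
    PrimeSpectrum.height_eq_orderHeight (toPS k 2 ⊤)
  rw [h1]
  have h2 := Order.height_le_height_apply_of_strictMono (toPS k 2) (toPS_strictMono k 2) ⊤
  refine le_trans ?_ h2
  have h3 : ((Order.height (⊤ : WithTop (ProjectiveSpectrum 𝒜)) : ℕ∞) : WithBot ℕ∞) =
      Order.krullDim (WithTop (ProjectiveSpectrum 𝒜)) := Order.height_top_eq_krullDim
  rw [Order.krullDim_WithTop, dim_eq k 2] at h3
  have h4 : ((Order.height (⊤ : WithTop (ProjectiveSpectrum 𝒜)) : ℕ∞) : WithBot ℕ∞) =
      ((3 : ℕ∞) : WithBot ℕ∞) := by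
    rw [h3]; rfl
  exact (WithBot.coe_injective h4).ge

lemma not_irr_le (Q : Ideal A) [Q.IsPrime] (hQ : Q.height ≤ 2) :
    ¬ (HomogeneousIdeal.irrelevant 𝒜).toIdeal ≤ Q := by
  intro hle
  have h1 := Ideal.height_mono hle
  have h2 := (three_le_height k).trans (h1.trans hQ)
  exact absurd h2 (by decide)

/-- the point given by the homogeneous core of a prime of height at most 2. -/
noncomputable def cp (Q : Ideal A) [hQp : Q.IsPrime] (hQ : Q.height ≤ 2) : ProjectiveSpectrum 𝒜 :=
  ⟨Q.homogeneousCore 𝒜, hQp.homogeneousCore, fun hirr =>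
    not_irr_le k Q hQ (fun a ha => Ideal.toIdeal_homogeneousCore_le 𝒜 Q (hirr ha))⟩

lemma cp_le (Q : Ideal A) [Q.IsPrime] (hQ : Q.height ≤ 2) :
    (cp k Q hQ).asHomogeneousIdeal.toIdeal ≤ Q :=
  Ideal.toIdeal_homogeneousCore_le 𝒜 Q

lemma mem_cp (Q : Ideal A) [Q.IsPrime] (hQ : Q.height ≤ 2) (a : A) (d : ℕ)
    (ha : a.IsHomogeneous d) (haQ : a ∈ Q) : a ∈ (cp k Q hQ).asHomogeneousIdeal.toIdeal :=
  Ideal.mem_homogeneousCore_of_homogeneous_of_mem ⟨d, ha⟩ haQ

lemma nonempty_V (n m : ℕ) (f g : A) (hf : f.IsHomogeneous n) (hg : g.IsHomogeneous m)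
    (hn : 0 < n) (hm : 0 < m) :
    (ProjectiveSpectrum.zeroLocus 𝒜 ({f, g} : Set A)).Nonempty := by
  haveI := irrelevant_isPrime k 2
  have hfi : f ∈ (HomogeneousIdeal.irrelevant 𝒜).toIdeal :=
    HomogeneousIdeal.mem_irrelevant_of_mem 𝒜 hn hf
  have hgi : g ∈ (HomogeneousIdeal.irrelevant 𝒜).toIdeal :=
    HomogeneousIdeal.mem_irrelevant_of_mem 𝒜 hm hg
  have hle : Ideal.span ({f, g} : Set A) ≤ (HomogeneousIdeal.irrelevant 𝒜).toIdeal := by
    rw [Ideal.span_le]
    rintro a (rfl | rfl)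
    · exact hfi
    · exact hgi
  obtain ⟨Q, hQmin, hQle⟩ := Ideal.exists_minimalPrimes_le hle
  haveI : Q.IsPrime := hQmin.1.1
  have hht : Q.height ≤ 2 := by
    have := Ideal.height_le_card_of_mem_minimalPrimes_span (s := ({f, g} : Set A))
      (Set.toFinite _) hQmin
    refine this.trans ?_
    have : ({f, g} : Set A).ncard ≤ 2 := by
      exact (Set.ncard_insert_le _ _).trans (by rw [Set.ncard_singleton])
    exact_mod_cast this
  refine ⟨cp k Q hht, ?_⟩
  rw [ProjectiveSpectrum.mem_zeroLocus]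
  rintro _ (rfl | rfl)
  · exact mem_cp k Q hht _ n hf (hQmin.1.2 (Ideal.subset_span (Set.mem_insert _ _)))
  · exact mem_cp k Q hht _ m hg
      (hQmin.1.2 (Ideal.subset_span (Set.mem_insert_of_mem _ (Set.mem_singleton _))))

lemma no_chain (f g : A) (hf0 : f ≠ 0) (hrel : IsRelPrime f g)
    (x y : ProjectiveSpectrum 𝒜) (hxy : x < y)
    (hfx : f ∈ x.asHomogeneousIdeal.toIdeal) (hgx : g ∈ x.asHomogeneousIdeal.toIdeal) : False := by
  have h1 : Order.height x + 1 ≤ Order.height y := Order.height_add_one_le hxy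
  have h2 : ((Order.height y : ℕ∞) : WithBot ℕ∞) ≤ ((2 : ℕ) : WithBot ℕ∞) := by
    rw [← dim_eq k 2]
    exact Order.height_le_krullDim y
  have h2' : Order.height y ≤ 2 := by
    have h5 : ((Order.height y : ℕ∞) : WithBot ℕ∞) ≤ ((2 : ℕ∞) : WithBot ℕ∞) := h2
    exact WithBot.coe_le_coe.mp h5
  have h3 : Order.height x ≤ 1 := by
    have h4 : Order.height x + 1 ≤ 1 + 1 := h1.trans (by rw [one_add_one_eq_two]; exact h2')
    exact (ENat.add_le_add_iff_right ENat.one_ne_top).mp h4
  rcases Order.le_one_iff.mp h3 with h0 | h1'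
  · rw [Order.height_eq_zero, isMin_iff] at h0
    rw [h0, Ideal.mem_bot] at hfx
    exact hf0 hfx
  · obtain ⟨d, h, hhh, hhi, hxh⟩ := lemA k 2 x h1'
    rw [hxh, Ideal.mem_span_singleton] at hfx hgx
    exact hhi.not_isUnit (hrel hfx hgx)

lemma prime_le_span_irred (x' : Ideal A) [hx' : x'.IsPrime] (hne : x' ≠ ⊥) (h : A)
    (hh : Irreducible h) (hle : x' ≤ Ideal.span {h}) : x' = Ideal.span {h} := by
  refine le_antisymm hle ?_
  obtain ⟨g', hg'x, hg'⟩ := Ideal.IsPrime.exists_mem_prime_of_ne_bot hx' hne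
  have hg'h : g' ∈ Ideal.span {h} := hle hg'x
  rw [Ideal.mem_span_singleton] at hg'h
  have hassoc : Associated h g' := hh.associated_of_dvd hg'.irreducible hg'h
  rw [Ideal.span_singleton_le_iff_mem]
  obtain ⟨u, hu⟩ := hassoc.symm
  rw [← hu]
  exact Ideal.mul_mem_right _ _ hg'x

lemma chain_of_not_relPrime (n m : ℕ) (f g : A) (hf : f.IsHomogeneous n) (hg : g.IsHomogeneous m)
    (hf0 : f ≠ 0) (hrel : ¬ IsRelPrime f g) :
    ∃ x y : ProjectiveSpectrum 𝒜, x < y ∧ f ∈ x.asHomogeneousIdeal.toIdeal ∧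
      g ∈ x.asHomogeneousIdeal.toIdeal := by
  classical
  haveI := irrelevant_isPrime k 2
  unfold IsRelPrime at hrel
  push Not at hrel
  obtain ⟨d, hdf, hdg, hdu⟩ := hrel
  have hd0 : d ≠ 0 := by
    rintro rfl
    exact hf0 (zero_dvd_iff.mp hdf)
  obtain ⟨h, hhi, hhd⟩ := WfDvdMonoid.exists_irreducible_factor hdu hd0
  have hhf : h ∣ f := hhd.trans hdf
  have hhg : h ∣ g := hhd.trans hdg
  have hprime : Prime h := UniqueFactorizationMonoid.irreducible_iff_prime.mp hhi
  haveI hPp : (Ideal.span {h}).IsPrime := (Ideal.span_singleton_prime hprime.ne_zero).mpr hprime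
  have hPht : (Ideal.span {h}).height ≤ 2 := by
    have h1 : (Ideal.span {h}).height ≤ 1 :=
      Ideal.height_le_one_of_isPrincipal_of_mem_minimalPrimes (Ideal.span {h}) (Ideal.span {h})
        (by rw [Ideal.minimalPrimes_eq_subsingleton_self]; rfl)
    exact h1.trans (by decide)
  set x := cp k (Ideal.span {h}) hPht with hxdef
  have hfx : f ∈ x.asHomogeneousIdeal.toIdeal :=
    mem_cp k _ hPht f n hf (Ideal.mem_span_singleton.mpr hhf)
  have hgx : g ∈ x.asHomogeneousIdeal.toIdeal :=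
    mem_cp k _ hPht g m hg (Ideal.mem_span_singleton.mpr hhg)
  have hxP : x.asHomogeneousIdeal.toIdeal = Ideal.span {h} := by
    haveI := x.isPrime
    apply prime_le_span_irred k _ _ h hhi (cp_le k _ hPht)
    intro hbot
    rw [hbot, Ideal.mem_bot] at hfx
    exact hf0 hfx
  -- a homogeneous element of positive degree outside `x`
  obtain ⟨a, hairr, hax⟩ := SetLike.not_le_iff_exists.mp x.not_irrelevant_le
  have hcomp : ∃ i, (DirectSum.decompose 𝒜 a i : A) ∉ x.asHomogeneousIdeal.toIdeal := by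
    by_contra hcon
    push Not at hcon
    apply hax
    change a ∈ x.asHomogeneousIdeal.toIdeal
    rw [← DirectSum.sum_support_decompose 𝒜 a]
    exact Ideal.sum_mem _ (fun i _ => hcon i)
  obtain ⟨i, hi⟩ := hcomp
  have hi0 : i ≠ 0 := by
    rintro rfl
    apply hi
    have h0 : (DirectSum.decompose 𝒜 a 0 : A) = 0 := by
      have := (HomogeneousIdeal.mem_irrelevant_iff 𝒜 a).mp hairr
      rwa [GradedRing.proj_apply] at this
    rw [h0]
    exact zero_mem _
  set l : A := (DirectSum.decompose 𝒜 a i : A) with hl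
  have hlhom : l.IsHomogeneous i := (MvPolynomial.mem_homogeneousSubmodule _ _).mp (SetLike.coe_mem _)
  have hlirr : l ∈ (HomogeneousIdeal.irrelevant 𝒜).toIdeal :=
    HomogeneousIdeal.mem_irrelevant_of_mem 𝒜 (Nat.pos_of_ne_zero hi0) hlhom
  have hhirr : h ∈ (HomogeneousIdeal.irrelevant 𝒜).toIdeal := by
    have h1 : h ∈ x.asHomogeneousIdeal.toIdeal := by
      rw [hxP]; exact Ideal.mem_span_singleton_self h
    exact le_irrelevant k 2 x.asHomogeneousIdeal x.isPrime.ne_top h1
  have hle : Ideal.span ({h, l} : Set A) ≤ (HomogeneousIdeal.irrelevant 𝒜).toIdeal := by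
    rw [Ideal.span_le]
    rintro _ (rfl | rfl)
    · exact hhirr
    · exact hlirr
  obtain ⟨Q, hQmin, hQle⟩ := Ideal.exists_minimalPrimes_le hle
  haveI : Q.IsPrime := hQmin.1.1
  have hht : Q.height ≤ 2 := by
    have := Ideal.height_le_card_of_mem_minimalPrimes_span (s := ({h, l} : Set A))
      (Set.toFinite _) hQmin
    refine this.trans ?_
    have : ({h, l} : Set A).ncard ≤ 2 := by
      exact (Set.ncard_insert_le _ _).trans (by rw [Set.ncard_singleton])
    exact_mod_cast this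
  have hhQ : h ∈ Q := hQmin.1.2 (Ideal.subset_span (Set.mem_insert _ _))
  have hlQ : l ∈ Q := hQmin.1.2 (Ideal.subset_span (Set.mem_insert_of_mem _ (Set.mem_singleton _)))
  refine ⟨x, cp k Q hht, ?_, hfx, hgx⟩
  refine lt_of_le_of_ne ?_ ?_
  · change x.asHomogeneousIdeal ≤ (cp k Q hht).asHomogeneousIdeal
    exact Ideal.homogeneousCore_mono 𝒜 ((Ideal.span_singleton_le_iff_mem _).mpr hhQ)
  · intro heq
    apply hi
    rw [heq]
    exact mem_cp k Q hht l i hlhom hlQ

theorem main10840 (n m : ℕ) (f g : A) (hf : f.IsHomogeneous n) (hg : g.IsHomogeneous m)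
    (hn : 0 < n) (hm : 0 < m) (hf0 : f ≠ 0) (hg0 : g ≠ 0) :
    topologicalKrullDim ↥(ProjectiveSpectrum.zeroLocus 𝒜 ({f, g} : Set A)) = 0 ↔
      IsRelPrime f g := by
  have hVc : IsClosed (ProjectiveSpectrum.zeroLocus 𝒜 ({f, g} : Set A)) :=
    ProjectiveSpectrum.isClosed_zeroLocus 𝒜 _
  have hmemV : ∀ x : ProjectiveSpectrum 𝒜, x ∈ ProjectiveSpectrum.zeroLocus 𝒜 ({f, g} : Set A) ↔
      f ∈ x.asHomogeneousIdeal.toIdeal ∧ g ∈ x.asHomogeneousIdeal.toIdeal := by
    intro x
    rw [ProjectiveSpectrum.mem_zeroLocus]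
    constructor
    · intro hsub
      exact ⟨hsub (Set.mem_insert _ _), hsub (Set.mem_insert_of_mem _ (Set.mem_singleton _))⟩
    · rintro ⟨h1, h2⟩ _ (rfl | rfl)
      · exact h1
      · exact h2
  constructor
  · intro hdim
    by_contra hrel
    obtain ⟨x, y, hxy, hfx, hgx⟩ := chain_of_not_relPrime k n m f g hf hg hf0 hrel
    have hxV := (hmemV x).mpr ⟨hfx, hgx⟩
    have hyV := (hmemV y).mpr ⟨hxy.le hfx, hxy.le hgx⟩
    have hpos := dim_pos _ x y hxV hyV ((spec_iff k x y).mpr hxy.le) hxy.ne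
    rw [hdim] at hpos
    exact lt_irrefl _ hpos
  · intro hrel
    refine le_antisymm ?_ ?_
    · apply dim_le_zero _ hVc
      intro x hx y hy hxy
      by_contra hne
      have hlt : x < y := lt_of_le_of_ne ((spec_iff k x y).mp hxy) hne
      obtain ⟨hfx, hgx⟩ := (hmemV x).mp hx
      exact no_chain k f g hf0 hrel x y hlt hfx hgx
    · unfold topologicalKrullDim
      rw [Order.krullDim_nonneg_iff]
      obtain ⟨x, hx⟩ := nonempty_V k n m f g hf hg hn hm
      let x' : ↥(ProjectiveSpectrum.zeroLocus 𝒜 ({f, g} : Set A)) := ⟨x, hx⟩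
      exact ⟨⟨closure {x'}, isIrreducible_singleton.closure, isClosed_closure⟩⟩

end
end Helpers


/-- For a field k and nonzero homogeneous polynomials f, g of positive degrees in three variables, the
common zero set V_+(f, g) in the projective plane over k is zero-dimensional as a topological
subspace exactly when f and g are coprime, i.e. their only common divisors are the non-zero
constants. -/
theorem result (k : Type u) [Field k] (n m : ℕ)
    (f g : MvPolynomial (Fin 3) k) (hf : f.IsHomogeneous n) (hg : g.IsHomogeneous m)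
    (hn : 0 < n) (hm : 0 < m) (hf0 : f ≠ 0) (hg0 : g ≠ 0) :
    topologicalKrullDim ↥(ProjectiveSpectrum.zeroLocus (CohB1.polyGrading 2 k)
        ({f, g} : Set (MvPolynomial (Fin 3) k))) = 0 ↔ IsRelPrime f g := by
  exact main10840 k n m f g hf hg hn hm hf0 hg0

end Groth.Agent.S10840
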