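import Groth.Statements.S10841
import Mathlib
import Groth.Agent.Lib.helper7.DimSch5

set_option autoImplicit false
universe u
open CategoryTheory AlgebraicGeometry Topology
open Variety

namespace Groth.Agent.S10841

/-- Let k be a field, X an irreducible scheme of finite type over k, and f : Y → X a morphism over k
from a scheme Y of finite type over k whose image contains the generic point of X. Then dim Y ≥ dim
X. -/
theorem result (k : Type u) [Field k] {X Y : Scheme.{u}}
    (p : X ⟶ Spec (CommRingCat.of k)) (q : Y ⟶ Spec (CommRingCat.of k))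
    [LocallyOfFiniteType p] [QuasiCompact p] [LocallyOfFiniteType q] [QuasiCompact q]
    [IrreducibleSpace ↥X] (f : Y ⟶ X) (hf : f ≫ p = q)
    (hη : genericPoint ↥X ∈ Set.range f.base) :
    topologicalKrullDim ↥X ≤ topologicalKrullDim ↥Y := by
  letI : X.Over (Spec (CommRingCat.of k)) := ⟨p⟩
  letI : Y.Over (Spec (CommRingCat.of k)) := ⟨q⟩
  haveI : LocallyOfFiniteType (X ↘ Spec (CommRingCat.of k)) := ‹LocallyOfFiniteType p›
  haveI : LocallyOfFiniteType (Y ↘ Spec (CommRingCat.of k)) := ‹LocallyOfFiniteType q›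
  obtain ⟨y, hy⟩ := hη
  obtain ⟨n, hn⟩ := Groth.Agent.Lib.helper7.DimSch.exists_trdeg_genericPoint k X
  rw [Groth.Agent.Lib.helper7.DimSch.topologicalKrullDim_of_irreducible k X n hn]
  have hle := Groth.Agent.Lib.helper7.DimSch.trdeg_residueField_le k X Y f hf y
  rw [hy, hn] at hle
  obtain ⟨_, ⟨W, hW, rfl⟩, hyW, -⟩ :=
    Y.isBasis_affineOpens.exists_subset_of_mem_open (Set.mem_univ y) isOpen_univ
  have hW' : IsAffineOpen W := hW
  letI := (Groth.Agent.Lib.helper7.DimSch.sectionMap k Y W).toAlgebra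
  haveI : Algebra.FiniteType k Γ(Y, W) :=
    Groth.Agent.Lib.helper7.DimSch.sectionMap_finiteType k Y hW'
  haveI : IsNoetherianRing Γ(Y, W) := Algebra.FiniteType.isNoetherianRing k _
  obtain ⟨a, ha, -⟩ := Groth.Agent.Lib.helper7.DimSch.exists_trdeg_residueField_eq k Y hW' y hyW
  have hfin : (hW'.primeIdealOf ⟨y, hyW⟩).asIdeal.height ≠ ⊤ := Ideal.height_ne_top_of_isPrime
  obtain ⟨b, hb⟩ := ENat.ne_top_iff_exists.mp hfin
  have hb' : ringKrullDim (Y.presheaf.stalk y) = b := by
    rw [Groth.Agent.Lib.helper7.DimSch.ringKrullDim_stalk_eq_height hW' y hyW, ← hb]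
    rfl
  obtain ⟨y', -, hy'⟩ :=
    Groth.Agent.Lib.helper7.DimSch.exists_stalk_ge k Y y a b ha hb' ⊤ trivial
  rw [ha] at hle
  have hna : n ≤ a := by exact_mod_cast hle
  calc (n : WithBot ℕ∞) ≤ ((a + b : ℕ) : WithBot ℕ∞) := by exact_mod_cast (by omega : n ≤ a + b)
    _ ≤ ringKrullDim (Y.presheaf.stalk y') := hy'
    _ ≤ topologicalKrullDim Y :=
      Groth.Agent.Lib.helper7.DimBC.ringKrullDim_stalk_le_topologicalKrullDim Y y'

end Groth.Agent.S10841
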