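import Groth.Statements.S10842
import Mathlib.RingTheory.Ideal.Height
import Mathlib.RingTheory.IntegralClosure.IntegrallyClosed
import Mathlib.AlgebraicGeometry.AffineScheme
import Mathlib.AlgebraicGeometry.Properties

set_option autoImplicit false
universe u
open CategoryTheory AlgebraicGeometry
open Variety

namespace Groth.Agent.S10842

/-- localisations at a smaller prime inherit "integrally closed domain" -/
theorem isDomain_isIntegrallyClosed_of_le {R : Type*} [CommRing R] (p q : Ideal R) [p.IsPrime]
    [q.IsPrime] (hpq : p ≤ q) (A B : Type*) [CommRing A] [CommRing B] [Algebra R A] [Algebra R B]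
    [IsLocalization.AtPrime A p] [IsLocalization.AtPrime B q] [IsDomain B] [IsIntegrallyClosed B] :
    IsDomain A ∧ IsIntegrallyClosed A := by
  have hdisj : Disjoint (q.primeCompl : Set R) (p : Set R) := by
    rw [Set.disjoint_left]
    intro x hx hxp
    exact hx (hpq hxp)
  let P := p.map (algebraMap R B)
  have hP : P.IsPrime := IsLocalization.isPrime_of_isPrime_disjoint q.primeCompl B p ‹_› hdisj
  have h1 := IsLocalization.isLocalization_isLocalization_atPrime_isLocalization
    (M := q.primeCompl) (Localization.AtPrime P) P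
  simp_rw [P, IsLocalization.under_map_of_isPrime_disjoint q.primeCompl B _ hdisj] at h1
  let e : Localization.AtPrime P ≃ₐ[R] A :=
    IsLocalization.algEquiv p.primeCompl (Localization.AtPrime P) A
  have hle : P.primeCompl ≤ nonZeroDivisors B := by
    intro x hx
    refine mem_nonZeroDivisors_of_ne_zero ?_
    rintro rfl
    exact hx P.zero_mem
  have hd : IsDomain (Localization.AtPrime P) :=
    IsLocalization.isDomain_localization hle
  have hic : IsIntegrallyClosed (Localization.AtPrime P) :=
    isIntegrallyClosed_of_isLocalization (Localization.AtPrime P) P.primeCompl hle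
  exact ⟨e.toRingEquiv.toMulEquiv.isDomain_iff.mp hd,
    IsIntegrallyClosed.of_equiv e.toRingEquiv⟩

/-- A quasi-compact scheme whose local rings at all closed points are integrally closed domains is
normal, i.e. all of its local rings are integrally closed domains. -/
theorem result (X : Scheme.{u}) [CompactSpace ↥X]
    (h : ∀ x : X, IsClosed ({x} : Set X) →
      IsDomain (X.presheaf.stalk x) ∧ IsIntegrallyClosed (X.presheaf.stalk x)) :
    Pi1.IsNormalScheme X := by
  intro x
  obtain ⟨z, hzx, hz⟩ := IsClosed.exists_closed_singleton (isClosed_closure (s := ({x} : Set X)))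
    ⟨x, subset_closure rfl⟩
  have hspec : x ⤳ z := specializes_iff_mem_closure.mpr hzx
  obtain ⟨hzd, hzi⟩ := h z hz
  obtain ⟨_, ⟨U : X.Opens, hU, rfl⟩, hzU, -⟩ := X.isBasis_affineOpens.exists_subset_of_mem_open
      (Set.mem_univ z) isOpen_univ
  have hxU : x ∈ U := hspec.mem_open U.2 hzU
  have hU' : IsAffineOpen U := hU
  have locx := hU'.isLocalization_stalk ⟨x, hxU⟩
  have locz := hU'.isLocalization_stalk ⟨z, hzU⟩
  have hle : (hU'.primeIdealOf ⟨x, hxU⟩).asIdeal ≤ (hU'.primeIdealOf ⟨z, hzU⟩).asIdeal := by
    have hs : (⟨x, hxU⟩ : U) ⤳ ⟨z, hzU⟩ := Topology.IsInducing.subtypeVal.specializes_iff.mp hspec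
    have := hs.map hU'.isoSpec.hom.continuous
    exact (PrimeSpectrum.le_iff_specializes _ _).mpr this
  letI algx : Algebra Γ(X, U) (X.presheaf.stalk x) :=
    TopCat.Presheaf.algebra_section_stalk X.presheaf (⟨x, hxU⟩ : U)
  letI algz : Algebra Γ(X, U) (X.presheaf.stalk z) :=
    TopCat.Presheaf.algebra_section_stalk X.presheaf (⟨z, hzU⟩ : U)
  exact @isDomain_isIntegrallyClosed_of_le _ _ _ _ _ _ hle (X.presheaf.stalk x) (X.presheaf.stalk z)
    _ _ algx algz locx locz hzd hzi

end Groth.Agent.S10842
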