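import Groth.Statements.S10851
-- import your own Groth.Agent.* helpers here

set_option autoImplicit false
universe u
open Mero

namespace Groth.Agent.S10851



open AlgebraicGeometry in
/-- Let X be a locally Noetherian scheme and D a divisor on X (a global section of K_X^×/O_X^×). Then
the support of D has codimension at least 1 in X: for every point z at which the germ of D is
non-trivial, the local ring O_{X,z} has Krull dimension at least 1. -/
theorem result {X : Scheme.{u}} [IsLocallyNoetherian X]
    (D : Mero.Divisor X) (z : X) (hz : z ∈ Mero.supp D) :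
    (1 : WithBot ℕ∞) ≤ ringKrullDim (X.presheaf.stalk z) := by
  by_contra hcon
  apply hz
  have hle : ringKrullDim (X.presheaf.stalk z) ≤ 0 := by
    rw [not_le] at hcon
    have h0 : ringKrullDim (X.presheaf.stalk z) < ((1 : ℕ∞) : WithBot ℕ∞) := hcon
    cases h : ringKrullDim (X.presheaf.stalk z) with
    | bot => exact bot_le
    | coe a =>
      rw [h] at h0
      have : a < 1 := by exact_mod_cast h0
      have : a = 0 := ENat.lt_one_iff_eq_zero.mp this
      rw [this]; rfl
  haveI : Ring.KrullDimLE 0 (X.presheaf.stalk z) := (Ring.krullDimLE_iff).mpr (by exact_mod_cast hle)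
  have hunits : Mero.regStalk X z ≤ IsUnit.submonoid (X.presheaf.stalk z) := by
    intro s hs
    have hnzd := Mero.regStalk_le_nonZeroDivisors z hs
    by_contra hnu
    have hnil : IsNilpotent s :=
      Ring.KrullDimLE.isNilpotent_iff_mem_nonunits.mpr hnu
    obtain ⟨n, hn⟩ := hnil
    have h1 : s ^ n ∈ nonZeroDivisors (X.presheaf.stalk z) := pow_mem hnzd n
    rw [hn] at h1
    exact zero_notMem_nonZeroDivisors h1
  let e : X.presheaf.stalk z ≃ₐ[X.presheaf.stalk z] Mero.KStalk X z :=
    IsLocalization.atUnits _ (Mero.regStalk X z) hunits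
  obtain ⟨q, hq⟩ := QuotientGroup.mk_surjective (D.1 z)
  rw [← hq, QuotientGroup.eq_one_iff]
  refine ⟨Units.map e.symm.toRingEquiv.toRingHom.toMonoidHom q, ?_⟩
  ext
  change algebraMap _ _ (e.symm q.1) = q.1
  have : algebraMap (X.presheaf.stalk z) (Mero.KStalk X z) (e.symm q.1) = e (e.symm q.1) :=
    (e.commutes _).symm ▸ rfl
  rw [this, AlgEquiv.apply_symm_apply]

end Groth.Agent.S10851
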