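import Groth.Statements.S10853
import Mathlib

set_option autoImplicit false
universe u
open FinCond

namespace Groth.Agent.S10853

open AlgebraicGeometry CategoryTheory

set_option backward.isDefEq.respectTransparency.types false in
lemma exists_lift_of_fp {X : Scheme.{u}} {R A : CommRingCat.{u}} {x : X} {U : X.Opens} (hxU : x ∈ U)
    (φ : A ⟶ X.presheaf.stalk x) (φRA : R ⟶ A) (φRX : R ⟶ Γ(X, U))
    (hφRA : RingHom.FinitePresentation φRA.hom)
    (e : φRA ≫ φ = φRX ≫ X.presheaf.germ U x hxU) :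
    ∃ (V : X.Opens) (hxV : x ∈ V) (φ' : A ⟶ Γ(X, V)) (i : V ≤ U), IsAffineOpen V ∧
      φ = φ' ≫ X.presheaf.germ V x hxV ∧ φRX ≫ X.presheaf.map i.hom.op = φRA ≫ φ' := by
  let _ := φRA.hom.toAlgebra
  obtain ⟨n, π, hπ, s, hs⟩ := hφRA
  choose W hxW g hg using fun i : Fin n ↦ X.presheaf.exists_germ_eq (φ (π (MvPolynomial.X i)))
  have hxW0 : x ∈ (Finset.univ.inf W) ⊓ U := by
    rw [← SetLike.mem_coe, TopologicalSpace.Opens.coe_inf, TopologicalSpace.Opens.coe_finset_inf]
    exact ⟨by simpa using fun i ↦ hxW i, hxU⟩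
  set W0 : X.Opens := (Finset.univ.inf W) ⊓ U with hW0
  let ρ : R →+* Γ(X, W0) := (φRX ≫ X.presheaf.map (homOfLE (inf_le_right : W0 ≤ U)).op).hom
  let gi : Fin n → Γ(X, W0) := fun i =>
    X.presheaf.map (homOfLE ((inf_le_left : W0 ≤ _).trans (Finset.inf_le (Finset.mem_univ i)))).op (g i)
  let ψ : MvPolynomial (Fin n) R →+* Γ(X, W0) := MvPolynomial.eval₂Hom ρ gi
  have hψ : (X.presheaf.germ W0 x hxW0).hom.comp ψ = φ.hom.comp π.toRingHom := by
    apply MvPolynomial.ringHom_ext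
    · intro r
      have h1 : φ (π (MvPolynomial.C r)) = (φRA ≫ φ) r := by
        rw [← MvPolynomial.algebraMap_eq, AlgHom.commutes]
        rfl
      simp only [RingHom.comp_apply, ψ, MvPolynomial.coe_eval₂Hom, MvPolynomial.eval₂_C]
      change X.presheaf.germ W0 x hxW0 (X.presheaf.map _ (φRX r)) = φ (π (MvPolynomial.C r))
      rw [TopCat.Presheaf.germ_res_apply, h1, e]
      rfl
    · intro i
      simp only [RingHom.comp_apply, ψ, MvPolynomial.coe_eval₂Hom, MvPolynomial.eval₂_X]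
      change X.presheaf.germ W0 x hxW0 (X.presheaf.map _ (g i)) = φ (π (MvPolynomial.X i))
      rw [TopCat.Presheaf.germ_res_apply, hg]
  have hψ' : ∀ p, X.presheaf.germ W0 x hxW0 (ψ p) = φ (π p) := fun p =>
    DFunLike.congr_fun hψ p
  have hz : ∀ f ∈ s, ∃ (W' : X.Opens) (_ : x ∈ W') (i : W' ≤ W0),
      X.presheaf.map (homOfLE i).op (ψ f) = 0 := by
    intro f hf
    have hfk : π f = 0 := by
      have : f ∈ RingHom.ker π.toRingHom := hs ▸ Ideal.subset_span hf
      exact this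
    have h0 : X.presheaf.germ W0 x hxW0 (ψ f) = X.presheaf.germ W0 x hxW0 0 := by
      rw [hψ', hfk, map_zero, map_zero]
    obtain ⟨W', hx', iU, iV, h⟩ := X.presheaf.germ_eq x hxW0 hxW0 _ _ h0
    refine ⟨W', hx', iU.le, ?_⟩
    rw [map_zero] at h
    exact h
  choose! W' hxW' iW' hW' using hz
  have hxV0 : x ∈ (s.inf W') ⊓ W0 := by
    rw [← SetLike.mem_coe, TopologicalSpace.Opens.coe_inf, TopologicalSpace.Opens.coe_finset_inf]
    exact ⟨by simpa using fun f hf ↦ hxW' f hf, hxW0⟩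
  obtain ⟨_, ⟨V, hV, rfl⟩, hxV, iV⟩ :=
    X.isBasis_affineOpens.exists_subset_of_mem_open hxV0 ((s.inf W') ⊓ W0).2
  have iVW0 : V ≤ W0 := fun z hz => (iV hz).2
  let ψV : MvPolynomial (Fin n) R →+* Γ(X, V) :=
    (X.presheaf.map (homOfLE iVW0).op).hom.comp ψ
  have hker : RingHom.ker π.toRingHom ≤ RingHom.ker ψV := by
    rw [← hs, Ideal.span_le]
    intro f hf
    have hVW' : V ≤ W' f := fun z hz => (Finset.inf_le hf : s.inf W' ≤ W' f) (iV hz).1
    rw [SetLike.mem_coe, RingHom.mem_ker]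
    change X.presheaf.map (homOfLE iVW0).op (ψ f) = 0
    have h2 : X.presheaf.map (homOfLE iVW0).op (ψ f) =
        X.presheaf.map (homOfLE hVW').op (X.presheaf.map (homOfLE (iW' f hf)).op (ψ f)) := by
      rw [← ConcreteCategory.comp_apply, ← Functor.map_comp]
      rfl
    rw [h2, hW' f hf, map_zero]
  let φ'R : A →+* Γ(X, V) := RingHom.liftOfSurjective π.toRingHom hπ ⟨ψV, hker⟩
  have hφ'R : ∀ p, φ'R (π p) = ψV p := fun p =>
    RingHom.liftOfSurjective_comp_apply π.toRingHom hπ ⟨ψV, hker⟩ p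
  refine ⟨V, hxV, CommRingCat.ofHom φ'R, iVW0.trans inf_le_right, hV, ?_, ?_⟩
  · ext a
    obtain ⟨p, rfl⟩ := hπ a
    change φ (π p) = X.presheaf.germ V x hxV (φ'R (π p))
    rw [hφ'R, ← hψ']
    change _ = X.presheaf.germ V x hxV (X.presheaf.map (homOfLE iVW0).op (ψ p))
    rw [TopCat.Presheaf.germ_res_apply]
  · ext r
    change X.presheaf.map _ (φRX r) = φ'R (φRA r)
    have h1 : φRA r = π (MvPolynomial.C r) := by
      rw [← MvPolynomial.algebraMap_eq, AlgHom.commutes]
      rfl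
    rw [h1, hφ'R]
    change _ = X.presheaf.map (homOfLE iVW0).op (ψ (MvPolynomial.C r))
    simp only [ψ, MvPolynomial.coe_eval₂Hom, MvPolynomial.eval₂_C]
    have h3 : ∀ t : Γ(X, U), X.presheaf.map (homOfLE iVW0).op
        (X.presheaf.map (homOfLE (inf_le_right : W0 ≤ U)).op t) =
        X.presheaf.map (homOfLE (iVW0.trans inf_le_right)).op t := by
      intro t
      rw [← ConcreteCategory.comp_apply, ← Functor.map_comp]
      rfl
    exact (h3 _).symm

set_option backward.isDefEq.respectTransparency.types false in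
theorem result'
    {X Y S : Scheme.{u}} (sX : X ⟶ S) (sY : Y ⟶ S) [LocallyOfFinitePresentation sY]
    {x : X} {y : Y} (e : sX x = sY y)
    (φ : Y.presheaf.stalk y ⟶ X.presheaf.stalk x)
    (h : sY.stalkMap y ≫ φ =
      S.presheaf.stalkSpecializes (Inseparable.of_eq e).specializes ≫ sX.stalkMap x) :
    ∃ (U : X.Opens) (hxU : x ∈ U) (f : U.toScheme ⟶ Y),
      Spec.map φ ≫ Y.fromSpecStalk y = U.fromSpecStalkOfMem x hxU ≫ f ∧
        f ≫ sY = U.ι ≫ sX := by
  obtain ⟨_, ⟨U, hU, rfl⟩, hxU, -⟩ :=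
    S.isBasis_affineOpens.exists_subset_of_mem_open (Set.mem_univ (sX x)) isOpen_univ
  have hyU : sY y ∈ U := e ▸ hxU
  obtain ⟨_, ⟨V : Y.Opens, hV, rfl⟩, hyV, iVU⟩ :=
    Y.isBasis_affineOpens.exists_subset_of_mem_open hyU (sY ⁻¹ᵁ U).2
  have : sY.appLE U V iVU ≫ Y.presheaf.germ V y hyV ≫ φ =
      sX.app U ≫ X.presheaf.germ (sX ⁻¹ᵁ U) x hxU := by
    rw [Scheme.Hom.appLE, Category.assoc, Y.presheaf.germ_res_assoc,
      ← Scheme.Hom.germ_stalkMap_assoc, h]
    simp
  obtain ⟨W, hxW, φ', i, hW, h₁, h₂⟩ :=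
    exists_lift_of_fp (R := Γ(S, U)) (A := Γ(Y, V)) (U := sX ⁻¹ᵁ U) (x := x) hxU
    (Y.presheaf.germ _ y hyV ≫ φ) (sY.appLE U V iVU) (sX.app U)
    (sY.finitePresentation_appLE hU hV _) this
  refine ⟨W, hxW, W.toSpecΓ ≫ Spec.map φ' ≫ hV.fromSpec, ?_, ?_⟩
  · rw [W.fromSpecStalkOfMem_toSpecΓ_assoc x hxW, ← Spec.map_comp_assoc, ← h₁,
      Spec.map_comp, Category.assoc, ← IsAffineOpen.fromSpecStalk,
      IsAffineOpen.fromSpecStalk_eq_fromSpecStalk]
  · simp only [Category.assoc]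
    rw [← IsAffineOpen.SpecMap_appLE_fromSpec sY hU hV iVU, ← Spec.map_comp_assoc, ← h₂,
      ← Scheme.Hom.appLE, ← hW.isoSpec_hom, IsAffineOpen.SpecMap_appLE_fromSpec sX hU hW i,
      ← Iso.eq_inv_comp, IsAffineOpen.isoSpec_inv_ι_assoc]

open AlgebraicGeometry CategoryTheory in
/-- Let S be a scheme, X an S-scheme and Y an S-scheme locally of finite presentation over S. Let x be a
point of X and y a point of Y over the same point of S, and let φ : O_{Y,y} → O_{X,x} be a local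
homomorphism compatible with the two homomorphisms from the local ring of S. Then there exist an
open neighbourhood U of x and an S-morphism U → Y whose composite with the canonical morphism Spec
O_{X,x} → U equals Spec φ followed by the canonical morphism Spec O_{Y,y} → Y (so it sends x to y
and induces φ on local rings). No condition is imposed on X or S. (The published statement assumes
only that Y is locally of finite presentation over S at the point y; this row assumes it
everywhere.) -/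
theorem result
    {X Y S : Scheme.{u}} (sX : X ⟶ S) (sY : Y ⟶ S) [LocallyOfFinitePresentation sY]
    {x : X} {y : Y} (e : sX x = sY y)
    (φ : Y.presheaf.stalk y ⟶ X.presheaf.stalk x) [IsLocalHom φ.hom]
    (h : sY.stalkMap y ≫ φ =
      S.presheaf.stalkSpecializes (Inseparable.of_eq e).specializes ≫ sX.stalkMap x) :
    ∃ (U : X.Opens) (hxU : x ∈ U) (f : U.toScheme ⟶ Y),
      Spec.map φ ≫ Y.fromSpecStalk y = U.fromSpecStalkOfMem x hxU ≫ f ∧
        f ≫ sY = U.ι ≫ sX := by
  exact result' sX sY e φ h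

end Groth.Agent.S10853
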