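import Groth.Statements.S10856
import Groth.Agent.Lib.helper11.MeroBasic

set_option autoImplicit false
universe u
open Mero

namespace Groth.Agent.S10856

open AlgebraicGeometry CategoryTheory TopologicalSpace in
/-- Let X be a scheme and f a global section of the sheaf of meromorphic functions K_X. The domain of
definition of f, i.e. the set of points x whose value f_x ∈ K_{X,x} lies in the image of the local
ring O_{X,x}, is the underlying set of an open subscheme D of X, and D is schematically dense in X: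
for every open subset V of X the restriction map from sections of O_X over V to sections over V ∩ D
is injective. -/
theorem result {X : Scheme.{u}} (f : Γ(Mero.kmod X, ⊤)) :
    ∃ D : X.Opens,
      (D : Set X) = {x | f.1 ⟨x, Opens.mem_top x⟩ ∈ (algebraMap (X.presheaf.stalk x) (Mero.KStalk X x)).range} ∧
        ∀ V : X.Opens, Function.Injective (X.presheaf.map (homOfLE (inf_le_left : V ⊓ D ≤ V)).op) := by
  classical
  have hloc : ∀ x : X, ∃ (V : X.Opens) (_ : x ∈ V) (a : Γ(X, V)) (b : Mero.regSub X V),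
      ∀ y : V, f.1 ⟨y.1, Opens.mem_top y.1⟩ =
        LocalizedModule.mk (X.presheaf.germ V y.1 y.2 a) (Mero.regGerm y b) := by
    intro x
    obtain ⟨V, hxV, i, a, b, hab⟩ := f.2 ⟨x, Opens.mem_top x⟩
    exact ⟨V, hxV, a, b, fun y => hab y⟩
  have hopen : IsOpen {x : X | f.1 ⟨x, Opens.mem_top x⟩ ∈
      (algebraMap (X.presheaf.stalk x) (Mero.KStalk X x)).range} := by
    rw [isOpen_iff_forall_mem_open]
    intro x hx
    obtain ⟨r0, hr0⟩ := hx
    obtain ⟨W, hxW, r, rfl⟩ := X.presheaf.exists_germ_eq r0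
    obtain ⟨V, hxV, a, b, hab⟩ := hloc x
    have h1 := hab ⟨x, hxV⟩
    rw [← hr0] at h1
    have h1' := h1.symm
    rw [Groth.Agent.Lib.helper11.MeroBasic.mk_eq_algebraMap_iff
      (Mero.regStalk_le_nonZeroDivisors x)] at h1'
    have h2 : X.presheaf.germ (V ⊓ W) x ⟨hxV, hxW⟩ (X.presheaf.map (homOfLE inf_le_left).op a) =
        X.presheaf.germ (V ⊓ W) x ⟨hxV, hxW⟩ (X.presheaf.map (homOfLE inf_le_right).op r *
          X.presheaf.map (homOfLE inf_le_left).op b.1) := by
      rw [map_mul, TopCat.Presheaf.germ_res_apply, TopCat.Presheaf.germ_res_apply,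
        TopCat.Presheaf.germ_res_apply]
      exact h1'
    obtain ⟨W', hxW', i1, i2, heq⟩ := X.presheaf.germ_eq x _ _ _ _ h2
    refine ⟨W', ?_, W'.isOpen, hxW'⟩
    intro y hy
    have hyV : y ∈ V := (i1.le hy).1
    have hyW : y ∈ W := (i1.le hy).2
    refine ⟨X.presheaf.germ W y hyW r, ?_⟩
    rw [hab ⟨y, hyV⟩, eq_comm, Groth.Agent.Lib.helper11.MeroBasic.mk_eq_algebraMap_iff
      (Mero.regStalk_le_nonZeroDivisors y)]
    have h3 := congrArg (X.presheaf.germ W' y hy) heq
    rw [TopCat.Presheaf.germ_res_apply, TopCat.Presheaf.germ_res_apply,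
      TopCat.Presheaf.germ_res_apply, map_mul, TopCat.Presheaf.germ_res_apply,
      TopCat.Presheaf.germ_res_apply] at h3
    exact h3
  refine ⟨⟨_, hopen⟩, rfl, fun V => ?_⟩
  rw [injective_iff_map_eq_zero]
  intro s hs
  apply TopCat.Presheaf.section_ext X.sheaf V s 0
  intro x hxV
  rw [map_zero]
  obtain ⟨V1, hxV1, a, b, hab⟩ := hloc x
  obtain ⟨W, hW, hxW, hWle⟩ := Opens.isBasis_iff_nbhd.mp X.isBasis_affineOpens
    (show x ∈ V ⊓ V1 from ⟨hxV, hxV1⟩)
  have hWV : W ≤ V := hWle.trans inf_le_left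
  have hWV1 : W ≤ V1 := hWle.trans inf_le_right
  have hb' : X.presheaf.map (homOfLE hWV1).op b.1 ∈ Mero.regSub X W := Mero.regSub_res _ b.2
  have hle : X.basicOpen (X.presheaf.map (homOfLE hWV1).op b.1) ≤
      V ⊓ ⟨_, hopen⟩ := by
    intro y hy
    have hyW : y ∈ W := X.basicOpen_le _ hy
    refine ⟨hWV hyW, ?_⟩
    have hu : IsUnit (X.presheaf.germ W y hyW (X.presheaf.map (homOfLE hWV1).op b.1)) :=
      (X.mem_basicOpen _ y hyW).mp hy
    rw [TopCat.Presheaf.germ_res_apply] at hu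
    obtain ⟨u, hu⟩ := hu
    refine ⟨X.presheaf.germ V1 y (hWV1 hyW) a * ↑u⁻¹, ?_⟩
    rw [hab ⟨y, hWV1 hyW⟩, eq_comm, Groth.Agent.Lib.helper11.MeroBasic.mk_eq_algebraMap_iff
      (Mero.regStalk_le_nonZeroDivisors y)]
    change _ = _ * X.presheaf.germ V1 y (hWV1 hyW) b.1
    rw [← hu, mul_assoc, Units.inv_mul, mul_one]
  have e : X.presheaf.map (homOfLE (X.basicOpen_le (X.presheaf.map (homOfLE hWV1).op b.1))).op
      (X.presheaf.map (homOfLE hWV).op s) = 0 := by
    have e1 : X.presheaf.map (homOfLE (X.basicOpen_le (X.presheaf.map (homOfLE hWV1).op b.1))).op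
        (X.presheaf.map (homOfLE hWV).op s) = X.presheaf.map (homOfLE hle).op
          (X.presheaf.map (homOfLE (inf_le_left : V ⊓ ⟨_, hopen⟩ ≤ V)).op s) := by
      simp only [← CommRingCat.comp_apply, ← Functor.map_comp]
      rfl
    rw [e1, hs, map_zero]
  obtain ⟨n, hn⟩ := exists_pow_mul_eq_zero_of_res_basicOpen_eq_zero_of_isAffineOpen X hW
    (X.presheaf.map (homOfLE hWV).op s) (X.presheaf.map (homOfLE hWV1).op b.1) e
  have h4 := congrArg (X.presheaf.germ W x hxW) hn
  rw [map_mul, map_pow, map_zero, TopCat.Presheaf.germ_res_apply,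
    TopCat.Presheaf.germ_res_apply] at h4
  have h5 : X.presheaf.germ V1 x hxV1 b.1 ^ n ∈
      nonZeroDivisors (X.presheaf.stalk x) := pow_mem (b.2 ⟨x, hxV1⟩) n
  exact (mul_left_mem_nonZeroDivisors_eq_zero_iff h5).mp h4

end Groth.Agent.S10856
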