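import Groth.Statements.S1086
import Mathlib
import Groth.Agent.Lib.helper2.FilDLib
-- import your own Groth.Agent.* helpers here

set_option autoImplicit false
universe v u
open CategoryTheory CategoryTheory.Limits Opposite
open FilD

namespace Groth.Agent.S1086
set_option linter.unusedSectionVars false
section helpers
open CategoryTheory Limits Opposite FilD Groth.Agent.Lib.helper2.FilDLib


variable {A : Type u} [Category.{v} A] [Abelian A]

/-- strictness from the one-step property -/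
lemma isStrict_of_step {F G : FilF A} (φ : F ⟶ G)
    (hstep : ∀ (p : ℤ) ⦃T : A⦄ (x : T ⟶ F.obj.obj (op p)) (z : T ⟶ G.obj.obj (op (p + 1))),
      x ≫ φ.hom.app (op p) = z ≫ tr G.obj (Int.le_add_one le_rfl : p ≤ p + 1) →
      ∃ (T' : A) (π : T' ⟶ T) (_ : Epi π) (x' : T' ⟶ F.obj.obj (op (p + 1))),
        π ≫ z = x' ≫ φ.hom.app (op (p + 1))) : IsStrict φ := by
  rw [isStrict_iff]
  intro p q h
  have key : ∀ (n : ℕ) (q : ℤ) (_ : q = p + n) (h : p ≤ q) (T : A)
      (x : T ⟶ F.obj.obj (op p)) (z : T ⟶ G.obj.obj (op q))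
      (_ : x ≫ φ.hom.app (op p) = z ≫ tr G.obj h),
      ∃ (T' : A) (π : T' ⟶ T) (_ : Epi π) (x' : T' ⟶ F.obj.obj (op q)),
        π ≫ z = x' ≫ φ.hom.app (op q) := by
    intro n
    induction n with
    | zero =>
      intro q hq h T x z hxz
      obtain rfl : q = p := by simpa using hq
      rw [tr_refl, Category.comp_id] at hxz
      exact ⟨T, 𝟙 T, inferInstance, x, by rw [Category.id_comp, hxz]⟩
    | succ n ih =>
      intro q hq h T x z hxz
      obtain rfl : q = (p + n) + 1 := by push_cast at hq; omega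
      have hle : p + (n : ℤ) ≤ p + n + 1 := Int.le_add_one le_rfl
      have hpn : p ≤ p + (n : ℤ) := by omega
      have h1 : x ≫ φ.hom.app (op p) = (z ≫ tr G.obj hle) ≫ tr G.obj hpn := by
        rw [Category.assoc, tr_comp]
        exact hxz
      obtain ⟨T₁, π₁, hπ₁, x₁, hx₁⟩ := ih (p + n) rfl hpn T x (z ≫ tr G.obj hle) h1
      have h2 : x₁ ≫ φ.hom.app (op (p + n)) = (π₁ ≫ z) ≫ tr G.obj hle := by
        rw [← hx₁, Category.assoc]
      obtain ⟨T₂, π₂, hπ₂, x₂, hx₂⟩ := hstep (p + n) x₁ (π₁ ≫ z) h2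
      exact ⟨T₂, π₂ ≫ π₁, epi_comp' hπ₂ hπ₁, x₂, by rw [Category.assoc, hx₂]⟩
  intro T x z hxz
  have e : q = p + ((q - p).toNat : ℤ) := by
    rw [Int.toNat_of_nonneg (by omega)]
    ring
  exact key (q - p).toNat q e h T x z hxz

variable {X Y : FilF A} (φ : X ⟶ Y)

/-- elements of `X p` killed by `φ` come from the kernel -/
lemma exists_lift_kernel (p : ℤ) ⦃T : A⦄ (x : T ⟶ X.obj.obj (op p)) (hx : x ≫ φ.hom.app (op p) = 0) :
    ∃ (T' : A) (π : T' ⟶ T) (_ : Epi π) (k : T' ⟶ (kernel φ.hom).obj (op p)),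
      π ≫ x = k ≫ (kernel.ι φ.hom).app (op p) := by
  have hS : (ShortComplex.mk (kernel.ι φ.hom) φ.hom (kernel.condition φ.hom)).Exact :=
    ShortComplex.exact_kernel _
  have hS' := hS.map ((evaluation ℤᵒᵖ A).obj (op p))
  exact hS'.exact_up_to_refinements x hx

lemma kernel_app_comp (p : ℤ) : (kernel.ι φ.hom).app (op p) ≫ φ.hom.app (op p) = 0 := by
  rw [← NatTrans.comp_app, kernel.condition]
  rfl

lemma forward_aux (hφ : IsStrict φ) (p : ℤ) ⦃T : A⦄ (ξ : T ⟶ (gr A p).obj X.obj)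
    (hξ : ξ ≫ (gr A p).map φ.hom = 0) :
    ∃ (T' : A) (π : T' ⟶ T) (_ : Epi π) (κ : T' ⟶ (gr A p).obj (kernel φ.hom)),
      π ≫ ξ = κ ≫ (gr A p).map (kernel.ι φ.hom) := by
  rw [isStrict_iff] at hφ
  have hle : p ≤ p + 1 := Int.le_add_one le_rfl
  obtain ⟨T₁, π₁, hπ₁, x, hx⟩ := exists_lift_grπ X.obj p ξ
  have h1 : (x ≫ φ.hom.app (op p)) ≫ grπ Y.obj p = 0 := by
    rw [Category.assoc, grπ_naturality, ← Category.assoc, ← hx, Category.assoc, hξ, comp_zero]
  obtain ⟨T₂, π₂, hπ₂, z, hz⟩ := exists_lift_of_grπ_eq_zero Y.obj p _ h1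
  obtain ⟨T₃, π₃, hπ₃, x', hx'⟩ := hφ p (p + 1) hle T₂ (π₂ ≫ x) z (by rw [Category.assoc, hz])
  have h2 : (π₃ ≫ π₂ ≫ x - x' ≫ tr X.obj hle) ≫ φ.hom.app (op p) = 0 := by
    rw [Preadditive.sub_comp, Category.assoc, Category.assoc, Category.assoc, ← tr_naturality,
      ← Category.assoc x', ← hx', Category.assoc, ← hz, sub_self]
  obtain ⟨T₄, π₄, hπ₄, k, hk⟩ := exists_lift_kernel φ p _ h2
  refine ⟨T₄, π₄ ≫ π₃ ≫ π₂ ≫ π₁, epi_comp' hπ₄ (epi_comp' hπ₃ (epi_comp' hπ₂ hπ₁)),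
    k ≫ grπ (kernel φ.hom) p, ?_⟩
  rw [Category.assoc k, ← grπ_naturality, ← Category.assoc k, ← hk]
  simp only [Category.assoc, Preadditive.sub_comp, Preadditive.comp_sub, tr_grπ, comp_zero,
    sub_zero]
  rw [hx]

theorem forward (hφ : IsStrict φ) (p : ℤ) :
    ((ShortComplex.mk (kernel.ι φ.hom) φ.hom (kernel.condition φ.hom)).map (gr A p)).Exact := by
  rw [ShortComplex.exact_iff_exact_up_to_refinements]
  intro T ξ hξ
  exact forward_aux φ hφ p ξ hξ

theorem backward (h : ∀ p : ℤ,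
    ((ShortComplex.mk (kernel.ι φ.hom) φ.hom (kernel.condition φ.hom)).map (gr A p)).Exact) :
    IsStrict φ := by
  apply isStrict_of_step
  intro p T x z hxz
  have hle : p ≤ p + 1 := Int.le_add_one le_rfl
  have h1 : (x ≫ grπ X.obj p) ≫ (gr A p).map φ.hom = 0 := by
    rw [Category.assoc, ← grπ_naturality, ← Category.assoc, hxz, Category.assoc, tr_grπ, comp_zero]
  obtain ⟨T₁, π₁, hπ₁, κ, hκ⟩ : ∃ (T₁ : A) (π₁ : T₁ ⟶ T) (_ : Epi π₁)
      (κ : T₁ ⟶ (gr A p).obj (kernel φ.hom)),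
      π₁ ≫ x ≫ grπ X.obj p = κ ≫ (gr A p).map (kernel.ι φ.hom) :=
    (h p).exact_up_to_refinements _ h1
  obtain ⟨T₂, π₂, hπ₂, k, hk⟩ := exists_lift_grπ (kernel φ.hom) p κ
  have h2 : (π₂ ≫ π₁ ≫ x - k ≫ (kernel.ι φ.hom).app (op p)) ≫ grπ X.obj p = 0 := by
    rw [Preadditive.sub_comp, Category.assoc, Category.assoc, hκ, Category.assoc, grπ_naturality,
      ← Category.assoc k, ← hk, Category.assoc]
    exact sub_self _
  obtain ⟨T₃, π₃, hπ₃, x', hx'⟩ := exists_lift_of_grπ_eq_zero X.obj p _ h2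
  have hm : Mono (tr Y.obj hle) := mono_tr Y.property hle
  refine ⟨T₃, π₃ ≫ π₂ ≫ π₁, epi_comp' hπ₃ (epi_comp' hπ₂ hπ₁), x', ?_⟩
  rw [← cancel_mono (tr Y.obj hle), Category.assoc x', tr_naturality, ← Category.assoc x', ← hx']
  simp only [Category.assoc, Preadditive.sub_comp, Preadditive.comp_sub, kernel_app_comp,
    comp_zero, sub_zero, hxz]


end helpers

/-- Let φ : X ⟶ Y be a morphism of finite filtered objects of an abelian category and let Ker φ carry
the induced filtration (the kernel computed levelwise). Then φ is strict if and only if for every p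
the sequence grᵖ(Ker φ) ⟶ grᵖ X ⟶ grᵖ Y is exact. -/
theorem result {A : Type u} [Category.{v} A] [Abelian A] {X Y : FilD.FilF A} (φ : X ⟶ Y) :
    FilD.IsStrict φ ↔
      ∀ p : ℤ, ((ShortComplex.mk (kernel.ι φ.hom) φ.hom (kernel.condition φ.hom)).map (FilD.gr A p)).Exact := by
  exact ⟨fun h p => forward φ h p, fun h => backward φ h⟩

end Groth.Agent.S1086
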