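import Groth.Statements.S10860
import Mathlib.AlgebraicGeometry.ZariskisMainTheorem

set_option autoImplicit false
universe u
open Mor

namespace Groth.Agent.S10860

open CategoryTheory AlgebraicGeometry in
/-- fibres of a restriction of `f` over an open are (in bijection with) fibres of `f` -/
theorem finite_fibre_iff {X Y : Scheme.{u}} (f : X ⟶ Y) (V : Y.Opens) (y : Y) (hy : y ∈ V) :
    ((f ∣_ V) ⁻¹' {⟨y, hy⟩}).Finite ↔ (f ⁻¹' {y}).Finite := by
  have himg : ((↑) : (f ⁻¹ᵁ V : X.Opens) → X) '' ((f ∣_ V) ⁻¹' {⟨y, hy⟩}) = f ⁻¹' {y} := by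
    ext x
    constructor
    · rintro ⟨x', hx', rfl⟩
      have h1 : (f ∣_ V) x' = ⟨y, hy⟩ := hx'
      have h2 := morphismRestrict_base_coe f V x'
      rw [h1] at h2
      exact h2.symm
    · intro hx
      have hx' : f x = y := hx
      have hxV : x ∈ f ⁻¹ᵁ V := by
        change f x ∈ V
        rw [hx']; exact hy
      refine ⟨⟨x, hxV⟩, ?_, rfl⟩
      change (f ∣_ V) ⟨x, hxV⟩ = ⟨y, hy⟩
      apply Subtype.ext
      rw [morphismRestrict_base_coe]
      exact hx'
  rw [← himg]
  exact (Set.finite_image_iff Subtype.val_injective.injOn).symm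

open CategoryTheory AlgebraicGeometry in
/-- For a proper morphism f : X → Y, the set V of points of Y with finite fibre is open, and f
restricted over V is finite (stated as the existence of an open subscheme of Y whose underlying set
is exactly V and over which f is finite). -/
theorem result {X Y : Scheme.{u}} (f : X ⟶ Y) [IsProper f] :
    ∃ U : Y.Opens, (U : Set Y) = {y : Y | (f.base ⁻¹' {y}).Finite} ∧ IsFinite (f ∣_ U) := by
  have hopen : IsOpen {y : Y | (f.base ⁻¹' {y}).Finite} := by
    rw [isOpen_iff_forall_mem_open]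
    intro y hy
    obtain ⟨V, hyV, hV⟩ := exists_isFinite_morphismRestrict_of_finite_preimage_singleton f y hy
    refine ⟨V, fun y' hy' => ?_, V.2, hyV⟩
    exact (finite_fibre_iff f V y' hy').mp ((f ∣_ V).finite_preimage_singleton ⟨y', hy'⟩)
  refine ⟨⟨_, hopen⟩, rfl, ?_⟩
  have : LocallyQuasiFinite (f ∣_ (⟨_, hopen⟩ : Y.Opens)) := by
    apply LocallyQuasiFinite.of_finite_preimage_singleton
    rintro ⟨y, hy⟩
    exact (finite_fibre_iff f _ y hy).mpr hy
  exact IsFinite.of_isProper_of_locallyQuasiFinite _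

end Groth.Agent.S10860
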