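import Groth.Statements.S10863
import Groth.Agent.Lib.helper13.FinPoints

set_option autoImplicit false
universe u
open CAlg

namespace Groth.Agent.S10863

open TensorProduct in
/-- Let k be a field, A a finite-dimensional local k-algebra with residue field κ, and k' a field
extension of k. Then the separable degree of κ over k equals the sum over the maximal ideals m' of
k' ⊗_k A (the points of the base-changed finite scheme lying over the given point) of the separable
degrees over k' of their residue fields. -/
theorem result (k A k' : Type u) [Field k] [CommRing A] [Algebra k A]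
    [Module.Finite k A] [IsLocalRing A] [Field k'] [Algebra k k'] :
    Field.finSepDegree k (IsLocalRing.ResidueField A) =
      ∑ᶠ m : MaximalSpectrum (k' ⊗[k] A),
        Field.finSepDegree k' (IsLocalRing.ResidueField (Localization.AtPrime m.asIdeal)) := by
  classical
  have hA : IsArtinianRing A := IsArtinianRing.of_finite k A
  let Ω := AlgebraicClosure k'
  have hB : IsArtinianRing (k' ⊗[k] A) := IsArtinianRing.of_finite k' _
  -- left side
  let π : A →ₐ[k] IsLocalRing.ResidueField A := IsScalarTower.toAlgHom k A _
  have hπ : Function.Surjective π := IsLocalRing.residue_surjective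
  have hkerπ : RingHom.ker π = IsLocalRing.maximalIdeal A := IsLocalRing.ker_residue
  have : Module.Finite k (IsLocalRing.ResidueField A) :=
    Module.Finite.of_surjective π.toLinearMap hπ
  have h1 : Field.finSepDegree k (IsLocalRing.ResidueField A) = Nat.card (A →ₐ[k] Ω) := by
    rw [Field.finSepDegree_eq_of_isAlgClosed k (IsLocalRing.ResidueField A) Ω,
      ← Lib.helper13.FinPoints.card_algHom_ker_eq π hπ]
    apply Nat.card_congr
    refine (Equiv.subtypeUnivEquiv (fun φ => ?_))
    rw [hkerπ]
    have hp : (RingHom.ker (φ : A →+* Ω)).IsPrime := RingHom.ker_isPrime _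
    have hm : (RingHom.ker (φ : A →+* Ω)).IsMaximal := IsArtinianRing.isMaximal_of_isPrime _
    exact IsLocalRing.eq_maximalIdeal hm
  rw [h1, Nat.card_congr (Algebra.TensorProduct.liftEquivRight k k' A Ω),
    Lib.helper13.FinPoints.card_algHom_eq_finsum k' (k' ⊗[k] A) Ω]
  exact finsum_eq_of_bijective
    (IsArtinianRing.primeSpectrumEquivMaximalSpectrum (R := k' ⊗[k] A))
    (Equiv.bijective _) (fun p => rfl)

end Groth.Agent.S10863
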