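import Groth.Statements.S10876
import Mathlib
import Groth.Agent.Lib.helper24.FlatTop

set_option autoImplicit false
universe u
open TensorProduct
open CAlg

namespace Groth.Agent.S10876



/-- Descent of flatness along finite injective maps: let A → B be a local homomorphism of Noetherian
local rings and A → A' an injective ring homomorphism making A' a finite A-module. Then B is A-flat
if and only if the base change A' ⊗_A B is A'-flat. -/
theorem result (A B A' : Type u) [CommRing A] [CommRing B]
    [CommRing A'] [IsNoetherianRing A] [IsLocalRing A] [IsNoetherianRing B] [IsLocalRing B]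
    [Algebra A B] [IsLocalHom (algebraMap A B)] [Algebra A A'] [Module.Finite A A']
    (hinj : Function.Injective (algebraMap A A')) :
    Module.Flat A B ↔ Module.Flat A' (A' ⊗[A] B) := by
  constructor
  · intro h
    infer_instance
  · intro h
    refine Groth.Agent.Lib.helper24.FlatTop.flat_of_baseChange_of_topology (A' := A')
      (IsLocalRing.maximalIdeal A) ?_ ?_
    · rw [IsLocalRing.jacobson_eq_maximalIdeal ⊥ bot_ne_top]
      exact IsLocalRing.map_maximalIdeal_le (algebraMap A B)
    · intro n hn
      set m := IsLocalRing.maximalIdeal A
      obtain ⟨c, hc⟩ := Ideal.exists_pow_inf_eq_pow_smul m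
        (LinearMap.range (Algebra.linearMap A A'))
      refine ⟨(m ^ (n + c)).map (algebraMap A A'), n + c, ?_, Ideal.le_comap_map⟩
      intro a ha
      rw [Ideal.mem_comap] at ha
      have h1 : algebraMap A A' a ∈ m ^ (n + c) • (⊤ : Submodule A A') ⊓
          LinearMap.range (Algebra.linearMap A A') := by
        refine ⟨?_, ⟨a, rfl⟩⟩
        rw [Ideal.smul_top_eq_map]
        exact ha
      rw [hc (n + c) (by omega), Nat.add_sub_cancel] at h1
      have h2 : m ^ n • (m ^ c • (⊤ : Submodule A A') ⊓ LinearMap.range (Algebra.linearMap A A'))
          ≤ Submodule.map (Algebra.linearMap A A') (m ^ n) := by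
        rw [Submodule.smul_le]
        rintro r hr x ⟨-, y, rfl⟩
        refine ⟨r * y, Ideal.mul_mem_right _ _ hr, ?_⟩
        simp [Algebra.smul_def]
      obtain ⟨b, hb, hba⟩ := h2 h1
      have : b = a := hinj hba
      exact this ▸ hb

end Groth.Agent.S10876
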