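import Groth.Statements.S10878
import Mathlib
import Groth.Agent.Lib.helper4.SchLocLemmas

set_option autoImplicit false
universe u
open CategoryTheory AlgebraicGeometry
open FlatMor

namespace Groth.Agent.S10878

section Helpers
open AlgebraicGeometry CategoryTheory Opposite TopologicalSpace

theorem main {X Y : Scheme.{u}} (f : X ⟶ Y) [IsSeparated f]
    {ι : Type u} (U : ι → X.Opens)
    (hU : ⨆ i, U i = ⊤) (hd : ∀ i, Dense (U i : Set X)) (h : ∀ i, IsImmersion ((U i).ι ≫ f)) :
    IsImmersion f := by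
  apply Groth.Agent.H4SchLoc.isImmersion_of_forall_exists_restrict
  intro x
  have hx : x ∈ (⨆ i, U i : X.Opens) := by rw [hU]; trivial
  obtain ⟨i, hxi⟩ := Opens.mem_iSup.1 hx
  have := h i
  let fi := (U i).ι ≫ f
  let V : Y.Opens := fi.coborderRange
  have hle : U i ≤ f ⁻¹ᵁ V := by
    intro y hy
    have e : (fi.liftCoborder ≫ V.ι) ⟨y, hy⟩ = fi ⟨y, hy⟩ := by rw [fi.liftCoborder_ι]
    have e2 : fi ⟨y, hy⟩ = f y := rfl
    have := (fi.liftCoborder ⟨y, hy⟩).2
    change f y ∈ V
    rw [← e2, ← e]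
    exact this
  -- the inclusion j : U i ⟶ f⁻¹ V
  let j : (U i).toScheme ⟶ (f ⁻¹ᵁ V).toScheme := X.homOfLE hle
  have hj : j ≫ (f ∣_ V) = fi.liftCoborder := by
    rw [← cancel_mono V.ι, Category.assoc, morphismRestrict_ι, fi.liftCoborder_ι]
    simp [j, fi]
  have : IsClosedImmersion (j ≫ (f ∣_ V)) := by rw [hj]; infer_instance
  have hjc : IsClosedImmersion j := IsClosedImmersion.of_comp j (f ∣_ V)
  have hjs : Function.Surjective j := by
    by_contra hns
    rw [← Set.range_eq_univ] at hns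
    have hcl : IsClosed (Set.range j) := j.isClosedEmbedding.isClosed_range
    have hne : ((Set.range j)ᶜ).Nonempty := Set.nonempty_compl.2 hns
    have hop : IsOpen ((f ⁻¹ᵁ V).ι '' (Set.range j)ᶜ) :=
      (f ⁻¹ᵁ V).ι.isOpenEmbedding.isOpenMap _ hcl.isOpen_compl
    obtain ⟨z, ⟨w, hw, rfl⟩, hzU⟩ := (hd i).inter_open_nonempty _ hop (hne.image _)
    apply hw
    refine ⟨(⟨(f ⁻¹ᵁ V).ι w, hzU⟩ : (U i).toScheme), ?_⟩
    apply (f ⁻¹ᵁ V).ι.isOpenEmbedding.injective
    change (j ≫ (f ⁻¹ᵁ V).ι) _ = _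
    simp only [j, Scheme.homOfLE_ι]
    rfl
  have : IsIso j := by
    apply isIso_of_isOpenImmersion_of_opensRange_eq_top
    ext y
    simpa using hjs y
  refine ⟨V, hle hxi, ?_⟩
  have e : f ∣_ V = inv j ≫ fi.liftCoborder := by rw [← hj]; simp
  rw [e]
  infer_instance

end Helpers


/-- A separated morphism f : X → Y, with X having finitely many irreducible components, which restricts
to an immersion on each member of a cover of X by dense open subsets, is an immersion. -/
theorem result {X Y : Scheme.{u}} (f : X ⟶ Y) [IsSeparated f]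
    (hfin : (irreducibleComponents (X : Type u)).Finite) {ι : Type u} (U : ι → X.Opens)
    (hU : ⨆ i, U i = ⊤) (hd : ∀ i, Dense (U i : Set X)) (h : ∀ i, IsImmersion ((U i).ι ≫ f)) :
    IsImmersion f := by
  exact main f U hU hd h

end Groth.Agent.S10878
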