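import Groth.Statements.S10879
import Groth.Agent.Lib.helper21.BR10

set_option autoImplicit false
universe u
open CategoryTheory AlgebraicGeometry
open FlatMor

namespace Groth.Agent.S10879

/-- Take integral schemes X' and X and a separated surjective morphism f : X' → X which is birational in
the sense that the induced map of function fields (the stalk map of f at the generic point of X') is
an isomorphism, and suppose f is affine (e.g. a normalization) or locally of finite presentation
(e.g. a blow-up of a Noetherian integral scheme). Then f is flat exactly when it is an isomorphism. -/
theorem result {X' X : Scheme.{u}} [IsIntegral X'] [IsIntegral X]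
    (f : X' ⟶ X) [Surjective f] [IsSeparated f] (hK : IsIso (f.stalkMap (genericPoint X')))
    (h : IsAffineHom f ∨ LocallyOfFinitePresentation f) :
    Flat f ↔ IsIso f := by
  constructor
  · intro hflat
    haveI := hflat
    haveI := hK
    have hst : ∀ x', IsIso (f.stalkMap x') := fun x' =>
      Groth.Agent.H21.BR.isIso_stalkMap_of_flat_birational f x'
    rcases h with h | h
    · haveI := h
      exact Groth.Agent.H21.BR.isIso_of_affine_of_stalk_iso f hst
    · haveI := h
      have key : ∀ x : X', ∃ U : X'.Opens, x ∈ U ∧ IsOpenImmersion (U.ι ≫ f) := fun x => by
        haveI := hst x
        exact Groth.Agent.H21.BR.exists_isOpenImmersion_of_isIso_stalkMap f x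
      haveI := Groth.Agent.H21.BR.open_immersion_part f key
      haveI : Epi f.base := (TopCat.epi_iff_surjective _).2 f.surjective
      exact IsOpenImmersion.isIso f
  · intro h
    infer_instance

end Groth.Agent.S10879
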