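import Groth.Statements.S10880
import Mathlib
import Groth.Agent.Lib.helper7.DVRFib

set_option autoImplicit false
universe u
open CategoryTheory AlgebraicGeometry
open FlatMor

namespace Groth.Agent.S10880

section Aux
open CategoryTheory CategoryTheory.Limits AlgebraicGeometry TensorProduct

/-- If `B` is Noetherian, `D(t)` is dense in `Spec B` and `(t)` is radical, then `t` has no
power torsion. -/
theorem torsion_free_of_dense {B : Type*} [CommRing B] [IsNoetherianRing B] (t : B)
    (hdense : Dense (PrimeSpectrum.basicOpen t : Set (PrimeSpectrum B)))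
    (hrad : (Ideal.span {t}).IsRadical) (b : B) (n : ℕ) (hb : t ^ n * b = 0) : b = 0 := by
  -- the ideal of `t`-power torsion
  let T : Ideal B :=
    { carrier := {b | ∃ n : ℕ, t ^ n * b = 0}
      add_mem' := by
        rintro x y ⟨n, hn⟩ ⟨m, hm⟩
        have e : t ^ (n + m) * (x + y) = t ^ m * (t ^ n * x) + t ^ n * (t ^ m * y) := by ring
        refine ⟨n + m, ?_⟩
        rw [e, hn, hm, mul_zero, mul_zero, add_zero]
      zero_mem' := ⟨0, by simp⟩
      smul_mem' := by
        rintro c x ⟨n, hn⟩
        refine ⟨n, ?_⟩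
        show t ^ n * (c • x) = 0
        rw [smul_eq_mul, mul_left_comm, hn, mul_zero] }
  have hT : ∀ b : B, b ∈ T ↔ ∃ n : ℕ, t ^ n * b = 0 := fun b => Iff.rfl
  have hTp : ∀ p : PrimeSpectrum B, T ≤ p.asIdeal := by
    intro p
    have h1 : p ∈ closure (PrimeSpectrum.basicOpen t : Set (PrimeSpectrum B)) := hdense p
    rw [← PrimeSpectrum.zeroLocus_vanishingIdeal_eq_closure] at h1
    refine le_trans ?_ ((PrimeSpectrum.mem_zeroLocus _ _).1 h1)
    intro b hb
    rw [PrimeSpectrum.mem_vanishingIdeal]
    intro q hq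
    obtain ⟨n, hn⟩ := (hT b).1 hb
    have h2 : t ^ n * b ∈ q.asIdeal := by rw [hn]; exact Ideal.zero_mem _
    rcases q.2.mem_or_mem h2 with h3 | h3
    · exact absurd (q.2.mem_of_pow_mem n h3) hq
    · exact h3
  have hTt : T ≤ Ideal.span {t} := by
    intro b hb
    apply hrad
    have h2 : b ∈ nilradical B := by
      rw [nilradical_eq_sInf, Ideal.mem_sInf]
      intro p hp
      exact hTp ⟨p, hp⟩ hb
    obtain ⟨n, hn⟩ := h2
    exact ⟨n, by rw [hn]; exact Ideal.zero_mem _⟩
  -- T = tT
  have hTle : T ≤ Ideal.span {t} • T := by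
    intro x hx
    obtain ⟨y, rfl⟩ := Ideal.mem_span_singleton'.1 (hTt hx)
    obtain ⟨m, hm⟩ := (hT _).1 hx
    have hy : y ∈ T := ⟨m + 1, by rw [pow_succ, mul_assoc, mul_comm t y]; exact hm⟩
    rw [mul_comm]
    exact Submodule.smul_mem_smul (Ideal.mem_span_singleton_self t) hy
  obtain ⟨r, hr1, hr2⟩ := Submodule.exists_sub_one_mem_and_smul_eq_zero_of_fg_of_le_smul
    (Ideal.span {t}) T (IsNoetherian.noetherian T) hTle
  obtain ⟨c, hc⟩ := Ideal.mem_span_singleton'.1 hr1
  -- r = 1 + c t
  have hbT : b ∈ T := ⟨n, hb⟩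
  have key : ∀ x ∈ T, x = -(c * t) * x := by
    intro x hx
    have := hr2 x hx
    rw [smul_eq_mul] at this
    have hr : r = 1 + c * t := by rw [hc]; ring
    rw [hr] at this
    linear_combination this
  have key2 : ∀ k : ℕ, b = (-(c * t)) ^ k * b := by
    intro k
    induction k with
    | zero => simp
    | succ k ih =>
      have h1 := key b hbT
      calc b = (-(c * t)) ^ k * b := ih
        _ = (-(c * t)) ^ k * (-(c * t) * b) := by rw [← h1]
        _ = (-(c * t)) ^ (k + 1) * b := by ring
  rw [key2 n]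
  have : (-(c * t)) ^ n * b = (-c) ^ n * (t ^ n * b) := by ring
  rw [this, hb, mul_zero]

theorem main (R : Type u) [CommRing R] [IsDomain R]
    [IsDiscreteValuationRing R] {X : Scheme.{u}} (f : X ⟶ Spec (CommRingCat.of R)) [IsLocallyNoetherian X]
    (hred : AlgebraicGeometry.IsReduced (f.fiber (IsLocalRing.closedPoint R)))
    (hdense : Dense (f.base ⁻¹' {genericPoint (Spec (CommRingCat.of R))})) : Flat f := by
  rw [IsZariskiLocalAtSource.iff_of_openCover (P := @Flat) X.affineOpenCover.openCover]
  intro i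
  set j := X.affineOpenCover.f i with hj
  obtain ⟨φ, hφ⟩ := Spec.map_surjective (j ≫ f)
  show Flat (j ≫ f)
  rw [← hφ, HasRingHomProperty.Spec_iff (P := @Flat)]
  letI : Algebra R (X.affineOpenCover.X i) := φ.hom.toAlgebra
  show Module.Flat R (X.affineOpenCover.X i)
  obtain ⟨ϖ, hϖ⟩ := IsDiscreteValuationRing.exists_irreducible R
  set t : X.affineOpenCover.X i := algebraMap R (X.affineOpenCover.X i) ϖ with ht
  -- Noetherian
  haveI : IsNoetherianRing (X.affineOpenCover.X i) := by
    haveI : IsLocallyNoetherian (Spec (X.affineOpenCover.X i)) :=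
      isLocallyNoetherian_of_isOpenImmersion j
    haveI : IsNoetherian (Spec (X.affineOpenCover.X i)) := ⟨⟩
    exact isNoetherian_Spec.1 inferInstance
  -- radical
  have hrad : (Ideal.span {t}).IsRadical := by
    have h := Groth.Agent.Lib.helper7.DVRFib.isRadical_map_maximalIdeal f (X.affineOpenCover.X i) j
      hφ.symm
    rwa [hϖ.maximalIdeal_eq, Ideal.map_span, Set.image_singleton] at h
  -- density
  have hd : Dense (PrimeSpectrum.basicOpen t : Set (PrimeSpectrum (X.affineOpenCover.X i))) := by
    have h1 : Dense (j ⁻¹' (f ⁻¹' {genericPoint (Spec (CommRingCat.of R))})) :=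
      hdense.preimage j.isOpenEmbedding.isOpenMap
    refine h1.mono ?_
    intro p hp
    have h2 : (j ≫ f) p = genericPoint (Spec (CommRingCat.of R)) := hp
    rw [← hφ, genericPoint_eq_bot_of_affine] at h2
    have h3 : Ideal.comap φ.hom p.asIdeal = ⊥ := congrArg PrimeSpectrum.asIdeal h2
    show t ∉ p.asIdeal
    intro h4
    have h5 : ϖ ∈ Ideal.comap φ.hom p.asIdeal := h4
    rw [h3, Ideal.mem_bot] at h5
    exact hϖ.ne_zero h5
  rw [IsDedekindDomain.flat_iff_torsion_eq_bot, Submodule.eq_bot_iff]
  intro b hb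
  obtain ⟨a, ha⟩ := (Submodule.mem_torsion_iff b).1 hb
  obtain ⟨n, u, hu⟩ := IsDiscreteValuationRing.eq_unit_mul_pow_irreducible
    (nonZeroDivisors.ne_zero a.2) hϖ
  have h6 : algebraMap R (X.affineOpenCover.X i) (a : R) * b = 0 := by
    rw [← Algebra.smul_def]; exact ha
  rw [hu, map_mul, map_pow, mul_assoc] at h6
  have h7 : t ^ n * b = 0 := by
    have hunit : IsUnit (algebraMap R (X.affineOpenCover.X i) (u : R)) := u.isUnit.map _
    exact (hunit.mul_right_eq_zero).1 h6
  exact torsion_free_of_dense t hd hrad b n h7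

end Aux

/-- Let R be a discrete valuation ring and X a locally Noetherian scheme over Spec R whose
scheme-theoretic special fibre is reduced and such that every maximal point of the special fibre
lies in the closure of the generic fibre, i.e. the generic fibre is dense in X. Then X is flat over
R. -/
theorem result (R : Type u) [CommRing R] [IsDomain R]
    [IsDiscreteValuationRing R] {X : Scheme.{u}} (f : X ⟶ Spec (CommRingCat.of R)) [IsLocallyNoetherian X]
    (hred : IsReduced (f.fiber (IsLocalRing.closedPoint R)))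
    (hdense : Dense (f.base ⁻¹' {genericPoint (Spec (CommRingCat.of R))})) : Flat f := by
  exact main R f hred hdense

end Groth.Agent.S10880
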