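import Groth.Statements.S10882
-- import your own Groth.Agent.* helpers here
import Mathlib
import Groth.Agent.Lib.helper6.FlatDimSch

set_option autoImplicit false
universe u
open CategoryTheory AlgebraicGeometry
open FlatMor

namespace Groth.Agent.S10882

/-- Let X and Y be schemes locally of finite type over a field k and f : X → Y a k-morphism, with Y
regular (all local rings regular), X Cohen–Macaulay (all local rings Cohen–Macaulay), X
equidimensional of dimension e, Y equidimensional of dimension d ≤ e, and all fibres of f
equidimensional of dimension e − d (every irreducible component of every fibre has dimension e − d).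
Then f is flat. -/
theorem result (k : Type u) [Field k] {X Y : Scheme.{u}}
    (q : Y ⟶ Spec (CommRingCat.of k)) [LocallyOfFiniteType q] (f : X ⟶ Y) [LocallyOfFiniteType (f ≫ q)]
    (hY : ∀ y : Y, IsRegularLocalRing (Y.presheaf.stalk y))
    (hX : ∀ x : X, LocCoh.IsCohenMacaulayLocalRing (X.presheaf.stalk x))
    (e d : ℕ) (hde : d ≤ e)
    (hXe : ∀ Z ∈ irreducibleComponents (X : Type u), topologicalKrullDim Z = e)
    (hYd : ∀ Z ∈ irreducibleComponents (Y : Type u), topologicalKrullDim Z = d)
    (hfib : ∀ y : Y, ∀ Z ∈ irreducibleComponents (f.base ⁻¹' {y}), topologicalKrullDim Z = (e - d : ℕ)) :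
    Flat f := by
  let _ : X.Over (Spec (CommRingCat.of k)) := ⟨f ≫ q⟩
  let _ : Y.Over (Spec (CommRingCat.of k)) := ⟨q⟩
  have h1 : LocallyOfFiniteType (X ↘ Spec (CommRingCat.of k)) :=
    ‹LocallyOfFiniteType (f ≫ q)›
  have h2 : LocallyOfFiniteType (Y ↘ Spec (CommRingCat.of k)) := ‹LocallyOfFiniteType q›
  have h3 : LocallyOfFiniteType f := locallyOfFiniteType_of_comp f q
  exact Groth.Agent.Lib.helper6.FlatDimSch.flat_of_dims f k rfl hY hX e d hde hXe hYd
    (fun y => Groth.Agent.Lib.helper6.FlatDimSch.fiber_components f y (e - d) (hfib y))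

end Groth.Agent.S10882
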