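import Groth.Statements.S10884
import Mathlib
import Groth.Agent.Lib.helper7.DimSch10
import Groth.Agent.Lib.helper7.PC7

set_option autoImplicit false
universe u
open CategoryTheory AlgebraicGeometry
open Variety

namespace Groth.Agent.S10884

/-- Let Y be a scheme of finite type over a field k and f : X → Y a dominant morphism of finite type all
of whose non-empty fibres have dimension r. Then dim X = r + dim Y. -/
theorem result (k : Type u) [Field k] {X Y : Scheme.{u}}
    (q : Y ⟶ Spec (CommRingCat.of k)) [LocallyOfFiniteType q] [QuasiCompact q]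
    (f : X ⟶ Y) [LocallyOfFiniteType f] [QuasiCompact f] (hdom : DenseRange f.base) (r : ℕ)
    (hfib : ∀ y : Y, (f.base ⁻¹' {y}).Nonempty → topologicalKrullDim (f.base ⁻¹' {y}) = r) :
    topologicalKrullDim X = (r : WithBot ℕ∞) + topologicalKrullDim Y := by
  apply le_antisymm
  · apply Groth.Agent.Lib.helper7.DimSch.dim_le_add_of_fiber_le k q f r
    intro y
    by_cases hne : (f.base ⁻¹' {y}).Nonempty
    · rw [hfib y hne]
    · rw [Set.not_nonempty_iff_eq_empty] at hne
      rw [hne]
      have : topologicalKrullDim (∅ : Set X) = ⊥ := by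
        rw [topologicalKrullDim, Order.krullDim_eq_bot_iff]
        exact ⟨fun T => by
          obtain ⟨z, _⟩ := T.2.nonempty
          exact z.2.elim⟩
      rw [this]
      exact bot_le
  · apply Groth.Agent.Lib.helper7.DimSch.add_dim_le_of_le_fiber k q f r
    intro η hmax
    have hcl : η ∈ closure (Set.range f.base) := by
      rw [hdom.closure_eq]; trivial
    obtain ⟨z, ⟨x, rfl⟩, hz⟩ :=
      Groth.Agent.Lib.helper7.PC.exists_specializes_of_mem_closure_of_isProConstructible
        (Groth.Agent.Lib.helper7.PC.isProConstructible_range f) hcl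
    have hx : f.base x = η := hmax _ hz
    rw [hfib η ⟨x, hx⟩]

end Groth.Agent.S10884
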