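import Groth.Statements.S10886
import Mathlib
import Groth.Agent.Lib.helper7.DimLift

set_option autoImplicit false
universe u
open CategoryTheory AlgebraicGeometry
open Curves

namespace Groth.Agent.S10886

/-- In an irreducible Noetherian scheme of dimension one every constructible subset is either a finite
set of closed points or the complement of such a set; in particular it is open or closed. -/
theorem result {X : Scheme.{u}} [IsNoetherian X]
    [IrreducibleSpace X] (hX : topologicalKrullDim X = 1) (s : Set X) (hs : Topology.IsConstructible s) :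
    (s.Finite ∧ (∀ x ∈ s, IsClosed ({x} : Set X))) ∨ (sᶜ.Finite ∧ ∀ x ∈ sᶜ, IsClosed ({x} : Set X)) := by
  classical
  set η := genericPoint X with hη
  have hgen : IsGenericPoint η (Set.univ : Set X) := genericPoint_spec X
  have F1 : ∀ x : X, x ≠ η → IsClosed ({x} : Set X) := by
    intro x hx
    by_contra hcl
    have hex : ∃ y ∈ closure ({x} : Set X), y ≠ x := by
      by_contra h
      push Not at h
      apply hcl
      have : closure ({x} : Set X) = {x} :=
        Set.Subset.antisymm (fun y hy => h y hy) subset_closure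
      rw [← this]; exact isClosed_closure
    obtain ⟨y, hy, hyx⟩ := hex
    have h1 : Groth.Agent.Lib.helper7.DimLift.clPt y < Groth.Agent.Lib.helper7.DimLift.clPt x :=
      Groth.Agent.Lib.helper7.DimLift.clPt_lt (specializes_iff_mem_closure.mpr hy) (Ne.symm hyx)
    have h2 : Groth.Agent.Lib.helper7.DimLift.clPt x < Groth.Agent.Lib.helper7.DimLift.clPt η :=
      Groth.Agent.Lib.helper7.DimLift.clPt_lt (hgen.specializes (Set.mem_univ x)) (Ne.symm hx)
    let p : LTSeries (TopologicalSpace.IrreducibleCloseds X) :=
      ((RelSeries.singleton _ (Groth.Agent.Lib.helper7.DimLift.clPt y)).snoc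
        (Groth.Agent.Lib.helper7.DimLift.clPt x) h1).snoc
        (Groth.Agent.Lib.helper7.DimLift.clPt η) (by simpa using h2)
    have hlen : p.length = 2 := by simp [p]
    have hle := Order.LTSeries.length_le_krullDim p
    rw [hlen] at hle
    have h3 : ((2 : ℕ) : WithBot ℕ∞) ≤ 1 := by
      calc ((2 : ℕ) : WithBot ℕ∞) ≤ Order.krullDim (TopologicalSpace.IrreducibleCloseds X) := hle
        _ = 1 := hX
    exact absurd h3 (by norm_cast)
  have F2 : ∀ C : Set X, IsClosed C → η ∉ C →
      C.Finite ∧ ∀ x ∈ C, IsClosed ({x} : Set X) := by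
    intro C hC hηC
    have hpts : ∀ x ∈ C, IsClosed ({x} : Set X) :=
      fun x hx => F1 x (fun h => hηC (h ▸ hx))
    refine ⟨?_, hpts⟩
    obtain ⟨S, hSf, hSc, hSi, rfl⟩ :=
      TopologicalSpace.NoetherianSpace.exists_finite_set_isClosed_irreducible hC
    refine Set.Finite.sUnion hSf fun t ht => ?_
    obtain ⟨z, hz⟩ := QuasiSober.sober (hSi t ht) (hSc t ht)
    have hzt : z ∈ t := hz.mem
    have hzC : z ∈ ⋃₀ S := ⟨t, ht, hzt⟩
    have : t = {z} := by rw [← hz.def, (hpts z hzC).closure_eq]
    rw [this]; exact Set.finite_singleton z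
  induction hs using Topology.IsConstructible.empty_union_induction with
  | open_retrocompact U hU _ =>
    by_cases hne : U.Nonempty
    · right
      refine F2 Uᶜ hU.isClosed_compl ?_
      intro h
      exact h ((hgen.mem_open_set_iff hU).2 (by simpa using hne))
    · left
      rw [Set.not_nonempty_iff_eq_empty] at hne
      rw [hne]
      exact ⟨Set.finite_empty, fun x hx => absurd hx (Set.notMem_empty x)⟩
  | union s _ t _ hs ht =>
    rcases hs with ⟨h1, h2⟩ | ⟨h1, h2⟩
    · rcases ht with ⟨h3, h4⟩ | ⟨h3, h4⟩
      · left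
        exact ⟨h1.union h3, fun x hx => hx.elim (h2 x) (h4 x)⟩
      · right
        have hsub : (s ∪ t)ᶜ ⊆ tᶜ := Set.compl_subset_compl.mpr Set.subset_union_right
        exact ⟨h3.subset hsub, fun x hx => h4 x (hsub hx)⟩
    · right
      have hsub : (s ∪ t)ᶜ ⊆ sᶜ := Set.compl_subset_compl.mpr Set.subset_union_left
      exact ⟨h1.subset hsub, fun x hx => h2 x (hsub hx)⟩
  | compl s _ hs =>
    rcases hs with h | h
    · right
      rwa [compl_compl]
    · left
      exact h

end Groth.Agent.S10886
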