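import Groth.Statements.S10887
import Mathlib
import Groth.Agent.Lib.helper6.EtaleDedekind
import Groth.Agent.Lib.helper7.DimBC
import Groth.Agent.Lib.helper7.DimSch3

set_option autoImplicit false
universe u
open CategoryTheory AlgebraicGeometry
open FlatMor

namespace Groth.Agent.S10887

section Aux
open AlgebraicGeometry CategoryTheory

theorem flat_of_minimalPrimes (R B : Type u) [CommRing R] [CommRing B] [Algebra R B] [IsDomain R]
    [IsRegularLocalRing R] (hd : ringKrullDim R ≤ 1) [IsReduced B]
    (h : ∀ P ∈ minimalPrimes B, Ideal.comap (algebraMap R B) P = ⊥) : Module.Flat R B := by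
  by_cases hF : IsField R
  · letI := hF.toField
    infer_instance
  · obtain ⟨_, hdvr⟩ := Groth.Agent.Lib.helper6.EtaleDedekind.dvr_of_regular R hd hF
    haveI : Module.IsTorsionFree R B := by
      refine ⟨fun r hr b1 b2 hb => ?_⟩
      have hr0 : r ≠ 0 := hr.ne_zero
      have hd : algebraMap R B r * (b1 - b2) = 0 := by
        have : r • b1 = r • b2 := hb
        rw [Algebra.smul_def, Algebra.smul_def] at this
        rw [mul_sub, this, sub_self]
      have hmem : b1 - b2 ∈ nilradical B := by
        rw [nilradical, ← Ideal.sInf_minimalPrimes, Ideal.mem_sInf]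
        intro P hP
        have hPprime : P.IsPrime := hP.1.1
        have h0 : algebraMap R B r * (b1 - b2) ∈ P := hd ▸ P.zero_mem
        rcases hPprime.mem_or_mem h0 with h1 | h1
        · exfalso
          have : r ∈ Ideal.comap (algebraMap R B) P := h1
          rw [h P hP] at this
          exact hr0 this
        · exact h1
      rw [nilradical_eq_zero] at hmem
      exact sub_eq_zero.mp hmem
    infer_instance

theorem main {X Y : Scheme.{u}} [IsIntegral Y]
    [IsNoetherian Y] (hreg : ∀ y : Y, IsRegularLocalRing (Y.presheaf.stalk y))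
    (hdim : topologicalKrullDim Y ≤ 1) (f : X ⟶ Y) [IsReduced X] :
    Flat f ↔ ∀ Z ∈ irreducibleComponents (X : Type u), Dense (f.base '' Z) := by
  constructor
  · intro hf Z hZ
    have hZc : IsClosed Z := isClosed_of_mem_irreducibleComponents Z hZ
    obtain ⟨ξ, hξ⟩ := QuasiSober.sober hZ.1 hZc
    have hcl : closure ({ξ} : Set X) = Z := hξ
    have hmax : ∀ x' : X, x' ⤳ ξ → x' = ξ := by
      rw [← Groth.Agent.Lib.helper7.DimSch.closure_mem_irreducibleComponents_iff, hcl]
      exact hZ
    have hgen : GeneralizingMap f.base := Flat.generalizingMap f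
    obtain ⟨x', hx', hfx'⟩ := hgen (genericPoint_specializes (f.base ξ))
    have hx'ξ : x' = ξ := hmax x' hx'
    rw [hx'ξ] at hfx'
    rw [dense_iff_closure_eq]
    apply Set.eq_univ_of_univ_subset
    have h1 : closure ({genericPoint Y} : Set Y) = Set.univ := (genericPoint_spec Y).def
    rw [← h1]
    refine closure_mono ?_
    rintro _ rfl
    exact ⟨ξ, hcl ▸ subset_closure rfl, hfx'⟩
  · intro h
    rw [Flat.iff_flat_stalkMap]
    intro x
    algebraize [(f.stalkMap x).hom]
    haveI := hreg (f.base x)
    refine flat_of_minimalPrimes (Y.presheaf.stalk (f.base x)) (X.presheaf.stalk x)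
      ((Groth.Agent.Lib.helper7.DimBC.ringKrullDim_stalk_le_topologicalKrullDim Y _).trans hdim) ?_
    intro P hP
    haveI hPprime : P.IsPrime := hP.1.1
    -- the point of X corresponding to P
    let p : PrimeSpectrum (X.presheaf.stalk x) := ⟨P, hPprime⟩
    let ξ : X := (X.fromSpecStalk x).base p
    have hξx : ξ ⤳ x := by
      have : ξ ∈ Set.range (X.fromSpecStalk x).base := ⟨p, rfl⟩
      rwa [Scheme.range_fromSpecStalk] at this
    have hmax : ∀ x' : X, x' ⤳ ξ → x' = ξ := by
      intro x' hx'
      have : x' ∈ Set.range (X.fromSpecStalk x).base := by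
        rw [Scheme.range_fromSpecStalk]; exact hx'.trans hξx
      obtain ⟨p', rfl⟩ := this
      have hsp : p' ⤳ p := (X.fromSpecStalk x).isEmbedding.isInducing.specializes_iff.mp hx'
      have hle : p'.asIdeal ≤ P := (PrimeSpectrum.le_iff_specializes p' p).mpr hsp
      have heq : p'.asIdeal = P := le_antisymm hle (hP.2 ⟨p'.2, bot_le⟩ hle)
      have : p' = p := PrimeSpectrum.ext heq
      rw [this]
    have hcomp : closure ({ξ} : Set X) ∈ irreducibleComponents X :=
      (Groth.Agent.Lib.helper7.DimSch.closure_mem_irreducibleComponents_iff ξ).mpr hmax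
    have hdense := h _ hcomp
    have hfξ : f.base ξ = genericPoint Y := by
      have h1 : closure ({f.base ξ} : Set Y) = ⊤ := by
        rw [← top_le_iff]
        have h2 : closure (f.base '' closure ({ξ} : Set X)) = Set.univ := hdense.closure_eq
        calc (⊤ : Set Y) = closure (f.base '' closure ({ξ} : Set X)) := h2.symm
          _ ⊆ closure (closure (f.base '' {ξ})) :=
            closure_mono (image_closure_subset_closure_image f.continuous)
          _ = closure {f.base ξ} := by rw [closure_closure, Set.image_singleton]
      exact ((genericPoint_spec Y).eq (show IsGenericPoint (f.base ξ) ⊤ from h1)).symm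
    -- the prime comap P corresponds to f ξ
    have hnat := Scheme.SpecMap_stalkMap_fromSpecStalk f (x := x)
    have h3 : (Y.fromSpecStalk (f.base x)).base
        (PrimeSpectrum.comap (f.stalkMap x).hom p) = f.base ξ := by
      have := congrArg (fun g => g.base p) hnat
      exact this
    let b0 : PrimeSpectrum (Y.presheaf.stalk (f.base x)) := ⟨⊥, Ideal.isPrime_bot⟩
    have h4 : (Y.fromSpecStalk (f.base x)).base b0 = genericPoint Y := by
      have hsp : genericPoint Y ⤳ (Y.fromSpecStalk (f.base x)).base b0 :=
        genericPoint_specializes _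
      have : genericPoint Y ∈ Set.range (Y.fromSpecStalk (f.base x)).base := by
        rw [Scheme.range_fromSpecStalk]; exact genericPoint_specializes _
      obtain ⟨q, hq⟩ := this
      have h5 : b0 ⤳ q :=
        (PrimeSpectrum.le_iff_specializes b0 q).mp (show (⊥ : Ideal _) ≤ q.asIdeal from bot_le)
      have h6 := h5.map (Y.fromSpecStalk (f.base x)).continuous
      rw [hq] at h6
      exact (h6.antisymm hsp).eq
    have h7 : PrimeSpectrum.comap (f.stalkMap x).hom p = b0 :=
      (Y.fromSpecStalk (f.base x)).isEmbedding.injective (h3.trans (hfξ.trans h4.symm))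
    exact congrArg PrimeSpectrum.asIdeal h7

end Aux

/-- (i) ⇔ (iii): let Y be a Dedekind scheme — an integral Noetherian scheme of dimension at most one all
of whose local rings are regular — and f : X → Y a morphism of schemes with X reduced. Then f is
flat if and only if every irreducible component of X dominates Y. (Without reducedness only the
forward implication holds.) -/
theorem result {X Y : Scheme.{u}} [IsIntegral Y]
    [IsNoetherian Y] (hreg : ∀ y : Y, IsRegularLocalRing (Y.presheaf.stalk y)) (hdim : topologicalKrullDim Y ≤ 1)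
    (f : X ⟶ Y) [IsReduced X] :
    Flat f ↔ ∀ Z ∈ irreducibleComponents (X : Type u), Dense (f.base '' Z) := by
  exact main hreg hdim f
end Groth.Agent.S10887
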