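import Groth.Statements.S12908
import Mathlib

set_option autoImplicit false
universe u
open CAlgX

namespace Groth.Agent.S12908aux

open Matrix
open scoped Pointwise

variable {R : Type u} [CommRing R] {t : ℕ}

/-- signed maximal minor -/
noncomputable def Δ (Ψ : Matrix (Fin (t + 1)) (Fin t) R) (i : Fin (t + 1)) : R :=
  (-1 : R) ^ (i : ℕ) * (Ψ.submatrix i.succAbove id).det

/-- the bordered matrix `[x | Ψ]` -/
def bord (Ψ : Matrix (Fin (t + 1)) (Fin t) R) (x : Fin (t + 1) → R) :
    Matrix (Fin (t + 1)) (Fin (t + 1)) R :=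
  fun i k => Fin.cases (x i) (fun k' => Ψ i k') k

theorem bord_sub (Ψ : Matrix (Fin (t + 1)) (Fin t) R) (x : Fin (t + 1) → R) (i : Fin (t + 1)) :
    (bord Ψ x).submatrix i.succAbove Fin.succ = Ψ.submatrix i.succAbove id := by
  ext a b
  simp [bord, Matrix.submatrix]

theorem det_bord (Ψ : Matrix (Fin (t + 1)) (Fin t) R) (x : Fin (t + 1) → R) :
    (bord Ψ x).det = ∑ i, Δ Ψ i * x i := by
  rw [Matrix.det_succ_column_zero]
  apply Finset.sum_congr rfl
  intro i _
  rw [bord_sub]
  simp only [bord, Fin.cases_zero, Δ]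
  ring

theorem cramer (Ψ : Matrix (Fin (t + 1)) (Fin t) R) (x : Fin (t + 1) → R) (j : Fin (t + 1)) :
    Δ Ψ j • x = (∑ i, Δ Ψ i * x i) • Pi.single j (1 : R)
      - Ψ.mulVecLin (fun l => (bord Ψ x).adjugate l.succ j) := by
  have h := Matrix.mul_adjugate (bord Ψ x)
  funext r
  have hr := congrFun (congrFun h r) j
  rw [Matrix.mul_apply, Fin.sum_univ_succ] at hr
  have h0 : (bord Ψ x).adjugate 0 j = Δ Ψ j := by
    rw [Matrix.adjugate_fin_succ_eq_det_submatrix]
    have : (bord Ψ x).submatrix j.succAbove (0 : Fin (t + 1)).succAbove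
        = Ψ.submatrix j.succAbove id := by
      rw [← bord_sub Ψ x j]
      congr 1
    rw [this]
    simp [Δ]
  rw [h0, det_bord, Matrix.smul_apply, Matrix.one_apply, smul_eq_mul] at hr
  simp only [Pi.smul_apply, Pi.sub_apply, smul_eq_mul, Matrix.mulVecLin_apply, Matrix.mulVec,
    dotProduct, Pi.single_apply]
  have e1 : (bord Ψ x) r 0 = x r := by simp [bord]
  have e2 : ∀ l : Fin t, (bord Ψ x) r l.succ = Ψ r l := by intro l; simp [bord]
  rw [e1] at hr
  simp only [e2] at hr
  have hr' : x r * Δ Ψ j = (∑ i, Δ Ψ i * x i) * (if r = j then 1 else 0)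
      - ∑ l : Fin t, Ψ r l * (bord Ψ x).adjugate l.succ j := by
    rw [← hr]; ring
  rw [mul_comm, hr']

theorem det_bord_mulVec (Ψ : Matrix (Fin (t + 1)) (Fin t) R) (v : Fin t → R) :
    ∑ i, Δ Ψ i * (Ψ.mulVec v) i = 0 := by
  have hcol : ∀ j : Fin t, ∑ i, Δ Ψ i * Ψ i j = 0 := by
    intro j
    rw [← det_bord Ψ (fun i => Ψ i j)]
    apply Matrix.det_zero_of_column_eq (i := 0) (j := j.succ) (Fin.succ_ne_zero j).symm
    intro k
    simp [bord]
  simp only [Matrix.mulVec, dotProduct, Finset.mul_sum]
  rw [Finset.sum_comm]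
  apply Finset.sum_eq_zero
  intro j _
  have := hcol j
  calc ∑ i, Δ Ψ i * (Ψ i j * v j) = (∑ i, Δ Ψ i * Ψ i j) * v j := by
        rw [Finset.sum_mul]; apply Finset.sum_congr rfl; intro i _; ring
    _ = 0 := by rw [this, zero_mul]

theorem Δ_smul_eq_zero (Ψ : Matrix (Fin (t + 1)) (Fin t) R) (v : Fin t → R)
    (hv : Ψ.mulVec v = 0) (j : Fin (t + 1)) : Δ Ψ j • v = 0 := by
  have hS : (Ψ.submatrix j.succAbove id).mulVec v = 0 := by
    funext r
    have := congrFun hv (j.succAbove r)
    simpa [Matrix.mulVec, dotProduct] using this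
  have h1 : (Ψ.submatrix j.succAbove id).det • v = 0 := by
    have := congrArg (fun M => Matrix.mulVec M v) (Matrix.adjugate_mul (Ψ.submatrix j.succAbove id))
    simp only [← Matrix.mulVec_mulVec, hS, Matrix.mulVec_zero, Matrix.smul_mulVec,
      Matrix.one_mulVec] at this
    exact this.symm
  rw [Δ, mul_smul, h1, smul_zero]


theorem det_mem (Ψ : Matrix (Fin (t + 1)) (Fin t) R) (i : Fin (t + 1)) :
    (Ψ.submatrix i.succAbove id).det ∈ Ideal.span (Set.range (Δ Ψ)) := by
  have : (Ψ.submatrix i.succAbove id).det = (-1 : R) ^ (i : ℕ) * Δ Ψ i := by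
    rw [Δ, ← mul_assoc, ← pow_add, ← two_mul, pow_mul, neg_one_sq, one_pow, one_mul]
  rw [this]
  exact Ideal.mul_mem_left _ _ (Ideal.subset_span ⟨i, rfl⟩)

theorem minorIdeal_eq (Ψ : Matrix (Fin (t + 1)) (Fin t) R) :
    CAlgX.minorIdeal Ψ t = Ideal.span (Set.range (Δ Ψ)) := by
  classical
  apply le_antisymm
  · rw [CAlgX.minorIdeal, Ideal.span_le]
    rintro _ ⟨⟨f, g⟩, rfl⟩
    simp only
    by_cases hg : Function.Injective g
    · have hgb : Function.Bijective g := Finite.injective_iff_bijective.mp hg
      have h1 : Ψ.submatrix f g = (Ψ.submatrix f id).submatrix id (Equiv.ofBijective g hgb) := by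
        ext a b; rfl
      rw [h1, Matrix.det_permute']
      apply Ideal.mul_mem_left
      by_cases hf : Function.Injective f
      · obtain ⟨i, hi⟩ : ∃ i, ∀ k, f k ≠ i := by
          by_contra hcon
          push Not at hcon
          have hs : Function.Surjective f := fun i => hcon i
          have := Fintype.card_le_of_surjective f hs
          simp at this
        have hex : ∀ k, ∃ l, i.succAbove l = f k := fun k => Fin.exists_succAbove_eq (hi k)
        choose σ hσ using hex
        have hσinj : Function.Injective σ := by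
          intro a b hab
          apply hf
          rw [← hσ a, ← hσ b, hab]
        have hσb : Function.Bijective σ := Finite.injective_iff_bijective.mp hσinj
        have h2 : Ψ.submatrix f id
            = (Ψ.submatrix i.succAbove id).submatrix (Equiv.ofBijective σ hσb) id := by
          ext a b
          simp [hσ]
        rw [h2, Matrix.det_permute]
        exact Ideal.mul_mem_left _ _ (det_mem Ψ i)
      · obtain ⟨a, b, hab, hne⟩ : ∃ a b, f a = f b ∧ a ≠ b := by
          unfold Function.Injective at hf
          push Not at hf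
          exact hf
        rw [Matrix.det_zero_of_row_eq hne (by funext k; simp [hab])]
        exact zero_mem _
    · obtain ⟨a, b, hab, hne⟩ : ∃ a b, g a = g b ∧ a ≠ b := by
        unfold Function.Injective at hg
        push Not at hg
        exact hg
      rw [Matrix.det_zero_of_column_eq hne (by intro k; simp [hab])]
      exact zero_mem _
  · rw [Ideal.span_le]
    rintro _ ⟨i, rfl⟩
    exact Ideal.mul_mem_left _ _ (Ideal.subset_span ⟨(i.succAbove, id), rfl⟩)

/-- consequence of depth ≥ 2 -/
theorem depth_two {I : Ideal R} (h : 2 ≤ LocCoh.idealDepth I R) :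
    I = ⊤ ∨ ∃ a1 a2 : R, a1 ∈ I ∧ a2 ∈ I ∧ IsSMulRegular R a1 ∧
      ∀ y z : R, a2 * y = a1 * z → ∃ w, y = a1 * w := by
  classical
  unfold LocCoh.idealDepth at h
  split_ifs at h with htop
  · left
    rwa [smul_eq_mul, Ideal.mul_top] at htop
  · right
    obtain ⟨rs, hreg, hmem, hlen⟩ : ∃ rs : List R, RingTheory.Sequence.IsWeaklyRegular R rs ∧
        (∀ r ∈ rs, r ∈ I) ∧ 2 ≤ rs.length := by
      by_contra hcon
      push Not at hcon
      have : (⨆ (rs : List R) (_ : RingTheory.Sequence.IsWeaklyRegular R rs ∧ ∀ r ∈ rs, r ∈ I),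
          (rs.length : ℕ∞)) ≤ 1 := by
        apply iSup₂_le
        intro rs hrs
        have := hcon rs hrs.1 hrs.2
        have h1 : rs.length ≤ 1 := by omega
        exact_mod_cast h1
      have h2 : (2 : ℕ∞) ≤ 1 := le_trans h this
      norm_num at h2
    match rs, hreg, hmem, hlen with
    | a1 :: a2 :: rest, hreg, hmem, _ =>
      rw [RingTheory.Sequence.isWeaklyRegular_cons_iff,
        RingTheory.Sequence.isWeaklyRegular_cons_iff] at hreg
      obtain ⟨h1, h2, -⟩ := hreg
      refine ⟨a1, a2, hmem a1 (by simp), hmem a2 (by simp), h1, ?_⟩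
      intro y z hyz
      have h2' := (isSMulRegular_quotient_iff_mem_of_smul_mem _ a2).mp h2 y
      have : y ∈ a1 • (⊤ : Submodule R R) := by
        apply h2'
        rw [Submodule.mem_smul_pointwise_iff_exists]
        exact ⟨z, trivial, by simpa [smul_eq_mul] using hyz.symm⟩
      rw [Submodule.mem_smul_pointwise_iff_exists] at this
      obtain ⟨w, -, hw⟩ := this
      exact ⟨w, by simpa [smul_eq_mul] using hw.symm⟩


theorem main (Ψ : Matrix (Fin (t + 1)) (Fin t) R)
    (hdepth : 2 ≤ LocCoh.idealDepth (CAlgX.minorIdeal Ψ t) R)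
    (a : R) (ha : a ∈ nonZeroDivisors R) :
    LinearMap.ker Ψ.mulVecLin = ⊥ ∧
      LinearMap.ker (Fintype.linearCombination R
          (fun i : Fin (t + 1) => a * ((-1 : R) ^ (i : ℕ) * (Ψ.submatrix i.succAbove id).det))) =
        LinearMap.range Ψ.mulVecLin ∧
      LinearMap.range (Fintype.linearCombination R
          (fun i : Fin (t + 1) => a * ((-1 : R) ^ (i : ℕ) * (Ψ.submatrix i.succAbove id).det))) =
        Ideal.span {a} * CAlgX.minorIdeal Ψ t := by
  classical
  rw [minorIdeal_eq] at hdepth ⊢
  change _ ∧ LinearMap.ker (Fintype.linearCombination R (fun i => a * Δ Ψ i)) = _ ∧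
    LinearMap.range (Fintype.linearCombination R (fun i => a * Δ Ψ i)) = _
  -- annihilation statements
  have hann : ∀ v : Fin t → R, Ψ.mulVec v = 0 → ∀ c ∈ Ideal.span (Set.range (Δ Ψ)), c • v = 0 := by
    intro v hv
    have : Ideal.span (Set.range (Δ Ψ)) ≤ LinearMap.ker (LinearMap.toSpanSingleton R (Fin t → R) v) := by
      rw [Ideal.span_le]
      rintro _ ⟨j, rfl⟩
      simp only [SetLike.mem_coe, LinearMap.mem_ker, LinearMap.toSpanSingleton_apply]
      exact Δ_smul_eq_zero Ψ v hv j
    intro c hc
    have := this hc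
    simpa [LinearMap.mem_ker, LinearMap.toSpanSingleton_apply] using this
  have hrng : ∀ x : Fin (t + 1) → R, ∑ i, Δ Ψ i * x i = 0 →
      ∀ c ∈ Ideal.span (Set.range (Δ Ψ)), c • x ∈ LinearMap.range Ψ.mulVecLin := by
    intro x hx
    have : Ideal.span (Set.range (Δ Ψ)) ≤
        Submodule.comap (LinearMap.toSpanSingleton R (Fin (t + 1) → R) x)
          (LinearMap.range Ψ.mulVecLin) := by
      rw [Ideal.span_le]
      rintro _ ⟨j, rfl⟩
      simp only [SetLike.mem_coe, Submodule.mem_comap, LinearMap.toSpanSingleton_apply]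
      rw [cramer Ψ x j, hx, zero_smul, zero_sub]
      exact Submodule.neg_mem _ (LinearMap.mem_range_self _ _)
    intro c hc
    have := this hc
    simpa [Submodule.mem_comap, LinearMap.toSpanSingleton_apply] using this
  -- injectivity
  have hinj : ∀ v : Fin t → R, Ψ.mulVec v = 0 → v = 0 := by
    intro v hv
    rcases depth_two hdepth with htop | ⟨a1, a2, h1, -, hreg, -⟩
    · have := hann v hv 1 (by rw [htop]; trivial)
      simpa using this
    · have := hann v hv a1 h1
      funext l
      have hl := congrFun this l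
      simp only [Pi.smul_apply, smul_eq_mul, Pi.zero_apply] at hl
      exact hreg (by simpa [smul_eq_mul] using hl)
  have hker : LinearMap.ker Ψ.mulVecLin = ⊥ := by
    rw [LinearMap.ker_eq_bot']
    intro v hv
    exact hinj v (by simpa using hv)
  refine ⟨hker, ?_, ?_⟩
  · apply le_antisymm
    · intro x hx
      rw [LinearMap.mem_ker, Fintype.linearCombination_apply] at hx
      have hx0 : ∑ i, Δ Ψ i * x i = 0 := by
        have : (∑ i, Δ Ψ i * x i) * a = 0 := by
          rw [← hx, Finset.sum_mul]
          apply Finset.sum_congr rfl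
          intro i _
          simp only [smul_eq_mul]; ring
        exact (mem_nonZeroDivisors_iff_right.mp ha) _ this
      have hc := hrng x hx0
      rcases depth_two hdepth with htop | ⟨a1, a2, h1, h2, hreg, hreg2⟩
      · have := hc 1 (by rw [htop]; trivial)
        simpa using this
      · obtain ⟨u1, hu1⟩ := hc a1 h1
        obtain ⟨u2, hu2⟩ := hc a2 h2
        have hdiff : a2 • u1 = a1 • u2 := by
          have : Ψ.mulVec (a2 • u1 - a1 • u2) = 0 := by
            rw [Matrix.mulVec_sub, Matrix.mulVec_smul, Matrix.mulVec_smul]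
            rw [Matrix.mulVecLin_apply] at hu1 hu2
            rw [hu1, hu2, smul_smul, smul_smul, mul_comm, sub_self]
          exact sub_eq_zero.mp (hinj _ this)
        have hw : ∀ l, ∃ w, u1 l = a1 * w := by
          intro l
          have := congrFun hdiff l
          simp only [Pi.smul_apply, smul_eq_mul] at this
          exact hreg2 _ _ this
        choose w hw using hw
        refine ⟨w, ?_⟩
        have hu1' : u1 = a1 • w := by funext l; simp [hw l]
        rw [hu1', Matrix.mulVecLin_apply, Matrix.mulVec_smul] at hu1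
        funext r
        have := congrFun hu1 r
        simp only [Pi.smul_apply, smul_eq_mul] at this
        rw [Matrix.mulVecLin_apply]
        exact hreg (by simpa [smul_eq_mul] using this)
    · rintro _ ⟨v, rfl⟩
      rw [LinearMap.mem_ker, Fintype.linearCombination_apply, Matrix.mulVecLin_apply]
      have := det_bord_mulVec Ψ v
      calc ∑ i, (Ψ.mulVec v) i • (a * Δ Ψ i) = a * ∑ i, Δ Ψ i * (Ψ.mulVec v) i := by
            rw [Finset.mul_sum]; apply Finset.sum_congr rfl; intro i _
            simp only [smul_eq_mul]; ring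
        _ = 0 := by rw [this, mul_zero]
  · rw [Fintype.range_linearCombination, Ideal.span_mul_span', Set.singleton_mul, ← Set.range_comp]
    rfl

end Groth.Agent.S12908aux

namespace Groth.Agent.S12908

/-- Let R be a Noetherian ring, t a natural number, Ψ a (t+1) × t matrix over R such that the
I_t(Ψ)-depth of R is at least 2, where I_t(Ψ) is the ideal generated by the t × t minors of Ψ, and a
a non-zero-divisor of R. Put Δ_i = a · (-1)^i det Ψ_i, where Ψ_i is Ψ with row i deleted. Then 0 →
R^t → R^{t+1} → R, with first map Ψ and second map v ↦ Σ_i Δ_i v_i, is exact: Ψ is injective and the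
kernel of the second map equals the image of Ψ; moreover the image of the second map is the ideal a
· I_t(Ψ). (The published statement adds that this ideal has depth 2 exactly when a is a unit; that
clause is not stated here.) -/
theorem result {R : Type u} [CommRing R] [IsNoetherianRing R] (t : ℕ)
    (Ψ : Matrix (Fin (t + 1)) (Fin t) R) (hdepth : 2 ≤ LocCoh.idealDepth (CAlgX.minorIdeal Ψ t) R)
    (a : R) (ha : a ∈ nonZeroDivisors R) :
    LinearMap.ker Ψ.mulVecLin = ⊥ ∧
      LinearMap.ker (Fintype.linearCombination R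
          (fun i : Fin (t + 1) => a * ((-1 : R) ^ (i : ℕ) * (Ψ.submatrix i.succAbove id).det))) =
        LinearMap.range Ψ.mulVecLin ∧
      LinearMap.range (Fintype.linearCombination R
          (fun i : Fin (t + 1) => a * ((-1 : R) ^ (i : ℕ) * (Ψ.submatrix i.succAbove id).det))) =
        Ideal.span {a} * CAlgX.minorIdeal Ψ t := by
  exact Groth.Agent.S12908aux.main Ψ hdepth a ha

end Groth.Agent.S12908
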