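import Groth.Statements.S10890
import Mathlib
import Groth.Agent.Lib.helper27.Fitting
import Groth.Agent.S12908

set_option autoImplicit false
universe u
open CAlgX

namespace Groth.Agent.S10890aux

open Matrix Groth.Agent.Lib.helper27.Fitting

variable {R : Type u} [CommRing R]

/-- minors of `L * A` lie in the ideal of minors of `A`. -/
theorem minorIdeal_mul_left_le {p n m : ℕ} (L : Matrix (Fin p) (Fin n) R)
    (A : Matrix (Fin n) (Fin m) R) (r : ℕ) :
    CAlgX.minorIdeal (L * A) r ≤ CAlgX.minorIdeal A r := by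
  rw [CAlgX.minorIdeal, Ideal.span_le]
  rintro _ ⟨⟨f, g⟩, rfl⟩
  simp only [SetLike.mem_coe]
  -- rows of the r×r matrix lie in the span of rows of `A.submatrix id g`
  have hrow : ∀ a : Fin r, ((L * A).submatrix f g) a ∈
      Submodule.span R (Set.range fun i : Fin n => (A.submatrix id g) i) := by
    intro a
    have : ((L * A).submatrix f g) a = ∑ i, L (f a) i • (A.submatrix id g) i := by
      funext b
      simp [Matrix.mul_apply, Finset.sum_apply]
    rw [this]
    exact Submodule.sum_mem _ fun i _ => Submodule.smul_mem _ _ (Submodule.subset_span ⟨i, rfl⟩)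
  have := multilinear_mem_span (R := R)
    (Matrix.detRowAlternating (R := R) (n := Fin r)).toMultilinearMap
    (Set.range fun i : Fin n => (A.submatrix id g) i) ((L * A).submatrix f g) hrow
  refine Ideal.span_le.mpr ?_ this
  rintro d ⟨e, he, rfl⟩
  choose e' he' using he
  have : e = (A.submatrix e' g) := by
    funext a
    rw [← he' a]
    rfl
  rw [this]
  exact Ideal.subset_span ⟨(e', g), rfl⟩

theorem minorIdeal_transpose {n m : ℕ} (A : Matrix (Fin n) (Fin m) R) (r : ℕ) :
    CAlgX.minorIdeal A.transpose r = CAlgX.minorIdeal A r := by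
  apply le_antisymm
  · rw [CAlgX.minorIdeal, Ideal.span_le]
    rintro _ ⟨⟨f, g⟩, rfl⟩
    refine Ideal.subset_span ⟨(g, f), ?_⟩
    simp only
    rw [← Matrix.det_transpose]
    rfl
  · rw [CAlgX.minorIdeal, Ideal.span_le]
    rintro _ ⟨⟨f, g⟩, rfl⟩
    refine Ideal.subset_span ⟨(g, f), ?_⟩
    simp only
    rw [← Matrix.det_transpose]
    rfl

theorem minorIdeal_mul_right_le {p n m : ℕ} (A : Matrix (Fin n) (Fin m) R)
    (D : Matrix (Fin m) (Fin p) R) (r : ℕ) :
    CAlgX.minorIdeal (A * D) r ≤ CAlgX.minorIdeal A r := by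
  rw [← minorIdeal_transpose (A * D), Matrix.transpose_mul, ← minorIdeal_transpose A]
  exact minorIdeal_mul_left_le _ _ r


theorem minorIdeal_eq_bot_of_lt {n m : ℕ} (B : Matrix (Fin n) (Fin m) R) {r : ℕ} (h : m < r) :
    CAlgX.minorIdeal B r = ⊥ := by
  rw [CAlgX.minorIdeal, Ideal.span_eq_bot]
  rintro _ ⟨⟨f, g⟩, rfl⟩
  simp only
  obtain ⟨a, b, hab, hne⟩ : ∃ a b, a ≠ b ∧ g a = g b := by
    have := Fintype.exists_ne_map_eq_of_card_lt g (by simpa using h)
    exact this
  exact Matrix.det_zero_of_column_eq hab (by intro k; simp [hne])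

theorem forward [IsLocalRing R] {n m r : ℕ} (A : Matrix (Fin n) (Fin m) R)
    (N' : Submodule R (Fin n → R)) (hc : IsCompl (LinearMap.range A.mulVecLin) N')
    (hr : Module.finrank R (LinearMap.range A.mulVecLin) = r) :
    CAlgX.minorIdeal A (r + 1) = ⊥ ∧ CAlgX.minorIdeal A r = ⊤ := by
  classical
  set Q := LinearMap.range A.mulVecLin with hQ
  let proj : (Fin n → R) →ₗ[R] Q := Submodule.linearProjOfIsCompl Q N' hc
  have hproj : proj ∘ₗ Q.subtype = LinearMap.id := by
    refine LinearMap.ext fun x => ?_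
    exact Submodule.linearProjOfIsCompl_apply_left hc x
  haveI : Module.Projective R Q := Module.Projective.of_split Q.subtype proj hproj
  haveI : Module.Finite R Q := Module.Finite.range _
  haveI : Module.Free R Q := Module.free_of_flat_of_isLocalRing
  let b : Module.Basis (Fin r) R Q := Module.finBasisOfFinrankEq R Q hr
  let β : (Fin r → R) →ₗ[R] (Fin n → R) := Q.subtype ∘ₗ b.equivFun.symm.toLinearMap
  let γ : (Fin m → R) →ₗ[R] (Fin r → R) := b.equivFun.toLinearMap ∘ₗ A.mulVecLin.rangeRestrict
  let ℓ : (Fin n → R) →ₗ[R] (Fin r → R) := b.equivFun.toLinearMap ∘ₗ proj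
  have hβγ : β ∘ₗ γ = A.mulVecLin := by
    refine LinearMap.ext fun x => ?_
    simp [β, γ]
  have hℓβ : ℓ ∘ₗ β = LinearMap.id := by
    refine LinearMap.ext fun x => ?_
    have := LinearMap.congr_fun hproj (b.equivFun.symm x)
    simp only [LinearMap.coe_comp, Function.comp_apply, LinearMap.id_coe, id_eq] at this
    change b.equivFun (proj (Q.subtype (b.equivFun.symm x))) = x
    rw [this, LinearEquiv.apply_symm_apply]
  have hγs : Function.Surjective γ := by
    have h1 : Function.Surjective A.mulVecLin.rangeRestrict := LinearMap.surjective_rangeRestrict _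
    exact b.equivFun.surjective.comp h1
  clear_value β γ ℓ
  obtain ⟨δ, hδ⟩ := Module.projective_lifting_property γ LinearMap.id hγs
  have hA : A = LinearMap.toMatrix' β * LinearMap.toMatrix' γ := by
    rw [← LinearMap.toMatrix'_comp, hβγ, ← Matrix.toLin'_apply', LinearMap.toMatrix'_toLin']
  constructor
  · rw [hA]
    apply le_bot_iff.mp
    refine le_trans (minorIdeal_mul_right_le _ _ _) ?_
    rw [minorIdeal_eq_bot_of_lt _ (Nat.lt_succ_self r)]
  · have h1 : LinearMap.toMatrix' ℓ * A * LinearMap.toMatrix' δ = 1 := by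
      rw [hA, ← LinearMap.toMatrix'_comp, ← LinearMap.toMatrix'_comp, ← LinearMap.toMatrix'_comp,
        ← LinearMap.toMatrix'_id]
      congr 1
      refine LinearMap.ext fun x => ?_
      have e1 : γ (δ x) = x := LinearMap.congr_fun hδ x
      have e2 : ℓ (β x) = x := LinearMap.congr_fun hℓβ x
      simp only [LinearMap.comp_apply, LinearMap.id_apply]
      rw [e1, e2]
    have h2 : (1 : R) ∈ CAlgX.minorIdeal (LinearMap.toMatrix' ℓ * A * LinearMap.toMatrix' δ) r := by
      refine Ideal.subset_span ⟨(id, id), ?_⟩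
      simp only
      rw [h1]
      simp
    have h3 := minorIdeal_mul_left_le (LinearMap.toMatrix' ℓ) A r
      (minorIdeal_mul_right_le _ (LinearMap.toMatrix' δ) r h2)
    exact (Ideal.eq_top_iff_one _).mpr h3


theorem exists_isUnit_of_span_eq_top [IsLocalRing R] (S : Set R) (h : Ideal.span S = ⊤) :
    ∃ s ∈ S, IsUnit s := by
  by_contra hcon
  push Not at hcon
  have : Ideal.span S ≤ IsLocalRing.maximalIdeal R := by
    rw [Ideal.span_le]
    intro s hs
    exact (IsLocalRing.mem_maximalIdeal s).mpr (hcon s hs)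
  rw [h] at this
  exact (IsLocalRing.maximalIdeal.isMaximal R).ne_top (top_le_iff.mp this)

open Groth.Agent.S12908aux in
/-- the key Cramer step: every column of `A` is a combination of the columns `g`. -/
theorem column_mem {n m r : ℕ} (A : Matrix (Fin n) (Fin m) R)
    (h1 : CAlgX.minorIdeal A (r + 1) = ⊥) (f : Fin r → Fin n) (g : Fin r → Fin m)
    (hP : IsUnit (A.submatrix f g).det) (k : Fin m) :
    ∃ y : Fin r → R, ∀ i : Fin n, A i k = ∑ b, A i (g b) * y b := by
  classical
  set P := A.submatrix f g with hPdef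
  refine ⟨P⁻¹.mulVec (fun a => A (f a) k), ?_⟩
  intro i
  let F : Fin (r + 1) → Fin n := Fin.snoc (α := fun _ => Fin n) f i
  let Ψ : Matrix (Fin (r + 1)) (Fin r) R := fun a b => A (F a) (g b)
  let x : Fin (r + 1) → R := fun a => A (F a) k
  have hbord : bord Ψ x = A.submatrix F (Fin.cons (α := fun _ => Fin m) k g) := by
    ext a b
    refine Fin.cases ?_ (fun b' => ?_) b
    · simp [bord, x]
    · simp [bord, Ψ]
  have hdet0 : ∑ i, Δ Ψ i * x i = 0 := by
    rw [← det_bord, hbord]
    have : (A.submatrix F (Fin.cons (α := fun _ => Fin m) k g)).det ∈ CAlgX.minorIdeal A (r + 1) :=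
      Ideal.subset_span ⟨(F, Fin.cons (α := fun _ => Fin m) k g), rfl⟩
    rw [h1] at this
    simpa using this
  have hc := cramer Ψ x (Fin.last r)
  rw [hdet0, zero_smul, zero_sub] at hc
  have hΔ : Δ Ψ (Fin.last r) = (-1 : R) ^ r * P.det := by
    unfold Δ
    congr 2
    ext a b
    simp [Ψ, F, P, Fin.succAbove_last]
  have hu : IsUnit (Δ Ψ (Fin.last r)) := by
    rw [hΔ]
    exact (IsUnit.pow r isUnit_one.neg).mul hP
  obtain ⟨u', hu'⟩ := hu.exists_left_inv
  set w : Fin r → R := fun l => (bord Ψ x).adjugate l.succ (Fin.last r) with hw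
  set w' : Fin r → R := -(u' • w) with hw'
  have hx : x = Ψ.mulVec w' := by
    have : u' • (Δ Ψ (Fin.last r) • x) = u' • (-(Ψ.mulVecLin w)) := by rw [hc]
    rw [smul_smul, hu', one_smul] at this
    rw [this, hw', Matrix.mulVecLin_apply, Matrix.mulVec_neg, Matrix.mulVec_smul, smul_neg]
  have hP1 : P.mulVec w' = fun a => A (f a) k := by
    funext a
    have := congrFun hx a.castSucc
    simp only [x, F, Fin.snoc_castSucc] at this
    rw [this]
    simp [Matrix.mulVec, dotProduct, Ψ, F, P]
  have hw'y : w' = P⁻¹.mulVec (fun a => A (f a) k) := by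
    rw [← hP1, Matrix.mulVec_mulVec, Matrix.nonsing_inv_mul P hP, Matrix.one_mulVec]
  have := congrFun hx (Fin.last r)
  simp only [x, F, Fin.snoc_last] at this
  rw [this, ← hw'y]
  simp [Matrix.mulVec, dotProduct, Ψ, F]


theorem backward [IsLocalRing R] {n m r : ℕ} (A : Matrix (Fin n) (Fin m) R)
    (h1 : CAlgX.minorIdeal A (r + 1) = ⊥) (h2 : CAlgX.minorIdeal A r = ⊤) :
    ∃ N' : Submodule R (Fin n → R), IsCompl (LinearMap.range A.mulVecLin) N' ∧
        Module.finrank R (LinearMap.range A.mulVecLin) = r := by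
  classical
  obtain ⟨_, ⟨⟨f, g⟩, rfl⟩, hP⟩ := exists_isUnit_of_span_eq_top _ h2
  simp only at hP
  set P := A.submatrix f g with hPdef
  set B : Matrix (Fin n) (Fin r) R := A.submatrix id g with hB
  -- ranges agree
  have hrange : LinearMap.range A.mulVecLin = LinearMap.range B.mulVecLin := by
    rw [Matrix.range_mulVecLin, Matrix.range_mulVecLin]
    apply le_antisymm
    · rw [Submodule.span_le]
      rintro _ ⟨k, rfl⟩
      obtain ⟨y, hy⟩ := column_mem A h1 f g hP k
      have : A.col k = ∑ b, y b • B.col b := by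
        funext i
        rw [Matrix.col_apply, hy i, Finset.sum_apply]
        apply Finset.sum_congr rfl
        intro b _
        simp [B, Matrix.col_apply, mul_comm]
      rw [this]
      exact Submodule.sum_mem _ fun b _ => Submodule.smul_mem _ _ (Submodule.subset_span ⟨b, rfl⟩)
    · apply Submodule.span_mono
      rintro _ ⟨b, rfl⟩
      exact ⟨g b, rfl⟩
  let π : (Fin n → R) →ₗ[R] (Fin r → R) := LinearMap.funLeft R R f
  have hπB : ∀ w : Fin r → R, π (B.mulVec w) = P.mulVec w := by
    intro w
    funext a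
    simp [π, LinearMap.funLeft_apply, Matrix.mulVec, dotProduct, B, P]
  have hPinj : ∀ w : Fin r → R, P.mulVec w = 0 → w = 0 := by
    intro w hw
    have := congrArg (P⁻¹.mulVec) hw
    rwa [Matrix.mulVec_mulVec, Matrix.nonsing_inv_mul P hP, Matrix.one_mulVec,
      Matrix.mulVec_zero] at this
  have hBinj : Function.Injective B.mulVecLin := by
    rw [injective_iff_map_eq_zero]
    intro w hw
    apply hPinj
    rw [← hπB, ← Matrix.mulVecLin_apply, hw, map_zero]
  refine ⟨LinearMap.ker π, ?_, ?_⟩
  · rw [hrange]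
    constructor
    · rw [Submodule.disjoint_def]
      rintro v ⟨w, rfl⟩ hv
      rw [LinearMap.mem_ker, Matrix.mulVecLin_apply, hπB] at hv
      rw [hPinj w hv, map_zero]
    · rw [codisjoint_iff, eq_top_iff]
      intro v _
      have hv : v = B.mulVecLin (P⁻¹.mulVec (π v)) + (v - B.mulVecLin (P⁻¹.mulVec (π v))) := by
        abel
      rw [hv]
      apply Submodule.add_mem_sup (LinearMap.mem_range_self _ _)
      rw [LinearMap.mem_ker, map_sub, Matrix.mulVecLin_apply, hπB, Matrix.mulVec_mulVec,
        Matrix.mul_nonsing_inv P hP, Matrix.one_mulVec, sub_self]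
  · rw [hrange]
    have e := LinearEquiv.ofInjective B.mulVecLin hBinj
    rw [← e.finrank_eq]
    simp

theorem main (R : Type u) [CommRing R] [IsLocalRing R] (n m r : ℕ)
    (A : Matrix (Fin n) (Fin m) R) :
    (∃ N' : Submodule R (Fin n → R), IsCompl (LinearMap.range (Matrix.mulVecLin A)) N' ∧
        Module.finrank R (LinearMap.range (Matrix.mulVecLin A)) = r) ↔
      (CAlgX.minorIdeal A (r + 1) = ⊥ ∧ CAlgX.minorIdeal A r = ⊤) := by
  constructor
  · rintro ⟨N', hc, hr⟩
    exact forward A N' hc hr
  · rintro ⟨h1, h2⟩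
    exact backward A h1 h2

end Groth.Agent.S10890aux

namespace Groth.Agent.S10890

/-- (i) ⇔ (ii): let R be a local ring, A an n × m matrix over R regarded as a linear map R^m → R^n, and
1 ≤ r ≤ n. Then the image of A is a direct summand of R^n of rank r if and only if every (r+1) ×
(r+1) minor of A is zero and the r × r minors of A generate the unit ideal. (The printed statement
is over an arbitrary ring with 'direct summand of rank r'; its proof localises at once, and this row
states the local case, where a direct summand of R^n is free and its rank is its finrank.) -/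
theorem result (R : Type u) [CommRing R] [IsLocalRing R] (n m r : ℕ)
    (hr : 1 ≤ r) (hrn : r ≤ n) (A : Matrix (Fin n) (Fin m) R) :
    (∃ N' : Submodule R (Fin n → R), IsCompl (LinearMap.range (Matrix.mulVecLin A)) N' ∧
        Module.finrank R (LinearMap.range (Matrix.mulVecLin A)) = r) ↔
      (CAlgX.minorIdeal A (r + 1) = ⊥ ∧ CAlgX.minorIdeal A r = ⊤) := by
  exact Groth.Agent.S10890aux.main R n m r A

end Groth.Agent.S10890
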