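import Groth.Statements.S10891
import Mathlib

set_option autoImplicit false
universe u
open CAlg

namespace Groth.Agent.S10891

open MvPolynomial

theorem monomial_eq' {k : Type u} [Field k] (m : Fin 2 →₀ ℕ) (c : k) :
    (monomial m c : MvPolynomial (Fin 2) k) = C c * (X 0 ^ m 0 * X 1 ^ m 1) := by
  rw [monomial_eq, Finsupp.prod_fintype _ _ (by intro i; simp), Fin.prod_univ_two]

theorem sigma_pow {k : Type u} [Field k] (a : ℕ) (ζ : k) (i j : ℕ) :
    MvPolynomial.aeval (fun i : Fin 2 => if i = 0 then MvPolynomial.C ζ⁻¹ * MvPolynomial.X 0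
        else MvPolynomial.C (ζ⁻¹ ^ a) * (MvPolynomial.X 1 : MvPolynomial (Fin 2) k))
      ((X 0 ^ i * X 1 ^ j : MvPolynomial (Fin 2) k)) =
      C (ζ⁻¹ ^ (i + a * j)) * (X 0 ^ i * X 1 ^ j) := by
  simp only [map_mul, map_pow, aeval_X, if_true, Fin.isValue, one_ne_zero, if_false, mul_pow,
    pow_add, pow_mul]
  ring

/-- Let k be a field containing a primitive r-th root of unity ζ and 0 < a < r. The cyclic group of r-th
roots of unity acts on k[X, Y] through the generator X ↦ ζ⁻¹ X, Y ↦ ζ^(−a) Y, and the ring of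
invariants of this action is generated as a k-algebra by the monomials X^i Y^j with 0 ≤ i, j ≤ r,
(i, j) ≠ (r, r) and i + a·j ≡ 0 (mod r). (The printed statement writes n for the order of the group,
which the surrounding section calls r.) -/
theorem result (k : Type u) [Field k] (r a : ℕ) (ha : 0 < a) (har : a < r)
    (ζ : k) (hζ : IsPrimitiveRoot ζ r) (p : MvPolynomial (Fin 2) k) :
    MvPolynomial.aeval (fun i : Fin 2 => if i = 0 then MvPolynomial.C ζ⁻¹ * MvPolynomial.X 0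
        else MvPolynomial.C (ζ⁻¹ ^ a) * (MvPolynomial.X 1 : MvPolynomial (Fin 2) k)) p = p ↔
      p ∈ Algebra.adjoin k {q : MvPolynomial (Fin 2) k | ∃ i j : ℕ, i ≤ r ∧ j ≤ r ∧ ¬ (i = r ∧ j = r) ∧
        r ∣ i + a * j ∧ q = MvPolynomial.X 0 ^ i * MvPolynomial.X 1 ^ j} := by
  classical
  have hr : 0 < r := lt_trans ha har
  have hζi : IsPrimitiveRoot ζ⁻¹ r := hζ.inv
  set σ : MvPolynomial (Fin 2) k →ₐ[k] MvPolynomial (Fin 2) k :=
    MvPolynomial.aeval (fun i : Fin 2 => if i = 0 then MvPolynomial.C ζ⁻¹ * MvPolynomial.X 0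
        else MvPolynomial.C (ζ⁻¹ ^ a) * (MvPolynomial.X 1 : MvPolynomial (Fin 2) k)) with hσ
  set G : Set (MvPolynomial (Fin 2) k) := {q : MvPolynomial (Fin 2) k |
    ∃ i j : ℕ, i ≤ r ∧ j ≤ r ∧ ¬ (i = r ∧ j = r) ∧
        r ∣ i + a * j ∧ q = MvPolynomial.X 0 ^ i * MvPolynomial.X 1 ^ j} with hG
  have hσmon : ∀ (m : Fin 2 →₀ ℕ) (c : k),
      σ (monomial m c) = monomial m (ζ⁻¹ ^ (m 0 + a * m 1) * c) := by
    intro m c
    rw [monomial_eq', monomial_eq', map_mul, hσ, sigma_pow, aeval_C, algebraMap_eq, map_mul]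
    ring
  constructor
  · intro hp
    have hsum : p = ∑ m ∈ p.support, monomial m (coeff m p) := (support_sum_monomial_coeff p).symm
    have hcoef : ∀ m ∈ p.support, r ∣ m 0 + a * m 1 := by
      intro m hm
      have h1 : coeff m (σ p) = ζ⁻¹ ^ (m 0 + a * m 1) * coeff m p := by
        conv_lhs => rw [hsum, map_sum]
        simp only [hσmon, coeff_sum, coeff_monomial]
        rw [Finset.sum_ite_eq' p.support m, if_pos hm]
      rw [hp] at h1
      have h2 : coeff m p ≠ 0 := mem_support_iff.mp hm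
      have h3 : ζ⁻¹ ^ (m 0 + a * m 1) = 1 := by
        have : (ζ⁻¹ ^ (m 0 + a * m 1) - 1) * coeff m p = 0 := by
          rw [sub_mul, one_mul, ← h1, sub_self]
        rcases mul_eq_zero.mp this with h | h
        · exact sub_eq_zero.mp h
        · exact absurd h h2
      exact (hζi.pow_eq_one_iff_dvd _).mp h3
    have hgen : ∀ i j : ℕ, i ≤ r → j ≤ r → ¬ (i = r ∧ j = r) → r ∣ i + a * j →
        (X 0 ^ i * X 1 ^ j : MvPolynomial (Fin 2) k) ∈ Algebra.adjoin k G :=
      fun i j hi hj hne hd => Algebra.subset_adjoin ⟨i, j, hi, hj, hne, hd, rfl⟩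
    have key : ∀ m : Fin 2 →₀ ℕ, r ∣ m 0 + a * m 1 →
        (X 0 ^ m 0 * X 1 ^ m 1 : MvPolynomial (Fin 2) k) ∈ Algebra.adjoin k G := by
      intro m hm
      have e0 : m 0 = r * (m 0 / r) + m 0 % r := (Nat.div_add_mod _ _).symm
      have e1 : m 1 = r * (m 1 / r) + m 1 % r := (Nat.div_add_mod _ _).symm
      have hdecomp : (X 0 ^ m 0 * X 1 ^ m 1 : MvPolynomial (Fin 2) k) =
          (X 0 ^ r * X 1 ^ 0) ^ (m 0 / r) * (X 0 ^ 0 * X 1 ^ r) ^ (m 1 / r) *
            (X 0 ^ (m 0 % r) * X 1 ^ (m 1 % r)) := by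
        conv_lhs => rw [e0, e1]
        simp only [pow_add, pow_mul, pow_zero, one_mul, mul_one]
        ring
      rw [hdecomp]
      refine Subalgebra.mul_mem _ (Subalgebra.mul_mem _ (Subalgebra.pow_mem _ ?_ _)
        (Subalgebra.pow_mem _ ?_ _)) ?_
      · exact hgen r 0 le_rfl (Nat.zero_le _) (fun h => hr.ne h.2) (by simp)
      · exact hgen 0 r (Nat.zero_le _) le_rfl (fun h => hr.ne h.1) (by simp)
      · refine hgen _ _ (Nat.mod_lt _ hr).le (Nat.mod_lt _ hr).le
          (fun h => (Nat.mod_lt (m 0) hr).ne h.1) ?_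
        have h1 : m 0 % r + a * (m 1 % r) ≡ m 0 + a * m 1 [MOD r] :=
          Nat.ModEq.add (Nat.mod_modEq _ _) (Nat.ModEq.mul_left a (Nat.mod_modEq _ _))
        exact (Nat.modEq_zero_iff_dvd).mp (h1.trans ((Nat.modEq_zero_iff_dvd).mpr hm))
    rw [hsum]
    refine Subalgebra.sum_mem _ fun m hm => ?_
    rw [monomial_eq']
    exact Subalgebra.mul_mem _ (Subalgebra.algebraMap_mem _ _) (key m (hcoef m hm))
  · intro hp
    have hle : Algebra.adjoin k G ≤ AlgHom.equalizer σ (AlgHom.id k _) := by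
      apply Algebra.adjoin_le
      rintro q ⟨i, j, -, -, -, hd, rfl⟩
      rw [SetLike.mem_coe, AlgHom.mem_equalizer, hσ, sigma_pow, (hζi.pow_eq_one_iff_dvd _).mpr hd,
        map_one, one_mul]
      rfl
    exact hle hp

end Groth.Agent.S10891
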