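import Groth.Statements.S10895
import Mathlib

set_option autoImplicit false
universe u
open CategoryTheory AlgebraicGeometry
open FlatMor

namespace Groth.Agent.S10895

section Helpers
open AlgebraicGeometry CategoryTheory Opposite TopologicalSpace

theorem stalk_inj {X Y : Scheme.{u}} (f : X ⟶ Y) (x : X) (hflat : (f.stalkMap x).hom.Flat) :
    Function.Injective (f.stalkMap x).hom := by
  algebraize [(f.stalkMap x).hom]
  have : Module.FaithfullyFlat (Y.presheaf.stalk (f x)) (X.presheaf.stalk x) :=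
    @Module.FaithfullyFlat.of_flat_of_isLocalHom _ _ _ _ _ _ _ hflat (f.toLRSHom.prop x)
  exact ‹RingHom.FaithfullyFlat _›.injective

theorem main {X Y : Scheme.{u}} (f : X ⟶ Y) [IsClosedImmersion f]
    [LocallyOfFinitePresentation f] (x : X) (hflat : (f.stalkMap x).hom.Flat) :
    ∃ V : Y.Opens, f.base x ∈ V ∧ IsIso (f ∣_ V) := by
  have hinj := stalk_inj f x hflat
  obtain ⟨_, ⟨V₀, hV₀ : IsAffineOpen V₀, rfl⟩, hxV₀, -⟩ :=
    Y.isBasis_affineOpens.exists_subset_of_mem_open (Set.mem_univ (f x)) isOpen_univ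
  have hU₀ : IsAffineOpen (f ⁻¹ᵁ V₀) := hV₀.preimage f
  have hφ : Function.Surjective (f.app V₀).hom := f.app_surjective V₀ hV₀
  have hfp : (f.app V₀).hom.FinitePresentation := by
    have := f.finitePresentation_appLE hV₀ hU₀ le_rfl
    rwa [Scheme.Hom.appLE_eq_app] at this  -- may fail
  have hker : (RingHom.ker (f.app V₀).hom).FG := by
    algebraize [(f.app V₀).hom]
    exact Algebra.FinitePresentation.ker_fG_of_surjective (Algebra.ofId Γ(Y, V₀) Γ(X, f ⁻¹ᵁ V₀)) hφ
  obtain ⟨S, hS⟩ := hker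
  -- each element of the kernel vanishes near f x
  have key : ∀ a ∈ RingHom.ker (f.app V₀).hom, ∃ W : Y.Opens, ∃ (i : W ⟶ V₀), f x ∈ W ∧
      Y.presheaf.map i.op a = 0 := by
    intro a ha
    have h0 : Y.presheaf.germ V₀ (f x) hxV₀ a = 0 := by
      apply hinj
      rw [map_zero]
      have := Scheme.Hom.germ_stalkMap_apply f V₀ x hxV₀ a
      rw [this]
      rw [RingHom.mem_ker] at ha
      erw [ha, map_zero]
    obtain ⟨W, i, hW, h⟩ := Y.toRingedSpace.exists_res_eq_zero_of_germ_eq_zero V₀ a ⟨f x, hxV₀⟩ h0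
    exact ⟨W, i, hW, h⟩
  have key2 : ∀ T : Finset Γ(Y, V₀), (∀ a ∈ T, a ∈ RingHom.ker (f.app V₀).hom) →
      ∃ W : Y.Opens, ∃ (i : W ⟶ V₀), f x ∈ W ∧ ∀ a ∈ T, Y.presheaf.map i.op a = 0 := by
    intro T
    classical
    induction T using Finset.induction_on with
    | empty => intro _; exact ⟨V₀, 𝟙 _, hxV₀, by simp⟩
    | insert a T _ ih =>
      intro hT
      obtain ⟨W₁, i₁, hW₁, h₁⟩ := ih (fun b hb => hT b (Finset.mem_insert_of_mem hb))
      obtain ⟨W₂, i₂, hW₂, h₂⟩ := key a (hT a (Finset.mem_insert_self _ _))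
      refine ⟨W₁ ⊓ W₂, homOfLE (inf_le_left.trans i₁.le), ⟨hW₁, hW₂⟩, ?_⟩
      intro b hb
      rcases Finset.mem_insert.1 hb with rfl | hb
      · have e : homOfLE (inf_le_left.trans i₁.le) = (homOfLE inf_le_right : W₁ ⊓ W₂ ⟶ W₂) ≫ i₂ :=
          Subsingleton.elim _ _
        rw [e, op_comp, Functor.map_comp, CommRingCat.comp_apply, h₂, map_zero]
      · have e : homOfLE (inf_le_left.trans i₁.le) = (homOfLE inf_le_left : W₁ ⊓ W₂ ⟶ W₁) ≫ i₁ :=
          Subsingleton.elim _ _
        rw [e, op_comp, Functor.map_comp, CommRingCat.comp_apply, h₁ b hb, map_zero]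
  obtain ⟨W, i, hW, hres⟩ := key2 S (fun a ha => by
    rw [← hS]; exact Ideal.subset_span ha)
  obtain ⟨g, hgW, hxg⟩ := hV₀.exists_basicOpen_le ⟨f x, hW⟩ hxV₀
  refine ⟨Y.basicOpen g, hxg, ?_⟩
  have hVaff : IsAffineOpen (Y.basicOpen g) := hV₀.basicOpen g
  -- kernel of f.app on D(g)
  have hk : RingHom.ker (f.app (Y.basicOpen g)).hom = ⊥ := by
    have h1 := f.ker.map_ideal_basicOpen ⟨V₀, hV₀⟩ g
    rw [f.ker_apply, f.ker_apply] at h1
    change _ = RingHom.ker (f.app (Y.basicOpen g)).hom at h1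
    rw [← h1, ← hS, Ideal.map_span, Ideal.span_eq_bot]
    rintro _ ⟨a, ha, rfl⟩
    have e : (homOfLE (Y.basicOpen_le g) : Y.basicOpen g ⟶ V₀) = homOfLE hgW ≫ i :=
      Subsingleton.elim _ _
    rw [e, op_comp, Functor.map_comp]
    change (Y.presheaf.map (homOfLE hgW).op) ((Y.presheaf.map i.op) a) = 0
    rw [hres a ha, map_zero]
  have : IsAffine (Y.basicOpen g).toScheme := hVaff
  apply IsClosedImmersion.isIso_of_injective_of_isAffine
  rw [morphismRestrict_appTop]
  have hinjV : ∀ V' : Y.Opens, V' = Y.basicOpen g → Function.Injective (f.app V').hom := by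
    rintro _ rfl
    exact (RingHom.injective_iff_ker_eq_bot _).2 hk
  have h2 : Function.Injective (X.presheaf.map
      (eqToHom (image_morphismRestrict_preimage f (Y.basicOpen g) ⊤)).op).hom :=
    ((ConcreteCategory.isIso_iff_bijective _).1 inferInstance).1
  exact h2.comp (hinjV _ (by simp))

end Helpers


/-- A closed immersion of finite presentation which is flat at a point x is an isomorphism over some
open neighbourhood of the image of x. -/
theorem result {X Y : Scheme.{u}} (f : X ⟶ Y) [IsClosedImmersion f]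
    [LocallyOfFinitePresentation f] (x : X) (hflat : (f.stalkMap x).hom.Flat) :
    ∃ V : Y.Opens, f.base x ∈ V ∧ IsIso (f ∣_ V) := by
  exact main f x hflat

end Groth.Agent.S10895
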