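import Groth.Statements.S10897
import Mathlib
import Groth.Agent.Lib.helper27.CubicIface
import Groth.Agent.Lib.helper27.CubicEck

set_option autoImplicit false
universe u
open Cubic

namespace Groth.Agent.S10897

/-- Over an algebraically closed field of characteristic zero, through a point s of a smooth cubic
surface S = V_+(f) ⊂ P^3 there pass at most three lines contained in S, and these lines are
coplanar. With s given by a nonzero vector v with f(v) = 0, the lines through s on S are the
2-dimensional subspaces of k^4 containing v on which f vanishes; there are at most three of them and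
one 3-dimensional subspace contains them all. -/
theorem result (k : Type u) [Field k] [IsAlgClosed k] [CharZero k]
    (f : MvPolynomial (Fin 4) k) (hf : f.IsHomogeneous 3) (hf0 : f ≠ 0)
    (hsm : ∀ v : Fin 4 → k, v ≠ 0 → MvPolynomial.eval v f = 0 →
      ∃ i : Fin 4, MvPolynomial.eval v (MvPolynomial.pderiv i f) ≠ 0)
    (v : Fin 4 → k) (hv : v ≠ 0) (hfv : MvPolynomial.eval v f = 0) :
    {U : Submodule k (Fin 4 → k) | v ∈ U ∧ (Module.finrank k ↥U = 2 ∧ ∀ u ∈ U, MvPolynomial.eval u f = 0)}.Finite ∧
      {U : Submodule k (Fin 4 → k) | v ∈ U ∧ (Module.finrank k ↥U = 2 ∧ ∀ u ∈ U, MvPolynomial.eval u f = 0)}.ncard ≤ 3 ∧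
      ∃ H : Submodule k (Fin 4 → k), Module.finrank k ↥H = 3 ∧
        ∀ U : Submodule k (Fin 4 → k), v ∈ U → (Module.finrank k ↥U = 2 ∧ ∀ u ∈ U, MvPolynomial.eval u f = 0) → U ≤ H := by
  open Groth.Agent.Lib.helper27.CubicIface Groth.Agent.Lib.helper27.CubicForm
    Groth.Agent.Lib.helper27.CubicEck in
  have hTv : tri f v v v = 0 := by rw [tri_diag hf]; exact hfv
  have hno4 : ∀ U : Fin (3 + 1) → Submodule k (Fin 4 → k), Function.Injective U →
      (∀ i, U i ∈ {U : Submodule k (Fin 4 → k) | v ∈ U ∧ (Module.finrank k ↥U = 2 ∧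
        ∀ u ∈ U, MvPolynomial.eval u f = 0)}) → False := by
    intro U hinj hU
    refine no_four_lines (tri f) (tri_swap12 f) (tri_swap23 f) (by simp) (smooth_at f hf hsm) v hv
      U hinj (fun i => ⟨(hU i).2.1, (hU i).1, ?_⟩)
    intro u hu
    rw [tri_diag hf]; exact (hU i).2.2 u hu
  have henc := encard_le_of_no_inj _ 3 hno4
  have hfin := Set.encard_le_coe_iff_finite_ncard_le.mp henc
  refine ⟨hfin.1, hfin.2, LinearMap.ker (tri f v v), ?_, ?_⟩
  · obtain ⟨w, hw⟩ := smooth_at f hf hsm v hv hTv
    have hl0 : (tri f v v : (Fin 4 → k) →ₗ[k] k) ≠ 0 := fun h => hw (by rw [h]; rfl)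
    have := Module.Dual.finrank_ker_add_one_of_ne_zero hl0
    simp at this
    omega
  · intro U hvU hU
    refine lines_le_tangent (tri f) (tri_swap12 f) (tri_swap23 f) v U hvU ?_
    intro u hu
    rw [tri_diag hf]; exact hU.2 u hu

end Groth.Agent.S10897
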