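import Groth.Statements.S10898
import Mathlib
import Groth.Agent.Lib.helper7.PolyHt

set_option autoImplicit false
universe u
open Polynomial
open WDiv

namespace Groth.Agent.S10898

/-- Let A be a Noetherian integral domain and P a prime ideal of height 1 of the polynomial ring A[X].
Then either P meets A in 0 only, or its contraction p = P ∩ A is a prime of height 1 of A and P is
the extension p·A[X]. (The published lemma also assumes A regular in codimension 1; that hypothesis
is not used for this assertion.) -/
theorem result (A : Type u) [CommRing A] [IsDomain A]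
    [IsNoetherianRing A] (P : Ideal A[X]) [P.IsPrime] (hP : P.height = 1) :
    P.comap (C : A →+* A[X]) = ⊥ ∨
      ((P.comap (C : A →+* A[X])).height = 1 ∧ P = (P.comap (C : A →+* A[X])).map C) := by
  classical
  by_cases h : P.comap (C : A →+* A[X]) = ⊥
  · exact Or.inl h
  · right
    set p := P.comap (C : A →+* A[X]) with hp
    haveI : p.IsPrime := Ideal.comap_isPrime _ _
    set q := p.map (C : A →+* A[X]) with hq
    haveI : q.IsPrime := Ideal.isPrime_map_C_of_isPrime
    have hqP : q ≤ P := Ideal.map_comap_le
    have hq0 : (⊥ : Ideal A[X]) < q := by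
      rw [bot_lt_iff_ne_bot]
      intro h0
      apply h
      rw [eq_bot_iff]
      intro a ha
      have : (C a : A[X]) ∈ q := Ideal.mem_map_of_mem _ ha
      rw [h0, Ideal.mem_bot] at this
      rw [Ideal.mem_bot]
      exact Polynomial.C_injective (by rw [this, map_zero])
    have h1 : (1 : ℕ∞) ≤ q.height := by
      have := Ideal.height_add_one_le_of_lt_of_isPrime hq0
      rw [Ideal.height_bot, zero_add] at this
      exact this
    have hPq : P = q := by
      by_contra hne
      have hlt : q < P := lt_of_le_of_ne hqP (Ne.symm hne)
      have := Ideal.height_add_one_le_of_lt_of_isPrime hlt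
      rw [hP] at this
      have h2 : (1 : ℕ∞) + 1 ≤ 1 := le_trans (add_le_add_left h1 1) this
      exact absurd h2 (by decide)
    refine ⟨?_, hPq⟩
    rw [← Groth.Agent.Lib.helper7.PolyHt.height_map_C A p, ← hq, ← hPq, hP]

end Groth.Agent.S10898
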