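import Groth.Statements.S10899
import Mathlib
import Groth.Agent.S10898

set_option autoImplicit false
universe u
open Polynomial
open WDiv

namespace Groth.Agent.S10899


theorem isDVR_of_principal {R : Type u} [CommRing R] [IsDomain R] [IsNoetherianRing R]
    (P : Ideal R) [P.IsPrime] (hP0 : P ≠ ⊥) (g : R) (hgP : g ∈ P)
    (h : Ideal.map (algebraMap R (Localization.AtPrime P)) P ≤
      Ideal.span {algebraMap R (Localization.AtPrime P) g}) :
    IsDiscreteValuationRing (Localization.AtPrime P) := by
  set B := Localization.AtPrime P with hB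
  haveI : IsNoetherianRing B := IsLocalization.isNoetherianRing P.primeCompl B inferInstance
  have hle : P.primeCompl ≤ nonZeroDivisors R := Ideal.primeCompl_le_nonZeroDivisors P
  haveI : IsDomain B := IsLocalization.isDomain_localization hle
  have hmax : IsLocalRing.maximalIdeal B = Ideal.map (algebraMap R B) P :=
    (IsLocalization.AtPrime.map_eq_maximalIdeal P B).symm
  have hnf : ¬ IsField B := by
    rw [IsLocalRing.isField_iff_maximalIdeal_eq, hmax]
    obtain ⟨f, hfP, hf0⟩ := Submodule.exists_mem_ne_zero_of_ne_bot hP0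
    intro hbot
    have h1 : algebraMap R B f ∈ Ideal.map (algebraMap R B) P := Ideal.mem_map_of_mem _ hfP
    rw [hbot, Ideal.mem_bot] at h1
    exact hf0 (IsLocalization.injective B hle (by rw [h1, map_zero]))
  refine ((IsDiscreteValuationRing.TFAE B hnf).out 0 4).2 ?_
  refine ⟨⟨algebraMap R B g, ?_⟩⟩
  show IsLocalRing.maximalIdeal B = Ideal.span {algebraMap R B g}
  rw [hmax]
  apply le_antisymm h
  rw [Ideal.span_singleton_le_iff_mem]
  exact Ideal.mem_map_of_mem _ hgP

attribute [local instance] Polynomial.algebra

/-- Let A be a Noetherian integral domain which is regular in codimension 1, i.e. whose localization at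
every prime ideal of height 1 is a discrete valuation ring. Then the polynomial ring A[X] is regular
in codimension 1 as well: its localization at every prime ideal of height 1 is a discrete valuation
ring. -/
theorem result (A : Type u) [CommRing A]
    [IsDomain A] [IsNoetherianRing A]
    (hR1 : ∀ (p : Ideal A) [p.IsPrime], p.height = 1 → IsDiscreteValuationRing (Localization.AtPrime p))
    (P : Ideal A[X]) [P.IsPrime] (hP : P.height = 1) :
    IsDiscreteValuationRing (Localization.AtPrime P) := by
  classical
  have hP0 : P ≠ ⊥ := Ideal.ne_bot_of_height_eq_one hP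
  set B := Localization.AtPrime P with hB
  rcases Groth.Agent.S10898.result A P hP with h0 | ⟨hp1, hPeq⟩
  · -- case P ∩ A = 0
    let K := FractionRing A
    have hloc : IsLocalization ((nonZeroDivisors A).map (C : A →+* A[X])) K[X] :=
      Polynomial.isLocalization (nonZeroDivisors A) K
    set φ := algebraMap A[X] K[X] with hφ
    have hinj : Function.Injective φ :=
      Polynomial.map_injective _ (IsFractionRing.injective A K)
    obtain ⟨f₀, hf₀⟩ := (IsPrincipalIdealRing.principal (Ideal.map φ P)).principal
    have hf₀' : Ideal.map φ P = Ideal.span {f₀} := hf₀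
    have hf₀mem : f₀ ∈ Ideal.map φ P := by
      rw [hf₀']; exact Ideal.mem_span_singleton_self f₀
    obtain ⟨⟨g, s⟩, hgs⟩ :=
      (IsLocalization.mem_map_algebraMap_iff ((nonZeroDivisors A).map (C : A →+* A[X])) K[X]).1
        hf₀mem
    have hgs' : f₀ * φ (s : A[X]) = φ (g : A[X]) := hgs
    refine isDVR_of_principal P hP0 (g : A[X]) g.2 ?_
    rw [Ideal.map_le_iff_le_comap]
    intro h hh
    rw [Ideal.mem_comap, Ideal.mem_span_singleton']
    have h1 : φ h ∈ Ideal.map φ P := Ideal.mem_map_of_mem _ hh
    rw [hf₀'] at h1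
    obtain ⟨r, hr⟩ := Ideal.mem_span_singleton'.1 h1
    obtain ⟨q, s', hqs'⟩ :=
      IsLocalization.exists_mk'_eq ((nonZeroDivisors A).map (C : A →+* A[X])) r
    have hspec : r * φ (s' : A[X]) = φ q := by
      rw [← hqs']; exact IsLocalization.mk'_spec K[X] q s'
    have h2 : h * ((s' : A[X]) * (s : A[X])) = q * (g : A[X]) := by
      apply hinj
      rw [map_mul, map_mul, map_mul, ← hr, ← hspec, ← hgs']
      ring
    have hss : (s' : A[X]) * (s : A[X]) ∈ P.primeCompl := by
      obtain ⟨d, hd, hds⟩ := s.2
      obtain ⟨d', hd', hds'⟩ := s'.2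
      have e1 : (s : A[X]) = C d := hds.symm
      have e2 : (s' : A[X]) = C d' := hds'.symm
      rw [e1, e2, ← C_mul]
      intro hmem
      have : d' * d ∈ P.comap (C : A →+* A[X]) := hmem
      rw [h0, Ideal.mem_bot] at this
      exact mul_ne_zero (nonZeroDivisors.ne_zero hd') (nonZeroDivisors.ne_zero hd) this
    obtain ⟨v, hv⟩ := (IsLocalization.map_units B ⟨_, hss⟩).exists_right_inv
    have hv' : algebraMap A[X] B ((s' : A[X]) * (s : A[X])) * v = 1 := hv
    refine ⟨algebraMap A[X] B q * v, ?_⟩
    calc algebraMap A[X] B q * v * algebraMap A[X] B (g : A[X])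
        = algebraMap A[X] B (q * (g : A[X])) * v := by rw [map_mul]; ring
      _ = algebraMap A[X] B (h * ((s' : A[X]) * (s : A[X]))) * v := by rw [h2]
      _ = algebraMap A[X] B h * (algebraMap A[X] B ((s' : A[X]) * (s : A[X])) * v) := by
          rw [map_mul]; ring
      _ = algebraMap A[X] B h := by rw [hv', mul_one]
  · -- case P = p A[X]
    set p := P.comap (C : A →+* A[X]) with hp
    haveI : p.IsPrime := Ideal.comap_isPrime _ _
    haveI hdvr := hR1 p hp1
    set Ap := Localization.AtPrime p with hAp
    have hle : p.primeCompl ≤ nonZeroDivisors A := Ideal.primeCompl_le_nonZeroDivisors p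
    obtain ⟨π, hπ⟩ := (IsPrincipalIdealRing.principal (IsLocalRing.maximalIdeal Ap)).principal
    have hπ' : IsLocalRing.maximalIdeal Ap = Ideal.span {π} := hπ
    have hmaxp : Ideal.map (algebraMap A Ap) p = IsLocalRing.maximalIdeal Ap :=
      IsLocalization.AtPrime.map_eq_maximalIdeal p Ap
    have hπmem : π ∈ Ideal.map (algebraMap A Ap) p := by
      rw [hmaxp, hπ']; exact Ideal.mem_span_singleton_self π
    obtain ⟨⟨a, s⟩, has⟩ := (IsLocalization.mem_map_algebraMap_iff p.primeCompl Ap).1 hπmem
    have has' : π * algebraMap A Ap (s : A) = algebraMap A Ap (a : A) := has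
    have haP : C (a : A) ∈ P := a.2
    refine isDVR_of_principal P hP0 (C (a : A)) haP ?_
    rw [Ideal.map_le_iff_le_comap]
    have hmapC : Ideal.map (C : A →+* A[X]) p ≤ Ideal.comap (algebraMap A[X] B)
        (Ideal.span {algebraMap A[X] B (C (a : A))}) := by
      rw [Ideal.map_le_iff_le_comap]
      intro b hb
      rw [Ideal.mem_comap, Ideal.mem_comap, Ideal.mem_span_singleton']
      have hb1 : algebraMap A Ap b ∈ Ideal.span {π} := by
        rw [← hπ', ← hmaxp]; exact Ideal.mem_map_of_mem _ hb
      obtain ⟨r, hr⟩ := Ideal.mem_span_singleton'.1 hb1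
      obtain ⟨c, s', hcs'⟩ := IsLocalization.exists_mk'_eq p.primeCompl r
      have hspec : r * algebraMap A Ap (s' : A) = algebraMap A Ap c := by
        rw [← hcs']; exact IsLocalization.mk'_spec Ap c s'
      have h2 : b * ((s' : A) * (s : A)) = c * (a : A) := by
        apply IsLocalization.injective Ap hle
        rw [map_mul, map_mul, map_mul, ← hr, ← hspec, ← has']
        ring
      have hss : C ((s' : A) * (s : A)) ∈ P.primeCompl := by
        intro hmem
        have : (s' : A) * (s : A) ∈ p := hmem
        exact (p.primeCompl.mul_mem s'.2 s.2) this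
      obtain ⟨v, hv⟩ := (IsLocalization.map_units B ⟨_, hss⟩).exists_right_inv
      have hv' : algebraMap A[X] B (C ((s' : A) * (s : A))) * v = 1 := hv
      refine ⟨algebraMap A[X] B (C c) * v, ?_⟩
      calc algebraMap A[X] B (C c) * v * algebraMap A[X] B (C (a : A))
          = algebraMap A[X] B (C (c * (a : A))) * v := by rw [C_mul, map_mul]; ring
        _ = algebraMap A[X] B (C (b * ((s' : A) * (s : A)))) * v := by rw [h2]
        _ = algebraMap A[X] B (C b) * (algebraMap A[X] B (C ((s' : A) * (s : A))) * v) := by
            rw [C_mul (a := b), map_mul]; ring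
        _ = algebraMap A[X] B (C b) := by rw [hv', mul_one]
    intro h hh
    exact hmapC (by rw [← hPeq]; exact hh)

end Groth.Agent.S10899
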