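import Groth.Statements.S1090
import Mathlib
import Groth.Agent.Lib.helper2.FilDCone
-- import your own Groth.Agent.* helpers here

set_option autoImplicit false
universe v u
open CategoryTheory CategoryTheory.Limits Opposite
open FilD

namespace Groth.Agent.S1090

section helpers
set_option linter.unusedSectionVars false
variable {A : Type u} [Category.{v} A] [Abelian A]

theorem main {X Y : FilF A} (f : X ⟶ Y)
    (I : CochainComplex (FilF A) ℤ) [I.IsStrictlyGE 0]
    (a : (CochainComplex.singleFunctor (FilF A) 0).obj X ⟶ I) (ha : IsFilteredQuasiIso a)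
    (J : CochainComplex (FilF A) ℤ) [J.IsStrictlyGE 0] (hJ : ∀ n, IsFilteredInjective (J.X n))
    (b : (CochainComplex.singleFunctor (FilF A) 0).obj Y ⟶ J) :
    ∃ φ : I ⟶ J, a ≫ φ = (CochainComplex.singleFunctor (FilF A) 0).map f ≫ b := by
  obtain ⟨β, hβ⟩ := (Groth.Agent.Lib.helper2.FilDCone.main J 0 hJ a ha).2
    ((HomotopyCategory.quotient (FilF A) (ComplexShape.up ℤ)).map
      ((CochainComplex.singleFunctor (FilF A) 0).map f ≫ b))
  obtain ⟨φ, rfl⟩ := (HomotopyCategory.quotient (FilF A) (ComplexShape.up ℤ)).map_surjective β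
  dsimp only at hβ
  rw [← Functor.map_comp] at hβ
  have h : Homotopy (a ≫ φ) ((CochainComplex.singleFunctor (FilF A) 0).map f ≫ b) :=
    HomotopyCategory.homotopyOfEq _ _ hβ
  refine ⟨φ, ?_⟩
  refine HomologicalComplex.hom_ext _ _ (fun i => ?_)
  by_cases hi : i = 0
  · subst hi
    have hz1 : IsZero (((CochainComplex.singleFunctor (FilF A) 0).obj X).X 1) :=
      HomologicalComplex.isZero_single_obj_X (ComplexShape.up ℤ) 0 X 1 (by norm_num)
    have hz2 : IsZero (J.X (-1)) := J.isZero_of_isStrictlyGE 0 (-1) (by norm_num)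
    have h1 : dNext 0 h.hom = 0 := by
      rw [dNext_eq h.hom (show (ComplexShape.up ℤ).Rel 0 1 by simp)]
      rw [hz1.eq_of_tgt (((CochainComplex.singleFunctor (FilF A) 0).obj X).d 0 1) 0, zero_comp]
    have h2 : prevD 0 h.hom = 0 := by
      rw [prevD_eq h.hom (show (ComplexShape.up ℤ).Rel (-1) 0 by simp)]
      rw [hz2.eq_of_tgt (h.hom 0 (-1)) 0, zero_comp]
    rw [h.comm 0, h1, h2, zero_add, zero_add]
  · have hz : IsZero (((CochainComplex.singleFunctor (FilF A) 0).obj X).X i) :=
      HomologicalComplex.isZero_single_obj_X (ComplexShape.up ℤ) 0 X i hi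
    exact hz.eq_of_src _ _

end helpers


/-- Let A be an abelian category with enough injectives, f : X ⟶ Y a morphism of finite filtered
objects, and X[0] ⟶ I, Y[0] ⟶ J filtered quasi-isomorphisms into complexes of filtered injective
objects vanishing in negative degrees. Then there is a morphism of complexes I ⟶ J making the
evident square with f[0] commute. -/
theorem result {A : Type u} [Category.{v} A] [Abelian A] [EnoughInjectives A] {X Y : FilD.FilF A} (f : X ⟶ Y)
    (I : CochainComplex (FilD.FilF A) ℤ) [I.IsStrictlyGE 0] (hI : ∀ n, FilD.IsFilteredInjective (I.X n))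
    (a : (CochainComplex.singleFunctor (FilD.FilF A) 0).obj X ⟶ I) (ha : FilD.IsFilteredQuasiIso a)
    (J : CochainComplex (FilD.FilF A) ℤ) [J.IsStrictlyGE 0] (hJ : ∀ n, FilD.IsFilteredInjective (J.X n))
    (b : (CochainComplex.singleFunctor (FilD.FilF A) 0).obj Y ⟶ J) (hb : FilD.IsFilteredQuasiIso b) :
    ∃ φ : I ⟶ J, a ≫ φ = (CochainComplex.singleFunctor (FilD.FilF A) 0).map f ≫ b := by
  exact main f I a ha J hJ b

end Groth.Agent.S1090
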