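import Groth.Statements.S10903
import Groth.Agent.Lib.helper8.CISat
import Groth.Agent.Lib.helper7.DimFT
import Groth.Agent.S0341
import Groth.Agent.S0342

set_option autoImplicit false
universe u
open CInt

namespace Groth.Agent.S10903

/-- Let k be a field, S = k[x_0, …, x_n], and f_1, …, f_r with r ≤ n homogeneous polynomials of positive
degrees whose ideal J = (f_1, …, f_r) has height r — the subscheme of P^n_k cut out by the
hypersurfaces f_i = 0 has codimension r, an ideal-theoretic complete intersection. Then J is
saturated with respect to the irrelevant ideal (x_0, …, x_n): an element g of S such that, for each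
i, x_i^m g ∈ J for some m, already lies in J. Hence J is the full homogeneous ideal of that
subscheme (a global complete intersection). -/
theorem result (k : Type u) [Field k] (n r : ℕ)
    (hr : r ≤ n) (f : Fin r → MvPolynomial (Fin (n + 1)) k) (d : Fin r → ℕ)
    (hf : ∀ i, (f i).IsHomogeneous (d i)) (hd : ∀ i, 0 < d i)
    (hJ : (Ideal.span (Set.range f)).height = r) (g : MvPolynomial (Fin (n + 1)) k)
    (hg : ∀ i : Fin (n + 1), ∃ m : ℕ, MvPolynomial.X i ^ m * g ∈ Ideal.span (Set.range f)) :
    g ∈ Ideal.span (Set.range f) := by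
  classical
  haveI : IsRegularRing (MvPolynomial (Fin (n + 1)) k) := inferInstance
  haveI : LocCoh.IsCohenMacaulayRing (MvPolynomial (Fin (n + 1)) k) :=
    { isCohenMacaulayLocalRing_localization := fun p _ => by
        haveI := Groth.Agent.S0342.result (Localization.AtPrime p)
        exact Groth.Agent.S0341.result _ }
  let m₀ : Ideal (MvPolynomial (Fin (n + 1)) k) := MvPolynomial.idealOfVars (Fin (n + 1)) k
  have hm0 : m₀ = RingHom.ker (MvPolynomial.constantCoeff :
      MvPolynomial (Fin (n + 1)) k →+* k) := by
    ext p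
    rw [← pow_one m₀, MvPolynomial.mem_pow_idealOfVars_iff', RingHom.mem_ker,
      MvPolynomial.constantCoeff_eq]
    constructor
    · intro h
      exact h 0 (by simp)
    · intro h x hx
      have hx0 : x = 0 := by
        have : Finsupp.degree x = 0 := by omega
        exact (Finsupp.degree_eq_zero_iff x).mp this
      rw [hx0]; exact h
  haveI : m₀.IsMaximal := by
    rw [hm0]
    exact RingHom.ker_isMaximal_of_surjective _ (fun c => ⟨MvPolynomial.C c, MvPolynomial.constantCoeff_C _ c⟩)
  have hht : m₀.height = ((n + 1 : ℕ) : ℕ∞) :=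
    Groth.Agent.Lib.helper7.DimFT.height_of_isMaximal_mvPolynomial (n + 1) m₀
  have hfm : ∀ i, f i ∈ m₀ := by
    intro i
    rw [← pow_one m₀, MvPolynomial.mem_pow_idealOfVars_iff]
    intro x hx
    have hc : MvPolynomial.coeff x (f i) ≠ 0 := MvPolynomial.mem_support_iff.mp hx
    have := hf i hc
    have h3 : Finsupp.degree x = (Finsupp.weight 1) x := by
      rw [Finsupp.degree_eq_weight_one (R := ℕ)]; rfl
    have h2 := hd i
    rw [← this, ← h3] at h2
    exact h2
  choose e he using hg
  have hrad : m₀ ≤ ((Ideal.span (Set.range f)).colon {g}).radical := by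
    show Ideal.span (Set.range MvPolynomial.X) ≤ _
    rw [Ideal.span_le]
    rintro _ ⟨i, rfl⟩
    refine ⟨e i, ?_⟩
    rw [Submodule.mem_colon_singleton]
    exact he i
  obtain ⟨N, hN⟩ := Ideal.exists_pow_le_of_le_radical_of_fg hrad
    (MvPolynomial.idealOfVars_fg (Fin (n + 1)) k)
  refine Groth.Agent.H8.CISat.mem_of_pow_mul_mem m₀ (n + 1) r hht (by omega) f hfm hJ g N ?_
  intro x hx
  have := hN hx
  rwa [Submodule.mem_colon_singleton] at this

end Groth.Agent.S10903
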