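import Groth.Statements.S10904
import Mathlib

set_option autoImplicit false
universe u
open Polynomial
open ProjDeg

namespace Groth.Agent.S10904aux

section alg
variable (k : Type u) [Field k] (n : ℕ)

instance finPiece (m : ℕ) : Module.Finite k ↥(CohB1.polyGrading n k m) :=
  Module.Finite.iff_fg.mpr (MvPolynomial.homogeneousSubmodule_fg _ _ m)

theorem key (I : Ideal (MvPolynomial (Fin (n + 1)) k))
    (hIh : I.IsHomogeneous (CohB1.polyGrading n k)) [I.IsPrime]
    (f : MvPolynomial (Fin (n + 1)) k) (d : ℕ) (hf : f.IsHomogeneous d) (hfI : f ∉ I)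
    (m : ℕ) (hm : d ≤ m) :
    Module.finrank k ↥(Submodule.restrictScalars k (I ⊔ Ideal.span {f}) ⊓ CohB1.polyGrading n k m)
      + Module.finrank k ↥(Submodule.restrictScalars k I ⊓ CohB1.polyGrading n k (m - d))
    = Module.finrank k ↥(Submodule.restrictScalars k I ⊓ CohB1.polyGrading n k m)
      + Module.finrank k ↥(CohB1.polyGrading n k (m - d)) := by
  classical
  have hf0 : f ≠ 0 := fun h => hfI (h ▸ I.zero_mem)
  have hfd : f ∈ CohB1.polyGrading n k d := hf
  set μ : MvPolynomial (Fin (n + 1)) k →ₗ[k] MvPolynomial (Fin (n + 1)) k :=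
    LinearMap.mulLeft k f with hμdef
  have hμ : Function.Injective μ := mul_right_injective₀ hf0
  have hμa : ∀ g, μ g = f * g := fun g => rfl
  set A := Submodule.restrictScalars k I ⊓ CohB1.polyGrading n k m with hA
  set C := CohB1.polyGrading n k (m - d) with hC
  set CI := Submodule.restrictScalars k I ⊓ CohB1.polyGrading n k (m - d) with hCI
  have hmulmem : ∀ g ∈ CohB1.polyGrading n k (m - d), f * g ∈ CohB1.polyGrading n k m := by
    intro g hg
    have := SetLike.GradedMul.mul_mem (A := CohB1.polyGrading n k) hfd hg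
    rwa [show d + (m - d) = m by omega] at this
  have h1 : Submodule.restrictScalars k (I ⊔ Ideal.span {f}) ⊓ CohB1.polyGrading n k m
      = A ⊔ C.map μ := by
    apply le_antisymm
    · rintro x ⟨hx1, hx2⟩
      have hx1' : x ∈ I ⊔ Ideal.span {f} := hx1
      obtain ⟨a, ha, b, hb, rfl⟩ := Submodule.mem_sup.mp hx1'
      obtain ⟨g, rfl⟩ := Ideal.mem_span_singleton'.mp hb
      have hx2' : a + g * f ∈ CohB1.polyGrading n k m := hx2
      have e1 := DirectSum.decompose_of_mem_same (CohB1.polyGrading n k) hx2'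
      rw [DirectSum.decompose_add] at e1
      rw [DirectSum.add_apply] at e1
      rw [Submodule.coe_add] at e1
      rw [mul_comm g f, DirectSum.coe_decompose_mul_of_left_mem_of_le _ hfd hm] at e1
      rw [mul_comm g f, ← e1]
      refine Submodule.add_mem_sup ?_ ?_
      · exact ⟨hIh m ha, Submodule.coe_mem _⟩
      · exact Submodule.mem_map_of_mem (Submodule.coe_mem _)
    · apply sup_le
      · rintro x ⟨hx1, hx2⟩
        exact ⟨(show I ≤ I ⊔ Ideal.span {f} from le_sup_left) hx1, hx2⟩
      · rintro _ ⟨g, hg, rfl⟩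
        refine ⟨?_, hmulmem g hg⟩
        show f * g ∈ I ⊔ Ideal.span {f}
        exact (show Ideal.span {f} ≤ I ⊔ Ideal.span {f} from le_sup_right)
          (Ideal.mul_mem_right _ _ (Ideal.mem_span_singleton_self f))
  have h2 : A ⊓ C.map μ = CI.map μ := by
    apply le_antisymm
    · rintro _ ⟨⟨hx1, hx2⟩, g, hg, rfl⟩
      have hx1' : f * g ∈ I := hx1
      have hgI : g ∈ I := (Ideal.IsPrime.mem_or_mem ‹_› hx1').resolve_left hfI
      exact Submodule.mem_map_of_mem ⟨hgI, hg⟩
    · rintro _ ⟨g, ⟨hg1, hg2⟩, rfl⟩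
      refine ⟨⟨?_, hmulmem g hg2⟩, Submodule.mem_map_of_mem hg2⟩
      show f * g ∈ I
      exact Ideal.mul_mem_left _ _ hg1
  have : Module.Finite k ↥A := Submodule.finiteDimensional_inf_right _ _
  have e := Submodule.finrank_sup_add_finrank_inf_eq A (C.map μ)
  rw [← h1, h2] at e
  rw [← (Submodule.equivMapOfInjective μ hμ C).finrank_eq,
    ← (Submodule.equivMapOfInjective μ hμ CI).finrank_eq] at e
  exact e

end alg

theorem poly_part (P Q : ℚ[X]) (c : ℚ) (hc : c ≠ 0) (hQ : Q = P - taylor (-c) P)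
    (hdim : 1 ≤ P.natDegree) :
    Q.natDegree + 1 = P.natDegree ∧
      (Q.natDegree.factorial : ℚ) * Q.leadingCoeff =
        c * ((P.natDegree.factorial : ℚ) * P.leadingCoeff) := by
  obtain ⟨s, hs⟩ : ∃ s, P.natDegree = s + 1 := ⟨P.natDegree - 1, by omega⟩
  have hP0 : P.leadingCoeff ≠ 0 := by
    intro h
    rw [leadingCoeff_eq_zero] at h
    rw [h] at hdim; simp at hdim
  have hle : Q.natDegree ≤ s := by
    rw [natDegree_le_iff_coeff_eq_zero]
    intro N hN
    rw [hQ, coeff_sub]
    rcases (show N = s + 1 ∨ s + 1 < N by omega) with h | h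
    · rw [h, ← hs, coeff_taylor_natDegree, coeff_natDegree, sub_self]
    · rw [coeff_eq_zero_of_natDegree_lt (by omega),
        coeff_eq_zero_of_natDegree_lt (by rw [natDegree_taylor]; omega), sub_self]
  have hcoeff : Q.coeff s = (s + 1 : ℚ) * c * P.leadingCoeff := by
    rw [hQ, coeff_sub, taylor_coeff]
    have hdeg : (hasseDeriv s P).natDegree < 2 := by
      have := natDegree_hasseDeriv_le P s
      omega
    rw [eval_eq_sum_range' hdeg, Finset.sum_range_succ, Finset.sum_range_one,
      hasseDeriv_coeff, hasseDeriv_coeff]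
    have e1 : (1 + s).choose s = s + 1 := by
      rw [add_comm 1 s, Nat.choose_succ_self_right]
    rw [e1]
    simp only [zero_add, Nat.choose_self, Nat.cast_one, one_mul, pow_zero, mul_one, pow_one]
    rw [show 1 + s = P.natDegree by omega, coeff_natDegree]
    push_cast
    ring
  have hne : Q.coeff s ≠ 0 := by
    rw [hcoeff]
    have : (s + 1 : ℚ) ≠ 0 := by positivity
    exact mul_ne_zero (mul_ne_zero this hc) hP0
  have hdeg : Q.natDegree = s := le_antisymm hle (le_natDegree_of_ne_zero hne)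
  refine ⟨by omega, ?_⟩
  rw [leadingCoeff, hdeg, hcoeff, hs, Nat.factorial_succ]
  push_cast
  ring

theorem main (k : Type u) [Field k] (n : ℕ)
    (I : Ideal (MvPolynomial (Fin (n + 1)) k)) (hIh : I.IsHomogeneous (CohB1.polyGrading n k)) [I.IsPrime]
    (f : MvPolynomial (Fin (n + 1)) k) (d : ℕ) (hd : 0 < d) (hf : f.IsHomogeneous d) (hfI : f ∉ I)
    (P Q : ℚ[X])
    (hP : ∃ m₀ : ℕ, ∀ m : ℕ, m₀ ≤ m → P.eval (m : ℚ) =
      (Module.finrank k ↥(CohB1.polyGrading n k m) : ℚ) -
        Module.finrank k ↥(Submodule.restrictScalars k I ⊓ CohB1.polyGrading n k m))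
    (hQ : ∃ m₀ : ℕ, ∀ m : ℕ, m₀ ≤ m → Q.eval (m : ℚ) =
      (Module.finrank k ↥(CohB1.polyGrading n k m) : ℚ) -
        Module.finrank k ↥(Submodule.restrictScalars k (I ⊔ Ideal.span {f}) ⊓ CohB1.polyGrading n k m))
    (hdim : 1 ≤ P.natDegree) :
    Q.natDegree + 1 = P.natDegree ∧
      (Q.natDegree.factorial : ℚ) * Q.leadingCoeff =
        d * ((P.natDegree.factorial : ℚ) * P.leadingCoeff) := by
  obtain ⟨m₀, hP⟩ := hP
  obtain ⟨m₁, hQ⟩ := hQ
  have hd0 : (d : ℚ) ≠ 0 := by exact_mod_cast hd.ne'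
  refine poly_part P Q (d : ℚ) hd0 ?_ hdim
  apply Polynomial.eq_of_infinite_eval_eq
  set M := max (m₀ + d) m₁ with hM
  have hinj : Function.Injective (fun j : ℕ => ((j + M : ℕ) : ℚ)) := by
    intro a b hab
    have hab' : ((a + M : ℕ) : ℚ) = ((b + M : ℕ) : ℚ) := hab
    have : a + M = b + M := by exact_mod_cast hab'
    omega
  refine Set.infinite_of_injective_forall_mem hinj ?_
  intro j
  show eval ((j + M : ℕ) : ℚ) Q = eval ((j + M : ℕ) : ℚ) (P - taylor (-(d : ℚ)) P)
  have h1 : m₀ + d ≤ j + M := le_trans (le_max_left _ _) (Nat.le_add_left _ _)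
  have h2 : m₁ ≤ j + M := le_trans (le_max_right _ _) (Nat.le_add_left _ _)
  rw [eval_sub, taylor_eval, hQ _ h2, hP _ (by omega)]
  have e : ((j + M : ℕ) : ℚ) + -(d : ℚ) = ((j + M - d : ℕ) : ℚ) := by
    rw [Nat.cast_sub (by omega)]; ring
  rw [e, hP _ (by omega)]
  have hk := key k n I hIh f d hf hfI (j + M) (by omega)
  have hk' : (Module.finrank k ↥(Submodule.restrictScalars k (I ⊔ Ideal.span {f}) ⊓ CohB1.polyGrading n k (j + M)) : ℚ)
      + Module.finrank k ↥(Submodule.restrictScalars k I ⊓ CohB1.polyGrading n k (j + M - d))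
    = (Module.finrank k ↥(Submodule.restrictScalars k I ⊓ CohB1.polyGrading n k (j + M)) : ℚ)
      + Module.finrank k ↥(CohB1.polyGrading n k (j + M - d)) := by
    exact_mod_cast hk
  linarith

end Groth.Agent.S10904aux

namespace Groth.Agent.S10904

/-- Let k be a field, R = k[X_0, …, X_n] graded by degree, I a homogeneous prime ideal of R, f a
homogeneous element of degree d ≥ 1 not in I, and I' = I + (f). Let P be the Hilbert polynomial of
R/I and Q that of R/I': rational polynomials whose value at every large integer m is the k-dimension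
of the degree-m piece, i.e. dim R_m − dim (I ∩ R_m). Assume P has degree at least 1, i.e. the
projective variety V(I) ⊆ P^n_k has dimension ≥ 1. Then Q has degree deg P − 1, and the degrees of
the projective schemes, (degree of the Hilbert polynomial)! times its leading coefficient, satisfy
deg V(I') = d · deg V(I). (The published statement has no dimension hypothesis; for V(I) a single
point the left side is 0 and the right side is d · deg V(I) ≠ 0, and the printed proof uses dim
V(I') = dim V(I) − 1.) -/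
theorem result (k : Type u) [Field k] (n : ℕ)
    (I : Ideal (MvPolynomial (Fin (n + 1)) k)) (hIh : I.IsHomogeneous (CohB1.polyGrading n k)) [I.IsPrime]
    (f : MvPolynomial (Fin (n + 1)) k) (d : ℕ) (hd : 0 < d) (hf : f.IsHomogeneous d) (hfI : f ∉ I)
    (P Q : ℚ[X])
    (hP : ∃ m₀ : ℕ, ∀ m : ℕ, m₀ ≤ m → P.eval (m : ℚ) =
      (Module.finrank k ↥(CohB1.polyGrading n k m) : ℚ) -
        Module.finrank k ↥(Submodule.restrictScalars k I ⊓ CohB1.polyGrading n k m))
    (hQ : ∃ m₀ : ℕ, ∀ m : ℕ, m₀ ≤ m → Q.eval (m : ℚ) =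
      (Module.finrank k ↥(CohB1.polyGrading n k m) : ℚ) -
        Module.finrank k ↥(Submodule.restrictScalars k (I ⊔ Ideal.span {f}) ⊓ CohB1.polyGrading n k m))
    (hdim : 1 ≤ P.natDegree) :
    Q.natDegree + 1 = P.natDegree ∧
      (Q.natDegree.factorial : ℚ) * Q.leadingCoeff =
        d * ((P.natDegree.factorial : ℚ) * P.leadingCoeff) := by
  exact Groth.Agent.S10904aux.main k n I hIh f d hd hf hfI P Q hP hQ hdim

end Groth.Agent.S10904
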