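import Groth.Statements.S10908
import Mathlib
import Groth.Agent.Lib.helper24.GrFrac

set_option autoImplicit false
universe u
open ProjDeg

namespace Groth.Agent.S10908

section Aux
open DirectSum
variable {R A : Type u} [CommRing R] [CommRing A] [IsDomain A] [Algebra R A]
  (𝒜 : ℕ → Submodule R A) [GradedAlgebra 𝒜]

/-- a quotient of homogeneous elements in a graded domain is homogeneous -/
theorem homog_of_mul_eq {c s h : A} {i j : ℕ} (hs : s ∈ 𝒜 j) (hs0 : s ≠ 0) (hh : h ∈ 𝒜 i)
    (heq : c * s = h) : c ∈ 𝒜 (i - j) ∧ (j ≤ i ∨ c = 0) := by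
  classical
  have hzero : ∀ k : ℕ, k + j ≠ i → (decompose 𝒜 c k : A) = 0 := by
    intro k hk
    have h1 : ((decompose 𝒜 (c * s)) (k + j) : A) = (decompose 𝒜 c k : A) * s :=
      coe_decompose_mul_add_of_right_mem 𝒜 hs
    rw [heq, decompose_of_mem_ne 𝒜 hh (Ne.symm hk)] at h1
    rcases mul_eq_zero.mp h1.symm with h2 | h2
    · exact h2
    · exact absurd h2 hs0
  constructor
  · rw [← sum_support_decompose 𝒜 c]
    refine sum_mem fun k hk => ?_
    by_cases hkj : k + j = i
    · have : k = i - j := by omega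
      rw [← this]
      exact (decompose 𝒜 c k).2
    · rw [hzero k hkj]
      exact zero_mem _
  · by_cases hji : j ≤ i
    · exact Or.inl hji
    · right
      rw [← sum_support_decompose 𝒜 c]
      refine Finset.sum_eq_zero fun k _ => hzero k (by omega)

theorem piece_le_irrelevant_pow (hgen : ∀ i : ℕ, 𝒜 1 * 𝒜 i = 𝒜 (i + 1)) (n : ℕ) :
    ∀ g ∈ 𝒜 n, g ∈ (HomogeneousIdeal.irrelevant 𝒜).toIdeal ^ n := by
  induction n with
  | zero =>
    intro g _
    rw [pow_zero, Ideal.one_eq_top]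
    trivial
  | succ n ih =>
    intro g hg
    rw [← hgen n] at hg
    refine Submodule.mul_induction_on hg ?_ ?_
    · intro m hm m' hm'
      rw [pow_succ']
      refine Ideal.mul_mem_mul ?_ (ih m' hm')
      show m ∈ HomogeneousIdeal.irrelevant 𝒜
      rw [HomogeneousIdeal.mem_irrelevant_iff, GradedRing.proj_apply]
      exact decompose_of_mem_ne 𝒜 hm (by omega)
    · intro x y hx hy
      exact Ideal.add_mem _ hx hy

end Aux

/-- Let S be a Noetherian graded integral domain, graded by the natural numbers as an algebra over a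
ring R, generated by its degree-one part over S_0 (S_1 S_i = S_{i+1}) with S_1 ≠ 0, and integrally
closed in its field of fractions (so that X = Proj S is projectively normal). Then for every d ≥ 0
the canonical map from S_d to the global sections of the twisting sheaf O_X(d), sending a to the
section a/1, is bijective. (The underlying lemma: every global section of O_X(d) is an element of
the homogeneous fraction ring integral over S.) (The published corollary takes the degree-zero part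
to be a finitely generated algebra over a field; this row assumes only that the ring is Noetherian,
which is all the argument uses.) -/
theorem result {R A : Type u} [CommRing R] [CommRing A] [IsDomain A]
    [IsNoetherianRing A] [Algebra R A] (𝒜 : ℕ → Submodule R A) [GradedAlgebra 𝒜]
    (hgen : ∀ i : ℕ, 𝒜 1 * 𝒜 i = 𝒜 (i + 1)) (h1 : 𝒜 1 ≠ ⊥) (hint : IsIntegrallyClosed A) (d : ℕ) :
    Function.Bijective (fun a : ↥(𝒜 d) => Twist.globalOf 𝒜 a) := by
  classical
  haveI := hint
  -- a nonzero element of degree one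
  obtain ⟨f₀, hf₀, hf₀0⟩ : ∃ f₀ ∈ 𝒜 1, f₀ ≠ 0 := by
    by_contra hcon
    push Not at hcon
    exact h1 ((Submodule.eq_bot_iff _).mpr fun x hx => hcon x hx)
  -- the generic point
  have hbotprime : (⊥ : HomogeneousIdeal 𝒜).toIdeal.IsPrime := by
    rw [HomogeneousIdeal.toIdeal_bot]
    exact Ideal.isPrime_bot
  have hbot : ∀ g : A, g ∈ (⊥ : HomogeneousIdeal 𝒜) ↔ g = 0 := fun g => by
    change g ∈ (⊥ : HomogeneousIdeal 𝒜).toIdeal ↔ _
    rw [HomogeneousIdeal.toIdeal_bot, Ideal.mem_bot]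
  let η : ProjectiveSpectrum 𝒜 := ⟨⊥, hbotprime, fun hle => hf₀0 ((hbot f₀).mp (hle (by
    show f₀ ∈ HomogeneousIdeal.irrelevant 𝒜
    rw [HomogeneousIdeal.mem_irrelevant_iff, GradedRing.proj_apply]
    exact DirectSum.decompose_of_mem_ne 𝒜 hf₀ (by omega))))⟩
  have hη : ∀ g : A, g ∈ η.asHomogeneousIdeal ↔ g = 0 := hbot
  have hηmem : ∀ (V : Set (ProjectiveSpectrum 𝒜)), IsOpen V → ∀ x ∈ V, η ∈ V := by
    intro V hV x hx
    obtain ⟨_, ⟨g, rfl⟩, hxg, hgV⟩ :=
      (ProjectiveSpectrum.isTopologicalBasis_basic_opens 𝒜).exists_subset_of_mem_open hx hV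
    refine hgV ((ProjectiveSpectrum.mem_basicOpen 𝒜 g η).mpr fun h => ?_)
    rw [hη] at h
    subst h
    exact (ProjectiveSpectrum.mem_basicOpen 𝒜 0 x).mp hxg (zero_mem _)
  constructor
  · intro a b hab
    have h2 := congrArg (fun t : Twist.sectN (𝒜 := 𝒜) (d : ℤ) (Opposite.op ⊤) =>
      ((t.1 ⟨η, trivial⟩ : Twist.twistAt 𝒜 d η) : Twist.Loc 𝒜 η)) hab
    change Localization.mk a.1 _ = Localization.mk b.1 _ at h2
    rw [Localization.mk_eq_mk_iff, Localization.r_iff_exists] at h2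
    obtain ⟨u, hu⟩ := h2
    have hu0 : (u : A) ≠ 0 := fun h => u.2 ((hη _).mpr h)
    have hu' := mul_left_cancel₀ hu0 hu
    simp only [one_mul] at hu'
    exact Subtype.ext hu'
  · intro t
    have hlocal : ∀ x : ProjectiveSpectrum 𝒜, ∃ (V : Set (ProjectiveSpectrum 𝒜)) (_ : IsOpen V)
        (_ : x ∈ V) (i j : ℕ) (a s : A), a ∈ 𝒜 i ∧ s ∈ 𝒜 j ∧ ((i : ℤ) = j + d ∨ a = 0) ∧
        ∀ y (_ : y ∈ V), ∃ hs : s ∉ y.asHomogeneousIdeal,
          ((t.1 ⟨y, trivial⟩ : Twist.twistAt 𝒜 d y) : Twist.Loc 𝒜 y) =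
            Localization.mk a ⟨s, hs⟩ := by
      intro x
      obtain ⟨V, hxV, iVU, i, j, a, s, nin, hdeg, hw⟩ := t.2 ⟨x, trivial⟩
      exact ⟨V.1, V.2, hxV, i, j, a.1, s.1, a.2, s.2, hdeg,
        fun y hy => ⟨nin ⟨y, hy⟩, hw ⟨y, hy⟩⟩⟩
    obtain ⟨V₀, hV₀, hηV₀, i₀, j₀, a₀, s₀, ha₀, hs₀, hdeg₀, hw₀⟩ := hlocal η
    obtain ⟨hs₀η, htη⟩ := hw₀ η hηV₀
    have hs₀0 : s₀ ≠ 0 := fun h => hs₀η ((hη _).mpr h)
    have hcomp : ∀ x : ProjectiveSpectrum 𝒜, ∃ (i j : ℕ) (a s : A), a ∈ 𝒜 i ∧ s ∈ 𝒜 j ∧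
        ∃ hs : s ∉ x.asHomogeneousIdeal,
          ((t.1 ⟨x, trivial⟩ : Twist.twistAt 𝒜 d x) : Twist.Loc 𝒜 x) =
            Localization.mk a ⟨s, hs⟩ ∧ a * s₀ = a₀ * s := by
      intro x
      obtain ⟨V, hV, hxV, i, j, a, s, ha, hs, hdeg, hw⟩ := hlocal x
      obtain ⟨hsx, htx⟩ := hw x hxV
      obtain ⟨hsη, htη'⟩ := hw η (hηmem V hV x hxV)
      refine ⟨i, j, a, s, ha, hs, hsx, htx, ?_⟩
      rw [htη, Localization.mk_eq_mk_iff, Localization.r_iff_exists] at htη'
      obtain ⟨u, hu⟩ := htη'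
      have hu0 : (u : A) ≠ 0 := fun h => u.2 ((hη _).mpr h)
      have hu' : s * a₀ = s₀ * a := mul_left_cancel₀ hu0 hu
      rw [mul_comm a s₀, mul_comm a₀ s]
      exact hu'.symm
    have hc : ∃ c ∈ 𝒜 d, c * s₀ = a₀ := by
      rcases hdeg₀ with hdeg₀ | ha₀0
      swap
      · exact ⟨0, zero_mem _, by rw [ha₀0, zero_mul]⟩
      have hi₀ : i₀ = j₀ + d := by exact_mod_cast hdeg₀
      let I : Ideal A := Submodule.comap (LinearMap.mulRight A a₀) (Ideal.span {s₀})
      have hI : ∀ g, g ∈ I ↔ ∃ c, c * s₀ = g * a₀ := fun g => by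
        show g * a₀ ∈ Ideal.span {s₀} ↔ _
        rw [Ideal.mem_span_singleton']
      have hSle : ∀ f (e : ℕ), 0 < e → f ∈ 𝒜 e → f ∈ I.radical := by
        intro f e he hf
        have := Groth.Agent.Lib.helper24.GrFrac.mem_radical_span_of_cover 𝒜 he hf
          {g | (∃ e', g ∈ 𝒜 e') ∧ g ∈ I} (fun g hg => hg.1) (fun x _ => by
            obtain ⟨i, j, a, s, ha, hs, hsx, htx, hrel⟩ := hcomp x
            exact ⟨s, ⟨⟨j, hs⟩, (hI s).mpr ⟨a, by rw [hrel, mul_comm]⟩⟩, hsx⟩)
        refine Ideal.radical_mono ?_ this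
        rw [Ideal.span_le]
        exact fun g hg => hg.2
      have hirr : (HomogeneousIdeal.irrelevant 𝒜).toIdeal ≤ I.radical := by
        intro z hz
        have hz' : z ∈ HomogeneousIdeal.irrelevant 𝒜 := hz
        rw [HomogeneousIdeal.mem_irrelevant_iff, GradedRing.proj_apply] at hz'
        rw [← DirectSum.sum_support_decompose 𝒜 z]
        refine Ideal.sum_mem _ fun c _ => ?_
        by_cases hc0 : c = 0
        · subst hc0
          rw [hz']
          exact Ideal.zero_mem _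
        · exact hSle _ c (Nat.pos_iff_ne_zero.mpr hc0) (DirectSum.decompose 𝒜 z c).2
      obtain ⟨N, hN⟩ := Ideal.exists_pow_le_of_le_radical_of_fg hirr (IsNoetherian.noetherian _)
      have hstep : ∀ n, N ≤ n → ∀ g ∈ 𝒜 n, ∃ c ∈ 𝒜 (n + d), c * s₀ = g * a₀ := by
        intro n hn g hg
        have hgI : g ∈ I :=
          hN (Ideal.pow_le_pow_right hn (piece_le_irrelevant_pow 𝒜 hgen n g hg))
        obtain ⟨c, hc⟩ := (hI g).mp hgI
        have hga : g * a₀ ∈ 𝒜 (n + i₀) := SetLike.mul_mem_graded hg ha₀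
        obtain ⟨hcm, -⟩ := homog_of_mul_eq 𝒜 hs₀ hs₀0 hga hc
        have hidx : n + i₀ - j₀ = n + d := by omega
        rw [hidx] at hcm
        exact ⟨c, hcm, hc⟩
      have hiter : ∀ q : ℕ, ∀ n, N ≤ n → ∀ g ∈ 𝒜 n,
          ∃ c ∈ 𝒜 (n + q * d), c * s₀ ^ q = g * a₀ ^ q := by
        intro q
        induction q with
        | zero =>
          intro n _ g hg
          exact ⟨g, by simpa using hg, by simp⟩
        | succ q ih =>
          intro n hn g hg
          obtain ⟨c, hcm, hc⟩ := ih n hn g hg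
          obtain ⟨c', hcm', hc'⟩ := hstep (n + q * d) (le_trans hn (Nat.le_add_right _ _)) c hcm
          have hidx : n + q * d + d = n + (q + 1) * d := by ring
          rw [hidx] at hcm'
          refine ⟨c', hcm', ?_⟩
          rw [pow_succ, pow_succ, ← mul_assoc, ← mul_assoc, ← hc, mul_right_comm c' _ s₀, hc']
          ring
      let K := FractionRing A
      let φ : K := algebraMap A K a₀ / algebraMap A K s₀
      have hinj : Function.Injective (algebraMap A K) := IsFractionRing.injective A K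
      have hs₀K : algebraMap A K s₀ ≠ 0 := fun h => hs₀0 (hinj (by rw [h, map_zero]))
      let g₀ : A := f₀ ^ N
      have hg₀ : g₀ ∈ 𝒜 N := by
        have := SetLike.pow_mem_graded N hf₀
        simpa using this
      have hg₀0 : g₀ ≠ 0 := pow_ne_zero _ hf₀0
      have hg₀K : algebraMap A K g₀ ≠ 0 := fun h => hg₀0 (hinj (by rw [h, map_zero]))
      have hpow : ∀ q : ℕ, ∃ c : A, φ ^ q = (algebraMap A K g₀)⁻¹ * algebraMap A K c := by
        intro q
        obtain ⟨c, -, hc⟩ := hiter q N le_rfl g₀ hg₀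
        refine ⟨c, ?_⟩
        have hK : algebraMap A K c * algebraMap A K s₀ ^ q =
            algebraMap A K g₀ * algebraMap A K a₀ ^ q := by
          rw [← map_pow, ← map_pow, ← map_mul, ← map_mul, hc]
        show (algebraMap A K a₀ / algebraMap A K s₀) ^ q = _
        rw [div_pow, div_eq_iff (pow_ne_zero q hs₀K), mul_assoc, hK, ← mul_assoc,
          inv_mul_cancel₀ hg₀K, one_mul]
      have hint' : IsIntegral A φ := by
        let W : Submodule A K := Submodule.span A {(algebraMap A K g₀)⁻¹}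
        have hle : Subalgebra.toSubmodule (Algebra.adjoin A {φ}) ≤ W := by
          rw [Algebra.adjoin_eq_span, Submodule.span_le]
          intro y hy
          rw [SetLike.mem_coe, Submonoid.mem_closure_singleton] at hy
          obtain ⟨q, rfl⟩ := hy
          obtain ⟨c, hc⟩ := hpow q
          rw [hc, SetLike.mem_coe, mul_comm, ← Algebra.smul_def]
          exact Submodule.smul_mem _ _ (Submodule.subset_span rfl)
        have hWfg : W.FG := Submodule.fg_span_singleton _
        exact IsIntegral.of_mem_of_fg _ (Submodule.FG.of_le hWfg hle) φ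
          (Algebra.subset_adjoin rfl)
      obtain ⟨c, hc⟩ := IsIntegrallyClosed.algebraMap_eq_of_integral hint'
      have hcs : c * s₀ = a₀ := by
        apply hinj
        rw [map_mul, hc]
        exact div_mul_cancel₀ _ hs₀K
      obtain ⟨hcm, -⟩ := homog_of_mul_eq 𝒜 hs₀ hs₀0 ha₀ hcs
      have hidx : i₀ - j₀ = d := by omega
      rw [hidx] at hcm
      exact ⟨c, hcm, hcs⟩
    obtain ⟨c, hcm, hcs⟩ := hc
    refine ⟨⟨c, hcm⟩, ?_⟩
    refine Subtype.ext (funext fun x => Subtype.ext ?_)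
    obtain ⟨i, j, a, s, ha, hs, hsx, htx, hrel⟩ := hcomp x.1
    have hacs : a = c * s := by
      apply mul_right_cancel₀ hs₀0
      rw [hrel, ← hcs]
      ring
    change Localization.mk c _ = ((t.1 x : Twist.twistAt 𝒜 d x.1) : Twist.Loc 𝒜 x.1)
    rw [htx, Localization.mk_eq_mk_iff, Localization.r_iff_exists]
    refine ⟨1, ?_⟩
    simp only [OneMemClass.coe_one, one_mul]
    rw [hacs, mul_comm]

end Groth.Agent.S10908
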