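import Groth.Statements.S10912
import Mathlib

set_option autoImplicit false
universe u
open CategoryTheory CategoryTheory.Limits AlgebraicGeometry TopologicalSpace
open WDiv

namespace Groth.Agent.S10912

section Helpers

open AlgebraicGeometry CategoryTheory Limits TopologicalSpace WithZero

lemma ord_ringEquiv {R R' : Type*} [CommRing R] [CommRing R'] (φ : R ≃+* R') (a : R) :
    Ring.ord R' (φ a) = Ring.ord R a := by
  have hJ : Ideal.span {φ a} = (Ideal.span {a}).map (φ : R →+* R') := by
    rw [Ideal.map_span, Set.image_singleton]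
    rfl
  let e := Ideal.quotientEquiv (Ideal.span {a}) (Ideal.span {φ a}) φ hJ
  haveI : RingHomSurjective (φ : R →+* R') := ⟨φ.surjective⟩
  let f : (R ⧸ Ideal.span {a}) →ₛₗ[(φ : R →+* R')] (R' ⧸ Ideal.span {φ a}) :=
    { toFun := e
      map_add' := map_add e
      map_smul' := by
        intro r m
        obtain ⟨m, rfl⟩ := Ideal.Quotient.mk_surjective m
        rw [Algebra.smul_def, Algebra.smul_def, map_mul]
        rfl }
  rw [Ring.ord, Ring.ord, Module.length, Module.length, WithBot.unbot_inj,
    Order.krullDim_eq_of_orderIso (Submodule.orderIsoMapComapOfBijective f e.bijective).symm]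

section T
variable {R R' K K' : Type*} [CommRing R] [IsNoetherianRing R] [Ring.KrullDimLE 1 R] [Nontrivial R]
  [CommRing R'] [IsNoetherianRing R'] [Ring.KrullDimLE 1 R'] [Nontrivial R']
  [Field K] [Field K'] [Algebra R K] [IsFractionRing R K] [Algebra R' K'] [IsFractionRing R' K']
  (φ : R ≃+* R') (ψ : K →+* K') (h : ∀ r, ψ (algebraMap R K r) = algebraMap R' K' (φ r))

include h in
lemma ordFrac_transport (x : K) : Ring.ordFrac R' (ψ x) = Ring.ordFrac R x := by
  haveI := (FaithfulSMul.algebraMap_injective R K).isDomain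
  haveI := (FaithfulSMul.algebraMap_injective R' K').isDomain
  have key : ∀ r : R, Ring.ordFrac R' (algebraMap R' K' (φ r)) = Ring.ordFrac R (algebraMap R K r) := by
    intro r
    by_cases hr : r = 0
    · subst hr
      simp
    · have hr' : φ r ≠ 0 := by
        intro h0
        exact hr (φ.injective (h0.trans (map_zero φ).symm))
      rw [Ring.ordFrac_eq_ord _ hr, Ring.ordFrac_eq_ord _ hr',
        Ring.ordMonoidWithZeroHom_eq_ord (mem_nonZeroDivisors_of_ne_zero hr),
        Ring.ordMonoidWithZeroHom_eq_ord (mem_nonZeroDivisors_of_ne_zero hr'), ord_ringEquiv]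
  obtain ⟨a, b, hb, rfl⟩ := IsFractionRing.div_surjective (A := R) x
  rw [map_div₀ ψ, h, h, map_div₀, map_div₀, key, key]

end T

lemma psi_surjective {R R' K K' : Type*} [CommRing R] [CommRing R']
    [Field K] [Field K'] [Algebra R K] [Algebra R' K'] [IsFractionRing R' K']
    (φ : R ≃+* R') (ψ : K →+* K') (h : ∀ r, ψ (algebraMap R K r) = algebraMap R' K' (φ r)) :
    Function.Surjective ψ := by
  intro y
  obtain ⟨a, b, hb, rfl⟩ := IsFractionRing.div_surjective (A := R') y
  refine ⟨algebraMap R K (φ.symm a) / algebraMap R K (φ.symm b), ?_⟩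
  rw [map_div₀ ψ, h, h, φ.apply_symm_apply, φ.apply_symm_apply]

section Sch
variable (X : Scheme.{u}) [IsIntegral X] [IsLocallyNoetherian X] (U : X.Opens) [Nonempty U]

lemma gen_eq : U.ι (genericPoint ↥(U : Scheme.{u})) = genericPoint ↥X :=
  genericPoint_eq_of_isOpenImmersion U.ι

/-- `K(X) → K(U)`. -/
noncomputable def psi : X.functionField ⟶ (U : Scheme.{u}).functionField :=
  X.presheaf.stalkSpecializes (specializes_of_eq (gen_eq X U)) ≫
    U.ι.stalkMap (genericPoint ↥(U : Scheme.{u}))

lemma psi_comm (u : ↥(U : Scheme.{u})) :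
    X.presheaf.stalkSpecializes ((genericPoint_spec ↥X).specializes trivial) ≫ psi X U =
      U.ι.stalkMap u ≫ (U : Scheme.{u}).presheaf.stalkSpecializes
        ((genericPoint_spec ↥(U : Scheme.{u})).specializes trivial) := by
  rw [psi, ← Category.assoc, TopCat.Presheaf.stalkSpecializes_comp,
    ← Scheme.Hom.stalkSpecializes_stalkMap]

lemma psi_compat (u : ↥(U : Scheme.{u})) (r : X.presheaf.stalk (U.ι u)) :
    (psi X U).hom (algebraMap (X.presheaf.stalk (U.ι u)) X.functionField r) =
      algebraMap ((U : Scheme.{u}).presheaf.stalk u) (U : Scheme.{u}).functionField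
        ((U.ι.stalkMap u).hom r) :=
  congr($(psi_comm X U u) r)

lemma ord_psi (u : ↥(U : Scheme.{u})) (f : X.functionField) :
    Scheme.ord ((psi X U).hom f) u = Scheme.ord f (U.ι u) := by
  have hco : Order.coheight (U.ι u) = Order.coheight u := coheight_eq_of_isOpenImmersion U.ι
  by_cases hu : Order.coheight u = 1
  · have hu' : Order.coheight (U.ι u) = 1 := hco.trans hu
    rw [Scheme.ord_eq_ordHom_of_coheight_eq_one hu, Scheme.ord_eq_ordHom_of_coheight_eq_one hu']
    congr 2
    haveI : Ring.KrullDimLE 1 (X.presheaf.stalk (U.ι u)) := krullDimLE_of_coheight_le hu'.le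
    haveI : Ring.KrullDimLE 1 ((U : Scheme.{u}).presheaf.stalk u) := krullDimLE_of_coheight_le hu.le
    change Ring.ordFrac _ _ = Ring.ordFrac _ _
    exact ordFrac_transport (asIso (U.ι.stalkMap u)).commRingCatIsoToRingEquiv (psi X U).hom
      (psi_compat X U u) f
  · have hu' : Order.coheight (U.ι u) ≠ 1 := by
      rw [hco]
      exact hu
    rw [Scheme.ord_eq_zero_of_coheight_neq_one hu, Scheme.ord_eq_zero_of_coheight_neq_one hu']

lemma psi_surj : Function.Surjective (psi X U).hom := by
  obtain ⟨u⟩ := (inferInstance : Nonempty ↥(U : Scheme.{u}))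
  exact psi_surjective (asIso (U.ι.stalkMap u)).commRingCatIsoToRingEquiv (psi X U).hom
    (psi_compat X U u)

lemma psi_ne_zero (f : X.functionField) (hf : f ≠ 0) : (psi X U).hom f ≠ 0 := by
  rw [map_ne_zero_iff _ (RingHom.injective _)]
  exact hf

end Sch

theorem main10912 (X : Scheme.{u}) [IsIntegral X] [IsNoetherian X]
    (U : X.Opens) [Nonempty U] (hcod : ∀ x : ↥X, x ∉ U → 2 ≤ Order.coheight x)
    (D : ↥X → ℤ) :
    (∃ f : ↑X.functionField, f ≠ 0 ∧ ∀ x : ↥X, Order.coheight x = 1 → Scheme.ord f x = D x) ↔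
      ∃ g : ↑(U : Scheme.{u}).functionField, g ≠ 0 ∧
        ∀ u : ↥(U : Scheme.{u}), Order.coheight u = 1 → Scheme.ord g u = D u.1 := by
  constructor
  · rintro ⟨f, hf, h⟩
    refine ⟨(psi X U).hom f, psi_ne_zero X U f hf, ?_⟩
    intro u hu
    rw [ord_psi]
    exact h (U.ι u) ((coheight_eq_of_isOpenImmersion U.ι).trans hu)
  · rintro ⟨g, hg, h⟩
    obtain ⟨f, rfl⟩ := psi_surj X U g
    refine ⟨f, fun h0 => hg (by rw [h0, map_zero]), ?_⟩
    intro x hx
    have hxU : x ∈ U := by
      by_contra hn
      have h2 := hcod x hn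
      rw [hx] at h2
      exact absurd h2 (by norm_num)
    obtain ⟨u, rfl⟩ : ∃ u : ↥(U : Scheme.{u}), U.ι u = x := by
      have hr : x ∈ Set.range U.ι := by
        rw [Scheme.Opens.range_ι]
        exact hxU
      exact hr
    have h3 := h u ((coheight_eq_of_isOpenImmersion U.ι (x := u)).symm.trans hx)
    rw [ord_psi] at h3
    exact h3

theorem main10911 (X : Scheme.{u}) [IsIntegral X] [IsNoetherian X]
    (z : ↥X) (hz : Order.coheight z = 1) (U : X.Opens) (hU : (U : Set ↥X) = (closure {z})ᶜ)
    [Nonempty U]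
    (D : ↥X → ℤ)
    (g : ↑(U : Scheme.{u}).functionField) (hg : g ≠ 0)
    (h : ∀ u : ↥(U : Scheme.{u}), Order.coheight u = 1 → Scheme.ord g u = D u.1) :
    ∃ (m : ℤ) (f : ↑X.functionField), f ≠ 0 ∧ Scheme.ord f z = D z - m ∧
      ∀ x : ↥X, x ≠ z → Order.coheight x = 1 → Scheme.ord f x = D x := by
  obtain ⟨f, rfl⟩ := psi_surj X U g
  refine ⟨D z - Scheme.ord f z, f, fun h0 => hg (by rw [h0, map_zero]), by ring, ?_⟩
  intro x hxz hx
  have hxU : x ∈ U := by
    change x ∈ (U : Set ↥X)
    rw [hU]
    intro hcl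
    have hsp : z ⤳ x := specializes_iff_mem_closure.mpr hcl
    have hlt : x < z := by
      refine ⟨hsp, fun hzx => hxz ?_⟩
      exact (hzx.antisymm hsp).eq
    have h2 := Order.coheight_add_one_le hlt
    rw [hz, hx] at h2
    exact absurd h2 (by norm_num)
  obtain ⟨u, rfl⟩ : ∃ u : ↥(U : Scheme.{u}), U.ι u = x := by
    have hr : x ∈ Set.range U.ι := by
      rw [Scheme.Opens.range_ι]
      exact hxU
    exact hr
  have h3 := h u ((coheight_eq_of_isOpenImmersion U.ι (x := u)).symm.trans hx)
  rw [ord_psi] at h3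
  exact h3

end Helpers


/-- Let X be an integral Noetherian separated scheme which is regular in codimension 1, and U a nonempty
open subscheme whose complement has codimension at least 2: every point not in U has coheight ≥ 2 in
the specialization order. Then restriction identifies the divisor class groups of X and U;
concretely, since all points of coheight 1 lie in U, a Weil divisor D on X (integer-valued function
with finite support inside the coheight-1 points) is the divisor of a nonzero rational function on X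
if and only if its restriction to U is the divisor of a nonzero rational function on U. -/
theorem result (X : Scheme.{u}) [IsIntegral X]
    [IsNoetherian X] [X.IsSeparated]
    (hR1 : ∀ x : ↥X, Order.coheight x = 1 → IsDiscreteValuationRing ↑(X.presheaf.stalk x))
    (U : X.Opens) [Nonempty U] (hcod : ∀ x : ↥X, x ∉ U → 2 ≤ Order.coheight x)
    (D : ↥X → ℤ) (hD : ∀ x, Order.coheight x ≠ 1 → D x = 0) (hfin : {x | D x ≠ 0}.Finite) :
    (∃ f : ↑X.functionField, f ≠ 0 ∧ ∀ x : ↥X, Order.coheight x = 1 → Scheme.ord f x = D x) ↔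
      ∃ g : ↑(U : Scheme.{u}).functionField, g ≠ 0 ∧
        ∀ u : ↥(U : Scheme.{u}), Order.coheight u = 1 → Scheme.ord g u = D u.1 := by
  exact main10912 X U hcod D

end Groth.Agent.S10912
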