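import Groth.Statements.S10915
import Mathlib
import Groth.Agent.S10821
import Groth.Agent.S10829
import Groth.Agent.S19926
import Groth.Agent.S10822

set_option autoImplicit false
universe u
open ProjDeg

namespace Groth.Agent.S10915

section Helpers

open AlgebraicGeometry TopologicalSpace

section
variable (k : Type u) [Field k] (n : ℕ)

local notation "𝒜" => CohB1.polyGrading n k
local notation "A" => MvPolynomial (Fin (n + 1)) k

open Groth.Agent.S10821 Groth.Agent.S10829 Groth.Agent.S19926 Groth.Agent.S10822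

lemma irr_le_of_X (p : Ideal A) (h : ∀ j : Fin (n + 1), (MvPolynomial.X j : A) ∈ p) :
    (HomogeneousIdeal.irrelevant 𝒜).toIdeal ≤ p := by
  intro a ha
  have h0 : MvPolynomial.coeff 0 a = 0 := by
    have h1 := (HomogeneousIdeal.mem_irrelevant_iff 𝒜 a).mp ha
    have hdec : (DirectSum.decompose 𝒜 a 0 : A) = MvPolynomial.homogeneousComponent 0 a :=
      MvPolynomial.decomposition.decompose'_apply a 0
    rw [GradedRing.proj_apply, hdec, MvPolynomial.homogeneousComponent_zero] at h1
    exact MvPolynomial.C_injective _ _ (by rw [h1, map_zero])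
  have hspan : a ∈ Ideal.span ((MvPolynomial.X : Fin (n + 1) → A) '' Set.univ) := by
    rw [MvPolynomial.mem_ideal_span_X_image]
    intro m hm
    by_contra hcon
    push Not at hcon
    have hm0 : m = 0 := by
      ext j
      exact hcon j (Set.mem_univ j)
    rw [hm0, MvPolynomial.mem_support_iff] at hm
    exact hm h0
  have hle : Ideal.span ((MvPolynomial.X : Fin (n + 1) → A) '' Set.univ) ≤ p := by
    rw [Ideal.span_le]
    rintro _ ⟨j, -, rfl⟩
    exact h j
  exact hle hspan

lemma minPrime_homog (K : Ideal A) (hK : K.IsHomogeneous 𝒜) (q : Ideal A)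
    (hq : q ∈ K.minimalPrimes) : (q.homogeneousCore 𝒜).toIdeal = q := by
  haveI := hq.1.1
  apply le_antisymm (Ideal.toIdeal_homogeneousCore_le 𝒜 q)
  apply hq.2 ⟨hq.1.1.homogeneousCore, ?_⟩ (Ideal.toIdeal_homogeneousCore_le 𝒜 q)
  have h1 : (K.homogeneousCore 𝒜).toIdeal ≤ (q.homogeneousCore 𝒜).toIdeal :=
    Ideal.homogeneousCore_mono 𝒜 hq.1.2
  rwa [hK.toIdeal_homogeneousCore_eq_self] at h1

lemma point_of (Q : Ideal A) (hQp : Q.IsPrime) (hcore : (Q.homogeneousCore 𝒜).toIdeal = Q)
    (hrel : ¬ (HomogeneousIdeal.irrelevant 𝒜).toIdeal ≤ Q) :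
    ∃ z : ProjectiveSpectrum 𝒜, z.asHomogeneousIdeal.toIdeal = Q :=
  ⟨⟨Q.homogeneousCore 𝒜, hQp.homogeneousCore, fun h =>
    hrel (fun a ha => Ideal.toIdeal_homogeneousCore_le 𝒜 Q (h ha))⟩, hcore⟩

lemma avoid [Infinite k] (J : Ideal A) :
    ∃ h0 : A, h0.IsHomogeneous 1 ∧
      ∀ p ∈ J.minimalPrimes, ¬ (HomogeneousIdeal.irrelevant 𝒜).toIdeal ≤ p → h0 ∉ p := by
  by_contra hcon
  push Not at hcon
  let ι := {p : Ideal A // p ∈ J.minimalPrimes ∧ ¬ (HomogeneousIdeal.irrelevant 𝒜).toIdeal ≤ p}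
  haveI : Finite ι :=
    ((Ideal.finite_minimalPrimes_of_isNoetherianRing A J).subset (fun p hp => hp.1)).to_subtype
  let S : ι → Subspace k ↥(𝒜 1) := fun p =>
    Submodule.comap (𝒜 1).subtype (p.1.restrictScalars k)
  have hcovers : ⋃ i, (S i : Set ↥(𝒜 1)) = Set.univ := by
    rw [Set.eq_univ_iff_forall]
    intro e
    obtain ⟨p, hp, hrel, hep⟩ := hcon e.1 ((MvPolynomial.mem_homogeneousSubmodule _ _).mp e.2)
    exact Set.mem_iUnion.mpr ⟨⟨p, hp, hrel⟩, hep⟩
  obtain ⟨i, hi⟩ := Subspace.exists_eq_top_of_iUnion_eq_univ hcovers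
  apply i.2.2
  apply irr_le_of_X
  intro j
  have hmem : (⟨MvPolynomial.X j, MvPolynomial.isHomogeneous_X _ _⟩ : ↥(𝒜 1)) ∈ S i := by
    rw [hi]; exact Submodule.mem_top
  exact hmem

lemma claim [Infinite k] : ∀ (c : ℕ) (J : Ideal A), J.IsHomogeneous 𝒜 →
    (∀ z : ProjectiveSpectrum 𝒜, J ≤ z.asHomogeneousIdeal.toIdeal → Order.coheight z < (c : ℕ∞)) →
    ∃ h : Fin c → A, (∀ i, (h i).IsHomogeneous 1) ∧
      ∀ z : ProjectiveSpectrum 𝒜,
        ¬ (J ⊔ Ideal.span (Set.range h) ≤ z.asHomogeneousIdeal.toIdeal) := by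
  intro c
  induction c with
  | zero =>
    intro J _ hJ
    refine ⟨fun i => i.elim0, fun i => i.elim0, ?_⟩
    intro z hz
    have := hJ z (le_sup_left.trans hz)
    exact absurd this (by simp)
  | succ c ih =>
    intro J hJh hJ
    obtain ⟨h0, h0hom, h0avoid⟩ := avoid k n J
    have hJ'h : (J ⊔ Ideal.span {h0}).IsHomogeneous 𝒜 := by
      apply hJh.sup
      apply Ideal.homogeneous_span
      intro a ha
      rw [Set.mem_singleton_iff] at ha
      rw [ha]
      exact ⟨1, h0hom⟩
    have hJ' : ∀ z : ProjectiveSpectrum 𝒜, J ⊔ Ideal.span {h0} ≤ z.asHomogeneousIdeal.toIdeal →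
        Order.coheight z < (c : ℕ∞) := by
      intro z hz
      have hJz : J ≤ z.asHomogeneousIdeal.toIdeal := le_sup_left.trans hz
      have h0z : h0 ∈ z.asHomogeneousIdeal.toIdeal :=
        hz (Ideal.mem_sup_right (Ideal.mem_span_singleton_self h0))
      haveI := z.isPrime
      obtain ⟨p, hpmin, hpz⟩ := Ideal.exists_minimalPrimes_le hJz
      have hprel : ¬ (HomogeneousIdeal.irrelevant 𝒜).toIdeal ≤ p :=
        fun h => z.not_irrelevant_le (fun a ha => hpz (h ha))
      obtain ⟨q, hq⟩ := point_of k n p hpmin.1.1 (minPrime_homog k n J hJh p hpmin) hprel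
      have hqz : q < z := by
        refine lt_of_le_of_ne ?_ ?_
        · change q.asHomogeneousIdeal.toIdeal ≤ z.asHomogeneousIdeal.toIdeal
          rw [hq]; exact hpz
        · intro heq
          apply h0avoid p hpmin hprel
          rw [← hq, heq]; exact h0z
      have h1 : Order.coheight z + 1 ≤ Order.coheight q := Order.coheight_add_one_le hqz
      have h2 : Order.coheight q < ((c + 1 : ℕ) : ℕ∞) := hJ q (by rw [hq]; exact hpmin.1.2)
      have h3 : Order.coheight z + 1 < (c : ℕ∞) + 1 := by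
        refine lt_of_le_of_lt h1 ?_
        exact_mod_cast h2
      exact lt_of_add_lt_add_right h3
    obtain ⟨h', h'hom, h'emp⟩ := ih (J ⊔ Ideal.span {h0}) hJ'h hJ'
    refine ⟨Fin.cons h0 h', ?_, ?_⟩
    · intro i
      refine Fin.cases ?_ (fun j => ?_) i
      · rw [Fin.cons_zero]; exact h0hom
      · rw [Fin.cons_succ]; exact h'hom j
    · intro z hz
      apply h'emp z
      apply sup_le (sup_le (le_sup_left.trans hz) ?_) ?_
      · rw [Ideal.span_singleton_le_iff_mem]
        apply hz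
        apply Ideal.mem_sup_right
        apply Ideal.subset_span
        exact ⟨0, Fin.cons_zero _ _⟩
      · rw [Ideal.span_le]
        rintro _ ⟨j, rfl⟩
        apply hz
        apply Ideal.mem_sup_right
        apply Ideal.subset_span
        exact ⟨j.succ, Fin.cons_succ _ _ _⟩

theorem main10915 [IsAlgClosed k] (r : ℕ) (I : Ideal A) (hIh : I.IsHomogeneous 𝒜) [hIp : I.IsPrime]
    (hdim : ringKrullDim (A ⧸ I) = (r : WithBot ℕ∞) + 1) :
    ∃ h : Fin (r + 1) → A, (∀ i, (h i).IsHomogeneous 1) ∧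
      ∃ N : ℕ, (Ideal.span (Set.range (MvPolynomial.X : Fin (n + 1) → A))) ^ N ≤
        I ⊔ Ideal.span (Set.range h) := by
  have hrel : ¬ (HomogeneousIdeal.irrelevant 𝒜).toIdeal ≤ I := by
    intro hrel
    have hIm : I = (HomogeneousIdeal.irrelevant 𝒜).toIdeal :=
      ((irr_isMaximal k n).eq_of_le hIp.ne_top hrel).symm
    haveI : I.IsMaximal := hIm ▸ irr_isMaximal k n
    letI : Field (A ⧸ I) := Ideal.Quotient.field I
    rw [ringKrullDim_eq_zero_of_field] at hdim
    have h1 : ((0 : ℕ) : WithBot ℕ∞) = ((r + 1 : ℕ) : WithBot ℕ∞) := by exact_mod_cast hdim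
    have h2 : (0 : ℕ) = r + 1 := by exact_mod_cast h1
    omega
  let x : ProjectiveSpectrum 𝒜 := ⟨⟨I, hIh⟩, hIp, fun h => hrel (fun a ha => h ha)⟩
  have hx : x.asHomogeneousIdeal.toIdeal = I := rfl
  have hdx := dimA_eq k n x
  rw [hx, hdim] at hdx
  obtain ⟨Nx, hNx⟩ := coheight_fin k n x
  rw [hNx] at hdx
  have hNxr : Nx = r := by
    have h1 : ((r + 1 : ℕ) : WithBot ℕ∞) = ((Nx + 1 : ℕ) : WithBot ℕ∞) := by exact_mod_cast hdx
    have h2 : r + 1 = Nx + 1 := by exact_mod_cast h1
    omega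
  obtain ⟨h, hhom, hemp⟩ := claim k n (r + 1) I hIh (by
    intro z hz
    have hxz : x ≤ z := hz
    have h1 : Order.coheight z ≤ Order.coheight x := Order.coheight_anti hxz
    rw [hNx, hNxr] at h1
    refine lt_of_le_of_lt h1 ?_
    exact_mod_cast Nat.lt_succ_self r)
  refine ⟨h, hhom, ?_⟩
  apply Ideal.exists_pow_le_of_le_radical_of_fg _ (IsNoetherian.noetherian _)
  rw [← Ideal.sInf_minimalPrimes]
  apply le_sInf
  intro q hq
  have hKh : (I ⊔ Ideal.span (Set.range h)).IsHomogeneous 𝒜 := by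
    apply hIh.sup
    apply Ideal.homogeneous_span
    rintro _ ⟨i, rfl⟩
    exact ⟨1, hhom i⟩
  have hqm : (HomogeneousIdeal.irrelevant 𝒜).toIdeal ≤ q := by
    by_contra hqrel
    obtain ⟨z, hz⟩ := point_of k n q hq.1.1 (minPrime_homog k n _ hKh q hq) hqrel
    exact hemp z (by rw [hz]; exact hq.1.2)
  rw [Ideal.span_le]
  rintro _ ⟨j, rfl⟩
  apply hqm
  exact HomogeneousIdeal.mem_irrelevant_of_mem 𝒜 (i := 1) one_pos (MvPolynomial.isHomogeneous_X _ _)

end
end Helpers


/-- Let k be an algebraically closed field, R = k[X_0, …, X_n] graded by degree, and I a homogeneous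
prime ideal with dim R/I = r + 1, so that X = V_+(I) ⊆ P^n_k is a projective variety of dimension r.
Then there are r + 1 linear forms h_1, …, h_{r+1} (homogeneous of degree 1) whose common zero set in
P^n_k does not meet X, i.e. the ideal I + (h_1, …, h_{r+1}) contains some power of the irrelevant
ideal (X_0, …, X_n). (The published statement says that a generic linear subspace of dimension n − r
− 1 misses X; this row asserts only that one such subspace, cut out by r + 1 linear forms, exists.) -/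
theorem result (k : Type u) [Field k] [IsAlgClosed k]
    (n r : ℕ) (I : Ideal (MvPolynomial (Fin (n + 1)) k)) (hIh : I.IsHomogeneous (CohB1.polyGrading n k)) [I.IsPrime]
    (hdim : ringKrullDim (MvPolynomial (Fin (n + 1)) k ⧸ I) = (r : WithBot ℕ∞) + 1) :
    ∃ h : Fin (r + 1) → MvPolynomial (Fin (n + 1)) k, (∀ i, (h i).IsHomogeneous 1) ∧
      ∃ N : ℕ, (Ideal.span (Set.range (MvPolynomial.X : Fin (n + 1) → MvPolynomial (Fin (n + 1)) k))) ^ N ≤
        I ⊔ Ideal.span (Set.range h) := by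
  exact main10915 k n r I hIh hdim

end Groth.Agent.S10915
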