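import Groth.Statements.S17385
import Mathlib
import Groth.Agent.Lib.helper22.BlowUpU
import Groth.Agent.Lib.helper22.BlowUpMul
import Groth.Agent.Lib.helper26.CartCompl

set_option autoImplicit false
universe u
open BlowUp

namespace Groth.Agent.S17385


open AlgebraicGeometry CategoryTheory CategoryTheory.Limits TopologicalSpace
open Groth.Agent.H22.BlowUpU Groth.Agent.H22.BlowUpMul Groth.Agent.H22.CartierFlat
open Groth.Agent.Lib.helper26.CartCompl

theorem ker_res_congr {T : Scheme.{u}} {N O₁ O₂ : T.Opens} (h : O₁ = O₂) (h₁ : O₁ ≤ N) (h₂ : O₂ ≤ N)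
    (x : Γ(T, N)) :
    (T.presheaf.map (homOfLE h₁).op).hom x = 0 ↔ (T.presheaf.map (homOfLE h₂).op).hom x = 0 := by
  subst h; rfl

/-- Sections of the kernel of the inclusion of the complement of a locally principal divisor:
the `s`-power torsion. -/
theorem mem_ker_compl_iff {T : Scheme.{u}} (𝓔 : T.IdealSheafData)
    [QuasiCompact (Scheme.Opens.ι 𝓔.support.compl)] (N : T.affineOpens) (s : Γ(T, N.1))
    (hs : 𝓔.ideal N = Ideal.span {s}) (x : Γ(T, N.1)) :
    x ∈ ((Scheme.Opens.ι 𝓔.support.compl).ker).ideal N ↔ ∃ n : ℕ, s ^ n * x = 0 := by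
  rw [Scheme.Hom.ker_apply, RingHom.mem_ker, Scheme.Opens.ι_app]
  have hop : (Scheme.Opens.ι 𝓔.support.compl) ''ᵁ ((Scheme.Opens.ι 𝓔.support.compl) ⁻¹ᵁ N.1) = T.basicOpen s := by
    rw [Scheme.Hom.image_preimage_eq_opensRange_inf, Scheme.Opens.opensRange_ι]
    exact compl_inf_eq_basicOpen 𝓔 N s hs
  have hiff := ker_res_congr hop (Set.image_preimage_subset _ _ :
    (Scheme.Opens.ι 𝓔.support.compl) ''ᵁ ((Scheme.Opens.ι 𝓔.support.compl) ⁻¹ᵁ N.1) ≤ N.1)
    (T.basicOpen_le s) x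
  refine hiff.trans ?_
  haveI := N.2.isLocalization_basicOpen s
  have h1 := IsLocalization.map_eq_zero_iff (Submonoid.powers s) Γ(T, T.basicOpen s) x
  rw [show (T.presheaf.map (homOfLE (T.basicOpen_le s)).op).hom x =
    algebraMap Γ(T, N.1) Γ(T, T.basicOpen s) x from rfl, h1]
  constructor
  · rintro ⟨⟨_, n, rfl⟩, hm⟩
    exact ⟨n, hm⟩
  · rintro ⟨n, hn⟩
    exact ⟨⟨s ^ n, n, rfl⟩, hn⟩

theorem exists_principal_nbhd_comap {X' T : Scheme.{u}} (𝓔 : X'.IdealSheafData)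
    (h𝓔 : BlowUp.IsEffCartierIdeal 𝓔) (j : T ⟶ X') (pt : T) :
    ∃ (N : T.affineOpens) (s : Γ(T, N.1)), pt ∈ N.1 ∧ (𝓔.comap j).ideal N = Ideal.span {s} := by
  obtain ⟨W', hW', t, -, hI⟩ := h𝓔 (j pt)
  obtain ⟨_, ⟨N, hN, rfl⟩, hptN, hNW'⟩ := T.isBasis_affineOpens.exists_subset_of_mem_open
    (show pt ∈ j ⁻¹ᵁ W'.1 from hW') (j ⁻¹ᵁ W'.1).isOpen
  refine ⟨⟨N, hN⟩, (j.appLE W'.1 N hNW').hom t, hptN, ?_⟩
  rw [comap_ideal_eq_map 𝓔 j ⟨N, hN⟩ W' hNW', hI, Ideal.map_span, Set.image_singleton]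

theorem effCartier_comap_subscheme_ker {T : Scheme.{u}} (𝓔 : T.IdealSheafData)
    (hloc : ∀ pt : T, ∃ (N : T.affineOpens) (s : Γ(T, N.1)), pt ∈ N.1 ∧ 𝓔.ideal N = Ideal.span {s})
    [QuasiCompact (Scheme.Opens.ι 𝓔.support.compl)] :
    BlowUp.IsEffCartierIdeal
      (𝓔.comap ((Scheme.Opens.ι 𝓔.support.compl).ker).subschemeι) := by
  intro pt
  obtain ⟨N, s, hptN, hs⟩ := hloc (((Scheme.Opens.ι 𝓔.support.compl).ker).subschemeι pt)
  have hN' : IsAffineOpen (((Scheme.Opens.ι 𝓔.support.compl).ker).subschemeι ⁻¹ᵁ N.1) :=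
    N.2.preimage _
  have hker : ∀ y, ((((Scheme.Opens.ι 𝓔.support.compl).ker).subschemeι).app N.1).hom y = 0 ↔
      y ∈ ((Scheme.Opens.ι 𝓔.support.compl).ker).ideal N := by
    intro y
    rw [← RingHom.mem_ker, Scheme.IdealSheafData.ker_subschemeι_app]
  refine ⟨⟨_, hN'⟩, hptN, ((((Scheme.Opens.ι 𝓔.support.compl).ker).subschemeι).app N.1).hom s,
    ?_, ?_⟩
  · rw [mem_nonZeroDivisors_iff_right]
    intro z hz
    obtain ⟨x, hx⟩ := (((Scheme.Opens.ι 𝓔.support.compl).ker).subschemeι).app_surjective N.1 N.2 z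
    have hx' : ((((Scheme.Opens.ι 𝓔.support.compl).ker).subschemeι).app N.1).hom x = z := hx
    rw [← hx', ← map_mul] at hz
    have h1 := (hker _).mp hz
    rw [mem_ker_compl_iff 𝓔 N s hs] at h1
    obtain ⟨n, hn⟩ := h1
    rw [← hx']
    apply (hker x).mpr
    rw [mem_ker_compl_iff 𝓔 N s hs]
    refine ⟨n + 1, ?_⟩
    rw [pow_succ, mul_assoc, mul_comm s x]; exact hn
  · rw [comap_ideal_eq_map 𝓔 _ ⟨_, hN'⟩ N le_rfl, hs, Ideal.map_span, Set.image_singleton,
      Scheme.Hom.app_eq_appLE]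

theorem ker_compl_le_ker {T Y : Scheme.{u}} (𝓔 : T.IdealSheafData)
    (hloc : ∀ pt : T, ∃ (N : T.affineOpens) (s : Γ(T, N.1)), pt ∈ N.1 ∧ 𝓔.ideal N = Ideal.span {s})
    [QuasiCompact (Scheme.Opens.ι 𝓔.support.compl)] (l : Y ⟶ T)
    (hl : BlowUp.IsEffCartierIdeal (𝓔.comap l)) :
    (Scheme.Opens.ι 𝓔.support.compl).ker ≤ l.ker := by
  rw [← Scheme.IdealSheafData.map_bot l, Scheme.IdealSheafData.le_map_iff_comap_le]
  choose N s hptN hs using hloc
  have hex : ∀ y : Y, ∃ (NY : Y.affineOpens), y ∈ NY.1 ∧ ∃ (_ : NY.1 ≤ l ⁻¹ᵁ (N (l y)).1),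
      ∃ t ∈ nonZeroDivisors Γ(Y, NY.1), (𝓔.comap l).ideal NY = Ideal.span {t} := by
    intro y
    obtain ⟨_, ⟨U₁, hU₁, rfl⟩, hyU₁, hU₁N⟩ := Y.isBasis_affineOpens.exists_subset_of_mem_open
      (show y ∈ l ⁻¹ᵁ (N (l y)).1 from hptN (l y)) (l ⁻¹ᵁ (N (l y)).1).isOpen
    obtain ⟨NY, hNYU₁, g₁, -, hyNY, t, ht, hIt⟩ :=
      exists_good_nbhd (𝓔.comap l) hl ⟨U₁, hU₁⟩ y hyU₁
    exact ⟨NY, hyNY, le_trans hNYU₁ hU₁N, t, ht, hIt⟩
  choose NY hyNY hNYle t ht hIt using hex
  refine Scheme.IdealSheafData.le_of_iSup_eq_top NY ?_ ?_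
  · exact top_le_iff.mp (fun y _ => by simpa using ⟨y, hyNY y⟩)
  · intro y
    rw [comap_ideal_eq_map _ l (NY y) (N (l y)) (hNYle y), Ideal.map_le_iff_le_comap]
    intro x hx
    rw [Ideal.mem_comap]
    rw [mem_ker_compl_iff 𝓔 (N (l y)) (s (l y)) (hs (l y))] at hx
    obtain ⟨n, hn⟩ := hx
    have h1 : (l.appLE (N (l y)).1 (NY y).1 (hNYle y)).hom (s (l y)) ^ n *
        (l.appLE (N (l y)).1 (NY y).1 (hNYle y)).hom x = 0 := by
      rw [← map_pow, ← map_mul, hn, map_zero]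
    have hspan : Ideal.span {(l.appLE (N (l y)).1 (NY y).1 (hNYle y)).hom (s (l y))} =
        Ideal.span {t y} := by
      rw [← hIt y, comap_ideal_eq_map 𝓔 l (NY y) (N (l y)) (hNYle y), hs (l y), Ideal.map_span,
        Set.image_singleton]
    have hmem : t y ∈ Ideal.span {(l.appLE (N (l y)).1 (NY y).1 (hNYle y)).hom (s (l y))} := by
      rw [hspan]; exact Ideal.mem_span_singleton_self _
    obtain ⟨r, hr⟩ := Ideal.mem_span_singleton'.mp hmem
    have hnzd : (l.appLE (N (l y)).1 (NY y).1 (hNYle y)).hom (s (l y)) ∈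
        nonZeroDivisors Γ(Y, (NY y).1) := by
      rw [mem_nonZeroDivisors_iff_right]
      intro z hz
      apply (mem_nonZeroDivisors_iff_right.mp (ht y)) z
      rw [← hr, mul_comm r, ← mul_assoc, hz, zero_mul]
    have hnzd' := pow_mem hnzd n
    rw [mul_comm] at h1
    have h2 := (mem_nonZeroDivisors_iff_right.mp hnzd') _ h1
    show (l.appLE (N (l y)).1 (NY y).1 (hNYle y)).hom x ∈ (⊥ : Y.IdealSheafData).ideal (NY y)
    rw [h2]
    exact Ideal.zero_mem _

open AlgebraicGeometry CategoryTheory Limits TopologicalSpace in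
/-- Let X be any scheme, I and J quasi-coherent ideals on X, b : X' → X a blowing up of X in I, Z ⊆ X
the closed subscheme of J, b' : Z' → Z a blowing up of Z in the inverse image ideal I·O_Z, and k :
Z' → X' the morphism with k ≫ b = b' ≫ (Z → X) (it exists and is unique by the universal property).
Then k is a closed immersion (its image is the strict transform of Z); writing U for the open
complement of the support of I and W ⊆ Z' for the preimage of U, the restriction W → X' of k is an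
affine morphism, and its scheme-theoretic image is the whole image of k: the kernel ideal sheaf of W
→ X' equals that of k. No Noetherian or finite-type hypothesis is needed. -/
theorem result
    {X X' Z' : Scheme.{u}} (𝓘 𝓙 : X.IdealSheafData) (b : X' ⟶ X) (hb : BlowUp.IsBlowUp b 𝓘)
    (b' : Z' ⟶ 𝓙.subscheme) (hb' : BlowUp.IsBlowUp b' (𝓘.comap 𝓙.subschemeι))
    (k : Z' ⟶ X') (hk : k ≫ b = b' ≫ 𝓙.subschemeι) :
    IsClosedImmersion k ∧
      IsAffineHom ((k ⁻¹ᵁ (b ⁻¹ᵁ 𝓘.support.compl)).ι ≫ k) ∧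
      ((k ⁻¹ᵁ (b ⁻¹ᵁ 𝓘.support.compl)).ι ≫ k).ker = k.ker := by
  haveI hfstci : IsClosedImmersion (pullback.fst b 𝓙.subschemeι) :=
    MorphismProperty.of_isPullback (P := @IsClosedImmersion)
      (IsPullback.of_hasPullback b 𝓙.subschemeι).flip inferInstance
  have h𝓔T : (𝓘.comap 𝓙.subschemeι).comap (pullback.snd b 𝓙.subschemeι) =
      (𝓘.comap b).comap (pullback.fst b 𝓙.subschemeι) := by
    rw [← Scheme.IdealSheafData.comap_comp, ← Scheme.IdealSheafData.comap_comp,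
      pullback.condition]
  have hloc : ∀ pt : ↥(pullback b 𝓙.subschemeι), ∃ (N : (pullback b 𝓙.subschemeι).affineOpens)
      (s : Γ(pullback b 𝓙.subschemeι, N.1)), pt ∈ N.1 ∧
      ((𝓘.comap 𝓙.subschemeι).comap (pullback.snd b 𝓙.subschemeι)).ideal N = Ideal.span {s} := by
    intro pt
    rw [h𝓔T]
    exact exists_principal_nbhd_comap (𝓘.comap b) hb.1 _ pt
  have hlp : Curv2.IsLocPrincipal
      ((𝓘.comap 𝓙.subschemeι).comap (pullback.snd b 𝓙.subschemeι)) := by
    intro x _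
    obtain ⟨N, s, h1, h2⟩ := hloc x
    exact ⟨N, h1, s, h2⟩
  haveI haff : IsAffineHom (Scheme.Opens.ι
      ((𝓘.comap 𝓙.subschemeι).comap (pullback.snd b 𝓙.subschemeι)).support.compl) :=
    isAffineHom_compl_of_locPrincipal _ hlp
  haveI hqc : QuasiCompact (Scheme.Opens.ι
      ((𝓘.comap 𝓙.subschemeι).comap (pullback.snd b 𝓙.subschemeι)).support.compl) :=
    inferInstance
  -- the candidate blow-up of Z: the closure of the complement of the exceptional locus in T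
  have hA : BlowUp.IsEffCartierIdeal ((𝓘.comap 𝓙.subschemeι).comap
      (((Scheme.Opens.ι ((𝓘.comap 𝓙.subschemeι).comap
        (pullback.snd b 𝓙.subschemeι)).support.compl).ker).subschemeι ≫
          pullback.snd b 𝓙.subschemeι)) := by
    rw [Scheme.IdealSheafData.comap_comp]
    exact effCartier_comap_subscheme_ker _ hloc
  have hUP : ∀ (Y : Scheme.{u}) (g : Y ⟶ 𝓙.subscheme),
      BlowUp.IsEffCartierIdeal ((𝓘.comap 𝓙.subschemeι).comap g) →
      ∃! l' : Y ⟶ ((Scheme.Opens.ι ((𝓘.comap 𝓙.subschemeι).comap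
        (pullback.snd b 𝓙.subschemeι)).support.compl).ker).subscheme,
        l' ≫ (((Scheme.Opens.ι ((𝓘.comap 𝓙.subschemeι).comap
          (pullback.snd b 𝓙.subschemeι)).support.compl).ker).subschemeι ≫
            pullback.snd b 𝓙.subschemeι) = g := by
    intro Y g hg
    have hg' : BlowUp.IsEffCartierIdeal (𝓘.comap (g ≫ 𝓙.subschemeι)) := by
      rw [Scheme.IdealSheafData.comap_comp]; exact hg
    obtain ⟨h, hh, hhuniq⟩ := hb.2 Y (g ≫ 𝓙.subschemeι) hg'
    have hlτ : pullback.lift h g hh ≫ pullback.snd b 𝓙.subschemeι = g := pullback.lift_snd _ _ _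
    have hlfst : pullback.lift h g hh ≫ pullback.fst b 𝓙.subschemeι = h := pullback.lift_fst _ _ _
    have hl𝓔 : BlowUp.IsEffCartierIdeal (((𝓘.comap 𝓙.subschemeι).comap
        (pullback.snd b 𝓙.subschemeι)).comap (pullback.lift h g hh)) := by
      rw [← Scheme.IdealSheafData.comap_comp, hlτ]; exact hg
    have hle := ker_compl_le_ker _ hloc (pullback.lift h g hh) hl𝓔
    have hle' : (((Scheme.Opens.ι ((𝓘.comap 𝓙.subschemeι).comap
        (pullback.snd b 𝓙.subschemeι)).support.compl).ker).subschemeι).ker ≤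
        (pullback.lift h g hh).ker := by
      rw [Scheme.IdealSheafData.ker_subschemeι]; exact hle
    refine ⟨IsClosedImmersion.lift _ (pullback.lift h g hh) hle', ?_, ?_⟩
    · show _ ≫ _ ≫ _ = g
      rw [← Category.assoc, IsClosedImmersion.lift_fac, hlτ]
    · intro l₂ hl₂
      have hl₂' : l₂ ≫ (((Scheme.Opens.ι ((𝓘.comap 𝓙.subschemeι).comap
        (pullback.snd b 𝓙.subschemeι)).support.compl).ker).subschemeι ≫
          pullback.snd b 𝓙.subschemeι) = g := hl₂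
      rw [← cancel_mono (((Scheme.Opens.ι ((𝓘.comap 𝓙.subschemeι).comap
        (pullback.snd b 𝓙.subschemeι)).support.compl).ker).subschemeι),
        IsClosedImmersion.lift_fac]
      apply pullback.hom_ext
      · rw [hlfst]
        apply hhuniq
        show ((l₂ ≫ _) ≫ pullback.fst b 𝓙.subschemeι) ≫ b = g ≫ 𝓙.subschemeι
        rw [Category.assoc, pullback.condition, ← hl₂']
        simp only [Category.assoc]
      · rw [hlτ, Category.assoc]; exact hl₂'
  -- Z' is isomorphic to the candidate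
  obtain ⟨e, he, -⟩ := hUP Z' b' hb'.1
  obtain ⟨e', he', -⟩ := hb'.2 _ _ hA
  have h1 : e ≫ e' = 𝟙 Z' := by
    obtain ⟨u, -, huniq⟩ := hb'.2 Z' b' hb'.1
    rw [huniq (e ≫ e') (by show _ ≫ b' = b'; rw [Category.assoc, he', he]),
      huniq (𝟙 _) (Category.id_comp _)]
  have h2 : e' ≫ e = 𝟙 _ := by
    obtain ⟨u, -, huniq⟩ := hUP _ _ hA
    rw [huniq (e' ≫ e) (by show _ ≫ _ = _; rw [Category.assoc, he, he']),
      huniq (𝟙 _) (Category.id_comp _)]
  haveI : IsIso e := ⟨e', h1, h2⟩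
  have hcartZ' : BlowUp.IsEffCartierIdeal (𝓘.comap (b' ≫ 𝓙.subschemeι)) := by
    rw [Scheme.IdealSheafData.comap_comp]; exact hb'.1
  have hk_eq : k = e ≫ ((Scheme.Opens.ι ((𝓘.comap 𝓙.subschemeι).comap
      (pullback.snd b 𝓙.subschemeι)).support.compl).ker).subschemeι ≫
        pullback.fst b 𝓙.subschemeι := by
    obtain ⟨u, -, huniq⟩ := hb.2 Z' (b' ≫ 𝓙.subschemeι) hcartZ'
    rw [huniq k hk, huniq (e ≫ _ ≫ pullback.fst b 𝓙.subschemeι) (by
      show (e ≫ _ ≫ pullback.fst b 𝓙.subschemeι) ≫ b = b' ≫ 𝓙.subschemeι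
      simp only [Category.assoc]
      rw [pullback.condition, ← he]
      simp only [Category.assoc])]
  have hci : IsClosedImmersion k := by
    rw [hk_eq]; infer_instance
  have hcart : BlowUp.IsEffCartierIdeal ((𝓘.comap b).comap k) := by
    rw [← Scheme.IdealSheafData.comap_comp, hk]; exact hcartZ'
  have heq : k ⁻¹ᵁ (b ⁻¹ᵁ 𝓘.support.compl) = ((𝓘.comap b).comap k).support.compl := by
    ext x
    rw [Scheme.IdealSheafData.support_comap, Scheme.IdealSheafData.support_comap]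
    rfl
  refine ⟨hci, ?_, ?_⟩
  · haveI := isAffineHom_compl_of_locPrincipal _ (isLocPrincipal_of_effCartier _ hcart)
    rw [heq]
    infer_instance
  · haveI := dominant_compl_of_effCartier _ hcart
    rw [heq, Scheme.Hom.ker_comp, Scheme.Hom.ker_eq_bot, Scheme.IdealSheafData.map_bot]

end Groth.Agent.S17385
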