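import Groth.Statements.S10929
import Mathlib
import Groth.Agent.S7863

set_option autoImplicit false
universe u
open CategoryTheory CategoryTheory.Limits AlgebraicGeometry
open Variety

namespace Groth.Agent.S10929

section Helpers

open Groth.Agent.H22.EtaleFlat

/-- An essentially finite type extension of a characteristic zero field by a field is formally
smooth (stated without field instances). -/
theorem formallySmooth_of_isField {K L : Type u} [CommRing K] [CommRing L] (hK : IsField K)
    (hL : IsField L) (k : Type u) [Field k] [CharZero k] (ι : k →+* K)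
    (φ : K →+* L) (hφ : φ.EssFiniteType) : φ.FormallySmooth := by
  letI := hK.toField
  letI := hL.toField
  letI := φ.toAlgebra
  haveI : CharZero K := charZero_of_injective_ringHom ι.injective
  haveI : Algebra.EssFiniteType K L := hφ
  have : Algebra.FormallySmooth K L := Algebra.FormallySmooth.of_perfectField
  exact this

theorem map_genericPoint {X Y : Scheme.{u}} [IsIntegral X] [IsIntegral Y] (f : X ⟶ Y)
    (hdom : DenseRange f.base) : f (genericPoint X) = genericPoint Y := by
  refine ((genericPoint_spec Y).eq ?_).symm
  have h := (genericPoint_spec X).image f.continuous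
  have h2 : closure (f '' (Set.univ : Set X)) = (Set.univ : Set Y) := by
    rw [Set.image_univ]
    exact hdom.closure_range
  rw [h2] at h
  exact h

theorem main (k : Type u) [Field k] [CharZero k]
    {X Y : Scheme.{u}} (qY : Y ⟶ Spec (CommRingCat.of k))
    [LocallyOfFiniteType qY]
    [IsIntegral X] [IsIntegral Y] (f : X ⟶ Y) [LocallyOfFiniteType f] (hdom : DenseRange f.base) :
    ∃ U : X.Opens, (U : Set ↥X).Nonempty ∧ Smooth (U.ι ≫ f) := by
  haveI : IsLocallyNoetherian Y := LocallyOfFiniteType.isLocallyNoetherian qY
  have e := map_genericPoint f hdom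
  have hK : IsField (Y.presheaf.stalk (f (genericPoint X))) :=
    Groth.Agent.S7863.isField_stalk _ e
  have hL : IsField (X.presheaf.stalk (genericPoint X)) := Field.toIsField X.functionField
  let ι : k →+* Y.presheaf.stalk (f (genericPoint X)) :=
    ((Scheme.ΓSpecIso (CommRingCat.of k)).inv ≫ qY.appTop ≫
      Y.presheaf.germ ⊤ (f (genericPoint X)) trivial).hom
  have hsm : (f.stalkMap (genericPoint X)).hom.FormallySmooth :=
    formallySmooth_of_isField hK hL k ι _ (LocallyOfFiniteType.stalkMap f (genericPoint X))
  haveI := smooth_smoothLocus_ι f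
  exact ⟨f.smoothLocus, ⟨genericPoint X, hsm⟩, inferInstance⟩

end Helpers

/-- Let k be an algebraically closed field of characteristic zero, X and Y integral schemes of finite
type over k and f : X → Y a dominant k-morphism. Then there is a nonempty open subscheme U of X such
that f restricted to U is a smooth morphism U → Y. -/
theorem result (k : Type u) [Field k] [IsAlgClosed k] [CharZero k]
    {X Y : Scheme.{u}} (qX : X ⟶ Spec (CommRingCat.of k)) (qY : Y ⟶ Spec (CommRingCat.of k))
    [LocallyOfFiniteType qX] [QuasiCompact qX] [LocallyOfFiniteType qY] [QuasiCompact qY]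
    [IsIntegral X] [IsIntegral Y] (f : X ⟶ Y) (hf : f ≫ qY = qX) (hdom : DenseRange f.base) :
    ∃ U : X.Opens, (U : Set ↥X).Nonempty ∧ Smooth (U.ι ≫ f) := by
  haveI : LocallyOfFiniteType (f ≫ qY) := by rw [hf]; infer_instance
  haveI : LocallyOfFiniteType f := locallyOfFiniteType_of_comp f qY
  exact main k qY f hdom

end Groth.Agent.S10929
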