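import Groth.Statements.S10933
-- import your own Groth.Agent.* helpers here
import Mathlib
import Groth.Agent.Lib.helper6.ExtTop
import Groth.Agent.S0563

set_option autoImplicit false
universe u
open CategoryTheory
open CAlg

namespace Groth.Agent.S10933

/-- Let A be a (Noetherian) regular local ring, M a finitely generated A-module and d a natural number.
Then the projective dimension of M equals d if and only if Ext^j_A(M, A) = 0 for every j > d and
Ext^d_A(M, A) ≠ 0. (Projective dimension valued in WithBot ℕ∞, the zero module having projective
dimension ⊥.) -/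
theorem result (A : Type u) [CommRing A] [IsRegularLocalRing A]
    (M : Type u) [AddCommGroup M] [Module A M] [Module.Finite A M] (d : ℕ) :
    projectiveDimension (ModuleCat.of A M) = (d : WithBot ℕ∞) ↔
      ((∀ j : ℕ, d < j → Subsingleton (Abelian.Ext (ModuleCat.of A M) (ModuleCat.of A A) j)) ∧
        Nontrivial (Abelian.Ext (ModuleCat.of A M) (ModuleCat.of A A) d)) := by
  obtain ⟨n, hn⟩ := Groth.Agent.H5.RegLoc.exists_nat_dim A
  have hfin := Groth.Agent.S0563.result A n hn M
  constructor
  · intro h
    have h1 : HasProjectiveDimensionLT (ModuleCat.of A M) (d + 1) := by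
      rw [← projectiveDimension_lt_iff, h]
      exact_mod_cast Nat.lt_succ_self d
    refine ⟨fun j hj => HasProjectiveDimensionLT.subsingleton _ (d + 1) j (by omega) _, ?_⟩
    by_contra hcon
    rw [not_nontrivial_iff_subsingleton] at hcon
    have h2 := Groth.Agent.Lib.helper6.ExtTop.hasProjectiveDimensionLT_of_ext_top
      (ModuleCat.of A M) d h1 hcon
    rw [← projectiveDimension_lt_iff, h] at h2
    exact lt_irrefl _ h2
  · rintro ⟨h1, h2⟩
    have h3 := Groth.Agent.Lib.helper6.ExtTop.hasProjectiveDimensionLT_of_ext_vanish
      (ModuleCat.of A M) d h1 (n + 1) hfin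
    apply le_antisymm
    · exact (projectiveDimension_le_iff _ d).mpr h3
    · rw [projectiveDimension_ge_iff]
      intro h4
      have := HasProjectiveDimensionLT.subsingleton (ModuleCat.of A M) d d le_rfl
        (ModuleCat.of A A)
      exact not_subsingleton _ this

end Groth.Agent.S10933
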