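import Groth.Statements.S10939
import Mathlib
import Groth.Agent.S10821
import Groth.Agent.S10829
import Groth.Agent.S19926
import Groth.Agent.S10822
import Groth.Agent.S10915

set_option autoImplicit false
universe u
open CategoryTheory CategoryTheory.Limits AlgebraicGeometry
open Variety

namespace Groth.Agent.S10939

section Helpers

open AlgebraicGeometry TopologicalSpace

section
variable (k : Type u) [Field k] (n : ℕ)

local notation "𝒜" => CohB1.polyGrading n k
local notation "A" => MvPolynomial (Fin (n + 1)) k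

open Groth.Agent.S10821 Groth.Agent.S10829 Groth.Agent.S19926 Groth.Agent.S10822
open Groth.Agent.S10915

lemma homog_elem_not_mem (K : Ideal A) (hK : K.IsHomogeneous 𝒜) (p0 : Ideal A) (hle : ¬ K ≤ p0) :
    ∃ (a : A) (e : ℕ), a.IsHomogeneous e ∧ a ∈ K ∧ a ∉ p0 := by
  classical
  obtain ⟨a, haK, hap⟩ := SetLike.not_le_iff_exists.mp hle
  have : ∃ i, (DirectSum.decompose 𝒜 a i : A) ∉ p0 := by
    by_contra hcon
    push Not at hcon
    apply hap
    rw [← DirectSum.sum_support_decompose 𝒜 a]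
    exact Ideal.sum_mem _ (fun i _ => hcon i)
  obtain ⟨i, hi⟩ := this
  exact ⟨_, i, (MvPolynomial.mem_homogeneousSubmodule _ _).mp (SetLike.coe_mem _), hK i haK, hi⟩

lemma hpa (L : Ideal A) (hL : L.IsHomogeneous 𝒜) (P : Finset (Ideal A)) :
    (∀ p ∈ P, p.IsPrime ∧ p.IsHomogeneous 𝒜 ∧ ¬ L ≤ p ∧ ¬ (HomogeneousIdeal.irrelevant 𝒜).toIdeal ≤ p) →
    (∀ p ∈ P, ∀ p' ∈ P, p ≤ p' → p = p') →
    ∃ (h : A) (d : ℕ), 0 < d ∧ h.IsHomogeneous d ∧ h ∈ L ∧ ∀ p ∈ P, h ∉ p := by
  classical
  induction P using Finset.induction_on with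
  | empty =>
    intro _ _
    exact ⟨0, 1, one_pos, MvPolynomial.isHomogeneous_zero _ _ 1, zero_mem _, by simp⟩
  | insert p0 P hp0 ih =>
    intro hP hinc
    obtain ⟨h1, d1, hd1, hh1, h1L, h1P⟩ := ih (fun p hp => hP p (Finset.mem_insert_of_mem hp))
      (fun p hp p' hp' => hinc p (Finset.mem_insert_of_mem hp) p' (Finset.mem_insert_of_mem hp'))
    obtain ⟨hp0prime, hp0h, hLp0, hmp0⟩ := hP p0 (Finset.mem_insert_self _ _)
    by_cases h1p0 : h1 ∉ p0
    · refine ⟨h1, d1, hd1, hh1, h1L, ?_⟩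
      intro p hp
      rcases Finset.mem_insert.mp hp with rfl | hp
      · exact h1p0
      · exact h1P p hp
    · push Not at h1p0
      obtain ⟨a, ea, hahom, haL, hap0⟩ := homog_elem_not_mem k n L hL p0 hLp0
      have hexj : ∃ j : Fin (n + 1), (MvPolynomial.X j : A) ∉ p0 := by
        by_contra hcon
        push Not at hcon
        exact hmp0 (irr_le_of_X k n p0 hcon)
      obtain ⟨j, hj⟩ := hexj
      have hc : ∀ p ∈ P, ∃ (c : A) (e : ℕ), c.IsHomogeneous e ∧ c ∈ p ∧ c ∉ p0 := by
        intro p hp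
        have hpp := hP p (Finset.mem_insert_of_mem hp)
        apply homog_elem_not_mem k n p hpp.2.1 p0
        intro hle
        have := hinc p (Finset.mem_insert_of_mem hp) p0 (Finset.mem_insert_self _ _) hle
        exact hp0 (this ▸ hp)
      choose! c ec hchom hcp hcp0 using hc
      set g := a * MvPolynomial.X j * ∏ p ∈ P, c p with hg
      have hghom : g.IsHomogeneous (ea + 1 + ∑ p ∈ P, ec p) :=
        (hahom.mul (MvPolynomial.isHomogeneous_X _ j)).mul
          (MvPolynomial.IsHomogeneous.prod P c ec (fun p hp => hchom p hp))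
      have hgL : g ∈ L := by
        rw [hg, mul_assoc]; exact Ideal.mul_mem_right _ _ haL
      have hgp0 : g ∉ p0 := by
        intro hmem
        rcases hp0prime.mem_or_mem hmem with h | h
        · rcases hp0prime.mem_or_mem h with h | h
          · exact hap0 h
          · exact hj h
        · obtain ⟨p, hp, hcp'⟩ := (hp0prime.prod_mem_iff).mp h
          exact hcp0 p hp hcp'
      have hgP : ∀ p ∈ P, g ∈ p := by
        intro p hp
        rw [hg]
        apply Ideal.mul_mem_left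
        obtain ⟨t, ht⟩ := Finset.dvd_prod_of_mem c hp
        rw [ht]
        exact Ideal.mul_mem_right _ _ (hcp p hp)
      set e := ea + 1 + ∑ p ∈ P, ec p with he
      have hepos : 0 < e := by omega
      refine ⟨h1 ^ e + g ^ d1, d1 * e, Nat.mul_pos hd1 hepos, ?_, ?_, ?_⟩
      · refine (hh1.pow e).add ?_
        have := hghom.pow d1
        rwa [Nat.mul_comm] at this
      · exact add_mem (Ideal.pow_mem_of_mem _ h1L e hepos) (Ideal.pow_mem_of_mem _ hgL d1 hd1)
      · intro p hp
        rcases Finset.mem_insert.mp hp with rfl | hp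
        · intro hmem
          have h1e : h1 ^ e ∈ p := Ideal.pow_mem_of_mem _ h1p0 e hepos
          have := (Ideal.add_mem_iff_right _ h1e).mp hmem
          exact hgp0 (hp0prime.mem_of_pow_mem _ this)
        · intro hmem
          have hpp := (hP p (Finset.mem_insert_of_mem hp)).1
          have hgd : g ^ d1 ∈ p := Ideal.pow_mem_of_mem _ (hgP p hp) d1 hd1
          have := (Ideal.add_mem_iff_left _ hgd).mp hmem
          exact h1P p hp (hpp.mem_of_pow_mem _ this)

lemma claim' (L : Ideal A) (hL : L.IsHomogeneous 𝒜) : ∀ (c : ℕ) (J : Ideal A), J.IsHomogeneous 𝒜 →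
    (∀ z : ProjectiveSpectrum 𝒜, J ≤ z.asHomogeneousIdeal.toIdeal →
      ¬ L ≤ z.asHomogeneousIdeal.toIdeal → Order.coheight z < (c : ℕ∞)) →
    ∃ h : Fin c → A, (∀ i, ∃ d, 0 < d ∧ (h i).IsHomogeneous d) ∧ (∀ i, h i ∈ L) ∧
      ∀ z : ProjectiveSpectrum 𝒜,
        J ⊔ Ideal.span (Set.range h) ≤ z.asHomogeneousIdeal.toIdeal →
          L ≤ z.asHomogeneousIdeal.toIdeal := by
  classical
  intro c
  induction c with
  | zero =>
    intro J _ hJ
    refine ⟨fun i => i.elim0, fun i => i.elim0, fun i => i.elim0, ?_⟩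
    intro z hz
    by_contra hLz
    have := hJ z (le_sup_left.trans hz) hLz
    exact absurd this (by simp)
  | succ c ih =>
    intro J hJh hJ
    let P : Finset (Ideal A) :=
      (Ideal.finite_minimalPrimes_of_isNoetherianRing A J).toFinset.filter
        (fun p => ¬ L ≤ p ∧ ¬ (HomogeneousIdeal.irrelevant 𝒜).toIdeal ≤ p)
    have hPmem : ∀ p, p ∈ P ↔ p ∈ J.minimalPrimes ∧ ¬ L ≤ p ∧ ¬ (HomogeneousIdeal.irrelevant 𝒜).toIdeal ≤ p := by
      intro p
      rw [Finset.mem_filter, Set.Finite.mem_toFinset]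
    obtain ⟨h0, d0, hd0, h0hom, h0L, h0avoid⟩ := hpa k n L hL P
      (by
        intro p hp
        obtain ⟨hpmin, hLp, hmp⟩ := (hPmem p).mp hp
        refine ⟨hpmin.1.1, ?_, hLp, hmp⟩
        have hcore := minPrime_homog k n J hJh p hpmin
        rw [← hcore]
        exact (p.homogeneousCore 𝒜).isHomogeneous)
      (by
        intro p hp p' hp' hle
        obtain ⟨hpmin, -, -⟩ := (hPmem p).mp hp
        obtain ⟨hp'min, -, -⟩ := (hPmem p').mp hp'
        exact le_antisymm hle (hp'min.2 hpmin.1 hle))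
    have hJ'h : (J ⊔ Ideal.span {h0}).IsHomogeneous 𝒜 := by
      apply hJh.sup
      apply Ideal.homogeneous_span
      intro a ha
      rw [Set.mem_singleton_iff] at ha
      rw [ha]
      exact ⟨d0, h0hom⟩
    have hJ' : ∀ z : ProjectiveSpectrum 𝒜, J ⊔ Ideal.span {h0} ≤ z.asHomogeneousIdeal.toIdeal →
        ¬ L ≤ z.asHomogeneousIdeal.toIdeal → Order.coheight z < (c : ℕ∞) := by
      intro z hz hLz
      have hJz : J ≤ z.asHomogeneousIdeal.toIdeal := le_sup_left.trans hz
      have h0z : h0 ∈ z.asHomogeneousIdeal.toIdeal :=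
        hz (Ideal.mem_sup_right (Ideal.mem_span_singleton_self h0))
      haveI := z.isPrime
      obtain ⟨p, hpmin, hpz⟩ := Ideal.exists_minimalPrimes_le hJz
      have hprel : ¬ (HomogeneousIdeal.irrelevant 𝒜).toIdeal ≤ p := fun h => z.not_irrelevant_le (fun a ha => hpz (h ha))
      have hLp : ¬ L ≤ p := fun h => hLz (h.trans hpz)
      obtain ⟨q, hq⟩ := point_of k n p hpmin.1.1 (minPrime_homog k n J hJh p hpmin) hprel
      have hqz : q < z := by
        refine lt_of_le_of_ne ?_ ?_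
        · change q.asHomogeneousIdeal.toIdeal ≤ z.asHomogeneousIdeal.toIdeal
          rw [hq]; exact hpz
        · intro heq
          apply h0avoid p ((hPmem p).mpr ⟨hpmin, hLp, hprel⟩)
          rw [← hq, heq]; exact h0z
      have h1 : Order.coheight z + 1 ≤ Order.coheight q := Order.coheight_add_one_le hqz
      have h2 : Order.coheight q < ((c + 1 : ℕ) : ℕ∞) :=
        hJ q (by rw [hq]; exact hpmin.1.2) (by rw [hq]; exact hLp)
      have h3 : Order.coheight z + 1 < (c : ℕ∞) + 1 := by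
        refine lt_of_le_of_lt h1 ?_
        exact_mod_cast h2
      exact lt_of_add_lt_add_right h3
    obtain ⟨h', h'hom, h'L, h'emp⟩ := ih (J ⊔ Ideal.span {h0}) hJ'h hJ'
    refine ⟨Fin.cons h0 h', ?_, ?_, ?_⟩
    · intro i
      refine Fin.cases ?_ (fun j => ?_) i
      · rw [Fin.cons_zero]; exact ⟨d0, hd0, h0hom⟩
      · rw [Fin.cons_succ]; exact h'hom j
    · intro i
      refine Fin.cases ?_ (fun j => ?_) i
      · rw [Fin.cons_zero]; exact h0L
      · rw [Fin.cons_succ]; exact h'L j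
    · intro z hz
      apply h'emp z
      apply sup_le (sup_le (le_sup_left.trans hz) ?_) ?_
      · rw [Ideal.span_singleton_le_iff_mem]
        apply hz
        apply Ideal.mem_sup_right
        apply Ideal.subset_span
        exact ⟨0, Fin.cons_zero _ _⟩
      · rw [Ideal.span_le]
        rintro _ ⟨j, rfl⟩
        apply hz
        apply Ideal.mem_sup_right
        apply Ideal.subset_span
        exact ⟨j.succ, Fin.cons_succ _ _ _⟩

/-- the set-level statement. -/
lemma set_level (r : ℕ) (ZX ZY : Set (ProjectiveSpectrum 𝒜)) (hZX : IsClosed ZX) (hZY : IsClosed ZY)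
    (hdim : topologicalKrullDim ↥ZX = r) :
    ∃ h : Fin (r + 1) → A, (∀ i, ∃ d, 0 < d ∧ (h i).IsHomogeneous d) ∧
      (∀ i, ∀ y ∈ ZY, h i ∈ y.asHomogeneousIdeal.toIdeal) ∧
      ∀ z ∈ ZX, z ∉ ZY → ∃ i, h i ∉ z.asHomogeneousIdeal.toIdeal := by
  set J := (ProjectiveSpectrum.vanishingIdeal ZX).toIdeal with hJ
  set L := (ProjectiveSpectrum.vanishingIdeal ZY).toIdeal with hL
  have hmemX : ∀ z : ProjectiveSpectrum 𝒜, z ∈ ZX ↔ J ≤ z.asHomogeneousIdeal.toIdeal := by
    intro z
    rw [← hZX.closure_eq, ← ProjectiveSpectrum.zeroLocus_vanishingIdeal_eq_closure,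
      ProjectiveSpectrum.mem_zeroLocus]
    rfl
  have hmemY : ∀ z : ProjectiveSpectrum 𝒜, z ∈ ZY ↔ L ≤ z.asHomogeneousIdeal.toIdeal := by
    intro z
    rw [← hZY.closure_eq, ← ProjectiveSpectrum.zeroLocus_vanishingIdeal_eq_closure,
      ProjectiveSpectrum.mem_zeroLocus]
    rfl
  obtain ⟨h, hhom, hhL, hh⟩ := claim' k n L (ProjectiveSpectrum.vanishingIdeal ZY).isHomogeneous
    (r + 1) J (ProjectiveSpectrum.vanishingIdeal ZX).isHomogeneous (by
      intro z hz _
      have hzX : z ∈ ZX := (hmemX z).mpr hz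
      have hsub : ProjectiveSpectrum.zeroLocus 𝒜 (z.asHomogeneousIdeal.toIdeal : Set A) ⊆ ZX := by
        rw [← closure_pt]
        exact hZX.closure_subset_iff.mpr (Set.singleton_subset_iff.mpr hzX)
      have h1 : topologicalKrullDim
          ↥(ProjectiveSpectrum.zeroLocus 𝒜 (z.asHomogeneousIdeal.toIdeal : Set A)) ≤
          topologicalKrullDim ↥ZX :=
        (Topology.IsEmbedding.inclusion hsub).isInducing.topologicalKrullDim_le
      rw [dim_V, hdim] at h1
      have h2 : Order.coheight z ≤ (r : ℕ∞) := by exact_mod_cast h1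
      refine lt_of_le_of_lt h2 ?_
      exact_mod_cast Nat.lt_succ_self r)
  refine ⟨h, hhom, ?_, ?_⟩
  · intro i y hy
    exact ((hmemY y).mp hy) (hhL i)
  · intro z hzX hzY
    by_contra hcon
    push Not at hcon
    apply hzY
    rw [hmemY]
    apply hh z
    apply sup_le ((hmemX z).mp hzX)
    rw [Ideal.span_le]
    rintro _ ⟨i, rfl⟩
    exact hcon i

theorem main10939 (r : ℕ) {X Y : Scheme.{u}} (iX : X ⟶ CohB1.ProjSpace n k)
    (iY : Y ⟶ CohB1.ProjSpace n k)
    [IsClosedImmersion iX] [IsClosedImmersion iY] (hX : topologicalKrullDim ↥X = r) :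
    ∃ (h : Fin (r + 1) → A) (D : Fin (r + 1) → (CohB1.ProjSpace n k).Opens),
      (∀ j, D j = Proj.basicOpen 𝒜 (h j)) ∧
      (∀ j, ∃ d : ℕ, 0 < d ∧ (h j).IsHomogeneous d) ∧
      (∀ j, Set.range iY.base ⊆ (D j : Set ↥(CohB1.ProjSpace n k))ᶜ) ∧
      (Set.range iX.base \ Set.range iY.base ⊆ ⋃ j, (D j : Set ↥(CohB1.ProjSpace n k))) ∧
      ∀ j, IsAffineOpen (iX ⁻¹ᵁ (D j)) := by
  let ZX : Set (ProjectiveSpectrum 𝒜) := Set.range iX.base
  let ZY : Set (ProjectiveSpectrum 𝒜) := Set.range iY.base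
  have hZX : IsClosed ZX := iX.isClosedEmbedding.isClosed_range
  have hZY : IsClosed ZY := iY.isClosedEmbedding.isClosed_range
  have hdim : topologicalKrullDim ↥ZX = r := by
    rw [← hX]
    symm
    exact IsHomeomorph.topologicalKrullDim_eq _
      (iX.isClosedEmbedding.isEmbedding.toHomeomorph).isHomeomorph
  obtain ⟨h, hhom, hhY, hhX⟩ := set_level k n r ZX ZY hZX hZY hdim
  refine ⟨h, fun j => Proj.basicOpen 𝒜 (h j), fun j => rfl, hhom, ?_, ?_, ?_⟩
  · intro j y hy hyD
    exact hyD (hhY j y hy)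
  · rintro z ⟨hzX, hzY⟩
    obtain ⟨i, hi⟩ := hhX z hzX hzY
    exact Set.mem_iUnion.mpr ⟨i, hi⟩
  · intro j
    obtain ⟨d, hd, hhd⟩ := hhom j
    haveI hAff : IsAffineHom iX := inferInstance
    have hU : @IsAffineOpen (CohB1.ProjSpace n k) (Proj.basicOpen 𝒜 (h j)) :=
      Proj.isAffineOpen_basicOpen 𝒜 (h j) hhd hd
    exact hAff.isAffine_preimage _ hU

end
end Helpers


/-- Let k be a field, P = P^n_k = Proj k[x_0, …, x_n], and i_X : X → P, i_Y : Y → P closed immersions
with X of dimension r. Then there are homogeneous polynomials h_1, …, h_{r+1} of positive degree,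
with basic opens D_j = D_+(h_j) and hypersurfaces H_j = P ∖ D_j, such that every H_j contains Y and
X ∖ Y = ⋃_j (X ∖ H_j), i.e. every point of X outside Y lies in some D_j; moreover each X ∖ H_j = X ∩
D_j is affine. (The published statement takes X and Y reduced; the assertion only concerns the
underlying closed sets.) -/
theorem result (k : Type u) [Field k] (n r : ℕ)
    {X Y : Scheme.{u}} (iX : X ⟶ CohB1.ProjSpace n k) (iY : Y ⟶ CohB1.ProjSpace n k)
    [IsClosedImmersion iX] [IsClosedImmersion iY] (hX : topologicalKrullDim ↥X = r) :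
    ∃ (h : Fin (r + 1) → MvPolynomial (Fin (n + 1)) k) (D : Fin (r + 1) → (CohB1.ProjSpace n k).Opens),
      (∀ j, D j = Proj.basicOpen (CohB1.polyGrading n k) (h j)) ∧
      (∀ j, ∃ d : ℕ, 0 < d ∧ (h j).IsHomogeneous d) ∧
      (∀ j, Set.range iY.base ⊆ (D j : Set ↥(CohB1.ProjSpace n k))ᶜ) ∧
      (Set.range iX.base \ Set.range iY.base ⊆ ⋃ j, (D j : Set ↥(CohB1.ProjSpace n k))) ∧
      ∀ j, IsAffineOpen (iX ⁻¹ᵁ (D j)) := by
  exact main10939 k n r iX iY hX

end Groth.Agent.S10939
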