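import Groth.Statements.S10940
import Mathlib
import Groth.Agent.S10821
import Groth.Agent.S10829
import Groth.Agent.S19926
import Groth.Agent.S10822
import Groth.Agent.S10915
import Groth.Agent.S10939

set_option autoImplicit false
universe u
open CategoryTheory CategoryTheory.Limits AlgebraicGeometry
open Variety

namespace Groth.Agent.S10940

section Helpers

open AlgebraicGeometry TopologicalSpace

section
variable (k : Type u) [Field k] (n : ℕ)

local notation "𝒜" => CohB1.polyGrading n k
local notation "A" => MvPolynomial (Fin (n + 1)) k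

open Groth.Agent.S10821 Groth.Agent.S10829 Groth.Agent.S19926 Groth.Agent.S10822
open Groth.Agent.S10915 Groth.Agent.S10939

lemma claim'' (L J0 : Ideal A) (hL : L.IsHomogeneous 𝒜) (φ : ProjectiveSpectrum 𝒜 → ℕ∞)
    (hφ : ∀ q z : ProjectiveSpectrum 𝒜, q < z → J0 ≤ q.asHomogeneousIdeal.toIdeal →
      ¬ L ≤ q.asHomogeneousIdeal.toIdeal → ¬ L ≤ z.asHomogeneousIdeal.toIdeal → φ z + 1 ≤ φ q) :
    ∀ (c : ℕ) (J : Ideal A), J.IsHomogeneous 𝒜 → J0 ≤ J →
    (∀ z : ProjectiveSpectrum 𝒜, J ≤ z.asHomogeneousIdeal.toIdeal →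
      ¬ L ≤ z.asHomogeneousIdeal.toIdeal → φ z < (c : ℕ∞)) →
    ∃ h : Fin c → A, (∀ i, ∃ d, 0 < d ∧ (h i).IsHomogeneous d) ∧ (∀ i, h i ∈ L) ∧
      ∀ z : ProjectiveSpectrum 𝒜,
        J ⊔ Ideal.span (Set.range h) ≤ z.asHomogeneousIdeal.toIdeal →
          L ≤ z.asHomogeneousIdeal.toIdeal := by
  classical
  intro c
  induction c with
  | zero =>
    intro J _ _ hJ
    refine ⟨fun i => i.elim0, fun i => i.elim0, fun i => i.elim0, ?_⟩
    intro z hz
    by_contra hLz
    have := hJ z (le_sup_left.trans hz) hLz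
    exact absurd this (by simp)
  | succ c ih =>
    intro J hJh hJ0 hJ
    let P : Finset (Ideal A) :=
      (Ideal.finite_minimalPrimes_of_isNoetherianRing A J).toFinset.filter
        (fun p => ¬ L ≤ p ∧ ¬ (HomogeneousIdeal.irrelevant 𝒜).toIdeal ≤ p)
    have hPmem : ∀ p, p ∈ P ↔ p ∈ J.minimalPrimes ∧ ¬ L ≤ p ∧
        ¬ (HomogeneousIdeal.irrelevant 𝒜).toIdeal ≤ p := by
      intro p
      rw [Finset.mem_filter, Set.Finite.mem_toFinset]
    obtain ⟨h0, d0, hd0, h0hom, h0L, h0avoid⟩ := hpa k n L hL P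
      (by
        intro p hp
        obtain ⟨hpmin, hLp, hmp⟩ := (hPmem p).mp hp
        refine ⟨hpmin.1.1, ?_, hLp, hmp⟩
        have hcore := minPrime_homog k n J hJh p hpmin
        rw [← hcore]
        exact (p.homogeneousCore 𝒜).isHomogeneous)
      (by
        intro p hp p' hp' hle
        obtain ⟨hpmin, -, -⟩ := (hPmem p).mp hp
        obtain ⟨hp'min, -, -⟩ := (hPmem p').mp hp'
        exact le_antisymm hle (hp'min.2 hpmin.1 hle))
    have hJ'h : (J ⊔ Ideal.span {h0}).IsHomogeneous 𝒜 := by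
      apply hJh.sup
      apply Ideal.homogeneous_span
      intro a ha
      rw [Set.mem_singleton_iff] at ha
      rw [ha]
      exact ⟨d0, h0hom⟩
    have hJ' : ∀ z : ProjectiveSpectrum 𝒜, J ⊔ Ideal.span {h0} ≤ z.asHomogeneousIdeal.toIdeal →
        ¬ L ≤ z.asHomogeneousIdeal.toIdeal → φ z < (c : ℕ∞) := by
      intro z hz hLz
      have hJz : J ≤ z.asHomogeneousIdeal.toIdeal := le_sup_left.trans hz
      have h0z : h0 ∈ z.asHomogeneousIdeal.toIdeal :=
        hz (Ideal.mem_sup_right (Ideal.mem_span_singleton_self h0))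
      haveI := z.isPrime
      obtain ⟨p, hpmin, hpz⟩ := Ideal.exists_minimalPrimes_le hJz
      have hprel : ¬ (HomogeneousIdeal.irrelevant 𝒜).toIdeal ≤ p :=
        fun h => z.not_irrelevant_le (fun a ha => hpz (h ha))
      have hLp : ¬ L ≤ p := fun h => hLz (h.trans hpz)
      obtain ⟨q, hq⟩ := point_of k n p hpmin.1.1 (minPrime_homog k n J hJh p hpmin) hprel
      have hqz : q < z := by
        refine lt_of_le_of_ne ?_ ?_
        · change q.asHomogeneousIdeal.toIdeal ≤ z.asHomogeneousIdeal.toIdeal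
          rw [hq]; exact hpz
        · intro heq
          apply h0avoid p ((hPmem p).mpr ⟨hpmin, hLp, hprel⟩)
          rw [← hq, heq]; exact h0z
      have h1 : φ z + 1 ≤ φ q :=
        hφ q z hqz (by rw [hq]; exact hJ0.trans hpmin.1.2) (by rw [hq]; exact hLp) hLz
      have h2 : φ q < ((c + 1 : ℕ) : ℕ∞) :=
        hJ q (by rw [hq]; exact hpmin.1.2) (by rw [hq]; exact hLp)
      have h3 : φ z + 1 < (c : ℕ∞) + 1 := by
        refine lt_of_le_of_lt h1 ?_
        exact_mod_cast h2
      exact lt_of_add_lt_add_right h3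
    obtain ⟨h', h'hom, h'L, h'emp⟩ :=
      ih (J ⊔ Ideal.span {h0}) hJ'h (hJ0.trans le_sup_left) hJ'
    refine ⟨Fin.cons h0 h', ?_, ?_, ?_⟩
    · intro i
      refine Fin.cases ?_ (fun j => ?_) i
      · rw [Fin.cons_zero]; exact ⟨d0, hd0, h0hom⟩
      · rw [Fin.cons_succ]; exact h'hom j
    · intro i
      refine Fin.cases ?_ (fun j => ?_) i
      · rw [Fin.cons_zero]; exact h0L
      · rw [Fin.cons_succ]; exact h'L j
    · intro z hz
      apply h'emp z
      apply sup_le (sup_le (le_sup_left.trans hz) ?_) ?_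
      · rw [Ideal.span_singleton_le_iff_mem]
        apply hz
        apply Ideal.mem_sup_right
        apply Ideal.subset_span
        exact ⟨0, Fin.cons_zero _ _⟩
      · rw [Ideal.span_le]
        rintro _ ⟨j, rfl⟩
        apply hz
        apply Ideal.mem_sup_right
        apply Ideal.subset_span
        exact ⟨j.succ, Fin.cons_succ _ _ _⟩

/-- the set-level statement, with the dimension of the difference. -/
lemma set_level' (r : ℕ) (ZX ZY : Set (ProjectiveSpectrum 𝒜)) (hZX : IsClosed ZX)
    (hZY : IsClosed ZY) (hdim : topologicalKrullDim ↥(ZX \ ZY) = r) :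
    ∃ h : Fin (r + 1) → A, (∀ i, ∃ d, 0 < d ∧ (h i).IsHomogeneous d) ∧
      (∀ i, ∀ y ∈ ZY, h i ∈ y.asHomogeneousIdeal.toIdeal) ∧
      ∀ z ∈ ZX, z ∉ ZY → ∃ i, h i ∉ z.asHomogeneousIdeal.toIdeal := by
  classical
  set J := (ProjectiveSpectrum.vanishingIdeal ZX).toIdeal with hJ
  set L := (ProjectiveSpectrum.vanishingIdeal ZY).toIdeal with hL
  have hmemX : ∀ z : ProjectiveSpectrum 𝒜, z ∈ ZX ↔ J ≤ z.asHomogeneousIdeal.toIdeal := by
    intro z
    rw [← hZX.closure_eq, ← ProjectiveSpectrum.zeroLocus_vanishingIdeal_eq_closure,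
      ProjectiveSpectrum.mem_zeroLocus]
    rfl
  have hmemY : ∀ z : ProjectiveSpectrum 𝒜, z ∈ ZY ↔ L ≤ z.asHomogeneousIdeal.toIdeal := by
    intro z
    rw [← hZY.closure_eq, ← ProjectiveSpectrum.zeroLocus_vanishingIdeal_eq_closure,
      ProjectiveSpectrum.mem_zeroLocus]
    rfl
  let φ : ProjectiveSpectrum 𝒜 → ℕ∞ := fun z =>
    if h : z ∈ ZX \ ZY then Order.coheight (⟨z, h⟩ : ↥(ZX \ ZY)) else 0
  -- the bound
  have hbound : ∀ (z : ProjectiveSpectrum 𝒜) (hz : z ∈ ZX \ ZY),
      Order.coheight (⟨z, hz⟩ : ↥(ZX \ ZY)) ≤ (r : ℕ∞) := by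
    intro z hz
    have h1 : ((Order.coheight (⟨z, hz⟩ : ↥(ZX \ ZY)) : ℕ∞) : WithBot ℕ∞) ≤
        Order.krullDim ↥(ZX \ ZY) := Order.coheight_le_krullDim _
    have h2 : Order.krullDim ↥(ZX \ ZY) ≤ topologicalKrullDim ↥(ZX \ ZY) := by
      unfold topologicalKrullDim
      rw [← Order.krullDim_orderDual (α := IrreducibleCloseds ↥(ZX \ ZY))]
      let f : ↥(ZX \ ZY) → (IrreducibleCloseds ↥(ZX \ ZY))ᵒᵈ := fun w =>
        OrderDual.toDual ⟨closure {w}, isIrreducible_singleton.closure, isClosed_closure⟩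
      apply Order.krullDim_le_of_strictMono f
      intro w w' hww'
      have hspec : w ⤳ w' := by
        rw [subtype_specializes_iff, spec_iff]; exact hww'.le
      change (⟨closure {w'}, _, _⟩ : IrreducibleCloseds ↥(ZX \ ZY)) < ⟨closure {w}, _, _⟩
      refine lt_of_le_of_ne ?_ ?_
      · change closure {w'} ⊆ closure {w}
        exact isClosed_closure.closure_subset_iff.mpr
          (Set.singleton_subset_iff.mpr (specializes_iff_mem_closure.mp hspec))
      · intro heq
        have heq' : closure {w'} = closure {w} :=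
          congrArg (fun Z : IrreducibleCloseds ↥(ZX \ ZY) => (Z : Set ↥(ZX \ ZY))) heq
        have hmem : w ∈ closure {w'} := by rw [heq']; exact subset_closure rfl
        have h3 : w' ⤳ w := specializes_iff_mem_closure.mpr hmem
        rw [subtype_specializes_iff, spec_iff] at h3
        exact absurd (le_antisymm hww'.le h3) hww'.ne
    rw [hdim] at h2
    have h3 : ((Order.coheight (⟨z, hz⟩ : ↥(ZX \ ZY)) : ℕ∞) : WithBot ℕ∞) ≤ ((r : ℕ∞) : WithBot ℕ∞) :=
      h1.trans h2
    exact WithBot.coe_le_coe.mp h3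
  obtain ⟨h, hhom, hhL, hh⟩ := claim'' k n L J (ProjectiveSpectrum.vanishingIdeal ZY).isHomogeneous φ
    (by
      intro q z hqz hJq hLq hLz
      have hqW : q ∈ ZX \ ZY := ⟨(hmemX q).mpr hJq, fun h => hLq ((hmemY q).mp h)⟩
      have hzW : z ∈ ZX \ ZY :=
        ⟨(hmemX z).mpr (hJq.trans hqz.le), fun h => hLz ((hmemY z).mp h)⟩
      simp only [φ, dif_pos hqW, dif_pos hzW]
      exact Order.coheight_add_one_le (show (⟨q, hqW⟩ : ↥(ZX \ ZY)) < ⟨z, hzW⟩ from hqz))
    (r + 1) J (ProjectiveSpectrum.vanishingIdeal ZX).isHomogeneous le_rfl (by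
      intro z hz hLz
      have hzW : z ∈ ZX \ ZY := ⟨(hmemX z).mpr hz, fun h => hLz ((hmemY z).mp h)⟩
      simp only [φ, dif_pos hzW]
      refine lt_of_le_of_lt (hbound z hzW) ?_
      exact_mod_cast Nat.lt_succ_self r)
  refine ⟨h, hhom, ?_, ?_⟩
  · intro i y hy
    exact ((hmemY y).mp hy) (hhL i)
  · intro z hzX hzY
    by_contra hcon
    push Not at hcon
    apply hzY
    rw [hmemY]
    apply hh z
    apply sup_le ((hmemX z).mp hzX)
    rw [Ideal.span_le]
    rintro _ ⟨i, rfl⟩
    exact hcon i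

theorem main10940 (r : ℕ) {X : Scheme.{u}} (j : X ⟶ CohB1.ProjSpace n k) [IsImmersion j]
    (hX : topologicalKrullDim ↥X = r) :
    ∃ U : Fin (r + 1) → X.Opens, (∀ i, IsAffineOpen (U i)) ∧ ⨆ i, U i = ⊤ := by
  let W : Set (ProjectiveSpectrum 𝒜) := Set.range j
  have hWlc : IsLocallyClosed W := j.isLocallyClosed_range
  have hZX : IsClosed (closure W) := isClosed_closure
  have hZY : IsClosed (closure W \ W) := by
    have := hWlc.isOpen_coborder.isClosed_compl
    rwa [coborder, compl_compl] at this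
  have hdiff : closure W \ (closure W \ W) = W := by
    ext z
    constructor
    · rintro ⟨h1, h2⟩
      by_contra h3
      exact h2 ⟨h1, h3⟩
    · intro h
      exact ⟨subset_closure h, fun h2 => h2.2 h⟩
  have hdim : topologicalKrullDim ↥(closure W \ (closure W \ W)) = r := by
    rw [hdiff, ← hX]
    symm
    exact IsHomeomorph.topologicalKrullDim_eq _ (j.isEmbedding.toHomeomorph).isHomeomorph
  obtain ⟨h, hhom, hhY, hhX⟩ := set_level' k n r (closure W) (closure W \ W) hZX hZY hdim
  refine ⟨fun i => j ⁻¹ᵁ (Proj.basicOpen 𝒜 (h i)), ?_, ?_⟩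
  · intro i
    obtain ⟨d, hd, hhd⟩ := hhom i
    have hU : @IsAffineOpen (CohB1.ProjSpace n k) (Proj.basicOpen 𝒜 (h i)) :=
      Proj.isAffineOpen_basicOpen 𝒜 (h i) hhd hd
    set D : (CohB1.ProjSpace n k).Opens := Proj.basicOpen 𝒜 (h i) with hD
    haveI : IsClosedImmersion (j ∣_ D) := by
      apply IsClosedImmersion.of_isPreimmersion
      have hrange : Set.range ⇑(j ∣_ D) = (Subtype.val : D → _) ⁻¹' closure W := by
        ext ⟨z, hzD⟩
        constructor
        · rintro ⟨x, hx⟩
          have h1 : ((j ∣_ D) x).1 = z := congrArg Subtype.val hx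
          rw [morphismRestrict_base_coe] at h1
          exact subset_closure ⟨x.1, h1⟩
        · intro hz
          have hzW : z ∈ W := by
            by_contra hzW
            exact hzD (hhY i z ⟨hz, hzW⟩)
          obtain ⟨x, hx⟩ := hzW
          have hxD : x ∈ j ⁻¹ᵁ D := by
            change j x ∈ D
            rw [hx]; exact hzD
          refine ⟨⟨x, hxD⟩, ?_⟩
          apply Subtype.ext
          exact (morphismRestrict_base_coe j D _).trans hx
      rw [hrange]
      exact isClosed_closure.preimage continuous_subtype_val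
    haveI : IsAffine (D : Scheme) := hU
    exact isAffine_of_isAffineHom (j ∣_ D)
  · rw [eq_top_iff]
    intro x _
    have hz : j x ∈ closure W := subset_closure ⟨x, rfl⟩
    have hzY : j x ∉ closure W \ W := fun h => h.2 ⟨x, rfl⟩
    obtain ⟨i, hi⟩ := hhX _ hz hzY
    exact Opens.mem_iSup.mpr ⟨i, hi⟩

end
end Helpers


/-- Let k be a field and X a quasi-projective variety over k of dimension r: an integral scheme with an
immersion j : X → P^n_k. Then X admits a cover by r + 1 affine open subschemes. (Consequently the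
cohomology of every quasi-coherent O_X-module vanishes above degree r; that consequence is the
general vanishing above the number of affines in a cover and is not restated here. The published
statement is for varieties over an algebraically closed field; the argument, r + 1 hypersurfaces
through the boundary of the closure of X, works over any field, so k is an arbitrary field here.) -/
theorem result (k : Type u) [Field k] (n r : ℕ)
    {X : Scheme.{u}} (j : X ⟶ CohB1.ProjSpace n k) [IsImmersion j] [IsIntegral X]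
    (hX : topologicalKrullDim ↥X = r) :
    ∃ U : Fin (r + 1) → X.Opens, (∀ i, IsAffineOpen (U i)) ∧ ⨆ i, U i = ⊤ := by
  exact main10940 k n r j hX

end Groth.Agent.S10940
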