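import Groth.Statements.S10944
import Mathlib

set_option autoImplicit false
universe u
open CategoryTheory AlgebraicGeometry
open FlatMor

namespace Groth.Agent.S10944

theorem eq_of_specializes_of_closure_mem {T : Type*} [TopologicalSpace T] [T0Space T] {y y' : T}
    (hy : closure {y} ∈ irreducibleComponents T) (h : y' ⤳ y) : y' = y := by
  have h1 : closure {y} ⊆ closure {y'} := specializes_iff_closure_subset.1 h
  have h2 : closure {y'} ⊆ closure {y} := hy.2 isIrreducible_singleton.closure h1
  exact (h.antisymm (specializes_iff_closure_subset.2 h2)).eq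

/-- Let f : X → Y be a flat morphism of Noetherian schemes and Y' an irreducible component of Y. Then
f⁻¹(Y') is the union of the irreducible components Z of X with f(Z) ⊆ Y'. -/
theorem result {X Y : Scheme.{u}}
    [IsNoetherian X] [IsNoetherian Y] (f : X ⟶ Y) [Flat f]
    (Y' : Set ↥Y) (hY' : Y' ∈ irreducibleComponents ↥Y) :
    f.base ⁻¹' Y' = ⋃₀ {Z : Set ↥X | Z ∈ irreducibleComponents ↥X ∧ f.base '' Z ⊆ Y'} := by
  have hYcl : IsClosed Y' := isClosed_of_mem_irreducibleComponents Y' hY'
  have hgenY := hY'.1.isGenericPoint_genericPoint hYcl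
  set η := hY'.1.genericPoint with hη
  ext x
  constructor
  · intro hx
    have h1 : η ⤳ f.base x := hgenY.specializes hx
    obtain ⟨x', hx'x, hfx'⟩ := Flat.generalizingMap f h1
    have hirr : IsIrreducible (irreducibleComponent x') := isIrreducible_irreducibleComponent
    have hgen := hirr.isGenericPoint_genericPoint isClosed_irreducibleComponent
    set ξ := hirr.genericPoint with hξ
    have hξx' : ξ ⤳ x' := hgen.specializes mem_irreducibleComponent
    have hfξ : f.base ξ ⤳ η := by
      have := hξx'.map f.continuous
      rw [← hfx']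
      exact this
    have hfξη : f.base ξ = η :=
      eq_of_specializes_of_closure_mem (by rw [hgenY.def]; exact hY') hfξ
    refine ⟨irreducibleComponent x', ⟨irreducibleComponent_mem_irreducibleComponents x', ?_⟩, ?_⟩
    · rintro _ ⟨z, hz, rfl⟩
      have h2 : ξ ⤳ z := hgen.specializes hz
      have h3 : f.base ξ ⤳ f.base z := h2.map f.continuous
      rw [hfξη] at h3
      exact h3.mem_closed hYcl hgenY.mem
    · exact (hξx'.trans hx'x).mem_closed isClosed_irreducibleComponent hgen.mem
  · rintro ⟨Z, ⟨hZ, hfZ⟩, hxZ⟩
    exact hfZ ⟨x, hxZ, rfl⟩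

end Groth.Agent.S10944
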