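import Groth.Statements.S10953
import Mathlib

set_option autoImplicit false
universe u
open RedSep

namespace Groth.Agent.S10953


set_option backward.defeqAttrib.useBackward true in
set_option backward.isDefEq.respectTransparency false in
open AlgebraicGeometry CategoryTheory Limits AlgebraicGeometry.Scheme AlgebraicGeometry.Scheme.Pullback in
theorem isSeparated_of_affine_base {X S : Scheme.{u}} [IsAffine S] (f : X ⟶ S)
    (h : ∀ x y : X, f x = f y → ∃ U : X.Opens, IsAffineOpen U ∧ x ∈ U ∧ y ∈ U) :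
    IsSeparated f := by
  constructor
  let 𝒰 : S.OpenCover := Scheme.coverOfIsIso (𝟙 S)
  let 𝒱 : ∀ i, (pullback f (𝒰.f i)).OpenCover := fun i =>
    (pullback f (𝒰.f i)).openCoverOfIsOpenCover
      (fun V : (pullback f (𝒰.f i)).affineOpens => V.1) (iSup_affineOpens_eq_top _)
  haveI : ∀ i, IsAffine (𝒰.X i) := fun _ => (inferInstance : IsAffine S)
  haveI : ∀ i j, IsAffine ((𝒱 i).X j) := fun i j => j.2
  have key : diagonalCoverDiagonalRange f 𝒰 𝒱 = ⊤ := by
    rw [← top_le_iff]
    rintro z -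
    have hxy : f (pullback.fst f f z) = f (pullback.snd f f z) := by
      rw [← Scheme.Hom.comp_apply, ← Scheme.Hom.comp_apply, pullback.condition]
    obtain ⟨U, hU, hxU, hyU⟩ := h _ _ hxy
    let i : 𝒰.I₀ := PUnit.unit
    haveI : IsIso (𝒰.f i) := (inferInstance : IsIso (𝟙 S))
    let V : (pullback f (𝒰.f i)).Opens := (pullback.fst f (𝒰.f i)) ⁻¹ᵁ U
    have hV : IsAffineOpen V := hU.preimage_of_isIso _
    let j : (𝒱 i).I₀ := ⟨V, hV⟩
    have hmem : ∀ x : X, x ∈ U → x ∈ Set.range ((𝒱 i).f j ≫ pullback.fst f (𝒰.f i)) := by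
      intro x hx
      obtain ⟨p, hp⟩ := (pullback.fst f (𝒰.f i)).surjective x
      have hpV : p ∈ V := by show pullback.fst f (𝒰.f i) p ∈ U; rw [hp]; exact hx
      refine ⟨⟨p, hpV⟩, ?_⟩
      rw [Scheme.Hom.comp_apply]
      exact hp
    refine TopologicalSpace.Opens.mem_iSup.mpr ⟨⟨i, j⟩, ?_⟩
    show z ∈ Set.range ((diagonalCover f 𝒰 𝒱).f ⟨i, j, j⟩)
    rw [diagonalCover_map]
    dsimp only
    refine (Set.ext_iff.mp (range_map ..) z).mpr ⟨hmem _ hxU, hmem _ hyU⟩
  refine IsZariskiLocalAtTarget.of_iSup_eq_top (fun i : PUnit.{0} ↦ ⊤) (by simp) fun _ ↦ ?_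
  rw [← key]
  exact isClosedImmersion_diagonal_restrict_diagonalCoverDiagonalRange f 𝒰 𝒱

open AlgebraicGeometry CategoryTheory in
/-- For a morphism of schemes f : X → S to an affine scheme S such that any two points of X with the
same image in S lie in one common affine open subset of X, the morphism f is separated. -/
theorem result {X S : Scheme.{u}} [IsAffine S] (f : X ⟶ S)
    (h : ∀ x y : X, f x = f y → ∃ U : X.Opens, IsAffineOpen U ∧ x ∈ U ∧ y ∈ U) :
    IsSeparated f := by
  exact isSeparated_of_affine_base f h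

end Groth.Agent.S10953
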