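import Groth.Statements.S10956
import Mathlib

set_option autoImplicit false
universe u
open scoped TensorProduct
open CAlg

namespace Groth.Agent.S10956

/-- Let R be a commutative ring, A and B commutative R-algebras and T = A ⊗_R B, an A-algebra through
the left factor. There is a T-linear map r from Ω_{T/R} to T ⊗_A Ω_{A/R} sending d(a ⊗ b) to (1 ⊗ b)
⊗ da for all a in A and b in B, and together with the canonical map Ω_{T/R} → Ω_{T/A} it identifies
Ω_{T/R} with the product (T ⊗_A Ω_{A/R}) × Ω_{T/A}. (The published statement is the isomorphism of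
(Ω_{A/R} ⊗_R B) ⊕ (A ⊗_R Ω_{B/R}) with Ω_{T/R} matching the exterior differentials; it is stated
here through the canonical identifications T ⊗_A Ω_{A/R} = Ω_{A/R} ⊗_R B and Ω_{T/A} = A ⊗_R
Ω_{B/R}.) -/
theorem result (R A B : Type u) [CommRing R] [CommRing A] [CommRing B]
    [Algebra R A] [Algebra R B] :
    ∃ r : Ω[(A ⊗[R] B)⁄R] →ₗ[A ⊗[R] B] ((A ⊗[R] B) ⊗[A] Ω[A⁄R]),
      (∀ (a : A) (b : B), r (KaehlerDifferential.D R (A ⊗[R] B) (a ⊗ₜ[R] b)) =
          ((1 : A) ⊗ₜ[R] b) ⊗ₜ[A] KaehlerDifferential.D R A a) ∧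
        Function.Bijective (fun ω : Ω[(A ⊗[R] B)⁄R] =>
          (r ω, KaehlerDifferential.map R A (A ⊗[R] B) (A ⊗[R] B) ω)) := by
  classical
  let algB : Algebra B (A ⊗[R] B) := Algebra.TensorProduct.rightAlgebra
  let β : Ω[(A ⊗[R] B)⁄R] →ₗ[A ⊗[R] B] Ω[(A ⊗[R] B)⁄A] :=
    KaehlerDifferential.map R A (A ⊗[R] B) (A ⊗[R] B)
  let α : (A ⊗[R] B) ⊗[A] Ω[A⁄R] →ₗ[A ⊗[R] B] Ω[(A ⊗[R] B)⁄R] :=
    KaehlerDifferential.mapBaseChange R A (A ⊗[R] B)
  let r : Ω[(A ⊗[R] B)⁄R] →ₗ[A ⊗[R] B] ((A ⊗[R] B) ⊗[A] Ω[A⁄R]) :=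
    (KaehlerDifferential.tensorKaehlerEquiv R B A (A ⊗[R] B)).symm.toLinearMap ∘ₗ
      (KaehlerDifferential.map R B (A ⊗[R] B) (A ⊗[R] B))
  have hr : ∀ (a : A) (b : B), r (KaehlerDifferential.D R (A ⊗[R] B) (a ⊗ₜ[R] b)) =
      ((1 : A) ⊗ₜ[R] b) ⊗ₜ[A] KaehlerDifferential.D R A a := by
    intro a b
    show (KaehlerDifferential.tensorKaehlerEquiv R B A (A ⊗[R] B)).symm
      (KaehlerDifferential.map R B (A ⊗[R] B) (A ⊗[R] B)
        (KaehlerDifferential.D R (A ⊗[R] B) (a ⊗ₜ[R] b))) = _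
    rw [KaehlerDifferential.map_D, Algebra.algebraMap_self, RingHom.id_apply,
      KaehlerDifferential.tensorKaehlerEquiv_symm_D_tmul',
      Algebra.TensorProduct.right_algebraMap_apply]
  -- r ∘ α = id
  have hrα : ∀ z, r (α z) = z := by
    intro z
    induction z using TensorProduct.induction_on with
    | zero => simp
    | add x y hx hy => rw [map_add, map_add, hx, hy]
    | tmul t ω =>
      have hω : ω ∈ Submodule.span A (Set.range (KaehlerDifferential.D R A)) := by
        rw [KaehlerDifferential.span_range_derivation]; trivial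
      revert t
      induction hω using Submodule.span_induction with
      | mem x hx =>
        obtain ⟨a, rfl⟩ := hx
        intro t
        show r (KaehlerDifferential.mapBaseChange R A (A ⊗[R] B) (t ⊗ₜ[A] _)) = _
        rw [KaehlerDifferential.mapBaseChange_tmul, KaehlerDifferential.map_D, map_smul,
          Algebra.TensorProduct.algebraMap_apply, Algebra.algebraMap_self, RingHom.id_apply, hr,
          ← Algebra.TensorProduct.one_def, TensorProduct.smul_tmul', smul_eq_mul, mul_one]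
      | zero => intro t; simp
      | add x y _ _ hx hy =>
        intro t
        rw [TensorProduct.tmul_add, map_add, map_add, hx, hy]
      | smul a x _ hx =>
        intro t
        rw [← TensorProduct.smul_tmul]
        exact hx _
  refine ⟨r, hr, ?_, ?_⟩
  · -- injective
    intro ω₁ ω₂ hω
    have h1 : r (ω₁ - ω₂) = 0 := by
      rw [map_sub, sub_eq_zero]; exact congrArg Prod.fst hω
    have h2 : β (ω₁ - ω₂) = 0 := by
      rw [map_sub, sub_eq_zero]; exact congrArg Prod.snd hω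
    obtain ⟨z, hz⟩ :=
      (KaehlerDifferential.exact_mapBaseChange_map R A (A ⊗[R] B) (ω₁ - ω₂)).mp h2
    have hz0 : z = 0 := by
      rw [← hrα z]
      show r (KaehlerDifferential.mapBaseChange R A (A ⊗[R] B) z) = 0
      rw [hz]; exact h1
    rw [hz0, map_zero] at hz
    exact sub_eq_zero.mp hz.symm
  · rintro ⟨z, η⟩
    obtain ⟨ω₀, hω₀⟩ := KaehlerDifferential.map_surjective R A (A ⊗[R] B) η
    refine ⟨ω₀ + α (z - r ω₀), ?_⟩
    have hβα : ∀ y, β (α y) = 0 := fun y =>
      (KaehlerDifferential.exact_mapBaseChange_map R A (A ⊗[R] B) (α y)).mpr ⟨y, rfl⟩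
    show (r (ω₀ + α (z - r ω₀)), β (ω₀ + α (z - r ω₀))) = (z, η)
    rw [map_add, map_add, hrα, hβα, add_zero]
    refine Prod.ext ?_ hω₀
    show r ω₀ + (z - r ω₀) = z
    abel

end Groth.Agent.S10956
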