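import Groth.Statements.S10973
import Groth.Agent.Lib.helper16.FFPlaces

set_option autoImplicit false
open FunFld

namespace Groth.Agent.S10973

/-- Two nonzero elements of a function field of one variable with the same principal divisor differ by a
constant multiple. -/
theorem result (k K : Type*) [Field k] [Field K] [Algebra k K]
    (hK : FunFld.IsFunctionField k K) (x y : K) (hx : x ≠ 0) (hy : y ≠ 0)
    (h : ∀ P : FunFld.Place k K, P.ord x = P.ord y) : ∃ c : k, x = c • y := by
  open Groth.Agent.Lib.helper16.FF WithZero in
  by_cases hz : x / y ∈ Set.range (algebraMap k K)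
  · obtain ⟨c, hc⟩ := hz
    refine ⟨c, ?_⟩
    rw [Algebra.smul_def, hc]
    field_simp
  · exfalso
    obtain ⟨P, hP⟩ := exists_place_lt_one hK hz
    rw [map_div₀, val_eq_exp_neg_ord P hx, val_eq_exp_neg_ord P hy, h P] at hP
    rw [div_self (exp_ne_zero)] at hP
    exact lt_irrefl _ hP

end Groth.Agent.S10973
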