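import Groth.Statements.S10994
import Groth.Agent.Lib.helper16.FFRat

set_option autoImplicit false
open FunFld

namespace Groth.Agent.S10994

/-- A function field of one variable has genus `0` and a place of degree `1` iff it is a rational
function field `k(x)`. -/
theorem result (k K : Type*) [Field k] [Field K] [Algebra k K]
    (hK : FunFld.IsFunctionField k K) :
    (FunFld.genus k K = 0 ∧ ∃ P : FunFld.Place k K, P.deg = 1) ↔
      ∃ x : K, IntermediateField.adjoin k ({x} : Set K) = ⊤ := by
  open Groth.Agent.Lib.helper16.FF in
  constructor
  · rintro ⟨hg, P, hP⟩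
    have h1 := delta_le_genus hK (Finsupp.single P 1)
    unfold delta at h1
    rw [deg_single, hP, hg] at h1
    have h2 : 2 ≤ FunFld.ell (Finsupp.single P (1 : ℤ)) := by
      have : (2 : ℤ) ≤ FunFld.ell (Finsupp.single P (1 : ℤ)) := by
        push_cast at h1
        omega
      exact_mod_cast this
    -- an element of `L(P)` outside `k`
    have hex : ∃ x : K, x ∈ FunFld.L (Finsupp.single P (1 : ℤ)) ∧
        x ∉ Set.range (algebraMap k K) := by
      by_contra hcon
      push Not at hcon
      have hle : FunFld.L (Finsupp.single P (1 : ℤ)) ≤ FunFld.L (0 : FunFld.Divisor k K) := by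
        intro x hx
        rw [L_zero_eq_one hK, Submodule.mem_one]
        exact hcon x hx
      have hfd := finiteDimensional_L hK (0 : FunFld.Divisor k K)
      have := Submodule.finrank_mono hle
      have h0 := ell_zero hK (k := k) (K := K)
      unfold FunFld.ell at h2 h0
      omega
    obtain ⟨x, hxL, hxr⟩ := hex
    have hx0 : x ≠ 0 := by
      rintro rfl
      exact hxr ⟨0, map_zero _⟩
    have hle : poleDiv k x ≤ Finsupp.single P 1 := by
      intro Q
      rw [poleDiv_apply hK]
      have := hxL Q
      rw [val_eq_exp_neg_ord Q hx0, WithZero.exp_le_exp] at this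
      apply max_le this
      classical
      rw [Finsupp.single_apply]
      split_ifs <;> omega
    have h3 := deg_mono hle
    rw [deg_poleDiv_eq hK hxr, deg_single, hP] at h3
    have hfd := finiteDimensional_of_transcendental hK (transcendental_of_not_mem_range hK hxr)
    have h4 : 0 < Module.finrank (IntermediateField.adjoin k ({x} : Set K)) K :=
      Module.finrank_pos
    refine ⟨x, IntermediateField.finrank_eq_one_iff_eq_top.mp ?_⟩
    have : (Module.finrank (IntermediateField.adjoin k ({x} : Set K)) K : ℤ) ≤ 1 := by
      simpa using h3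
    omega
  · rintro ⟨x, hx⟩
    obtain ⟨P, hP, -, -⟩ := exists_simple_pole_of_adjoin_eq_top hK hx
    exact ⟨genus_eq_zero_of_adjoin_eq_top hK hx, P, hP⟩

end Groth.Agent.S10994
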