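import Groth.Statements.S10996
import Groth.Agent.Lib.helper16.FFRat

set_option autoImplicit false
open FunFld

namespace Groth.Agent.S10996

/-- In a function field of one variable of positive genus, distinct places of degree one are not
linearly equivalent. -/
theorem result (k K : Type*) [Field k] [Field K] [Algebra k K]
    (hK : FunFld.IsFunctionField k K) (hg : 0 < FunFld.genus k K) (P P' : FunFld.Place k K) (hP : P.deg = 1) (hP' : P'.deg = 1)
    (x : K) (hx : x ≠ 0) (h : Finsupp.single P 1 - Finsupp.single P' 1 = FunFld.div k x) : P = P' := by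
  open Groth.Agent.Lib.helper16.FF in
  by_contra hne
  have h1 : P'.ord x = -1 := by
    rw [← div_apply hK, ← h, Finsupp.sub_apply, Finsupp.single_eq_of_ne (Ne.symm hne),
      Finsupp.single_eq_same]
    rfl
  have h2 : ∀ Q : FunFld.Place k K, Q ≠ P' → 0 ≤ Q.ord x := by
    intro Q hQ
    rw [← div_apply hK, ← h, Finsupp.sub_apply, Finsupp.single_eq_of_ne hQ, sub_zero]
    classical
    rw [Finsupp.single_apply]
    split_ifs <;> omega
  have h3 := adjoin_eq_top_of_simple_pole hK hP' h1 h2
  have h4 := genus_eq_zero_of_adjoin_eq_top hK h3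
  omega

end Groth.Agent.S10996
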