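import Groth.Statements.S19396
import Groth.Agent.Lib.helper16.FFIndep

set_option autoImplicit false
universe u v
open FunFld

namespace Groth.Agent.S19396

/-- On an elliptic curve with base point 0, if f has a double pole at 0 and no other pole and g a triple
pole at 0 and no other pole, then for n ≥ 2 the functions 1, f, …, f^[n/2], g, fg, …, f^[(n−3)/2] g
form a basis of the space of functions with at most an n-fold pole at 0. Stated for a function field
K/k of one variable of genus 1 with a place P of degree 1 in the role of the curve and its base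
point: the family indexed by Fin (n/2 + 1) ⊕ Fin ((n − 1)/2), sending i on the left to f^i and i on
the right to f^i g, is linearly independent over k and spans L(nP). -/
theorem result (k : Type u) (K : Type v) [Field k] [Field K]
    [Algebra k K] (hK : FunFld.IsFunctionField k K) (hgen : FunFld.genus k K = 1)
    (P : FunFld.Place k K) (hP : P.deg = 1) (f g : K)
    (hf : f ∈ FunFld.L (Finsupp.single P 2)) (hf2 : P.ord f = -2)
    (hg : g ∈ FunFld.L (Finsupp.single P 3)) (hg3 : P.ord g = -3) (n : ℕ) (hn : 2 ≤ n) :
    LinearIndependent k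
        (Sum.elim (fun i : Fin (n / 2 + 1) => f ^ (i : ℕ)) (fun i : Fin ((n - 1) / 2) => f ^ (i : ℕ) * g)) ∧
      Submodule.span k (Set.range
        (Sum.elim (fun i : Fin (n / 2 + 1) => f ^ (i : ℕ)) (fun i : Fin ((n - 1) / 2) => f ^ (i : ℕ) * g))) =
        FunFld.L (Finsupp.single P (n : ℤ)) := by
  open Groth.Agent.Lib.helper16.FF in
  classical
  have hf0 : f ≠ 0 := by
    rintro rfl
    rw [ord_zero] at hf2
    omega
  have hg0 : g ≠ 0 := by
    rintro rfl
    rw [ord_zero] at hg3
    omega
  have hfQ := ord_nonneg_of_mem_L_single hf0 hf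
  have hgQ := ord_nonneg_of_mem_L_single hg0 hg
  set z : Fin (n / 2 + 1) ⊕ Fin ((n - 1) / 2) → K :=
    Sum.elim (fun i : Fin (n / 2 + 1) => f ^ (i : ℕ)) (fun i : Fin ((n - 1) / 2) => f ^ (i : ℕ) * g)
    with hz
  have hz0 : ∀ a, z a ≠ 0 := by
    rintro (i | i)
    · exact pow_ne_zero _ hf0
    · exact mul_ne_zero (pow_ne_zero _ hf0) hg0
  have hord : ∀ a, P.ord (z a) = Sum.elim (fun i : Fin (n / 2 + 1) => -2 * (i : ℤ))
      (fun i : Fin ((n - 1) / 2) => -2 * (i : ℤ) - 3) a := by
    rintro (i | i)
    · simp only [hz, Sum.elim_inl, ord_pow, hf2]; ring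
    · simp only [hz, Sum.elim_inr]
      rw [ord_mul P (pow_ne_zero _ hf0) hg0, ord_pow, hf2, hg3]; ring
  have hinj : Function.Injective (fun a => P.ord (z a)) := by
    intro a b hab
    simp only [hord] at hab
    rcases a with i | i <;> rcases b with j | j <;> simp only [Sum.elim_inl, Sum.elim_inr] at hab
    · congr 1; apply Fin.ext; omega
    · omega
    · omega
    · congr 1; apply Fin.ext; omega
  have hli := linearIndependent_of_ord_injective P z hz0 hinj
  refine ⟨hli, ?_⟩
  have hmem : ∀ a, z a ∈ FunFld.L (Finsupp.single P (n : ℤ)) := by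
    intro a
    apply mem_L_single_of_ord P (hz0 a)
    · rw [hord]
      rcases a with i | i
      · simp only [Sum.elim_inl]
        have := i.2
        omega
      · simp only [Sum.elim_inr]
        have := i.2
        omega
    · intro Q hQ
      rcases a with i | i
      · simp only [hz, Sum.elim_inl, ord_pow]
        have := hfQ Q hQ
        positivity
      · simp only [hz, Sum.elim_inr]
        rw [ord_mul Q (pow_ne_zero _ hf0) hg0, ord_pow]
        have h1 := hfQ Q hQ
        have h2 := hgQ Q hQ
        have : 0 ≤ ((i : ℕ) : ℤ) * Q.ord f := by positivity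
        omega
  have hle : Submodule.span k (Set.range z) ≤ FunFld.L (Finsupp.single P (n : ℤ)) := by
    rw [Submodule.span_le]
    rintro _ ⟨a, rfl⟩
    exact hmem a
  have hfd := finiteDimensional_L hK (Finsupp.single P (n : ℤ))
  apply Submodule.eq_of_le_of_finrank_eq hle
  rw [finrank_span_eq_card hli]
  have hell := ell_single_eq_of_genus_one hK hgen hP (n := n) (by omega)
  unfold FunFld.ell at hell
  rw [hell]
  simp only [Fintype.card_sum, Fintype.card_fin]
  omega

end Groth.Agent.S19396
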