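import Groth.Statements.S10998
import Groth.Agent.Lib.helper16.FFIndep
import Groth.Agent.S19396

set_option autoImplicit false
open FunFld

namespace Groth.Agent.S10998

/-- A genus-one function field with a place `P₀` of degree one is `k(x, y)` with `x ∈ L(2P₀)`, `y ∈
L(3P₀)` of pole orders `2` and `3`, and `y² + f(x) y + g(x) = 0` for polynomials `f` of degree `≤ 1`
and `g` of degree `3`. -/
theorem result (k K : Type*) [Field k] [Field K] [Algebra k K]
    (hK : FunFld.IsFunctionField k K) (hg : FunFld.genus k K = 1) (P₀ : FunFld.Place k K) (hP : P₀.deg = 1) :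
    ∃ x y : K, x ∈ FunFld.L (Finsupp.single P₀ 2) ∧ y ∈ FunFld.L (Finsupp.single P₀ 3) ∧
      P₀.ord x = -2 ∧ P₀.ord y = -3 ∧
      IntermediateField.adjoin k ({x, y} : Set K) = ⊤ ∧
      ∃ f g : Polynomial k, f.natDegree ≤ 1 ∧ g.natDegree = 3 ∧
        y ^ 2 + Polynomial.aeval x f * y + Polynomial.aeval x g = 0 := by
  open Groth.Agent.Lib.helper16.FF Polynomial in
  classical
  have hell : ∀ n : ℕ, 1 ≤ n → FunFld.ell (Finsupp.single P₀ (n : ℤ)) = n :=
    fun n hn => ell_single_eq_of_genus_one hK hg hP hn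
  have hne : ∀ n : ℕ, 2 ≤ n →
      FunFld.L (Finsupp.single P₀ (n : ℤ)) ≠ FunFld.L (Finsupp.single P₀ ((n : ℤ) - 1)) := by
    intro n hn heq
    have h1 := hell n (by omega)
    have h2 := hell (n - 1) (by omega)
    have hcast : ((n - 1 : ℕ) : ℤ) = (n : ℤ) - 1 := by
      rw [Nat.cast_sub (by omega)]; simp
    rw [hcast] at h2
    unfold FunFld.ell at h1 h2
    rw [heq] at h1
    omega
  obtain ⟨x, hx0, hx2, hxQ⟩ := exists_ord_eq_of_L_ne (hne 2 le_rfl)
  obtain ⟨y, hy0, hy3, hyQ⟩ := exists_ord_eq_of_L_ne (hne 3 (by norm_num))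
  have hxL : x ∈ FunFld.L (Finsupp.single P₀ 2) :=
    mem_L_single_of_ord P₀ hx0 (by rw [hx2]; norm_num) hxQ
  have hyL : y ∈ FunFld.L (Finsupp.single P₀ 3) :=
    mem_L_single_of_ord P₀ hy0 (by rw [hy3]; norm_num) hyQ
  have hx2' : P₀.ord x = -2 := by rw [hx2]; norm_num
  have hy3' : P₀.ord y = -3 := by rw [hy3]; norm_num
  refine ⟨x, y, hxL, hyL, hx2', hy3', ?_, ?_⟩
  · -- K = k(x, y)
    have hxr : x ∉ Set.range (algebraMap k K) := by
      intro h
      have := ord_eq_zero_of_mem_range P₀ h
      omega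
    have hyr : y ∉ Set.range (algebraMap k K) := by
      intro h
      have := ord_eq_zero_of_mem_range P₀ h
      omega
    have hpx : poleDiv k x = Finsupp.single P₀ 2 := by
      ext Q
      rw [poleDiv_apply hK]
      by_cases hQ : Q = P₀
      · subst hQ
        rw [hx2', Finsupp.single_eq_same]; rfl
      · rw [Finsupp.single_eq_of_ne hQ, max_eq_right]
        have := hxQ Q hQ
        omega
    have hpy : poleDiv k y = Finsupp.single P₀ 3 := by
      ext Q
      rw [poleDiv_apply hK]
      by_cases hQ : Q = P₀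
      · subst hQ
        rw [hy3', Finsupp.single_eq_same]; rfl
      · rw [Finsupp.single_eq_of_ne hQ, max_eq_right]
        have := hyQ Q hQ
        omega
    have hdx := deg_poleDiv_eq hK hxr
    have hdy := deg_poleDiv_eq hK hyr
    rw [hpx, deg_single, hP] at hdx
    rw [hpy, deg_single, hP] at hdy
    have hfx : Module.finrank (IntermediateField.adjoin k ({x} : Set K)) K = 2 := by
      have : ((2 : ℕ) : ℤ) = (Module.finrank (IntermediateField.adjoin k ({x} : Set K)) K : ℤ) := by
        rw [← hdx]; norm_num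
      exact_mod_cast this.symm
    have hfy : Module.finrank (IntermediateField.adjoin k ({y} : Set K)) K = 3 := by
      have : ((3 : ℕ) : ℤ) = (Module.finrank (IntermediateField.adjoin k ({y} : Set K)) K : ℤ) := by
        rw [← hdy]; norm_num
      exact_mod_cast this.symm
    have hle1 : IntermediateField.adjoin k ({x} : Set K) ≤ IntermediateField.adjoin k ({x, y} : Set K) :=
      IntermediateField.adjoin.mono k _ _ (by simp)
    have hle2 : IntermediateField.adjoin k ({y} : Set K) ≤ IntermediateField.adjoin k ({x, y} : Set K) :=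
      IntermediateField.adjoin.mono k _ _ (by simp)
    have hd1 := IntermediateField.finrank_dvd_of_le_left hle1
    have hd2 := IntermediateField.finrank_dvd_of_le_left hle2
    rw [hfx] at hd1
    rw [hfy] at hd2
    rw [← IntermediateField.finrank_eq_one_iff_eq_top]
    have h3 : Module.finrank (IntermediateField.adjoin k ({x, y} : Set K)) K ∣ Nat.gcd 2 3 :=
      Nat.dvd_gcd hd1 hd2
    norm_num at h3
    exact h3
  · -- the Weierstrass relation
    have hbasis := (Groth.Agent.S19396.result k K hK hg P₀ hP x y hxL hx2' hyL hy3' 6 (by norm_num)).2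
    have hy2L : y ^ 2 ∈ FunFld.L (Finsupp.single P₀ ((6 : ℕ) : ℤ)) := by
      apply mem_L_single_of_ord P₀ (pow_ne_zero _ hy0)
      · rw [ord_pow, hy3']; norm_num
      · intro Q hQ
        rw [ord_pow]
        have := hyQ Q hQ
        positivity
    rw [← hbasis, Submodule.mem_span_range_iff_exists_fun] at hy2L
    obtain ⟨c, hc⟩ := hy2L
    rw [Fintype.sum_sum_type] at hc
    simp only [Sum.elim_inl, Sum.elim_inr] at hc
    have e4 : ∀ F : Fin (6 / 2 + 1) → K, ∑ i, F i = F ⟨0, by norm_num⟩ + F ⟨1, by norm_num⟩ +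
        F ⟨2, by norm_num⟩ + F ⟨3, by norm_num⟩ := fun F => Fin.sum_univ_four F
    have e2 : ∀ F : Fin ((6 - 1) / 2) → K, ∑ i, F i = F ⟨0, by norm_num⟩ + F ⟨1, by norm_num⟩ :=
      fun F => Fin.sum_univ_two F
    rw [e4, e2] at hc
    simp only [pow_zero, pow_one, one_mul] at hc
    set a0 := c (Sum.inl ⟨0, by norm_num⟩)
    set a1 := c (Sum.inl ⟨1, by norm_num⟩)
    set a2 := c (Sum.inl ⟨2, by norm_num⟩)
    set a3 := c (Sum.inl ⟨3, by norm_num⟩)
    set b0 := c (Sum.inr ⟨0, by norm_num⟩)
    set b1 := c (Sum.inr ⟨1, by norm_num⟩)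
    have ha3 : a3 ≠ 0 := by
      intro h
      rw [h, zero_smul, add_zero] at hc
      have hmem : y ^ 2 ∈ FunFld.L (Finsupp.single P₀ (5 : ℤ)) := by
        rw [← hc]
        have m1 : (1 : K) ∈ FunFld.L (Finsupp.single P₀ (5 : ℤ)) :=
          mem_L_single_of_ord P₀ one_ne_zero (by rw [ord_one]; norm_num)
            (fun Q _ => by rw [ord_one])
        have mx : x ∈ FunFld.L (Finsupp.single P₀ (5 : ℤ)) :=
          mem_L_single_of_ord P₀ hx0 (by rw [hx2']; norm_num) hxQ
        have mx2 : x ^ 2 ∈ FunFld.L (Finsupp.single P₀ (5 : ℤ)) :=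
          mem_L_single_of_ord P₀ (pow_ne_zero _ hx0) (by rw [ord_pow, hx2']; norm_num)
            (fun Q hQ => by rw [ord_pow]; have := hxQ Q hQ; positivity)
        have my : y ∈ FunFld.L (Finsupp.single P₀ (5 : ℤ)) :=
          mem_L_single_of_ord P₀ hy0 (by rw [hy3']; norm_num) hyQ
        have mxy : x * y ∈ FunFld.L (Finsupp.single P₀ (5 : ℤ)) :=
          mem_L_single_of_ord P₀ (mul_ne_zero hx0 hy0)
            (by rw [ord_mul P₀ hx0 hy0, hx2', hy3']; norm_num)
            (fun Q hQ => by
              rw [ord_mul Q hx0 hy0]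
              have := hxQ Q hQ
              have := hyQ Q hQ
              omega)
        exact Submodule.add_mem _ (Submodule.add_mem _ (Submodule.add_mem _
          (Submodule.smul_mem _ _ m1) (Submodule.smul_mem _ _ mx)) (Submodule.smul_mem _ _ mx2))
          (Submodule.add_mem _ (Submodule.smul_mem _ _ my) (Submodule.smul_mem _ _ mxy))
      have := hmem P₀
      rw [Finsupp.single_eq_same, val_le_exp_iff P₀ (pow_ne_zero _ hy0), ord_pow, hy3'] at this
      norm_num at this
    refine ⟨C (-b1) * X + C (-b0), C (-a3) * X ^ 3 + C (-a2) * X ^ 2 + C (-a1) * X + C (-a0),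
      natDegree_linear_le, natDegree_cubic (neg_ne_zero.mpr ha3), ?_⟩
    simp only [map_add, map_mul, aeval_C, aeval_X, map_pow, map_neg]
    rw [← hc]
    simp only [Algebra.smul_def]
    ring

end Groth.Agent.S10998
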