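import Groth.Statements.S10999
import Groth.Agent.Lib.helper16.FFMore
import Groth.Agent.S10996

set_option autoImplicit false
open FunFld

namespace Groth.Agent.S10999

/-- In a genus-one function field with a place `P₀` of degree one, `P ↦ P - P₀` is a bijection from the
places of degree one onto the divisor classes of degree zero. The geometric description of the group
law is not stated. -/
theorem result (k K : Type*) [Field k] [Field K] [Algebra k K]
    (hK : FunFld.IsFunctionField k K) (hg : FunFld.genus k K = 1) (P₀ : FunFld.Place k K) (hP : P₀.deg = 1)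
    (D : FunFld.Divisor k K) (hD : D.deg = 0) :
    ∃! P : FunFld.Place k K, P.deg = 1 ∧
      ∃ x : K, x ≠ 0 ∧ D = Finsupp.single P 1 - Finsupp.single P₀ 1 + FunFld.div k x := by
  open Groth.Agent.Lib.helper16.FF in
  have hex : ∃ P : FunFld.Place k K, P.deg = 1 ∧
      ∃ x : K, x ≠ 0 ∧ D = Finsupp.single P 1 - Finsupp.single P₀ 1 + FunFld.div k x := by
    have hdeg : (D + Finsupp.single P₀ 1).deg = 1 := by
      rw [deg_add, deg_single, hD, hP]; simp
    have h1 := ell_eq_of_deg_ge hK (D := D + Finsupp.single P₀ 1) (by rw [hdeg, hg]; norm_num)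
    rw [hdeg, hg] at h1
    have h2 : 0 < FunFld.ell (D + Finsupp.single P₀ 1) := by
      have : (0 : ℤ) < FunFld.ell (D + Finsupp.single P₀ 1) := by rw [h1]; norm_num
      exact_mod_cast this
    obtain ⟨z, hz0, hz⟩ := exists_ne_zero_mem_L hK h2
    have h3 := (nonneg_add_div_iff hK _ hz0).mp hz
    have h4 : (D + Finsupp.single P₀ 1 + FunFld.div k z).deg = 1 := by
      rw [deg_add, hdeg, deg_div_eq_zero hK]; simp
    obtain ⟨P, hP1, hP2⟩ := eq_single_of_deg_eq_one hK h3 h4
    refine ⟨P, hP1, z⁻¹, inv_ne_zero hz0, ?_⟩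
    rw [div_inv hK, ← hP2]
    abel
  obtain ⟨P, hP1, x, hx0, hx⟩ := hex
  refine ⟨P, ⟨hP1, x, hx0, hx⟩, ?_⟩
  rintro P' ⟨hP'1, x', hx'0, hx'⟩
  have h5 : Finsupp.single P' 1 - Finsupp.single P 1 = FunFld.div k (x * x'⁻¹) := by
    rw [div_mul hK hx0 (inv_ne_zero hx'0), div_inv hK]
    have h6 : Finsupp.single P 1 - Finsupp.single P₀ 1 + FunFld.div k x =
        Finsupp.single P' 1 - Finsupp.single P₀ 1 + FunFld.div k x' := by rw [← hx, ← hx']
    have h7 : FunFld.div k x + -FunFld.div k x' =
        (Finsupp.single P 1 - Finsupp.single P₀ 1 + FunFld.div k x) -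
          (Finsupp.single P 1 - Finsupp.single P₀ 1 + FunFld.div k x') := by abel
    rw [h7, h6]
    abel
  exact Groth.Agent.S10996.result k K hK (by rw [hg]; norm_num) P' P hP'1 hP1 (x * x'⁻¹)
    (mul_ne_zero hx0 (inv_ne_zero hx'0)) h5

end Groth.Agent.S10999
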