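import Groth.Statements.S11015
import Groth.Agent.Lib.helper16.FFRes

set_option autoImplicit false
open FunFld

namespace Groth.Agent.S11015

/-- For `x ≠ 0`, multiplication by `x` identifies `L(D + (x))` with `L(D)`; in particular `L(D₁) ≅
L(D₂)` for linearly equivalent divisors. -/
theorem result (k K : Type*) [Field k] [Field K] [Algebra k K]
    (hK : FunFld.IsFunctionField k K) (D : FunFld.Divisor k K) (x y : K) (hx : x ≠ 0) :
    x * y ∈ FunFld.L D ↔ y ∈ FunFld.L (D + FunFld.div k x) := by
  open Groth.Agent.Lib.helper16.FF WithZero in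
  constructor
  · intro h P
    have h1 := h P
    rw [map_mul, val_eq_exp_neg_ord P hx] at h1
    rw [Finsupp.add_apply, div_apply hK, exp_add]
    have h2 : P.1 y = exp (P.ord x) * (exp (-P.ord x) * P.1 y) := by
      rw [← mul_assoc, ← exp_add]; simp
    rw [h2, mul_comm (exp (D P))]
    gcongr
  · intro h P
    have h1 := h P
    rw [Finsupp.add_apply, div_apply hK, exp_add] at h1
    rw [map_mul, val_eq_exp_neg_ord P hx]
    have h2 : exp (D P) = exp (-P.ord x) * (exp (D P) * exp (P.ord x)) := by
      rw [mul_comm (exp (D P)), ← mul_assoc, ← exp_add]; simp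
    rw [h2]
    gcongr

end Groth.Agent.S11015
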