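import Groth.Statements.S11016
import Groth.Agent.Lib.helper16.FFRes

set_option autoImplicit false
open FunFld

namespace Groth.Agent.S11016

/-- `L(D) ≠ 0` iff there is an effective divisor linearly equivalent to `D`. -/
theorem result (k K : Type*) [Field k] [Field K] [Algebra k K]
    (hK : FunFld.IsFunctionField k K) (D : FunFld.Divisor k K) :
    FunFld.L D ≠ ⊥ ↔ ∃ x : K, x ≠ 0 ∧ 0 ≤ D + FunFld.div k x := by
  open Groth.Agent.Lib.helper16.FF WithZero in
  rw [Submodule.ne_bot_iff]
  constructor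
  · rintro ⟨x, hx, hx0⟩
    refine ⟨x, hx0, fun P => ?_⟩
    have h1 := hx P
    rw [val_eq_exp_neg_ord P hx0, exp_le_exp] at h1
    rw [Finsupp.add_apply, div_apply hK]
    simp only [Finsupp.coe_zero, Pi.zero_apply]
    omega
  · rintro ⟨x, hx0, h⟩
    refine ⟨x, fun P => ?_, hx0⟩
    have h1 := h P
    rw [Finsupp.add_apply, div_apply hK] at h1
    simp only [Finsupp.coe_zero, Pi.zero_apply] at h1
    rw [val_eq_exp_neg_ord P hx0, exp_le_exp]
    omega

end Groth.Agent.S11016
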