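import Groth.Statements.S11017
import Mathlib.LinearAlgebra.Dual.Lemmas

set_option autoImplicit false

open FunFld

namespace Groth.Agent.S11017

/-- a function on places supported at one place is a repartition -/
theorem single_mem_adele {k K : Type*} [Field k] [Field K] [Algebra k K]
    (P : FunFld.Place k K) (a : FunFld.Place k K → K) (h : ∀ Q, Q ≠ P → a Q = 0) :
    a ∈ FunFld.adele k K := by
  change ∀ᶠ Q : FunFld.Place k K in Filter.cofinite, Q.1 (a Q) ≤ 1
  rw [Filter.eventually_cofinite]
  refine (Set.finite_singleton P).subset ?_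
  intro Q hQ
  by_contra hne
  apply hQ
  rw [h Q hne]
  simp

/-- For a Weil differential `ω` with divisor `C`, `ord_P [ω] ≥ e` iff `ω` kills every repartition
concentrated at `P` with `P`-component of order at least `-e`. -/
theorem result (k K : Type*) [Field k] [Field K] [Algebra k K] (ω : Module.Dual k (FunFld.adele k K)) (C : FunFld.Divisor k K) (hω : FunFld.IsDivOf ω C)
    (P : FunFld.Place k K) (e : ℤ) :
    e ≤ C P ↔ ∀ (a : FunFld.Place k K → K) (ha : a ∈ FunFld.adele k K),
      (∀ Q, Q ≠ P → a Q = 0) → P.1 (a P) ≤ WithZero.exp e → ω ⟨a, ha⟩ = 0 := by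
  classical
  constructor
  · intro he a ha hQ hP
    let E : FunFld.Divisor k K := C - Finsupp.single P (C P - e)
    have hEP : E P = e := by simp [E]
    have hEQ : ∀ Q, Q ≠ P → E Q = C Q := by
      intro Q hQP
      simp [E, Finsupp.single_apply, Ne.symm hQP]
    have hEC : E ≤ C := by
      intro Q
      by_cases hQP : Q = P
      · subst hQP; rw [hEP]; exact he
      · rw [hEQ Q hQP]
    have hωE : ω ∈ FunFld.WD E := (hω E).mpr hEC
    unfold FunFld.WD at hωE
    rw [Submodule.mem_dualAnnihilator] at hωE
    apply hωE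
    unfold FunFld.ADK
    rw [Submodule.mem_comap]
    apply Submodule.mem_sup_left
    intro Q
    by_cases hQP : Q = P
    · subst hQP
      change Q.1 (a Q) ≤ _
      rw [hEP]; exact hP
    · change Q.1 (a Q) ≤ _
      rw [hQ Q hQP]; simp
  · intro h
    by_contra hlt
    rw [not_le] at hlt
    let E : FunFld.Divisor k K := C + Finsupp.single P (e - C P)
    have hEP : E P = e := by simp [E]
    have hEQ : ∀ Q, Q ≠ P → E Q = C Q := by
      intro Q hQP
      simp [E, Finsupp.single_apply, Ne.symm hQP]
    have hnEC : ¬ E ≤ C := by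
      intro hle
      have := hle P
      rw [hEP] at this
      exact absurd this (not_le.mpr hlt)
    apply hnEC
    rw [← hω E]
    have hωC : ω ∈ FunFld.WD C := (hω C).mpr le_rfl
    unfold FunFld.WD at hωC ⊢
    rw [Submodule.mem_dualAnnihilator] at hωC ⊢
    rintro ⟨b, hb⟩ hbE
    unfold FunFld.ADK at hbE
    rw [Submodule.mem_comap] at hbE
    obtain ⟨c, hc, d, hd, hsum⟩ := Submodule.mem_sup.mp hbE
    change c + d = b at hsum
    -- split `c` into its `P`-component and the rest
    let c'' : FunFld.Place k K → K := fun Q => if Q = P then c P else 0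
    have hc''Q : ∀ Q, Q ≠ P → c'' Q = 0 := fun Q hQP => by simp [c'', hQP]
    have hc''P : c'' P = c P := by simp [c'']
    have hc''ad : c'' ∈ FunFld.adele k K := single_mem_adele P c'' hc''Q
    have hrest : b - c'' ∈ FunFld.adele k K := Submodule.sub_mem _ hb hc''ad
    have h1 : ω ⟨c'', hc''ad⟩ = 0 := by
      apply h c'' hc''ad hc''Q
      rw [hc''P, ← hEP]
      exact hc P
    have h2 : ω ⟨b - c'', hrest⟩ = 0 := by
      apply hωC
      unfold FunFld.ADK
      rw [Submodule.mem_comap]
      change b - c'' ∈ _
      rw [Submodule.mem_sup]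
      refine ⟨c - c'', ?_, d, hd, ?_⟩
      · intro Q
        by_cases hQP : Q = P
        · subst hQP
          change Q.1 (c Q - c'' Q) ≤ _
          rw [hc''P]; simp
        · change Q.1 (c Q - c'' Q) ≤ _
          rw [hc''Q Q hQP, sub_zero, ← hEQ Q hQP]
          exact hc Q
      · rw [← hsum]; abel
    have hsplit : (⟨b, hb⟩ : FunFld.adele k K) = ⟨b - c'', hrest⟩ + ⟨c'', hc''ad⟩ := by
      apply Subtype.ext
      change b = b - c'' + c''
      abel
    rw [hsplit, map_add, h1, h2, add_zero]

end Groth.Agent.S11017
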