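import Groth.Statements.S11020
import Groth.Agent.Lib.helper16.FXDisc

set_option autoImplicit false
open FunFld

namespace Groth.Agent.S11020

/-- In a finite separable extension `K'/K` of function fields of one variable, almost all places `Q` of
`K'` have `e(Q|P) = 1` over the place `P` of `K` below. (The published statement also gives
separability of almost all residue extensions `F_Q/F_P`; only the ramification part is stated here.) -/
theorem result (k K K' : Type*) [Field k] [Field K] [Field K'] [Algebra k K] [Algebra K K'] [Algebra k K']
    [IsScalarTower k K K'] [FiniteDimensional K K'] (hK : FunFld.IsFunctionField k K) [Algebra.IsSeparable K K'] :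
    {Q : FunFld.Place k K' | ¬ Function.Surjective (Q.1.comap (algebraMap K K'))}.Finite := by
  refine (Groth.Agent.Lib.helper16.FX.finite_ramified (K' := K') hK).subset ?_
  intro Q hQ
  obtain ⟨P, e, he⟩ := Groth.Agent.Lib.helper16.FX.exists_isOverWith
    (Groth.Agent.Lib.helper16.FX.isFF1_of_isFunctionField hK) Q
  refine ⟨P, ⟨e, he⟩, ?_⟩
  rw [Groth.Agent.Lib.helper16.FX.ramIdx_eq he]
  rintro rfl
  apply hQ
  intro a
  obtain ⟨x, hx⟩ := P.2.2 a
  refine ⟨x, ?_⟩
  show Q.1 (algebraMap K K' x) = a
  rw [he x, pow_one, hx]

end Groth.Agent.S11020
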