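import Groth.Statements.S11025
import Groth.Agent.Lib.helper16.FFRam

set_option autoImplicit false
open FunFld

namespace Groth.Agent.S11025

/-- For `i ≥ 2` the ramification quotient `G_i/G_{i+1}` embeds in the additive group of the residue
field: it is abelian, trivial in characteristic `0`, and elementary abelian of exponent `p` in
characteristic `p`. (Residue field of `Q` assumed separable over `k`.) -/
theorem result (k K K' : Type*) [Field k] [Field K] [Field K'] [Algebra k K] [Algebra K K'] [Algebra k K']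
    [IsScalarTower k K K'] [FiniteDimensional K K'] (hK : FunFld.IsFunctionField k K) (hg : FunFld.IsGeometric k K) [IsGalois K K'] (Q : FunFld.Place k K') [Algebra.IsSeparable k (IsLocalRing.ResidueField Q.O)]
    (i : ℕ) (hi : 2 ≤ i) (σ τ : K' ≃ₐ[K] K') (hσ : (∀ x : K', Q.1 x ≤ 1 → Q.1 (σ x - x) ≤ WithZero.exp (-(i : ℤ)))) (hτ : (∀ x : K', Q.1 x ≤ 1 → Q.1 (τ x - x) ≤ WithZero.exp (-(i : ℤ)))) :
    (∀ x : K', Q.1 x ≤ 1 → Q.1 ((σ * τ * σ⁻¹ * τ⁻¹) x - x) ≤ WithZero.exp (-((i + 1) : ℤ))) ∧
    (ringChar K = 0 → (∀ x : K', Q.1 x ≤ 1 → Q.1 (σ x - x) ≤ WithZero.exp (-((i + 1) : ℤ)))) ∧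
    ∀ p : ℕ, p.Prime → ringChar K = p → (∀ x : K', Q.1 x ≤ 1 → Q.1 ((σ ^ p) x - x) ≤ WithZero.exp (-((i + 1) : ℤ))) := by
  have hσm : σ ∈ Groth.Agent.Lib.helper16.FF.ramGroup (F := K) Q i := hσ
  have hτm : τ ∈ Groth.Agent.Lib.helper16.FF.ramGroup (F := K) Q i := hτ
  refine ⟨?_, ?_, ?_⟩
  · have h := Groth.Agent.Lib.helper16.FF.commutator_mem_ramGroup_succ Q hi hσm hτm
    intro x hx
    have := h x hx
    exact_mod_cast this
  · intro h0
    have hc0 : CharP K 0 := (ringChar.eq_iff).mp h0
    have hcz : CharZero K := CharP.charP_to_charZero K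
    have hcz' : CharZero K' := charZero_of_injective_algebraMap (algebraMap K K').injective
    have hn : 0 < orderOf σ := orderOf_pos σ
    have hnk : ((orderOf σ : ℕ) : k) ≠ 0 := by
      intro h
      have h1 : ((orderOf σ : ℕ) : K') = 0 := by
        rw [← map_natCast (algebraMap k K'), h, map_zero]
      have h2 : (orderOf σ : ℕ) = 0 := by exact_mod_cast h1
      omega
    have h := Groth.Agent.Lib.helper16.FF.mem_ramGroup_succ_of_pow_eq_one Q hi hσm
      (pow_orderOf_eq_one σ) hnk
    intro x hx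
    have := h x hx
    exact_mod_cast this
  · intro p hp hpK
    have hcp : CharP K p := (ringChar.eq_iff).mp hpK
    have hcp' : CharP K' p := charP_of_injective_algebraMap (algebraMap K K').injective p
    obtain ⟨t, ht⟩ := Groth.Agent.Lib.helper16.FF.exists_uniformizer Q
    have h := Groth.Agent.Lib.helper16.FF.pow_mem_ramGroup_succ Q hi hσm p ht (by
      rw [CharP.cast_eq_zero K' p, zero_mul, map_zero]
      exact zero_le)
    intro x hx
    have := h x hx
    exact_mod_cast this

end Groth.Agent.S11025
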