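import Groth.Statements.S11043
import Mathlib

set_option autoImplicit false

open FunFld

namespace Groth.Agent.S11043

open Polynomial Finset

/-- roots of unity as powers of a primitive root -/
theorem nthRootsFinset_eq_image {m : ℕ} (hm : 0 < m) {η : ℂ} (hη : IsPrimitiveRoot η m) :
    nthRootsFinset m (1 : ℂ) = (range m).image (fun j => η ^ j) := by
  symm
  apply Finset.eq_of_subset_of_card_le
  · intro x hx
    obtain ⟨j, -, rfl⟩ := Finset.mem_image.mp hx
    rw [mem_nthRootsFinset hm, ← pow_mul, mul_comm, pow_mul, hη.pow_eq_one, one_pow]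
  · rw [hη.card_nthRootsFinset, Finset.card_image_of_injOn, card_range]
    intro i hi j hj hij
    exact hη.pow_inj (mem_range.mp hi) (mem_range.mp hj) hij

theorem prod_range_pow_eq {m : ℕ} (hm : 0 < m) {η : ℂ} (hη : IsPrimitiveRoot η m) (T : ℂ) :
    ∏ j ∈ range m, (1 - η ^ j * T) = 1 - T ^ m := by
  have h := hη.pow_sub_pow_eq_prod_sub_mul (1 : ℂ) T hm
  rw [one_pow] at h
  rw [h, nthRootsFinset_eq_image hm hη, Finset.prod_image]
  intro i hi j hj hij
  exact hη.pow_inj (mem_range.mp hi) (mem_range.mp hj) hij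

theorem prod_range_mul_periodic (f : ℕ → ℂ) (m e : ℕ) (hper : ∀ j, f (j + m) = f j) :
    ∏ j ∈ range (m * e), f j = (∏ j ∈ range m, f j) ^ e := by
  have hper' : ∀ q j, f (m * q + j) = f j := by
    intro q
    induction q with
    | zero => intro j; simp
    | succ q ih =>
      intro j
      rw [Nat.mul_succ, add_assoc, add_comm m j, ← add_assoc, hper, ih]
  induction e with
  | zero => simp
  | succ e ih =>
    rw [Nat.mul_succ, prod_range_add, ih, pow_succ]
    congr 1
    exact Finset.prod_congr rfl (fun j _ => hper' e j)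

/-- For positive integers `n`, `d` with `e = gcd(n, d)`, in `ℂ[t]` one has `(1 - t^{nd/e})^e = ∏_{θⁿ =
1} (1 - (θ t)^d)`, the product over the complex `n`-th roots of unity. -/
theorem result (n d : ℕ) (hn : 0 < n) (hd : 0 < d) :
    ((1 : Polynomial ℂ) - Polynomial.X ^ (n * d / Nat.gcd n d)) ^ Nat.gcd n d =
      ∏ θ ∈ Polynomial.nthRootsFinset n (1 : ℂ),
        (1 - Polynomial.C (θ ^ d) * Polynomial.X ^ d) := by
  apply Polynomial.funext
  intro t
  set e := Nat.gcd n d with he
  have he0 : 0 < e := Nat.gcd_pos_of_pos_left d hn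
  obtain ⟨n', hn'⟩ : e ∣ n := Nat.gcd_dvd_left n d
  obtain ⟨d', hd'⟩ : e ∣ d := Nat.gcd_dvd_right n d
  have hn'0 : 0 < n' := by
    rcases Nat.eq_zero_or_pos n' with h | h
    · rw [h, mul_zero] at hn'; omega
    · exact h
  have hcop : Nat.Coprime d' n' := by
    have := Nat.coprime_div_gcd_div_gcd (m := n) (n := d) he0
    rw [← he, hn', hd', Nat.mul_div_cancel_left _ he0, Nat.mul_div_cancel_left _ he0] at this
    exact this.symm
  have hdiv : n * d / e = n' * d := by
    rw [hn', mul_assoc, Nat.mul_div_cancel_left _ he0]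
  obtain ⟨ζ, hζ⟩ : ∃ ζ : ℂ, IsPrimitiveRoot ζ n := ⟨_, Complex.isPrimitiveRoot_exp n hn.ne'⟩
  -- `η = ζ ^ d` is a primitive `n'`-th root of unity
  have hζe : IsPrimitiveRoot (ζ ^ e) n' := hζ.pow hn hn'
  have hη : IsPrimitiveRoot (ζ ^ d) n' := by
    rw [hd', pow_mul]
    exact hζe.pow_of_coprime d' hcop
  simp only [eval_pow, eval_sub, eval_one, eval_X, eval_prod, eval_mul, eval_C]
  rw [nthRootsFinset_eq_image hn hζ, Finset.prod_image]
  · have h1 : ∀ j, (1 - (ζ ^ j) ^ d * t ^ d) = (fun j => 1 - (ζ ^ d) ^ j * t ^ d) j := by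
      intro j
      simp only
      rw [← pow_mul, ← pow_mul, Nat.mul_comm j d]
    rw [Finset.prod_congr rfl (fun j _ => h1 j)]
    have hne : n = n' * e := by rw [hn', mul_comm]
    rw [hdiv, hne, prod_range_mul_periodic _ n' e, prod_range_pow_eq hn'0 hη, ← pow_mul, mul_comm d n']
    intro j
    rw [pow_add, hη.pow_eq_one, mul_one]
  · intro i hi j hj hij
    exact hζ.pow_inj (mem_range.mp hi) (mem_range.mp hj) hij

end Groth.Agent.S11043
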