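import Groth.Statements.S11049
import Mathlib

set_option autoImplicit false

open CAlg

namespace Groth.Agent.S11049

/-- Additivity of codimension along `N ≤ M ≤ V`. -/
theorem finrank_quot_eq_add {k V : Type*} [Field k] [AddCommGroup V] [Module k V]
    (N M : Submodule k V) (h : N ≤ M) [Module.Finite k (V ⧸ N)] :
    Module.finrank k (V ⧸ N) =
      Module.finrank k (V ⧸ M) + Module.finrank k (M ⧸ N.comap M.subtype) := by
  have hsurj : Function.Surjective (Submodule.factor h) := by
    intro y
    obtain ⟨v, rfl⟩ := Submodule.Quotient.mk_surjective _ y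
    exact ⟨Submodule.Quotient.mk v, rfl⟩
  have h1 := LinearMap.finrank_range_add_finrank_ker (Submodule.factor h)
  rw [LinearMap.range_eq_top.mpr hsurj, finrank_top] at h1
  -- identify the kernel
  let g : M →ₗ[k] V ⧸ N := N.mkQ.comp M.subtype
  have hker : LinearMap.ker g = N.comap M.subtype := by
    ext m
    simp [g]
  have hrange : LinearMap.range g = LinearMap.ker (Submodule.factor h) := by
    ext y
    constructor
    · rintro ⟨m, rfl⟩
      rw [LinearMap.mem_ker]
      change (Submodule.Quotient.mk (m : V) : V ⧸ M) = 0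
      rw [Submodule.Quotient.mk_eq_zero]
      exact m.2
    · intro hy
      obtain ⟨v, rfl⟩ := Submodule.Quotient.mk_surjective _ y
      rw [LinearMap.mem_ker] at hy
      change (Submodule.Quotient.mk v : V ⧸ M) = 0 at hy
      rw [Submodule.Quotient.mk_eq_zero] at hy
      exact ⟨⟨v, hy⟩, rfl⟩
  have e := g.quotKerEquivRange
  rw [hker, hrange] at e
  rw [← h1, e.finrank_eq]

/-- For `k`-algebras `S ⊆ R` with `R` an integral domain and a nonzero `x ∈ S`, if `R/S` and `R/Rx` are
finite-dimensional over `k` then `dim_k R/Rx = dim_k S/Sx`. (The published statement allows `x = 0`;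
then `R` is a field finite over `k` and the two sides are `dim_k R` and `dim_k S`, which differ for
`S = k ⊊ R`; the published proof multiplies by `x` as an injection, so `x ≠ 0` is assumed here.) -/
theorem result
    (k R : Type*) [Field k] [CommRing R]
    [IsDomain R] [Algebra k R] (S : Subalgebra k R) (x : S) (hx : (x : R) ≠ 0)
    [Module.Finite k (R ⧸ Subalgebra.toSubmodule S)]
    [Module.Finite k (R ⧸ Ideal.span {(x : R)})] :
    Module.finrank k (R ⧸ Ideal.span {(x : R)}) = Module.finrank k (S ⧸ Ideal.span {x}) := by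
  classical
  let A : Submodule k R := (Ideal.span {(x : R)}).restrictScalars k
  let B : Submodule k R := Subalgebra.toSubmodule S
  let μ : R →ₗ[k] R := LinearMap.mulLeft k (x : R)
  have hμ : ∀ r, μ r = (x : R) * r := fun r => rfl
  have hμinj : Function.Injective μ := fun a b hab => mul_left_cancel₀ hx hab
  let xS : Submodule k R := B.map μ
  have hxSA : xS ≤ A := by
    rintro _ ⟨s, -, rfl⟩
    change (x : R) * s ∈ Ideal.span {(x : R)}
    exact Ideal.mul_mem_right _ _ (Ideal.subset_span rfl)
  have hxSB : xS ≤ B := by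
    rintro _ ⟨s, hs, rfl⟩
    exact S.mul_mem x.2 hs
  have hBcomap : B ≤ xS.comap μ := fun s hs => ⟨s, hs, rfl⟩
  -- the two maps
  let f : (R ⧸ B) →ₗ[k] (R ⧸ xS) := Submodule.mapQ B xS μ hBcomap
  let g : (R ⧸ xS) →ₗ[k] (R ⧸ A) := Submodule.factor hxSA
  have hfinj : Function.Injective f := by
    rw [← LinearMap.ker_eq_bot, LinearMap.ker_eq_bot']
    intro y hy
    obtain ⟨r, rfl⟩ := Submodule.Quotient.mk_surjective _ y
    change (Submodule.Quotient.mk (μ r) : R ⧸ xS) = 0 at hy
    rw [Submodule.Quotient.mk_eq_zero] at hy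
    obtain ⟨s, hs, hsr⟩ := hy
    rw [Submodule.Quotient.mk_eq_zero, ← hμinj hsr]
    exact hs
  have hgsurj : Function.Surjective g := by
    intro y
    obtain ⟨v, rfl⟩ := Submodule.Quotient.mk_surjective _ y
    exact ⟨Submodule.Quotient.mk v, rfl⟩
  have hexact : Function.Exact f g := by
    rw [LinearMap.exact_iff]
    ext y
    constructor
    · intro hy
      obtain ⟨v, rfl⟩ := Submodule.Quotient.mk_surjective _ y
      rw [LinearMap.mem_ker] at hy
      change (Submodule.Quotient.mk v : R ⧸ A) = 0 at hy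
      rw [Submodule.Quotient.mk_eq_zero] at hy
      obtain ⟨r, hr⟩ := Ideal.mem_span_singleton'.mp hy
      refine ⟨Submodule.Quotient.mk r, ?_⟩
      change (Submodule.Quotient.mk (μ r) : R ⧸ xS) = _
      rw [hμ, mul_comm, hr]
    · rintro ⟨z, rfl⟩
      obtain ⟨r, rfl⟩ := Submodule.Quotient.mk_surjective _ z
      rw [LinearMap.mem_ker]
      change (Submodule.Quotient.mk (μ r) : R ⧸ A) = 0
      rw [Submodule.Quotient.mk_eq_zero, hμ]
      change (x : R) * r ∈ Ideal.span {(x : R)}
      exact Ideal.mul_mem_right _ _ (Ideal.subset_span rfl)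
  have hfinA : Module.Finite k (R ⧸ A) :=
    Module.Finite.equiv (Submodule.Quotient.restrictScalarsEquiv k (Ideal.span {(x : R)})).symm
  have hfin : Module.Finite k (R ⧸ xS) := Module.Finite.of_exact hexact hgsurj
  -- first count
  have h1 := LinearMap.finrank_range_add_finrank_ker g
  rw [LinearMap.range_eq_top.mpr hgsurj, finrank_top, (LinearMap.exact_iff.mp hexact),
    LinearMap.finrank_range_of_inj hfinj] at h1
  -- second count
  have h2 := finrank_quot_eq_add xS B hxSB
  -- identify
  let I : Ideal S := Ideal.span {x}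
  have hmap : (xS.comap B.subtype).map (Subalgebra.toSubmoduleEquiv S : B →ₗ[k] S) =
      I.restrictScalars k := by
    ext s
    constructor
    · rintro ⟨b, hb, rfl⟩
      obtain ⟨s', hs', hs'b⟩ := hb
      change (Subalgebra.toSubmoduleEquiv S b) ∈ I
      rw [Ideal.mem_span_singleton']
      refine ⟨⟨s', hs'⟩, ?_⟩
      apply Subtype.ext
      change s' * (x : R) = (b : R)
      rw [mul_comm]
      exact hs'b
    · intro hs
      obtain ⟨a, ha⟩ := Ideal.mem_span_singleton'.mp (show s ∈ I from hs)
      refine ⟨(Subalgebra.toSubmoduleEquiv S).symm s, ?_, by simp⟩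
      refine ⟨(a : R), a.2, ?_⟩
      change (x : R) * (a : R) = (s : R)
      rw [← ha, mul_comm]
      rfl
  have e3 : (B ⧸ xS.comap B.subtype) ≃ₗ[k] (S ⧸ I) :=
    (Submodule.Quotient.equiv _ _ (Subalgebra.toSubmoduleEquiv S) hmap).trans
      (Submodule.Quotient.restrictScalarsEquiv k I)
  have e4 : (R ⧸ A) ≃ₗ[k] (R ⧸ Ideal.span {(x : R)}) :=
    Submodule.Quotient.restrictScalarsEquiv k (Ideal.span {(x : R)})
  rw [← e4.finrank_eq, ← e3.finrank_eq]
  omega

end Groth.Agent.S11049
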