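import Groth.Statements.S11057
import Groth.Agent.Lib.helper16.FFNS

set_option autoImplicit false
open FunFld

namespace Groth.Agent.S11057

/-- Over an algebraically closed constant field, if `K` has degree at least `3` over every subfield
`k(x)` generated by a nonconstant element, then the canonical map (given by a basis of `L(D)` for a
canonical divisor `D`) is an embedding, i.e. nonsingular at every place. Here a projective map is
nonsingular at a place when its local ring there (quotients of polynomials over `k` in the ratios
`φᵢ/φⱼ`, `φⱼ` of least order at the place, with denominator a unit there) is the whole valuation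
ring. -/
theorem result
    (k K : Type*) [Field k] [IsAlgClosed k] [Field K] [Algebra k K]
    (hK : FunFld.IsFunctionField k K)
    (h2 : ∀ x : K, Transcendental k x →
      2 < Module.finrank (IntermediateField.adjoin k ({x} : Set K)) K)
    (D : FunFld.Divisor k K) (hD : FunFld.IsCanonical k K D) {n : ℕ} (φ : Fin (n + 1) → K)
    (hφ : LinearIndependent k φ) (hspan : Submodule.span k (Set.range φ) = FunFld.L D)
    (P : FunFld.Place k K) : FunFld.IsNonsingularAt φ P := by
  open Groth.Agent.Lib.helper16.FF in
  have hdeg : ∀ R : Place k K, R.deg = 1 := fun R => deg_eq_one_of_isAlgClosed hK R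
  obtain ⟨hC1, hC2⟩ := isCanonical_ell_deg hK hD
  have hfd := finiteDimensional_L hK D
  -- the genus is positive
  have hg : 0 < FunFld.genus k K := by
    rw [← hC1]
    unfold FunFld.ell
    apply Module.finrank_pos_iff_exists_ne_zero.mpr
    have h0 : φ 0 ∈ FunFld.L D := by
      rw [← hspan]; exact Submodule.subset_span (Set.mem_range_self 0)
    exact ⟨⟨φ 0, h0⟩, fun h => hφ.ne_zero 0 (congrArg Subtype.val h)⟩
  -- no function of degree at most two
  have hell2 : ∀ Q Q' : FunFld.Place k K,
      FunFld.ell (Finsupp.single Q (1 : ℤ) + Finsupp.single Q' (1 : ℤ) : FunFld.Divisor k K) ≤ 1 := by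
    intro Q Q'
    by_contra hcon
    rw [not_le] at hcon
    have hfd2 := finiteDimensional_L hK
      (Finsupp.single Q (1 : ℤ) + Finsupp.single Q' (1 : ℤ) : FunFld.Divisor k K)
    have hex : ∃ x ∈ FunFld.L (Finsupp.single Q (1 : ℤ) + Finsupp.single Q' (1 : ℤ) :
        FunFld.Divisor k K), x ∉ Set.range (algebraMap k K) := by
      by_contra hall
      push Not at hall
      have hle : FunFld.L (Finsupp.single Q (1 : ℤ) + Finsupp.single Q' (1 : ℤ) :
          FunFld.Divisor k K) ≤ FunFld.L (0 : FunFld.Divisor k K) := by
        intro x hx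
        rw [L_zero_eq_one hK, Submodule.mem_one]
        exact hall x hx
      have := finiteDimensional_L hK (0 : FunFld.Divisor k K)
      have h1 := Submodule.finrank_mono hle
      have h3 := ell_zero (k := k) (K := K) hK
      unfold FunFld.ell at hcon h3
      omega
    obtain ⟨x, hx, hxnc⟩ := hex
    have hx0 : x ≠ 0 := by
      rintro rfl
      exact hxnc ⟨0, map_zero _⟩
    have hle : poleDiv k x ≤ Finsupp.single Q (1 : ℤ) + Finsupp.single Q' (1 : ℤ) := by
      intro R
      rw [poleDiv_apply hK]
      have h1 := hx R
      rw [val_le_exp_iff R hx0] at h1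
      have h2 : (0 : ℤ) ≤ (Finsupp.single Q (1 : ℤ) + Finsupp.single Q' (1 : ℤ) :
          FunFld.Divisor k K) R := by
        rw [Finsupp.add_apply]
        exact add_nonneg (Finsupp.single_nonneg.mpr zero_le_one R)
          (Finsupp.single_nonneg.mpr zero_le_one R)
      exact max_le (by omega) h2
    have h3 := deg_mono hle
    rw [deg_poleDiv_eq hK hxnc, deg_add, deg_single, deg_single, hdeg, hdeg] at h3
    have h4 := h2 x (transcendental_of_not_mem_range hK hxnc)
    have h5 : Module.finrank (IntermediateField.adjoin k ({x} : Set K)) K ≤ 2 := by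
      norm_num at h3
      exact h3
    omega
  apply isNonsingularAt_of_very_ample hK (D := D) _ _ φ hspan P
  · intro Q
    exact ell_sub_single_lt hK hg (Or.inr hD) (hdeg Q)
  · intro Q Q'
    have r1 := riemann_roch hK hD (D - Finsupp.single Q (1 : ℤ))
    have r2 := riemann_roch hK hD (D - Finsupp.single Q (1 : ℤ) - Finsupp.single Q' (1 : ℤ))
    have e1 : D - (D - Finsupp.single Q (1 : ℤ)) = Finsupp.single Q (1 : ℤ) := by abel
    have e2 : D - (D - Finsupp.single Q (1 : ℤ) - Finsupp.single Q' (1 : ℤ)) =
        Finsupp.single Q (1 : ℤ) + Finsupp.single Q' (1 : ℤ) := by abel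
    rw [e1, ell_single_eq_one hK hg (hdeg Q), deg_sub, deg_single, hdeg, hC2] at r1
    rw [e2, deg_sub, deg_sub, deg_single, deg_single, hdeg, hdeg, hC2] at r2
    have h3 := hell2 Q Q'
    have : (FunFld.ell (D - Finsupp.single Q (1 : ℤ) - Finsupp.single Q' (1 : ℤ)) : ℤ) <
        FunFld.ell (D - Finsupp.single Q (1 : ℤ)) := by
      push_cast at r1 r2
      have h3' : (FunFld.ell (Finsupp.single Q (1 : ℤ) + Finsupp.single Q' (1 : ℤ) :
        FunFld.Divisor k K) : ℤ) ≤ 1 := by exact_mod_cast h3
      linarith
    exact_mod_cast this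

end Groth.Agent.S11057
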