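import Groth.Statements.S11064


set_option autoImplicit false
open FunFld

namespace Groth.Agent.S11064

/-- Over an algebraically closed constant field, a projective map `φ = (φ₀, …, φₙ)` that is nonsingular
at some place is birational, i.e. the ratios `φᵢ/φ₀` generate `K` over `k`. Here the local ring of a
projective map at a place consists of the quotients of polynomials over `k` in the ratios `φᵢ/φⱼ`,
`φⱼ` of least order at the place, with denominator a unit there; the map is nonsingular at the place
when this ring is the whole valuation ring. -/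
theorem result
    (k K : Type*) [Field k] [IsAlgClosed k] [Field K] [Algebra k K]
    (hK : FunFld.IsFunctionField k K) {n : ℕ} (φ : Fin (n + 1) → K)
    (h0 : φ 0 ≠ 0) (P : FunFld.Place k K) (h : FunFld.IsNonsingularAt φ P) :
    IntermediateField.adjoin k (Set.range fun i => φ i / φ 0) = ⊤ := by
  rw [eq_top_iff]
  intro z _
  set F := IntermediateField.adjoin k (Set.range fun i => φ i / φ 0) with hF
  have hratio : ∀ i j, φ i / φ j ∈ F := by
    intro i j
    have hi : φ i / φ 0 ∈ F := IntermediateField.subset_adjoin k _ ⟨i, rfl⟩
    have hj : φ j / φ 0 ∈ F := IntermediateField.subset_adjoin k _ ⟨j, rfl⟩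
    have : φ i / φ j = (φ i / φ 0) / (φ j / φ 0) := by
      by_cases hj0 : φ j = 0
      · simp [hj0]
      · field_simp
    rw [this]
    exact F.div_mem hi hj
  have hint : ∀ y : K, P.1 y ≤ 1 → y ∈ F := by
    intro y hy
    obtain ⟨j, hj0, -, u, hu, w, hw, hw1, hzw⟩ := h y hy
    have hle : Algebra.adjoin k (Set.range fun i => φ i / φ j) ≤ F.toSubalgebra := by
      apply Algebra.adjoin_le
      rintro _ ⟨i, rfl⟩
      exact hratio i j
    have hw0 : w ≠ 0 := by
      rintro rfl
      rw [map_zero] at hw1
      exact zero_ne_one hw1
    have : y = u / w := by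
      rw [← hzw]
      field_simp
    rw [this]
    exact F.div_mem (hle hu) (hle hw)
  by_cases hz : P.1 z ≤ 1
  · exact hint z hz
  · have hz0 : z ≠ 0 := by
      rintro rfl
      exact hz (by rw [map_zero]; exact zero_le_one)
    have h1 : P.1 z⁻¹ ≤ 1 := by
      rw [map_inv₀]
      have : 1 < P.1 z := not_le.mp hz
      exact (inv_le_one₀ (lt_trans zero_lt_one this)).mpr this.le
    have := F.inv_mem (hint z⁻¹ h1)
    rwa [inv_inv] at this

end Groth.Agent.S11064
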