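import Groth.Statements.S11065
import Groth.Agent.Lib.helper16.FFNS

set_option autoImplicit false
open FunFld

namespace Groth.Agent.S11065

/-- Over an algebraically closed constant field, a projective map `φ = (φ₀, …, φₙ)`, `n ≥ 1`, is
nonsingular at the place `P` if and only if its local ring at `P` lies in the valuation ring of no
place other than `P` and contains a local parameter at `P`. Here the local ring of a projective map
at a place consists of the quotients of polynomials over `k` in the ratios `φᵢ/φⱼ`, `φⱼ` of least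
order at the place, with denominator a unit there; the map is nonsingular at the place when this
ring is the whole valuation ring. (The published statement is for any projective map; the published
proof uses the finiteness property of the local ring that is established for birational maps, so `φ`
is taken birational here: the ratios `φᵢ/φ₀` generate `K` over `k`.) -/
theorem result
    (k K : Type*) [Field k] [IsAlgClosed k] [Field K] [Algebra k K]
    (hK : FunFld.IsFunctionField k K) {n : ℕ} (hn : 1 ≤ n)
    (φ : Fin (n + 1) → K) (hφ : LinearIndependent k φ)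
    (hbir : IntermediateField.adjoin k (Set.range fun i => φ i / φ 0) = ⊤) (P : FunFld.Place k K) :
    FunFld.IsNonsingularAt φ P ↔
      (∀ Q : FunFld.Place k K, (∀ z : K, FunFld.InLocRing φ P z → Q.1 z ≤ 1) → Q = P) ∧
        ∃ t : K, FunFld.InLocRing φ P t ∧ P.1 t = WithZero.exp (-1) := by
  open Groth.Agent.Lib.helper16.FF in
  have hφ0 : ∀ i, φ i ≠ 0 := fun i => hφ.ne_zero i
  obtain ⟨j, hmax⟩ := exists_max_val φ P
  constructor
  · intro hns
    refine ⟨fun Q hQ => ?_, ?_⟩
    · exact (eq_of_valuationRing_le P Q fun y hy => hQ y (hns y hy)).symm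
    · obtain ⟨t, ht⟩ := exists_uniformizer P
      refine ⟨t, hns t ?_, ht⟩
      rw [ht, ← WithZero.exp_zero, WithZero.exp_le_exp]
      norm_num
  · rintro ⟨ha, t, htloc, ht⟩
    have key := inLoc_of_sep_of_tan hK (fun i => φ i / φ j) P
      (fun i => by
        rw [map_div₀]
        exact div_le_one_of_le₀ (hmax i) zero_le)
      (fun z => bir_chart φ 0 j (hφ0 0) (hφ0 j) hbir z) ?_ ?_
    · intro z hz
      obtain ⟨u, hu, w, hw, hw1, hzw⟩ := key z hz
      exact ⟨j, hφ0 j, hmax, u, hu, w, hw, hw1, hzw⟩
    · intro Q hQP hQint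
      have hnot : ¬ ∀ z : K, FunFld.InLocRing φ P z → Q.1 z ≤ 1 := fun h => hQP (ha Q h)
      push Not at hnot
      obtain ⟨z, hzloc, hz⟩ := hnot
      obtain ⟨u, hu, w, hw, hw1, hzw⟩ := inLoc_of_inLocRing φ P j (hφ0 j) hmax hzloc
      refine ⟨w, hw, ?_, hw1⟩
      have hu1 : Q.1 u ≤ 1 := val_le_one_of_mem_adjoin _ Q hQint hu
      by_contra hw2
      rw [not_lt] at hw2
      have hw3 : Q.1 w = 1 := le_antisymm (val_le_one_of_mem_adjoin _ Q hQint hw) hw2
      rw [← hzw, map_mul, hw3, mul_one] at hu1
      exact absurd hu1 (not_le.mpr hz)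
    · obtain ⟨u, hu, w, hw, hw1, htw⟩ := inLoc_of_inLocRing φ P j (hφ0 j) hmax htloc
      refine ⟨u, hu, ?_⟩
      rw [← htw, map_mul, hw1, mul_one, ht]

end Groth.Agent.S11065
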