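import Groth.Statements.S11066
import Groth.Agent.Lib.helper16.FFLoc

set_option autoImplicit false
open FunFld

namespace Groth.Agent.S11066

/-- Over an algebraically closed constant field, for an effective projective map `φ` normalized at the
place `P` (`1` in the span of the entries, all entries integral at `P`), the local ring of `φ` at
`P` has an element of order one at `P` (a local parameter) exactly when the span of the entries has
one. The local ring consists of the quotients of polynomials over `k` in the ratios `φᵢ/φⱼ`, `φⱼ` of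
least order at `P`, with denominator a unit at `P`. -/
theorem result
    (k K : Type*) [Field k] [IsAlgClosed k] [Field K] [Algebra k K]
    (hK : FunFld.IsFunctionField k K) {n : ℕ} (φ : Fin (n + 1) → K)
    (P : FunFld.Place k K) (heff : (1 : K) ∈ Submodule.span k (Set.range φ))
    (hnorm : ∀ i, P.1 (φ i) ≤ 1) :
    (∃ t : K, FunFld.InLocRing φ P t ∧ P.1 t = WithZero.exp (-1)) ↔
      ∃ t ∈ Submodule.span k (Set.range φ), P.1 t = WithZero.exp (-1) := by
  open Groth.Agent.Lib.helper16.FF in
  classical
  obtain ⟨j₀, hj₀⟩ := exists_val_eq_one_of_one_mem_span P φ heff hnorm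
  obtain ⟨a, ha⟩ := (Submodule.mem_span_range_iff_exists_fun k).mp heff
  constructor
  · rintro ⟨t, ⟨j, hj0, hmin, u, hu, w, hw, hw1, htw⟩, ht⟩
    have hvj : P.1 (φ j) = 1 := le_antisymm (hnorm j) (hj₀.symm.le.trans (hmin j₀))
    have hvu : P.1 u = WithZero.exp (-1) := by
      rw [← htw, map_mul, hw1, mul_one, ht]
    -- some ratio is not of second order
    have hex : ∃ i, φ i / φ j ∉ secondOrder P := by
      by_contra hall
      push Not at hall
      have hle : Algebra.adjoin k (Set.range fun i => φ i / φ j) ≤ secondOrder P := by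
        apply Algebra.adjoin_le
        rintro _ ⟨i, rfl⟩
        exact hall i
      exact val_ne_of_mem_secondOrder (hle hu) hvu
    obtain ⟨i, hi⟩ := hex
    have hxi : P.1 (φ i / φ j) ≤ 1 := by
      rw [map_div₀, hvj, div_one]
      exact hnorm i
    obtain ⟨c, hc⟩ := exists_sub_val_eq_of_not_mem_secondOrder hK hxi hi
    refine ⟨φ i - c • φ j, ?_, ?_⟩
    · exact Submodule.sub_mem _ (Submodule.subset_span ⟨i, rfl⟩)
        (Submodule.smul_mem _ _ (Submodule.subset_span ⟨j, rfl⟩))
    · have e : φ i - c • φ j = (φ i / φ j - algebraMap k K c) * φ j := by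
        rw [Algebra.smul_def]
        field_simp
      rw [e, map_mul, hc, hvj, mul_one]
  · rintro ⟨t, ht, hvt⟩
    obtain ⟨c, hc⟩ := (Submodule.mem_span_range_iff_exists_fun k).mp ht
    have hj0 : φ j₀ ≠ 0 := by
      intro h
      rw [h, map_zero] at hj₀
      exact zero_ne_one hj₀
    refine ⟨t, ⟨j₀, hj0, fun i => (hnorm i).trans hj₀.symm.le, t / φ j₀, ?_, 1 / φ j₀, ?_, ?_, ?_⟩, hvt⟩
    · rw [← hc, Finset.sum_div]
      refine Subalgebra.sum_mem _ fun i _ => ?_
      rw [smul_div_assoc]
      exact Subalgebra.smul_mem _ (Algebra.subset_adjoin (Set.mem_range_self i)) _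
    · rw [← ha, Finset.sum_div]
      refine Subalgebra.sum_mem _ fun i _ => ?_
      rw [smul_div_assoc]
      exact Subalgebra.smul_mem _ (Algebra.subset_adjoin (Set.mem_range_self i)) _
    · rw [map_div₀, map_one, hj₀, div_one]
    · field_simp

end Groth.Agent.S11066
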