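import Groth.Statements.S11079
import Mathlib

set_option autoImplicit false
universe u
open CAlg

namespace Groth.Agent.S11079

open Matrix

/-- Dedekind independence for the automorphisms of `L` over `K`. -/
theorem dedekind (K L : Type u) [Field K] [Field L] [Algebra K L] [Fintype (L ≃ₐ[K] L)]
    (g : (L ≃ₐ[K] L) → L) (hg : ∀ c : L, ∑ σ, g σ * σ c = 0) : ∀ σ, g σ = 0 := by
  have hli : LinearIndependent L (fun σ : L ≃ₐ[K] L => ((σ : L →ₐ[K] L) : L → L)) := by
    have h1 := linearIndependent_monoidHom L L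
    have h2 := h1.comp (fun σ : L ≃ₐ[K] L => (((σ : L →ₐ[K] L) : L →+* L) : L →* L)) (by
      intro σ τ h
      ext x
      exact DFunLike.congr_fun h x)
    exact h2
  refine Fintype.linearIndependent_iff.mp hli g ?_
  funext c
  simpa using hg c

/-- Let L/K be a finite Galois extension of fields, n a natural number, and B a map from the Galois
group of L over K to the invertible n × n matrices over L such that B(σ) · σ(B(τ)) = B(στ) for all
σ, τ, where σ acts on matrices entrywise and στ is the automorphism applying τ first. Then there is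
an invertible matrix A over L with B(σ) = A⁻¹ · σ(A) for every σ; that is, every 1-cocycle of the
Galois group with values in GL_n(L) is a coboundary. -/
theorem result (K L : Type u) [Field K] [Field L]
    [Algebra K L] [FiniteDimensional K L] [IsGalois K L] (n : ℕ)
    (B : (L ≃ₐ[K] L) → GL (Fin n) L)
    (hB : ∀ σ τ : L ≃ₐ[K] L,
      (B σ : Matrix (Fin n) (Fin n) L) * (B τ : Matrix (Fin n) (Fin n) L).map σ = (B (σ * τ) : Matrix (Fin n) (Fin n) L)) :
    ∃ A : GL (Fin n) L, ∀ σ : L ≃ₐ[K] L,
      (B σ : Matrix (Fin n) (Fin n) L) = ((A⁻¹ : GL (Fin n) L) : Matrix (Fin n) (Fin n) L) * (A : Matrix (Fin n) (Fin n) L).map σ := by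
  classical
  have : Fintype (L ≃ₐ[K] L) := Fintype.ofFinite _
  -- the averaging operator
  let P : Matrix (Fin n) (Fin n) L → Matrix (Fin n) (Fin n) L :=
    fun C => ∑ σ : L ≃ₐ[K] L, (B σ : Matrix (Fin n) (Fin n) L) * C.map σ
  have hP : ∀ (C : Matrix (Fin n) (Fin n) L) (τ : L ≃ₐ[K] L),
      (B τ : Matrix (Fin n) (Fin n) L) * (P C).map τ = P C := by
    intro C τ
    have h1 : (P C).map τ = ∑ σ : L ≃ₐ[K] L,
        (B σ : Matrix (Fin n) (Fin n) L).map τ * C.map (τ * σ) := by
      have : (P C).map τ = (τ : L →+* L).mapMatrix (P C) := rfl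
      rw [this, map_sum]
      refine Finset.sum_congr rfl fun σ _ => ?_
      rw [map_mul]
      rfl
    rw [h1, Finset.mul_sum]
    have h2 : ∀ σ : L ≃ₐ[K] L, (B τ : Matrix (Fin n) (Fin n) L) *
        ((B σ : Matrix (Fin n) (Fin n) L).map τ * C.map (τ * σ)) =
        (B (τ * σ) : Matrix (Fin n) (Fin n) L) * C.map (τ * σ) := by
      intro σ
      rw [← Matrix.mul_assoc, hB]
    rw [Finset.sum_congr rfl fun σ _ => h2 σ]
    exact Fintype.sum_equiv (Equiv.mulLeft τ) _ _ fun σ => rfl
  -- columns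
  let b : (Fin n → L) → (Fin n → L) :=
    fun x i => ∑ σ : L ≃ₐ[K] L, ∑ l, (B σ : Matrix (Fin n) (Fin n) L) i l * σ (x l)
  have hPb : ∀ (C : Matrix (Fin n) (Fin n) L) i j, P C i j = b (fun l => C l j) i := by
    intro C i j
    simp only [P, b, Matrix.sum_apply, Matrix.mul_apply, Matrix.map_apply]
  have hspan : Submodule.span L (Set.range b) = ⊤ := by
    by_contra hne
    obtain ⟨u, hu0, hule⟩ := Submodule.exists_le_ker_of_lt_top _ (lt_top_iff_ne_top.mpr hne)
    apply hu0
    have hub : ∀ x, u (b x) = 0 := fun x =>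
      LinearMap.mem_ker.mp (hule (Submodule.subset_span ⟨x, rfl⟩))
    let w : Fin n → L := fun i => u (Pi.single i 1)
    have hu : ∀ v : Fin n → L, u v = ∑ i, v i * w i := by
      intro v
      have := LinearMap.pi_apply_eq_sum_univ u v
      rw [this]
      refine Finset.sum_congr rfl fun i _ => ?_
      rw [smul_eq_mul]
      congr 2
      funext j
      simp [Pi.single_apply, eq_comm]
    have hw : ∀ (σ : L ≃ₐ[K] L) (j : Fin n),
        ∑ i, w i * (B σ : Matrix (Fin n) (Fin n) L) i j = 0 := by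
      intro σ j
      refine dedekind K L (fun σ => ∑ i, w i * (B σ : Matrix (Fin n) (Fin n) L) i j) ?_ σ
      intro c
      have h1 := hub (Pi.single j c)
      rw [hu] at h1
      rw [← h1]
      simp only [b, Pi.single_apply, apply_ite, map_zero, mul_ite, mul_zero, Finset.sum_ite_eq',
        Finset.mem_univ, if_true, Finset.sum_mul]
      rw [Finset.sum_comm]
      refine Finset.sum_congr rfl fun i _ => Finset.sum_congr rfl fun σ _ => ?_
      ring
    have hw0 : w = 0 := by
      have h1 : w ᵥ* (B 1 : Matrix (Fin n) (Fin n) L) = 0 := by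
        funext j
        exact hw 1 j
      have h2 : w ᵥ* ((B 1 : Matrix (Fin n) (Fin n) L) * (((B 1)⁻¹ : GL (Fin n) L) : Matrix (Fin n) (Fin n) L)) = w := by
        rw [← Units.val_mul, mul_inv_cancel, Units.val_one, Matrix.vecMul_one]
      rw [← h2, ← Matrix.vecMul_vecMul, h1, Matrix.zero_vecMul]
    refine LinearMap.ext fun v => ?_
    rw [hu, hw0]
    simp
  -- choose n spanning columns
  have key : ∃ (d : ℕ) (_ : d = n) (f : Fin d → Fin n → L),
      (∀ i, f i ∈ Set.range b) ∧ Submodule.span L (Set.range f) = ⊤ := by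
    obtain ⟨f, hfs, hfspan, -⟩ := Submodule.exists_fun_fin_finrank_span_eq L (Set.range b)
    have hd : Module.finrank L (Submodule.span L (Set.range b)) = n := by
      rw [hspan, finrank_top, Module.finrank_fin_fun]
    exact ⟨_, hd, f, hfs, hfspan.trans hspan⟩
  obtain ⟨d, rfl, f, hfs, hfspan⟩ := key
  choose x hx using hfs
  let C : Matrix (Fin d) (Fin d) L := Matrix.of fun l j => x j l
  have hcol : ∀ j, (fun i => P C i j) = f j := by
    intro j
    funext i
    rw [hPb]
    exact congrFun (hx j) i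
  have hunit : IsUnit (P C) := by
    rw [← Matrix.mulVec_surjective_iff_isUnit]
    intro v
    have hv : v ∈ Submodule.span L (Set.range f) := by rw [hfspan]; trivial
    obtain ⟨c, hc⟩ := (Submodule.mem_span_range_iff_exists_fun L).mp hv
    refine ⟨c, ?_⟩
    rw [← hc]
    funext i
    simp only [Matrix.mulVec, dotProduct, Finset.sum_apply, Pi.smul_apply, smul_eq_mul]
    refine Finset.sum_congr rfl fun j _ => ?_
    rw [← hcol j, mul_comm]
  obtain ⟨A₀, hA₀⟩ := hunit
  refine ⟨A₀⁻¹, fun σ => ?_⟩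
  rw [inv_inv]
  have h1 := hP C σ
  rw [← hA₀] at h1
  have h2 : (A₀ : Matrix (Fin d) (Fin d) L).map σ * ((A₀⁻¹ : GL (Fin d) L) : Matrix (Fin d) (Fin d) L).map σ = 1 := by
    have : ((A₀ : Matrix (Fin d) (Fin d) L) * ((A₀⁻¹ : GL (Fin d) L) : Matrix (Fin d) (Fin d) L)).map σ = 1 := by
      rw [← Units.val_mul, mul_inv_cancel, Units.val_one]
      exact (σ : L →+* L).mapMatrix.map_one
    rw [← this]
    exact ((σ : L →+* L).mapMatrix.map_mul _ _).symm
  calc (B σ : Matrix (Fin d) (Fin d) L)
      = (B σ : Matrix (Fin d) (Fin d) L) * ((A₀ : Matrix (Fin d) (Fin d) L).map σ *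
          ((A₀⁻¹ : GL (Fin d) L) : Matrix (Fin d) (Fin d) L).map σ) := by rw [h2, Matrix.mul_one]
    _ = (A₀ : Matrix (Fin d) (Fin d) L) * ((A₀⁻¹ : GL (Fin d) L) : Matrix (Fin d) (Fin d) L).map σ := by
        rw [← Matrix.mul_assoc, h1]

end Groth.Agent.S11079
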