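import Groth.Statements.S11080
import Mathlib

set_option autoImplicit false
universe u
open CAlg

namespace Groth.Agent.S11080

/-- Valuation rings over a curve: let A be a Dedekind domain with fraction field K. A valuation subring
O of K contains A and is different from K if and only if O is the valuation ring of the v-adic
valuation of K at some nonzero prime v of A (equivalently O is the local ring of A at a maximal
ideal, a discrete valuation ring). (The published statement takes A to be the coordinate ring of a
nonsingular affine curve over an algebraically closed field, which is such a Dedekind domain; its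
proof uses only that the local rings of A at nonzero primes are discrete valuation rings and that
nonzero primes are maximal.) -/
theorem result (A K : Type u) [CommRing A]
    [IsDedekindDomain A] [Field K] [Algebra A K] [IsFractionRing A K] (O : ValuationSubring K) :
    ((algebraMap A K).range ≤ O.toSubring ∧ O ≠ ⊤) ↔
      ∃ v : IsDedekindDomain.HeightOneSpectrum A, O = (v.valuation K).valuationSubring := by
  constructor
  · rintro ⟨hA, hO⟩
    let φ : A →+* O := (algebraMap A K).codRestrict O (fun a => hA ⟨a, rfl⟩)
    have hφ : ∀ a, ((φ a : O) : K) = algebraMap A K a := fun a => rfl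
    let p : Ideal A := (IsLocalRing.maximalIdeal O).comap φ
    have hp : p.IsPrime := Ideal.comap_isPrime φ _
    have hunit : ∀ d : A, d ∉ p → (algebraMap A K d)⁻¹ ∈ O := by
      intro d hd
      have h1 : IsUnit (φ d) := by
        rw [← IsLocalRing.notMem_maximalIdeal]
        exact hd
      obtain ⟨u, hu⟩ := h1.exists_right_inv
      have h2 : algebraMap A K d * (u : K) = 1 := by
        have := congrArg (fun z : O => (z : K)) hu
        simpa [hφ] using this
      have h3 : (algebraMap A K d)⁻¹ = (u : K) := inv_eq_of_mul_eq_one_right h2
      rw [h3]; exact u.2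
    have hpbot : p ≠ ⊥ := by
      intro hbot
      apply hO
      rw [eq_top_iff]
      intro x _
      obtain ⟨a, b, hb, rfl⟩ := IsFractionRing.div_surjective (A := A) x
      have hb0 : b ≠ 0 := nonZeroDivisors.ne_zero hb
      have hbp : b ∉ p := by rw [hbot]; simpa using hb0
      have := hunit b hbp
      rw [div_eq_mul_inv]
      exact O.mul_mem _ _ (hA ⟨a, rfl⟩) this
    let v : IsDedekindDomain.HeightOneSpectrum A := ⟨p, hp, hpbot⟩
    refine ⟨v, ?_⟩
    have hle : (v.valuation K).valuationSubring ≤ O := by
      intro x hx
      obtain ⟨n, d, hnd⟩ := v.exists_primeCompl_mul_eq_of_integer x hx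
      have hd : (d : A) ∉ p := d.2
      have hd0 : algebraMap A K d ≠ 0 := by
        intro h0
        have : (d : A) = 0 := (IsFractionRing.injective A K) (by rw [h0, map_zero])
        exact hd (by rw [this]; exact p.zero_mem)
      have hx' : x = algebraMap A K n * (algebraMap A K d)⁻¹ := by
        rw [← hnd, mul_assoc, mul_inv_cancel₀ hd0, mul_one]
      rw [hx']
      exact O.mul_mem _ _ (hA ⟨n, rfl⟩) (hunit d hd)
    have h1 : IsDedekindDomain.HeightOneSpectrum.valuationSubringAtPrime K v ≤ O := by
      rw [IsDedekindDomain.HeightOneSpectrum.valuationSubringAtPrime_eq_valuationSubring]; exact hle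
    have h2 := ValuationSubring.eq_of_le_of_ne_top _ h1 hO
    rw [← h2, IsDedekindDomain.HeightOneSpectrum.valuationSubringAtPrime_eq_valuationSubring]
  · rintro ⟨v, rfl⟩
    refine ⟨?_, ?_⟩
    · rintro _ ⟨a, rfl⟩
      exact v.valuation_le_one a
    · simp only [ne_eq, Valuation.valuationSubring_eq_top_iff, not_not]; infer_instance

end Groth.Agent.S11080
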