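import Groth.Statements.S11081
import Mathlib

set_option autoImplicit false
universe u
attribute [local instance] FractionRing.liftAlgebra
open CAlg

namespace Groth.Agent.S11081

section Helpers

theorem trace_add {k V V' : Type*} [Field k] [AddCommGroup V] [Module k V] [FiniteDimensional k V]
    [AddCommGroup V'] [Module k V'] (π : V →ₗ[k] V') (hπ : Function.Surjective π)
    (f : V →ₗ[k] V) (f' : V' →ₗ[k] V') (h : π ∘ₗ f = f' ∘ₗ π)
    (hk : ∀ x ∈ LinearMap.ker π, f x ∈ LinearMap.ker π) :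
    LinearMap.trace k V f =
      LinearMap.trace k (LinearMap.ker π) (f.restrict hk) + LinearMap.trace k V' f' := by
  haveI : FiniteDimensional k V' := Module.Finite.of_surjective π hπ
  obtain ⟨s, hs⟩ := π.exists_rightInverse_of_surjective (LinearMap.range_eq_top.mpr hπ)
  have hs' : ∀ x, π (s x) = x := fun x => LinearMap.congr_fun hs x
  let P : V →ₗ[k] LinearMap.ker π := (LinearMap.id - s ∘ₗ π).codRestrict _ (by
    intro v
    simp only [LinearMap.mem_ker, LinearMap.sub_apply, LinearMap.id_apply, LinearMap.comp_apply,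
      map_sub, hs', sub_self])
  have hdecomp : f = (LinearMap.ker π).subtype ∘ₗ (P ∘ₗ f) + s ∘ₗ (π ∘ₗ f) := by
    ext v
    simp [P]
  conv_lhs => rw [hdecomp]
  rw [map_add, LinearMap.trace_comp_comm', LinearMap.trace_comp_comm' _ s]
  congr 1
  · congr 1
    ext ⟨v, hv⟩
    have : π (f v) = 0 := hk v hv
    simp [P, this]
  · congr 1
    rw [h]
    ext x
    simp [hs']

section generic

variable {A B k : Type*} [CommRing A] [CommRing B] [Field k] [Algebra A B] [Algebra A k]
  (hk : Function.Surjective (algebraMap A k)) (y : B)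

/-- multiplication by `y` on `B ⧸ J` as a `k`-linear map -/
noncomputable def mu (J : Ideal B) [Module k (B ⧸ J)] [IsScalarTower A k (B ⧸ J)] :
    (B ⧸ J) →ₗ[k] (B ⧸ J) :=
  ((LinearMap.lsmul B (B ⧸ J) y).restrictScalars A).extendScalarsOfSurjective hk

theorem mu_apply (J : Ideal B) [Module k (B ⧸ J)] [IsScalarTower A k (B ⧸ J)] (x : B ⧸ J) :
    mu hk y J x = y • x := rfl

/-- the factor map as a `k`-linear map -/
noncomputable def fac {J I : Ideal B} (hJI : J ≤ I) [Module k (B ⧸ J)] [IsScalarTower A k (B ⧸ J)]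
    [Module k (B ⧸ I)] [IsScalarTower A k (B ⧸ I)] : (B ⧸ J) →ₗ[k] (B ⧸ I) :=
  ((Submodule.mapQ J I LinearMap.id hJI).restrictScalars A).extendScalarsOfSurjective hk

theorem fac_mk {J I : Ideal B} (hJI : J ≤ I) [Module k (B ⧸ J)] [IsScalarTower A k (B ⧸ J)]
    [Module k (B ⧸ I)] [IsScalarTower A k (B ⧸ I)] (b : B) :
    fac hk hJI (Ideal.Quotient.mk J b) = Ideal.Quotient.mk I b := rfl

theorem fac_surjective {J I : Ideal B} (hJI : J ≤ I) [Module k (B ⧸ J)] [IsScalarTower A k (B ⧸ J)]
    [Module k (B ⧸ I)] [IsScalarTower A k (B ⧸ I)] : Function.Surjective (fac (k := k) hk hJI) := by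
  intro x
  obtain ⟨b, rfl⟩ := Ideal.Quotient.mk_surjective x
  exact ⟨Ideal.Quotient.mk J b, rfl⟩

theorem ker_stable {J I : Ideal B} (hJI : J ≤ I) [Module k (B ⧸ J)] [IsScalarTower A k (B ⧸ J)]
    [Module k (B ⧸ I)] [IsScalarTower A k (B ⧸ I)] :
    ∀ x ∈ LinearMap.ker (fac (k := k) hk hJI), mu hk y J x ∈ LinearMap.ker (fac (k := k) hk hJI) := by
  intro x hx
  obtain ⟨b, rfl⟩ := Ideal.Quotient.mk_surjective x
  rw [LinearMap.mem_ker, fac_mk, Ideal.Quotient.eq_zero_iff_mem] at hx
  rw [LinearMap.mem_ker, mu_apply]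
  show fac hk hJI (Ideal.Quotient.mk J (y * b)) = 0
  rw [fac_mk, Ideal.Quotient.eq_zero_iff_mem]
  exact I.mul_mem_left y hx

theorem step {J I : Ideal B} (hJI : J ≤ I) [Module k (B ⧸ J)] [IsScalarTower A k (B ⧸ J)]
    [Module k (B ⧸ I)] [IsScalarTower A k (B ⧸ I)] [FiniteDimensional k (B ⧸ J)] :
    LinearMap.trace k (B ⧸ J) (mu hk y J) =
      LinearMap.trace k _ ((mu hk y J).restrict (ker_stable hk y hJI)) +
        LinearMap.trace k (B ⧸ I) (mu hk y I) := by
  refine trace_add (fac hk hJI) (fac_surjective hk hJI) _ _ ?_ _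
  ext x
  obtain ⟨b, rfl⟩ := Ideal.Quotient.mk_surjective x
  rfl

theorem iso_trace {J I Q : Ideal B} (hJI : J ≤ I) [Module k (B ⧸ J)] [IsScalarTower A k (B ⧸ J)]
    [Module k (B ⧸ I)] [IsScalarTower A k (B ⧸ I)] [Module k (B ⧸ Q)] [IsScalarTower A k (B ⧸ Q)]
    (a : B) (ha : a ∈ I) (hQa : ∀ q ∈ Q, q * a ∈ J) (hinj : ∀ b, b * a ∈ J → b ∈ Q)
    (hsurj : ∀ c ∈ I, ∃ b, c - b * a ∈ J) :
    LinearMap.trace k _ ((mu hk y J).restrict (ker_stable hk y hJI)) =
      LinearMap.trace k (B ⧸ Q) (mu hk y Q) := by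
  let ψB : (B ⧸ Q) →ₗ[B] (B ⧸ J) :=
    Submodule.liftQ Q (LinearMap.toSpanSingleton B (B ⧸ J) (Ideal.Quotient.mk J a)) (by
      intro q hq
      rw [LinearMap.mem_ker, LinearMap.toSpanSingleton_apply]
      show Ideal.Quotient.mk J (q * a) = 0
      exact Ideal.Quotient.eq_zero_iff_mem.mpr (hQa q hq))
  let ψ : (B ⧸ Q) →ₗ[k] (B ⧸ J) := (ψB.restrictScalars A).extendScalarsOfSurjective hk
  have hψ : ∀ b : B, ψ (Ideal.Quotient.mk Q b) = Ideal.Quotient.mk J (b * a) := fun b => rfl
  have hψsmul : ∀ z, ψ (y • z) = y • ψ z := fun z => map_smul ψB y z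
  have hmem : ∀ z, ψ z ∈ LinearMap.ker (fac (k := k) hk hJI) := by
    intro z
    obtain ⟨b, rfl⟩ := Ideal.Quotient.mk_surjective z
    rw [hψ, LinearMap.mem_ker, fac_mk, Ideal.Quotient.eq_zero_iff_mem]
    exact I.mul_mem_left b ha
  let ψ' : (B ⧸ Q) →ₗ[k] LinearMap.ker (fac (k := k) hk hJI) := ψ.codRestrict _ hmem
  have hbij : Function.Bijective ψ' := by
    constructor
    · rw [← LinearMap.ker_eq_bot, LinearMap.ker_eq_bot']
      intro z hz
      obtain ⟨b, rfl⟩ := Ideal.Quotient.mk_surjective z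
      have : ψ (Ideal.Quotient.mk Q b) = 0 := congrArg Subtype.val hz
      rw [hψ, Ideal.Quotient.eq_zero_iff_mem] at this
      exact Ideal.Quotient.eq_zero_iff_mem.mpr (hinj b this)
    · rintro ⟨x, hx⟩
      obtain ⟨c, rfl⟩ := Ideal.Quotient.mk_surjective x
      rw [LinearMap.mem_ker, fac_mk, Ideal.Quotient.eq_zero_iff_mem] at hx
      obtain ⟨b, hb⟩ := hsurj c hx
      refine ⟨Ideal.Quotient.mk Q b, Subtype.ext ?_⟩
      show ψ (Ideal.Quotient.mk Q b) = Ideal.Quotient.mk J c
      rw [hψ, eq_comm, Ideal.Quotient.eq]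
      exact hb
  let e := LinearEquiv.ofBijective ψ' hbij
  rw [← LinearMap.trace_conj' (mu hk y Q) e]
  congr 1
  ext w
  obtain ⟨z, rfl⟩ := hbij.2 w
  have h1 : e.symm (ψ' z) = z := e.symm_apply_apply z
  rw [LinearEquiv.conj_apply, LinearMap.comp_apply, LinearMap.comp_apply, LinearEquiv.coe_coe,
    LinearEquiv.coe_coe, h1]
  show mu hk y J (ψ z) = ψ (mu hk y Q z)
  rw [mu_apply, mu_apply, hψsmul]

end generic

theorem dedekind_facts {B : Type*} [CommRing B] [IsDedekindDomain B] (I Q : Ideal B) (hI : I ≠ ⊥)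
    (hQ : Q.IsMaximal) :
    ∃ a ∈ I, (∀ q ∈ Q, q * a ∈ I * Q) ∧ (∀ b, b * a ∈ I * Q → b ∈ Q) ∧
      (∀ c ∈ I, ∃ b, c - b * a ∈ I * Q) := by
  have hlt : I * Q < I := by
    refine lt_of_le_of_ne Ideal.mul_le_left ?_
    intro h
    have : Q = 1 := by
      have h' : I * Q = I * 1 := by rw [h, mul_one]
      exact mul_left_cancel₀ hI h'
    exact hQ.ne_top (by rw [this, Ideal.one_eq_top])
  obtain ⟨a, haI, haJ⟩ := SetLike.exists_of_lt hlt
  refine ⟨a, haI, fun q hq => ?_, ?_, ?_⟩
  · rw [mul_comm q a]; exact Ideal.mul_mem_mul haI hq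
  · intro b hb
    let N : Ideal B := Submodule.comap (LinearMap.toSpanSingleton B B a) (I * Q)
    have hQN : Q ≤ N := by
      intro q hq
      show q • a ∈ I * Q
      rw [smul_eq_mul, mul_comm q a]; exact Ideal.mul_mem_mul haI hq
    have hN : N ≠ ⊤ := by
      intro h
      have : (1 : B) ∈ N := h ▸ Submodule.mem_top
      have h1 : (1 : B) • a ∈ I * Q := this
      rw [one_smul] at h1
      exact haJ h1
    have := hQ.eq_of_le hN hQN
    rw [this]
    show b • a ∈ I * Q
    rwa [smul_eq_mul]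
  · intro c hc
    let K : Ideal B := Ideal.span {a} ⊔ I * Q
    have hKI : K ≤ I := sup_le ((Ideal.span_singleton_le_iff_mem _).mpr haI) Ideal.mul_le_left
    obtain ⟨K', hK'⟩ := Ideal.dvd_iff_le.mpr hKI
    have hJK : I * Q ≤ K := le_sup_right
    have h1 : I * K' ∣ I * Q := hK' ▸ Ideal.dvd_iff_le.mpr hJK
    have h2 : K' ∣ Q := (mul_dvd_mul_iff_left hI).mp h1
    have h3 : Q ≤ K' := Ideal.dvd_iff_le.mp h2
    have haK : a ∈ K := le_sup_left (α := Ideal B) (Ideal.mem_span_singleton_self a)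
    have hK'top : K' = ⊤ := by
      by_contra hne
      have := hQ.eq_of_le hne h3
      rw [← this] at hK'
      exact haJ (hK' ▸ haK)
    have hKeq : K = I := by rw [hK', hK'top, Ideal.mul_top]
    have hcK : c ∈ K := hKeq ▸ hc
    obtain ⟨u, hu, j, hj, rfl⟩ := Submodule.mem_sup.mp hcK
    obtain ⟨b, rfl⟩ := Ideal.mem_span_singleton'.mp hu
    exact ⟨b, by simpa using hj⟩

section concrete

variable {A B : Type u} [CommRing A] [CommRing B] [IsDedekindDomain A] [IsDedekindDomain B]
  [Algebra A B] [Module.Finite A B] (p : Ideal A) [p.IsMaximal] (y : B)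

attribute [local instance] Ideal.Quotient.field

omit [IsDedekindDomain A] [p.IsMaximal] in
theorem hk : Function.Surjective (algebraMap A (A ⧸ p)) := Ideal.Quotient.mk_surjective

open Classical in
noncomputable def tau (J : Ideal B) : A ⧸ p :=
  if h : p ≤ J.comap (algebraMap A B) then
    letI := Ideal.Quotient.algebraQuotientOfLEComap h
    haveI : IsScalarTower A (A ⧸ p) (B ⧸ J) := IsScalarTower.of_algebraMap_eq (fun x => rfl)
    LinearMap.trace (A ⧸ p) (B ⧸ J) (mu (hk p) y J)
  else 0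

theorem tau_mul (I Q : Ideal B) (hI : I ≠ ⊥) (hQ : Q.IsMaximal)
    (h : p ≤ (Q * I).comap (algebraMap A B)) :
    tau p y (Q * I) = tau p y Q + tau p y I := by
  have hJI : Q * I ≤ I := Ideal.mul_le_right
  have hJQ : Q * I ≤ Q := Ideal.mul_le_left
  have hI' : p ≤ I.comap (algebraMap A B) := h.trans (Ideal.comap_mono hJI)
  have hQ' : p ≤ Q.comap (algebraMap A B) := h.trans (Ideal.comap_mono hJQ)
  rw [tau, tau, tau, dif_pos h, dif_pos hI', dif_pos hQ']
  letI iJ := Ideal.Quotient.algebraQuotientOfLEComap h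
  letI iI := Ideal.Quotient.algebraQuotientOfLEComap hI'
  letI iQ := Ideal.Quotient.algebraQuotientOfLEComap hQ'
  haveI : IsScalarTower A (A ⧸ p) (B ⧸ (Q * I)) := IsScalarTower.of_algebraMap_eq (fun x => rfl)
  haveI : IsScalarTower A (A ⧸ p) (B ⧸ I) := IsScalarTower.of_algebraMap_eq (fun x => rfl)
  haveI : IsScalarTower A (A ⧸ p) (B ⧸ Q) := IsScalarTower.of_algebraMap_eq (fun x => rfl)
  haveI : FiniteDimensional (A ⧸ p) (B ⧸ (Q * I)) := Module.Finite.of_restrictScalars_finite A _ _
  obtain ⟨a, haI, h1, h2, h3⟩ := dedekind_facts I Q hI hQ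
  rw [mul_comm I Q] at h1 h2 h3
  show LinearMap.trace (A ⧸ p) (B ⧸ (Q * I)) (mu (hk p) y (Q * I)) =
    LinearMap.trace (A ⧸ p) (B ⧸ Q) (mu (hk p) y Q) + LinearMap.trace (A ⧸ p) (B ⧸ I) (mu (hk p) y I)
  rw [step (hk p) y hJI, iso_trace (hk p) y hJI a haI h1 h2 h3]

theorem tau_one : tau p y (1 : Ideal B) = 0 := by
  rw [tau]
  split_ifs with h'
  · letI := Ideal.Quotient.algebraQuotientOfLEComap h'
    haveI : IsScalarTower A (A ⧸ p) (B ⧸ (1 : Ideal B)) :=
      IsScalarTower.of_algebraMap_eq (fun x => rfl)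
    haveI : Subsingleton (B ⧸ (1 : Ideal B)) :=
      Ideal.Quotient.subsingleton_iff.mpr Ideal.one_eq_top
    show LinearMap.trace (A ⧸ p) (B ⧸ (1 : Ideal B)) (mu (hk p) y 1) = 0
    have : mu (hk p) y (1 : Ideal B) = 0 := by
      ext x; exact Subsingleton.elim _ _
    rw [this, map_zero]
  · rfl

theorem tau_prod [Module.IsTorsionFree A B] (hp : p ≠ ⊥) (s : Multiset (Ideal B))
    (hs : ∀ Q ∈ s, Q.IsMaximal) (h : p.map (algebraMap A B) ≤ s.prod) :
    tau p y s.prod = (s.map (tau p y)).sum := by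
  have hpB : p.map (algebraMap A B) ≠ ⊥ :=
    (Ideal.map_eq_bot_iff_of_injective (FaithfulSMul.algebraMap_injective A B)).not.mpr hp
  induction s using Multiset.induction_on with
  | empty =>
    rw [Multiset.prod_zero, Multiset.map_zero, Multiset.sum_zero, tau_one]
  | cons Q s ih =>
    rw [Multiset.prod_cons] at h
    rw [Multiset.prod_cons, Multiset.map_cons, Multiset.sum_cons]
    have hle : p.map (algebraMap A B) ≤ s.prod := h.trans Ideal.mul_le_right
    have hI : s.prod ≠ ⊥ := fun h0 => hpB (le_bot_iff.mp (h0 ▸ hle))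
    rw [tau_mul p y s.prod Q hI (hs Q (Multiset.mem_cons_self _ _))
      (Ideal.map_le_iff_le_comap.mp h),
      ih (fun Q' hQ' => hs Q' (Multiset.mem_cons_of_mem hQ')) hle]

end concrete

attribute [local instance] Ideal.Quotient.field in
theorem main (A B : Type u) [CommRing A] [CommRing B]
    [IsDedekindDomain A] [IsDedekindDomain B] [Algebra A B] [Module.Finite A B] [Module.IsTorsionFree A B]
    [Algebra.IsSeparable (FractionRing A) (FractionRing B)]
    (p : Ideal A) [p.IsMaximal] (hp : p ≠ ⊥) (y : B) :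
    Ideal.Quotient.mk p (Algebra.intTrace A B y) =
      ∑ᶠ Q : p.primesOver B,
        Q.1.ramificationIdx A •
          Algebra.trace (A ⧸ p) (B ⧸ Q.1) (Ideal.Quotient.mk Q.1 y) := by
  classical
  have hpB : p.map (algebraMap A B) ≠ ⊥ :=
    (Ideal.map_eq_bot_iff_of_injective (FaithfulSMul.algebraMap_injective A B)).not.mpr hp
  rw [← Algebra.trace_quotient_eq_of_isDedekindDomain]
  have e1 : Algebra.trace (A ⧸ p) (B ⧸ p.map (algebraMap A B)) (Ideal.Quotient.mk _ y) =
      tau p y (p.map (algebraMap A B)) := by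
    rw [tau, dif_pos Ideal.le_comap_map, Algebra.trace_apply]
    congr 1
  have e2 : ∀ Q : p.primesOver B,
      Algebra.trace (A ⧸ p) (B ⧸ Q.1) (Ideal.Quotient.mk Q.1 y) = tau p y Q.1 := by
    intro Q
    haveI := Q.2.2
    rw [tau, dif_pos (Q.1.over_def p).le, Algebra.trace_apply]
    congr 1
  simp_rw [e2]
  rw [e1]
  have hprod : (UniqueFactorizationMonoid.normalizedFactors (p.map (algebraMap A B))).prod =
      p.map (algebraMap A B) := Ideal.prod_normalizedFactors_eq_self hpB
  have hmax : ∀ Q ∈ UniqueFactorizationMonoid.normalizedFactors (p.map (algebraMap A B)),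
      Q.IsMaximal := fun Q hQ => by
    have hprime := UniqueFactorizationMonoid.prime_of_normalized_factor Q hQ
    exact (Ideal.isPrime_of_prime hprime).isMaximal hprime.ne_zero
  have key := tau_prod p y hp _ hmax (le_of_eq hprod.symm)
  rw [hprod, Finset.sum_multiset_map_count] at key
  rw [key, finsum_set_coe_eq_finsum_mem (f := fun Q : Ideal B => Q.ramificationIdx A • tau p y Q)
    (p.primesOver B), ← IsDedekindDomain.coe_primesOverFinset hp B, finsum_mem_coe_finset]
  have hfin : IsDedekindDomain.primesOverFinset p B =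
      (UniqueFactorizationMonoid.normalizedFactors (p.map (algebraMap A B))).toFinset := by
    ext Q
    rw [IsDedekindDomain.mem_primesOverFinset_iff hp, Multiset.mem_toFinset,
      Ideal.mem_primesOver_iff_mem_normalizedFactors B hp]
  rw [hfin]
  refine Finset.sum_congr rfl fun Q hQ => ?_
  rw [Multiset.mem_toFinset, ← Ideal.mem_primesOver_iff_mem_normalizedFactors B hp] at hQ
  haveI := hQ.2
  rw [Ideal.IsDedekindDomain.ramificationIdx_eq_normalizedFactors_count p Q hpB]

end Helpers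

/-- Let A be a Dedekind domain, B a Dedekind domain which is a finitely generated torsion-free A-algebra
whose fraction field is separable over that of A (B is the integral closure of A in a finite
separable extension), p a nonzero prime ideal of A and y an element of B. Then the class modulo p of
the trace of y from B to A is the sum over the primes Q of B lying over p of e(Q|p) times the trace,
from B/Q to A/p, of the class of y modulo Q. -/
theorem result (A B : Type u) [CommRing A] [CommRing B]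
    [IsDedekindDomain A] [IsDedekindDomain B] [Algebra A B] [Module.Finite A B] [Module.IsTorsionFree A B]
    [Algebra.IsSeparable (FractionRing A) (FractionRing B)]
    (p : Ideal A) [p.IsMaximal] (hp : p ≠ ⊥) (y : B) :
    Ideal.Quotient.mk p (Algebra.intTrace A B y) =
      ∑ᶠ Q : p.primesOver B,
        Q.1.ramificationIdx A •
          Algebra.trace (A ⧸ p) (B ⧸ Q.1) (Ideal.Quotient.mk Q.1 y) := by
  exact main A B p hp y

end Groth.Agent.S11081
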