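import Groth.Statements.S11084
import Mathlib

set_option autoImplicit false
universe u
open CAlg

namespace Groth.Agent.S11084

open Polynomial in
lemma le_one_iff_denom {k : Type u} [Field k] {Γ : Type*} [LinearOrderedCommGroupWithZero Γ]
    (w : Valuation (RatFunc k) Γ)
    (hw : ∀ a : Polynomial k, w (algebraMap (Polynomial k) (RatFunc k) a) ≤ 1) (f : RatFunc k) :
    w f ≤ 1 ↔ ¬ (w (algebraMap (Polynomial k) (RatFunc k) f.denom) < 1) := by
  have hfd := RatFunc.num_div_denom f
  have hb0 : algebraMap (Polynomial k) (RatFunc k) f.denom ≠ 0 :=
    RatFunc.algebraMap_ne_zero (RatFunc.denom_ne_zero f)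
  have hwb0 : w (algebraMap (Polynomial k) (RatFunc k) f.denom) ≠ 0 :=
    (Valuation.ne_zero_iff w).mpr hb0
  constructor
  · intro hf hb1
    have ha : algebraMap (Polynomial k) (RatFunc k) f.num =
        f * algebraMap (Polynomial k) (RatFunc k) f.denom := (div_eq_iff hb0).mp hfd
    have hwa : w (algebraMap (Polynomial k) (RatFunc k) f.num) < 1 := by
      rw [ha, map_mul]
      exact lt_of_le_of_lt (mul_le_of_le_one_left' hf) hb1
    obtain ⟨u, v, huv⟩ := RatFunc.isCoprime_num_denom f
    have h1 : algebraMap (Polynomial k) (RatFunc k) u * algebraMap (Polynomial k) (RatFunc k) f.num +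
        algebraMap (Polynomial k) (RatFunc k) v * algebraMap (Polynomial k) (RatFunc k) f.denom
        = 1 := by
      rw [← map_mul, ← map_mul, ← map_add, huv, map_one]
    have h2 : w (algebraMap (Polynomial k) (RatFunc k) u *
        algebraMap (Polynomial k) (RatFunc k) f.num) < 1 := by
      rw [map_mul]
      exact lt_of_le_of_lt (mul_le_of_le_one_left' (hw u)) hwa
    have h3 : w (algebraMap (Polynomial k) (RatFunc k) v *
        algebraMap (Polynomial k) (RatFunc k) f.denom) < 1 := by
      rw [map_mul]
      exact lt_of_le_of_lt (mul_le_of_le_one_left' (hw v)) hb1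
    have h4 := Valuation.map_add_lt w h2 h3
    rw [h1, map_one] at h4
    exact lt_irrefl _ h4
  · intro hb1
    have hwb : w (algebraMap (Polynomial k) (RatFunc k) f.denom) = 1 :=
      le_antisymm (hw _) (not_lt.mp hb1)
    rw [← hfd, map_div₀, hwb, div_one]
    exact hw _

lemma valuationSubring_eq_of {k : Type u} [Field k] {Γ₁ Γ₂ : Type*}
    [LinearOrderedCommGroupWithZero Γ₁] [LinearOrderedCommGroupWithZero Γ₂]
    (w₁ : Valuation (RatFunc k) Γ₁) (w₂ : Valuation (RatFunc k) Γ₂)
    (h₁ : ∀ a : Polynomial k, w₁ (algebraMap (Polynomial k) (RatFunc k) a) ≤ 1)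
    (h₂ : ∀ a : Polynomial k, w₂ (algebraMap (Polynomial k) (RatFunc k) a) ≤ 1)
    (h : ∀ a : Polynomial k, w₁ (algebraMap (Polynomial k) (RatFunc k) a) < 1 ↔
      w₂ (algebraMap (Polynomial k) (RatFunc k) a) < 1) :
    w₁.valuationSubring = w₂.valuationSubring := by
  ext f
  rw [Valuation.mem_valuationSubring_iff, Valuation.mem_valuationSubring_iff,
    le_one_iff_denom w₁ h₁, le_one_iff_denom w₂ h₂, h]

/-- Let k be a field and O a valuation subring of the field of rational functions k(x). Then O contains
the constants k and is different from k(x) if and only if O is the valuation ring of the P-adic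
valuation at a nonzero prime P of the polynomial ring k[x], or O is the valuation ring of the
valuation at infinity (given by the degree). (The published statement has k algebraically closed, so
that these valuation rings correspond to the points of the projective line; the published proof does
not use that k is algebraically closed. The published statement also asserts that distinct points
give distinct valuation rings, which this row does not state, and counts k(x) itself among the
valuation rings containing k; this row excludes it.) -/
theorem result (k : Type u) [Field k] [DecidableEq (RatFunc k)]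
    (O : ValuationSubring (RatFunc k)) :
    ((algebraMap k (RatFunc k)).range ≤ O.toSubring ∧ O ≠ ⊤) ↔
      ((∃ v : IsDedekindDomain.HeightOneSpectrum (Polynomial k), O = (v.valuation (RatFunc k)).valuationSubring) ∨
        O = (RatFunc.inftyValuation k).valuationSubring) := by
  classical
  constructor
  · rintro ⟨hk, hO⟩
    set w := O.valuation with hwdef
    have hconst : ∀ c : k, w (algebraMap k (RatFunc k) c) ≤ 1 := fun c =>
      (O.valuation_le_one_iff _).mpr (hk ⟨c, rfl⟩)
    have hT : w.IsTrivialOn k := ⟨fun c hc => by
      refine le_antisymm (hconst c) ?_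
      have h1 := hconst c⁻¹
      rw [map_inv₀, map_inv₀] at h1
      have h0 : w (algebraMap k (RatFunc k) c) ≠ 0 :=
        (Valuation.ne_zero_iff w).mpr (by simpa using hc)
      exact (inv_le_one₀ (zero_lt_iff.mpr h0)).mp h1⟩
    by_cases hX : 1 < w RatFunc.X
    · right
      have := RatFunc.valuation_isEquiv_inftyValuation_of_one_lt_valuation_X hX
      rw [← (Valuation.isEquiv_iff_valuationSubring (v₁ := w) (v₂ := RatFunc.inftyValuation k)).mp this, hwdef,
        ValuationSubring.valuationSubring_valuation]
    · left
      push Not at hX
      have hpoly : ∀ a : Polynomial k, w (algebraMap (Polynomial k) (RatFunc k) a) ≤ 1 :=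
        fun a => Polynomial.valuation_le_one_of_valuation_X_le_one k hX a
      let P : Ideal (Polynomial k) :=
        { carrier := {a | w (algebraMap (Polynomial k) (RatFunc k) a) < 1}
          zero_mem' := by simp
          add_mem' := by
            intro a b ha hb
            simp only [Set.mem_ofPred_eq, map_add] at ha hb ⊢
            exact Valuation.map_add_lt w ha hb
          smul_mem' := by
            intro c a ha
            simp only [Set.mem_ofPred_eq, smul_eq_mul, map_mul] at ha ⊢
            exact lt_of_le_of_lt (mul_le_of_le_one_left' (hpoly c)) ha }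
      have hPmem : ∀ a, a ∈ P ↔ w (algebraMap (Polynomial k) (RatFunc k) a) < 1 := fun a => Iff.rfl
      have hPprime : P.IsPrime := by
        refine ⟨?_, ?_⟩
        · intro htop
          have : (1 : Polynomial k) ∈ P := by rw [htop]; trivial
          rw [hPmem, map_one, map_one] at this
          exact lt_irrefl _ this
        · intro a b hab
          rw [hPmem, map_mul, map_mul] at hab
          by_contra hcon
          push Not at hcon
          have ha : w (algebraMap (Polynomial k) (RatFunc k) a) = 1 :=
            le_antisymm (hpoly a) (not_lt.mp ((hPmem a).not.mp hcon.1))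
          have hb : w (algebraMap (Polynomial k) (RatFunc k) b) = 1 :=
            le_antisymm (hpoly b) (not_lt.mp ((hPmem b).not.mp hcon.2))
          rw [ha, hb, one_mul] at hab
          exact lt_irrefl _ hab
      have hPbot : P ≠ ⊥ := by
        intro hbot
        apply hO
        rw [eq_top_iff]
        intro f _
        rw [← O.valuation_le_one_iff, le_one_iff_denom w hpoly]
        intro hlt
        have : f.denom ∈ P := (hPmem _).mpr hlt
        rw [hbot, Ideal.mem_bot] at this
        exact RatFunc.denom_ne_zero f this
      let v : IsDedekindDomain.HeightOneSpectrum (Polynomial k) := ⟨P, hPprime, hPbot⟩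
      refine ⟨v, ?_⟩
      rw [← valuationSubring_eq_of w (v.valuation (RatFunc k)) hpoly
        (fun a => v.valuation_le_one a) (fun a => by
          rw [IsDedekindDomain.HeightOneSpectrum.valuation_lt_one_iff_mem]; exact (hPmem a).symm),
        hwdef, ValuationSubring.valuationSubring_valuation]
  · rintro (⟨v, rfl⟩ | rfl)
    · constructor
      · rintro _ ⟨c, rfl⟩
        show (algebraMap k (RatFunc k)) c ∈ (v.valuation (RatFunc k)).valuationSubring
        rw [Valuation.mem_valuationSubring_iff]
        have : algebraMap k (RatFunc k) c =
            algebraMap (Polynomial k) (RatFunc k) (Polynomial.C c) := by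
          rw [RatFunc.algebraMap_C]; rfl
        rw [this]
        exact v.valuation_le_one _
      · intro htop
        obtain ⟨a, haP, ha0⟩ := Submodule.exists_mem_ne_zero_of_ne_bot v.ne_bot
        have hlt : v.valuation (RatFunc k) (algebraMap (Polynomial k) (RatFunc k) a) < 1 :=
          (v.valuation_lt_one_iff_mem a).mpr haP
        have hne : v.valuation (RatFunc k) (algebraMap (Polynomial k) (RatFunc k) a) ≠ 0 :=
          (Valuation.ne_zero_iff _).mpr (RatFunc.algebraMap_ne_zero ha0)
        have hmem : (algebraMap (Polynomial k) (RatFunc k) a)⁻¹ ∈
            (v.valuation (RatFunc k)).valuationSubring := by rw [htop]; trivial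
        rw [Valuation.mem_valuationSubring_iff, map_inv₀] at hmem
        have := (inv_le_one₀ (zero_lt_iff.mpr hne)).mp hmem
        exact absurd hlt (not_lt.mpr this)
    · constructor
      · rintro _ ⟨c, rfl⟩
        show (algebraMap k (RatFunc k)) c ∈ (RatFunc.inftyValuation k).valuationSubring
        rw [Valuation.mem_valuationSubring_iff]
        by_cases hc : c = 0
        · simp [hc]
        · rw [RatFunc.algebraMap_eq_C, RatFunc.inftyValuation.C k hc]
      · intro htop
        have hmem : (RatFunc.X : RatFunc k) ∈ (RatFunc.inftyValuation k).valuationSubring := by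
          rw [htop]; trivial
        rw [Valuation.mem_valuationSubring_iff, RatFunc.inftyValuation.X] at hmem
        have h2 : (1 : WithZero (Multiplicative ℤ)) < WithZero.exp (1 : ℤ) := by
          rw [← WithZero.exp_zero]; exact WithZero.exp_lt_exp.mpr zero_lt_one
        exact absurd h2 (not_lt.mpr hmem)

end Groth.Agent.S11084
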