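import Groth.Statements.S11086
import Mathlib

set_option autoImplicit false
universe u
attribute [local instance] FractionRing.liftAlgebra
open CAlg

namespace Groth.Agent.S11086

section Helpers

open CAlg nonZeroDivisors

section core
variable (A B Aₛ Bₛ K L : Type*) [CommRing A] [CommRing B] [CommRing Aₛ] [CommRing Bₛ] [Field K] [Field L]
  [Algebra A B] [Algebra A Aₛ] [Algebra B Bₛ] [Algebra Aₛ Bₛ] [Algebra A Bₛ]
  [IsScalarTower A Aₛ Bₛ] [IsScalarTower A B Bₛ]
  [Algebra A K] [Algebra Aₛ K] [IsScalarTower A Aₛ K]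
  [Algebra B L] [Algebra Bₛ L] [IsScalarTower B Bₛ L]
  [Algebra K L] [Algebra A L] [IsScalarTower A K L] [IsScalarTower A B L]
  [Algebra Aₛ L] [IsScalarTower Aₛ K L] [IsScalarTower Aₛ Bₛ L]
  (S : Submonoid A) [IsLocalization S Aₛ] [IsLocalization (Algebra.algebraMapSubmonoid B S) Bₛ]

include Aₛ S in
theorem unitK (s : A) (hs : s ∈ S) : IsUnit (algebraMap A K s) := by
  have := (IsLocalization.map_units Aₛ ⟨s, hs⟩).map (algebraMap Aₛ K)
  rwa [← IsScalarTower.algebraMap_apply] at this

include S in
theorem D_le (y : L) (hy : y ∈ Submodule.traceDual A K (1 : Submodule B L)) :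
    y ∈ Submodule.traceDual Aₛ K (1 : Submodule Bₛ L) := by
  rw [Submodule.mem_traceDual] at hy ⊢
  intro a ha
  obtain ⟨b', rfl⟩ := Submodule.mem_one.mp ha
  obtain ⟨b, ⟨_, s, hs, rfl⟩, rfl⟩ := IsLocalization.exists_mk'_eq (Algebra.algebraMapSubmonoid B S) b'
  obtain ⟨c, hc⟩ := hy (algebraMap B L b) (Submodule.mem_one.mpr ⟨b, rfl⟩)
  simp only [Algebra.traceForm_apply] at hc ⊢
  refine ⟨IsLocalization.mk' Aₛ c ⟨s, hs⟩, ?_⟩
  have hu := unitK A Aₛ K S s hs
  apply hu.mul_left_injective
  simp only
  have h1 : algebraMap Aₛ K (IsLocalization.mk' Aₛ c ⟨s, hs⟩) * algebraMap A K s = algebraMap A K c := by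
    rw [IsScalarTower.algebraMap_apply A Aₛ K s, ← map_mul, IsLocalization.mk'_spec,
      ← IsScalarTower.algebraMap_apply]
  have h2 : (algebraMap Bₛ L) (IsLocalization.mk' Bₛ b
      ⟨algebraMap A B s, Algebra.mem_algebraMapSubmonoid_of_mem ⟨s, hs⟩⟩) * algebraMap K L (algebraMap A K s)
      = algebraMap B L b := by
    rw [← IsScalarTower.algebraMap_apply A K L, IsScalarTower.algebraMap_apply A B L,
      IsScalarTower.algebraMap_apply B Bₛ L, ← map_mul, IsLocalization.mk'_spec,
      ← IsScalarTower.algebraMap_apply]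
  rw [h1, hc]
  have h3 : y * algebraMap B L b = (algebraMap A K s) • (y * (algebraMap Bₛ L) (IsLocalization.mk' Bₛ b
      ⟨algebraMap A B s, Algebra.mem_algebraMapSubmonoid_of_mem ⟨s, hs⟩⟩)) := by
    rw [Algebra.smul_def, ← h2]; ring
  rw [h3, map_smul, smul_eq_mul, mul_comm]

include S in
theorem exists_smul_mem [Module.Finite A B] (y : L)
    (hy : y ∈ Submodule.traceDual Aₛ K (1 : Submodule Bₛ L)) :
    ∃ s ∈ S, (algebraMap A K s) • y ∈ Submodule.traceDual A K (1 : Submodule B L) := by
  classical
  rw [Submodule.mem_traceDual] at hy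
  obtain ⟨T, hT⟩ := (Module.finite_def.mp ‹Module.Finite A B›)
  have H : ∀ b : B, ∃ a : Aₛ, algebraMap Aₛ K a = Algebra.trace K L (y * algebraMap B L b) := by
    intro b
    have := hy (algebraMap Bₛ L (algebraMap B Bₛ b)) (Submodule.mem_one.mpr ⟨_, rfl⟩)
    rwa [Algebra.traceForm_apply, ← IsScalarTower.algebraMap_apply] at this
  choose a ha using H
  obtain ⟨s, hs⟩ := IsLocalization.exist_integer_multiples_of_finset S (T.image a)
  refine ⟨s, s.2, ?_⟩
  rw [Submodule.mem_traceDual]
  intro z hz
  obtain ⟨b, rfl⟩ := Submodule.mem_one.mp hz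
  rw [Algebra.traceForm_apply]
  have hb : b ∈ Submodule.span A (T : Set B) := hT ▸ Submodule.mem_top
  induction hb using Submodule.span_induction with
  | mem x hx =>
    obtain ⟨c, hc⟩ := hs (a x) (Finset.mem_image_of_mem a hx)
    refine ⟨c, ?_⟩
    rw [smul_mul_assoc, map_smul, smul_eq_mul, ← ha, IsScalarTower.algebraMap_apply A Aₛ K c, hc,
      Algebra.smul_def, map_mul, ← IsScalarTower.algebraMap_apply]
  | zero => simp
  | add x y _ _ hx hy => rw [map_add, mul_add, map_add]; exact add_mem (hx (Submodule.mem_one.mpr ⟨_, rfl⟩)) (hy (Submodule.mem_one.mpr ⟨_, rfl⟩))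
  | smul r x _ hx =>
    have : (algebraMap A K s.1 • y) * algebraMap B L (r • x) =
        algebraMap A K r • ((algebraMap A K s.1 • y) * algebraMap B L x) := by
      rw [Algebra.smul_def r x, map_mul, ← IsScalarTower.algebraMap_apply A B L,
        IsScalarTower.algebraMap_apply A K L r, Algebra.smul_def (algebraMap A K r)]
      ring
    rw [this, map_smul, smul_eq_mul]
    exact Subring.mul_mem _ ⟨r, rfl⟩ (hx (Submodule.mem_one.mpr ⟨_, rfl⟩))

include S in
theorem mk'_mul (b : B) (s : A) (hs : s ∈ S) :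
    (algebraMap Bₛ L) (IsLocalization.mk' Bₛ b
      ⟨algebraMap A B s, Algebra.mem_algebraMapSubmonoid_of_mem ⟨s, hs⟩⟩) * algebraMap K L (algebraMap A K s)
      = algebraMap B L b := by
  rw [← IsScalarTower.algebraMap_apply A K L, IsScalarTower.algebraMap_apply A B L,
    IsScalarTower.algebraMap_apply B Bₛ L, ← map_mul, IsLocalization.mk'_spec,
    ← IsScalarTower.algebraMap_apply]

include S in
theorem span_div_eq [Module.Finite A B]
    (hinv : (Submodule.traceDual A K (1 : Submodule B L)) *
      (1 / Submodule.traceDual A K (1 : Submodule B L)) = 1) :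
    Submodule.span Bₛ ((1 / Submodule.traceDual A K (1 : Submodule B L) : Submodule B L) : Set L) =
      1 / Submodule.traceDual Aₛ K (1 : Submodule Bₛ L) := by
  apply le_antisymm
  · rw [Submodule.span_le]
    intro x hx
    rw [SetLike.mem_coe, Submodule.mem_div_iff_forall_mul_mem] at hx ⊢
    intro y hy
    obtain ⟨s, hs, hsy⟩ := exists_smul_mem A B Aₛ Bₛ K L S y hy
    obtain ⟨b, hb⟩ := Submodule.mem_one.mp (hx _ hsy)
    refine Submodule.mem_one.mpr ⟨IsLocalization.mk' Bₛ b
      ⟨algebraMap A B s, Algebra.mem_algebraMapSubmonoid_of_mem ⟨s, hs⟩⟩, ?_⟩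
    have hu : IsUnit (algebraMap K L (algebraMap A K s)) := (unitK A Aₛ K S s hs).map _
    apply hu.mul_left_injective
    simp only
    rw [mk'_mul (A := A) (B := B) (Bₛ := Bₛ) (K := K) (L := L) (S := S) b s hs, hb, Algebra.smul_def]
    ring
  · intro x hx
    rw [Submodule.mem_div_iff_forall_mul_mem] at hx
    have h1 : (1 : L) ∈ (Submodule.traceDual A K (1 : Submodule B L)) *
        (1 / Submodule.traceDual A K (1 : Submodule B L)) := by
      rw [hinv]; exact Submodule.one_le.mp le_rfl
    have key : ∀ z ∈ (Submodule.traceDual A K (1 : Submodule B L)) *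
        (1 / Submodule.traceDual A K (1 : Submodule B L)),
        x * z ∈ Submodule.span Bₛ
          ((1 / Submodule.traceDual A K (1 : Submodule B L) : Submodule B L) : Set L) := by
      intro z hz
      refine Submodule.mul_induction_on hz ?_ ?_
      · intro d hd e he
        obtain ⟨b', hb'⟩ := Submodule.mem_one.mp (hx d (D_le A B Aₛ Bₛ K L S d hd))
        rw [← mul_assoc, ← hb', ← Algebra.smul_def]
        exact Submodule.smul_mem _ _ (Submodule.subset_span he)
      · intro z w hz hw
        rw [mul_add]; exact add_mem hz hw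
    simpa using key 1 h1

end core

theorem main (A B : Type u) [CommRing A] [CommRing B]
    [IsDedekindDomain A] [IsDedekindDomain B] [Algebra A B] [Module.Finite A B] [Module.IsTorsionFree A B]
    [Algebra.IsSeparable (FractionRing A) (FractionRing B)]
    (S : Submonoid A) (hS : S ≤ nonZeroDivisors A)
    (Aₛ Bₛ : Type u) [CommRing Aₛ] [CommRing Bₛ] [Algebra A Aₛ] [Algebra B Bₛ] [Algebra Aₛ Bₛ]
    [Algebra A Bₛ] [IsScalarTower A Aₛ Bₛ] [IsScalarTower A B Bₛ]
    [IsLocalization S Aₛ] [IsLocalization (Algebra.algebraMapSubmonoid B S) Bₛ]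
    [IsDomain Aₛ] [IsIntegrallyClosed Aₛ] [IsDedekindDomain Bₛ] [Module.IsTorsionFree Aₛ Bₛ] :
    Ideal.map (algebraMap B Bₛ) (differentIdeal A B) = differentIdeal Aₛ Bₛ := by
  let K := FractionRing A
  let L := FractionRing B
  have hSK : ∀ s : S, IsUnit (algebraMap A K s) := fun s =>
    IsLocalization.map_units K ⟨s.1, hS s.2⟩
  letI algAK : Algebra Aₛ K := (IsLocalization.lift (M := S) (g := algebraMap A K) hSK).toAlgebra
  haveI : IsScalarTower A Aₛ K :=
    IsScalarTower.of_algebraMap_eq (fun x => (IsLocalization.lift_eq hSK x).symm)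
  haveI : IsFractionRing Aₛ K := IsFractionRing.isFractionRing_of_isDomain_of_isLocalization S Aₛ K
  have hinjAB : Function.Injective (algebraMap A B) := FaithfulSMul.algebraMap_injective A B
  have hSB : Algebra.algebraMapSubmonoid B S ≤ nonZeroDivisors B := by
    rintro _ ⟨s, hs, rfl⟩
    exact mem_nonZeroDivisors_of_ne_zero
      ((map_ne_zero_iff _ hinjAB).mpr (nonZeroDivisors.ne_zero (hS hs)))
  have hSL : ∀ t : Algebra.algebraMapSubmonoid B S, IsUnit (algebraMap B L t) := fun t =>
    IsLocalization.map_units L ⟨t.1, hSB t.2⟩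
  letI algBL : Algebra Bₛ L :=
    (IsLocalization.lift (M := Algebra.algebraMapSubmonoid B S) (g := algebraMap B L) hSL).toAlgebra
  haveI : IsScalarTower B Bₛ L :=
    IsScalarTower.of_algebraMap_eq (fun x => (IsLocalization.lift_eq hSL x).symm)
  haveI : IsFractionRing Bₛ L :=
    IsFractionRing.isFractionRing_of_isDomain_of_isLocalization (Algebra.algebraMapSubmonoid B S) Bₛ L
  letI algAL : Algebra Aₛ L := ((algebraMap K L).comp (algebraMap Aₛ K)).toAlgebra
  haveI : IsScalarTower Aₛ K L := IsScalarTower.of_algebraMap_eq (fun x => rfl)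
  haveI : IsScalarTower Aₛ Bₛ L := IsScalarTower.of_algebraMap_eq' (by
    apply IsLocalization.ringHom_ext S
    ext a
    show algebraMap K L (algebraMap Aₛ K (algebraMap A Aₛ a)) =
      algebraMap Bₛ L (algebraMap Aₛ Bₛ (algebraMap A Aₛ a))
    rw [← IsScalarTower.algebraMap_apply A Aₛ K, ← IsScalarTower.algebraMap_apply A Aₛ Bₛ,
      IsScalarTower.algebraMap_apply A B Bₛ, ← IsScalarTower.algebraMap_apply B Bₛ L,
      ← IsScalarTower.algebraMap_apply A K L, ← IsScalarTower.algebraMap_apply A B L])
  haveI : Module.Finite Aₛ Bₛ := Module.Finite.of_isLocalization A B S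
  haveI : IsIntegralClosure Bₛ Aₛ L := IsIntegralClosure.of_isIntegrallyClosed Bₛ Aₛ L
  have hinv : (Submodule.traceDual A K (1 : Submodule B L)) *
      (1 / Submodule.traceDual A K (1 : Submodule B L)) = 1 := by
    have hJ := FractionalIdeal.dual_ne_zero A K (@one_ne_zero (FractionalIdeal B⁰ L) _ _ _)
    have := congrArg (fun I : FractionalIdeal B⁰ L => (I : Submodule B L)) (mul_inv_cancel₀ hJ)
    simpa only [FractionalIdeal.coe_mul, FractionalIdeal.coe_one, inv_eq_one_div,
      FractionalIdeal.coe_div hJ, FractionalIdeal.coe_dual_one] using this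
  apply IsLocalization.coeSubmodule_injective L (le_refl (nonZeroDivisors Bₛ))
  rw [coeSubmodule_differentIdeal Aₛ K Bₛ, ← span_div_eq A B Aₛ Bₛ K L S hinv,
    ← coeSubmodule_differentIdeal A K B]
  rw [Ideal.map, IsLocalization.coeSubmodule_span, ← Set.image_comp]
  congr 1
  ext x
  simp [IsLocalization.coeSubmodule, ← IsScalarTower.algebraMap_apply]

end Helpers

/-- Let A be a Dedekind domain, B a Dedekind domain which is a finitely generated torsion-free A-algebra
with fraction field separable over that of A (the integral closure of A in a finite separable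
extension), and S a submonoid of A consisting of non-zero-divisors. Let A_S and B_S be localizations
of A at S and of B at the image of S, with B_S an algebra over A_S compatibly with A and B (so A_S
is integrally closed and B_S is a Dedekind domain, torsion-free over A_S). Then the ideal of B_S
generated by the different of B over A is the different of B_S over A_S. -/
theorem result (A B : Type u) [CommRing A] [CommRing B]
    [IsDedekindDomain A] [IsDedekindDomain B] [Algebra A B] [Module.Finite A B] [Module.IsTorsionFree A B]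
    [Algebra.IsSeparable (FractionRing A) (FractionRing B)]
    (S : Submonoid A) (hS : S ≤ nonZeroDivisors A)
    (Aₛ Bₛ : Type u) [CommRing Aₛ] [CommRing Bₛ] [Algebra A Aₛ] [Algebra B Bₛ] [Algebra Aₛ Bₛ]
    [Algebra A Bₛ] [IsScalarTower A Aₛ Bₛ] [IsScalarTower A B Bₛ]
    [IsLocalization S Aₛ] [IsLocalization (Algebra.algebraMapSubmonoid B S) Bₛ]
    [IsDomain Aₛ] [IsIntegrallyClosed Aₛ] [IsDedekindDomain Bₛ] [Module.IsTorsionFree Aₛ Bₛ] :
    Ideal.map (algebraMap B Bₛ) (differentIdeal A B) = differentIdeal Aₛ Bₛ := by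
  exact main A B S hS Aₛ Bₛ

end Groth.Agent.S11086
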