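import Groth.Statements.S8804
import Mathlib
-- import your own Groth.Agent.* helpers here

set_option autoImplicit false
universe u
open AdicRing

namespace Groth.Agent.S8804

namespace H5S8804
open Polynomial


section basics
variable {D : Type u} [CommRing D]

theorem isAdicComplete_iff_ring (J : Ideal D) : IsAdicComplete J D ↔
    (∀ x : D, (∀ n : ℕ, x ∈ J ^ n) → x = 0) ∧
    (∀ f : ℕ → D, (∀ m n, m ≤ n → f m - f n ∈ J ^ m) → ∃ L, ∀ n, f n - L ∈ J ^ n) := by
  have key : ∀ (n : ℕ) (x y : D), x ≡ y [SMOD (J ^ n • ⊤ : Submodule D D)] ↔ x - y ∈ J ^ n := by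
    intro n x y
    rw [SModEq.sub_mem, smul_eq_mul, Ideal.mul_top]
  constructor
  · intro h
    refine ⟨fun x hx => ?_, fun f hf => ?_⟩
    · apply h.toIsHausdorff.haus x
      intro n
      rw [key]; simpa using hx n
    · obtain ⟨L, hL⟩ := h.toIsPrecomplete.prec' f (fun {m n} hmn => (key m _ _).mpr (hf m n hmn))
      exact ⟨L, fun n => (key n _ _).mp (hL n)⟩
  · rintro ⟨h1, h2⟩
    refine { haus' := fun x hx => h1 x (fun n => ?_), prec' := fun f hf => ?_ }
    · have := (key n x 0).mp (hx n)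
      simpa using this
    · obtain ⟨L, hL⟩ := h2 f (fun m n hmn => (key m _ _).mp (hf hmn))
      exact ⟨L, fun n => (key n _ _).mpr (hL n)⟩

/-- transfer of completeness to a bigger ideal with the same radical-type bound -/
theorem complete_of_le_of_pow_le (J K : Ideal D) (hJK : J ≤ K) (k : ℕ) (hk : 0 < k) (hKJ : K ^ k ≤ J)
    (h : IsAdicComplete J D) : IsAdicComplete K D := by
  rw [isAdicComplete_iff_ring] at h ⊢
  obtain ⟨h1, h2⟩ := h
  have hpow : ∀ n, K ^ (k * n) ≤ J ^ n := fun n => by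
    rw [pow_mul]; exact Ideal.pow_right_mono hKJ n
  refine ⟨fun x hx => h1 x (fun n => hpow n (hx _)), fun f hf => ?_⟩
  obtain ⟨L, hL⟩ := h2 (fun n => f (k * n)) (fun m n hmn => by
    apply hpow m
    exact hf _ _ (Nat.mul_le_mul_left k hmn))
  refine ⟨L, fun n => ?_⟩
  have e1 : f n - f (k * n) ∈ K ^ n := hf n (k * n) (Nat.le_mul_of_pos_left n hk)
  have e2 : f (k * n) - L ∈ K ^ n := Ideal.pow_right_mono hJK n (hL n)
  have : f n - L = (f n - f (k * n)) + (f (k * n) - L) := by ring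
  rw [this]
  exact Ideal.add_mem _ e1 e2

end basics

section quot
variable {A : Type u} [CommRing A] [IsNoetherianRing A] (I : Ideal A) [IsAdicComplete I A]

theorem map_pow_mk (q : Ideal A) (n : ℕ) (y : A ⧸ q) (hy : y ∈ (I.map (Ideal.Quotient.mk q)) ^ n) :
    ∃ a ∈ I ^ n, Ideal.Quotient.mk q a = y := by
  rw [← Ideal.map_pow] at hy
  exact (Ideal.mem_map_iff_of_surjective _ Ideal.Quotient.mk_surjective).mp hy

theorem quot_complete (q : Ideal A) (hq : q ≠ ⊤) :
    IsAdicComplete (I.map (Ideal.Quotient.mk q)) (A ⧸ q) := by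
  have hI : IsAdicComplete I A := inferInstance
  rw [isAdicComplete_iff_ring] at hI ⊢
  obtain ⟨-, h2⟩ := hI
  have hjac : I ≤ (⊥ : Ideal A).jacobson := IsAdicComplete.le_jacobson_bot I
  constructor
  · -- Krull intersection
    intro x hx
    have hle : I.map (Ideal.Quotient.mk q) ≤ (⊥ : Ideal (A ⧸ q)).jacobson := by
      rw [Ideal.map_le_iff_le_comap]
      intro a ha
      rw [Ideal.mem_comap, Ideal.mem_jacobson_bot]
      intro y
      obtain ⟨b, rfl⟩ := Ideal.Quotient.mk_surjective y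
      have := (Ideal.mem_jacobson_bot.mp (hjac ha)) b
      rw [← map_mul, ← map_one (Ideal.Quotient.mk q), ← map_add]
      exact this.map _
    have := Ideal.iInf_pow_smul_eq_bot_of_le_jacobson (M := A ⧸ q)
      (I.map (Ideal.Quotient.mk q)) hle
    have hx' : x ∈ (⨅ n : ℕ, (I.map (Ideal.Quotient.mk q)) ^ n • ⊤ :
        Submodule (A ⧸ q) (A ⧸ q)) := by
      rw [Submodule.mem_iInf]; intro n; rw [smul_eq_mul, Ideal.mul_top]; exact hx n
    rw [this] at hx'
    exact hx'
  · intro f hf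
    -- lift to a Cauchy sequence in A
    have hstep : ∀ n, ∃ a ∈ I ^ n, Ideal.Quotient.mk q a = f (n + 1) - f n := fun n =>
      map_pow_mk I q n _ (by
        have := hf n (n + 1) (Nat.le_succ n)
        rw [← neg_sub]; exact neg_mem this)
    choose a ha ha' using hstep
    obtain ⟨a0, ha0⟩ := Ideal.Quotient.mk_surjective (f 0)
    let g : ℕ → A := fun n => a0 + ∑ i ∈ Finset.range n, a i
    have hg : ∀ n, Ideal.Quotient.mk q (g n) = f n := by
      intro n
      induction n with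
      | zero => simp [g, ha0]
      | succ n ih =>
        have : g (n + 1) = g n + a n := by simp [g, Finset.sum_range_succ, add_assoc]
        rw [this, map_add, ih, ha']; ring
    have hgc : ∀ m n, m ≤ n → g m - g n ∈ I ^ m := by
      intro m n hmn
      obtain ⟨d, rfl⟩ := Nat.exists_eq_add_of_le hmn
      induction d with
      | zero => simp
      | succ d ih =>
        have : g m - g (m + (d + 1)) = (g m - g (m + d)) - a (m + d) := by
          simp only [g, ← add_assoc, Finset.sum_range_succ]; ring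
        rw [this]
        exact Ideal.sub_mem _ (ih (Nat.le_add_right m d))
          (Ideal.pow_le_pow_right (Nat.le_add_right m d) (ha (m + d)))
    obtain ⟨L, hL⟩ := h2 g hgc
    refine ⟨Ideal.Quotient.mk q L, fun n => ?_⟩
    rw [← hg n, ← map_sub, ← Ideal.map_pow]
    exact Ideal.mem_map_of_mem _ (hL n)

end quot


variable {D : Type u} [CommRing D] [IsDomain D]

theorem dim_eq_one_iff : ringKrullDim D = 1 ↔
    ¬ IsField D ∧ ∀ P : Ideal D, P ≠ ⊥ → P.IsPrime → P.IsMaximal := by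
  constructor
  · intro h
    have h1 : Ring.KrullDimLE 1 D := Ring.krullDimLE_iff.mpr (by rw [h]; rfl)
    refine ⟨fun hf => ?_, Ring.krullDimLE_one_iff_of_noZeroDivisors.mp h1⟩
    rw [ringKrullDim_eq_zero_of_isField hf] at h
    exact zero_ne_one h
  · rintro ⟨h1, h2⟩
    have hle : Ring.KrullDimLE 1 D := Ring.KrullDimLE.mk₁' h2
    refine le_antisymm (by simpa using Ring.krullDimLE_iff.mp hle) ?_
    by_contra hlt
    have h0 : ringKrullDim D ≤ 0 := by
      rw [not_le] at hlt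
      have := (ENat.WithBot.lt_add_one_iff (n := ringKrullDim D) (m := 0)).mp (by simpa using hlt)
      simpa using this
    have : Ring.KrullDimLE 0 D := Ring.krullDimLE_iff.mpr (by simpa using h0)
    exact h1 Ring.KrullDimLE.isField_of_isDomain


variable {D : Type u} [CommRing D] [IsDomain D] [IsNoetherianRing D]

theorem maximal_mem_minimalPrimes (J : Ideal D) (hJ0 : J ≠ ⊥) (hJ1 : J ≠ ⊤)
    (hall : ∀ P : Ideal D, P.IsPrime → P ≠ ⊥ → J ≤ P) (M : Ideal D) (hM : M.IsMaximal) :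
    M ∈ J.minimalPrimes := by
  classical
  have hfin : J.minimalPrimes.Finite := Ideal.finite_minimalPrimes_of_isNoetherianRing D J
  have hMprime : M.IsPrime := hM.isPrime
  -- M ≠ ⊥
  have hM0 : M ≠ ⊥ := by
    intro h0
    obtain ⟨M', hM', hJM'⟩ := Ideal.exists_le_maximal J hJ1
    have : M' = ⊥ := by
      have := hM.eq_of_le hM'.ne_top (h0 ▸ bot_le : M ≤ M')
      rw [← this, h0]
    rw [this] at hJM'
    exact hJ0 (le_bot_iff.mp hJM')
  have hJM : J ≤ M := hall M hMprime hM0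
  obtain ⟨P₀, hP₀, hP₀M⟩ := Ideal.exists_minimalPrimes_le hJM
  by_contra hMn
  have hnot : ¬ ((M : Set D) ⊆ ⋃ P ∈ (hfin.toFinset : Set (Ideal D)), ((id P : Ideal D) : Set D)) := by
    intro hsub
    rw [Ideal.subset_union_prime (R := D) (s := hfin.toFinset) (f := id) ⊥ ⊥
      (fun i hi _ _ => by
        have : i ∈ J.minimalPrimes := by simpa using hi
        exact this.1.1)] at hsub
    obtain ⟨P, hP, hMP⟩ := hsub
    have hP' : P ∈ J.minimalPrimes := by simpa using hP
    have : M = P := hM.eq_of_le hP'.1.1.ne_top hMP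
    exact hMn (this ▸ hP')
  rw [Set.not_subset] at hnot
  obtain ⟨y, hyM, hy⟩ := hnot
  have hy' : ∀ P ∈ J.minimalPrimes, y ∉ P := by
    intro P hP hyP
    apply hy
    simp only [Set.mem_iUnion]
    exact ⟨P, by simpa using hP, hyP⟩
  have hy0 : y ≠ 0 := by
    rintro rfl
    exact hy' P₀ hP₀ (zero_mem _)
  have hspan : Ideal.span {y} ≤ M := by
    rw [Ideal.span_le]; simpa using hyM
  obtain ⟨P', hP', hP'M⟩ := Ideal.exists_minimalPrimes_le hspan
  have hP'prime : P'.IsPrime := hP'.1.1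
  have hyP' : y ∈ P' := hP'.1.2 (Ideal.subset_span rfl)
  have hP'0 : P' ≠ ⊥ := by
    intro h; rw [h] at hyP'; exact hy0 (by simpa using hyP')
  have hJP' : J ≤ P' := hall P' hP'prime hP'0
  obtain ⟨P₁, hP₁, hP₁P'⟩ := Ideal.exists_minimalPrimes_le hJP'
  have hP₁prime : P₁.IsPrime := hP₁.1.1
  have hP₁0 : P₁ ≠ ⊥ := by
    intro h; rw [h] at hP₁; exact hJ0 (le_bot_iff.mp hP₁.1.2)
  have hht : P'.height ≤ 1 :=
    Ideal.height_le_one_of_isPrincipal_of_mem_minimalPrimes (Ideal.span {y}) P' hP'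
  have heq : P₁ = P' := by
    by_contra hne
    have hlt : P₁ < P' := lt_of_le_of_ne hP₁P' hne
    have h1 : (⊥ : Ideal D).height < P₁.height :=
      Ideal.height_strict_mono_of_isPrime_of_isPrime (bot_lt_iff_ne_bot.mpr hP₁0)
    have h2 : P₁.height < P'.height := Ideal.height_strict_mono_of_isPrime_of_isPrime hlt
    have h3 : P₁.height < 1 := lt_of_lt_of_le h2 hht
    have h4 : P₁.height = 0 := by
      rcases ENat.lt_one_iff_eq_zero.mp h3 with h
      exact h
    rw [h4] at h1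
    exact not_lt_bot (a := (⊥ : Ideal D).height) (by simpa using h1)
  exact hy' P₁ hP₁ (heq ▸ hyP')

theorem prime_maximal (J : Ideal D) (hJ0 : J ≠ ⊥) (hJ1 : J ≠ ⊤)
    (hall : ∀ P : Ideal D, P.IsPrime → P ≠ ⊥ → J ≤ P) (P : Ideal D) (hP0 : P ≠ ⊥) (hP : P.IsPrime) :
    P.IsMaximal := by
  obtain ⟨M, hM, hPM⟩ := Ideal.exists_le_maximal P hP.ne_top
  have hMmin := maximal_mem_minimalPrimes J hJ0 hJ1 hall M hM
  have : M ≤ P := hMmin.2 ⟨hP, hall P hP hP0⟩ hPM
  rw [le_antisymm hPM this]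
  exact hM


open Polynomial
variable {D : Type u} [CommRing D] [IsDomain D] [IsNoetherianRing D]

theorem local_of_complete (J : Ideal D) (hJ0 : J ≠ ⊥)
    (hmax : ∀ P : Ideal D, P ≠ ⊥ → P.IsPrime → P.IsMaximal)
    (K : Ideal D) (hK : K = J.radical) [IsAdicComplete K D] (hJjac : J ≤ (⊥ : Ideal D).jacobson)
    (m₁ m₂ : Ideal D) (h₁ : m₁.IsMaximal) (h₂ : m₂.IsMaximal) : m₁ = m₂ := by
  classical
  by_contra hne
  have hJle : ∀ m : Ideal D, m.IsMaximal → J ≤ m := fun m hm =>
    hJjac.trans (by rw [Ideal.jacobson]; exact sInf_le ⟨bot_le, hm⟩)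
  have hsub : {m : Ideal D | m.IsMaximal} ⊆ J.minimalPrimes := by
    intro m hm
    refine ⟨⟨hm.isPrime, hJle m hm⟩, fun P hP hPm => ?_⟩
    have hP0 : P ≠ ⊥ := by
      intro h; rw [h] at hP; exact hJ0 (le_bot_iff.mp hP.2)
    have := (hmax P hP0 hP.1).eq_of_le hm.ne_top hPm
    rw [this]
  have hfin : {m : Ideal D | m.IsMaximal}.Finite :=
    (Ideal.finite_minimalPrimes_of_isNoetherianRing D J).subset hsub
  have hKmem : ∀ x : D, (∀ m : Ideal D, m.IsMaximal → x ∈ m) → x ∈ K := by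
    intro x hx
    rw [hK, Ideal.radical_eq_sInf, Ideal.mem_sInf]
    rintro P ⟨hJP, hP⟩
    have hP0 : P ≠ ⊥ := by
      intro h; rw [h] at hJP; exact hJ0 (le_bot_iff.mp hJP)
    exact hx P (hmax P hP0 hP)
  have hKle : ∀ m : Ideal D, m.IsMaximal → K ≤ m := fun m hm => by
    rw [hK]; exact (hm.isPrime.radical_le_iff).mpr (hJle m hm)
  let T : Finset (Ideal D) := hfin.toFinset.erase m₁
  have hT : ∀ m, m ∈ T ↔ m.IsMaximal ∧ m ≠ m₁ := by
    intro m; simp [T, and_comm]
  have hsup : m₁ ⊔ ⨅ i ∈ T, (id i : Ideal D) = ⊤ :=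
    Ideal.sup_iInf_eq_top (fun i hi => h₁.coprime_of_ne ((hT i).mp hi).1 ((hT i).mp hi).2.symm)
  have h1 : (1 : D) ∈ m₁ ⊔ ⨅ i ∈ T, (id i : Ideal D) := by rw [hsup]; trivial
  obtain ⟨a, ha, b, hb, hab⟩ := Submodule.mem_sup.mp h1
  have hb' : ∀ m : Ideal D, m.IsMaximal → m ≠ m₁ → b ∈ m := by
    intro m hm hmne
    have := (Submodule.mem_iInf _).mp hb m
    exact (Submodule.mem_iInf _).mp this ((hT m).mpr ⟨hm, hmne⟩)
  have habK : a * b ∈ K := by
    apply hKmem
    intro m hm
    by_cases hmm : m = m₁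
    · rw [hmm]; exact Ideal.mul_mem_right _ _ ha
    · exact Ideal.mul_mem_left _ _ (hb' m hm hmm)
  have hbeq : b = 1 - a := by rw [← hab]; ring
  -- Hensel
  have hH : HenselianRing D K := inferInstance
  obtain ⟨e, he, heK⟩ := hH.is_henselian (X ^ 2 - X) (by
      apply Polynomial.monic_X_pow_sub
      simp [Polynomial.degree_X]) a
    (by
      have : (X ^ 2 - X : D[X]).eval a = -(a * b) := by
        simp [hbeq]; ring
      rw [this]; exact neg_mem habK)
    (by
      have : (derivative (X ^ 2 - X : D[X])).eval a = 2 * a - 1 := by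
        simp [one_add_one_eq_two]
      rw [this]
      apply IsUnit.of_mul_eq_one (Ideal.Quotient.mk K (2 * a - 1))
      rw [← map_mul, ← map_one (Ideal.Quotient.mk K), Ideal.Quotient.eq]
      have : (2 * a - 1) * (2 * a - 1) - 1 = -4 * (a * b) := by rw [hbeq]; ring
      rw [this]
      exact Ideal.mul_mem_left _ _ habK)
  have he' : e * (e - 1) = 0 := by
    have : (X ^ 2 - X : D[X]).eval e = 0 := he
    simp at this
    rw [← this]; ring
  rcases mul_eq_zero.mp he' with h0 | h0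
  · -- e = 0, so a ∈ K ≤ m₂
    have haK : a ∈ K := by
      have : a = -(e - a) := by rw [h0]; ring
      rw [this]; exact neg_mem heK
    have : (1 : D) ∈ m₂ := by
      rw [← hab]
      exact Ideal.add_mem _ (hKle m₂ h₂ haK) (hb' m₂ h₂ (fun h => hne h.symm))
    exact h₂.ne_top ((Ideal.eq_top_iff_one _).mpr this)
  · have he1 : e = 1 := by linear_combination h0
    have hbK : b ∈ K := by
      have : b = e - a := by rw [he1, hbeq]
      rw [this]; exact heK
    have : (1 : D) ∈ m₁ := by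
      rw [← hab]
      exact Ideal.add_mem _ ha (hKle m₁ h₁ hbK)
    exact h₁.ne_top ((Ideal.eq_top_iff_one _).mpr this)


section main
variable {D : Type u} [CommRing D] [IsDomain D] [IsNoetherianRing D]

theorem dlevel_12 (J : Ideal D) (hJ0 : J ≠ ⊥) (hJ1 : J ≠ ⊤)
    (hall : ∀ P : Ideal D, P.IsPrime → P ≠ ⊥ → J ≤ P) : ringKrullDim D = 1 := by
  rw [dim_eq_one_iff]
  refine ⟨?_, fun P hP0 hP => prime_maximal J hJ0 hJ1 hall P hP0 hP⟩
  rw [Ring.not_isField_iff_exists_ideal_bot_lt_and_lt_top]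
  exact ⟨J, bot_lt_iff_ne_bot.mpr hJ0, lt_top_iff_ne_top.mpr hJ1⟩

theorem dlevel_23 (J : Ideal D) (hJ0 : J ≠ ⊥) [IsAdicComplete J D] (hdim : ringKrullDim D = 1) :
    (∀ m : Ideal D, m.IsMaximal → m = J.radical) ∧ IsAdicComplete J.radical D := by
  obtain ⟨hnf, hmax⟩ := dim_eq_one_iff.mp hdim
  have hjac : J ≤ (⊥ : Ideal D).jacobson := IsAdicComplete.le_jacobson_bot J
  obtain ⟨k, hk⟩ := J.exists_radical_pow_le_of_fg (IsNoetherian.noetherian _)
  have hcompK : IsAdicComplete J.radical D :=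
    complete_of_le_of_pow_le J J.radical Ideal.le_radical (k + 1) (Nat.succ_pos k)
      ((Ideal.pow_le_pow_right (Nat.le_succ k)).trans hk) inferInstance
  refine ⟨fun m hm => ?_, hcompK⟩
  have huniq : ∀ m' : Ideal D, m'.IsMaximal → m' = m := fun m' hm' =>
    local_of_complete J hJ0 hmax J.radical rfl hjac m' m hm' hm
  have hJm : J ≤ m := hjac.trans (by rw [Ideal.jacobson]; exact sInf_le ⟨bot_le, hm⟩)
  apply le_antisymm
  · rw [Ideal.radical_eq_sInf]
    refine le_sInf ?_
    rintro P ⟨hJP, hP⟩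
    have hP0 : P ≠ ⊥ := by
      intro h; rw [h] at hJP; exact hJ0 (le_bot_iff.mp hJP)
    rw [huniq P (hmax P hP0 hP)]
  · exact (hm.isPrime.radical_le_iff).mpr hJm

end main

theorem main (A : Type u) [CommRing A] [IsNoetherianRing A] (I : Ideal A) [IsAdicComplete I A]
    (q : PrimeSpectrum A) : List.TFAE [¬ I ≤ q.asIdeal ∧ ∀ q' : PrimeSpectrum A, q ≤ q' → ¬ I ≤ q'.asIdeal → q' = q, ringKrullDim (A ⧸ q.asIdeal) = 1 ∧ ¬ I ≤ q.asIdeal, ringKrullDim (A ⧸ q.asIdeal) = 1 ∧ (∀ m : Ideal (A ⧸ q.asIdeal), m.IsMaximal → m = (I.map (Ideal.Quotient.mk q.asIdeal)).radical) ∧ IsAdicComplete (I.map (Ideal.Quotient.mk q.asIdeal)).radical (A ⧸ q.asIdeal)] := by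
  have hDom : IsDomain (A ⧸ q.asIdeal) := Ideal.Quotient.isDomain _
  have hcomp : IsAdicComplete (I.map (Ideal.Quotient.mk q.asIdeal)) (A ⧸ q.asIdeal) :=
    quot_complete I q.asIdeal q.2.ne_top
  have hjac : I.map (Ideal.Quotient.mk q.asIdeal) ≤ (⊥ : Ideal (A ⧸ q.asIdeal)).jacobson :=
    IsAdicComplete.le_jacobson_bot _
  have hJ1 : I.map (Ideal.Quotient.mk q.asIdeal) ≠ ⊤ := by
    intro h
    rw [h, top_le_iff, Ideal.jacobson_eq_top_iff] at hjac
    exact bot_ne_top hjac
  have hJ0 : I.map (Ideal.Quotient.mk q.asIdeal) = ⊥ ↔ I ≤ q.asIdeal := by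
    rw [Ideal.map_eq_bot_iff_le_ker, Ideal.mk_ker]
  have hsurj : Function.Surjective (Ideal.Quotient.mk q.asIdeal) := Ideal.Quotient.mk_surjective
  tfae_have 1 → 2 := by
    rintro ⟨h1, h2⟩
    refine ⟨?_, h1⟩
    apply dlevel_12 _ (fun h => h1 (hJ0.mp h)) hJ1
    intro P hP hP0
    by_contra hJP
    have hq' := h2 ⟨P.comap (Ideal.Quotient.mk q.asIdeal), inferInstance⟩
      (by
        intro a ha
        change a ∈ P.comap (Ideal.Quotient.mk q.asIdeal)
        rw [Ideal.mem_comap, Ideal.Quotient.eq_zero_iff_mem.mpr ha]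
        exact zero_mem _)
      (fun hI => hJP (Ideal.map_le_iff_le_comap.mpr hI))
    apply hP0
    have h3 : P.comap (Ideal.Quotient.mk q.asIdeal) = q.asIdeal := congrArg PrimeSpectrum.asIdeal hq'
    rw [← Ideal.map_comap_of_surjective _ hsurj P, h3, Ideal.map_quotient_self]
  tfae_have 2 → 1 := by
    rintro ⟨hdim, h1⟩
    refine ⟨h1, fun q' hqq' hIq' => ?_⟩
    obtain ⟨hnf, hmax⟩ := dim_eq_one_iff.mp hdim
    by_contra hne
    have hqq'' : q.asIdeal ≤ q'.asIdeal := hqq'
    have hP : (q'.asIdeal.map (Ideal.Quotient.mk q.asIdeal)).IsPrime :=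
      Ideal.map_isPrime_of_surjective hsurj (by rw [Ideal.mk_ker]; exact hqq'')
    have hP0 : q'.asIdeal.map (Ideal.Quotient.mk q.asIdeal) ≠ ⊥ := by
      intro h
      rw [Ideal.map_eq_bot_iff_le_ker, Ideal.mk_ker] at h
      exact hne (PrimeSpectrum.ext (le_antisymm h hqq''))
    have hPmax := hmax _ hP0 hP
    have hJP : I.map (Ideal.Quotient.mk q.asIdeal) ≤ q'.asIdeal.map (Ideal.Quotient.mk q.asIdeal) :=
      hjac.trans (by rw [Ideal.jacobson]; exact sInf_le ⟨bot_le, hPmax⟩)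
    apply hIq'
    have := Ideal.map_le_iff_le_comap.mp hJP
    rw [Ideal.comap_map_of_surjective _ hsurj, ← RingHom.ker_eq_comap_bot, Ideal.mk_ker,
      sup_eq_left.mpr hqq''] at this
    exact this
  tfae_have 2 → 3 := by
    rintro ⟨hdim, h1⟩
    exact ⟨hdim, dlevel_23 _ (fun h => h1 (hJ0.mp h)) hdim⟩
  tfae_have 3 → 2 := by
    rintro ⟨hdim, hm, -⟩
    refine ⟨hdim, fun hI => ?_⟩
    obtain ⟨hnf, hmax⟩ := dim_eq_one_iff.mp hdim
    rw [hJ0.mpr hI] at hm
    obtain ⟨p, hp0, hp⟩ := Ring.not_isField_iff_exists_prime.mp hnf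
    obtain ⟨m, hmm, hpm⟩ := Ideal.exists_le_maximal p hp.ne_top
    rw [hm m hmm, Ideal.radical_bot_of_noZeroDivisors] at hpm
    exact hp0 (le_bot_iff.mp hpm)
  tfae_finish

end H5S8804

/-- Let A be a Noetherian ring which is complete for the adic topology of an ideal I, and let q be a
prime ideal of A. The following are equivalent: (1) I ⊄ q and q is maximal among the primes not
containing I; (5) dim(A/q) = 1 and I ⊄ q; (8) A/q is a one-dimensional complete local ring whose
maximal ideal is the radical of the image of I (stated as: the Krull dimension of A/q is 1, every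
maximal ideal of A/q equals the radical of I(A/q), and A/q is adically complete for that radical).
(The other equivalent forms, for other ideals of definition or for the induced topology, are not
stated.) -/
theorem result (A : Type u) [CommRing A] [IsNoetherianRing A] (I : Ideal A) [IsAdicComplete I A] (q : PrimeSpectrum A) : List.TFAE [¬ I ≤ q.asIdeal ∧ ∀ q' : PrimeSpectrum A, q ≤ q' → ¬ I ≤ q'.asIdeal → q' = q, ringKrullDim (A ⧸ q.asIdeal) = 1 ∧ ¬ I ≤ q.asIdeal, ringKrullDim (A ⧸ q.asIdeal) = 1 ∧ (∀ m : Ideal (A ⧸ q.asIdeal), m.IsMaximal → m = (I.map (Ideal.Quotient.mk q.asIdeal)).radical) ∧ IsAdicComplete (I.map (Ideal.Quotient.mk q.asIdeal)).radical (A ⧸ q.asIdeal)] := by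
  exact H5S8804.main A I q

end Groth.Agent.S8804
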