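import Groth.Statements.S11091
import Mathlib
import Groth.Agent.S8804
import Groth.Agent.Lib.helper14.FinLoc
-- import your own Groth.Agent.* helpers here

set_option autoImplicit false
universe u
attribute [local instance] FractionRing.liftAlgebra
open CAlg

namespace Groth.Agent.S11091

namespace H5S11091
open Groth.Agent.S8804

theorem main (A B : Type u) [CommRing A] [IsDomain A] [IsDiscreteValuationRing A]
    [IsAdicComplete (IsLocalRing.maximalIdeal A) A]
    [CommRing B] [IsDedekindDomain B] [Algebra A B] [Module.Finite A B] [Module.IsTorsionFree A B] :
    ∃! M : Ideal B, M.IsMaximal := by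
  have h0 : IsAdicComplete (IsLocalRing.maximalIdeal A) B := H14.FinLoc.isAdicComplete_of_finite A B
  have h1 : IsAdicComplete ((IsLocalRing.maximalIdeal A).map (algebraMap A B)) B :=
    { toIsHausdorff := IsHausdorff.map_algebraMap_iff.mpr h0.toIsHausdorff
      toIsPrecomplete := IsPrecomplete.map_algebraMap_iff.mpr h0.toIsPrecomplete }
  set J : Ideal B := (IsLocalRing.maximalIdeal A).map (algebraMap A B) with hJ
  have hinj : Function.Injective (algebraMap A B) := FaithfulSMul.algebraMap_injective A B
  have hJ0 : J ≠ ⊥ := by
    intro h
    rw [hJ, Ideal.map_eq_bot_iff_le_ker, (RingHom.injective_iff_ker_eq_bot _).mp hinj, le_bot_iff] at h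
    exact IsDiscreteValuationRing.not_a_field A h
  have hjac : J ≤ (⊥ : Ideal B).jacobson := IsAdicComplete.le_jacobson_bot J
  obtain ⟨k, hk⟩ := J.exists_radical_pow_le_of_fg (IsNoetherian.noetherian _)
  haveI hcompK : IsAdicComplete J.radical B :=
    H5S8804.complete_of_le_of_pow_le J J.radical Ideal.le_radical (k + 1) (Nat.succ_pos k)
      ((Ideal.pow_le_pow_right (Nat.le_succ k)).trans hk) h1
  have hmax : ∀ P : Ideal B, P ≠ ⊥ → P.IsPrime → P.IsMaximal := fun P hP0 hP => hP.isMaximal hP0
  obtain ⟨M, hM⟩ := Ideal.exists_maximal B
  exact ⟨M, hM, fun M' hM' => H5S8804.local_of_complete J hJ0 hmax J.radical rfl hjac M' M hM' hM⟩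

end H5S11091

/-- Let A be a complete discrete valuation ring and B a Dedekind domain which is a finite torsion-free
A-algebra whose fraction field is separable over that of A (the integral closure of A in a finite
separable extension E of the fraction field F). Then B has exactly one maximal ideal; equivalently,
since the discrete valuations of E extending a multiple of the valuation of F correspond to the
nonzero primes of B, the valuation of F extends uniquely to E, and B is a complete discrete
valuation ring. -/
theorem result (A B : Type u) [CommRing A] [IsDomain A] [IsDiscreteValuationRing A]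
    [IsAdicComplete (IsLocalRing.maximalIdeal A) A]
    [CommRing B] [IsDedekindDomain B] [Algebra A B] [Module.Finite A B] [Module.IsTorsionFree A B]
    [Algebra.IsSeparable (FractionRing A) (FractionRing B)] :
    ∃! M : Ideal B, M.IsMaximal := by
  exact H5S11091.main A B

end Groth.Agent.S11091
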