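import Groth.Statements.S11087
import Mathlib
import Groth.Agent.S11091
-- import your own Groth.Agent.* helpers here

set_option autoImplicit false
universe u
attribute [local instance] FractionRing.liftAlgebra
open CAlg

namespace Groth.Agent.S11087

namespace H5S11087
open Groth.Agent.S11091 Groth.Agent.S8804 Polynomial

theorem complete_max (A B : Type u) [CommRing A] [IsDomain A] [IsDiscreteValuationRing A]
    [IsAdicComplete (IsLocalRing.maximalIdeal A) A]
    [CommRing B] [IsDedekindDomain B] [Algebra A B] [Module.Finite A B] [Module.IsTorsionFree A B]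
    (M : Ideal B) [hM : M.IsMaximal] : IsAdicComplete M B := by
  obtain ⟨M₀, hM₀, huniq₀⟩ := H5S11091.main A B
  have huniq : ∀ M' : Ideal B, M'.IsMaximal → M' = M := fun M' hM' =>
    (huniq₀ M' hM').trans (huniq₀ M hM).symm
  have h0 : IsAdicComplete (IsLocalRing.maximalIdeal A) B := H14.FinLoc.isAdicComplete_of_finite A B
  have h1 : IsAdicComplete ((IsLocalRing.maximalIdeal A).map (algebraMap A B)) B :=
    { toIsHausdorff := IsHausdorff.map_algebraMap_iff.mpr h0.toIsHausdorff
      toIsPrecomplete := IsPrecomplete.map_algebraMap_iff.mpr h0.toIsPrecomplete }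
  set J : Ideal B := (IsLocalRing.maximalIdeal A).map (algebraMap A B) with hJ
  have hinj : Function.Injective (algebraMap A B) := FaithfulSMul.algebraMap_injective A B
  have hJ0 : J ≠ ⊥ := by
    intro h
    rw [hJ, Ideal.map_eq_bot_iff_le_ker, (RingHom.injective_iff_ker_eq_bot _).mp hinj, le_bot_iff] at h
    exact IsDiscreteValuationRing.not_a_field A h
  obtain ⟨k, hk⟩ := J.exists_radical_pow_le_of_fg (IsNoetherian.noetherian _)
  have hcompK : IsAdicComplete J.radical B :=
    H5S8804.complete_of_le_of_pow_le J J.radical Ideal.le_radical (k + 1) (Nat.succ_pos k)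
      ((Ideal.pow_le_pow_right (Nat.le_succ k)).trans hk) h1
  haveI : Algebra.IsIntegral A B := Algebra.IsIntegral.of_finite A B
  have hJM : J ≤ M := by
    rw [hJ, Ideal.map_le_iff_le_comap]
    have : (M.comap (algebraMap A B)).IsMaximal := Ideal.isMaximal_comap_of_isIntegral_of_isMaximal M
    exact (IsLocalRing.eq_maximalIdeal this).ge
  have hrad : J.radical = M := by
    apply le_antisymm
    · exact (Ideal.IsPrime.radical_le_iff hM.isPrime).2 hJM
    · rw [Ideal.radical_eq_sInf]
      apply le_sInf
      rintro P ⟨hJP, hP⟩
      have hP0 : P ≠ ⊥ := fun h => hJ0 (le_bot_iff.1 (h ▸ hJP))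
      exact (huniq P (hP.isMaximal hP0)).ge
  rw [hrad] at hcompK
  exact hcompK

section
variable {K B : Type u} [Field K] [PerfectField K] [CommRing B] [IsDomain B] [Algebra K B]
  (M : Ideal B) [hM : M.IsMaximal]

omit [PerfectField K] [IsDomain B] hM in
theorem mk_eval (p : K[X]) (c : B) :
    Ideal.Quotient.mk M ((p.map (algebraMap K B)).eval c) = aeval (Ideal.Quotient.mk M c) p := by
  rw [Polynomial.eval_map, ← Polynomial.aeval_def]
  exact (Polynomial.aeval_algHom_apply (Ideal.Quotient.mkₐ K M) c p).symm

theorem uniq (c c' : B) (hc : IsAlgebraic K c) (hc' : IsAlgebraic K c') (h : c - c' ∈ M) :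
    c = c' := by
  letI : Field (B ⧸ M) := Ideal.Quotient.field M
  have hci : IsIntegral K c := hc.isIntegral
  have hci' : IsIntegral K c' := hc'.isIntegral
  have hβ : Ideal.Quotient.mk M c = Ideal.Quotient.mk M c' := Ideal.Quotient.eq.2 h
  set g := minpoly K c with hg
  have hgirr : Irreducible g := minpoly.irreducible hci
  have hgsep : g.Separable := PerfectField.separable_of_irreducible hgirr
  have e1 : g = minpoly K (Ideal.Quotient.mk M c) := by
    apply minpoly.eq_of_irreducible_of_monic hgirr _ (minpoly.monic hci)
    rw [← mk_eval, Polynomial.eval_map, ← Polynomial.aeval_def, minpoly.aeval, map_zero]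
  have e2 : minpoly K c' = minpoly K (Ideal.Quotient.mk M c') := by
    apply minpoly.eq_of_irreducible_of_monic (minpoly.irreducible hci') _ (minpoly.monic hci')
    rw [← mk_eval, Polynomial.eval_map, ← Polynomial.aeval_def, minpoly.aeval, map_zero]
  have e3 : minpoly K c' = g := by rw [e2, ← hβ, ← e1]
  set G : B[X] := g.map (algebraMap K B) with hG
  have hGc : G.eval c = 0 := by
    rw [hG, Polynomial.eval_map, ← Polynomial.aeval_def, hg, minpoly.aeval]
  have hGc' : G.eval c' = 0 := by
    rw [hG, Polynomial.eval_map, ← Polynomial.aeval_def, ← e3, minpoly.aeval]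
  obtain ⟨k, hk⟩ := Polynomial.binomExpansion G c (c' - c)
  rw [show c + (c' - c) = c' by ring, hGc, hGc'] at hk
  have hk' : (c' - c) * (G.derivative.eval c + k * (c' - c)) = 0 := by
    linear_combination -hk
  rcases mul_eq_zero.1 hk' with h0 | h0
  · exact (sub_eq_zero.1 h0).symm
  · exfalso
    have hmem : G.derivative.eval c ∈ M := by
      have : G.derivative.eval c = -(k * (c' - c)) := by linear_combination h0
      rw [this]
      apply M.neg_mem
      apply M.mul_mem_left
      have := M.neg_mem h
      rwa [neg_sub] at this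
    rw [← Ideal.Quotient.eq_zero_iff_mem, hG, Polynomial.derivative_map, mk_eval] at hmem
    have hz : aeval (Ideal.Quotient.mk M c) g = 0 := by
      rw [e1]; exact minpoly.aeval _ _
    exact hgsep.aeval_derivative_ne_zero hz hmem

end

theorem main (K A B : Type u) [Field K]
    [PerfectField K] [CommRing A] [IsDomain A] [IsDiscreteValuationRing A]
    [IsAdicComplete (IsLocalRing.maximalIdeal A) A]
    [Algebra K A] (hK : Function.Bijective ((IsLocalRing.residue A).comp (algebraMap K A)))
    [CommRing B] [IsDedekindDomain B] [Algebra A B] [Module.Finite A B] [Module.IsTorsionFree A B]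
    [Algebra K B] [IsScalarTower K A B]
    (M : Ideal B) [hM : M.IsMaximal] (b : B) :
    ∃! c : B, IsAlgebraic K c ∧ b - c ∈ M := by
  classical
  letI : Field (B ⧸ M) := Ideal.Quotient.field M
  haveI hcomp := complete_max A B M
  haveI : HenselianRing B M := inferInstance
  haveI : Algebra.IsIntegral A B := Algebra.IsIntegral.of_finite A B
  let eK : K ≃+* IsLocalRing.ResidueField A := RingEquiv.ofBijective _ hK
  let σ : A →+* K := (eK.symm : IsLocalRing.ResidueField A →+* K).comp (IsLocalRing.residue A)
  have hσ : ∀ a : A, a - algebraMap K A (σ a) ∈ IsLocalRing.maximalIdeal A := by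
    intro a
    rw [← IsLocalRing.residue_eq_zero_iff, map_sub, sub_eq_zero]
    have : IsLocalRing.residue A (algebraMap K A (σ a)) = eK (σ a) := rfl
    rw [this]
    simp [σ]
  have hmM : ∀ a ∈ IsLocalRing.maximalIdeal A, algebraMap A B a ∈ M := by
    intro a ha
    have : (M.comap (algebraMap A B)).IsMaximal := Ideal.isMaximal_comap_of_isIntegral_of_isMaximal M
    have h2 := (IsLocalRing.eq_maximalIdeal this).ge ha
    exact h2
  have hcomm : (algebraMap K (B ⧸ M)).comp σ = algebraMap A (B ⧸ M) := by
    ext a
    have e1 : algebraMap A (B ⧸ M) a = Ideal.Quotient.mk M (algebraMap A B a) := rfl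
    have e2 : (algebraMap K (B ⧸ M)) (σ a) = Ideal.Quotient.mk M (algebraMap K B (σ a)) := rfl
    rw [RingHom.comp_apply, e1, e2, IsScalarTower.algebraMap_apply K A B, eq_comm,
      Ideal.Quotient.eq, ← map_sub]
    exact hmM _ (hσ a)
  set β := Ideal.Quotient.mk M b with hβ
  have hint : IsIntegral K β := by
    have hA : IsIntegral A β := (Algebra.IsIntegral.isIntegral b).map (Ideal.Quotient.mkₐ A M)
    obtain ⟨P, hP, hPb⟩ := hA
    refine ⟨P.map σ, hP.map σ, ?_⟩
    rw [Polynomial.eval₂_map, hcomm]; exact hPb
  set g := minpoly K β with hg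
  have hgirr : Irreducible g := minpoly.irreducible hint
  have hgsep : g.Separable := PerfectField.separable_of_irreducible hgirr
  have hgmonic : g.Monic := minpoly.monic hint
  set F : B[X] := g.map (algebraMap K B) with hF
  have h1 : F.eval b ∈ M := by
    rw [← Ideal.Quotient.eq_zero_iff_mem, hF, mk_eval]; exact minpoly.aeval K β
  have h2 : IsUnit (Ideal.Quotient.mk M (F.derivative.eval b)) := by
    rw [hF, Polynomial.derivative_map, mk_eval]
    exact (hgsep.aeval_derivative_ne_zero (minpoly.aeval K β)).isUnit
  obtain ⟨c, hc, hcb⟩ := HenselianRing.is_henselian F (hgmonic.map _) b h1 h2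
  have hcalg : IsAlgebraic K c := by
    refine ⟨g, hgmonic.ne_zero, ?_⟩
    rw [Polynomial.aeval_def, ← Polynomial.eval_map]
    exact hc
  have hbc : b - c ∈ M := by
    have := M.neg_mem hcb
    rwa [neg_sub] at this
  refine ⟨c, ⟨hcalg, hbc⟩, ?_⟩
  rintro c' ⟨hc'alg, hbc'⟩
  apply uniq M c' c hc'alg hcalg
  have : c' - c = (b - c) - (b - c') := by ring
  rw [this]
  exact M.sub_mem hbc hbc'

end H5S11087

/-- Let A be a complete discrete valuation ring and K a perfect field contained in A such that K → A →
A/m is bijective. Let B be a Dedekind domain which is a finite torsion-free A-algebra with fraction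
field separable over that of A (the integral closure of A in a finite separable extension of its
fraction field). Then for every maximal ideal M of B and every b in B there is exactly one element c
of B which is algebraic over K and congruent to b modulo M; in other words the algebraic closure of
K in B is a subfield mapping isomorphically onto B/M. -/
theorem result (K A B : Type u) [Field K]
    [PerfectField K] [CommRing A] [IsDomain A] [IsDiscreteValuationRing A]
    [IsAdicComplete (IsLocalRing.maximalIdeal A) A]
    [Algebra K A] (hK : Function.Bijective ((IsLocalRing.residue A).comp (algebraMap K A)))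
    [CommRing B] [IsDedekindDomain B] [Algebra A B] [Module.Finite A B] [Module.IsTorsionFree A B]
    [Algebra.IsSeparable (FractionRing A) (FractionRing B)] [Algebra K B] [IsScalarTower K A B]
    (M : Ideal B) [M.IsMaximal] (b : B) :
    ∃! c : B, IsAlgebraic K c ∧ b - c ∈ M := by
  exact H5S11087.main K A B hK M b

end Groth.Agent.S11087
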