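import Groth.Statements.S11088
import Mathlib
import Groth.Agent.S11091
-- import your own Groth.Agent.* helpers here

set_option autoImplicit false
universe u
attribute [local instance] FractionRing.liftAlgebra
open CAlg

namespace Groth.Agent.S11088

namespace H5S11088
open Groth.Agent.S11091

attribute [local instance] FractionRing.liftAlgebra

/-- In a Dedekind domain with a unique maximal ideal `M`, any nonzero ideal is a power of `M`. -/
theorem eq_pow (B : Type u) [CommRing B] [IsDedekindDomain B] (M : Ideal B) [hM : M.IsMaximal]
    (huniq : ∀ M' : Ideal B, M'.IsMaximal → M' = M) (I : Ideal B) (hI : I ≠ ⊥) :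
    ∃ k : ℕ, I = M ^ k := by
  obtain ⟨J, hJ, h⟩ := Ideal.eq_prime_pow_mul_coprime hI M
  have hJtop : J = ⊤ := by
    by_contra hne
    obtain ⟨M', hM', hle⟩ := Ideal.exists_le_maximal J hne
    rw [huniq M' hM'] at hle
    rw [sup_of_le_left hle] at hJ
    exact hM.ne_top hJ
  rw [hJtop, Ideal.mul_top] at h
  exact ⟨_, h⟩

theorem main (A B : Type u) [CommRing A] [IsDomain A] [IsDiscreteValuationRing A]
    [IsAdicComplete (IsLocalRing.maximalIdeal A) A]
    [CommRing B] [IsDedekindDomain B] [Algebra A B] [Module.Finite A B] [Module.IsTorsionFree A B]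
    (M : Ideal B) [hM : M.IsMaximal] (x : B) (hx : x ≠ 0) :
    emultiplicity (IsLocalRing.maximalIdeal A) (Ideal.span {Algebra.intNorm A B x}) =
      (M.inertiaDeg A : ℕ∞) * emultiplicity M (Ideal.span {x}) := by
  classical
  obtain ⟨M₀, hM₀, huniq₀⟩ := H5S11091.main A B
  have huniq : ∀ M' : Ideal B, M'.IsMaximal → M' = M := fun M' hM' =>
    (huniq₀ M' hM').trans (huniq₀ M hM).symm
  set m := IsLocalRing.maximalIdeal A with hm
  have hm0 : m ≠ ⊥ := IsDiscreteValuationRing.not_a_field A
  have hmtop : m ≠ ⊤ := Ideal.IsPrime.ne_top inferInstance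
  have hinj : Function.Injective (algebraMap A B) := FaithfulSMul.algebraMap_injective A B
  haveI : Algebra.IsIntegral A B := Algebra.IsIntegral.of_finite A B
  -- M lies over m
  haveI hlies : M.LiesOver m := by
    constructor
    have : (M.comap (algebraMap A B)).IsMaximal := Ideal.isMaximal_comap_of_isIntegral_of_isMaximal M
    exact (IsLocalRing.eq_maximalIdeal this).symm
  have hmap0 : m.map (algebraMap A B) ≠ ⊥ := Ideal.map_ne_bot_of_ne_bot hm0
  have hM0 : M ≠ ⊥ := by
    intro h
    apply hmap0
    rw [eq_bot_iff, ← h, Ideal.map_le_iff_le_comap]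
    exact (hlies.over).le
  have hMunit : ¬ IsUnit M := by
    rw [Ideal.isUnit_iff]; exact hM.ne_top
  have hmunit : ¬ IsUnit m := by
    rw [Ideal.isUnit_iff]; exact hmtop
  -- factorizations
  obtain ⟨e, he⟩ := eq_pow B M huniq _ hmap0
  have hxI : Ideal.span {x} ≠ ⊥ := by
    rw [Ne, Ideal.span_singleton_eq_bot]; exact hx
  obtain ⟨k, hk⟩ := eq_pow B M huniq _ hxI
  obtain ⟨s, hs⟩ := Ideal.exists_relNorm_eq_pow_of_isPrime M m
  -- ramification index
  have hram : M.ramificationIdx A = e := by
    rw [Ideal.IsDedekindDomain.ramificationIdx_eq_multiplicity m M hmap0, he]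
    exact multiplicity_pow_self hM0 hMunit e
  have hepos : 0 < e := by
    rw [← hram]; exact Ideal.ramificationIdx_pos M A
  -- the fundamental identity
  have hprimes : m.primesOver B = {M} := by
    ext P
    constructor
    · rintro ⟨hP, hPl⟩
      have hP0 : P ≠ ⊥ := by
        intro h
        apply hmap0
        rw [eq_bot_iff, ← h, Ideal.map_le_iff_le_comap]
        exact (hPl.over).le
      exact huniq P (hP.isMaximal hP0)
    · rintro rfl
      exact ⟨hM.isPrime, hlies⟩
  haveI : Module.Flat A B := inferInstance
  have hsum : M.ramificationIdx A * M.inertiaDeg A = Module.finrank A B := by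
    have hmem : ∀ P : Ideal B, P ∈ m.primesOver B → P = M := by
      intro P hP; rw [hprimes] at hP; exact hP
    letI : Unique (m.primesOver B) :=
      { default := ⟨M, by rw [hprimes]; rfl⟩
        uniq := fun q => Subtype.ext (hmem q.1 q.2) }
    have := Ideal.sum_ramification_inertia_eq_finrank m B
    rw [Fintype.sum_unique] at this
    exact this
  -- relative norm of m B
  have hn : m ^ Module.finrank A B = m ^ (s * e) := by
    rw [← Ideal.relNorm_algebraMap B m, he, map_pow, hs, ← pow_mul]
  have hn' : Module.finrank A B = s * e := pow_injective_of_not_isUnit hmunit hm0 hn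
  have hsf : s = M.inertiaDeg A := by
    rw [← hsum, hram, mul_comm] at hn'
    exact (Nat.eq_of_mul_eq_mul_right hepos hn').symm
  -- conclusion
  have h1 : Ideal.span {Algebra.intNorm A B x} = m ^ (s * k) := by
    rw [← Ideal.relNorm_singleton, hk, map_pow, hs, ← pow_mul]
  rw [h1, hk, emultiplicity_pow_self hm0 hmunit, emultiplicity_pow_self hM0 hMunit, hsf]
  push_cast
  rfl

end H5S11088

/-- Let A be a complete discrete valuation ring with maximal ideal m and B a Dedekind domain which is a
finite torsion-free A-algebra with fraction field separable over that of A (the integral closure of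
A in a finite separable extension). Then for every maximal ideal M of B, with f the degree of B/M
over A/m, and every nonzero x in B, the multiplicity of m in the ideal generated by the norm of x
equals f times the multiplicity of M in the ideal generated by x: v(N(x)) = f · w(x). -/
theorem result (A B : Type u) [CommRing A] [IsDomain A] [IsDiscreteValuationRing A]
    [IsAdicComplete (IsLocalRing.maximalIdeal A) A]
    [CommRing B] [IsDedekindDomain B] [Algebra A B] [Module.Finite A B] [Module.IsTorsionFree A B]
    [Algebra.IsSeparable (FractionRing A) (FractionRing B)]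
    (M : Ideal B) [M.IsMaximal] (x : B) (hx : x ≠ 0) :
    emultiplicity (IsLocalRing.maximalIdeal A) (Ideal.span {Algebra.intNorm A B x}) =
      (M.inertiaDeg A : ℕ∞) * emultiplicity M (Ideal.span {x}) := by
  exact H5S11088.main A B M x hx

end Groth.Agent.S11088
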