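import Groth.Statements.S11089
import Mathlib
import Groth.Agent.S11087
import Groth.Agent.S11088
-- import your own Groth.Agent.* helpers here

set_option autoImplicit false
universe u
attribute [local instance] FractionRing.liftAlgebra
open CAlg

namespace Groth.Agent.S11089

namespace H5S11089
open Groth.Agent.S11091 Groth.Agent.S11087 Groth.Agent.S11088 Polynomial

attribute [local instance] FractionRing.liftAlgebra

theorem main (A B : Type u) [CommRing A] [IsDomain A] [IsDiscreteValuationRing A]
    [IsAdicComplete (IsLocalRing.maximalIdeal A) A]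
    [CommRing B] [IsDedekindDomain B] [Algebra A B] [Module.Finite A B] [Module.IsTorsionFree A B]
    (M : Ideal B) [hM : M.IsMaximal] (hram : M.ramificationIdx A = Module.finrank A B)
    (hm : IsUnit ((Module.finrank A B : ℕ) : A)) :
    ∃ u : B, u ∈ M ∧ u ∉ M ^ 2 ∧ u ^ Module.finrank A B ∈ (algebraMap A B).range ∧
      (minpoly A u).natDegree = Module.finrank A B := by
  classical
  obtain ⟨M₀, hM₀, huniq₀⟩ := H5S11091.main A B
  have huniq : ∀ M' : Ideal B, M'.IsMaximal → M' = M := fun M' hM' =>
    (huniq₀ M' hM').trans (huniq₀ M hM).symm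
  set n := Module.finrank A B with hn
  set m := IsLocalRing.maximalIdeal A with hmdef
  have hm0 : m ≠ ⊥ := IsDiscreteValuationRing.not_a_field A
  have hinj : Function.Injective (algebraMap A B) := FaithfulSMul.algebraMap_injective A B
  haveI : Algebra.IsIntegral A B := Algebra.IsIntegral.of_finite A B
  haveI hlies : M.LiesOver m := by
    constructor
    have : (M.comap (algebraMap A B)).IsMaximal := Ideal.isMaximal_comap_of_isIntegral_of_isMaximal M
    exact (IsLocalRing.eq_maximalIdeal this).symm
  have hmap0 : m.map (algebraMap A B) ≠ ⊥ := Ideal.map_ne_bot_of_ne_bot hm0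
  have hM0 : M ≠ ⊥ := by
    intro h
    apply hmap0
    rw [eq_bot_iff, ← h, Ideal.map_le_iff_le_comap]
    exact (hlies.over).le
  have hMunit : ¬ IsUnit M := by
    rw [Ideal.isUnit_iff]; exact hM.ne_top
  have hn0 : n ≠ 0 := by
    intro h0
    rw [h0, Nat.cast_zero] at hm
    exact not_isUnit_zero hm
  -- map m = M ^ n
  obtain ⟨e, he⟩ := H5S11088.eq_pow B M huniq _ hmap0
  have hram' : M.ramificationIdx A = e := by
    rw [Ideal.IsDedekindDomain.ramificationIdx_eq_multiplicity m M hmap0, he]
    exact multiplicity_pow_self hM0 hMunit e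
  have hen : e = n := hram'.symm.trans hram
  rw [hen] at he
  -- inertia degree one
  have hprimes : m.primesOver B = {M} := by
    ext P
    constructor
    · rintro ⟨hP, hPl⟩
      have hP0 : P ≠ ⊥ := by
        intro h
        apply hmap0
        rw [eq_bot_iff, ← h, Ideal.map_le_iff_le_comap]
        exact (hPl.over).le
      exact huniq P (hP.isMaximal hP0)
    · rintro rfl
      exact ⟨hM.isPrime, hlies⟩
  have hsum : M.ramificationIdx A * M.inertiaDeg A = n := by
    have hmem : ∀ P : Ideal B, P ∈ m.primesOver B → P = M := by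
      intro P hP; rw [hprimes] at hP; exact hP
    letI : Unique (m.primesOver B) :=
      { default := ⟨M, by rw [hprimes]; rfl⟩
        uniq := fun q => Subtype.ext (hmem q.1 q.2) }
    have := Ideal.sum_ramification_inertia_eq_finrank m B
    rw [Fintype.sum_unique] at this
    exact this
  have hf1 : M.inertiaDeg A = 1 := by
    rw [hram] at hsum
    exact Nat.eq_of_mul_eq_mul_left (Nat.pos_of_ne_zero hn0) (by rw [hsum, mul_one])
  -- residue surjectivity
  have hres : ∀ w : B, ∃ a : A, w - algebraMap A B a ∈ M := by
    intro w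
    letI : Field (A ⧸ m) := Ideal.Quotient.field m
    have h1 : Module.finrank (A ⧸ m) (B ⧸ M) = 1 := by
      rw [← Ideal.inertiaDeg_eq_of_isMaximal m M]; exact hf1
    have hbij := (Algebra.finrank_eq_one_iff_bijective_algebraMap).1 h1
    obtain ⟨abar, ha⟩ := hbij.2 (Ideal.Quotient.mk M w)
    obtain ⟨a, rfl⟩ := Ideal.Quotient.mk_surjective abar
    refine ⟨a, ?_⟩
    rw [Ideal.Quotient.algebraMap_mk_of_liesOver] at ha
    exact Ideal.Quotient.eq.1 ha.symm
  -- local: elements outside M are units
  have hunit : ∀ x : B, x ∉ M → IsUnit x := by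
    intro x hx
    by_contra hnu
    obtain ⟨M', hM', hxM'⟩ := exists_max_ideal_of_mem_nonunits hnu
    rw [huniq M' hM'] at hxM'
    exact hx hxM'
  -- uniformizers
  obtain ⟨ϖ, hϖ⟩ := IsDiscreteValuationRing.exists_irreducible A
  have hmϖ : m = Ideal.span {ϖ} := hϖ.maximalIdeal_eq
  obtain ⟨t, htM, htM2⟩ := Ideal.exists_mem_pow_notMem_pow_succ M hM0 hM.ne_top 1
  rw [pow_one] at htM
  have ht0 : t ≠ 0 := by
    rintro rfl
    exact htM2 (Ideal.zero_mem _)
  have htspan : Ideal.span {t} = M := by
    have : Ideal.span {t} ≠ ⊥ := by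
      rw [Ne, Ideal.span_singleton_eq_bot]; exact ht0
    obtain ⟨k, hk⟩ := H5S11088.eq_pow B M huniq _ this
    have hk1 : k = 1 := by
      rcases Nat.lt_trichotomy k 1 with h | h | h
      · exfalso
        have hk0 : k = 0 := by omega
        rw [hk0, pow_zero, Ideal.one_eq_top, Ideal.span_singleton_eq_top] at hk
        exact hM.ne_top (Ideal.eq_top_of_isUnit_mem _ htM hk)
      · exact h
      · exfalso
        apply htM2
        have : t ∈ M ^ k := hk ▸ Ideal.mem_span_singleton_self t
        exact Ideal.pow_le_pow_right (by omega) this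
    rw [hk, hk1, pow_one]
  have hassoc : Associated (t ^ n) (algebraMap A B ϖ) := by
    rw [← Ideal.span_singleton_eq_span_singleton, ← Ideal.span_singleton_pow, htspan, ← he, hmϖ,
      Ideal.map_span, Set.image_singleton]
  obtain ⟨w, hw⟩ := hassoc
  obtain ⟨a, ha⟩ := hres (w : B)
  have ham : a ∉ m := by
    intro ham
    have h1 : algebraMap A B a ∈ M := by
      have := (hlies.over).le ham
      exact this
    have h2 : (w : B) ∈ M := by
      have := M.add_mem ha h1
      rwa [sub_add_cancel] at this
    exact hM.ne_top (Ideal.eq_top_of_isUnit_mem _ h2 w.isUnit)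
  have hau : IsUnit a := by
    by_contra h
    exact ham ((IsLocalRing.mem_maximalIdeal a).2 h)
  obtain ⟨a', rfl⟩ := hau
  set w₁ : B := (w : B) * algebraMap A B ((a'⁻¹ : Aˣ) : A) with hw₁
  have hw₁M : w₁ - 1 ∈ M := by
    have : w₁ - 1 = ((w : B) - algebraMap A B (a' : A)) * algebraMap A B ((a'⁻¹ : Aˣ) : A) := by
      rw [hw₁, sub_mul, ← map_mul, Units.mul_inv, map_one]
    rw [this]
    exact M.mul_mem_right _ ha
  -- Hensel
  haveI hcomp := H5S11087.complete_max A B M
  haveI : HenselianRing B M := inferInstance
  have hnB : IsUnit ((n : ℕ) : B) := by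
    have := hm.map (algebraMap A B)
    rwa [map_natCast] at this
  obtain ⟨v, hv, hv1⟩ := HenselianRing.is_henselian (X ^ n - C w₁ : B[X]) (monic_X_pow_sub_C w₁ hn0)
    1 (by
      simp only [eval_sub, eval_pow, eval_X, one_pow, eval_C]
      have := M.neg_mem hw₁M
      rwa [neg_sub] at this) (by
      simp only [derivative_sub, derivative_X_pow, derivative_C, sub_zero, eval_mul, eval_C,
        eval_pow, eval_X, one_pow, mul_one]
      have := hnB.map (Ideal.Quotient.mk M)
      simpa using this)
  have hvn : v ^ n = w₁ := by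
    have := hv
    simp only [IsRoot.def, eval_sub, eval_pow, eval_X, eval_C] at this
    exact sub_eq_zero.1 this
  have hvM : v ∉ M := by
    intro hvM
    apply hM.ne_top
    rw [Ideal.eq_top_iff_one]
    have := M.sub_mem hvM hv1
    rwa [sub_sub_cancel] at this
  obtain ⟨v', rfl⟩ := hunit v hvM
  -- the uniformizer
  set c : A := ϖ * ((a'⁻¹ : Aˣ) : A) with hc
  have hun : (t * (v' : B)) ^ n = algebraMap A B c := by
    rw [mul_pow, hvn, hw₁, ← mul_assoc, hw, hc, map_mul]
  refine ⟨t * (v' : B), M.mul_mem_right _ htM, ?_, ⟨c, hun.symm⟩, ?_⟩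
  · intro h2
    apply htM2
    have := (M ^ 2).mul_mem_right ((v'⁻¹ : Bˣ) : B) h2
    rwa [mul_assoc, Units.mul_inv, mul_one] at this
  · -- minimal polynomial
    have hcm : c ∈ m := by
      rw [hc, hmϖ]
      exact Ideal.mul_mem_right _ _ (Ideal.mem_span_singleton_self ϖ)
    have hcm2 : c ∉ m ^ 2 := by
      intro h2
      rw [hmϖ, Ideal.span_singleton_pow, Ideal.mem_span_singleton] at h2
      obtain ⟨r, hr⟩ := h2
      have h3 : ((a'⁻¹ : Aˣ) : A) = ϖ * r := by
        have h4 : ϖ * ((a'⁻¹ : Aˣ) : A) = ϖ * (ϖ * r) := by rw [← hc, hr]; ring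
        exact mul_left_cancel₀ hϖ.ne_zero h4
      have h5 : ((a'⁻¹ : Aˣ) : A) ∈ m := by
        rw [h3, hmϖ]
        exact Ideal.mul_mem_right _ _ (Ideal.mem_span_singleton_self ϖ)
      exact (IsLocalRing.mem_maximalIdeal _).1 h5 (a'⁻¹).isUnit
    set g : A[X] := X ^ n - C c with hg
    have hgmonic : g.Monic := monic_X_pow_sub_C c hn0
    have hgdeg : g.natDegree = n := natDegree_X_pow_sub_C
    have hgirr : Irreducible g := by
      apply Polynomial.irreducible_of_eisenstein_criterion (P := m) (IsLocalRing.maximalIdeal.isMaximal A).isPrime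
      · rw [hgmonic.leadingCoeff]
        exact fun h1 => (IsLocalRing.maximalIdeal.isMaximal A).ne_top ((Ideal.eq_top_iff_one _).2 h1)
      · intro k hk
        rw [Polynomial.degree_eq_natDegree hgmonic.ne_zero, hgdeg, Nat.cast_lt] at hk
        rw [hg, coeff_sub, coeff_X_pow, if_neg hk.ne, coeff_C]
        split_ifs
        · simpa using hcm
        · simp
      · rw [Polynomial.degree_eq_natDegree hgmonic.ne_zero, hgdeg]
        exact_mod_cast Nat.pos_of_ne_zero hn0
      · rw [hg, coeff_sub, coeff_X_pow, if_neg (Ne.symm hn0), coeff_C_zero, zero_sub]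
        intro h1
        apply hcm2
        have := (m ^ 2).neg_mem h1
        rwa [neg_neg] at this
      · exact hgmonic.isPrimitive
    have hint : IsIntegral A (t * (v' : B)) := Algebra.IsIntegral.isIntegral _
    have haeval : aeval (t * (v' : B)) g = 0 := by
      rw [hg, map_sub, map_pow, aeval_X, aeval_C, hun, sub_self]
    obtain ⟨q, hq⟩ := minpoly.isIntegrallyClosed_dvd hint haeval
    rcases hgirr.isUnit_or_isUnit hq with h1 | h1
    · exact absurd h1 (minpoly.not_isUnit A _)
    · have hq0 : q.natDegree = 0 := natDegree_eq_zero_of_isUnit h1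
      have : g.natDegree = (minpoly A (t * (v' : B))).natDegree + q.natDegree := by
        rw [hq]
        apply natDegree_mul (minpoly.ne_zero hint)
        rintro rfl
        rw [mul_zero] at hq
        exact hgmonic.ne_zero hq
      rw [hq0, add_zero, hgdeg] at this
      exact this.symm

end H5S11089

/-- Let A be a complete discrete valuation ring containing a field K with K → A → A/m bijective, and B a
Dedekind domain which is a finite torsion-free A-algebra of rank m with fraction field separable
over that of A (the integral closure of A in a finite separable extension E of F = Frac A). If the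
extension is totally ramified — the maximal ideal M of B has ramification index m — and m is a unit
in A, then some uniformizer u of B (an element of M not in M²) satisfies u^m ∈ A and generates E
over F: its minimal polynomial over A has degree m. -/
theorem result (K A B : Type u) [Field K]
    [CommRing A] [IsDomain A] [IsDiscreteValuationRing A]
    [IsAdicComplete (IsLocalRing.maximalIdeal A) A]
    [Algebra K A] (hK : Function.Bijective ((IsLocalRing.residue A).comp (algebraMap K A)))
    [CommRing B] [IsDedekindDomain B] [Algebra A B] [Module.Finite A B] [Module.IsTorsionFree A B]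
    [Algebra.IsSeparable (FractionRing A) (FractionRing B)]
    (M : Ideal B) [M.IsMaximal] (hram : M.ramificationIdx A = Module.finrank A B)
    (hm : IsUnit ((Module.finrank A B : ℕ) : A)) :
    ∃ u : B, u ∈ M ∧ u ∉ M ^ 2 ∧ u ^ Module.finrank A B ∈ (algebraMap A B).range ∧
      (minpoly A u).natDegree = Module.finrank A B := by
  exact H5S11089.main A B M hram hm

end Groth.Agent.S11089
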