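import Groth.Statements.S11092
import Mathlib
import Groth.Agent.Lib.helper24.FunFieldOmega

set_option autoImplicit false
universe u v
open CAlg

namespace Groth.Agent.S11092



/-- Let k be an algebraically closed field, K a field finitely generated over k admitting a one-element
transcendence basis over k (a function field of dimension one), and L a finite extension field of K
with the compatible k-algebra structure. Then the K-linear map from the Kähler differentials of K
over k to those of L over k induced by the inclusion is either the zero map or injective, and it is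
injective if and only if L is separable over K. (The published statement takes K ⊆ L to be the
function fields of two elliptic curves related by a nonzero homomorphism; its proof uses only that
they are function fields of dimension one over k.) -/
theorem result (k : Type u) (K L : Type v)
    [Field k] [IsAlgClosed k] [Field K] [Field L] [Algebra k K] [Algebra k L] [Algebra K L]
    [IsScalarTower k K L] (hK : (⊤ : IntermediateField k K).FG)
    (hx : ∃ x : K, IsTranscendenceBasis k (fun _ : Unit => x)) [FiniteDimensional K L] :
    (KaehlerDifferential.map k k K L = 0 ∨ Function.Injective (KaehlerDifferential.map k k K L)) ∧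
      (Function.Injective (KaehlerDifferential.map k k K L) ↔ Algebra.IsSeparable K L) := by
  haveI : Algebra.EssFiniteType k K := IntermediateField.fg_top_iff.1 hK
  haveI : Algebra.EssFiniteType k L := Algebra.EssFiniteType.comp k K L
  obtain ⟨x, hx⟩ := hx
  have htK : Algebra.trdeg k K = 1 := by
    have := hx.lift_cardinalMk_eq_trdeg
    simp only [Cardinal.mk_fintype, Fintype.card_unit, Nat.cast_one, Cardinal.lift_one,
      Cardinal.lift_uzero] at this
    exact this.symm
  have htL : Algebra.trdeg k L = 1 := by
    rw [← trdeg_add_eq k K (A := L), htK, trdeg_eq_zero, add_zero]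
  have hK1 : Module.finrank K (Ω[K⁄k]) = 1 := by
    apply Module.finrank_eq_of_rank_eq
    rw [Groth.Agent.Lib.helper24.FunFieldOmega.rank_eq_trdeg, htK, Nat.cast_one]
  have hL1 : Module.finrank L (Ω[L⁄k]) = 1 := by
    apply Module.finrank_eq_of_rank_eq
    rw [Groth.Agent.Lib.helper24.FunFieldOmega.rank_eq_trdeg, htL, Nat.cast_one]
  obtain ⟨ω, hω, hgen⟩ := finrank_eq_one_iff'.1 hK1
  have hsm : ∀ (c : K) (y : Ω[L⁄k]), c • y = 0 → c = 0 ∨ y = 0 := by
    intro c y h
    rw [← algebraMap_smul L c y, smul_eq_zero] at h
    rcases h with h | h
    · left
      exact (map_eq_zero_iff _ (algebraMap K L).injective).1 h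
    · right; exact h
  have hinj_iff : Function.Injective (KaehlerDifferential.map k k K L) ↔
      KaehlerDifferential.map k k K L ω ≠ 0 := by
    constructor
    · intro h h0
      exact hω (h (by rw [h0, map_zero]))
    · intro h
      rw [injective_iff_map_eq_zero]
      intro w hw
      obtain ⟨c, rfl⟩ := hgen w
      rw [map_smul] at hw
      rcases hsm c _ hw with h' | h'
      · rw [h', zero_smul]
      · exact absurd h' h
  refine ⟨?_, ?_⟩
  · by_cases h : KaehlerDifferential.map k k K L ω = 0
    · left
      refine LinearMap.ext fun w => ?_
      obtain ⟨c, rfl⟩ := hgen w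
      rw [map_smul, h, smul_zero, LinearMap.zero_apply]
    · right
      exact hinj_iff.2 h
  · rw [hinj_iff]
    constructor
    · intro h
      have hspan := (finrank_eq_one_iff_of_nonzero' _ h).1 hL1
      haveI : Subsingleton (Ω[L⁄K]) := by
        refine ⟨fun a b => ?_⟩
        have h0 : ∀ z : Ω[L⁄K], z = 0 := by
          intro z
          obtain ⟨y, rfl⟩ := KaehlerDifferential.map_surjective k K L z
          obtain ⟨c, rfl⟩ := hspan y
          apply (KaehlerDifferential.exact_mapBaseChange_map k K L _).2
          refine ⟨c ⊗ₜ ω, ?_⟩
          rw [KaehlerDifferential.mapBaseChange_tmul]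
        rw [h0 a, h0 b]
      haveI : Algebra.FormallyUnramified K L := ⟨inferInstance⟩
      exact Algebra.FormallyUnramified.isSeparable K L
    · intro h h0
      haveI : Algebra.FormallyEtale K L := Algebra.FormallyEtale.of_isSeparable K L
      have h1 : KaehlerDifferential.tensorKaehlerEquivOfFormallyEtale k K L (1 ⊗ₜ ω) = 0 := by
        change KaehlerDifferential.mapBaseChange k K L (1 ⊗ₜ ω) = 0
        rw [KaehlerDifferential.mapBaseChange_tmul, one_smul, h0]
      have h2 : (1 : L) ⊗ₜ[K] ω = 0 := by
        rw [← map_zero (KaehlerDifferential.tensorKaehlerEquivOfFormallyEtale k K L)] at h1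
        exact (KaehlerDifferential.tensorKaehlerEquivOfFormallyEtale k K L).injective h1
      have h3 := Module.Flat.tensorProduct_mk_injective K (Ω[K⁄k]) L
      apply hω
      apply h3
      rw [map_zero]
      exact h2

end Groth.Agent.S11092
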