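import Groth.Statements.S11095
import Mathlib
-- import your own Groth.Agent.* helpers here

set_option autoImplicit false
universe u
open CAlg

namespace Groth.Agent.S11095

namespace H5S11095

open Polynomial TensorProduct

variable {K₀ F₀ : Type u} [Field K₀] [Field F₀] [Algebra K₀ F₀]

/-- a monic polynomial over `F₀` dividing (the image of) a monic polynomial over `K₀` has
coefficients in `K₀`, when `K₀` is algebraically closed in `F₀`. -/
theorem lifts_of_dvd (h : algebraicClosure K₀ F₀ = ⊥) {f : K₀[X]} (hf : f.Monic) {a : F₀[X]}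
    (ha : a.Monic) (hd : a ∣ f.map (algebraMap K₀ F₀)) :
    ∃ a₀ : K₀[X], a₀.map (algebraMap K₀ F₀) = a := by
  have h1 := integralClosure.mem_lifts_of_monic_of_dvd_map F₀ hf ha hd
  rw [Polynomial.lifts_iff_coeff_lifts] at h1
  have h2 : ∀ n, a.coeff n ∈ (algebraMap K₀ F₀).rangeS := by
    intro n
    obtain ⟨y, hy⟩ := h1 n
    have : (y : F₀) ∈ algebraicClosure K₀ F₀ := y.2
    rw [h, IntermediateField.mem_bot] at this
    obtain ⟨z, hz⟩ := this
    exact ⟨z, by rw [hz, ← hy]; rfl⟩
  have h3 : a ∈ Polynomial.lifts (algebraMap K₀ F₀) := (Polynomial.lifts_iff_coeff_lifts a).2 h2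
  exact h3

theorem irr (h : algebraicClosure K₀ F₀ = ⊥) {f : K₀[X]} (hf : f.Monic) (hirr : Irreducible f) :
    Irreducible (f.map (algebraMap K₀ F₀)) := by
  have hinj : Function.Injective (algebraMap K₀ F₀) := (algebraMap K₀ F₀).injective
  have hmapinj := Polynomial.map_injective _ hinj
  have hf1 : f ≠ 1 := fun h1 => hirr.not_isUnit (h1 ▸ isUnit_one)
  have hmf1 : f.map (algebraMap K₀ F₀) ≠ 1 := by
    intro h1
    apply hf1
    apply hmapinj
    rw [h1, Polynomial.map_one]
  rw [Polynomial.irreducible_of_monic (hf.map _) hmf1]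
  intro a b ha hb hab
  obtain ⟨a₀, rfl⟩ := lifts_of_dvd h hf ha ⟨b, hab.symm⟩
  obtain ⟨b₀, rfl⟩ := lifts_of_dvd h hf hb ⟨_, hab.symm.trans (mul_comm _ _)⟩
  have ha₀ : a₀.Monic := Polynomial.monic_of_injective hinj ha
  have hb₀ : b₀.Monic := Polynomial.monic_of_injective hinj hb
  have hab₀ : a₀ * b₀ = f := by
    apply hmapinj
    rw [Polynomial.map_mul, hab]
  rcases (Polynomial.irreducible_of_monic hf hf1).1 hirr a₀ b₀ ha₀ hb₀ hab₀ with h1 | h1
  · left; rw [h1, Polynomial.map_one]
  · right; rw [h1, Polynomial.map_one]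

theorem prime_of_map_equiv (A B : Type u) [CommRing A] [CommRing B] (r : A ≃+* B) (q : A[X])
    (h : Prime (q.map (r : A →+* B))) : Prime q := by
  have h2 : Prime ((Polynomial.mapEquiv r) q) := h
  exact (MulEquiv.prime_iff (Polynomial.mapEquiv r)).1 h2

/-- `F₀ ⊗ AdjoinRoot f` is a domain for `f` monic irreducible. -/
theorem isDomain_adjoinRoot (h : algebraicClosure K₀ F₀ = ⊥) {f : K₀[X]} (hf : f.Monic)
    (hirr : Irreducible f) : IsDomain (F₀ ⊗[K₀] AdjoinRoot f) := by
  set q : (F₀ ⊗[K₀] K₀)[X] := f.map (Algebra.TensorProduct.includeRight (R := K₀) (A := F₀) (B := K₀)).toRingHom with hq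
  let e := AdjoinRoot.tensorAlgEquiv (R := K₀) (T := F₀) f q rfl
  -- q is irreducible
  let r : (F₀ ⊗[K₀] K₀) ≃+* F₀ := (Algebra.TensorProduct.rid K₀ F₀ F₀).toRingEquiv
  have hqr : q.map (r : (F₀ ⊗[K₀] K₀) →+* F₀) = f.map (algebraMap K₀ F₀) := by
    rw [hq, Polynomial.map_map]
    congr 1
    ext x
    simp [r, Algebra.algebraMap_eq_smul_one]
  have hqirr : Prime q := by
    have := (irr h hf hirr).prime
    rw [← hqr] at this
    exact prime_of_map_equiv _ _ r q this
  haveI : IsDomain (AdjoinRoot q) := AdjoinRoot.isDomain_of_prime hqirr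
  exact e.toMulEquiv.isDomain (AdjoinRoot q)

theorem isDomain_finite (h : algebraicClosure K₀ F₀ = ⊥) (L : Type u) [Field L] [Algebra K₀ L]
    [FiniteDimensional K₀ L] [Algebra.IsSeparable K₀ L] : IsDomain (F₀ ⊗[K₀] L) := by
  let pb := Field.powerBasisOfFiniteOfSeparable K₀ L
  have hint : IsIntegral K₀ pb.gen := Algebra.IsIntegral.isIntegral _
  let e : AdjoinRoot (minpoly K₀ pb.gen) ≃ₐ[K₀] L :=
    AdjoinRoot.equiv' (minpoly K₀ pb.gen) pb (by simp) (minpoly.aeval _ _)
  haveI := isDomain_adjoinRoot h (minpoly.monic hint) (minpoly.irreducible hint)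
  let e' : F₀ ⊗[K₀] AdjoinRoot (minpoly K₀ pb.gen) ≃ₐ[K₀] F₀ ⊗[K₀] L :=
    Algebra.TensorProduct.congr AlgEquiv.refl e
  exact e'.symm.toMulEquiv.isDomain _

theorem eq_zero_of_mul {A : Type u} [CommRing A] [IsDomain A] (a b : A) (h : a * b = 0) :
    a = 0 ∨ b = 0 := mul_eq_zero.1 h

theorem isDomain_tensor (K : Type u) [Field K] [Algebra K₀ K] [PerfectField K₀]
    [Algebra.IsAlgebraic K₀ K] (h : algebraicClosure K₀ F₀ = ⊥) : IsDomain (F₀ ⊗[K₀] K) := by
  haveI : Nontrivial (F₀ ⊗[K₀] K) :=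
    (Algebra.TensorProduct.includeLeft_injective (R := K₀) (S := K₀) (A := F₀) (B := K)
      (algebraMap K₀ K).injective).nontrivial
  haveI : NoZeroDivisors (F₀ ⊗[K₀] K) := by
    constructor
    intro x y hxy
    obtain ⟨N', hfin, hN'⟩ :=
      TensorProduct.exists_finite_submodule_right_of_setFinite ({x, y} : Set (F₀ ⊗[K₀] K))
        (Set.toFinite _)
    obtain ⟨S, hS⟩ : N'.FG := (Module.Finite.iff_fg).1 hfin
    let K' : IntermediateField K₀ K := IntermediateField.adjoin K₀ (S : Set K)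
    haveI : FiniteDimensional K₀ K' :=
      IntermediateField.finiteDimensional_adjoin fun x _ => Algebra.IsIntegral.isIntegral x
    haveI := isDomain_finite h K'
    have hle : N' ≤ K'.toSubalgebra.toSubmodule := by
      rw [← hS, Submodule.span_le]
      exact IntermediateField.subset_adjoin K₀ _
    let φ : F₀ ⊗[K₀] K' →ₐ[K₀] F₀ ⊗[K₀] K :=
      Algebra.TensorProduct.map (AlgHom.id K₀ F₀) K'.val
    have hφ : (φ : F₀ ⊗[K₀] K' → F₀ ⊗[K₀] K) = (K'.val.toLinearMap.lTensor F₀) := by
      ext z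
      induction z using TensorProduct.induction_on with
      | zero => simp
      | tmul a b => simp [φ]
      | add a b ha hb => simp only [map_add, ha, hb]
    have hφinj : Function.Injective φ := by
      rw [hφ]
      exact Module.Flat.lTensor_preserves_injective_linearMap _ K'.val.injective
    have hrange : ∀ z ∈ ({x, y} : Set (F₀ ⊗[K₀] K)), ∃ z', φ z' = z := by
      intro z hz
      obtain ⟨w, hw⟩ := hN' hz
      refine ⟨(Submodule.inclusion hle).lTensor F₀ w, ?_⟩
      rw [hφ, ← hw, ← LinearMap.comp_apply, ← LinearMap.lTensor_comp]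
      rfl
    obtain ⟨x', hx'⟩ := hrange x (by simp)
    obtain ⟨y', hy'⟩ := hrange y (by simp)
    have : x' * y' = 0 := by
      apply hφinj
      rw [map_mul, hx', hy', hxy, map_zero]
    rcases eq_zero_of_mul x' y' this with h0 | h0
    · left; rw [← hx', h0, map_zero]
    · right; rw [← hy', h0, map_zero]
  exact NoZeroDivisors.to_isDomain _

theorem main (K₀ F₀ K : Type u)
    [Field K₀] [PerfectField K₀] [Field F₀] [Algebra K₀ F₀] [Field K] [Algebra K₀ K]
    [Algebra.IsAlgebraic K₀ K] (h : algebraicClosure K₀ F₀ = ⊥) :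
    IsField (TensorProduct K₀ F₀ K) := by
  haveI := isDomain_tensor (F₀ := F₀) K h
  exact Algebra.TensorProduct.isField_of_isAlgebraic K₀ F₀ K (Or.inr inferInstance)

end H5S11095

/-- Let K₀ be a perfect field, K an algebraic extension of K₀ and F₀ a field extension of K₀ such that
K₀ is algebraically closed in F₀. Then the K₀-algebra F₀ ⊗ K is a field; consequently F₀ and K,
embedded in it by x ↦ x ⊗ 1 and y ↦ 1 ⊗ y, are linearly disjoint over K₀. -/
theorem result (K₀ F₀ K : Type u)
    [Field K₀] [PerfectField K₀] [Field F₀] [Algebra K₀ F₀] [Field K] [Algebra K₀ K]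
    [Algebra.IsAlgebraic K₀ K] (h : algebraicClosure K₀ F₀ = ⊥) :
    IsField (TensorProduct K₀ F₀ K) := by
  exact H5S11095.main K₀ F₀ K h

end Groth.Agent.S11095
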