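import Groth.Statements.S11097
import Mathlib
-- import your own Groth.Agent.* helpers here

set_option autoImplicit false
universe u
open Polynomial
open Neron

namespace Groth.Agent.S11097

namespace H5S11097

open Polynomial WeierstrassCurve.Affine


variable {R : Type u} [CommRing R] (W : WeierstrassCurve.Affine R)

/-- decomposition: any element of the coordinate ring is `algebraMap c + x * s + t * y`. -/
lemma decomp (b : W.CoordinateRing) :
    ∃ (c : R) (s t : W.CoordinateRing),
      b = algebraMap R W.CoordinateRing c + CoordinateRing.mk W (C X) * s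
        + t * CoordinateRing.mk W X ∧
      ∃ p q : R[X], b = p • (1 : W.CoordinateRing) + q • CoordinateRing.mk W X ∧ c = p.coeff 0 := by
  obtain ⟨p, q, rfl⟩ := CoordinateRing.exists_smul_basis_eq b
  refine ⟨p.coeff 0, CoordinateRing.mk W (C p.divX), CoordinateRing.mk W (C q), ?_, p, q, rfl, rfl⟩
  rw [CoordinateRing.smul, CoordinateRing.smul, mul_one]
  congr 1
  conv_lhs => rw [← Polynomial.divX_mul_X_add p]
  rw [C_add, map_add, C_mul, map_mul, add_comm, mul_comm]
  congr 1

end H5S11097

namespace H5S11097

open Polynomial WeierstrassCurve.Affine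


variable {R : Type u} [CommRing R] (W : WeierstrassCurve.Affine R)

/-- the Weierstrass relation puts `a₆` in the ideal `(x, y)`. -/
lemma a6_mem :
    algebraMap R W.CoordinateRing W.a₆ ∈
      Ideal.span {CoordinateRing.mk W (C X), CoordinateRing.mk W X} := by
  have h0 : CoordinateRing.mk W W.polynomial = 0 := AdjoinRoot.mk_self
  have hC : ∀ r : R, CoordinateRing.mk W (C (C r)) = algebraMap R W.CoordinateRing r := fun r => rfl
  have h1 : CoordinateRing.mk W W.polynomial =
      (CoordinateRing.mk W X) ^ 2 + (algebraMap R _ W.a₁ * (CoordinateRing.mk W (C X))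
        + algebraMap R _ W.a₃) * (CoordinateRing.mk W X)
        - ((CoordinateRing.mk W (C X)) ^ 3 + algebraMap R _ W.a₂ * (CoordinateRing.mk W (C X)) ^ 2
          + algebraMap R _ W.a₄ * (CoordinateRing.mk W (C X))
          + algebraMap R _ W.a₆) := by
    simp only [WeierstrassCurve.Affine.polynomial, map_add, map_sub, map_mul, map_pow, C_add,
      C_mul, C_pow, hC]
  set x := CoordinateRing.mk W (C X) with hxdef
  set y := CoordinateRing.mk W X with hydef
  have hx : x ∈ Ideal.span {x, y} := Ideal.subset_span (by simp)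
  have hy : y ∈ Ideal.span {x, y} := Ideal.subset_span (by simp)
  have key : algebraMap R W.CoordinateRing W.a₆ =
      y * (y + algebraMap R _ W.a₁ * x + algebraMap R _ W.a₃)
        - x * (x ^ 2 + algebraMap R _ W.a₂ * x + algebraMap R _ W.a₄) := by
    rw [h0] at h1
    linear_combination h1
  rw [key]
  exact Ideal.sub_mem _ (Ideal.mul_mem_right _ _ hy) (Ideal.mul_mem_right _ _ hx)

end H5S11097

namespace H5S11097

open Polynomial WeierstrassCurve.Affine


/-- in a DVR, an element of `𝔪 \ 𝔪²` generates `𝔪`. -/
lemma maximalIdeal_eq_span {R : Type u} [CommRing R] [IsDomain R] [IsDiscreteValuationRing R]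
    (a : R) (h : a ∈ IsLocalRing.maximalIdeal R) (h' : a ∉ IsLocalRing.maximalIdeal R ^ 2) :
    IsLocalRing.maximalIdeal R = Ideal.span {a} := by
  obtain ⟨π, hπ⟩ := IsDiscreteValuationRing.exists_irreducible R
  have hm := hπ.maximalIdeal_eq
  rw [hm] at h h' ⊢
  obtain ⟨u, rfl⟩ := Ideal.mem_span_singleton'.mp h
  have hu : IsUnit u := by
    by_contra hu
    have : u ∈ IsLocalRing.maximalIdeal R := (IsLocalRing.mem_maximalIdeal u).mpr hu
    rw [hm] at this
    obtain ⟨v, rfl⟩ := Ideal.mem_span_singleton'.mp this
    apply h'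
    rw [Ideal.span_singleton_pow]
    exact Ideal.mem_span_singleton'.mpr ⟨v, by ring⟩
  exact (Ideal.span_singleton_eq_span_singleton.mpr
    (associated_unit_mul_left π u hu).symm)

end H5S11097

namespace H5S11097

open Polynomial WeierstrassCurve.Affine


theorem main (R : Type u) [CommRing R] [IsDomain R]
    [IsDiscreteValuationRing R] (W : WeierstrassCurve.Affine R)
    (h6 : W.a₆ ∈ IsLocalRing.maximalIdeal R) (h6' : W.a₆ ∉ IsLocalRing.maximalIdeal R ^ 2)
    (P : Ideal W.CoordinateRing) [P.IsMaximal]
    (hP : ∀ r ∈ IsLocalRing.maximalIdeal R, algebraMap R W.CoordinateRing r ∈ P)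
    (hx : WeierstrassCurve.Affine.CoordinateRing.mk W (C X) ∈ P)
    (hy : WeierstrassCurve.Affine.CoordinateRing.mk W X ∈ P) :
    IsRegularLocalRing (Localization.AtPrime P) := by
  classical
  have hm := maximalIdeal_eq_span W.a₆ h6 h6'
  set x := CoordinateRing.mk W (C X) with hxdef
  set y := CoordinateRing.mk W X with hydef
  have hxy_le : Ideal.span {x, y} ≤ P := by
    rw [Ideal.span_le]
    rintro z (rfl | rfl)
    · exact hx
    · exact hy
  -- every element of 𝔪 maps into (x, y)
  have hm_mem : ∀ r ∈ IsLocalRing.maximalIdeal R,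
      algebraMap R W.CoordinateRing r ∈ Ideal.span {x, y} := by
    intro r hr
    rw [hm] at hr
    obtain ⟨c, rfl⟩ := Ideal.mem_span_singleton'.mp hr
    rw [map_mul]
    exact Ideal.mul_mem_left _ _ (a6_mem W)
  -- P = (x, y)
  have hPeq : P = Ideal.span {x, y} := by
    refine le_antisymm ?_ hxy_le
    intro b hb
    obtain ⟨c, s, t, hbe, -⟩ := decomp W b
    have hxs : x * s + t * y ∈ Ideal.span {x, y} :=
      Ideal.add_mem _ (Ideal.mul_mem_right _ _ (Ideal.subset_span (by simp)))
        (Ideal.mul_mem_left _ _ (Ideal.subset_span (by simp)))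
    have hcP : algebraMap R W.CoordinateRing c ∈ P := by
      have : algebraMap R W.CoordinateRing c = b - (x * s + t * y) := by rw [hbe]; ring
      rw [this]
      exact Ideal.sub_mem _ hb (hxy_le hxs)
    have hcm : c ∈ IsLocalRing.maximalIdeal R := by
      by_contra hc
      have hu : IsUnit c := IsLocalRing.notMem_maximalIdeal.mp hc
      exact (Ideal.IsMaximal.ne_top ‹_›) (Ideal.eq_top_of_isUnit_mem _ hcP (hu.map _))
    rw [hbe, add_assoc]
    exact Ideal.add_mem _ (hm_mem c hcm) hxs
  -- the chain ⊥ < Q < P
  let k := IsLocalRing.ResidueField R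
  let ρ : W.CoordinateRing →+* (W.map (IsLocalRing.residue R)).CoordinateRing :=
    CoordinateRing.map W (IsLocalRing.residue R)
  let Q : Ideal W.CoordinateRing := RingHom.ker ρ
  haveI hQprime : Q.IsPrime := RingHom.ker_isPrime ρ
  have hQP : Q ≤ P := by
    intro b hb
    obtain ⟨c, s, t, hbe, p, q, hpq, hc⟩ := decomp W b
    have hb' : ρ b = 0 := hb
    rw [hpq] at hb'
    simp only [ρ, map_add, CoordinateRing.map_smul, map_one, CoordinateRing.map_mk, map_X] at hb'
    obtain ⟨hp0, -⟩ := CoordinateRing.smul_basis_eq_zero hb'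
    have hcm : c ∈ IsLocalRing.maximalIdeal R := by
      have : (p.map (IsLocalRing.residue R)).coeff 0 = 0 := by rw [hp0]; simp
      rw [Polynomial.coeff_map, ← hc] at this
      exact (IsLocalRing.residue_eq_zero_iff c).mp this
    rw [hbe, add_assoc]
    refine Ideal.add_mem _ (hP c hcm) ?_
    exact Ideal.add_mem _ (Ideal.mul_mem_right _ _ hx) (Ideal.mul_mem_left _ _ hy)
  have hxQ : x ∉ Q := by
    intro hxQ
    have h0 : ρ x = 0 := hxQ
    simp only [ρ, hxdef, CoordinateRing.map_mk, Polynomial.map_C, coe_mapRingHom, map_X] at h0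
    have h1 : (X : k[X]) • (1 : (W.map (IsLocalRing.residue R)).CoordinateRing)
        + (0 : k[X]) • CoordinateRing.mk (W.map (IsLocalRing.residue R)) X = 0 := by
      rw [zero_smul, add_zero, CoordinateRing.smul, mul_one]
      exact h0
    exact X_ne_zero (CoordinateRing.smul_basis_eq_zero h1).1
  have hQltP : Q < P := lt_of_le_of_ne hQP (fun h => hxQ (h ▸ hx))
  have ha6Q : algebraMap R W.CoordinateRing W.a₆ ∈ Q := by
    change ρ (algebraMap R W.CoordinateRing W.a₆) = 0
    have : algebraMap R W.CoordinateRing W.a₆ = CoordinateRing.mk W (C (C W.a₆)) := rfl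
    rw [this]
    simp only [ρ, CoordinateRing.map_mk, Polynomial.map_C, coe_mapRingHom]
    have : IsLocalRing.residue R W.a₆ = 0 := (IsLocalRing.residue_eq_zero_iff _).mpr h6
    rw [this]
    simp
  have ha6ne : algebraMap R W.CoordinateRing W.a₆ ≠ 0 := by
    intro h0
    have : W.a₆ = 0 :=
      (FaithfulSMul.algebraMap_injective R W.CoordinateRing) (by rw [h0, map_zero])
    apply h6'
    rw [this]
    exact Ideal.zero_mem _
  have hbotQ : (⊥ : Ideal W.CoordinateRing) < Q :=
    lt_of_le_of_ne bot_le (fun h => ha6ne (by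
      have : algebraMap R W.CoordinateRing W.a₆ ∈ (⊥ : Ideal W.CoordinateRing) := h ▸ ha6Q
      simpa using this))
  haveI : (⊥ : Ideal W.CoordinateRing).IsPrime := Ideal.isPrime_bot
  have hht1 : (⊥ : Ideal W.CoordinateRing).height < Q.height :=
    Ideal.height_strict_mono_of_isPrime_of_isPrime hbotQ
  have hht2 : Q.height < P.height :=
    Ideal.height_strict_mono_of_isPrime_of_isPrime hQltP
  have hht : (2 : ℕ∞) ≤ P.height := by
    have h1 : (1 : ℕ∞) ≤ Q.height := Order.one_le_iff_pos.mpr (lt_of_le_of_lt bot_le hht1)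
    have h2 : Q.height + 1 ≤ P.height := Order.add_one_le_of_lt hht2
    calc (2 : ℕ∞) = 1 + 1 := by norm_num
      _ ≤ Q.height + 1 := by gcongr
      _ ≤ P.height := h2
  apply IsRegularLocalRing.of_spanFinrank_maximalIdeal_le
  rw [IsLocalization.AtPrime.ringKrullDim_eq_height P (Localization.AtPrime P)]
  have hmax : IsLocalRing.maximalIdeal (Localization.AtPrime P) =
      Ideal.span (algebraMap W.CoordinateRing (Localization.AtPrime P) '' {x, y}) := by
    rw [← Localization.AtPrime.map_eq_maximalIdeal, ← Ideal.map_span, ← hPeq]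
  have hfin : (algebraMap W.CoordinateRing (Localization.AtPrime P) '' {x, y}).Finite :=
    (Set.toFinite _).image _
  have hle : (IsLocalRing.maximalIdeal (Localization.AtPrime P)).spanFinrank ≤ 2 := by
    rw [hmax]
    refine (Submodule.spanFinrank_span_le_ncard_of_finite hfin).trans ?_
    refine (Set.ncard_image_le (Set.toFinite _)).trans ?_
    exact (Set.ncard_insert_le x {y}).trans (by rw [Set.ncard_singleton])
  calc ((IsLocalRing.maximalIdeal (Localization.AtPrime P)).spanFinrank : WithBot ℕ∞)
      ≤ ((2 : ℕ) : WithBot ℕ∞) := by exact_mod_cast hle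
    _ ≤ P.height := by
        have : ((2 : ℕ∞) : WithBot ℕ∞) ≤ P.height := WithBot.coe_le_coe.mpr hht
        exact this

end H5S11097

/-- Let R be a discrete valuation ring with maximal ideal m and let y² + a₁xy + a₃y = x³ + a₂x² + a₄x +
a₆ be a Weierstrass equation with coefficients in R such that a₃, a₄, a₆ ∈ m and a₆ ∉ m². Then the
affine scheme defined by the equation over R is regular at the point π = x = y = 0 of its special
fibre: the localization of the coordinate ring at a maximal ideal containing the image of m and the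
classes of x and y is a regular local ring. (The published statement asserts regularity of the
projective Weierstrass scheme; this row states it at the point π = x = y = 0 of the special fibre.) -/
theorem result (R : Type u) [CommRing R] [IsDomain R]
    [IsDiscreteValuationRing R] (W : WeierstrassCurve.Affine R)
    (h3 : W.a₃ ∈ IsLocalRing.maximalIdeal R) (h4 : W.a₄ ∈ IsLocalRing.maximalIdeal R)
    (h6 : W.a₆ ∈ IsLocalRing.maximalIdeal R) (h6' : W.a₆ ∉ IsLocalRing.maximalIdeal R ^ 2)
    (P : Ideal W.CoordinateRing) [P.IsMaximal]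
    (hP : ∀ r ∈ IsLocalRing.maximalIdeal R, algebraMap R W.CoordinateRing r ∈ P)
    (hx : WeierstrassCurve.Affine.CoordinateRing.mk W (C X) ∈ P)
    (hy : WeierstrassCurve.Affine.CoordinateRing.mk W X ∈ P) :
    IsRegularLocalRing (Localization.AtPrime P) := by
  exact H5S11097.main R W h6 h6' P hP hx hy

end Groth.Agent.S11097
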