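import Groth.Statements.S11098
-- import your own Groth.Agent.* helpers here

set_option autoImplicit false
universe u
open CategoryTheory CategoryTheory.Limits AlgebraicGeometry
open Neron

namespace Groth.Agent.S11098

/-- Take a Dedekind domain R, write K for its fraction field, and suppose N₁, N₂ are Néron models over
Spec R of the same K-scheme A, through identifications e₁, e₂ of their generic fibres with A. Then
there is a unique R-morphism N₁ → N₂ whose restriction to generic fibres is compatible with e₁ and
e₂, and any such morphism is an isomorphism: the Néron model is unique up to unique isomorphism.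
(The published statement concerns Néron models of an elliptic curve, with the mapping property asked
for rational maps; this row allows any K-scheme A and uses the mapping property for morphisms from
smooth R-schemes.) -/
theorem result (R : Type u) [CommRing R] [IsDedekindDomain R]
    (A : Over (Spec (CommRingCat.of (FractionRing R))))
    (N₁ N₂ : Over (Spec (CommRingCat.of R)))
    (e₁ : (Neron.genericFibre R).obj N₁ ≅ A) (e₂ : (Neron.genericFibre R).obj N₂ ≅ A)
    (h₁ : Neron.IsNeronModelOf R N₁ A e₁) (h₂ : Neron.IsNeronModelOf R N₂ A e₂) :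
    (∃! ψ : N₁ ⟶ N₂, (Neron.genericFibre R).map ψ ≫ e₂.hom = e₁.hom) ∧
      ∀ ψ : N₁ ⟶ N₂, (Neron.genericFibre R).map ψ ≫ e₂.hom = e₁.hom → IsIso ψ := by
  obtain ⟨hs₁, -, -, -, hu₁⟩ := h₁
  obtain ⟨hs₂, -, -, -, hu₂⟩ := h₂
  have b12 := hu₂ N₁ hs₁
  have b21 := hu₁ N₂ hs₂
  have b11 := hu₁ N₁ hs₁
  have b22 := hu₂ N₂ hs₂
  refine ⟨?_, ?_⟩
  · obtain ⟨ψ, hψ⟩ := b12.2 e₁.hom
    exact ⟨ψ, hψ, fun ψ' hψ' => b12.1 (hψ'.trans hψ.symm)⟩
  · intro ψ hψ
    obtain ⟨ψ', hψ'⟩ := b21.2 e₂.hom
    simp only at hψ'
    refine ⟨ψ', ?_, ?_⟩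
    · apply b11.1
      simp only [Functor.map_comp, Category.assoc, hψ', hψ]
      rw [CategoryTheory.Functor.map_id, Category.id_comp]
    · apply b22.1
      simp only [Functor.map_comp, Category.assoc, hψ', hψ]
      rw [CategoryTheory.Functor.map_id, Category.id_comp]

end Groth.Agent.S11098
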