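import Groth.Statements.S13203
import Mathlib
-- import your own Groth.Agent.* helpers here

set_option autoImplicit false
universe u
open CategoryTheory AlgebraicGeometry
open Neron

namespace Groth.Agent.S13203

namespace H5S13203
open CategoryTheory CategoryTheory.Limits

universe v u'
variable {C : Type u'} [Category.{v} C] [HasPullbacks C]

theorem map_left_fst {S S₀ : C} (j : S₀ ⟶ S) {A B : Over S} (p : A ⟶ B) :
    ((Over.pullback j).map p).left ≫ pullback.fst B.hom j = pullback.fst A.hom j ≫ p.left := by
  simp only [Over.pullback_map_left]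
  exact pullback.lift_fst _ _ _

theorem map_left_snd {S S₀ : C} (j : S₀ ⟶ S) {A B : Over S} (p : A ⟶ B) :
    ((Over.pullback j).map p).left ≫ pullback.snd B.hom j = pullback.snd A.hom j := by
  simp only [Over.pullback_map_left]
  exact pullback.lift_snd _ _ _

section
variable {S S' U U' : C} (g : S' ⟶ S) (j : U ⟶ S) (j' : U' ⟶ S') (g₀ : U' ⟶ U)
  (sq : IsPullback g₀ j' j g) (Y' : Over S')

/-- comparison map -/
noncomputable def θ : pullback (Y'.hom ≫ g) j ⟶ pullback Y'.hom j' :=
  pullback.lift (pullback.fst _ _)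
    (sq.lift (pullback.snd _ _) (pullback.fst _ _ ≫ Y'.hom)
      (by rw [Category.assoc, pullback.condition]))
    (by rw [sq.lift_snd])

noncomputable def θ' : pullback Y'.hom j' ⟶ pullback (Y'.hom ≫ g) j :=
  pullback.lift (pullback.fst _ _) (pullback.snd _ _ ≫ g₀)
    (by rw [← Category.assoc, pullback.condition, Category.assoc, Category.assoc, sq.w])

theorem θ_fst : θ g j j' g₀ sq Y' ≫ pullback.fst _ _ = pullback.fst _ _ :=
  pullback.lift_fst _ _ _

theorem θ_snd : θ g j j' g₀ sq Y' ≫ pullback.snd _ _ ≫ g₀ = pullback.snd _ _ := by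
  unfold θ
  rw [← Category.assoc, pullback.lift_snd, sq.lift_fst]

theorem θ'_fst : θ' g j j' g₀ sq Y' ≫ pullback.fst _ _ = pullback.fst _ _ :=
  pullback.lift_fst _ _ _

theorem θ'_snd : θ' g j j' g₀ sq Y' ≫ pullback.snd _ _ = pullback.snd _ _ ≫ g₀ :=
  pullback.lift_snd _ _ _

theorem θ'_θ : θ' g j j' g₀ sq Y' ≫ θ g j j' g₀ sq Y' = 𝟙 _ := by
  apply pullback.hom_ext
  · rw [Category.assoc, θ_fst, θ'_fst, Category.id_comp]
  · apply sq.hom_ext
    · rw [Category.assoc, Category.assoc, θ_snd, θ'_snd, Category.id_comp]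
    · rw [Category.assoc, Category.assoc, ← pullback.condition, ← Category.assoc (θ _ _ _ _ _ _),
        θ_fst, ← Category.assoc, θ'_fst, Category.id_comp, pullback.condition]

end

theorem inj {S S' U U' : C} (g : S' ⟶ S) (j : U ⟶ S) (j' : U' ⟶ S') (g₀ : U' ⟶ U)
    (sq : IsPullback g₀ j' j g) (N : Over S) (Y' : Over S')
    (hN : Function.Injective (fun f : Over.mk (Y'.hom ≫ g) ⟶ N => (Over.pullback j).map f)) :
    Function.Injective (fun f : Y' ⟶ (Over.pullback g).obj N => (Over.pullback j').map f) := by
  intro f₁ f₂ h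
  simp only at h
  have hw : ∀ f : Y' ⟶ (Over.pullback g).obj N, f.left ≫ pullback.snd N.hom g = Y'.hom :=
    fun f => Over.w f
  have hφ : ∀ f : Y' ⟶ (Over.pullback g).obj N,
      (f.left ≫ pullback.fst N.hom g) ≫ N.hom = (Over.mk (Y'.hom ≫ g)).hom := by
    intro f
    rw [Category.assoc, pullback.condition, ← Category.assoc, hw f]
    rfl
  let φ : (Y' ⟶ (Over.pullback g).obj N) → (Over.mk (Y'.hom ≫ g) ⟶ N) :=
    fun f => Over.homMk (f.left ≫ pullback.fst N.hom g) (hφ f)
  have hφl : ∀ f, (φ f).left = f.left ≫ pullback.fst N.hom g := fun f => rfl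
  have h1 : pullback.fst Y'.hom j' ≫ f₁.left = pullback.fst Y'.hom j' ≫ f₂.left := by
    have := congrArg (fun t => t.left ≫ pullback.fst _ _) h
    simp only [map_left_fst] at this
    exact this
  have h2 : φ f₁ = φ f₂ := by
    apply hN
    simp only
    ext
    apply pullback.hom_ext
    · rw [map_left_fst, map_left_fst, hφl, hφl]
      have e : pullback.fst (Over.mk (Y'.hom ≫ g)).hom j =
          θ g j j' g₀ sq Y' ≫ pullback.fst Y'.hom j' := (θ_fst g j j' g₀ sq Y').symm
      rw [e, Category.assoc, Category.assoc, ← Category.assoc (pullback.fst Y'.hom j'), h1,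
        Category.assoc]
    · rw [map_left_snd, map_left_snd]
  ext
  apply pullback.hom_ext
  · have := congrArg (fun t => t.left) h2
    simpa [hφl] using this
  · rw [hw, hw]


theorem bij {S S' U U' : C} (g : S' ⟶ S) (j : U ⟶ S) (j' : U' ⟶ S') (g₀ : U' ⟶ U)
    (sq : IsPullback g₀ j' j g) (N : Over S) (Y' : Over S')
    (hN : Function.Bijective (fun f : Over.mk (Y'.hom ≫ g) ⟶ N => (Over.pullback j).map f)) :
    Function.Bijective (fun f : Y' ⟶ (Over.pullback g).obj N => (Over.pullback j').map f) := by
  refine ⟨inj g j j' g₀ sq N Y' hN.1, ?_⟩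
  intro h
  -- notation
  have hh : h.left ≫ pullback.snd (pullback.snd N.hom g) j' = pullback.snd Y'.hom j' := Over.w h
  have cB : pullback.fst (pullback.snd N.hom g) j' ≫ pullback.snd N.hom g =
      pullback.snd (pullback.snd N.hom g) j' ≫ j' := pullback.condition
  have hcond : (θ g j j' g₀ sq Y' ≫ h.left ≫ pullback.fst (pullback.snd N.hom g) j' ≫
      pullback.fst N.hom g) ≫ N.hom = pullback.snd (Y'.hom ≫ g) j ≫ j := by
    simp only [Category.assoc]
    rw [pullback.condition, ← Category.assoc (pullback.fst (pullback.snd N.hom g) j'), cB]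
    simp only [Category.assoc]
    rw [← Category.assoc h.left, hh, ← sq.w, ← Category.assoc (pullback.snd Y'.hom j'),
      ← Category.assoc, θ_snd]
  let ψ : (Over.pullback j).obj (Over.mk (Y'.hom ≫ g)) ⟶ (Over.pullback j).obj N :=
    Over.homMk (pullback.lift (θ g j j' g₀ sq Y' ≫ h.left ≫
      pullback.fst (pullback.snd N.hom g) j' ≫ pullback.fst N.hom g) (pullback.snd (Y'.hom ≫ g) j)
      hcond) (by
        simp only [Over.pullback_obj_hom, Over.mk_hom]
        exact pullback.lift_snd _ _ _)
  have hψ : ψ.left ≫ pullback.fst N.hom j = θ g j j' g₀ sq Y' ≫ h.left ≫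
      pullback.fst (pullback.snd N.hom g) j' ≫ pullback.fst N.hom g := pullback.lift_fst _ _ _
  obtain ⟨φ, hφ⟩ := hN.2 ψ
  simp only at hφ
  have hφ1 : pullback.fst (Y'.hom ≫ g) j ≫ φ.left = θ g j j' g₀ sq Y' ≫ h.left ≫
      pullback.fst (pullback.snd N.hom g) j' ≫ pullback.fst N.hom g := by
    rw [← hψ, ← hφ]
    exact (map_left_fst j φ).symm
  have hφw : φ.left ≫ N.hom = Y'.hom ≫ g := Over.w φ
  let f : Y' ⟶ (Over.pullback g).obj N :=
    Over.homMk (pullback.lift φ.left Y'.hom hφw) (by
      simp only [Over.pullback_obj_hom]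
      exact pullback.lift_snd _ _ _)
  have hf1 : f.left ≫ pullback.fst N.hom g = φ.left := pullback.lift_fst _ _ _
  have hf2 : f.left ≫ pullback.snd N.hom g = Y'.hom := pullback.lift_snd _ _ _
  refine ⟨f, ?_⟩
  simp only
  ext
  apply pullback.hom_ext
  · change ((Over.pullback j').map f).left ≫ pullback.fst (pullback.snd N.hom g) j' =
      h.left ≫ pullback.fst (pullback.snd N.hom g) j'
    have e1 := map_left_fst j' f
    simp only [Over.pullback_obj_hom] at e1
    rw [e1]
    apply pullback.hom_ext
    · rw [Category.assoc, hf1, Category.assoc]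
      have : pullback.fst Y'.hom j' = θ' g j j' g₀ sq Y' ≫ pullback.fst (Y'.hom ≫ g) j :=
        (θ'_fst g j j' g₀ sq Y').symm
      rw [this, Category.assoc, hφ1, ← Category.assoc, θ'_θ, Category.id_comp]
    · rw [Category.assoc, hf2, Category.assoc, cB, ← Category.assoc, hh, pullback.condition]
  · change ((Over.pullback j').map f).left ≫ pullback.snd (pullback.snd N.hom g) j' =
      h.left ≫ pullback.snd (pullback.snd N.hom g) j'
    have e2 := map_left_snd j' f
    simp only [Over.pullback_obj_hom] at e2
    rw [e2, hh]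

end H5S13203

/-- Let S be a scheme, U ⊆ S a schematically dense open subscheme and N → S a smooth S-scheme with the
Néron mapping property with respect to U: for every smooth S-scheme Y, sending an S-morphism Y → N
to its restriction Y ×_S U → N ×_S U is a bijection onto the U-morphisms. Then for every smooth
morphism g : S' → S the base change N ×_S S' → S' (again smooth) has the Néron mapping property with
respect to g⁻¹(U): for every smooth S'-scheme Y', restriction to g⁻¹(U) is a bijection from
S'-morphisms Y' → N ×_S S' onto g⁻¹(U)-morphisms. (The published statement is for models which are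
algebraic spaces, tested against smooth algebraic spaces, and also says that separatedness is
preserved; this row states the case of a smooth scheme model tested against smooth schemes.) -/
theorem result
    {S S' : Scheme.{u}} (g : S' ⟶ S) [Smooth g]
    (U : S.Opens) (hU : CInt.IsSchematicallyDense U) (N : Over S) [Smooth N.hom]
    (hN : ∀ Y : Over S, Smooth Y.hom →
      Function.Bijective (fun f : Y ⟶ N => (Over.pullback U.ι).map f))
    (Y' : Over S') [Smooth Y'.hom] :
    Function.Bijective (fun f : Y' ⟶ (Over.pullback g).obj N => (Over.pullback (g ⁻¹ᵁ U).ι).map f) := by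
  exact H5S13203.bij g U.ι (g ⁻¹ᵁ U).ι (g ∣_ U) (isPullback_morphismRestrict g U) N Y'
    (hN (Over.mk (Y'.hom ≫ g)) (by simp only [Over.mk_hom]; infer_instance))

end Groth.Agent.S13203
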