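import Groth.Statements.S11103
import Mathlib
import Groth.Agent.S13203
-- import your own Groth.Agent.* helpers here

set_option autoImplicit false
universe u
open CategoryTheory CategoryTheory.Limits AlgebraicGeometry
open Neron

namespace Groth.Agent.S11103

namespace H5S11103

open CategoryTheory CategoryTheory.Limits AlgebraicGeometry


section alg
variable (R R' : Type u) [CommRing R] [IsDedekindDomain R]
    [CommRing R'] [IsDedekindDomain R'] [Algebra R R'] [Module.Finite R R'] [Algebra.Etale R R']

instance : Module.Flat R R' := inferInstance

instance : FaithfulSMul R R' := inferInstance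

instance : Algebra.IsAlgebraic R R' := inferInstance

noncomputable instance : IsLocalization (Algebra.algebraMapSubmonoid R' (nonZeroDivisors R)) (FractionRing R') :=
  inferInstance

/-- the induced map on fraction fields -/
noncomputable def fracMap : FractionRing R →+* FractionRing R' :=
  IsLocalization.map (M := nonZeroDivisors R) (T := Algebra.algebraMapSubmonoid R' (nonZeroDivisors R))
    (FractionRing R') (algebraMap R R') (Submonoid.le_comap_map _)

lemma fracMap_comp : (fracMap R R').comp (algebraMap R (FractionRing R)) =
    (algebraMap R' (FractionRing R')).comp (algebraMap R R') :=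
  IsLocalization.map_comp _

lemma sq : IsPullback (Spec.map (CommRingCat.ofHom (fracMap R R'))) (Neron.genPt R')
    (Neron.genPt R) (Spec.map (CommRingCat.ofHom (algebraMap R R'))) := by
  haveI : IsLocalization (Submonoid.map (algebraMap R R') (nonZeroDivisors R)) (FractionRing R') :=
    (inferInstance : IsLocalization (Algebra.algebraMapSubmonoid R' (nonZeroDivisors R))
      (FractionRing R'))
  have hpo := CommRingCat.isPushout_of_isLocalization (algebraMap R R') (fracMap R R')
    (fracMap_comp R R') (nonZeroDivisors R) (Rₘ := FractionRing R) (Sₘ := FractionRing R')
  exact (isPullback_SpecMap_of_isPushout _ _ _ _ hpo).flip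

end alg

end H5S11103

namespace H5S11103

open CategoryTheory CategoryTheory.Limits AlgebraicGeometry


theorem main (R R' : Type u) [CommRing R] [IsDedekindDomain R]
    [CommRing R'] [IsDedekindDomain R'] [Algebra R R'] [Module.Finite R R'] [Algebra.Etale R R']
    (N : Over (Spec (CommRingCat.of R)))
    (hN : Neron.IsNeronModelOf R N ((Neron.genericFibre R).obj N) (Iso.refl _)) :
    Neron.IsNeronModelOf R'
      ((Over.pullback (Spec.map (CommRingCat.ofHom (algebraMap R R')))).obj N)
      ((Neron.genericFibre R').obj ((Over.pullback (Spec.map (CommRingCat.ofHom (algebraMap R R')))).obj N))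
      (Iso.refl _) := by
  obtain ⟨hsm, hsep, hft, hqc, hmap⟩ := hN
  haveI := hsm; haveI := hsep; haveI := hft; haveI := hqc
  refine ⟨?_, ?_, ?_, ?_, ?_⟩
  · simp only [Over.pullback_obj_hom]; infer_instance
  · simp only [Over.pullback_obj_hom]; infer_instance
  · simp only [Over.pullback_obj_hom]; infer_instance
  · simp only [Over.pullback_obj_hom]; infer_instance
  · intro Y' hY'
    haveI : Smooth Y'.hom := hY'
    haveI : Etale (Spec.map (CommRingCat.ofHom (algebraMap R R'))) := by
      rw [HasRingHomProperty.Spec_iff (P := @Etale)]
      simpa [RingHom.etale_algebraMap] using (inferInstance : Algebra.Etale R R')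
    have hsmooth : Smooth (Over.mk (Y'.hom ≫ Spec.map (CommRingCat.ofHom (algebraMap R R')))).hom := by
      simp only [Over.mk_hom]
      infer_instance
    have h0 := hmap _ hsmooth
    simp only [Iso.refl_hom, Category.comp_id] at h0 ⊢
    exact Groth.Agent.S13203.H5S13203.bij _ _ _ _ (sq R R') N Y' h0

end H5S11103

/-- Let R be a Dedekind domain with fraction field K, let R' be a Dedekind domain finite étale over R
(the integral closure of R in a finite unramified extension K' of K), and let N be a Néron model
over Spec R of its generic fibre N_K. Then the base change N' = N ×_R R' is a Néron model over Spec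
R' of its generic fibre N'_{K'}: it is smooth, separated and of finite type over Spec R', and every
K'-morphism from the generic fibre of a smooth R'-scheme to N'_{K'} extends uniquely to an
R'-morphism into N'. (The published statement concerns the Néron model of an elliptic curve with the
mapping property for rational maps; this row allows any N and tests the mapping property on
morphisms from smooth schemes. The property generally fails for ramified extensions.) -/
theorem result (R R' : Type u) [CommRing R] [IsDedekindDomain R]
    [CommRing R'] [IsDedekindDomain R'] [Algebra R R'] [Module.Finite R R'] [Algebra.Etale R R']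
    (N : Over (Spec (CommRingCat.of R)))
    (hN : Neron.IsNeronModelOf R N ((Neron.genericFibre R).obj N) (Iso.refl _)) :
    Neron.IsNeronModelOf R'
      ((Over.pullback (Spec.map (CommRingCat.ofHom (algebraMap R R')))).obj N)
      ((Neron.genericFibre R').obj ((Over.pullback (Spec.map (CommRingCat.ofHom (algebraMap R R')))).obj N))
      (Iso.refl _) := by
  exact H5S11103.main R R' N hN

end Groth.Agent.S11103
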