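import Groth.Statements.S11107
import Mathlib
import Groth.Agent.S4440
import Groth.Agent.Lib.helper20.SmoothReg
import Groth.Agent.Lib.helper5.RegLoc

set_option autoImplicit false
universe u
open CategoryTheory AlgebraicGeometry
open Neron

namespace Groth.Agent.S11107

section Helpers

open AlgebraicGeometry CategoryTheory Limits TopologicalSpace

lemma regular_stalk {A : CommRingCat.{u}} [IsRegularRing A] {X : Scheme.{u}} (pX : X ⟶ Spec A)
    [Smooth pX] (x : X) : IsRegularLocalRing (X.presheaf.stalk x) := by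
  obtain ⟨_, ⟨W, hW, rfl⟩, hxW, -⟩ := X.isBasis_affineOpens.exists_subset_of_mem_open
    (Set.mem_univ x) isOpen_univ
  have hsm : (pX.appLE ⊤ W le_top).hom.Smooth :=
    HasRingHomProperty.appLE (P := @Smooth) pX ‹Smooth pX› ⟨⊤, isAffineOpen_top _⟩ ⟨W, hW⟩ _
  haveI : IsRegularRing Γ(Spec A, ⊤) :=
    IsRegularRing.of_ringEquiv (Scheme.ΓSpecIso A).symm.commRingCatIsoToRingEquiv
  algebraize [(pX.appLE ⊤ W le_top).hom]
  haveI : IsRegularRing Γ(X, W) :=
    Groth.Agent.Lib.helper20.SmoothReg.isRegularRing_of_smooth Γ(Spec A, ⊤) Γ(X, W)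
  letI := TopCat.Presheaf.algebra_section_stalk X.presheaf (⟨x, hxW⟩ : W)
  haveI := hW.isLocalization_stalk ⟨x, hxW⟩
  exact IsRegularLocalRing.of_ringEquiv
    (IsLocalization.algEquiv (hW.primeIdealOf ⟨x, hxW⟩).asIdeal.primeCompl
      (Localization.AtPrime (hW.primeIdealOf ⟨x, hxW⟩).asIdeal) (X.presheaf.stalk x)).toRingEquiv

theorem main {R : Type u} [CommRing R] [IsDedekindDomain R]
    {X Y : Scheme.{u}} (pX : X ⟶ Spec (CommRingCat.of R)) (pY : Y ⟶ Spec (CommRingCat.of R))
    [Smooth pX] [IsProper pY] (U : X.Opens) (hU : Dense (U : Set X))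
    (f : (U : Scheme.{u}) ⟶ Y) (hf : f ≫ pY = U.ι ≫ pX) :
    ∃ (V : X.Opens) (hUV : U ≤ V) (g : (V : Scheme.{u}) ⟶ Y),
      g ≫ pY = V.ι ≫ pX ∧ X.homOfLE hUV ≫ g = f ∧
      ∀ x : X, x ∉ V → (2 : WithBot ℕ∞) ≤ ringKrullDim (X.presheaf.stalk x) := by
  have : IsRegularRing (CommRingCat.of R) := inferInstanceAs (IsRegularRing R)
  have : IsLocallyNoetherian (Spec (CommRingCat.of R)) := inferInstance
  have : IsLocallyNoetherian X := LocallyOfFiniteType.isLocallyNoetherian pX
  have hreg : ∀ x : X, IsRegularLocalRing (X.presheaf.stalk x) := fun x => regular_stalk pX x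
  have : ∀ x : X, _root_.IsReduced (X.presheaf.stalk x) := fun x => by
    have := hreg x
    have : IsDomain (X.presheaf.stalk x) := Groth.Agent.H5.RegLoc.isDomain _
    infer_instance
  have : IsReduced X := isReduced_of_isReduced_stalk X
  obtain ⟨V, hUV, g, hg1, hg2, hg3⟩ :=
    Groth.Agent.S4440.result pY pX (fun y _ => hreg y) U hU f hf
  refine ⟨V, hUV, g, hg1, hg2, fun x hx => ?_⟩
  by_contra h
  apply hx
  apply hg3 x
  rw [not_le] at h
  generalize ringKrullDim (X.presheaf.stalk x) = d at h ⊢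
  induction d using WithBot.recBotCoe with
  | bot => exact bot_le
  | coe d =>
    have h' : d < 2 := by
      have h2 : ((d : ℕ∞) : WithBot ℕ∞) < ((2 : ℕ∞) : WithBot ℕ∞) := h
      exact WithBot.coe_lt_coe.mp h2
    have h3 : d ≤ 1 := by
      have : d < 1 + 1 := by rw [one_add_one_eq_two]; exact h'
      exact Order.le_of_lt_add_one this
    have h4 : ((d : ℕ∞) : WithBot ℕ∞) ≤ ((1 : ℕ∞) : WithBot ℕ∞) := WithBot.coe_le_coe.mpr h3
    exact h4

end Helpers


/-- Let R be a Dedekind domain, X → Spec R a smooth morphism, Y → Spec R a proper morphism, U ⊆ X a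
dense open subscheme and f : U → Y a morphism over Spec R (a rational map X ⇢ Y over R). Then f
extends, over Spec R, to an open subscheme V ⊇ U of X such that every point of X outside V has a
local ring of Krull dimension at least 2: the locus where the rational map is undefined has
codimension at least two. (The published statement assumes the rational map dominant; this row does
not.) -/
theorem result {R : Type u} [CommRing R] [IsDedekindDomain R]
    {X Y : Scheme.{u}} (pX : X ⟶ Spec (CommRingCat.of R)) (pY : Y ⟶ Spec (CommRingCat.of R))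
    [Smooth pX] [IsProper pY] (U : X.Opens) (hU : Dense (U : Set X))
    (f : (U : Scheme.{u}) ⟶ Y) (hf : f ≫ pY = U.ι ≫ pX) :
    ∃ (V : X.Opens) (hUV : U ≤ V) (g : (V : Scheme.{u}) ⟶ Y),
      g ≫ pY = V.ι ≫ pX ∧ X.homOfLE hUV ≫ g = f ∧
      ∀ x : X, x ∉ V → (2 : WithBot ℕ∞) ≤ ringKrullDim (X.presheaf.stalk x) := by
  exact main pX pY U hU f hf

end Groth.Agent.S11107
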