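import Groth.Statements.S11108
import Mathlib
import Groth.Agent.Lib.helper3.SmoothLift4
-- import your own Groth.Agent.* helpers here

set_option autoImplicit false
universe u
open CategoryTheory AlgebraicGeometry
open Neron

namespace Groth.Agent.S11108

/-- a finite type algebra over a local ring with algebraically closed residue field, with nonempty
special fibre, has a point with values in the residue field -/
theorem exists_point (R : Type u) [CommRing R] [IsLocalRing R]
    [IsAlgClosed (IsLocalRing.ResidueField R)] (S : Type u) [CommRing S] [Algebra R S]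
    [Algebra.FiniteType R S] (q : Ideal S) [q.IsPrime]
    (hq : (IsLocalRing.maximalIdeal R).map (algebraMap R S) ≤ q) :
    ∃ σ : S →ₐ[R] IsLocalRing.ResidueField R, True := by
  classical
  obtain ⟨N, hN, hqN⟩ := Ideal.exists_le_maximal q (Ideal.IsPrime.ne_top inferInstance)
  have hmN : (IsLocalRing.maximalIdeal R).map (algebraMap R S) ≤ N := hq.trans hqN
  letI : Field (S ⧸ N) := Ideal.Quotient.field N
  have hvan : ∀ r ∈ IsLocalRing.maximalIdeal R, algebraMap R (S ⧸ N) r = 0 := by
    intro r hr
    rw [IsScalarTower.algebraMap_apply R S (S ⧸ N), Ideal.Quotient.algebraMap_eq,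
      Ideal.Quotient.eq_zero_iff_mem]
    exact hmN (Ideal.mem_map_of_mem _ hr)
  letI : Algebra (IsLocalRing.ResidueField R) (S ⧸ N) :=
    (Ideal.Quotient.lift (IsLocalRing.maximalIdeal R) (algebraMap R (S ⧸ N)) hvan).toAlgebra
  haveI : IsScalarTower R (IsLocalRing.ResidueField R) (S ⧸ N) :=
    IsScalarTower.of_algebraMap_eq (fun r => rfl)
  haveI : Algebra.FiniteType R (S ⧸ N) := inferInstance
  haveI : Algebra.FiniteType (IsLocalRing.ResidueField R) (S ⧸ N) :=
    Algebra.FiniteType.of_restrictScalars_finiteType R (IsLocalRing.ResidueField R) (S ⧸ N)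
  haveI : Module.Finite (IsLocalRing.ResidueField R) (S ⧸ N) :=
    finite_of_finite_type_of_isJacobsonRing (IsLocalRing.ResidueField R) (S ⧸ N)
  haveI : Algebra.IsIntegral (IsLocalRing.ResidueField R) (S ⧸ N) :=
    Algebra.IsIntegral.of_finite (IsLocalRing.ResidueField R) (S ⧸ N)
  have hbij : Function.Bijective (algebraMap (IsLocalRing.ResidueField R) (S ⧸ N)) :=
    IsAlgClosed.algebraMap_bijective_of_isIntegral
  let e : IsLocalRing.ResidueField R ≃+* (S ⧸ N) := RingEquiv.ofBijective _ hbij
  refine ⟨{ (e.symm.toRingHom.comp (Ideal.Quotient.mk N)) with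
    commutes' := fun r => ?_ }, trivial⟩
  change e.symm (Ideal.Quotient.mk N (algebraMap R S r)) = _
  rw [RingEquiv.symm_apply_eq]
  rfl

/-- Let R be a strictly Henselian discrete valuation ring — Henselian with algebraically closed residue
field — and p : X → Spec R a smooth morphism. Then the image of the reduction map from R-valued
points of X to the special fibre is dense in the special fibre: every point of X over the closed
point of Spec R lies in the closure of the set of points s(𝔪), s a section of p and 𝔪 the closed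
point. -/
theorem result (R : Type u) [CommRing R] [IsDomain R]
    [IsDiscreteValuationRing R] [HenselianLocalRing R] [IsAlgClosed (IsLocalRing.ResidueField R)]
    {X : Scheme.{u}} (p : X ⟶ Spec (CommRingCat.of R)) [Smooth p]
    (x : X) (hx : p.base x = IsLocalRing.closedPoint R) :
    x ∈ closure {y : X | ∃ s : Spec (CommRingCat.of R) ⟶ X, s ≫ p = 𝟙 _ ∧
      s.base (IsLocalRing.closedPoint R) = y} := by
  classical
  rw [mem_closure_iff]
  intro W hWo hxW
  obtain ⟨V, hV, hxV, hVW⟩ : ∃ V : X.Opens, IsAffineOpen V ∧ x ∈ V ∧ V ≤ (⟨W, hWo⟩ : X.Opens) :=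
    (TopologicalSpace.Opens.isBasis_iff_nbhd.mp X.isBasis_affineOpens)
      (show x ∈ (⟨W, hWo⟩ : X.Opens) from hxW)
  let S : CommRingCat.{u} := Γ(X, V)
  let g : Spec S ⟶ Spec (CommRingCat.of R) := hV.isoSpec.inv ≫ V.ι ≫ p
  haveI : Smooth g := inferInstance
  let ψ' : CommRingCat.of R ⟶ S := Spec.preimage g
  have hψ' : Spec.map ψ' = g := Spec.map_preimage g
  have hsm : ψ'.hom.Smooth := by
    rw [← HasRingHomProperty.Spec_iff (P := @Smooth), hψ']
    infer_instance
  letI : Algebra R S := ψ'.hom.toAlgebra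
  haveI : Algebra.Smooth R S := hsm
  -- the point of `Spec S` corresponding to `x`
  let x' : ↥(Spec S) := hV.isoSpec.hom.base ⟨x, hxV⟩
  have hgx' : g.base x' = IsLocalRing.closedPoint R := by
    change (hV.isoSpec.inv ≫ V.ι ≫ p).base (hV.isoSpec.hom.base ⟨x, hxV⟩) = _
    rw [← Scheme.Hom.comp_apply, Iso.hom_inv_id_assoc, Scheme.Hom.comp_apply]
    exact hx
  have hle : (IsLocalRing.maximalIdeal R).map (algebraMap R S) ≤ x'.asIdeal := by
    rw [Ideal.map_le_iff_le_comap]
    have h1 : (Spec.map ψ').base x' = IsLocalRing.closedPoint R := by rw [hψ']; exact hgx'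
    have h2 := congrArg PrimeSpectrum.asIdeal h1
    exact le_of_eq h2.symm
  haveI : x'.asIdeal.IsPrime := x'.isPrime
  obtain ⟨σ₀, -⟩ := exists_point R S x'.asIdeal hle
  let σ : S →ₐ[R] R ⧸ IsLocalRing.maximalIdeal R := σ₀
  obtain ⟨τ, hτ⟩ := Groth.Agent.Lib.helper3.SmoothLift.smooth_lift R (IsLocalRing.maximalIdeal R) S σ
  let τ' : S ⟶ CommRingCat.of R := CommRingCat.ofHom τ.toRingHom
  have h1 : ψ' ≫ τ' = 𝟙 _ := by
    ext a
    exact τ.commutes a
  let s : Spec (CommRingCat.of R) ⟶ X := Spec.map τ' ≫ hV.isoSpec.inv ≫ V.ι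
  refine ⟨s.base (IsLocalRing.closedPoint R), ?_, s, ?_, rfl⟩
  · apply hVW
    change (Spec.map τ' ≫ hV.isoSpec.inv ≫ V.ι).base (IsLocalRing.closedPoint R) ∈ V
    rw [← Category.assoc, Scheme.Hom.comp_apply]
    have := Set.mem_range_self (f := V.ι.base)
      ((Spec.map τ' ≫ hV.isoSpec.inv).base (IsLocalRing.closedPoint R))
    rw [Scheme.Opens.range_ι] at this
    exact this
  · change (Spec.map τ' ≫ hV.isoSpec.inv ≫ V.ι) ≫ p = _
    rw [Category.assoc, Category.assoc]
    change Spec.map τ' ≫ g = _
    rw [← hψ', ← Spec.map_comp, h1, Spec.map_id]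

end Groth.Agent.S11108
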