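import Groth.Statements.S11125
import Mathlib
-- import your own Groth.Agent.* helpers here

set_option autoImplicit false
universe v u
open CategoryTheory
open CohDer

namespace Groth.Agent.S11125

section helpers
open CategoryTheory Limits CochainComplex HomComplex ZeroObject

variable {A : Type u} [Category.{v} A] [Abelian A]

lemma acyclic_of_homotopy_id_zero (K : CochainComplex A ℤ) (h : Homotopy (𝟙 K) 0) : K.Acyclic := by
  intro n
  rw [HomologicalComplex.exactAt_iff_isZero_homology, IsZero.iff_id_eq_zero]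
  have := h.homologyMap_eq n
  simpa using this

lemma quasiIso_of_acyclic {K L : CochainComplex A ℤ} (f : K ⟶ L) (hK : K.Acyclic) (hL : L.Acyclic) :
    QuasiIso f := by
  refine ⟨fun n => ?_⟩
  rw [quasiIsoAt_iff_exactAt f n (hK n)]
  exact hL n

lemma acyclic_double (X : A) (n : ℤ) (hr : (ComplexShape.up ℤ).Rel n (n+1)) :
    (HomologicalComplex.double (𝟙 X) hr).Acyclic := by
  have hne : n ≠ n + 1 := by omega
  intro k
  rw [HomologicalComplex.exactAt_iff' _ (k-1) k (k+1) (by simp) (by simp)]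
  by_cases h0 : k = n
  · subst h0
    rw [ShortComplex.exact_iff_mono _ (HomologicalComplex.double_d_eq_zero₀ (𝟙 X) hr _ _ (by omega))]
    change Mono ((HomologicalComplex.double (𝟙 X) hr).d k (k+1))
    rw [HomologicalComplex.double_d _ _ hne]
    infer_instance
  · by_cases h1 : k = n + 1
    · subst h1
      rw [ShortComplex.exact_iff_epi _ (HomologicalComplex.double_d_eq_zero₀ (𝟙 X) hr _ _ (by omega))]
      change Epi ((HomologicalComplex.double (𝟙 X) hr).d (n+1-1) (n+1))
      have : n + 1 - 1 = n := by omega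
      rw [this, HomologicalComplex.double_d _ _ hne]
      infer_instance
    · exact ShortComplex.exact_of_isZero_X₂ _ (HomologicalComplex.isZero_double_X (𝟙 X) hr _ h0 h1)


theorem kinj (I : CochainComplex A ℤ)
    (H : ∀ (S : ShortComplex (CochainComplex A ℤ)), S.ShortExact → S.X₃.Acyclic →
        ∀ φ : S.X₁ ⟶ I, ∃ ψ : S.X₂ ⟶ I, S.f ≫ ψ = φ) : I.IsKInjective := by
  refine ⟨fun {K} f hK => ?_⟩
  let i := mappingCone.inr (𝟙 K)
  have hm : Mono i := by
    refine HomologicalComplex.mono_of_mono_f _ (fun n => ?_)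
    exact mono_of_mono_fac (mappingCone.inr_f_snd_v (𝟙 K) n)
  let S := ShortComplex.mk i (cokernel.π i) (cokernel.condition i)
  have hS : S.ShortExact := { exact := ShortComplex.exact_cokernel i }
  have hc : (mappingCone (𝟙 K)).Acyclic := acyclic_of_homotopy_id_zero _
    (mappingCone.liftHomotopy _ _ _ (mappingCone.snd _) 0 (by simp) (by simp))
  have hq : QuasiIso S.f := quasiIso_of_acyclic _ hK hc
  obtain ⟨ψ, hψ⟩ := H S hS (hS.acyclic_X₃ hq) f
  refine ⟨(Cochain.equivHomotopy f 0).symm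
    ⟨(mappingCone.inl (𝟙 K)).comp (Cochain.ofHom ψ) (add_zero _), ?_⟩⟩
  rw [δ_comp_ofHom, mappingCone.δ_inl, Cochain.ofHom_zero, add_zero, ← hψ]
  simp [S, i]


theorem injterm (I : CochainComplex A ℤ)
    (H : ∀ (S : ShortComplex (CochainComplex A ℤ)), S.ShortExact → S.X₃.Acyclic →
        ∀ φ : S.X₁ ⟶ I, ∃ ψ : S.X₂ ⟶ I, S.f ≫ ψ = φ) (n : ℤ) : Injective (I.X n) := by
  constructor
  intro X Y g f _
  have hr : (ComplexShape.up ℤ).Rel n (n+1) := by simp
  have hne : n ≠ n + 1 := by omega
  let i : HomologicalComplex.double (𝟙 X) hr ⟶ HomologicalComplex.double (𝟙 Y) hr :=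
    HomologicalComplex.mkHomFromDouble hr hne (f ≫ (HomologicalComplex.doubleXIso₀ (𝟙 Y) hr).inv)
      (f ≫ (HomologicalComplex.doubleXIso₁ (𝟙 Y) hr hne).inv)
      (by simp [HomologicalComplex.double_d _ _ hne])
      (fun k _ => by rw [HomologicalComplex.double_d_eq_zero₀ (𝟙 Y) hr _ _ (by omega), comp_zero])
  have hm : Mono i := by
    refine HomologicalComplex.mono_of_mono_f _ (fun k => ?_)
    by_cases h0 : k = n
    · subst h0
      simp only [i, HomologicalComplex.mkHomFromDouble_f₀]
      infer_instance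
    · by_cases h1 : k = n + 1
      · subst h1
        simp only [i, HomologicalComplex.mkHomFromDouble_f₁]
        infer_instance
      · exact ⟨fun _ _ _ => (HomologicalComplex.isZero_double_X (𝟙 X) hr _ h0 h1).eq_of_tgt _ _⟩
  let φ : HomologicalComplex.double (𝟙 X) hr ⟶ I :=
    HomologicalComplex.mkHomFromDouble hr hne g (g ≫ I.d n (n+1)) (by simp) (by simp)
  let S := ShortComplex.mk i (cokernel.π i) (cokernel.condition i)
  have hS : S.ShortExact := { exact := ShortComplex.exact_cokernel i }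
  have hq : QuasiIso S.f := quasiIso_of_acyclic _ (acyclic_double X n hr) (acyclic_double Y n hr)
  obtain ⟨ψ, hψ⟩ := H S hS (hS.acyclic_X₃ hq) φ
  refine ⟨(HomologicalComplex.doubleXIso₀ (𝟙 Y) hr).inv ≫ ψ.f n, ?_⟩
  have := congr_arg (fun a => a.f n) hψ
  simp only [S, i, φ, HomologicalComplex.comp_f, HomologicalComplex.mkHomFromDouble_f₀,
    Category.assoc] at this
  exact (cancel_epi _).1 this

theorem fwd (I : CochainComplex A ℤ) [I.IsKInjective] (hinj : ∀ n : ℤ, Injective (I.X n))
    (S : ShortComplex (CochainComplex A ℤ)) (hS : S.ShortExact) (hacyc : S.X₃.Acyclic)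
    (φ : S.X₁ ⟶ I) : ∃ ψ : S.X₂ ⟶ I, S.f ≫ ψ = φ := by
  have := hS.mono_f
  have sq : CommSq φ S.f (0 : I ⟶ 0) (0 : S.X₂ ⟶ 0) := ⟨by simp⟩
  have hz : ∀ n, IsZero ((0 : CochainComplex A ℤ).X n) := fun n =>
    (HomologicalComplex.eval A (ComplexShape.up ℤ) n).map_isZero (isZero_zero _)
  have hmono : ∀ n, Mono (S.f.f n) := fun n => inferInstance
  let hsq : ∀ n, (sq.map (HomologicalComplex.eval _ _ n)).LiftStruct := fun n =>
    haveI := hinj n
    haveI := hmono n
    { l := (Injective.factorThru (φ.f n) (S.f.f n) : S.X₂.X n ⟶ I.X n)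
      fac_left := Injective.comp_factorThru (φ.f n) (S.f.f n)
      fac_right := (hz n).eq_of_tgt _ _ }
  have hQ : IsColimit (CokernelCofork.ofπ S.g S.zero) := hS.gIsCokernel
  have hK : IsLimit (KernelFork.ofι (𝟙 I) (comp_zero : 𝟙 I ≫ (0 : I ⟶ 0) = 0)) :=
    KernelFork.IsLimit.ofId _ rfl
  obtain ⟨α, hα⟩ := IsKInjective.eq_δ_of_cocycle (Lifting.cocycle₁ sq hsq hQ hK) hacyc 0 (by simp)
  have := Lifting.hasLift sq hsq hQ hK α hα
  exact ⟨sq.lift, sq.fac_left⟩


end helpers

/-- In an abelian category, a cochain complex I is K-injective with injective terms if and only if for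
every short exact sequence 0 → A → B → C → 0 of cochain complexes whose third term C is acyclic,
every chain map A → I extends to a chain map B → I. -/
theorem result {A : Type u} [Category.{v} A] [Abelian A]
    (I : CochainComplex A ℤ) :
    (I.IsKInjective ∧ ∀ n : ℤ, Injective (I.X n)) ↔
      ∀ (S : ShortComplex (CochainComplex A ℤ)), S.ShortExact → S.X₃.Acyclic →
        ∀ φ : S.X₁ ⟶ I, ∃ ψ : S.X₂ ⟶ I, S.f ≫ ψ = φ := by
  constructor
  · rintro ⟨hK, hinj⟩ S hS hacyc φ
    exact fwd I hinj S hS hacyc φ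
  · intro H
    exact ⟨kinj I H, injterm I H⟩

end Groth.Agent.S11125
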