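import Groth.Statements.S11128
import Mathlib
import Groth.Agent.Lib.helper17.FaithfulExact
-- import your own Groth.Agent.* helpers here

set_option autoImplicit false
universe w u₁ u₂
open CategoryTheory CategoryTheory.Limits
open CohDer
open Groth.Agent.Lib.helper17

namespace Groth.Agent.S11128

/-- Suppose A is an abelian category that has small hom-sets and all small colimits, B is a Grothendieck
abelian category, and F : A ⥤ B is a faithful exact functor with a right adjoint G preserving
filtered colimits. Then A is a Grothendieck abelian category. -/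
theorem result
    {A : Type u₁} [Category.{w} A] [Abelian A] [HasColimitsOfSize.{w, w} A]
    {B : Type u₂} [Category.{w} B] [Abelian B] [IsGrothendieckAbelian.{w} B]
    (F : A ⥤ B) (G : B ⥤ A) (adj : F ⊣ G) [F.Additive] [F.Faithful]
    [PreservesFiniteLimits F] [PreservesFiniteColimits F] [PreservesFilteredColimitsOfSize.{w, w} G] :
    IsGrothendieckAbelian.{w} A := by
  have hab5 : AB5OfSize.{w, w} A := FaithfulExact.ab5 adj
  have hwp : WellPowered.{w} A := FaithfulExact.wellPowered_of_faithful_exact F
  let s : PUnit.{w + 1} → B := fun _ => separator B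
  have hsep : ∀ ⦃X Y : B⦄ (f g : X ⟶ Y), (∀ (i : PUnit.{w + 1}) (h : s i ⟶ X), h ≫ f = h ≫ g) →
      f = g := fun X Y f g H => (isSeparator_separator B).def _ _ (fun h => H ⟨⟩ h)
  have hS : ObjectProperty.IsSeparating (.ofObj (FaithfulExact.famObj adj s)) := by
    intro X Y f g H
    refine FaithfulExact.fam_separating adj s hsep f g (fun k h => ?_)
    exact H _ ⟨k⟩ h
  exact { hasSeparator := ⟨_, hS.isSeparator_coproduct⟩ }

end Groth.Agent.S11128
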