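import Groth.Statements.S1113
import Mathlib
import Groth.Agent.Lib.helper2.TruncDer
-- import your own Groth.Agent.* helpers here

set_option autoImplicit false
universe w v u
open CategoryTheory CategoryTheory.Limits
open CohDer

namespace Groth.Agent.S1113

/-- Let K : ℕᵒᵖ ⥤ CochainComplex A ℤ be a sequence of cochain maps … → K₂ → K₁ → K₀ in an abelian
category with Hⁱ(K₀) = 0 for i < 0 and such that for every j < n the map Hʲ(Kⱼ₊₁) → Hʲ(Kⱼ) is zero.
Then in the derived category the composite Kₙ → K₀ factors through the canonical truncation Kₙ →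
τ_{≥ n}Kₙ. -/
theorem result {A : Type u} [Category.{v} A] [Abelian A] [HasDerivedCategory.{w} A]
    (K : ℕᵒᵖ ⥤ CochainComplex A ℤ) (n : ℕ)
    (h0 : ∀ i : ℤ, i < 0 → IsZero ((K.obj (Opposite.op 0)).homology i))
    (hz : ∀ j : ℕ, j < n → HomologicalComplex.homologyMap (K.map (homOfLE (Nat.le_succ j)).op) (j : ℤ) = 0) :
    ∃ φ : DerivedCategory.Q.obj ((K.obj (Opposite.op n)).truncGE (n : ℤ)) ⟶ DerivedCategory.Q.obj (K.obj (Opposite.op 0)),
      DerivedCategory.Q.map ((K.obj (Opposite.op n)).πTruncGE (n : ℤ)) ≫ φ = DerivedCategory.Q.map (K.map (homOfLE (Nat.zero_le n)).op) := by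
  classical
  open Groth.Agent.Lib.helper2.TruncDer DerivedCategory in
  have gen : ∀ m : ℕ, m ≤ n → ∀ a : ℤ, a = (m : ℤ) →
      ∃ φ : DerivedCategory.Q.obj ((K.obj (Opposite.op m)).truncGE a) ⟶
          DerivedCategory.Q.obj (K.obj (Opposite.op 0)),
        DerivedCategory.Q.map ((K.obj (Opposite.op m)).πTruncGE a) ≫ φ =
          DerivedCategory.Q.map (K.map (homOfLE (Nat.zero_le m)).op) := by
    intro m
    induction m with
    | zero =>
      intro _ a ha
      obtain rfl : a = 0 := by simpa using ha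
      have h1 : (K.obj (Opposite.op 0)).IsGE 0 := by
        rw [CochainComplex.isGE_iff]
        intro i hi
        rw [HomologicalComplex.exactAt_iff_isZero_homology]
        exact h0 i hi
      have h2 : QuasiIso ((K.obj (Opposite.op 0)).πTruncGE 0) := inferInstance
      have h3 : IsIso (Q.map ((K.obj (Opposite.op 0)).πTruncGE 0)) := by
        rw [isIso_Q_map_iff_quasiIso]; exact h2
      have h4 : K.map (homOfLE (Nat.zero_le 0)).op = 𝟙 _ := by
        rw [← K.map_id]; rfl
      refine ⟨inv (Q.map ((K.obj (Opposite.op 0)).πTruncGE 0)), ?_⟩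
      rw [IsIso.hom_inv_id, h4, CategoryTheory.Functor.map_id]
    | succ m ih =>
      intro hm a ha
      obtain ⟨φ, hφ⟩ := ih (Nat.le_of_succ_le hm) (a - 1) (by rw [ha]; push_cast; ring)
      have hz' := hz m hm
      have hidx : (m : ℤ) = a - 1 := by rw [ha]; push_cast; ring
      rw [hidx] at hz'
      obtain ⟨χ, hχ⟩ := step_truncGE (K.obj (Opposite.op (m + 1))) (K.obj (Opposite.op m))
        (K.map (homOfLE (Nat.le_succ m)).op) (a - 1) a (by ring) hz'
      refine ⟨χ ≫ φ, ?_⟩
      rw [← Category.assoc, hχ, Functor.map_comp, Category.assoc, hφ, ← Functor.map_comp,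
        ← Functor.map_comp]
      rfl
  exact gen n le_rfl _ rfl

end Groth.Agent.S1113
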