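import Groth.Statements.S11135
import Mathlib

set_option autoImplicit false
universe u
open InvTh

namespace Groth.Agent.S11135

open Polynomial
set_option linter.unusedSectionVars false

section helpers

open Polynomial

/-- fraction-free form of integral closedness -/
def FFIC (D : Type*) [CommRing D] : Prop :=
  ∀ (p : D[X]), p.Monic → ∀ a b : D, b ∈ nonZeroDivisors D → (p.scaleRoots b).eval a = 0 → b ∣ a

lemma ffic_of_ic (D : Type*) [CommRing D] [IsDomain D] [IsIntegrallyClosed D] : FFIC D := by
  intro p hp a b hb h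
  have hb0 : algebraMap D (FractionRing D) b ≠ 0 := by
    simpa using nonZeroDivisors.ne_zero hb
  have hint : IsIntegral D (algebraMap D (FractionRing D) a / algebraMap D (FractionRing D) b) := by
    refine ⟨p, hp, ?_⟩
    have := scaleRoots_eval₂_mul (p := p) (algebraMap D (FractionRing D))
      (algebraMap D (FractionRing D) a / algebraMap D (FractionRing D) b) b
    rw [mul_div_cancel₀ _ hb0, eval₂_at_apply, h, map_zero] at this
    exact (mul_eq_zero.mp this.symm).resolve_left (pow_ne_zero _ hb0)
  obtain ⟨s, hs⟩ := IsIntegrallyClosed.algebraMap_eq_of_integral hint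
  refine ⟨s, ?_⟩
  apply IsFractionRing.injective D (FractionRing D)
  rw [map_mul, hs, mul_div_cancel₀ _ hb0]

lemma ic_of_ffic (D : Type*) [CommRing D] [IsDomain D] (h : FFIC D) : IsIntegrallyClosed D := by
  rw [isIntegrallyClosed_iff (FractionRing D)]
  intro x hx
  obtain ⟨a, b, hb, rfl⟩ := IsFractionRing.div_surjective D x
  obtain ⟨p, hp, hpx⟩ := hx
  have h1 := scaleRoots_eval₂_eq_zero_of_eval₂_div_eq_zero
    (IsFractionRing.injective D (FractionRing D)) hpx hb
  rw [eval₂_at_apply] at h1
  have hz : (p.scaleRoots b).eval a = 0 :=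
    IsFractionRing.injective D (FractionRing D) (by simpa using h1)
  obtain ⟨s, hs⟩ := h p hp a b hb hz
  have hb0 : algebraMap D (FractionRing D) b ≠ 0 := by
    simpa using nonZeroDivisors.ne_zero hb
  refine ⟨s, ?_⟩
  rw [hs, map_mul, mul_div_cancel_left₀ _ hb0]

lemma idem_eq {R : Type*} [CommRing R] (r ε ε' : R) (hε : ε * ε = ε) (hε' : ε' * ε' = ε')
    (h1 : r * ε = r) (h2 : r * ε' = r) (hn : r + (1 - ε) ∈ nonZeroDivisors R)
    (hn' : r + (1 - ε') ∈ nonZeroDivisors R) : ε = ε' := by
  have e1 : (r + (1 - ε)) * (ε * (1 - ε')) = 0 := by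
    have : (r + (1 - ε)) * (ε * (1 - ε')) = (r * ε) * (1 - ε') + (ε - ε * ε) * (1 - ε') := by ring
    rw [this, hε, h1, sub_self, zero_mul, add_zero, mul_sub, mul_one, h2, sub_self]
  have e2 : (r + (1 - ε')) * (ε' * (1 - ε)) = 0 := by
    have : (r + (1 - ε')) * (ε' * (1 - ε)) = (r * ε') * (1 - ε) + (ε' - ε' * ε') * (1 - ε) := by ring
    rw [this, hε', h2, sub_self, zero_mul, add_zero, mul_sub, mul_one, h1, sub_self]
  have e1' := (mul_right_mem_nonZeroDivisors_eq_zero_iff hn).mp (by rw [mul_comm]; exact e1)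
  have e2' := (mul_right_mem_nonZeroDivisors_eq_zero_iff hn').mp (by rw [mul_comm]; exact e2)
  have a1 : ε = ε * ε' := by
    have : ε * (1 - ε') = ε - ε * ε' := by ring
    rw [this, sub_eq_zero] at e1'; exact e1'
  have a2 : ε' = ε' * ε := by
    have : ε' * (1 - ε) = ε' - ε' * ε := by ring
    rw [this, sub_eq_zero] at e2'; exact e2'
  rw [a1, mul_comm, ← a2]


section
variable {ι : Type u} [Fintype ι] (D : ι → Type u)
    [∀ i, CommRing (D i)] [∀ i, IsDomain (D i)]

lemma pi_nzd (x : Π i, D i) (h : ∀ i, x i ≠ 0) : x ∈ nonZeroDivisors (Π i, D i) := by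
  rw [mem_nonZeroDivisors_iff_right]
  intro y hy
  funext i
  have := congrFun hy i
  simp only [Pi.mul_apply, Pi.zero_apply] at this
  exact (mul_eq_zero.mp this).resolve_right (h i)

/-- support idempotent -/
noncomputable def supp (a : Π i, D i) : Π i, D i := by
  classical exact fun i => if a i = 0 then 0 else 1

lemma supp_apply_of_eq (a : Π i, D i) (i : ι) (h : a i = 0) : supp D a i = 0 := by
  simp [supp, h]

lemma supp_apply_of_ne (a : Π i, D i) (i : ι) (h : a i ≠ 0) : supp D a i = 1 := by
  simp [supp, h]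

lemma supp_idem (a : Π i, D i) : supp D a * supp D a = supp D a := by
  funext i
  by_cases h : a i = 0
  · simp [supp_apply_of_eq D a i h]
  · simp [supp_apply_of_ne D a i h]

lemma mul_supp (a : Π i, D i) : a * supp D a = a := by
  funext i
  by_cases h : a i = 0
  · simp [h]
  · simp [supp_apply_of_ne D a i h]

lemma add_supp_nzd (a : Π i, D i) : a + (1 - supp D a) ∈ nonZeroDivisors (Π i, D i) := by
  apply pi_nzd
  intro i
  by_cases h : a i = 0
  · simp [supp_apply_of_eq D a i h, h]
  · simp [supp_apply_of_ne D a i h, h]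

variable {D}
variable {R : Type u} [CommRing R] {F : Set ((Π i, D i) →+* R)}
    (hF : ∀ f ∈ F, ∀ s ∈ nonZeroDivisors (Π i, D i), f s ∈ nonZeroDivisors R)
    {A : Subring (Π i, D i)} (hA : ∀ a, a ∈ A ↔ ∀ f ∈ F, ∀ f' ∈ F, f a = f' a)

include hF hA

lemma supp_mem (a : Π i, D i) (ha : a ∈ A) : supp D a ∈ A := by
  rw [hA]
  intro f hf f' hf'
  have hr : f a = f' a := (hA a).mp ha f hf f' hf'
  apply idem_eq (f a) (f (supp D a)) (f' (supp D a))
  · rw [← map_mul, supp_idem]
  · rw [← map_mul, supp_idem]
  · rw [← map_mul, mul_supp]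
  · rw [hr, ← map_mul, mul_supp]
  · have := hF f hf _ (add_supp_nzd D a)
    simpa using this
  · have := hF f' hf' _ (add_supp_nzd D a)
    rw [hr]
    simpa using this

lemma div_mem (α β s : Π i, D i) (hα : α ∈ A) (hβ : β ∈ A) (hβn : β ∈ nonZeroDivisors (Π i, D i))
    (h : α = β * s) : s ∈ A := by
  rw [hA]
  intro f hf f' hf'
  have h1 : f α = f' α := (hA α).mp hα f hf f' hf'
  have h2 : f β = f' β := (hA β).mp hβ f hf f' hf'
  have h3 : f β * (f s - f' s) = 0 := by
    rw [mul_sub, ← map_mul, ← h, h2, ← map_mul, ← h, h1, sub_self]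
  have := (mul_right_mem_nonZeroDivisors_eq_zero_iff (hF f hf β hβn)).mp (by rw [mul_comm]; exact h3)
  exact sub_eq_zero.mp this

end


end helpers

/-- Suppose S is the product of a finite family of integrally closed domains (a finite product of normal
domains), R is any commutative ring, and F is a family of ring maps S → R each carrying
non-zero-divisors of S to non-zero-divisors of R. Then the subring A of S on which all members of F
coincide (a ∈ A iff f(a) = f'(a) for all f, f' in F) is ring-isomorphic to a product of finitely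
many integrally closed domains. -/
theorem result {ι : Type u} [Fintype ι] (D : ι → Type u)
    [∀ i, CommRing (D i)] [∀ i, IsDomain (D i)] [∀ i, IsIntegrallyClosed (D i)]
    (R : Type u) [CommRing R] (F : Set ((Π i, D i) →+* R))
    (hF : ∀ f ∈ F, ∀ s ∈ nonZeroDivisors (Π i, D i), f s ∈ nonZeroDivisors R)
    (A : Subring (Π i, D i)) (hA : ∀ a, a ∈ A ↔ ∀ f ∈ F, ∀ f' ∈ F, f a = f' a) :
    ∃ (κ : Type u) (_ : Fintype κ) (E : κ → Type u) (_ : ∀ j, CommRing (E j)) (_ : ∀ j, IsDomain (E j))
      (_ : ∀ j, IsIntegrallyClosed (E j)), Nonempty (A ≃+* Π j, E j) := by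
  classical
  -- the equivalence relation
  let s : Setoid ι :=
    { r := fun i j => ∀ a ∈ A, a i = 0 ↔ a j = 0
      iseqv := ⟨fun _ _ _ => Iff.rfl, fun h a ha => (h a ha).symm,
        fun h1 h2 a ha => (h1 a ha).trans (h2 a ha)⟩ }
  have hrel : ∀ i j, s.r i j ↔ ∀ a ∈ A, a i = 0 ↔ a j = 0 := fun _ _ => Iff.rfl
  -- separation
  have sep : ∀ i j, ¬ s.r i j → ∃ u ∈ A, (∀ k, u k = 0 ∨ u k = 1) ∧ u i = 1 ∧ u j = 0 := by
    intro i j h
    rw [hrel] at h
    obtain ⟨a, ha, h⟩ : ∃ a ∈ A, ¬ (a i = 0 ↔ a j = 0) := by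
      by_contra hcon
      apply h
      intro a ha
      by_contra h2
      exact hcon ⟨a, ha, h2⟩
    have hs := supp_mem hF hA a ha
    by_cases hi : a i = 0
    · have hj : a j ≠ 0 := fun hj => h (by simp [hi, hj])
      refine ⟨1 - supp D a, A.sub_mem A.one_mem hs, ?_, ?_, ?_⟩
      · intro k
        by_cases hk : a k = 0
        · right; simp [supp_apply_of_eq D a k hk]
        · left; simp [supp_apply_of_ne D a k hk]
      · simp [supp_apply_of_eq D a i hi]
      · simp [supp_apply_of_ne D a j hj]
    · have hj : a j = 0 := by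
        by_contra hj
        exact h (by simp [hi, hj])
      refine ⟨supp D a, hs, ?_, ?_, ?_⟩
      · intro k
        by_cases hk : a k = 0
        · left; simp [supp_apply_of_eq D a k hk]
        · right; simp [supp_apply_of_ne D a k hk]
      · simp [supp_apply_of_ne D a i hi]
      · simp [supp_apply_of_eq D a j hj]
  have e_mem : ∀ c : Quotient s, (fun i => if (Quotient.mk s i) = c then (1 : D i) else 0) ∈ A := by
    intro c
    obtain ⟨i0, rfl⟩ := Quotient.exists_rep c
    have : ∀ j, ∃ u ∈ A, (∀ k, u k = 0 ∨ u k = 1) ∧ u i0 = 1 ∧ (¬ s.r i0 j → u j = 0) := by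
      intro j
      by_cases hj : s.r i0 j
      · exact ⟨1, A.one_mem, fun k => Or.inr rfl, rfl, fun h => absurd hj h⟩
      · obtain ⟨u, hu, h1, h2, h3⟩ := sep i0 j hj
        exact ⟨u, hu, h1, h2, fun _ => h3⟩
    choose u hu h01 hi0 hj using this
    have hmem : (∏ j, u j) ∈ A := Subring.prod_mem _ (fun j _ => hu j)
    have hprod : (∏ j, u j) = (fun i => if (Quotient.mk s i) = Quotient.mk s i0 then (1 : D i) else 0) := by
      funext i
      simp only [Finset.prod_apply]
      by_cases hi : s.r i0 i
      · have : Quotient.mk s i = Quotient.mk s i0 := Quotient.sound (s.symm hi)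
        rw [if_pos this]
        have h1 : (∏ j, u j) i0 = 1 := by simp [Finset.prod_apply, hi0]
        have h2 : (∏ j, u j) i ≠ 0 := by
          intro h0
          have := ((hrel i0 i).mp hi _ hmem).mpr h0
          rw [h1] at this; exact one_ne_zero this
        rw [Finset.prod_apply] at h2
        apply Finset.prod_eq_one
        intro j _
        rcases h01 j i with h | h
        · exact absurd (Finset.prod_eq_zero (Finset.mem_univ j) h) h2
        · exact h
      · have : ¬ Quotient.mk s i = Quotient.mk s i0 := fun h => hi (s.symm (Quotient.exact h))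
        rw [if_neg this]
        exact Finset.prod_eq_zero (Finset.mem_univ i) (hj i hi)
    rw [← hprod]; exact hmem
  let ec : Quotient s → A := fun c => ⟨_, e_mem c⟩
  have ec_apply : ∀ c i, (ec c).1 i = if (Quotient.mk s i) = c then (1 : D i) else 0 := fun _ _ => rfl
  let πc : ∀ c : Quotient s, A →+* D c.out := fun c => (Pi.evalRingHom D c.out).comp A.subtype
  have hout : ∀ i, s.r (Quotient.mk s i).out i := fun i => Quotient.mk_out (s := s) i
  have hout' : ∀ (c : Quotient s) i, Quotient.mk s i = c → s.r c.out i := by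
    intro c i h
    subst h
    exact hout i
  refine ⟨Quotient s, inferInstance, fun c => (πc c).range, fun c => inferInstance,
    fun c => inferInstance, ?_, ?_⟩
  · intro c
    apply ic_of_ffic
    intro p hp a b hb hz
    have hπs : Function.Surjective (πc c).rangeRestrict := RingHom.rangeRestrict_surjective _
    obtain ⟨P0, hP0⟩ := Polynomial.map_surjective _ hπs p
    obtain ⟨P, hPmap, hPdeg, hPmonic⟩ :=
      lifts_and_natDegree_eq_and_monic ((mem_lifts _).mpr ⟨P0, hP0⟩) hp
    obtain ⟨α0, rfl⟩ := hπs a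
    obtain ⟨β0, rfl⟩ := hπs b
    obtain ⟨α, hα⟩ : ∃ α : A, α = ec c * α0 := ⟨_, rfl⟩
    obtain ⟨β, hβ⟩ : ∃ β : A, β = ec c * β0 + (1 - ec c) := ⟨_, rfl⟩
    have hαi : ∀ i, α.1 i = (ec c).1 i * α0.1 i := fun i => by rw [hα]; rfl
    have hβi' : ∀ i, β.1 i = (ec c).1 i * β0.1 i + (1 - (ec c).1 i) := fun i => by rw [hβ]; rfl
    have hπα : (πc c).rangeRestrict α = (πc c).rangeRestrict α0 := by
      apply Subtype.ext
      change α.1 c.out = α0.1 c.out
      rw [hαi, ec_apply, if_pos (Quotient.out_eq c), one_mul]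
    have hπβ : (πc c).rangeRestrict β = (πc c).rangeRestrict β0 := by
      apply Subtype.ext
      change β.1 c.out = β0.1 c.out
      rw [hβi', ec_apply, if_pos (Quotient.out_eq c), one_mul, sub_self, add_zero]
    obtain ⟨z, hzdef⟩ : ∃ z : A, z = (P.scaleRoots β).eval α := ⟨_, rfl⟩
    have key : ∀ {T : Type u} [CommRing T] [Nontrivial T] (g : A →+* T),
        g z = ((P.map g).scaleRoots (g β)).eval (g α) := by
      intro T _ _ g
      rw [← map_scaleRoots _ _ _ (by rw [hPmonic.leadingCoeff, map_one]; exact one_ne_zero),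
        eval_map, eval₂_at_apply, hzdef]
    have hz0 : z.1 c.out = 0 := by
      have := key (πc c).rangeRestrict
      rw [hPmap, hπα, hπβ, hz] at this
      exact congrArg Subtype.val this
    have hzi : ∀ i, Quotient.mk s i = c → z.1 i = 0 := fun i hi =>
      ((hrel _ _).mp (hout' c i hi) z.1 z.2).mp hz0
    have hβ0 : β0.1 c.out ≠ 0 := by
      intro h
      have : (πc c).rangeRestrict β0 = 0 := Subtype.ext h
      rw [this] at hb
      exact zero_notMem_nonZeroDivisors hb
    have hβi : ∀ i, β.1 i ≠ 0 := by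
      intro i
      by_cases hi : Quotient.mk s i = c
      · have : β.1 i = β0.1 i := by
          rw [hβi', ec_apply, if_pos hi, one_mul, sub_self, add_zero]
        rw [this]
        intro h
        exact hβ0 (((hrel _ _).mp (hout' c i hi) β0.1 β0.2).mpr h)
      · have : β.1 i = 1 := by
          rw [hβi', ec_apply, if_neg hi, zero_mul, sub_zero, zero_add]
        rw [this]; exact one_ne_zero
    have hdiv : ∀ i, β.1 i ∣ α.1 i := by
      intro i
      by_cases hi : Quotient.mk s i = c
      · have h1 := key ((Pi.evalRingHom D i).comp A.subtype)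
        have h2 : ((Pi.evalRingHom D i).comp A.subtype) z = 0 := hzi i hi
        rw [h2] at h1
        exact ffic_of_ic (D i) _ (hPmonic.map _) _ _ (mem_nonZeroDivisors_of_ne_zero (hβi i)) h1.symm
      · have : α.1 i = 0 := by
          rw [hαi, ec_apply, if_neg hi, zero_mul]
        rw [this]; exact dvd_zero _
    choose sfun hs using hdiv
    have hsA : sfun ∈ A := div_mem hF hA α.1 β.1 sfun α.2 β.2 (pi_nzd D β.1 hβi) (funext hs)
    refine ⟨(πc c).rangeRestrict ⟨sfun, hsA⟩, ?_⟩
    rw [← hπα, ← hπβ, ← map_mul]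
    congr 1
    apply Subtype.ext
    exact funext hs
  · let Φ : A →+* Π c, (πc c).range := RingHom.pi (fun c => (πc c).rangeRestrict)
    refine ⟨RingEquiv.ofBijective Φ ⟨?_, ?_⟩⟩
    · rw [injective_iff_map_eq_zero]
      intro a ha
      apply Subtype.ext
      funext i
      have h1 : (πc (Quotient.mk s i)) a = 0 := by
        have := congrFun ha (Quotient.mk s i)
        exact congrArg Subtype.val this
      exact ((hrel _ _).mp (hout i) a.1 a.2).mp h1
    · intro y
      have : ∀ c, ∃ a : A, πc c a = (y c).1 := fun c => (y c).2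
      choose a ha using this
      refine ⟨∑ c, ec c * a c, ?_⟩
      funext c
      apply Subtype.ext
      change (πc c) (∑ c', ec c' * a c') = (y c).1
      rw [map_sum, ← ha c]
      rw [Finset.sum_eq_single c]
      · rw [map_mul]
        have : πc c (ec c) = 1 := by
          change (ec c).1 c.out = 1
          rw [ec_apply, if_pos (Quotient.out_eq c)]
        rw [this, one_mul]
      · intro c' _ hc'
        rw [map_mul]
        have : πc c (ec c') = 0 := by
          change (ec c').1 c.out = 0
          rw [ec_apply, if_neg]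
          rw [Quotient.out_eq c]
          exact fun h => hc' h.symm
        rw [this, zero_mul]
      · intro h; exact absurd (Finset.mem_univ c) h

end Groth.Agent.S11135
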