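import Groth.Statements.S11136
import Mathlib

set_option autoImplicit false
universe u v
open InvTh

namespace Groth.Agent.S11136

section helpers


open TopologicalSpace in
theorem isClopen_connectedComponent_of_noetherian {X : Type*} [TopologicalSpace X] [NoetherianSpace X]
    (x : X) : IsClopen (connectedComponent x) := by
  refine ⟨isClosed_connectedComponent, ?_⟩
  have hfin : (irreducibleComponents X).Finite := NoetherianSpace.finite_irreducibleComponents
  have hcompl : (connectedComponent x)ᶜ =
      ⋃₀ {Z ∈ irreducibleComponents X | Disjoint Z (connectedComponent x)} := by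
    ext z
    constructor
    · intro hz
      have hzu : z ∈ ⋃₀ irreducibleComponents X := by
        rw [sUnion_irreducibleComponents]; trivial
      obtain ⟨Z, hZ, hzZ⟩ := hzu
      refine ⟨Z, ⟨hZ, ?_⟩, hzZ⟩
      rw [Set.disjoint_left]
      intro w hwZ hwC
      apply hz
      have hpre : IsPreconnected Z := (show IsIrreducible Z from hZ.1).isConnected.isPreconnected
      have h1 : Z ⊆ connectedComponent w := hpre.subset_connectedComponent hwZ
      rw [connectedComponent_eq hwC]
      exact h1 hzZ
    · rintro ⟨Z, ⟨_, hdisj⟩, hzZ⟩ hzC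
      exact Set.disjoint_left.1 hdisj hzZ hzC
  rw [← isClosed_compl_iff, hcompl, Set.sUnion_eq_biUnion]
  exact (hfin.subset (fun Z hZ => hZ.1)).isClosed_biUnion
    (fun Z hZ => isClosed_of_mem_irreducibleComponents Z hZ.1)

theorem idem_trivial (A : Type u) [CommRing A] [ConnectedSpace (PrimeSpectrum A)] (a : A)
    (ha : IsIdempotentElem a) : a = 0 ∨ a = 1 := by
  have hcl : IsClopen ((PrimeSpectrum.basicOpen a : Set (PrimeSpectrum A))) :=
    PrimeSpectrum.isClopen_iff.2 ⟨a, ha, rfl⟩
  rcases isClopen_iff.1 hcl with h | h
  · left
    have h0 : PrimeSpectrum.basicOpen a = PrimeSpectrum.basicOpen (0 : A) := by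
      apply TopologicalSpace.Opens.ext
      rw [h, PrimeSpectrum.basicOpen_zero]; rfl
    exact PrimeSpectrum.basicOpen_injOn_isIdempotentElem ha IsIdempotentElem.zero h0
  · right
    have h1 : PrimeSpectrum.basicOpen a = PrimeSpectrum.basicOpen (1 : A) := by
      apply TopologicalSpace.Opens.ext
      rw [h, PrimeSpectrum.basicOpen_one]; rfl
    exact PrimeSpectrum.basicOpen_injOn_isIdempotentElem ha IsIdempotentElem.one h1



end helpers

/-- Let a finite group G act on a Noetherian commutative ring R by ring automorphisms, with ring of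
invariants A (A → R injective with image the fixed elements). When the prime spectrum of A is
connected, any two connected components of Spec R are exchanged by some element of G: for all points
x, y of Spec R there is g in G whose induced self-map of Spec R carries the connected component of x
onto the connected component of y. -/
theorem result
    (A : Type u) (R : Type v) [CommRing A] [CommRing R] [Algebra A R] [IsNoetherianRing R]
    (G : Type u) [Group G] [Finite G] [MulSemiringAction G R] [SMulCommClass G A R]
    [Algebra.IsInvariant A R G] [FaithfulSMul A R]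
    [ConnectedSpace (PrimeSpectrum A)] (x y : PrimeSpectrum R) :
    ∃ g : G, PrimeSpectrum.comap (MulSemiringAction.toRingHom G R g) '' connectedComponent x =
      connectedComponent y := by
  classical
  set τ : G → PrimeSpectrum R → PrimeSpectrum R :=
    fun g => PrimeSpectrum.comap (MulSemiringAction.toRingHom G R g) with hτ
  have hτc : ∀ g, Continuous (τ g) := fun g => PrimeSpectrum.continuous_comap _
  have hcomp : ∀ g h p, τ g (τ h p) = τ (h * g) p := by
    intro g h p
    simp only [hτ]
    rw [← PrimeSpectrum.comap_comp_apply]
    congr 1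
    ext r
    simp [mul_smul]
  have hone : ∀ p, τ 1 p = p := by
    intro p
    simp only [hτ]
    have : MulSemiringAction.toRingHom G R 1 = RingHom.id R := by
      ext r; simp
    rw [this, PrimeSpectrum.comap_id]
  have hinv : ∀ g p, τ g⁻¹ (τ g p) = p := by
    intro g p
    rw [hcomp, mul_inv_cancel, hone]
  have hinv' : ∀ g p, τ g (τ g⁻¹ p) = p := by
    intro g p
    rw [hcomp, inv_mul_cancel, hone]
  have hclopen := isClopen_connectedComponent_of_noetherian y
  set E : Set (PrimeSpectrum R) := ⋃ g : G, τ g ⁻¹' (connectedComponent y) with hE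
  have hEclopen : IsClopen E := isClopen_iUnion_of_finite (fun g => hclopen.preimage (hτc g))
  obtain ⟨ε, hε, hEε⟩ := PrimeSpectrum.exists_idempotent_basicOpen_eq_of_isClopen hEclopen
  have hstab : ∀ h : G, τ h ⁻¹' E = E := by
    intro h
    ext p
    simp only [hE, Set.mem_preimage, Set.mem_iUnion]
    constructor
    · rintro ⟨g, hg⟩
      rw [hcomp] at hg
      exact ⟨h * g, hg⟩
    · rintro ⟨g, hg⟩
      refine ⟨h⁻¹ * g, ?_⟩
      rw [hcomp, mul_inv_cancel_left]
      exact hg
  have hεinv : ∀ h : G, h • ε = ε := by
    intro h
    have hidem : IsIdempotentElem (h • ε) := by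
      unfold IsIdempotentElem
      rw [← smul_mul', hε.eq]
    apply PrimeSpectrum.basicOpen_injOn_isIdempotentElem hidem hε
    apply TopologicalSpace.Opens.ext
    rw [← hEε]
    conv_rhs => rw [← hstab h, hEε]
    rfl
  obtain ⟨a, ha⟩ := Algebra.IsInvariant.isInvariant (A := A) (G := G) ε hεinv
  have hinj : Function.Injective (algebraMap A R) := FaithfulSMul.algebraMap_injective A R
  have haidem : IsIdempotentElem a := by
    apply hinj
    rw [map_mul, ha, hε.eq]
  have hyE : y ∈ E := by
    rw [hE, Set.mem_iUnion]
    exact ⟨1, by rw [Set.mem_preimage, hone]; exact mem_connectedComponent⟩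
  have hε1 : ε = 1 := by
    rcases idem_trivial A a haidem with h0 | h1
    · exfalso
      rw [h0, map_zero] at ha
      rw [hEε, ← ha, PrimeSpectrum.basicOpen_zero] at hyE
      exact hyE
    · rw [← ha, h1, map_one]
  have hxE : x ∈ E := by
    rw [hEε, hε1, PrimeSpectrum.basicOpen_one]
    trivial
  rw [hE, Set.mem_iUnion] at hxE
  obtain ⟨g, hg⟩ := hxE
  rw [Set.mem_preimage] at hg
  refine ⟨g, ?_⟩
  change τ g '' connectedComponent x = connectedComponent y
  have hcc : connectedComponent (τ g x) = connectedComponent y := (connectedComponent_eq hg).symm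
  apply Set.Subset.antisymm
  · rw [← hcc]
    exact (isPreconnected_connectedComponent.image _ (hτc g).continuousOn).subset_connectedComponent
      ⟨x, mem_connectedComponent, rfl⟩
  · intro z hz
    refine ⟨τ g⁻¹ z, ?_, hinv' g z⟩
    have h1 : τ g⁻¹ '' connectedComponent (τ g x) ⊆ connectedComponent (τ g⁻¹ (τ g x)) :=
      (isPreconnected_connectedComponent.image _ (hτc g⁻¹).continuousOn).subset_connectedComponent
        ⟨τ g x, mem_connectedComponent, rfl⟩
    rw [hinv] at h1
    apply h1
    rw [hcc]
    exact ⟨z, hz, rfl⟩

end Groth.Agent.S11136
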