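import Groth.Statements.S11137
import Mathlib

set_option autoImplicit false
universe u v
open InvTh

namespace Groth.Agent.S11137

/-- Let G be a finite group acting by ring automorphisms on a Noetherian commutative ring R, and let A
be its ring of invariants (A → R injective with image the fixed elements), with R module-finite over
A. Then the going-down property holds for the extension A → R. (The published statement also asserts
that G acts transitively on the primes of R over a given prime of A; this row states only the
going-down assertion.) -/
theorem result
    (A : Type u) (R : Type v) [CommRing A] [CommRing R] [Algebra A R] [IsNoetherianRing R]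
    (G : Type u) [Group G] [Finite G] [MulSemiringAction G R] [SMulCommClass G A R]
    [Algebra.IsInvariant A R G] [FaithfulSMul A R] [Module.Finite A R] :
    Algebra.HasGoingDown A R := by
  classical
  have hint : Algebra.IsIntegral A R := Algebra.IsInvariant.isIntegral A R G
  refine ⟨?_⟩
  intro p hp Q hQ hlt
  -- a prime over p
  have hbot : (⊥ : Ideal R).comap (algebraMap A R) ≤ p := by
    intro a ha
    rw [Ideal.mem_comap, Ideal.mem_bot] at ha
    have : a = 0 := (FaithfulSMul.algebraMap_injective A R) (by rw [ha, map_zero])
    rw [this]; exact p.zero_mem
  obtain ⟨Q', -, hQ'p, hQ'⟩ := Ideal.exists_ideal_over_prime_of_isIntegral p (⊥ : Ideal R) hbot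
  -- going up
  have hle : Q'.comap (algebraMap A R) ≤ Q.under A := by
    rw [hQ']; exact hlt.le
  have hqp : (Q.under A).IsPrime := inferInstance
  obtain ⟨Q'', hQ''ge, hQ''p, hQ''⟩ :=
    Ideal.exists_ideal_over_prime_of_isIntegral_of_isPrime (Q.under A) Q' hle
  open scoped Pointwise in
  obtain ⟨g, hg⟩ := Algebra.IsInvariant.exists_smul_of_under_eq A R G Q'' Q hQ''
  open scoped Pointwise in
  refine ⟨g • Q', ?_, inferInstance, ⟨?_⟩⟩
  · rw [hg]
    open scoped Pointwise in
    exact Ideal.pointwise_smul_le_pointwise_smul_iff.mpr hQ''ge
  · open scoped Pointwise in
    rw [Ideal.under_smul A Q' g]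
    exact hQ'.symm

end Groth.Agent.S11137
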