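import Groth.Statements.S11141
import Mathlib
import Groth.Agent.S11135

set_option autoImplicit false
universe u
open TensorProduct
open InvTh

namespace Groth.Agent.S11141

section helpers

section shear
variable {k : Type u} [CommRing k] {H : Type u} [CommRing H] [HopfAlgebra k H]
  {S : Type u} [CommRing S] [Algebra k S] [HopfRep.Comod k H S]

/-- the coaction -/
noncomputable abbrev ρ : S →ₗ[k] S ⊗[k] H := HopfRep.Comod.coact (k := k) (A := H) (V := S)

variable (hmul : ∀ x y : S, ρ (k := k) (H := H) (x * y) = ρ x * ρ y)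
  (hone : ρ (k := k) (H := H) (1 : S) = 1)

/-- coaction as algebra hom -/
noncomputable def ρₐ : S →ₐ[k] S ⊗[k] H := AlgHom.ofLinearMap ρ hone hmul

/-- the shear map -/
noncomputable def Φ : S ⊗[k] H →ₐ[k] S ⊗[k] H :=
  Algebra.TensorProduct.productMap (ρₐ hmul hone) Algebra.TensorProduct.includeRight

/-- twisted coaction -/
noncomputable def ρt : S →ₐ[k] S ⊗[k] H :=
  (Algebra.TensorProduct.map (AlgHom.id k S) (HopfAlgebra.antipodeAlgHom k H)).comp (ρₐ hmul hone)

/-- the inverse shear map -/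
noncomputable def Φ' : S ⊗[k] H →ₐ[k] S ⊗[k] H :=
  Algebra.TensorProduct.productMap (ρt hmul hone) Algebra.TensorProduct.includeRight

/-- s ⊗ (a ⊗ b) ↦ s ⊗ ab -/
noncomputable def M1 : S ⊗[k] (H ⊗[k] H) →ₗ[k] S ⊗[k] H := LinearMap.lTensor S (LinearMap.mul' k H)
/-- s ⊗ (a ⊗ b) ↦ s ⊗ S(a) b -/
noncomputable def M2 : S ⊗[k] (H ⊗[k] H) →ₗ[k] S ⊗[k] H :=
  LinearMap.lTensor S (LinearMap.mul' k H ∘ₗ (HopfAlgebra.antipode k).rTensor H)
/-- s ⊗ (a ⊗ b) ↦ s ⊗ a S(b) -/
noncomputable def M3 : S ⊗[k] (H ⊗[k] H) →ₗ[k] S ⊗[k] H :=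
  LinearMap.lTensor S (LinearMap.mul' k H ∘ₗ (HopfAlgebra.antipode k).lTensor H)

theorem L1 (w : S ⊗[k] H) (h : H) :
    M1 (TensorProduct.assoc k S H H (w ⊗ₜ h)) = w * ((1 : S) ⊗ₜ[k] h) := by
  induction w using TensorProduct.induction_on with
  | zero => simp
  | tmul s a => simp [M1]
  | add x y hx hy => rw [TensorProduct.add_tmul, map_add, map_add, hx, hy, add_mul]

theorem L2 (w : S ⊗[k] H) (h : H) :
    M2 (TensorProduct.assoc k S H H (w ⊗ₜ h)) =
      (TensorProduct.map (LinearMap.id : S →ₗ[k] S) (HopfAlgebra.antipode k) w) * ((1 : S) ⊗ₜ[k] h) := by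
  induction w using TensorProduct.induction_on with
  | zero => simp
  | tmul s a => simp [M2]
  | add x y hx hy => rw [TensorProduct.add_tmul, map_add, map_add, hx, hy, map_add, add_mul]

theorem Φ_eq (t : S ⊗[k] H) :
    Φ hmul hone t = M1 (TensorProduct.assoc k S H H ((ρ (k := k) (H := H) (S := S)).rTensor H t)) := by
  induction t using TensorProduct.induction_on with
  | zero => simp
  | tmul s h =>
    rw [LinearMap.rTensor_tmul, L1]
    rfl
  | add x y hx hy => rw [map_add, hx, hy, map_add, map_add, map_add]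

theorem Φ'_eq (t : S ⊗[k] H) :
    Φ' hmul hone t = M2 (TensorProduct.assoc k S H H ((ρ (k := k) (H := H) (S := S)).rTensor H t)) := by
  induction t using TensorProduct.induction_on with
  | zero => simp
  | tmul s h =>
    rw [LinearMap.rTensor_tmul, L2]
    rfl
  | add x y hx hy => rw [map_add, hx, hy, map_add, map_add, map_add]

theorem coassoc_apply (s : S) :
    TensorProduct.assoc k S H H ((ρ (k := k) (H := H) (S := S)).rTensor H (ρ s)) =
      (Coalgebra.comul : H →ₗ[k] H ⊗[k] H).lTensor S (ρ s) := by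
  have h := LinearMap.congr_fun (HopfRep.Comod.coassoc (k := k) (A := H) (V := S)) s
  simpa using h

theorem counit_apply (s : S) :
    (Coalgebra.counit : H →ₗ[k] k).lTensor S (ρ (k := k) (H := H) s) = s ⊗ₜ[k] (1 : k) := by
  have h := LinearMap.congr_fun (HopfRep.Comod.counit_comp (k := k) (A := H) (V := S)) s
  simpa using h

theorem Φ'_ρ (s : S) : Φ' hmul hone (ρ s) = s ⊗ₜ[k] (1 : H) := by
  rw [Φ'_eq, coassoc_apply, M2, ← LinearMap.comp_apply, ← LinearMap.lTensor_comp,
    LinearMap.comp_assoc, HopfAlgebra.mul_antipode_rTensor_comul, LinearMap.lTensor_comp,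
    LinearMap.comp_apply, counit_apply]
  simp

theorem L3 (w : S ⊗[k] H) (h : H) :
    M3 (TensorProduct.assoc k S H H (w ⊗ₜ h)) = w * ((1 : S) ⊗ₜ[k] (HopfAlgebra.antipode k h)) := by
  induction w using TensorProduct.induction_on with
  | zero => simp
  | tmul s a => simp [M3]
  | add x y hx hy => rw [TensorProduct.add_tmul, map_add, map_add, hx, hy, add_mul]

theorem L4 (w : S ⊗[k] H) :
    Φ hmul hone (Algebra.TensorProduct.map (AlgHom.id k S) (HopfAlgebra.antipodeAlgHom k H) w) =
      M3 (TensorProduct.assoc k S H H ((ρ (k := k) (H := H) (S := S)).rTensor H w)) := by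
  induction w using TensorProduct.induction_on with
  | zero => simp
  | tmul s h =>
    rw [LinearMap.rTensor_tmul, L3, Algebra.TensorProduct.map_tmul]
    rfl
  | add x y hx hy => rw [map_add, map_add, hx, hy, map_add, map_add, map_add]

theorem Φ_ρt (s : S) : Φ hmul hone (ρt hmul hone s) = s ⊗ₜ[k] (1 : H) := by
  change Φ hmul hone (Algebra.TensorProduct.map (AlgHom.id k S) (HopfAlgebra.antipodeAlgHom k H)
    (ρ s)) = _
  rw [L4, coassoc_apply, M3, ← LinearMap.comp_apply, ← LinearMap.lTensor_comp,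
    LinearMap.comp_assoc, HopfAlgebra.mul_antipode_lTensor_comul, LinearMap.lTensor_comp,
    LinearMap.comp_apply, counit_apply]
  simp

theorem Φ_comp_Φ' (x : S ⊗[k] H) : Φ hmul hone (Φ' hmul hone x) = x := by
  have h : (Φ hmul hone).comp (Φ' hmul hone) = AlgHom.id k _ := by
    apply Algebra.TensorProduct.ext'
    intro s h
    rw [AlgHom.comp_apply, AlgHom.id_apply]
    change Φ hmul hone (ρt hmul hone s * ((1 : S) ⊗ₜ[k] h)) = _
    rw [map_mul, Φ_ρt]
    change _ * (ρₐ hmul hone 1 * ((1 : S) ⊗ₜ[k] h)) = _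
    rw [map_one, one_mul, Algebra.TensorProduct.tmul_mul_tmul, mul_one, one_mul]
  exact AlgHom.congr_fun h x

include hmul hone in
theorem ρ_nzd (s : S) (hs : ∀ x : S ⊗[k] H, (s ⊗ₜ[k] (1 : H)) * x = 0 → x = 0)
    (x : S ⊗[k] H) (hx : ρ s * x = 0) : x = 0 := by
  have h1 : Φ' hmul hone (ρ s * x) = 0 := by rw [hx, map_zero]
  rw [map_mul, Φ'_ρ] at h1
  have h2 := hs _ h1
  rw [← Φ_comp_Φ' hmul hone x, h2, map_zero]

end shear

theorem tmul_one_nzd (k : Type u) [Field k] (H : Type u) [CommRing H] [Algebra k H]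
    (S : Type u) [CommRing S] [Algebra k S] (s : S) (hs : s ∈ nonZeroDivisors S)
    (x : S ⊗[k] H) (hx : (s ⊗ₜ[k] (1 : H)) * x = 0) : x = 0 := by
  have hinj : Function.Injective (LinearMap.mulLeft k s) := by
    intro a b hab
    simp only [LinearMap.mulLeft_apply] at hab
    have : (a - b) * s = 0 := by rw [sub_mul, mul_comm a, mul_comm b, hab, sub_self]
    have := (mem_nonZeroDivisors_iff_right.1 hs) _ this
    exact sub_eq_zero.1 this
  have hinj2 := Module.Flat.rTensor_preserves_injective_linearMap (M := H) (LinearMap.mulLeft k s) hinj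
  apply hinj2
  rw [map_zero, ← hx]
  clear hx
  induction x using TensorProduct.induction_on with
  | zero => simp
  | tmul a h => simp [Algebra.TensorProduct.tmul_mul_tmul]
  | add x y hx hy => rw [map_add, hx, hy, mul_add]



end helpers

/-- Let k be a field, H a finitely generated commutative Hopf algebra over k (the coordinate ring of a
group scheme affine and of finite type over k), and S a commutative k-algebra which is
ring-isomorphic to a finite product of normal (integrally closed) domains and carries an H-comodule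
structure whose coaction S → S ⊗ H is multiplicative and unital. Then the k-subalgebra of invariants
of S, the elements s whose coaction is s ⊗ 1, is again ring-isomorphic to a finite product of normal
domains. -/
theorem result (k : Type u) [Field k]
    (H : Type u) [CommRing H] [HopfAlgebra k H] [Algebra.FiniteType k H]
    (S : Type u) [CommRing S] [Algebra k S] [HopfRep.Comod k H S]
    (hmul : ∀ x y : S, HopfRep.Comod.coact (k := k) (A := H) (x * y) =
        HopfRep.Comod.coact (k := k) (A := H) x * HopfRep.Comod.coact (k := k) (A := H) y)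
    (hone : HopfRep.Comod.coact (k := k) (A := H) (1 : S) = 1)
    {ι : Type u} [Fintype ι] (D : ι → Type u) [∀ i, CommRing (D i)] [∀ i, IsDomain (D i)]
    [∀ i, IsIntegrallyClosed (D i)] (e : S ≃+* Π i, D i)
    (A : Subalgebra k S)
    (hA : ∀ a : S, a ∈ A ↔ HopfRep.Comod.coact (k := k) (A := H) a = a ⊗ₜ[k] (1 : H)) :
    ∃ (κ : Type u) (_ : Fintype κ) (E : κ → Type u) (_ : ∀ j, CommRing (E j)) (_ : ∀ j, IsDomain (E j))
      (_ : ∀ j, IsIntegrallyClosed (E j)), Nonempty (A ≃+* Π j, E j) := by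
  classical
  set ρr : S →+* S ⊗[k] H := (ρₐ hmul hone : S →ₐ[k] S ⊗[k] H).toRingHom with hρr
  set inc : S →+* S ⊗[k] H :=
    (Algebra.TensorProduct.includeLeft : S →ₐ[k] S ⊗[k] H).toRingHom with hinc
  have hρr_apply : ∀ s, ρr s = HopfRep.Comod.coact (k := k) (A := H) s := fun s => rfl
  have hinc_apply : ∀ s, inc s = s ⊗ₜ[k] (1 : H) := fun s => rfl
  set f₁ : (Π i, D i) →+* S ⊗[k] H := ρr.comp e.symm.toRingHom with hf₁
  set f₂ : (Π i, D i) →+* S ⊗[k] H := inc.comp e.symm.toRingHom with hf₂
  set F : Set ((Π i, D i) →+* S ⊗[k] H) := {f₁, f₂} with hF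
  set A' : Subring (Π i, D i) := A.toSubring.map e.toRingHom with hA'
  have hA'mem : ∀ a, a ∈ A' ↔ ∀ f ∈ F, ∀ f' ∈ F, f a = f' a := by
    intro a
    have key : a ∈ A' ↔ f₁ a = f₂ a := by
      rw [hA', Subring.mem_map]
      constructor
      · rintro ⟨s, hs, rfl⟩
        have := (hA s).1 hs
        simp only [hf₁, hf₂, RingHom.comp_apply, RingEquiv.toRingHom_eq_coe, RingHom.coe_coe,
          RingEquiv.symm_apply_apply, hρr_apply, hinc_apply]
        exact this
      · intro h
        refine ⟨e.symm a, (hA _).2 ?_, by simp⟩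
        simpa only [hf₁, hf₂, RingHom.comp_apply, RingEquiv.toRingHom_eq_coe, RingHom.coe_coe,
          hρr_apply, hinc_apply] using h
    rw [key]
    constructor
    · intro h f hf f' hf'
      rw [hF, Set.mem_insert_iff, Set.mem_singleton_iff] at hf hf'
      rcases hf with rfl | rfl <;> rcases hf' with rfl | rfl
      · rfl
      · exact h
      · exact h.symm
      · rfl
    · intro h
      exact h f₁ (by rw [hF]; exact Set.mem_insert _ _) f₂ (by rw [hF]; simp)
  have hsymm_nzd : ∀ s ∈ nonZeroDivisors (Π i, D i), e.symm s ∈ nonZeroDivisors S := by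
    intro s hs
    rw [mem_nonZeroDivisors_iff_right]
    intro x hx
    have : e x * s = 0 := by
      have := congrArg e hx
      rwa [map_mul, RingEquiv.apply_symm_apply, map_zero] at this
    have := (mem_nonZeroDivisors_iff_right.1 hs) _ this
    exact (map_eq_zero_iff e e.injective).1 this
  have hFnzd : ∀ f ∈ F, ∀ s ∈ nonZeroDivisors (Π i, D i), f s ∈ nonZeroDivisors (S ⊗[k] H) := by
    intro f hf s hs
    have hs' := hsymm_nzd s hs
    have hinc_nzd : ∀ x : S ⊗[k] H, ((e.symm s) ⊗ₜ[k] (1 : H)) * x = 0 → x = 0 :=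
      fun x hx => tmul_one_nzd k H S (e.symm s) hs' x hx
    rw [hF, Set.mem_insert_iff, Set.mem_singleton_iff] at hf
    rw [mem_nonZeroDivisors_iff_right]
    rcases hf with rfl | rfl
    · intro x hx
      rw [mul_comm] at hx
      exact ρ_nzd hmul hone (e.symm s) hinc_nzd x hx
    · intro x hx
      rw [mul_comm] at hx
      exact hinc_nzd x hx
  obtain ⟨κ, i1, E, i2, i3, i4, ⟨iso⟩⟩ := Groth.Agent.S11135.result D (S ⊗[k] H) F hFnzd A' hA'mem
  refine ⟨κ, i1, E, i2, i3, i4, ⟨RingEquiv.trans ?_ iso⟩⟩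
  exact (Subring.equivMapOfInjective A.toSubring e.toRingHom e.injective)

end Groth.Agent.S11141
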