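import Groth.Statements.S11142
import Mathlib
import Groth.Agent.Lib.helper7.LocNoeth

set_option autoImplicit false
universe u
open CategoryTheory AlgebraicGeometry
open FlatMor

namespace Groth.Agent.S11142


theorem eq_of_specializes_of_closure_mem {T : Type*} [TopologicalSpace T] [T0Space T] {y y' : T}
    (hy : closure {y} ∈ irreducibleComponents T) (h : y' ⤳ y) : y' = y := by
  have h1 : closure {y} ⊆ closure {y'} := specializes_iff_closure_subset.1 h
  have h2 : closure {y'} ⊆ closure {y} := hy.2 isIrreducible_singleton.closure h1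
  exact (h.antisymm (specializes_iff_closure_subset.2 h2)).eq

theorem exists_maximal_generization {T : Type*} [TopologicalSpace T] [QuasiSober T] [T0Space T] (y : T) :
    ∃ y' : T, y' ⤳ y ∧ closure {y'} ∈ irreducibleComponents T := by
  have hirr : IsIrreducible (irreducibleComponent y) := isIrreducible_irreducibleComponent
  have hcl : IsClosed (irreducibleComponent y) := isClosed_irreducibleComponent
  obtain ⟨η, hη⟩ := QuasiSober.sober hirr hcl
  have hcl' : closure {η} = irreducibleComponent y := hη.def
  refine ⟨η, ?_, ?_⟩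
  · rw [specializes_iff_mem_closure, hcl']
    exact mem_irreducibleComponent
  · rw [hcl']
    exact irreducibleComponent_mem_irreducibleComponents y

open TopologicalSpace in
theorem mem_of_dense_open_of_maximal {T : Type*} [TopologicalSpace T] [QuasiSober T] [T0Space T]
    [NoetherianSpace T] (W : Set T) (hW : IsOpen W) (hd : Dense W) (y : T)
    (hy : ∀ z : T, z ⤳ y → z = y) : y ∈ W := by
  -- closure {y} is an irreducible component
  obtain ⟨η, hηy, hη⟩ := exists_maximal_generization y
  have hηe : η = y := hy η hηy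
  subst hηe
  let S : Set (Set T) := irreducibleComponents T \ {closure {η}}
  have hSfin : S.Finite := (NoetherianSpace.finite_irreducibleComponents (α := T)).subset Set.sdiff_subset
  have hScl : IsClosed (⋃₀ S) := by
    rw [Set.sUnion_eq_biUnion]
    exact hSfin.isClosed_biUnion (fun Z hZ => isClosed_of_mem_irreducibleComponents Z hZ.1)
  have hyO : η ∈ (⋃₀ S)ᶜ := by
    rintro ⟨Z, ⟨hZ, hZne⟩, hyZ⟩
    apply hZne
    have hZcl : IsClosed Z := isClosed_of_mem_irreducibleComponents Z hZ
    obtain ⟨ζ, hζ⟩ := QuasiSober.sober hZ.1 hZcl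
    have h1 : ζ ⤳ η := by
      rw [specializes_iff_mem_closure, hζ.def]; exact hyZ
    have h2 : ζ = η := hy ζ h1
    rw [Set.mem_singleton_iff, ← hζ.def, h2]
  obtain ⟨w, hwO, hwW⟩ := (dense_iff_inter_open.1 hd) _ hScl.isOpen_compl ⟨η, hyO⟩
  have hw1 : w ∈ closure ({η} : Set T) := by
    by_contra hne
    apply hwO
    refine ⟨irreducibleComponent w, ⟨irreducibleComponent_mem_irreducibleComponents w, ?_⟩, mem_irreducibleComponent⟩
    intro he
    rw [Set.mem_singleton_iff] at he
    apply hne
    rw [← he]
    exact mem_irreducibleComponent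
  have hsp : η ⤳ w := specializes_iff_mem_closure.mpr hw1
  exact hsp.mem_open hW hwW

theorem mem_of_dense_open_of_maximal_of_locallyNoetherian {Y : Scheme.{u}} [IsLocallyNoetherian Y]
    (U : Y.Opens) (hU : Dense (U : Set Y)) (y : Y) (hy : ∀ z : Y, z ⤳ y → z = y) : y ∈ U := by
  obtain ⟨V, hyV, hV⟩ :=
    Groth.Agent.Lib.helper7.exists_noetherianSpace_nhd_of_isLocallyNoetherian Y y
  haveI : QuasiSober ↥V := V.isOpenEmbedding'.quasiSober
  haveI : TopologicalSpace.NoetherianSpace ↥V := hV
  let W : Set ↥V := Subtype.val ⁻¹' (U : Set Y)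
  have hWo : IsOpen W := U.2.preimage continuous_subtype_val
  have hWd : Dense W := by
    rw [dense_iff_inter_open]
    rintro O hO ⟨o, ho⟩
    have hO' : IsOpen (Subtype.val '' O : Set Y) := V.2.isOpenMap_subtype_val _ hO
    obtain ⟨_, ⟨o', ho', rfl⟩, hu⟩ := (dense_iff_inter_open.1 hU) _ hO' ⟨o.1, o, ho, rfl⟩
    exact ⟨o', ho', hu⟩
  have := mem_of_dense_open_of_maximal W hWo hWd ⟨y, hyV⟩ (by
    intro z hz
    have h1 : z.1 ⤳ y := hz.map continuous_subtype_val
    exact Subtype.ext (hy _ h1))
  exact this

/-- For a flat morphism f : X → Y between locally Noetherian schemes, the preimage under f of any dense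
open subset of Y is dense in X. -/
theorem result (X Y : Scheme.{u}) [IsLocallyNoetherian X]
    [IsLocallyNoetherian Y] (f : X ⟶ Y) [Flat f] (U : Y.Opens) (hU : Dense (U : Set Y)) :
    Dense ((f ⁻¹ᵁ U : X.Opens) : Set X) := by
  rw [dense_iff_closure_eq]
  apply Set.eq_univ_of_forall
  intro x
  obtain ⟨y', hy'y, hy'⟩ := exists_maximal_generization (f x)
  have hy'U : y' ∈ U := mem_of_dense_open_of_maximal_of_locallyNoetherian U hU y'
    (fun z hz => eq_of_specializes_of_closure_mem hy' hz)
  obtain ⟨x', hx'x, hx'⟩ := (Flat.generalizingMap f) hy'y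
  have h1 : x' ∈ ((f ⁻¹ᵁ U : X.Opens) : Set X) := by show f x' ∈ U; rw [hx']; exact hy'U
  exact hx'x.mem_closed isClosed_closure (subset_closure h1)

end Groth.Agent.S11142
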