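import Groth.Statements.S11149
import Mathlib
import Groth.Agent.Lib.helper2.DerTrunc
-- import your own Groth.Agent.* helpers here

set_option autoImplicit false
universe w w' v v' u u'
open CategoryTheory CategoryTheory.Limits
open CohDer

namespace Groth.Agent.S11149

/-- Fix abelian categories A and B, A' a class of objects of A closed under isomorphisms, F and G
triangulated functors from D(A) to D(B) and η : F ⟶ G a morphism of triangulated functors. If η_X is
an isomorphism for every object X of A' placed in degree 0, then η_X is an isomorphism for every
object X of D(A) with bounded cohomology whose cohomology objects all lie in A'. (Stated for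
functors defined on all of D(A); A' is any class of objects closed under isomorphisms.) -/
theorem result {A : Type u} [Category.{v} A] [Abelian A] [HasDerivedCategory.{w} A]
    {B : Type u'} [Category.{v'} B] [Abelian B] [HasDerivedCategory.{w'} B]
    (P : ObjectProperty A) [P.IsClosedUnderIsomorphisms]
    (F G : DerivedCategory A ⥤ DerivedCategory B) [F.CommShift ℤ] [G.CommShift ℤ]
    [F.IsTriangulated] [G.IsTriangulated] (η : F ⟶ G) [NatTrans.CommShift η ℤ]
    (hη : ∀ X : A, P X → IsIso (η.app ((DerivedCategory.singleFunctor A 0).obj X)))
    (X : DerivedCategory A) (a b : ℤ) [X.IsGE a] [X.IsLE b]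
    (hX : ∀ i : ℤ, P ((DerivedCategory.homologyFunctor A i).obj X)) :
    IsIso (η.app X) := by
  classical
  open Groth.Agent.Lib.helper2.DerTrunc in
  letI : ObjectProperty.IsClosedUnderIsomorphisms
      (fun X : DerivedCategory A => IsIso (η.app X)) :=
    ⟨fun {X Y} e h => (NatTrans.isIso_app_iff_of_iso η e).1 h⟩
  exact bounded_induction (fun _ => P) (fun X : DerivedCategory A => IsIso (η.app X))
    (fun X hX => isIso_app_of_isZero F G η X hX)
    (fun T hT h₁ h₃ => isIso_app_obj₂ F G η T hT h₁ h₃)
    (fun n Y hY => by
      have h1 : IsIso (η.app ((DerivedCategory.singleFunctor A 0).obj Y)) := hη Y hY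
      have h2 := isIso_app_shift F G η _ (-n) h1
      exact (NatTrans.isIso_app_iff_of_iso η (singleIsoShift Y n)).2 h2)
    X a b (fun i _ _ => hX i)

end Groth.Agent.S11149
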