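import Groth.Statements.S11152
import Mathlib
-- import your own Groth.Agent.* helpers here

set_option autoImplicit false
universe w w' v v' u u'
open CategoryTheory CategoryTheory.Limits
open CohDer

namespace Groth.Agent.S11152

section helpers

section four
variable {C : Type u} [Category.{v} C] [Abelian C]

lemma four_mono {A₁ A₂ A₃ A₄ B₁ B₂ B₃ B₄ : C}
    (a : A₁ ⟶ A₂) (b : A₂ ⟶ A₃) (c : A₃ ⟶ A₄) (a' : B₁ ⟶ B₂) (b' : B₂ ⟶ B₃) (c' : B₃ ⟶ B₄)
    (α₁ : A₁ ⟶ B₁) (α₂ : A₂ ⟶ B₂) (α₃ : A₃ ⟶ B₃) (α₄ : A₄ ⟶ B₄)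
    (h₁ : a ≫ α₂ = α₁ ≫ a') (h₂ : b ≫ α₃ = α₂ ≫ b') (h₃ : c ≫ α₄ = α₃ ≫ c')
    (wab : a ≫ b = 0)
    (wbc : b ≫ c = 0) (ebc : (ShortComplex.mk b c wbc).Exact)
    (wab' : a' ≫ b' = 0) (eab' : (ShortComplex.mk a' b' wab').Exact)
    [Epi α₁] [Mono α₂] [Mono α₄] : Mono α₃ := by
  rw [Preadditive.mono_iff_cancel_zero]
  intro T x hx
  have h1 : x ≫ c = 0 := by
    rw [← cancel_mono α₄, Category.assoc, h₃, reassoc_of% hx, zero_comp, zero_comp]
  obtain ⟨T', π, hπ, y, hy⟩ := ebc.exact_up_to_refinements x h1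
  dsimp at y hy
  have h2 : (y ≫ α₂) ≫ b' = 0 := by
    rw [Category.assoc, ← h₂, ← reassoc_of% hy, hx, comp_zero]
  obtain ⟨T'', π', hπ', z', hz'⟩ := eab'.exact_up_to_refinements (y ≫ α₂) h2
  dsimp at z' hz'
  obtain ⟨T''', π'', hπ'', z, hz⟩ := surjective_up_to_refinements_of_epi α₁ z'
  have h3 : π'' ≫ π' ≫ y = z ≫ a := by
    rw [← cancel_mono α₂]
    simp only [Category.assoc]
    rw [hz', h₁, ← reassoc_of% hz]
  have h4 : (π'' ≫ π' ≫ π) ≫ x = 0 := by
    simp only [Category.assoc]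
    rw [hy, reassoc_of% h3, wab, comp_zero]
  have : Epi (π'' ≫ π' ≫ π) := by
    have := epi_comp π' π
    exact epi_comp π'' (π' ≫ π)
  exact (cancel_epi (π'' ≫ π' ≫ π)).1 (by rw [h4, comp_zero])

lemma four_epi {A₂ A₃ A₄ A₅ B₂ B₃ B₄ B₅ : C}
    (b : A₂ ⟶ A₃) (c : A₃ ⟶ A₄) (d : A₄ ⟶ A₅) (b' : B₂ ⟶ B₃) (c' : B₃ ⟶ B₄) (d' : B₄ ⟶ B₅)
    (α₂ : A₂ ⟶ B₂) (α₃ : A₃ ⟶ B₃) (α₄ : A₄ ⟶ B₄) (α₅ : A₅ ⟶ B₅)
    (h₂ : b ≫ α₃ = α₂ ≫ b') (h₃ : c ≫ α₄ = α₃ ≫ c') (h₄ : d ≫ α₅ = α₄ ≫ d')
    (wcd : c ≫ d = 0) (ecd : (ShortComplex.mk c d wcd).Exact)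
    (wbc' : b' ≫ c' = 0) (ebc' : (ShortComplex.mk b' c' wbc').Exact)
    (wcd' : c' ≫ d' = 0)
    [Epi α₂] [Epi α₄] [Mono α₅] : Epi α₃ := by
  rw [epi_iff_surjective_up_to_refinements]
  intro T y
  obtain ⟨T₁, π₁, hπ₁, x₄, hx₄⟩ := surjective_up_to_refinements_of_epi α₄ (y ≫ c')
  have h1 : x₄ ≫ d = 0 := by
    rw [← cancel_mono α₅, Category.assoc, h₄, ← reassoc_of% hx₄, wcd', comp_zero, comp_zero,
      zero_comp]
  obtain ⟨T₂, π₂, hπ₂, x₃, hx₃⟩ := ecd.exact_up_to_refinements x₄ h1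
  dsimp at x₃ hx₃
  have h2 : (π₂ ≫ π₁ ≫ y - x₃ ≫ α₃) ≫ c' = 0 := by
    rw [Preadditive.sub_comp]
    simp only [Category.assoc]
    rw [hx₄, ← h₃, reassoc_of% hx₃, sub_self]
  obtain ⟨T₃, π₃, hπ₃, y₂, hy₂⟩ := ebc'.exact_up_to_refinements _ h2
  dsimp at y₂ hy₂
  obtain ⟨T₄, π₄, hπ₄, x₂, hx₂⟩ := surjective_up_to_refinements_of_epi α₂ y₂
  refine ⟨T₄, π₄ ≫ π₃ ≫ π₂ ≫ π₁, ?_, π₄ ≫ π₃ ≫ x₃ + x₂ ≫ b, ?_⟩
  · have := epi_comp π₂ π₁
    have := epi_comp π₃ (π₂ ≫ π₁)
    exact epi_comp π₄ (π₃ ≫ π₂ ≫ π₁)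
  · rw [Preadditive.add_comp]
    simp only [Category.assoc]
    rw [h₂, ← reassoc_of% hx₂, ← hy₂]
    simp only [Preadditive.comp_sub, Category.assoc]
    abel

end four


section tri
variable {B : Type u'} [Category.{v'} B] [Abelian B] [HasDerivedCategory.{w'} B]
open DerivedCategory Pretriangulated

lemma mono_step (T T' : Triangle (DerivedCategory B)) (hT : T ∈ distTriang _)
    (hT' : T' ∈ distTriang _) (φ : T ⟶ T') (j₀ j : ℤ) (hj : j₀ + 1 = j)
    [Epi ((homologyFunctor B j₀).map φ.hom₂)] [Mono ((homologyFunctor B j₀).map φ.hom₃)]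
    [Mono ((homologyFunctor B j).map φ.hom₂)] :
    Mono ((homologyFunctor B j).map φ.hom₁) :=
  four_mono ((homologyFunctor B j₀).map T.mor₂) (HomologySequence.δ T j₀ j hj)
    ((homologyFunctor B j).map T.mor₁)
    ((homologyFunctor B j₀).map T'.mor₂) (HomologySequence.δ T' j₀ j hj)
    ((homologyFunctor B j).map T'.mor₁)
    ((homologyFunctor B j₀).map φ.hom₂) ((homologyFunctor B j₀).map φ.hom₃)
    ((homologyFunctor B j).map φ.hom₁) ((homologyFunctor B j).map φ.hom₂)
    (by rw [← Functor.map_comp, ← Functor.map_comp, φ.comm₂])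
    ((homologyFunctor B 0).homologySequenceδ_naturality T T' φ j₀ j hj).symm
    (by rw [← Functor.map_comp, ← Functor.map_comp, φ.comm₁])
    (HomologySequence.comp_δ T hT j₀ j hj)
    (HomologySequence.δ_comp T hT j₀ j hj) (HomologySequence.exact₁ T hT j₀ j hj)
    (HomologySequence.comp_δ T' hT' j₀ j hj) (HomologySequence.exact₃ T' hT' j₀ j hj)

lemma epi_step (T T' : Triangle (DerivedCategory B)) (hT : T ∈ distTriang _)
    (hT' : T' ∈ distTriang _) (φ : T ⟶ T') (j₀ j : ℤ) (hj : j₀ + 1 = j)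
    [Epi ((homologyFunctor B j₀).map φ.hom₃)] [Epi ((homologyFunctor B j).map φ.hom₂)]
    [Mono ((homologyFunctor B j).map φ.hom₃)] :
    Epi ((homologyFunctor B j).map φ.hom₁) :=
  four_epi (HomologySequence.δ T j₀ j hj) ((homologyFunctor B j).map T.mor₁)
    ((homologyFunctor B j).map T.mor₂)
    (HomologySequence.δ T' j₀ j hj) ((homologyFunctor B j).map T'.mor₁)
    ((homologyFunctor B j).map T'.mor₂)
    ((homologyFunctor B j₀).map φ.hom₃) ((homologyFunctor B j).map φ.hom₁)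
    ((homologyFunctor B j).map φ.hom₂) ((homologyFunctor B j).map φ.hom₃)
    ((homologyFunctor B 0).homologySequenceδ_naturality T T' φ j₀ j hj).symm
    (by rw [← Functor.map_comp, ← Functor.map_comp, φ.comm₁])
    (by rw [← Functor.map_comp, ← Functor.map_comp, φ.comm₂])
    _ (HomologySequence.exact₂ T hT j)
    (HomologySequence.δ_comp T' hT' j₀ j hj) (HomologySequence.exact₁ T' hT' j₀ j hj)
    (by rw [← Functor.map_comp, comp_distTriang_mor_zero₁₂ _ hT', Functor.map_zero])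

variable {A : Type u} [Category.{v} A] [Abelian A] [HasDerivedCategory.{w} A]
  (F G : DerivedCategory A ⥤ DerivedCategory B) [F.CommShift ℤ] [G.CommShift ℤ]
  (η : F ⟶ G) [NatTrans.CommShift η ℤ]

set_option backward.isDefEq.respectTransparency.types false in
set_option backward.defeqAttrib.useBackward true in
noncomputable def ηTri (T : Triangle (DerivedCategory A)) : F.mapTriangle.obj T ⟶ G.mapTriangle.obj T :=
  Triangle.homMk _ _ (η.app _) (η.app _) (η.app _) (by simp) (by simp) (by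
    dsimp
    simp only [Category.assoc, NatTrans.shift_app_comm η (1 : ℤ) T.obj₁,
      NatTrans.naturality_assoc])


omit [G.CommShift ℤ] in
lemma bound (hF : ∀ n₁ : ℤ, ∃ n₂ : ℤ, ∀ Y : DerivedCategory A, Y.IsGE n₂ → (F.obj Y).IsGE n₁) :
    ∃ N : ℤ, ∀ X : A, (F.obj ((singleFunctor A 0).obj X)).IsGE N := by
  obtain ⟨n₂, h⟩ := hF 0
  refine ⟨-n₂, fun X => ?_⟩
  let Y := (singleFunctor A 0).obj X
  have h1 : (Y⟦-n₂⟧).IsGE n₂ := TStructure.t.isGE_shift Y 0 (-n₂) n₂ (by omega)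
  have h2 := h _ h1
  have h3 : ((F.obj Y)⟦-n₂⟧).IsGE 0 := TStructure.t.isGE_of_iso
    (show F.obj (Y⟦-n₂⟧) ≅ (F.obj Y)⟦-n₂⟧ from (F.commShiftIso (-n₂)).app Y) 0
  have h4 : (((F.obj Y)⟦-n₂⟧)⟦n₂⟧).IsGE (-n₂) := TStructure.t.isGE_shift _ 0 n₂ (-n₂) (by omega)
  exact TStructure.t.isGE_of_iso
    (show ((F.obj Y)⟦-n₂⟧)⟦n₂⟧ ≅ F.obj Y from
      (shiftFunctorCompIsoId (DerivedCategory B) (-n₂) n₂ (by omega)).app (F.obj Y)) (-n₂)

variable [F.IsTriangulated] [G.IsTriangulated]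

lemma step (P : ObjectProperty A) (hP : ∀ X : A, ∃ (Y : A) (i : X ⟶ Y), P Y ∧ Mono i)
    (hη : ∀ X : A, P X → IsIso (η.app ((DerivedCategory.singleFunctor A 0).obj X)))
    (j₀ j : ℤ) (hj : j₀ + 1 = j)
    (ih : ∀ X : A, IsIso ((homologyFunctor B j₀).map (η.app ((singleFunctor A 0).obj X)))) (X : A) :
    IsIso ((homologyFunctor B j).map (η.app ((singleFunctor A 0).obj X))) := by
  have hmono : ∀ X : A, Mono ((homologyFunctor B j).map (η.app ((singleFunctor A 0).obj X))) := by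
    intro X
    obtain ⟨Y, i, hY, hi⟩ := hP X
    let S := ShortComplex.mk i (cokernel.π i) (cokernel.condition i)
    have hS : S.ShortExact := { exact := ShortComplex.exact_cokernel i }
    have hT := hS.singleTriangle_distinguished
    have hTF := F.map_distinguished _ hT
    have hTG := G.map_distinguished _ hT
    let φ := ηTri F G η hS.singleTriangle
    have := hη Y hY
    have : Epi ((homologyFunctor B j₀).map φ.hom₂) := by
      have := ih Y
      change Epi ((homologyFunctor B j₀).map (η.app ((singleFunctor A 0).obj Y)))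
      infer_instance
    have : Mono ((homologyFunctor B j₀).map φ.hom₃) := by
      have := ih (cokernel i)
      change Mono ((homologyFunctor B j₀).map (η.app ((singleFunctor A 0).obj (cokernel i))))
      infer_instance
    have : Mono ((homologyFunctor B j).map φ.hom₂) := by
      change Mono ((homologyFunctor B j).map (η.app ((singleFunctor A 0).obj Y)))
      infer_instance
    exact mono_step _ _ hTF hTG φ j₀ j hj
  have hepi : Epi ((homologyFunctor B j).map (η.app ((singleFunctor A 0).obj X))) := by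
    obtain ⟨Y, i, hY, hi⟩ := hP X
    let S := ShortComplex.mk i (cokernel.π i) (cokernel.condition i)
    have hS : S.ShortExact := { exact := ShortComplex.exact_cokernel i }
    have hT := hS.singleTriangle_distinguished
    have hTF := F.map_distinguished _ hT
    have hTG := G.map_distinguished _ hT
    let φ := ηTri F G η hS.singleTriangle
    have := hη Y hY
    have : Epi ((homologyFunctor B j₀).map φ.hom₃) := by
      have := ih (cokernel i)
      change Epi ((homologyFunctor B j₀).map (η.app ((singleFunctor A 0).obj (cokernel i))))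
      infer_instance
    have : Epi ((homologyFunctor B j).map φ.hom₂) := by
      change Epi ((homologyFunctor B j).map (η.app ((singleFunctor A 0).obj Y)))
      infer_instance
    have : Mono ((homologyFunctor B j).map φ.hom₃) := hmono (cokernel i)
    exact epi_step _ _ hTF hTG φ j₀ j hj
  have := hmono X
  exact isIso_of_mono_of_epi _

theorem main (P : ObjectProperty A) (hP : ∀ X : A, ∃ (Y : A) (i : X ⟶ Y), P Y ∧ Mono i)
    (hF : ∀ n₁ : ℤ, ∃ n₂ : ℤ, ∀ Y : DerivedCategory A, Y.IsGE n₂ → (F.obj Y).IsGE n₁)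
    (hG : ∀ n₁ : ℤ, ∃ n₂ : ℤ, ∀ Y : DerivedCategory A, Y.IsGE n₂ → (G.obj Y).IsGE n₁)
    (hη : ∀ X : A, P X → IsIso (η.app ((DerivedCategory.singleFunctor A 0).obj X)))
    (X : A) :
    IsIso (η.app ((DerivedCategory.singleFunctor A 0).obj X)) := by
  obtain ⟨NF, hNF⟩ := bound F hF
  obtain ⟨NG, hNG⟩ := bound G hG
  rw [DerivedCategory.isIso_iff]
  suffices H : ∀ (n : ℕ) (j : ℤ), j < min NF NG + n → ∀ X : A,
      IsIso ((homologyFunctor B j).map (η.app ((singleFunctor A 0).obj X))) by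
    intro j
    obtain ⟨n, hn⟩ : ∃ n : ℕ, j < min NF NG + n := ⟨(j - min NF NG + 1).toNat, by omega⟩
    exact H n j hn X
  intro n
  induction n with
  | zero =>
    intro j hj X
    have := hNF X
    have := hNG X
    have z1 : IsZero ((homologyFunctor B j).obj (F.obj ((singleFunctor A 0).obj X))) :=
      isZero_of_isGE _ NF j (by omega)
    have z2 : IsZero ((homologyFunctor B j).obj (G.obj ((singleFunctor A 0).obj X))) :=
      isZero_of_isGE _ NG j (by omega)
    exact ⟨⟨0, z1.eq_of_src _ _, z2.eq_of_src _ _⟩⟩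
  | succ n ih =>
    intro j hj X
    by_cases hlt : j < min NF NG + n
    · exact ih j hlt X
    · exact step F G η P hP hη (j - 1) j (by omega) (fun X => ih (j - 1) (by omega) X) X

end tri


end helpers

/-- Fix abelian categories A and B, P a class of objects of A such that every object of A admits a
monomorphism into an object of P, F and G triangulated functors from D(A) to D(B) which are both
way-out right (given n₁ there is n₂ such that H^i(Y) = 0 for i < n₂ implies H^i(F Y) = 0 for i <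
n₁), and η : F ⟶ G a morphism of triangulated functors. If η_X is an isomorphism for every object X
of P placed in degree 0, then η_X is an isomorphism for every object X of A placed in degree 0.
(Stated for functors defined on all of D(A) and the thick subcategory taken to be all of A.) -/
theorem result {A : Type u} [Category.{v} A] [Abelian A] [HasDerivedCategory.{w} A]
    {B : Type u'} [Category.{v'} B] [Abelian B] [HasDerivedCategory.{w'} B]
    (P : ObjectProperty A) (hP : ∀ X : A, ∃ (Y : A) (i : X ⟶ Y), P Y ∧ Mono i)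
    (F G : DerivedCategory A ⥤ DerivedCategory B) [F.CommShift ℤ] [G.CommShift ℤ]
    [F.IsTriangulated] [G.IsTriangulated] (η : F ⟶ G) [NatTrans.CommShift η ℤ]
    (hF : ∀ n₁ : ℤ, ∃ n₂ : ℤ, ∀ Y : DerivedCategory A, Y.IsGE n₂ → (F.obj Y).IsGE n₁)
    (hG : ∀ n₁ : ℤ, ∃ n₂ : ℤ, ∀ Y : DerivedCategory A, Y.IsGE n₂ → (G.obj Y).IsGE n₁)
    (hη : ∀ X : A, P X → IsIso (η.app ((DerivedCategory.singleFunctor A 0).obj X)))
    (X : A) :
    IsIso (η.app ((DerivedCategory.singleFunctor A 0).obj X)) := by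
  exact main F G η P hP hF hG hη X

end Groth.Agent.S11152
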