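import Groth.Statements.S11153
import Mathlib
import Groth.Agent.Lib.helper2.InjAmp
-- import your own Groth.Agent.* helpers here

set_option autoImplicit false
universe w v u
open CategoryTheory CategoryTheory.Limits
open CohDer

namespace Groth.Agent.S11153

/-- (i) ⇔ (iii): let A be an abelian category with enough injectives and K a bounded below cochain
complex of objects of A. Then K admits a quasi-isomorphism into a bounded complex of injective
objects of A if and only if there is an integer n₀ such that Hom_{D(A)}(Y[0], K[i]) = 0 for every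
object Y of A and every i > n₀. -/
theorem result {A : Type u} [Category.{v} A] [Abelian A]
    [HasDerivedCategory.{w} A] [EnoughInjectives A]
    (K : CochainComplex A ℤ) (a : ℤ) [K.IsStrictlyGE a] :
    (∃ (I : CochainComplex A ℤ) (b c : ℤ) (f : K ⟶ I), I.IsStrictlyGE b ∧ I.IsStrictlyLE c ∧
        (∀ n : ℤ, Injective (I.X n)) ∧ QuasiIso f) ↔
      ∃ n₀ : ℤ, ∀ (Y : A) (i : ℤ), n₀ < i →
        ∀ φ : (DerivedCategory.singleFunctor A 0).obj Y ⟶ (DerivedCategory.Q.obj K)⟦i⟧, φ = 0 := by
  open Groth.Agent.Lib.helper2.InjAmp DerivedCategory in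
  constructor
  · rintro ⟨I, b, c, f, _, _, hI, hf⟩
    haveI : IsIso (Q.map f) := by rw [isIso_Q_map_iff_quasiIso]; exact hf
    refine ⟨c, fun Y i hi => ?_⟩
    exact (hom_single_shift_iff (Q.obj K) i Y).2
      (fun ψ => backward' (Q.obj K) b c I hI (asIso (Q.map f)).symm Y i (Or.inr hi) ψ)
  · rintro ⟨n₀, H⟩
    obtain ⟨I', f₀, hf₀, hI', _⟩ :=
      CochainComplex.Plus.modelCategoryQuillen.exists_quasiIso_injective K a
    haveI : IsIso (Q.map f₀) := by rw [isIso_Q_map_iff_quasiIso]; exact hf₀
    obtain ⟨hLE, hcyc⟩ := core I' a n₀ hI' (fun F i hi ψ => by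
      rw [← cancel_mono (inv (Q.map f₀)), zero_comp]
      exact (hom_single_shift_iff (Q.obj K) i F).1 (H F i hi) _)
    have hJ := injective_truncLE_X I' n₀ hI' hcyc
    haveI := isStrictlyGE_truncLE I' a n₀
    haveI : (I'.truncLE n₀).IsKInjective := CochainComplex.isKInjective_of_injective _ a
    haveI : I'.IsKInjective := CochainComplex.isKInjective_of_injective _ a
    obtain ⟨e, he⟩ := (CochainComplex.IsKInjective.quasiIso_iff (I'.ιTruncLE n₀)).1 inferInstance
    haveI : QuasiIso e.inv := e.symm.quasiIso_hom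
    exact ⟨I'.truncLE n₀, a, n₀, f₀ ≫ e.inv, inferInstance, inferInstance, hJ, inferInstance⟩

end Groth.Agent.S11153
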