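import Groth.Statements.S11159
import Mathlib
import Groth.Agent.Lib.helper2.InjAmp
-- import your own Groth.Agent.* helpers here

set_option autoImplicit false
universe w v u
open CategoryTheory CategoryTheory.Limits CategoryTheory.Pretriangulated
open CohDer

namespace Groth.Agent.S11159

/-- Let A be an abelian category with enough injectives and X ⟶ Y ⟶ Z ⟶ X⟦1⟧ a distinguished triangle in
D(A). If X and Z are each isomorphic in D(A) to a bounded complex of injective objects of A, then so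
is Y. -/
theorem result {A : Type u} [Category.{v} A] [Abelian A]
    [HasDerivedCategory.{w} A] [EnoughInjectives A]
    (T : Triangle (DerivedCategory A)) (hT : T ∈ distTriang (DerivedCategory A))
    (h₁ : (∃ (I : CochainComplex A ℤ) (b c : ℤ), I.IsStrictlyGE b ∧ I.IsStrictlyLE c ∧
        (∀ n : ℤ, Injective (I.X n)) ∧ Nonempty (T.obj₁ ≅ DerivedCategory.Q.obj I)))
    (h₃ : (∃ (I : CochainComplex A ℤ) (b c : ℤ), I.IsStrictlyGE b ∧ I.IsStrictlyLE c ∧
        (∀ n : ℤ, Injective (I.X n)) ∧ Nonempty (T.obj₃ ≅ DerivedCategory.Q.obj I))) :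
    (∃ (I : CochainComplex A ℤ) (b c : ℤ), I.IsStrictlyGE b ∧ I.IsStrictlyLE c ∧
        (∀ n : ℤ, Injective (I.X n)) ∧ Nonempty (T.obj₂ ≅ DerivedCategory.Q.obj I)) := by
  open Groth.Agent.Lib.helper2.InjAmp DerivedCategory in
  obtain ⟨I₁, b₁, c₁, _, _, hI₁, ⟨e₁⟩⟩ := h₁
  obtain ⟨I₃, b₃, c₃, _, _, hI₃, ⟨e₃⟩⟩ := h₃
  have H : ∀ (F : A) (i : ℤ), (i < min b₁ b₃ ∨ max c₁ c₃ < i) →
      ∀ ψ : (DerivedCategory.singleFunctor A i).obj F ⟶ T.obj₂, ψ = 0 := by
    intro F i hi ψ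
    have h3 : ψ ≫ T.mor₂ = 0 := backward' T.obj₃ b₃ c₃ I₃ hI₃ e₃.symm F i
      (by rcases hi with hi | hi
          · exact Or.inl (lt_of_lt_of_le hi (min_le_right _ _))
          · exact Or.inr (lt_of_le_of_lt (le_max_right _ _) hi)) _
    obtain ⟨g, hg⟩ := Pretriangulated.Triangle.coyoneda_exact₂ T hT ψ h3
    have h1 : g = 0 := backward' T.obj₁ b₁ c₁ I₁ hI₁ e₁.symm F i
      (by rcases hi with hi | hi
          · exact Or.inl (lt_of_lt_of_le hi (min_le_left _ _))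
          · exact Or.inr (lt_of_le_of_lt (le_max_left _ _) hi)) _
    rw [hg, h1, zero_comp]
  obtain ⟨I, hI, h1, h2, ⟨e⟩⟩ := forward T.obj₂ _ _ H
  exact ⟨I, _, _, h1, h2, hI, ⟨e.symm⟩⟩

end Groth.Agent.S11159
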