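import Groth.Statements.S11179
import Mathlib
import Groth.Agent.Lib.helper8.DualSelfA

set_option autoImplicit false
universe u
open CategoryTheory
attribute [local instance] HasDerivedCategory.standard
open Goren

namespace Groth.Agent.S11179

/-- A Noetherian local ring A is Gorenstein (A has finite injective dimension as a module over itself)
if and only if the complex A[0] is a dualizing complex for A (finite injective dimension expressed
by vanishing of maps M[0] → A[i] in D(A) outside a bounded range, finite cohomology, A → End(A[0])
bijective and no self-maps of nonzero degree). -/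
theorem result (A : Type u) [CommRing A] [IsLocalRing A] [IsNoetherianRing A] : LocCoh.IsGorensteinLocalRing A ↔ Dual.IsDualizing A (Dual.inD A A) := by
  constructor
  · intro hG
    obtain ⟨n, hn⟩ := hG.exists_hasInjectiveDimensionLT
    refine ⟨inferInstance, ⟨0, (n : ℤ), ?_⟩, ?_, ?_, ?_⟩
    · intro M _ _ i hi
      rcases hi with hi | hi
      · exact Groth.Agent.H8.DualSelf.subsingleton_hom_shift_neg A _ _ i hi
      · obtain ⟨k, rfl⟩ := Int.eq_ofNat_of_zero_le (show (0 : ℤ) ≤ i by omega)
        rw [Groth.Agent.H8.DualSelf.subsingleton_hom_shift_iff]
        exact HasInjectiveDimensionLT.subsingleton (ModuleCat.of A A) n k (by omega) _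
    · intro i
      by_cases hi : i = 0
      · subst hi
        have e := (DerivedCategory.singleFunctorCompHomologyFunctorIso (ModuleCat.{u} A) 0).app
          (ModuleCat.of A A)
        haveI : Module.Finite A ↑((𝟭 (ModuleCat A)).obj (ModuleCat.of A A)) :=
          (inferInstance : Module.Finite A A)
        exact Module.Finite.equiv e.toLinearEquiv.symm
      · have hz : Limits.IsZero ((DerivedCategory.homologyFunctor (ModuleCat.{u} A) i).obj
            (Dual.inD A A)) := by
          rcases lt_or_gt_of_ne hi with h | h
          · exact DerivedCategory.isZero_of_isGE _ 0 i h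
          · exact DerivedCategory.isZero_of_isLE _ 0 i h
        have : Subsingleton (Dual.HD A (Dual.inD A A) i) := ModuleCat.subsingleton_of_isZero hz
        infer_instance
    · have hmap : ∀ a : A, a • (𝟙 (Dual.inD A A)) =
          (DerivedCategory.singleFunctor (ModuleCat.{u} A) 0).map
            (a • (𝟙 (ModuleCat.of A A))) := by
        intro a
        rw [CategoryTheory.Functor.map_smul, CategoryTheory.Functor.map_id]
      constructor
      · intro a b hab
        simp only [hmap] at hab
        have h2 := (DerivedCategory.singleFunctor (ModuleCat.{u} A) 0).map_injective hab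
        have h3 := congrArg (fun f => f.hom (1 : A)) h2
        simpa using h3
      · intro f
        obtain ⟨g, rfl⟩ := (DerivedCategory.singleFunctor (ModuleCat.{u} A) 0).map_surjective f
        refine ⟨g.hom (1 : A), ?_⟩
        show (g.hom (1 : A)) • (𝟙 (Dual.inD A A)) = _
        rw [hmap]
        congr 1
        ext
        simp
    · intro i hi
      rcases lt_or_gt_of_ne hi with h | h
      · exact Groth.Agent.H8.DualSelf.subsingleton_hom_shift_neg A _ _ i h
      · obtain ⟨k, rfl⟩ := Int.eq_ofNat_of_zero_le (show (0 : ℤ) ≤ i by omega)
        rw [Groth.Agent.H8.DualSelf.subsingleton_hom_shift_iff]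
        have : Projective (ModuleCat.of A A) := inferInstance
        obtain ⟨k, rfl⟩ : ∃ j, k = j + 1 := ⟨k - 1, by omega⟩
        exact ⟨fun x y => by
          rw [Abelian.Ext.eq_zero_of_projective x, Abelian.Ext.eq_zero_of_projective y]⟩
  · intro h
    obtain ⟨a, b, hab⟩ := h.finite_injective_dimension
    refine { exists_hasInjectiveDimensionLT := ⟨(b + 1).toNat, ?_⟩ }
    refine HasInjectiveDimensionLT.mk (fun i hi Y e => ?_)
    have hs := hab Y (i : ℤ) (Or.inr (by omega))
    have hs' : Subsingleton (Abelian.Ext.{u} Y (ModuleCat.of A A) i) :=
      (Groth.Agent.H8.DualSelf.subsingleton_hom_shift_iff A Y (ModuleCat.of A A) i).1 hs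
    exact Subsingleton.elim _ _

end Groth.Agent.S11179
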