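import Groth.Statements.S11180
import Mathlib
import Groth.Agent.S0543

set_option autoImplicit false
universe u
open scoped TensorProduct
open CAlg

namespace Groth.Agent.S11180

open TensorProduct in

/-- Let A be a Noetherian ring and M an A-module. If an element m of M is such that 1 ⊗ m = 0 in B ⊗_A M
for every A-algebra B which is a complete Noetherian local ring, flat over A, then m = 0.
(Equivalently the natural map from M to the limit of the modules B ⊗_A M over all such B is
injective.) -/
theorem result (A : Type u) [CommRing A] [IsNoetherianRing A] (M : Type u) [AddCommGroup M] [Module A M] (m : M) (h : ∀ (B : Type u) [CommRing B] [Algebra A B] [IsNoetherianRing B] [IsLocalRing B], IsAdicComplete (IsLocalRing.maximalIdeal B) B → Module.Flat A B → (1 : B) ⊗ₜ[A] m = 0) : m = 0 := by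
  by_contra hm
  let g : A →ₗ[A] M := LinearMap.toSpanSingleton A M m
  set Ann : Ideal A := LinearMap.ker g with hAnn
  have hne : Ann ≠ ⊤ := by
    intro htop
    have : (1 : A) ∈ Ann := by rw [htop]; trivial
    rw [hAnn, LinearMap.mem_ker] at this
    simp [g] at this
    exact hm this
  obtain ⟨p, hp, hle⟩ := Ideal.exists_le_maximal Ann hne
  haveI := hp.isPrime
  set Ap := Localization.AtPrime p with hAp
  set B := AdicCompletion (IsLocalRing.maximalIdeal Ap) Ap with hB
  haveI : IsNoetherianRing B := Groth.Agent.S0543.result Ap _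
  haveI : Module.Flat A B := Module.Flat.trans A Ap B
  have h0 := h B inferInstance inferInstance
  -- the injective map `A/Ann → M`
  let j : (A ⧸ Ann) →ₗ[A] M := Submodule.liftQ Ann g le_rfl
  have hj : Function.Injective j :=
    LinearMap.ker_eq_bot.mp (Submodule.ker_liftQ_eq_bot _ _ _ le_rfl)
  have hjB : Function.Injective (j.lTensor B) :=
    Module.Flat.lTensor_preserves_injective_linearMap j hj
  have h1 : (1 : B) ⊗ₜ[A] (Submodule.Quotient.mk (1 : A) : A ⧸ Ann) = 0 := by
    apply hjB
    rw [LinearMap.lTensor_tmul, map_zero]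
    have : j (Submodule.Quotient.mk (1 : A)) = m := by
      change (Submodule.liftQ Ann g le_rfl) (Submodule.Quotient.mk (1 : A)) = m
      rw [Submodule.liftQ_apply]
      simp [g]
    rw [this]
    exact h0
  have h2 := congrArg (TensorProduct.tensorQuotEquivQuotSMul B Ann) h1
  rw [map_zero] at h2
  have h3 : (TensorProduct.tensorQuotEquivQuotSMul B Ann)
      ((1 : B) ⊗ₜ[A] (Ideal.Quotient.mk Ann (1 : A))) = Submodule.Quotient.mk ((1 : A) • (1 : B)) :=
    TensorProduct.tensorQuotEquivQuotSMul_tmul_mk _ _ _
  have h4 : (Submodule.Quotient.mk ((1 : A) • (1 : B)) : B ⧸ (Ann • (⊤ : Submodule A B))) = 0 := by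
    rw [← h3]; exact h2
  rw [Submodule.Quotient.mk_eq_zero, one_smul] at h4
  have h5 : (Ann • (⊤ : Submodule A B)) ≤ (IsLocalRing.maximalIdeal B).restrictScalars A := by
    rw [Submodule.smul_le]
    intro a ha b _
    rw [Submodule.restrictScalars_mem, Algebra.smul_def]
    refine Ideal.mul_mem_right _ _ ?_
    have h6 : algebraMap A Ap a ∈ IsLocalRing.maximalIdeal Ap := by
      rw [← Localization.AtPrime.map_eq_maximalIdeal]
      exact Ideal.mem_map_of_mem _ (hle ha)
    rw [IsScalarTower.algebraMap_apply A Ap B, AdicCompletion.maximalIdeal_eq_map]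
    exact Ideal.mem_map_of_mem _ h6
  have h7 := h5 h4
  rw [Submodule.restrictScalars_mem] at h7
  exact (IsLocalRing.maximalIdeal.isMaximal B).ne_top ((Ideal.eq_top_iff_one _).mpr h7)

end Groth.Agent.S11180
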