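import Groth.Statements.S11185
import Mathlib
import Groth.Agent.Lib.helper8.DualSelfB
import Groth.Agent.Lib.helper21.GorRing
import Groth.Agent.S0342

set_option autoImplicit false
universe u
open CategoryTheory
attribute [local instance] HasDerivedCategory.standard
open Dual

namespace Groth.Agent.S11185

/-- Let A be a Noetherian ring all of whose local rings A_p at primes are regular and whose Krull
dimension is finite. Then the complex A[0] is a dualizing complex for A (finite injective dimension,
finite cohomology, A → End(A[0]) bijective and no self-maps of nonzero degree). -/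
theorem result (A : Type u) [CommRing A] [IsNoetherianRing A] (hreg : ∀ p : PrimeSpectrum A, IsRegularLocalRing (Localization.AtPrime p.asIdeal)) (hdim : ringKrullDim A < ⊤) : Dual.IsDualizing A (Dual.inD A A) := by
  haveI hG : LocCoh.IsGorensteinRing A :=
    { isGorensteinLocalRing_localization := fun p hp => by
        haveI := hreg ⟨p, hp⟩
        exact Groth.Agent.S0342.result (Localization.AtPrime p) }
  obtain ⟨d, hd⟩ : ∃ d : ℕ, ringKrullDim A ≤ (d : WithBot ℕ∞) := by
    rcases h0 : ringKrullDim A with _ | x
    · exact ⟨0, bot_le⟩
    · rcases x with _ | d
      · exfalso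
        rw [h0] at hdim
        exact lt_irrefl _ hdim
      · exact ⟨d, le_rfl⟩
  exact Groth.Agent.H8.DualSelf.isDualizing_self_of_hasInjectiveDimensionLT A (d + 1)
    (Groth.Agent.H21.GorRing.hasInjectiveDimensionLT_of_isGorensteinRing A d hd)

end Groth.Agent.S11185
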