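import Groth.Statements.S11217
import Mathlib

set_option autoImplicit false
universe u
open CategoryTheory MonoidalCategory CartesianMonoidalCategory MonObj GrpObj AlgebraicGeometry
open scoped TensorProduct
open AGF

namespace Groth.Agent.S11217

open MvPolynomial in
theorem der_sum_apply {k : Type u} [Field k] {κ : Type*} (s : Finset κ)
    (D : κ → Derivation k (MvPolynomial (Fin 7) k) (MvPolynomial (Fin 7) k))
    (f : MvPolynomial (Fin 7) k) : (∑ j ∈ s, D j) f = ∑ j ∈ s, D j f := by
  classical
  induction s using Finset.induction_on with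
  | empty => simp
  | insert a s ha ih => rw [Finset.sum_insert ha, Finset.sum_insert ha, Derivation.add_apply, ih]

open MvPolynomial in
theorem mkD_eq {k : Type u} [Field k] (w : Fin 7 → MvPolynomial (Fin 7) k)
    (f : MvPolynomial (Fin 7) k) :
    mkDerivation k w f = ∑ j, w j * pderiv j f := by
  have h : mkDerivation k w = ∑ j, w j • (pderiv j : Derivation k (MvPolynomial (Fin 7) k) (MvPolynomial (Fin 7) k)) := by
    apply MvPolynomial.derivation_ext
    intro i
    rw [mkDerivation_X, der_sum_apply]
    rw [Finset.sum_eq_single i]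
    · rw [Derivation.smul_apply, pderiv_X_self, smul_eq_mul, _root_.mul_one]
    · intro j _ hj
      rw [Derivation.smul_apply, pderiv_X_of_ne (Ne.symm hj), smul_zero]
    · intro h
      exact absurd (Finset.mem_univ i) h
  rw [h, der_sum_apply]
  rfl

open MvPolynomial in
theorem key {k : Type u} [Field k] [CharZero k] (w : Fin 7 → MvPolynomial (Fin 7) k)
    (s : Fin 7 → (Fin 7 →₀ ℕ)) (act : Finset (Fin 7))
    (hw0 : ∀ j, j ∉ act → w j = 0) (hw1 : ∀ j ∈ act, w j = monomial (s j) 1)
    (f : MvPolynomial (Fin 7) k) (hD : mkDerivation k w f = 0)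
    (d : Fin 7 →₀ ℕ) (hd : d ∈ f.support) (i : Fin 7) (hi : i ∈ act) (hdi : 1 ≤ d i)
    (hother : ∀ j ∈ act, j ≠ i → ¬ s j ≤ (d - Finsupp.single i 1) + s i) : False := by
  have h0 := congrArg (coeff ((d - Finsupp.single i 1) + s i)) hD
  rw [mkD_eq, coeff_sum, coeff_zero, Finset.sum_eq_single i] at h0
  · rw [hw1 i hi, coeff_monomial_mul', if_pos le_add_self, add_tsub_cancel_right, _root_.one_mul,
      coeff_pderiv] at h0
    have e1 : d - Finsupp.single i 1 + Finsupp.single i 1 = d := by
      apply tsub_add_cancel_of_le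
      rw [Finsupp.single_le_iff]
      exact hdi
    have e2 : (d - Finsupp.single i 1 : Fin 7 →₀ ℕ) i + 1 = d i := by
      rw [Finsupp.tsub_apply, Finsupp.single_eq_same]
      omega
    rw [e1] at h0
    have e3 : ((((d - Finsupp.single i 1 : Fin 7 →₀ ℕ) i : ℕ) : k)) + 1 = ((d i : ℕ) : k) := by
      rw [← e2]; push_cast; ring
    rw [e3] at h0
    rcases mul_eq_zero.1 h0 with h | h
    · exact (MvPolynomial.mem_support_iff.1 hd) h
    · have : d i = 0 := by exact_mod_cast h
      omega
  · intro j _ hj
    by_cases hja : j ∈ act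
    · rw [hw1 j hja, coeff_monomial_mul', if_neg (hother j hja hj)]
    · rw [hw0 j hja, zero_mul, coeff_zero]
  · intro h
    exact absurd (Finset.mem_univ i) h

open MvPolynomial in
theorem result' (k : Type u) [Field k] [CharZero k] (m : ℕ) (hm : 2 ≤ m) (n : ℕ) (hn : 1 ≤ n)
    (f : MvPolynomial (Fin 7) k)
    (hf : MvPolynomial.IsWeightedHomogeneous (![0, 0, 0, 1, 1, 1, 1] : Fin 7 → ℕ) f n)
    (hδ : MvPolynomial.mkDerivation k
      (![0, 0, 0, MvPolynomial.X 0 ^ (m + 1), MvPolynomial.X 1 ^ (m + 1), MvPolynomial.X 2 ^ (m + 1),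
        (MvPolynomial.X 0 * MvPolynomial.X 1 * MvPolynomial.X 2) ^ m] : Fin 7 → MvPolynomial (Fin 7) k) f = 0) :
    ∀ d ∈ f.support, 0 < d 0 + d 1 + d 2 := by
  intro d hd
  by_contra hcon
  have h012 : d 0 = 0 ∧ d 1 = 0 ∧ d 2 = 0 := by omega
  obtain ⟨h0, h1, h2⟩ := h012
  have hwt := hf (MvPolynomial.mem_support_iff.1 hd)
  have hsum : d 3 + d 4 + d 5 + d 6 = n := by
    rw [Finsupp.weight_apply, Finsupp.sum_fintype _ _ (by simp)] at hwt
    simp [Fin.sum_univ_succ] at hwt
    omega
  let s : Fin 7 → (Fin 7 →₀ ℕ) := ![0, 0, 0, Finsupp.single 0 (m + 1), Finsupp.single 1 (m + 1),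
    Finsupp.single 2 (m + 1), Finsupp.single 0 m + Finsupp.single 1 m + Finsupp.single 2 m]
  let act : Finset (Fin 7) := {3, 4, 5, 6}
  let w : Fin 7 → MvPolynomial (Fin 7) k :=
    ![0, 0, 0, MvPolynomial.X 0 ^ (m + 1), MvPolynomial.X 1 ^ (m + 1), MvPolynomial.X 2 ^ (m + 1),
        (MvPolynomial.X 0 * MvPolynomial.X 1 * MvPolynomial.X 2) ^ m]
  have hw0 : ∀ j, j ∉ act → w j = 0 := by
    intro j hj
    fin_cases j <;> simp [act] at hj <;> rfl
  have hw1 : ∀ j ∈ act, w j = monomial (s j) 1 := by
    intro j hj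
    fin_cases j <;> simp [act] at hj
    · change (X 0 : MvPolynomial (Fin 7) k) ^ (m + 1) = monomial (Finsupp.single 0 (m + 1)) 1
      rw [X_pow_eq_monomial]
    · change (X 1 : MvPolynomial (Fin 7) k) ^ (m + 1) = monomial (Finsupp.single 1 (m + 1)) 1
      rw [X_pow_eq_monomial]
    · change (X 2 : MvPolynomial (Fin 7) k) ^ (m + 1) = monomial (Finsupp.single 2 (m + 1)) 1
      rw [X_pow_eq_monomial]
    · change ((X 0 : MvPolynomial (Fin 7) k) * X 1 * X 2) ^ m
        = monomial (Finsupp.single 0 m + Finsupp.single 1 m + Finsupp.single 2 m) 1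
      rw [mul_pow, mul_pow, X_pow_eq_monomial, X_pow_eq_monomial, X_pow_eq_monomial,
        monomial_mul, monomial_mul, _root_.one_mul, _root_.one_mul]
  have hcases : 1 ≤ d 3 ∨ 1 ≤ d 4 ∨ 1 ≤ d 5 ∨ 1 ≤ d 6 := by omega
  rcases hcases with h | h | h | h
  · refine key w s act hw0 hw1 f hδ d hd 3 (by simp [act]) h ?_
    intro j hj hne hle
    fin_cases j <;> simp [act] at hj hne
    · have := Finsupp.le_def.1 hle 1
      simp [s, h1] at this
    · have := Finsupp.le_def.1 hle 2
      simp [s, h2] at this
    · have := Finsupp.le_def.1 hle 1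
      simp [s, h1] at this
      omega
  · refine key w s act hw0 hw1 f hδ d hd 4 (by simp [act]) h ?_
    intro j hj hne hle
    fin_cases j <;> simp [act] at hj hne
    · have := Finsupp.le_def.1 hle 0
      simp [s, h0] at this
    · have := Finsupp.le_def.1 hle 2
      simp [s, h2] at this
    · have := Finsupp.le_def.1 hle 0
      simp [s, h0] at this
      omega
  · refine key w s act hw0 hw1 f hδ d hd 5 (by simp [act]) h ?_
    intro j hj hne hle
    fin_cases j <;> simp [act] at hj hne
    · have := Finsupp.le_def.1 hle 0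
      simp [s, h0] at this
    · have := Finsupp.le_def.1 hle 1
      simp [s, h1] at this
    · have := Finsupp.le_def.1 hle 0
      simp [s, h0] at this
      omega
  · refine key w s act hw0 hw1 f hδ d hd 6 (by simp [act]) h ?_
    intro j hj hne hle
    fin_cases j <;> simp [act] at hj hne
    · have := Finsupp.le_def.1 hle 0
      simp [s, h0] at this
    · have := Finsupp.le_def.1 hle 1
      simp [s, h1] at this
    · have := Finsupp.le_def.1 hle 2
      simp [s, h2] at this

/-- Let k be a field of characteristic zero and m ≥ 2; in the polynomial ring k[x, y, z, s, t, u, v]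
(variables 0, …, 6) let δ be the k-derivation with δ(x) = δ(y) = δ(z) = 0, δ(s) = x^(m+1), δ(t) =
y^(m+1), δ(u) = z^(m+1), δ(v) = (xyz)^m, and grade by total degree in s, t, u, v. If f is
homogeneous of degree n ≥ 1 for this grading and δ(f) = 0, then every coefficient of f, as a
polynomial in s, t, u, v over k[x, y, z], lies in the ideal (x, y, z): every monomial of f has
positive degree in x, y, z. (The published statement allows n = 0, where the constant 1 is a
counterexample; this row assumes n ≥ 1. The published definition of the derivation gives δ(v) =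
(xyz)^(m+1), for which the assertion fails: v − (yz)^(m+1)·s is killed by δ and has the monomial v
with coefficient 1; this row uses δ(v) = (xyz)^m, the exponent of the published action formula and
of the published examples of invariants.) -/
theorem result (k : Type u) [Field k] [CharZero k] (m : ℕ) (hm : 2 ≤ m) (n : ℕ) (hn : 1 ≤ n)
    (f : MvPolynomial (Fin 7) k)
    (hf : MvPolynomial.IsWeightedHomogeneous (![0, 0, 0, 1, 1, 1, 1] : Fin 7 → ℕ) f n)
    (hδ : MvPolynomial.mkDerivation k
      (![0, 0, 0, MvPolynomial.X 0 ^ (m + 1), MvPolynomial.X 1 ^ (m + 1), MvPolynomial.X 2 ^ (m + 1),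
        (MvPolynomial.X 0 * MvPolynomial.X 1 * MvPolynomial.X 2) ^ m] : Fin 7 → MvPolynomial (Fin 7) k) f = 0) :
    ∀ d ∈ f.support, 0 < d 0 + d 1 + d 2 := by
  exact result' k m hm n hn f hf hδ

end Groth.Agent.S11217
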