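import Groth.Statements.S11221
import Mathlib

set_option autoImplicit false
universe u
open CategoryTheory MonoidalCategory CartesianMonoidalCategory MonObj GrpObj AlgebraicGeometry
open scoped TensorProduct
open AGF

namespace Groth.Agent.S11221

/-- Let R be a Noetherian integrally closed domain with fraction field K and let p be a prime ideal of R
of height one. Then there is f ∈ K which is not in R but lies in the local ring R_q ⊆ K of every
height-one prime q ≠ p (f = a/b with b ∉ q): a rational function on Spec R with a pole along V(p)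
only. (The published statement is for the coordinate ring of a normal affine variety; this row is
for any Noetherian integrally closed domain, which is all the argument uses.) -/
theorem result (R : Type u) [CommRing R] [IsDomain R] [IsNoetherianRing R] [IsIntegrallyClosed R]
    (p : Ideal R) [p.IsPrime] (hp : p.height = 1) :
    ∃ f : FractionRing R, f ∉ Set.range ⇑(algebraMap R (FractionRing R)) ∧
      ∀ q : Ideal R, q.IsPrime → q.height = 1 → q ≠ p →
        ∃ a b : R, b ∉ q ∧ f * algebraMap R (FractionRing R) b = algebraMap R (FractionRing R) a := by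
  classical
  let K := FractionRing R
  have hpbot : p ≠ ⊥ := by
    intro h
    rw [h] at hp
    have h0 : (⊥ : Ideal R).height = 0 := Ideal.height_eq_zero_iff_eq_bot.2 rfl
    rw [h0] at hp
    exact zero_ne_one hp
  obtain ⟨b, hbp, hb0⟩ := Submodule.exists_mem_ne_zero_of_ne_bot hpbot
  have hle : Ideal.span {b} ≤ p := (Ideal.span_singleton_le_iff_mem p).2 hbp
  obtain ⟨p', hp'min, hp'le⟩ := Ideal.exists_minimalPrimes_le hle
  haveI : p'.IsPrime := hp'min.1.1
  have hbp' : b ∈ p' := hp'min.1.2 (Ideal.mem_span_singleton_self b)
  have hp'eq : p' = p := by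
    by_contra hne
    have hlt : p' < p := lt_of_le_of_ne hp'le hne
    haveI : p.FiniteHeight := by
      rw [Ideal.finiteHeight_iff]
      right
      rw [hp]
      exact ENat.one_ne_top
    have h1 := Ideal.height_strict_mono_of_isPrime_of_isPrime hlt
    rw [hp] at h1
    have h0 : p'.height = 0 := by
      rw [← Order.lt_one_iff]
      exact h1
    have := Ideal.height_eq_zero_iff_eq_bot.1 h0
    rw [this] at hbp'
    exact hb0 ((Submodule.mem_bot R).1 hbp')
  rw [hp'eq] at hp'min
  have hass : p ∈ associatedPrimes R (R ⧸ Ideal.span {b}) := by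
    apply Module.associatedPrimes.minimalPrimes_annihilator_subset_associatedPrimes
    rw [Ideal.annihilator_quotient]
    exact hp'min
  obtain ⟨_, x, hx⟩ := isAssociatedPrime_iff.1 hass
  obtain ⟨a, rfl⟩ := Ideal.Quotient.mk_surjective x
  have hmem : ∀ c : R, c ∈ p ↔ c * a ∈ Ideal.span {b} := by
    intro c
    rw [hx, Submodule.mem_colon_singleton, Submodule.mem_bot, ← Ideal.Quotient.eq_zero_iff_mem]
    rfl
  have ha : a ∉ Ideal.span {b} := by
    intro ha
    have : (1 : R) ∈ p := by
      rw [hmem, _root_.one_mul]
      exact ha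
    exact ‹p.IsPrime›.ne_top ((Ideal.eq_top_iff_one p).2 this)
  have hbK : algebraMap R K b ≠ 0 := by
    intro h
    exact hb0 ((IsFractionRing.injective R K) (by rw [h, map_zero]))
  refine ⟨algebraMap R K a / algebraMap R K b, ?_, ?_⟩
  · rintro ⟨r, hr⟩
    apply ha
    rw [Ideal.mem_span_singleton']
    refine ⟨r, ?_⟩
    apply IsFractionRing.injective R K
    rw [map_mul, hr, div_mul_cancel₀ _ hbK]
  · intro q hqp hq hne
    have hex : ∃ c ∈ p, c ∉ q := by
      by_contra hcon
      push Not at hcon
      have hpq : p ≤ q := hcon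
      have hlt : p < q := lt_of_le_of_ne hpq (Ne.symm hne)
      haveI : q.FiniteHeight := by
        rw [Ideal.finiteHeight_iff]
        right
        rw [hq]
        exact ENat.one_ne_top
      have h1 := Ideal.height_strict_mono_of_isPrime_of_isPrime hlt
      rw [hp, hq] at h1
      exact lt_irrefl _ h1
    obtain ⟨c, hcp, hcq⟩ := hex
    obtain ⟨d, hd⟩ := Ideal.mem_span_singleton'.1 ((hmem c).1 hcp)
    refine ⟨d, c, hcq, ?_⟩
    rw [div_mul_eq_mul_div, div_eq_iff hbK, ← map_mul, ← map_mul, hd, mul_comm]

end Groth.Agent.S11221
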