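import Groth.Statements.S11223
import Mathlib

set_option autoImplicit false
universe u
open CAlg

namespace Groth.Agent.S11223

namespace S11223aux
open MvPolynomial

attribute [local instance] MvPolynomial.gradedAlgebra

variable {k : Type u} [Field k] {n m : ℕ}

/-- homogeneous component of a product with a homogeneous right factor -/
theorem hc_mul (q z : MvPolynomial (Fin n) k) (d e : ℕ) (hz : z.IsHomogeneous d) :
    homogeneousComponent e (q * z) =
      if d ≤ e then homogeneousComponent (e - d) q * z else 0 := by
  have := DirectSum.coe_decompose_mul_of_right_mem (homogeneousSubmodule (Fin n) k) (a := q) e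
    ((mem_homogeneousSubmodule d z).mpr hz)
  simpa [← decomposition.decompose'_apply] using this

/-- homogeneous elements of the ideal `(z_j)` have homogeneous coefficients of the right degrees -/
theorem exists_coeffs (z : Fin m → MvPolynomial (Fin n) k) (d : Fin m → ℕ)
    (hz : ∀ i, (z i).IsHomogeneous (d i)) (p : MvPolynomial (Fin n) k) (e : ℕ)
    (hp : p.IsHomogeneous e) (hmem : p ∈ Ideal.span (Set.range z)) :
    ∃ a : Fin m → MvPolynomial (Fin n) k,
      (∀ j, a j = 0 ∨ (a j).totalDegree + d j ≤ e) ∧ p = ∑ j, a j * z j := by
  obtain ⟨q, hq⟩ := (Ideal.mem_span_range_iff_exists_fun).mp hmem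
  refine ⟨fun j => if d j ≤ e then homogeneousComponent (e - d j) (q j) else 0, ?_, ?_⟩
  · intro j
    by_cases hj : d j ≤ e
    · right
      simp only [if_pos hj]
      have := (homogeneousComponent_isHomogeneous (e - d j) (q j)).totalDegree_le
      omega
    · left
      simp only [if_neg hj]
  · rw [← homogeneousComponent_eq_self hp, ← hq, map_sum]
    refine Finset.sum_congr rfl fun j _ => ?_
    rw [hc_mul _ _ _ _ (hz j)]
    by_cases hj : d j ≤ e
    · simp only [if_pos hj]
    · simp only [if_neg hj, zero_mul]

end S11223aux

/-- Let k be a field, let z_1, ..., z_m be homogeneous polynomials of positive degree in the polynomial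
ring k[x_1, ..., x_n], and suppose the radical of the ideal (z_1, ..., z_m) is the ideal (x_1, ...,
x_n) generated by the variables. Then the polynomial ring is integral over the subalgebra generated
by z_1, ..., z_m. (The published statement is over an algebraically closed field; this row takes any
field, which its proof allows.) -/
theorem result (k : Type u) [Field k] (n m : ℕ)
    (z : Fin m → MvPolynomial (Fin n) k) (d : Fin m → ℕ) (hd : ∀ i, 0 < d i)
    (hz : ∀ i, (z i).IsHomogeneous (d i))
    (hrad : (Ideal.span (Set.range z)).radical =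
      Ideal.span (Set.range (MvPolynomial.X : Fin n → MvPolynomial (Fin n) k))) :
    Algebra.IsIntegral (Algebra.adjoin k (Set.range z)) (MvPolynomial (Fin n) k) := by
  classical
  have hN0 : ∀ i : Fin n, ∃ N, (MvPolynomial.X i : MvPolynomial (Fin n) k) ^ N ∈
      Ideal.span (Set.range z) := by
    intro i
    have : (MvPolynomial.X i : MvPolynomial (Fin n) k) ∈ (Ideal.span (Set.range z)).radical := by
      rw [hrad]; exact Ideal.subset_span ⟨i, rfl⟩
    exact this
  choose N0 hN0 using hN0
  obtain ⟨N, hNdef⟩ : ∃ N, N = Finset.univ.sup N0 := ⟨_, rfl⟩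
  have hN : ∀ i, (MvPolynomial.X i : MvPolynomial (Fin n) k) ^ N ∈ Ideal.span (Set.range z) := by
    intro i
    have hle : N0 i ≤ N := hNdef ▸ Finset.le_sup (Finset.mem_univ i)
    rw [← Nat.sub_add_cancel hle, pow_add]
    exact Ideal.mul_mem_left _ _ (hN0 i)
  have hcoef := fun i => S11223aux.exists_coeffs z d hz (MvPolynomial.X i ^ N) N
    (MvPolynomial.isHomogeneous_X_pow i N) (hN i)
  choose a ha1 ha2 using hcoef
  let δ : (Fin n →₀ ℕ) → ℕ := fun μ => μ.sum fun _ e => e
  have hδ : ∀ μ : Fin n →₀ ℕ, δ μ = ∑ i, μ i := fun μ => Finsupp.sum_fintype _ _ (fun _ => rfl)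
  let D := n * N + 1
  let B : Set (MvPolynomial (Fin n) k) :=
    (fun μ => MvPolynomial.monomial μ (1 : k)) '' {μ : Fin n →₀ ℕ | δ μ < D}
  have hBfin : B.Finite := by
    refine Set.Finite.image _ ?_
    have h1 : (Set.pi Set.univ (fun _ : Fin n => Set.Iio D)).Finite :=
      Set.Finite.pi (fun _ => Set.finite_Iio D)
    refine (h1.preimage (f := fun μ : Fin n →₀ ℕ => (μ : Fin n → ℕ))
      (Set.injOn_of_injective DFunLike.coe_injective)).subset ?_
    intro μ hμ i _
    change μ i < D
    have : μ i ≤ δ μ := by
      rw [hδ]; exact Finset.single_le_sum (fun _ _ => Nat.zero_le _) (Finset.mem_univ i)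
    exact lt_of_le_of_lt this hμ
  let T := Algebra.adjoin k (Set.range z)
  let W : Submodule T (MvPolynomial (Fin n) k) := Submodule.span T B
  have hzW : ∀ j, ∀ w ∈ W, w * z j ∈ W := by
    intro j w hw
    have : w * z j = (⟨z j, Algebra.subset_adjoin ⟨j, rfl⟩⟩ : T) • w := by
      rw [Subalgebra.smul_def, smul_eq_mul, mul_comm]
    rw [this]
    exact Submodule.smul_mem _ _ hw
  have hCW : ∀ c : k, ∀ w ∈ W, MvPolynomial.C c * w ∈ W := by
    intro c w hw
    have : MvPolynomial.C c * w = (algebraMap k T c) • w := by
      rw [Subalgebra.smul_def, smul_eq_mul]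
      rfl
    rw [this]
    exact Submodule.smul_mem _ _ hw
  have hpoly : ∀ p : MvPolynomial (Fin n) k,
      (∀ μ ∈ p.support, MvPolynomial.monomial μ (1 : k) ∈ W) → p ∈ W := by
    intro p hp
    rw [p.as_sum]
    refine Submodule.sum_mem _ fun μ hμ => ?_
    have : MvPolynomial.monomial μ (MvPolynomial.coeff μ p) =
        MvPolynomial.C (MvPolynomial.coeff μ p) * MvPolynomial.monomial μ (1 : k) := by
      rw [MvPolynomial.C_mul_monomial, mul_one]
    rw [this]
    exact hCW _ _ (hp μ hμ)
  have key : ∀ e : ℕ, ∀ μ : Fin n →₀ ℕ, δ μ ≤ e → MvPolynomial.monomial μ (1 : k) ∈ W := by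
    intro e
    induction e with
    | zero =>
      intro μ hμ
      exact Submodule.subset_span ⟨μ, by change δ μ < D; omega, rfl⟩
    | succ e ih =>
      intro μ hμ
      by_cases hlt : δ μ < D
      · exact Submodule.subset_span ⟨μ, hlt, rfl⟩
      · -- some exponent exceeds N
        have hex : ∃ i, N < μ i := by
          by_contra hcon
          push Not at hcon
          have : δ μ ≤ n * N := by
            rw [hδ]
            calc ∑ i, μ i ≤ ∑ _i : Fin n, N := Finset.sum_le_sum fun i _ => hcon i
              _ = n * N := by simp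
          omega
        obtain ⟨i, hi⟩ := hex
        have hsplit : μ = (μ - Finsupp.single i N) + Finsupp.single i N := by
          rw [tsub_add_cancel_of_le]
          rw [Finsupp.single_le_iff]
          exact hi.le
        set μ' := μ - Finsupp.single i N with hμ'
        have hδμ : δ μ = δ μ' + N := by
          rw [hsplit, hδ, hδ]
          simp only [Finsupp.add_apply, Finset.sum_add_distrib]
          congr 1
          rw [Finset.sum_eq_single i]
          · simp
          · intro b _ hb
            simp [Finsupp.single_apply, Ne.symm hb]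
          · intro h; exact absurd (Finset.mem_univ i) h
        have hmono : MvPolynomial.monomial μ (1 : k) =
            ∑ j, (MvPolynomial.monomial μ' (1 : k) * a i j) * z j := by
          rw [hsplit, ← one_mul (1 : k), ← MvPolynomial.monomial_mul, ← MvPolynomial.X_pow_eq_monomial,
            ha2 i, Finset.mul_sum]
          refine Finset.sum_congr rfl fun j _ => ?_
          rw [one_mul, mul_assoc]
        rw [hmono]
        refine Submodule.sum_mem _ fun j _ => hzW j _ ?_
        rcases ha1 i j with h0 | hdeg
        · rw [h0, mul_zero]; exact zero_mem _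
        · apply hpoly
          intro ν hν
          apply ih
          have h1 : δ ν ≤ (MvPolynomial.monomial μ' (1 : k) * a i j).totalDegree :=
            MvPolynomial.le_totalDegree hν
          have h2 := MvPolynomial.totalDegree_mul (MvPolynomial.monomial μ' (1 : k)) (a i j)
          have h3 : (MvPolynomial.monomial μ' (1 : k)).totalDegree = δ μ' :=
            MvPolynomial.totalDegree_monomial μ' one_ne_zero
          have h4 := hd j
          change δ ν ≤ e
          omega
  have htop : W = ⊤ := by
    rw [eq_top_iff]
    intro p _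
    exact hpoly p fun μ _ => key (δ μ) μ le_rfl
  haveI : Module.Finite T (MvPolynomial (Fin n) k) :=
    Module.finite_def.mpr (htop ▸ Submodule.fg_span hBfin)
  exact Algebra.IsIntegral.of_finite T (MvPolynomial (Fin n) k)

end Groth.Agent.S11223
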