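import Groth.Statements.S11233
import Mathlib

set_option autoImplicit false
universe u
open CAlg

namespace Groth.Agent.S11233

/-- Let k be an algebraically closed field, A an integral domain which is a k-algebra, T an m by m
matrix over A with invertible determinant, and let the additive group k^m act on the polynomial ring
A[y_1, ..., y_m] by the A-algebra maps y_s ↦ y_s + Σ_r h_r T_rs. Then the only invariant polynomials
are the constants: a polynomial fixed by all these substitutions lies in A. -/
theorem result (k : Type u) [Field k] [IsAlgClosed k]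
    (A : Type u) [CommRing A] [IsDomain A] [Algebra k A] (m : ℕ) (T : Matrix (Fin m) (Fin m) A)
    (hT : IsUnit T.det) (f : MvPolynomial (Fin m) A)
    (hf : ∀ h : Fin m → k, MvPolynomial.aeval
      (fun s : Fin m => MvPolynomial.X s + MvPolynomial.C (∑ r : Fin m, algebraMap k A (h r) * T r s)) f = f) :
    ∃ a : A, f = MvPolynomial.C a := by
  classical
  let Φ : MvPolynomial (Fin m) A →ₐ[A] MvPolynomial (Fin m) (MvPolynomial (Fin m) A) :=
    MvPolynomial.aeval (fun s : Fin m =>
      MvPolynomial.C (MvPolynomial.X s : MvPolynomial (Fin m) A) +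
        ∑ r : Fin m, MvPolynomial.X r * MvPolynomial.C (MvPolynomial.C (T r s)))
  have hev : ∀ (x : Fin m → MvPolynomial (Fin m) A) (g : MvPolynomial (Fin m) A),
      MvPolynomial.eval x (Φ g) = MvPolynomial.aeval (fun s : Fin m =>
        (MvPolynomial.X s : MvPolynomial (Fin m) A) + ∑ r : Fin m, x r * MvPolynomial.C (T r s)) g := by
    intro x g
    induction g using MvPolynomial.induction_on with
    | C a =>
      simp only [Φ, MvPolynomial.aeval_C]
      rw [IsScalarTower.algebraMap_apply A (MvPolynomial (Fin m) A)
        (MvPolynomial (Fin m) (MvPolynomial (Fin m) A)), MvPolynomial.algebraMap_eq,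
        MvPolynomial.algebraMap_eq, MvPolynomial.eval_C]
    | add p q hp hq => rw [map_add, map_add, hp, hq, map_add]
    | mul_X p i hp =>
      rw [map_mul, map_mul, hp, map_mul]
      congr 1
      simp only [Φ, MvPolynomial.aeval_X, map_add, MvPolynomial.eval_C, map_sum, map_mul,
        MvPolynomial.eval_X]
  have hG0 : Φ f - MvPolynomial.C f = 0 := by
    refine MvPolynomial.funext_set
      (fun _ => Set.range (fun c : k => (MvPolynomial.C (algebraMap k A c) : MvPolynomial (Fin m) A)))
      (fun _ => Set.infinite_range_of_injective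
        ((MvPolynomial.C_injective _ _).comp (algebraMap k A).injective)) ?_
    intro x hx
    have hx' : ∀ i, ∃ c : k, MvPolynomial.C (algebraMap k A c) = x i := fun i => hx i (Set.mem_univ i)
    choose h hh using hx'
    rw [map_zero, map_sub, MvPolynomial.eval_C, hev, sub_eq_zero]
    have := hf h
    convert this using 3
    funext s
    rw [map_sum]
    congr 1
    refine Finset.sum_congr rfl fun r _ => ?_
    rw [← hh r, map_mul]
  let x0 : Fin m → MvPolynomial (Fin m) A :=
    fun r => -∑ s : Fin m, MvPolynomial.X s * MvPolynomial.C (T⁻¹ s r)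
  have h0 := congrArg (MvPolynomial.eval x0) hG0
  rw [map_zero, map_sub, MvPolynomial.eval_C, hev, sub_eq_zero] at h0
  have hz : (fun s : Fin m => (MvPolynomial.X s : MvPolynomial (Fin m) A) +
      ∑ r : Fin m, x0 r * MvPolynomial.C (T r s)) = fun _ => 0 := by
    funext s
    have hTi : T⁻¹ * T = 1 := Matrix.nonsing_inv_mul T hT
    have : ∑ r : Fin m, x0 r * MvPolynomial.C (T r s) = -MvPolynomial.X s := by
      simp only [x0, neg_mul, Finset.sum_neg_distrib, Finset.sum_mul]
      rw [Finset.sum_comm]
      congr 1
      have : ∀ s' : Fin m, ∑ r : Fin m, (MvPolynomial.X s' : MvPolynomial (Fin m) A) *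
          MvPolynomial.C (T⁻¹ s' r) * MvPolynomial.C (T r s) =
          MvPolynomial.X s' * MvPolynomial.C ((1 : Matrix (Fin m) (Fin m) A) s' s) := by
        intro s'
        rw [← hTi, Matrix.mul_apply, map_sum, Finset.mul_sum]
        refine Finset.sum_congr rfl fun r _ => ?_
        rw [map_mul, mul_assoc]
      simp only [this, Matrix.one_apply]
      simp
    rw [this, add_neg_cancel]
  rw [hz, MvPolynomial.aeval_zero'] at h0
  exact ⟨MvPolynomial.constantCoeff f, h0.symm⟩

end Groth.Agent.S11233
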