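import Groth.Statements.S11235
import Mathlib

set_option autoImplicit false
universe u
open CAlg

namespace Groth.Agent.S11235

/-- Let k be an algebraically closed field, A a commutative k-algebra, α ∈ k, and M a maximal ideal of
the polynomial ring A[x] containing x - α. Let I ⊆ M be an ideal whose zero set in Spec A[x] is
invariant under the automorphisms x ↦ c·x, c ∈ k nonzero (equivalently: the image of I under each
such A-algebra automorphism has the same radical as I). Then there is a maximal ideal of A[x]
containing I and x. -/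
theorem result (k : Type u) [Field k] [IsAlgClosed k]
    (A : Type u) [CommRing A] [Algebra k A] (α : k)
    (M : Ideal (Polynomial A)) (hM : M.IsMaximal)
    (hα : Polynomial.X - Polynomial.C (algebraMap k A α) ∈ M)
    (I : Ideal (Polynomial A)) (hIM : I ≤ M)
    (hI : ∀ c : kˣ, (I.map (Polynomial.aeval (R := A)
      (algebraMap k A (c : k) • (Polynomial.X : Polynomial A)))).radical = I.radical) :
    ∃ N : Ideal (Polynomial A), N.IsMaximal ∧ I ≤ N ∧ Polynomial.X ∈ N := by
  classical
  have hMprime : M.IsPrime := hM.isPrime
  let κ := Polynomial A ⧸ M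
  let _ : Field κ := Ideal.Quotient.field M
  let π : Polynomial A →+* κ := Ideal.Quotient.mk M
  let ι : A →+* κ := π.comp Polynomial.C
  let a0 : A := algebraMap k A α
  have hπX : π Polynomial.X = ι a0 := by
    have : π (Polynomial.X - Polynomial.C a0) = 0 := Ideal.Quotient.eq_zero_iff_mem.mpr hα
    rw [map_sub, sub_eq_zero] at this
    exact this
  -- every ring hom out of `A[X]` extending `ι` is an `eval₂`
  have hπ : ∀ (ψ : Polynomial A →+* κ), (∀ a, ψ (Polynomial.C a) = ι a) →
      ∀ g, ψ g = Polynomial.eval₂ ι (ψ Polynomial.X) g := by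
    intro ψ hψ g
    have : ψ = Polynomial.eval₂RingHom ι (ψ Polynomial.X) := by
      apply Polynomial.ringHom_ext
      · intro a; simp [hψ]
      · simp
    exact RingHom.congr_fun this g
  have hπg : ∀ g, π g = Polynomial.eval₂ ι (ι a0) g := by
    intro g
    rw [hπ π (fun _ => rfl) g, hπX]
  have hιsurj : Function.Surjective ι := by
    intro y
    obtain ⟨g, rfl⟩ := Ideal.Quotient.mk_surjective y
    refine ⟨Polynomial.eval a0 g, ?_⟩
    change ι (Polynomial.eval a0 g) = π g
    rw [hπg, Polynomial.eval₂_at_apply]
  let ev0 : Polynomial A →+* κ := Polynomial.eval₂RingHom ι 0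
  have hev0surj : Function.Surjective ev0 := by
    intro y
    obtain ⟨a, rfl⟩ := hιsurj y
    exact ⟨Polynomial.C a, by simp [ev0]⟩
  refine ⟨RingHom.ker ev0, RingHom.ker_isMaximal_of_surjective ev0 hev0surj, ?_, ?_⟩
  swap
  · rw [RingHom.mem_ker]; simp [ev0]
  intro g hg
  rw [RingHom.mem_ker]
  change Polynomial.eval₂ ι 0 g = 0
  by_cases h0 : ι a0 = 0
  · have h1 : Polynomial.eval₂ ι 0 g = π g := by rw [hπg, h0]
    rw [h1]
    exact Ideal.Quotient.eq_zero_iff_mem.mpr (hIM hg)
  · -- the reduction of `g` has infinitely many roots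
    have hroot : ∀ c : k, c ≠ 0 →
        Polynomial.eval₂ ι (ι (algebraMap k A c) * ι a0) g = 0 := by
      intro c hc
      let cu : kˣ := Units.mk0 c hc
      let σ : Polynomial A →ₐ[A] Polynomial A :=
        Polynomial.aeval (R := A) (algebraMap k A (cu : k) • (Polynomial.X : Polynomial A))
      have hσg : σ g ∈ M := by
        have h1 : σ g ∈ I.map σ := Ideal.mem_map_of_mem _ hg
        have h2 : σ g ∈ (I.map σ).radical := Ideal.le_radical h1
        rw [hI cu] at h2
        exact (hMprime.radical_le_iff.mpr hIM) h2
      have h3 : π (σ g) = 0 := Ideal.Quotient.eq_zero_iff_mem.mpr hσg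
      have h4 := hπ (π.comp (σ : Polynomial A →+* Polynomial A))
        (fun a => by simp [σ, ι]) g
      simp only [RingHom.comp_apply] at h4
      rw [show ((σ : Polynomial A →+* Polynomial A) g) = σ g from rfl] at h4
      rw [h3] at h4
      have h5 : π ((σ : Polynomial A →+* Polynomial A) Polynomial.X)
          = ι (algebraMap k A c) * ι a0 := by
        change π (σ Polynomial.X) = _
        simp only [σ, Polynomial.aeval_X, Polynomial.smul_eq_C_mul, map_mul, hπX]
        rfl
      rw [h5] at h4
      exact h4.symm
    have hinj : Function.Injective (fun c : k => ι (algebraMap k A c) * ι a0) := by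
      intro c d hcd
      have := mul_right_cancel₀ h0 hcd
      exact (ι.comp (algebraMap k A)).injective this
    have hmap : g.map ι = 0 := by
      apply Polynomial.eq_zero_of_infinite_isRoot
      refine Set.Infinite.mono ?_
        (Set.Infinite.image (hinj.injOn) ((Set.infinite_univ (α := k)).sdiff (Set.finite_singleton 0)))
      rintro _ ⟨c, ⟨-, hc⟩, rfl⟩
      simp only [Set.mem_ofPred_eq, Polynomial.IsRoot.def, Polynomial.eval_map]
      exact hroot c hc
    rw [← Polynomial.eval_map, hmap, Polynomial.eval_zero]

end Groth.Agent.S11235
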