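import Groth.Statements.S11239
import Mathlib
-- import your own Groth.Agent.* helpers here

set_option autoImplicit false
universe u
open AGF

namespace Groth.Agent.S11239

/-- Let X be an m × n matrix over a commutative ring, u an upper triangular n × n matrix with ones on
the diagonal, t a diagonal n × n matrix and p ≤ n. For any choice of p rows, the minor of X·t·u
formed with these rows and the first p columns equals (t_11 ⋯ t_pp) times the corresponding minor of
X: the minors on the first p columns are semi-invariant of weight ω_p under right multiplication by
the upper triangular group. (The published statement is for the generic matrix over an algebraically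
closed field; this row states the identity over any commutative ring.) -/
theorem result (R : Type u) [CommRing R] (m n p : ℕ) (hp : p ≤ n)
    (X : Matrix (Fin m) (Fin n) R) (d : Fin n → R) (u : Matrix (Fin n) (Fin n) R)
    (hu1 : ∀ i, u i i = 1) (hu0 : ∀ i j, j < i → u i j = 0) (I : Fin p → Fin m) :
    ((X * Matrix.diagonal d * u).submatrix I (Fin.castLE hp)).det =
      (∏ i : Fin p, d (Fin.castLE hp i)) * (X.submatrix I (Fin.castLE hp)).det := by
  have hc : Function.Injective (Fin.castLE hp) := Fin.castLE_injective hp
  have hdu : ∀ k j, (Matrix.diagonal d * u) k j = d k * u k j := by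
    intro k j
    rw [Matrix.diagonal_mul]
  have key : (X * Matrix.diagonal d * u).submatrix I (Fin.castLE hp) =
      X.submatrix I (Fin.castLE hp) *
        (Matrix.diagonal d * u).submatrix (Fin.castLE hp) (Fin.castLE hp) := by
    ext a b
    rw [Matrix.mul_assoc]
    rw [Matrix.submatrix_apply, Matrix.mul_apply, Matrix.mul_apply]
    symm
    apply Fintype.sum_of_injective (Fin.castLE hp) hc
    · intro k hk
      have hlt : Fin.castLE hp b < k := by
        by_contra hle
        have hle' : k ≤ Fin.castLE hp b := not_lt.mp hle
        apply hk
        refine ⟨⟨k.1, lt_of_le_of_lt hle' b.2⟩, ?_⟩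
        ext; rfl
      rw [hdu, hu0 k (Fin.castLE hp b) hlt, mul_zero, mul_zero]
    · intro k
      rfl
  rw [key, Matrix.det_mul, mul_comm]
  congr 1
  rw [Matrix.det_of_isUpperTriangular]
  · apply Finset.prod_congr rfl
    intro i _
    rw [Matrix.submatrix_apply, hdu, hu1, mul_one]
  · intro i j hij
    simp only [id] at hij
    rw [Matrix.submatrix_apply, hdu]
    rw [hu0 _ _ (by exact hij), mul_zero]

end Groth.Agent.S11239
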