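import Groth.Statements.S11240
import Mathlib.LinearAlgebra.Matrix.Determinant.Basic
import Mathlib.Tactic

set_option autoImplicit false
universe u
open AGF

namespace Groth.Agent.S11240aux
open MvPolynomial


variable {k : Type u} [Field k] {n m p : ℕ}

/-- a minor-like determinant of distinct variables (injective row and column selections) is nonzero -/
theorem det_generic_ne_zero (I' : Fin p → Fin n) (hI' : Function.Injective I') (J : Fin p → Fin m)
    (hJ : Function.Injective J) :
    (Matrix.of fun l c => (X (I' l, J c) : MvPolynomial (Fin n × Fin m) k)).det ≠ 0 := by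
  classical
  intro h
  let v : Fin n × Fin m → k := fun ac => if ∃ l, ac.1 = I' l ∧ ac.2 = J l then 1 else 0
  have h1 := congrArg (MvPolynomial.eval v) h
  rw [RingHom.map_det, map_zero] at h1
  have h2 : (MvPolynomial.eval v).mapMatrix (Matrix.of fun l c => (X (I' l, J c) : MvPolynomial (Fin n × Fin m) k)) =
      (1 : Matrix (Fin p) (Fin p) k) := by
    ext l c
    simp only [RingHom.mapMatrix_apply, Matrix.map_apply, Matrix.of_apply, eval_X, Matrix.one_apply, v]
    by_cases hlc : l = c
    · subst hlc
      rw [if_pos ⟨l, rfl, rfl⟩, if_pos rfl]
    · rw [if_neg hlc, if_neg]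
      rintro ⟨l', h1, h2⟩
      exact hlc ((hI' h1).trans (hJ h2).symm)
  rw [h2, Matrix.det_one] at h1
  exact one_ne_zero h1


theorem main (i j : Fin n) (hij : i ≠ j) (I : Fin p ↪o Fin n) (J : Fin p ↪o Fin m) :
    (∀ b : k, ((Matrix.transvection i j (C b) *
        (Matrix.of fun a c => (X (a, c) : MvPolynomial (Fin n × Fin m) k)) :
          Matrix (Fin n) (Fin m) (MvPolynomial (Fin n × Fin m) k)).submatrix I J).det =
        ((Matrix.of fun a c => (X (a, c) : MvPolynomial (Fin n × Fin m) k)).submatrix I J).det) ↔
      (i ∈ Set.range I → j ∈ Set.range I) := by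
  classical
  obtain ⟨Xg, hXg⟩ : ∃ Xg : Matrix (Fin n) (Fin m) (MvPolynomial (Fin n × Fin m) k),
      Xg = Matrix.of fun a c => (X (a, c) : MvPolynomial (Fin n × Fin m) k) := ⟨_, rfl⟩
  rw [← hXg]
  by_cases hi : i ∈ Set.range I
  swap
  · constructor
    · intro _ h; exact absurd h hi
    · intro _ b
      congr 1
      refine Matrix.ext fun l c => ?_
      simp only [Matrix.submatrix_apply]
      rw [Matrix.transvection_mul_apply_of_ne]
      intro h; exact hi ⟨l, h⟩
  · obtain ⟨l₀, rfl⟩ := hi
    have key : ∀ b : k, ((Matrix.transvection (I l₀) j (C b) * Xg :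
        Matrix (Fin n) (Fin m) (MvPolynomial (Fin n × Fin m) k)).submatrix I J) =
        Matrix.updateRow (Xg.submatrix I J) l₀ ((Xg.submatrix I J) l₀ +
          (C b : MvPolynomial (Fin n × Fin m) k) • fun c => Xg j (J c)) := by
      intro b
      refine Matrix.ext fun l c => ?_
      by_cases hl : l = l₀
      · subst hl
        rw [Matrix.updateRow_self]
        simp only [Matrix.submatrix_apply, Pi.add_apply, Pi.smul_apply, smul_eq_mul]
        rw [Matrix.transvection_mul_apply_same]
      · rw [Matrix.updateRow_ne hl]
        simp only [Matrix.submatrix_apply]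
        rw [Matrix.transvection_mul_apply_of_ne]
        exact fun h => hl (I.injective h)
    have hdet : ∀ b : k, ((Matrix.transvection (I l₀) j (C b) * Xg :
        Matrix (Fin n) (Fin m) (MvPolynomial (Fin n × Fin m) k)).submatrix I J).det =
        (Xg.submatrix I J).det +
          C b * (Matrix.updateRow (Xg.submatrix I J) l₀ (fun c => Xg j (J c))).det := by
      intro b
      rw [key, Matrix.det_updateRow_add, Matrix.det_updateRow_smul, Matrix.updateRow_eq_self]
    by_cases hj : j ∈ Set.range I
    · obtain ⟨l₁, rfl⟩ := hj
      have hne : l₀ ≠ l₁ := fun h => hij (by rw [h])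
      refine ⟨fun _ _ => ⟨l₁, rfl⟩, fun _ b => ?_⟩
      rw [hdet]
      have : (Matrix.updateRow (Xg.submatrix I J) l₀ (fun c => Xg (I l₁) (J c))).det = 0 := by
        apply Matrix.det_zero_of_row_eq hne
        ext c
        rw [Matrix.updateRow_self, Matrix.updateRow_ne hne.symm]
        rfl
      rw [this, mul_zero, add_zero]
    · constructor
      · intro h _
        exfalso
        have h1 := h 1
        rw [hdet] at h1
        have h0 : (Matrix.updateRow (Xg.submatrix I J) l₀ (fun c => Xg j (J c))).det = 0 := by
          simpa using h1
        let I' : Fin p → Fin n := fun l => if l = l₀ then j else I l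
        have hI' : Function.Injective I' := by
          intro a b hab
          simp only [I'] at hab
          by_cases ha : a = l₀ <;> by_cases hb : b = l₀
          · rw [ha, hb]
          · rw [if_pos ha, if_neg hb] at hab
            exact absurd ⟨b, hab.symm⟩ hj
          · rw [if_neg ha, if_pos hb] at hab
            exact absurd ⟨a, hab⟩ hj
          · rw [if_neg ha, if_neg hb] at hab
            exact I.injective hab
        have heq : Matrix.updateRow (Xg.submatrix I J) l₀ (fun c => Xg j (J c)) =
            Matrix.of fun l c => (X (I' l, J c) : MvPolynomial (Fin n × Fin m) k) := by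
          refine Matrix.ext fun l c => ?_
          by_cases hl : l = l₀
          · subst hl
            rw [Matrix.updateRow_self, hXg]
            simp [I']
          · rw [Matrix.updateRow_ne hl, hXg]
            simp [I', hl]
        rw [heq] at h0
        exact det_generic_ne_zero I' hI' J J.injective h0
      · intro h; exact absurd (h ⟨l₀, rfl⟩) hj


end Groth.Agent.S11240aux

open Groth.Agent.S11240aux

namespace Groth.Agent.S11240

/-- For a single root subgroup: let k be an algebraically closed field and X = (x_ab) the generic n × m
matrix over the polynomial ring k[x_ab]. Let i ≠ j be row indices and let I (rows) and J (columns)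
be strictly increasing sequences of length p. The minor of X with rows I and columns J is invariant
under replacing X by (1 + b·E_ij)·X for every b ∈ k (the one-parameter unipotent group adding b
times row j to row i) if and only if j occurs in I whenever i does. (The published statement gives
the criterion for the group generated by several such root subgroups, which is the conjunction of
these.) -/
theorem result (k : Type u) [Field k] [IsAlgClosed k] (n m p : ℕ)
    (i j : Fin n) (hij : i ≠ j) (I : Fin p ↪o Fin n) (J : Fin p ↪o Fin m) :
    (∀ b : k, ((Matrix.transvection i j (MvPolynomial.C b) *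
        (Matrix.of fun a c => (MvPolynomial.X (a, c) : MvPolynomial (Fin n × Fin m) k))).submatrix I J).det =
        ((Matrix.of fun a c => (MvPolynomial.X (a, c) : MvPolynomial (Fin n × Fin m) k)).submatrix I J).det) ↔
      (i ∈ Set.range I → j ∈ Set.range I) := by
  exact main i j hij I J

end Groth.Agent.S11240
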