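import Groth.Statements.S5491
import Mathlib

set_option autoImplicit false
open RootD

namespace Groth.Agent.S5491

open Classical in
/-- With ρ^v the half-sum of the positive coroots, the order (height) of any root α relative to the
simple system equals (ρ^v, α); equivalently 2·height(α) = Σ_{β > 0} (β^v, α). -/
theorem result {ι M N : Type*} [AddCommGroup M] [AddCommGroup N]
    (P : RootPairing ι ℤ M N) [Finite ι] [Fintype ι] [P.IsReduced] (b : P.Base) (i : ι) :
    2 * b.height i = ∑ j, if b.IsPos j then P.pairing i j else 0 := by
  have : Module.IsReflexive ℤ M := .of_isPerfPair P.toLinearMap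
  have key : ∀ s ∈ b.support, (∑ j, if b.IsPos j then P.pairing s j else 0) = 2 := by
    intro s hs
    rw [← Finset.sum_filter]
    have hspos : s ∈ Finset.univ.filter (fun j => b.IsPos j) := by
      simp [b.isPos_of_mem_support hs]
    rw [← Finset.add_sum_erase _ _ hspos, P.pairing_same]
    have h0 : ∑ j ∈ (Finset.univ.filter (fun j => b.IsPos j)).erase s, P.pairing s j = 0 := by
      apply Finset.sum_involution (fun j _ => P.reflectionPerm s j)
      · intro j _
        rw [P.pairing_reflectionPerm, P.pairing_reflectionPerm_self_left]
        ring
      · intro j _ hne heq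
        rw [P.reflectionPerm_eq_iff_smul_root] at heq
        have h1 : P.pairing j s = 0 := by
          rcases smul_eq_zero.mp heq with h | h
          · exact h
          · exact absurd h (P.ne_zero s)
        exact hne (P.pairing_eq_zero_iff'.mp h1)
      · intro j hj
        rw [Finset.mem_erase, Finset.mem_filter] at hj ⊢
        refine ⟨?_, Finset.mem_univ _, hj.2.2.reflectionPerm hs hj.1⟩
        intro heq
        have h2 : P.reflectionPerm s (P.reflectionPerm s j) = P.reflectionPerm s s := by rw [heq]
        rw [P.reflectionPerm_self] at h2
        have hneg := (RootPairing.Base.IsPos.neg_iff_not b s).mp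
        have h3 : b.IsPos (P.reflectionPerm s s) := by rw [← h2]; exact hj.2.2
        exact hneg h3 (b.isPos_of_mem_support hs)
      · intro j _
        simp
    rw [h0, add_zero]
  obtain ⟨f, -, -, hf⟩ := b.exists_root_eq_sum_int i
  rw [b.height_eq_sum hf]
  have hp : ∀ j, P.pairing i j = ∑ s ∈ b.support, f s * P.pairing s j := by
    intro j
    have : P.pairing i j = P.toLinearMap (P.root i) (P.coroot j) := rfl
    rw [this, hf, map_sum, LinearMap.sum_apply]
    apply Finset.sum_congr rfl
    intro s _
    rw [map_smul, LinearMap.smul_apply, smul_eq_mul]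
    rfl
  have : (∑ j, if b.IsPos j then P.pairing i j else 0) =
      ∑ s ∈ b.support, f s * (∑ j, if b.IsPos j then P.pairing s j else 0) := by
    simp_rw [Finset.mul_sum]
    rw [Finset.sum_comm]
    apply Finset.sum_congr rfl
    intro j _
    split_ifs
    · exact hp j
    · simp
  rw [this, Finset.mul_sum]
  apply Finset.sum_congr rfl
  intro s hs
  rw [key s hs]
  ring

end Groth.Agent.S5491
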