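import Groth.Statements.S11243
import Groth.Agent.Lib.helper8.RootD45
import Groth.Agent.S5491

set_option autoImplicit false
universe u v w
open RootD

namespace Groth.Agent.S11243

/-- (b), for a connected group, as a statement about its root datum: let P be a finite reduced
crystallographic root pairing over ℤ with weight lattice M, and b a base of P (simple roots,
determining the positive roots). Then there is an additive map h : M → ℤ which is positive on every
positive root (so that h strictly increases along the dominance order) and non-negative on every
dominant weight, i.e. on every ω ∈ M pairing non-negatively with all simple coroots. (Part (c),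
invariance under the component group of a disconnected group, is not stated.) -/
theorem result {ι : Type u} {M : Type v} {N : Type w}
    [Fintype ι] [AddCommGroup M] [AddCommGroup N]
    (P : RootPairing ι ℤ M N) [P.IsReduced] [P.IsCrystallographic] (b : P.Base) :
    ∃ h : M →+ ℤ, (∀ i : ι, b.IsPos i → 0 < h (P.root i)) ∧
      ∀ ω : M, (∀ j ∈ b.support, 0 ≤ P.toLinearMap ω (P.coroot j)) → 0 ≤ h ω := by
  classical
  have : Finite ι := Finite.of_fintype ι
  refine ⟨(∑ j ∈ Finset.univ.filter (fun j => b.IsPos j), P.coroot' j).toAddMonoidHom, ?_, ?_⟩
  · intro i hi
    have h1 := Groth.Agent.S5491.result P b i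
    have h2 : (∑ j ∈ Finset.univ.filter (fun j => b.IsPos j), P.coroot' j).toAddMonoidHom
        (P.root i) = ∑ j, if b.IsPos j then P.pairing i j else 0 := by
      rw [← Finset.sum_filter]
      simp only [LinearMap.toAddMonoidHom_coe, LinearMap.coe_sum, Finset.sum_apply]
      rfl
    rw [h2]
    have h3 : 0 < b.height i := hi
    convert (by omega : 0 < 2 * b.height i) using 1
    rw [h1]
  · intro ω hω
    simp only [LinearMap.toAddMonoidHom_coe, LinearMap.coe_sum, Finset.sum_apply]
    apply Finset.sum_nonneg
    intro j hj
    rw [Finset.mem_filter] at hj
    exact Groth.Agent.H8.RootD.base_dominant_nonneg P b hω hj.2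

end Groth.Agent.S11243
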