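import Groth.Statements.S11249
import Mathlib
import Groth.Agent.Lib.helper27.CauchyBinet

set_option autoImplicit false
universe u
open W4bk4grassmannian

namespace Groth.Agent.S11249aux
open Matrix Equiv Groth.Agent.Lib.helper27.CauchyBinet W4bk4grassmannian

variable {K : Type u} [Field K] {d n : ℕ}

/-- an injective map factors as an increasing enumeration followed by a permutation -/
theorem exists_emb_comp_perm (φ : Fin d → Fin n) (hinj : Function.Injective φ) :
    ∃ (s : Sub n d) (τ : Perm (Fin d)), φ = emb s ∘ τ := by
  classical
  let s : Sub n d := ⟨Finset.univ.image φ, by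
    rw [Finset.card_image_of_injective _ hinj]; simp⟩
  have hmem : ∀ a, φ a ∈ Set.range (emb s) := by
    intro a
    rw [range_emb]
    exact Finset.mem_coe.mpr (Finset.mem_image_of_mem φ (Finset.mem_univ a))
  choose idx hidx using hmem
  have hidx_inj : Function.Injective idx := by
    intro a b hab
    apply hinj
    rw [← hidx a, ← hidx b, hab]
  let τ : Perm (Fin d) := Equiv.ofBijective idx (Finite.injective_iff_bijective.mp hidx_inj)
  refine ⟨s, τ, ?_⟩
  funext a
  exact (hidx a).symm

/-- proportionality of minors extends to arbitrary row selections -/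
theorem minors_all (A A' : Matrix (Fin n) (Fin d) K) (c : K)
    (h : ∀ θ : Idx d n, (A.submatrix θ.1 id).det = c * (A'.submatrix θ.1 id).det)
    (φ : Fin d → Fin n) :
    (A.submatrix φ id).det = c * (A'.submatrix φ id).det := by
  classical
  by_cases hinj : Function.Injective φ
  · obtain ⟨s, τ, rfl⟩ := exists_emb_comp_perm φ hinj
    have h1 : ∀ B : Matrix (Fin n) (Fin d) K, B.submatrix (emb s ∘ τ) id =
        (B.submatrix (emb s) id).submatrix τ id := by
      intro B; ext a b; rfl
    rw [h1 A, h1 A', Matrix.det_permute, Matrix.det_permute,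
      h ⟨emb s, (s.1.orderEmbOfFin s.2).strictMono⟩]
    ring
  · obtain ⟨a, b, hab, hne⟩ : ∃ a b, φ a = φ b ∧ a ≠ b := by
      unfold Function.Injective at hinj
      push Not at hinj
      exact hinj
    rw [Matrix.det_zero_of_row_eq hne (by ext k; simp [hab]),
      Matrix.det_zero_of_row_eq hne (by ext k; simp [hab]), mul_zero]

/-- independent columns give a nonzero maximal minor -/
theorem exists_minor_ne_zero (A : Matrix (Fin n) (Fin d) K) (hA : LinearIndependent K A.transpose) :
    ∃ s : Sub n d, (A.submatrix (emb s) id).det ≠ 0 := by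
  classical
  have hinj : Function.Injective A.mulVecLin := by
    have : Function.Injective A.mulVec := Matrix.mulVec_injective_iff.mpr hA
    exact this
  obtain ⟨g, hg⟩ := LinearMap.exists_leftInverse_of_injective A.mulVecLin
    (LinearMap.ker_eq_bot.mpr hinj)
  set L : Matrix (Fin d) (Fin n) K := LinearMap.toMatrix' g with hL
  have hLA : L * A = 1 := by
    have h1 : LinearMap.toMatrix' (g ∘ₗ A.mulVecLin) = L * A := by
      rw [LinearMap.toMatrix'_comp, hL]
      congr 1
      exact LinearMap.toMatrix'_toLin' A
    rw [← h1, hg, LinearMap.toMatrix'_id]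
  have hcb := cauchy_binet L A
  rw [hLA, Matrix.det_one] at hcb
  by_contra hall
  push Not at hall
  rw [Finset.sum_eq_zero (fun s _ => by rw [hall s, mul_zero])] at hcb
  exact one_ne_zero hcb

/-- entries of `A * adjugate (A_θ)` are minors -/
theorem mul_adjugate_apply' (A : Matrix (Fin n) (Fin d) K) (θ : Fin d → Fin n)
    (r : Fin n) (j : Fin d) :
    (A * (A.submatrix θ id).adjugate) r j =
      (A.submatrix (Function.update θ j r) id).det := by
  classical
  set M := A.submatrix θ id with hM
  have h1 : (A * M.adjugate) r j = (Matrix.cramer Mᵀ (A r)) j := by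
    rw [Matrix.cramer_eq_adjugate_mulVec, ← Matrix.adjugate_transpose, Matrix.mul_apply,
      Matrix.mulVec, dotProduct]
    refine Finset.sum_congr rfl fun l _ => ?_
    rw [Matrix.transpose_apply, mul_comm]
  rw [h1, Matrix.cramer_transpose_apply]
  congr 1
  ext a b
  by_cases ha : a = j
  · subst ha
    simp [Matrix.updateRow_self]
  · simp [Matrix.updateRow_ne ha, Function.update_of_ne ha, hM]

theorem main (A A' : Matrix (Fin n) (Fin d) K) (hA : LinearIndependent K A.transpose)
    (hA' : LinearIndependent K A'.transpose) (c : K) (hc : c ≠ 0)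
    (h : ∀ θ : Idx d n, (A.submatrix θ.1 id).det = c * (A'.submatrix θ.1 id).det) :
    Submodule.span K (Set.range A.transpose) = Submodule.span K (Set.range A'.transpose) := by
  classical
  have hall := minors_all A A' c h
  obtain ⟨s, hs⟩ := exists_minor_ne_zero A' hA'
  set θ := emb s with hθ
  set M := A.submatrix θ id with hM
  set M' := A'.submatrix θ id with hM'
  have hdetM : M.det ≠ 0 := by
    rw [hM, hall θ]; exact mul_ne_zero hc hs
  have hkey : A * M.adjugate = c • (A' * M'.adjugate) := by
    ext r j
    rw [Matrix.smul_apply, smul_eq_mul, hM, hM', mul_adjugate_apply', mul_adjugate_apply', hall]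
  -- column spans
  have hspan : ∀ B : Matrix (Fin n) (Fin d) K,
      Submodule.span K (Set.range B.transpose) = LinearMap.range B.mulVecLin := by
    intro B
    rw [Matrix.range_mulVecLin]
    rfl
  have hsurj : ∀ N : Matrix (Fin d) (Fin d) K, N.det ≠ 0 →
      LinearMap.range N.adjugate.mulVecLin = ⊤ := by
    intro N hN
    rw [LinearMap.range_eq_top]
    intro w
    refine ⟨(N.det)⁻¹ • (N *ᵥ w), ?_⟩
    rw [Matrix.mulVecLin_apply, Matrix.mulVec_smul, Matrix.mulVec_mulVec, Matrix.adjugate_mul,
      Matrix.smul_mulVec, Matrix.one_mulVec, smul_smul, inv_mul_cancel₀ hN, one_smul]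
  have hrange : ∀ (B : Matrix (Fin n) (Fin d) K) (N : Matrix (Fin d) (Fin d) K), N.det ≠ 0 →
      LinearMap.range (B * N.adjugate).mulVecLin = LinearMap.range B.mulVecLin := by
    intro B N hN
    rw [Matrix.mulVecLin_mul, LinearMap.range_comp_of_range_eq_top _ (hsurj N hN)]
  rw [hspan A, hspan A', ← hrange A M hdetM, ← hrange A' M' hs, hkey]
  have : (c • (A' * M'.adjugate)).mulVecLin = c • (A' * M'.adjugate).mulVecLin := by
    apply LinearMap.ext
    intro v
    simp [Matrix.smul_mulVec]
  rw [this, LinearMap.range_smul _ c hc]

end Groth.Agent.S11249aux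

namespace Groth.Agent.S11249

open W4bk4grassmannian in
/-- Injectivity of the Plücker map, in matrix form: let K be a field, A and A' two n × d matrices over K
with linearly independent columns, and suppose there is a nonzero scalar c with det A_θ = c · det
A'_θ for every strictly increasing d-tuple θ of row indices (A_θ the d × d submatrix on the rows θ).
Then the columns of A and of A' span the same subspace of K^n. (The published statement is over an
algebraically closed field; this row allows any field K.) -/
theorem result (K : Type u) [Field K] (d n : ℕ)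
    (A A' : Matrix (Fin n) (Fin d) K) (hA : LinearIndependent K A.transpose)
    (hA' : LinearIndependent K A'.transpose) (c : K) (hc : c ≠ 0)
    (h : ∀ θ : Idx d n, (A.submatrix θ.1 id).det = c * (A'.submatrix θ.1 id).det) :
    Submodule.span K (Set.range A.transpose) = Submodule.span K (Set.range A'.transpose) := by
  exact Groth.Agent.S11249aux.main A A' hA hA' c hc h

end Groth.Agent.S11249
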