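import Groth.Statements.S11257
import Groth.Agent.Lib.helper9.Depth22
-- import your own Groth.Agent.* helpers here

set_option autoImplicit false
universe u
open W4bk4grassmannian

namespace Groth.Agent.S11257

section helpers

variable {A : Type u} [CommRing A] (I J : Ideal A)

/-- `A/(I ∩ J) → A/I × A/J`. -/
noncomputable def iMap : (A ⧸ (I ⊓ J)) →ₗ[A] (A ⧸ I) × (A ⧸ J) :=
  (Submodule.mapQ (I ⊓ J) I LinearMap.id inf_le_left).prod
    (Submodule.mapQ (I ⊓ J) J LinearMap.id inf_le_right)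

/-- `A/I × A/J → A/(I + J)`, `(a, b) ↦ a - b`. -/
noncomputable def pMap : (A ⧸ I) × (A ⧸ J) →ₗ[A] (A ⧸ (I ⊔ J)) :=
  (Submodule.mapQ I (I ⊔ J) LinearMap.id le_sup_left).coprod
    (-(Submodule.mapQ J (I ⊔ J) LinearMap.id le_sup_right))

lemma iMap_mk (a : A) : iMap I J (Submodule.Quotient.mk a) =
    (Submodule.Quotient.mk a, Submodule.Quotient.mk a) := rfl

lemma pMap_mk (a b : A) : pMap I J (Submodule.Quotient.mk a, Submodule.Quotient.mk b) =
    Submodule.Quotient.mk (a - b) := by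
  simp [pMap, sub_eq_add_neg]

lemma iMap_injective : Function.Injective (iMap I J) := by
  rw [injective_iff_map_eq_zero]
  intro a ha
  obtain ⟨a, rfl⟩ := Submodule.Quotient.mk_surjective _ a
  rw [iMap_mk, Prod.mk_eq_zero, Submodule.Quotient.mk_eq_zero,
    Submodule.Quotient.mk_eq_zero] at ha
  rw [Submodule.Quotient.mk_eq_zero]
  exact ⟨ha.1, ha.2⟩

lemma pMap_surjective : Function.Surjective (pMap I J) := by
  intro c
  obtain ⟨c, rfl⟩ := Submodule.Quotient.mk_surjective _ c
  refine ⟨(Submodule.Quotient.mk c, Submodule.Quotient.mk 0), ?_⟩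
  rw [pMap_mk, sub_zero]

lemma exact_iMap_pMap : Function.Exact (iMap I J) (pMap I J) := by
  intro z
  obtain ⟨a, b⟩ := z
  obtain ⟨a, rfl⟩ := Submodule.Quotient.mk_surjective _ a
  obtain ⟨b, rfl⟩ := Submodule.Quotient.mk_surjective _ b
  rw [pMap_mk, Submodule.Quotient.mk_eq_zero]
  constructor
  · intro h
    obtain ⟨y, hy, z, hz, hyz⟩ := Submodule.mem_sup.mp h
    refine ⟨Submodule.Quotient.mk (a - y), ?_⟩
    rw [iMap_mk, Prod.mk.injEq, Submodule.Quotient.eq, Submodule.Quotient.eq]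
    constructor
    · simpa using I.neg_mem hy
    · have : a - y - b = z := by rw [← sub_eq_iff_eq_add'.mpr hyz.symm]; ring
      rw [this]; exact hz
  · rintro ⟨c, hc⟩
    obtain ⟨c, rfl⟩ := Submodule.Quotient.mk_surjective _ c
    rw [iMap_mk, Prod.mk.injEq, Submodule.Quotient.eq, Submodule.Quotient.eq] at hc
    obtain ⟨h1, h2⟩ := hc
    have : a - b = -(c - a) + (c - b) := by ring
    rw [this]
    exact Submodule.add_mem _ (Submodule.mem_sup_left (I.neg_mem h1)) (Submodule.mem_sup_right h2)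

end helpers

/-- Let A be a Noetherian local integral domain with maximal ideal m, I and J ideals of A, d ≥ 1, and
f_1, …, f_d ∈ m. Assume depth A/(I+J) ≥ d - 1, depth A/I ≥ d and depth A/J ≥ d (depths of the
quotients as A-modules), that f_1, …, f_d is a regular sequence on A/I and on A/J, and that f_1, …,
f_{d-1} is a regular sequence on A/(I+J). Then f_1, …, f_d is a regular sequence on A/(I ∩ J). -/
theorem result (A : Type u) [CommRing A] [IsDomain A]
    [IsNoetherianRing A] [IsLocalRing A] (I J : Ideal A) (d : ℕ) (hd : 0 < d) (f : Fin d → A)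
    (hf : ∀ k, f k ∈ IsLocalRing.maximalIdeal A)
    (hIJd : ((d - 1 : ℕ) : ℕ∞) ≤ LocCoh.depth A (A ⧸ (I ⊔ J)))
    (hId : (d : ℕ∞) ≤ LocCoh.depth A (A ⧸ I)) (hJd : (d : ℕ∞) ≤ LocCoh.depth A (A ⧸ J))
    (hI : RingTheory.Sequence.IsRegular (A ⧸ I) (List.ofFn f))
    (hJ : RingTheory.Sequence.IsRegular (A ⧸ J) (List.ofFn f))
    (hIJ : RingTheory.Sequence.IsRegular (A ⧸ (I ⊔ J)) ((List.ofFn f).take (d - 1))) :
    RingTheory.Sequence.IsRegular (A ⧸ (I ⊓ J)) (List.ofFn f) := by
  have hne : I ≠ ⊤ := by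
    have := hI.nontrivial
    exact fun h => not_subsingleton (A ⧸ I) (Ideal.Quotient.subsingleton_iff.mpr h)
  haveI : Nontrivial (A ⧸ (I ⊓ J)) :=
    Ideal.Quotient.nontrivial_iff.mpr (fun h => hne (top_le_iff.mp (h.ge.trans inf_le_left)))
  apply RingTheory.Sequence.IsRegular.of_isWeaklyRegular_of_mem_maximalIdeal
  · intro r hr
    obtain ⟨k, rfl⟩ := (List.mem_ofFn' f r).mp hr
    exact hf k
  · have hdrop : (List.ofFn f).dropLast = (List.ofFn f).take (d - 1) := by
      rw [List.dropLast_eq_take, List.length_ofFn]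
    refine Groth.Agent.Lib.helper9.Depth.isWeaklyRegular_of_exact (List.ofFn f) (iMap I J)
      (pMap I J) (iMap_injective I J) (exact_iMap_pMap I J) (pMap_surjective I J)
      (Groth.Agent.Lib.helper9.Depth.isWeaklyRegular_prod hI.toIsWeaklyRegular
        hJ.toIsWeaklyRegular) ?_
    rw [hdrop]
    exact hIJ.toIsWeaklyRegular

end Groth.Agent.S11257
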