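import Groth.Statements.S1126
import Mathlib
-- import your own Groth.Agent.* helpers here

set_option autoImplicit false
open CategoryTheory CategoryTheory.Limits AlgebraicGeometry Opposite
universe u
open Desc

namespace Groth.Agent.S1126

theorem isUnivHomeo_eq :
    FlatMor.IsUnivHomeo.{u} =
      (@UniversallyInjective ⊓ @UniversallyOpen ⊓ @Surjective : MorphismProperty Scheme.{u}) := by
  ext X Y f
  constructor
  · intro h
    refine ⟨⟨?_, ?_⟩, ?_⟩
    · rw [universallyInjective_eq]
      intro X' Y' i₁ i₂ f' H
      exact (h i₁ i₂ f' H).injective
    · rw [UniversallyOpen.eq]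
      intro X' Y' i₁ i₂ f' H
      exact (h i₁ i₂ f' H).isOpenMap
    · exact ⟨(h (𝟙 _) (𝟙 _) f IsPullback.of_id_snd).surjective⟩
  · rintro ⟨⟨h1, h2⟩, h3⟩
    intro X' Y' i₁ i₂ f' H
    have h1' : UniversallyInjective f' := MorphismProperty.of_isPullback H.flip h1
    have h2' : UniversallyOpen f' := MorphismProperty.of_isPullback H.flip h2
    have h3' : Surjective f' := MorphismProperty.of_isPullback H.flip h3
    change IsHomeomorph f'
    exact ⟨f'.continuous, f'.isOpenMap, f'.injective, f'.surjective⟩


/-- If the base change of a morphism along a quasi-compact flat surjective morphism to its target is a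
universal homeomorphism, then the morphism is a universal homeomorphism. (Stated for a single
quasi-compact flat surjective base change; combined with Zariski-locality on the target this gives
the fpqc-local form.) -/
theorem result :
    MorphismProperty.DescendsAlong (FlatMor.IsUnivHomeo.{u})
      (@Surjective ⊓ @Flat ⊓ @QuasiCompact : MorphismProperty Scheme.{u}) := by
  rw [isUnivHomeo_eq]
  infer_instance

end Groth.Agent.S1126
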