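import Groth.Statements.S11268
import Mathlib

set_option autoImplicit false
open W4bk4grassmannian

namespace Groth.Agent.S11268

theorem val_le_apply {d n : ℕ} (a : Fin d → Fin n) (ha : StrictMono a) :
    ∀ (k : ℕ) (hk : k < d), k ≤ (a ⟨k, hk⟩).val := by
  intro k
  induction k with
  | zero => intro _; exact Nat.zero_le _
  | succ s ih =>
    intro hk
    have h1 := ih (by omega)
    have h2 : a ⟨s, by omega⟩ < a ⟨s + 1, hk⟩ := ha (by simp [Fin.lt_def])
    rw [Fin.lt_def] at h2
    omega

open W4bk4grassmannian in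
/-- Let τ < w in I(d,n), the strictly increasing maps Fin d → Fin n ordered entrywise. Then there is a
Schubert divisor φ of w, i.e. φ < w with Σ_t (φ_t - t) + 1 = Σ_t (w_t - t), such that τ ≤ φ: every
proper Schubert subvariety of X(w) lies in a Schubert divisor of X(w). -/
theorem result (d n : ℕ) (τ w : Idx d n) (h : τ < w) :
    ∃ φ ∈ divisors w, τ ≤ φ := by
  classical
  obtain ⟨hle, hnle⟩ := lt_iff_le_not_ge.mp h
  have hle' : ∀ t, (τ.1 t).val ≤ (w.1 t).val := fun t => hle t
  have hex : ∃ t, (τ.1 t).val < (w.1 t).val := by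
    by_contra hcon
    push_neg at hcon
    apply hnle
    intro t
    exact hcon t
  set S : Finset (Fin d) := Finset.univ.filter fun t => (τ.1 t).val < (w.1 t).val with hS
  have hSne : S.Nonempty := by
    obtain ⟨t, ht⟩ := hex
    exact ⟨t, Finset.mem_filter.mpr ⟨Finset.mem_univ _, ht⟩⟩
  set t₀ := S.min' hSne with ht₀
  have ht₀S : t₀ ∈ S := Finset.min'_mem S hSne
  have ht₀lt : (τ.1 t₀).val < (w.1 t₀).val := by
    exact (Finset.mem_filter.mp ht₀S).2
  have hbelow : ∀ a, a < t₀ → (τ.1 a).val = (w.1 a).val := by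
    intro a ha
    by_contra hne
    have hlt : (τ.1 a).val < (w.1 a).val := lt_of_le_of_ne (hle' a) hne
    have haS : a ∈ S := Finset.mem_filter.mpr ⟨Finset.mem_univ _, hlt⟩
    have := Finset.min'_le S a haS
    exact absurd (lt_of_lt_of_le ha this) (lt_irrefl _)
  have hτt₀ : t₀.val ≤ (τ.1 t₀).val := val_le_apply τ.1 τ.2 t₀.val t₀.isLt
  have hwn : ∀ t, (w.1 t).val < n := fun t => (w.1 t).isLt
  let φf : Fin d → Fin n := fun t =>
    if t = t₀ then ⟨(w.1 t₀).val - 1, by have := hwn t₀; omega⟩ else w.1 t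
  have hφval : ∀ t, (φf t).val = if t = t₀ then (w.1 t₀).val - 1 else (w.1 t).val := by
    intro t
    simp only [φf]
    split_ifs <;> rfl
  have hφmono : StrictMono φf := by
    intro a b hab
    rw [Fin.lt_def, hφval a, hφval b]
    have hτab : (τ.1 a).val < (τ.1 b).val := Fin.lt_def.mp (τ.2 hab)
    have hwab : (w.1 a).val < (w.1 b).val := Fin.lt_def.mp (w.2 hab)
    by_cases hb : b = t₀
    · have ha : a ≠ t₀ := fun h => by rw [h, hb] at hab; exact lt_irrefl _ hab
      rw [if_neg ha, if_pos hb]
      have h1 := hbelow a (hb ▸ hab)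
      rw [hb] at hτab
      omega
    · rw [if_neg hb]
      by_cases ha : a = t₀
      · rw [if_pos ha]
        rw [ha] at hwab
        omega
      · rw [if_neg ha]
        exact hwab
  refine ⟨⟨φf, hφmono⟩, ⟨?_, ?_⟩, ?_⟩
  · rw [lt_iff_le_not_ge]
    constructor
    · intro t
      change φf t ≤ w.1 t
      rw [Fin.le_def, hφval]
      split_ifs with ht
      · rw [ht]; omega
      · exact le_rfl
    · intro hcon
      have := hcon t₀
      change w.1 t₀ ≤ φf t₀ at this
      rw [Fin.le_def, hφval, if_pos rfl] at this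
      omega
  · unfold codeg
    rw [← Finset.add_sum_erase Finset.univ _ (Finset.mem_univ t₀),
      ← Finset.add_sum_erase Finset.univ (fun t : Fin d => (w.1 t).val - t.val) (Finset.mem_univ t₀)]
    have h1 : ∀ t ∈ Finset.univ.erase t₀,
        ((⟨φf, hφmono⟩ : Idx d n).1 t).val - t.val = (w.1 t).val - t.val := by
      intro t ht
      have hne : t ≠ t₀ := Finset.ne_of_mem_erase ht
      change (φf t).val - t.val = _
      rw [hφval, if_neg hne]
    rw [Finset.sum_congr rfl h1]
    change (φf t₀).val - t₀.val + _ + 1 = _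
    rw [hφval, if_pos rfl]
    omega
  · intro t
    change τ.1 t ≤ φf t
    rw [Fin.le_def, hφval]
    split_ifs with ht
    · rw [ht]; omega
    · exact hle' t

end Groth.Agent.S11268
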