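import Groth.Statements.S11269
import Groth.Agent.Lib.helper9.Depth12
-- import your own Groth.Agent.* helpers here

set_option autoImplicit false
universe u
open W4bk4grassmannian

namespace Groth.Agent.S11269

section helpers

open Groth.Agent.Lib.helper9.Depth LocCoh Pointwise

variable {R : Type u} [CommRing R]

lemma smul_top_eq_span (a : R) : (a • (⊤ : Submodule R R)) = Ideal.span {a} := by
  rw [← Submodule.ideal_span_singleton_smul, smul_eq_mul, Ideal.mul_top]

lemma ass_eq (a : R) :
    associatedPrimes R (R ⧸ Ideal.span {a}) = associatedPrimes R (QuotSMulTop a R) :=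
  LinearEquiv.AssociatedPrimes.eq (Submodule.quotEquivOfEq _ _ (smul_top_eq_span a).symm)

lemma nontrivial_loc (P : Ideal R) [P.IsPrime] : Nontrivial (LocalizedModule P.primeCompl R) :=
  (localizedModuleSelfEquiv P).toEquiv.nontrivial

lemma supportDim_loc (P : Ideal R) [P.IsPrime] :
    Module.supportDim (Localization.AtPrime P) (LocalizedModule P.primeCompl R) =
      ((P.height : ℕ∞) : WithBot ℕ∞) := by
  rw [Module.supportDim_eq_of_equiv (localizedModuleSelfEquiv P), supportDim_self_localization]

variable [IsDomain R] [IsNoetherianRing R]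

lemma key {a : R} (ha : a ≠ 0) (P : Ideal R) [P.IsPrime] (haP : a ∈ P) :
    ((P.height : ℕ∞) : WithBot ℕ∞) =
      Module.supportDim (Localization.AtPrime P) (LocalizedModule P.primeCompl (QuotSMulTop a R)) + 1 ∧
    depth (Localization.AtPrime P) (LocalizedModule P.primeCompl (QuotSMulTop a R)) + 1 =
      depth (Localization.AtPrime P) (LocalizedModule P.primeCompl R) := by
  haveI := nontrivial_loc P
  have hreg : IsSMulRegular R a := (IsRegular.of_ne_zero ha).left.isSMulRegular
  obtain ⟨h1, h2⟩ := supportDim_depth_localization_quotSMulTop P R hreg haP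
  rw [supportDim_loc] at h1
  exact ⟨h1.symm, h2⟩

lemma mem_of_mem_ass {a : R} (P : Ideal R) [P.IsPrime]
    (hP : P ∈ associatedPrimes R (QuotSMulTop a R)) : a ∈ P := by
  by_contra haP
  have hsub := subsingleton_localization_quotSMulTop_of_notMem P R haP
  have h0 := (depth_localization_eq_zero_iff P (QuotSMulTop a R)).mpr hP
  have htop : depth (Localization.AtPrime P) (LocalizedModule P.primeCompl (QuotSMulTop a R)) = ⊤ :=
    idealDepth_eq_top _ _ (Subsingleton.elim _ _)
  rw [htop] at h0
  exact ENat.top_ne_zero h0

end helpers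

/-- Let R be a Noetherian integral domain. Then R satisfies Serre's condition (S_2) (depth R_P ≥ min(2,
dim R_P) for all primes P) if and only if, for every nonzero a ∈ R, every associated prime of the
R-module R/(a) has height one. -/
theorem result (R : Type u) [CommRing R] [IsDomain R]
    [IsNoetherianRing R] :
    LocCoh.HasSk 2 R R ↔
      ∀ a : R, a ≠ 0 → ∀ P : Ideal R, P ∈ associatedPrimes R (R ⧸ Ideal.span {a}) → P.height = 1 := by
  have h2 : ((2 : ℕ) : WithBot ℕ∞) = (((2 : ℕ∞)) : WithBot ℕ∞) := rfl
  constructor
  · intro hS a ha P hP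
    rw [ass_eq] at hP
    haveI : P.IsPrime := hP.isPrime
    have haP := mem_of_mem_ass P hP
    obtain ⟨hdim, hdep⟩ := key ha P haP
    have h0 := (Groth.Agent.Lib.helper9.Depth.depth_localization_eq_zero_iff P
      (QuotSMulTop a R)).mpr hP
    rw [h0, zero_add] at hdep
    have hSP := hS P
    rw [supportDim_loc, ← hdep, h2, ← WithBot.coe_min, WithBot.coe_le_coe] at hSP
    have hle : P.height ≤ 1 := by
      rcases min_le_iff.mp hSP with h | h
      · exact absurd h (by decide)
      · exact h
    have hge : 1 ≤ P.height := by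
      rw [Order.one_le_iff_ne_zero, Ne, Ideal.height_eq_zero_iff_eq_bot]
      rintro rfl
      exact ha (by simpa using haP)
    exact le_antisymm hle hge
  · intro h P _
    rw [supportDim_loc, h2, ← WithBot.coe_min, WithBot.coe_le_coe]
    by_cases hP0 : P = ⊥
    · subst hP0
      rw [Ideal.height_bot]
      simp
    · obtain ⟨a, haP, ha⟩ := Submodule.exists_mem_ne_zero_of_ne_bot hP0
      obtain ⟨hdim, hdep⟩ := key ha P haP
      rw [← hdep]
      by_cases h0 : LocCoh.depth (Localization.AtPrime P)
          (LocalizedModule P.primeCompl (QuotSMulTop a R)) = 0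
      · have hP := (Groth.Agent.Lib.helper9.Depth.depth_localization_eq_zero_iff P
          (QuotSMulTop a R)).mp h0
        rw [← ass_eq] at hP
        rw [h a ha P hP, h0]
        simp
      · have : 1 ≤ LocCoh.depth (Localization.AtPrime P)
            (LocalizedModule P.primeCompl (QuotSMulTop a R)) :=
          Order.one_le_iff_ne_zero.mpr h0
        refine (min_le_left _ _).trans ?_
        calc (2 : ℕ∞) = 1 + 1 := by norm_num
          _ ≤ _ := add_le_add_left this 1

end Groth.Agent.S11269
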