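import Groth.Statements.S11271
import Mathlib

set_option autoImplicit false
universe u
open W4bk4grassmannian

namespace Groth.Agent.S11271aux

open W4bk4grassmannian MvPolynomial


variable (K : Type u) [Field K]

/-- independent columns give a nonzero maximal minor -/
lemma exists_minor_ne_zero (d n : ℕ) (A : Matrix (Fin n) (Fin d) K)
    (h : LinearIndependent K A.transpose) :
    ∃ a : Fin d → Fin n, (A.submatrix a id).det ≠ 0 := by
  classical
  have hr : A.rank = d := by
    rw [Matrix.rank_eq_finrank_span_cols]
    have : A.col = A.transpose := rfl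
    rw [this, finrank_span_eq_card h, Fintype.card_fin]
  have hr2 : Module.finrank K (Submodule.span K (Set.range A.row)) = d := by
    rw [← Matrix.rank_eq_finrank_span_row, hr]
  obtain ⟨f, hf1, -, hf3⟩ := Submodule.exists_fun_fin_finrank_span_eq K (Set.range A.row)
  choose a ha using hf1
  refine ⟨fun s => a (Fin.cast hr2.symm s), ?_⟩
  have hli : LinearIndependent K (A.submatrix (fun s => a (Fin.cast hr2.symm s)) id).row := by
    have : (A.submatrix (fun s => a (Fin.cast hr2.symm s)) id).row = f ∘ (Fin.cast hr2.symm) := by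
      ext s j
      have := congrFun (ha (Fin.cast hr2.symm s)) j
      simpa [Matrix.row] using this
    rw [this]
    exact hf3.comp _ (Fin.cast_injective _)
  rw [Matrix.linearIndependent_rows_iff_isUnit, Matrix.isUnit_iff_isUnit_det] at hli
  exact hli.ne_zero

theorem forward (d n : ℕ) (hd : 0 < d) (A : Matrix (Fin n) (Fin d) K)
    (h : LinearIndependent K A.transpose) :
    ∃ f : MatRing K d n, (∀ g : Matrix.SpecialLinearGroup (Fin d) K,
        MvPolynomial.eval (fun p : Fin n × Fin d => (A * (g : Matrix (Fin d) (Fin d) K)) p.1 p.2) f = 0) ∧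
        MvPolynomial.eval (fun _ : Fin n × Fin d => (0 : K)) f ≠ 0 := by
  classical
  obtain ⟨a, ha⟩ := exists_minor_ne_zero K d n A h
  have hev : ∀ B : Matrix (Fin n) (Fin d) K,
      MvPolynomial.eval (fun p : Fin n × Fin d => B p.1 p.2) (minor K d n a) =
        (B.submatrix a id).det := by
    intro B
    unfold minor
    rw [RingHom.map_det]
    congr 1
    ext s t
    simp
  refine ⟨minor K d n a - C (A.submatrix a id).det, ?_, ?_⟩
  · intro g
    rw [map_sub, hev, eval_C]
    have : (A * (g : Matrix (Fin d) (Fin d) K)).submatrix a id =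
        A.submatrix a id * (g : Matrix (Fin d) (Fin d) K) := by
      ext i j
      simp [Matrix.mul_apply]
    rw [this, Matrix.det_mul, g.det_coe, mul_one, sub_self]
  · rw [map_sub, eval_C]
    have h0 := hev 0
    simp only [Matrix.zero_apply] at h0
    rw [h0]
    have : Nonempty (Fin d) := ⟨⟨0, hd⟩⟩
    have hz : (Matrix.submatrix (0 : Matrix (Fin n) (Fin d) K) a id) = 0 := by
      ext i j; simp
    rw [hz, Matrix.det_zero, zero_sub, neg_ne_zero]
    exact ha

/-- if `A x = 0` with `x ≠ 0` then `t • A` lies in the `SL_d`-orbit of `A` for every `t ≠ 0`. -/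
lemma exists_sl_mul_eq_smul (d n : ℕ) (hd : 0 < d) (A : Matrix (Fin n) (Fin d) K)
    (x : Fin d → K) (hx : x ≠ 0) (hAx : A.mulVec x = 0) (t : K) (ht : t ≠ 0) :
    ∃ g : Matrix.SpecialLinearGroup (Fin d) K,
      A * (g : Matrix (Fin d) (Fin d) K) = t • A := by
  classical
  obtain ⟨j₀, hj₀⟩ : ∃ j, x j ≠ 0 := by
    by_contra hcon
    push Not at hcon
    exact hx (funext hcon)
  set y : Fin d → K := Pi.single j₀ (x j₀)⁻¹ with hy
  have hyx : y ⬝ᵥ x = 1 := by
    simp [hy, inv_mul_cancel₀ hj₀]
  set s : K := (t ^ (d - 1))⁻¹ - t with hs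
  set M : Matrix (Fin d) (Fin d) K :=
    t • (1 + Matrix.replicateCol Unit ((s / t) • x) * Matrix.replicateRow Unit y) with hM
  have hdet : M.det = 1 := by
    rw [hM, Matrix.det_smul, Matrix.det_one_add_replicateCol_mul_replicateRow, Fintype.card_fin,
      dotProduct_smul, hyx, smul_eq_mul, mul_one]
    have htd : t ^ d = t ^ (d - 1) * t := by
      rw [← pow_succ]; congr 1; omega
    have htd1 : t ^ (d - 1) ≠ 0 := pow_ne_zero _ ht
    rw [htd, hs]
    field_simp
    ring
  refine ⟨⟨M, hdet⟩, ?_⟩
  show A * M = t • A
  rw [hM, Matrix.mul_smul, Matrix.mul_add, Matrix.mul_one, ← Matrix.mul_assoc]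
  have h0 : A * Matrix.replicateCol Unit ((s / t) • x) = 0 := by
    ext i u
    have := congrFun hAx i
    simp only [Matrix.mulVec, dotProduct, Pi.zero_apply] at this
    simp only [Matrix.mul_apply, Matrix.replicateCol_apply, Pi.smul_apply, smul_eq_mul,
      Matrix.zero_apply]
    calc ∑ k, A i k * (s / t * x k) = (s / t) * ∑ k, A i k * x k := by
          rw [Finset.mul_sum]; apply Finset.sum_congr rfl; intro k _; ring
      _ = 0 := by rw [this, mul_zero]
  rw [h0, Matrix.zero_mul, add_zero]

theorem backward [Infinite K] (d n : ℕ) (hd : 0 < d) (A : Matrix (Fin n) (Fin d) K)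
    (h : ∃ f : MatRing K d n, (∀ g : Matrix.SpecialLinearGroup (Fin d) K,
        MvPolynomial.eval (fun p : Fin n × Fin d => (A * (g : Matrix (Fin d) (Fin d) K)) p.1 p.2) f = 0) ∧
        MvPolynomial.eval (fun _ : Fin n × Fin d => (0 : K)) f ≠ 0) :
    LinearIndependent K A.transpose := by
  classical
  obtain ⟨f, hf1, hf2⟩ := h
  by_contra hli
  rw [Fintype.linearIndependent_iff] at hli
  push Not at hli
  obtain ⟨x, hx0, j, hj⟩ := hli
  have hx : x ≠ 0 := fun h => hj (by rw [h]; rfl)
  have hAx : A.mulVec x = 0 := by
    ext i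
    have := congrFun hx0 i
    simp only [Finset.sum_apply, Pi.smul_apply, Matrix.transpose_apply, smul_eq_mul,
      Pi.zero_apply] at this
    simp only [Matrix.mulVec, dotProduct, Pi.zero_apply]
    rw [← this]
    apply Finset.sum_congr rfl; intro k _; ring
  -- the one-variable polynomial t ↦ f (t • A)
  set P : Polynomial K := MvPolynomial.eval₂ Polynomial.C
    (fun p : Fin n × Fin d => Polynomial.C (A p.1 p.2) * Polynomial.X) f with hP
  have hPeval : ∀ t : K, P.eval t =
      MvPolynomial.eval (fun p : Fin n × Fin d => A p.1 p.2 * t) f := by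
    intro t
    have := MvPolynomial.eval₂_comp_left (Polynomial.evalRingHom t) Polynomial.C
      (fun p : Fin n × Fin d => Polynomial.C (A p.1 p.2) * Polynomial.X) f
    rw [Polynomial.coe_evalRingHom] at this
    rw [hP, this]
    unfold MvPolynomial.eval
    simp only [MvPolynomial.coe_eval₂Hom]
    congr 1
    · ext a; simp
    · ext p; simp
  have hroots : ∀ t : K, t ≠ 0 → P.IsRoot t := by
    intro t ht
    obtain ⟨g, hg⟩ := exists_sl_mul_eq_smul K d n hd A x hx hAx t ht
    have := hf1 g
    rw [hg] at this
    have hfun : (fun p : Fin n × Fin d => A p.1 p.2 * t) = fun p => (t • A) p.1 p.2 := by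
      funext p; simp [mul_comm]
    rw [Polynomial.IsRoot, hPeval, hfun, this]
  have hP0 : P = 0 := by
    apply Polynomial.eq_zero_of_infinite_isRoot
    apply Set.Infinite.mono (s := {t : K | t ≠ 0})
    · intro t ht; exact hroots t ht
    · have : {t : K | t ≠ 0} = ({0} : Set K)ᶜ := by ext; simp
      rw [this]
      exact (Set.finite_singleton 0).infinite_compl
  apply hf2
  have := hPeval 0
  rw [hP0, Polynomial.eval_zero] at this
  have hfun0 : (fun p : Fin n × Fin d => A p.1 p.2 * 0) = fun _ => (0 : K) := by
    funext p; simp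
  rw [hfun0] at this
  exact this.symm

end Groth.Agent.S11271aux

namespace Groth.Agent.S11271

open W4bk4grassmannian in
/-- Semistable matrices are the matrices of full rank: let K be an algebraically closed field, 0 < d <
n, and let SL_d(K) act on n × d matrices by right multiplication; a matrix A is semistable when the
zero matrix is not in the Zariski closure of its orbit, i.e. when some polynomial in the entries
vanishes at A g for every g ∈ SL_d(K) but not at 0. Then A is semistable if and only if its columns
are linearly independent. -/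
theorem result (K : Type u) [Field K]
    [IsAlgClosed K] (d n : ℕ) (hd : 0 < d) (hdn : d < n) (A : Matrix (Fin n) (Fin d) K) :
    LinearIndependent K A.transpose ↔
      ∃ f : MatRing K d n, (∀ g : Matrix.SpecialLinearGroup (Fin d) K,
        MvPolynomial.eval (fun p : Fin n × Fin d => (A * (g : Matrix (Fin d) (Fin d) K)) p.1 p.2) f = 0) ∧
        MvPolynomial.eval (fun _ : Fin n × Fin d => (0 : K)) f ≠ 0 := by
  exact ⟨Groth.Agent.S11271aux.forward K d n hd A, Groth.Agent.S11271aux.backward K d n hd A⟩

end Groth.Agent.S11271
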