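import Groth.Statements.S11278
import Mathlib
import Groth.Agent.Lib.helper5.GrassUFD

set_option autoImplicit false
universe u v
open W4bk4grassmannian

namespace Groth.Agent.S11278

/-- Unique factorization lifts from the homogeneous localization at a prime element of degree one, in
the generality of the published argument: let K be a field, R = ⊕_{i ≥ 0} R_i a Noetherian ℕ-graded
commutative K-algebra which is an integral domain, and s ∈ R_1 a homogeneous element of degree one
which is a prime element of R. If the homogeneous localization R_(s) (degree-zero part of R[1/s])
has unique factorization, then R is a unique factorization domain. (The published statement is the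
case where R is the homogeneous coordinate ring of a Schubert variety, s the Plücker coordinate of
the least index, which is a prime element there, and R_(s) the coordinate ring of the opposite
cell.) -/
theorem result (K : Type u) [Field K] (R : Type v)
    [CommRing R] [IsDomain R] [IsNoetherianRing R] [Algebra K R] (𝒜 : ℕ → Submodule K R) [GradedAlgebra 𝒜]
    (s : R) (hs : s ∈ 𝒜 1) (hp : Prime s)
    (h : UniqueFactorizationMonoid (HomogeneousLocalization.Away 𝒜 s)) :
    UniqueFactorizationMonoid R := by
  have hs0 := hp.ne_zero
  have hd : IsDomain (Localization.Away s) := IsLocalization.Away.isDomain _ hs0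
  have hB : IsDomain (HomogeneousLocalization.Away 𝒜 s) :=
    Function.Injective.isDomain (algebraMap (HomogeneousLocalization.Away 𝒜 s) (Localization.Away s))
      (HomogeneousLocalization.val_injective _)
  have hU : UniqueFactorizationMonoid (Polynomial (HomogeneousLocalization.Away 𝒜 s)) := inferInstance
  let _ := (Groth.Agent.H5.GrassUFD.φ K R 𝒜 s).toAlgebra
  have := Groth.Agent.H5.GrassUFD.isLocalization (K := K) (𝒜 := 𝒜) hs
  have : UniqueFactorizationMonoid (Localization.Away s) :=
    UniqueFactorizationMonoid.of_isLocalization
      (Submonoid.powers (Polynomial.X : (Polynomial (HomogeneousLocalization.Away 𝒜 s)))) _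
  exact (UniqueFactorizationMonoid.iff_localizationAway_of_prime hp).mpr this

end Groth.Agent.S11278
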