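import Groth.Statements.S1128
import Mathlib
-- import your own Groth.Agent.* helpers here

set_option autoImplicit false
open CategoryTheory CategoryTheory.Limits AlgebraicGeometry Opposite
universe u
open Desc

namespace Groth.Agent.S1128

open TensorProduct in
/-- ring-level: if `C` is faithfully flat over `B` and flat over `A`, then `B` is flat over `A`. -/
theorem flat_of_flat_of_faithfullyFlat (A B C : Type u) [CommRing A] [CommRing B] [CommRing C]
    [Algebra A B] [Algebra B C] [Algebra A C] [IsScalarTower A B C]
    [Module.FaithfullyFlat B C] [Module.Flat A C] : Module.Flat A B := by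
  rw [Module.Flat.iff_lTensor_preserves_injective_linearMap]
  intro N N' _ _ _ _ l hl
  have h1 : Function.Injective (l.lTensor C) :=
    Module.Flat.lTensor_preserves_injective_linearMap l hl
  have key := TensorProduct.AlgebraTensorModule.lTensor_comp_cancelBaseChange
    (R := A) (A := B) (B := C) (M := C) l
  have h2 : Function.Injective ((l.baseChange B).lTensor C) := by
    intro x y hxy
    apply (TensorProduct.AlgebraTensorModule.cancelBaseChange A B C C N).injective
    apply h1
    have hx := LinearMap.congr_fun key x
    have hy := LinearMap.congr_fun key y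
    simp only [LinearMap.coe_comp, Function.comp_apply, LinearEquiv.coe_coe] at hx hy
    change (TensorProduct.AlgebraTensorModule.lTensor C C l) _ =
      (TensorProduct.AlgebraTensorModule.lTensor C C l) _
    rw [hx, hy]
    congr 1
  rw [Module.FaithfullyFlat.lTensor_injective_iff_injective] at h2
  exact h2

/-- ring hom version. -/
theorem ringHom_flat_of_comp {A B C : Type u} [CommRing A] [CommRing B] [CommRing C]
    (φ : A →+* B) (ψ : B →+* C) (hψ : ψ.FaithfullyFlat) (h : (ψ.comp φ).Flat) : φ.Flat := by
  algebraize [φ, ψ, ψ.comp φ]
  exact flat_of_flat_of_faithfullyFlat A B C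

/-- If f is flat and surjective and the composite of f with g is flat, then g is flat; together with
stability of flatness under composition this says flatness is fpqc local on the source. -/
theorem result {X' X Y : Scheme.{u}} (f : X' ⟶ X) (g : X ⟶ Y) [Flat f]
    [Surjective f] [Flat (f ≫ g)] : Flat g := by
  rw [Flat.iff_flat_stalkMap]
  intro x
  obtain ⟨x', rfl⟩ := f.surjective x
  have hcomp : ((f ≫ g).stalkMap x').hom.Flat := Flat.stalkMap (f ≫ g) x'
  rw [Scheme.Hom.stalkMap_comp] at hcomp
  have hf : (f.stalkMap x').hom.Flat := Flat.stalkMap f x'
  refine ringHom_flat_of_comp _ (f.stalkMap x').hom ?_ hcomp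
  algebraize [(f.stalkMap x').hom]
  have : IsLocalHom (algebraMap (X.presheaf.stalk (f x')) (X'.presheaf.stalk x')) :=
    inferInstanceAs (IsLocalHom (f.stalkMap x').hom)
  exact Module.FaithfullyFlat.of_flat_of_isLocalHom

end Groth.Agent.S1128
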