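import Groth.Statements.S11288
import Groth.Agent.S12644
import Mathlib.Tactic.LinearCombination
import Mathlib.LinearAlgebra.Dual.Lemmas

set_option autoImplicit false
universe u
open Deform

namespace Groth.Agent.S11288

/-- Let K be a field, R' a local Artinian K-algebra with residue field K, and t a nonzero element of the
maximal ideal m' of R' with m' t = 0, so that R' → R = R'/(t) is a small extension of R. Then the
extension is trivial, i.e. the projection admits a section which is a K-algebra map, if and only if
t is not in m'^2; equivalently, iff the surjection m'/m'^2 → m_R/m_R^2 induced on cotangent spaces,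
whose kernel is spanned by the class of t, is not bijective. For instance K[t]/(t^(n+1)) →
K[t]/(t^n) is a non-trivial small extension for n ≥ 2. (The published example allows any local
K-algebra with residue field K; the row takes R' Artinian, the case in which the subalgebra
generated by lifts of a basis of the cotangent space maps onto R.) -/
theorem result
    {K : Type u} [Field K]
    {R' : Type u} [CommRing R'] [Algebra K R'] [IsLocalRing R'] [IsArtinianRing R']
    (hres : ∀ a : R', ∃ c : K, a - algebraMap K R' c ∈ IsLocalRing.maximalIdeal R')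
    (t : R') (ht : t ∈ IsLocalRing.maximalIdeal R') (ht0 : t ≠ 0)
    (htm : ∀ a ∈ IsLocalRing.maximalIdeal R', a * t = 0) :
    (∃ s : (R' ⧸ Ideal.span {t}) →ₐ[K] R', ∀ x, Ideal.Quotient.mk (Ideal.span {t}) (s x) = x) ↔
      t ∉ IsLocalRing.maximalIdeal R' ^ 2 := by
  classical
  set m := IsLocalRing.maximalIdeal R' with hm
  have htt : t * t = 0 := htm t ht
  have hmulc : ∀ (a : R') (c : K), a - algebraMap K R' c ∈ m → a * t = algebraMap K R' c * t := by
    intro a c h
    have := htm _ h
    rw [sub_mul, sub_eq_zero] at this
    exact this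
  constructor
  · rintro ⟨s, hs⟩ htsq
    set π := Ideal.Quotient.mk (Ideal.span {t}) with hπ
    -- every a differs from s (π a) by a K-multiple of t
    have hdiff : ∀ a : R', ∃ c : K, a = s (π a) + algebraMap K R' c * t := by
      intro a
      have h1 : a - s (π a) ∈ Ideal.span {t} := by
        rw [← Ideal.Quotient.eq, hs]
      obtain ⟨r, hr⟩ := Ideal.mem_span_singleton'.mp h1
      obtain ⟨c, hc⟩ := hres r
      refine ⟨c, ?_⟩
      rw [← hmulc r c hc, hr]
      ring
    have hsm : ∀ a ∈ m, s (π a) ∈ m := by
      intro a ha
      obtain ⟨c, hc⟩ := hdiff a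
      have : s (π a) = a - algebraMap K R' c * t := by
        rw [eq_sub_iff_add_eq]; exact hc.symm
      rw [this]
      exact Ideal.sub_mem _ ha (Ideal.mul_mem_left _ _ ht)
    have hprod : ∀ a ∈ m, ∀ b ∈ m, a * b = s (π (a * b)) := by
      intro a ha b hb
      obtain ⟨c, hc⟩ := hdiff a
      obtain ⟨c', hc'⟩ := hdiff b
      have e1 : s (π a) * t = 0 := htm _ (hsm a ha)
      have e2 : s (π b) * t = 0 := htm _ (hsm b hb)
      rw [map_mul, map_mul]
      conv_lhs => rw [hc, hc']
      linear_combination (algebraMap K R' c' ) * e1 + (algebraMap K R' c) * e2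
        + (algebraMap K R' c) * (algebraMap K R' c') * htt
    have hall : ∀ x ∈ m ^ 2, x = s (π x) := by
      intro x hx
      rw [pow_two] at hx
      refine Submodule.mul_induction_on hx ?_ ?_
      · intro a ha b hb
        exact hprod a ha b hb
      · intro x y hx hy
        rw [map_add, map_add, ← hx, ← hy]
    have h0 : t = s (π t) := hall t htsq
    have hπt : π t = 0 := by
      rw [hπ, Ideal.Quotient.eq_zero_iff_mem]
      exact Ideal.mem_span_singleton_self t
    rw [hπt, map_zero] at h0
    exact ht0 h0
  · intro htsq
    have hres' : Function.Surjective (algebraMap K (IsLocalRing.ResidueField R')) := by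
      intro x
      obtain ⟨a, rfl⟩ := IsLocalRing.residue_surjective x
      obtain ⟨c, hc⟩ := hres a
      refine ⟨c, ?_⟩
      rw [← IsLocalRing.residue_eq_zero_iff, map_sub, sub_eq_zero] at hc
      rw [hc, IsScalarTower.algebraMap_apply K R' (IsLocalRing.ResidueField R')]
      rfl
    have hne : (IsLocalRing.maximalIdeal R').toCotangent ⟨t, ht⟩ ≠ 0 := by
      rw [Ne, Ideal.toCotangent_eq_zero]
      exact htsq
    obtain ⟨ℓ, hℓ⟩ := Module.Projective.exists_dual_eq_one K
      (V := IsLocalRing.CotangentSpace R') hne
    obtain ⟨φ, ⟨hφ1, hφ2⟩, -⟩ := Groth.Agent.S12644.result K R' hres' ℓ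
    have hφt : TrivSqZeroExt.snd (φ t) = 1 := by
      have := hφ2 ⟨t, ht⟩
      rw [hℓ] at this
      exact this
    have hat : ∀ a : R', a * t = algebraMap K R' (TrivSqZeroExt.fst (φ a)) * t := by
      intro a
      apply hmulc
      rw [hm, ← IsLocalRing.residue_eq_zero_iff, map_sub, sub_eq_zero, ← hφ1 a,
        IsScalarTower.algebraMap_apply K R' (IsLocalRing.ResidueField R')]
      rfl
    let σl : R' →ₗ[K] R' :=
      { toFun := fun a => a - algebraMap K R' (TrivSqZeroExt.snd (φ a)) * t
        map_add' := by
          intro a b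
          simp only [map_add, TrivSqZeroExt.snd_add]
          ring
        map_smul' := by
          intro x a
          have h1 : φ (x • a) = x • φ a := map_smul φ x a
          change x • a - algebraMap K R' (TrivSqZeroExt.snd (φ (x • a))) * t =
            x • (a - algebraMap K R' (TrivSqZeroExt.snd (φ a)) * t)
          rw [h1, TrivSqZeroExt.snd_smul, smul_eq_mul, map_mul, Algebra.smul_def, Algebra.smul_def]
          ring }
    have hσl : ∀ a, σl a = a - algebraMap K R' (TrivSqZeroExt.snd (φ a)) * t := fun a => rfl
    let σ : R' →ₐ[K] R' := AlgHom.ofLinearMap σl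
      (by simp [hσl])
      (by
        intro a b
        simp only [hσl, map_mul, TrivSqZeroExt.snd_mul, map_add, smul_eq_mul,
          MulOpposite.smul_eq_mul_unop, MulOpposite.unop_op]
        have ha := hat a
        have hb := hat b
        linear_combination (algebraMap K R' (TrivSqZeroExt.snd (φ b))) * ha
          + (algebraMap K R' (TrivSqZeroExt.snd (φ a))) * hb
          - (algebraMap K R' (TrivSqZeroExt.snd (φ a)))
            * (algebraMap K R' (TrivSqZeroExt.snd (φ b))) * htt)
    have hσ : ∀ a, σ a = a - algebraMap K R' (TrivSqZeroExt.snd (φ a)) * t := fun a => rfl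
    have hσt : σ t = 0 := by
      rw [hσ, hφt, map_one, one_mul, sub_self]
    have hker : ∀ a ∈ Ideal.span {t}, σ a = 0 := by
      intro a ha
      obtain ⟨r, rfl⟩ := Ideal.mem_span_singleton'.mp ha
      rw [map_mul, hσt, mul_zero]
    refine ⟨Ideal.Quotient.liftₐ (Ideal.span {t}) σ hker, ?_⟩
    intro x
    obtain ⟨a, rfl⟩ := Ideal.Quotient.mk_surjective x
    rw [Ideal.Quotient.liftₐ_apply, Ideal.Quotient.lift_mk]
    rw [Ideal.Quotient.eq]
    change σ a - a ∈ _
    rw [hσ]
    rw [Ideal.mem_span_singleton']
    exact ⟨-algebraMap K R' (TrivSqZeroExt.snd (φ a)), by ring⟩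

end Groth.Agent.S11288
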