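import Groth.Statements.S11294
import Groth.Agent.Lib.helper29.DualLift

set_option autoImplicit false
universe u
open Deform

namespace Groth.Agent.S11294

open TrivSqZeroExt DualNumber W4c6puncthilbintro Groth.Agent.H29.DualLift

lemma rule_liftIdeal (P : Type u) [CommRing P] (J : Ideal P) (φ : J →ₗ[P] (P ⧸ J)) (a b : P) :
    (inl a + inr b : DualNumber P) ∈ liftIdeal J φ ↔
      ∃ h : a ∈ J, Ideal.Quotient.mk J b = φ ⟨a, h⟩ := by
  rw [mem_liftIdeal_iff]
  have h1 : (inl a + inr b : DualNumber P).fst = a := by simp
  have h2 : (inl a + inr b : DualNumber P).snd = b := by simp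
  constructor
  · rintro ⟨h, hb⟩
    have h' : a ∈ J := h1 ▸ h
    refine ⟨h', ?_⟩
    have h0 : (⟨(inl a + inr b : DualNumber P).fst, h⟩ : J) = ⟨a, h'⟩ := by ext; exact h1
    rw [h0, h2] at hb
    exact hb
  · rintro ⟨h, hb⟩
    have h' : (inl a + inr b : DualNumber P).fst ∈ J := h1.symm ▸ h
    refine ⟨h', ?_⟩
    have h0 : (⟨(inl a + inr b : DualNumber P).fst, h'⟩ : J) = ⟨a, h⟩ := by ext; exact h1
    rw [h0, h2]
    exact hb

lemma eq_of_rule (P : Type u) [CommRing P] (J : Ideal P) (φ : J →ₗ[P] (P ⧸ J))
    (J' : Ideal (DualNumber P))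
    (h : ∀ a b : P, (inl a + inr b : DualNumber P) ∈ J' ↔
      ∃ h : a ∈ J, Ideal.Quotient.mk J b = φ ⟨a, h⟩) : J' = liftIdeal J φ := by
  ext x
  rw [eq_inl_add_inr x, h, rule_liftIdeal]

open TrivSqZeroExt in
/-- Let P be a commutative ring, J an ideal, and P[ε] the ring of dual numbers over P. First-order
embedded deformations of Spec(P/J) in Spec P, namely ideals J' of P[ε] lifting J (the image of J'
under ε ↦ 0 is J) with P[ε]/J' flat over the dual numbers — flatness being replaced by the condition
that every element of P[ε]/J' annihilated by ε is a multiple of ε (equivalent to flatness over k[ε]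
when P is an algebra over a field k) — are in canonical bijection with Hom_P(J, P/J) =
Hom_{P/J}(J/J^2, P/J), the normal module: to φ corresponds the ideal of all a + εb with a in J and b
reducing to φ(a) modulo J. The first clause says this rule defines exactly one ideal for each φ; the
second says an ideal J' is a flat lift of J precisely when its membership is given by this rule for
some φ. (The published statement is the global one, identifying first-order deformations of a closed
subscheme X of an algebraic scheme Y with H^0(X, N_{X/Y}); this row is the affine computation in its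
proof, valid for every commutative ring P.) -/
theorem result (P : Type u) [CommRing P] (J : Ideal P) :
    (∀ φ : J →ₗ[P] (P ⧸ J), ∃! J' : Ideal (DualNumber P),
        ∀ a b : P, (inl a + inr b : DualNumber P) ∈ J' ↔ ∃ h : a ∈ J, Ideal.Quotient.mk J b = φ ⟨a, h⟩) ∧
    (∀ J' : Ideal (DualNumber P),
      (J'.map (TrivSqZeroExt.fstHom P P P) = J ∧
        ∀ m : DualNumber P ⧸ J', Ideal.Quotient.mk J' DualNumber.eps * m = 0 →
          ∃ m' : DualNumber P ⧸ J', m = Ideal.Quotient.mk J' DualNumber.eps * m') ↔
      ∃ φ : J →ₗ[P] (P ⧸ J), ∀ a b : P,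
        (inl a + inr b : DualNumber P) ∈ J' ↔ ∃ h : a ∈ J, Ideal.Quotient.mk J b = φ ⟨a, h⟩) := by
  constructor
  · intro φ
    refine ⟨liftIdeal J φ, rule_liftIdeal P J φ, ?_⟩
    intro J' h
    exact eq_of_rule P J φ J' h
  · intro J'
    constructor
    · rintro ⟨hmap, heps⟩
      have hinr' : ∀ b : P, (inr b : DualNumber P) ∈ J' → ∃ c : P, (inl b + inr c : DualNumber P) ∈ J' := by
        intro b hb
        have h0 : Ideal.Quotient.mk J' DualNumber.eps * Ideal.Quotient.mk J' (inl b) = 0 := by
          rw [← map_mul, Ideal.Quotient.eq_zero_iff_mem]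
          have : (DualNumber.eps : DualNumber P) * inl b = inr b := by
            ext <;> simp [DualNumber.snd_mul]
          rw [this]
          exact hb
        obtain ⟨m', hm'⟩ := heps _ h0
        obtain ⟨z, rfl⟩ := Ideal.Quotient.mk_surjective m'
        rw [← map_mul, Ideal.Quotient.eq] at hm'
        refine ⟨-z.fst, ?_⟩
        have : (inl b + inr (-z.fst) : DualNumber P) = inl b - DualNumber.eps * z := by
          ext <;> simp [DualNumber.snd_mul]
        rw [this]
        exact hm'
      obtain ⟨φ, hφ⟩ := exists_eq_liftIdeal_aux (A := P) J J' hinr' hmap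
      refine ⟨φ, ?_⟩
      rw [hφ]
      exact rule_liftIdeal P J φ
    · rintro ⟨φ, hφ⟩
      have hJ' := eq_of_rule P J φ J' hφ
      subst hJ'
      refine ⟨map_liftIdeal (A := P) J φ, ?_⟩
      intro m hm
      obtain ⟨x, rfl⟩ := Ideal.Quotient.mk_surjective m
      rw [← map_mul, Ideal.Quotient.eq_zero_iff_mem] at hm
      have h1 : (DualNumber.eps : DualNumber P) * x = inr x.fst := by
        ext <;> simp [DualNumber.snd_mul]
      rw [h1, inr_mem_liftIdeal] at hm
      obtain ⟨b, hb⟩ := exists_mem_liftIdeal J φ x.fst hm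
      refine ⟨Ideal.Quotient.mk _ (inl (x.snd - b)), ?_⟩
      rw [← map_mul, Ideal.Quotient.eq]
      have h2 : x - DualNumber.eps * inl (x.snd - b) = inl x.fst + inr b := by
        ext <;> simp [DualNumber.snd_mul]
      rw [h2]
      exact hb

end Groth.Agent.S11294
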