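import Groth.Statements.S11306
import Mathlib

set_option autoImplicit false
universe u
open TensorProduct
open CAlg

namespace Groth.Agent.S11306

/-- Take a Noetherian local domain A, with residue field k and fraction field K, and let M be a finitely
generated A-module. If k ⊗_A M and K ⊗_A M have the same dimension r (over k and over K
respectively), then M is a free A-module of rank r. -/
theorem result (A : Type u) [CommRing A] [IsDomain A]
    [IsNoetherianRing A] [IsLocalRing A] (M : Type u) [AddCommGroup M] [Module A M] [Module.Finite A M] (r : ℕ)
    (hk : Module.finrank (IsLocalRing.ResidueField A) (IsLocalRing.ResidueField A ⊗[A] M) = r)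
    (hK : Module.finrank (FractionRing A) (FractionRing A ⊗[A] M) = r) :
    Module.Free A M ∧ Module.finrank A M = r := by
  classical
  have hfin : Module.Finite (IsLocalRing.ResidueField A) (IsLocalRing.ResidueField A ⊗[A] M) :=
    inferInstance
  let b : Module.Basis (Fin r) (IsLocalRing.ResidueField A) (IsLocalRing.ResidueField A ⊗[A] M) :=
    Module.finBasisOfFinrankEq _ _ hk
  have hsurj : ∀ y : IsLocalRing.ResidueField A ⊗[A] M,
      ∃ m : M, (1 : IsLocalRing.ResidueField A) ⊗ₜ[A] m = y := by
    intro y
    induction y using TensorProduct.induction_on with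
    | zero => exact ⟨0, by simp⟩
    | tmul x m =>
      obtain ⟨a, rfl⟩ := IsLocalRing.residue_surjective x
      refine ⟨a • m, ?_⟩
      rw [TensorProduct.tmul_smul, TensorProduct.smul_tmul', Algebra.smul_def, mul_one]
      rfl
    | add x y hx hy =>
      obtain ⟨m1, h1⟩ := hx
      obtain ⟨m2, h2⟩ := hy
      exact ⟨m1 + m2, by rw [TensorProduct.tmul_add, h1, h2]⟩
  choose v hv using fun i => hsurj (b i)
  have hspan : Submodule.span A (Set.range v) = ⊤ :=
    IsLocalRing.span_eq_top_of_tmul_eq_basis v b hv
  have hspanK : Submodule.span (FractionRing A)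
      (Set.range (fun i => (1 : FractionRing A) ⊗ₜ[A] v i)) = ⊤ := by
    have h1 := Submodule.baseChange_span (R := A) (A := FractionRing A) (Set.range v)
    rw [hspan, Submodule.baseChange_top, ← Set.range_comp] at h1
    exact h1.symm
  have hliK : LinearIndependent (FractionRing A) (fun i => (1 : FractionRing A) ⊗ₜ[A] v i) :=
    linearIndependent_of_top_le_span_of_card_eq_finrank (by rw [hspanK])
      (by rw [Fintype.card_fin, hK])
  have hli : LinearIndependent A v := by
    have h1 : LinearIndependent A (fun i => (1 : FractionRing A) ⊗ₜ[A] v i) :=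
      LinearIndependent.restrict_scalars' A hliK
    exact LinearIndependent.of_comp (TensorProduct.mk A (FractionRing A) M 1) h1
  let B : Module.Basis (Fin r) A M := Module.Basis.mk hli hspan.ge
  exact ⟨Module.Free.of_basis B, by rw [Module.finrank_eq_card_basis B, Fintype.card_fin]⟩

end Groth.Agent.S11306
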