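import Groth.Statements.S1131
import Mathlib
-- import your own Groth.Agent.* helpers here

set_option autoImplicit false
open CategoryTheory CategoryTheory.Limits AlgebraicGeometry Opposite
universe u
open Desc

namespace Groth.Agent.S1131


section H5opts
set_option backward.isDefEq.respectTransparency false
set_option backward.isDefEq.respectTransparency.types false
open CategoryTheory CategoryTheory.Limits AlgebraicGeometry Opposite

namespace H5S1131
open Desc

variable {X S : Scheme.{u}} (p : X ⟶ S)

lemma map_left_fst {U U' : Over S} (g : U ⟶ U') :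
    ((toDD p).map g).hom.left ≫ pullback.fst p U'.hom = pullback.fst p U.hom :=
  (pullback.lift_fst _ _ _).trans (Category.comp_id _)

lemma map_left_snd {U U' : Over S} (g : U ⟶ U') :
    ((toDD p).map g).hom.left ≫ pullback.snd p U'.hom = pullback.snd p U.hom ≫ g.left :=
  pullback.lift_snd _ _ _

theorem main [Surjective p] [Flat p] [QuasiCompact p] : (Desc.toDD p).Full := by
  refine ⟨?_⟩
  intro U U' a
  change canonicalDD p U ⟶ canonicalDD p U' at a
  haveI : EffectiveEpi (pullback.snd p U.hom) := inferInstance
  have hw : a.hom.left ≫ pullback.fst p U'.hom = pullback.fst p U.hom := Over.w a.hom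
  have hdesc : ∀ {Z : Scheme.{u}} (g₁ g₂ : Z ⟶ pullback p U.hom),
      g₁ ≫ pullback.snd p U.hom = g₂ ≫ pullback.snd p U.hom →
      g₁ ≫ (a.hom.left ≫ pullback.snd p U'.hom) = g₂ ≫ (a.hom.left ≫ pullback.snd p U'.hom) := by
    intro T gi gj h
    have hcomm : (gi ≫ pullback.fst p U.hom) ≫ p = (gj ≫ pullback.fst p U.hom) ≫ p := by
      rw [Category.assoc, Category.assoc, pullback.condition, ← Category.assoc, ← Category.assoc, h]
    let v : Lifts (canonicalDD p U).obj (gi ≫ pullback.fst p U.hom) := ⟨gi, rfl⟩
    let w : Lifts (canonicalDD p U').obj (gi ≫ pullback.fst p U.hom) :=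
      ⟨gi ≫ a.hom.left, by
        rw [Category.assoc]
        exact congrArg (gi ≫ ·) hw⟩
    have hc := a.comm (gi ≫ pullback.fst p U.hom) (gj ≫ pullback.fst p U.hom) hcomm v w rfl
    have e1 : ((canonicalDD p U).φ (gi ≫ pullback.fst p U.hom)
        (gj ≫ pullback.fst p U.hom) hcomm v).1 = gj := by
      apply pullback.hom_ext
      · exact pullback.lift_fst _ _ _
      · exact (pullback.lift_snd _ _ _).trans h
    rw [e1] at hc
    have e2 : ((canonicalDD p U').φ (gi ≫ pullback.fst p U.hom)
        (gj ≫ pullback.fst p U.hom) hcomm w).1 ≫ pullback.snd p U'.hom =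
        (gi ≫ a.hom.left) ≫ pullback.snd p U'.hom := pullback.lift_snd _ _ _
    rw [hc] at e2
    rw [← Category.assoc, ← e2, Category.assoc]
  let t := EffectiveEpi.desc (pullback.snd p U.hom) (a.hom.left ≫ pullback.snd p U'.hom) hdesc
  have ht : pullback.snd p U.hom ≫ t = a.hom.left ≫ pullback.snd p U'.hom :=
    EffectiveEpi.fac _ _ hdesc
  have hS : t ≫ U'.hom = U.hom := by
    rw [← cancel_epi (pullback.snd p U.hom), ← Category.assoc, ht, Category.assoc,
      ← pullback.condition, ← Category.assoc, hw, pullback.condition]
  refine ⟨Over.homMk t hS, ?_⟩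
  apply SchDD.hom_ext
  ext
  apply pullback.hom_ext
  · rw [hw]
    exact map_left_fst p (Over.homMk t hS)
  · exact (map_left_snd p (Over.homMk t hS)).trans ht

end H5S1131
end H5opts

/-- If p : X ⟶ S is surjective, flat and quasi-compact, then the functor sending a scheme over S to its
canonical descent datum relative to p is full. (Faithfulness, which needs no quasi-compactness, is a
companion statement.) (Descent data are taken in functor-of-points form, equivalent by the Yoneda
lemma to the usual form of an isomorphism over X ×_S X satisfying the cocycle condition.) -/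
theorem result {X S : Scheme.{u}} (p : X ⟶ S) [Surjective p] [Flat p] [QuasiCompact p] :
    (Desc.toDD p).Full := by
  exact H5S1131.main p

end Groth.Agent.S1131
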