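import Groth.Statements.S11322
import Mathlib
import Groth.Agent.Lib.helper7.DimSch11

set_option autoImplicit false
universe u
open CategoryTheory AlgebraicGeometry
open FlatMor

namespace Groth.Agent.S11322

/-- Let k be a field, X and Y schemes of finite type over k with Y irreducible, f : X → Y a flat
k-morphism and n a natural number. Then all irreducible components of X have dimension dim Y + n if
and only if, for each point y of Y (generic points included), all irreducible components of the
fibre of f over y have dimension n. -/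
theorem result (k : Type u) [Field k]
    {X Y : Scheme.{u}} (qX : X ⟶ Spec (CommRingCat.of k)) (qY : Y ⟶ Spec (CommRingCat.of k))
    [LocallyOfFiniteType qX] [QuasiCompact qX] [LocallyOfFiniteType qY] [QuasiCompact qY]
    [IrreducibleSpace ↥Y] (f : X ⟶ Y) (hf : f ≫ qY = qX) [Flat f] (n : ℕ) :
    (∀ Z : Set ↥X, Z ∈ irreducibleComponents ↥X → topologicalKrullDim ↥Z = topologicalKrullDim ↥Y + (n : WithBot ℕ∞)) ↔
      ∀ (y : Y) (Z : Set ↥(f.fiber y)), Z ∈ irreducibleComponents ↥(f.fiber y) →
        topologicalKrullDim ↥Z = (n : WithBot ℕ∞) := by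
  letI : X.Over (Spec (CommRingCat.of k)) := ⟨qX⟩
  letI : Y.Over (Spec (CommRingCat.of k)) := ⟨qY⟩
  haveI : LocallyOfFiniteType (X ↘ Spec (CommRingCat.of k)) := ‹LocallyOfFiniteType qX›
  haveI : LocallyOfFiniteType (Y ↘ Spec (CommRingCat.of k)) := ‹LocallyOfFiniteType qY›
  haveI : LocallyOfFiniteType f := by
    haveI : LocallyOfFiniteType (f ≫ qY) := by rw [hf]; infer_instance
    exact locallyOfFiniteType_of_comp f qY
  have hf' : f ≫ (Y ↘ Spec (CommRingCat.of k)) = X ↘ Spec (CommRingCat.of k) := hf
  obtain ⟨d, hdY, hY⟩ := Groth.Agent.Lib.helper7.DimSch.exists_dim_of_irreducible k Y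
  have hcast : topologicalKrullDim ↥Y + (n : WithBot ℕ∞) = ((d + n : ℕ) : WithBot ℕ∞) := by
    rw [hdY]; push_cast; rfl
  rw [hcast]
  constructor
  · intro hX y Z hZ
    obtain ⟨m, hm, hmd⟩ := Groth.Agent.Lib.helper7.DimSch.fiber_component_dim_of_flat k f hf'
      (d + n) d hX hY y Z hZ
    have hmn : m = n := by omega
    rw [hm, hmn]
  · intro hfib Z hZ
    exact Groth.Agent.Lib.helper7.DimSch.component_dim_of_flat_of_fiber k f hf' d n hY hfib Z hZ

end Groth.Agent.S11322
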