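import Groth.Statements.S11406
import Mathlib
-- import your own Groth.Agent.* helpers here

set_option autoImplicit false
universe u
open CategoryTheory MonoidalCategory CartesianMonoidalCategory MonObj GrpObj AlgebraicGeometry CategoryTheory.Limits
open AlgGrp

namespace Groth.Agent.S11406


open CategoryTheory MonoidalCategory CartesianMonoidalCategory MonObj GrpObj AlgebraicGeometry CategoryTheory.Limits

namespace H5S11406

/-- morphisms from an anti-affine pointed scheme to an affine scheme are constant -/
theorem const_of_antiAffine (k : Type u) [Field k]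
    (G N : Over (Spec (CommRingCat.of k)))
    (hG : Function.Bijective ((Scheme.ΓSpecIso (CommRingCat.of k)).inv ≫ G.hom.appTop).hom)
    [IsAffine N.left] (e : 𝟙_ (Over (Spec (CommRingCat.of k))) ⟶ G)
    (d₁ d₂ : G ⟶ N) (h : e ≫ d₁ = e ≫ d₂) : d₁ = d₂ := by
  ext1
  apply ext_of_isAffine
  have hiso : IsIso G.hom.appTop := by
    haveI : IsIso ((Scheme.ΓSpecIso (CommRingCat.of k)).inv ≫ G.hom.appTop) :=
      (ConcreteCategory.isIso_iff_bijective _).2 hG
    have : G.hom.appTop = (Scheme.ΓSpecIso (CommRingCat.of k)).hom ≫
        ((Scheme.ΓSpecIso (CommRingCat.of k)).inv ≫ G.hom.appTop) := by simp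
    rw [this]
    infer_instance
  have h1 : G.hom.appTop ≫ e.left.appTop = 𝟙 _ := by
    rw [← Scheme.Hom.comp_appTop, Over.w e]
    simp
  have hmono : Mono e.left.appTop := by
    have : e.left.appTop = inv G.hom.appTop := by
      rw [← cancel_epi G.hom.appTop, h1, IsIso.hom_inv_id]
    rw [this]
    infer_instance
  rw [← cancel_mono e.left.appTop, ← Scheme.Hom.comp_appTop, ← Scheme.Hom.comp_appTop,
    ← Over.comp_left, ← Over.comp_left, h]

theorem main (k : Type u) [Field k]
    (G H : Over (Spec (CommRingCat.of k))) [GrpObj G]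
    (hG : Function.Bijective ((Scheme.ΓSpecIso (CommRingCat.of k)).inv ≫ G.hom.appTop).hom)
    [GrpObj H]
    (N : Over (Spec (CommRingCat.of k))) [GrpObj N] (i : N ⟶ H) [IsMonHom i] [IsAffine N.left]
    (A : Over (Spec (CommRingCat.of k))) [GrpObj A] (α : H ⟶ A) [IsMonHom α]
    (hker : AlgGrp.IsKernel i α)
    (f f' : G ⟶ H) (hf : η[G] ≫ f = η[H]) (hf' : η[G] ≫ f' = η[H]) (hα : f ≫ α = f' ≫ α) :
    f = f' := by
  have hd : (f⁻¹ * f') ≫ α = toUnit G ≫ η[A] := by
    rw [MonObj.mul_comp, GrpObj.inv_comp, hα, inv_mul_cancel, Hom.one_def]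
  obtain ⟨d', hd'⟩ : ∃ d' : G ⟶ N, d' ≫ i = f⁻¹ * f' := ⟨hker.lift _ _ hd, hker.lift_fst _ _ _⟩
  have hmono : ∀ {W : Over (Spec (CommRingCat.of k))} (a b : W ⟶ N), a ≫ i = b ≫ i → a = b := by
    intro W a b hab
    apply hker.hom_ext hab
    exact toUnit_unique _ _
  have e0 : η[G] ≫ (toUnit G ≫ η[N]) = η[N] := by
    rw [← Category.assoc, toUnit_unique (η[G] ≫ toUnit G) (𝟙 _), Category.id_comp]
  have h1 : η[G] ≫ d' = η[G] ≫ (toUnit G ≫ η[N]) := by
    rw [e0]
    apply hmono
    rw [Category.assoc, hd', MonObj.comp_mul, GrpObj.comp_inv, hf, hf', inv_mul_cancel,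
      IsMonHom.one_hom, Hom.one_def, toUnit_unique (toUnit _) (𝟙 _), Category.id_comp]
  have h2 : d' = toUnit G ≫ η[N] := const_of_antiAffine k G N hG η[G] _ _ h1
  have h3 : f⁻¹ * f' = 1 := by
    rw [← hd', h2, Category.assoc, IsMonHom.one_hom, Hom.one_def]
  have := inv_mul_eq_one.1 h3
  exact this

end H5S11406

/-- Over an algebraically closed field k, let G be an algebraic group (smooth k-group scheme of finite
type) whose only global functions are the constants, let H be a connected algebraic group, let i : N
→ H be the largest connected affine normal algebraic subgroup H_aff of H (a homomorphism and closed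
immersion from a smooth, connected, affine k-group scheme, normal in H, through which every other
such subgroup factors), and let α : H → A be a flat surjective homomorphism with kernel i onto a
proper smooth k-group scheme A (so A = H/H_aff). If two morphisms of k-schemes f, f′ : G → H both
send e_G to e_H and have the same composite with α, then f = f′. (The published assertion is that
such a morphism f is determined by the homomorphism from G/G_aff to H/H_aff which it induces; two
such morphisms induce the same homomorphism exactly when their composites with α agree, because the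
quotient morphism of G is an epimorphism, so the assertion is stated in that form. The remaining
assertions, that f is a homomorphism and that its image is central, are not stated here.) -/
theorem result (k : Type u) [Field k] [IsAlgClosed k]
    (G H : Over (Spec (CommRingCat.of k))) [GrpObj G] [Smooth G.hom] [QuasiCompact G.hom]
    (hG : Function.Bijective ((Scheme.ΓSpecIso (CommRingCat.of k)).inv ≫ G.hom.appTop).hom)
    [GrpObj H] [Smooth H.hom] [QuasiCompact H.hom] [ConnectedSpace ↥H.left]
    (N : Over (Spec (CommRingCat.of k))) [GrpObj N] (i : N ⟶ H) [IsMonHom i] [IsClosedImmersion i.left]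
    [Smooth N.hom] [ConnectedSpace ↥N.left] [IsAffine N.left] (hN : AlgGrp.IsNormalHom i)
    (hNmax : ∀ (N' : Over (Spec (CommRingCat.of k))) [GrpObj N'] (i' : N' ⟶ H) [IsMonHom i'] [IsClosedImmersion i'.left]
      [Smooth N'.hom] [ConnectedSpace ↥N'.left] [IsAffine N'.left], AlgGrp.IsNormalHom i' → ∃ g : N' ⟶ N, g ≫ i = i')
    (A : Over (Spec (CommRingCat.of k))) [GrpObj A] [IsProper A.hom] [Smooth A.hom] (α : H ⟶ A) [IsMonHom α]
    [Surjective α.left] [Flat α.left] (hker : AlgGrp.IsKernel i α)
    (f f' : G ⟶ H) (hf : η[G] ≫ f = η[H]) (hf' : η[G] ≫ f' = η[H]) (hα : f ≫ α = f' ≫ α) :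
    f = f' := by
  exact H5S11406.main k G H hG N i A α hker f f' hf hf' hα

end Groth.Agent.S11406
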