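import Groth.Statements.S18977
import Mathlib
-- import your own Groth.Agent.* helpers here

set_option autoImplicit false
universe u
open CategoryTheory MonoidalCategory CartesianMonoidalCategory MonObj AlgebraicGeometry
open GIT

namespace Groth.Agent.S18977

open CategoryTheory CategoryTheory.Limits AlgebraicGeometry

namespace H5S18977

open MonoidalCategory CartesianMonoidalCategory MonObj

variable {S : Scheme.{u}}

/-- transporter from a cartesian "torsor" square -/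
lemma sq_tr {A B C : Over S} {m : A ⊗ B ⟶ B} {ψ : B ⟶ C} (h : IsPullback m (snd A B) ψ ψ)
    {W : Over S} (x₁ x₂ : W ⟶ B) (e : x₁ ≫ ψ = x₂ ≫ ψ) :
    ∃! g : W ⟶ A, lift g x₂ ≫ m = x₁ := by
  refine ⟨h.lift x₁ x₂ e ≫ fst A B, ?_, ?_⟩
  · have h3 : lift (h.lift x₁ x₂ e ≫ fst A B) x₂ = h.lift x₁ x₂ e := by
      apply CartesianMonoidalCategory.hom_ext
      · simp
      · rw [lift_snd, h.lift_snd]
    change lift (h.lift x₁ x₂ e ≫ fst A B) x₂ ≫ m = x₁
    rw [h3, h.lift_fst]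
  · intro g hg
    have : lift g x₂ = h.lift x₁ x₂ e := by
      apply h.hom_ext
      · rw [hg, h.lift_fst]
      · rw [lift_snd, h.lift_snd]
    rw [← this, lift_fst]

/-- a square with unique transporters is cartesian -/
lemma sq_of_tr {A B C : Over S} {m : A ⊗ B ⟶ B} {ψ : B ⟶ C} (w : m ≫ ψ = snd A B ≫ ψ)
    (h : ∀ {W : Over S} (x₁ x₂ : W ⟶ B), x₁ ≫ ψ = x₂ ≫ ψ → ∃! g : W ⟶ A, lift g x₂ ≫ m = x₁) :
    IsPullback m (snd A B) ψ ψ := by
  refine ⟨⟨w⟩, ⟨PullbackCone.IsLimit.mk _ (fun s => lift (h s.fst s.snd s.condition).choose s.snd)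
    ?_ ?_ ?_⟩⟩
  · intro s
    exact (h s.fst s.snd s.condition).choose_spec.1
  · intro s
    exact lift_snd _ _
  · intro s k hk1 hk2
    have hk : k = lift (k ≫ fst A B) s.snd := by
      apply CartesianMonoidalCategory.hom_ext
      · simp
      · rw [lift_snd, hk2]
    have := (h s.fst s.snd s.condition).choose_spec.2 (k ≫ fst A B) (by
      change lift (k ≫ fst A B) s.snd ≫ m = s.fst
      rw [← hk]; exact hk1)
    rw [hk, this]


section Main
variable {G N Q H X Y Z : Over S} [GrpObj G] [GrpObj N] [GrpObj Q] [GrpObj H]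
    (iN : N ⟶ G) [IsMonHom iN] (q : G ⟶ Q) [IsMonHom q] (hker : AlgGrp.IsKernel iN q)
    (iH : H ⟶ G)
    (a : AlgGrp.Action G X) (φ₁ : X ⟶ Y)
    (h₁ : IsPullback (a.restrict iN).act (snd N X) φ₁ φ₁)
    (aY : AlgGrp.Action Q Y) (hequiv : (q ⊗ₘ φ₁) ≫ aY.act = a.act ≫ φ₁)
    (φ₂ : Y ⟶ Z) (h₂ : IsPullback aY.act (snd Q Y) φ₂ φ₂)

omit [IsMonHom q] in
include hequiv in
lemma E1 {W : Over S} (g : W ⟶ G) (x : W ⟶ X) :
    (lift g x ≫ a.act) ≫ φ₁ = lift (g ≫ q) (x ≫ φ₁) ≫ aY.act := by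
  rw [Category.assoc, ← hequiv, ← Category.assoc, lift_map]

omit [IsMonHom q] in
include hker hequiv h₁ h₂ iH in
theorem part1 [IsMonHom q] [IsIso (iH ≫ q)] :
    IsPullback a.act (snd G X) (φ₁ ≫ φ₂) (φ₁ ≫ φ₂) := by
  apply sq_of_tr
  · rw [← Category.assoc, ← hequiv, Category.assoc, h₂.w, ← Category.assoc, tensorHom_snd,
      Category.assoc]
  · intro W x₁ x₂ e
    -- existence
    obtain ⟨c, hc, -⟩ := sq_tr h₂ (x₁ ≫ φ₁) (x₂ ≫ φ₁) (by simpa using e)
    let g₀ : W ⟶ G := c ≫ inv (iH ≫ q) ≫ iH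
    have hg₀ : g₀ ≫ q = c := by
      simp only [g₀, Category.assoc]
      rw [IsIso.inv_hom_id, Category.comp_id]
    let x₂' : W ⟶ X := lift g₀ x₂ ≫ a.act
    have hx₂' : x₂' ≫ φ₁ = x₁ ≫ φ₁ := by
      rw [E1 q a φ₁ aY hequiv, hg₀, hc]
    obtain ⟨n, hn, -⟩ := sq_tr h₁ x₁ x₂' hx₂'.symm
    rw [AlgGrp.Action.lift_restrict_act] at hn
    refine ⟨(n ≫ iN) * g₀, ?_, ?_⟩
    · change lift ((n ≫ iN) * g₀) x₂ ≫ a.act = x₁
      rw [AlgGrp.Action.lift_mul_act]
      exact hn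
    · intro g' hg'
      change lift g' x₂ ≫ a.act = x₁ at hg'
      set g := (n ≫ iN) * g₀ with hgdef
      have hg : lift g x₂ ≫ a.act = x₁ := by
        rw [hgdef, AlgGrp.Action.lift_mul_act]; exact hn
      -- images in Q agree
      have hq1 : lift (g ≫ q) (x₂ ≫ φ₁) ≫ aY.act = x₁ ≫ φ₁ := by
        rw [← E1 q a φ₁ aY hequiv, hg]
      have hq2 : lift (g' ≫ q) (x₂ ≫ φ₁) ≫ aY.act = x₁ ≫ φ₁ := by
        rw [← E1 q a φ₁ aY hequiv, hg']
      have hqq : g' ≫ q = g ≫ q :=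
        (sq_tr h₂ (x₁ ≫ φ₁) (x₂ ≫ φ₁) (by simpa using e)).unique hq2 hq1
      -- g' g⁻¹ comes from N
      have hk : (g' * g⁻¹) ≫ q = toUnit W ≫ η[Q] := by
        rw [MonObj.mul_comp, GrpObj.inv_comp, hqq, mul_inv_cancel]
        rfl
      obtain ⟨m, hm⟩ : ∃ m : W ⟶ N, m ≫ iN = g' * g⁻¹ :=
        ⟨hker.lift (g' * g⁻¹) (toUnit W) hk, hker.lift_fst _ _ _⟩
      have hm1 : lift m x₁ ≫ (a.restrict iN).act = x₁ := by
        rw [AlgGrp.Action.lift_restrict_act, hm]
        conv_lhs => rw [← hg]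
        rw [← AlgGrp.Action.lift_mul_act, inv_mul_cancel_right, hg']
      have hm2 : lift (1 : W ⟶ N) x₁ ≫ (a.restrict iN).act = x₁ :=
        AlgGrp.Action.lift_one_act _ x₁
      have hm3 : m = 1 := (sq_tr h₁ x₁ x₁ rfl).unique hm1 hm2
      have : g' * g⁻¹ = 1 := by rw [← hm, hm3, MonObj.one_comp]
      exact mul_inv_eq_one.1 this

end Main

/-- local sections compose -/
theorem part2 {X Y Z : Over S} (φ₁ : X ⟶ Y) (φ₂ : Y ⟶ Z)
    (h₁loc : NonAbH1.IsLocallyTrivialFor Scheme.fpqcPrecoverage (Over.mk φ₁.left : Over Y.left))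
    (h₂loc : NonAbH1.IsLocallyTrivialFor Scheme.fpqcPrecoverage (Over.mk φ₂.left : Over Z.left)) :
    NonAbH1.IsLocallyTrivialFor Scheme.fpqcPrecoverage (Over.mk (φ₁ ≫ φ₂).left : Over Z.left) := by
  obtain ⟨R₂, hR₂, hs₂⟩ := h₂loc
  obtain ⟨R₁, hR₁, hs₁⟩ := h₁loc
  obtain ⟨J, T, g, rfl⟩ := R₂.exists_eq_ofArrows
  obtain ⟨J₁, W, h, rfl⟩ := R₁.exists_eq_ofArrows
  have ht : ∀ i, ∃ t : T i ⟶ Y.left, t ≫ φ₂.left = g i := fun i => hs₂ (g i) (Presieve.ofArrows.mk i)
  choose t ht using ht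
  have hcov : ∀ i, Presieve.ofArrows (fun k => pullback (h k) (t i))
      (fun k => pullback.snd (h k) (t i)) ∈ Scheme.fpqcPrecoverage (T i) := fun i =>
    Precoverage.mem_coverings_of_isPullback h hR₁ (t i) _ (fun k => pullback.fst (h k) (t i))
      (fun k => (IsPullback.of_hasPullback (h k) (t i)).flip)
  refine ⟨_, Precoverage.comp_mem_coverings g hR₂ _ hcov, ?_⟩
  rintro _ _ ⟨⟨i, k⟩⟩
  obtain ⟨s, hs⟩ := hs₁ (h k) (Presieve.ofArrows.mk k)
  refine ⟨pullback.fst (h k) (t i) ≫ s, ?_⟩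
  change (pullback.fst (h k) (t i) ≫ s) ≫ (φ₁.left ≫ φ₂.left) = pullback.snd (h k) (t i) ≫ g i
  have hs' : s ≫ φ₁.left = h k := hs
  rw [Category.assoc, ← Category.assoc s, hs', ← Category.assoc, pullback.condition, Category.assoc,
    ht]

end H5S18977

/-- Composition of torsors. Over an algebraically closed field k of characteristic zero, let G be an
affine group scheme of finite type over k, N a closed normal subgroup scheme which is the kernel of
a homomorphism q : G → Q, and H a closed subgroup scheme of G which q maps isomorphically onto Q (so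
G is the inner semidirect product N H). Let G act on a k-scheme X and let φ₁ : X → Y be a torsor
over Y under the restricted action of N (the square formed by the N-action, the second projection
and φ₁ twice is cartesian, and φ₁ acquires sections on the members of some fpqc covering family of
Y); let Q act on Y so that φ₁ is equivariant along q, and let φ₂ : Y → Z be a Q-torsor over Z in the
same sense. Then φ₂ ∘ φ₁ is a G-torsor over Z: the square formed by the G-action, the second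
projection and φ₂ ∘ φ₁ twice is cartesian, and φ₂ ∘ φ₁ acquires sections fpqc-locally on Z. (The
induced action of the factor group on Y is taken as a datum together with the equivariance of φ₁;
the source's second assertion, that the composite of trivial torsors is trivial, amounts to
composing sections and is not restated.) -/
theorem result
    (k : Type u) [Field k] [IsAlgClosed k] [CharZero k]
    (G N Q H X Y Z : Over (Spec (CommRingCat.of k))) [GrpObj G] [GrpObj N] [GrpObj Q] [GrpObj H]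
    [IsAffine G.left] [LocallyOfFiniteType G.hom]
    (iN : N ⟶ G) [IsMonHom iN] [IsClosedImmersion iN.left] (hnorm : AlgGrp.IsNormalHom iN)
    (q : G ⟶ Q) [IsMonHom q] (hker : AlgGrp.IsKernel iN q)
    (iH : H ⟶ G) [IsMonHom iH] [IsClosedImmersion iH.left] [IsIso (iH ≫ q)]
    (a : AlgGrp.Action G X) (φ₁ : X ⟶ Y)
    (h₁ : IsPullback (a.restrict iN).act (snd N X) φ₁ φ₁)
    (h₁loc : NonAbH1.IsLocallyTrivialFor Scheme.fpqcPrecoverage (Over.mk φ₁.left : Over Y.left))
    (aY : AlgGrp.Action Q Y) (hequiv : (q ⊗ₘ φ₁) ≫ aY.act = a.act ≫ φ₁)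
    (φ₂ : Y ⟶ Z) (h₂ : IsPullback aY.act (snd Q Y) φ₂ φ₂)
    (h₂loc : NonAbH1.IsLocallyTrivialFor Scheme.fpqcPrecoverage (Over.mk φ₂.left : Over Z.left)) :
    IsPullback a.act (snd G X) (φ₁ ≫ φ₂) (φ₁ ≫ φ₂) ∧
      NonAbH1.IsLocallyTrivialFor Scheme.fpqcPrecoverage (Over.mk (φ₁ ≫ φ₂).left : Over Z.left) := by
  exact ⟨H5S18977.part1 iN q hker iH a φ₁ h₁ aY hequiv φ₂ h₂, H5S18977.part2 φ₁ φ₂ h₁loc h₂loc⟩

end Groth.Agent.S18977
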