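import Groth.Statements.S18859
import Mathlib
-- import your own Groth.Agent.* helpers here

set_option autoImplicit false
universe u
open CategoryTheory MonoidalCategory CartesianMonoidalCategory MonObj GrpObj AlgebraicGeometry
open NonAbH1

namespace Groth.Agent.S18859

open CategoryTheory CategoryTheory.Limits AlgebraicGeometry

namespace H5S18859

/-- A morphism with fpqc-local sections is an effective epimorphism (sheaf condition form). -/
theorem desc_of_local_sections {E Q Z : Scheme.{u}} (v : E ⟶ Q) (R : Presieve Q)
    (hR : R ∈ Scheme.fpqcPrecoverage Q)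
    (hsec : ∀ ⦃T : Scheme.{u}⦄ (g : T ⟶ Q), R g → ∃ s : T ⟶ E, s ≫ v = g) (x : E ⟶ Z)
    (hx : ∀ {W : Scheme.{u}} (p₁ p₂ : W ⟶ E), p₁ ≫ v = p₂ ≫ v → p₁ ≫ x = p₂ ≫ x) :
    ∃! y : Q ⟶ Z, v ≫ y = x := by
  have hcov : Sieve.generate (Presieve.singleton v) ∈ Scheme.fpqcTopology Q := by
    refine Scheme.fpqcTopology.superset_covering ?_ (Precoverage.generate_mem_toGrothendieck hR)
    rintro T g ⟨T', a, b, hb, rfl⟩
    obtain ⟨s, hs⟩ := hsec b hb
    exact ⟨E, a ≫ s, v, Presieve.singleton.mk, by rw [Category.assoc, hs]⟩
  have hsh : Presieve.IsSheafFor (yoneda.obj Z) (Presieve.singleton v) :=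
    (GrothendieckTopology.Subcanonical.isSheaf_of_isRepresentable (J := Scheme.fpqcTopology)
      (yoneda.obj Z)).isSheafFor (Presieve.singleton v) hcov
  rw [Presieve.isSheafFor_singleton] at hsh
  exact hsh x (fun p₁ p₂ h => hx p₁ p₂ h)


open MonoidalCategory CartesianMonoidalCategory MonObj in
/-- two points of a pseudo-torsor over the same base point differ by a point of `G ⊗ X` -/
lemma exists_point {S : Scheme.{u}} {G X : Over S} [GrpObj G] (a : AlgGrp.Action G X)
    (hΨ : NonAbH1.IsPseudoTorsorSch a) {W : Scheme.{u}} (p₁ p₂ : W ⟶ X.left)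
    (h : p₁ ≫ X.hom = p₂ ≫ X.hom) :
    ∃ w : W ⟶ (G ⊗ X).left, w ≫ a.act.left = p₁ ∧ w ≫ (snd G X).left = p₂ := by
  haveI : IsIso (lift a.act (snd G X)) := hΨ
  let q : W ⟶ (X ⊗ X).left := pullback.lift p₁ p₂ h
  refine ⟨q ≫ (inv (lift a.act (snd G X))).left, ?_, ?_⟩
  · have e : (inv (lift a.act (snd G X))).left ≫ a.act.left = (fst X X).left := by
      have : inv (lift a.act (snd G X)) ≫ a.act = fst X X := by
        rw [IsIso.inv_comp_eq, lift_fst]
      exact congrArg (fun q => q.left) this
    rw [Category.assoc, e]
    exact pullback.lift_fst _ _ _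
  · have e : (inv (lift a.act (snd G X))).left ≫ (snd G X).left = (snd X X).left := by
      have : inv (lift a.act (snd G X)) ≫ snd G X = snd X X := by
        rw [IsIso.inv_comp_eq, lift_snd]
      exact congrArg (fun q => q.left) this
    rw [Category.assoc, e]
    exact pullback.lift_snd _ _ _

/-- the affine line `Spec ℤ[t]` in universe `u` -/
noncomputable abbrev A1 : Scheme.{u} :=
  Spec (CommRingCat.of (MvPolynomial PUnit.{u+1} (ULift.{u} ℤ)))

/-- functions are morphisms to the affine line -/
noncomputable def fn {X : Scheme.{u}} : (X ⟶ A1.{u}) ≃ Γ(X, ⊤) :=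
  (AffineSpace.toSpecMvPolyIntEquiv PUnit.{u+1}).trans (Equiv.funUnique PUnit.{u+1} Γ(X, ⊤))

lemma fn_comp {X Y : Scheme.{u}} (f : X ⟶ Y) (g : Y ⟶ A1.{u}) :
    fn (f ≫ g) = f.appTop.hom (fn g) := rfl

open MonoidalCategory CartesianMonoidalCategory MonObj in
theorem main {S : Scheme.{u}} {G X : Over S}
    [GrpObj G] (a : AlgGrp.Action G X) (ha : NonAbH1.IsTorsorFor Scheme.fpqcPrecoverage a) :
    Function.Injective X.hom.appTop.hom ∧
      ∀ s : Γ(X.left, ⊤), s ∈ Set.range X.hom.appTop.hom ↔
        a.act.left.appTop.hom s = (CartesianMonoidalCategory.snd G X).left.appTop.hom s := by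
  obtain ⟨hΨ, R, hR, hsec⟩ := ha
  have hA := fun (x : X.left ⟶ A1.{u}) hx => desc_of_local_sections X.hom R hR hsec x hx
  have hw : a.act.left ≫ X.hom = (snd G X).left ≫ X.hom := by
    rw [Over.w a.act, Over.w (snd G X)]
  constructor
  · intro t t' htt
    obtain ⟨y, -, huniq⟩ := hA (X.hom ≫ fn.symm t) (by
      intro W p₁ p₂ h
      rw [← Category.assoc, ← Category.assoc, h])
    have h1 : fn.symm t = y := huniq _ rfl
    have h2 : fn.symm t' = y := by
      apply huniq
      apply fn.injective
      rw [fn_comp, fn_comp, Equiv.apply_symm_apply, Equiv.apply_symm_apply]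
      exact htt.symm
    exact fn.symm.injective (h1.trans h2.symm)
  · intro s
    constructor
    · rintro ⟨t, rfl⟩
      have := congrArg (fun q => q.appTop.hom t) hw
      simp only [Scheme.Hom.comp_appTop, CommRingCat.hom_comp, RingHom.comp_apply] at this
      exact this
    · intro hs
      obtain ⟨y, hy, -⟩ := hA (fn.symm s) (by
        intro W p₁ p₂ h
        obtain ⟨w, rfl, rfl⟩ := exists_point a hΨ p₁ p₂ h
        rw [Category.assoc, Category.assoc]
        congr 1
        apply fn.injective
        rw [fn_comp, fn_comp, Equiv.apply_symm_apply]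
        exact hs)
      refine ⟨fn y, ?_⟩
      rw [← fn_comp, hy, Equiv.apply_symm_apply]

end H5S18859

/-- Let S be a scheme, G a group scheme over S and X → S a G-torsor for the fpqc topology (a
pseudo-torsor under G acquiring sections on the members of some fpqc covering family of S). Then the
functions on S are the G-invariant functions on X: the ring map Γ(S, O_S) → Γ(X, O_X) is injective,
and a global function s on X lies in its image if and only if the pullbacks of s to G ×_S X along
the action morphism and along the second projection coincide. (The source works over a scheme of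
finite type over a field with G the base change of an affine group scheme over that field and states
the equality O_S = (O_X)^G as sheaves on S; applied to the restriction of the torsor over each open
of S, the present global form is that equality.) -/
theorem result {S : Scheme.{u}} {G X : Over S}
    [GrpObj G] (a : AlgGrp.Action G X) (ha : NonAbH1.IsTorsorFor Scheme.fpqcPrecoverage a) :
    Function.Injective X.hom.appTop.hom ∧
      ∀ s : Γ(X.left, ⊤), s ∈ Set.range X.hom.appTop.hom ↔
        a.act.left.appTop.hom s = (CartesianMonoidalCategory.snd G X).left.appTop.hom s := by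
  exact H5S18859.main a ha

end Groth.Agent.S18859
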