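import Groth.Statements.S8718
import Mathlib
import Groth.Agent.S18859
import Groth.Agent.S18977
-- import your own Groth.Agent.* helpers here

set_option autoImplicit false
universe u
open CategoryTheory CategoryTheory.Limits MonoidalCategory CartesianMonoidalCategory MonObj AlgebraicGeometry
open SGA7

namespace Groth.Agent.S8718

open CategoryTheory CategoryTheory.Limits AlgebraicGeometry

namespace H5S8718

open MonoidalCategory CartesianMonoidalCategory MonObj Groth.Agent.S18859 Groth.Agent.S18977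

variable {S : Scheme.{u}}

lemma loc_mono {K K' : Precoverage Scheme.{u}} (hK : K ≤ K') {P : Scheme.{u}} {X : Over P}
    (h : NonAbH1.IsLocallyTrivialFor K X) : NonAbH1.IsLocallyTrivialFor K' X := by
  obtain ⟨R, hR, hs⟩ := h
  exact ⟨R, hK _ hR, hs⟩

/-- descent of morphisms in `Over S` along a morphism with fpqc-local sections -/
theorem desc_over {E P Z : Over S} (v : E ⟶ P)
    (hloc : NonAbH1.IsLocallyTrivialFor Scheme.fpqcPrecoverage (Over.mk v.left : Over P.left))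
    (x : E ⟶ Z)
    (hx : ∀ {W : Over S} (p₁ p₂ : W ⟶ E), p₁ ≫ v = p₂ ≫ v → p₁ ≫ x = p₂ ≫ x) :
    ∃! y : P ⟶ Z, v ≫ y = x := by
  obtain ⟨R, hR, hs⟩ := hloc
  have hsec : ∀ ⦃T : Scheme.{u}⦄ (g : T ⟶ P.left), R g → ∃ s : T ⟶ E.left, s ≫ v.left = g :=
    fun T g hg => hs g hg
  have key : ∀ {Z' : Scheme.{u}} (x' : E.left ⟶ Z')
      (hx' : ∀ {W : Over S} (p₁ p₂ : W ⟶ E), p₁ ≫ v = p₂ ≫ v → p₁.left ≫ x' = p₂.left ≫ x'),
      ∃! y : P.left ⟶ Z', v.left ≫ y = x' := by
    intro Z' x' hx'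
    apply H5S18859.desc_of_local_sections v.left R hR hsec x'
    intro W p₁ p₂ h
    have h2 : p₂ ≫ E.hom = p₁ ≫ E.hom := by
      rw [← Over.w v, ← Category.assoc, ← h, Category.assoc]
    exact hx' (W := Over.mk (p₁ ≫ E.hom)) (Over.homMk p₁ rfl) (Over.homMk p₂ h2) (by
      ext
      exact h)
  obtain ⟨y₀, hy₀, hy₀u⟩ := key x.left (fun p₁ p₂ h => by
    have := hx p₁ p₂ h
    exact congrArg (fun q => q.left) this)
  have hw : y₀ ≫ Z.hom = P.hom := by
    obtain ⟨z, -, hz⟩ := key E.hom (fun p₁ p₂ _ => by rw [Over.w p₁, Over.w p₂])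
    have e1 : v.left ≫ (y₀ ≫ Z.hom) = E.hom := by rw [← Category.assoc, hy₀, Over.w x]
    have e2 : v.left ≫ P.hom = E.hom := Over.w v
    rw [hz (y₀ ≫ Z.hom) e1, hz P.hom e2]
  refine ⟨Over.homMk y₀ hw, ?_, ?_⟩
  · ext
    exact hy₀
  · intro y hy
    ext
    exact hy₀u y.left (congrArg (fun q => q.left) hy)

/-- a morphism with local sections is an epimorphism -/
lemma epi_of_loc {E P Z : Over S} (v : E ⟶ P)
    (hloc : NonAbH1.IsLocallyTrivialFor Scheme.fpqcPrecoverage (Over.mk v.left : Over P.left))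
    (y y' : P ⟶ Z) (h : v ≫ y = v ≫ y') : y = y' := by
  obtain ⟨z, -, hz⟩ := desc_over v hloc (v ≫ y) (fun p₁ p₂ h => by
    rw [← Category.assoc, ← Category.assoc, h])
  rw [hz y rfl, hz y' h.symm]


/-- local sections are stable under `- ▷ A` -/
lemma loc_whiskerRight {K : Precoverage Scheme.{u}} [K.IsStableUnderBaseChange] {E P : Over S}
    (v : E ⟶ P) (A : Over S)
    (hloc : NonAbH1.IsLocallyTrivialFor K (Over.mk v.left : Over P.left)) :
    NonAbH1.IsLocallyTrivialFor K (Over.mk (v ▷ A).left : Over (P ⊗ A).left) := by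
  obtain ⟨R, hR, hs⟩ := hloc
  obtain ⟨J, T, g, rfl⟩ := R.exists_eq_ofArrows
  refine ⟨_, Precoverage.mem_coverings_of_isPullback g hR (fst P A).left
    (fun j => pullback.snd (g j) (fst P A).left) (fun j => pullback.fst (g j) (fst P A).left)
    (fun j => (IsPullback.of_hasPullback (g j) (fst P A).left).flip), ?_⟩
  rintro _ _ ⟨j⟩
  obtain ⟨s, hs'⟩ := hs (g j) (Presieve.ofArrows.mk j)
  have hs'' : s ≫ v.left = g j := hs'
  have hc : pullback.fst (g j) (fst P A).left ≫ g j =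
      pullback.snd (g j) (fst P A).left ≫ pullback.fst P.hom A.hom := pullback.condition
  refine ⟨pullback.lift (pullback.fst (g j) (fst P A).left ≫ s)
    (pullback.snd (g j) (fst P A).left ≫ (snd P A).left) ?_, ?_⟩
  · rw [Category.assoc, ← Over.w v, ← Category.assoc s, hs'', ← Category.assoc, hc, Category.assoc,
      Category.assoc]
    congr 1
    exact pullback.condition
  · change _ ≫ (v ▷ A).left = pullback.snd (g j) (fst P A).left
    apply pullback.hom_ext
    · rw [Category.assoc, Over.whiskerRight_left_fst, pullback.lift_fst_assoc, Category.assoc, hs'',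
        hc]
    · rw [Category.assoc, Over.whiskerRight_left_snd, pullback.lift_snd]
      rfl

/-- local sections are stable under `A ◁ -` -/
lemma loc_whiskerLeft {K : Precoverage Scheme.{u}} [K.IsStableUnderBaseChange] {E P : Over S}
    (v : E ⟶ P) (A : Over S)
    (hloc : NonAbH1.IsLocallyTrivialFor K (Over.mk v.left : Over P.left)) :
    NonAbH1.IsLocallyTrivialFor K (Over.mk (A ◁ v).left : Over (A ⊗ P).left) := by
  obtain ⟨R, hR, hs⟩ := hloc
  obtain ⟨J, T, g, rfl⟩ := R.exists_eq_ofArrows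
  refine ⟨_, Precoverage.mem_coverings_of_isPullback g hR (snd A P).left
    (fun j => pullback.snd (g j) (snd A P).left) (fun j => pullback.fst (g j) (snd A P).left)
    (fun j => (IsPullback.of_hasPullback (g j) (snd A P).left).flip), ?_⟩
  rintro _ _ ⟨j⟩
  obtain ⟨s, hs'⟩ := hs (g j) (Presieve.ofArrows.mk j)
  have hs'' : s ≫ v.left = g j := hs'
  have hc : pullback.fst (g j) (snd A P).left ≫ g j =
      pullback.snd (g j) (snd A P).left ≫ pullback.snd A.hom P.hom := pullback.condition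
  refine ⟨pullback.lift (pullback.snd (g j) (snd A P).left ≫ (fst A P).left)
    (pullback.fst (g j) (snd A P).left ≫ s) ?_, ?_⟩
  · rw [Category.assoc, Category.assoc, ← Over.w v, ← Category.assoc s, hs'', ← Category.assoc _ (g j),
      hc, Category.assoc]
    congr 1
    exact pullback.condition
  · change _ ≫ (A ◁ v).left = pullback.snd (g j) (snd A P).left
    apply pullback.hom_ext
    · rw [Category.assoc, Over.whiskerLeft_left_fst, pullback.lift_fst]
      rfl
    · rw [Category.assoc, Over.whiskerLeft_left_snd, pullback.lift_snd_assoc, Category.assoc, hs'',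
        hc]


section Ext
variable {P G E : Over S} [GrpObj P] [GrpObj G] [GrpObj E]
  (u : G ⟶ E) (v : E ⟶ P) [IsMonHom u] [IsMonHom v] (huv : u ≫ v = 1)
  (hsq : IsPullback (fst E G) ((E ◁ u) ≫ μ[E]) v v)

include hsq in
omit [IsMonHom u] [IsMonHom v] [GrpObj P] [GrpObj G] in
/-- two points of `E` with the same image in `P` differ by a unique point of `G` -/
lemma kerTr {W : Over S} (e₁ e₂ : W ⟶ E) (h : e₁ ≫ v = e₂ ≫ v) :
    ∃! g : W ⟶ G, e₁ * (g ≫ u) = e₂ := by
  have key : ∀ g : W ⟶ G, lift e₁ g ≫ (E ◁ u) ≫ μ[E] = e₁ * (g ≫ u) := by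
    intro g
    rw [← Category.assoc, lift_whiskerLeft, Hom.mul_def]
  refine ⟨hsq.lift e₁ e₂ h ≫ snd E G, ?_, ?_⟩
  · have h3 : lift e₁ (hsq.lift e₁ e₂ h ≫ snd E G) = hsq.lift e₁ e₂ h := by
      apply CartesianMonoidalCategory.hom_ext
      · rw [lift_fst, hsq.lift_fst]
      · rw [lift_snd]
    change e₁ * ((hsq.lift e₁ e₂ h ≫ snd E G) ≫ u) = e₂
    rw [← key, h3, hsq.lift_snd]
  · intro g hg
    have : lift e₁ g = hsq.lift e₁ e₂ h := by
      apply hsq.hom_ext
      · rw [lift_fst, hsq.lift_fst]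
      · rw [key, hg, hsq.lift_snd]
    rw [← this, lift_snd]

include hsq huv in
omit [GrpObj G] [IsMonHom u] in
lemma ker_lift {W : Over S} (y : W ⟶ E) (hy : y ≫ v = 1) : ∃! g : W ⟶ G, g ≫ u = y := by
  obtain ⟨g, hg, hg'⟩ := kerTr u v hsq (1 : W ⟶ E) y (by rw [MonObj.one_comp, hy])
  refine ⟨g, by simpa using hg, fun g' h' => hg' g' (by simpa using h')⟩

include hsq huv in
omit [GrpObj G] [IsMonHom u] in
lemma u_inj {W : Over S} (g g' : W ⟶ G) (h : g ≫ u = g' ≫ u) : g = g' := by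
  have hy : (g ≫ u) ≫ v = 1 := by rw [Category.assoc, huv, MonObj.comp_one]
  exact (ker_lift u v huv hsq (g ≫ u) hy).unique rfl h.symm


include hsq huv in
theorem central [IsCommMonObj G]
    (hloc : NonAbH1.IsLocallyTrivialFor Scheme.fpqcPrecoverage (Over.mk v.left : Over P.left))
    (hPG : ∀ f : P ⊗ G ⟶ G, lift (𝟙 P) (toUnit P ≫ η[G]) ≫ f = 1 →
      lift (toUnit G ≫ η[P]) (𝟙 G) ≫ f = 1 → f = 1)
    (T : Over S) (g : T ⟶ G) (x : T ⟶ E) : (g ≫ u) * x = x * (g ≫ u) := by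
  let conj : E ⊗ G ⟶ E := fst E G * (snd E G ≫ u) * (fst E G)⁻¹
  have hconj_pt : ∀ {W : Over S} (p : W ⟶ E ⊗ G),
      p ≫ conj = (p ≫ fst E G) * ((p ≫ snd E G) ≫ u) * (p ≫ fst E G)⁻¹ := by
    intro W p
    simp only [conj, MonObj.comp_mul, GrpObj.comp_inv, Category.assoc]
  have hconj : conj ≫ v = 1 := by
    simp only [conj, MonObj.mul_comp, GrpObj.inv_comp, Category.assoc, huv, MonObj.comp_one]
    rw [_root_.mul_one, mul_inv_cancel]
  obtain ⟨c, hc, -⟩ := ker_lift u v huv hsq conj hconj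
  let d : E ⊗ G ⟶ G := c * (snd E G)⁻¹
  have hd_pt : ∀ {W : Over S} (p : W ⟶ E ⊗ G), p ≫ d = (p ≫ c) * (p ≫ snd E G)⁻¹ := by
    intro W p
    simp only [d, MonObj.comp_mul, GrpObj.comp_inv]
  -- invariance
  have hinv : ∀ {W : Over S} (p₁ p₂ : W ⟶ E ⊗ G), p₁ ≫ (v ▷ G) = p₂ ≫ (v ▷ G) →
      p₁ ≫ d = p₂ ≫ d := by
    intro W p₁ p₂ h
    have h1 : (p₁ ≫ fst E G) ≫ v = (p₂ ≫ fst E G) ≫ v := by
      have := congrArg (fun q => q ≫ fst P G) h
      simpa using this
    have h2 : p₁ ≫ snd E G = p₂ ≫ snd E G := by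
      have := congrArg (fun q => q ≫ snd P G) h
      simpa using this
    obtain ⟨k, hk, -⟩ := kerTr u v hsq _ _ h1
    have hcc : (p₁ ≫ c) ≫ u = (p₂ ≫ c) ≫ u := by
      rw [Category.assoc, Category.assoc, hc, hconj_pt, hconj_pt, ← hk, ← h2]
      have hab : (k ≫ u) * ((p₁ ≫ snd E G) ≫ u) = ((p₁ ≫ snd E G) ≫ u) * (k ≫ u) := by
        rw [← MonObj.mul_comp, ← MonObj.mul_comp, mul_comm]
      rw [mul_inv_rev, mul_assoc (p₁ ≫ fst E G) (k ≫ u), hab]
      group
    rw [hd_pt, hd_pt, u_inj u v huv hsq _ _ hcc, h2]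
  obtain ⟨dbar, hdbar, -⟩ := desc_over (v ▷ G) (loc_whiskerRight v G hloc) d hinv
  -- axes
  have hc1 : lift (𝟙 E) (1 : E ⟶ G) ≫ c = 1 := by
    apply u_inj u v huv hsq
    rw [Category.assoc, hc, hconj_pt, lift_fst, lift_snd, MonObj.one_comp, _root_.mul_one,
      mul_inv_cancel]
  have hc2 : lift (1 : G ⟶ E) (𝟙 G) ≫ c = 𝟙 G := by
    apply u_inj u v huv hsq
    rw [Category.assoc, hc, hconj_pt, lift_fst, lift_snd, _root_.one_mul, inv_one, _root_.mul_one]
  have hax1 : lift (𝟙 P) (toUnit P ≫ η[G]) ≫ dbar = 1 := by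
    apply epi_of_loc v hloc
    have e1 : v ≫ lift (𝟙 P) (toUnit P ≫ η[G]) = lift (𝟙 E) (1 : E ⟶ G) ≫ (v ▷ G) := by
      apply CartesianMonoidalCategory.hom_ext
      · simp
      · simp only [Category.assoc, lift_snd, whiskerRight_snd, Hom.one_def]
        rw [← Category.assoc]
        congr 1
        exact toUnit_unique _ _
    rw [← Category.assoc, e1, Category.assoc, hdbar, hd_pt, hc1, lift_snd, inv_one, _root_.mul_one,
      MonObj.comp_one]
  have hax2 : lift (toUnit G ≫ η[P]) (𝟙 G) ≫ dbar = 1 := by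
    have e1 : lift (toUnit G ≫ η[P]) (𝟙 G) = lift (1 : G ⟶ E) (𝟙 G) ≫ (v ▷ G) := by
      apply CartesianMonoidalCategory.hom_ext
      · simp only [Category.assoc, lift_fst, whiskerRight_fst, lift_fst_assoc, MonObj.one_comp]
        rfl
      · simp
    rw [e1, Category.assoc, hdbar, hd_pt, hc2, lift_snd, mul_inv_cancel]
  have hdbar1 : dbar = 1 := hPG dbar hax1 hax2
  have hd1 : d = 1 := by rw [← hdbar, hdbar1, MonObj.comp_one]
  have hcs : c = snd E G := by
    have : c * (snd E G)⁻¹ = 1 := hd1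
    exact mul_inv_eq_one.1 this
  have hfin : lift x g ≫ conj = lift x g ≫ snd E G ≫ u := by rw [← hc, hcs]
  rw [hconj_pt, lift_fst, lift_snd, lift_snd_assoc] at hfin
  exact (mul_inv_eq_iff_eq_mul.1 hfin).symm


include hsq huv in
theorem comm_of [IsCommMonObj G] [IsCommMonObj P]
    (hloc : NonAbH1.IsLocallyTrivialFor Scheme.fpqcPrecoverage (Over.mk v.left : Over P.left))
    (hcentral : ∀ (T : Over S) (g : T ⟶ G) (x : T ⟶ E), (g ≫ u) * x = x * (g ≫ u))
    (hPP : ∀ f : P ⊗ P ⟶ G, lift (𝟙 P) (toUnit P ≫ η[P]) ≫ f = 1 →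
      lift (toUnit P ≫ η[P]) (𝟙 P) ≫ f = 1 → f = 1) :
    IsCommMonObj E := by
  let comm : E ⊗ E ⟶ E := fst E E * snd E E * (fst E E)⁻¹ * (snd E E)⁻¹
  have hcomm_pt : ∀ {W : Over S} (p : W ⟶ E ⊗ E),
      p ≫ comm = (p ≫ fst E E) * (p ≫ snd E E) * (p ≫ fst E E)⁻¹ * (p ≫ snd E E)⁻¹ := by
    intro W p
    simp only [comm, MonObj.comp_mul, GrpObj.comp_inv]
  have hcomm : comm ≫ v = 1 := by
    simp only [comm, MonObj.mul_comp, GrpObj.inv_comp]
    rw [mul_comm (fst E E ≫ v) (snd E E ≫ v), mul_inv_cancel_right, mul_inv_cancel]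
  obtain ⟨k, hk, -⟩ := ker_lift u v huv hsq comm hcomm
  have hinv : ∀ {W : Over S} (p₁ p₂ : W ⟶ E ⊗ E), p₁ ≫ (v ⊗ₘ v) = p₂ ≫ (v ⊗ₘ v) →
      p₁ ≫ k = p₂ ≫ k := by
    intro W p₁ p₂ h
    have h1 : (p₁ ≫ fst E E) ≫ v = (p₂ ≫ fst E E) ≫ v := by
      have := congrArg (fun q => q ≫ fst P P) h
      simpa using this
    have h2 : (p₁ ≫ snd E E) ≫ v = (p₂ ≫ snd E E) ≫ v := by
      have := congrArg (fun q => q ≫ snd P P) h
      simpa using this
    obtain ⟨a, ha, -⟩ := kerTr u v hsq _ _ h1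
    obtain ⟨b, hb, -⟩ := kerTr u v hsq _ _ h2
    apply u_inj u v huv hsq
    rw [Category.assoc, Category.assoc, hk, hcomm_pt, hcomm_pt, ← ha, ← hb]
    have hca := hcentral W a
    have hcb := hcentral W b
    generalize p₁ ≫ fst E E = x₁ at *
    generalize p₁ ≫ snd E E = y₁ at *
    generalize a ≫ u = a' at *
    generalize b ≫ u = b' at *
    have e1 : x₁ * a' * (y₁ * b') * (x₁ * a')⁻¹ * (y₁ * b')⁻¹ =
        x₁ * (a' * (y₁ * b') * a'⁻¹) * x₁⁻¹ * (b'⁻¹ * y₁⁻¹) := by group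
    rw [e1, hca (y₁ * b'), mul_inv_cancel_right]
    have e2 : x₁ * (y₁ * b') * x₁⁻¹ * (b'⁻¹ * y₁⁻¹) = x₁ * y₁ * (b' * x₁⁻¹ * b'⁻¹) * y₁⁻¹ := by group
    rw [e2, hcb x₁⁻¹, mul_inv_cancel_right]
  have hloc2 : NonAbH1.IsLocallyTrivialFor Scheme.fpqcPrecoverage
      (Over.mk (v ⊗ₘ v).left : Over (P ⊗ P).left) := by
    rw [MonoidalCategory.tensorHom_def]
    exact H5S18977.part2 (v ▷ E) (P ◁ v) (loc_whiskerRight v E hloc) (loc_whiskerLeft v P hloc)
  obtain ⟨kbar, hkbar, -⟩ := desc_over (v ⊗ₘ v) hloc2 k hinv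
  have hk1 : lift (𝟙 E) (1 : E ⟶ E) ≫ k = 1 := by
    apply u_inj u v huv hsq
    rw [Category.assoc, hk, hcomm_pt, lift_fst, lift_snd, MonObj.one_comp, inv_one, _root_.mul_one,
      _root_.mul_one, mul_inv_cancel]
  have hk2 : lift (1 : E ⟶ E) (𝟙 E) ≫ k = 1 := by
    apply u_inj u v huv hsq
    rw [Category.assoc, hk, hcomm_pt, lift_fst, lift_snd, MonObj.one_comp, inv_one, _root_.one_mul,
      _root_.mul_one, mul_inv_cancel]
  have hax1 : lift (𝟙 P) (toUnit P ≫ η[P]) ≫ kbar = 1 := by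
    apply epi_of_loc v hloc
    have e1 : v ≫ lift (𝟙 P) (toUnit P ≫ η[P]) = lift (𝟙 E) (1 : E ⟶ E) ≫ (v ⊗ₘ v) := by
      apply CartesianMonoidalCategory.hom_ext
      · simp
      · simp only [Category.assoc, lift_snd, tensorHom_snd, lift_snd_assoc, MonObj.one_comp]
        rw [Hom.one_def, ← Category.assoc]
        congr 1
        exact toUnit_unique _ _
    rw [← Category.assoc, e1, Category.assoc, hkbar, hk1, MonObj.comp_one]
  have hax2 : lift (toUnit P ≫ η[P]) (𝟙 P) ≫ kbar = 1 := by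
    apply epi_of_loc v hloc
    have e1 : v ≫ lift (toUnit P ≫ η[P]) (𝟙 P) = lift (1 : E ⟶ E) (𝟙 E) ≫ (v ⊗ₘ v) := by
      apply CartesianMonoidalCategory.hom_ext
      · simp only [Category.assoc, lift_fst, tensorHom_fst, lift_fst_assoc, MonObj.one_comp]
        rw [Hom.one_def, ← Category.assoc]
        congr 1
        exact toUnit_unique _ _
      · simp
    rw [← Category.assoc, e1, Category.assoc, hkbar, hk2, MonObj.comp_one]
  have hkbar1 : kbar = 1 := hPP kbar hax1 hax2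
  have hk0 : k = 1 := by rw [← hkbar, hkbar1, MonObj.comp_one]
  have hcomm1 : comm = 1 := by rw [← hk, hk0, MonObj.one_comp]
  rw [isCommMonObj_iff_isMulCommutative]
  intro W
  refine ⟨⟨fun x y => ?_⟩⟩
  have := congrArg (fun q => lift x y ≫ q) hcomm1
  simp only [hcomm_pt, lift_fst, lift_snd, MonObj.comp_one] at this
  have h3 : x * y * x⁻¹ * y⁻¹ = 1 := this
  rw [mul_inv_eq_one, mul_inv_eq_iff_eq_mul] at h3
  exact h3

end Ext

theorem main (S : Scheme.{u})
    (P G E : Over S) [GrpObj P] [GrpObj G] [GrpObj E] [IsCommMonObj G]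
    (u : G ⟶ E) (v : E ⟶ P) (hex : NonAbH1.IsExactSeq Scheme.fppfPrecoverage u v)
    (hPG : ∀ f : P ⊗ G ⟶ G, lift (𝟙 P) (toUnit P ≫ η[G]) ≫ f = 1 → lift (toUnit G ≫ η[P]) (𝟙 G) ≫ f = 1 → f = 1) :
    (∀ (T : Over S) (g : T ⟶ G) (x : T ⟶ E), (g ≫ u) * x = x * (g ≫ u)) ∧
      (IsCommMonObj P →
        (∀ f : P ⊗ P ⟶ G, lift (𝟙 P) (toUnit P ≫ η[P]) ≫ f = 1 → lift (toUnit P ≫ η[P]) (𝟙 P) ≫ f = 1 → f = 1) →
          IsCommMonObj E) := by
  obtain ⟨hu, hv, huv, hsq, hloc⟩ := hex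
  have hloc' := loc_mono Scheme.fppfPrecoverage_le_fpqcPrecoverage hloc
  have hc := central u v huv hsq hloc' hPG
  exact ⟨hc, fun hP hPP => comm_of u v huv hsq hloc' hc hPP⟩

end H5S8718

/-- For group schemes over a base scheme S (the representable case on the fppf site): let P and G be
S-group schemes with G commutative, and u : G → E, v : E → P homomorphisms of S-group schemes
forming a sequence 1 → G → E → P → 1 exact for the fppf topology. Suppose every morphism of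
S-schemes P ×_S G → G whose restrictions to P × e_G and to e_P × G are trivial is trivial. Then u(G)
is central in E: for all points g of G and x of E with values in any S-scheme, u(g) x = x u(g). If
moreover P is commutative and every morphism of S-schemes P ×_S P → G trivial on P × e_P and on e_P
× P is trivial, then E is commutative. (The published statement is for sheaves of groups on an
arbitrary topos; this row is its case of representable sheaves on the fppf site of S. Morphisms to G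
form a group; trivial means equal to its unit.) -/
theorem result (S : Scheme.{u})
    (P G E : Over S) [GrpObj P] [GrpObj G] [GrpObj E] [IsCommMonObj G]
    (u : G ⟶ E) (v : E ⟶ P) (hex : NonAbH1.IsExactSeq Scheme.fppfPrecoverage u v)
    (hPG : ∀ f : P ⊗ G ⟶ G, lift (𝟙 P) (toUnit P ≫ η[G]) ≫ f = 1 → lift (toUnit G ≫ η[P]) (𝟙 G) ≫ f = 1 → f = 1) :
    (∀ (T : Over S) (g : T ⟶ G) (x : T ⟶ E), (g ≫ u) * x = x * (g ≫ u)) ∧
      (IsCommMonObj P →
        (∀ f : P ⊗ P ⟶ G, lift (𝟙 P) (toUnit P ≫ η[P]) ≫ f = 1 → lift (toUnit P ≫ η[P]) (𝟙 P) ≫ f = 1 → f = 1) →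
          IsCommMonObj E) := by
  exact H5S8718.main S P G E u v hex hPG

end Groth.Agent.S8718
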