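import Groth.Statements.S14883
import Mathlib
import Groth.Agent.S18977
import Groth.Agent.S8718
import Groth.Agent.S8014
-- import your own Groth.Agent.* helpers here

set_option autoImplicit false
universe u
open CategoryTheory MonoidalCategory CartesianMonoidalCategory MonObj GrpObj AlgebraicGeometry CategoryTheory.Limits
open AlgGrp

namespace Groth.Agent.S14883

open CategoryTheory CategoryTheory.Limits AlgebraicGeometry MonoidalCategory CartesianMonoidalCategory MonObj

namespace H5S14883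

open Groth.Agent.S18977 Groth.Agent.S8718

variable {S : Scheme.{u}}

/-- local sections pull back along cartesian squares in `Over S` -/
lemma loc_of_isPullback {K : Precoverage Scheme.{u}} [K.IsStableUnderBaseChange] {E Q W Wt : Over S}
    {q : E ⟶ Q} {t : W ⟶ Q} {p₁ : Wt ⟶ E} {p₂ : Wt ⟶ W} (h : IsPullback p₁ p₂ q t)
    (hloc : NonAbH1.IsLocallyTrivialFor K (Over.mk q.left : Over Q.left)) :
    NonAbH1.IsLocallyTrivialFor K (Over.mk p₂.left : Over W.left) := by
  have hL : IsPullback p₁.left p₂.left q.left t.left := h.map (Over.forget S)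
  obtain ⟨R, hR, hs⟩ := hloc
  obtain ⟨J, T, g, rfl⟩ := R.exists_eq_ofArrows
  refine ⟨_, Precoverage.mem_coverings_of_isPullback g hR t.left
    (fun j => pullback.snd (g j) t.left) (fun j => pullback.fst (g j) t.left)
    (fun j => (IsPullback.of_hasPullback (g j) t.left).flip), ?_⟩
  rintro _ _ ⟨j⟩
  obtain ⟨s, hs'⟩ := hs (g j) (Presieve.ofArrows.mk j)
  have hs'' : s ≫ q.left = g j := hs'
  refine ⟨hL.lift (pullback.fst (g j) t.left ≫ s) (pullback.snd (g j) t.left) ?_, ?_⟩
  · rw [Category.assoc, hs'']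
    exact pullback.condition
  · exact hL.lift_snd _ _ _

/-- an equivariant morphism of torsors covering `f` makes the square cartesian -/
theorem torsor_sq {H E Q E' Q' : Over S} [GrpObj H]
    (aE : AlgGrp.Action H E) (aE' : AlgGrp.Action H E') (q : E ⟶ Q) (q' : E' ⟶ Q')
    (hsq : IsPullback aE.act (snd H E) q q) (hsq' : IsPullback aE'.act (snd H E') q' q')
    (hloc : NonAbH1.IsLocallyTrivialFor Scheme.fpqcPrecoverage (Over.mk q.left : Over Q.left))
    (F : E ⟶ E') (hF : aE.act ≫ F = (H ◁ F) ≫ aE'.act) (f : Q ⟶ Q') (hf : q ≫ f = F ≫ q') :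
    IsPullback F q q' f := by
  have heq : ∀ {W : Over S} (g : W ⟶ H) (e : W ⟶ E),
      (lift g e ≫ aE.act) ≫ F = lift g (e ≫ F) ≫ aE'.act := by
    intro W g e
    rw [Category.assoc, hF, lift_whiskerLeft_assoc]
  have hinv : ∀ {W : Over S} (g : W ⟶ H) (e : W ⟶ E), (lift g e ≫ aE.act) ≫ q = e ≫ q := by
    intro W g e
    rw [Category.assoc, hsq.w, lift_snd_assoc]
  have hinv' : ∀ {W : Over S} (g : W ⟶ H) (e : W ⟶ E'), (lift g e ≫ aE'.act) ≫ q' = e ≫ q' := by
    intro W g e
    rw [Category.assoc, hsq'.w, lift_snd_assoc]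
  have key : ∀ {W : Over S} (e' : W ⟶ E') (t : W ⟶ Q) (h : e' ≫ q' = t ≫ f),
      ∃! e : W ⟶ E, e ≫ F = e' ∧ e ≫ q = t := by
    intro W e' t h
    have hpb : IsPullback (pullback.fst q t) (pullback.snd q t) q t := IsPullback.of_hasPullback q t
    obtain ⟨p₁, hp₁⟩ : ∃ x, x = pullback.fst q t := ⟨_, rfl⟩
    obtain ⟨p₂, hp₂⟩ : ∃ x, x = pullback.snd q t := ⟨_, rfl⟩
    rw [← hp₁, ← hp₂] at hpb
    have hloc₂ := loc_of_isPullback hpb hloc
    have hcomp : (p₂ ≫ e') ≫ q' = (p₁ ≫ F) ≫ q' := by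
      rw [Category.assoc, h, ← Category.assoc, ← hpb.w, Category.assoc, Category.assoc, hf]
    obtain ⟨g, hg, hgu⟩ := H5S18977.sq_tr hsq' (p₂ ≫ e') (p₁ ≫ F) hcomp
    obtain ⟨θ, hθ⟩ : ∃ x, x = lift g p₁ ≫ aE.act := ⟨_, rfl⟩
    have hθF : θ ≫ F = p₂ ≫ e' := by
      rw [hθ, heq, hg]
    have hθq : θ ≫ q = p₂ ≫ t := by
      rw [hθ, hinv, hpb.w]
    have hθinv : ∀ {W' : Over S} (a₁ a₂ : W' ⟶ pullback q t), a₁ ≫ p₂ = a₂ ≫ p₂ →
        a₁ ≫ θ = a₂ ≫ θ := by
      intro W' a₁ a₂ ha
      have hq12 : (a₁ ≫ p₁) ≫ q = (a₂ ≫ p₁) ≫ q := by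
        rw [Category.assoc, Category.assoc, hpb.w, ← Category.assoc, ← Category.assoc, ha]
      obtain ⟨k, hk, -⟩ := H5S18977.sq_tr hsq (a₁ ≫ p₁) (a₂ ≫ p₁) hq12
      have e1 : lift (a₁ ≫ g) ((a₁ ≫ p₁) ≫ F) ≫ aE'.act = (a₁ ≫ p₂) ≫ e' := by
        have := congrArg (fun x => a₁ ≫ x) hg
        simpa [comp_lift_assoc] using this
      have e2 : lift (a₂ ≫ g) ((a₂ ≫ p₁) ≫ F) ≫ aE'.act = (a₂ ≫ p₂) ≫ e' := by
        have := congrArg (fun x => a₂ ≫ x) hg
        simpa [comp_lift_assoc] using this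
      have e3 : lift ((a₁ ≫ g) * k) ((a₂ ≫ p₁) ≫ F) ≫ aE'.act = (a₂ ≫ p₂) ≫ e' := by
        rw [AlgGrp.Action.lift_mul_act, ← heq, hk, e1, ha]
      have hcc : ((a₂ ≫ p₂) ≫ e') ≫ q' = ((a₂ ≫ p₁) ≫ F) ≫ q' := by
        rw [← e2, hinv']
      obtain ⟨g', -, hg'u⟩ := H5S18977.sq_tr hsq' ((a₂ ≫ p₂) ≫ e') ((a₂ ≫ p₁) ≫ F) hcc
      have e4 : (a₁ ≫ g) * k = a₂ ≫ g := by
        rw [hg'u _ e3, hg'u _ e2]
      rw [hθ, comp_lift_assoc, comp_lift_assoc, ← e4, AlgGrp.Action.lift_mul_act, hk]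
    obtain ⟨e, he, heu⟩ := H5S8718.desc_over p₂ hloc₂ θ hθinv
    have heF : e ≫ F = e' := by
      apply H5S8718.epi_of_loc p₂ hloc₂
      rw [← Category.assoc, he, hθF]
    have heq' : e ≫ q = t := by
      apply H5S8718.epi_of_loc p₂ hloc₂
      rw [← Category.assoc, he, hθq]
    refine ⟨e, ⟨heF, heq'⟩, ?_⟩
    rintro ê ⟨h1, h2⟩
    have hqq : ê ≫ q = e ≫ q := by rw [h2, heq']
    obtain ⟨k, hk, -⟩ := H5S18977.sq_tr hsq ê e hqq
    have e1 : lift k e' ≫ aE'.act = e' := by
      have := heq k e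
      rw [hk, h1, heF] at this
      exact this.symm
    have e2 : lift (1 : W ⟶ H) e' ≫ aE'.act = e' := AlgGrp.Action.lift_one_act _ e'
    obtain ⟨g', -, hg'u⟩ := H5S18977.sq_tr hsq' e' e' rfl
    have hk1 : k = 1 := by rw [hg'u _ e1, hg'u _ e2]
    rw [← hk, hk1, AlgGrp.Action.lift_one_act]
  refine ⟨⟨hf.symm⟩, ⟨PullbackCone.IsLimit.mk _
    (fun s => (key s.fst s.snd s.condition).choose) ?_ ?_ ?_⟩⟩
  · intro s
    exact (key s.fst s.snd s.condition).choose_spec.1.1
  · intro s
    exact (key s.fst s.snd s.condition).choose_spec.1.2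
  · intro s m hm1 hm2
    exact (key s.fst s.snd s.condition).choose_spec.2 m ⟨hm1, hm2⟩


lemma ext_r3 {A B C Y : Over S} {f g : A ⊗ (B ⊗ C) ⟶ Y}
    (h : ∀ (T : Over S) (a : T ⟶ A) (b : T ⟶ B) (c : T ⟶ C),
      lift a (lift b c) ≫ f = lift a (lift b c) ≫ g) : f = g := by
  have e : lift (fst A (B ⊗ C)) (lift (snd A (B ⊗ C) ≫ fst B C) (snd A (B ⊗ C) ≫ snd B C))
      = 𝟙 _ := by
    rw [← comp_lift, lift_fst_snd, Category.comp_id, lift_fst_snd]
  simpa [e] using h _ (fst _ _) (snd _ _ ≫ fst B C) (snd _ _ ≫ snd B C)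

lemma ext_r4 {A B C D Y : Over S} {f g : A ⊗ (B ⊗ (C ⊗ D)) ⟶ Y}
    (h : ∀ (T : Over S) (a : T ⟶ A) (b : T ⟶ B) (c : T ⟶ C) (d : T ⟶ D),
      lift a (lift b (lift c d)) ≫ f = lift a (lift b (lift c d)) ≫ g) : f = g := by
  apply ext_r3
  intro T a b cd
  have := h T a b (cd ≫ fst C D) (cd ≫ snd C D)
  rwa [← comp_lift, lift_fst_snd, Category.comp_id] at this

/-- the cartesian square of a principal bundle, from `PsiY` being an isomorphism -/
lemma sq_of_psiY {H E Q : Over S} [GrpObj H] (a : AlgGrp.Action H E) (q : E ⟶ Q)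
    (hinv : GIT.IsInvariant a q) (h : IsIso (GIT.PsiY a q hinv)) :
    IsPullback a.act (snd H E) q q := by
  have hcartL : IsPullback a.act.left (snd H E).left q.left q.left :=
    IsPullback.of_iso_pullback ⟨hinv.left⟩ (asIso (GIT.PsiY a q hinv))
      (pullback.lift_fst _ _ _) (pullback.lift_snd _ _ _)
  exact IsPullback.of_map (Over.forget _) hinv hcartL

/-- quasi-compactness of a morphism between schemes over a field-like base -/
lemma qc_of_sep {E Q : Over S} (q : E ⟶ Q) [QuasiCompact E.hom] [QuasiSeparated Q.hom] :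
    QuasiCompact q.left := by
  haveI : QuasiCompact (q.left ≫ Q.hom) := by
    rw [Over.w]
    infer_instance
  exact QuasiCompact.of_comp q.left Q.hom

theorem main (k : Type u) [Field k]
    (G H : Over (Spec (CommRingCat.of k))) [GrpObj G] [QuasiCompact G.hom]
    [GrpObj H] (j : H ⟶ G)
    (B : Over (Spec (CommRingCat.of k))) [IsSeparated B.hom]
    (r : AlgGrp.Action H G) (hr : ∀ (T : Over (Spec (CommRingCat.of k))) (h : T ⟶ H) (g : T ⟶ G),
      lift h g ≫ r.act = g * (h ≫ j)⁻¹)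
    (π : G ⟶ B) (hπinv : GIT.IsInvariant r π)
    (hπsurj : Function.Surjective π.left.base) (hπiso : IsIso (GIT.PsiY r π hπinv))
    (hπflat : Flat π.left)
    (X : Over (Spec (CommRingCat.of k))) [IsProper X.hom]
    (aX : AlgGrp.Action H X) (b : AlgGrp.Action H (G ⊗ X))
    (hb : ∀ (T : Over (Spec (CommRingCat.of k))) (h : T ⟶ H) (g : T ⟶ G) (x : T ⟶ X),
      lift h (lift g x) ≫ b.act = lift (g * (h ≫ j)⁻¹) (lift h x ≫ aX.act))
    (QX : Over (Spec (CommRingCat.of k))) [LocallyOfFiniteType QX.hom] [IsSeparated QX.hom]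
    [QuasiCompact QX.hom]
    (qX : G ⊗ X ⟶ QX) (hqinv : GIT.IsInvariant b qX)
    (hqsurj : Function.Surjective qX.left.base) (hqiso : IsIso (GIT.PsiY b qX hqinv))
    (hqflat : Flat qX.left)
    (pX : QX ⟶ B) (hp : qX ≫ pX = fst G X ≫ π) :
    IsProper pX.left := by
  haveI := hπflat
  haveI := hqflat
  haveI : Surjective π.left := ⟨hπsurj⟩
  haveI : Surjective qX.left := ⟨hqsurj⟩
  haveI : QuasiCompact (G ⊗ X).hom := by
    have : (G ⊗ X).hom = (fst G X).left ≫ G.hom := (Over.w (fst G X)).symm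
    rw [this]
    haveI : QuasiCompact (fst G X).left := by
      change QuasiCompact (pullback.fst G.hom X.hom)
      infer_instance
    infer_instance
  haveI : QuasiCompact qX.left := qc_of_sep qX
  haveI : QuasiCompact π.left := qc_of_sep π
  have hsqX := sq_of_psiY b qX hqinv hqiso
  have hsqG := sq_of_psiY r π hπinv hπiso
  have hlocX := Groth.Agent.S8014.H5S8014.loc_of_fpqc qX
  have hF : b.act ≫ fst G X = (H ◁ fst G X) ≫ r.act := by
    apply ext_r3
    intro T h g x
    rw [← Category.assoc, hb, lift_fst, lift_whiskerLeft_assoc, lift_fst, hr]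
  have hpb := torsor_sq b r qX π hsqX hsqG hlocX (fst G X) hF pX hp
  have hpbL : IsPullback (fst G X).left qX.left π.left pX.left := hpb.map (Over.forget _)
  have huc : UniversallyClosed (fst G X).left := by
    change UniversallyClosed (pullback.fst G.hom X.hom)
    infer_instance
  have huc' : UniversallyClosed pX.left :=
    MorphismProperty.of_isPullback_of_descendsAlong (P := @UniversallyClosed)
      (Q := @Surjective ⊓ @Flat ⊓ @QuasiCompact) hpbL ⟨⟨inferInstance, inferInstance⟩, inferInstance⟩ huc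
  haveI : IsSeparated (pX.left ≫ B.hom) := by
    rw [Over.w]
    infer_instance
  haveI : LocallyOfFiniteType (pX.left ≫ B.hom) := by
    rw [Over.w]
    infer_instance
  haveI : IsSeparated pX.left := IsSeparated.of_comp pX.left B.hom
  haveI : LocallyOfFiniteType pX.left := locallyOfFiniteType_of_comp pX.left B.hom
  haveI : QuasiCompact pX.left := qc_of_sep pX
  exact { }

end H5S14883

/-- Over an algebraically closed field k of characteristic zero, let G be an algebraic group (a smooth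
k-group scheme of finite type) and H an algebraic subgroup (a smooth closed subgroup scheme, j : H →
G). Let π : G → B be the quotient of G by H (a geometric quotient for the action h·g = g·h⁻¹ which
is a principal H-bundle: (h, g) ↦ (g·h⁻¹, g) is an isomorphism H × G ≅ G ×_B G and π is flat). Let X
be a variety (reduced, separated, of finite type over k), proper over k, with an H-action and in
which every finite set of points lies in an affine open subset, and let qX : G × X → QX be the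
associated bundle G_H(X), that is a geometric quotient for the action h·(g, x) = (g·h⁻¹, h·x) on G ×
X which is a principal H-bundle, with structure map pX : QX → B satisfying pX ∘ qX = π ∘ pr₁, where
QX is a variety. Here a geometric quotient is an invariant, surjective, open morphism whose
fibre-pair map (h, y) ↦ (h·y, y) is surjective on points and whose sections over every open are
exactly the invariant sections. Then pX : G_H(X) → G/H is proper. -/
theorem result (k : Type u) [Field k] [IsAlgClosed k] [CharZero k]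
    (G H : Over (Spec (CommRingCat.of k))) [GrpObj G] [Smooth G.hom] [QuasiCompact G.hom]
    [GrpObj H] (j : H ⟶ G) [IsMonHom j] [IsClosedImmersion j.left] [Smooth H.hom]
    (B : Over (Spec (CommRingCat.of k))) [LocallyOfFiniteType B.hom] [QuasiCompact B.hom] [IsSeparated B.hom] [IsReduced B.left]
    (r : AlgGrp.Action H G) (hr : ∀ (T : Over (Spec (CommRingCat.of k))) (h : T ⟶ H) (g : T ⟶ G),
      lift h g ≫ r.act = g * (h ≫ j)⁻¹)
    (π : G ⟶ B) (hπinv : GIT.IsInvariant r π)
    (hπ : (Function.Surjective π.left.base ∧ IsOpenMap π.left.base ∧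
      Function.Surjective (GIT.PsiY r π hπinv).base ∧
      (∀ U : B.left.Opens, Function.Injective (π.left.app U) ∧
        Set.range (π.left.app U) = {f | GIT.IsInvSection r π U f}) ∧
      IsIso (GIT.PsiY r π hπinv) ∧ Flat π.left))
    (X : Over (Spec (CommRingCat.of k))) [IsProper X.hom] [IsReduced X.left]
    (hF : ∀ F : Finset ↥X.left, ∃ U : X.left.Opens, IsAffineOpen U ∧ (↑F : Set ↥X.left) ⊆ (U : Set ↥X.left))
    (aX : AlgGrp.Action H X) (b : AlgGrp.Action H (G ⊗ X))
    (hb : ∀ (T : Over (Spec (CommRingCat.of k))) (h : T ⟶ H) (g : T ⟶ G) (x : T ⟶ X),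
      lift h (lift g x) ≫ b.act = lift (g * (h ≫ j)⁻¹) (lift h x ≫ aX.act))
    (QX : Over (Spec (CommRingCat.of k))) [LocallyOfFiniteType QX.hom] [QuasiCompact QX.hom] [IsSeparated QX.hom] [IsReduced QX.left] (qX : G ⊗ X ⟶ QX) (hqinv : GIT.IsInvariant b qX)
    (hq : (Function.Surjective qX.left.base ∧ IsOpenMap qX.left.base ∧
      Function.Surjective (GIT.PsiY b qX hqinv).base ∧
      (∀ U : QX.left.Opens, Function.Injective (qX.left.app U) ∧
        Set.range (qX.left.app U) = {f | GIT.IsInvSection b qX U f}) ∧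
      IsIso (GIT.PsiY b qX hqinv) ∧ Flat qX.left))
    (pX : QX ⟶ B) (hp : qX ≫ pX = fst G X ≫ π) :
    IsProper pX.left := by
  exact H5S14883.main k G H j B r hr π hπinv hπ.1 hπ.2.2.2.2.1 hπ.2.2.2.2.2 X aX b hb QX qX hqinv
    hq.1 hq.2.2.2.2.1 hq.2.2.2.2.2 pX hp

end Groth.Agent.S14883
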