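import Groth.Statements.S12837
import Mathlib
-- import your own Groth.Agent.* helpers here

set_option autoImplicit false
universe u
open CategoryTheory AlgebraicGeometry
open NonAbH1

namespace Groth.Agent.S12837

open CategoryTheory CategoryTheory.Limits AlgebraicGeometry

namespace H5S12837

open MorphismProperty

/-- base change along a morphism factoring through `g` -/
lemma of_factor {P : MorphismProperty Scheme.{u}} [P.IsStableUnderBaseChange]
    {X S S' T Y : Scheme.{u}} (f : X ⟶ S) (g : S' ⟶ S) (hP : P (pullback.snd f g)) (a : T ⟶ S')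
    {p₁ : Y ⟶ X} {p₂ : Y ⟶ T} (sq : IsPullback p₁ p₂ f (a ≫ g)) : P p₂ := by
  have hw : p₁ ≫ f = (p₂ ≫ a) ≫ g := by rw [Category.assoc]; exact sq.w
  have h1 : IsPullback (pullback.lift p₁ (p₂ ≫ a) hw) p₂ (pullback.snd f g) a := by
    have e : pullback.lift p₁ (p₂ ≫ a) hw ≫ pullback.fst f g = p₁ := pullback.lift_fst _ _ _
    refine IsPullback.of_right (t := (IsPullback.of_hasPullback f g)) ?_ (pullback.lift_snd _ _ _)
    rw [e]
    exact sq
  exact P.of_isPullback h1 hP

/-- Descent of a property of morphisms along an fpqc covering family. -/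
theorem descends_fpqc {P : MorphismProperty Scheme.{u}} [IsZariskiLocalAtTarget P]
    [P.IsStableUnderBaseChange] [P.DescendsAlong (@Surjective ⊓ @Flat ⊓ @QuasiCompact)]
    {X S : Scheme.{u}} (f : X ⟶ S) (R : Presieve S) (hR : R ∈ Scheme.fpqcPrecoverage S)
    (h : ∀ ⦃S' : Scheme.{u}⦄ (g : S' ⟶ S), R g → P (pullback.snd f g)) : P f := by
  obtain ⟨𝒰, hqc, rfl⟩ := Scheme.mem_propQCPrecoverage_iff_exists_quasiCompactCover.mp hR
  rw [IsZariskiLocalAtTarget.iff_of_iSup_eq_top (P := P) (fun W : S.affineOpens => W.1)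
    (iSup_affineOpens_eq_top S)]
  intro W
  obtain ⟨n, idx, V, hV, hU⟩ :=
    QuasiCompactCover.exists_isAffineOpen_of_isCompact 𝒰.1 W.2.isCompact
  have hrange : ∀ k, Set.range ((V k).ι ≫ 𝒰.f (idx k)) ⊆ Set.range W.1.ι := by
    intro k
    rintro _ ⟨v, rfl⟩
    rw [Scheme.Opens.range_ι, ← hU]
    refine Set.mem_iUnion.2 ⟨k, v.1, v.2, ?_⟩
    simp
  let tk : ∀ k, ((V k : Scheme.{u})) ⟶ (W.1 : Scheme.{u}) := fun k =>
    IsOpenImmersion.lift W.1.ι ((V k).ι ≫ 𝒰.f (idx k)) (hrange k)
  have htk : ∀ k, tk k ≫ W.1.ι = (V k).ι ≫ 𝒰.f (idx k) := fun k =>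
    IsOpenImmersion.lift_fac _ _ _
  let t : (∐ fun k => (V k : Scheme.{u})) ⟶ (W.1 : Scheme.{u}) := Sigma.desc tk
  haveI : IsAffine (W.1 : Scheme.{u}) := W.2
  haveI : ∀ k, IsAffine (V k : Scheme.{u}) := hV
  have hflatk : ∀ k, Flat (tk k) := by
    intro k
    haveI : Flat (𝒰.f (idx k)) := 𝒰.map_prop (idx k)
    have : Flat (tk k ≫ W.1.ι) := by rw [htk]; infer_instance
    exact MorphismProperty.of_postcomp (W := @Flat) (W' := @IsOpenImmersion) (tk k) W.1.ι
      inferInstance this
  have hflat : Flat t := IsZariskiLocalAtSource.sigmaDesc hflatk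
  have hsurj : Surjective t := by
    refine ⟨fun w => ?_⟩
    have hw : (w.1 : S) ∈ ⋃ i, 𝒰.f (idx i) '' (V i) := by rw [hU]; exact w.2
    obtain ⟨k, v, hv, hvw⟩ := Set.mem_iUnion.1 hw
    refine ⟨(Sigma.ι (fun k => (V k : Scheme.{u})) k) ⟨v, hv⟩, ?_⟩
    apply W.1.ι.injective
    have h1 : (Sigma.ι (fun k => (V k : Scheme.{u})) k ≫ t) ≫ W.1.ι = (V k).ι ≫ 𝒰.f (idx k) := by
      simp only [t, Sigma.ι_desc, htk]
    have h2 := congrArg (fun q => q.base ⟨v, hv⟩) h1
    simp only [Scheme.Hom.comp_base, TopCat.comp_app] at h2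
    rw [h2]
    simpa using hvw
  have hqc' : QuasiCompact t := inferInstance
  apply MorphismProperty.of_pullback_fst_of_descendsAlong
    (Q := @Surjective ⊓ @Flat ⊓ @QuasiCompact) (f := t) ⟨⟨hsurj, hflat⟩, hqc'⟩
  rw [IsZariskiLocalAtTarget.iff_of_openCover (P := P) (sigmaOpenCover _)]
  intro k
  have hk := h (𝒰.f (idx k)) ⟨idx k⟩
  refine of_factor f (𝒰.f (idx k)) hk (V k).ι (p₁ := (pullback.fst _ _ ≫ pullback.snd _ _) ≫ (f ⁻¹ᵁ W.1).ι) ?_
  have sq1 := IsPullback.of_hasPullback (pullback.fst t (f ∣_ W.1)) ((sigmaOpenCover fun k => (V k : Scheme.{u})).f k)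
  have sq2 := (IsPullback.of_hasPullback t (f ∣_ W.1)).flip
  have sq3 := (isPullback_morphismRestrict f W.1).flip
  have := (sq1.paste_horiz sq2).paste_horiz sq3
  have heq : ((sigmaOpenCover fun k => (V k : Scheme.{u})).f k ≫ t) ≫ W.1.ι =
      (V k).ι ≫ 𝒰.f (idx k) := by
    have e1 : Sigma.ι (fun k => (V k : Scheme.{u})) k ≫ t = tk k := Sigma.ι_desc _ _
    calc _ = tk k ≫ W.1.ι := by rw [← e1]; rfl
    _ = _ := htk k
  rw [← heq]
  exact this
    

instance flat_descends : DescendsAlong @Flat (@Surjective ⊓ @Flat ⊓ @QuasiCompact) := by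
  apply HasRingHomProperty.descendsAlong_flat (Q := fun f => f.Flat)
  apply RingHom.CodescendsAlong.mk _ RingHom.Flat.respectsIso
  introv h H
  rw [RingHom.faithfullyFlat_algebraMap_iff] at h
  rw [RingHom.flat_algebraMap_iff] at H ⊢
  exact Module.Flat.of_flat_tensorProduct R T S

open MonoidalCategory CartesianMonoidalCategory MonObj in
theorem prop_of_torsor {P : MorphismProperty Scheme.{u}} [IsZariskiLocalAtTarget P]
    [P.IsStableUnderBaseChange] [P.DescendsAlong (@Surjective ⊓ @Flat ⊓ @QuasiCompact)]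
    {S : Scheme.{u}} (G X : Over S) [GrpObj G] (a : AlgGrp.Action G X)
    (h : NonAbH1.IsTorsorFor Scheme.fpqcPrecoverage a) (hG : P G.hom) : P X.hom := by
  obtain ⟨hΨ, R, hR, hsec⟩ := h
  haveI : IsIso (lift a.act (snd G X)) := hΨ
  have h1 : P (pullback.snd G.hom X.hom) := P.pullback_snd _ _ hG
  have h2 : P (pullback.snd X.hom X.hom) := by
    have e : (inv (lift a.act (snd G X))).left ≫ pullback.snd G.hom X.hom =
        pullback.snd X.hom X.hom := by
      have : inv (lift a.act (snd G X)) ≫ snd G X = snd X X := by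
        rw [IsIso.inv_comp_eq, lift_snd]
      exact congrArg (fun q => q.left) this
    rw [← e]
    haveI : IsIso (inv (lift a.act (snd G X))).left :=
      (Over.forget S).map_isIso (inv (lift a.act (snd G X)))
    exact (P.cancel_left_of_respectsIso _ _).2 h1
  apply descends_fpqc X.hom R hR
  intro S' g hg
  obtain ⟨s, hs⟩ := hsec g hg
  refine of_factor X.hom X.hom h2 s (p₁ := pullback.fst X.hom g) ?_
  rw [hs]
  exact IsPullback.of_hasPullback X.hom g

open MonoidalCategory CartesianMonoidalCategory MonObj in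
lemma surjective_hom {S : Scheme.{u}} (G : Over S) [GrpObj G] : Surjective G.hom := by
  have hw : η[G].left ≫ G.hom = 𝟙 S := Over.w η[G]
  refine ⟨fun x => ⟨η[G].left.base x, ?_⟩⟩
  have := congrArg (fun q => q.base x) hw
  rw [Scheme.Hom.comp_base] at this
  exact this

theorem main {S : Scheme.{u}}
    (G X : Over S) [GrpObj G] [Flat G.hom] [LocallyOfFinitePresentation G.hom] (a : AlgGrp.Action G X)
    (h : NonAbH1.IsTorsorFor Scheme.fpqcPrecoverage a) :
    NonAbH1.IsTorsorFor Scheme.fppfPrecoverage a := by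
  haveI : Flat X.hom := prop_of_torsor (P := @Flat) G X a h inferInstance
  haveI : LocallyOfFinitePresentation X.hom :=
    prop_of_torsor (P := @LocallyOfFinitePresentation) G X a h inferInstance
  haveI : Surjective X.hom := prop_of_torsor (P := @Surjective) G X a h (surjective_hom G)
  refine ⟨h.1, Presieve.singleton X.hom, Scheme.Hom.singleton_mem_fppfPrecoverage X.hom, ?_⟩
  rintro S' f ⟨⟩
  exact ⟨𝟙 _, Category.id_comp _⟩

end H5S12837

/-- Let `G` be a group scheme over `S` which is flat and locally of finite presentation over `S`, acting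
on an `S`-scheme `X`. If `X` is a principal homogeneous space under `G` — a pseudo-torsor which
acquires sections on the members of some fpqc covering family of `S` — then `X` is a `G`-torsor for
the fppf topology: it acquires sections on the members of some fppf covering family of `S`. (The
published statement is the equivalence of the stack of fppf torsors with the stack of principal
homogeneous spaces for a group algebraic space `G` flat and locally of finite presentation over an
algebraic space `B`, torsors being algebraic spaces; this row is its content for `B = S`, `G` a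
scheme and a torsor that is a scheme, the other inclusion being the comparison of the two
topologies.) -/
theorem result {S : Scheme.{u}}
    (G X : Over S) [GrpObj G] [Flat G.hom] [LocallyOfFinitePresentation G.hom] (a : AlgGrp.Action G X)
    (h : NonAbH1.IsTorsorFor Scheme.fpqcPrecoverage a) :
    NonAbH1.IsTorsorFor Scheme.fppfPrecoverage a := by
  exact H5S12837.main G X a h

end Groth.Agent.S12837
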