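import Groth.Statements.S6003
import Mathlib
import Groth.Agent.S12837
-- import your own Groth.Agent.* helpers here

set_option autoImplicit false
universe u
open CategoryTheory AlgebraicGeometry
open SGA1

namespace Groth.Agent.S6003

open CategoryTheory CategoryTheory.Limits AlgebraicGeometry

namespace H5S6003

open MorphismProperty Groth.Agent.S12837

instance qc_descends : DescendsAlong @QuasiCompact (@Surjective ⊓ @Flat ⊓ @QuasiCompact) := by
  apply DescendsAlong.mk'
  intro X Y Z f g _ hf hfst
  obtain ⟨⟨hs, -⟩, hq⟩ := hf
  haveI : QuasiCompact f := hq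
  haveI : QuasiCompact (pullback.fst f g) := hfst
  refine ⟨fun U hUo hUc => ?_⟩
  have h1 : IsCompact (f ⁻¹' U) := QuasiCompact.isCompact_preimage U hUo hUc
  have h2 : IsCompact ((pullback.fst f g) ⁻¹' (f ⁻¹' U)) :=
    QuasiCompact.isCompact_preimage _ (hUo.preimage f.continuous) h1
  have h3 : g ⁻¹' U = (pullback.snd f g) '' ((pullback.fst f g) ⁻¹' (f ⁻¹' U)) := by
    ext y
    constructor
    · intro hy
      obtain ⟨x, hx⟩ := hs.surj (g y)
      obtain ⟨z, hz1, hz2⟩ := Scheme.Pullback.exists_preimage_pullback x y hx
      refine ⟨z, ?_, hz2⟩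
      change f (pullback.fst f g z) ∈ U
      rw [hz1, hx]
      exact hy
    · rintro ⟨z, hz, rfl⟩
      change g (pullback.snd f g z) ∈ U
      have : f (pullback.fst f g z) = g (pullback.snd f g z) := by
        have := congrArg (fun q => q.base z) (pullback.condition (f := f) (g := g))
        simpa using this
      rw [← this]
      exact hz
  rw [h3]
  exact h2.image (pullback.snd f g).continuous

theorem main {S : Scheme.{u}}
    (G X : Over S) [GrpObj G] [Flat G.hom] [QuasiCompact G.hom] (a : AlgGrp.Action G X) :
    NonAbH1.IsTorsorFor Scheme.fpqcPrecoverage a ↔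
      (NonAbH1.IsPseudoTorsorSch a ∧ Surjective X.hom ∧ Flat X.hom ∧ QuasiCompact X.hom) := by
  constructor
  · intro h
    refine ⟨h.1, ?_, ?_, ?_⟩
    · exact H5S12837.prop_of_torsor (P := @Surjective) G X a h (H5S12837.surjective_hom G)
    · exact H5S12837.prop_of_torsor (P := @Flat) G X a h inferInstance
    · exact H5S12837.prop_of_torsor (P := @QuasiCompact) G X a h inferInstance
  · rintro ⟨h1, h2, h3, h4⟩
    refine ⟨h1, Presieve.singleton X.hom, Scheme.Hom.singleton_mem_fpqcPrecoverage X.hom, ?_⟩
    rintro S' f ⟨⟩
    exact ⟨𝟙 _, Category.id_comp _⟩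

end H5S6003

/-- Let G be an S-group scheme which is flat and quasi-compact over S and let G act on the S-scheme X.
Then X is a principal homogeneous bundle under G (a pseudo-torsor which acquires sections on the
members of some fpqc covering family of S) if and only if X is formally principal homogeneous (a
pseudo-torsor) and the structure morphism X → S is faithfully flat and quasi-compact. -/
theorem result {S : Scheme.{u}}
    (G X : Over S) [GrpObj G] [Flat G.hom] [QuasiCompact G.hom] (a : AlgGrp.Action G X) :
    NonAbH1.IsTorsorFor Scheme.fpqcPrecoverage a ↔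
      (NonAbH1.IsPseudoTorsorSch a ∧ Surjective X.hom ∧ Flat X.hom ∧ QuasiCompact X.hom) := by
  exact H5S6003.main G X a

end Groth.Agent.S6003
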