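import Groth.Statements.S6004
import Mathlib
import Groth.Agent.S12837
import Groth.Agent.S6003
-- import your own Groth.Agent.* helpers here

set_option autoImplicit false
universe u
open CategoryTheory AlgebraicGeometry
open SGA1

namespace Groth.Agent.S6004

open CategoryTheory CategoryTheory.Limits AlgebraicGeometry

namespace H5S6004

open MorphismProperty Groth.Agent.S12837 Groth.Agent.S6003

instance qs_descends : DescendsAlong @QuasiSeparated (@Surjective ⊓ @Flat ⊓ @QuasiCompact) := by
  rw [quasiSeparated_eq_diagonal_is_quasiCompact]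
  infer_instance

lemma isAffine_of_pullback {R S' : CommRingCat.{u}} {Y : Scheme.{u}} (φ : R ⟶ S') (g : Y ⟶ Spec R)
    (hsurj : Surjective (Spec.map φ)) (hflat : Flat (Spec.map φ))
    (h : IsAffine (pullback (Spec.map φ) g)) : IsAffine Y := by
  have hq : (@Surjective ⊓ @Flat ⊓ @QuasiCompact : MorphismProperty Scheme.{u}) (Spec.map φ) :=
    ⟨⟨hsurj, hflat⟩, inferInstance⟩
  haveI : IsAffineHom (pullback.fst (Spec.map φ) g) := inferInstance
  have hqc : QuasiCompact g :=
    of_pullback_fst_of_descendsAlong (P := @QuasiCompact) hq inferInstance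
  have hqs : QuasiSeparated g :=
    of_pullback_fst_of_descendsAlong (P := @QuasiSeparated) hq inferInstance
  haveI : CompactSpace Y := QuasiCompact.compactSpace_of_compactSpace g
  haveI : QuasiSeparatedSpace Y := quasiSeparatedSpace_of_quasiSeparated g
  have H : IsPullback (pullback.snd (Spec.map φ) g) (pullback.fst (Spec.map φ) g) g (Spec.map φ) :=
    (IsPullback.of_hasPullback _ _).flip
  have hiso := isIso_pushoutSection_of_isQuasiSeparated_of_flat_right H (US := ⊤) (UT := ⊤)
    (UX := ⊤) (UY := ⊤) le_top le_top (by simp) (isAffineOpen_top _) (isAffineOpen_top _)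
    isCompact_univ isQuasiSeparated_univ
  have hpo := (isIso_pushoutSection_iff ..).1 hiso
  have e1 : ∀ {A B : Scheme.{u}} (f : A ⟶ B) (e), f.appLE ⊤ ⊤ e = f.appTop := by
    intro A B f e; simp [Scheme.Hom.appLE]
  rw [e1, e1, e1, e1] at hpo
  have hpb := (hpo.op.map Scheme.Spec).flip
  simp only [Scheme.Spec_map, Quiver.Hom.unop_op] at hpb
  -- the big square
  have hbig : IsPullback (pullback.snd (Spec.map φ) g)
      ((pullback (Spec.map φ) g).toSpecΓ ≫ Spec.map (pullback.fst (Spec.map φ) g).appTop)
      (Y.toSpecΓ ≫ Spec.map g.appTop) (Spec.map (Spec.map φ).appTop) := by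
    refine IsPullback.of_iso H (Iso.refl _) (Iso.refl _) (asIso (Spec S').toSpecΓ)
      (asIso (Spec R).toSpecΓ) (by simp) ?_ ?_ ?_
    · simp [Scheme.toSpecΓ_naturality]
    · simp [Scheme.toSpecΓ_naturality]
    · simp [Scheme.toSpecΓ_naturality]
  have hC : IsPullback (pullback.snd (Spec.map φ) g) (pullback (Spec.map φ) g).toSpecΓ Y.toSpecΓ
      (Spec.map (pullback.snd (Spec.map φ) g).appTop) :=
    IsPullback.of_bot hbig (Scheme.toSpecΓ_naturality _) hpb
  have hq' : (@Surjective ⊓ @Flat ⊓ @QuasiCompact : MorphismProperty Scheme.{u})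
      (Spec.map (Spec.map φ).appTop) := by
    have : Spec.map (Spec.map φ).appTop = inv (Spec S').toSpecΓ ≫ Spec.map φ ≫ (Spec R).toSpecΓ := by
      rw [IsIso.eq_inv_comp, ← Scheme.toSpecΓ_naturality]
    rw [this]
    exact (MorphismProperty.cancel_left_of_respectsIso _ _ _).2
      ((MorphismProperty.cancel_right_of_respectsIso _ _ _).2 hq)
  have hq'' : (@Surjective ⊓ @Flat ⊓ @QuasiCompact : MorphismProperty Scheme.{u})
      (Spec.map (pullback.snd (Spec.map φ) g).appTop) :=
    MorphismProperty.of_isPullback hpb.flip hq'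
  have : (MorphismProperty.isomorphisms Scheme.{u}) Y.toSpecΓ :=
    MorphismProperty.of_isPullback_of_descendsAlong
      (Q := (@Surjective ⊓ @Flat ⊓ @QuasiCompact : MorphismProperty Scheme.{u})) hC.flip hq''
      (inferInstanceAs (IsIso (pullback (Spec.map φ) g).toSpecΓ))
  exact ⟨this⟩


instance affine_descends : DescendsAlong @IsAffineHom (@Surjective ⊓ @Flat ⊓ @QuasiCompact) := by
  refine IsZariskiLocalAtTarget.descendsAlong_inf_quasiCompact _ _ ?_ ?_
  · rw [inf_comm]
    exact inf_le_inf le_rfl (IsLocalIso.le_of_isZariskiLocalAtSource _)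
  · intro R S' Y φ g ⟨hs, hf⟩ hfst
    haveI : IsAffineHom (pullback.fst (Spec.map φ) g) := hfst
    haveI : IsAffine (pullback (Spec.map φ) g) :=
      isAffine_of_isAffineHom (pullback.fst (Spec.map φ) g)
    haveI : IsAffine Y := isAffine_of_pullback φ g hs hf inferInstance
    exact (inferInstance : IsAffineHom g)

theorem main {S : Scheme.{u}}
    (G X : Over S) [GrpObj G] [IsAffineHom G.hom] [Flat G.hom] (a : AlgGrp.Action G X)
    (h : NonAbH1.IsTorsorFor Scheme.fpqcPrecoverage a) :
    IsAffineHom X.hom ∧ Flat X.hom :=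
  ⟨H5S12837.prop_of_torsor (P := @IsAffineHom) G X a h inferInstance,
    H5S12837.prop_of_torsor (P := @Flat) G X a h inferInstance⟩

end H5S6004

/-- Let G be an S-group scheme which is affine and flat over S. Then every principal homogeneous bundle
under G (a pseudo-torsor which acquires sections on the members of some fpqc covering family of S)
is affine and flat over S. -/
theorem result {S : Scheme.{u}}
    (G X : Over S) [GrpObj G] [IsAffineHom G.hom] [Flat G.hom] (a : AlgGrp.Action G X)
    (h : NonAbH1.IsTorsorFor Scheme.fpqcPrecoverage a) :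
    IsAffineHom X.hom ∧ Flat X.hom := by
  exact H5S6004.main G X a h

end Groth.Agent.S6004
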