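import Groth.Statements.S11424
import Mathlib
import Groth.Agent.S18977
import Groth.Agent.S6004
import Groth.Agent.S14883
-- import your own Groth.Agent.* helpers here

set_option autoImplicit false
universe u
open CategoryTheory MonoidalCategory CartesianMonoidalCategory MonObj GrpObj AlgebraicGeometry CategoryTheory.Limits
open AlgGrp

namespace Groth.Agent.S11424


open CategoryTheory MonoidalCategory CartesianMonoidalCategory MonObj GrpObj AlgebraicGeometry CategoryTheory.Limits
open AlgGrp

namespace H5S11424

variable {S : Scheme.{u}}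

/-- the left-translation square of a kernel is cartesian -/
theorem ker_sq {G H Q : Over S} [GrpObj G] [GrpObj H] [GrpObj Q] (h : H ⟶ G) (q : G ⟶ Q)
    [IsMonHom q] (hk : AlgGrp.IsKernel h q) :
    IsPullback ((h ▷ G) ≫ μ[G]) (snd H G) q q := by
  have hq : h ≫ q = 1 := by
    have := hk.w
    rw [this, Hom.one_def]
  have key : ∀ {W : Over S} (n : W ⟶ H) (x : W ⟶ G),
      lift n x ≫ (h ▷ G) ≫ μ[G] = (n ≫ h) * x := by
    intro W n x
    rw [← Category.assoc, lift_whiskerRight, Hom.mul_def]
  apply Groth.Agent.S18977.H5S18977.sq_of_tr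
  · have e0 : (h ▷ G) ≫ μ[G] = (fst H G ≫ h) * snd H G := by
      have := key (fst H G) (snd H G)
      rw [lift_fst_snd, Category.id_comp] at this
      exact this
    rw [e0, MonObj.mul_comp, Category.assoc, hq, MonObj.comp_one, _root_.one_mul]
  · intro W x₁ x₂ e
    have h1 : (x₁ * x₂⁻¹) ≫ q = 1 := by
      rw [MonObj.mul_comp, GrpObj.inv_comp, e, mul_inv_cancel]
    have h2 : (x₁ * x₂⁻¹) ≫ q = toUnit W ≫ η[Q] := by rw [h1, Hom.one_def]
    refine ⟨hk.lift (x₁ * x₂⁻¹) (toUnit W) h2, ?_, ?_⟩
    · change lift _ x₂ ≫ (h ▷ G) ≫ μ[G] = x₁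
      rw [key, hk.lift_fst, inv_mul_cancel_right]
    · intro n hn
      apply hk.hom_ext
      · rw [hk.lift_fst, ← hn, key, mul_inv_cancel_right]
      · exact toUnit_unique _ _


theorem main (k : Type u) [Field k]
    (G H Q : Over (Spec (CommRingCat.of k))) [GrpObj G] [QuasiCompact G.hom]
    [GrpObj H] (h : H ⟶ G) [IsAffine H.left]
    [GrpObj Q] [LocallyOfFiniteType Q.hom]
    (q : G ⟶ Q) [IsMonHom q] [Surjective q.left] [Flat q.left] (hk : AlgGrp.IsKernel h q) :
    IsAffineHom q.left := by
  have hsq := (ker_sq h q hk).map (Over.forget _)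
  haveI : IsLocallyNoetherian Q.left := LocallyOfFiniteType.isLocallyNoetherian Q.hom
  haveI : QuasiSeparated Q.hom := inferInstance
  haveI : QuasiCompact q.left := Groth.Agent.S14883.H5S14883.qc_of_sep q
  have hQ : (@Surjective ⊓ @Flat ⊓ @QuasiCompact : MorphismProperty Scheme.{u}) q.left :=
    ⟨⟨inferInstance, inferInstance⟩, inferInstance⟩
  have hP : IsAffineHom (snd H G).left := by
    change IsAffineHom (pullback.snd H.hom G.hom)
    haveI : IsAffineHom H.hom := inferInstance
    exact MorphismProperty.pullback_snd (P := @IsAffineHom) _ _ inferInstance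
  exact MorphismProperty.of_isPullback_of_descendsAlong (P := @IsAffineHom)
    (Q := @Surjective ⊓ @Flat ⊓ @QuasiCompact) hsq.flip hQ hP

end H5S11424

/-- Over an algebraically closed field k, let G be an algebraic group (a smooth k-group scheme of finite
type), h : H → G a smooth affine closed normal subgroup, and q : G → Q a flat surjective
homomorphism of k-group schemes of finite type with kernel h (so Q = G/H). Then the quotient
morphism q is affine. (The published statement is the equivalence between affineness of G and of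
both H and G/H; this row states that the quotient morphism G → G/H is affine.) -/
theorem result (k : Type u) [Field k] [IsAlgClosed k]
    (G H Q : Over (Spec (CommRingCat.of k))) [GrpObj G] [Smooth G.hom] [QuasiCompact G.hom]
    [GrpObj H] (h : H ⟶ G) [IsMonHom h] [IsClosedImmersion h.left] [Smooth H.hom] [IsAffine H.left]
    [GrpObj Q] [LocallyOfFiniteType Q.hom] [QuasiCompact Q.hom]
    (q : G ⟶ Q) [IsMonHom q] [Surjective q.left] [Flat q.left] (hk : AlgGrp.IsKernel h q) :
    IsAffineHom q.left := by
  exact H5S11424.main k G H Q h q hk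

end Groth.Agent.S11424
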