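import Groth.Statements.S2914
import Mathlib
-- import your own Groth.Agent.* helpers here

set_option autoImplicit false
open CategoryTheory CategoryTheory.Limits AlgebraicGeometry Opposite
universe u
open SGA1

namespace Groth.Agent.S2914

open CategoryTheory CategoryTheory.Limits AlgebraicGeometry Opposite TopologicalSpace

namespace H5S2914

/-- lifting a ring hom through an injective ring hom. -/
lemma lift_inj {R A B : Type*} [CommRing R] [CommRing A] [CommRing B] (i : A →+* B)
    (hi : Function.Injective i) (ψ : R →+* B) (h : ∀ r, ψ r ∈ Set.range i) :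
    ∃ φ : R →+* A, i.comp φ = ψ := by
  choose φ hφ using h
  have h1 : φ 1 = 1 := hi (by rw [hφ]; simp)
  have h0 : φ 0 = 0 := hi (by rw [hφ]; simp)
  have hm : ∀ x y, φ (x * y) = φ x * φ y := fun x y => hi (by
    rw [map_mul, hφ, hφ, hφ, map_mul])
  have ha : ∀ x y, φ (x + y) = φ x + φ y := fun x y => hi (by
    rw [map_add, hφ, hφ, hφ, map_add])
  exact ⟨{ toFun := φ, map_one' := h1, map_mul' := hm, map_zero' := h0, map_add' := ha },
    RingHom.ext hφ⟩

/-- A surjective morphism injective on all sections is an epimorphism of schemes. -/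
lemma epi_of_surj_inj {Y' Y : Scheme.{u}} (γ : Y' ⟶ Y) (hs : Function.Surjective γ.base)
    (hinj : ∀ V : Y.Opens, Function.Injective (γ.app V).hom) {W : Scheme.{u}} (a b : Y ⟶ W)
    (h : γ ≫ a = γ ≫ b) : a = b := by
  have hbase : a.base = b.base := by
    ext y
    obtain ⟨y', rfl⟩ := hs y
    have := congrArg (fun f : Y' ⟶ W => f.base y') h
    simpa using this
  refine Scheme.Hom.ext hbase fun U => ?_
  have E1 : b ⁻¹ᵁ U = a ⁻¹ᵁ U := congr((Opens.map $hbase.symm).obj U)
  have hm : Mono (γ.app (b ⁻¹ᵁ U)) := ConcreteCategory.mono_of_injective _ (hinj _)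
  have k1 : a.app U ≫ Y.presheaf.map (eqToHom E1).op = a.appLE U (b ⁻¹ᵁ U) E1.le := by
    rw [Scheme.Hom.appLE]
    congr 1
  rw [k1, ← cancel_mono (γ.app (b ⁻¹ᵁ U)), Scheme.Hom.app_eq_appLE, Scheme.Hom.appLE_comp_appLE,
    Scheme.Hom.app_eq_appLE (f := b), Scheme.Hom.appLE_comp_appLE]
  simp only [h]

/-- gluing morphisms along a cover by opens, compatibility on intersections. -/
lemma glue_opens {S W : Scheme.{u}} {ι : Type u} (U : ι → S.Opens) (hU : IsOpenCover U)
    (m : ∀ i, (U i).toScheme ⟶ W)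
    (hm : ∀ i j, S.homOfLE (inf_le_left : U i ⊓ U j ≤ U i) ≫ m i =
      S.homOfLE (inf_le_right : U i ⊓ U j ≤ U j) ≫ m j) :
    ∃ M : S ⟶ W, ∀ i, (U i).ι ≫ M = m i := by
  have compat : ∀ i j : ι, pullback.fst (U i).ι (U j).ι ≫ m i = pullback.snd (U i).ι (U j).ι ≫ m j := by
    intro i j
    have h2 : pullback.fst (U i).ι (U j).ι ≫ (U i).ι = pullback.snd (U i).ι (U j).ι ≫ (U j).ι :=
      pullback.condition
    have hr : Set.range (pullback.fst (U i).ι (U j).ι ≫ (U i).ι).base ⊆
        Set.range (U i ⊓ U j).ι.base := by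
      rintro _ ⟨z, rfl⟩
      rw [Scheme.Opens.range_ι]
      refine ⟨?_, ?_⟩
      · have : (pullback.fst (U i).ι (U j).ι ≫ (U i).ι).base z =
          ((pullback.fst (U i).ι (U j).ι).base z).1 := rfl
        rw [this]; exact ((pullback.fst (U i).ι (U j).ι).base z).2
      · rw [h2]
        have : (pullback.snd (U i).ι (U j).ι ≫ (U j).ι).base z =
          ((pullback.snd (U i).ι (U j).ι).base z).1 := rfl
        rw [this]; exact ((pullback.snd (U i).ι (U j).ι).base z).2
    let k := IsOpenImmersion.lift (U i ⊓ U j).ι (pullback.fst (U i).ι (U j).ι ≫ (U i).ι) hr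
    have hk : k ≫ (U i ⊓ U j).ι = pullback.fst (U i).ι (U j).ι ≫ (U i).ι :=
      IsOpenImmersion.lift_fac _ _ _
    have e1 : pullback.fst (U i).ι (U j).ι = k ≫ S.homOfLE inf_le_left := by
      rw [← cancel_mono (U i).ι, Category.assoc, Scheme.homOfLE_ι, hk]
    have e2 : pullback.snd (U i).ι (U j).ι = k ≫ S.homOfLE inf_le_right := by
      rw [← cancel_mono (U j).ι, Category.assoc, Scheme.homOfLE_ι, hk]
      exact h2.symm
    rw [e1, e2, Category.assoc, Category.assoc, hm]
  exact ⟨(S.openCoverOfIsOpenCover U hU).glueMorphisms m compat,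
    fun i => (S.openCoverOfIsOpenCover U hU).ι_glueMorphisms m compat i⟩


--MAIN--
section Main

variable {S' S : Scheme.{u}} (g : S' ⟶ S)

/-- restriction of `g` to an open is again an "epimorphism". -/
lemma epi_restrict (hs : Function.Surjective g.base)
    (hinj : ∀ U : S.Opens, Function.Injective (g.app U).hom) (U : S.Opens) {W : Scheme.{u}}
    (a b : U.toScheme ⟶ W) (h : (g ∣_ U) ≫ a = (g ∣_ U) ≫ b) : a = b := by
  refine epi_of_surj_inj (g ∣_ U) ?_ ?_ a b h
  · intro y
    obtain ⟨x, hx⟩ := hs y.1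
    have hxU : x ∈ g ⁻¹ᵁ U := by
      change g.base x ∈ U
      rw [hx]; exact y.2
    refine ⟨⟨x, hxU⟩, Subtype.ext ?_⟩
    rw [morphismRestrict_base_coe]
    exact hx
  · intro V
    rw [morphismRestrict_app]
    intro x y hxy
    apply hinj (U.ι ''ᵁ V)
    have hi : Function.Injective (S'.presheaf.map (eqToHom (image_morphismRestrict_preimage g U V)).op).hom :=
      ((ConcreteCategory.isIso_iff_bijective _).mp inferInstance).1
    apply hi
    exact hxy

variable {W : Scheme.{u}} (e : S' ⟶ W) (he : pullback.fst g g ≫ e = pullback.snd g g ≫ e)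

include he in
lemma sat (x y : S') (hxy : g.base x = g.base y) : e.base x = e.base y := by
  obtain ⟨z, hz1, hz2⟩ := Scheme.Pullback.exists_preimage_pullback x y hxy
  rw [← hz1, ← hz2]
  have := congrArg (fun f : pullback g g ⟶ W => f.base z) he
  simpa using this

include he in
lemma preimage_image (W' : W.Opens) :
    g.base ⁻¹' (g.base '' (e ⁻¹ᵁ W' : Set S')) = (e ⁻¹ᵁ W' : Set S') := by
  ext x
  constructor
  · rintro ⟨y, hy, hyx⟩
    change e.base x ∈ W'
    rw [← sat g e he y x hyx]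
    exact hy
  · intro hx
    exact ⟨x, hx, rfl⟩

/-- the open of `S` with preimage `e⁻¹ W'`. -/
noncomputable def Uof (hq : Topology.IsQuotientMap g.base) (W' : W.Opens) : S.Opens :=
  ⟨g.base '' (e ⁻¹ᵁ W' : Set S'), by
    rw [← hq.isOpen_preimage, preimage_image g e he]
    exact (e ⁻¹ᵁ W').2⟩

lemma preimage_Uof (hq : Topology.IsQuotientMap g.base) (W' : W.Opens) :
    g ⁻¹ᵁ (Uof g e he hq W') = e ⁻¹ᵁ W' := by
  ext x
  exact Set.ext_iff.mp (preimage_image g e he W') x

lemma sections_compat (hq : Topology.IsQuotientMap g.base) (W' : W.Opens) :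
    e.appLE W' (g ⁻¹ᵁ (Uof g e he hq W')) (preimage_Uof g e he hq W').le ≫
        SGA1.overlapFstApp g (Uof g e he hq W') =
      e.appLE W' (g ⁻¹ᵁ (Uof g e he hq W')) (preimage_Uof g e he hq W').le ≫
        SGA1.overlapSndApp g (Uof g e he hq W') := by
  rw [SGA1.overlapFstApp, SGA1.overlapSndApp, Scheme.Hom.app_eq_appLE,
    Scheme.Hom.appLE_comp_appLE, Scheme.Hom.appLE_comp_appLE]
  simp only [he]

lemma local_m (hq : Topology.IsQuotientMap g.base)
    (hinj : ∀ U : S.Opens, Function.Injective (g.app U).hom)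
    (heq : ∀ (U : S.Opens) (s' : Γ(S', g ⁻¹ᵁ U)),
      (SGA1.overlapFstApp g U).hom s' = (SGA1.overlapSndApp g U).hom s' →
      s' ∈ Set.range (g.app U).hom) (W' : W.Opens) (hW' : IsAffineOpen W') :
    ∃ m : (Uof g e he hq W').toScheme ⟶ W,
      (g ∣_ (Uof g e he hq W')) ≫ m = (g ⁻¹ᵁ (Uof g e he hq W')).ι ≫ e := by
  set U := Uof g e he hq W' with hUdef
  have hle : g ⁻¹ᵁ U ≤ e ⁻¹ᵁ W' := (preimage_Uof g e he hq W').le
  obtain ⟨φ, hφ⟩ := lift_inj (g.app U).hom (hinj U) (e.appLE W' (g ⁻¹ᵁ U) hle).hom (fun r => by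
    apply heq U
    have := congrArg (fun f => f.hom r) (sections_compat g e he hq W')
    simpa using this)
  have hφ' : CommRingCat.ofHom φ ≫ g.app U = e.appLE W' (g ⁻¹ᵁ U) hle := by
    ext x
    exact congrArg (fun f => f x) hφ
  refine ⟨U.toSpecΓ ≫ Spec.map (CommRingCat.ofHom φ) ≫ hW'.fromSpec, ?_⟩
  rw [← Category.assoc, ← Scheme.Opens.toSpecΓ_naturality, Category.assoc, ← Category.assoc (Spec.map _),
    ← Spec.map_comp, hφ', ← Category.assoc, Scheme.Opens.toSpecΓ_SpecMap_appLE, Category.assoc,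
    IsAffineOpen.toSpecΓ_fromSpec, Scheme.Hom.resLE_comp_ι]

end Main

section Main2

variable {S' S : Scheme.{u}} (g : S' ⟶ S)

lemma restrict_homOfLE {U V : S.Opens} (h : U ≤ V) :
    (g ∣_ U) ≫ S.homOfLE h = S'.homOfLE (show g ⁻¹ᵁ U ≤ g ⁻¹ᵁ V from fun _ hx => h hx) ≫ (g ∣_ V) := by
  rw [← cancel_mono V.ι, Category.assoc, Scheme.homOfLE_ι, morphismRestrict_ι, Category.assoc,
    morphismRestrict_ι, ← Category.assoc, Scheme.homOfLE_ι]

variable {W : Scheme.{u}} (e : S' ⟶ W) (he : pullback.fst g g ≫ e = pullback.snd g g ≫ e)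

include he in
theorem exists_desc (hq : Topology.IsQuotientMap g.base)
    (hinj : ∀ U : S.Opens, Function.Injective (g.app U).hom)
    (heq : ∀ (U : S.Opens) (s' : Γ(S', g ⁻¹ᵁ U)),
      (SGA1.overlapFstApp g U).hom s' = (SGA1.overlapSndApp g U).hom s' →
      s' ∈ Set.range (g.app U).hom) :
    ∃ M : S ⟶ W, g ≫ M = e := by
  let U : W.affineOpens → S.Opens := fun i => Uof g e he hq i.1
  have hU : IsOpenCover U := by
    rw [IsOpenCover, eq_top_iff]
    intro s _
    obtain ⟨s', rfl⟩ := hq.surjective s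
    obtain ⟨W', hW', hs', -⟩ := Opens.isBasis_iff_nbhd.mp W.isBasis_affineOpens
      (show e.base s' ∈ (⊤ : W.Opens) from trivial)
    rw [Opens.mem_iSup]
    exact ⟨⟨W', hW'⟩, s', hs', rfl⟩
  have hU' : IsOpenCover (fun i => g ⁻¹ᵁ U i) := by
    rw [IsOpenCover, eq_top_iff]
    intro s' _
    have : g.base s' ∈ ⨆ i, U i := by rw [hU]; trivial
    rw [Opens.mem_iSup] at this ⊢
    exact this
  choose m hm using fun i : W.affineOpens => local_m g e he hq hinj heq i.1 i.2
  have key : ∀ (i : W.affineOpens) (Q : S.Opens) (h : Q ≤ U i),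
      (g ∣_ Q) ≫ S.homOfLE h ≫ m i = (g ⁻¹ᵁ Q).ι ≫ e := by
    intro i Q h
    rw [← Category.assoc, restrict_homOfLE, Category.assoc, hm, ← Category.assoc, Scheme.homOfLE_ι]
  obtain ⟨M, hM⟩ := glue_opens U hU m (fun i j => by
    apply epi_restrict g hq.surjective hinj (U i ⊓ U j)
    rw [key i _ inf_le_left, key j _ inf_le_right])
  refine ⟨M, ?_⟩
  refine (S'.openCoverOfIsOpenCover (fun i => g ⁻¹ᵁ U i) hU').hom_ext _ _ fun i => ?_
  change (g ⁻¹ᵁ U i).ι ≫ g ≫ M = (g ⁻¹ᵁ U i).ι ≫ e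
  rw [← Category.assoc, ← morphismRestrict_ι, Category.assoc, hM, hm]

theorem main (hq : Topology.IsQuotientMap g.base)
    (hinj : ∀ U : S.Opens, Function.Injective (g.app U).hom)
    (heq : ∀ (U : S.Opens) (s' : Γ(S', g ⁻¹ᵁ U)),
      (SGA1.overlapFstApp g U).hom s' = (SGA1.overlapSndApp g U).hom s' →
      s' ∈ Set.range (g.app U).hom) : EffectiveEpi g := by
  have hex : ∀ {W : Scheme.{u}} (e : S' ⟶ W),
      (∀ {Z : Scheme.{u}} (g₁ g₂ : Z ⟶ S'), g₁ ≫ g = g₂ ≫ g → g₁ ≫ e = g₂ ≫ e) →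
      ∃ M : S ⟶ W, g ≫ M = e := fun e h =>
    exists_desc g e (h _ _ pullback.condition) hq hinj heq
  refine ⟨⟨{ desc := fun e h => (hex e h).choose
             fac := fun e h => (hex e h).choose_spec
             uniq := fun e h m hm => ?_ }⟩⟩
  apply epi_of_surj_inj g hq.surjective hinj
  rw [hm, (hex e h).choose_spec]

end Main2

end H5S2914

/-- Let g : S' ⟶ S be a morphism of schemes whose underlying map is a quotient map, and such that for
every open U of S the sequence O_S(U) → O_{S'}(g⁻¹U) ⇉ O_{S''}(h⁻¹U) is an equalizer, where S'' = S'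
×_S S' with structure map h and the two arrows are restriction along the projections. Then g is an
effective epimorphism in the category of schemes. -/
theorem result {S' S : Scheme.{u}} (g : S' ⟶ S) (hq : Topology.IsQuotientMap g.base)
    (hinj : ∀ U : S.Opens, Function.Injective (g.app U).hom)
    (heq : ∀ (U : S.Opens) (s' : Γ(S', g ⁻¹ᵁ U)), (SGA1.overlapFstApp g U).hom s' = (SGA1.overlapSndApp g U).hom s' →
      s' ∈ Set.range (g.app U).hom) :
    EffectiveEpi g := by
  exact H5S2914.main g hq hinj heq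

end Groth.Agent.S2914
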