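import Groth.Statements.S13596
import Mathlib
-- import your own Groth.Agent.* helpers here

set_option autoImplicit false
universe u
open CategoryTheory AlgebraicGeometry
open SGA1

namespace Groth.Agent.S13596

open CategoryTheory CategoryTheory.Limits AlgebraicGeometry Opposite TopologicalSpace

namespace H5S13596

lemma appLE_congr' {X Y : Scheme.{u}} {f f' : X ⟶ Y} (h : f = f') (U : Y.Opens) (V : X.Opens)
    (e : V ≤ f ⁻¹ᵁ U) : f.appLE U V e = f'.appLE U V (h ▸ e) := by subst h; rfl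

variable {X Y : Scheme.{u}} {G : Type u} [Group G] (ρ : G →* Aut X) (p : X ⟶ Y)

/-- the map on sections over `p⁻¹U` induced by `ρ g`. -/
noncomputable def σ (inv : ∀ g : G, (ρ g).hom ≫ p = p) (U : Y.Opens) (g : G) :
    Γ(X, p ⁻¹ᵁ U) ⟶ Γ(X, p ⁻¹ᵁ U) :=
  (ρ g).hom.appLE (p ⁻¹ᵁ U) (p ⁻¹ᵁ U) (SGA1.preimage_le_of_inv ρ p inv g U)

lemma σ_one (inv : ∀ g : G, (ρ g).hom ≫ p = p) (U : Y.Opens) : σ ρ p inv U 1 = 𝟙 _ := by
  have h1 : (ρ 1).hom = 𝟙 X := by rw [map_one]; rfl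
  rw [σ, appLE_congr' h1]
  simp only [Scheme.Hom.appLE, Scheme.Hom.id_app]
  erw [Category.id_comp]
  exact X.presheaf.map_id _

lemma σ_mul (inv : ∀ g : G, (ρ g).hom ≫ p = p) (U : Y.Opens) (g h : G) :
    σ ρ p inv U (g * h) = σ ρ p inv U g ≫ σ ρ p inv U h := by
  have h1 : (ρ (g * h)).hom = (ρ h).hom ≫ (ρ g).hom := by rw [map_mul]; rfl
  rw [σ, σ, σ, Scheme.Hom.appLE_comp_appLE, appLE_congr' h1]


/-- the left action homomorphism `g ↦ σ (g⁻¹)`. -/
noncomputable def Φ (inv : ∀ g : G, (ρ g).hom ≫ p = p) (U : Y.Opens) :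
    G →* (Γ(X, p ⁻¹ᵁ U) →+* Γ(X, p ⁻¹ᵁ U)) where
  toFun g := (σ ρ p inv U g⁻¹).hom
  map_one' := by
    rw [inv_one, σ_one]; rfl
  map_mul' g h := by
    rw [mul_inv_rev, σ_mul]; rfl

/-- the induced action on sections. -/
@[reducible] noncomputable def act (inv : ∀ g : G, (ρ g).hom ≫ p = p) (U : Y.Opens) :
    MulSemiringAction G Γ(X, p ⁻¹ᵁ U) :=
  MulSemiringAction.compHom _ (Φ ρ p inv U)

lemma smul_def (inv : ∀ g : G, (ρ g).hom ≫ p = p) (U : Y.Opens) (g : G) (b : Γ(X, p ⁻¹ᵁ U)) :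
    letI := act ρ p inv U
    g • b = (σ ρ p inv U g⁻¹).hom b := rfl

/-- invariance under all `σ g` iff invariance under the action. -/
lemma inv_iff (inv : ∀ g : G, (ρ g).hom ≫ p = p) (U : Y.Opens) (b : Γ(X, p ⁻¹ᵁ U)) :
    letI := act ρ p inv U
    (∀ g : G, g • b = b) ↔ ∀ g : G, (σ ρ p inv U g).hom b = b := by
  constructor
  · intro h g
    have := h g⁻¹
    rwa [smul_def, inv_inv] at this
  · intro h g
    rw [smul_def]; exact h g⁻¹

variable [Finite G]

theorem isIntegral_app (hp : SGA1.IsQuot ρ p) (U : Y.Opens) : (p.app U).hom.IsIntegral := by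
  letI := act ρ p hp.inv U
  letI : Algebra Γ(Y, U) Γ(X, p ⁻¹ᵁ U) := (p.app U).hom.toAlgebra
  haveI : Algebra.IsInvariant Γ(Y, U) Γ(X, p ⁻¹ᵁ U) G := ⟨fun b hb => by
    have := (hp.range_iff U b).mpr ((inv_iff ρ p hp.inv U b).mp hb)
    exact this⟩
  have := Algebra.IsInvariant.isIntegral Γ(Y, U) Γ(X, p ⁻¹ᵁ U) G
  intro b
  exact this.isIntegral b

theorem main (hp : SGA1.IsQuot ρ p) : IsIntegralHom p :=
  { toIsAffineHom := hp.affine
    isIntegral_app := fun U _ => isIntegral_app ρ p hp U }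

end H5S13596

/-- Let a finite group G act on a scheme X and let p : X ⟶ Y be a quotient of X by G (affine,
G-invariant, and identifying the sections of O_Y over every open with the G-invariant sections of
O_X over its preimage). Then p is an integral morphism. -/
theorem result {X Y : Scheme.{u}} {G : Type u} [Group G] [Finite G]
    (ρ : G →* Aut X) (p : X ⟶ Y) (hp : SGA1.IsQuot ρ p) :
    IsIntegralHom p := by
  exact H5S13596.main ρ p hp

end Groth.Agent.S13596
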