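import Groth.Statements.S2908
import Mathlib
import Groth.Agent.S13596
-- import your own Groth.Agent.* helpers here

set_option autoImplicit false
open CategoryTheory CategoryTheory.Limits AlgebraicGeometry
universe u
open SGA1

namespace Groth.Agent.S2908

open CategoryTheory CategoryTheory.Limits AlgebraicGeometry Opposite TopologicalSpace
open Groth.Agent.S13596

namespace H5S2908

variable {X Y : Scheme.{u}} {G : Type u} [Group G] (ρ : G →* Aut X) (p : X ⟶ Y)

/-- membership in the prime ideal of a point of an affine open via basic opens. -/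
lemma mem_primeIdealOf {X : Scheme.{u}} {V : X.Opens} (hV : IsAffineOpen V) (z : V) (b : Γ(X, V)) :
    b ∈ (hV.primeIdealOf z).asIdeal ↔ z.1 ∉ X.basicOpen b := by
  have h1 : z.1 ∈ X.basicOpen b ↔ hV.primeIdealOf z ∈ hV.fromSpec ⁻¹ᵁ X.basicOpen b := by
    change _ ↔ hV.fromSpec (hV.primeIdealOf z) ∈ X.basicOpen b
    rw [hV.fromSpec_primeIdealOf]
  rw [h1, hV.fromSpec_preimage_basicOpen]
  change _ ↔ ¬ (b ∉ (hV.primeIdealOf z).asIdeal)
  rw [not_not]

lemma primeIdealOf_inj {X : Scheme.{u}} {V : X.Opens} (hV : IsAffineOpen V) (z z' : V)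
    (h : (hV.primeIdealOf z).asIdeal = (hV.primeIdealOf z').asIdeal) : z = z' := by
  have h2 : hV.primeIdealOf z = hV.primeIdealOf z' := PrimeSpectrum.ext h
  apply Subtype.ext
  rw [← hV.fromSpec_primeIdealOf z, ← hV.fromSpec_primeIdealOf z', h2]

/-- basic open of the transported section. -/
lemma mem_basicOpen_σ (inv : ∀ g : G, (ρ g).hom ≫ p = p) (U : Y.Opens) (g : G) (b : Γ(X, p ⁻¹ᵁ U))
    (z : X) (hz : z ∈ p ⁻¹ᵁ U) :
    z ∈ X.basicOpen ((H5S13596.σ ρ p inv U g).hom b) ↔ (ρ g).hom.base z ∈ X.basicOpen b := by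
  rw [H5S13596.σ, Scheme.Hom.appLE]
  change z ∈ X.basicOpen (X.presheaf.map _ ((ρ g).hom.app (p ⁻¹ᵁ U) b)) ↔ _
  rw [Scheme.basicOpen_res, ← Scheme.preimage_basicOpen]
  exact ⟨fun h => h.2, fun h => ⟨hz, h⟩⟩

variable [Finite G]

theorem surjective (hp : SGA1.IsQuot ρ p) : Function.Surjective p.base := by
  haveI : IsIntegralHom p := H5S13596.main ρ p hp
  have hcl : IsClosed (Set.range p.base) := p.isClosedMap.isClosed_range
  let V : Y.Opens := ⟨(Set.range p.base)ᶜ, hcl.isOpen_compl⟩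
  have hV : p ⁻¹ᵁ V = ⊥ := by
    ext x
    simp only [Opens.coe_bot, Set.mem_empty_iff_false, iff_false]
    intro hx
    exact hx ⟨x, rfl⟩
  have h1 : (1 : Γ(Y, V)) = 0 := by
    apply hp.injective V
    have : Subsingleton Γ(X, p ⁻¹ᵁ V) := by rw [hV]; infer_instance
    exact Subsingleton.elim _ _
  have hV0 : V = ⊥ := by
    rw [← Y.basicOpen_of_isUnit (isUnit_one (M := Γ(Y, V))), h1, Scheme.basicOpen_zero]
  intro y
  by_contra hy
  have : y ∈ V := hy
  rw [hV0] at this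
  exact this


theorem orbit (hp : SGA1.IsQuot ρ p) (x x' : X) (h : p.base x = p.base x') :
    ∃ g : G, (ρ g).hom.base x = x' := by
  obtain ⟨U, hU, hxU, -⟩ := Opens.isBasis_iff_nbhd.mp Y.isBasis_affineOpens
    (show p.base x ∈ (⊤ : Y.Opens) from trivial)
  have hpa : IsAffineHom p := hp.affine
  have hV : IsAffineOpen (p ⁻¹ᵁ U) := hU.preimage p
  have hx : x ∈ p ⁻¹ᵁ U := hxU
  have hx' : x' ∈ p ⁻¹ᵁ U := by
    change p.base x' ∈ U
    rw [← h]; exact hxU
  letI := H5S13596.act ρ p hp.inv U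
  letI : Algebra Γ(Y, U) Γ(X, p ⁻¹ᵁ U) := (p.app U).hom.toAlgebra
  haveI : Algebra.IsInvariant Γ(Y, U) Γ(X, p ⁻¹ᵁ U) G := ⟨fun b hb => by
    have := (hp.range_iff U b).mpr ((H5S13596.inv_iff ρ p hp.inv U b).mp hb)
    exact this⟩
  haveI : SMulCommClass G Γ(Y, U) Γ(X, p ⁻¹ᵁ U) := ⟨fun g a b => by
    have ha : g • ((p.app U).hom a) = (p.app U).hom a := by
      have := (hp.range_iff U ((p.app U).hom a)).mp ⟨a, rfl⟩ g⁻¹
      rw [H5S13596.smul_def]; exact this
    rw [Algebra.smul_def, Algebra.smul_def, smul_mul']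
    congr 1⟩
  let P := (hV.primeIdealOf ⟨x, hx⟩).asIdeal
  let Q := (hV.primeIdealOf ⟨x', hx'⟩).asIdeal
  have hPQ : P.under Γ(Y, U) = Q.under Γ(Y, U) := by
    ext a
    rw [Ideal.under_def, Ideal.under_def, Ideal.mem_comap, Ideal.mem_comap]
    change (p.app U).hom a ∈ P ↔ (p.app U).hom a ∈ Q
    rw [mem_primeIdealOf, mem_primeIdealOf, ← Scheme.preimage_basicOpen]
    change ¬ (p.base x ∈ Y.basicOpen a) ↔ ¬ (p.base x' ∈ Y.basicOpen a)
    rw [h]
  obtain ⟨g, hg⟩ := Algebra.IsInvariant.exists_smul_of_under_eq Γ(Y, U) Γ(X, p ⁻¹ᵁ U) G P Q hPQ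
  refine ⟨g, ?_⟩
  have hgx : (ρ g).hom.base x ∈ p ⁻¹ᵁ U := by
    change p.base ((ρ g).hom.base x) ∈ U
    have : p.base ((ρ g).hom.base x) = p.base x := by
      rw [← Scheme.Hom.comp_apply, hp.inv g]
    rw [this]; exact hxU
  have key : (hV.primeIdealOf ⟨(ρ g).hom.base x, hgx⟩).asIdeal = Q := by
    rw [hg]
    ext b
    rw [Ideal.mem_pointwise_smul_iff_inv_smul_mem, mem_primeIdealOf, H5S13596.smul_def, inv_inv]
    change _ ↔ (H5S13596.σ ρ p hp.inv U g).hom b ∈ (hV.primeIdealOf ⟨x, hx⟩).asIdeal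
    rw [mem_primeIdealOf, mem_basicOpen_σ ρ p hp.inv U g b x hx]
  exact congrArg Subtype.val (primeIdealOf_inj hV ⟨(ρ g).hom.base x, hgx⟩ ⟨x', hx'⟩ key)

theorem main (hp : SGA1.IsQuot ρ p) :
    Function.Surjective p.base ∧ (∀ x x' : X, p.base x = p.base x' ↔ ∃ g : G, (ρ g).hom.base x = x') ∧
      Topology.IsQuotientMap p.base := by
  haveI : IsIntegralHom p := H5S13596.main ρ p hp
  refine ⟨surjective ρ p hp, fun x x' => ⟨orbit ρ p hp x x', ?_⟩,
    p.isClosedMap.isQuotientMap p.continuous (surjective ρ p hp)⟩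
  rintro ⟨g, rfl⟩
  rw [← Scheme.Hom.comp_apply, hp.inv g]

end H5S2908

/-- Let a finite group G act on a scheme X and let p : X ⟶ Y be a quotient of X by G. Then p is
surjective, two points of X have the same image exactly when they lie in one G-orbit, and the
topology of Y is the quotient topology. -/
theorem result {X Y : Scheme.{u}} {G : Type u} [Group G] [Finite G] (ρ : G →* Aut X)
    (p : X ⟶ Y) (hp : SGA1.IsQuot ρ p) :
    Function.Surjective p.base ∧ (∀ x x' : X, p.base x = p.base x' ↔ ∃ g : G, (ρ g).hom.base x = x') ∧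
      Topology.IsQuotientMap p.base := by
  exact H5S2908.main ρ p hp

end Groth.Agent.S2908
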