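import Groth.Statements.S2925
import Mathlib
import Groth.Agent.S13596
import Groth.Agent.S2908
import Groth.Agent.S2914
-- import your own Groth.Agent.* helpers here

set_option autoImplicit false
open CategoryTheory CategoryTheory.Limits AlgebraicGeometry
universe u
open SGA1

namespace Groth.Agent.S2925

open CategoryTheory CategoryTheory.Limits AlgebraicGeometry Opposite TopologicalSpace
open Groth.Agent.S13596 Groth.Agent.S2908 Groth.Agent.S2914

namespace H5S2925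

section General

variable {S' S : Scheme.{u}} (g : S' ⟶ S) {W : Scheme.{u}} (e : S' ⟶ W)
  (hsat : ∀ x y : S', g.base x = g.base y → e.base x = e.base y)

include hsat in
lemma preimage_image (W' : W.Opens) :
    g.base ⁻¹' (g.base '' (e ⁻¹ᵁ W' : Set S')) = (e ⁻¹ᵁ W' : Set S') := by
  ext x
  constructor
  · rintro ⟨y, hy, hyx⟩
    change e.base x ∈ W'
    rw [← hsat y x hyx]
    exact hy
  · intro hx
    exact ⟨x, hx, rfl⟩

/-- the open of `S` with preimage `e⁻¹ W'`. -/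
noncomputable def Uof (hq : Topology.IsQuotientMap g.base) (W' : W.Opens) : S.Opens :=
  ⟨g.base '' (e ⁻¹ᵁ W' : Set S'), by
    rw [← hq.isOpen_preimage, preimage_image g e hsat]
    exact (e ⁻¹ᵁ W').2⟩

lemma preimage_Uof (hq : Topology.IsQuotientMap g.base) (W' : W.Opens) :
    g ⁻¹ᵁ (Uof g e hsat hq W') = e ⁻¹ᵁ W' := by
  ext x
  exact Set.ext_iff.mp (preimage_image g e hsat W') x

lemma local_m (hq : Topology.IsQuotientMap g.base)
    (hinj : ∀ U : S.Opens, Function.Injective (g.app U).hom)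
    (hrange : ∀ (W' : W.Opens) (U : S.Opens) (hle : g ⁻¹ᵁ U ≤ e ⁻¹ᵁ W') (r : Γ(W, W')),
      (e.appLE W' (g ⁻¹ᵁ U) hle).hom r ∈ Set.range (g.app U).hom)
    (W' : W.Opens) (hW' : IsAffineOpen W') :
    ∃ m : (Uof g e hsat hq W').toScheme ⟶ W,
      (g ∣_ (Uof g e hsat hq W')) ≫ m = (g ⁻¹ᵁ (Uof g e hsat hq W')).ι ≫ e := by
  set U := Uof g e hsat hq W' with hUdef
  have hle : g ⁻¹ᵁ U ≤ e ⁻¹ᵁ W' := (preimage_Uof g e hsat hq W').le
  obtain ⟨φ, hφ⟩ := H5S2914.lift_inj (g.app U).hom (hinj U) (e.appLE W' (g ⁻¹ᵁ U) hle).hom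
    (hrange W' U hle)
  have hφ' : CommRingCat.ofHom φ ≫ g.app U = e.appLE W' (g ⁻¹ᵁ U) hle := by
    ext x
    exact congrArg (fun f => f x) hφ
  refine ⟨U.toSpecΓ ≫ Spec.map (CommRingCat.ofHom φ) ≫ hW'.fromSpec, ?_⟩
  rw [← Category.assoc, ← Scheme.Opens.toSpecΓ_naturality, Category.assoc, ← Category.assoc (Spec.map _),
    ← Spec.map_comp, hφ', ← Category.assoc, Scheme.Opens.toSpecΓ_SpecMap_appLE, Category.assoc,
    IsAffineOpen.toSpecΓ_fromSpec, Scheme.Hom.resLE_comp_ι]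

include hsat in
theorem exists_desc (hq : Topology.IsQuotientMap g.base)
    (hinj : ∀ U : S.Opens, Function.Injective (g.app U).hom)
    (hrange : ∀ (W' : W.Opens) (U : S.Opens) (hle : g ⁻¹ᵁ U ≤ e ⁻¹ᵁ W') (r : Γ(W, W')),
      (e.appLE W' (g ⁻¹ᵁ U) hle).hom r ∈ Set.range (g.app U).hom) :
    ∃ M : S ⟶ W, g ≫ M = e := by
  let U : W.affineOpens → S.Opens := fun i => Uof g e hsat hq i.1
  have hU : IsOpenCover U := by
    rw [IsOpenCover, eq_top_iff]
    intro s _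
    obtain ⟨s', rfl⟩ := hq.surjective s
    obtain ⟨W', hW', hs', -⟩ := Opens.isBasis_iff_nbhd.mp W.isBasis_affineOpens
      (show e.base s' ∈ (⊤ : W.Opens) from trivial)
    rw [Opens.mem_iSup]
    exact ⟨⟨W', hW'⟩, s', hs', rfl⟩
  have hU' : IsOpenCover (fun i => g ⁻¹ᵁ U i) := by
    rw [IsOpenCover, eq_top_iff]
    intro s' _
    have : g.base s' ∈ ⨆ i, U i := by rw [hU]; trivial
    rw [Opens.mem_iSup] at this ⊢
    exact this
  choose m hm using fun i : W.affineOpens => local_m g e hsat hq hinj hrange i.1 i.2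
  have key : ∀ (i : W.affineOpens) (Q : S.Opens) (h : Q ≤ U i),
      (g ∣_ Q) ≫ S.homOfLE h ≫ m i = (g ⁻¹ᵁ Q).ι ≫ e := by
    intro i Q h
    rw [← Category.assoc, H5S2914.restrict_homOfLE, Category.assoc, hm, ← Category.assoc,
      Scheme.homOfLE_ι]
  obtain ⟨M, hM⟩ := H5S2914.glue_opens U hU m (fun i j => by
    apply H5S2914.epi_restrict g hq.surjective hinj (U i ⊓ U j)
    rw [key i _ inf_le_left, key j _ inf_le_right])
  refine ⟨M, ?_⟩
  refine (S'.openCoverOfIsOpenCover (fun i => g ⁻¹ᵁ U i) hU').hom_ext _ _ fun i => ?_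
  change (g ⁻¹ᵁ U i).ι ≫ g ≫ M = (g ⁻¹ᵁ U i).ι ≫ e
  rw [← Category.assoc, ← morphismRestrict_ι, Category.assoc, hM, hm]

end General

variable {X Y : Scheme.{u}} {G : Type u} [Group G] [Finite G] (ρ : G →* Aut X) (p : X ⟶ Y)

theorem main (hp : SGA1.IsQuot ρ p) (Z : Scheme.{u}) (h : X ⟶ Z) (hh : ∀ g : G, (ρ g).hom ≫ h = h) :
    ∃! h' : Y ⟶ Z, p ≫ h' = h := by
  obtain ⟨hs, horb, hq⟩ := H5S2908.main ρ p hp
  have hsat : ∀ x y : X, p.base x = p.base y → h.base x = h.base y := by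
    intro x y hxy
    obtain ⟨g, rfl⟩ := (horb x y).mp hxy
    rw [← Scheme.Hom.comp_apply, hh g]
  obtain ⟨M, hM⟩ := exists_desc p h hsat hq hp.injective (fun W' U hle r => by
    rw [hp.range_iff U]
    intro g
    have : h.appLE W' (p ⁻¹ᵁ U) hle ≫
        (ρ g).hom.appLE (p ⁻¹ᵁ U) (p ⁻¹ᵁ U) (SGA1.preimage_le_of_inv ρ p hp.inv g U) =
        h.appLE W' (p ⁻¹ᵁ U) hle := by
      rw [Scheme.Hom.appLE_comp_appLE]
      simp only [hh g]
    exact congrArg (fun f => f.hom r) this)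
  refine ⟨M, hM, fun M' hM' => ?_⟩
  apply H5S2914.epi_of_surj_inj p hs hp.injective
  rw [hM, hM']

end H5S2925

/-- Let a finite group G act on a scheme X and let p : X ⟶ Y be a quotient of X by G. Then every
G-invariant morphism X ⟶ Z factors uniquely through p. -/
theorem result {X Y : Scheme.{u}} {G : Type u} [Group G] [Finite G] (ρ : G →* Aut X)
    (p : X ⟶ Y) (hp : SGA1.IsQuot ρ p) (Z : Scheme.{u}) (h : X ⟶ Z) (hh : ∀ g : G, (ρ g).hom ≫ h = h) :
    ∃! h' : Y ⟶ Z, p ≫ h' = h := by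
  exact H5S2925.main ρ p hp Z h hh

end Groth.Agent.S2925
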