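import Groth.Statements.S11427
import Mathlib
import Groth.Agent.S2914
import Groth.Agent.S2925
-- import your own Groth.Agent.* helpers here

set_option autoImplicit false
universe u
open CategoryTheory MonoidalCategory CartesianMonoidalCategory MonObj GrpObj AlgebraicGeometry Topology
open GIT

namespace Groth.Agent.S11427

open CategoryTheory CategoryTheory.Limits AlgebraicGeometry Opposite TopologicalSpace
open Groth.Agent.S2914 Groth.Agent.S2925

namespace H5S11427

open MonoidalCategory CartesianMonoidalCategory MonObj GrpObj Topology in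
theorem catQuot (S : Scheme.{u}) (G X Y : Over S) [GrpObj G] (a : AlgGrp.Action G X)
    (φ : X ⟶ Y) (h : GIT.IsGeomQuot a φ) : GIT.IsCatQuot a φ := by
  have hq : IsQuotientMap φ.left.base := h.subm _ _ _ IsPullback.of_id_snd
  have hinj : ∀ U : Y.left.Opens, Function.Injective (φ.left.app U).hom := fun U => (h.sections U).1
  refine ⟨h.inv, fun Z ψ hψ => ?_⟩
  have hψpt : ∀ z, ψ.left.base (a.act.left.base z) = ψ.left.base ((snd G X).left.base z) := by
    intro z
    have := congrArg (fun f => f.base z) hψ.left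
    simpa using this
  have hsat : ∀ x y : X.left, φ.left.base x = φ.left.base y → ψ.left.base x = ψ.left.base y := by
    intro x y hxy
    obtain ⟨z, hz1, hz2⟩ := Scheme.Pullback.exists_preimage_pullback (f := φ.left) (g := φ.left) x y hxy
    obtain ⟨w, rfl⟩ := h.orbit z
    have e1 : (pullback.fst φ.left φ.left).base ((GIT.PsiY a φ h.inv).base w) = a.act.left.base w :=
      congrArg (fun f : (G ⊗ X).left ⟶ X.left => f.base w)
        (pullback.lift_fst a.act.left (snd G X).left h.inv.left)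
    have e2 : (pullback.snd φ.left φ.left).base ((GIT.PsiY a φ h.inv).base w) =
        (snd G X).left.base w :=
      congrArg (fun f : (G ⊗ X).left ⟶ X.left => f.base w)
        (pullback.lift_snd a.act.left (snd G X).left h.inv.left)
    rw [← hz1, ← hz2, e1, e2, hψpt]
  obtain ⟨M, hM⟩ := H5S2925.exists_desc φ.left ψ.left hsat hq hinj
    (fun W' U hle r => by
      have hr : Set.range (φ.left.app U).hom = {f | GIT.IsInvSection a φ U f} := (h.sections U).2
      rw [hr]
      change GIT.IsInvSection a φ U _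
      unfold GIT.IsInvSection
      have e1 := Scheme.Hom.appLE_comp_appLE a.act.left ψ.left W' (φ.left ⁻¹ᵁ U)
        (a.act.left ⁻¹ᵁ (φ.left ⁻¹ᵁ U) ⊓ (snd G X).left ⁻¹ᵁ (φ.left ⁻¹ᵁ U)) hle inf_le_left
      have e2 := Scheme.Hom.appLE_comp_appLE (snd G X).left ψ.left W' (φ.left ⁻¹ᵁ U)
        (a.act.left ⁻¹ᵁ (φ.left ⁻¹ᵁ U) ⊓ (snd G X).left ⁻¹ᵁ (φ.left ⁻¹ᵁ U)) hle inf_le_right
      have e3 : ψ.left.appLE W' (φ.left ⁻¹ᵁ U) hle ≫ a.act.left.appLE (φ.left ⁻¹ᵁ U)
          (a.act.left ⁻¹ᵁ (φ.left ⁻¹ᵁ U) ⊓ (snd G X).left ⁻¹ᵁ (φ.left ⁻¹ᵁ U)) inf_le_left =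
          ψ.left.appLE W' (φ.left ⁻¹ᵁ U) hle ≫ (snd G X).left.appLE (φ.left ⁻¹ᵁ U)
          (a.act.left ⁻¹ᵁ (φ.left ⁻¹ᵁ U) ⊓ (snd G X).left ⁻¹ᵁ (φ.left ⁻¹ᵁ U)) inf_le_right := by
        rw [e1, e2]
        simp only [hψ.left]
      exact congrArg (fun f => f.hom r) e3)
  have hMS : M ≫ Z.hom = Y.hom := by
    apply H5S2914.epi_of_surj_inj φ.left h.surj hinj
    rw [← Category.assoc, hM, Over.w ψ, Over.w φ]
  refine ⟨Over.homMk M hMS, ?_, ?_⟩
  · ext
    exact hM
  · intro χ hχ
    ext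
    apply H5S2914.epi_of_surj_inj φ.left h.surj hinj
    change φ.left ≫ χ.left = φ.left ≫ M
    rw [hM, ← Over.comp_left, hχ]

open MonoidalCategory CartesianMonoidalCategory MonObj GrpObj Topology in
theorem main (S : Scheme.{u}) (G X Y : Over S) [GrpObj G] (a : AlgGrp.Action G X)
    (φ : X ⟶ Y) (h : GIT.IsGeomQuot a φ) :
    GIT.IsCatQuot a φ ∧ (GIT.IsUnivGeomQuot a φ → GIT.IsUnivCatQuot a φ) := by
  refine ⟨catQuot S G X Y a φ h, fun hu => ⟨catQuot S G X Y a φ h, ?_⟩⟩
  intro X' Y' pr φ' g hQ hpb a' ha' hinv'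
  exact catQuot S G X' Y' a' φ' (hu.2 pr φ' g hQ hpb a' ha' hinv')

end H5S11427

/-- A geometric quotient of X by G is a categorical quotient, and a universal geometric quotient is a
universal categorical quotient. -/
theorem result (S : Scheme.{u}) (G X Y : Over S) [GrpObj G] (a : AlgGrp.Action G X)
    (φ : X ⟶ Y) (h : GIT.IsGeomQuot a φ) :
    GIT.IsCatQuot a φ ∧ (GIT.IsUnivGeomQuot a φ → GIT.IsUnivCatQuot a φ) := by
  exact H5S11427.main S G X Y a φ h

end Groth.Agent.S11427
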