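import Groth.Statements.S11428
import Mathlib

set_option autoImplicit false
universe u
open CategoryTheory MonoidalCategory CartesianMonoidalCategory MonObj GrpObj AlgebraicGeometry Topology
open GIT

namespace Groth.Agent.S11428
open CategoryTheory MonoidalCategory CartesianMonoidalCategory MonObj AlgebraicGeometry Topology Limits

section helpers



instance qcomp : (topologically @IsQuotientMap).IsStableUnderComposition :=
  topologically_isStableUnderComposition _ (fun _ _ hf hg => hg.comp hf)

lemma sep_iff {Y S : Scheme.{u}} (y : Y ⟶ S) :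
    IsSeparated y ↔ IsClosed (Set.range (pullback.diagonal y).base) := by
  constructor
  · intro h
    exact (pullback.diagonal y).isClosedEmbedding.isClosed_range
  · intro h
    exact ⟨IsClosedImmersion.of_isPreimmersion _ h⟩

lemma core {X Y S Γ : Scheme.{u}} (φ : X ⟶ Y) (y : Y ⟶ S)
    (hφ : GIT.IsUnivSubmersive φ)
    (ψY : Γ ⟶ pullback φ φ) (hψY : Function.Surjective ψY.base)
    (ψ : Γ ⟶ pullback (φ ≫ y) (φ ≫ y))
    (h1 : ψ ≫ pullback.fst _ _ = ψY ≫ pullback.fst _ _)
    (h2 : ψ ≫ pullback.snd _ _ = ψY ≫ pullback.snd _ _) :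
    IsSeparated y ↔ IsClosed (Set.range ψ.base) := by
  rw [sep_iff]
  have sq := pullback_map_diagonal_isPullback φ φ y
  set jj := pullback.map φ φ (φ ≫ y) (φ ≫ y) (𝟙 X) (𝟙 X) y (Category.id_comp _).symm
    (Category.id_comp _).symm with hjj
  set Φ := pullback.map (φ ≫ y) (φ ≫ y) y y φ φ (𝟙 S) (Category.comp_id _) (Category.comp_id _)
    with hΦ
  have hψ : ψ = ψY ≫ jj := by
    apply pullback.hom_ext
    · rw [h1, Category.assoc, hjj, pullback.lift_fst, Category.comp_id]
    · rw [h2, Category.assoc, hjj, pullback.lift_snd, Category.comp_id]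
  have hr : Set.range ψ.base = Set.range jj.base := by
    rw [hψ, Scheme.Hom.comp_base, TopCat.coe_comp, Set.range_comp, Set.range_eq_univ.mpr hψY,
      Set.image_univ]
  have hr2 : Set.range jj.base = Φ.base ⁻¹' Set.range (pullback.diagonal y).base := by
    have e : jj = sq.isoPullback.hom ≫ pullback.snd _ _ := by simp
    rw [e, Scheme.Hom.comp_base, TopCat.coe_comp, Set.range_comp,
      Set.range_eq_univ.mpr (sq.isoPullback.hom.surjective), Set.image_univ,
      Scheme.Pullback.range_snd]
  have hΦq : IsQuotientMap Φ.base := by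
    have : (MorphismProperty.universally (topologically @IsQuotientMap)) Φ :=
      MorphismProperty.pullbackMap (P := MorphismProperty.universally (topologically @IsQuotientMap))
        hφ hφ rfl rfl
    exact MorphismProperty.universally_le _ _ this
  rw [hr, hr2, hΦq.isClosed_preimage]

lemma core' {X Y S Γ : Scheme.{u}} (φ : X ⟶ Y) (y : Y ⟶ S) (x : X ⟶ S) (hx : φ ≫ y = x)
    (hφ : GIT.IsUnivSubmersive φ)
    (ψY : Γ ⟶ pullback φ φ) (hψY : Function.Surjective ψY.base)
    (ψ : Γ ⟶ pullback x x)
    (h1 : ψ ≫ pullback.fst _ _ = ψY ≫ pullback.fst _ _)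
    (h2 : ψ ≫ pullback.snd _ _ = ψY ≫ pullback.snd _ _) :
    IsSeparated y ↔ IsClosed (Set.range ψ.base) := by
  subst hx
  exact core φ y hφ ψY hψY ψ h1 h2



end helpers

/-- If (Y, φ) is a geometric quotient of X by G over S, then Y is separated over S exactly when the
action is separated, i.e. the image of (σ, p₂) : G ×_S X → X ×_S X is closed. -/
theorem result (S : Scheme.{u}) (G X Y : Over S) [GrpObj G]
    (a : AlgGrp.Action G X) (φ : X ⟶ Y) (h : GIT.IsGeomQuot a φ) :
    IsSeparated Y.hom ↔ IsClosed (Set.range (GIT.psi a (𝟙 X)).left.base) := by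
  refine core' φ.left Y.hom X.hom (Over.w φ) h.subm (GIT.PsiY a φ h.inv) h.orbit
    (GIT.psi a (𝟙 X)).left ?_ ?_
  · have e1 : (GIT.psi a (𝟙 X)).left ≫ pullback.fst X.hom X.hom = a.act.left := by
      have : GIT.psi a (𝟙 X) ≫ fst X X = a.act := by
        simp [GIT.psi]
      have := congrArg CommaMorphism.left this
      exact this
    rw [e1, GIT.PsiY, pullback.lift_fst]
  · have e2 : (GIT.psi a (𝟙 X)).left ≫ pullback.snd X.hom X.hom = (snd G X).left := by
      have : GIT.psi a (𝟙 X) ≫ snd X X = snd G X := by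
        simp [GIT.psi]
      have := congrArg CommaMorphism.left this
      exact this
    rw [e2, GIT.PsiY, pullback.lift_snd]

end Groth.Agent.S11428
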