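import Groth.Statements.S11441
import Mathlib

set_option autoImplicit false
universe u
open CategoryTheory MonoidalCategory CartesianMonoidalCategory MonObj GrpObj AlgebraicGeometry Topology
open GIT

namespace Groth.Agent.S11441
open CategoryTheory MonoidalCategory CartesianMonoidalCategory MonObj AlgebraicGeometry Topology Limits

section helpers



lemma section_closed {T Z : Scheme.{u}} (π : Z ⟶ T) (s : T ⟶ Z) (hs : s ≫ π = 𝟙 T) [IsAffine T]
    [Subsingleton T] : IsClosed (Set.range s.base) := by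
  rw [(TopologicalSpace.IsOpenCover.mk (iSup_affineOpens_eq_top Z)).isClosed_iff_coe_preimage]
  intro U
  by_cases h : Set.range s.base ⊆ (U.1 : Set Z)
  · have : IsAffine U.1 := U.2
    let s' : T ⟶ U.1 := IsOpenImmersion.lift U.1.ι s (by simpa using h)
    have hs' : s' ≫ U.1.ι = s := IsOpenImmersion.lift_fac _ _ _
    have : IsClosedImmersion s' := by
      have : IsClosedImmersion (s' ≫ (U.1.ι ≫ π)) := by
        rw [← Category.assoc, hs', hs]; infer_instance
      exact IsClosedImmersion.of_comp s' (U.1.ι ≫ π)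
    have e : ((Subtype.val : (U.1 : Z.Opens) → Z) ⁻¹' Set.range s.base) = Set.range s'.base := by
      ext z
      simp only [Set.mem_preimage, Set.mem_range]
      constructor
      · rintro ⟨t, ht⟩
        refine ⟨t, ?_⟩
        apply Subtype.ext
        rw [← ht, ← hs']
        rfl
      · rintro ⟨t, ht⟩
        refine ⟨t, ?_⟩
        rw [← ht, ← hs']
        rfl
    rw [e]
    exact s'.isClosedEmbedding.isClosed_range
  · convert isClosed_empty
    rw [Set.eq_empty_iff_forall_notMem]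
    rintro z ⟨t, ht⟩
    apply h
    rintro _ ⟨t', rfl⟩
    rw [Subsingleton.elim t' t, ht]
    exact z.2

lemma orbit_closed {S X Y Γ T ΓT : Scheme.{u}} (y : Y ⟶ S)
    (φ : X ⟶ Y) (f : T ⟶ X)
    (σ p : Γ ⟶ X) (hinv : σ ≫ φ = p ≫ φ)
    (hsurj : Function.Surjective (pullback.lift σ p hinv).base)
    (q : ΓT ⟶ Γ) (r : ΓT ⟶ T) (hpb : IsPullback q r p f)
    (ψ : ΓT ⟶ pullback (φ ≫ y) (f ≫ φ ≫ y)) (h1 : ψ ≫ pullback.fst _ _ = q ≫ σ)
    (h2 : ψ ≫ pullback.snd _ _ = r)
    [IsAffine T] [Subsingleton T] :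
    IsClosed (Set.range ψ.base) := by
  -- the fibre of φ over the T-point
  let m : pullback φ (f ≫ φ) ⟶ pullback φ φ :=
    pullback.lift (pullback.fst _ _) (pullback.snd _ _ ≫ f)
      (by rw [pullback.condition, Category.assoc])
  have sqR : IsPullback m (pullback.snd φ (f ≫ φ)) (pullback.snd φ φ) f := by
    refine IsPullback.of_right (h₁₂ := pullback.fst φ φ) (h₂₂ := φ) (v₁₃ := φ) ?_ ?_
      (IsPullback.of_hasPullback φ φ)
    · have : m ≫ pullback.fst φ φ = pullback.fst φ (f ≫ φ) := pullback.lift_fst _ _ _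
      rw [this]
      exact IsPullback.of_hasPullback φ (f ≫ φ)
    · exact pullback.lift_snd _ _ _
  let ρ : ΓT ⟶ pullback φ (f ≫ φ) := pullback.lift (q ≫ σ) r
    (by rw [Category.assoc, hinv, ← Category.assoc, hpb.w, Category.assoc])
  have sqL : IsPullback ρ q m (pullback.lift σ p hinv) := by
    refine IsPullback.of_right (h₁₂ := pullback.snd φ (f ≫ φ)) (h₂₂ := pullback.snd φ φ)
      (v₁₃ := f) ?_ ?_ sqR.flip
    · have e1 : ρ ≫ pullback.snd φ (f ≫ φ) = r := pullback.lift_snd _ _ _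
      have e2 : pullback.lift σ p hinv ≫ pullback.snd φ φ = p := pullback.lift_snd _ _ _
      rw [e1, e2]
      exact hpb.flip
    · have hm1 : m ≫ pullback.fst φ φ = pullback.fst φ (f ≫ φ) := pullback.lift_fst _ _ _
      have hm2 : m ≫ pullback.snd φ φ = pullback.snd φ (f ≫ φ) ≫ f := pullback.lift_snd _ _ _
      have hρ1 : ρ ≫ pullback.fst φ (f ≫ φ) = q ≫ σ := pullback.lift_fst _ _ _
      have hρ2 : ρ ≫ pullback.snd φ (f ≫ φ) = r := pullback.lift_snd _ _ _
      apply pullback.hom_ext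
      · rw [Category.assoc, hm1, hρ1, Category.assoc, pullback.lift_fst]
      · rw [Category.assoc, hm2, ← Category.assoc, hρ2, Category.assoc, pullback.lift_snd, hpb.w]
  have hρ : Function.Surjective ρ.base := by
    have h0 : Surjective (pullback.lift σ p hinv) := ⟨hsurj⟩
    have : Surjective ρ := MorphismProperty.of_isPullback (P := @Surjective) sqL.flip h0
    exact this.surj
  -- the section
  let s : T ⟶ pullback y (f ≫ φ ≫ y) := pullback.lift (f ≫ φ) (𝟙 T) (by simp)
  have hs : s ≫ pullback.snd _ _ = 𝟙 T := pullback.lift_snd _ _ _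
  have hsc : IsClosed (Set.range s.base) := section_closed (pullback.snd _ _) s hs
  let φT : pullback (φ ≫ y) (f ≫ φ ≫ y) ⟶ pullback y (f ≫ φ ≫ y) :=
    pullback.map _ _ _ _ φ (𝟙 T) (𝟙 S) (by simp) (by simp)
  let jT : pullback φ (f ≫ φ) ⟶ pullback (φ ≫ y) (f ≫ φ ≫ y) :=
    pullback.lift (pullback.fst _ _) (pullback.snd _ _)
      (by rw [← Category.assoc, pullback.condition]; simp)
  have hφT1 : φT ≫ pullback.fst y (f ≫ φ ≫ y) = pullback.fst (φ ≫ y) (f ≫ φ ≫ y) ≫ φ :=
    pullback.lift_fst _ _ _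
  have hφT2 : φT ≫ pullback.snd y (f ≫ φ ≫ y) = pullback.snd (φ ≫ y) (f ≫ φ ≫ y) := by
    have : φT ≫ pullback.snd y (f ≫ φ ≫ y) = pullback.snd (φ ≫ y) (f ≫ φ ≫ y) ≫ 𝟙 T :=
      pullback.lift_snd _ _ _
    rw [this, Category.comp_id]
  have hj1 : jT ≫ pullback.fst (φ ≫ y) (f ≫ φ ≫ y) = pullback.fst φ (f ≫ φ) :=
    pullback.lift_fst _ _ _
  have hj2 : jT ≫ pullback.snd (φ ≫ y) (f ≫ φ ≫ y) = pullback.snd φ (f ≫ φ) :=
    pullback.lift_snd _ _ _
  have hs1 : s ≫ pullback.fst y (f ≫ φ ≫ y) = f ≫ φ := pullback.lift_fst _ _ _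
  have hρ1 : ρ ≫ pullback.fst φ (f ≫ φ) = q ≫ σ := pullback.lift_fst _ _ _
  have hρ2 : ρ ≫ pullback.snd φ (f ≫ φ) = r := pullback.lift_snd _ _ _
  have sqT : IsPullback (pullback.fst (φ ≫ y) (f ≫ φ ≫ y)) φT φ (pullback.fst y (f ≫ φ ≫ y)) := by
    refine IsPullback.of_bot (v₂₁ := pullback.snd y (f ≫ φ ≫ y)) (v₂₂ := y) (h₃₁ := f ≫ φ ≫ y)
      ?_ ?_ (IsPullback.of_hasPullback y (f ≫ φ ≫ y))
    · rw [hφT2]
      exact (IsPullback.of_hasPullback (φ ≫ y) (f ≫ φ ≫ y))
    · rw [hφT1]
  have sqS : IsPullback jT (pullback.snd φ (f ≫ φ)) φT s := by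
    refine IsPullback.of_right (h₁₂ := pullback.fst (φ ≫ y) (f ≫ φ ≫ y))
      (h₂₂ := pullback.fst y (f ≫ φ ≫ y)) (v₁₃ := φ) ?_ ?_ sqT
    · rw [hj1, hs1]
      exact IsPullback.of_hasPullback φ (f ≫ φ)
    · apply pullback.hom_ext
      · rw [Category.assoc, hφT1, ← Category.assoc, hj1, Category.assoc, hs1, pullback.condition]
      · rw [Category.assoc, hφT2, hj2, Category.assoc, hs, Category.comp_id]
  have hψ : ψ = ρ ≫ jT := by
    apply pullback.hom_ext
    · rw [h1, Category.assoc, hj1, hρ1]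
    · rw [h2, Category.assoc, hj2, hρ2]
  have hr : Set.range ψ.base = φT.base ⁻¹' Set.range s.base := by
    rw [hψ, Scheme.Hom.comp_base, TopCat.coe_comp, Set.range_comp, Set.range_eq_univ.mpr hρ,
      Set.image_univ]
    have e : jT = sqS.isoPullback.hom ≫ pullback.fst _ _ := by simp
    rw [e, Scheme.Hom.comp_base, TopCat.coe_comp, Set.range_comp,
      Set.range_eq_univ.mpr (sqS.isoPullback.hom.surjective), Set.image_univ,
      Scheme.Pullback.range_fst]
  rw [hr]
  exact hsc.preimage φT.continuous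

lemma orbit_closed' {S X Y Γ T ΓT : Scheme.{u}} (y : Y ⟶ S) (x : X ⟶ S) (t : T ⟶ S)
    (φ : X ⟶ Y) (hx : φ ≫ y = x) (f : T ⟶ X) (ht : f ≫ x = t)
    (σ p : Γ ⟶ X) (hinv : σ ≫ φ = p ≫ φ)
    (hsurj : Function.Surjective (pullback.lift σ p hinv).base)
    (q : ΓT ⟶ Γ) (r : ΓT ⟶ T) (hpb : IsPullback q r p f)
    (ψ : ΓT ⟶ pullback x t) (h1 : ψ ≫ pullback.fst _ _ = q ≫ σ)
    (h2 : ψ ≫ pullback.snd _ _ = r)
    [IsAffine T] [Subsingleton T] :
    IsClosed (Set.range ψ.base) := by
  subst hx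
  subst ht
  exact orbit_closed y φ f σ p hinv hsurj q r hpb ψ h1 h2



end helpers

/-- If a geometric quotient of X by G over S exists, then the action of G on X is closed (orbits of
geometric points are closed in the geometric fibres). -/
theorem result (S : Scheme.{u}) (G X Y : Over S) [GrpObj G]
    (a : AlgGrp.Action G X) (φ : X ⟶ Y) (h : GIT.IsGeomQuot a φ) : GIT.IsClosedAction a := by
  intro Ω _ _ T e f
  have : IsAffine T.left := IsAffine.of_isIso e.hom
  have : Subsingleton T.left := by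
    have hinj : Function.Injective e.hom.base := e.hom.isOpenEmbedding.injective
    have : Subsingleton (Spec (CommRingCat.of Ω)) :=
      (inferInstance : Subsingleton (PrimeSpectrum Ω))
    exact hinj.subsingleton
  have hpb : IsPullback (G ◁ f).left (snd G T).left (snd G X).left f.left := by
    have e1 : (G ◁ f).left ≫ pullback.fst G.hom X.hom = pullback.fst G.hom T.hom := by
      have : (G ◁ f) ≫ fst G X = fst G T := whiskerLeft_fst _ _
      exact congrArg CommaMorphism.left this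
    have e2 : (G ◁ f).left ≫ (snd G X).left = (snd G T).left ≫ f.left := by
      have : (G ◁ f) ≫ snd G X = snd G T ≫ f := whiskerLeft_snd _ _
      exact congrArg CommaMorphism.left this
    refine IsPullback.of_right (h₁₂ := pullback.fst G.hom X.hom) (h₂₂ := X.hom) (v₁₃ := G.hom)
      ?_ e2 (IsPullback.of_hasPullback G.hom X.hom)
    rw [e1, Over.w f]
    exact IsPullback.of_hasPullback G.hom T.hom
  refine orbit_closed' Y.hom X.hom T.hom φ.left (Over.w φ) f.left (Over.w f) a.act.left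
    (snd G X).left h.inv.left h.orbit (G ◁ f).left (snd G T).left hpb (GIT.psi a f).left ?_ ?_
  · have : GIT.psi a f ≫ fst X T = (G ◁ f) ≫ a.act := by
      simp [GIT.psi]
    exact congrArg CommaMorphism.left this
  · have : GIT.psi a f ≫ snd X T = snd G T := by
      simp [GIT.psi]
    exact congrArg CommaMorphism.left this

end Groth.Agent.S11441
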