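import Groth.Statements.S11445
import Mathlib
import Groth.Agent.S2914
-- import your own Groth.Agent.* helpers here

set_option autoImplicit false
universe u
open CategoryTheory MonoidalCategory CartesianMonoidalCategory MonObj GrpObj AlgebraicGeometry Topology
open GIT

namespace Groth.Agent.S11445

open CategoryTheory CategoryTheory.Limits AlgebraicGeometry Opposite TopologicalSpace
open Groth.Agent.S2914

namespace H5S11445

section General

variable {S' S : Scheme.{u}} (g : S' ⟶ S) {W : Scheme.{u}} (e : S' ⟶ W)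

lemma local_m (hinj : ∀ U : S.Opens, Function.Injective (g.app U).hom)
    (U : S.Opens) (W' : W.Opens) (hW' : IsAffineOpen W') (hle : g ⁻¹ᵁ U ≤ e ⁻¹ᵁ W')
    (hrange : ∀ r : Γ(W, W'), (e.appLE W' (g ⁻¹ᵁ U) hle).hom r ∈ Set.range (g.app U).hom) :
    ∃ m : U.toScheme ⟶ W, (g ∣_ U) ≫ m = (g ⁻¹ᵁ U).ι ≫ e := by
  obtain ⟨φ, hφ⟩ := H5S2914.lift_inj (g.app U).hom (hinj U) (e.appLE W' (g ⁻¹ᵁ U) hle).hom hrange
  have hφ' : CommRingCat.ofHom φ ≫ g.app U = e.appLE W' (g ⁻¹ᵁ U) hle := by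
    ext x
    exact congrArg (fun f => f x) hφ
  refine ⟨U.toSpecΓ ≫ Spec.map (CommRingCat.ofHom φ) ≫ hW'.fromSpec, ?_⟩
  rw [← Category.assoc, ← Scheme.Opens.toSpecΓ_naturality, Category.assoc, ← Category.assoc (Spec.map _),
    ← Spec.map_comp, hφ', ← Category.assoc, Scheme.Opens.toSpecΓ_SpecMap_appLE, Category.assoc,
    IsAffineOpen.toSpecΓ_fromSpec, Scheme.Hom.resLE_comp_ι]

theorem exists_desc' (hs : Function.Surjective g.base)
    (hinj : ∀ U : S.Opens, Function.Injective (g.app U).hom)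
    {J : Type u} (U : J → S.Opens) (W' : J → W.Opens) (hW' : ∀ i, IsAffineOpen (W' i))
    (hle : ∀ i, g ⁻¹ᵁ (U i) ≤ e ⁻¹ᵁ (W' i)) (hU : IsOpenCover U)
    (hrange : ∀ i (r : Γ(W, W' i)),
      (e.appLE (W' i) (g ⁻¹ᵁ (U i)) (hle i)).hom r ∈ Set.range (g.app (U i)).hom) :
    ∃ M : S ⟶ W, g ≫ M = e := by
  have hU' : IsOpenCover (fun i => g ⁻¹ᵁ U i) := by
    rw [IsOpenCover, eq_top_iff]
    intro s' _
    have : g.base s' ∈ ⨆ i, U i := by rw [hU]; trivial
    rw [Opens.mem_iSup] at this ⊢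
    exact this
  choose m hm using fun i : J => local_m g e hinj (U i) (W' i) (hW' i) (hle i) (hrange i)
  have key : ∀ (i : J) (Q : S.Opens) (h : Q ≤ U i),
      (g ∣_ Q) ≫ S.homOfLE h ≫ m i = (g ⁻¹ᵁ Q).ι ≫ e := by
    intro i Q h
    rw [← Category.assoc, H5S2914.restrict_homOfLE, Category.assoc, hm, ← Category.assoc,
      Scheme.homOfLE_ι]
  obtain ⟨M, hM⟩ := H5S2914.glue_opens U hU m (fun i j => by
    apply H5S2914.epi_restrict g hs hinj (U i ⊓ U j)
    rw [key i _ inf_le_left, key j _ inf_le_right])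
  refine ⟨M, ?_⟩
  refine (S'.openCoverOfIsOpenCover (fun i => g ⁻¹ᵁ U i) hU').hom_ext _ _ fun i => ?_
  change (g ⁻¹ᵁ U i).ι ≫ g ≫ M = (g ⁻¹ᵁ U i).ι ≫ e
  rw [← Category.assoc, ← morphismRestrict_ι, Category.assoc, hM, hm]

end General


open MonoidalCategory CartesianMonoidalCategory MonObj GrpObj Topology in
theorem main (S : Scheme.{u}) (G X Y : Over S) [GrpObj G]
    (a : AlgGrp.Action G X) (φ : X ⟶ Y) (hi : GIT.IsInvariant a φ)
    (hii : ∀ U : Y.left.Opens,
      Function.Injective (φ.left.app U) ∧ Set.range (φ.left.app U) = {f | GIT.IsInvSection a φ U f})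
    (hiii : ∀ W : Set X.left, IsClosed W → a.act.left.base '' ((snd G X).left.base ⁻¹' W) ⊆ W →
      IsClosed (φ.left.base '' W))
    (hiii' : ∀ (J : Type u) (W : J → Set X.left),
      (∀ i, IsClosed (W i) ∧ a.act.left.base '' ((snd G X).left.base ⁻¹' W i) ⊆ W i) →
      φ.left.base '' (⋂ i, W i) = ⋂ i, φ.left.base '' W i) :
    GIT.IsCatQuot a φ ∧ IsQuotientMap φ.left.base := by
  have hsurj : Function.Surjective φ.left.base := by
    have h0 := hiii' PEmpty (fun i => i.elim) (fun i => i.elim)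
    simp only [Set.iInter_of_empty, Set.image_univ] at h0
    exact Set.range_eq_univ.mp h0
  have hinj : ∀ U : Y.left.Opens, Function.Injective (φ.left.app U).hom := fun U => (hii U).1
  have hpt : ∀ z, φ.left.base (a.act.left.base z) = φ.left.base ((snd G X).left.base z) := by
    intro z
    have := congrArg (fun f => f.base z) hi.left
    simpa using this
  refine ⟨⟨hi, fun Z ψ hψ => ?_⟩, ?_⟩
  · have hψpt : ∀ z, ψ.left.base (a.act.left.base z) = ψ.left.base ((snd G X).left.base z) := by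
      intro z
      have := congrArg (fun f => f.base z) hψ.left
      simpa using this
    let Wc : Z.left.affineOpens → Set X.left := fun V => ((ψ.left ⁻¹ᵁ V.1 : X.left.Opens) : Set X.left)ᶜ
    have hWc : ∀ V, IsClosed (Wc V) ∧ a.act.left.base '' ((snd G X).left.base ⁻¹' Wc V) ⊆ Wc V := by
      intro V
      refine ⟨(ψ.left ⁻¹ᵁ V.1).isOpen.isClosed_compl, ?_⟩
      rintro _ ⟨z, hz, rfl⟩ hn
      apply hz
      change ψ.left.base _ ∈ V.1
      rw [← hψpt]; exact hn
    let U : Z.left.affineOpens → Y.left.Opens := fun V =>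
      ⟨(φ.left.base '' Wc V)ᶜ, (hiii _ (hWc V).1 (hWc V).2).isOpen_compl⟩
    have hle : ∀ V, φ.left ⁻¹ᵁ (U V) ≤ ψ.left ⁻¹ᵁ V.1 := by
      intro V x hx
      by_contra hn
      exact hx ⟨x, hn, rfl⟩
    have hU : IsOpenCover U := by
      rw [IsOpenCover, eq_top_iff]
      intro y _
      have h1 := hiii' Z.left.affineOpens Wc hWc
      have h2 : (⋂ V, Wc V) = ∅ := by
        ext x
        simp only [Set.mem_iInter, Set.mem_empty_iff_false, iff_false, not_forall]
        obtain ⟨V, hV, hxV, -⟩ := Opens.isBasis_iff_nbhd.mp Z.left.isBasis_affineOpens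
          (show ψ.left.base x ∈ (⊤ : Z.left.Opens) from trivial)
        exact ⟨⟨V, hV⟩, fun hc => hc hxV⟩
      rw [h2, Set.image_empty] at h1
      have h3 : y ∉ ⋂ V, φ.left.base '' Wc V := by rw [← h1]; exact Set.notMem_empty y
      simp only [Set.mem_iInter, not_forall] at h3
      obtain ⟨V, hV⟩ := h3
      rw [Opens.mem_iSup]
      exact ⟨V, hV⟩
    obtain ⟨M, hM⟩ := exists_desc' φ.left ψ.left hsurj hinj U (fun V => V.1) (fun V => V.2) hle hU
      (fun V r => by
        have hr : Set.range (φ.left.app (U V)).hom = {f | GIT.IsInvSection a φ (U V) f} := (hii (U V)).2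
        rw [hr]
        change GIT.IsInvSection a φ (U V) _
        unfold GIT.IsInvSection
        have e1 := Scheme.Hom.appLE_comp_appLE a.act.left ψ.left V.1 (φ.left ⁻¹ᵁ U V)
          (a.act.left ⁻¹ᵁ (φ.left ⁻¹ᵁ U V) ⊓ (snd G X).left ⁻¹ᵁ (φ.left ⁻¹ᵁ U V)) (hle V) inf_le_left
        have e2 := Scheme.Hom.appLE_comp_appLE (snd G X).left ψ.left V.1 (φ.left ⁻¹ᵁ U V)
          (a.act.left ⁻¹ᵁ (φ.left ⁻¹ᵁ U V) ⊓ (snd G X).left ⁻¹ᵁ (φ.left ⁻¹ᵁ U V)) (hle V) inf_le_right
        have e3 : ψ.left.appLE V.1 (φ.left ⁻¹ᵁ U V) (hle V) ≫ a.act.left.appLE (φ.left ⁻¹ᵁ U V)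
            (a.act.left ⁻¹ᵁ (φ.left ⁻¹ᵁ U V) ⊓ (snd G X).left ⁻¹ᵁ (φ.left ⁻¹ᵁ U V)) inf_le_left =
            ψ.left.appLE V.1 (φ.left ⁻¹ᵁ U V) (hle V) ≫ (snd G X).left.appLE (φ.left ⁻¹ᵁ U V)
            (a.act.left ⁻¹ᵁ (φ.left ⁻¹ᵁ U V) ⊓ (snd G X).left ⁻¹ᵁ (φ.left ⁻¹ᵁ U V)) inf_le_right := by
          rw [e1, e2]
          simp only [hψ.left]
        exact congrArg (fun f => f.hom r) e3)
    have hMS : M ≫ Z.hom = Y.hom := by
      apply H5S2914.epi_of_surj_inj φ.left hsurj hinj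
      rw [← Category.assoc, hM, Over.w ψ, Over.w φ]
    refine ⟨Over.homMk M hMS, ?_, ?_⟩
    · ext
      exact hM
    · intro χ hχ
      ext
      apply H5S2914.epi_of_surj_inj φ.left hsurj hinj
      change φ.left ≫ χ.left = φ.left ≫ M
      rw [hM, ← Over.comp_left, hχ]
  · rw [Topology.isQuotientMap_iff_isClosed]
    refine ⟨hsurj, fun s => ⟨fun hs => hs.preimage φ.left.continuous, fun hs => ?_⟩⟩
    have := hiii _ hs (by
      rintro _ ⟨z, hz, rfl⟩
      change φ.left.base _ ∈ s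
      rw [hpt]; exact hz)
    rwa [Set.image_preimage_eq _ hsurj] at this

end H5S11445

/-- Let G act on X over S and let φ : X → Y over S satisfy (i) φ ∘ σ = φ ∘ p₂, (ii) O_Y is the sheaf of
invariant functions (each Γ(U, O_Y) → Γ(φ⁻¹U, O_X) injective with image the invariant sections),
(iii) the image of every closed invariant subset of X is closed and φ(⋂ W_i) = ⋂ φ(W_i) for every
family of closed invariant subsets. Then (Y, φ) is a categorical quotient of X by G, and φ is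
submersive. -/
theorem result (S : Scheme.{u}) (G X Y : Over S) [GrpObj G]
    (a : AlgGrp.Action G X) (φ : X ⟶ Y) (hi : GIT.IsInvariant a φ)
    (hii : ∀ U : Y.left.Opens,
      Function.Injective (φ.left.app U) ∧ Set.range (φ.left.app U) = {f | GIT.IsInvSection a φ U f})
    (hiii : ∀ W : Set X.left, IsClosed W → a.act.left.base '' ((snd G X).left.base ⁻¹' W) ⊆ W →
      IsClosed (φ.left.base '' W))
    (hiii' : ∀ (J : Type u) (W : J → Set X.left),
      (∀ i, IsClosed (W i) ∧ a.act.left.base '' ((snd G X).left.base ⁻¹' W i) ⊆ W i) →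
      φ.left.base '' (⋂ i, W i) = ⋂ i, φ.left.base '' W i) :
    GIT.IsCatQuot a φ ∧ IsQuotientMap φ.left.base := by
  exact H5S11445.main S G X Y a φ hi hii hiii hiii'

end Groth.Agent.S11445
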