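import Groth.Statements.S11454
import Mathlib
import Groth.Agent.Lib.helper24.ArtinReg

set_option autoImplicit false
universe u
open DefT

namespace Groth.Agent.S11454



/-- Let C' be a local Artin ring, J ⊊ C' a proper ideal annihilated by the maximal ideal, C = C'/J, A' a
flat C'-algebra whose reduction modulo the maximal ideal of C' is a Cohen–Macaulay local ring, and A
= A'/JA'. If a'_1, …, a'_r ∈ A' have images in A forming a regular sequence with A/(a_1, …, a_r)
flat over C, then a'_1, …, a'_r is a regular sequence on A' and A'/(a'_1, …, a'_r) is flat over C'.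
(Regular sequences stand in for the exactness of the Koszul complexes in the published statement;
over a Noetherian local ring with the elements in the maximal ideal the two are equivalent.) -/
theorem result (C' : Type u) [CommRing C'] [IsLocalRing C'] [IsArtinianRing C'] (J : Ideal C')
    (hJ : IsLocalRing.maximalIdeal C' * J = ⊥) (hJne : J ≠ ⊤) (A' : Type u) [CommRing A'] [Algebra C' A'] [Module.Flat C' A']
    [LocCoh.IsCohenMacaulayLocalRing (A' ⧸ (IsLocalRing.maximalIdeal C').map (algebraMap C' A'))]
    (r : ℕ) (a' : Fin r → A')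
    (hreg : RingTheory.Sequence.IsRegular (A' ⧸ J.map (algebraMap C' A'))
      (List.ofFn (fun i => Ideal.Quotient.mk (J.map (algebraMap C' A')) (a' i))))
    [Module.Flat (C' ⧸ J) ((A' ⧸ J.map (algebraMap C' A')) ⧸
      Ideal.span (Set.range (fun i => Ideal.Quotient.mk (J.map (algebraMap C' A')) (a' i))))] :
    RingTheory.Sequence.IsRegular A' (List.ofFn a') ∧ Module.Flat C' (A' ⧸ Ideal.span (Set.range a')) := by
  have hnil : IsNilpotent (IsLocalRing.maximalIdeal C') := by
    rw [← IsLocalRing.jacobson_eq_maximalIdeal (⊥ : Ideal C') bot_ne_top]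
    exact IsArtinianRing.isNilpotent_jacobson_bot
  obtain ⟨JA, hJA⟩ : ∃ JA : Ideal A', JA = J.map (algebraMap C' A') := ⟨_, rfl⟩
  rw [← hJA] at hreg
  have hlist : List.ofFn (fun i => Ideal.Quotient.mk JA (a' i)) =
      (List.ofFn a').map (algebraMap A' (A' ⧸ JA)) := by
    rw [List.map_ofFn]
    rfl
  have hw : RingTheory.Sequence.IsWeaklyRegular (A' ⧸ JA) (List.ofFn a') := by
    have := hreg.toIsWeaklyRegular
    rw [hlist] at this
    exact (RingTheory.Sequence.isWeaklyRegular_map_algebraMap_iff (A' ⧸ JA) (A' ⧸ JA)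
      (List.ofFn a')).mp this
  have hker : ∀ x : A', (Submodule.mkQ JA) x = 0 ↔ x ∈ J • (⊤ : Submodule C' A') := by
    intro x
    rw [Submodule.mkQ_apply, Submodule.Quotient.mk_eq_zero, Ideal.smul_top_eq_map,
      Submodule.restrictScalars_mem, hJA]
  obtain ⟨h1, h2⟩ := Groth.Agent.Lib.helper24.ArtinReg.key hnil J hJne (List.ofFn a') A'
    (A' ⧸ JA) (Submodule.mkQ JA) (Submodule.mkQ_surjective _) hker hw
  have hof : Ideal.ofList (List.ofFn a') = Ideal.span (Set.range a') := by
    unfold Ideal.ofList
    congr 1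
    ext x
    simp [List.mem_ofFn]
  have hsm : (Ideal.ofList (List.ofFn a') • ⊤ : Submodule A' A') = Ideal.span (Set.range a') := by
    rw [hof, smul_eq_mul, Ideal.mul_top]
  refine ⟨⟨h1, ?_⟩, ?_⟩
  · intro htop
    apply hreg.top_ne_smul
    rw [hsm, hof.symm] at htop
    have : Ideal.ofList ((List.ofFn a').map (Ideal.Quotient.mk JA)) = ⊤ := by
      rw [← Ideal.map_ofList, ← htop, Ideal.map_top]
    rw [hlist]
    show ⊤ = Ideal.ofList ((List.ofFn a').map (Ideal.Quotient.mk JA)) • ⊤
    rw [this, smul_eq_mul, Ideal.mul_top]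
  · exact Module.Flat.of_linearEquiv
      ((Submodule.quotEquivOfEq _ _ hsm).symm.restrictScalars C')

end Groth.Agent.S11454
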