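import Groth.Statements.S11455
import Mathlib
import Groth.Agent.Lib.helper24.ArtinReg2

set_option autoImplicit false
universe u
open DefT

namespace Groth.Agent.S11455



/-- Let C' be a local Artin ring, J ⊊ C' a proper ideal annihilated by the maximal ideal, C = C'/J, A' a
flat C'-algebra whose reduction modulo the maximal ideal of C' is a Cohen–Macaulay local ring, A =
A'/JA', and a_1, …, a_r a regular sequence on A with A/(a_1, …, a_r) flat over C. Then every ideal
I' of A' with A'/I' flat over C' and with image (a_1, …, a_r) in A is generated by some lifts a'_1,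
…, a'_r of the a_i. -/
theorem result (C' : Type u) [CommRing C'] [IsLocalRing C'] [IsArtinianRing C'] (J : Ideal C')
    (hJ : IsLocalRing.maximalIdeal C' * J = ⊥) (hJne : J ≠ ⊤) (A' : Type u) [CommRing A'] [Algebra C' A'] [Module.Flat C' A']
    [LocCoh.IsCohenMacaulayLocalRing (A' ⧸ (IsLocalRing.maximalIdeal C').map (algebraMap C' A'))]
    (r : ℕ) (a : Fin r → A' ⧸ J.map (algebraMap C' A'))
    (hreg : RingTheory.Sequence.IsRegular (A' ⧸ J.map (algebraMap C' A')) (List.ofFn a))
    [Module.Flat (C' ⧸ J) ((A' ⧸ J.map (algebraMap C' A')) ⧸ Ideal.span (Set.range a))]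
    (I' : Ideal A') [Module.Flat C' (A' ⧸ I')]
    (hI' : I'.map (Ideal.Quotient.mk (J.map (algebraMap C' A'))) = Ideal.span (Set.range a)) :
    ∃ a' : Fin r → A', (∀ i, Ideal.Quotient.mk (J.map (algebraMap C' A')) (a' i) = a i) ∧
      I' = Ideal.span (Set.range a') := by
  have hex : ∀ i, ∃ x ∈ I', Ideal.Quotient.mk (J.map (algebraMap C' A')) x = a i := by
    intro i
    have : a i ∈ I'.map (Ideal.Quotient.mk (J.map (algebraMap C' A'))) := by
      rw [hI']
      exact Ideal.subset_span ⟨i, rfl⟩
    exact (Ideal.mem_map_iff_of_surjective _ Ideal.Quotient.mk_surjective).mp this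
  choose a' ha'I ha' using hex
  refine ⟨a', ha', ?_⟩
  have h1 : Ideal.span (Set.range a') ≤ I' := by
    rw [Ideal.span_le]
    rintro _ ⟨i, rfl⟩
    exact ha'I i
  refine le_antisymm ?_ h1
  have hnil : IsNilpotent J := by
    refine ⟨2, ?_⟩
    rw [pow_two, Ideal.zero_eq_bot, eq_bot_iff, ← hJ]
    exact Ideal.mul_mono_left (IsLocalRing.le_maximalIdeal hJne)
  haveI : Module.Flat C' (A' ⧸ I'.restrictScalars C') :=
    Module.Flat.of_linearEquiv (Submodule.Quotient.restrictScalarsEquiv C' I')
  have h2 : I'.restrictScalars C' ≤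
      (Ideal.span (Set.range a')).restrictScalars C' ⊔ J • (⊤ : Submodule C' A') := by
    intro x hx
    have hx' : x ∈ I' := hx
    have : Ideal.Quotient.mk (J.map (algebraMap C' A')) x ∈ (Ideal.span (Set.range a')).map (Ideal.Quotient.mk (J.map (algebraMap C' A'))) := by
      rw [Ideal.map_span, ← Set.range_comp]
      have : (Ideal.Quotient.mk (J.map (algebraMap C' A'))) ∘ a' = a := funext ha'
      rw [this, ← hI']
      exact Ideal.mem_map_of_mem _ hx'
    obtain ⟨y, hy, hyx⟩ := (Ideal.mem_map_iff_of_surjective _ Ideal.Quotient.mk_surjective).mp this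
    have hxy : x - y ∈ J • (⊤ : Submodule C' A') := by
      rw [Ideal.smul_top_eq_map, Submodule.restrictScalars_mem, ← Ideal.Quotient.eq, hyx]
    rw [Submodule.mem_sup]
    exact ⟨y, hy, x - y, hxy, by abel⟩
  exact Groth.Agent.Lib.helper24.ArtinReg.le_of_le_sup_smul (I'.restrictScalars C')
    ((Ideal.span (Set.range a')).restrictScalars C') J hnil h1 h2

end Groth.Agent.S11455
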