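import Groth.Statements.S11456
import Mathlib
import Groth.Agent.Lib.helper24.ArtinReg2

set_option autoImplicit false
universe u
open DefT

namespace Groth.Agent.S11456



/-- Let C be a local Artin ring with maximal ideal m, A a flat C-algebra such that A₀ = A/mA is a
Cohen–Macaulay local ring, and I ⊆ A an ideal with A/I flat over C whose image in A₀ is generated by
a regular sequence b_1, …, b_r on A₀. Then I is generated by r elements a_1, …, a_r forming a
regular sequence on A (so the Koszul complex on the a_i resolves A/I). -/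
theorem result (C : Type u) [CommRing C]
    [IsLocalRing C] [IsArtinianRing C] (A : Type u) [CommRing A] [Algebra C A] [Module.Flat C A]
    [LocCoh.IsCohenMacaulayLocalRing (A ⧸ (IsLocalRing.maximalIdeal C).map (algebraMap C A))]
    (I : Ideal A) [Module.Flat C (A ⧸ I)] (r : ℕ)
    (b : Fin r → A ⧸ (IsLocalRing.maximalIdeal C).map (algebraMap C A))
    (hb : RingTheory.Sequence.IsRegular (A ⧸ (IsLocalRing.maximalIdeal C).map (algebraMap C A)) (List.ofFn b))
    (hI : I.map (Ideal.Quotient.mk ((IsLocalRing.maximalIdeal C).map (algebraMap C A))) = Ideal.span (Set.range b)) :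
    ∃ a : Fin r → A, RingTheory.Sequence.IsRegular A (List.ofFn a) ∧ I = Ideal.span (Set.range a) := by
  have hnil : IsNilpotent (IsLocalRing.maximalIdeal C) := by
    rw [← IsLocalRing.jacobson_eq_maximalIdeal (⊥ : Ideal C) bot_ne_top]
    exact IsArtinianRing.isNilpotent_jacobson_bot
  have hex : ∀ i, ∃ x ∈ I,
      Ideal.Quotient.mk ((IsLocalRing.maximalIdeal C).map (algebraMap C A)) x = b i := by
    intro i
    have : b i ∈ I.map (Ideal.Quotient.mk ((IsLocalRing.maximalIdeal C).map (algebraMap C A))) := by
      rw [hI]
      exact Ideal.subset_span ⟨i, rfl⟩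
    exact (Ideal.mem_map_iff_of_surjective _ Ideal.Quotient.mk_surjective).mp this
  choose a haI ha using hex
  refine ⟨a, ?_, ?_⟩
  · have hlist : List.ofFn b = (List.ofFn a).map
        (algebraMap A (A ⧸ (IsLocalRing.maximalIdeal C).map (algebraMap C A))) := by
      rw [List.map_ofFn]
      congr 1
      funext i
      exact (ha i).symm
    have hw : RingTheory.Sequence.IsWeaklyRegular
        (A ⧸ (IsLocalRing.maximalIdeal C).map (algebraMap C A)) (List.ofFn a) := by
      have := hb.toIsWeaklyRegular
      rw [hlist] at this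
      exact (RingTheory.Sequence.isWeaklyRegular_map_algebraMap_iff
        (A ⧸ (IsLocalRing.maximalIdeal C).map (algebraMap C A))
        (A ⧸ (IsLocalRing.maximalIdeal C).map (algebraMap C A)) (List.ofFn a)).mp this
    have hker : ∀ x : A, (Submodule.mkQ ((IsLocalRing.maximalIdeal C).map (algebraMap C A))) x = 0 ↔
        x ∈ (IsLocalRing.maximalIdeal C) • (⊤ : Submodule C A) := by
      intro x
      rw [Submodule.mkQ_apply, Submodule.Quotient.mk_eq_zero, Ideal.smul_top_eq_map,
        Submodule.restrictScalars_mem]
    obtain ⟨h1, -⟩ := Groth.Agent.Lib.helper24.ArtinReg.key hnil (IsLocalRing.maximalIdeal C)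
      (Ideal.IsPrime.ne_top inferInstance) (List.ofFn a) A
      (A ⧸ (IsLocalRing.maximalIdeal C).map (algebraMap C A))
      (Submodule.mkQ ((IsLocalRing.maximalIdeal C).map (algebraMap C A)))
      (Submodule.mkQ_surjective _) hker hw
    refine ⟨h1, ?_⟩
    intro htop
    apply hb.top_ne_smul
    rw [smul_eq_mul, Ideal.mul_top] at htop
    have : Ideal.ofList ((List.ofFn a).map
        (Ideal.Quotient.mk ((IsLocalRing.maximalIdeal C).map (algebraMap C A)))) = ⊤ := by
      rw [← Ideal.map_ofList, ← htop, Ideal.map_top]
    rw [hlist]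
    show ⊤ = Ideal.ofList ((List.ofFn a).map
      (Ideal.Quotient.mk ((IsLocalRing.maximalIdeal C).map (algebraMap C A)))) • ⊤
    rw [this, smul_eq_mul, Ideal.mul_top]
  · have h1 : Ideal.span (Set.range a) ≤ I := by
      rw [Ideal.span_le]
      rintro _ ⟨i, rfl⟩
      exact haI i
    refine le_antisymm ?_ h1
    haveI : Module.Flat C (A ⧸ I.restrictScalars C) :=
      Module.Flat.of_linearEquiv (Submodule.Quotient.restrictScalarsEquiv C I)
    have h2 : I.restrictScalars C ≤ (Ideal.span (Set.range a)).restrictScalars C ⊔
        (IsLocalRing.maximalIdeal C) • (⊤ : Submodule C A) := by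
      intro x hx
      have hx' : x ∈ I := hx
      have : Ideal.Quotient.mk ((IsLocalRing.maximalIdeal C).map (algebraMap C A)) x ∈
          (Ideal.span (Set.range a)).map
            (Ideal.Quotient.mk ((IsLocalRing.maximalIdeal C).map (algebraMap C A))) := by
        rw [Ideal.map_span, ← Set.range_comp]
        have : (Ideal.Quotient.mk ((IsLocalRing.maximalIdeal C).map (algebraMap C A))) ∘ a = b :=
          funext ha
        rw [this, ← hI]
        exact Ideal.mem_map_of_mem _ hx'
      obtain ⟨y, hy, hyx⟩ :=
        (Ideal.mem_map_iff_of_surjective _ Ideal.Quotient.mk_surjective).mp this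
      have hxy : x - y ∈ (IsLocalRing.maximalIdeal C) • (⊤ : Submodule C A) := by
        rw [Ideal.smul_top_eq_map, Submodule.restrictScalars_mem, ← Ideal.Quotient.eq, hyx]
      rw [Submodule.mem_sup]
      exact ⟨y, hy, x - y, hxy, by abel⟩
    exact Groth.Agent.Lib.helper24.ArtinReg.le_of_le_sup_smul (I.restrictScalars C)
      ((Ideal.span (Set.range a)).restrictScalars C) (IsLocalRing.maximalIdeal C) hnil h1 h2

end Groth.Agent.S11456
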