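import Groth.Statements.S11461
import Mathlib

set_option autoImplicit false
universe u
open CategoryTheory
open DefT

namespace Groth.Agent.S11461

/-- Let B be a Noetherian ring and F an additive, B-linear endofunctor of B-modules which preserves
finite generation and is semi-exact on short exact sequences of finitely generated modules (the
image sequence is exact in the middle). If F kills B/m for every maximal ideal m, then F kills every
finitely generated B-module. (The published statement assumes F only additive; this row assumes F
B-linear, and takes the functor on all B-modules with the hypotheses and the conclusion on the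
finitely generated ones.) -/
theorem result (B : Type u) [CommRing B]
    [IsNoetherianRing B] (F : ModuleCat.{u} B ⥤ ModuleCat.{u} B) [F.Additive] [F.Linear B]
    (hfg : ∀ M : ModuleCat.{u} B, Module.Finite B M → Module.Finite B (F.obj M))
    (hex : ∀ S : ShortComplex (ModuleCat.{u} B), S.ShortExact → Module.Finite B S.X₂ → (S.map F).Exact)
    (h0 : ∀ m : Ideal B, m.IsMaximal → Limits.IsZero (F.obj (ModuleCat.of B (B ⧸ m))))
    (M : ModuleCat.{u} B) (hM : Module.Finite B M) : Limits.IsZero (F.obj M) := by
  classical
  have filt : ∀ (J : Ideal B), (∀ (q : Ideal B) [q.IsPrime], J ≤ q →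
      Limits.IsZero (F.obj (ModuleCat.of B (B ⧸ q)))) →
      ∀ (N : Type u) [AddCommGroup N] [Module B N] [Module.Finite B N],
        J ≤ Module.annihilator B N → Limits.IsZero (F.obj (ModuleCat.of B N)) := by
    intro J H N _ _ hN
    refine IsNoetherianRing.induction_on_isQuotientEquivQuotientPrime B hN
      (motive := fun N _ _ _ => J ≤ Module.annihilator B N →
        Limits.IsZero (F.obj (ModuleCat.of B N))) ?_ ?_ ?_
    · intro N _ _ _ _ _
      apply Functor.map_isZero
      exact ModuleCat.isZero_of_subsingleton _
    · intro N _ _ _ p f hJ
      have hp : J ≤ p.asIdeal := by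
        intro a ha
        have h1 := Module.mem_annihilator.mp (hJ ha) (f.symm 1)
        have h2 : a • (1 : B ⧸ p.asIdeal) = 0 := by
          have := congrArg f h1
          simpa using this
        rw [← Ideal.Quotient.eq_zero_iff_mem]
        simpa [Algebra.smul_def] using h2
      exact Limits.IsZero.of_iso (H p.asIdeal hp) (F.mapIso f.toModuleIso)
    · intro N₁ _ _ i₁ N₂ _ _ i₂ N₃ _ _ i₃ f g hf hg hfg h₁ h₃ hJ
      have hJ₁ : J ≤ Module.annihilator B N₁ := by
        intro a ha
        rw [Module.mem_annihilator]
        intro m
        apply hf
        rw [map_smul, map_zero]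
        exact Module.mem_annihilator.mp (hJ ha) _
      have hJ₃ : J ≤ Module.annihilator B N₃ := by
        intro a ha
        rw [Module.mem_annihilator]
        intro m
        obtain ⟨m, rfl⟩ := hg m
        rw [← map_smul, Module.mem_annihilator.mp (hJ ha) m, map_zero]
      let S : ShortComplex (ModuleCat.{u} B) :=
        ShortComplex.mk (ModuleCat.ofHom f) (ModuleCat.ofHom g) (by
          ext x
          exact hfg.apply_apply_eq_zero x)
      have hS : S.ShortExact := by
        refine ModuleCat.shortComplex_shortExact S ?_ hf hg
        intro x
        exact hfg x
      have hE := hex S hS i₂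
      exact hE.isZero_X₂ ((h₁ hJ₁).eq_of_src _ _) ((h₃ hJ₃).eq_of_tgt _ _)
  have primes : ∀ (p : Ideal B) [p.IsPrime],
      Limits.IsZero (F.obj (ModuleCat.of B (B ⧸ p))) := by
    intro p
    induction p using WellFoundedGT.induction with
    | ind p ih =>
      intro hp
      by_cases hpm : p.IsMaximal
      · exact h0 p hpm
      · let Np : ModuleCat.{u} B := ModuleCat.of B (B ⧸ p)
        have hfinNp : Module.Finite B Np := by
          change Module.Finite B (B ⧸ p)
          infer_instance
        haveI := hfg Np hfinNp
        -- p kills F(B/p)
        have hpann : p ≤ Module.annihilator B (F.obj Np) := by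
          intro b hb
          have h0' : b • 𝟙 Np = 0 := by
            apply ModuleCat.hom_ext
            apply LinearMap.ext
            intro (x : B ⧸ p)
            change b • x = 0
            obtain ⟨y, rfl⟩ := Ideal.Quotient.mk_surjective x
            rw [Algebra.smul_def]
            change Ideal.Quotient.mk p b * _ = 0
            rw [Ideal.Quotient.eq_zero_iff_mem.mpr hb, zero_mul]
          have h1 : b • 𝟙 (F.obj Np) = 0 := by
            rw [← F.map_id, ← Functor.map_smul, h0', F.map_zero]
          rw [Module.mem_annihilator]
          intro x
          have := congrArg (fun φ => φ.hom x) h1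
          exact this
        rw [ModuleCat.isZero_iff_subsingleton]
        by_contra hns
        rw [not_subsingleton_iff_nontrivial] at hns
        have hne : Module.annihilator B (F.obj Np) ≠ ⊤ := by
          intro h
          rw [Module.annihilator_eq_top_iff] at h
          exact not_subsingleton _ h
        obtain ⟨m, hm, hle⟩ := Ideal.exists_le_maximal _ hne
        obtain ⟨f, hfm, hfp⟩ : ∃ f ∈ m, f ∉ p := by
          by_contra hcon
          push Not at hcon
          have hpm' : p = m := le_antisymm (hpann.trans hle) hcon
          exact hpm (hpm' ▸ hm)
        let μ : Np →ₗ[B] Np := f • (LinearMap.id : Np →ₗ[B] Np)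
        have hμ : Function.Injective μ := by
          intro (a : B ⧸ p) (b : B ⧸ p) hab
          have hab' : f • a = f • b := hab
          rw [Algebra.smul_def, Algebra.smul_def] at hab'
          refine mul_left_cancel₀ ?_ hab'
          change Ideal.Quotient.mk p f ≠ 0
          rwa [Ne, Ideal.Quotient.eq_zero_iff_mem]
        let R' : Submodule B (B ⧸ p) := LinearMap.range μ
        let S : ShortComplex (ModuleCat.{u} B) :=
          ShortComplex.mk (ModuleCat.ofHom μ) (ModuleCat.ofHom R'.mkQ) (by
            apply ModuleCat.hom_ext
            apply LinearMap.ext
            intro x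
            change R'.mkQ (μ x) = 0
            rw [Submodule.mkQ_apply, Submodule.Quotient.mk_eq_zero]
            exact LinearMap.mem_range_self μ x)
        have hS : S.ShortExact := by
          refine ModuleCat.shortComplex_shortExact S ?_ hμ R'.mkQ_surjective
          intro x
          change R'.mkQ x = 0 ↔ x ∈ Set.range μ
          rw [Submodule.mkQ_apply, Submodule.Quotient.mk_eq_zero]
          rfl
        have hZ3 : Limits.IsZero (F.obj S.X₃) := by
          refine filt (p ⊔ Ideal.span {f}) ?_ ((B ⧸ p) ⧸ R') ?_
          · intro q _ hq
            apply ih q
            refine lt_of_le_of_ne (le_sup_left.trans hq) ?_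
            rintro rfl
            exact hfp (hq (Ideal.mem_sup_right (Ideal.subset_span rfl)))
          · rw [sup_le_iff, Ideal.span_singleton_le_iff_mem]
            constructor
            · intro a ha
              rw [Module.mem_annihilator]
              intro m
              obtain ⟨y, rfl⟩ := R'.mkQ_surjective m
              obtain ⟨b, rfl⟩ := Ideal.Quotient.mk_surjective y
              rw [← map_smul]
              have : a • (Ideal.Quotient.mk p b) = 0 := by
                rw [Algebra.smul_def]
                change Ideal.Quotient.mk p a * _ = 0
                rw [Ideal.Quotient.eq_zero_iff_mem.mpr ha, zero_mul]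
              rw [this, map_zero]
            · rw [Module.mem_annihilator]
              intro m
              obtain ⟨y, rfl⟩ := R'.mkQ_surjective m
              rw [← map_smul, Submodule.mkQ_apply, Submodule.Quotient.mk_eq_zero]
              exact ⟨y, rfl⟩
        have hE := hex S hS hfinNp
        have hepi : Epi (F.map S.f) := hE.epi_f (hZ3.eq_of_tgt _ _)
        have hl : F.map (ModuleCat.ofHom μ) = f • 𝟙 (F.obj Np) := by
          have : ModuleCat.ofHom μ = f • 𝟙 Np := rfl
          rw [this, Functor.map_smul, F.map_id]
        change Epi (F.map (ModuleCat.ofHom μ)) at hepi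
        rw [hl, ModuleCat.epi_iff_surjective] at hepi
        have hle2 : (⊤ : Submodule B (F.obj Np)) ≤ Ideal.span {f} • ⊤ := by
          intro x _
          obtain ⟨y, rfl⟩ := hepi x
          change f • y ∈ _
          exact Submodule.smul_mem_smul (Ideal.mem_span_singleton_self f) trivial
        obtain ⟨r, hr, hrT⟩ :=
          Submodule.exists_sub_one_mem_and_smul_eq_zero_of_fg_of_le_smul (Ideal.span {f}) ⊤
            Module.Finite.fg_top hle2
        have hrann : r ∈ Module.annihilator B (F.obj Np) := by
          rw [Module.mem_annihilator]
          intro x
          exact hrT x trivial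
        have hrm : r ∈ m := hle hrann
        have hr1 : r - 1 ∈ m := by
          have : Ideal.span {f} ≤ m := by
            rw [Ideal.span_singleton_le_iff_mem]; exact hfm
          exact this hr
        apply hm.ne_top
        rw [Ideal.eq_top_iff_one]
        have : (1 : B) = r - (r - 1) := by ring
        rw [this]
        exact m.sub_mem hrm hr1
  have := filt ⊥ (fun q _ _ => primes q) M bot_le
  exact this

end Groth.Agent.S11461
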