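import Groth.Statements.S11469
import Mathlib

set_option autoImplicit false
universe u
open scoped TensorProduct
open DefT

namespace Groth.Agent.S11469
open TensorProduct

section helpers



section
variable {C' : Type u} [CommRing C'] (A' : Type u) [CommRing A'] [Algebra C' A']
  {M' : Type u} [AddCommGroup M'] [Module A' M'] [Module C' M'] [IsScalarTower C' A' M']

/-- workhorse: `(K.map alg) • ⊤ ≤ P` as soon as `c • x ∈ P` for `c ∈ K`. -/
lemma map_smul_top_le (K : Ideal C') (P : Submodule A' M')
    (h : ∀ c ∈ K, ∀ x : M', c • x ∈ P) :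
    (K.map (algebraMap C' A')) • (⊤ : Submodule A' M') ≤ P := by
  rw [Submodule.smul_le]
  intro r hr n hn
  clear hn
  revert n
  rw [Ideal.map] at hr
  induction hr using Submodule.span_induction with
  | mem r hr =>
    intro n
    obtain ⟨c, hc, rfl⟩ := hr
    rw [algebraMap_smul]
    exact h c hc n
  | zero => intro n; rw [zero_smul]; exact P.zero_mem
  | add r s _ _ hr hs => intro n; rw [add_smul]; exact P.add_mem (hr n) (hs n)
  | smul a r _ hr => intro n; rw [smul_eq_mul, mul_smul]; exact P.smul_mem a (hr n)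

variable (J : Ideal C')

/-- the multiplication map `M' ⊗ J → M'`, `A'`-linear. -/
noncomputable def iota : M' ⊗[C'] ↥J →ₗ[A'] M' where
  toFun z := TensorProduct.rid C' M' (LinearMap.lTensor M' (Submodule.subtype J) z)
  map_add' z w := by simp only [map_add]
  map_smul' a z := by
    induction z using TensorProduct.induction_on with
    | zero => simp
    | tmul x j =>
      rw [RingHom.id_apply, smul_tmul', LinearMap.lTensor_tmul, LinearMap.lTensor_tmul,
        TensorProduct.rid_tmul, TensorProduct.rid_tmul]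
      exact smul_comm _ _ _
    | add z w hz hw => simp only [smul_add, map_add, hz, hw]

lemma iota_apply (z : M' ⊗[C'] ↥J) :
    iota A' J z = TensorProduct.rid C' M' (LinearMap.lTensor M' (Submodule.subtype J) z) := rfl

lemma iota_tmul (x : M') (j : ↥J) : iota A' J (x ⊗ₜ[C'] j) = (j : C') • x := by
  simp [iota_apply]

lemma iota_injective [Module.Flat C' M'] : Function.Injective (iota A' J (M' := M')) := by
  intro z w h
  rw [iota_apply, iota_apply] at h
  have h1 := (TensorProduct.rid C' M').injective h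
  exact Module.Flat.lTensor_preserves_injective_linearMap (M := M') (Submodule.subtype J)
    (Submodule.subtype_injective J) h1

lemma range_iota : LinearMap.range (iota A' J (M' := M')) =
    (J.map (algebraMap C' A')) • (⊤ : Submodule A' M') := by
  apply le_antisymm
  · rintro _ ⟨z, rfl⟩
    induction z using TensorProduct.induction_on with
    | zero => rw [map_zero]; exact Submodule.zero_mem _
    | tmul x j =>
      rw [iota_tmul, ← algebraMap_smul A' (j : C') x]
      exact Submodule.smul_mem_smul (Ideal.mem_map_of_mem _ j.2) Submodule.mem_top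
    | add z w hz hw => rw [map_add]; exact Submodule.add_mem _ hz hw
  · apply map_smul_top_le
    intro c hc x
    exact ⟨x ⊗ₜ[C'] ⟨c, hc⟩, iota_tmul A' J x ⟨c, hc⟩⟩

variable (K : Ideal C')

/-- the `A'`-linear map `x ↦ x ⊗ j` -/
noncomputable def tmulRight (j : ↥J) : M' →ₗ[A'] M' ⊗[C'] ↥J :=
  (TensorProduct.AlgebraTensorModule.mk C' A' M' ↥J).flip j

lemma tmulRight_apply (j : ↥J) (x : M') : tmulRight A' J j x = x ⊗ₜ[C'] j := rfl

lemma smul_J_eq_zero (hKJ : K * J = ⊥) (c : C') (hc : c ∈ K) (j : ↥J) : c • j = 0 := by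
  apply Subtype.ext
  have : c * (j : C') ∈ K * J := Ideal.mul_mem_mul hc j.2
  rw [hKJ] at this
  exact this

lemma tmul_eq_zero_of_mem (hKJ : K * J = ⊥) (y : M')
    (hy : y ∈ (K.map (algebraMap C' A')) • (⊤ : Submodule A' M')) (j : ↥J) :
    y ⊗ₜ[C'] j = 0 := by
  have h := map_smul_top_le A' K (LinearMap.ker (tmulRight A' J (M' := M') j)) (by
    intro c hc x
    rw [LinearMap.mem_ker, tmulRight_apply, smul_tmul, smul_J_eq_zero J K hKJ c hc j, tmul_zero])
  exact h hy

variable (Q : Submodule A' M')

/-- the reduction map `M' ⊗ J → M₀ ⊗ J`, `A'`-linear. -/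
noncomputable def qmap : M' ⊗[C'] ↥J →ₗ[A'] (M' ⧸ Q) ⊗[C'] ↥J :=
  TensorProduct.AlgebraTensorModule.map (Submodule.mkQ Q) LinearMap.id

lemma qmap_apply (z : M' ⊗[C'] ↥J) :
    qmap A' J Q z = LinearMap.rTensor ↥J ((Submodule.mkQ Q).restrictScalars C') z := by
  induction z using TensorProduct.induction_on with
  | zero => simp
  | tmul x j => rfl
  | add z w hz hw => rw [map_add, map_add, hz, hw]

omit [IsScalarTower C' A' M'] in
lemma rTensor_injective_of_tmul_zero {N T : Type u} [AddCommGroup N] [Module C' N]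
    [AddCommGroup T] [Module C' T] (g : M' →ₗ[C'] N) (hg : Function.Surjective g)
    (h : ∀ y ∈ LinearMap.ker g, ∀ t : T, y ⊗ₜ[C'] t = 0) :
    Function.Injective (LinearMap.rTensor T g) := by
  rw [← LinearMap.ker_eq_bot, LinearMap.ker_eq_bot']
  intro z hz
  have hex : Function.Exact (LinearMap.rTensor T (LinearMap.ker g).subtype) (LinearMap.rTensor T g) :=
    rTensor_exact T (LinearMap.exact_subtype_ker_map g) hg
  obtain ⟨w, rfl⟩ := (hex z).1 hz
  induction w using TensorProduct.induction_on with
  | zero => simp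
  | tmul y t =>
    rw [LinearMap.rTensor_tmul]
    exact h y y.2 t
  | add w w' hw hw' =>
    rw [map_add] at hz ⊢
    have h1 : (LinearMap.rTensor T (LinearMap.ker g).subtype) w = 0 := by
      clear hw hw' hz
      induction w using TensorProduct.induction_on with
      | zero => simp
      | tmul y t => rw [LinearMap.rTensor_tmul]; exact h y y.2 t
      | add a b ha hb => rw [map_add, ha, hb, add_zero]
    have h2 : (LinearMap.rTensor T (LinearMap.ker g).subtype) w' = 0 := by
      clear hw hw' hz h1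
      induction w' using TensorProduct.induction_on with
      | zero => simp
      | tmul y t => rw [LinearMap.rTensor_tmul]; exact h y y.2 t
      | add a b ha hb => rw [map_add, ha, hb, add_zero]
    rw [h1, h2, add_zero]

lemma qmap_bijective (hQ : ∀ y ∈ Q, ∀ j : ↥J, y ⊗ₜ[C'] j = 0) :
    Function.Bijective (qmap A' J Q) := by
  have hsurj : Function.Surjective ((Submodule.mkQ Q).restrictScalars C') :=
    Submodule.mkQ_surjective _
  constructor
  · intro z w hzw
    rw [qmap_apply, qmap_apply] at hzw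
    refine rTensor_injective_of_tmul_zero _ hsurj ?_ hzw
    intro y hy j
    apply hQ y _ j
    have : (Submodule.mkQ Q) y = 0 := hy
    exact (Submodule.Quotient.mk_eq_zero _).1 this
  · intro y
    obtain ⟨z, hz⟩ := LinearMap.rTensor_surjective ↥J hsurj y
    exact ⟨z, (qmap_apply A' J Q z).trans hz⟩

omit [IsScalarTower C' A' M'] in
lemma smul_tensor_zero (hKJ : K * J = ⊥) (c : C') (hc : c ∈ K) (z : M' ⊗[C'] ↥J) : c • z = 0 := by
  induction z using TensorProduct.induction_on with
  | zero => simp
  | tmul x j => rw [smul_tmul', smul_tmul, smul_J_eq_zero J K hKJ c hc j, tmul_zero]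
  | add z w hz hw => rw [smul_add, hz, hw, add_zero]

theorem main [Module.Flat C' M'] (hKJ : K * J = ⊥) (hJK : J ≤ K) (JM : Submodule A' M')
    (hQgen : ∀ P : Submodule A' M', (∀ c ∈ K, ∀ x : M', c • x ∈ P) → Q ≤ P)
    (hrange : LinearMap.range (iota A' J (M' := M')) = JM) :
    (∀ σ : M' →ₗ[A'] M', (∀ x : M', σ x - x ∈ JM) →
      Function.Bijective σ ∧
        ∃! τ : (M' ⧸ Q) →ₗ[A'] ((M' ⧸ Q) ⊗[C'] ↥J),
          (∀ (x : M') (z : M' ⊗[C'] ↥J),
            TensorProduct.rid C' M' (LinearMap.lTensor M' (Submodule.subtype J) z) = σ x - x →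
            LinearMap.rTensor ↥J ((Submodule.mkQ Q).restrictScalars C') z =
              τ (Submodule.mkQ Q x))) ∧
    (∀ τ : (M' ⧸ Q) →ₗ[A'] ((M' ⧸ Q) ⊗[C'] ↥J),
      ∃ σ : M' →ₗ[A'] M', (∀ x : M', σ x - x ∈ JM) ∧
          (∀ (x : M') (z : M' ⊗[C'] ↥J),
            TensorProduct.rid C' M' (LinearMap.lTensor M' (Submodule.subtype J) z) = σ x - x →
            LinearMap.rTensor ↥J ((Submodule.mkQ Q).restrictScalars C') z =
              τ (Submodule.mkQ Q x))) := by
  have hinj := iota_injective A' J (M' := M')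
  have hQ : ∀ y ∈ Q, ∀ j : ↥J, y ⊗ₜ[C'] j = 0 := by
    intro y hy j
    have h := hQgen (LinearMap.ker (tmulRight A' J (M' := M') j)) (by
      intro c hc x
      rw [LinearMap.mem_ker, tmulRight_apply, smul_tmul, smul_J_eq_zero J K hKJ c hc j, tmul_zero])
    exact h hy
  have hqbij := qmap_bijective A' J Q hQ
  constructor
  · intro σ hσ
    -- δ := σ - id
    set δ : M' →ₗ[A'] M' := σ - LinearMap.id with hδ
    have hδx : ∀ x, δ x = σ x - x := fun x => rfl
    have hδmem : ∀ x, δ x ∈ LinearMap.range (iota A' J (M' := M')) := by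
      intro x; rw [hrange]; exact hσ x
    -- δ (c • x) = 0 for c ∈ K
    have hδK : ∀ c ∈ K, ∀ x : M', δ (c • x) = 0 := by
      intro c hc x
      obtain ⟨z, hz⟩ := hδmem x
      rw [← algebraMap_smul A' c x, map_smul, ← hz, ← map_smul, algebraMap_smul,
        smul_tensor_zero J K hKJ c hc z, map_zero]
    have hδι : ∀ z : M' ⊗[C'] ↥J, δ (iota A' J z) = 0 := by
      intro z
      induction z using TensorProduct.induction_on with
      | zero => simp
      | tmul x j => rw [iota_tmul]; exact hδK j (hJK j.2) x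
      | add z w hz hw => rw [map_add, map_add, hz, hw, add_zero]
    have hδδ : ∀ x, δ (δ x) = 0 := by
      intro x
      obtain ⟨z, hz⟩ := hδmem x
      rw [← hz]; exact hδι z
    have hσδ : ∀ x, σ x = x + δ x := fun x => by rw [hδx]; abel
    have hbij : Function.Bijective σ := by
      constructor
      · intro x y hxy
        have h1 : x + δ x = y + δ y := by rw [← hσδ, ← hσδ, hxy]
        have h2 : δ x = δ y := by
          have := congrArg δ h1
          rwa [map_add, map_add, hδδ, hδδ, add_zero, add_zero] at this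
        rw [h2] at h1
        exact add_right_cancel h1
      · intro y
        refine ⟨y - δ y, ?_⟩
        rw [hσδ, map_sub, hδδ, sub_zero]
        abel
    refine ⟨hbij, ?_⟩
    -- the lift of δ through iota
    let eι : (M' ⊗[C'] ↥J) ≃ₗ[A'] LinearMap.range (iota A' J (M' := M')) :=
      LinearEquiv.ofInjective (iota A' J) hinj
    let δ' : M' →ₗ[A'] LinearMap.range (iota A' J (M' := M')) := δ.codRestrict _ hδmem
    let τ' : M' →ₗ[A'] (M' ⧸ Q) ⊗[C'] ↥J := (qmap A' J Q) ∘ₗ eι.symm.toLinearMap ∘ₗ δ'
    have hτ'Q : Q ≤ LinearMap.ker τ' := by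
      apply hQgen
      intro c hc x
      rw [LinearMap.mem_ker]
      show qmap A' J Q (eι.symm (δ' (c • x))) = 0
      have : δ' (c • x) = 0 := Subtype.ext (hδK c hc x)
      rw [this, map_zero, map_zero]
    let τ : (M' ⧸ Q) →ₗ[A'] (M' ⧸ Q) ⊗[C'] ↥J := Q.liftQ τ' hτ'Q
    have hιeι : ∀ x, iota A' J (eι.symm (δ' x)) = δ x := by
      intro x
      have := eι.apply_symm_apply (δ' x)
      exact congrArg Subtype.val this
    have hτspec : ∀ (x : M') (z : M' ⊗[C'] ↥J),
        TensorProduct.rid C' M' (LinearMap.lTensor M' (Submodule.subtype J) z) = σ x - x →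
        LinearMap.rTensor ↥J ((Submodule.mkQ Q).restrictScalars C') z = τ (Submodule.mkQ Q x) := by
      intro x z hz
      have hz' : iota A' J z = δ x := hz
      have hzeq : z = eι.symm (δ' x) := hinj (hz'.trans (hιeι x).symm)
      rw [← qmap_apply]
      show qmap A' J Q z = τ' x
      rw [hzeq]
      rfl
    refine ⟨τ, hτspec, ?_⟩
    intro τ₂ hτ₂
    apply LinearMap.ext
    intro y
    obtain ⟨x, rfl⟩ := Submodule.mkQ_surjective Q y
    have h1 := hτ₂ x (eι.symm (δ' x)) (hιeι x)
    have h2 := hτspec x (eι.symm (δ' x)) (hιeι x)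
    rw [← h1, ← h2]
  · intro τ
    let eq : (M' ⊗[C'] ↥J) ≃ₗ[A'] (M' ⧸ Q) ⊗[C'] ↥J := LinearEquiv.ofBijective (qmap A' J Q) hqbij
    let δ : M' →ₗ[A'] M' := (iota A' J) ∘ₗ eq.symm.toLinearMap ∘ₗ τ ∘ₗ Q.mkQ
    refine ⟨LinearMap.id + δ, ?_, ?_⟩
    · intro x
      rw [← hrange]
      refine ⟨eq.symm (τ (Q.mkQ x)), ?_⟩
      show _ = (x + δ x) - x
      rw [add_sub_cancel_left]
      rfl
    · intro x z hz
      have hz' : iota A' J z = iota A' J (eq.symm (τ (Q.mkQ x))) := by
        refine Eq.trans hz ?_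
        show (x + δ x) - x = _
        rw [add_sub_cancel_left]
        rfl
      have hzeq := hinj hz'
      rw [← qmap_apply, hzeq]
      exact eq.apply_symm_apply _

end



end helpers
open TensorProduct

/-- Let C' be a local Artin ring with maximal ideal m, J ⊊ C' a proper ideal with mJ = 0, A' a
C'-algebra, M' an A'-module flat over C', and M₀ = M'/mM'. Then (1) every A'-linear endomorphism σ
of M' that is the identity modulo JM' is bijective, and there is exactly one A'-linear τ : M₀ → M₀
⊗_{C'} J such that, for all x ∈ M' and all z ∈ M' ⊗_{C'} J mapping to σ(x) − x in M', the image of z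
in M₀ ⊗_{C'} J is τ applied to the class of x; and (2) every A'-linear τ : M₀ → M₀ ⊗_{C'} J comes in
this way from some such σ. Thus the automorphisms of the extension M' inducing the identity on
M'/JM' correspond to Hom(M₀, M₀ ⊗ J). -/
theorem result (C' : Type u) [CommRing C'] [IsLocalRing C']
    [IsArtinianRing C'] (J : Ideal C') (hJ : IsLocalRing.maximalIdeal C' * J = ⊥) (hJne : J ≠ ⊤)
    (A' : Type u) [CommRing A'] [Algebra C' A'] (M' : Type u) [AddCommGroup M'] [Module A' M'] [Module C' M']
    [IsScalarTower C' A' M'] [Module.Flat C' M'] :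
    (∀ σ : M' →ₗ[A'] M', (∀ x : M', σ x - x ∈ (J.map (algebraMap C' A')) • (⊤ : Submodule A' M')) →
      Function.Bijective σ ∧
        ∃! τ : (M' ⧸ ((IsLocalRing.maximalIdeal C').map (algebraMap C' A')) • (⊤ : Submodule A' M')) →ₗ[A'] ((M' ⧸ ((IsLocalRing.maximalIdeal C').map (algebraMap C' A')) • (⊤ : Submodule A' M')) ⊗[C'] ↥J),
          (∀ (x : M') (z : M' ⊗[C'] ↥J), TensorProduct.rid C' M' (LinearMap.lTensor M' (Submodule.subtype J) z) = σ x - x →
            LinearMap.rTensor ↥J ((Submodule.mkQ (((IsLocalRing.maximalIdeal C').map (algebraMap C' A')) • (⊤ : Submodule A' M'))).restrictScalars C') z =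
              τ (Submodule.mkQ _ x))) ∧
    (∀ τ : (M' ⧸ ((IsLocalRing.maximalIdeal C').map (algebraMap C' A')) • (⊤ : Submodule A' M')) →ₗ[A'] ((M' ⧸ ((IsLocalRing.maximalIdeal C').map (algebraMap C' A')) • (⊤ : Submodule A' M')) ⊗[C'] ↥J),
      ∃ σ : M' →ₗ[A'] M', (∀ x : M', σ x - x ∈ (J.map (algebraMap C' A')) • (⊤ : Submodule A' M')) ∧
          (∀ (x : M') (z : M' ⊗[C'] ↥J), TensorProduct.rid C' M' (LinearMap.lTensor M' (Submodule.subtype J) z) = σ x - x →
            LinearMap.rTensor ↥J ((Submodule.mkQ (((IsLocalRing.maximalIdeal C').map (algebraMap C' A')) • (⊤ : Submodule A' M'))).restrictScalars C') z =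
              τ (Submodule.mkQ _ x))) := by
  exact main A' J (IsLocalRing.maximalIdeal C')
    (((IsLocalRing.maximalIdeal C').map (algebraMap C' A')) • (⊤ : Submodule A' M')) hJ
    (IsLocalRing.le_maximalIdeal hJne) ((J.map (algebraMap C' A')) • (⊤ : Submodule A' M'))
    (fun P h => map_smul_top_le A' (IsLocalRing.maximalIdeal C') P h) (range_iota A' J)

end Groth.Agent.S11469
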