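import Groth.Statements.S11470
import Mathlib

set_option autoImplicit false
universe u
open Curves

namespace Groth.Agent.S11470

section aux

open Polynomial

/-- the equalizer of two algebra endomorphisms of a field extension, as an intermediate field -/
def eqField {F L : Type*} [Field F] [Field L] [Algebra F L] (f g : L →ₐ[F] L) :
    IntermediateField F L where
  carrier := {x | f x = g x}
  mul_mem' := by
    intro a b (ha : f a = g a) (hb : f b = g b)
    show f (a * b) = g (a * b)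
    rw [map_mul, map_mul, ha, hb]
  one_mem' := by
    show f 1 = g 1
    rw [map_one, map_one]
  add_mem' := by
    intro a b (ha : f a = g a) (hb : f b = g b)
    show f (a + b) = g (a + b)
    rw [map_add, map_add, ha, hb]
  zero_mem' := by
    show f 0 = g 0
    rw [map_zero, map_zero]
  algebraMap_mem' := by
    intro r
    show f (algebraMap F L r) = g (algebraMap F L r)
    rw [AlgHom.commutes, AlgHom.commutes]
  inv_mem' := by
    intro a (ha : f a = g a)
    show f a⁻¹ = g a⁻¹
    rw [map_inv₀, map_inv₀, ha]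

lemma mem_eqField {F L : Type*} [Field F] [Field L] [Algebra F L] (f g : L →ₐ[F] L) (x : L) :
    x ∈ eqField f g ↔ f x = g x := Iff.rfl

variable {k : Type u} [Field k]

/-- automorphisms over an intermediate field of `k(X)` are determined by their value at `X` -/
lemma ext_X (E : IntermediateField k (RatFunc k)) (f g : RatFunc k ≃ₐ[E] RatFunc k)
    (h : f RatFunc.X = g RatFunc.X) : f = g := by
  apply AlgEquiv.ext
  intro x
  have hle : (⊤ : IntermediateField E (RatFunc k)) ≤ eqField (f : RatFunc k →ₐ[E] RatFunc k) g := by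
    rw [← RatFunc.IntermediateField.adjoin_X E, IntermediateField.adjoin_le_iff]
    intro y hy
    rw [Set.mem_singleton_iff] at hy
    subst hy
    exact h
  exact hle (IntermediateField.mem_top (x := x))

/-- a `k`-automorphism fixing `j` fixes `k(j)` pointwise -/
lemma fix_adjoin (j : RatFunc k) (g : RatFunc k ≃ₐ[k] RatFunc k) (hg : g j = j) (x : RatFunc k)
    (hx : x ∈ IntermediateField.adjoin k {j}) : g x = x := by
  have hle : IntermediateField.adjoin k {j} ≤
      eqField (g : RatFunc k →ₐ[k] RatFunc k) (AlgHom.id k (RatFunc k)) := by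
    rw [IntermediateField.adjoin_le_iff]
    intro y hy
    rw [Set.mem_singleton_iff] at hy
    subst hy
    exact hg
  exact hle hx

/-- lift of an automorphism fixing `j` to an automorphism over `k(j)` -/
noncomputable def liftE (j : RatFunc k) (g : RatFunc k ≃ₐ[k] RatFunc k) (hg : g j = j) :
    RatFunc k ≃ₐ[IntermediateField.adjoin k {j}] RatFunc k :=
  AlgEquiv.ofRingEquiv (f := g.toRingEquiv) (fun x => fix_adjoin j g hg x.1 x.2)

lemma liftE_apply (j : RatFunc k) (g : RatFunc k ≃ₐ[k] RatFunc k) (hg : g j = j) (x : RatFunc k) :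
    liftE j g hg x = g x := rfl

lemma X_sub_one_ne_zero : (RatFunc.X : RatFunc k) - 1 ≠ 0 := by
  have h := RatFunc.algebraMap_ne_zero (Polynomial.X_sub_C_ne_zero (1 : k))
  rw [map_sub, RatFunc.algebraMap_X, RatFunc.algebraMap_C, map_one] at h
  exact h

lemma X_inv_ne_X : (RatFunc.X : RatFunc k)⁻¹ ≠ RatFunc.X := by
  intro h
  have hX0 : (RatFunc.X : RatFunc k) ≠ 0 := RatFunc.X_ne_zero
  have h1 : (RatFunc.X : RatFunc k) ^ 2 - 1 = 0 := by
    rw [pow_two]
    nth_rewrite 1 [← h]
    rw [inv_mul_cancel₀ hX0, sub_self]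
  have h2 := RatFunc.algebraMap_ne_zero (Polynomial.X_pow_sub_C_ne_zero (by norm_num : 0 < 2) (1 : k))
  rw [map_sub, map_pow, RatFunc.algebraMap_X, RatFunc.algebraMap_C, map_one] at h2
  exact h2 h1

lemma one_sub_X_inv_ne_X : 1 - (RatFunc.X : RatFunc k)⁻¹ ≠ RatFunc.X := by
  intro h
  have hX0 : (RatFunc.X : RatFunc k) ≠ 0 := RatFunc.X_ne_zero
  have h1 : (RatFunc.X : RatFunc k) ^ 2 - (RatFunc.X - 1) = 0 := by
    have : (RatFunc.X : RatFunc k) - 1 = RatFunc.X * RatFunc.X := by
      nth_rewrite 3 [← h]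
      field_simp
    rw [this]; ring
  have hm : (Polynomial.X ^ 2 - (Polynomial.X - Polynomial.C (1 : k))).Monic :=
    Polynomial.monic_X_pow_sub (by rw [Polynomial.degree_X_sub_C]; norm_num)
  have h2 := RatFunc.algebraMap_ne_zero hm.ne_zero
  rw [map_sub, map_pow, map_sub, RatFunc.algebraMap_X, RatFunc.algebraMap_C, map_one] at h2
  exact h2 h1

/-- the `j`-function of the `λ`-line -/
noncomputable def jj (k : Type u) [Field k] : RatFunc k :=
  (256 : RatFunc k) * ((RatFunc.X : RatFunc k) ^ 2 - RatFunc.X + 1) ^ 3 /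
    ((RatFunc.X : RatFunc k) ^ 2 * ((RatFunc.X : RatFunc k) - 1) ^ 2)

lemma sigma_jj (σ : RatFunc k ≃ₐ[k] RatFunc k) (hσ : σ RatFunc.X = (RatFunc.X : RatFunc k)⁻¹) :
    σ (jj k) = jj k := by
  have hX0 : (RatFunc.X : RatFunc k) ≠ 0 := RatFunc.X_ne_zero
  have hX1 : (RatFunc.X : RatFunc k) - 1 ≠ 0 := X_sub_one_ne_zero
  have hX1' : 1 - (RatFunc.X : RatFunc k) ≠ 0 := by
    intro h; apply hX1; rw [← neg_sub, h, neg_zero]
  unfold jj
  rw [map_div₀, map_mul, map_mul, map_pow, map_pow, map_pow, map_sub, map_add, map_sub, map_pow,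
    map_one, map_ofNat, hσ]
  field_simp
  ring

lemma tau_jj (τ : RatFunc k ≃ₐ[k] RatFunc k) (hτ : τ RatFunc.X = 1 - (RatFunc.X : RatFunc k)) :
    τ (jj k) = jj k := by
  unfold jj
  rw [map_div₀, map_mul, map_mul, map_pow, map_pow, map_pow, map_sub, map_add, map_sub, map_pow,
    map_one, map_ofNat, hτ]
  have e1 : (1 - (RatFunc.X : RatFunc k)) ^ 2 - (1 - RatFunc.X) + 1 = RatFunc.X ^ 2 - RatFunc.X + 1 := by
    ring
  have e2 : (1 - (RatFunc.X : RatFunc k)) ^ 2 * (1 - RatFunc.X - 1) ^ 2 =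
      RatFunc.X ^ 2 * (RatFunc.X - 1) ^ 2 := by
    ring
  rw [e1, e2]

/-- the order three computation -/
lemma cube_comp : 1 - (1 - (1 - (RatFunc.X : RatFunc k)⁻¹)⁻¹)⁻¹ = RatFunc.X := by
  have hX0 : (RatFunc.X : RatFunc k) ≠ 0 := RatFunc.X_ne_zero
  have hX1 : (RatFunc.X : RatFunc k) - 1 ≠ 0 := X_sub_one_ne_zero
  have h1 : 1 - (RatFunc.X : RatFunc k)⁻¹ = (RatFunc.X - 1) / RatFunc.X := by
    field_simp
  have h3 : 1 - (RatFunc.X : RatFunc k) / (RatFunc.X - 1) = (-1) / (RatFunc.X - 1) := by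
    field_simp
    ring
  rw [h1, inv_div, h3, inv_div]
  field_simp
  ring

lemma jj_not_const (h2 : (2 : k) ≠ 0) : ¬ ∃ c : k, jj k = RatFunc.C c := by
  rintro ⟨c, hc⟩
  have hX0 : (RatFunc.X : RatFunc k) ≠ 0 := RatFunc.X_ne_zero
  have hX1 : (RatFunc.X : RatFunc k) - 1 ≠ 0 := X_sub_one_ne_zero
  unfold jj at hc
  rw [div_eq_iff (mul_ne_zero (pow_ne_zero _ hX0) (pow_ne_zero _ hX1))] at hc
  have hpoly : (Polynomial.C (256 : k) * (Polynomial.X ^ 2 - Polynomial.X + 1) ^ 3 : Polynomial k) =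
      Polynomial.C c * (Polynomial.X ^ 2 * (Polynomial.X - 1) ^ 2) := by
    apply RatFunc.algebraMap_injective k
    simp only [map_mul, map_pow, map_sub, map_add, map_one, RatFunc.algebraMap_X,
      RatFunc.algebraMap_C]
    rw [← hc, map_ofNat]
  have := congrArg (Polynomial.eval 0) hpoly
  simp at this
  have h256 : (256 : k) = 2 ^ 8 := by norm_num
  rw [h256] at this
  exact pow_ne_zero _ h2 this

/-- the monic polynomial satisfied by `X` over `k[j]` -/
noncomputable def PP {R : Type*} [CommRing R] (c : R) : Polynomial R :=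
  (Polynomial.X ^ 2 - Polynomial.X + 1) ^ 3 -
    Polynomial.C c * (Polynomial.X ^ 2 * (Polynomial.X - 1) ^ 2)

lemma PP_eq {R : Type*} [CommRing R] (c : R) :
    PP c = Polynomial.X ^ 6 + (- 3 * Polynomial.X ^ 5 + (6 - Polynomial.C c) * Polynomial.X ^ 4 +
      (2 * Polynomial.C c - 7) * Polynomial.X ^ 3 + (6 - Polynomial.C c) * Polynomial.X ^ 2 -
      3 * Polynomial.X + 1) := by
  unfold PP
  ring

lemma PP_monic {R : Type*} [CommRing R] [Nontrivial R] (c : R) : (PP c).Monic := by
  rw [PP_eq]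
  apply Polynomial.monic_X_pow_add
  have : (- 3 * Polynomial.X ^ 5 + (6 - Polynomial.C c) * Polynomial.X ^ 4 +
      (2 * Polynomial.C c - 7) * Polynomial.X ^ 3 + (6 - Polynomial.C c) * Polynomial.X ^ 2 -
      3 * Polynomial.X + 1 : Polynomial R).degree ≤ 5 := by
    compute_degree
  exact lt_of_le_of_lt this (by norm_num)

lemma PP_natDegree_le {R : Type*} [CommRing R] (c : R) : (PP c).natDegree ≤ 6 := by
  unfold PP
  compute_degree

/-- `k[j]` -/
noncomputable abbrev A0 (k : Type u) [Field k] : Subalgebra k (RatFunc k) :=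
  Algebra.adjoin k ({jj k} : Set (RatFunc k))

/-- `k(j)` -/
noncomputable abbrev EE (k : Type u) [Field k] : IntermediateField k (RatFunc k) :=
  IntermediateField.adjoin k ({jj k} : Set (RatFunc k))

/-- the coefficient `j / 256` in `k[j]` -/
noncomputable def c0 (k : Type u) [Field k] : A0 k :=
  (256⁻¹ : k) • ⟨jj k, Algebra.self_mem_adjoin_singleton k (jj k)⟩

lemma coe_c0 : ((c0 k : A0 k) : RatFunc k) = (256 : RatFunc k)⁻¹ * jj k := by
  unfold c0
  rw [Subalgebra.coe_smul, Algebra.smul_def, map_inv₀, map_ofNat]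

lemma two56_ne_zero (h2 : (2 : k) ≠ 0) : (256 : RatFunc k) ≠ 0 := by
  have h : (256 : RatFunc k) = algebraMap k (RatFunc k) (2 ^ 8) := by
    rw [map_pow, map_ofNat]; norm_num
  rw [h]
  exact (_root_.map_ne_zero _).mpr (pow_ne_zero _ h2)

lemma root_PP (h2 : (2 : k) ≠ 0) :
    Polynomial.aeval (RatFunc.X : RatFunc k) (PP (c0 k)) = 0 := by
  have hX0 : (RatFunc.X : RatFunc k) ≠ 0 := RatFunc.X_ne_zero
  have hX1 : (RatFunc.X : RatFunc k) - 1 ≠ 0 := X_sub_one_ne_zero
  have h256 := two56_ne_zero (k := k) h2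
  unfold PP
  simp only [map_sub, map_mul, map_pow, map_add, map_one, Polynomial.aeval_X, Polynomial.aeval_C]
  rw [show algebraMap (A0 k) (RatFunc k) (c0 k) = ((c0 k : A0 k) : RatFunc k) from rfl, coe_c0]
  unfold jj
  field_simp
  ring

open scoped IntermediateField.algebraAdjoinAdjoin in
lemma main_forward (h2 : (2 : k) ≠ 0)
    (σ τ : RatFunc k ≃ₐ[k] RatFunc k) (hσ : σ RatFunc.X = (RatFunc.X : RatFunc k)⁻¹)
    (hτ : τ RatFunc.X = 1 - (RatFunc.X : RatFunc k)) (b : RatFunc k)
    (hbB : b ∈ Algebra.adjoin k ({RatFunc.X, (RatFunc.X : RatFunc k)⁻¹,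
      ((RatFunc.X : RatFunc k) - 1)⁻¹} : Set (RatFunc k)))
    (hσb : σ b = b) (hτb : τ b = b) :
    b ∈ Algebra.adjoin k ({jj k} : Set (RatFunc k)) := by
  classical
  have hσj := sigma_jj σ hσ
  have hτj := tau_jj τ hτ
  have hnc := jj_not_const (k := k) h2
  have htr : Transcendental k (jj k) := RatFunc.transcendental_of_ne_C (jj k) hnc
  have hroot := root_PP (k := k) h2
  -- integrality
  have hintX : IsIntegral (A0 k) (RatFunc.X : RatFunc k) :=
    ⟨PP (c0 k), PP_monic (c0 k), by rw [← Polynomial.aeval_def]; exact hroot⟩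
  have hint_g : ∀ g : RatFunc k ≃ₐ[k] RatFunc k, g (jj k) = jj k →
      IsIntegral (A0 k) (g RatFunc.X) := by
    intro g hg
    refine ⟨PP (c0 k), PP_monic (c0 k), ?_⟩
    have hcomp : ((g : RatFunc k ≃+* RatFunc k) : RatFunc k →+* RatFunc k).comp
        (algebraMap (A0 k) (RatFunc k)) = algebraMap (A0 k) (RatFunc k) := by
      ext ⟨y, hy⟩
      exact fix_adjoin (jj k) g hg y (IntermediateField.algebra_adjoin_le_adjoin k _ hy)
    have := Polynomial.hom_eval₂ (PP (c0 k)) (algebraMap (A0 k) (RatFunc k))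
      ((g : RatFunc k ≃+* RatFunc k) : RatFunc k →+* RatFunc k) RatFunc.X
    rw [hcomp, ← Polynomial.aeval_def, hroot, map_zero] at this
    exact this.symm
  have hbint : IsIntegral (A0 k) b := by
    have hle : Algebra.adjoin k ({RatFunc.X, (RatFunc.X : RatFunc k)⁻¹,
        ((RatFunc.X : RatFunc k) - 1)⁻¹} : Set (RatFunc k)) ≤
        (integralClosure (A0 k) (RatFunc k)).restrictScalars k := by
      apply Algebra.adjoin_le
      intro y hy
      simp only [Set.mem_insert_iff, Set.mem_singleton_iff] at hy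
      rcases hy with rfl | rfl | rfl
      · exact hintX
      · rw [← hσ]; exact hint_g σ hσj
      · have : ((RatFunc.X : RatFunc k) - 1)⁻¹ = - ((σ.trans τ) RatFunc.X) := by
          rw [AlgEquiv.trans_apply, hσ, map_inv₀, hτ, ← inv_neg, neg_sub]
        rw [this]
        exact (hint_g (σ.trans τ) (by rw [AlgEquiv.trans_apply, hσj, hτj])).neg
    exact hle hbB
  -- Galois theory
  have hintE : IsIntegral (EE k) (RatFunc.X : RatFunc k) := hintX.tower_top
  haveI : FiniteDimensional (EE k) (RatFunc k) := by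
    haveI := IntermediateField.adjoin.finiteDimensional hintE
    exact Module.Finite.equiv (RatFunc.IntermediateField.adjoinXEquiv (EE k)).toLinearEquiv
  have hfr : Module.finrank (EE k) (RatFunc k) ≤ 6 := by
    rw [← (RatFunc.IntermediateField.adjoinXEquiv (EE k)).toLinearEquiv.finrank_eq,
      IntermediateField.adjoin.finrank hintE]
    have hm : ((PP (c0 k)).map (algebraMap (A0 k) (EE k))).Monic := (PP_monic (c0 k)).map _
    have hr : Polynomial.aeval (RatFunc.X : RatFunc k)
        ((PP (c0 k)).map (algebraMap (A0 k) (EE k))) = 0 := by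
      rw [Polynomial.aeval_map_algebraMap]; exact hroot
    have h1 := minpoly.min (EE k) (RatFunc.X : RatFunc k) hm hr
    have h2' := Polynomial.natDegree_le_natDegree h1
    exact h2'.trans ((Polynomial.natDegree_map_le).trans (PP_natDegree_le (c0 k)))
  let s := liftE (jj k) σ hσj
  let t := liftE (jj k) τ hτj
  have hsX : s RatFunc.X = (RatFunc.X : RatFunc k)⁻¹ := hσ
  have htX : t RatFunc.X = 1 - (RatFunc.X : RatFunc k) := hτ
  let H := MulAction.stabilizer (RatFunc k ≃ₐ[EE k] RatFunc k) b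
  have hsH : s ∈ H := by
    rw [MulAction.mem_stabilizer_iff]; exact hσb
  have htH : t ∈ H := by
    rw [MulAction.mem_stabilizer_iff]; exact hτb
  have hs2 : s * s = 1 := by
    apply ext_X
    rw [AlgEquiv.mul_apply, AlgEquiv.one_apply, hsX, map_inv₀, hsX, inv_inv]
  have hs1 : s ≠ 1 := fun h => X_inv_ne_X (k := k) (by rw [← hsX, h, AlgEquiv.one_apply])
  let r := s * t
  have hrH : r ∈ H := H.mul_mem hsH htH
  have hrX : r RatFunc.X = 1 - (RatFunc.X : RatFunc k)⁻¹ := by
    show (s * t) RatFunc.X = _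
    rw [AlgEquiv.mul_apply, htX, map_sub, map_one, hsX]
  have hr3 : r * r * r = 1 := by
    apply ext_X
    simp only [AlgEquiv.mul_apply, AlgEquiv.one_apply, hrX, map_sub, map_one, map_inv₀]
    exact cube_comp
  have hr1 : r ≠ 1 := fun h => one_sub_X_inv_ne_X (k := k) (by rw [← hrX, h, AlgEquiv.one_apply])
  have h2dvd : 2 ∣ Nat.card H := by
    have : orderOf (⟨s, hsH⟩ : H) = 2 := by
      haveI : Fact (Nat.Prime 2) := ⟨Nat.prime_two⟩
      apply orderOf_eq_prime
      · apply Subtype.ext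
        rw [pow_two]
        exact hs2
      · intro h
        exact hs1 (congrArg Subtype.val h)
    rw [← this]
    exact orderOf_dvd_natCard _
  have h3dvd : 3 ∣ Nat.card H := by
    have : orderOf (⟨r, hrH⟩ : H) = 3 := by
      haveI : Fact (Nat.Prime 3) := ⟨Nat.prime_three⟩
      apply orderOf_eq_prime
      · apply Subtype.ext
        rw [pow_three']
        exact hr3
      · intro h
        exact hr1 (congrArg Subtype.val h)
    rw [← this]
    exact orderOf_dvd_natCard _
  have h6 : 6 ∣ Nat.card H :=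
    Nat.Coprime.mul_dvd_of_dvd_of_dvd (by norm_num : Nat.Coprime 2 3) h2dvd h3dvd
  have hcardle : Nat.card H ≤ Nat.card (RatFunc k ≃ₐ[EE k] RatFunc k) := Subgroup.card_le_card_group H
  have hGle : Nat.card (RatFunc k ≃ₐ[EE k] RatFunc k) ≤ Module.finrank (EE k) (RatFunc k) := by
    rw [Nat.card_eq_fintype_card]
    exact AlgEquiv.card_le
  have hHpos : 0 < Nat.card H := Nat.card_pos
  have hH6 : Nat.card H = 6 := by
    have := Nat.le_of_dvd hHpos h6
    omega
  have hG6 : Nat.card (RatFunc k ≃ₐ[EE k] RatFunc k) = 6 := by omega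
  have hfr6 : Module.finrank (EE k) (RatFunc k) = 6 := by omega
  haveI : IsGalois (EE k) (RatFunc k) := IsGalois.of_card_aut_eq_finrank _ _ (by rw [hG6, hfr6])
  have hHtop : H = ⊤ := Subgroup.eq_top_of_card_eq H (by rw [hH6, hG6])
  have hfix : ∀ f : RatFunc k ≃ₐ[EE k] RatFunc k, f b = b := by
    intro f
    have : f ∈ H := by rw [hHtop]; exact Subgroup.mem_top f
    exact MulAction.mem_stabilizer_iff.mp this
  obtain ⟨y, hy⟩ := (IsGalois.mem_range_algebraMap_iff_fixed b).mpr hfix
  -- integrally closed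
  haveI : UniqueFactorizationMonoid (A0 k) := htr.uniqueFactorizationMonoid_adjoin
  have hyint : IsIntegral (A0 k) y := by
    rw [← isIntegral_algebraMap_iff (algebraMap (EE k) (RatFunc k)).injective, hy]
    exact hbint
  obtain ⟨z, hz⟩ := (IsIntegrallyClosed.isIntegral_iff (R := A0 k) (K := EE k)).mp hyint
  rw [← hy, ← hz]
  exact z.2

end aux

/-- The algebraic step of its proof: Fix an algebraically closed field k whose characteristic is neither
2 nor 3, let B ⊆ k(λ) be the k-subalgebra generated by λ, λ⁻¹ and (λ - 1)⁻¹ (the coordinate ring of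
the λ-line with 0 and 1 removed), and let σ and τ be the k-algebra automorphisms of k(λ) determined
by σ(λ) = λ⁻¹ and τ(λ) = 1 - λ (they generate the group of order six permuting λ, 1/λ, 1-λ, 1/(1-λ),
λ/(λ-1), (λ-1)/λ). Then the elements of B fixed by σ and τ are exactly the elements of the
k-subalgebra generated by j = 256 (λ² - λ + 1)³ / (λ² (λ - 1)²); in other words the ring of
invariants of B is the polynomial ring k[j]. -/
theorem result (k : Type u) [Field k] [IsAlgClosed k]
    (h2 : (2 : k) ≠ 0) (h3 : (3 : k) ≠ 0)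
    (σ τ : RatFunc k ≃ₐ[k] RatFunc k) (hσ : σ RatFunc.X = (RatFunc.X : RatFunc k)⁻¹)
    (hτ : τ RatFunc.X = 1 - (RatFunc.X : RatFunc k)) (b : RatFunc k) :
    (b ∈ Algebra.adjoin k ({RatFunc.X, (RatFunc.X : RatFunc k)⁻¹, ((RatFunc.X : RatFunc k) - 1)⁻¹} : Set (RatFunc k)) ∧
        σ b = b ∧ τ b = b) ↔
      b ∈ Algebra.adjoin k ({(256 : RatFunc k) * ((RatFunc.X : RatFunc k) ^ 2 - RatFunc.X + 1) ^ 3 /
        ((RatFunc.X : RatFunc k) ^ 2 * ((RatFunc.X : RatFunc k) - 1) ^ 2)} : Set (RatFunc k)) := by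
  classical
  change (b ∈ Algebra.adjoin k ({RatFunc.X, (RatFunc.X : RatFunc k)⁻¹,
      ((RatFunc.X : RatFunc k) - 1)⁻¹} : Set (RatFunc k)) ∧ σ b = b ∧ τ b = b) ↔
      b ∈ Algebra.adjoin k ({jj k} : Set (RatFunc k))
  have hσj := sigma_jj σ hσ
  have hτj := tau_jj τ hτ
  constructor
  swap
  · intro hb
    refine ⟨?_, ?_, ?_⟩
    · have hle : Algebra.adjoin k ({jj k} : Set (RatFunc k)) ≤
          Algebra.adjoin k ({RatFunc.X, (RatFunc.X : RatFunc k)⁻¹,
            ((RatFunc.X : RatFunc k) - 1)⁻¹} : Set (RatFunc k)) := by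
        apply Algebra.adjoin_le
        intro y hy
        rw [Set.mem_singleton_iff] at hy
        rw [hy]
        have hXm : (RatFunc.X : RatFunc k) ∈ Algebra.adjoin k ({RatFunc.X, (RatFunc.X : RatFunc k)⁻¹,
            ((RatFunc.X : RatFunc k) - 1)⁻¹} : Set (RatFunc k)) := Algebra.subset_adjoin (by simp)
        have hXi : (RatFunc.X : RatFunc k)⁻¹ ∈ Algebra.adjoin k ({RatFunc.X, (RatFunc.X : RatFunc k)⁻¹,
            ((RatFunc.X : RatFunc k) - 1)⁻¹} : Set (RatFunc k)) := Algebra.subset_adjoin (by simp)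
        have hX1i : ((RatFunc.X : RatFunc k) - 1)⁻¹ ∈ Algebra.adjoin k ({RatFunc.X, (RatFunc.X : RatFunc k)⁻¹,
            ((RatFunc.X : RatFunc k) - 1)⁻¹} : Set (RatFunc k)) := Algebra.subset_adjoin (by simp)
        have h256 : (256 : RatFunc k) ∈ Algebra.adjoin k ({RatFunc.X, (RatFunc.X : RatFunc k)⁻¹,
            ((RatFunc.X : RatFunc k) - 1)⁻¹} : Set (RatFunc k)) := by
          have : (256 : RatFunc k) = algebraMap k (RatFunc k) 256 := by rw [map_ofNat]
          rw [this]
          exact Subalgebra.algebraMap_mem _ _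
        have hj : jj k = 256 * ((RatFunc.X : RatFunc k) ^ 2 - RatFunc.X + 1) ^ 3 *
            ((RatFunc.X : RatFunc k)⁻¹ ^ 2 * ((RatFunc.X : RatFunc k) - 1)⁻¹ ^ 2) := by
          unfold jj
          rw [div_eq_mul_inv, mul_inv, inv_pow, inv_pow]
        rw [hj]
        exact mul_mem (mul_mem h256 (pow_mem (add_mem (sub_mem (pow_mem hXm 2) hXm) (one_mem _)) 3))
          (mul_mem (pow_mem hXi 2) (pow_mem hX1i 2))
      exact hle hb
    · have hle : Algebra.adjoin k ({jj k} : Set (RatFunc k)) ≤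
          (eqField (σ : RatFunc k →ₐ[k] RatFunc k) (AlgHom.id k (RatFunc k))).toSubalgebra := by
        apply Algebra.adjoin_le
        intro y hy
        rw [Set.mem_singleton_iff] at hy
        rw [hy]
        exact hσj
      exact hle hb
    · have hle : Algebra.adjoin k ({jj k} : Set (RatFunc k)) ≤
          (eqField (τ : RatFunc k →ₐ[k] RatFunc k) (AlgHom.id k (RatFunc k))).toSubalgebra := by
        apply Algebra.adjoin_le
        intro y hy
        rw [Set.mem_singleton_iff] at hy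
        rw [hy]
        exact hτj
      exact hle hb
  · rintro ⟨hbB, hσb, hτb⟩
    exact main_forward h2 σ τ hσ hτ b hbB hσb hτb

end Groth.Agent.S11470
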