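import Groth.Statements.S1148
import Mathlib

set_option autoImplicit false
universe u
open Desc

namespace Groth.Agent.S1148

/-- Affine form (finiteness of irreducible components of quasi-compact opens is fppf local; this is the
ascent direction for a morphism of affine schemes). Let A → B be a flat ring map of finite
presentation. If Spec A has finitely many irreducible components, then so does Spec B. -/
theorem result (A B : Type u) [CommRing A] [CommRing B] [Algebra A B]
    [Module.Flat A B] [Algebra.FinitePresentation A B] (h : (irreducibleComponents (PrimeSpectrum A)).Finite) :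
    (irreducibleComponents (PrimeSpectrum B)).Finite := by
  have hA : (minimalPrimes A).Finite := by
    rw [← PrimeSpectrum.vanishingIdeal_irreducibleComponents]
    exact h.image _
  suffices hB : (minimalPrimes B).Finite by
    rw [← PrimeSpectrum.zeroLocus_minimalPrimes]
    exact hB.image _
  have himg : (Ideal.comap (algebraMap A B)) '' (minimalPrimes B) ⊆ minimalPrimes A := by
    rintro _ ⟨Q, hQ, rfl⟩
    haveI : Q.IsPrime := hQ.1.1
    refine ⟨⟨inferInstance, bot_le⟩, ?_⟩
    rintro P' ⟨hP', -⟩ hle
    haveI := hP'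
    haveI : Q.LiesOver (Q.comap (algebraMap A B)) := ⟨rfl⟩
    obtain ⟨Q', hQ'le, hQ'prime, hQ'over⟩ :=
      Ideal.exists_ideal_le_liesOver_of_le (p := P') (q := Q.comap (algebraMap A B)) Q hle
    have h1 : Q ≤ Q' := hQ.2 ⟨hQ'prime, bot_le⟩ hQ'le
    have hQQ' : Q' = Q := le_antisymm hQ'le h1
    have h2 : P' = Q'.under A := hQ'over.over
    rw [h2, hQQ']
  refine Set.Finite.of_finite_fibers (Ideal.comap (algebraMap A B)) (hA.subset himg) ?_
  rintro P hP
  have hPmin : P ∈ minimalPrimes A := himg hP
  haveI : P.IsPrime := hPmin.1.1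
  haveI : Algebra.FiniteType P.ResidueField (P.Fiber B) := inferInstance
  haveI : IsNoetherianRing (P.Fiber B) := Algebra.FiniteType.isNoetherianRing P.ResidueField _
  have hfin : (minimalPrimes (P.Fiber B)).Finite := minimalPrimes.finite_of_isNoetherianRing _
  refine (hfin.image (fun 𝔮 => 𝔮.comap (Algebra.TensorProduct.includeRight :
    B →ₐ[A] P.Fiber B))).subset ?_
  rintro Q ⟨hQ, hQP⟩
  haveI : Q.IsPrime := hQ.1.1
  have hQP' : Q.comap (algebraMap A B) = P := hQP
  haveI : Q.LiesOver P := ⟨hQP'.symm⟩
  let o := PrimeSpectrum.primesOverOrderIsoFiber A B P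
  let x : PrimeSpectrum (P.Fiber B) := o ⟨Q, inferInstance, inferInstance⟩
  refine ⟨x.asIdeal, ?_, ?_⟩
  · refine ⟨⟨x.2, bot_le⟩, ?_⟩
    rintro 𝔮' ⟨h𝔮', -⟩ hle
    let x' : PrimeSpectrum (P.Fiber B) := ⟨𝔮', h𝔮'⟩
    have hx'x : x' ≤ x := hle
    have h1 : o.symm x' ≤ o.symm x := o.symm.monotone hx'x
    have h2 : o.symm x = ⟨Q, inferInstance, inferInstance⟩ := o.symm_apply_apply _
    have h3 : ((o.symm x' : P.primesOver B) : Ideal B) ≤ Q := by
      have := h1
      rw [h2] at this
      exact this
    have h4 : Q ≤ ((o.symm x' : P.primesOver B) : Ideal B) :=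
      hQ.2 ⟨(o.symm x').2.1, bot_le⟩ h3
    have h5 : o.symm x ≤ o.symm x' := by
      rw [h2]
      exact h4
    have h6 : x ≤ x' := by
      have := o.monotone h5
      rwa [o.apply_symm_apply, o.apply_symm_apply] at this
    exact h6
  · have h2 : o.symm x = ⟨Q, inferInstance, inferInstance⟩ := o.symm_apply_apply _
    have h3 := PrimeSpectrum.coe_primesOverOrderIsoFiber_symm_apply (R := A) (S := B) (p := P) x
    show x.asIdeal.comap (Algebra.TensorProduct.includeRight : B →ₐ[A] P.Fiber B) = Q
    rw [← h3]
    exact congrArg Subtype.val h2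

end Groth.Agent.S1148
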