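import Groth.Statements.S11493
-- import your own Groth.Agent.* helpers here
import Mathlib
import Groth.Agent.Lib.helper6.ExtTop

set_option autoImplicit false
universe u
open CategoryTheory
open VBPn

namespace Groth.Agent.S11493

/-- Let A be a Noetherian local ring and I an ideal with a free resolution of length 1, 0 → A^p → A^q →
I → 0 (equivalently: a surjection A^q → I with free kernel). Let 0 → A → M → I → 0 be an extension
with class e ∈ Ext^1(I, A). Then M is free if and only if e generates the A-module Ext^1(I, A); the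
A-module structure being through End(A) = A, this says every element of Ext^1(I, A) is the composite
of e with an endomorphism of A. -/
theorem result (A : Type u) [CommRing A] [IsNoetherianRing A] [IsLocalRing A]
    (I : Ideal A)
    (hres : ∃ (q : ℕ) (φ : (Fin q → A) →ₗ[A] ↥I), Function.Surjective φ ∧ Module.Free A ↥(LinearMap.ker φ))
    (S : ShortComplex (ModuleCat.{u} A)) (hS : S.ShortExact)
    (h₁ : Nonempty (S.X₁ ≅ ModuleCat.of A A)) (h₃ : Nonempty (S.X₃ ≅ ModuleCat.of A ↥I)) :
    Module.Free A S.X₂ ↔
      ∀ x : Abelian.Ext S.X₃ S.X₁ 1, ∃ f : S.X₁ ⟶ S.X₁, hS.extClass.comp (Abelian.Ext.mk₀ f) (add_zero 1) = x := by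
  obtain ⟨e₁⟩ := h₁
  obtain ⟨e₃⟩ := h₃
  obtain ⟨q, φ, hφ, hfree⟩ := hres
  constructor
  · intro hF x
    haveI : Projective S.X₂ := by
      rw [← IsProjective.iff_projective]
      infer_instance
    have h0 : (Abelian.Ext.mk₀ S.g).comp x (zero_add 1) = 0 := Abelian.Ext.eq_zero_of_projective _
    obtain ⟨x₁, hx₁⟩ := Abelian.Ext.contravariant_sequence_exact₃ hS S.X₁ x h0 (add_zero 1)
    obtain ⟨f, rfl⟩ := Abelian.Ext.addEquiv₀.symm.surjective x₁
    exact ⟨f, by simpa using hx₁⟩
  · intro hx
    -- Ext^1(X₂, X₁) = 0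
    haveI : Projective S.X₁ := by
      have : Projective (ModuleCat.of A A) := by
        rw [← IsProjective.iff_projective]
        infer_instance
      exact Projective.of_iso e₁.symm this
    have hsub : ∀ x₂ : Abelian.Ext S.X₂ S.X₁ 1, x₂ = 0 := by
      intro x₂
      have h0 : (Abelian.Ext.mk₀ S.f).comp x₂ (zero_add 1) = 0 := Abelian.Ext.eq_zero_of_projective _
      obtain ⟨x₃, rfl⟩ := Abelian.Ext.contravariant_sequence_exact₂ hS S.X₁ x₂ h0
      obtain ⟨f, rfl⟩ := hx x₃
      rw [← Abelian.Ext.comp_assoc_of_third_deg_zero, hS.comp_extClass, Abelian.Ext.zero_comp]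
    have hsub' : Subsingleton (Abelian.Ext S.X₂ (ModuleCat.of A A) 1) := ⟨fun α β => by
      have h : ∀ γ : Abelian.Ext S.X₂ (ModuleCat.of A A) 1, γ = 0 := fun γ => by
        have h0 : γ.comp (Abelian.Ext.mk₀ e₁.inv) (add_zero 1) = 0 := hsub _
        have h1 : γ = (γ.comp (Abelian.Ext.mk₀ e₁.inv) (add_zero 1)).comp (Abelian.Ext.mk₀ e₁.hom) (add_zero 1) := by
          rw [Abelian.Ext.comp_assoc_of_third_deg_zero, Abelian.Ext.mk₀_comp_mk₀, e₁.inv_hom_id, Abelian.Ext.comp_mk₀_id]
        rw [h1, h0, Abelian.Ext.zero_comp]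
      rw [h α, h β]⟩
    -- finiteness
    haveI : IsNoetherian A S.X₁ := isNoetherian_of_linearEquiv e₁.toLinearEquiv.symm
    haveI : IsNoetherian A S.X₃ := isNoetherian_of_linearEquiv e₃.toLinearEquiv.symm
    haveI : IsNoetherian A S.X₂ := isNoetherian_of_range_eq_ker S.f.hom S.g.hom
      ((ShortComplex.moduleCat_exact_iff_range_eq_ker S).mp hS.exact)
    haveI : Module.Finite A S.X₂ := inferInstance
    -- projective dimension
    have hp1 : HasProjectiveDimensionLT S.X₁ 2 := hasProjectiveDimensionLT_of_ge S.X₁ 1 2 (by omega)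
    have hpI : HasProjectiveDimensionLT (ModuleCat.of A ↥I) 2 := by
      have hK := LinearMap.shortExact_shortComplexKer hφ
      haveI : Projective (LinearMap.shortComplexKer φ).X₁ := by
        rw [← IsProjective.iff_projective]
        change Module.Projective A (LinearMap.ker φ)
        infer_instance
      haveI : Projective (LinearMap.shortComplexKer φ).X₂ := by
        rw [← IsProjective.iff_projective]
        change Module.Projective A (Fin q → A)
        infer_instance
      exact hK.hasProjectiveDimensionLT_X₃ 1 inferInstance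
        (hasProjectiveDimensionLT_of_ge _ 1 2 (by omega))
    have hp3 : HasProjectiveDimensionLT S.X₃ 2 := hasProjectiveDimensionLT_of_iso e₃.symm 2
    have hp2 : HasProjectiveDimensionLT S.X₂ 2 := hS.hasProjectiveDimensionLT_X₂ 2 hp1 hp3
    have hp := Groth.Agent.Lib.helper6.ExtTop.hasProjectiveDimensionLT_of_ext_top S.X₂ 1 hp2 hsub'
    haveI : Projective S.X₂ := projective_iff_hasProjectiveDimensionLT_one.mpr hp
    haveI : Module.Projective A S.X₂ := (IsProjective.iff_projective _).mpr this
    exact Module.free_of_flat_of_isLocalRing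

end Groth.Agent.S11493
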