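import Groth.Statements.S11496
import Groth.Agent.S0563
import Groth.Agent.S0564
import Groth.Agent.Lib.helper9.Depth4

set_option autoImplicit false
universe u
open CategoryTheory
open VBPn

namespace Groth.Agent.S11496

/-- Let A be a regular local ring, M a finitely generated A-module and i ≥ 0. The support of Ext^i_A(M,
A) has dimension at most dim A − i: for every prime ideal p of A such that Ext^i over the
localization A_p of M_p into A_p is nonzero (this Ext group is the localization at p of Ext^i_A(M,
A)), one has dim(A/p) + i ≤ dim A. The published statement is for coherent analytic sheaves on an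
n-dimensional complex manifold; this row is stated for any regular local ring. -/
theorem result (A : Type u) [CommRing A] [IsRegularLocalRing A]
    (M : Type u) [AddCommGroup M] [Module A M] [Module.Finite A M] (i : ℕ) (p : Ideal A) [p.IsPrime]
    (h : Nontrivial (Abelian.Ext
      (ModuleCat.of (Localization.AtPrime p) (LocalizedModule p.primeCompl M))
      (ModuleCat.of (Localization.AtPrime p) (Localization.AtPrime p)) i)) :
    ringKrullDim (A ⧸ p) + (i : WithBot ℕ∞) ≤ ringKrullDim A := by
  have hreg : IsRegularLocalRing (Localization.AtPrime p) := Groth.Agent.S0564.result A p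
  -- `i ≤ ht p`
  have hfin : p.height ≠ ⊤ := Ideal.height_ne_top_of_isPrime
  obtain ⟨h, hh⟩ : ∃ h : ℕ, p.height = h := ⟨p.height.toNat, (ENat.natCast_toNat hfin).symm⟩
  have hdim : ringKrullDim (Localization.AtPrime p) = (h : WithBot ℕ∞) := by
    rw [IsLocalization.AtPrime.ringKrullDim_eq_height p (Localization.AtPrime p), hh]
    rfl
  have hpd := Groth.Agent.S0563.result (Localization.AtPrime p) h hdim
    (LocalizedModule p.primeCompl M)
  have hi : i ≤ h := by
    by_contra hlt
    have : Subsingleton (Abelian.Ext
      (ModuleCat.of (Localization.AtPrime p) (LocalizedModule p.primeCompl M))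
      (ModuleCat.of (Localization.AtPrime p) (Localization.AtPrime p)) i) :=
      HasProjectiveDimensionLT.subsingleton _ (h + 1) i (by omega) _
    exact not_nontrivial _ ‹_›
  -- `ht p + dim A/p ≤ dim A`
  have h1 := Groth.Agent.Lib.helper9.Depth.ringKrullDim_quotient_eq_coheight
    (⟨p, inferInstance⟩ : PrimeSpectrum A)
  have h2 : ((Order.height (⟨p, inferInstance⟩ : PrimeSpectrum A) +
      Order.coheight (⟨p, inferInstance⟩ : PrimeSpectrum A) : ℕ∞) : WithBot ℕ∞) ≤ ringKrullDim A := by
    unfold ringKrullDim
    rw [Order.krullDim_eq_iSup_height_add_coheight_of_nonempty, WithBot.coe_le_coe]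
    exact le_iSup (fun a : PrimeSpectrum A => Order.height a + Order.coheight a) ⟨p, inferInstance⟩
  have h3 : Order.height (⟨p, inferInstance⟩ : PrimeSpectrum A) = (h : ℕ∞) := by
    rw [← hh]
    exact (PrimeSpectrum.height_eq_orderHeight (⟨p, inferInstance⟩ : PrimeSpectrum A)).symm
  rw [h3] at h2
  change ringKrullDim (A ⧸ p) = _ at h1
  rw [h1]
  refine le_trans ?_ h2
  rw [add_comm]
  have : ((i : ℕ∞) : WithBot ℕ∞) ≤ ((h : ℕ∞) : WithBot ℕ∞) := by exact_mod_cast hi
  push_cast
  exact add_le_add_left this _

end Groth.Agent.S11496
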