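import Groth.Statements.S11499
import Groth.Agent.Lib.helper5.TorsFree

set_option autoImplicit false
universe u
open TensorProduct
open VBPn

namespace Groth.Agent.S11499

/-- Let A be an integral domain with fraction field K and M a finitely generated torsion-free A-module
of rank r (K ⊗_A M is r-dimensional over K). Then there is an injective A-linear map M → A^r. The
published statement is for torsion-free coherent sheaves on a complex manifold, locally near a
point; this row is its statement for one stalk, over any domain. -/
theorem result (A : Type u) [CommRing A] [IsDomain A]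
    (M : Type u) [AddCommGroup M] [Module A M] [Module.Finite A M] [NoZeroSMulDivisors A M] (r : ℕ)
    (hr : Module.finrank (FractionRing A) (FractionRing A ⊗[A] M) = r) :
    ∃ f : M →ₗ[A] (Fin r → A), Function.Injective f := by
  classical
  obtain ⟨F, c, hc, hfree, hfin, hcT⟩ := Groth.Agent.H5.TorsFree.exists_free_submodule_smul_le A M
  let K := FractionRing A
  let μ : M →ₗ[A] F := LinearMap.codRestrict F (c • LinearMap.id) hcT
  have hμ : Function.Injective μ := by
    rw [injective_iff_map_eq_zero]
    intro t ht
    have h1 : c • t = 0 := by
      have := congrArg Subtype.val ht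
      simpa [μ] using this
    rcases smul_eq_zero.mp h1 with h | h
    · exact absurd h hc
    · exact h
  -- K ⊗ F ≃ K ⊗ M
  have hinj : Function.Injective (F.subtype.baseChange K) := by
    rw [LinearMap.baseChange_eq_ltensor]
    exact Module.Flat.lTensor_preserves_injective_linearMap F.subtype F.injective_subtype
  have hcK : algebraMap A K c ≠ 0 := by
    rw [Ne, map_eq_zero_iff _ (IsFractionRing.injective A K)]; exact hc
  have hsurj : Function.Surjective (F.subtype.baseChange K) := by
    intro z
    induction z using TensorProduct.induction_on with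
    | zero => exact ⟨0, map_zero _⟩
    | tmul k m =>
      refine ⟨(k * (algebraMap A K c)⁻¹) ⊗ₜ[A] ⟨c • m, hcT m⟩, ?_⟩
      rw [LinearMap.baseChange_tmul, Submodule.subtype_apply, ← TensorProduct.smul_tmul,
        Algebra.smul_def, mul_comm k, ← mul_assoc, mul_inv_cancel₀ hcK, one_mul]
    | add x y hx hy =>
      obtain ⟨x', rfl⟩ := hx
      obtain ⟨y', rfl⟩ := hy
      exact ⟨x' + y', map_add _ _ _⟩
  let eK : K ⊗[A] F ≃ₗ[K] K ⊗[A] M := LinearEquiv.ofBijective _ ⟨hinj, hsurj⟩
  have hrank : Module.finrank A F = r := by
    rw [← hr, ← eK.finrank_eq, Module.finrank_baseChange]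
  let b := Module.finBasisOfFinrankEq A F hrank
  exact ⟨b.equivFun.toLinearMap ∘ₗ μ, b.equivFun.injective.comp hμ⟩

end Groth.Agent.S11499
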