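import Groth.Statements.S1153
import Mathlib
import Groth.Agent.Lib.helper2.ProperOver
import Groth.Agent.Lib.helper1.FpqcDescent
-- import your own Groth.Agent.* helpers here

set_option autoImplicit false
open CategoryTheory CategoryTheory.Limits AlgebraicGeometry Opposite
universe u
open Desc

namespace Groth.Agent.S1153

/-- Let f : X ⟶ Y be locally of finite type, Z a closed subset of X and g : Y' ⟶ Y quasi-compact, flat
and surjective. If the preimage of Z in X ×_Y Y' is proper over Y', then Z is proper over Y. -/
theorem result {X Y Y' : Scheme.{u}} (f : X ⟶ Y) [LocallyOfFiniteType f] (Z : Set X) (hZ : IsClosed Z)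
    (g : Y' ⟶ Y) [QuasiCompact g] [Flat g] [Surjective g]
    (h : ClSub.IsProperOver (pullback.snd f g) ((pullback.fst f g).base ⁻¹' Z)) :
    ClSub.IsProperOver f Z := by
  refine ⟨hZ, ?_⟩
  set ι := (Scheme.IdealSheafData.vanishingIdeal ⟨Z, hZ⟩).subschemeι with hι
  have hr : Set.range ι = Z :=
    Groth.Agent.Lib.helper2.ProperOver.range_subschemeι_vanishingIdeal Z hZ
  -- the closed subscheme of `X ×_Y Y'` lying over `Z`
  have hrange : Set.range (pullback.snd ι (pullback.fst f g)) = (pullback.fst f g).base ⁻¹' Z := by
    rw [Scheme.Pullback.range_snd, hr]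
  have hlft : LocallyOfFiniteType (pullback.snd f g) := inferInstance
  rw [← hrange] at h
  have hprop : IsProper (pullback.snd ι (pullback.fst f g) ≫ pullback.snd f g) :=
    (Groth.Agent.Lib.helper2.ProperOver.isProperOver_range_iff (pullback.snd f g)
      (pullback.snd ι (pullback.fst f g))).1 h
  have sq : IsPullback (pullback.fst ι (pullback.fst f g))
      (pullback.snd ι (pullback.fst f g) ≫ pullback.snd f g) (ι ≫ f) g :=
    (IsPullback.of_hasPullback ι (pullback.fst f g)).paste_vert (IsPullback.of_hasPullback f g)
  have hd := Groth.Agent.Lib.helper1.isProper_descendsAlong.{u}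
  exact hd.of_isPullback sq.flip ⟨⟨inferInstance, inferInstance⟩, inferInstance⟩ hprop

end Groth.Agent.S1153
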