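import Groth.Statements.S11546
import Mathlib

set_option autoImplicit false
universe u
open AdicRing

namespace Groth.Agent.S11546

/-- Let R be a base ring of class (N) or (V) for the ideal I. Then the restricted power series ring
R⟨ζ_1, ..., ζ_n⟩ is flat over R. -/
theorem result
    (R : Type u) [CommRing R] (I : Ideal R) (hR : AdicRing.IsBase R I) (n : ℕ) :
    Module.Flat R (AdicRing.RPow R I n) := by
  obtain ⟨hcomp, hNV⟩ := hR
  rcases hNV with ⟨hN, -⟩ | ⟨hdom, hval, -, t, ht0, hIt⟩
  · -- Noetherian case
    have : Module.Flat (MvPolynomial (Fin n) R) (AdicRing.RPow R I n) :=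
      AdicCompletion.flat_of_isNoetherian _
    exact Module.Flat.trans R (MvPolynomial (Fin n) R) (AdicRing.RPow R I n)
  · -- valuation ring case
    have : ValuationRing R := { }
    rw [Module.Flat.flat_iff_torsion_eq_bot_of_isBezout, eq_bot_iff]
    rintro x ⟨⟨a, ha⟩, hax⟩
    have ha0 : a ≠ 0 := nonZeroDivisors.ne_zero ha
    change a • x = 0 at hax
    rw [Submodule.mem_bot]
    -- `a` divides a power of `t`
    have hdiv : ∃ N : ℕ, a ∣ t ^ N := by
      by_contra hno
      push Not at hno
      apply ha0
      have hH : IsHausdorff I R := hcomp.toIsHausdorff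
      apply hH.haus'
      intro N
      rw [SModEq.zero, smul_eq_mul, Ideal.mul_top, hIt, Ideal.span_singleton_pow,
        Ideal.mem_span_singleton]
      obtain ⟨c, hc | hc⟩ := PreValuationRing.cond a (t ^ N)
      · exact absurd ⟨c, hc.symm⟩ (hno N)
      · exact ⟨c, hc.symm⟩
    obtain ⟨N, c, hc⟩ := hdiv
    have htx : (t ^ N) • x = 0 := by
      rw [hc, mul_comm, mul_smul, hax, smul_zero]
    -- now use that the polynomial ring is a domain
    have hJt : I.map (MvPolynomial.C : R →+* MvPolynomial (Fin n) R) =
        Ideal.span {(MvPolynomial.C t : MvPolynomial (Fin n) R)} := by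
      rw [hIt, Ideal.map_span, Set.image_singleton]
    apply AdicCompletion.ext
    intro k
    rw [AdicCompletion.val_zero_apply]
    have h1 := congrArg (fun y : AdicRing.RPow R I n => y.val (k + N)) htx
    simp only [AdicCompletion.val_smul_apply, AdicCompletion.val_zero_apply] at h1
    obtain ⟨y, hy⟩ := Submodule.Quotient.mk_surjective _ (x.val (k + N))
    rw [← hy, ← Submodule.Quotient.mk_smul, Submodule.Quotient.mk_eq_zero] at h1
    rw [smul_eq_mul, Ideal.mul_top, hJt, Ideal.span_singleton_pow, Ideal.mem_span_singleton] at h1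
    obtain ⟨z, hz⟩ := h1
    have hCt : (MvPolynomial.C t : MvPolynomial (Fin n) R) ≠ 0 := by
      rw [Ne, MvPolynomial.C_eq_zero]; exact ht0
    have hy' : y = MvPolynomial.C t ^ k * z := by
      apply mul_left_cancel₀ (pow_ne_zero N hCt)
      rw [← mul_assoc, ← pow_add, add_comm N k, ← hz, MvPolynomial.smul_eq_C_mul, map_pow]
    have h2 := AdicCompletion.transitionMap_comp_eval_apply
      (I := I.map (MvPolynomial.C : R →+* MvPolynomial (Fin n) R))
      (M := MvPolynomial (Fin n) R) (Nat.le_add_right k N) x
    rw [← h2, ← hy]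
    show Submodule.factor _ (Submodule.mkQ _ y) = 0
    rw [Submodule.factor_mk, Submodule.mkQ_apply, Submodule.Quotient.mk_eq_zero, smul_eq_mul,
      Ideal.mul_top, hJt, Ideal.span_singleton_pow, Ideal.mem_span_singleton, hy']
    exact dvd_mul_right _ _

end Groth.Agent.S11546
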