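import Groth.Statements.S1156
import Mathlib
-- import your own Groth.Agent.* helpers here

set_option autoImplicit false
universe u
open scoped TensorProduct
open Desc

namespace Groth.Agent.S1156

section helpers


variable (R A : Type u) [CommRing R] [CommRing A] [Algebra R A]

/-- the action map `A ⊗ P → P`. -/
noncomputable def act (P : Type u) [AddCommGroup P] [Module R P] [Module A P] [IsScalarTower R A P] :
    A ⊗[R] P →ₗ[R] P :=
  TensorProduct.lift ((Algebra.lsmul R R P).toLinearMap)

@[simp] theorem act_tmul (P : Type u) [AddCommGroup P] [Module R P] [Module A P]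
    [IsScalarTower R A P] (a : A) (p : P) : act R A P (a ⊗ₜ p) = a • p := by
  simp [act]

variable (M : Type u) [AddCommGroup M] [Module R M]

noncomputable def f : M →ₗ[R] A ⊗[R] M := TensorProduct.mk R A M 1

noncomputable def g : A ⊗[R] M →ₗ[R] A ⊗[R] (A ⊗[R] M) :=
  TensorProduct.mk R A (A ⊗[R] M) 1 - LinearMap.lTensor A (f R A M)

theorem g_comp_f : g R A M ∘ₗ f R A M = 0 := by
  ext m
  simp [g, f]

theorem homotopy :
    (f R A M).lTensor A ∘ₗ act R A (A ⊗[R] M) + act R A (A ⊗[R] (A ⊗[R] M)) ∘ₗ (g R A M).lTensor A =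
      LinearMap.id := by
  ext a b m
  simp [g, f, TensorProduct.smul_tmul']

theorem exact_lTensor : Function.Exact ((f R A M).lTensor A) ((g R A M).lTensor A) := by
  intro y
  constructor
  · intro hy
    have h := LinearMap.congr_fun (homotopy R A M) y
    simp only [LinearMap.add_apply, LinearMap.coe_comp, Function.comp_apply, LinearMap.id_coe,
      id_eq, hy, map_zero, add_zero] at h
    exact ⟨_, h⟩
  · rintro ⟨z, rfl⟩
    rw [← LinearMap.comp_apply, ← LinearMap.lTensor_comp, g_comp_f]
    simp

theorem exact [Module.FaithfullyFlat R A] : Function.Exact (f R A M) (g R A M) :=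
  (Module.FaithfullyFlat.lTensor_exact_iff_exact R A _ _).1 (exact_lTensor R A M)


end helpers


/-- Exactness of the extended Amitsur complex in degree 0 (injectivity in degree −1 being standard). Let
R → A be faithfully flat and M an R-module. An element x of A ⊗_R M with 1 ⊗ x = (a ⊗ m ↦ a ⊗ 1 ⊗
m)(x) in A ⊗_R A ⊗_R M lies in the image of m ↦ 1 ⊗ m. -/
theorem result (R A : Type u) [CommRing R] [CommRing A] [Algebra R A] [Module.FaithfullyFlat R A]
    (M : Type u) [AddCommGroup M] [Module R M] (x : A ⊗[R] M)
    (hx : TensorProduct.mk R A (A ⊗[R] M) 1 x = LinearMap.lTensor A (TensorProduct.mk R A M 1) x) :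
    x ∈ LinearMap.range (TensorProduct.mk R A M 1) := by
  have h0 : g R A M x = 0 := by
    simp only [g, f, LinearMap.sub_apply, hx, sub_self]
  obtain ⟨m, hm⟩ := (exact R A M x).1 h0
  exact ⟨m, hm⟩

end Groth.Agent.S1156
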