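import Groth.Statements.S1163
import Mathlib
-- import your own Groth.Agent.* helpers here

set_option autoImplicit false
open CategoryTheory CategoryTheory.Limits AlgebraicGeometry Opposite
universe u
open Desc

namespace Groth.Agent.S1163

open TensorProduct

/-- faithfully flat ring maps are universally injective (tensored on the right). -/
theorem rTensor_injective_of_faithfullyFlat (C B D : Type u) [CommRing C] [CommRing B] [CommRing D]
    [Algebra C B] [Algebra B D] [Algebra C D] [IsScalarTower C B D] [Module.FaithfullyFlat B D]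
    (N : Type u) [AddCommGroup N] [Module C N] :
    Function.Injective ((IsScalarTower.toAlgHom C B D).toLinearMap.rTensor N) := by
  let e := TensorProduct.AlgebraTensorModule.cancelBaseChange C B D D N
  have hmk : Function.Injective (TensorProduct.mk B D (B ⊗[C] N) 1) :=
    Module.FaithfullyFlat.tensorProduct_mk_injective (A := B) (B := D) (B ⊗[C] N)
  have key : ∀ x : B ⊗[C] N, (IsScalarTower.toAlgHom C B D).toLinearMap.rTensor N x =
      e (TensorProduct.mk B D (B ⊗[C] N) 1 x) := by
    intro x
    induction x using TensorProduct.induction_on with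
    | zero => simp
    | tmul b n =>
      simp [e, Algebra.smul_def]
    | add x y hx hy => simp only [map_add, hx, hy]
  intro x y hxy
  rw [key, key] at hxy
  exact hmk (e.injective hxy)

theorem flat_of_pure (C B A D : Type u) [CommRing C] [CommRing B] [CommRing A] [CommRing D]
    [Algebra C B] [Algebra B A] [Algebra A D] [Algebra C A] [Algebra B D] [Algebra C D]
    [IsScalarTower C B A] [IsScalarTower B A D] [IsScalarTower C B D] [IsScalarTower C A D]
    [Module.FaithfullyFlat B D] [Module.Flat C A] : Module.Flat C B := by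
  rw [Module.Flat.iff_lTensor_preserves_injective_linearMap]
  intro N N' _ _ _ _ l hl
  have hA : Function.Injective (l.lTensor A) :=
    Module.Flat.lTensor_preserves_injective_linearMap l hl
  let φ : B →ₗ[C] A := (IsScalarTower.toAlgHom C B A).toLinearMap
  let ψ : A →ₗ[C] D := (IsScalarTower.toAlgHom C A D).toLinearMap
  have hψφ : ψ ∘ₗ φ = (IsScalarTower.toAlgHom C B D).toLinearMap := by
    ext b
    simp [φ, ψ, ← IsScalarTower.algebraMap_apply]
  have hφinj : Function.Injective (φ.rTensor N) := by
    have h := rTensor_injective_of_faithfullyFlat C B D N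
    rw [← hψφ, LinearMap.rTensor_comp] at h
    exact Function.Injective.of_comp h
  have hcomm : (l.lTensor A) ∘ₗ (φ.rTensor N) = (φ.rTensor N') ∘ₗ (l.lTensor B) := by
    ext b n
    simp
  intro x y hxy
  apply hφinj
  apply hA
  have := congrArg (φ.rTensor N') hxy
  have h1 := LinearMap.congr_fun hcomm x
  have h2 := LinearMap.congr_fun hcomm y
  simp only [LinearMap.coe_comp, Function.comp_apply] at h1 h2
  rw [h1, h2, this]



theorem ringHom_flat_of_pure {C B A D : Type u} [CommRing C] [CommRing B] [CommRing A] [CommRing D]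
    (α : C →+* B) (β : B →+* A) (γ : A →+* D) (h1 : (γ.comp β).FaithfullyFlat)
    (h2 : (β.comp α).Flat) : α.Flat := by
  let _ : Algebra C B := α.toAlgebra
  let _ : Algebra B A := β.toAlgebra
  let _ : Algebra A D := γ.toAlgebra
  let _ : Algebra C A := (β.comp α).toAlgebra
  let _ : Algebra B D := (γ.comp β).toAlgebra
  let _ : Algebra C D := (γ.comp (β.comp α)).toAlgebra
  have : IsScalarTower C B A := IsScalarTower.of_algebraMap_eq' rfl
  have : IsScalarTower B A D := IsScalarTower.of_algebraMap_eq' rfl
  have : IsScalarTower C B D := IsScalarTower.of_algebraMap_eq' rfl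
  have : IsScalarTower C A D := IsScalarTower.of_algebraMap_eq' rfl
  have : Module.FaithfullyFlat B D := h1
  have : Module.Flat C A := h2
  exact flat_of_pure C B A D


/-- The case P = flat, single fppf cover: Let f : X ⟶ Y and q : Y ⟶ Z be morphisms of schemes, and
suppose there is a flat, surjective morphism g : Y' ⟶ Y locally of finite presentation which factors
through f. If f ≫ q is flat, then q is flat. -/
theorem result {X Y Z Y' : Scheme.{u}} (f : X ⟶ Y) (q : Y ⟶ Z) (g : Y' ⟶ Y) [Flat g] [Surjective g]
    [LocallyOfFinitePresentation g] (l : Y' ⟶ X) (hl : l ≫ f = g) [Flat (f ≫ q)] : Flat q := by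
  subst hl
  rw [Flat.iff_flat_stalkMap]
  intro y
  obtain ⟨y', rfl⟩ := (l ≫ f).surjective y
  have hcomp : ((f ≫ q).stalkMap (l y')).hom.Flat := Flat.stalkMap (f ≫ q) (l y')
  rw [Scheme.Hom.stalkMap_comp] at hcomp
  have hg : ((l ≫ f).stalkMap y').hom.Flat := Flat.stalkMap (l ≫ f) y'
  have hgl : IsLocalHom ((l ≫ f).stalkMap y').hom := inferInstance
  rw [Scheme.Hom.stalkMap_comp] at hg hgl
  refine ringHom_flat_of_pure (q.stalkMap (f (l y'))).hom (f.stalkMap (l y')).hom
    (l.stalkMap y').hom ?_ hcomp
  rw [← CommRingCat.hom_comp]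
  algebraize [(f.stalkMap (l y') ≫ l.stalkMap y').hom]
  have : IsLocalHom (algebraMap (Y.presheaf.stalk (f (l y'))) (Y'.presheaf.stalk y')) := hgl
  have : Module.Flat (Y.presheaf.stalk (f (l y'))) (Y'.presheaf.stalk y') := hg
  exact Module.FaithfullyFlat.of_flat_of_isLocalHom

end Groth.Agent.S1163
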