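import Groth.Statements.S4666
import Mathlib
-- import your own Groth.Agent.* helpers here

set_option autoImplicit false
open CategoryTheory AlgebraicGeometry
universe u
open FDesc

namespace Groth.Agent.S4666

open CategoryTheory AlgebraicGeometry CategoryTheory.Limits

namespace H5S4666

set_option backward.isDefEq.respectTransparency.types false in
lemma stalkMap_injective {W Z : Scheme.{u}} (p : W ⟶ Z) [Flat p] (w : W) :
    Function.Injective (p.stalkMap w) := by
  algebraize [(p.stalkMap w).hom]
  have : Module.FaithfullyFlat (Z.presheaf.stalk (p w)) (W.presheaf.stalk w) :=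
    @Module.FaithfullyFlat.of_flat_of_isLocalHom _ _ _ _ _ _ _
      (Flat.stalkMap p w) (p.toLRSHom.prop w)
  exact ‹RingHom.FaithfullyFlat _›.injective

lemma app_injective {W Z : Scheme.{u}} (p : W ⟶ Z) [Flat p] [Surjective p] (U : Z.Opens) :
    Function.Injective (p.app U) := by
  rw [injective_iff_map_eq_zero]
  intro s hs
  refine TopCat.Presheaf.section_ext Z.sheaf U s 0 fun z hz ↦ ?_
  obtain ⟨w, rfl⟩ := p.surjective z
  apply stalkMap_injective p w
  have h1 := Scheme.Hom.germ_stalkMap_apply p U w hz s
  rw [hs, map_zero] at h1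
  refine h1.trans ?_
  have h0 : (Z.sheaf.presheaf.germ U (p w) hz) 0 = 0 := map_zero _
  exact ((congrArg (p.stalkMap w) h0).trans (map_zero _)).symm

lemma ker_eq_bot {W Z : Scheme.{u}} (p : W ⟶ Z) [Flat p] [Surjective p] : p.ker = ⊥ := by
  rw [← le_bot_iff]
  intro U
  refine (p.ideal_ker_le U).trans ?_
  rw [Scheme.IdealSheafData.ideal_bot, Pi.bot_apply, le_bot_iff,
    ← RingHom.injective_iff_ker_eq_bot]
  exact app_injective p U.1

lemma le_of_comap_le {X Y : Scheme.{u}} (f : X ⟶ Y) [Flat f] [Surjective f]
    (J₁ J₂ : Y.IdealSheafData) (h : J₁.comap f ≤ J₂.comap f) : J₁ ≤ J₂ := by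
  have h1 : J₁ ≤ (J₁.comap f).map f := Scheme.IdealSheafData.le_map_comap _ _
  have h2 : (J₁.comap f).map f ≤ (J₂.comap f).map f := Scheme.IdealSheafData.map_mono _ h
  have h3 : (J₂.comap f).map f = (pullback.fst f J₂.subschemeι ≫ f).ker := by
    rw [← Scheme.IdealSheafData.map_ker]
    rfl
  have h4 : (pullback.fst f J₂.subschemeι ≫ f).ker = J₂ := by
    rw [pullback.condition, ← Scheme.IdealSheafData.map_ker, ker_eq_bot,
      Scheme.IdealSheafData.map_bot, Scheme.IdealSheafData.ker_subschemeι]
  exact h1.trans (h2.trans (h3.trans h4).le)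

theorem main {X Y : Scheme.{u}} (f : X ⟶ Y) [Flat f] [Surjective f] :
    Function.Injective fun J : Y.IdealSheafData => J.comap f := by
  intro J₁ J₂ h
  exact le_antisymm (le_of_comap_le f J₁ J₂ (le_of_eq h)) (le_of_comap_le f J₂ J₁ (le_of_eq h.symm))

end H5S4666

/-- Let f : X → Y be a flat and surjective morphism of schemes. Then the map sending a quasi-coherent
sheaf of ideals of O_Y (a closed subscheme of Y) to its inverse image in X is injective. -/
theorem result {X Y : Scheme.{u}} (f : X ⟶ Y) [Flat f] [Surjective f] :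
    Function.Injective fun J : Y.IdealSheafData => J.comap f := by
  exact H5S4666.main f

end Groth.Agent.S4666
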