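import Groth.Statements.S4667
import Mathlib
-- import your own Groth.Agent.* helpers here

set_option autoImplicit false
open CategoryTheory AlgebraicGeometry
universe u
open FDesc

namespace Groth.Agent.S4667

open CategoryTheory AlgebraicGeometry CategoryTheory.Limits

namespace H5S4667

lemma toImage_std {X Y : Scheme.{u}} (f : X ⟶ Y) [QuasiCompact f] :
    IsSchemeTheoreticallyDominant f.toImage := by
  rw [isSchemeTheoreticallyDominant_iff]
  refine Scheme.IdealSheafData.ext_of_iSup_eq_top
    (fun U : Y.affineOpens ↦ (⟨f.imageι ⁻¹ᵁ U.1, U.2.preimage f.imageι⟩ : f.image.affineOpens)) ?_ ?_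
  · rw [← Scheme.Hom.preimage_iSup]
    have : ⨆ i : Y.affineOpens, (i : Y.Opens) = ⊤ := iSup_affineOpens_eq_top Y
    rw [this]
    rfl
  · intro U
    rw [Scheme.IdealSheafData.ideal_bot, Pi.bot_apply, ← le_bot_iff]
    refine (f.toImage.ideal_ker_le _).trans ?_
    rw [le_bot_iff, ← RingHom.injective_iff_ker_eq_bot]
    exact f.toImage_app_injective U

theorem main {X Y Y' : Scheme.{u}} (f : X ⟶ Y) (g : Y' ⟶ Y)
    [QuasiCompact f] [Flat g] :
    (pullback.snd f g).ker = f.ker.comap g := by
  have key : ∀ (Z : Scheme.{u}) (t : X ⟶ Z) (i : Z ⟶ Y) [IsClosedImmersion i]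
      [IsSchemeTheoreticallyDominant t] [QuasiCompact t],
      (pullback.snd (t ≫ i) g).ker = i.ker.comap g := by
    intro Z t i _ _ _
    have h1 : (pullbackRightPullbackFstIso i g t).hom ≫ pullback.snd (t ≫ i) g =
        pullback.snd t (pullback.fst i g) ≫ pullback.snd i g :=
      pullbackRightPullbackFstIso_hom_snd i g t
    have h2 : pullback.snd (t ≫ i) g = (pullbackRightPullbackFstIso i g t).inv ≫
        pullback.snd t (pullback.fst i g) ≫ pullback.snd i g := by
      rw [← h1, Iso.inv_hom_id_assoc]
    rw [h2, Scheme.Hom.ker_comp_of_isIso, ← Scheme.IdealSheafData.map_ker,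
      Scheme.Hom.ker_eq_bot, Scheme.IdealSheafData.map_bot]
    have h3 : pullback.snd i g = (pullbackSymmetry i g).hom ≫ pullback.fst g i := by simp
    rw [h3, Scheme.Hom.ker_comp_of_isIso, Scheme.IdealSheafData.ker_fst_of_isClosedImmersion]
  haveI := toImage_std f
  have := key f.image f.toImage f.imageι
  have e : ∀ (f' : X ⟶ Y) (hf' : f' = f), (pullback.snd f' g).ker = (pullback.snd f g).ker := by
    intro f' hf'
    subst hf'
    rfl
  rw [← e _ f.toImage_imageι, this, Scheme.IdealSheafData.ker_subschemeι]

end H5S4667

open CategoryTheory.Limits in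
/-- Let f : X → Y be a quasi-compact morphism of schemes and g : Y' → Y a flat morphism, and let f' : X
×_Y Y' → Y' be the base change of f. Then the scheme-theoretic image of f' is the inverse image
under g of the scheme-theoretic image of f: the quasi-coherent ideal sheaf cutting out the former is
the pull-back along g of the one cutting out the latter. (One published statement is phrased for a
quasi-compact and quasi-separated S-morphism f and a flat base change S′ → S, which reduces to this
case; quasi-compactness of f suffices.) -/
theorem result {X Y Y' : Scheme.{u}} (f : X ⟶ Y) (g : Y' ⟶ Y)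
    [QuasiCompact f] [Flat g] :
    (pullback.snd f g).ker = f.ker.comap g := by
  exact H5S4667.main f g

end Groth.Agent.S4667
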