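import Groth.Statements.S5136
import Mathlib
import Groth.Agent.S4666
import Groth.Agent.S4667
-- import your own Groth.Agent.* helpers here

set_option autoImplicit false
open CategoryTheory CategoryTheory.Limits AlgebraicGeometry
universe u
open SGA1

namespace Groth.Agent.S5136


open CategoryTheory AlgebraicGeometry CategoryTheory.Limits

namespace H5S5136

lemma map_comap_eq {X Y : Scheme.{u}} (f : X ⟶ Y) [Flat f] [Surjective f] (J : Y.IdealSheafData) :
    (J.comap f).map f = J := by
  have h3 : (J.comap f).map f = (pullback.fst f J.subschemeι ≫ f).ker := by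
    rw [← Scheme.IdealSheafData.map_ker]
    rfl
  rw [h3, pullback.condition, ← Scheme.IdealSheafData.map_ker,
    Groth.Agent.S4666.H5S4666.ker_eq_bot, Scheme.IdealSheafData.map_bot,
    Scheme.IdealSheafData.ker_subschemeι]

/-- flat base change for the push-forward of ideal sheaves (scheme-theoretic image) -/
lemma map_comap_flat {X Y Y' : Scheme.{u}} (f : X ⟶ Y) (g : Y' ⟶ Y) [QuasiCompact f] [Flat g]
    (I : X.IdealSheafData) :
    (I.map f).comap g = (I.comap (pullback.fst f g)).map (pullback.snd f g) := by
  have hL : (I.map f).comap g = (pullback.snd (I.subschemeι ≫ f) g).ker :=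
    (Groth.Agent.S4667.H5S4667.main (I.subschemeι ≫ f) g).symm
  have hR : (I.comap (pullback.fst f g)).map (pullback.snd f g) =
      (pullback.fst (pullback.fst f g) I.subschemeι ≫ pullback.snd f g).ker := by
    rw [← Scheme.IdealSheafData.map_ker]
    rfl
  rw [hL, hR]
  have h1 : (pullbackRightPullbackFstIso f g I.subschemeι).hom ≫ pullback.snd (I.subschemeι ≫ f) g =
      pullback.snd I.subschemeι (pullback.fst f g) ≫ pullback.snd f g :=
    pullbackRightPullbackFstIso_hom_snd f g I.subschemeι
  have h2 : pullback.snd (I.subschemeι ≫ f) g = (pullbackRightPullbackFstIso f g I.subschemeι).inv ≫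
      pullback.snd I.subschemeι (pullback.fst f g) ≫ pullback.snd f g := by
    rw [← h1, Iso.inv_hom_id_assoc]
  have h3 : pullback.snd I.subschemeι (pullback.fst f g) =
      (pullbackSymmetry I.subschemeι (pullback.fst f g)).hom ≫
        pullback.fst (pullback.fst f g) I.subschemeι := by simp
  rw [h2, Scheme.Hom.ker_comp_of_isIso, h3, Category.assoc, Scheme.Hom.ker_comp_of_isIso]

theorem main {S S' : Scheme.{u}} (g : S' ⟶ S) [Flat g] [Surjective g] [QuasiCompact g]
    (J' : S'.IdealSheafData)
    (h : J'.comap (pullback.fst g g) = J'.comap (pullback.snd g g)) :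
    ∃ J : S.IdealSheafData, J.comap g = J' := by
  refine ⟨J'.map g, ?_⟩
  rw [map_comap_flat g g J', h]
  exact map_comap_eq (pullback.snd g g) J'

end H5S5136

/-- The existence half of the exactness of H(S) ⟶ H(S') ⇉ H(S'') for closed subschemes: for g : S' ⟶ S
flat, surjective and quasi-compact, a quasi-coherent ideal sheaf on S' whose pullbacks along the two
projections of S' ×_S S' agree is the pullback of a quasi-coherent ideal sheaf on S. (Injectivity of
the pullback of ideal sheaves along g is the other half.) -/
theorem result {S S' : Scheme.{u}} (g : S' ⟶ S) [Flat g] [Surjective g]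
    [QuasiCompact g] (J' : S'.IdealSheafData)
    (h : J'.comap (pullback.fst g g) = J'.comap (pullback.snd g g)) :
    ∃ J : S.IdealSheafData, J.comap g = J' := by
  exact H5S5136.main g J' h

end Groth.Agent.S5136
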