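import Groth.Statements.S9738
import Mathlib
import Groth.Agent.Lib.helper21.FlatCrit
import Groth.Agent.Lib.helper22.Deform

set_option autoImplicit false
universe u
open FlatMor

namespace Groth.Agent.S9738

section Helpers

open AlgebraicGeometry CategoryTheory CategoryTheory.Limits TensorProduct

section ring

theorem ring_core {A B : Type u} [CommRing A] [CommRing B] [Algebra A B] [IsNoetherianRing A]
    [IsNoetherianRing B] (J : Ideal A) (q : Ideal B) [q.IsPrime]
    (hJq : J.map (algebraMap A B) ≤ q)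
    (H : ∀ m : ℕ, 0 < m → Module.Flat (A ⧸ J ^ m) ((A ⧸ J ^ m) ⊗[A] B)) :
    Module.Flat A (LocalizedModule q.primeCompl B) := by
  have hJ : J.map (algebraMap A (Localization.AtPrime q)) ≤ Ideal.jacobson ⊥ := by
    rw [IsLocalRing.jacobson_eq_maximalIdeal ⊥ bot_ne_top, Ideal.map_le_iff_le_comap]
    intro j hj
    rw [Ideal.mem_comap, IsScalarTower.algebraMap_apply A B (Localization.AtPrime q)]
    rw [IsLocalization.AtPrime.to_map_mem_maximal_iff _ q]
    exact hJq (Ideal.mem_map_of_mem _ hj)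
  refine Groth.Agent.H21.flat_of_lTensor_inj_quot_pow (B := A) (A := Localization.AtPrime q) J hJ
    (LocalizedModule q.primeCompl B) ?_
  intro m hm Q
  haveI := H m hm
  exact Groth.Agent.H21.lTensor_inj_localized (R := A) (S := B) B q.primeCompl _
    (Groth.Agent.H21.lTensor_inj_of_flat_quot (J ^ m) Q)

end ring

section ring2

theorem quotientMap_flat_of {A B A₁ B₁ : Type u} [CommRing A] [CommRing B] [CommRing A₁]
    [CommRing B₁] (φ : A →+* B) (K : Ideal A)
    (πA : A →+* A₁) (πB : B →+* B₁) (ψ : A₁ →+* B₁)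
    (hA : Function.Surjective πA) (hB : Function.Surjective πB) (kA : RingHom.ker πA = K)
    (kB : RingHom.ker πB = K.map φ)
    (comm : ψ.comp πA = πB.comp φ) (hψ : ψ.Flat) :
    (Ideal.quotientMap (K.map φ) φ Ideal.le_comap_map : A ⧸ K →+* B ⧸ K.map φ).Flat := by
  let eA : (A ⧸ K) ≃+* A₁ :=
    (Ideal.quotEquivOfEq kA.symm).trans (RingHom.quotientKerEquivOfSurjective hA)
  let eB : (B ⧸ K.map φ) ≃+* B₁ :=
    (Ideal.quotEquivOfEq kB.symm).trans (RingHom.quotientKerEquivOfSurjective hB)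
  have heA : ∀ a, eA (Ideal.Quotient.mk _ a) = πA a := fun a => rfl
  have heB : ∀ b, eB (Ideal.Quotient.mk _ b) = πB b := fun b => rfl
  have hcomm : ψ.comp (eA : (A ⧸ K) →+* A₁) =
      (eB : (B ⧸ K.map φ) →+* B₁).comp (Ideal.quotientMap (K.map φ) φ Ideal.le_comap_map) := by
    apply Ideal.Quotient.ringHom_ext
    ext a
    simp only [RingHom.comp_apply, RingHom.coe_coe, Ideal.quotientMap_mk]
    rw [heA, heB]
    exact congr($comm a)
  have h1 : (ψ.comp (eA : (A ⧸ K) →+* A₁)).Flat := RingHom.Flat.respectsIso.2 ψ eA hψ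
  rw [hcomm] at h1
  have h2 := RingHom.Flat.respectsIso.1 _ eB.symm h1
  convert h2 using 1
  ext x
  simp

theorem localRingHom_flat {A B : Type u} [CommRing A] [CommRing B] (φ : A →+* B)
    [IsNoetherianRing A] [IsNoetherianRing B] (J : Ideal A) (p : Ideal A) [p.IsPrime]
    (q : Ideal B) [q.IsPrime] (hpq : p = q.comap φ) (hJp : J ≤ p)
    (H : ∀ m : ℕ, 0 < m →
      (Ideal.quotientMap ((J ^ m).map φ) φ Ideal.le_comap_map : A ⧸ J ^ m →+* B ⧸ (J ^ m).map φ).Flat) :
    (Localization.localRingHom p q φ hpq).Flat := by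
  letI := φ.toAlgebra
  have H' : ∀ m : ℕ, 0 < m → Module.Flat (A ⧸ J ^ m) ((A ⧸ J ^ m) ⊗[A] B) := by
    intro m hm
    have hq : (algebraMap (A ⧸ J ^ m) (B ⧸ (J ^ m).map (algebraMap A B))).Flat := H m hm
    rw [RingHom.flat_algebraMap_iff] at hq
    exact Module.Flat.of_linearEquiv
      (Algebra.TensorProduct.quotIdealMapEquivQuotTensor B (J ^ m)).symm.toLinearEquiv
  have hJq : J.map (algebraMap A B) ≤ q := by
    rw [Ideal.map_le_iff_le_comap]
    exact hJp.trans hpq.le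
  have hflat : Module.Flat A (Localization.AtPrime q) := ring_core J q hJq H'
  letI := (Localization.localRingHom p q φ hpq).toAlgebra
  haveI : IsScalarTower A (Localization.AtPrime p) (Localization.AtPrime q) := by
    refine IsScalarTower.of_algebraMap_eq fun a => ?_
    rw [RingHom.algebraMap_toAlgebra, Localization.localRingHom_to_map,
      IsScalarTower.algebraMap_apply A B (Localization.AtPrime q)]
    rfl
  show Module.Flat (Localization.AtPrime p) (Localization.AtPrime q)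
  rw [Module.flat_iff_of_isLocalization (Localization.AtPrime p) p.primeCompl]
  exact hflat

end ring2

section geom

theorem quot_flat {X S : Scheme.{u}} (f : X ⟶ S) (I : S.IdealSheafData)
    (hfl : Flat (pullback.snd f I.subschemeι))
    {W : S.Opens} (hW : IsAffineOpen W) {V : X.Opens} (hV : IsAffineOpen V) (hVW : V ≤ f ⁻¹ᵁ W) :
    (Ideal.quotientMap ((I.ideal ⟨W, hW⟩).map (f.appLE W V hVW).hom) (f.appLE W V hVW).hom
      Ideal.le_comap_map).Flat := by
  set iS := I.subschemeι with hiS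
  have hc : IsPullback (pullback.fst f iS) (pullback.snd f iS) f iS := IsPullback.of_hasPullback f iS
  haveI : IsClosedImmersion (pullback.fst f iS) :=
    MorphismProperty.of_isPullback (P := @IsClosedImmersion) hc.flip inferInstance
  have hkA : RingHom.ker (iS.app W).hom = I.ideal ⟨W, hW⟩ := I.ker_subschemeι_app ⟨W, hW⟩
  have hkB : RingHom.ker ((pullback.fst f iS).app V).hom =
      (I.ideal ⟨W, hW⟩).map (f.appLE W V hVW).hom := by
    rw [Groth.Agent.H22.Deform.ker_app_eq_map (pullback.fst f iS) (pullback.snd f iS) f iS hc V hV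
      W hW hVW, hkA]
  have hWa : IsAffineOpen (iS ⁻¹ᵁ W) := hW.preimage iS
  have hVa : IsAffineOpen ((pullback.fst f iS) ⁻¹ᵁ V) := hV.preimage _
  have e' : (pullback.fst f iS) ⁻¹ᵁ V ≤ (pullback.snd f iS) ⁻¹ᵁ (iS ⁻¹ᵁ W) := by
    intro y hy
    change (pullback.snd f iS ≫ iS) y ∈ W
    rw [← pullback.condition]
    exact hVW hy
  have hψ : ((pullback.snd f iS).appLE (iS ⁻¹ᵁ W) ((pullback.fst f iS) ⁻¹ᵁ V) e').hom.Flat :=
    HasRingHomProperty.appLE @Flat (pullback.snd f iS) hfl ⟨_, hWa⟩ ⟨_, hVa⟩ e'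
  refine quotientMap_flat_of (f.appLE W V hVW).hom (I.ideal ⟨W, hW⟩) (iS.app W).hom
    ((pullback.fst f iS).app V).hom _ (iS.app_surjective W hW)
    ((pullback.fst f iS).app_surjective V hV) hkA hkB ?_ hψ
  have hle : (pullback.fst f iS) ⁻¹ᵁ V ≤ (pullback.fst f iS ≫ f) ⁻¹ᵁ W := fun y hy => hVW hy
  have h1 : f.appLE W V hVW ≫ (pullback.fst f iS).app V =
      (pullback.fst f iS ≫ f).appLE W ((pullback.fst f iS) ⁻¹ᵁ V) hle := by
    rw [Scheme.Hom.app_eq_appLE, Scheme.Hom.appLE_comp_appLE]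
  have hle2 : (pullback.fst f iS) ⁻¹ᵁ V ≤ (pullback.snd f iS ≫ iS) ⁻¹ᵁ W := by
    rw [← pullback.condition]; exact hle
  have h2 : (pullback.fst f iS ≫ f).appLE W ((pullback.fst f iS) ⁻¹ᵁ V) hle =
      (pullback.snd f iS ≫ iS).appLE W ((pullback.fst f iS) ⁻¹ᵁ V) hle2 := by
    congr 1
    exact pullback.condition
  have h3 : (pullback.snd f iS ≫ iS).appLE W ((pullback.fst f iS) ⁻¹ᵁ V) hle2 =
      iS.app W ≫ (pullback.snd f iS).appLE (iS ⁻¹ᵁ W) ((pullback.fst f iS) ⁻¹ᵁ V) e' := by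
    rw [Scheme.Hom.app_eq_appLE, Scheme.Hom.appLE_comp_appLE]
  have := h1.trans (h2.trans h3)
  ext b
  exact (congr($this b)).symm

theorem main {X S : Scheme.{u}} (f : X ⟶ S) [IsLocallyNoetherian X] [IsLocallyNoetherian S]
    (I : S.IdealSheafData) (h : ∀ n : ℕ, Flat (pullback.snd f (I ^ (n + 1)).subschemeι))
    (x : X) (hx : f x ∈ I.support) : (f.stalkMap x).hom.Flat := by
  obtain ⟨_, ⟨W, hW, rfl⟩, hxW, -⟩ := S.isBasis_affineOpens.exists_subset_of_mem_open
    (Set.mem_univ (f x)) isOpen_univ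
  obtain ⟨_, ⟨V, hV, rfl⟩, hxV, hVW : V ≤ f ⁻¹ᵁ W⟩ :=
    X.isBasis_affineOpens.exists_subset_of_mem_open hxW (f ⁻¹ᵁ W).isOpen
  haveI : IsNoetherianRing Γ(S, W) := IsLocallyNoetherian.component_noetherian ⟨W, hW⟩
  haveI : IsNoetherianRing Γ(X, V) := IsLocallyNoetherian.component_noetherian ⟨V, hV⟩
  rw [RingHom.Flat.respectsIso.arrow_mk_iso_iff (IsAffineOpen.arrowStalkMapIso f W hW V hV hVW hxV)]
  have hpq : (hW.primeIdealOf ⟨f x, hVW hxV⟩).asIdeal =
      Ideal.comap (f.appLE W V hVW).hom (hV.primeIdealOf ⟨x, hxV⟩).asIdeal :=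
    congr($(IsAffineOpen.comap_primeIdealOf_appLE W hW V hV hVW hxV).1).symm
  have hJp : I.ideal ⟨W, hW⟩ ≤ (hW.primeIdealOf ⟨f x, hVW hxV⟩).asIdeal := by
    have := (Scheme.IdealSheafData.mem_support_iff_of_mem (I := I) (U := ⟨W, hW⟩) hxW).mp hx
    intro j hj
    have h1 := (S.mem_zeroLocus_iff _ _).mp this j hj
    by_contra hjp
    apply h1
    have h2 : hW.fromSpec (hW.primeIdealOf ⟨f x, hxW⟩) = f x := hW.fromSpec_primeIdealOf ⟨f x, hxW⟩
    have h3 : hW.primeIdealOf ⟨f x, hxW⟩ ∈ hW.fromSpec ⁻¹ᵁ S.basicOpen j := by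
      rw [hW.fromSpec_preimage_basicOpen]
      exact hjp
    have h4 : hW.fromSpec (hW.primeIdealOf ⟨f x, hxW⟩) ∈ S.basicOpen j := h3
    rw [h2] at h4
    exact h4
  have key := localRingHom_flat (f.appLE W V hVW).hom (I.ideal ⟨W, hW⟩)
    (hW.primeIdealOf ⟨f x, hVW hxV⟩).asIdeal (hV.primeIdealOf ⟨x, hxV⟩).asIdeal hpq hJp
    (fun m hm => by
      obtain ⟨n, rfl⟩ : ∃ n, m = n + 1 := ⟨m - 1, by omega⟩
      exact quot_flat f (I ^ (n + 1)) (h n) hW hV hVW)
  exact key

end geom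

end Helpers

open AlgebraicGeometry CategoryTheory Limits in
/-- For a morphism f : X ⟶ S between locally Noetherian schemes, an ideal sheaf I on S with closed
subscheme Z, and Z_n the closed subscheme cut out by I^(n+1): if each base change X ×_S Z_n ⟶ Z_n is
flat, then f is flat at each point of X lying over Z. -/
theorem result {X S : Scheme.{u}} (f : X ⟶ S) [IsLocallyNoetherian X] [IsLocallyNoetherian S]
    (I : S.IdealSheafData) (h : ∀ n : ℕ, Flat (pullback.snd f (I ^ (n + 1)).subschemeι)) (x : X) (hx : f x ∈ I.support) :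
    (f.stalkMap x).hom.Flat := by
  exact main f I h x hx

end Groth.Agent.S9738
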