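import Groth.Statements.S1359
import Mathlib
import Groth.Agent.S9738

set_option autoImplicit false
universe u
open FlatMor

namespace Groth.Agent.S1359

section Helpers

open AlgebraicGeometry CategoryTheory CategoryTheory.Limits TensorProduct IsLocalRing

section ring
open Algebra

set_option backward.isDefEq.respectTransparency false in
/-- Variant of `Algebra.IsSmoothAt.of_formallySmooth_fiber` assuming only flatness of `S_q`. -/
lemma isSmoothAt_of_flat_localization {R S : Type u} [CommRing R] [CommRing S] [Algebra R S]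
    [Algebra.FinitePresentation R S] (p : Ideal R) (q : Ideal S)
    [p.IsPrime] [q.IsPrime] [q.LiesOver p] [Module.Flat R (Localization.AtPrime q)]
    [FormallySmooth p.ResidueField (p.Fiber S)] :
    Algebra.IsSmoothAt R q := by
  let Rp := Localization.AtPrime p
  let Sp := Localization (algebraMapSubmonoid S p.primeCompl)
  let Sq := Localization.AtPrime q
  let := Localization.AtPrime.algebraOfLiesOver p q
  let f : Sp →ₐ[S] Sq := IsLocalization.liftAlgHom (M := algebraMapSubmonoid S p.primeCompl)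
        (f := Algebra.ofId _ _) (by
      rintro ⟨_, x, hx, rfl⟩
      simpa using! IsLocalization.map_units (M := q.primeCompl) Sq ⟨algebraMap _ _ x,
        by simp_all [q.over_def p]⟩)
  algebraize [f.toRingHom]
  have : IsScalarTower R Sp Sq := .to₁₃₄ _ S _ _
  have : IsScalarTower Rp Sp Sq := .of_algebraMap_eq' <| by
    apply IsLocalization.ringHom_ext p.primeCompl
    simp only [RingHom.comp_assoc, ← IsScalarTower.algebraMap_eq]
  have : IsLocalization (algebraMapSubmonoid Sp q.primeCompl) Sq :=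
    .isLocalization_of_submonoid_le _ _ (algebraMapSubmonoid S p.primeCompl) _
    (by rintro _ ⟨x, hx, rfl⟩; simp_all [q.over_def p])
  have : FinitePresentation Rp Sp := by
    have : Algebra.IsPushout R Rp S Sp :=
      .symm <| Algebra.isPushout_of_isLocalization p.primeCompl _ _ _
    exact .equiv (Algebra.IsPushout.equiv R Rp S Sp)
  have : FormallySmooth (ResidueField Rp) (ResidueField Rp ⊗[Rp] Sq) := by
    let : Algebra S (ResidueField Rp ⊗[R] S) := Algebra.TensorProduct.rightAlgebra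
    have : FormallySmooth (ResidueField Rp) ((ResidueField Rp ⊗[R] S) ⊗[S] Sq) :=
      .comp _ (ResidueField Rp ⊗[R] S) _
    let e : ResidueField Rp ⊗[R] S ≃ₐ[S] S ⊗[R] ResidueField Rp :=
      { __ := Algebra.TensorProduct.comm _ _ _, commutes' _ := rfl }
    let e' : (ResidueField Rp ⊗[R] S) ⊗[S] Sq ≃ₐ[R] ResidueField Rp ⊗[Rp] Sq :=
      ((Algebra.TensorProduct.comm _ _ _).restrictScalars R).trans <|
      ((Algebra.TensorProduct.congr (.refl (R := S)) e).restrictScalars R).trans <|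
      ((Algebra.TensorProduct.cancelBaseChange _ _ S _ _).restrictScalars R).trans <|
      (Algebra.TensorProduct.comm _ _ _).trans (Algebra.TensorProduct.equivOfCompatibleSMul ..)
    have : e'.toAlgHom.comp (IsScalarTower.toAlgHom R p.ResidueField _) =
        IsScalarTower.toAlgHom _ _ _ := by ext
    let e'' : (ResidueField Rp ⊗[R] S) ⊗[S] Sq ≃ₐ[ResidueField Rp] ResidueField Rp ⊗[Rp] Sq :=
      { __ := e', commutes' r := congr($this r) }
    exact .of_equiv e''
  have : Module.Flat Rp Sq := by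
    rw [Module.flat_iff_of_isLocalization Rp p.primeCompl]
    infer_instance
  have := FormallySmooth.of_formallySmooth_residueField_tensor
    (R := Rp) (S := Sq) (P := Sp) (algebraMapSubmonoid _ q.primeCompl)
  exact .comp R Rp Sq

end ring

section ring2
open Algebra

theorem quotientMap_of {Q : ∀ {R S : Type u} [CommRing R] [CommRing S], (R →+* S) → Prop}
    (hQ : RingHom.RespectsIso Q)
    {A B A₁ B₁ : Type u} [CommRing A] [CommRing B] [CommRing A₁]
    [CommRing B₁] (φ : A →+* B) (K : Ideal A)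
    (πA : A →+* A₁) (πB : B →+* B₁) (ψ : A₁ →+* B₁)
    (hA : Function.Surjective πA) (hB : Function.Surjective πB) (kA : RingHom.ker πA = K)
    (kB : RingHom.ker πB = K.map φ)
    (comm : ψ.comp πA = πB.comp φ) (hψ : Q ψ) :
    Q (Ideal.quotientMap (K.map φ) φ Ideal.le_comap_map : A ⧸ K →+* B ⧸ K.map φ) := by
  let eA : (A ⧸ K) ≃+* A₁ :=
    (Ideal.quotEquivOfEq kA.symm).trans (RingHom.quotientKerEquivOfSurjective hA)
  let eB : (B ⧸ K.map φ) ≃+* B₁ :=
    (Ideal.quotEquivOfEq kB.symm).trans (RingHom.quotientKerEquivOfSurjective hB)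
  have heA : ∀ a, eA (Ideal.Quotient.mk _ a) = πA a := fun a => rfl
  have heB : ∀ b, eB (Ideal.Quotient.mk _ b) = πB b := fun b => rfl
  have hcomm : ψ.comp (eA : (A ⧸ K) →+* A₁) =
      (eB : (B ⧸ K.map φ) →+* B₁).comp (Ideal.quotientMap (K.map φ) φ Ideal.le_comap_map) := by
    apply Ideal.Quotient.ringHom_ext
    ext a
    simp only [RingHom.comp_apply, RingHom.coe_coe, Ideal.quotientMap_mk]
    rw [heA, heB]
    exact congr($comm a)
  have h1 : Q (ψ.comp (eA : (A ⧸ K) →+* A₁)) := hQ.2 ψ eA hψ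
  rw [hcomm] at h1
  have h2 := hQ.1 _ eB.symm h1
  convert h2 using 1
  ext x
  simp

lemma formallySmooth_fiber_of_quot {A B : Type u} [CommRing A] [CommRing B] [Algebra A B]
    (K : Ideal A) (p : Ideal A) [p.IsPrime] (hK : K ≤ p)
    (h : (Ideal.quotientMap (K.map (algebraMap A B)) (algebraMap A B) Ideal.le_comap_map :
      A ⧸ K →+* B ⧸ K.map (algebraMap A B)).Smooth) :
    Algebra.FormallySmooth p.ResidueField (p.Fiber B) := by
  have hq : (algebraMap (A ⧸ K) (B ⧸ K.map (algebraMap A B))).Smooth := h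
  rw [RingHom.smooth_algebraMap] at hq
  haveI : Algebra.FormallySmooth (A ⧸ K) (B ⧸ K.map (algebraMap A B)) := hq.1
  haveI : Algebra.FormallySmooth (A ⧸ K) ((A ⧸ K) ⊗[A] B) :=
    Algebra.FormallySmooth.of_equiv (Algebra.TensorProduct.quotIdealMapEquivQuotTensor B K)
  letI : Algebra (A ⧸ K) p.ResidueField :=
    (Ideal.Quotient.lift K (algebraMap A p.ResidueField) (fun a ha =>
      (Ideal.algebraMap_residueField_eq_zero).mpr (hK ha))).toAlgebra
  haveI : IsScalarTower A (A ⧸ K) p.ResidueField := IsScalarTower.of_algebraMap_eq (fun a => rfl)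
  haveI : Algebra.FormallySmooth p.ResidueField (p.ResidueField ⊗[A ⧸ K] ((A ⧸ K) ⊗[A] B)) :=
    inferInstance
  exact Algebra.FormallySmooth.of_equiv
    (Algebra.TensorProduct.cancelBaseChange A (A ⧸ K) p.ResidueField p.ResidueField B)

end ring2

section ring3
open Algebra

theorem flat_localization_of_quot {A B : Type u} [CommRing A] [CommRing B] [Algebra A B]
    [IsNoetherianRing A] [IsNoetherianRing B] (J : Ideal A) (p : Ideal A) [p.IsPrime]
    (q : Ideal B) [q.IsPrime] [q.LiesOver p] (hJp : J ≤ p)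
    (H : ∀ m : ℕ, 0 < m →
      (Ideal.quotientMap ((J ^ m).map (algebraMap A B)) (algebraMap A B) Ideal.le_comap_map :
        A ⧸ J ^ m →+* B ⧸ (J ^ m).map (algebraMap A B)).Flat) :
    Module.Flat A (Localization.AtPrime q) := by
  have H' : ∀ m : ℕ, 0 < m → Module.Flat (A ⧸ J ^ m) ((A ⧸ J ^ m) ⊗[A] B) := by
    intro m hm
    have hq : (algebraMap (A ⧸ J ^ m) (B ⧸ (J ^ m).map (algebraMap A B))).Flat := H m hm
    rw [RingHom.flat_algebraMap_iff] at hq
    exact Module.Flat.of_linearEquiv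
      (Algebra.TensorProduct.quotIdealMapEquivQuotTensor B (J ^ m)).symm.toLinearEquiv
  have hJq : J.map (algebraMap A B) ≤ q := by
    rw [Ideal.map_le_iff_le_comap]
    exact hJp.trans (q.over_def p).le
  exact Groth.Agent.S9738.ring_core J q hJq H'

theorem isSmoothAt_of_quot {A B : Type u} [CommRing A] [CommRing B] [Algebra A B]
    [IsNoetherianRing A] [Algebra.FinitePresentation A B] (J : Ideal A) (p : Ideal A) [p.IsPrime]
    (q : Ideal B) [q.IsPrime] [q.LiesOver p] (hJp : J ≤ p)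
    (H : ∀ m : ℕ, 0 < m →
      (Ideal.quotientMap ((J ^ m).map (algebraMap A B)) (algebraMap A B) Ideal.le_comap_map :
        A ⧸ J ^ m →+* B ⧸ (J ^ m).map (algebraMap A B)).Smooth) :
    Algebra.IsSmoothAt A q := by
  haveI : IsNoetherianRing B := Algebra.FiniteType.isNoetherianRing A B
  haveI : Module.Flat A (Localization.AtPrime q) :=
    flat_localization_of_quot J p q hJp (fun m hm => (H m hm).flat)
  haveI : Algebra.FormallySmooth p.ResidueField (p.Fiber B) :=
    formallySmooth_fiber_of_quot (J ^ 1) p (by rw [pow_one]; exact hJp) (H 1 one_pos)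
  exact isSmoothAt_of_flat_localization p q

end ring3

section geom

theorem quot_prop {P : MorphismProperty Scheme.{u}}
    {Q : ∀ {R S : Type u} [CommRing R] [CommRing S], (R →+* S) → Prop}
    [HasRingHomProperty P Q]
    {X S : Scheme.{u}} (f : X ⟶ S) (I : S.IdealSheafData)
    (hfl : P (pullback.snd f I.subschemeι))
    {W : S.Opens} (hW : IsAffineOpen W) {V : X.Opens} (hV : IsAffineOpen V) (hVW : V ≤ f ⁻¹ᵁ W) :
    Q (Ideal.quotientMap ((I.ideal ⟨W, hW⟩).map (f.appLE W V hVW).hom) (f.appLE W V hVW).hom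
      Ideal.le_comap_map) := by
  have hQ : RingHom.RespectsIso Q := (HasRingHomProperty.isLocal_ringHomProperty P).respectsIso
  set iS := I.subschemeι with hiS
  have hc : IsPullback (pullback.fst f iS) (pullback.snd f iS) f iS := IsPullback.of_hasPullback f iS
  haveI : IsClosedImmersion (pullback.fst f iS) :=
    MorphismProperty.of_isPullback (P := @IsClosedImmersion) hc.flip inferInstance
  have hkA : RingHom.ker (iS.app W).hom = I.ideal ⟨W, hW⟩ := I.ker_subschemeι_app ⟨W, hW⟩
  have hkB : RingHom.ker ((pullback.fst f iS).app V).hom =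
      (I.ideal ⟨W, hW⟩).map (f.appLE W V hVW).hom := by
    rw [Groth.Agent.H22.Deform.ker_app_eq_map (pullback.fst f iS) (pullback.snd f iS) f iS hc V hV
      W hW hVW, hkA]
  have hWa : IsAffineOpen (iS ⁻¹ᵁ W) := hW.preimage iS
  have hVa : IsAffineOpen ((pullback.fst f iS) ⁻¹ᵁ V) := hV.preimage _
  have e' : (pullback.fst f iS) ⁻¹ᵁ V ≤ (pullback.snd f iS) ⁻¹ᵁ (iS ⁻¹ᵁ W) := by
    intro y hy
    change (pullback.snd f iS ≫ iS) y ∈ W
    rw [← pullback.condition]
    exact hVW hy
  have hψ : Q ((pullback.snd f iS).appLE (iS ⁻¹ᵁ W) ((pullback.fst f iS) ⁻¹ᵁ V) e').hom :=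
    HasRingHomProperty.appLE P (pullback.snd f iS) hfl ⟨_, hWa⟩ ⟨_, hVa⟩ e'
  refine quotientMap_of hQ (f.appLE W V hVW).hom (I.ideal ⟨W, hW⟩) (iS.app W).hom
    ((pullback.fst f iS).app V).hom _ (iS.app_surjective W hW)
    ((pullback.fst f iS).app_surjective V hV) hkA hkB ?_ hψ
  have hle : (pullback.fst f iS) ⁻¹ᵁ V ≤ (pullback.fst f iS ≫ f) ⁻¹ᵁ W := fun y hy => hVW hy
  have h1 : f.appLE W V hVW ≫ (pullback.fst f iS).app V =
      (pullback.fst f iS ≫ f).appLE W ((pullback.fst f iS) ⁻¹ᵁ V) hle := by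
    rw [Scheme.Hom.app_eq_appLE, Scheme.Hom.appLE_comp_appLE]
  have hle2 : (pullback.fst f iS) ⁻¹ᵁ V ≤ (pullback.snd f iS ≫ iS) ⁻¹ᵁ W := by
    rw [← pullback.condition]; exact hle
  have h2 : (pullback.fst f iS ≫ f).appLE W ((pullback.fst f iS) ⁻¹ᵁ V) hle =
      (pullback.snd f iS ≫ iS).appLE W ((pullback.fst f iS) ⁻¹ᵁ V) hle2 := by
    congr 1
    exact pullback.condition
  have h3 : (pullback.snd f iS ≫ iS).appLE W ((pullback.fst f iS) ⁻¹ᵁ V) hle2 =
      iS.app W ≫ (pullback.snd f iS).appLE (iS ⁻¹ᵁ W) ((pullback.fst f iS) ⁻¹ᵁ V) e' := by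
    rw [Scheme.Hom.app_eq_appLE, Scheme.Hom.appLE_comp_appLE]
  have := h1.trans (h2.trans h3)
  ext b
  exact (congr($this b)).symm

theorem ideal_le_primeIdealOf {S : Scheme.{u}} (I : S.IdealSheafData) {W : S.Opens}
    (hW : IsAffineOpen W) (s : S) (hsW : s ∈ W) (hs : s ∈ I.support) :
    I.ideal ⟨W, hW⟩ ≤ (hW.primeIdealOf ⟨s, hsW⟩).asIdeal := by
  have := (Scheme.IdealSheafData.mem_support_iff_of_mem (I := I) (U := ⟨W, hW⟩) hsW).mp hs
  intro j hj
  have h1 := (S.mem_zeroLocus_iff _ _).mp this j hj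
  by_contra hjp
  apply h1
  have h2 : hW.fromSpec (hW.primeIdealOf ⟨s, hsW⟩) = s := hW.fromSpec_primeIdealOf ⟨s, hsW⟩
  have h3 : hW.primeIdealOf ⟨s, hsW⟩ ∈ hW.fromSpec ⁻¹ᵁ S.basicOpen j := by
    rw [hW.fromSpec_preimage_basicOpen]
    exact hjp
  have h4 : hW.fromSpec (hW.primeIdealOf ⟨s, hsW⟩) ∈ S.basicOpen j := h3
  rw [h2] at h4
  exact h4

theorem main {X S : Scheme.{u}} (f : X ⟶ S) [IsLocallyNoetherian S]
    [LocallyOfFinitePresentation f] [QuasiCompact f]
    (I : S.IdealSheafData) (h : ∀ n : ℕ, Smooth (pullback.snd f (I ^ (n + 1)).subschemeι))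
    (x : X) (hx : f x ∈ I.support) : x ∈ f.smoothLocus := by
  obtain ⟨_, ⟨W, hW, rfl⟩, hxW, -⟩ := S.isBasis_affineOpens.exists_subset_of_mem_open
    (Set.mem_univ (f x)) isOpen_univ
  obtain ⟨_, ⟨V, hV, rfl⟩, hxV, hVW : V ≤ f ⁻¹ᵁ W⟩ :=
    X.isBasis_affineOpens.exists_subset_of_mem_open hxW (f ⁻¹ᵁ W).isOpen
  haveI : IsNoetherianRing Γ(S, W) := IsLocallyNoetherian.component_noetherian ⟨W, hW⟩
  rw [Scheme.Hom.mem_smoothLocus, formallySmooth_stalkMap_iff W hW V hV hVW hxV]
  letI := (f.appLE W V hVW).hom.toAlgebra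
  haveI : Algebra.FinitePresentation Γ(S, W) Γ(X, V) :=
    HasRingHomProperty.appLE @LocallyOfFinitePresentation f inferInstance ⟨W, hW⟩ ⟨V, hV⟩ hVW
  haveI : (hV.primeIdealOf ⟨x, hxV⟩).asIdeal.LiesOver (hW.primeIdealOf ⟨f x, hVW hxV⟩).asIdeal :=
    ⟨congr($(IsAffineOpen.comap_primeIdealOf_appLE W hW V hV hVW hxV).1).symm⟩
  refine isSmoothAt_of_quot (I.ideal ⟨W, hW⟩) (hW.primeIdealOf ⟨f x, hVW hxV⟩).asIdeal
    (hV.primeIdealOf ⟨x, hxV⟩).asIdeal (ideal_le_primeIdealOf I hW (f x) hxW hx) ?_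
  intro m hm
  obtain ⟨n, rfl⟩ : ∃ n, m = n + 1 := ⟨m - 1, by omega⟩
  exact quot_prop (P := @Smooth) f (I ^ (n + 1)) (h n) hW hV hVW

end geom

end Helpers

open AlgebraicGeometry CategoryTheory Limits in
/-- Let S be locally Noetherian, f : X → S of finite type, and Z the closed subscheme of S cut out by an
ideal sheaf I, with infinitesimal neighbourhoods cut out by the powers of I. If the base change of f
to every infinitesimal neighbourhood is smooth, then every point of X lying over Z is in the smooth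
locus of f. -/
theorem result {X S : Scheme.{u}} (f : X ⟶ S) [IsLocallyNoetherian S] [LocallyOfFinitePresentation f] [QuasiCompact f]
    (I : S.IdealSheafData) (h : ∀ n : ℕ, Smooth (pullback.snd f (I ^ (n + 1)).subschemeι)) (x : X) (hx : f x ∈ I.support) :
    x ∈ f.smoothLocus := by
  exact main f I h x hx

end Groth.Agent.S1359
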