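import Groth.Statements.S1179
import Mathlib

set_option autoImplicit false
open CategoryTheory CategoryTheory.Limits AlgebraicGeometry Opposite
universe u
open Desc

namespace Groth.Agent.S1179

section Helpers

open AlgebraicGeometry CategoryTheory Limits TensorProduct MorphismProperty

lemma isPullback_of_comp_mono {C : Type*} [Category C] {P X Y Z W : C} {fst : P ⟶ X}
    {snd : P ⟶ Y} {f : X ⟶ Z} {g : Y ⟶ Z} (i : Z ⟶ W) [Mono i]
    (h : IsPullback fst snd (f ≫ i) (g ≫ i)) : IsPullback fst snd f g :=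
  ⟨⟨by rw [← cancel_mono i]; simpa using h.w⟩,
    ⟨PullbackCone.IsLimit.mk _
      (fun s => h.lift s.fst s.snd (by simp [reassoc_of% s.condition]))
      (fun s => h.lift_fst _ _ _) (fun s => h.lift_snd _ _ _)
      (fun s m h1 h2 => h.hom_ext (by simp [h1]) (by simp [h2]))⟩⟩

/-- descent of lft along a flat lfp map whose image contains the image of `h`. -/
theorem lft_of_isPullback_of_range_subset {P X T S : Scheme.{u}} {fst : P ⟶ X} {snd : P ⟶ T}
    {h : X ⟶ S} {π : T ⟶ S} (sq : IsPullback fst snd h π) [Flat π]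
    [LocallyOfFinitePresentation π] (hr : Set.range h ⊆ Set.range π)
    [LocallyOfFiniteType snd] : LocallyOfFiniteType h := by
  have hopen : IsOpenMap π := π.isOpenMap
  let U : S.Opens := ⟨Set.range π, hopen.isOpen_range⟩
  let h' : X ⟶ U := IsOpenImmersion.lift U.ι h (by simpa [U] using hr)
  let π' : T ⟶ U := IsOpenImmersion.lift U.ι π (by simp [U])
  have hh : h' ≫ U.ι = h := IsOpenImmersion.lift_fac _ _ _
  have hπ : π' ≫ U.ι = π := IsOpenImmersion.lift_fac _ _ _
  have : Surjective π' := ⟨fun ⟨x, ⟨y, hy⟩⟩ ↦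
    ⟨y, by apply U.ι.injective; simp [← Scheme.Hom.comp_apply, π', hy]⟩⟩
  have sq' : IsPullback fst snd h' π' := by
    apply isPullback_of_comp_mono U.ι
    rw [hh, hπ]; exact sq
  have hflat : Flat π' := by
    apply MorphismProperty.of_postcomp (W := @Flat) (W' := monomorphisms Scheme) π' U.ι
      (inferInstanceAs (Mono U.ι))
    rw [hπ]; infer_instance
  have hlfp : LocallyOfFinitePresentation π' := by
    apply MorphismProperty.of_postcomp (W := @LocallyOfFinitePresentation)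
      (W' := monomorphisms Scheme) π' U.ι (inferInstanceAs (Mono U.ι))
    rw [hπ]; infer_instance
  have : LocallyOfFiniteType h' :=
    MorphismProperty.of_isPullback_of_descendsAlong (P := @LocallyOfFiniteType)
      (Q := @Surjective ⊓ @Flat ⊓ @LocallyOfFinitePresentation) sq'.flip
      ⟨⟨inferInstance, hflat⟩, hlfp⟩ ‹_›
  rw [← hh]; infer_instance

theorem finiteType_of_etale_surjective {R A B : Type u} [CommRing R] [CommRing A] [CommRing B]
    [Algebra R A] [Algebra A B] [Algebra R B] [IsScalarTower R A B] [Algebra.Etale A B]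
    (hs : Function.Surjective (PrimeSpectrum.comap (algebraMap A B)))
    [Algebra.FiniteType R B] : Algebra.FiniteType R A := by
  obtain ⟨A₀, B₀, _, _, hfg, hét, ⟨e⟩⟩ := Algebra.Etale.exists_subalgebra_fg R A B
  have : Algebra.FiniteType R A₀ := (Subalgebra.fg_iff_finiteType A₀).mp hfg
  suffices Algebra.FiniteType A₀ A from Algebra.FiniteType.trans ‹_› this
  have sq := isPullback_SpecMap_of_isPushout _ _ _ _ (CommRingCat.isPushout_tensorProduct A₀ A B₀)
  have hπet : Etale (Spec.map (CommRingCat.ofHom (algebraMap A₀ B₀))) := by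
    rw [HasRingHomProperty.Spec_iff (P := @Etale)]
    exact RingHom.etale_algebraMap.mpr hét
  have key : Spec.map (CommRingCat.ofHom (algebraMap A B)) ≫
      Spec.map (CommRingCat.ofHom (algebraMap A₀ A)) =
      Spec.map (CommRingCat.ofHom (e.symm : A ⊗[A₀] B₀ →+* B)) ≫
      Spec.map (CommRingCat.ofHom (S := A ⊗[A₀] B₀) Algebra.TensorProduct.includeRight.toRingHom) ≫
      Spec.map (CommRingCat.ofHom (algebraMap A₀ B₀)) := by
    rw [← sq.w, ← Spec.map_comp, ← Spec.map_comp, ← Spec.map_comp]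
    congr 1
    ext a
    simp
  have hr : Set.range (Spec.map (CommRingCat.ofHom (algebraMap A₀ A))) ⊆
      Set.range (Spec.map (CommRingCat.ofHom (algebraMap A₀ B₀))) := by
    rintro _ ⟨x, rfl⟩
    obtain ⟨y, rfl⟩ := hs x
    refine ⟨Spec.map (CommRingCat.ofHom (S := A ⊗[A₀] B₀)
      Algebra.TensorProduct.includeRight.toRingHom)
      (Spec.map (CommRingCat.ofHom (e.symm : A ⊗[A₀] B₀ →+* B)) y), ?_⟩
    have := congr($(key) y)
    simp only [Scheme.Hom.comp_apply] at this
    exact this.symm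
  have hsnd : LocallyOfFiniteType (Spec.map (CommRingCat.ofHom (S := A ⊗[A₀] B₀)
      Algebra.TensorProduct.includeRight.toRingHom)) := by
    rw [HasRingHomProperty.Spec_iff (P := @LocallyOfFiniteType)]
    have h1 : (algebraMap R B).FiniteType := RingHom.finiteType_algebraMap.mpr ‹_›
    have h2 : ((e : B →+* A ⊗[A₀] B₀).comp (algebraMap R B)).FiniteType :=
      RingHom.FiniteType.comp (RingHom.FiniteType.of_surjective _ e.surjective) h1
    have h3 : (e : B →+* A ⊗[A₀] B₀).comp (algebraMap R B) =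
        (Algebra.TensorProduct.includeRight.toRingHom : B₀ →+* A ⊗[A₀] B₀).comp
          ((algebraMap A₀ B₀).comp (algebraMap R A₀)) := by
      ext r
      simp only [RingHom.coe_comp, Function.comp_apply, RingHom.coe_coe,
        AlgHom.toRingHom_eq_coe, Algebra.TensorProduct.includeRight_apply]
      rw [IsScalarTower.algebraMap_apply R A B, e.commutes,
        Algebra.TensorProduct.algebraMap_apply, Algebra.algebraMap_self, RingHom.id_apply,
        Algebra.algebraMap_eq_smul_one ((algebraMap R ↥A₀) r), ← TensorProduct.smul_tmul]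
      congr 1
      rw [Algebra.smul_def, mul_one]; rfl
    rw [h3] at h2
    exact RingHom.FiniteType.of_comp_finiteType h2
  have hlft := lft_of_isPullback_of_range_subset sq hr
  rw [HasRingHomProperty.Spec_iff (P := @LocallyOfFiniteType)] at hlft
  exact RingHom.finiteType_algebraMap.mp hlft

theorem lft_of_etale_surjective_affine {X' X Y : Scheme.{u}} [IsAffine X'] [IsAffine X]
    [IsAffine Y] (f : X' ⟶ X) (g : X ⟶ Y) [Etale f] [Surjective f]
    [LocallyOfFiniteType (f ≫ g)] : LocallyOfFiniteType g := by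
  rw [HasRingHomProperty.iff_of_isAffine (P := @LocallyOfFiniteType)]
  have h1 := (HasRingHomProperty.iff_of_isAffine (P := @LocallyOfFiniteType)).mp
    ‹LocallyOfFiniteType (f ≫ g)›
  have h2 := (HasRingHomProperty.iff_of_isAffine (P := @Etale)).mp ‹Etale f›
  have h3 : f.appTop.hom.FaithfullyFlat :=
    (Flat.flat_and_surjective_iff_faithfullyFlat_of_isAffine f).mp ⟨inferInstance, inferInstance⟩
  rw [RingHom.FaithfullyFlat.iff_flat_and_comap_surjective] at h3
  letI := g.appTop.hom.toAlgebra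
  letI := f.appTop.hom.toAlgebra
  letI := (f ≫ g).appTop.hom.toAlgebra
  haveI : IsScalarTower Γ(Y, ⊤) Γ(X, ⊤) Γ(X', ⊤) :=
    IsScalarTower.of_algebraMap_eq' (by simp [RingHom.algebraMap_toAlgebra])
  haveI : Algebra.Etale Γ(X, ⊤) Γ(X', ⊤) := h2
  haveI : Algebra.FiniteType Γ(Y, ⊤) Γ(X', ⊤) := h1
  exact finiteType_of_etale_surjective (R := Γ(Y, ⊤)) (A := Γ(X, ⊤)) (B := Γ(X', ⊤)) h3.2

theorem lft_of_etale_surjective {X' X Y : Scheme.{u}} (f : X' ⟶ X) (g : X ⟶ Y) [Etale f]
    [Surjective f] [LocallyOfFiniteType (f ≫ g)] : LocallyOfFiniteType g := by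
  haveI : MorphismProperty.RespectsRight @LocallyOfFiniteType @IsOpenImmersion :=
    ⟨fun i hi f hf => by haveI : IsOpenImmersion i := hi; haveI := hf; infer_instance⟩
  rw [IsZariskiLocalAtSource.iff_exists_resLE (P := @LocallyOfFiniteType)]
  intro x
  obtain ⟨x', rfl⟩ := f.surjective x
  obtain ⟨_, ⟨U, hU, rfl⟩, hxU, -⟩ := Y.isBasis_affineOpens.exists_subset_of_mem_open
    (Set.mem_univ (g (f x'))) isOpen_univ
  obtain ⟨_, ⟨V₀, hV₀, rfl⟩, hxV₀, hV₀U⟩ := X.isBasis_affineOpens.exists_subset_of_mem_open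
    (show f x' ∈ g ⁻¹ᵁ U from hxU) (g ⁻¹ᵁ U).isOpen
  obtain ⟨_, ⟨W₀, hW₀, rfl⟩, hxW₀, hW₀V₀⟩ := X'.isBasis_affineOpens.exists_subset_of_mem_open
    (show x' ∈ f ⁻¹ᵁ V₀ from hxV₀) (f ⁻¹ᵁ V₀).isOpen
  let I : X.Opens := ⟨f '' W₀, f.isOpenMap _ W₀.isOpen⟩
  obtain ⟨a, haI, hxa⟩ := hV₀.exists_basicOpen_le (V := I) ⟨f x', x', hxW₀, rfl⟩ hxV₀
  have hV : IsAffineOpen (X.basicOpen a) := hV₀.basicOpen a
  have hW : IsAffineOpen (X'.basicOpen (f.appLE V₀ W₀ hW₀V₀ a)) := hW₀.basicOpen _
  have hWeq : X'.basicOpen (f.appLE V₀ W₀ hW₀V₀ a) = W₀ ⊓ f ⁻¹ᵁ (X.basicOpen a) := by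
    rw [Scheme.Hom.appLE, CommRingCat.comp_apply, Scheme.basicOpen_res,
      Scheme.preimage_basicOpen]
  have hWV : X'.basicOpen (f.appLE V₀ W₀ hW₀V₀ a) ≤ f ⁻¹ᵁ (X.basicOpen a) :=
    hWeq ▸ inf_le_right
  have hVU : X.basicOpen a ≤ g ⁻¹ᵁ U := (X.basicOpen_le a).trans hV₀U
  refine ⟨U, X.basicOpen a, hxa, hVU, ?_⟩
  haveI : IsAffine U := hU
  haveI : IsAffine (X.basicOpen a) := hV
  haveI : IsAffine (X'.basicOpen (f.appLE V₀ W₀ hW₀V₀ a)) := hW
  haveI : Surjective (f.resLE _ _ hWV) := by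
    refine ⟨fun v => ?_⟩
    obtain ⟨w, hw, hwv⟩ := haI v.2
    have hw' : w ∈ X'.basicOpen (f.appLE V₀ W₀ hW₀V₀ a) := by
      rw [hWeq]
      exact ⟨hw, by change f w ∈ X.basicOpen a; rw [hwv]; exact v.2⟩
    refine ⟨⟨w, hw'⟩, ?_⟩
    apply (X.basicOpen a).ι.injective
    rw [← Scheme.Hom.comp_apply, Scheme.Hom.resLE_comp_ι, Scheme.Hom.comp_apply]
    exact hwv
  haveI : Etale (f.resLE _ _ hWV) := IsZariskiLocalAtSource.resLE _ inferInstance
  haveI : LocallyOfFiniteType (f.resLE _ _ hWV ≫ g.resLE U _ hVU) := by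
    rw [Scheme.Hom.resLE_comp_resLE]
    exact IsZariskiLocalAtSource.resLE _ inferInstance
  exact lft_of_etale_surjective_affine (f.resLE _ _ hWV) (g.resLE U _ hVU)

theorem isDiscrete_of_preimage {α β : Type*} [TopologicalSpace α] [TopologicalSpace β]
    {f : α → β} (hf : IsOpenMap f) (hs : Function.Surjective f) {T : Set β}
    (h : IsDiscrete (f ⁻¹' T)) : IsDiscrete T := by
  rw [isDiscrete_iff_forall_mem_exists_isOpen] at h ⊢
  intro t ht
  obtain ⟨t', rfl⟩ := hs t
  obtain ⟨O, hO, hOT⟩ := h t' ht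
  refine ⟨f '' O, hf O hO, ?_⟩
  ext s
  constructor
  · rintro ⟨⟨o, ho, rfl⟩, hs⟩
    have : o ∈ O ∩ f ⁻¹' T := ⟨ho, hs⟩
    rw [hOT] at this
    rw [Set.mem_singleton_iff.mp this]; rfl
  · rintro rfl
    have : t' ∈ O ∩ f ⁻¹' T := by rw [hOT]; rfl
    exact ⟨⟨t', this.1, rfl⟩, ht⟩

theorem main {X' X Y : Scheme.{u}} (f : X' ⟶ X) (g : X ⟶ Y) [Etale f] [Surjective f]
    [LocallyQuasiFinite (f ≫ g)] [LocallyOfFiniteType (f ≫ g)] :
    LocallyQuasiFinite g ∧ LocallyOfFiniteType g := by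
  haveI := lft_of_etale_surjective f g
  refine ⟨?_, this⟩
  rw [locallyQuasiFinite_iff_isDiscrete_preimage_singleton]
  intro y
  have := (f ≫ g).isDiscrete_preimage_singleton y
  exact isDiscrete_of_preimage f.isOpenMap f.surjective this

end Helpers

/-- Let f : X' ⟶ X be etale and surjective and g : X ⟶ Y a morphism. If f ≫ g is locally quasi-finite,
then g is locally quasi-finite; with stability under precomposition by etale maps this says that
local quasi-finiteness is etale local on the source. -/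
theorem result {X' X Y : Scheme.{u}} (f : X' ⟶ X) (g : X ⟶ Y) [Etale f] [Surjective f]
    [LocallyQuasiFinite (f ≫ g)] [LocallyOfFiniteType (f ≫ g)] : LocallyQuasiFinite g ∧ LocallyOfFiniteType g := by
  exact main f g

end Groth.Agent.S1179
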