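import Groth.Statements.S1180
import Mathlib
import Groth.Agent.S1179

set_option autoImplicit false
open CategoryTheory CategoryTheory.Limits AlgebraicGeometry Opposite
universe u
open Desc

namespace Groth.Agent.S1180

section Helpers

open AlgebraicGeometry CategoryTheory Limits TensorProduct MorphismProperty

theorem formallyUnramified_of_etale_faithfullyFlat {R A B : Type u} [CommRing R] [CommRing A]
    [CommRing B] [Algebra R A] [Algebra A B] [Algebra R B] [IsScalarTower R A B]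
    [Algebra.FormallyEtale A B] [Module.FaithfullyFlat A B] [Algebra.FormallyUnramified R B] :
    Algebra.FormallyUnramified R A := by
  have e := KaehlerDifferential.tensorKaehlerEquivOfFormallyEtale R A B
  have : Subsingleton (B ⊗[A] Ω[A⁄R]) := e.toEquiv.subsingleton
  exact ⟨(Module.FaithfullyFlat.subsingleton_tensorProduct_iff_right (R := A) (M := B)).mp this⟩

/-- reduction of étale-local-on-source statements to the affine case. -/
theorem etale_local_source_of_affine {P : MorphismProperty Scheme.{u}} [IsZariskiLocalAtSource P]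
    [IsZariskiLocalAtTarget P] [P.RespectsRight @IsOpenImmersion]
    (H : ∀ {X' X Y : Scheme.{u}} [IsAffine X'] [IsAffine X] [IsAffine Y] (f : X' ⟶ X)
      (g : X ⟶ Y) [Etale f] [Surjective f], P (f ≫ g) → P g)
    {X' X Y : Scheme.{u}} (f : X' ⟶ X) (g : X ⟶ Y) [Etale f]
    [Surjective f] (hfg : P (f ≫ g)) : P g := by
  rw [IsZariskiLocalAtSource.iff_exists_resLE (P := P)]
  intro x
  obtain ⟨x', rfl⟩ := f.surjective x
  obtain ⟨_, ⟨U, hU, rfl⟩, hxU, -⟩ := Y.isBasis_affineOpens.exists_subset_of_mem_open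
    (Set.mem_univ (g (f x'))) isOpen_univ
  obtain ⟨_, ⟨V₀, hV₀, rfl⟩, hxV₀, hV₀U⟩ := X.isBasis_affineOpens.exists_subset_of_mem_open
    (show f x' ∈ g ⁻¹ᵁ U from hxU) (g ⁻¹ᵁ U).isOpen
  obtain ⟨_, ⟨W₀, hW₀, rfl⟩, hxW₀, hW₀V₀⟩ := X'.isBasis_affineOpens.exists_subset_of_mem_open
    (show x' ∈ f ⁻¹ᵁ V₀ from hxV₀) (f ⁻¹ᵁ V₀).isOpen
  let I : X.Opens := ⟨f '' W₀, f.isOpenMap _ W₀.isOpen⟩
  obtain ⟨a, haI, hxa⟩ := hV₀.exists_basicOpen_le (V := I) ⟨f x', x', hxW₀, rfl⟩ hxV₀
  have hV : IsAffineOpen (X.basicOpen a) := hV₀.basicOpen a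
  have hW : IsAffineOpen (X'.basicOpen (f.appLE V₀ W₀ hW₀V₀ a)) := hW₀.basicOpen _
  have hWeq : X'.basicOpen (f.appLE V₀ W₀ hW₀V₀ a) = W₀ ⊓ f ⁻¹ᵁ (X.basicOpen a) := by
    rw [Scheme.Hom.appLE, CommRingCat.comp_apply, Scheme.basicOpen_res,
      Scheme.preimage_basicOpen]
  have hWV : X'.basicOpen (f.appLE V₀ W₀ hW₀V₀ a) ≤ f ⁻¹ᵁ (X.basicOpen a) :=
    hWeq ▸ inf_le_right
  have hVU : X.basicOpen a ≤ g ⁻¹ᵁ U := (X.basicOpen_le a).trans hV₀U
  refine ⟨U, X.basicOpen a, hxa, hVU, ?_⟩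
  haveI : IsAffine U := hU
  haveI : IsAffine (X.basicOpen a) := hV
  haveI : IsAffine (X'.basicOpen (f.appLE V₀ W₀ hW₀V₀ a)) := hW
  haveI : Surjective (f.resLE _ _ hWV) := by
    refine ⟨fun v => ?_⟩
    obtain ⟨w, hw, hwv⟩ := haI v.2
    have hw' : w ∈ X'.basicOpen (f.appLE V₀ W₀ hW₀V₀ a) := by
      rw [hWeq]
      exact ⟨hw, by change f w ∈ X.basicOpen a; rw [hwv]; exact v.2⟩
    refine ⟨⟨w, hw'⟩, ?_⟩
    apply (X.basicOpen a).ι.injective
    rw [← Scheme.Hom.comp_apply, Scheme.Hom.resLE_comp_ι, Scheme.Hom.comp_apply]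
    exact hwv
  haveI : Etale (f.resLE _ _ hWV) := IsZariskiLocalAtSource.resLE _ inferInstance
  have : P (f.resLE _ _ hWV ≫ g.resLE U _ hVU) := by
    rw [Scheme.Hom.resLE_comp_resLE]
    exact IsZariskiLocalAtSource.resLE _ hfg
  exact H (f.resLE _ _ hWV) (g.resLE U _ hVU) this

theorem fu_affine {X' X Y : Scheme.{u}} [IsAffine X'] [IsAffine X]
    [IsAffine Y] (f : X' ⟶ X) (g : X ⟶ Y) [Etale f] [Surjective f]
    (hfg : FormallyUnramified (f ≫ g)) : FormallyUnramified g := by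
  rw [HasRingHomProperty.iff_of_isAffine (P := @FormallyUnramified)]
  have h1 := (HasRingHomProperty.iff_of_isAffine (P := @FormallyUnramified)).mp hfg
  have h2 := (HasRingHomProperty.iff_of_isAffine (P := @Etale)).mp ‹Etale f›
  have h3 : f.appTop.hom.FaithfullyFlat :=
    (Flat.flat_and_surjective_iff_faithfullyFlat_of_isAffine f).mp ⟨inferInstance, inferInstance⟩
  letI := g.appTop.hom.toAlgebra
  letI := f.appTop.hom.toAlgebra
  letI := (f ≫ g).appTop.hom.toAlgebra
  haveI : IsScalarTower Γ(Y, ⊤) Γ(X, ⊤) Γ(X', ⊤) :=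
    IsScalarTower.of_algebraMap_eq' (by simp [RingHom.algebraMap_toAlgebra])
  haveI : Algebra.Etale Γ(X, ⊤) Γ(X', ⊤) := h2
  haveI : Algebra.FormallyUnramified Γ(Y, ⊤) Γ(X', ⊤) := h1
  haveI : Module.FaithfullyFlat Γ(X, ⊤) Γ(X', ⊤) := h3
  exact formallyUnramified_of_etale_faithfullyFlat (R := Γ(Y, ⊤)) (A := Γ(X, ⊤)) (B := Γ(X', ⊤))

theorem main {X' X Y : Scheme.{u}} (f : X' ⟶ X) (g : X ⟶ Y) [Etale f] [Surjective f]
    [FormallyUnramified (f ≫ g)] [LocallyOfFiniteType (f ≫ g)] :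
    FormallyUnramified g ∧ LocallyOfFiniteType g := by
  refine ⟨?_, Groth.Agent.S1179.lft_of_etale_surjective f g⟩
  haveI : MorphismProperty.RespectsRight @FormallyUnramified @IsOpenImmersion :=
    ⟨fun i hi f hf => by
      haveI : IsOpenImmersion i := hi
      exact MorphismProperty.comp_mem _ f i hf inferInstance⟩
  exact etale_local_source_of_affine (P := @FormallyUnramified) (fun f g _ _ h => fu_affine f g h)
    f g inferInstance

end Helpers

/-- Let f : X' ⟶ X be étale and surjective and g : X ⟶ Y a morphism such that the composite f ≫ g : X' ⟶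
Y is unramified, i.e. formally unramified and locally of finite type. Then g is formally unramified
and locally of finite type. (Being unramified can be checked after precomposing with an étale
surjection; single-cover form.) -/
theorem result {X' X Y : Scheme.{u}} (f : X' ⟶ X) (g : X ⟶ Y) [Etale f] [Surjective f]
    [FormallyUnramified (f ≫ g)] [LocallyOfFiniteType (f ≫ g)] : FormallyUnramified g ∧ LocallyOfFiniteType g := by
  exact main f g

end Groth.Agent.S1180
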