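import Groth.Statements.S9438
import Mathlib
import Groth.Agent.Lib.helper6.RegEtale

set_option autoImplicit false
universe u
open CAlg

namespace Groth.Agent.S9438

/-- The condition (R_k) descends along faithfully flat ring maps: if S is faithfully flat over R,
Noetherian and (R_k), then R is Noetherian and (R_k). -/
theorem result (k : ℕ) (R : Type u) [CommRing R] (S : Type u) [CommRing S]
    [Algebra R S] [Module.FaithfullyFlat R S] [IsNoetherianRing S] (hS : LocCoh.HasRk k S) :
    IsNoetherianRing R ∧ LocCoh.HasRk k R := by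
  haveI hRN : IsNoetherianRing R :=
    Groth.Agent.Lib.helper6.RegEtale.isNoetherianRing_of_faithfullyFlat R S
  refine ⟨hRN, ?_⟩
  intro p hp hht
  have hne : p.map (algebraMap R S) ≠ ⊤ := by
    intro h
    have h1 := Ideal.comap_map_eq_self_of_faithfullyFlat (B := S) p
    rw [h, Ideal.comap_top] at h1
    exact hp.ne_top h1.symm
  obtain ⟨⟨q, hq⟩⟩ := Ideal.nonempty_minimalPrimes hne
  haveI hqp : q.IsPrime := hq.1.1
  have hpq : p ≤ q.comap (algebraMap R S) := Ideal.map_le_iff_le_comap.mp hq.1.2
  haveI : q.LiesOver (q.comap (algebraMap R S)) := ⟨rfl⟩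
  obtain ⟨P, hPq, hPp, hPo⟩ := Ideal.exists_ideal_le_liesOver_of_le (p := p)
    (q := q.comap (algebraMap R S)) q hpq
  have hPmap : p.map (algebraMap R S) ≤ P := by
    rw [Ideal.map_le_iff_le_comap]
    exact hPo.over.le
  have hqP : q ≤ P := hq.2 ⟨hPp, hPmap⟩ hPq
  have hPeq : P = q := le_antisymm hPq hqP
  haveI hqo : q.LiesOver p := hPeq ▸ hPo
  have h0 : (q.map (Ideal.Quotient.mk (p.map (algebraMap R S)))).height = 0 := by
    rw [Ideal.minimalPrimes_eq_comap] at hq
    obtain ⟨Q, hQ, hQe⟩ := hq
    haveI := hQ.1.1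
    rw [← hQe, Ideal.map_comap_of_surjective _ Ideal.Quotient.mk_surjective]
    exact Ideal.height_eq_zero_iff.mpr hQ
  have hle := Ideal.height_le_height_add_of_liesOver p q
  rw [h0, add_zero] at hle
  haveI : IsRegularLocalRing (Localization.AtPrime q) := hS q (hle.trans hht)
  letI := Localization.AtPrime.algebraOfLiesOver p q
  haveI : IsLocalHom (algebraMap (Localization.AtPrime p) (Localization.AtPrime q)) :=
    Localization.isLocalHom_localRingHom _ _ _ _
  exact Groth.Agent.Lib.helper6.SerreConvE.regular_of_flat_local (Localization.AtPrime p)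
    (Localization.AtPrime q)

end Groth.Agent.S9438
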