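import Groth.Statements.S1190
import Mathlib
import Groth.Agent.Lib.helper23.GalExactSeq

set_option autoImplicit false
universe u v w
open CategoryTheory PreGaloisCategory
open Pi1
open Groth.Agent.Lib.helper23

namespace Groth.Agent.S1190

/-- Let H : C ⥤ C' and H' : C' ⥤ C'' be exact functors between Galois categories, F'' a fibre functor on
C'' with F'' ∘ H' and F'' ∘ H' ∘ H fibre functors, and h', h the induced homomorphisms of
fundamental groups. Then: h is surjective, h ∘ h' is trivial and the kernel of h is the closed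
normal subgroup generated by the image of h', if and only if H is fully faithful and its essential
image consists exactly of those X' in C' for which H'(X') is a finite coproduct of copies of the
final object. -/
theorem result {C C' C'' : Type u} [Category.{v} C] [Category.{v} C'] [Category.{v} C'']
    [GaloisCategory C] [GaloisCategory C'] [GaloisCategory C'']
    (H : C ⥤ C') [Limits.PreservesFiniteLimits H] [Limits.PreservesFiniteColimits H]
    (H' : C' ⥤ C'') [Limits.PreservesFiniteLimits H'] [Limits.PreservesFiniteColimits H']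
    (F'' : C'' ⥤ FintypeCat.{w}) [FiberFunctor F''] [FiberFunctor (H' ⋙ F'')] [FiberFunctor (H ⋙ (H' ⋙ F''))] :
    (Function.Surjective (Pi1X.autWhisker H (H' ⋙ F'')) ∧
      (∀ σ : Aut F'', Pi1X.autWhisker H (H' ⋙ F'') (Pi1X.autWhisker H' F'' σ) = 1) ∧
      (Pi1X.autWhisker H (H' ⋙ F'')).ker = (Subgroup.normalClosure (Set.range (Pi1X.autWhisker H' F''))).topologicalClosure) ↔
    ((H.Full ∧ H.Faithful) ∧
      ∀ X' : C', (∃ X : C, Nonempty (H.obj X ≅ X')) ↔ ∃ n : ℕ, Nonempty (H'.obj X' ≅ ∐ fun _ : Fin n => ⊤_ C'')) := by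
  classical
  have hcont := GalLib.autWhisker_continuous H (H' ⋙ F'')
  -- the action of `h' σ''` on fibres
  have hact : ∀ (σ'' : Aut F'') (X' : C') (y : (H' ⋙ F'').obj X'),
      (Pi1X.autWhisker H' F'' σ'').hom.app X' y = σ''.hom.app (H'.obj X') y := fun _ _ _ => rfl
  constructor
  · rintro ⟨hsurj, hcomp, hker⟩
    refine ⟨⟨GalLib.full_of_autWhisker_surjective H (H' ⋙ F'') hsurj,
      GalLib.faithful_of_fiber H (H' ⋙ F'')⟩, ?_⟩
    intro X'
    constructor
    · rintro ⟨X, ⟨φ⟩⟩
      apply GalLib.exists_iso_sigma_terminal_of_trivial F'' (H'.obj X')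
      intro σ'' y
      exact GalLib.ker_trivial_of_iso H (H' ⋙ F'') φ (Pi1X.autWhisker H' F'' σ'') (hcomp σ'') y
    · rintro ⟨n, ⟨φ⟩⟩
      have htriv := GalLib.trivial_of_iso_sigma_terminal F'' (H'.obj X') n φ
      apply GalLib.exists_preimage_of_ker_trivial H (H' ⋙ F'') hsurj X'
      intro σ' hσ' x
      -- the subgroup acting trivially on the fibre of X'
      let P : Subgroup (Aut (H' ⋙ F'')) := ⨅ x : (H' ⋙ F'').obj X', MulAction.stabilizer _ x
      have hPn : P.Normal := by
        constructor
        intro a ha b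
        rw [Subgroup.mem_iInf] at ha ⊢
        intro x
        rw [MulAction.mem_stabilizer_iff, mul_smul, mul_smul]
        have := ha (b⁻¹ • x)
        rw [MulAction.mem_stabilizer_iff] at this
        rw [this, smul_inv_smul]
      have hPc : IsClosed (P : Set (Aut (H' ⋙ F''))) := by
        rw [Subgroup.coe_iInf]
        exact isClosed_iInter (fun x => Subgroup.isClosed_of_isOpen _
          (stabilizer_isOpen (Aut (H' ⋙ F'')) x))
      have hr : Set.range (Pi1X.autWhisker H' F'') ⊆ (P : Set (Aut (H' ⋙ F''))) := by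
        rintro _ ⟨σ'', rfl⟩
        show Pi1X.autWhisker H' F'' σ'' ∈ P
        rw [Subgroup.mem_iInf]
        intro y
        exact htriv σ'' y
      have hle : (Subgroup.normalClosure (Set.range (Pi1X.autWhisker H' F''))).topologicalClosure
          ≤ P :=
        Subgroup.topologicalClosure_minimal _ (Subgroup.normalClosure_le_normal hr) hPc
      have hmem : σ' ∈ (Pi1X.autWhisker H (H' ⋙ F'')).ker := hσ'
      rw [hker] at hmem
      have := hle hmem
      rw [Subgroup.mem_iInf] at this
      exact this x
  · rintro ⟨⟨hfull, hfaith⟩, hess⟩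
    haveI := hfull
    have hsurj : Function.Surjective (Pi1X.autWhisker H (H' ⋙ F'')) :=
      GalLib.autWhisker_surjective_of_preservesConnected H (H' ⋙ F'')
        (fun X hX => GalLib.isConnected_of_full H (H' ⋙ F'') X)
    have hcomp : ∀ σ : Aut F'',
        Pi1X.autWhisker H (H' ⋙ F'') (Pi1X.autWhisker H' F'' σ) = 1 := by
      intro σ''
      rw [GalLib.autWhisker_eq_one_iff]
      intro X y
      obtain ⟨n, ⟨φ⟩⟩ := (hess (H.obj X)).1 ⟨X, ⟨Iso.refl _⟩⟩
      exact GalLib.trivial_of_iso_sigma_terminal F'' _ n φ σ'' y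
    refine ⟨hsurj, hcomp, ?_⟩
    apply le_antisymm
    · intro σ' hσ'
      have hσ1 : Pi1X.autWhisker H (H' ⋙ F'') σ' = 1 := hσ'
      set N := (Subgroup.normalClosure (Set.range (Pi1X.autWhisker H' F''))).topologicalClosure
        with hN
      haveI : N.Normal := Subgroup.is_normal_topologicalClosure _
      have hNc : IsClosed (N : Set (Aut (H' ⋙ F''))) := Subgroup.isClosed_topologicalClosure _
      -- key claim
      have key : ∀ (X' : C') (x' : (H' ⋙ F'').obj X'),
          ∃ n ∈ N, (n : Aut (H' ⋙ F'')).hom.app X' x' = σ'.hom.app X' x' := by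
        intro X' x'
        obtain ⟨Q, hQ1, hQ2⟩ := GalLib.exists_orbit_object (H' ⋙ F'') N X'
        apply hQ2 σ' _ x'
        have htr : ∀ (σ'' : Aut F'') (y : F''.obj (H'.obj Q)), σ''.hom.app (H'.obj Q) y = y := by
          intro σ'' y
          apply hQ1 (Pi1X.autWhisker H' F'' σ'')
          exact Subgroup.le_topologicalClosure _ (Subgroup.subset_normalClosure ⟨σ'', rfl⟩)
        obtain ⟨X, ⟨φ⟩⟩ := (hess Q).2
          (GalLib.exists_iso_sigma_terminal_of_trivial F'' (H'.obj Q) htr)
        exact GalLib.ker_trivial_of_iso H (H' ⋙ F'') φ σ' hσ1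
      have hcl : σ' ∈ closure (N : Set (Aut (H' ⋙ F''))) := by
        rw [mem_closure_iff_nhds]
        intro U hU
        have h1 : (fun g => σ' * g) ⁻¹' U ∈ nhds (1 : Aut (H' ⋙ F'')) := by
          apply (continuous_mul_left σ').continuousAt
          show U ∈ nhds (σ' * 1)
          rw [mul_one]
          exact hU
        obtain ⟨A, -, hA⟩ := (nhds_one_has_basis_stabilizers (H' ⋙ F'')).mem_iff.1 h1
        obtain ⟨n, hn, hna⟩ := key A.obj A.pt
        refine ⟨n, ?_, hn⟩
        have h2 : σ'⁻¹ * n ∈ MulAction.stabilizer (Aut (H' ⋙ F'')) A.pt := by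
          rw [MulAction.mem_stabilizer_iff, mul_smul, inv_smul_eq_iff]
          exact hna
        have h3 := hA h2
        simpa using h3
      rw [hNc.closure_eq] at hcl
      exact hcl
    · apply Subgroup.topologicalClosure_minimal
      · apply Subgroup.normalClosure_le_normal
        rintro _ ⟨σ'', rfl⟩
        exact hcomp σ''
      · have : ((Pi1X.autWhisker H (H' ⋙ F'')).ker : Set (Aut (H' ⋙ F''))) =
            (Pi1X.autWhisker H (H' ⋙ F'')) ⁻¹' {1} := by
          ext σ'
          rfl
        rw [this]
        exact isClosed_singleton.preimage hcont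

end Groth.Agent.S1190
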