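import Groth.Statements.S1191
import Mathlib.RingTheory.Ideal.AssociatedPrime.Finiteness


set_option autoImplicit false
universe u
open FlatMor

attribute [local instance] Algebra.TensorProduct.rightAlgebra


namespace Groth.Agent.S1191

open TensorProduct in
/-- For a finitely presented algebra S over R, a finitely presented S-module N and a prime q of S over
p, some element of S outside q maps into every associated prime of the fibre module of N over p that
is not contained in the extension of q to the fibre ring. -/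
theorem result {R S : Type u} [CommRing R] [CommRing S] [Algebra R S] [Algebra.FinitePresentation R S]
    (N : Type u) [AddCommGroup N] [Module S N] [Module R N] [IsScalarTower R S N] [Module.FinitePresentation S N]
    (p : Ideal R) [p.IsPrime] (q : Ideal S) [q.IsPrime] [q.LiesOver p] :
    ∃ g : S, g ∉ q ∧ ∀ r ∈ associatedPrimes (p.Fiber S) (FlatCA.fiberMod p S N),
      ¬ r ≤ FlatCA.fiberIdeal p q → (1 : p.ResidueField) ⊗ₜ[R] g ∈ r := by
  classical
  -- the fibre ring is Noetherian and the fibre module is finite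
  haveI : IsNoetherianRing (p.Fiber S) :=
    Algebra.FiniteType.isNoetherianRing p.ResidueField (p.Fiber S)
  haveI : Module.Finite (p.Fiber S) (FlatCA.fiberMod p S N) :=
    inferInstanceAs (Module.Finite (p.Fiber S) (TensorProduct S (p.Fiber S) N))
  have hfin : (associatedPrimes (p.Fiber S) (FlatCA.fiberMod p S N)).Finite :=
    associatedPrimes.finite (A := p.Fiber S) (M := FlatCA.fiberMod p S N)
  -- the extension of `q` is the kernel of the map to `κ(q)`, hence prime
  let φ : p.Fiber S →ₐ[R] q.ResidueField :=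
    Algebra.TensorProduct.lift
      (Ideal.ResidueField.mapₐ p q (Algebra.ofId R S) (Ideal.LiesOver.over (P := q) (p := p)))
      (IsScalarTower.toAlgHom R S q.ResidueField) (fun _ _ => .all _ _)
  have hφ : ∀ x : S, φ ((1 : p.ResidueField) ⊗ₜ[R] x) = algebraMap S q.ResidueField x := by
    intro x
    simp [φ]
  have hunit : ∀ a : R, a ∉ p → ∀ (J : Ideal (p.Fiber S)) (x : p.Fiber S), a • x ∈ J → x ∈ J := by
    intro a ha J x hx
    have hne : algebraMap R p.ResidueField a ≠ 0 := by
      rw [Ne, Ideal.algebraMap_residueField_eq_zero]; exact ha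
    have e : x = ((algebraMap R p.ResidueField a)⁻¹ ⊗ₜ[R] (1 : S)) * (a • x) := by
      rw [Algebra.smul_def, ← mul_assoc, Algebra.TensorProduct.algebraMap_apply,
        Algebra.TensorProduct.tmul_mul_tmul, inv_mul_cancel₀ hne, mul_one,
        ← Algebra.TensorProduct.one_def, one_mul]
    rw [e]
    exact J.mul_mem_left _ hx
  have hQ : FlatCA.fiberIdeal p q = RingHom.ker φ.toRingHom := by
    apply le_antisymm
    · unfold FlatCA.fiberIdeal
      rw [Ideal.map_le_iff_le_comap]
      intro x hx
      rw [Ideal.mem_comap, RingHom.mem_ker]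
      change φ ((1 : p.ResidueField) ⊗ₜ[R] x) = 0
      rw [hφ, Ideal.algebraMap_residueField_eq_zero]
      exact hx
    · intro x hx
      rw [RingHom.mem_ker] at hx
      obtain ⟨a, ha, s, hs⟩ := Ideal.Fiber.exists_smul_eq_one_tmul p x
      apply hunit a ha
      rw [hs]
      have h0 : φ ((1 : p.ResidueField) ⊗ₜ[R] s) = 0 := by
        rw [← hs, map_smul]
        change a • φ x = 0
        have hx' : φ x = 0 := hx
        rw [hx', smul_zero]
      rw [hφ, Ideal.algebraMap_residueField_eq_zero] at h0
      exact Ideal.mem_map_of_mem _ h0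
  haveI hQprime : (FlatCA.fiberIdeal p q).IsPrime := by
    rw [hQ]; exact RingHom.ker_isPrime _
  -- choose elements
  have hex : ∀ r : Ideal (p.Fiber S), ¬ r ≤ FlatCA.fiberIdeal p q →
      ∃ x ∈ r, x ∉ FlatCA.fiberIdeal p q := fun r hr => SetLike.not_le_iff_exists.mp hr
  let xs : Ideal (p.Fiber S) → p.Fiber S := fun r =>
    if h : ¬ r ≤ FlatCA.fiberIdeal p q then (hex r h).choose else 1
  have hxs1 : ∀ r, ¬ r ≤ FlatCA.fiberIdeal p q → xs r ∈ r := by
    intro r h
    simp only [xs, dif_pos h]
    exact (hex r h).choose_spec.1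
  have hxs2 : ∀ r, ¬ r ≤ FlatCA.fiberIdeal p q → xs r ∉ FlatCA.fiberIdeal p q := by
    intro r h
    simp only [xs, dif_pos h]
    exact (hex r h).choose_spec.2
  let T : Finset (Ideal (p.Fiber S)) :=
    hfin.toFinset.filter (fun r => ¬ r ≤ FlatCA.fiberIdeal p q)
  let x : p.Fiber S := ∏ r ∈ T, xs r
  have hxQ : x ∉ FlatCA.fiberIdeal p q := by
    intro hx
    obtain ⟨r, hrT, hr⟩ := (Ideal.IsPrime.prod_mem_iff).mp hx
    exact hxs2 r (Finset.mem_filter.mp hrT).2 hr
  obtain ⟨a, ha, g, hg⟩ := Ideal.Fiber.exists_smul_eq_one_tmul p x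
  refine ⟨g, ?_, ?_⟩
  · intro hgq
    have h1 : (1 : p.ResidueField) ⊗ₜ[R] g ∈ FlatCA.fiberIdeal p q :=
      Ideal.mem_map_of_mem _ hgq
    rw [← hg] at h1
    exact hxQ (hunit a ha _ x h1)
  · intro r hr hrQ
    rw [← hg]
    apply Submodule.smul_of_tower_mem
    have hrT : r ∈ T := Finset.mem_filter.mpr ⟨hfin.mem_toFinset.mpr hr, hrQ⟩
    exact Ideal.mem_of_dvd r (Finset.dvd_prod_of_mem xs hrT) (hxs1 r hrQ)

end Groth.Agent.S1191
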