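import Groth.Statements.S1193
import Mathlib


set_option autoImplicit false
universe u
open FlatMor

attribute [local instance] Algebra.TensorProduct.rightAlgebra

namespace Groth.Agent.S1193

open IsLocalRing in
/-- Let R be a local ring, S an R-algebra whose closed fibre ring is Noetherian and N an S-module whose
closed fibre module N/𝔪N is finite. Let Σ be the set of elements of S acting injectively on N/𝔪N.
Then a prime of S is disjoint from Σ exactly when it lies inside an associated prime of N/𝔪N (the
primes of the localization at Σ), the localization of S at Σ has finitely many maximal ideals, and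
an ideal of that localization is maximal exactly when it is prime and contracts to a maximal member
of the set of associated primes of N/𝔪N. -/
theorem result {R S : Type u} [CommRing R] [IsLocalRing R] [CommRing S] [Algebra R S]
    (N : Type u) [AddCommGroup N] [Module S N] [Module R N] [IsScalarTower R S N]
    [IsNoetherianRing ((maximalIdeal R).Fiber S)]
    [Module.Finite ((maximalIdeal R).Fiber S) (FlatCA.fiberMod (maximalIdeal R) S N)] :
    (∀ (q : Ideal S) [q.IsPrime], Disjoint (q : Set S) (FlatCA.nzdFiber R S N) ↔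
        ∃ q' ∈ associatedPrimes S (FlatCA.fiberMod (maximalIdeal R) S N), q ≤ q') ∧
    {Q : Ideal (Localization (FlatCA.nzdFiber R S N)) | Q.IsMaximal}.Finite ∧
    (∀ Q : Ideal (Localization (FlatCA.nzdFiber R S N)), Q.IsMaximal ↔ (Q.IsPrime ∧
        Maximal (fun r => r ∈ associatedPrimes S (FlatCA.fiberMod (maximalIdeal R) S N))
          (Q.comap (algebraMap S (Localization (FlatCA.nzdFiber R S N)))))) := by
  classical
  haveI hst : IsScalarTower S ((maximalIdeal R).Fiber S) (FlatCA.fiberMod (maximalIdeal R) S N) :=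
    inferInstanceAs (IsScalarTower S ((maximalIdeal R).Fiber S)
      (TensorProduct S ((maximalIdeal R).Fiber S) N))
  have T1 : ∀ Q' ∈ associatedPrimes ((maximalIdeal R).Fiber S) (FlatCA.fiberMod (maximalIdeal R) S N),
      Q'.comap (algebraMap S ((maximalIdeal R).Fiber S)) ∈
        associatedPrimes S (FlatCA.fiberMod (maximalIdeal R) S N) := by
    rintro Q' ⟨hQ'prime, x, hx⟩
    refine ⟨Ideal.comap_isPrime _ _, x, ?_⟩
    rw [hx, Ideal.comap_radical]
    congr 1
  have F2a : ∀ s : S, s ∉ FlatCA.nzdFiber R S N →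
      ∃ Q' ∈ associatedPrimes ((maximalIdeal R).Fiber S) (FlatCA.fiberMod (maximalIdeal R) S N),
        algebraMap S ((maximalIdeal R).Fiber S) s ∈ Q' := by
    intro s hs
    rw [mem_nonZeroSMulDivisors_iff] at hs
    push Not at hs
    obtain ⟨x, hx0, hxne⟩ := hs
    have h1 : algebraMap S ((maximalIdeal R).Fiber S) s ∈
        ⋃ p ∈ associatedPrimes ((maximalIdeal R).Fiber S) (FlatCA.fiberMod (maximalIdeal R) S N),
          (p : Set ((maximalIdeal R).Fiber S)) := by
      rw [biUnion_associatedPrimes_eq_zero_divisors]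
      exact ⟨x, hxne, by rw [algebraMap_smul]; exact hx0⟩
    obtain ⟨Q', hQ', hs'⟩ := Set.mem_iUnion₂.1 h1
    exact ⟨Q', hQ', hs'⟩
  have F2b : ∀ q' ∈ associatedPrimes S (FlatCA.fiberMod (maximalIdeal R) S N), ∀ s ∈ q',
      s ∉ FlatCA.nzdFiber R S N := by
    rintro q' ⟨hq'prime, x, hx⟩ s hs hsSig
    rw [hx] at hs
    obtain ⟨k, hk⟩ := hs
    rw [Submodule.mem_colon_singleton, Submodule.mem_bot] at hk
    have hkSig : s ^ k ∈ FlatCA.nzdFiber R S N := pow_mem hsSig k
    have hx0 : x = 0 := (mem_nonZeroSMulDivisors_iff.1 hkSig) x hk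
    apply hq'prime.ne_top
    rw [hx, hx0, Ideal.radical_eq_top, Ideal.eq_top_iff_one, Submodule.mem_colon_singleton]
    simp
  have hfin := associatedPrimes.finite ((maximalIdeal R).Fiber S) (FlatCA.fiberMod (maximalIdeal R) S N)
  let T : Finset (Ideal S) := hfin.toFinset.image (Ideal.comap (algebraMap S ((maximalIdeal R).Fiber S)))
  have hT_A : ∀ q' ∈ T, q' ∈ associatedPrimes S (FlatCA.fiberMod (maximalIdeal R) S N) := by
    intro q' hq'
    obtain ⟨Q', hQ', rfl⟩ := Finset.mem_image.1 hq'
    exact T1 Q' (hfin.mem_toFinset.1 hQ')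
  have hT_prime : ∀ q' ∈ T, q'.IsPrime := fun q' hq' => (hT_A q' hq').1
  have hcover : ∀ s : S, s ∉ FlatCA.nzdFiber R S N → ∃ q' ∈ T, s ∈ q' := by
    intro s hs
    obtain ⟨Q', hQ', hsQ'⟩ := F2a s hs
    exact ⟨Q'.comap (algebraMap S ((maximalIdeal R).Fiber S)),
      Finset.mem_image.2 ⟨Q', hfin.mem_toFinset.2 hQ', rfl⟩, hsQ'⟩
  have hT_le : ∀ (q : Ideal S), q.IsPrime →
      Disjoint (q : Set S) (FlatCA.nzdFiber R S N : Set S) → ∃ q' ∈ T, q ≤ q' := by
    intro q _ hd
    have hsub : (q : Set S) ⊆ ⋃ i ∈ (↑T : Set (Ideal S)), (i : Set S) := by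
      intro s hs
      have hsSig : s ∉ FlatCA.nzdFiber R S N := fun h => Set.disjoint_left.1 hd hs h
      obtain ⟨q', hq'T, hsq'⟩ := hcover s hsSig
      exact Set.mem_iUnion₂.2 ⟨q', hq'T, hsq'⟩
    exact (Ideal.subset_union_prime (f := fun i : Ideal S => i) ⊥ ⊥
      (fun i hi _ _ => hT_prime i hi)).1 hsub
  have hdisjA : ∀ q' ∈ associatedPrimes S (FlatCA.fiberMod (maximalIdeal R) S N),
      Disjoint (FlatCA.nzdFiber R S N : Set S) (q' : Set S) := by
    intro q' hq'
    rw [Set.disjoint_left]
    intro s hsSig hs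
    exact F2b q' hq' s hs hsSig
  have hmax : ∀ Q : Ideal (Localization (FlatCA.nzdFiber R S N)), Q.IsMaximal →
      ∃ q' ∈ T, Q = q'.map (algebraMap S (Localization (FlatCA.nzdFiber R S N))) := by
    intro Q hQ
    have hQ' := (IsLocalization.isPrime_iff_isPrime_disjoint (FlatCA.nzdFiber R S N)
      (Localization (FlatCA.nzdFiber R S N)) Q).1 hQ.isPrime
    obtain ⟨q', hq'T, hle⟩ := hT_le _ hQ'.1 hQ'.2.symm
    refine ⟨q', hq'T, ?_⟩
    have hmapprime := IsLocalization.isPrime_of_isPrime_disjoint (FlatCA.nzdFiber R S N)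
      (Localization (FlatCA.nzdFiber R S N)) q' (hT_prime q' hq'T) (hdisjA q' (hT_A q' hq'T))
    have hQle : Q ≤ q'.map (algebraMap S (Localization (FlatCA.nzdFiber R S N))) := by
      rw [← IsLocalization.map_under (FlatCA.nzdFiber R S N)
        (Localization (FlatCA.nzdFiber R S N)) Q]
      exact Ideal.map_mono hle
    exact hQ.eq_of_le hmapprime.ne_top hQle
  refine ⟨?_, ?_, ?_⟩
  · intro q _
    constructor
    · intro hd
      obtain ⟨q', hq'T, hle⟩ := hT_le q inferInstance hd
      exact ⟨q', hT_A q' hq'T, hle⟩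
    · rintro ⟨q', hq'A, hle⟩
      rw [Set.disjoint_left]
      intro s hs hsSig
      exact F2b q' hq'A s (hle hs) hsSig
  · apply Set.Finite.subset
      (T.image (Ideal.map (algebraMap S (Localization (FlatCA.nzdFiber R S N))))).finite_toSet
    intro Q hQ
    obtain ⟨q', hq'T, rfl⟩ := hmax Q hQ
    simp only [Finset.coe_image, Set.mem_image, Finset.mem_coe]
    exact ⟨q', hq'T, rfl⟩
  · intro Q
    constructor
    · intro hQ
      refine ⟨hQ.isPrime, ?_⟩
      obtain ⟨q', hq'T, hQeq⟩ := hmax Q hQ
      have hq'prime := hT_prime q' hq'T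
      have hq'disj := hdisjA q' (hT_A q' hq'T)
      have hcomap : Q.comap (algebraMap S (Localization (FlatCA.nzdFiber R S N))) = q' := by
        rw [hQeq]
        exact IsLocalization.under_map_of_isPrime_disjoint (FlatCA.nzdFiber R S N)
          (Localization (FlatCA.nzdFiber R S N)) hq'prime hq'disj
      rw [hcomap]
      refine ⟨hT_A q' hq'T, ?_⟩
      intro q'' hq''A hle
      have hq''prime : q''.IsPrime := hq''A.1
      have hq''disj := hdisjA q'' hq''A
      have hmp := IsLocalization.isPrime_of_isPrime_disjoint (FlatCA.nzdFiber R S N)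
        (Localization (FlatCA.nzdFiber R S N)) q'' hq''prime hq''disj
      have h1 : Q = q''.map (algebraMap S (Localization (FlatCA.nzdFiber R S N))) :=
        hQ.eq_of_le hmp.ne_top (by rw [hQeq]; exact Ideal.map_mono hle)
      have h2 : q'' = q' := by
        have h3 := IsLocalization.under_map_of_isPrime_disjoint (FlatCA.nzdFiber R S N)
          (Localization (FlatCA.nzdFiber R S N)) hq''prime hq''disj
        rw [← h1] at h3
        rw [← h3]
        exact hcomap
      exact h2.le
    · rintro ⟨hQprime, hmaxA⟩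
      obtain ⟨Q', hQ'max, hQQ'⟩ := Ideal.exists_le_maximal Q hQprime.ne_top
      obtain ⟨q', hq'T, hQ'eq⟩ := hmax Q' hQ'max
      have hcomapQ' : Q'.comap (algebraMap S (Localization (FlatCA.nzdFiber R S N))) = q' := by
        rw [hQ'eq]
        exact IsLocalization.under_map_of_isPrime_disjoint (FlatCA.nzdFiber R S N)
          (Localization (FlatCA.nzdFiber R S N)) (hT_prime q' hq'T) (hdisjA q' (hT_A q' hq'T))
      have hle : Q.comap (algebraMap S (Localization (FlatCA.nzdFiber R S N))) ≤ q' := by
        rw [← hcomapQ']; exact Ideal.comap_mono hQQ'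
      have hge : q' ≤ Q.comap (algebraMap S (Localization (FlatCA.nzdFiber R S N))) :=
        hmaxA.2 (hT_A q' hq'T) hle
      have heq : Q.comap (algebraMap S (Localization (FlatCA.nzdFiber R S N))) =
          Q'.comap (algebraMap S (Localization (FlatCA.nzdFiber R S N))) := by
        rw [hcomapQ']; exact le_antisymm hle hge
      have hQQ : Q = Q' := by
        rw [← IsLocalization.map_under (FlatCA.nzdFiber R S N)
          (Localization (FlatCA.nzdFiber R S N)) Q, ← IsLocalization.map_under (FlatCA.nzdFiber R S N)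
          (Localization (FlatCA.nzdFiber R S N)) Q']
        exact congrArg (Ideal.map (algebraMap S (Localization (FlatCA.nzdFiber R S N)))) heq
      rw [hQQ]; exact hQ'max

end Groth.Agent.S1193
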