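import Groth.Statements.S3874
import Mathlib

set_option autoImplicit false
universe u
open FCompl

namespace Groth.Agent.S3874

section Aux

/-- kernel of `evalₐ` for an f.g. ideal -/
theorem ker_evalₐ_eq {R : Type u} [CommRing R] (I : Ideal R) (fg : I.FG) (m : ℕ) :
    RingHom.ker (AdicCompletion.evalₐ I m).toRingHom =
      (I.map (algebraMap R (AdicCompletion I R))) ^ m := by
  ext x
  trans x ∈ (AdicCompletion.eval I R m).ker
  · have eq : I ^ m * ⊤ = I ^ m := by simp
    rw [RingHom.mem_ker, LinearMap.mem_ker]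
    have h2 := AdicCompletion.factor_evalₐ_eq_eval (I := I) (n := m) x (le_of_eq eq.symm)
    constructor
    · intro h
      rw [← h2]
      simp only [AlgHom.toRingHom_eq_coe, RingHom.coe_coe] at h
      rw [h, map_zero]
    · intro h
      have h3 : Ideal.Quotient.factor (le_of_eq eq.symm) (AdicCompletion.evalₐ I m x) = 0 := by
        rw [h2, h]
      have hinj : Function.Injective (Ideal.Quotient.factor (le_of_eq eq.symm) :
          R ⧸ I ^ m →+* R ⧸ (I ^ m * ⊤ : Ideal R)) := by
        simp [RingHom.injective_iff_ker_eq_bot, Ideal.Quotient.factor_ker]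
      exact (map_eq_zero_iff _ hinj).mp h3
  · rw [← AdicCompletion.pow_smul_top_eq_ker_eval fg, ← Ideal.map_pow, Ideal.smul_top_eq_map]
    rfl

end Aux

/-- Let A be a Noetherian ring, J an ideal, f ∈ A and n ≥ 0, and let A_{f} be the completion of the
localization A_f for the topology defined by the extension of J. There is a ring isomorphism from
the localization of A/J^(n+1) away from the class of f onto A_{f} modulo the (n+1)-st power of the
extension of J to A_{f}, compatible with the canonical maps from A (and hence unique). In terms of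
formal spectra: the open D(f) of Spf(A) is Spf(A_{f}), and at level n its ring is the ring
(A/J^(n+1))_f of the open D(f) of Spec(A/J^(n+1)). -/
theorem result (A : Type u) [CommRing A] [IsNoetherianRing A] (J : Ideal A)
    (f : A) (n : ℕ) :
    ∃ e : Localization.Away (Ideal.Quotient.mk (J ^ (n + 1)) f) ≃+*
        FSch.cAway A J f ⧸ (J.map (algebraMap A (FSch.cAway A J f))) ^ (n + 1),
      ∀ a : A, e (algebraMap (A ⧸ J ^ (n + 1)) _ (Ideal.Quotient.mk (J ^ (n + 1)) a)) =
        Ideal.Quotient.mk _ (algebraMap A (FSch.cAway A J f) a) := by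
  generalize n + 1 = m
  let B := Localization.Away f
  let K : Ideal B := J.map (algebraMap A B)
  let L := Localization.Away (Ideal.Quotient.mk (J ^ m) f)
  have hKfg : K.FG := Ideal.FG.map (IsNoetherian.noetherian J) (algebraMap A B)
  have hKm : K ^ m = (J ^ m).map (algebraMap A B) := (Ideal.map_pow _ _ _).symm
  let g1 : A ⧸ J ^ m →+* B ⧸ K ^ m :=
    Ideal.quotientMap (K ^ m) (algebraMap A B) (by rw [hKm]; exact Ideal.le_comap_map)
  have hu1 : IsUnit (g1 (Ideal.Quotient.mk (J ^ m) f)) := by
    simp only [g1, Ideal.quotientMap_mk]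
    exact (IsLocalization.Away.algebraMap_isUnit f).map _
  let φ : L →+* B ⧸ K ^ m := IsLocalization.Away.lift (Ideal.Quotient.mk (J ^ m) f) hu1
  have hu2 : IsUnit (((algebraMap (A ⧸ J ^ m) L).comp (Ideal.Quotient.mk (J ^ m))) f) :=
    IsLocalization.Away.algebraMap_isUnit (S := L) (Ideal.Quotient.mk (J ^ m) f)
  let ψ0 : B →+* L := IsLocalization.Away.lift f hu2
  have hψ0 : K ^ m ≤ RingHom.ker ψ0 := by
    rw [hKm, Ideal.map_le_iff_le_comap]
    intro a ha
    rw [Ideal.mem_comap, RingHom.mem_ker, IsLocalization.Away.lift_eq]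
    simp only [RingHom.coe_comp, Function.comp_apply]
    rw [Ideal.Quotient.eq_zero_iff_mem.mpr ha, map_zero]
  let ψ : B ⧸ K ^ m →+* L := Ideal.Quotient.lift (K ^ m) ψ0 (fun b hb => hψ0 hb)
  have hφ : ∀ a : A, φ (algebraMap (A ⧸ J ^ m) L (Ideal.Quotient.mk (J ^ m) a)) =
      Ideal.Quotient.mk (K ^ m) (algebraMap A B a) := by
    intro a
    simp only [φ, IsLocalization.Away.lift_eq, g1, Ideal.quotientMap_mk]
  have hψ : ∀ a : A, ψ (Ideal.Quotient.mk (K ^ m) (algebraMap A B a)) =
      algebraMap (A ⧸ J ^ m) L (Ideal.Quotient.mk (J ^ m) a) := by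
    intro a
    simp only [ψ, Ideal.Quotient.lift_mk, ψ0, IsLocalization.Away.lift_eq, RingHom.coe_comp,
      Function.comp_apply]
  have h1 : ψ.comp φ = RingHom.id L := by
    apply IsLocalization.ringHom_ext (Submonoid.powers (Ideal.Quotient.mk (J ^ m) f))
    apply Ideal.Quotient.ringHom_ext
    ext a
    simp only [RingHom.coe_comp, Function.comp_apply, RingHom.id_apply]
    rw [hφ, hψ]
  have h2 : φ.comp ψ = RingHom.id _ := by
    apply Ideal.Quotient.ringHom_ext
    apply IsLocalization.ringHom_ext (Submonoid.powers f)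
    ext a
    simp only [RingHom.coe_comp, Function.comp_apply, RingHom.id_apply]
    rw [hψ, hφ]
  let e1 : L ≃+* B ⧸ K ^ m := RingEquiv.ofRingHom φ ψ h2 h1
  let Bh := AdicCompletion K B
  have hker : RingHom.ker (AdicCompletion.evalₐ K m).toRingHom = (J.map (algebraMap A Bh)) ^ m := by
    rw [ker_evalₐ_eq K hKfg m]
    congr 1
    rw [Ideal.map_map]
    rfl
  let e2 : Bh ⧸ (J.map (algebraMap A Bh)) ^ m ≃+* B ⧸ K ^ m :=
    (Ideal.quotEquivOfEq hker.symm).trans
      (RingHom.quotientKerEquivOfSurjective (f := (AdicCompletion.evalₐ K m).toRingHom)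
        (AdicCompletion.surjective_evalₐ K m))
  refine ⟨e1.trans e2.symm, fun a => ?_⟩
  rw [RingEquiv.trans_apply, RingEquiv.symm_apply_eq]
  have he1 : e1 (algebraMap (A ⧸ J ^ m) L (Ideal.Quotient.mk (J ^ m) a)) =
      Ideal.Quotient.mk (K ^ m) (algebraMap A B a) := hφ a
  rw [he1]
  have he2 : ∀ y : Bh, e2 (Ideal.Quotient.mk _ y) = AdicCompletion.evalₐ K m y := fun y => rfl
  rw [he2, AdicCompletion.algebraMap_apply, AdicCompletion.evalₐ_of]

end Groth.Agent.S3874
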