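import Groth.Statements.S2124
import Mathlib
import Groth.Agent.S2057
-- import your own Groth.Agent.* helpers here

set_option autoImplicit false
universe u
open CAlg

namespace Groth.Agent.S2124

theorem finsupp_mem_smul_top {R : Type u} [CommRing R] {α : Type u} (J : Ideal R) (x : α →₀ R)
    (hx : ∀ a, x a ∈ J) : x ∈ (J • ⊤ : Submodule R (α →₀ R)) := by
  classical
  rw [← Finsupp.sum_single x]
  refine Submodule.sum_mem _ fun a _ => ?_
  have : Finsupp.single a (x a) = x a • Finsupp.single a (1 : R) := by simp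
  rw [this]
  exact Submodule.smul_mem_smul (hx a) trivial

theorem pi_mem_smul_top {R : Type u} [CommRing R] {n : ℕ} (J : Ideal R) (x : Fin n → R)
    (hx : ∀ j, x j ∈ J) : x ∈ (J • ⊤ : Submodule R (Fin n → R)) := by
  classical
  have : x = ∑ j, (x j) • (Pi.single j (1 : R) : Fin n → R) := by
    funext k
    simp [Finset.sum_apply, Pi.single_apply]
  rw [this]
  exact Submodule.sum_mem _ (fun j _ => Submodule.smul_mem_smul (hx j) Submodule.mem_top)

theorem pi_apply_mem_of_mem_smul_top {R : Type u} [CommRing R] {n : ℕ} (J : Ideal R)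
    (x : Fin n → R) (hx : x ∈ (J • ⊤ : Submodule R (Fin n → R))) (j : Fin n) : x j ∈ J := by
  refine Submodule.smul_induction_on hx (fun r hr v _ => ?_) (fun x y hx hy => ?_)
  · simpa using J.mul_mem_right _ hr
  · simpa using J.add_mem hx hy

/-- The comparison map into `α → R` (using completeness of `R`). -/
noncomputable def Psi {R : Type u} [CommRing R] (I : Ideal R) [IsAdicComplete I R] (α : Type u) :
    AdicCompletion I (α →₀ R) →ₗ[R] (α → R) :=
  LinearMap.pi fun a => (AdicCompletion.ofLinearEquiv I R).symm.toLinearMap ∘ₗ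
    (AdicCompletion.map I (Finsupp.lapply a : (α →₀ R) →ₗ[R] R)).restrictScalars R

theorem of_Psi {R : Type u} [CommRing R] (I : Ideal R) [IsAdicComplete I R] (α : Type u)
    (x : AdicCompletion I (α →₀ R)) (a : α) :
    AdicCompletion.of I R (Psi I α x a) =
      AdicCompletion.map I (Finsupp.lapply a : (α →₀ R) →ₗ[R] R) x := by
  simp [Psi]

theorem Psi_mk_sub_mem {R : Type u} [CommRing R] (I : Ideal R) [IsAdicComplete I R] (α : Type u)
    (f : AdicCompletion.AdicCauchySequence I (α →₀ R)) (a : α) (k : ℕ) :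
    Psi I α (AdicCompletion.mk I _ f) a - f k a ∈ I ^ k := by
  have h := of_Psi I α (AdicCompletion.mk I _ f) a
  rw [AdicCompletion.map_mk] at h
  have h2 := congrArg (fun z => z.val k) h
  simp only [AdicCompletion.of_apply, AdicCompletion.mk_apply_coe,
    AdicCompletion.AdicCauchySequence.map_apply_coe] at h2
  rw [Submodule.mkQ_apply, Submodule.mkQ_apply, Submodule.Quotient.eq] at h2
  simpa using h2

theorem Psi_injective {R : Type u} [CommRing R] (I : Ideal R) [IsAdicComplete I R] (α : Type u) :
    Function.Injective (Psi I α) := by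
  rw [← LinearMap.ker_eq_bot, LinearMap.ker_eq_bot']
  intro x hx
  obtain ⟨f, rfl⟩ := AdicCompletion.mk_surjective I _ x
  refine AdicCompletion.ext fun k => ?_
  rw [AdicCompletion.mk_apply_coe, AdicCompletion.val_zero_apply, Submodule.mkQ_apply,
    Submodule.Quotient.mk_eq_zero]
  apply finsupp_mem_smul_top
  intro a
  have := Psi_mk_sub_mem I α f a k
  rw [hx] at this
  simpa using this

theorem Psi_finite {R : Type u} [CommRing R] (I : Ideal R) [IsAdicComplete I R] (α : Type u)
    (x : AdicCompletion I (α →₀ R)) (k : ℕ) : {a | Psi I α x a ∉ I ^ k}.Finite := by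
  obtain ⟨f, rfl⟩ := AdicCompletion.mk_surjective I _ x
  refine (f k).support.finite_toSet.subset ?_
  intro a ha
  simp only [Finset.mem_coe, Finsupp.mem_support_iff]
  intro h0
  apply ha
  have := Psi_mk_sub_mem I α f a k
  rwa [h0, sub_zero] at this

theorem exists_Psi_eq {R : Type u} [CommRing R] (I : Ideal R) [IsAdicComplete I R] (α : Type u)
    (t : α → R) (ht : ∀ k, {a | t a ∉ I ^ k}.Finite) : ∃ x, Psi I α x = t := by
  classical
  let g : ℕ → (α →₀ R) := fun k => Finsupp.onFinset (ht k).toFinset
    (fun a => if t a ∈ I ^ k then 0 else t a) (by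
      intro a ha
      simp only [Set.Finite.mem_toFinset, Set.mem_ofPred_eq]
      intro h
      simp [h] at ha)
  have hg : ∀ k a, g k a = if t a ∈ I ^ k then 0 else t a := fun k a => rfl
  have hgt : ∀ k a, t a - g k a ∈ I ^ k := by
    intro k a
    rw [hg]
    split_ifs with h
    · simpa using h
    · simp
  have hc : ∀ k, g k ≡ g (k + 1) [SMOD (I ^ k • ⊤ : Submodule R (α →₀ R))] := by
    intro k
    rw [SModEq.sub_mem]
    apply finsupp_mem_smul_top
    intro a
    have h1 := hgt k a
    have h2 := Ideal.pow_le_pow_right (Nat.le_succ k) (hgt (k + 1) a)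
    have : (g k - g (k + 1)) a = (t a - g (k + 1) a) - (t a - g k a) := by
      simp [Finsupp.sub_apply]
    rw [this]
    exact sub_mem h2 h1
  let f := AdicCompletion.AdicCauchySequence.mk I _ g hc
  refine ⟨AdicCompletion.mk I _ f, ?_⟩
  funext a
  have key : ∀ k, Psi I α (AdicCompletion.mk I _ f) a - t a ∈ I ^ k := fun k => by
    have h1 := Psi_mk_sub_mem I α f a k
    have h2 := hgt k a
    have : Psi I α (AdicCompletion.mk I _ f) a - t a =
        (Psi I α (AdicCompletion.mk I _ f) a - g k a) - (t a - g k a) := by ring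
    rw [this]
    exact sub_mem h1 h2
  have := IsHausdorff.haus (inferInstance : IsHausdorff I R)
    (Psi I α (AdicCompletion.mk I _ f) a - t a) (fun k => by
      rw [SModEq.zero]
      simpa using key k)
  exact sub_eq_zero.mp this

theorem artin_rees_lift {R : Type u} [CommRing R] [IsNoetherianRing R] (I : Ideal R)
    [IsHausdorff I R] {n m : ℕ} (A : (Fin m → R) →ₗ[R] (Fin n → R)) :
    ∃ c₀ : ℕ, ∀ v ∈ LinearMap.range A, ∃ w, A w = v ∧
      ∀ k, (∀ i, v i ∈ I ^ k) → ∀ j, w j ∈ I ^ (k - c₀) := by
  obtain ⟨c₀, hc₀⟩ := Ideal.exists_pow_inf_eq_pow_smul I (LinearMap.range A)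
  refine ⟨c₀, fun v hv => ?_⟩
  have step : ∀ k, (∀ i, v i ∈ I ^ k) → ∃ w, A w = v ∧ ∀ j, w j ∈ I ^ (k - c₀) := by
    intro k hk
    by_cases hkc : c₀ ≤ k
    · have h1 : v ∈ (I ^ k • ⊤ ⊓ LinearMap.range A : Submodule R (Fin n → R)) :=
        ⟨pi_mem_smul_top _ _ hk, hv⟩
      rw [hc₀ k hkc] at h1
      have h2 : v ∈ I ^ (k - c₀) • LinearMap.range A :=
        Submodule.smul_mono le_rfl inf_le_right h1
      rw [LinearMap.range_eq_map, ← Submodule.map_smul''] at h2
      obtain ⟨w, hw, rfl⟩ := h2
      exact ⟨w, rfl, pi_apply_mem_of_mem_smul_top _ _ hw⟩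
    · obtain ⟨w, rfl⟩ := hv
      refine ⟨w, rfl, fun j => ?_⟩
      have : k - c₀ = 0 := by omega
      rw [this, pow_zero, Ideal.one_eq_top]
      trivial
  by_cases hv0 : v = 0
  · exact ⟨0, by simp [hv0], fun k _ j => by simp⟩
  · have : ∃ k₀, ¬ ∀ i, v i ∈ I ^ k₀ := by
      by_contra hcon
      push Not at hcon
      apply hv0
      funext i
      exact IsHausdorff.haus (inferInstance : IsHausdorff I R) (v i) (fun k => by
        rw [SModEq.zero]
        simpa using hcon k i)
    obtain ⟨k₀, hk₀⟩ := this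
    classical
    have hK : ∀ i, v i ∈ I ^ (Nat.findGreatest (fun k => ∀ i, v i ∈ I ^ k) k₀) :=
      Nat.findGreatest_spec (P := fun k => ∀ i, v i ∈ I ^ k) (Nat.zero_le _) (by simp)
    obtain ⟨w, hw, hwK⟩ := step _ hK
    refine ⟨w, hw, fun k hk j => ?_⟩
    have hkk₀ : k ≤ k₀ := by
      by_contra hlt
      push Not at hlt
      exact hk₀ (fun i => Ideal.pow_le_pow_right hlt.le (hk i))
    have hkK : k ≤ Nat.findGreatest (fun k => ∀ i, v i ∈ I ^ k) k₀ :=
      Nat.le_findGreatest hkk₀ hk
    exact Ideal.pow_le_pow_right (Nat.sub_le_sub_right hkK c₀) (hwK j)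

/-- Let `R` be Noetherian and `I`-adically complete and `α` any index set. The map from the `I`-adic
completion of the direct sum `⊕_α R` to the product `∏_α R^∧ = ∏_α R`, induced by the coordinate
projections, is universally injective. -/
theorem result {R : Type u} [CommRing R] [IsNoetherianRing R] (I : Ideal R)
    [IsAdicComplete I R] (α : Type u) :
    CAlgX.UniversallyInjective R
      (LinearMap.pi fun a : α => AdicCompletion.map I (Finsupp.lapply a : (α →₀ R) →ₗ[R] R) :
        AdicCompletion I (α →₀ R) →ₗ[R] (α → AdicCompletion I R)) := by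
  classical
  have hΦ : ∀ (x : AdicCompletion I (α →₀ R)) (c : α),
      (LinearMap.pi fun a : α => (AdicCompletion.map I
        (Finsupp.lapply a : (α →₀ R) →ₗ[R] R)).restrictScalars R :
        AdicCompletion I (α →₀ R) →ₗ[R] (α → AdicCompletion I R)) x c =
        AdicCompletion.of I R (Psi I α x c) := by
    intro x c
    rw [of_Psi]
    rfl
  have hinj : Function.Injective (LinearMap.pi fun a : α => (AdicCompletion.map I
        (Finsupp.lapply a : (α →₀ R) →ₗ[R] R)).restrictScalars R :
        AdicCompletion I (α →₀ R) →ₗ[R] (α → AdicCompletion I R)) := by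
    intro x y hxy
    apply Psi_injective I α
    funext c
    have := congrFun hxy c
    rw [hΦ, hΦ] at this
    exact AdicCompletion.of_injective I R this
  refine (Groth.Agent.S2057.result _ hinj).mpr ?_
  intro n m x y a h
  -- the matrix map
  let A : (Fin m → R) →ₗ[R] (Fin n → R) :=
    LinearMap.pi fun i => ∑ j, a i j • (LinearMap.proj j : (Fin m → R) →ₗ[R] R)
  have hA : ∀ w i, A w i = ∑ j, a i j * w j := by
    intro w i
    simp [A, LinearMap.sum_apply]
  have hv : ∀ c : α, (fun i => Psi I α (x i) c) ∈ LinearMap.range A := by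
    intro c
    refine ⟨fun j => (AdicCompletion.ofLinearEquiv I R).symm (y j c), ?_⟩
    funext i
    rw [hA]
    have h1 := congrFun (h i) c
    rw [hΦ] at h1
    apply AdicCompletion.of_injective I R
    rw [h1, map_sum]
    simp only [Finset.sum_apply, Pi.smul_apply]
    refine Finset.sum_congr rfl fun j _ => ?_
    rw [← smul_eq_mul, map_smul, AdicCompletion.of_ofLinearEquiv_symm]
  obtain ⟨c₀, hc₀⟩ := artin_rees_lift I A
  choose w hw hwk using fun c => hc₀ _ (hv c)
  have hfin : ∀ j k, {c | w c j ∉ I ^ k}.Finite := by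
    intro j k
    have hsub : {c | w c j ∉ I ^ k} ⊆ ⋃ i, {c | Psi I α (x i) c ∉ I ^ (k + c₀)} := by
      intro c hc
      simp only [Set.mem_iUnion, Set.mem_ofPred_eq]
      by_contra hcon
      push Not at hcon
      apply hc
      have := hwk c (k + c₀) hcon j
      rwa [Nat.add_sub_cancel] at this
    exact (Set.finite_iUnion fun i => Psi_finite I α (x i) (k + c₀)).subset hsub
  choose z hz using fun j => exists_Psi_eq I α (fun c => w c j) (hfin j)
  refine ⟨z, fun i => ?_⟩
  apply Psi_injective I α
  funext c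
  rw [map_sum]
  simp only [map_smul, Finset.sum_apply, Pi.smul_apply, hz, smul_eq_mul]
  rw [← hA, hw c]

end Groth.Agent.S2124
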