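import Groth.Statements.S6347
import Groth.Agent.Lib.helper3.ML
-- import your own Groth.Agent.* helpers here

set_option autoImplicit false
universe u
open CAlg

namespace Groth.Agent.S6347

open TensorProduct in
/-- over a Noetherian ring, `N ⊗ R^A → (N ⊗ R)^A` is injective. -/
theorem Psi_injective (R : Type u) [CommRing R] [IsNoetherianRing R] (A : Type u)
    (N : Type u) [AddCommGroup N] [Module R N] :
    Function.Injective (TensorProduct.piRightHom R R N (fun _ : A => R)) := by
  rw [injective_iff_map_eq_zero]
  intro x hx
  obtain ⟨N₀, hN₀, hx₀⟩ := TensorProduct.exists_finite_submodule_left_of_setFinite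
    ({x} : Set (N ⊗[R] (A → R))) (Set.finite_singleton x)
  obtain ⟨x₀, rfl⟩ := hx₀ (Set.mem_singleton x)
  have hfp : Module.FinitePresentation R N₀ := Module.finitePresentation_of_finite R N₀
  rw [Groth.Agent.Lib.helper3.ML.piRightHom_rTensor] at hx
  have h0 : TensorProduct.piRightHom R R N₀ (fun _ : A => R) x₀ = 0 := by
    funext a
    have := congrFun hx a
    have hinj : Function.Injective (N₀.subtype.rTensor R) :=
      Module.Flat.rTensor_preserves_injective_linearMap N₀.subtype N₀.injective_subtype
    exact hinj (this.trans (map_zero _).symm)
  have := (Groth.Agent.Lib.helper3.ML.piRightHom_bijective_of_finitePresentation N₀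
    (fun _ : A => R)).1 (h0.trans (map_zero _).symm)
  rw [this, map_zero]

open TensorProduct in
theorem flat_pi (R : Type u) [CommRing R] [IsNoetherianRing R] (A : Type u) :
    Module.Flat R (A → R) := by
  rw [Module.Flat.iff_rTensor_injective']
  intro I
  have hfp : Module.FinitePresentation R I := Module.finitePresentation_of_finite R I
  have h1 : Function.Injective (TensorProduct.piRightHom R R I (fun _ : A => R)) :=
    Psi_injective R A I
  rw [injective_iff_map_eq_zero]
  intro x hx
  apply h1
  rw [map_zero]
  funext a
  have h2 := congrArg (TensorProduct.piRightHom R R R (fun _ : A => R)) hx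
  rw [Groth.Agent.Lib.helper3.ML.piRightHom_rTensor, map_zero] at h2
  have h3 := congrFun h2 a
  have hinj : Function.Injective (I.subtype.rTensor R) :=
    Module.Flat.rTensor_preserves_injective_linearMap I.subtype I.injective_subtype
  exact hinj (h3.trans (map_zero _).symm)

open TensorProduct in
/-- `R^A ⊗ N → N^A`. -/
noncomputable def psi (R : Type u) [CommRing R] (A : Type u) (N : Type u) [AddCommGroup N]
    [Module R N] : (A → R) ⊗[R] N →ₗ[R] (A → N) :=
  TensorProduct.lift
    { toFun := fun f => LinearMap.pi (fun a => f a • LinearMap.id)
      map_add' := by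
        intro f g
        ext n a
        simp [add_smul]
      map_smul' := by
        intro r f
        ext n a
        simp [mul_smul] }

open TensorProduct in
theorem psi_tmul (R : Type u) [CommRing R] (A : Type u) (N : Type u) [AddCommGroup N]
    [Module R N] (f : A → R) (n : N) : psi R A N (f ⊗ₜ[R] n) = fun a => f a • n := by
  funext a
  simp [psi]

open TensorProduct in
theorem psi_eq (R : Type u) [CommRing R] (A : Type u) (N : Type u) [AddCommGroup N]
    [Module R N] (x : (A → R) ⊗[R] N) :
    psi R A N x = fun a => TensorProduct.rid R N
      (TensorProduct.piRightHom R R N (fun _ : A => R) (TensorProduct.comm R _ _ x) a) := by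
  induction x using TensorProduct.induction_on with
  | zero => simp only [map_zero]; rfl
  | tmul f n =>
    rw [psi_tmul]
    funext a
    simp
  | add x y hx hy =>
    rw [map_add, hx, hy]
    funext a
    simp only [map_add, Pi.add_apply]

theorem psi_injective (R : Type u) [CommRing R] [IsNoetherianRing R] (A : Type u)
    (N : Type u) [AddCommGroup N] [Module R N] : Function.Injective (psi R A N) := by
  rw [injective_iff_map_eq_zero]
  intro x hx
  rw [psi_eq] at hx
  have h1 : TensorProduct.piRightHom R R N (fun _ : A => R) (TensorProduct.comm R _ _ x) = 0 := by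
    funext a
    have := congrFun hx a
    exact (TensorProduct.rid R N).injective (this.trans (map_zero _).symm)
  have h2 := Psi_injective R A N (h1.trans (map_zero _).symm)
  exact (TensorProduct.comm R _ _).injective (h2.trans (map_zero _).symm)

open TensorProduct in
theorem ml_pi (R : Type u) [CommRing R] [IsNoetherianRing R] (A : Type u) :
    CAlg.IsMittagLeffler R (A → R) := by
  intro ι Q _ _
  have hcomm : ∀ x : (A → R) ⊗[R] (∀ i, Q i),
      (fun i => psi R A (Q i) (TensorProduct.piRightHom R R (A → R) Q x i)) =
        fun i a => psi R A (∀ i, Q i) x a i := by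
    intro x
    induction x using TensorProduct.induction_on with
    | zero => simp only [map_zero]; rfl
    | tmul f q =>
      funext i a
      rw [TensorProduct.piRightHom_tmul, psi_tmul, psi_tmul]
      rfl
    | add x y hx hy =>
      simp only [map_add, Pi.add_apply]
      funext i a
      have h1 := congrFun (congrFun hx i) a
      have h2 := congrFun (congrFun hy i) a
      simp only [Pi.add_apply, h1, h2]
  rw [injective_iff_map_eq_zero]
  intro x hx
  apply psi_injective R A (∀ i, Q i)
  rw [map_zero]
  funext a i
  have := congrFun (congrFun (hcomm x) i) a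
  rw [hx] at this
  simp only [Pi.zero_apply, map_zero] at this
  exact this.symm

/-- Over a Noetherian ring R, the product module R^A (functions from any set A to R) is flat and
Mittag-Leffler. -/
theorem result (R : Type u) [CommRing R] [IsNoetherianRing R]
    (A : Type u) : Module.Flat R (A → R) ∧ CAlg.IsMittagLeffler R (A → R) := by
  exact ⟨flat_pi R A, ml_pi R A⟩

end Groth.Agent.S6347
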