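import Groth.Statements.S1197
import Mathlib
import Groth.Agent.S2124
import Groth.Agent.S6347
import Groth.Agent.S6338
import Groth.Agent.Lib.helper10.Pure
-- import your own Groth.Agent.* helpers here

set_option autoImplicit false
universe u
open FlatMor

namespace Groth.Agent.S1197

theorem Psi_univInj (R : Type u) [CommRing R] [IsNoetherianRing R] (I : Ideal R)
    [IsAdicComplete I R] (α : Type u) :
    CAlgX.UniversallyInjective R (Groth.Agent.S2124.Psi I α) := by
  intro Q _ _
  have h := Groth.Agent.S2124.result I α Q
  let e : (α → R) ≃ₗ[R] (α → AdicCompletion I R) :=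
    LinearEquiv.piCongrRight (fun _ => AdicCompletion.ofLinearEquiv I R)
  have hΦ : (LinearMap.pi fun a : α => (AdicCompletion.map I
        (Finsupp.lapply a : (α →₀ R) →ₗ[R] R)).restrictScalars R :
        AdicCompletion I (α →₀ R) →ₗ[R] (α → AdicCompletion I R)) =
      e.toLinearMap ∘ₗ Groth.Agent.S2124.Psi I α := by
    refine LinearMap.ext fun x => funext fun c => ?_
    simp only [LinearMap.pi_apply, LinearMap.coe_comp, LinearEquiv.coe_coe, Function.comp_apply,
      e, LinearEquiv.piCongrRight_apply, AdicCompletion.ofLinearEquiv_apply,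
      Groth.Agent.S2124.of_Psi]
    rfl
  rw [hΦ, LinearMap.rTensor_comp] at h
  exact Function.Injective.of_comp h

/-- Over a Noetherian ring R which is I-adically complete, the I-adic completion of a free module on an
arbitrary index set is a flat and Mittag-Leffler R-module. (Flatness alone, without completeness of
R, is stated separately.) -/
theorem result (R : Type u) [CommRing R] [IsNoetherianRing R] (I : Ideal R) [IsAdicComplete I R] (α : Type u) :
    Module.Flat R (AdicCompletion I (α →₀ R)) ∧ CAlg.IsMittagLeffler R (AdicCompletion I (α →₀ R)) := by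
  have hΨ := Psi_univInj R I α
  have : Module.Flat R (α → R) := Groth.Agent.S6347.flat_pi R α
  refine ⟨?_, Groth.Agent.S6338.result R (Groth.Agent.S2124.Psi I α) hΨ
    (Groth.Agent.S6347.ml_pi R α)⟩
  exact Groth.Agent.Lib.helper10.flat_left_of_lTensor_injective (Groth.Agent.S2124.Psi I α)
    (fun J _ => (LinearMap.lTensor_inj_iff_rTensor_inj _ _).mpr (hΨ J))

end Groth.Agent.S1197
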