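import Groth.Statements.S1198
import Mathlib
import Groth.Agent.S1197
import Groth.Agent.Lib.helper3.AdicIso
-- import your own Groth.Agent.* helpers here

set_option autoImplicit false
universe u
open FlatMor

namespace Groth.Agent.S1198

section construction
open Groth.Agent.Lib.helper3

variable (R : Type u) [CommRing R] (I : Ideal R) (M : Type u) [AddCommGroup M] [Module R M]

/-- the canonical surjection from the free module on `M`. -/
noncomputable def P : (M →₀ R) →ₗ[R] M := Finsupp.linearCombination R id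

theorem P_surj : Function.Surjective (P R M) := Finsupp.linearCombination_id_surjective R M

omit I in
theorem flat_ker_of_surjective {R : Type u} [CommRing R] {D M : Type u} [AddCommGroup D] [Module R D]
    [AddCommGroup M] [Module R M] [Module.Flat R D] [Module.Flat R M] (f : D →ₗ[R] M)
    (hf : Function.Surjective f) : Module.Flat R (LinearMap.ker f) := by
  have h1 : ∀ (J : Ideal R), J.FG → Function.Injective ((LinearMap.ker f).subtype.lTensor J) := by
    intro J _
    exact Groth.Agent.Lib.helper10.lTensor_injective_of_flat_quotient (LinearMap.ker f).subtype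
      f (Submodule.injective_subtype _) (LinearMap.exact_subtype_ker_map _) hf J
  exact Groth.Agent.Lib.helper10.flat_left_of_lTensor_injective (LinearMap.ker f).subtype h1

omit I in
open TensorProduct in
theorem flat_prod {R : Type u} [CommRing R] {M K : Type u} [AddCommGroup M] [Module R M]
    [AddCommGroup K] [Module R K] [Module.Flat R M] [Module.Flat R K] : Module.Flat R (M × K) := by
  rw [Module.Flat.iff_rTensor_injective]
  intro J _
  rw [injective_iff_map_eq_zero]
  intro x hx
  have h1 : (LinearMap.fst R M K).lTensor J x = 0 := by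
    apply Module.Flat.rTensor_preserves_injective_linearMap (M := M) J.subtype J.injective_subtype
    rw [map_zero, ← LinearMap.comp_apply, LinearMap.rTensor_comp_lTensor,
      ← LinearMap.lTensor_comp_rTensor, LinearMap.comp_apply, hx, map_zero]
  have h2 : (LinearMap.snd R M K).lTensor J x = 0 := by
    apply Module.Flat.rTensor_preserves_injective_linearMap (M := K) J.subtype J.injective_subtype
    rw [map_zero, ← LinearMap.comp_apply, LinearMap.rTensor_comp_lTensor,
      ← LinearMap.lTensor_comp_rTensor, LinearMap.comp_apply, hx, map_zero]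
  have h3 : (LinearMap.inl R M K) ∘ₗ (LinearMap.fst R M K) +
      (LinearMap.inr R M K) ∘ₗ (LinearMap.snd R M K) = LinearMap.id := by
    ext p <;> simp
  have h4 := congrArg (fun g => LinearMap.lTensor J g x) h3
  simp only [LinearMap.lTensor_add, LinearMap.lTensor_comp, LinearMap.add_apply,
    LinearMap.comp_apply, h1, h2, map_zero, add_zero, LinearMap.lTensor_id,
    LinearMap.id_apply] at h4
  exact h4.symm

theorem flat_ker [Module.Flat R M] : Module.Flat R (LinearMap.ker (P R M)) :=
  flat_ker_of_surjective (P R M) (P_surj R M)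

theorem exists_phi [Module.Flat R M] [Module.Projective (R ⧸ I) (M ⧸ (I • ⊤ : Submodule R M))] :
    ∃ φ : (M →₀ R) →ₗ[R] M × LinearMap.ker (P R M),
      (∀ y, ∃ x, y - φ x ∈ (I • ⊤ : Submodule R (M × LinearMap.ker (P R M)))) ∧
      (∀ x, φ x ∈ (I • ⊤ : Submodule R (M × LinearMap.ker (P R M))) →
        x ∈ (I • ⊤ : Submodule R (M →₀ R))) := by
  classical
  let IF : Submodule R (M →₀ R) := I • ⊤
  let IM : Submodule R M := I • ⊤
  have hle : IF ≤ IM.comap (P R M) := Submodule.smul_top_le_comap_smul_top I (P R M)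
  let Pbar₀ : ((M →₀ R) ⧸ IF) →ₗ[R] (M ⧸ IM) := Submodule.mapQ IF IM (P R M) hle
  let Pbar : ((M →₀ R) ⧸ IF) →ₗ[R ⧸ I] (M ⧸ IM) :=
    Pbar₀.extendScalarsOfSurjective Ideal.Quotient.mk_surjective
  have hPbar : ∀ x : M →₀ R, Pbar (IF.mkQ x) = IM.mkQ (P R M x) := fun x => rfl
  have hPbar_surj : Function.Surjective Pbar := by
    intro z
    obtain ⟨m, rfl⟩ := IM.mkQ_surjective z
    obtain ⟨x, rfl⟩ := P_surj R M m
    exact ⟨IF.mkQ x, rfl⟩
  obtain ⟨sbar, hsbar⟩ := Module.projective_lifting_property Pbar LinearMap.id hPbar_surj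
  have hs1 : ∀ z, Pbar (sbar z) = z := fun z => LinearMap.congr_fun hsbar z
  let σ : (M →₀ R) →ₗ[R] ((M →₀ R) ⧸ IF) :=
    IF.mkQ - (sbar.restrictScalars R).comp (IM.mkQ.comp (P R M))
  have hσ : ∀ x, σ x = IF.mkQ x - sbar (IM.mkQ (P R M x)) := fun x => rfl
  -- lifting elements of the kernel of Pbar to the kernel of P
  have hlift : ∀ z : (M →₀ R) ⧸ IF, Pbar z = 0 → ∃ q : LinearMap.ker (P R M), IF.mkQ (q : M →₀ R) = z := by
    intro z hz
    obtain ⟨y, rfl⟩ := IF.mkQ_surjective z
    rw [hPbar, Submodule.mkQ_apply, Submodule.Quotient.mk_eq_zero] at hz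
    have hmap : Submodule.map (P R M) IF = IM := by
      rw [Submodule.map_smul'', Submodule.map_top, LinearMap.range_eq_top.mpr (P_surj R M)]
    rw [← hmap] at hz
    obtain ⟨w, hw, hwy⟩ := hz
    refine ⟨⟨y - w, by rw [LinearMap.mem_ker, map_sub, hwy, sub_self]⟩, ?_⟩
    rw [Submodule.mkQ_apply, Submodule.mkQ_apply, Submodule.Quotient.eq]
    have : y - w - y = -w := by abel
    rw [this]
    exact IF.neg_mem hw
  have hPσ : ∀ x, Pbar (σ x) = 0 := by
    intro x
    rw [hσ, map_sub, hs1, hPbar, sub_self]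
  choose ρ₀ hρ₀ using fun m : M => hlift (σ (Finsupp.single m 1)) (hPσ _)
  let ρ : (M →₀ R) →ₗ[R] LinearMap.ker (P R M) := Finsupp.linearCombination R ρ₀
  have hρ : ∀ x, IF.mkQ ((ρ x : LinearMap.ker (P R M)) : M →₀ R) = σ x := by
    intro x
    have : (IF.mkQ.comp ((LinearMap.ker (P R M)).subtype.comp ρ)) = σ := by
      apply Finsupp.lhom_ext'
      intro m
      apply LinearMap.ext_ring
      simp only [LinearMap.comp_apply, Finsupp.lsingle_apply, ρ,
        Finsupp.linearCombination_single, one_smul, Submodule.subtype_apply]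
      exact hρ₀ m
    exact LinearMap.congr_fun this x
  refine ⟨(P R M).prod ρ, ?_, ?_⟩
  · rintro ⟨m, q⟩
    obtain ⟨t, ht⟩ := IF.mkQ_surjective (sbar (IM.mkQ m))
    refine ⟨t + q, ?_⟩
    have hPq : P R M (q : M →₀ R) = 0 := q.2
    have h1 : IM.mkQ (P R M (t + q)) = IM.mkQ m := by
      rw [map_add, hPq, add_zero, ← hPbar, ht, hs1]
    have h2 : m - P R M (t + q) ∈ IM := by
      rw [← Submodule.Quotient.mk_eq_zero, Submodule.Quotient.mk_sub]
      rw [Submodule.mkQ_apply, Submodule.mkQ_apply] at h1
      rw [h1, sub_self]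
    have h3 : σ (t + q) = IF.mkQ (q : M →₀ R) := by
      rw [hσ, h1, map_add, ht]
      abel
    have h4 : ((q - ρ (t + q) : LinearMap.ker (P R M)) : M →₀ R) ∈ IF := by
      rw [← Submodule.Quotient.mk_eq_zero, Submodule.coe_sub, Submodule.Quotient.mk_sub]
      have := hρ (t + q)
      rw [h3, Submodule.mkQ_apply, Submodule.mkQ_apply] at this
      rw [this, sub_self]
    have h5 := AdicIso.mem_smul_top_ker_of_flat (P R M) (P_surj R M) I _ h4
    have h6 : ((m, q) : M × LinearMap.ker (P R M)) - ((P R M).prod ρ) (t + q) =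
        LinearMap.inl R M (LinearMap.ker (P R M)) (m - P R M (t + q)) +
        LinearMap.inr R M (LinearMap.ker (P R M)) (q - ρ (t + q)) := by
      ext <;> simp
    rw [h6]
    exact Submodule.add_mem _ (Submodule.smul_top_le_comap_smul_top I _ h2)
      (Submodule.smul_top_le_comap_smul_top I _ h5)
  · intro x hx
    have h1 : P R M x ∈ IM :=
      Submodule.smul_top_le_comap_smul_top I (LinearMap.fst R M (LinearMap.ker (P R M))) hx
    have h2 : ((ρ x : LinearMap.ker (P R M)) : M →₀ R) ∈ IF :=
      Submodule.smul_top_le_comap_smul_top I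
        ((LinearMap.ker (P R M)).subtype.comp (LinearMap.snd R M (LinearMap.ker (P R M)))) hx
    have h3 := hρ x
    rw [hσ] at h3
    have h4 : IM.mkQ (P R M x) = 0 := by
      rw [Submodule.mkQ_apply, Submodule.Quotient.mk_eq_zero]; exact h1
    have h5 : IF.mkQ ((ρ x : LinearMap.ker (P R M)) : M →₀ R) = 0 := by
      rw [Submodule.mkQ_apply, Submodule.Quotient.mk_eq_zero]; exact h2
    rw [h4, map_zero, sub_zero, h5] at h3
    rw [← Submodule.Quotient.mk_eq_zero]
    exact h3.symm

theorem exists_N [Module.Flat R M]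
    [Module.Projective (R ⧸ I) (M ⧸ (I • ⊤ : Submodule R M))] :
    ∃ (N : Type u) (_ : AddCommGroup N) (_ : Module R N) (_ : Module.Flat R N)
      (i : M →ₗ[R] N) (p : N →ₗ[R] M) (φ : (M →₀ R) →ₗ[R] N), p ∘ₗ i = LinearMap.id ∧
      (∀ y, ∃ x, y - φ x ∈ (I • ⊤ : Submodule R N)) ∧
      (∀ x, φ x ∈ (I • ⊤ : Submodule R N) → x ∈ (I • ⊤ : Submodule R (M →₀ R))) := by
  obtain ⟨φ, hs, hi⟩ := exists_phi R I M
  have hflatK : Module.Flat R (LinearMap.ker (P R M)) := flat_ker R M
  refine ⟨M × LinearMap.ker (P R M), inferInstance, inferInstance,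
    flat_prod (R := R) (M := M) (K := ↥(LinearMap.ker (P R M))),
    LinearMap.inl R M _, LinearMap.fst R M _, φ, ?_, ?_, ?_⟩
  · ext; simp
  · exact hs
  · exact hi

end construction

/-- Let R be a Noetherian ring complete with respect to an ideal I and M a flat R-module whose reduction
M/IM is projective over R/I. Then M's I-adic completion is a flat and Mittag-Leffler R-module. -/
theorem result (R : Type u) [CommRing R] [IsNoetherianRing R] (I : Ideal R) [IsAdicComplete I R]
    (M : Type u) [AddCommGroup M] [Module R M] [Module.Flat R M]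
    [Module.Projective (R ⧸ I) (M ⧸ (I • ⊤ : Submodule R M))] :
    Module.Flat R (AdicCompletion I M) ∧ CAlg.IsMittagLeffler R (AdicCompletion I M) := by
  obtain ⟨N, _, _, hflatN, i, p, φ, hpi, hs, hi⟩ := exists_N R I M
  have hbij := Groth.Agent.Lib.helper3.AdicIso.map_bijective I φ hs hi
  let e : AdicCompletion I (M →₀ R) ≃ₗ[R] AdicCompletion I N :=
    LinearEquiv.ofBijective ((AdicCompletion.map I φ).restrictScalars R) hbij
  let i₁ : AdicCompletion I M →ₗ[R] AdicCompletion I N :=
    (AdicCompletion.map I i).restrictScalars R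
  let p₁ : AdicCompletion I N →ₗ[R] AdicCompletion I M :=
    (AdicCompletion.map I p).restrictScalars R
  have hp : ∀ x, p₁ (i₁ x) = x := by
    intro x
    change AdicCompletion.map I p (AdicCompletion.map I i x) = x
    rw [AdicCompletion.map_comp_apply, hpi, AdicCompletion.map_id]
    rfl
  let ι : AdicCompletion I M →ₗ[R] AdicCompletion I (M →₀ R) := e.symm.toLinearMap ∘ₗ i₁
  let r : AdicCompletion I (M →₀ R) →ₗ[R] AdicCompletion I M := p₁ ∘ₗ e.toLinearMap
  have hr : r ∘ₗ ι = LinearMap.id := by
    apply LinearMap.ext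
    intro x
    simp only [r, ι, LinearMap.comp_apply, LinearEquiv.coe_coe, LinearEquiv.apply_symm_apply,
      LinearMap.id_apply]
    exact hp x
  have hι : CAlgX.UniversallyInjective R ι := by
    intro Q _ _
    have h1 : (r.rTensor Q) ∘ₗ (ι.rTensor Q) = LinearMap.id := by
      rw [← LinearMap.rTensor_comp, hr, LinearMap.rTensor_id]
    exact Function.LeftInverse.injective (g := r.rTensor Q) (fun x => LinearMap.congr_fun h1 x)
  obtain ⟨hF, hML⟩ := Groth.Agent.S1197.result R I M
  refine ⟨?_, Groth.Agent.S6338.result R ι hι hML⟩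
  exact Groth.Agent.Lib.helper10.flat_left_of_lTensor_injective ι
    (fun J _ => (LinearMap.lTensor_inj_iff_rTensor_inj _ _).mpr (hι J))

end Groth.Agent.S1198
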