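import Groth.Statements.S1199
import Mathlib
import Groth.Agent.S2056
-- import your own Groth.Agent.* helpers here

set_option autoImplicit false
universe u
open FlatMor

namespace Groth.Agent.S1199

section helpers
open TensorProduct
/-- elements of the kernel of `N ⊗ Q → N^ ⊗ Q` lie in all `I^n (N ⊗ Q)`. -/
theorem mem_pow_smul_of_ker {R : Type u} [CommRing R] (I : Ideal R)
    (N Q : Type u) [AddCommGroup N] [Module R N] [AddCommGroup Q] [Module R Q]
    (x : N ⊗[R] Q) (hx : (AdicCompletion.of I N).rTensor Q x = 0) (n : ℕ) :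
    x ∈ (I ^ n • ⊤ : Submodule R (N ⊗[R] Q)) := by
  let J : Submodule R N := I ^ n • ⊤
  have h1 : J.mkQ.rTensor Q x = 0 := by
    have : J.mkQ = (AdicCompletion.eval I N n).comp (AdicCompletion.of I N) := rfl
    rw [this, LinearMap.rTensor_comp, LinearMap.comp_apply, hx, map_zero]
  have hex : Function.Exact (J.subtype.rTensor Q) (J.mkQ.rTensor Q) :=
    rTensor_exact Q (LinearMap.exact_subtype_mkQ J) (Submodule.mkQ_surjective J)
  obtain ⟨y, rfl⟩ := (hex x).mp h1
  clear h1 hx
  induction y using TensorProduct.induction_on with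
  | zero => rw [map_zero]; exact Submodule.zero_mem _
  | tmul m q =>
    rw [LinearMap.rTensor_tmul, Submodule.subtype_apply]
    obtain ⟨m, hm⟩ := m
    change m ⊗ₜ[R] q ∈ _
    refine Submodule.smul_induction_on (p := fun m => m ⊗ₜ[R] q ∈ (I ^ n • ⊤ : Submodule R (N ⊗[R] Q)))
      hm ?_ ?_
    · intro a ha n₀ _
      rw [← TensorProduct.smul_tmul']
      exact Submodule.smul_mem_smul ha Submodule.mem_top
    · intro m₁ m₂ h₁ h₂
      rw [add_tmul]
      exact Submodule.add_mem _ h₁ h₂
  | add y₁ y₂ h₁ h₂ => rw [map_add]; exact Submodule.add_mem _ h₁ h₂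

theorem finite_tensor {R S : Type u} [CommRing R] [CommRing S] [Algebra R S]
    (N Q : Type u) [AddCommGroup N] [Module S N] [Module R N] [IsScalarTower R S N]
    [AddCommGroup Q] [Module R Q] [Module.Finite S N] [Module.Finite R Q] :
    Module.Finite S (N ⊗[R] Q) := by
  classical
  obtain ⟨s, hs⟩ := (inferInstance : Module.Finite S N).fg_top
  obtain ⟨t, ht⟩ := (inferInstance : Module.Finite R Q).fg_top
  refine ⟨⟨(s ×ˢ t).image (fun p => p.1 ⊗ₜ[R] p.2), ?_⟩⟩
  rw [eq_top_iff]
  intro x hx
  clear hx
  induction x using TensorProduct.induction_on with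
  | zero => exact Submodule.zero_mem _
  | add x y hx hy => exact Submodule.add_mem _ hx hy
  | tmul n q =>
    have hn : n ∈ Submodule.span S (s : Set N) := by rw [hs]; trivial
    have hq : q ∈ Submodule.span R (t : Set Q) := by rw [ht]; trivial
    induction hn using Submodule.span_induction with
    | mem n hn =>
      induction hq using Submodule.span_induction with
      | mem q hq =>
        apply Submodule.subset_span
        rw [Finset.coe_image]
        exact ⟨(n, q), Finset.mem_coe.mpr (Finset.mem_product.mpr ⟨hn, hq⟩), rfl⟩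
      | zero => rw [tmul_zero]; exact Submodule.zero_mem _
      | add q₁ q₂ _ _ h₁ h₂ => rw [tmul_add]; exact Submodule.add_mem _ h₁ h₂
      | smul r q _ h₁ =>
        rw [TensorProduct.tmul_smul, ← algebraMap_smul S r (n ⊗ₜ[R] q)]
        exact Submodule.smul_mem _ _ h₁
    | zero => rw [zero_tmul]; exact Submodule.zero_mem _
    | add n₁ n₂ _ _ h₁ h₂ => rw [add_tmul]; exact Submodule.add_mem _ h₁ h₂
    | smul a n _ h₁ =>
      rw [← TensorProduct.smul_tmul']
      exact Submodule.smul_mem _ _ h₁
end helpers

open TensorProduct in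
/-- Let R → S be a map of Noetherian rings, I an ideal of R and N a finite S-module. Assume that for
every finite R-module Q and every associated prime q of the S-module N ⊗_R Q the ideal IS + q is
proper. Then the canonical map from N to its I-adic completion is universally injective as a map of
R-modules. -/
theorem result {R S : Type u} [CommRing R] [CommRing S] [Algebra R S] [IsNoetherianRing R] [IsNoetherianRing S] (I : Ideal R)
    (N : Type u) [AddCommGroup N] [Module S N] [Module R N] [IsScalarTower R S N] [Module.Finite S N]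
    (h : ∀ (Q : Type u) [AddCommGroup Q] [Module R Q], Module.Finite R Q →
      ∀ q ∈ associatedPrimes S (N ⊗[R] Q), I.map (algebraMap R S) ⊔ q ≠ ⊤) :
    FlatCA.UnivInj R (AdicCompletion.of I N) := by
  have key : CAlgX.UniversallyInjective R (AdicCompletion.of I N) := by
    rw [Groth.Agent.S2056.result]
    intro Q _ _ hQ
    have hfin : Module.Finite R Q := inferInstance
    rw [injective_iff_map_eq_zero]
    intro x hx
    by_contra hne
    have hmem : x ∈ (⨅ i : ℕ, (I.map (algebraMap R S)) ^ i • ⊤ : Submodule S (N ⊗[R] Q)) := by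
      rw [Submodule.mem_iInf]
      intro n
      have hn := mem_pow_smul_of_ker I N Q x hx n
      have hle : (I ^ n • ⊤ : Submodule R (N ⊗[R] Q)) ≤
          ((I.map (algebraMap R S)) ^ n • ⊤ : Submodule S (N ⊗[R] Q)).restrictScalars R := by
        rw [Submodule.smul_le]
        intro a ha p _
        rw [Submodule.restrictScalars_mem, ← algebraMap_smul S a p]
        refine Submodule.smul_mem_smul ?_ Submodule.mem_top
        rw [← Ideal.map_pow]
        exact Ideal.mem_map_of_mem _ ha
      exact hle hn
    have hfinS : Module.Finite S (N ⊗[R] Q) := finite_tensor N Q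
    obtain ⟨r, hr⟩ := (Ideal.mem_iInf_smul_pow_eq_bot_iff (I.map (algebraMap R S)) x).mp hmem
    obtain ⟨q, hq, hle⟩ := exists_le_isAssociatedPrime_of_isNoetherianRing (R := S) x hne
    apply h Q hfin q hq
    rw [Ideal.eq_top_iff_one]
    have h1 : (1 - (r : S)) ∈ q := by
      apply hle
      rw [Submodule.mem_colon_singleton, Submodule.mem_bot, sub_smul, one_smul, hr, sub_self]
    have h2 : (1 : S) = r + (1 - r) := by ring
    rw [h2]
    exact Ideal.add_mem _ (Ideal.mem_sup_left r.2) (Ideal.mem_sup_right h1)
  intro Q _ _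
  exact (LinearMap.lTensor_inj_iff_rTensor_inj _ _).mpr (key Q)

end Groth.Agent.S1199
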