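import Groth.Statements.S12056
import Mathlib

set_option autoImplicit false
open Red

namespace Groth.Agent.S12056
open PowerSeries

section helpers



noncomputable def ee (j k : ℕ) : Fin 2 →₀ ℕ := Finsupp.single 0 j + Finsupp.single 1 k

@[simp] theorem ee_zero (j k : ℕ) : ee j k 0 = j := by simp [ee]
@[simp] theorem ee_one (j k : ℕ) : ee j k 1 = k := by simp [ee]

theorem ee_le (a b j k : ℕ) : ee a b ≤ ee j k ↔ a ≤ j ∧ b ≤ k := by
  rw [Finsupp.le_def, Fin.forall_fin_two]
  simp

theorem ee_sub (a b j k : ℕ) : ee j k - ee a b = ee (j - a) (k - b) := by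
  ext s
  fin_cases s <;> simp

theorem ee_inj {a b j k : ℕ} (h : ee a b = ee j k) : a = j ∧ b = k := by
  constructor
  · simpa using DFunLike.congr_fun h 0
  · simpa using DFunLike.congr_fun h 1

theorem eq_ee (e : Fin 2 →₀ ℕ) : e = ee (e 0) (e 1) := by
  ext s
  fin_cases s <;> simp

variable {R : Type} [CommRing R]

theorem coeffG (P : PowerSeries R) (j k : ℕ) :
    MvPowerSeries.coeff (ee j k) (PowerSeries.subst (MvPowerSeries.X (0 : Fin 2)) P :
      MvPowerSeries (Fin 2) R) = if k = 0 then coeff j P else 0 := by
  rw [coeff_subst_single]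
  simp only [ee_zero]
  have : (ee j k = Finsupp.single 0 j) ↔ k = 0 := by
    constructor
    · intro h
      have := DFunLike.congr_fun h 1
      simpa using this
    · rintro rfl
      simp [ee]
  simp only [this]

theorem coeffH (P : PowerSeries R) (j k : ℕ) :
    MvPowerSeries.coeff (ee j k) (PowerSeries.subst (MvPowerSeries.X (1 : Fin 2)) P :
      MvPowerSeries (Fin 2) R) = if j = 0 then coeff k P else 0 := by
  rw [coeff_subst_single]
  simp only [ee_one]
  have : (ee j k = Finsupp.single 1 k) ↔ j = 0 := by
    constructor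
    · intro h
      have := DFunLike.congr_fun h 0
      simpa using this
    · rintro rfl
      simp [ee]
  simp only [this]

theorem coeffGH (P Q : PowerSeries R) (j k : ℕ) :
    MvPowerSeries.coeff (ee j k)
      ((PowerSeries.subst (MvPowerSeries.X (0 : Fin 2)) P : MvPowerSeries (Fin 2) R) *
        PowerSeries.subst (MvPowerSeries.X (1 : Fin 2)) Q) = coeff j P * coeff k Q := by
  classical
  rw [MvPowerSeries.coeff_mul]
  rw [Finset.sum_eq_single (ee j 0, ee 0 k)]
  · rw [coeffG, coeffH, if_pos rfl, if_pos rfl]
  · rintro ⟨p, q⟩ hpq hne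
    rw [Finset.HasAntidiagonal.mem_antidiagonal] at hpq
    simp only at hpq
    rw [eq_ee p, eq_ee q, coeffG, coeffH]
    by_cases h1 : p 1 = 0
    · by_cases h2 : q 0 = 0
      · exfalso
        apply hne
        have e0 := DFunLike.congr_fun hpq 0
        have e1 := DFunLike.congr_fun hpq 1
        simp only [Finsupp.add_apply, ee_zero, ee_one] at e0 e1
        rw [eq_ee p, eq_ee q, h1, h2]
        have : p 0 = j := by omega
        have : q 1 = k := by omega
        simp [*]
      · rw [if_neg h2, mul_zero]
    · rw [if_neg h1, zero_mul]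
  · intro h
    exfalso
    apply h
    rw [Finset.HasAntidiagonal.mem_antidiagonal]
    ext s
    fin_cases s <;> simp

theorem monom (a b : ℕ) :
    (MvPowerSeries.X (0 : Fin 2) : MvPowerSeries (Fin 2) R) ^ a * MvPowerSeries.X 1 ^ b =
      MvPowerSeries.monomial (ee a b) 1 := by
  rw [MvPowerSeries.X_pow_eq, MvPowerSeries.X_pow_eq, MvPowerSeries.monomial_mul_monomial, one_mul]
  rfl

/-- coefficients of powers of `X₀ + X₁ F(X₀)` -/
theorem coeffA (F : PowerSeries R) (d j k : ℕ) :
    MvPowerSeries.coeff (ee j k)
      ((MvPowerSeries.X (0 : Fin 2) + MvPowerSeries.X 1 *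
        PowerSeries.subst (MvPowerSeries.X (0 : Fin 2)) F : MvPowerSeries (Fin 2) R) ^ d) =
      if k ≤ d ∧ d ≤ j + k then (d.choose k : R) * coeff (j + k - d) (F ^ k) else 0 := by
  rw [add_pow, map_sum]
  have hterm : ∀ i ∈ Finset.range (d + 1),
      MvPowerSeries.coeff (ee j k)
        ((MvPowerSeries.X (0 : Fin 2) : MvPowerSeries (Fin 2) R) ^ i *
          (MvPowerSeries.X 1 * PowerSeries.subst (MvPowerSeries.X (0 : Fin 2)) F) ^ (d - i) *
            (d.choose i : MvPowerSeries (Fin 2) R)) =
        if i ≤ j ∧ d - i = k then (d.choose i : R) * coeff (j - i) (F ^ k) else 0 := by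
    intro i hi
    have e1 : (MvPowerSeries.X (0 : Fin 2) : MvPowerSeries (Fin 2) R) ^ i *
          (MvPowerSeries.X 1 * PowerSeries.subst (MvPowerSeries.X (0 : Fin 2)) F) ^ (d - i) *
            (d.choose i : MvPowerSeries (Fin 2) R) =
        MvPowerSeries.monomial (ee i (d - i)) (d.choose i : R) *
          PowerSeries.subst (MvPowerSeries.X (0 : Fin 2)) (F ^ (d - i)) := by
      rw [mul_pow, PowerSeries.subst_pow (HasSubst.X 0)]
      have : (MvPowerSeries.monomial (ee i (d - i)) (d.choose i : R) : MvPowerSeries (Fin 2) R) =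
          MvPowerSeries.monomial (ee i (d - i)) 1 * (d.choose i : MvPowerSeries (Fin 2) R) := by
        rw [← map_natCast (MvPowerSeries.C (σ := Fin 2) (R := R)), mul_comm,
          ← MvPowerSeries.smul_eq_C_mul, ← map_smul, smul_eq_mul, mul_one]
      rw [this, ← monom]
      ring
    rw [e1, MvPowerSeries.coeff_monomial_mul, ee_sub, coeffG]
    by_cases h1 : i ≤ j ∧ d - i ≤ k
    · rw [if_pos ((ee_le _ _ _ _).2 h1)]
      by_cases h2 : k - (d - i) = 0
      · have h3 : d - i = k := by omega
        rw [if_pos h2, if_pos ⟨h1.1, h3⟩, h3]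
      · rw [if_neg h2, mul_zero, if_neg]
        omega
    · rw [if_neg (fun h => h1 ((ee_le _ _ _ _).1 h)), if_neg]
      omega
  rw [Finset.sum_congr rfl hterm]
  by_cases hk : k ≤ d ∧ d ≤ j + k
  · rw [if_pos hk, Finset.sum_eq_single (d - k)]
    · have h1 : d - k ≤ j ∧ d - (d - k) = k := by omega
      have h3 : j - (d - k) = j + k - d := by omega
      rw [if_pos h1, Nat.choose_symm hk.1, h3]
    · intro i hi hne
      rw [Finset.mem_range] at hi
      rw [if_neg]
      omega
    · intro h
      exfalso
      apply h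
      rw [Finset.mem_range]
      omega
  · rw [if_neg hk]
    refine Finset.sum_eq_zero fun i hi => ?_
    rw [Finset.mem_range] at hi
    rw [if_neg]
    omega




end helpers

/-- In formal-power-series form, let R be a commutative ring and F ∈ R⟦X⟧ with constant term 1 whose
linear coefficient a is a unit of R. Suppose that in R⟦X₀, X₁⟧ one has F(X₀ + X₁ · F(X₀)) = F(X₀) ·
F(X₁) (the functional equation F(x + y F(x)) = F(x) F(y)). Then F = 1 + a X. (The published
statement concerns a morphism to the multiplicative group from an open neighbourhood of the zero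
section in the additive group over a base scheme, the identity holding on an open neighbourhood of
the origin of the plane on which all terms are defined, with a the derivative at 0; this row states
it for formal power series over a ring.) -/
theorem result (R : Type) [CommRing R] (F : PowerSeries R)
    (h0 : PowerSeries.constantCoeff F = 1) (ha : IsUnit (PowerSeries.coeff 1 F))
    (hFE : PowerSeries.subst
        (MvPowerSeries.X (0 : Fin 2) + MvPowerSeries.X 1 * PowerSeries.subst (MvPowerSeries.X (0 : Fin 2)) F :
          MvPowerSeries (Fin 2) R) F =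
      PowerSeries.subst (MvPowerSeries.X (0 : Fin 2)) F * PowerSeries.subst (MvPowerSeries.X (1 : Fin 2)) F) :
    F = 1 + PowerSeries.C (PowerSeries.coeff 1 F) * PowerSeries.X := by
  have hA : HasSubst (MvPowerSeries.X (0 : Fin 2) + MvPowerSeries.X 1 *
      PowerSeries.subst (MvPowerSeries.X (0 : Fin 2)) F : MvPowerSeries (Fin 2) R) := by
    apply HasSubst.of_constantCoeff_zero
    simp
  have master : ∀ j k : ℕ, ∑ d ∈ Finset.range (j + k + 1),
      (if k ≤ d ∧ d ≤ j + k then
        coeff d F * ((d.choose k : R) * coeff (j + k - d) (F ^ k)) else 0) =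
        coeff j F * coeff k F := by
    intro j k
    have h1 := congrArg (MvPowerSeries.coeff (ee j k)) hFE
    rw [coeffGH, PowerSeries.coeff_subst hA] at h1
    rw [← h1]
    rw [finsum_eq_sum_of_support_subset]
    · refine Finset.sum_congr rfl fun d _ => ?_
      rw [coeffA, smul_eq_mul]
      split_ifs <;> simp
    · intro d hd
      rw [Function.mem_support, coeffA] at hd
      by_contra hnot
      apply hd
      rw [if_neg, smul_zero]
      simp only [Finset.coe_range, Set.mem_Iio, not_lt] at hnot
      omega
  have hc0 : coeff 0 F = 1 := by rw [coeff_zero_eq_constantCoeff_apply, h0]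
  have hpow0 : ∀ k, coeff 0 (F ^ k) = 1 := by
    intro k
    rw [coeff_zero_eq_constantCoeff_apply, map_pow, h0, one_pow]
  -- E1 : n c_n = 0 for n ≥ 2
  have E1 : ∀ n : ℕ, 2 ≤ n → (n : R) * coeff n F = 0 := by
    intro n
    induction n using Nat.strong_induction_on with
    | _ n IH =>
      intro hn
      obtain ⟨i, rfl⟩ : ∃ i, n = i + 2 := ⟨n - 2, by omega⟩
      have h1 := master (i + 1) 1
      rw [Finset.sum_range_succ, Finset.sum_range_succ', Finset.sum_range_succ'] at h1
      have hmid : ∑ d ∈ Finset.range i,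
          (if 1 ≤ d + 1 + 1 ∧ d + 1 + 1 ≤ i + 1 + 1 then
            coeff (d + 1 + 1) F * (((d + 1 + 1).choose 1 : R) *
              coeff (i + 1 + 1 - (d + 1 + 1)) (F ^ 1)) else 0) = 0 := by
        refine Finset.sum_eq_zero fun d hd => ?_
        rw [Finset.mem_range] at hd
        have h2 := IH (d + 2) (by omega) (by omega)
        rw [if_pos ⟨by omega, by omega⟩, Nat.choose_one_right]
        rw [← mul_assoc, mul_comm (coeff (d + 1 + 1) F), h2, zero_mul]
      rw [hmid] at h1
      simp only [pow_one, Nat.choose_one_right, zero_add] at h1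
      rw [if_pos ⟨by omega, by omega⟩, if_neg (by omega), if_pos ⟨by omega, by omega⟩] at h1
      simp only [Nat.sub_self, hc0, mul_one, Nat.cast_one, one_mul, add_zero,
        Nat.add_sub_cancel] at h1
      linear_combination h1
  -- E2
  have E2 : ∀ k : ℕ, 2 ≤ k → coeff k F = 0 := by
    intro k hk
    have h1 := master 1 k
    rw [show 1 + k + 1 = k + 1 + 1 by ring, Finset.sum_range_succ, Finset.sum_range_succ] at h1
    have hlow : ∑ d ∈ Finset.range k,
        (if k ≤ d ∧ d ≤ 1 + k then
          coeff d F * ((d.choose k : R) * coeff (1 + k - d) (F ^ k)) else 0) = 0 := by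
      refine Finset.sum_eq_zero fun d hd => ?_
      rw [Finset.mem_range] at hd
      rw [if_neg (by omega)]
    rw [hlow, if_pos ⟨le_rfl, by omega⟩, if_pos ⟨by omega, by omega⟩] at h1
    have e1 : 1 + k - k = 1 := by omega
    have e2 : 1 + k - (k + 1) = 0 := by omega
    rw [e1, e2, hpow0, coeff_one_pow, h0, one_pow, Nat.choose_self, Nat.choose_succ_self_right]
      at h1
    have h4 := E1 k hk
    have h5 := E1 (k + 1) (by omega)
    have h6 : coeff 1 F * coeff k F = 0 := by
      push_cast at h1 h5
      linear_combination (-1 : R) * h1 + coeff 1 F * h4 + h5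
    obtain ⟨u, hu⟩ := ha
    rw [← hu] at h6
    exact (Units.mul_right_eq_zero u).1 h6
  ext n
  rw [map_add, coeff_one, PowerSeries.coeff_C_mul, PowerSeries.coeff_X]
  rcases n with _ | _ | n
  · simp [hc0]
  · simp
  · rw [E2 (n + 2) (by omega)]
    simp

end Groth.Agent.S12056
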