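import Groth.Statements.S12059
import Mathlib
import Groth.Agent.S13596
-- import your own Groth.Agent.* helpers here

set_option autoImplicit false
universe u
open CategoryTheory CategoryTheory.Limits AlgebraicGeometry
open SGA1

namespace Groth.Agent.S12059

open CategoryTheory CategoryTheory.Limits AlgebraicGeometry Opposite TopologicalSpace
open Groth.Agent.S13596

namespace H5S12059

section Basis

variable {X Y : Scheme.{u}} {G : Type u} [Group G] (ρ : G →* Aut X) (p : X ⟶ Y)
  (inv : ∀ g : G, (ρ g).hom ≫ p = p)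

lemma nat1 {U V : Y.Opens} (h : V ≤ U) (t : Γ(Y, U)) :
    (p.app V).hom ((Y.presheaf.map (homOfLE h).op).hom t) =
      (X.presheaf.map (homOfLE (p.preimage_mono h)).op).hom ((p.app U).hom t) := by
  have := p.naturality (homOfLE h).op
  exact congrArg (fun f => f.hom t) this

lemma σ_res {U V : Y.Opens} (h : V ≤ U) (g : G) (s : Γ(X, p ⁻¹ᵁ U)) :
    (H5S13596.σ ρ p inv V g).hom ((X.presheaf.map (homOfLE (p.preimage_mono h)).op).hom s) =
      (X.presheaf.map (homOfLE (p.preimage_mono h)).op).hom ((H5S13596.σ ρ p inv U g).hom s) := by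
  have e1 : X.presheaf.map (homOfLE (p.preimage_mono h)).op ≫ H5S13596.σ ρ p inv V g =
      H5S13596.σ ρ p inv U g ≫ X.presheaf.map (homOfLE (p.preimage_mono h)).op := by
    rw [H5S13596.σ, H5S13596.σ, Scheme.Hom.map_appLE, Scheme.Hom.appLE_map]
  exact congrArg (fun f => f.hom s) e1

lemma σ_app (U : Y.Opens) (g : G) (t : Γ(Y, U)) :
    (H5S13596.σ ρ p inv U g).hom ((p.app U).hom t) = (p.app U).hom t := by
  have e1 : p.app U ≫ H5S13596.σ ρ p inv U g = p.app U := by
    rw [H5S13596.σ, Scheme.Hom.app_eq_appLE, Scheme.Hom.appLE_comp_appLE,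
      H5S13596.appLE_congr' (inv g)]
  exact congrArg (fun f => f.hom t) e1

end Basis


lemma res_res {X : Scheme.{u}} {U V W : X.Opens} (h1 : V ≤ U) (h2 : W ≤ V) (s : Γ(X, U)) :
    (X.presheaf.map (homOfLE h2).op).hom ((X.presheaf.map (homOfLE h1).op).hom s) =
      (X.presheaf.map (homOfLE (h2.trans h1)).op).hom s := by
  change (X.presheaf.map _ ≫ X.presheaf.map _).hom s = _
  rw [← Functor.map_comp]
  rfl

/-- separatedness of the structure sheaf w.r.t. a basis. -/
lemma eq_of_basis {X : Scheme.{u}} (𝓑 : Set X.Opens) (h𝓑 : Opens.IsBasis 𝓑) (U : X.Opens)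
    (s t : Γ(X, U))
    (h : ∀ V ∈ 𝓑, ∀ hV : V ≤ U, (X.presheaf.map (homOfLE hV).op).hom s =
      (X.presheaf.map (homOfLE hV).op).hom t) : s = t := by
  refine X.sheaf.eq_of_locally_eq' (fun V : {V : X.Opens // V ∈ 𝓑 ∧ V ≤ U} => V.1) U
    (fun V => homOfLE V.2.2) ?_ s t (fun V => h V.1 V.2.1 V.2.2)
  intro x hx
  obtain ⟨V, hV, hxV, hVU⟩ := Opens.isBasis_iff_nbhd.mp h𝓑 hx
  exact Opens.mem_iSup.2 ⟨⟨V, hV, hVU⟩, hxV⟩

section Basis2

variable {X Y : Scheme.{u}} {G : Type u} [Group G] (ρ : G →* Aut X) (p : X ⟶ Y)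
  (inv : ∀ g : G, (ρ g).hom ≫ p = p)

theorem of_basis (𝓑 : Set Y.Opens) (h𝓑 : Opens.IsBasis 𝓑)
    (hinj : ∀ V ∈ 𝓑, Function.Injective (p.app V).hom)
    (hrange : ∀ V ∈ 𝓑, ∀ s : Γ(X, p ⁻¹ᵁ V), (∀ g, (H5S13596.σ ρ p inv V g).hom s = s) →
      s ∈ Set.range (p.app V).hom) :
    (∀ U : Y.Opens, Function.Injective (p.app U).hom) ∧
      ∀ (U : Y.Opens) (s : Γ(X, p ⁻¹ᵁ U)),
        s ∈ Set.range (p.app U).hom ↔ ∀ g, (H5S13596.σ ρ p inv U g).hom s = s := by
  have hI : ∀ U : Y.Opens, Function.Injective (p.app U).hom := by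
    intro U
    rw [injective_iff_map_eq_zero]
    intro s hs
    apply eq_of_basis 𝓑 h𝓑 U
    intro V hV hVU
    apply hinj V hV
    rw [nat1, hs]
    simp
  refine ⟨hI, fun U s => ⟨?_, fun hs => ?_⟩⟩
  · rintro ⟨t, rfl⟩ g
    exact σ_app ρ p inv U g t
  · -- local preimages
    have hloc : ∀ V : {V : Y.Opens // V ∈ 𝓑 ∧ V ≤ U}, ∃ t : Γ(Y, V.1),
        (p.app V.1).hom t = (X.presheaf.map (homOfLE (p.preimage_mono V.2.2)).op).hom s := by
      intro V
      apply hrange V.1 V.2.1
      intro g
      rw [σ_res ρ p inv V.2.2 g s, hs g]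
    choose t ht using hloc
    have hcover : U ≤ ⨆ V : {V : Y.Opens // V ∈ 𝓑 ∧ V ≤ U}, V.1 := by
      intro x hx
      obtain ⟨V, hV, hxV, hVU⟩ := Opens.isBasis_iff_nbhd.mp h𝓑 hx
      exact Opens.mem_iSup.2 ⟨⟨V, hV, hVU⟩, hxV⟩
    have hcompat : TopCat.Presheaf.IsCompatible Y.sheaf.1
        (fun V : {V : Y.Opens // V ∈ 𝓑 ∧ V ≤ U} => V.1) t := by
      intro V₁ V₂
      apply eq_of_basis 𝓑 h𝓑 (V₁.1 ⊓ V₂.1)
      intro W hW hWV
      apply hinj W hW
      have h1 : W ≤ V₁.1 := hWV.trans inf_le_left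
      have h2 : W ≤ V₂.1 := hWV.trans inf_le_right
      have e1 : (Y.presheaf.map (homOfLE hWV).op).hom
          ((Y.presheaf.map (Opens.infLELeft V₁.1 V₂.1).op).hom (t V₁)) =
          (Y.presheaf.map (homOfLE h1).op).hom (t V₁) := res_res _ _ _
      have e2 : (Y.presheaf.map (homOfLE hWV).op).hom
          ((Y.presheaf.map (Opens.infLERight V₁.1 V₂.1).op).hom (t V₂)) =
          (Y.presheaf.map (homOfLE h2).op).hom (t V₂) := res_res _ _ _
      refine (congrArg (p.app W).hom e1).trans (Eq.trans ?_ (congrArg (p.app W).hom e2).symm)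
      rw [nat1, nat1, ht, ht, res_res, res_res]
    obtain ⟨T, hT, -⟩ := Y.sheaf.existsUnique_gluing'
      (U := fun V : {V : Y.Opens // V ∈ 𝓑 ∧ V ≤ U} => V.1) U (fun V => homOfLE V.2.2) hcover t hcompat
    refine ⟨T, ?_⟩
    refine X.sheaf.eq_of_locally_eq' (fun V : {V : Y.Opens // V ∈ 𝓑 ∧ V ≤ U} => p ⁻¹ᵁ V.1) (p ⁻¹ᵁ U)
      (fun V => homOfLE (p.preimage_mono V.2.2)) ?_ _ _ ?_
    · intro x hx
      have := hcover hx
      rw [Opens.mem_iSup] at this ⊢
      exact this
    · intro V
      have h1 := nat1 p V.2.2 T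
      have h2 : (Y.presheaf.map (homOfLE V.2.2).op).hom T = t V := hT V
      rw [h2, ht] at h1
      exact h1.symm

end Basis2

section Alg

lemma alg_inj {A B A' B' : Type*} [CommRing A] [CommRing B] [CommRing A'] [CommRing B']
    [Algebra A A'] [Algebra B B'] (φ : B →+* A) (r : B)
    [IsLocalization.Away r B'] [IsLocalization.Away (φ r) A'] (φ' : B' →+* A')
    (hφ' : φ'.comp (algebraMap B B') = (algebraMap A A').comp φ)
    (hφ : Function.Injective φ) : Function.Injective φ' := by
  rw [injective_iff_map_eq_zero]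
  intro b' hb'
  obtain ⟨n, b, hb⟩ := IsLocalization.Away.surj r b'
  have hu : IsUnit (algebraMap B B' r) := IsLocalization.Away.algebraMap_isUnit r
  have h1 : algebraMap A A' (φ b) = 0 := by
    have := congrArg (fun f => f b) hφ'
    simp only [RingHom.comp_apply] at this
    rw [← this, ← hb, map_mul, hb', zero_mul]
  rw [IsLocalization.map_eq_zero_iff (Submonoid.powers (φ r))] at h1
  obtain ⟨⟨_, m, rfl⟩, hm⟩ := h1
  have h2 : r ^ m * b = 0 := by
    apply hφ
    rw [map_mul, map_pow, map_zero]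
    exact hm
  have h3 : algebraMap B B' b = 0 := by
    have := congrArg (algebraMap B B') h2
    rw [map_mul, map_pow, map_zero] at this
    exact (hu.pow m).mul_right_eq_zero.mp this
  rw [h3] at hb
  exact (hu.pow n).mul_left_eq_zero.mp hb

lemma alg_range {A B A' B' : Type*} [CommRing A] [CommRing B] [CommRing A'] [CommRing B']
    [Algebra A A'] [Algebra B B'] (φ : B →+* A) (r : B)
    [IsLocalization.Away r B'] [IsLocalization.Away (φ r) A'] (φ' : B' →+* A')
    (hφ' : φ'.comp (algebraMap B B') = (algebraMap A A').comp φ)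
    {G : Type*} [Finite G] (σ : G → A →+* A) (hσφ : ∀ g b, σ g (φ b) = φ b)
    (hinv : ∀ a, (∀ g, σ g a = a) → a ∈ Set.range φ) (τ : G → A' →+* A')
    (hτ : ∀ g, (τ g).comp (algebraMap A A') = (algebraMap A A').comp (σ g)) (s : A')
    (hs : ∀ g, τ g s = s) : s ∈ Set.range φ' := by
  cases nonempty_fintype G
  obtain ⟨n, a, ha⟩ := IsLocalization.Away.surj (φ r) s
  have hu : IsUnit (algebraMap A A' (φ r)) := IsLocalization.Away.algebraMap_isUnit (φ r)
  have hτ' : ∀ g x, τ g (algebraMap A A' x) = algebraMap A A' (σ g x) := fun g x =>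
    congrArg (fun f => f x) (hτ g)
  have h1 : ∀ g, ∃ m : ℕ, (φ r) ^ m * (σ g a - a) = 0 := by
    intro g
    have e1 : algebraMap A A' (σ g a - a) = 0 := by
      rw [map_sub, sub_eq_zero, ← hτ', ← ha, map_mul, map_pow, hτ', hσφ, hs]
    rw [IsLocalization.map_eq_zero_iff (Submonoid.powers (φ r))] at e1
    obtain ⟨⟨_, m, rfl⟩, hm⟩ := e1
    exact ⟨m, hm⟩
  choose m hm using h1
  let M := Finset.univ.sup m
  have h2 : ∀ g, σ g ((φ r) ^ M * a) = (φ r) ^ M * a := by
    intro g
    have hle : m g ≤ M := Finset.le_sup (Finset.mem_univ g)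
    have e : (φ r) ^ M * (σ g a - a) = 0 := by
      rw [← Nat.sub_add_cancel hle, pow_add, mul_assoc, hm, mul_zero]
    rw [map_mul, map_pow, hσφ]
    rw [mul_sub, sub_eq_zero] at e
    exact e
  obtain ⟨c, hc⟩ := hinv _ h2
  have huB : IsUnit (algebraMap B B' r) := IsLocalization.Away.algebraMap_isUnit r
  obtain ⟨v, hv⟩ := (huB.pow (n + M))
  refine ⟨algebraMap B B' c * ↑v⁻¹, ?_⟩
  have e1 : φ' (algebraMap B B' c * ↑v⁻¹) * algebraMap A A' (φ r) ^ (n + M) =
      s * algebraMap A A' (φ r) ^ (n + M) := by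
    have e2 : algebraMap A A' (φ r) ^ (n + M) = φ' (algebraMap B B' r ^ (n + M)) := by
      rw [map_pow]
      congr 1
      exact (congrArg (fun f => f r) hφ').symm
    rw [e2, ← map_mul, ← hv, mul_assoc, Units.inv_mul, mul_one]
    have e3 : φ' (algebraMap B B' c) = algebraMap A A' (φ c) := congrArg (fun f => f c) hφ'
    rw [e3, hc, map_mul, map_pow, hv, ← e2, pow_add, ← ha]
    ring
  exact (hu.pow (n + M)).mul_left_injective e1

end Alg

section AffineCase

variable {X Y : Scheme.{u}} {G : Type u} [Group G] [Finite G] (ρ : G →* Aut X) (p : X ⟶ Y)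

theorem affine_case [IsAffine X] [IsAffine Y] (inv : ∀ g : G, (ρ g).hom ≫ p = p)
    (haff : IsAffineHom p)
    (hinjT : Function.Injective p.appTop.hom)
    (hrangeT : ∀ a : Γ(X, ⊤), (∀ g : G, (ρ g).hom.appTop.hom a = a) → a ∈ Set.range p.appTop.hom) :
    SGA1.IsQuot ρ p := by
  have hσφ : ∀ (g : G) (b : Γ(Y, ⊤)), (ρ g).hom.appTop.hom (p.appTop.hom b) = p.appTop.hom b := by
    intro g b
    have e1 : p.appTop ≫ (ρ g).hom.appTop = p.appTop := by
      rw [← Scheme.Hom.comp_appTop, inv g]
    exact congrArg (fun f => f.hom b) e1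
  have key := of_basis ρ p inv (Set.range (Y.basicOpen : Γ(Y, ⊤) → Y.Opens)) (isBasis_basicOpen Y)
    (by
      rintro _ ⟨r, rfl⟩
      letI algA : Algebra Γ(X, ⊤) Γ(X, p ⁻¹ᵁ Y.basicOpen r) :=
        (X.presheaf.map (homOfLE le_top).op).hom.toAlgebra
      haveI : IsLocalization.Away (p.appTop.hom r) Γ(X, p ⁻¹ᵁ Y.basicOpen r) :=
        (isAffineOpen_top X).isLocalization_of_eq_basicOpen (p.appTop.hom r) (homOfLE le_top)
          (Scheme.preimage_basicOpen_top p r)
      refine alg_inj p.appTop.hom r (p.app (Y.basicOpen r)).hom ?_ hinjT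
      have e1 : Y.presheaf.map (homOfLE (Y.basicOpen_le r)).op ≫ p.app (Y.basicOpen r) =
          p.appTop ≫ X.presheaf.map (homOfLE le_top).op := p.naturality _
      exact congrArg (fun f => f.hom) e1)
    (by
      rintro _ ⟨r, rfl⟩ s hs
      letI algA : Algebra Γ(X, ⊤) Γ(X, p ⁻¹ᵁ Y.basicOpen r) :=
        (X.presheaf.map (homOfLE le_top).op).hom.toAlgebra
      haveI : IsLocalization.Away (p.appTop.hom r) Γ(X, p ⁻¹ᵁ Y.basicOpen r) :=
        (isAffineOpen_top X).isLocalization_of_eq_basicOpen (p.appTop.hom r) (homOfLE le_top)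
          (Scheme.preimage_basicOpen_top p r)
      refine alg_range p.appTop.hom r (p.app (Y.basicOpen r)).hom ?_
        (fun g => (ρ g).hom.appTop.hom) hσφ hrangeT
        (fun g => (H5S13596.σ ρ p inv (Y.basicOpen r) g).hom) ?_ s hs
      · have e1 : Y.presheaf.map (homOfLE (Y.basicOpen_le r)).op ≫ p.app (Y.basicOpen r) =
            p.appTop ≫ X.presheaf.map (homOfLE le_top).op := p.naturality _
        exact congrArg (fun f => f.hom) e1
      · intro g
        have e2 : X.presheaf.map (homOfLE le_top).op ≫ H5S13596.σ ρ p inv (Y.basicOpen r) g =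
            (ρ g).hom.appTop ≫ X.presheaf.map (homOfLE le_top).op := by
          rw [H5S13596.σ, Scheme.Hom.map_appLE]
          rfl
        exact congrArg (fun f => f.hom) e2)
  exact ⟨haff, inv, key.1, key.2⟩

end AffineCase

theorem main (G : Type u) [Group G] [Finite G] (A B : Type u) [CommRing A] [CommRing B]
    [Algebra B A] [MulSemiringAction G A] [SMulCommClass G B A] [Algebra.IsInvariant B A G] [FaithfulSMul B A]
    (ρ : G →* Aut (Spec (CommRingCat.of A)))
    (hρ : Set.range (fun g : G => (ρ g).hom) =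
      Set.range (fun g : G => Spec.map (CommRingCat.ofHom (MulSemiringAction.toRingHom G A g)))) :
    SGA1.IsQuot ρ (Spec.map (CommRingCat.ofHom (algebraMap B A))) := by
  set φ : CommRingCat.of B ⟶ CommRingCat.of A := CommRingCat.ofHom (algebraMap B A) with hφdef
  have hσφ : ∀ g : G, φ ≫ CommRingCat.ofHom (MulSemiringAction.toRingHom G A g) = φ := by
    intro g
    ext b
    exact smul_algebraMap g b
  have hinv : ∀ g : G, (ρ g).hom ≫ Spec.map φ = Spec.map φ := by
    intro g
    have hg : (ρ g).hom ∈ Set.range (fun g : G =>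
        Spec.map (CommRingCat.ofHom (MulSemiringAction.toRingHom G A g))) := by
      rw [← hρ]; exact ⟨g, rfl⟩
    obtain ⟨g', hg'⟩ := hg
    rw [← hg']
    change Spec.map _ ≫ Spec.map φ = _
    rw [← Spec.map_comp, hσφ]
  have hnat : (Spec.map φ).appTop = (Scheme.ΓSpecIso (CommRingCat.of B)).hom ≫ φ ≫
      (Scheme.ΓSpecIso (CommRingCat.of A)).inv := by
    rw [← Category.assoc, ← Scheme.ΓSpecIso_naturality, Category.assoc, Iso.hom_inv_id,
      Category.comp_id]
  refine affine_case ρ (Spec.map φ) hinv inferInstance ?_ ?_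
  · rw [hnat]
    intro x y hxy
    have h1 : Function.Injective (Scheme.ΓSpecIso (CommRingCat.of B)).hom.hom :=
      ((ConcreteCategory.isIso_iff_bijective (Scheme.ΓSpecIso (CommRingCat.of B)).hom).mp
        inferInstance).1
    have h2 : Function.Injective (Scheme.ΓSpecIso (CommRingCat.of A)).inv.hom :=
      ((ConcreteCategory.isIso_iff_bijective (Scheme.ΓSpecIso (CommRingCat.of A)).inv).mp
        inferInstance).1
    apply h1
    apply FaithfulSMul.algebraMap_injective B A
    apply h2
    exact hxy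
  · intro a ha
    let a₀ : A := (Scheme.ΓSpecIso (CommRingCat.of A)).hom.hom a
    have ha₀ : ∀ g : G, g • a₀ = a₀ := by
      intro g
      have hg : Spec.map (CommRingCat.ofHom (MulSemiringAction.toRingHom G A g)) ∈
          Set.range (fun g : G => (ρ g).hom) := by
        rw [hρ]; exact ⟨g, rfl⟩
      obtain ⟨g', hg'⟩ := hg
      have h1 := ha g'
      have hg'' : (ρ g').hom = Spec.map (CommRingCat.ofHom (MulSemiringAction.toRingHom G A g)) := hg'
      rw [hg''] at h1
      have h2 := Scheme.ΓSpecIso_naturality (CommRingCat.ofHom (MulSemiringAction.toRingHom G A g))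
      have h3 := congrArg (fun f => f.hom a) h2
      simp only [CommRingCat.hom_comp, RingHom.comp_apply] at h3
      rw [h1] at h3
      exact h3.symm
    obtain ⟨b, hb⟩ := Algebra.IsInvariant.isInvariant (A := B) (G := G) a₀ ha₀
    refine ⟨(Scheme.ΓSpecIso (CommRingCat.of B)).inv.hom b, ?_⟩
    rw [hnat]
    simp only [CommRingCat.hom_comp, RingHom.comp_apply]
    have e1 : (Scheme.ΓSpecIso (CommRingCat.of B)).hom.hom
        ((Scheme.ΓSpecIso (CommRingCat.of B)).inv.hom b) = b := by
      have := congrArg (fun f => f.hom b) (Scheme.ΓSpecIso (CommRingCat.of B)).inv_hom_id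
      exact this
    rw [e1]
    change (Scheme.ΓSpecIso (CommRingCat.of A)).inv.hom (algebraMap B A b) = a
    rw [hb]
    have := congrArg (fun f => f.hom a) (Scheme.ΓSpecIso (CommRingCat.of A)).hom_inv_id
    exact this

end H5S12059

/-- Let a finite group G act on a commutative ring A by ring automorphisms σ_g, and let B → A be
injective, G-equivariant for the trivial action on B, with image containing all G-invariants (so B
is the ring of invariants A^G). Let ρ be an action of G on Spec A by scheme automorphisms whose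
automorphisms are exactly the maps Spec(σ_g). Then Spec A ⟶ Spec B is a quotient of Spec A by G, and
the structure sheaf of Spec B is the sheaf of G-invariants of the direct image of the structure
sheaf of Spec A: the map is affine and G-invariant, and for every open U of Spec B the sections of
the structure sheaf of Spec B over U map injectively onto the G-invariant sections of the structure
sheaf of Spec A over the inverse image of U. -/
theorem result (G : Type u) [Group G] [Finite G] (A B : Type u) [CommRing A] [CommRing B]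
    [Algebra B A] [MulSemiringAction G A] [SMulCommClass G B A] [Algebra.IsInvariant B A G] [FaithfulSMul B A]
    (ρ : G →* Aut (Spec (CommRingCat.of A)))
    (hρ : Set.range (fun g : G => (ρ g).hom) =
      Set.range (fun g : G => Spec.map (CommRingCat.ofHom (MulSemiringAction.toRingHom G A g)))) :
    SGA1.IsQuot ρ (Spec.map (CommRingCat.ofHom (algebraMap B A))) := by
  exact H5S12059.main G A B ρ hρ

end Groth.Agent.S12059
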