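import Groth.Statements.S1206
import Mathlib
import Groth.Agent.S1207
-- import your own Groth.Agent.* helpers here

set_option autoImplicit false
universe u
open FlatMor

namespace Groth.Agent.S1206

/-- Let A be a local domain which is not a field and 𝒮 a set of finitely generated ideals of A, closed
under products, such that the union of the closed sets V(I), I ∈ 𝒮, is exactly the set of nonzero
primes (every nonzero prime contains a member of 𝒮 and no member is zero). Then the intersection of
all members of 𝒮 is zero. -/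
theorem result (A : Type u) [CommRing A] [IsDomain A] [IsLocalRing A] (hA : ¬ IsField A)
    (𝒮 : Set (Ideal A)) (hfg : ∀ I ∈ 𝒮, I.FG) (hmul : ∀ I ∈ 𝒮, ∀ J ∈ 𝒮, I * J ∈ 𝒮)
    (hne : ∀ I ∈ 𝒮, I ≠ ⊥) (hcov : ∀ (p : Ideal A), p.IsPrime → p ≠ ⊥ → ∃ I ∈ 𝒮, I ≤ p) :
    sInf 𝒮 = ⊥ := by
  rw [eq_bot_iff]
  intro x hx
  rw [Ideal.mem_bot]
  by_contra hx0
  have hxS : ∀ I ∈ 𝒮, x ∈ I := fun I hI => (Ideal.mem_sInf.mp hx) hI
  -- the maximal ideal is nonzero
  have hm : IsLocalRing.maximalIdeal A ≠ ⊥ := fun h => hA (IsLocalRing.isField_iff_maximalIdeal_eq.mpr h)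
  obtain ⟨I₀, hI₀, hI₀m⟩ := hcov _ (IsLocalRing.maximalIdeal.isMaximal A).isPrime hm
  have hxm : Ideal.span {x} ≤ IsLocalRing.maximalIdeal A := by
    rw [Ideal.span_singleton_le_iff_mem]
    exact hI₀m (hxS I₀ hI₀)
  obtain ⟨p₀, hp₀min, -⟩ := Ideal.exists_minimalPrimes_le hxm
  have hp₀ : p₀.IsPrime := hp₀min.1.1
  have hxp₀ : x ∈ p₀ := hp₀min.1.2 (Ideal.subset_span rfl)
  have hp₀ne : p₀ ≠ ⊥ := fun h => hx0 (by rw [h] at hxp₀; exact hxp₀)
  -- every nonzero prime contains x
  have hall : ∀ q : Ideal A, q.IsPrime → q ≠ ⊥ → x ∈ q := by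
    intro q hq hq0
    obtain ⟨I, hI, hIq⟩ := hcov q hq hq0
    exact hIq (hxS I hI)
  -- primes below p₀
  have hbelow : ∀ q : Ideal A, q.IsPrime → q ≤ p₀ → q = ⊥ ∨ q = p₀ := by
    intro q hq hqp
    by_cases hq0 : q = ⊥
    · exact Or.inl hq0
    · right
      have hxq : Ideal.span {x} ≤ q := by
        rw [Ideal.span_singleton_le_iff_mem]
        exact hall q hq hq0
      exact le_antisymm hqp (hp₀min.2 ⟨hq, hxq⟩ hqp)
  obtain ⟨I, hI, hIp₀⟩ := hcov p₀ hp₀ hp₀ne
  have hpow : ∀ n : ℕ, 1 ≤ n → I ^ n ∈ 𝒮 := by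
    intro n hn
    induction n, hn using Nat.le_induction with
    | base => simpa using hI
    | succ n hn ih => rw [pow_succ]; exact hmul _ ih _ hI
  -- localize at p₀
  let A' := Localization.AtPrime p₀
  have hinj : Function.Injective (algebraMap A A') :=
    IsLocalization.injective A' (Ideal.primeCompl_le_nonZeroDivisors p₀)
  have hJne : I.map (algebraMap A A') ≠ ⊤ := by
    intro h
    have h1 : I.map (algebraMap A A') ≤ IsLocalRing.maximalIdeal A' := by
      rw [← Localization.AtPrime.map_eq_maximalIdeal]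
      exact Ideal.map_mono hIp₀
    rw [h] at h1
    exact (IsLocalRing.maximalIdeal.isMaximal A').ne_top (top_le_iff.mp h1)
  have hres := Groth.Agent.S1207.result A' (Ideal.span {algebraMap A A' x})
    (I.map (algebraMap A A')) ((hfg I hI).map _) hJne
    (by
      intro n hn
      rw [Ideal.span_singleton_le_iff_mem, ← Ideal.map_pow]
      exact Ideal.mem_map_of_mem _ (hxS _ (hpow n hn)))
    ⊥
    (by
      intro h
      rw [le_bot_iff, Ideal.map_eq_bot_iff_of_injective hinj] at h
      exact hne I hI h)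
    (by
      intro p' hp' _ hJp'
      have hcomap : (p'.comap (algebraMap A A')).IsPrime := Ideal.comap_isPrime _ _
      have hle : p'.comap (algebraMap A A') ≤ p₀ := by
        have := (IsLocalization.AtPrime.orderIsoOfPrime A' p₀ ⟨p', hp'⟩).2.2
        exact this
      rcases hbelow _ hcomap hle with h0 | h0
      · have h0' : Ideal.under A p' = ⊥ := h0
        rw [← IsLocalization.map_under p₀.primeCompl A' p', h0', Ideal.map_bot]
      · exfalso
        apply hJp'
        have h0' : Ideal.under A p' = p₀ := h0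
        rw [← IsLocalization.map_under p₀.primeCompl A' p', h0']
        exact Ideal.map_mono hIp₀)
  rw [le_bot_iff, Ideal.span_singleton_eq_bot] at hres
  exact hx0 (hinj (by rw [hres, map_zero]))

end Groth.Agent.S1206
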