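import Groth.Statements.S12071
import Mathlib

set_option autoImplicit false
open RootD

namespace Groth.Agent.S12071

/-- Let G be the group generated by two elements x, y subject to x² = y² = 1 (the infinite dihedral
group; here Mathlib's DihedralGroup 0 with x = sr 0 and y = sr 1, so that x y = r 1). Then every
normal subgroup of G containing neither x nor y is generated by an element (x y)^n with n > 0; such
a subgroup is cyclic, generated by r n. (The published statement does not exclude the trivial
subgroup, for which no n > 0 works; this row assumes the subgroup nontrivial.) -/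
theorem result (N : Subgroup (DihedralGroup 0)) [N.Normal]
    (hN : N ≠ ⊥) (hx : DihedralGroup.sr (0 : ZMod 0) ∉ N) (hy : DihedralGroup.sr (1 : ZMod 0) ∉ N) :
    ∃ n : ℕ, 0 < n ∧ N = Subgroup.zpowers (DihedralGroup.r (n : ZMod 0)) := by
  -- no reflection lies in N
  have hsr : ∀ i : ℤ, DihedralGroup.sr (n := 0) i ∉ N := by
    intro i hi
    have hconj : ∀ j : ℤ, DihedralGroup.sr (n := 0) (i - 2 * j : ℤ) ∈ N := by
      intro j
      have h1 := Subgroup.Normal.conj_mem (inferInstance : N.Normal) _ hi (DihedralGroup.r (n := 0) j)
      have h2 : DihedralGroup.r (n := 0) j * DihedralGroup.sr (n := 0) i * (DihedralGroup.r (n := 0) j)⁻¹ =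
          DihedralGroup.sr (n := 0) (i - 2 * j : ℤ) := by
        rw [DihedralGroup.inv_r, DihedralGroup.r_mul_sr, DihedralGroup.sr_mul_r]
        congr 1
        show i - j + -j = i - 2 * j
        ring
      rw [h2] at h1
      exact h1
    rcases Int.even_or_odd' i with ⟨j, hj | hj⟩
    · apply hx
      have := hconj j
      rw [hj, sub_self] at this
      exact this
    · apply hy
      have := hconj j
      rw [hj] at this
      have h3 : (2 * j + 1 - 2 * j : ℤ) = 1 := by ring
      rw [h3] at this
      exact this
  -- the subgroup of ℤ of rotations in N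
  let H : AddSubgroup ℤ :=
    { carrier := {i : ℤ | DihedralGroup.r (n := 0) i ∈ N}
      zero_mem' := by
        show DihedralGroup.r (n := 0) (0 : ℤ) ∈ N
        have : DihedralGroup.r (n := 0) (0 : ℤ) = 1 := DihedralGroup.r_zero
        rw [this]
        exact N.one_mem
      add_mem' := by
        intro a b ha hb
        have := N.mul_mem ha hb
        rw [DihedralGroup.r_mul_r] at this
        exact this
      neg_mem' := by
        intro a ha
        have := N.inv_mem ha
        rw [DihedralGroup.inv_r] at this
        exact this }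
  have hH : ∀ i : ℤ, i ∈ H ↔ DihedralGroup.r (n := 0) i ∈ N := fun i => Iff.rfl
  obtain ⟨a, ha⟩ := Int.subgroup_cyclic H
  have hrot : ∀ i : ℤ, DihedralGroup.r (n := 0) i ∈ N → ∃ m : ℤ, m • a = i := by
    intro i hi
    have h1 : i ∈ H := hi
    rw [ha, AddSubgroup.mem_closure_singleton] at h1
    exact h1
  have ha0 : a ≠ 0 := by
    intro h0
    apply hN
    rw [Subgroup.eq_bot_iff_forall]
    intro g hg
    rcases g with i | i
    · obtain ⟨m, hm⟩ := hrot i hg
      have h2 : i = (0 : ℤ) := by rw [← hm, h0]; simp
      rw [h2]
      exact DihedralGroup.r_zero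
    · exact absurd hg (hsr i)
  refine ⟨a.natAbs, Int.natAbs_pos.2 ha0, ?_⟩
  have hcast : ((a.natAbs : ℕ) : ZMod 0) = ((a.natAbs : ℤ) : ℤ) := rfl
  ext g
  rw [Subgroup.mem_zpowers_iff]
  constructor
  · intro hg
    rcases g with i | i
    · obtain ⟨m, hm⟩ := hrot i hg
      rcases Int.natAbs_eq a with h | h
      · refine ⟨m, ?_⟩
        rw [DihedralGroup.r_zpow, hcast]
        congr 1
        show (a.natAbs : ℤ) * m = i
        rw [← h, ← hm, smul_eq_mul, mul_comm]
      · refine ⟨-m, ?_⟩
        rw [DihedralGroup.r_zpow, hcast]
        congr 1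
        show (a.natAbs : ℤ) * ((-m : ℤ) : ℤ) = i
        have : (a.natAbs : ℤ) = -a := by omega
        rw [this, ← hm, smul_eq_mul]
        simp
        ring
    · exact absurd hg (hsr i)
  · rintro ⟨m, rfl⟩
    apply N.zpow_mem
    rw [hcast]
    show (a.natAbs : ℤ) ∈ H
    rw [ha]
    rcases Int.natAbs_eq a with h | h
    · rw [← h]; exact AddSubgroup.subset_closure rfl
    · have : (a.natAbs : ℤ) = -a := by omega
      rw [this]
      exact (AddSubgroup.closure {a}).neg_mem (AddSubgroup.subset_closure rfl)

end Groth.Agent.S12071
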