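import Groth.Statements.S12077
import Mathlib

set_option autoImplicit false
universe u
open Polynomial
open CAlg

namespace Groth.Agent.S12077


section Aux
open Polynomial CategoryTheory

/-- index: monic polys of positive degree -/
abbrev Idx (R : Type u) [CommRing R] : Type u := {f : R[X] // f.Monic ∧ f.natDegree ≠ 0}

noncomputable def rel (R : Type u) [CommRing R] (f : Idx R) : MvPolynomial (Idx R) R :=
  Polynomial.eval₂ MvPolynomial.C (MvPolynomial.X f) f.1

abbrev Step (R : Type u) [CommRing R] : Type u :=
  MvPolynomial (Idx R) R ⧸ Ideal.span (Set.range (rel R))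

noncomputable def toStep (R : Type u) [CommRing R] : R →+* Step R :=
  (Ideal.Quotient.mk _).comp MvPolynomial.C

theorem toStep_root (R : Type u) [CommRing R] (f : Idx R) :
    Polynomial.eval₂ (toStep R)
      (Ideal.Quotient.mk (Ideal.span (Set.range (rel R))) (MvPolynomial.X f)) f.1 = 0 := by
  have h := Polynomial.hom_eval₂ f.1 (MvPolynomial.C (σ := Idx R) (R := R))
    (Ideal.Quotient.mk (Ideal.span (Set.range (rel R)))) (MvPolynomial.X f)
  unfold toStep
  rw [← h]
  exact Ideal.Quotient.eq_zero_iff_mem.2 (Ideal.subset_span ⟨f, rfl⟩)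

theorem exists_ext (R : Type u) [CommRing R] (s : Finset (Idx R)) :
    ∃ (R' : Type u) (_ : CommRing R') (φ : R →+* R'), Function.Injective φ ∧
      ∀ f ∈ s, ∃ r : R', Polynomial.eval₂ φ r f.1 = 0 := by
  classical
  induction s using Finset.induction_on with
  | empty => exact ⟨R, inferInstance, RingHom.id R, Function.injective_id, by simp⟩
  | insert f s hf ih =>
    obtain ⟨R', _, φ, hφ, hr⟩ := ih
    let g : R'[X] := f.1.map φ
    have hg : g.Monic := f.2.1.map φ
    refine ⟨AdjoinRoot g, inferInstance, (AdjoinRoot.of g).comp φ, ?_, ?_⟩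
    · have hinj : Function.Injective (AdjoinRoot.of g) := by
        rw [injective_iff_map_eq_zero]
        intro a ha
        rcases subsingleton_or_nontrivial R' with hs | hn
        · exact Subsingleton.elim _ _
        · by_contra hne
          have hdvd : g ∣ C a := by
            rw [← AdjoinRoot.mk_eq_zero]
            exact ha
          have hdeg : g.natDegree = f.1.natDegree := f.2.1.natDegree_map φ
          refine hg.not_dvd_of_natDegree_lt (by simpa using hne) ?_ hdvd
          rw [natDegree_C, hdeg]
          exact Nat.pos_of_ne_zero f.2.2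
      rw [RingHom.coe_comp]
      exact hinj.comp hφ
    · intro f' hf'
      rcases Finset.mem_insert.1 hf' with rfl | hf'
      · refine ⟨AdjoinRoot.root g, ?_⟩
        rw [← Polynomial.eval₂_map]
        exact AdjoinRoot.eval₂_root g
      · obtain ⟨r, hr⟩ := hr f' hf'
        refine ⟨AdjoinRoot.of g r, ?_⟩
        rw [← Polynomial.hom_eval₂, hr, map_zero]

theorem toStep_injective (R : Type u) [CommRing R] : Function.Injective (toStep R) := by
  classical
  rw [injective_iff_map_eq_zero]
  intro a ha
  have hmem : (MvPolynomial.C a : MvPolynomial (Idx R) R) ∈ Ideal.span (Set.range (rel R)) :=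
    Ideal.Quotient.eq_zero_iff_mem.1 ha
  rw [Ideal.span, Finsupp.mem_span_range_iff_exists_finsupp] at hmem
  obtain ⟨c, hc⟩ := hmem
  obtain ⟨R', _, φ, hφ, hr⟩ := exists_ext R c.support
  choose! r hr using hr
  let ev : MvPolynomial (Idx R) R →+* R' := MvPolynomial.eval₂Hom φ r
  have hev : ev.comp MvPolynomial.C = φ := by
    ext x; simp [ev]
  have h1 : ∀ f ∈ c.support, ev (rel R f) = 0 := by
    intro f hf
    unfold rel
    rw [Polynomial.hom_eval₂, hev]
    simpa [ev] using hr f hf
  have h2 : ev (MvPolynomial.C a) = 0 := by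
    rw [← hc, Finsupp.sum, map_sum]
    apply Finset.sum_eq_zero
    intro f hf
    rw [smul_eq_mul, map_mul, h1 f hf, mul_zero]
  have h3 : φ a = 0 := by
    rw [← hev]; exact h2
  exact hφ (by rw [h3, map_zero])

noncomputable def seq (A : Type u) [CommRing A] : ℕ → CommRingCat.{u}
  | 0 => CommRingCat.of A
  | n + 1 => CommRingCat.of (Step (seq A n))

noncomputable def seqMap (A : Type u) [CommRing A] (n : ℕ) : seq A n ⟶ seq A (n + 1) :=
  CommRingCat.ofHom (toStep (seq A n))

noncomputable def FF (A : Type u) [CommRing A] : ℕ ⥤ CommRingCat.{u} :=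
  Functor.ofSequence (seqMap A)

abbrev GG (A : Type u) [CommRing A] (n : ℕ) : Type u := (FF A).obj n

noncomputable def tr (A : Type u) [CommRing A] (i j : ℕ) (h : i ≤ j) : GG A i →+* GG A j :=
  ((FF A).map (homOfLE h)).hom

instance (A : Type u) [CommRing A] : DirectedSystem (GG A) (fun i j h => tr A i j h) where
  map_self i x := by
    have : (FF A).map (homOfLE (le_refl i)) = 𝟙 _ := by
      rw [show homOfLE (le_refl i) = 𝟙 i from Subsingleton.elim _ _, (FF A).map_id]
    simp [tr, this]
  map_map k j i hij hjk x := by
    have : (FF A).map (homOfLE (hij.trans hjk)) =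
        (FF A).map (homOfLE hij) ≫ (FF A).map (homOfLE hjk) := by
      rw [← (FF A).map_comp]; rfl
    simp [tr, this]

theorem tr_succ (A : Type u) [CommRing A] (n : ℕ) :
    tr A n (n + 1) (Nat.le_add_right n 1) = toStep (seq A n) := by
  unfold tr FF
  rw [Functor.ofSequence_map_homOfLE_succ]
  rfl

theorem tr_injective (A : Type u) [CommRing A] (i j : ℕ) (h : i ≤ j) :
    Function.Injective (tr A i j h) := by
  induction j, h using Nat.le_induction with
  | base =>
    intro x y hxy
    have h1 := DirectedSystem.map_self (f := fun i j h => tr A i j h) x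
    have h2 := DirectedSystem.map_self (f := fun i j h => tr A i j h) y
    rw [← h1, ← h2]; exact hxy
  | succ j hij ih =>
    intro x y hxy
    have h1 := DirectedSystem.map_map (f := fun i j h => tr A i j h) hij (Nat.le_add_right j 1) x
    have h2 := DirectedSystem.map_map (f := fun i j h => tr A i j h) hij (Nat.le_add_right j 1) y
    apply ih
    have hinj : Function.Injective (tr A j (j + 1) (Nat.le_add_right j 1)) := by
      rw [tr_succ]; exact toStep_injective _
    apply hinj
    rw [h1, h2]; exact hxy

abbrev BB (A : Type u) [CommRing A] : Type u :=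
  Ring.DirectLimit (GG A) (fun i j h => tr A i j h)

theorem exists_root (A : Type u) [CommRing A] (q : (BB A)[X]) (hq : q.Monic)
    (hd : q.natDegree ≠ 0) : ∃ b : BB A, q.IsRoot b := by
  obtain ⟨i, p, hp⟩ := Ring.DirectLimit.Polynomial.exists_of (f' := tr A) q
  have hl : q ∈ Polynomial.lifts (Ring.DirectLimit.of (GG A) (fun i j h => tr A i j h) i) :=
    (Polynomial.mem_lifts _).2 ⟨p, hp⟩
  obtain ⟨p', hp'map, hp'deg, hp'monic⟩ := Polynomial.lifts_and_natDegree_eq_and_monic hl hq
  let f : Idx (GG A i) := ⟨p', hp'monic, by rw [hp'deg]; exact hd⟩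
  let r : GG A (i + 1) :=
    (Ideal.Quotient.mk (Ideal.span (Set.range (rel (GG A i)))) (MvPolynomial.X f) :
      Step (GG A i))
  have hr : Polynomial.eval₂ (tr A i (i + 1) (Nat.le_add_right i 1)) r p' = 0 := by
    rw [tr_succ]
    exact toStep_root (GG A i) f
  refine ⟨Ring.DirectLimit.of (GG A) (fun i j h => tr A i j h) (i + 1) r, ?_⟩
  have hcomp : Ring.DirectLimit.of (GG A) (fun i j h => tr A i j h) i =
      (Ring.DirectLimit.of (GG A) (fun i j h => tr A i j h) (i + 1)).comp
        (tr A i (i + 1) (Nat.le_add_right i 1)) := by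
    ext x
    simp
  rw [Polynomial.IsRoot, ← hp'map, Polynomial.eval_map, hcomp, ← Polynomial.hom_eval₂, hr,
    map_zero]

theorem splits (B : Type u) [CommRing B]
    (h : ∀ q : B[X], q.Monic → q.natDegree ≠ 0 → ∃ b : B, q.IsRoot b) :
    ∀ (n : ℕ) (f : B[X]), f.Monic → f.natDegree = n →
      ∃ s : Multiset B, f = (s.map fun b => X - C b).prod := by
  intro n
  rcases subsingleton_or_nontrivial B with hs | hn
  · intro f hf hn
    exact ⟨0, Subsingleton.elim _ _⟩
  induction n with
  | zero =>
    intro f hf hn
    refine ⟨0, ?_⟩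
    simp [(Polynomial.Monic.natDegree_eq_zero hf).1 hn]
  | succ n ih =>
    intro f hf hn
    obtain ⟨b, hb⟩ := h f hf (by rw [hn]; exact Nat.succ_ne_zero n)
    have hmul : (X - C b) * (f /ₘ (X - C b)) = f := Polynomial.mul_divByMonic_eq_iff_isRoot.2 hb
    have hqm : (f /ₘ (X - C b)).Monic := by
      refine Polynomial.Monic.of_mul_monic_left (Polynomial.monic_X_sub_C b) ?_
      rw [hmul]; exact hf
    have hqd : (f /ₘ (X - C b)).natDegree = n := by
      have := Polynomial.natDegree_divByMonic f (Polynomial.monic_X_sub_C b)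
      rw [this, hn, Polynomial.natDegree_X_sub_C]; rfl
    obtain ⟨s, hs⟩ := ih _ hqm hqd
    refine ⟨b ::ₘ s, ?_⟩
    rw [Multiset.map_cons, Multiset.prod_cons, ← hs, hmul]

theorem main (A : Type u) [CommRing A] :
    ∃ (B : Type u) (_ : CommRing B) (_ : Algebra A B), Function.Injective (algebraMap A B) ∧
      ∀ f : B[X], f.Monic → ∃ s : Multiset B, f = (s.map fun b => X - C b).prod := by
  let ι : A →+* BB A := Ring.DirectLimit.of (GG A) (fun i j h => tr A i j h) 0
  refine ⟨BB A, inferInstance, ι.toAlgebra, ?_, ?_⟩
  · exact Ring.DirectLimit.of_injective (tr A) (tr_injective A) 0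
  · intro f hf
    exact splits (BB A) (exists_root A) _ f hf rfl

end Aux

/-- Every commutative ring `A` admits an injective ring map into an absolutely integrally closed
commutative ring `B`, that is, one over which every monic polynomial is a product of linear factors
`X - b`. (Only the existence of such an extension is stated, not the finer structure of the
construction.) -/
theorem result (A : Type u) [CommRing A] :
    ∃ (B : Type u) (_ : CommRing B) (_ : Algebra A B), Function.Injective (algebraMap A B) ∧
      ∀ f : B[X], f.Monic → ∃ s : Multiset B, f = (s.map fun b => X - C b).prod := by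
  exact main A

end Groth.Agent.S12077
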