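import Groth.Statements.S12078
import Mathlib

set_option autoImplicit false
universe u
open CAlg

namespace Groth.Agent.S12078

/-- An elementary divisor domain is Bézout. Here `R` is a domain such that for all `n, m ≥ 1` and every
`n × m` matrix `A` there are invertible matrices `U` (`n × n`) and `V` (`m × m`) with `U * A * V`
zero off the diagonal and with diagonal entries `f 0 ∣ f 1 ∣ f 2 ∣ …`; the conclusion is that every
finitely generated ideal of `R` is principal. -/
theorem result (R : Type u) [CommRing R] [IsDomain R]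
    (hR : ∀ n m : ℕ, 1 ≤ n → 1 ≤ m → ∀ A : Matrix (Fin n) (Fin m) R,
      ∃ (U : (Matrix (Fin n) (Fin n) R)ˣ) (V : (Matrix (Fin m) (Fin m) R)ˣ) (f : ℕ → R),
        (∀ k : ℕ, f k ∣ f (k + 1)) ∧
        ∀ (i : Fin n) (j : Fin m), ((U : Matrix (Fin n) (Fin n) R) * A * (V : Matrix (Fin m) (Fin m) R)) i j =
          if (i : ℕ) = (j : ℕ) then f i else 0) :
    IsBezout R := by
  rw [IsBezout.iff_span_pair_isPrincipal]
  intro x y
  obtain ⟨U, V, f, -, hf⟩ := hR 1 2 le_rfl (by norm_num) (Matrix.of ![![x, y]])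
  obtain ⟨Ui, hUi⟩ : ∃ Ui : Matrix (Fin 1) (Fin 1) R, Ui * (U : Matrix (Fin 1) (Fin 1) R) = 1 :=
    ⟨_, Units.inv_mul U⟩
  obtain ⟨W, hW⟩ : ∃ W : Matrix (Fin 2) (Fin 2) R, (V : Matrix (Fin 2) (Fin 2) R) * W = 1 :=
    ⟨_, Units.mul_inv V⟩
  generalize (U : Matrix (Fin 1) (Fin 1) R) = U' at *
  generalize (V : Matrix (Fin 2) (Fin 2) R) = V' at *
  set A : Matrix (Fin 1) (Fin 2) R := Matrix.of ![![x, y]] with hA
  set B : Matrix (Fin 1) (Fin 2) R := U' * A * V' with hB
  have hB0 : B 0 0 = f 0 := by have := hf 0 0; simpa using this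
  have hB1 : B 0 1 = 0 := by have := hf 0 1; simpa using this
  have hUinv : Ui 0 0 * U' 0 0 = 1 := by
    have := congrFun (congrFun hUi 0) 0
    simpa [Matrix.mul_apply] using this
  have hAeq : A = Ui * B * W := by
    rw [hB]
    simp only [Matrix.mul_assoc]
    rw [hW, Matrix.mul_one, ← Matrix.mul_assoc, hUi, Matrix.one_mul]
  set d : R := Ui 0 0 * f 0 with hd
  have hx : x = d * W 0 0 := by
    have := congrFun (congrFun hAeq 0) 0
    simp only [Matrix.mul_apply, Fin.sum_univ_two, Finset.univ_unique, Fin.default_eq_zero,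
      Finset.sum_singleton, hB0, hB1, mul_zero, zero_mul, add_zero] at this
    rw [hd]
    simpa [hA] using this
  have hy : y = d * W 0 1 := by
    have := congrFun (congrFun hAeq 0) 1
    simp only [Matrix.mul_apply, Fin.sum_univ_two, Finset.univ_unique, Fin.default_eq_zero,
      Finset.sum_singleton, hB0, hB1, mul_zero, zero_mul, add_zero] at this
    rw [hd]
    simpa [hA] using this
  have hdmem : d = x * V' 0 0 + y * V' 1 0 := by
    have h1 : f 0 = U' 0 0 * (x * V' 0 0 + y * V' 1 0) := by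
      rw [← hB0, hB]
      simp [Matrix.mul_apply, Fin.sum_univ_two, hA]
      ring
    rw [hd, h1, ← mul_assoc, hUinv, one_mul]
  refine ⟨⟨d, ?_⟩⟩
  apply le_antisymm
  · rw [Ideal.span_le]
    intro z hz
    simp only [Set.mem_insert_iff, Set.mem_singleton_iff] at hz
    rcases hz with rfl | rfl
    · rw [hx]; exact Ideal.mul_mem_right _ _ (Ideal.subset_span rfl)
    · rw [hy]; exact Ideal.mul_mem_right _ _ (Ideal.subset_span rfl)
  · rw [Ideal.submodule_span_eq, Ideal.span_le]
    intro z hz
    rw [Set.mem_singleton_iff] at hz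
    subst hz
    rw [hdmem]
    refine Ideal.add_mem _ (Ideal.mul_mem_right _ _ (Ideal.subset_span (by simp)))
      (Ideal.mul_mem_right _ _ (Ideal.subset_span (by simp)))

end Groth.Agent.S12078
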