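import Groth.Statements.S12079
import Mathlib

set_option autoImplicit false
universe u
open TensorProduct
open CAlg

namespace Groth.Agent.S12079

/-- For a finitely presented `R`-module `M`, any `R`-module `N` and a flat `R`-module `L`, the canonical
map `Hom_R(M, N) ⊗_R L → Hom_R(M, N ⊗_R L)` sending `f ⊗ l` to `m ↦ f m ⊗ l` is bijective. -/
theorem result (R : Type u) [CommRing R]
    (M N L : Type u) [AddCommGroup M] [Module R M] [AddCommGroup N] [Module R N] [AddCommGroup L] [Module R L]
    [Module.FinitePresentation R M] [Module.Flat R L] :
    Function.Bijective (TensorProduct.rTensorHomToHomRTensor (RingHom.id R) M N L) := by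
  obtain ⟨n, m, f, g, hf, hfg⟩ := Module.FinitePresentation.exists_fin' R M
  -- the rows
  have hi : Function.Injective (LinearMap.lcomp R N f) := LinearMap.lcomp_injective_of_surjective f hf
  have hij : Function.Exact (LinearMap.lcomp R N f) (LinearMap.lcomp R N g) :=
    LinearMap.exact_lcomp_of_exact_of_surjective _ hfg hf
  have hi' : Function.Injective (LinearMap.lcomp R (TensorProduct R N L) f) :=
    LinearMap.lcomp_injective_of_surjective f hf
  have hij' : Function.Exact (LinearMap.lcomp R (TensorProduct R N L) f)
      (LinearMap.lcomp R (TensorProduct R N L) g) :=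
    LinearMap.exact_lcomp_of_exact_of_surjective _ hfg hf
  have hiL : Function.Injective ((LinearMap.lcomp R N f).rTensor L) :=
    Module.Flat.rTensor_preserves_injective_linearMap _ hi
  have hijL : Function.Exact ((LinearMap.lcomp R N f).rTensor L) ((LinearMap.lcomp R N g).rTensor L) :=
    Module.Flat.rTensor_exact L hij
  -- the vertical maps
  have hβ : Function.Bijective (TensorProduct.rTensorHomToHomRTensor (RingHom.id R) (Fin n → R) N L) := by
    rw [← rTensorHomEquivHomRTensor_toLinearMap]
    exact (rTensorHomEquivHomRTensor R (Fin n → R) N L).bijective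
  have hγ : Function.Bijective (TensorProduct.rTensorHomToHomRTensor (RingHom.id R) (Fin m → R) N L) := by
    rw [← rTensorHomEquivHomRTensor_toLinearMap]
    exact (rTensorHomEquivHomRTensor R (Fin m → R) N L).bijective
  -- commutativity
  have comm1 : ∀ x, TensorProduct.rTensorHomToHomRTensor (RingHom.id R) (Fin n → R) N L
      ((LinearMap.lcomp R N f).rTensor L x) =
      LinearMap.lcomp R (TensorProduct R N L) f (TensorProduct.rTensorHomToHomRTensor (RingHom.id R) M N L x) := by
    intro x
    induction x using TensorProduct.induction_on with
    | zero => simp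
    | tmul φ l =>
      apply LinearMap.ext
      intro y
      simp [TensorProduct.rTensorHomToHomRTensor_apply]
    | add x y hx hy => simp only [map_add, hx, hy]
  have comm2 : ∀ x, TensorProduct.rTensorHomToHomRTensor (RingHom.id R) (Fin m → R) N L
      ((LinearMap.lcomp R N g).rTensor L x) =
      LinearMap.lcomp R (TensorProduct R N L) g
        (TensorProduct.rTensorHomToHomRTensor (RingHom.id R) (Fin n → R) N L x) := by
    intro x
    induction x using TensorProduct.induction_on with
    | zero => simp
    | tmul φ l =>
      apply LinearMap.ext
      intro y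
      simp [TensorProduct.rTensorHomToHomRTensor_apply]
    | add x y hx hy => simp only [map_add, hx, hy]
  constructor
  · -- injective
    intro x y hxy
    apply hiL
    apply hβ.1
    rw [comm1, comm1, hxy]
  · -- surjective
    intro a'
    obtain ⟨b, hb⟩ := hβ.2 (LinearMap.lcomp R (TensorProduct R N L) f a')
    have h1 : (LinearMap.lcomp R N g).rTensor L b = 0 := by
      apply hγ.1
      rw [comm2, hb, map_zero]
      exact hij'.apply_apply_eq_zero a'
    obtain ⟨a, ha⟩ := (hijL b).1 h1
    refine ⟨a, ?_⟩
    apply hi'
    rw [← comm1, ha, hb]

end Groth.Agent.S12079
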