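import Groth.Statements.S12080
import Mathlib

set_option autoImplicit false
universe u
open TensorProduct
open CAlg

namespace Groth.Agent.S12080

open TensorProduct

theorem rank_one_swap {A : Type*} [CommRing A] {N : Type*} [AddCommGroup N] [Module A N]
    (e : N ≃ₗ[A] A) (ψ : N →ₗ[A] A) (x y : N) : ψ x • y = ψ y • x := by
  have hx : x = e x • e.symm 1 := by
    rw [← map_smul, smul_eq_mul, mul_one, e.symm_apply_apply]
  have hy : y = e y • e.symm 1 := by
    rw [← map_smul, smul_eq_mul, mul_one, e.symm_apply_apply]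
  rw [hx, hy]
  simp only [map_smul, smul_eq_mul, smul_smul]
  congr 1
  ring

theorem swap_of_locally_free (R : Type u) [CommRing R] (M : Type u) [AddCommGroup M]
    [Module R M] (s : Set R) (hs : Ideal.span s = ⊤)
    (hfree : ∀ f ∈ s, Nonempty (LocalizedModule.Away f M ≃ₗ[Localization.Away f] Localization.Away f))
    (ψ : Module.Dual R M) (m n : M) : ψ m • n = ψ n • m := by
  refine Module.eq_of_isLocalized_span s hs (fun r => LocalizedModule.Away r.1 M)
    (fun r => LocalizedModule.mkLinearMap (Submonoid.powers r.1) M) _ _ fun r => ?_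
  obtain ⟨e⟩ := hfree r.1 r.2
  let ψ' : LocalizedModule.Away r.1 M →ₗ[Localization.Away r.1] Localization.Away r.1 :=
    .extendScalarsOfIsLocalization (.powers r.1) _ <| IsLocalizedModule.map
      (.powers r.1) (LocalizedModule.mkLinearMap _ M) (Algebra.linearMap R _) ψ
  have hψ' : ∀ x : M, ψ' (LocalizedModule.mkLinearMap (Submonoid.powers r.1) M x)
      = algebraMap R _ (ψ x) := by
    intro x
    exact IsLocalizedModule.map_apply ..
  have := rank_one_swap e ψ' (LocalizedModule.mkLinearMap (Submonoid.powers r.1) M m)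
    (LocalizedModule.mkLinearMap (Submonoid.powers r.1) M n)
  rw [hψ', hψ', algebraMap_smul, algebraMap_smul] at this
  rw [map_smul, map_smul]
  exact this

theorem one_mem_range (R : Type u) [CommRing R] (M : Type u) [AddCommGroup M]
    [Module R M] (s : Set R) (hs : Ideal.span s = ⊤)
    (hfree : ∀ f ∈ s, Nonempty (LocalizedModule.Away f M ≃ₗ[Localization.Away f] Localization.Away f)) :
    (1 : R) ∈ LinearMap.range (contractLeft R M) := by
  have hfp : Module.FinitePresentation R M := by
    refine Module.FinitePresentation.of_localizationSpan s hs fun g => ?_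
    obtain ⟨e⟩ := hfree g.1 g.2
    exact Module.FinitePresentation.of_equiv e.symm
  let T : Ideal R := LinearMap.range (contractLeft R M)
  change (1 : R) ∈ T
  rw [← Ideal.eq_top_iff_one, ← Ideal.radical_eq_top, eq_top_iff, ← hs, Ideal.span_le]
  intro r hr
  obtain ⟨e⟩ := hfree r hr
  let S := Submonoid.powers r
  let g0 : M →ₗ[R] Localization.Away r :=
    (e.restrictScalars R).toLinearMap ∘ₗ LocalizedModule.mkLinearMap S M
  obtain ⟨h, t, ht⟩ := Module.FinitePresentation.exists_lift_of_isLocalizedModule S
    (Algebra.linearMap R (Localization.Away r)) g0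
  obtain ⟨⟨m, u⟩, hmu⟩ := IsLocalizedModule.surj S (LocalizedModule.mkLinearMap S M) (e.symm 1)
  have h1 : algebraMap R (Localization.Away r) (h m) = algebraMap R (Localization.Away r) (t * u) := by
    have := LinearMap.congr_fun ht m
    simp only [LinearMap.coe_comp, Function.comp_apply, Algebra.linearMap_apply,
      LinearMap.smul_apply, g0, LinearEquiv.coe_coe, LinearEquiv.restrictScalars_apply] at this
    rw [this, ← hmu]
    change (t : R) • e ((u : R) • e.symm 1) = _
    rw [← algebraMap_smul (Localization.Away r) (u : R), map_smul, e.apply_symm_apply,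
      smul_eq_mul, mul_one, Algebra.smul_def, map_mul]
  obtain ⟨v, hv⟩ := (IsLocalization.eq_iff_exists S _).mp h1
  have hmem : (v : R) * (t * u) ∈ T := by
    refine ⟨h ⊗ₜ[R] ((v : R) • m), ?_⟩
    simp only [contractLeft_apply, map_smul, smul_eq_mul, hv]
  obtain ⟨N, hN⟩ : (v : R) * (t * u) ∈ Submonoid.powers r := (v * (t * u)).2
  exact ⟨N, by rw [show r ^ N = (v : R) * (t * u) from hN]; exact hmem⟩

/-- (1) ⇒ (2): let `M` be a finite locally free `R`-module of rank `1`, i.e. there is a set `s ⊆ R`
generating the unit ideal with `M_f ≅ R_f` as `R_f`-modules for every `f ∈ s`. Then the evaluation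
map `Hom_R(M, R) ⊗_R M → R` is bijective, so `M` is invertible with inverse its dual. -/
theorem result (R : Type u) [CommRing R] (M : Type u) [AddCommGroup M]
    [Module R M] (s : Set R) (hs : Ideal.span s = ⊤)
    (hfree : ∀ f ∈ s, Nonempty (LocalizedModule.Away f M ≃ₗ[Localization.Away f] Localization.Away f)) :
    Module.Invertible R M := by
  have hA := swap_of_locally_free R M s hs hfree
  obtain ⟨z, hz⟩ := one_mem_range R M s hs hfree
  refine ⟨?_⟩
  have hB : ∀ (φ ψ : Module.Dual R M) (m : M), ψ m • φ = φ m • ψ := by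
    intro φ ψ m
    ext n
    have := congrArg φ (hA ψ m n)
    simp only [map_smul, smul_eq_mul] at this
    simp only [LinearMap.smul_apply, smul_eq_mul]
    rw [this, mul_comm]
  have hgen : ∀ (z : Module.Dual R M ⊗[R] M) (ψ : Module.Dual R M) (n : M),
      ψ n • z = contractLeft R M z • (ψ ⊗ₜ[R] n) := by
    intro z ψ n
    induction z using TensorProduct.induction_on with
    | zero => simp
    | tmul φ m =>
      rw [contractLeft_apply]
      calc ψ n • (φ ⊗ₜ[R] m) = φ ⊗ₜ[R] (ψ n • m) := (TensorProduct.tmul_smul _ _ _).symm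
        _ = φ ⊗ₜ[R] (ψ m • n) := by rw [hA ψ n m]
        _ = (ψ m • φ) ⊗ₜ[R] n := (TensorProduct.smul_tmul _ _ _).symm
        _ = (φ m • ψ) ⊗ₜ[R] n := by rw [hB φ ψ m]
        _ = φ m • (ψ ⊗ₜ[R] n) := (TensorProduct.smul_tmul' _ _ _).symm
    | add a b ha hb => rw [smul_add, ha, hb, map_add, add_smul]
  have hleft : ∀ x : Module.Dual R M ⊗[R] M, contractLeft R M x • z = x := by
    intro x
    induction x using TensorProduct.induction_on with
    | zero => simp
    | tmul ψ n => rw [contractLeft_apply, hgen, hz, one_smul]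
    | add a b ha hb => rw [map_add, add_smul, ha, hb]
  constructor
  · intro x y hxy
    rw [← hleft x, ← hleft y, hxy]
  · intro r
    exact ⟨r • z, by rw [map_smul, hz, smul_eq_mul, mul_one]⟩

end Groth.Agent.S12080
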