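import Groth.Statements.S12081
import Mathlib
-- import your own Groth.Agent.* helpers here

set_option autoImplicit false
universe u
open TensorProduct
open EtAlg

namespace Groth.Agent.S12081

/-- Let `B' = B ×_A A'` be a fibre square of rings with `A' → A` surjective with kernel `I`, let `J =
Ker(B' → B)`, let `D'` be a `B'`-algebra and `C' = D' ⊗_{B'} A'`. Then the ideal `I C'` is, as a
subset of `C'`, the image of the ideal `J D'` under `D' → C'`; that is, the map `J D' → I C'` is
surjective. -/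
theorem result (B' B A' A : Type u) [CommRing B'] [CommRing B] [CommRing A'] [CommRing A]
    [Algebra B' B] [Algebra B' A'] [Algebra B A] [Algebra A' A] [Algebra B' A] [IsScalarTower B' B A] [IsScalarTower B' A' A]
    (hsq : EtMil.IsFibreSquare B' B A' A)
    (D' C' : Type u) [CommRing D'] [CommRing C'] [Algebra B' D'] [Algebra A' C']
    [Algebra D' C'] [Algebra B' C'] [IsScalarTower B' A' C'] [IsScalarTower B' D' C'] [Algebra.IsPushout B' A' D' C'] :
    (algebraMap D' C') '' ((RingHom.ker (algebraMap B' B)).map (algebraMap B' D') : Set D') =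
      ((RingHom.ker (algebraMap A' A)).map (algebraMap A' C') : Set C') := by
  set J := RingHom.ker (algebraMap B' B) with hJ
  set I := RingHom.ker (algebraMap A' A) with hI
  -- J maps into I
  have hJI : ∀ j ∈ J, algebraMap B' A' j ∈ I := by
    intro j hj
    rw [hI, RingHom.mem_ker, ← IsScalarTower.algebraMap_apply, IsScalarTower.algebraMap_apply B' B A,
      (RingHom.mem_ker).mp hj, map_zero]
  -- J → I surjective
  have hIJ : ∀ i ∈ I, ∃ j ∈ J, algebraMap B' A' j = i := by
    intro i hi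
    have : algebraMap B A 0 = algebraMap A' A i := by
      rw [map_zero]; exact ((RingHom.mem_ker).mp hi).symm
    obtain ⟨b', ⟨hb1, hb2⟩, _⟩ := hsq.2 0 i this
    exact ⟨b', (RingHom.mem_ker).mpr hb1, hb2⟩
  have hcomm : ∀ b' : B', algebraMap D' C' (algebraMap B' D' b') = algebraMap A' C' (algebraMap B' A' b') := by
    intro b'
    rw [← IsScalarTower.algebraMap_apply, ← IsScalarTower.algebraMap_apply]
  ext x
  constructor
  · rintro ⟨y, hy, rfl⟩
    have h1 : algebraMap D' C' y ∈ (J.map (algebraMap B' D')).map (algebraMap D' C') :=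
      Ideal.mem_map_of_mem _ hy
    rw [Ideal.map_map] at h1
    have h2 : (algebraMap D' C').comp (algebraMap B' D') = (algebraMap A' C').comp (algebraMap B' A') := by
      ext b'; exact hcomm b'
    rw [h2, ← Ideal.map_map] at h1
    refine Ideal.map_mono ?_ h1
    rw [Ideal.map_le_iff_le_comap]
    intro j hj
    exact hJI j hj
  · intro hx
    have hx' : x ∈ I.map (algebraMap A' C') := hx
    -- key: a' • image of JD' stays in the image
    have hsm : ∀ (a' : A') (y : D'), y ∈ J.map (algebraMap B' D') →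
        ∃ y' ∈ J.map (algebraMap B' D'), algebraMap D' C' y' = a' • algebraMap D' C' y := by
      intro a' y hy
      refine Submodule.span_induction (p := fun y _ => ∃ y' ∈ J.map (algebraMap B' D'),
        algebraMap D' C' y' = a' • algebraMap D' C' y) ?_ ?_ ?_ ?_ hy
      · rintro _ ⟨j, hj, rfl⟩
        obtain ⟨j', hj', e⟩ := hIJ (a' * algebraMap B' A' j) (I.mul_mem_left _ (hJI j hj))
        refine ⟨algebraMap B' D' j', Ideal.mem_map_of_mem _ hj', ?_⟩
        rw [hcomm, hcomm, e, map_mul, Algebra.smul_def]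
      · exact ⟨0, Ideal.zero_mem _, by simp⟩
      · rintro y₁ y₂ _ _ ⟨z₁, hz₁, e₁⟩ ⟨z₂, hz₂, e₂⟩
        exact ⟨z₁ + z₂, Ideal.add_mem _ hz₁ hz₂, by rw [map_add, map_add, smul_add, e₁, e₂]⟩
      · rintro d y _ ⟨z, hz, e⟩
        refine ⟨d * z, Ideal.mul_mem_left _ _ hz, ?_⟩
        rw [smul_eq_mul, map_mul, map_mul, e, Algebra.smul_def, Algebra.smul_def]
        ring
    have hmul : ∀ (c : C') (y : D'), y ∈ J.map (algebraMap B' D') →
        ∃ y' ∈ J.map (algebraMap B' D'), algebraMap D' C' y' = c * algebraMap D' C' y := by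
      intro c
      refine (Algebra.IsPushout.out (R := B') (S := A') (R' := D') (S' := C')).inductionOn c
        (fun c => ∀ y : D', y ∈ J.map (algebraMap B' D') →
          ∃ y' ∈ J.map (algebraMap B' D'), algebraMap D' C' y' = c * algebraMap D' C' y) ?_ ?_ ?_ ?_
      · intro y _
        exact ⟨0, Ideal.zero_mem _, by simp⟩
      · intro d y hy
        refine ⟨d * y, Ideal.mul_mem_left _ _ hy, ?_⟩
        rw [map_mul]
        rfl
      · intro a' c hc y hy
        obtain ⟨z, hz, e⟩ := hc y hy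
        obtain ⟨z', hz', e'⟩ := hsm a' z hz
        refine ⟨z', hz', ?_⟩
        rw [e', e, smul_mul_assoc]
      · intro c₁ c₂ h₁ h₂ y hy
        obtain ⟨z₁, hz₁, e₁⟩ := h₁ y hy
        obtain ⟨z₂, hz₂, e₂⟩ := h₂ y hy
        exact ⟨z₁ + z₂, Ideal.add_mem _ hz₁ hz₂, by rw [map_add, e₁, e₂, add_mul]⟩
    have main : ∃ y ∈ J.map (algebraMap B' D'), algebraMap D' C' y = x := by
      refine Submodule.span_induction (p := fun x _ => ∃ y ∈ J.map (algebraMap B' D'),
        algebraMap D' C' y = x) ?_ ?_ ?_ ?_ hx'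
      · rintro _ ⟨i, hi, rfl⟩
        obtain ⟨j, hj, rfl⟩ := hIJ i hi
        exact ⟨algebraMap B' D' j, Ideal.mem_map_of_mem _ hj, hcomm j⟩
      · exact ⟨0, Ideal.zero_mem _, by simp⟩
      · rintro x₁ x₂ _ _ ⟨z₁, hz₁, e₁⟩ ⟨z₂, hz₂, e₂⟩
        exact ⟨z₁ + z₂, Ideal.add_mem _ hz₁ hz₂, by rw [map_add, e₁, e₂]⟩
      · rintro c x _ ⟨z, hz, e⟩
        obtain ⟨z', hz', e'⟩ := hmul c z hz
        exact ⟨z', hz', by rw [e', e, smul_eq_mul]⟩
    obtain ⟨y, hy, rfl⟩ := main
    exact ⟨y, hy, rfl⟩

end Groth.Agent.S12081
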