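import Groth.Statements.S12082
import Mathlib
import Groth.Agent.Lib.helper9.Depth21
import Groth.Agent.Lib.helper9.DepthHom
import Groth.Agent.Lib.helper6.AusBuchE

set_option autoImplicit false
universe u
open Synt

namespace Groth.Agent.S12082

theorem dim_quot {P : Type u} [CommRing P] (I : Ideal P) (q : Ideal (P ⧸ I)) [q.IsPrime] :
    ringKrullDim (Localization.AtPrime (q.comap (Ideal.Quotient.mk I)) ⧸
      I.map (algebraMap P (Localization.AtPrime (q.comap (Ideal.Quotient.mk I))))) = q.height := by
  have heq : Algebra.algebraMapSubmonoid (P ⧸ I) (q.comap (Ideal.Quotient.mk I)).primeCompl =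
      q.primeCompl := by
    ext y
    constructor
    · rintro ⟨x, hx, rfl⟩
      exact hx
    · intro hy
      obtain ⟨x, rfl⟩ := Ideal.Quotient.mk_surjective y
      exact ⟨x, hy, rfl⟩
  haveI : IsLocalization.AtPrime (Localization.AtPrime (q.comap (Ideal.Quotient.mk I)) ⧸
      I.map (algebraMap P (Localization.AtPrime (q.comap (Ideal.Quotient.mk I))))) q := by
    change IsLocalization q.primeCompl _
    rw [← heq]
    infer_instance
  exact IsLocalization.AtPrime.ringKrullDim_eq_height q _

theorem aux2 {R : Type u} [CommRing R] [IsRegularLocalRing R] (J : Ideal R)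
    (hJm : J ≤ IsLocalRing.maximalIdeal R) (c : ℕ) (a b : ℕ∞) (hb : b ≠ ⊤)
    (hc : (c : ℕ∞) + a = b) (hR : ringKrullDim R = b) (hRJ : ringKrullDim (R ⧸ J) = a)
    (f : Fin c → R) (hf : ∀ i, f i ∈ J)
    (hgen : Ideal.span (Set.range f) ⊔ IsLocalRing.maximalIdeal R * J = J) :
    RingTheory.Sequence.IsRegular R (List.ofFn f) := by
  classical
  have hJtop : J ≠ ⊤ := fun h =>
    (IsLocalRing.maximalIdeal.isMaximal R).ne_top (top_le_iff.mp (h ▸ hJm))
  -- Nakayama
  have hspan : Ideal.span (Set.range f) = J := by
    apply le_antisymm (Ideal.span_le.mpr (by rintro _ ⟨i, rfl⟩; exact hf i))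
    refine Submodule.le_of_le_smul_of_le_jacobson_bot (N := Ideal.span (Set.range f)) (N' := J)
      (I := IsLocalRing.maximalIdeal R) (isNoetherian_def.mp inferInstance J) ?_ ?_
    · rw [IsLocalRing.jacobson_eq_maximalIdeal ⊥ bot_ne_top]
    · rw [smul_eq_mul, hgen]
  have hofl : Ideal.ofList (List.ofFn f) = J := by
    rw [← hspan]
    unfold Ideal.ofList
    congr 1
    ext x
    simp [List.mem_ofFn]
  obtain ⟨d, hd⟩ := Groth.Agent.H5.RegLoc.exists_nat_dim R
  have hCM : LocCoh.IsCohenMacaulayModule R R := by
    unfold LocCoh.IsCohenMacaulayModule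
    rw [Module.supportDim_self_eq_ringKrullDim, hd,
      Groth.Agent.Lib.helper6.AusBuchE.depth_eq_dim R d hd]
    rfl
  have hform := Groth.Agent.Lib.helper9.Depth.supportDim_eq_add_idealDepth_of_isCohenMacaulayModule
    J hJtop R hCM
  have hItop : (J • (⊤ : Submodule R R)) = J := by rw [smul_eq_mul, Ideal.mul_top]
  have h3 : Module.supportDim R (R ⧸ (J • (⊤ : Submodule R R))) = ringKrullDim (R ⧸ J) := by
    rw [hItop]
    exact Module.supportDim_quotient_eq_ringKrullDim J
  rw [Module.supportDim_self_eq_ringKrullDim, h3, hR, hRJ] at hform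
  have hmem : ∀ x ∈ List.ofFn f, x ∈ IsLocalRing.maximalIdeal R := fun x hx =>
    hJm (hofl ▸ Ideal.subset_span hx)
  have hlen : (List.ofFn f).length = c := List.length_ofFn
  have hdepth : LocCoh.idealDepth J R = c := by
    have h4 : b = a + LocCoh.idealDepth J R := by exact_mod_cast hform
    generalize LocCoh.idealDepth J R = t at h4
    subst hc
    have ha : a ≠ ⊤ := fun h => hb (by rw [h]; simp)
    lift a to ℕ using ha
    induction t using ENat.recTopCoe with
    | top => exact absurd (by rw [h4]; simp) hb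
    | coe t =>
      have : c + a = a + t := by exact_mod_cast h4
      exact_mod_cast (by omega : t = c)
  refine ⟨?_, ?_⟩
  · rw [← Groth.Agent.Lib.helper9.Depth.idealDepth_ofList_eq_length_iff (List.ofFn f) R hmem,
      hofl, hlen]
    exact hdepth
  · rw [hofl, hItop]
    exact fun h => hJtop h.symm

/-- Let `S = k[x_1, …, x_n]/I` over a field `k`, `q` a prime of `S` with preimage `q'` in the polynomial
ring, `c` the natural number with `c + ht(q) = ht(q')`, and `J` the extension of `I` to the local
ring `R = k[x_1, …, x_n]_{q'}`. Any `c` elements of `J` whose images generate `J / q' J` form a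
regular sequence in `R`. -/
theorem result (k : Type u) [Field k] (n : ℕ)
    (I : Ideal (MvPolynomial (Fin n) k)) (q : Ideal (MvPolynomial (Fin n) k ⧸ I)) [q.IsPrime] (c : ℕ)
    (hc : (c : ℕ∞) + q.height = (q.comap (Ideal.Quotient.mk I)).height)
    (f : Fin c → Localization.AtPrime (q.comap (Ideal.Quotient.mk I)))
    (hf : ∀ i, f i ∈ I.map (algebraMap _ (Localization.AtPrime (q.comap (Ideal.Quotient.mk I)))))
    (hgen : Ideal.span (Set.range f) ⊔
        IsLocalRing.maximalIdeal (Localization.AtPrime (q.comap (Ideal.Quotient.mk I))) *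
          I.map (algebraMap _ (Localization.AtPrime (q.comap (Ideal.Quotient.mk I)))) =
      I.map (algebraMap _ (Localization.AtPrime (q.comap (Ideal.Quotient.mk I))))) :
    RingTheory.Sequence.IsRegular (Localization.AtPrime (q.comap (Ideal.Quotient.mk I))) (List.ofFn f) := by
  classical
  haveI hreg : IsRegularLocalRing (Localization.AtPrime (q.comap (Ideal.Quotient.mk I))) :=
    inferInstance
  have hIq' : I ≤ q.comap (Ideal.Quotient.mk I) := fun x hx => by
    change Ideal.Quotient.mk I x ∈ q
    rw [Ideal.Quotient.eq_zero_iff_mem.mpr hx]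
    exact q.zero_mem
  have hJm : I.map (algebraMap _ (Localization.AtPrime (q.comap (Ideal.Quotient.mk I)))) ≤
      IsLocalRing.maximalIdeal (Localization.AtPrime (q.comap (Ideal.Quotient.mk I))) := by
    rw [Ideal.map_le_iff_le_comap]
    intro a ha
    exact (IsLocalization.AtPrime.to_map_mem_maximal_iff _ (q.comap (Ideal.Quotient.mk I)) a).mpr
      (hIq' ha)
  have hfin : (q.comap (Ideal.Quotient.mk I)).height ≠ ⊤ := Ideal.height_ne_top
    (Ideal.IsPrime.ne_top inferInstance)
  exact aux2 _ hJm c q.height _ hfin hc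
    (IsLocalization.AtPrime.ringKrullDim_eq_height (q.comap (Ideal.Quotient.mk I)) _)
    (dim_quot I q) f hf hgen

end Groth.Agent.S12082
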