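import Groth.Statements.S12083
import Mathlib

set_option autoImplicit false
universe u
open CAlg

namespace Groth.Agent.S12083

section Aux
open TensorProduct

/-- finite presentation goes up along a surjection with finitely generated kernel. -/
theorem fp_up {P Q T : Type*} [CommRing P] [CommRing Q] [AddCommGroup T] [Module P T] [Module Q T]
    (f : P →+* Q) (hf : Function.Surjective f) (hker : (RingHom.ker f).FG)
    (hsm : ∀ (p : P) (t : T), p • t = f p • t)
    [Module.FinitePresentation Q T] : Module.FinitePresentation P T := by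
  letI : Algebra P Q := f.toAlgebra
  haveI : IsScalarTower P Q T := IsScalarTower.of_algebraMap_smul fun p t => (hsm p t).symm
  haveI : Module.FinitePresentation P Q := by
    refine Module.finitePresentation_of_surjective (Algebra.linearMap P Q) hf ?_
    have : LinearMap.ker (Algebra.linearMap P Q) = RingHom.ker f := by
      ext x
      simp only [LinearMap.mem_ker, Algebra.linearMap_apply, RingHom.mem_ker]
      rfl
    rw [this]
    exact hker
  exact Module.FinitePresentation.trans P T Q

/-- finite presentation goes down along a surjection. -/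
theorem fp_down {P Q T : Type*} [CommRing P] [CommRing Q] [AddCommGroup T] [Module P T] [Module Q T]
    (f : P →+* Q) (hf : Function.Surjective f)
    (hsm : ∀ (p : P) (t : T), p • t = f p • t)
    [Module.FinitePresentation P T] : Module.FinitePresentation Q T := by
  letI : Algebra P Q := f.toAlgebra
  haveI : IsScalarTower P Q T := IsScalarTower.of_algebraMap_smul fun p t => (hsm p t).symm
  let Φ : Q ⊗[P] T →ₗ[Q] T := LinearMap.liftBaseChange Q (LinearMap.id : T →ₗ[P] T)
  have hΦ : ∀ t : T, Φ (1 ⊗ₜ t) = t := by
    intro t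
    simp [Φ]
  have hform : ∀ z : Q ⊗[P] T, ∃ t : T, z = 1 ⊗ₜ t := by
    intro z
    induction z using TensorProduct.induction_on with
    | zero => exact ⟨0, by simp⟩
    | tmul q t =>
      obtain ⟨p, rfl⟩ := hf q
      refine ⟨p • t, ?_⟩
      rw [← TensorProduct.smul_tmul, Algebra.smul_def, mul_one]
      rfl
    | add x y hx hy =>
      obtain ⟨t, rfl⟩ := hx
      obtain ⟨t', rfl⟩ := hy
      exact ⟨t + t', by rw [TensorProduct.tmul_add]⟩
  have hbij : Function.Bijective Φ := by
    constructor
    · rw [injective_iff_map_eq_zero]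
      intro z hz
      obtain ⟨t, rfl⟩ := hform z
      rw [hΦ] at hz
      rw [hz, TensorProduct.tmul_zero]
    · intro t
      exact ⟨1 ⊗ₜ t, hΦ t⟩
  exact Module.FinitePresentation.of_equiv (LinearEquiv.ofBijective Φ hbij)

/-- independence of the presentation. -/
theorem fp_indep {R' A' T : Type u} [CommRing R'] [CommRing A'] [Algebra R' A'] [AddCommGroup T]
    [Module A' T] {n k : ℕ}
    (a1 : MvPolynomial (Fin n) R' →ₐ[R'] A') (ha1 : Function.Surjective a1)
    (a2 : MvPolynomial (Fin k) R' →ₐ[R'] A') (ha2 : Function.Surjective a2)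
    (h1 : @Module.FinitePresentation (MvPolynomial (Fin n) R') T _ _
      (Module.compHom T a1.toRingHom)) :
    @Module.FinitePresentation (MvPolynomial (Fin k) R') T _ _
      (Module.compHom T a2.toRingHom) := by
  classical
  choose p hp using fun j => ha1 (a2 (MvPolynomial.X j))
  choose q hq using fun i => ha2 (a1 (MvPolynomial.X i))
  let b : MvPolynomial (Fin n ⊕ Fin k) R' →ₐ[R'] A' :=
    MvPolynomial.aeval (Sum.elim (fun i => a1 (MvPolynomial.X i)) (fun j => a2 (MvPolynomial.X j)))
  let π1 : MvPolynomial (Fin n ⊕ Fin k) R' →ₐ[R'] MvPolynomial (Fin n) R' :=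
    MvPolynomial.aeval (Sum.elim MvPolynomial.X p)
  let π2 : MvPolynomial (Fin n ⊕ Fin k) R' →ₐ[R'] MvPolynomial (Fin k) R' :=
    MvPolynomial.aeval (Sum.elim q MvPolynomial.X)
  have h1b : a1.comp π1 = b := by
    apply MvPolynomial.algHom_ext
    rintro (i | j) <;> simp [π1, b, hp]
  have h2b : a2.comp π2 = b := by
    apply MvPolynomial.algHom_ext
    rintro (i | j) <;> simp [π2, b, hq]
  have hπ1 : Function.Surjective π1 := by
    intro f
    refine ⟨MvPolynomial.rename Sum.inl f, ?_⟩
    simp only [π1, MvPolynomial.aeval_rename, Sum.elim_comp_inl]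
    exact MvPolynomial.aeval_X_left_apply f
  have hπ2 : Function.Surjective π2 := by
    intro f
    refine ⟨MvPolynomial.rename Sum.inr f, ?_⟩
    simp only [π2, MvPolynomial.aeval_rename, Sum.elim_comp_inr]
    exact MvPolynomial.aeval_X_left_apply f
  have hker : (RingHom.ker π1.toRingHom).FG :=
    Algebra.FinitePresentation.ker_fG_of_surjective π1 hπ1
  letI m1 : Module (MvPolynomial (Fin n) R') T := Module.compHom T a1.toRingHom
  letI m12 : Module (MvPolynomial (Fin n ⊕ Fin k) R') T := Module.compHom T b.toRingHom
  letI m2 : Module (MvPolynomial (Fin k) R') T := Module.compHom T a2.toRingHom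
  haveI : Module.FinitePresentation (MvPolynomial (Fin n) R') T := h1
  haveI : Module.FinitePresentation (MvPolynomial (Fin n ⊕ Fin k) R') T := by
    refine fp_up π1.toRingHom hπ1 hker (fun x t => ?_)
    show b x • t = a1 (π1 x) • t
    rw [← h1b]
    rfl
  refine fp_down π2.toRingHom hπ2 (fun x t => ?_)
  show b x • t = a2 (π2 x) • t
  rw [← h2b]
  rfl

section BC
attribute [local instance] MvPolynomial.algebraMvPolynomial

/-- base change of a relatively finitely presented module. -/
theorem fp_baseChange {R A R' A' : Type u} [CommRing R] [CommRing A] [CommRing R'] [CommRing A']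
    [Algebra R A] [Algebra R R'] [Algebra A A'] [Algebra R' A'] [Algebra R A'] [IsScalarTower R A A']
    [IsScalarTower R R' A'] [Algebra.IsPushout R A R' A'] (M : Type u) [AddCommGroup M] [Module A M]
    {n : ℕ} (α : MvPolynomial (Fin n) R →ₐ[R] A) (hα : Function.Surjective α)
    (hM : @Module.FinitePresentation (MvPolynomial (Fin n) R) M _ _
      (Module.compHom M α.toRingHom)) :
    ∃ α' : MvPolynomial (Fin n) R' →ₐ[R'] A', Function.Surjective α' ∧
      @Module.FinitePresentation (MvPolynomial (Fin n) R') (A' ⊗[A] M) _ _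
        (Module.compHom (A' ⊗[A] M) α'.toRingHom) := by
  classical
  let α' : MvPolynomial (Fin n) R' →ₐ[R'] A' :=
    MvPolynomial.aeval (fun i => algebraMap A A' (α (MvPolynomial.X i)))
  have hαα : ∀ p : MvPolynomial (Fin n) R,
      α' (algebraMap (MvPolynomial (Fin n) R) (MvPolynomial (Fin n) R') p) = algebraMap A A' (α p) := by
    intro p
    have h : (α'.toRingHom.comp (algebraMap (MvPolynomial (Fin n) R) (MvPolynomial (Fin n) R'))) =
        (algebraMap A A').comp α.toRingHom := by
      apply MvPolynomial.ringHom_ext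
      · intro r
        simp only [RingHom.coe_comp, Function.comp_apply, MvPolynomial.algebraMap_def,
          MvPolynomial.map_C, AlgHom.toRingHom_eq_coe, RingHom.coe_coe]
        rw [← MvPolynomial.algebraMap_eq, ← MvPolynomial.algebraMap_eq, AlgHom.commutes,
          AlgHom.commutes, ← IsScalarTower.algebraMap_apply, ← IsScalarTower.algebraMap_apply]
      · intro i
        simp [α']
    exact RingHom.congr_fun h p
  haveI hpo : Algebra.IsPushout R R' A A' := Algebra.IsPushout.symm inferInstance
  have hα' : Function.Surjective α' := by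
    intro x
    refine hpo.out.inductionOn x (fun x => ∃ y, α' y = x) ⟨0, map_zero _⟩ (fun a => ?_)
      (fun s y ⟨z, hz⟩ => ⟨s • z, by rw [map_smul, hz]⟩)
      (fun _ _ ⟨z, hz⟩ ⟨w, hw⟩ => ⟨z + w, by rw [map_add, hz, hw]⟩)
    obtain ⟨p, rfl⟩ := hα a
    exact ⟨_, hαα p⟩
  letI mRM : Module R M := Module.compHom M (algebraMap R A)
  haveI : IsScalarTower R A M := IsScalarTower.of_algebraMap_smul fun r m => rfl
  letI mPM : Module (MvPolynomial (Fin n) R) M := Module.compHom M α.toRingHom
  haveI : IsScalarTower R (MvPolynomial (Fin n) R) M := IsScalarTower.of_algebraMap_smul (fun r m => by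
    show α (algebraMap R (MvPolynomial (Fin n) R) r) • m = algebraMap R A r • m
    rw [AlgHom.commutes])
  haveI : Module.FinitePresentation (MvPolynomial (Fin n) R) M := hM
  letI mP'T : Module (MvPolynomial (Fin n) R') (A' ⊗[A] M) := Module.compHom (A' ⊗[A] M) α'.toRingHom
  letI mPT : Module (MvPolynomial (Fin n) R) (A' ⊗[A] M) :=
    Module.compHom (A' ⊗[A] M) (algebraMap (MvPolynomial (Fin n) R) (MvPolynomial (Fin n) R'))
  haveI : IsScalarTower (MvPolynomial (Fin n) R) (MvPolynomial (Fin n) R') (A' ⊗[A] M) :=
    IsScalarTower.of_algebraMap_smul fun p t => rfl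
  let ι : M →ₗ[MvPolynomial (Fin n) R] (A' ⊗[A] M) :=
    { toFun := fun m => (1 : A') ⊗ₜ[A] m
      map_add' := fun m m' => TensorProduct.tmul_add _ _ _
      map_smul' := fun p m => by
        show (1 : A') ⊗ₜ[A] (α p • m) =
          α' (algebraMap (MvPolynomial (Fin n) R) (MvPolynomial (Fin n) R') p) • ((1 : A') ⊗ₜ[A] m)
        rw [hαα, TensorProduct.smul_tmul', smul_eq_mul, mul_one, ← TensorProduct.smul_tmul,
          Algebra.smul_def, mul_one] }
  let Φ : (MvPolynomial (Fin n) R') ⊗[MvPolynomial (Fin n) R] M →ₗ[MvPolynomial (Fin n) R'] (A' ⊗[A] M) :=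
    LinearMap.liftBaseChange (MvPolynomial (Fin n) R') ι
  let eP := Algebra.IsPushout.cancelBaseChange R R' (MvPolynomial (Fin n) R) (MvPolynomial (Fin n) R') M
  let eA := Algebra.IsPushout.cancelBaseChange R R' A A' M
  have key : ∀ z : R' ⊗[R] M, Φ (eP.symm z) = eA.symm z := by
    intro z
    induction z using TensorProduct.induction_on with
    | zero => simp
    | tmul s m =>
      rw [Algebra.IsPushout.cancelBaseChange_symm_tmul, Algebra.IsPushout.cancelBaseChange_symm_tmul,
        LinearMap.liftBaseChange_tmul]
      show α' (algebraMap R' (MvPolynomial (Fin n) R') s) • ((1 : A') ⊗ₜ[A] m) = _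
      rw [AlgHom.commutes, TensorProduct.smul_tmul', smul_eq_mul, mul_one]
    | add x y hx hy => rw [map_add, map_add, map_add, hx, hy]
  have hbij : Function.Bijective Φ := by
    have h : ⇑Φ = ⇑eA.symm ∘ ⇑eP := funext fun w => by
      rw [Function.comp_apply, ← key (eP w), LinearEquiv.symm_apply_apply]
    rw [h]
    exact eA.symm.bijective.comp eP.bijective
  exact ⟨α', hα', Module.FinitePresentation.of_equiv (LinearEquiv.ofBijective Φ hbij)⟩

end BC

theorem main {R A R' A' : Type u} [CommRing R] [CommRing A] [CommRing R'] [CommRing A']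
    [Algebra R A] [Algebra R R'] [Algebra A A'] [Algebra R' A'] [Algebra R A'] [IsScalarTower R A A']
    [IsScalarTower R R' A'] [Algebra.IsPushout R A R' A'] (M : Type u) [AddCommGroup M] [Module A M]
    {n k : ℕ} (α : MvPolynomial (Fin n) R →ₐ[R] A) (hα : Function.Surjective α)
    (hM : @Module.FinitePresentation (MvPolynomial (Fin n) R) M _ _
      (Module.compHom M α.toRingHom))
    (γ : MvPolynomial (Fin k) R' →ₐ[R'] A') (hγ : Function.Surjective γ) :
    @Module.FinitePresentation (MvPolynomial (Fin k) R') (TensorProduct A A' M) _ _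
      (Module.compHom (TensorProduct A A' M) γ.toRingHom) := by
  obtain ⟨α', hα', h1⟩ := fp_baseChange (R' := R') (A' := A') M α hα hM
  exact fp_indep α' hα' γ hγ h1


end Aux

/-- Let `R → A` be a finite type ring map with a surjective presentation `α : R[x_1, …, x_n] → A` and
`M` an `A`-module finitely presented relative to `R` (finitely presented as an `R[x_1, …,
x_n]`-module through `α`). For a ring map `R → R'` let `A' = R' ⊗_R A` (a pushout square) and `γ :
R'[z_1, …, z_k] → A'` any surjective presentation. Then `A' ⊗_A M = R' ⊗_R M` is finitely presented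
relative to `R'`, i.e. finitely presented as an `R'[z_1, …, z_k]`-module through `γ`. -/
theorem result {R A R' A' : Type u} [CommRing R] [CommRing A] [CommRing R'] [CommRing A']
    [Algebra R A] [Algebra R R'] [Algebra A A'] [Algebra R' A'] [Algebra R A'] [IsScalarTower R A A'] [IsScalarTower R R' A']
    [Algebra.IsPushout R A R' A'] [Algebra.FiniteType R A] (M : Type u) [AddCommGroup M] [Module A M] {n k : ℕ}
    (α : MvPolynomial (Fin n) R →ₐ[R] A) (hα : Function.Surjective α)
    (hM : @Module.FinitePresentation (MvPolynomial (Fin n) R) M _ _ (Module.compHom M α.toRingHom))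
    (γ : MvPolynomial (Fin k) R' →ₐ[R'] A') (hγ : Function.Surjective γ) :
    @Module.FinitePresentation (MvPolynomial (Fin k) R') (TensorProduct A A' M) _ _
      (Module.compHom (TensorProduct A A' M) γ.toRingHom) := by
  exact main M α hα hM γ hγ

end Groth.Agent.S12083
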