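import Groth.Statements.S12084
import Mathlib
import Groth.Agent.Lib.helper27.Fitting

set_option autoImplicit false
universe u
open Fitt

namespace Groth.Agent.S12084aux
open Matrix Groth.Agent.Lib.helper27.Fitting

variable {R : Type*} [CommRing R] {M M' : Type*} [AddCommGroup M] [Module R M]
  [AddCommGroup M'] [Module R M']

/-- combined generating tuple -/
def w {n m : ℕ} (x : Fin n → M) (y : Fin m → M') : Fin n ⊕ Fin m → M × M' :=
  Sum.elim (fun i => (x i, 0)) (fun j => (0, y j))

lemma span_w {n m : ℕ} (x : Fin n → M) (y : Fin m → M')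
    (hx : Submodule.span R (Set.range x) = ⊤) (hy : Submodule.span R (Set.range y) = ⊤) :
    Submodule.span R (Set.range (w x y)) = ⊤ := by
  rw [eq_top_iff, ← LinearMap.sup_range_inl_inr, sup_le_iff]
  constructor
  · rw [LinearMap.range_eq_map, ← hx, Submodule.map_span]
    apply Submodule.span_mono
    rintro _ ⟨_, ⟨i, rfl⟩, rfl⟩
    exact ⟨Sum.inl i, rfl⟩
  · rw [LinearMap.range_eq_map, ← hy, Submodule.map_span]
    apply Submodule.span_mono
    rintro _ ⟨_, ⟨i, rfl⟩, rfl⟩
    exact ⟨Sum.inr i, rfl⟩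

lemma sum_w {n m : ℕ} (x : Fin n → M) (y : Fin m → M') (c : Fin n ⊕ Fin m → R) :
    ∑ j, c j • w x y j = (∑ j, c (Sum.inl j) • x j, ∑ j, c (Sum.inr j) • y j) := by
  rw [Fintype.sum_sum_type]
  simp only [w, Sum.elim_inl, Sum.elim_inr, Prod.smul_mk, smul_zero]
  ext
  · simp [Prod.fst_sum]
  · simp [Prod.snd_sum]

/-- `⊇` direction -/
lemma mul_le_K {n m : ℕ} (x : Fin n → M) (y : Fin m → M') (k k' l : ℕ) (hkl : k + k' ≤ l) :
    (K x k : Ideal R) * K y k' ≤ K (w x y) l := by
  classical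
  unfold K
  rw [Ideal.span_mul_span']
  apply Ideal.span_le.2
  rintro _ ⟨_, ⟨A, SA, hcA, hrelA, rfl⟩, _, ⟨B, SB, hcB, hrelB, rfl⟩, rfl⟩
  apply Ideal.subset_span
  refine ⟨Matrix.fromBlocks A 0 0 B, SA.disjSum SB, ?_, ?_, ?_⟩
  · rw [Finset.card_disjSum, Fintype.card_sum]
    omega
  · intro i hi
    rw [sum_w]
    rcases Finset.mem_disjSum.mp hi with ⟨i', hi', rfl⟩ | ⟨i', hi', rfl⟩
    · simp only [Matrix.fromBlocks_apply₁₁, Matrix.fromBlocks_apply₁₂, Matrix.zero_apply,
        zero_smul, Finset.sum_const_zero]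
      rw [hrelA i' hi']; rfl
    · simp only [Matrix.fromBlocks_apply₂₁, Matrix.fromBlocks_apply₂₂, Matrix.zero_apply,
        zero_smul, Finset.sum_const_zero]
      rw [hrelB i' hi']; rfl
  · simp only
    rw [Matrix.det_fromBlocks_zero₁₂]

/-- a matrix whose rows are supported on the "wrong" number of block-1 rows has zero determinant -/
lemma det_eq_zero_of_card_ne {n m : ℕ} (b : Matrix (Fin n ⊕ Fin m) (Fin n ⊕ Fin m) R)
    (T : Finset (Fin n ⊕ Fin m))
    (h1 : ∀ i ∈ T, ∀ j : Fin m, b i (Sum.inr j) = 0)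
    (h2 : ∀ i, i ∉ T → ∀ j : Fin n, b i (Sum.inl j) = 0)
    (hT : T.card ≠ n) : b.det = 0 := by
  classical
  rw [Matrix.det_apply]
  apply Finset.sum_eq_zero
  intro σ _
  suffices h : ∏ i, b (σ i) i = 0 by rw [h, smul_zero]
  by_contra hne
  have hall : ∀ i, b (σ i) i ≠ 0 := by
    intro i hi
    exact hne (Finset.prod_eq_zero (Finset.mem_univ i) hi)
  -- σ maps inl into T and inr outside T
  have hl : ∀ j : Fin n, σ (Sum.inl j) ∈ T := by
    intro j
    by_contra hj
    exact hall (Sum.inl j) (h2 _ hj j)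
  have hr : ∀ j : Fin m, σ (Sum.inr j) ∉ T := by
    intro j hj
    exact hall (Sum.inr j) (h1 _ hj j)
  have hTeq : T = (Finset.univ.map ⟨Sum.inl, Sum.inl_injective⟩).map σ.toEmbedding := by
    ext i
    simp only [Finset.mem_map, Finset.mem_univ, true_and, Function.Embedding.coeFn_mk,
      exists_exists_eq_and]
    constructor
    · intro hi
      obtain ⟨i', rfl⟩ := σ.surjective i
      rcases i' with j | j
      · exact ⟨j, rfl⟩
      · exact absurd hi (hr j)
    · rintro ⟨j, rfl⟩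
      exact hl j
  apply hT
  rw [hTeq, Finset.card_map, Finset.card_map, Finset.card_univ, Fintype.card_fin]

/-- block decomposition when the number of block-1 rows is right -/
lemma det_block {n m : ℕ} (b : Matrix (Fin n ⊕ Fin m) (Fin n ⊕ Fin m) R)
    (T : Finset (Fin n ⊕ Fin m))
    (h1 : ∀ i ∈ T, ∀ j : Fin m, b i (Sum.inr j) = 0)
    (h2 : ∀ i, i ∉ T → ∀ j : Fin n, b i (Sum.inl j) = 0)
    (hT : T.card = n) :
    ∃ ρ : Equiv.Perm (Fin n ⊕ Fin m), (∀ i : Fin n, ρ (Sum.inl i) ∈ T) ∧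
      (∀ j : Fin m, ρ (Sum.inr j) ∉ T) ∧
      b.det = (Equiv.Perm.sign ρ : ℤ) *
        ((Matrix.of fun i j : Fin n => b (ρ (Sum.inl i)) (Sum.inl j)).det *
         (Matrix.of fun i j : Fin m => b (ρ (Sum.inr i)) (Sum.inr j)).det) := by
  classical
  have hc1 : Fintype.card (Fin n) = Fintype.card {i // i ∈ T} := by
    rw [Fintype.card_fin, Fintype.card_coe, hT]
  have hc2 : Fintype.card (Fin m) = Fintype.card {i // ¬ i ∈ T} := by
    rw [Fintype.card_subtype_compl, Fintype.card_coe, hT, Fintype.card_sum, Fintype.card_fin,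
      Fintype.card_fin, Nat.add_sub_cancel_left]
  let e1 : Fin n ≃ {i // i ∈ T} := Fintype.equivOfCardEq hc1
  let e2 : Fin m ≃ {i // ¬ i ∈ T} := Fintype.equivOfCardEq hc2
  let ρ : Equiv.Perm (Fin n ⊕ Fin m) := (Equiv.sumCongr e1 e2).trans (Equiv.sumCompl (· ∈ T))
  have hρl : ∀ i : Fin n, ρ (Sum.inl i) = (e1 i : Fin n ⊕ Fin m) := fun i => rfl
  have hρr : ∀ j : Fin m, ρ (Sum.inr j) = (e2 j : Fin n ⊕ Fin m) := fun j => rfl
  refine ⟨ρ, fun i => by rw [hρl]; exact (e1 i).2, fun j => by rw [hρr]; exact (e2 j).2, ?_⟩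
  have hsub : b.submatrix ρ id = Matrix.fromBlocks
      (Matrix.of fun i j : Fin n => b (ρ (Sum.inl i)) (Sum.inl j)) 0 0
      (Matrix.of fun i j : Fin m => b (ρ (Sum.inr i)) (Sum.inr j)) := by
    ext i j
    rcases i with i | i <;> rcases j with j | j
    · simp
    · simp only [Matrix.submatrix_apply, id_eq, Matrix.fromBlocks_apply₁₂, Matrix.zero_apply]
      exact h1 _ (by rw [hρl]; exact (e1 i).2) j
    · simp only [Matrix.submatrix_apply, id_eq, Matrix.fromBlocks_apply₂₁, Matrix.zero_apply]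
      exact h2 _ (by rw [hρr]; exact (e2 i).2) j
    · simp
  have hdet := Matrix.det_permute ρ b
  rw [hsub, Matrix.det_fromBlocks_zero₁₂] at hdet
  rw [hdet, ← mul_assoc]
  have hsq : (((Equiv.Perm.sign ρ : ℤˣ) : ℤ) : R) * (((Equiv.Perm.sign ρ : ℤˣ) : ℤ) : R) = 1 := by
    have h' : ((Equiv.Perm.sign ρ : ℤˣ) : ℤ) * ((Equiv.Perm.sign ρ : ℤˣ) : ℤ) = 1 := by
      rw [← Units.val_mul, Int.units_mul_self, Units.val_one]
    have h'' := congrArg (Int.cast (R := R)) h'
    push_cast at h''
    exact h''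
  rw [hsq, one_mul]

/-- `⊆` direction -/
lemma K_le_sum {n m : ℕ} (x : Fin n → M) (y : Fin m → M') (l : ℕ) :
    (K (w x y) l : Ideal R) ≤ ∑ k ∈ Finset.range (l + 1), K x k * K y (l - k) := by
  classical
  apply Ideal.span_le.2
  rintro _ ⟨a, S, hc, hrel, rfl⟩
  rw [Fintype.card_sum, Fintype.card_fin, Fintype.card_fin] at hc
  let rows1 : (Fin n ⊕ Fin m) → (Fin n ⊕ Fin m) → R :=
    fun i => Sum.elim (fun j => a i (Sum.inl j)) (fun _ => 0)
  let rows2 : (Fin n ⊕ Fin m) → (Fin n ⊕ Fin m) → R :=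
    fun i => Sum.elim (fun _ => 0) (fun j => a i (Sum.inr j))
  have hsplit : (a : (Fin n ⊕ Fin m) → (Fin n ⊕ Fin m) → R) = rows1 + rows2 := by
    funext i j
    rcases j with j | j <;> simp [rows1, rows2]
  have hdet : a.det = ∑ T : Finset (Fin n ⊕ Fin m),
      Matrix.det (Matrix.of (T.piecewise rows1 rows2)) := by
    have := (Matrix.detRowAlternating (R := R)
      (n := Fin n ⊕ Fin m)).toMultilinearMap.map_add_univ rows1 rows2
    rw [← hsplit] at this
    exact this
  rw [SetLike.mem_coe, hdet]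
  refine Ideal.sum_mem _ fun T _ => ?_
  set b : Matrix (Fin n ⊕ Fin m) (Fin n ⊕ Fin m) R := Matrix.of (T.piecewise rows1 rows2) with hb
  have hb1 : ∀ i ∈ T, ∀ j : Fin m, b i (Sum.inr j) = 0 := by
    intro i hi j
    simp [hb, Finset.piecewise_eq_of_mem _ _ _ hi, rows1]
  have hb2 : ∀ i, i ∉ T → ∀ j : Fin n, b i (Sum.inl j) = 0 := by
    intro i hi j
    simp [hb, Finset.piecewise_eq_of_notMem _ _ _ hi, rows2]
  have hb1' : ∀ i ∈ T, ∀ j : Fin n, b i (Sum.inl j) = a i (Sum.inl j) := by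
    intro i hi j
    simp [hb, Finset.piecewise_eq_of_mem _ _ _ hi, rows1]
  have hb2' : ∀ i, i ∉ T → ∀ j : Fin m, b i (Sum.inr j) = a i (Sum.inr j) := by
    intro i hi j
    simp [hb, Finset.piecewise_eq_of_notMem _ _ _ hi, rows2]
  by_cases hT : T.card = n
  · obtain ⟨ρ, hρl, hρr, hdetb⟩ := det_block b T hb1 hb2 hT
    rw [hdetb]
    apply Ideal.mul_mem_left
    let SA : Finset (Fin n) := Finset.univ.filter fun i => ρ (Sum.inl i) ∈ S
    let SB : Finset (Fin m) := Finset.univ.filter fun j => ρ (Sum.inr j) ∈ S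
    have hcard : SA.card + SB.card = S.card := by
      have h1 : SA.disjSum SB = S.map ρ.symm.toEmbedding := by
        ext i
        rw [Finset.mem_disjSum, Finset.mem_map_equiv, Equiv.symm_symm]
        rcases i with i | i
        · simp [SA]
        · simp [SB]
      rw [← Finset.card_disjSum, h1, Finset.card_map]
    have hA : (Matrix.of fun i j : Fin n => b (ρ (Sum.inl i)) (Sum.inl j)).det ∈
        (K x (n - SA.card) : Ideal R) := by
      apply Ideal.subset_span
      refine ⟨_, SA, ?_, ?_, rfl⟩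
      · rw [Fintype.card_fin]; omega
      · intro i hi
        have hiS : ρ (Sum.inl i) ∈ S := (Finset.mem_filter.mp hi).2
        have h1 := hrel _ hiS
        rw [sum_w] at h1
        have h2 := congrArg Prod.fst h1
        simp only [Prod.fst_zero] at h2
        rw [← h2]
        refine Finset.sum_congr rfl fun j _ => ?_
        rw [Matrix.of_apply, hb1' _ (hρl i)]
    have hB : (Matrix.of fun i j : Fin m => b (ρ (Sum.inr i)) (Sum.inr j)).det ∈
        (K y (m - SB.card) : Ideal R) := by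
      apply Ideal.subset_span
      refine ⟨_, SB, ?_, ?_, rfl⟩
      · rw [Fintype.card_fin]; omega
      · intro i hi
        have hiS : ρ (Sum.inr i) ∈ S := (Finset.mem_filter.mp hi).2
        have h1 := hrel _ hiS
        rw [sum_w] at h1
        have h2 := congrArg Prod.snd h1
        simp only [Prod.snd_zero] at h2
        rw [← h2]
        refine Finset.sum_congr rfl fun j _ => ?_
        rw [Matrix.of_apply, hb2' _ (hρr i)]
    have hSA : SA.card ≤ n := by simpa using Finset.card_le_univ SA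
    have hSB : SB.card ≤ m := by simpa using Finset.card_le_univ SB
    have hk : n - SA.card ∈ Finset.range (l + 1) := by rw [Finset.mem_range]; omega
    have hmono : (K y (m - SB.card) : Ideal R) ≤ K y (l - (n - SA.card)) :=
      K_mono y (by omega)
    have hle : (K x (n - SA.card) : Ideal R) * K y (l - (n - SA.card)) ≤
        ∑ k ∈ Finset.range (l + 1), K x k * K y (l - k) := by
      rw [Ideal.sum_eq_sup]
      exact Finset.le_sup (f := fun k => (K x k : Ideal R) * K y (l - k)) hk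
    exact hle (Ideal.mul_mem_mul hA (hmono hB))
  · rw [det_eq_zero_of_card_ne b T hb1 hb2 hT]
    exact Ideal.zero_mem _

theorem main (R : Type u) [CommRing R] (M M' : Type u) [AddCommGroup M] [Module R M]
    [AddCommGroup M'] [Module R M'] [Module.Finite R M] [Module.Finite R M'] (l : ℕ) :
    Fitt.ideal R (M × M') l =
      ∑ k ∈ Finset.range (l + 1), Fitt.ideal R M k * Fitt.ideal R M' (l - k) := by
  classical
  obtain ⟨n, x, hx⟩ := Module.Finite.exists_fin (R := R) (M := M)
  obtain ⟨m, y, hy⟩ := Module.Finite.exists_fin (R := R) (M := M')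
  have hw := span_w x y hx hy
  -- reindex to Fin (n + m)
  set v : Fin (n + m) → M × M' := w x y ∘ finSumFinEquiv.symm with hv
  have hvspan : Submodule.span R (Set.range v) = ⊤ := by
    rw [hv, finSumFinEquiv.symm.surjective.range_comp]; exact hw
  rw [ideal_eq_K v hvspan l, hv, K_reindex finSumFinEquiv.symm (w x y) l]
  simp_rw [ideal_eq_K x hx, ideal_eq_K y hy]
  apply le_antisymm (K_le_sum x y l)
  rw [Ideal.sum_eq_sup]
  apply Finset.sup_le
  intro k hk
  rw [Finset.mem_range] at hk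
  exact mul_le_K x y k (l - k) l (by omega)

end Groth.Agent.S12084aux

namespace Groth.Agent.S12084

/-- For finite `R`-modules `M`, `M'` and every `l`, the `l`-th Fitting ideal of `M ⊕ M'` equals `∑_{k +
k' = l} Fit_k(M) · Fit_{k'}(M')`; in particular `Fit_0(M ⊕ M') = Fit_0(M) · Fit_0(M')`. -/
theorem result (R : Type u) [CommRing R] (M M' : Type u) [AddCommGroup M] [Module R M]
    [AddCommGroup M'] [Module R M'] [Module.Finite R M] [Module.Finite R M'] (l : ℕ) :
    Fitt.ideal R (M × M') l = ∑ k ∈ Finset.range (l + 1), Fitt.ideal R M k * Fitt.ideal R M' (l - k) := by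
  exact Groth.Agent.S12084aux.main R M M' l

end Groth.Agent.S12084
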