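import Groth.Statements.S12085
import Mathlib
-- import your own Groth.Agent.* helpers here

set_option autoImplicit false
universe u
open TensorProduct
open CAlg

namespace Groth.Agent.S12085

open TensorProduct KaehlerDifferential MvPolynomial in
theorem exists_of_subsingleton {R : Type*} [CommRing R] {ι : Type*} [DecidableEq ι] {S : Type*} [CommRing S] [Algebra R S]
    [Algebra (MvPolynomial ι R) S] [IsScalarTower R (MvPolynomial ι R) S]
    (hsurj : Function.Surjective (algebraMap (MvPolynomial ι R) S))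
    [Subsingleton (Ω[S⁄R])] (i : ι) :
    ∃ x ∈ RingHom.ker (algebraMap (MvPolynomial ι R) S), ∀ j,
      algebraMap (MvPolynomial ι R) S (pderiv j x) = if j = i then 1 else 0 := by
  classical
  have hex := KaehlerDifferential.exact_kerCotangentToTensor_mapBaseChange R (MvPolynomial ι R) S hsurj
  have h0 : KaehlerDifferential.mapBaseChange R (MvPolynomial ι R) S (1 ⊗ₜ D R _ (X i)) = 0 :=
    Subsingleton.elim _ _
  obtain ⟨c, hc⟩ := (hex _).mp h0
  obtain ⟨x, rfl⟩ := Ideal.toCotangent_surjective _ c
  rw [kerCotangentToTensor_toCotangent] at hc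
  refine ⟨x.1, x.2, fun j => ?_⟩
  let φ : Ω[MvPolynomial ι R⁄R] →ₗ[MvPolynomial ι R] S :=
    (Algebra.linearMap (MvPolynomial ι R) S) ∘ₗ (Finsupp.lapply j) ∘ₗ
      (mvPolynomialBasis R ι).repr.toLinearMap
  have := congrArg (LinearMap.liftBaseChange S φ) hc
  simp only [φ, LinearMap.liftBaseChange_tmul, LinearMap.coe_comp, Function.comp_apply, LinearEquiv.coe_coe, mvPolynomialBasis_repr_D_X, Finsupp.lapply_apply, Finsupp.single_apply, Algebra.linearMap_apply, one_smul, mvPolynomialBasis_repr_apply] at this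
  rw [this]
  split_ifs with h1 h2 h2
  · simp
  · exact absurd h1.symm h2
  · exact absurd h2.symm h1
  · simp

open TensorProduct KaehlerDifferential MvPolynomial in
theorem formallyUnramified_of_exists {R : Type*} [CommRing R] {ι : Type*} [DecidableEq ι] (I : Ideal (MvPolynomial ι R))
    (h : ∀ i, ∃ x ∈ I, ∀ j, pderiv j x - (if j = i then 1 else 0) ∈ I) :
    Algebra.FormallyUnramified R (MvPolynomial ι R ⧸ I) := by
  classical
  refine ⟨?_⟩
  have hsurj : Function.Surjective (algebraMap (MvPolynomial ι R) (MvPolynomial ι R ⧸ I)) :=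
    Ideal.Quotient.mk_surjective
  have hex := exact_kerCotangentToTensor_mapBaseChange R (MvPolynomial ι R) (MvPolynomial ι R ⧸ I) hsurj
  have hker : RingHom.ker (algebraMap (MvPolynomial ι R) (MvPolynomial ι R ⧸ I)) = I := Ideal.mk_ker
  have hX : ∀ i, D R (MvPolynomial ι R ⧸ I) (algebraMap (MvPolynomial ι R) (MvPolynomial ι R ⧸ I) (X i)) = 0 := by
    intro i
    obtain ⟨x, hxI, hx⟩ := h i
    have hx' : x ∈ RingHom.ker (algebraMap (MvPolynomial ι R) (MvPolynomial ι R ⧸ I)) := by rw [hker]; exact hxI
    have h1 : (1 : MvPolynomial ι R ⧸ I) ⊗ₜ[MvPolynomial ι R] D R (MvPolynomial ι R) (X i) =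
        1 ⊗ₜ D R (MvPolynomial ι R) x := by
      rw [← sub_eq_zero, ← TensorProduct.tmul_sub, ← map_sub]
      rw [← (mvPolynomialBasis R ι).linearCombination_repr (D R (MvPolynomial ι R) (X i - x)),
        Finsupp.linearCombination_apply, Finsupp.sum, TensorProduct.tmul_sum]
      refine Finset.sum_eq_zero fun j _ => ?_
      rw [TensorProduct.tmul_smul, TensorProduct.smul_tmul', mvPolynomialBasis_repr_apply]
      have : pderiv j (X i - x) • (1 : MvPolynomial ι R ⧸ I) = 0 := by
        show Ideal.Quotient.mk I _ * 1 = 0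
        rw [mul_one]
        rw [Ideal.Quotient.eq_zero_iff_mem, map_sub, pderiv_X, Pi.single_apply]
        have := I.neg_mem (hx j)
        simpa [eq_comm] using this
      rw [this, TensorProduct.zero_tmul]
    have h2 : D R (MvPolynomial ι R ⧸ I) (algebraMap (MvPolynomial ι R) (MvPolynomial ι R ⧸ I) (X i)) =
        mapBaseChange R (MvPolynomial ι R) (MvPolynomial ι R ⧸ I) (1 ⊗ₜ D R (MvPolynomial ι R) (X i)) := by
      rw [mapBaseChange_tmul, KaehlerDifferential.map_D]
      exact (one_smul (MvPolynomial ι R ⧸ I) (D R (MvPolynomial ι R ⧸ I) ((algebraMap (MvPolynomial ι R) (MvPolynomial ι R ⧸ I)) (X i)))).symm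
    rw [h2, h1, ← kerCotangentToTensor_toCotangent R (MvPolynomial ι R) (MvPolynomial ι R ⧸ I) ⟨x, hx'⟩]
    exact hex.apply_apply_eq_zero _
  have hD : ∀ s, D R (MvPolynomial ι R ⧸ I) s = 0 := by
    intro s
    obtain ⟨p, rfl⟩ := hsurj s
    induction p using MvPolynomial.induction_on with
    | C a =>
      rw [← MvPolynomial.algebraMap_eq, ← IsScalarTower.algebraMap_apply]
      exact Derivation.map_algebraMap _ _
    | add p q hp hq => rw [map_add, map_add, hp, hq, add_zero]
    | mul_X p i hp => rw [map_mul, Derivation.leibniz, hp, hX, smul_zero, smul_zero, add_zero]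
  have := KaehlerDifferential.span_range_derivation R (MvPolynomial ι R ⧸ I)
  have h3 : Set.range (D R (MvPolynomial ι R ⧸ I)) ⊆ {0} := by
    rintro _ ⟨s, rfl⟩; exact hD s
  have h4 : (⊤ : Submodule (MvPolynomial ι R ⧸ I) (Ω[(MvPolynomial ι R ⧸ I)⁄R])) = ⊥ := by
    rw [← this]; exact (Submodule.span_eq_bot).mpr (fun x hx => h3 hx)
  exact (Submodule.subsingleton_iff _).mp (subsingleton_of_bot_eq_top h4.symm)


open MvPolynomial in
theorem descend {R S : Type u} [CommRing R] [CommRing S] [Algebra R S]
    {n m : ℕ} (P : Algebra.Presentation R S (Fin n) (Fin m)) [Algebra.FormallyUnramified R S] :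
    ∃ (R₀ : Subalgebra ℤ R) (_ : R₀.FG) (_ : P.HasCoeffs R₀),
      Algebra.FormallyUnramified R₀ (P.ModelOfHasCoeffs R₀) := by
  classical
  letI : Algebra (MvPolynomial (Fin n) R) S := inferInstanceAs (Algebra P.Ring S)
  haveI : IsScalarTower R (MvPolynomial (Fin n) R) S := inferInstanceAs (IsScalarTower R P.Ring S)
  have hsurj : Function.Surjective (algebraMap (MvPolynomial (Fin n) R) S) := P.algebraMap_surjective
  have hker : RingHom.ker (algebraMap (MvPolynomial (Fin n) R) S) = Ideal.span (Set.range P.relation) :=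
    P.span_range_relation_eq_ker.symm
  choose x hxI hx using fun i => exists_of_subsingleton (R := R) (ι := Fin n) (S := S) hsurj i
  have h1 : ∀ i, ∃ c : Fin m → MvPolynomial (Fin n) R, ∑ r, c r * P.relation r = x i := fun i => by
    have := hxI i
    rw [hker] at this
    exact (Ideal.mem_span_range_iff_exists_fun).mp this
  choose c hc using h1
  have h2 : ∀ i j, ∃ b : Fin m → MvPolynomial (Fin n) R,
      ∑ r, b r * P.relation r = pderiv j (x i) - (if j = i then 1 else 0) := fun i j => by
    have : pderiv j (x i) - (if j = i then 1 else 0) ∈ RingHom.ker (algebraMap (MvPolynomial (Fin n) R) S) := by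
      rw [RingHom.mem_ker, map_sub, hx i j]
      split_ifs <;> simp
    rw [hker] at this
    exact (Ideal.mem_span_range_iff_exists_fun).mp this
  choose b hb using h2
  let s : Set R := P.coeffs ∪ (⋃ i, ⋃ r, ((c i r).coeffs : Set R)) ∪
    (⋃ i, ⋃ j, ⋃ r, ((b i j r).coeffs : Set R))
  have hs : s.Finite := by
    refine .union (.union P.finite_coeffs ?_) ?_
    · exact Set.finite_iUnion fun i => Set.finite_iUnion fun r => Finset.finite_toSet _
    · exact Set.finite_iUnion fun i => Set.finite_iUnion fun j => Set.finite_iUnion fun r =>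
        Finset.finite_toSet _
  let R₀ : Subalgebra ℤ R := Algebra.adjoin ℤ s
  have hR₀ : R₀.FG := ⟨hs.toFinset, by simp [R₀]⟩
  have hrange : Set.range (algebraMap R₀ R) = R₀ := Subalgebra.setRange_algebraMap _
  have hP : P.HasCoeffs R₀ :=
    ⟨by rw [hrange]; exact fun a ha => Algebra.subset_adjoin (Or.inl (Or.inl ha))⟩
  have hc' : ∀ i r, ∃ c₀ : MvPolynomial (Fin n) R₀, MvPolynomial.map (algebraMap R₀ R) c₀ = c i r := by
    intro i r
    apply (MvPolynomial.mem_range_map_iff_coeffs_subset).mpr
    rw [hrange]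
    intro a ha
    apply Algebra.subset_adjoin
    left; right
    simp only [Set.mem_iUnion]
    exact ⟨i, r, ha⟩
  choose c₀ hc₀ using hc'
  have hb' : ∀ i j r, ∃ b₀ : MvPolynomial (Fin n) R₀,
      MvPolynomial.map (algebraMap R₀ R) b₀ = b i j r := by
    intro i j r
    apply (MvPolynomial.mem_range_map_iff_coeffs_subset).mpr
    rw [hrange]
    intro a ha
    apply Algebra.subset_adjoin
    right
    simp only [Set.mem_iUnion]
    exact ⟨i, j, r, ha⟩
  choose b₀ hb₀ using hb'
  refine ⟨R₀, hR₀, hP, ?_⟩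
  apply formallyUnramified_of_exists
  intro i
  refine ⟨∑ r, c₀ i r * P.relationOfHasCoeffs R₀ r, ?_, fun j => ?_⟩
  · exact Ideal.sum_mem _ fun r _ => Ideal.mul_mem_left _ _ (Ideal.subset_span ⟨r, rfl⟩)
  · have : pderiv j (∑ r, c₀ i r * P.relationOfHasCoeffs R₀ r) - (if j = i then 1 else 0) =
        ∑ r, b₀ i j r * P.relationOfHasCoeffs R₀ r := by
      apply MvPolynomial.map_injective (algebraMap R₀ R) (FaithfulSMul.algebraMap_injective _ _)
      have e1 : MvPolynomial.map (algebraMap R₀ R) (∑ r, c₀ i r * P.relationOfHasCoeffs R₀ r) = x i := by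
        rw [map_sum]
        simp only [map_mul, hc₀, P.map_relationOfHasCoeffs]
        exact hc i
      have e2 : MvPolynomial.map (algebraMap R₀ R) (∑ r, b₀ i j r * P.relationOfHasCoeffs R₀ r) =
          pderiv j (x i) - (if j = i then 1 else 0) := by
        rw [map_sum]
        simp only [map_mul, hb₀, P.map_relationOfHasCoeffs]
        exact hb i j
      rw [map_sub, ← MvPolynomial.pderiv_map, e1, e2]
      congr 1
      split_ifs <;> simp
    rw [this]
    exact Ideal.sum_mem _ fun r _ => Ideal.mul_mem_left _ _ (Ideal.subset_span ⟨r, rfl⟩)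


/-- If `R → S` is G-unramified (of finite presentation and formally unramified), then there are a finite
type `ℤ`-algebra `R₀`, a ring map `R₀ → R` and a G-unramified ring map `R₀ → S₀` such that `S ≅ R
⊗_{R₀} S₀` as `R`-algebras (existence of an isomorphism). -/
theorem result (R : Type u) [CommRing R] (S : Type u) [CommRing S]
    [Algebra R S] [Algebra.FinitePresentation R S] [Algebra.FormallyUnramified R S] :
    ∃ (R₀ : Type u) (_ : CommRing R₀) (_ : Algebra.FiniteType ℤ R₀) (S₀ : Type u) (_ : CommRing S₀)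
      (_ : Algebra R₀ S₀) (_ : Algebra.FinitePresentation R₀ S₀) (_ : Algebra.FormallyUnramified R₀ S₀)
      (_ : Algebra R₀ R), Nonempty (R ⊗[R₀] S₀ ≃ₐ[R] S) := by
  classical
  let P := Algebra.Presentation.ofFinitePresentation R S
  obtain ⟨R₀, hR₀, hP, hU⟩ := descend P
  exact ⟨R₀, inferInstance, (Subalgebra.fg_iff_finiteType R₀).mp hR₀, P.ModelOfHasCoeffs R₀,
    inferInstance, inferInstance, inferInstance, hU, inferInstance,
    ⟨P.tensorModelOfHasCoeffsEquiv R₀⟩⟩

end Groth.Agent.S12085
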