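import Groth.Statements.S12091


set_option autoImplicit false
universe u
open TensorProduct MvPolynomial
open FlatMor

namespace Groth.Agent.S12091

/-- Let `x_1, …, x_m` generate the `A`-module `M`, let `K ⊆ A^m` be the module of relations, `C =
Sym_A(M)` and `α : A[y_1, …, y_m] → C` the presentation with `y_j ↦ x_j`, with kernel `J`. Then the
`C`-linear map `C ⊗_A K → J/J²` sending `1 ⊗ k` to the class of `Σ_j k_j y_j` is surjective, and it
is bijective when `M` is a projective `A`-module (so that then `J/J² ≅ K ⊗_A C` and the naive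
cotangent complex of `α` is `K ⊗_A C → ⊕_j C dy_j`). (The published statement asserts `J/J² ≅ K ⊗_A
C` for every `M`. For `A = ℤ`, `M = (ℤ/2)²`, `m = 2` and the two unit vectors, `K = 2ℤ²` and the
element `y_2 ⊗ (2, 0) - y_1 ⊗ (0, 2)` of `C ⊗_A K` is non-zero but maps to the class of `y_2 · 2y_1
- y_1 · 2y_2 = 0`; in degree `2` the graded piece of `J/J²` has `8` elements and that of `K ⊗_A C`
has `16`. The published degree-by-degree computation does show that `J` is generated by the linear
forms coming from `K`, which is the surjectivity, and it is valid as written when `0 → K → A^m → M →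
0` splits, which is the projective case.) -/
theorem result (A : Type u) [CommRing A] (M : Type u)
    [AddCommGroup M] [Module A M] (m : ℕ) (x : Fin m → M)
    (hx : Function.Surjective (Fintype.linearCombination A x))
    (G : Algebra.Generators A (SymmetricAlgebra A M) (Fin m))
    (hG : ∀ j, G.val j = SymmetricAlgebra.ι A M (x j)) :
    ∃ e : SymmetricAlgebra A M ⊗[A] (LinearMap.ker (Fintype.linearCombination A x)) →ₗ[SymmetricAlgebra A M]
        G.toExtension.Cotangent,
      (∀ (k : LinearMap.ker (Fintype.linearCombination A x))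
        (hk : (∑ j, C ((k : Fin m → A) j) * X j : MvPolynomial (Fin m) A) ∈ G.toExtension.ker),
        e (1 ⊗ₜ k) = Algebra.Extension.Cotangent.mk ⟨_, hk⟩) ∧
      Function.Surjective e ∧ (Module.Projective A M → Function.Bijective e) := by
  classical
  haveI : IsScalarTower A (SymmetricAlgebra A M) G.toExtension.Cotangent :=
    IsScalarTower.of_algebraMap_smul (fun r x => rfl)
  -- the linear forms
  let ℓ₀ : (Fin m → A) →ₗ[A] MvPolynomial (Fin m) A :=
    Fintype.linearCombination A (fun j => (X j : MvPolynomial (Fin m) A))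
  have hℓ₀ : ∀ v : Fin m → A, ℓ₀ v = ∑ j, C (v j) * X j := by
    intro v
    simp only [ℓ₀, Fintype.linearCombination_apply, MvPolynomial.smul_eq_C_mul]
  have hα : ∀ v : Fin m → A, aeval G.val (ℓ₀ v) =
      SymmetricAlgebra.ι A M (Fintype.linearCombination A x v) := by
    intro v
    rw [hℓ₀, Fintype.linearCombination_apply, map_sum, map_sum]
    refine Finset.sum_congr rfl (fun j _ => ?_)
    rw [map_mul, aeval_C, aeval_X, hG, map_smul, Algebra.smul_def]
  have hker : ∀ f : MvPolynomial (Fin m) A, f ∈ G.toExtension.ker ↔ aeval G.val f = 0 := by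
    intro f
    rw [← RingHom.mem_ker, ← G.ker_eq_ker_aeval_val]
    exact Iff.rfl
  have hmem : ∀ k : LinearMap.ker (Fintype.linearCombination A x),
      ℓ₀ (k : Fin m → A) ∈ G.toExtension.ker := by
    intro k
    rw [hker, hα, LinearMap.mem_ker.mp k.2, map_zero]
  let g : LinearMap.ker (Fintype.linearCombination A x) →ₗ[A] G.toExtension.Cotangent :=
    { toFun := fun k => Algebra.Extension.Cotangent.mk ⟨ℓ₀ (k : Fin m → A), hmem k⟩
      map_add' := fun k k' => by
        rw [← map_add]
        congr 1
        exact Subtype.ext (map_add ℓ₀ _ _)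
      map_smul' := fun a k => by
        rw [RingHom.id_apply, ← algebraMap_smul G.toExtension.Ring a
          (Algebra.Extension.Cotangent.mk (P := G.toExtension) ⟨ℓ₀ (k : Fin m → A), hmem k⟩),
          ← map_smul]
        congr 1
        refine Subtype.ext ?_
        change ℓ₀ (a • (k : Fin m → A)) = (algebraMap A (MvPolynomial (Fin m) A) a) * ℓ₀ k
        rw [map_smul, Algebra.smul_def] }
  let e : SymmetricAlgebra A M ⊗[A] (LinearMap.ker (Fintype.linearCombination A x))
      →ₗ[SymmetricAlgebra A M] G.toExtension.Cotangent :=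
    LinearMap.liftBaseChange (SymmetricAlgebra A M) g
  have he : ∀ (c : SymmetricAlgebra A M) (k : LinearMap.ker (Fintype.linearCombination A x)),
      e (c ⊗ₜ k) = c • g k := fun c k => LinearMap.liftBaseChange_tmul _ _ _ _
  have hsurj : Function.Surjective e := by
    let N : Ideal (MvPolynomial (Fin m) A) :=
      Ideal.span (ℓ₀ '' (LinearMap.ker (Fintype.linearCombination A x) : Set (Fin m → A)))
    let q : MvPolynomial (Fin m) A →ₐ[A] (MvPolynomial (Fin m) A ⧸ N) := Ideal.Quotient.mkₐ A N
    let φ₀ : (Fin m → A) →ₗ[A] (MvPolynomial (Fin m) A ⧸ N) := q.toLinearMap ∘ₗ ℓ₀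
    have hφ₀ : LinearMap.ker (Fintype.linearCombination A x) ≤ LinearMap.ker φ₀ := by
      intro v hv
      rw [LinearMap.mem_ker]
      change Ideal.Quotient.mk N (ℓ₀ v) = 0
      rw [Ideal.Quotient.eq_zero_iff_mem]
      exact Ideal.subset_span ⟨v, hv, rfl⟩
    let ψ : M →ₗ[A] (MvPolynomial (Fin m) A ⧸ N) :=
      ((LinearMap.ker (Fintype.linearCombination A x)).liftQ φ₀ hφ₀) ∘ₗ
        ((Fintype.linearCombination A x).quotKerEquivOfSurjective hx).symm.toLinearMap
    have hψ : ∀ v : Fin m → A, ψ (Fintype.linearCombination A x v) = φ₀ v := by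
      intro v
      have : ((Fintype.linearCombination A x).quotKerEquivOfSurjective hx).symm
          (Fintype.linearCombination A x v) = Submodule.Quotient.mk v := by
        rw [LinearEquiv.symm_apply_eq]
        rfl
      simp only [ψ, LinearMap.comp_apply, LinearEquiv.coe_coe, this, Submodule.liftQ_apply]
    let β : SymmetricAlgebra A M →ₐ[A] (MvPolynomial (Fin m) A ⧸ N) := SymmetricAlgebra.lift ψ
    have hβ : ∀ f : MvPolynomial (Fin m) A,
        β (aeval G.val f) = q f := by
      intro f
      have : (β.comp (aeval G.val)) = q := by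
        apply MvPolynomial.algHom_ext
        intro j
        have h1 : (X j : MvPolynomial (Fin m) A) = ℓ₀ (Pi.single j 1) := by
          rw [hℓ₀, Finset.sum_eq_single j]
          · simp
          · intro b _ hb; simp [Pi.single_eq_of_ne hb]
          · simp
        change β (aeval G.val (X j)) = q (X j)
        rw [h1, hα, SymmetricAlgebra.lift_ι_apply, hψ]
        rfl
      exact DFunLike.congr_fun this f
    have hJN : ∀ f : MvPolynomial (Fin m) A, f ∈ G.toExtension.ker → f ∈ N := by
      intro f hf
      have h0 : aeval G.val f = 0 := (hker f).mp hf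
      have := hβ f
      rw [h0, map_zero] at this
      exact Ideal.Quotient.eq_zero_iff_mem.mp this.symm
    have key : ∀ f ∈ N, ∃ hf : f ∈ G.toExtension.ker,
        Algebra.Extension.Cotangent.mk ⟨f, hf⟩ ∈ LinearMap.range e := by
      intro f hf
      refine Submodule.span_induction (p := fun (f : MvPolynomial (Fin m) A) _ => ∃ hf : f ∈ G.toExtension.ker,
        Algebra.Extension.Cotangent.mk ⟨f, hf⟩ ∈ LinearMap.range e) ?_ ?_ ?_ ?_ hf
      · rintro _ ⟨v, hv, rfl⟩
        refine ⟨hmem ⟨v, hv⟩, ⟨1 ⊗ₜ ⟨v, hv⟩, ?_⟩⟩
        rw [he, one_smul]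
        rfl
      · exact ⟨zero_mem _, ⟨0, by rw [map_zero]; exact (map_zero _).symm⟩⟩
      · rintro f₁ f₂ _ _ ⟨h1, a, ha⟩ ⟨h2, b, hb⟩
        refine ⟨add_mem h1 h2, ⟨a + b, ?_⟩⟩
        rw [map_add, ha, hb, ← map_add]
        rfl
      · rintro p f _ ⟨h1, a, ha⟩
        refine ⟨Ideal.mul_mem_left _ _ h1,
          ⟨algebraMap G.toExtension.Ring (SymmetricAlgebra A M) p • a, ?_⟩⟩
        rw [map_smul, ha]
        have h2 := map_smul (Algebra.Extension.Cotangent.mk (P := G.toExtension))
          (show G.toExtension.Ring from p) ⟨f, h1⟩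
        exact h2.symm
    intro c
    obtain ⟨⟨f, hf⟩, rfl⟩ := Algebra.Extension.Cotangent.mk_surjective c
    obtain ⟨_, t, ht⟩ := key f (hJN f hf)
    exact ⟨t, ht⟩
  refine ⟨e, ?_, hsurj, fun hproj => ⟨?_, hsurj⟩⟩
  · intro k hk
    rw [he, one_smul]
    change Algebra.Extension.Cotangent.mk _ = _
    congr 1
    ext1
    exact hℓ₀ _
  · -- injectivity in the projective case
    obtain ⟨s, hs⟩ := Module.projective_lifting_property (Fintype.linearCombination A x)
      (LinearMap.id : M →ₗ[A] M) hx
    let projK : (Fin m → A) →ₗ[A] LinearMap.ker (Fintype.linearCombination A x) :=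
      LinearMap.codRestrict _ (LinearMap.id - s ∘ₗ (Fintype.linearCombination A x)) (by
        intro v
        rw [LinearMap.mem_ker, LinearMap.sub_apply, map_sub, LinearMap.id_apply,
          LinearMap.comp_apply]
        have := LinearMap.congr_fun hs (Fintype.linearCombination A x v)
        rw [LinearMap.comp_apply, LinearMap.id_apply] at this
        rw [this, sub_self])
    have hprojK : ∀ k : LinearMap.ker (Fintype.linearCombination A x), projK k = k := by
      intro k
      apply Subtype.ext
      simp only [projK, LinearMap.codRestrict_apply, LinearMap.sub_apply, LinearMap.id_apply,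
        LinearMap.comp_apply, LinearMap.mem_ker.mp k.2, map_zero, sub_zero]
    let r₂ : G.toExtension.CotangentSpace →ₗ[SymmetricAlgebra A M]
        SymmetricAlgebra A M ⊗[A] (LinearMap.ker (Fintype.linearCombination A x)) :=
      G.cotangentSpaceBasis.constr (SymmetricAlgebra A M)
        (fun j => (1 : SymmetricAlgebra A M) ⊗ₜ[A] projK (fun j' => if j = j' then (1 : A) else 0))
    have hr : ∀ k : LinearMap.ker (Fintype.linearCombination A x),
        r₂ (G.toExtension.cotangentComplex (g k)) = 1 ⊗ₜ k := by
      intro k
      change r₂ (G.toExtension.cotangentComplex (Algebra.Extension.Cotangent.mk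
        ⟨ℓ₀ (k : Fin m → A), hmem k⟩)) = _
      rw [Algebra.Extension.cotangentComplex_mk, Module.Basis.constr_apply_fintype]
      have h1 : ∀ j : Fin m, G.cotangentSpaceBasis.equivFun
          ((1 : SymmetricAlgebra A M) ⊗ₜ[G.toExtension.Ring]
            (KaehlerDifferential.D A G.toExtension.Ring) (ℓ₀ (k : Fin m → A))) j =
          algebraMap A (SymmetricAlgebra A M) ((k : Fin m → A) j) := by
        intro j
        rw [Module.Basis.equivFun_apply, Algebra.Generators.cotangentSpaceBasis_repr_one_tmul]
        have : pderiv j (ℓ₀ (k : Fin m → A)) = C ((k : Fin m → A) j) := by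
          rw [hℓ₀, map_sum, Finset.sum_eq_single j]
          · simp
          · intro b _ hb
            simp [pderiv_X, Pi.single_eq_of_ne hb]
          · simp
        rw [this, aeval_C]
      calc _ = ∑ j, algebraMap A (SymmetricAlgebra A M) ((k : Fin m → A) j) •
            ((1 : SymmetricAlgebra A M) ⊗ₜ[A] projK (fun j' => if j = j' then (1 : A) else 0)) :=
            Finset.sum_congr rfl (fun j _ => by rw [← h1 j])
        _ = (1 : SymmetricAlgebra A M) ⊗ₜ[A] projK (k : Fin m → A) := by
            rw [LinearMap.pi_apply_eq_sum_univ projK (k : Fin m → A), TensorProduct.tmul_sum]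
            refine Finset.sum_congr rfl (fun j _ => ?_)
            rw [algebraMap_smul, TensorProduct.tmul_smul]
        _ = 1 ⊗ₜ k := by rw [hprojK]
    have hre : ∀ t, r₂ (G.toExtension.cotangentComplex (e t)) = t := by
      intro t
      induction t using TensorProduct.induction_on with
      | zero => simp
      | tmul c k =>
        rw [he, map_smul, map_smul, hr, TensorProduct.smul_tmul', smul_eq_mul, mul_one]
      | add a b ha hb => rw [map_add, map_add, map_add, ha, hb]
    intro a b hab
    rw [← hre a, ← hre b, hab]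

end Groth.Agent.S12091
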