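import Groth.Statements.S7082
import Mathlib
import Groth.Agent.Lib.helper2.TwoTermD
-- import your own Groth.Agent.* helpers here

set_option autoImplicit false
universe u
attribute [local instance] HasDerivedCategory.standard
open CategoryTheory
open DRing

namespace Groth.Agent.S7082

/-- (1)⇔(3): let R be a commutative ring, I an ideal and K an object of D(R) whose cohomology vanishes
outside degrees -1 and 0. Then I annihilates Ext^1_R(K, N) = Hom_{D(R)}(K, N[1]) for every R-module
N if and only if, for every two-term complex E in degrees -1 and 0 with E^0 projective that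
represents K, and every a in I, multiplication by a on E^{-1} factors through the differential
E^{-1} → E^0. -/
theorem result {R : Type u} [CommRing R] (I : Ideal R) (K : Dual.D R)
    (hK : ∀ i : ℤ, i ≠ -1 → i ≠ 0 → Subsingleton (Dual.HD R K i)) :
    (∀ (N : Type u) [AddCommGroup N] [Module R N] (a : R), a ∈ I →
        ∀ ξ : K ⟶ (Dual.inD R N)⟦(1 : ℤ)⟧, a • ξ = 0) ↔
      ∀ (E : DRing.Cx R), DRing.VanishesOutside E (-1) 0 → Module.Projective R (E.X 0) →
        Nonempty (DRing.toD E ≅ K) → ∀ a : R, a ∈ I →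
          ∃ h : E.X 0 ⟶ E.X (-1), E.d (-1) 0 ≫ h = a • 𝟙 (E.X (-1)) := by
  open Groth.Agent.Lib.helper2.TwoTerm in
  constructor
  · intro H E hE hE0 ⟨e⟩ a ha
    have : Projective (E.X 0) := (IsProjective.iff_projective (R := R) (E.X 0)).1 hE0
    have hE' : ∀ i : ℤ, 0 < i → Limits.IsZero (E.X i) := fun i hi => hE i (Or.inr hi)
    have hx : E.d (-2) (-1) ≫ 𝟙 (E.X (-1)) = 0 := (hE (-2) (Or.inl (by lia))).eq_of_src _ _
    have h1 := H (E.X (-1)) a ha
      (e.inv ≫ DerivedCategory.Q.map (toS1 E (𝟙 _) hx) ≫ (shiftSingleIso (E.X (-1))).inv)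
    rw [← Linear.comp_smul, ← Linear.smul_comp, ← Functor.map_smul] at h1
    have h2 : DerivedCategory.Q.map (a • toS1 E (𝟙 _) hx) = 0 := by
      rw [← cancel_mono (shiftSingleIso (E.X (-1))).inv, ← cancel_epi e.inv, Limits.zero_comp,
        Limits.comp_zero]
      exact h1
    obtain ⟨h, hh⟩ := exists_fac_of_Q_map_eq_zero E hE' _ h2
    refine ⟨h, ?_⟩
    rw [← hh]
    simp
  · intro H N _ _ a ha ξ
    have hGE : DerivedCategory.IsGE K (-1) := by
      rw [DerivedCategory.isGE_iff]
      intro i hi
      have := hK i (by lia) (by lia)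
      exact ModuleCat.isZero_of_subsingleton _
    have hLE : DerivedCategory.IsLE K 0 := by
      rw [DerivedCategory.isLE_iff]
      intro i hi
      have := hK i (by lia) (by lia)
      exact ModuleCat.isZero_of_subsingleton _
    obtain ⟨E, hE1, hE2, hE0, ⟨e⟩⟩ := exists_twoTerm K
    have hE' : ∀ i : ℤ, 0 < i → Limits.IsZero (E.X i) := fun i hi => E.isZero_of_isStrictlyLE 0 i hi
    obtain ⟨h, hh⟩ := H E (by
        rintro i (hi | hi)
        · exact E.isZero_of_isStrictlyGE (-1) i hi
        · exact hE' i hi) ((IsProjective.iff_projective (R := R) (E.X 0)).2 hE0) ⟨e⟩ a ha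
    obtain ⟨x, hx⟩ := exists_chain_map E hE' (e.hom ≫ ξ ≫ (shiftSingleIso (ModuleCat.of R N)).hom)
    rw [← cancel_mono (shiftSingleIso (ModuleCat.of R N)).hom, ← cancel_epi e.hom, Limits.zero_comp,
      Limits.comp_zero, Linear.smul_comp, Linear.comp_smul, ← hx, ← Functor.map_smul]
    obtain ⟨Hh⟩ := homotopy_zero_of_fac E (a • x) (h ≫ x.f (-1) ≫ (S1Iso _).hom) (by
      rw [← Category.assoc, hh]
      simp)
    change DerivedCategory.Qh.map ((HomotopyCategory.quotient _ _).map (a • x)) = 0
    rw [HomotopyCategory.eq_of_homotopy _ _ Hh, Functor.map_zero, Functor.map_zero]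

end Groth.Agent.S7082
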