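import Groth.Statements.S12094
import Mathlib
import Groth.Agent.Lib.helper2.TwoTermExt
import Groth.Agent.S7082
-- import your own Groth.Agent.* helpers here

set_option autoImplicit false
universe u
open CategoryTheory
attribute [local instance] HasDerivedCategory.standard
open DRing

namespace Groth.Agent.S12094

/-- (1) ⇔ (2): let `I ⊆ R` be an ideal and `K ∈ D(R)` with `H^i(K) = 0` for `i ∉ {-1, 0}`. Then some
power `I^c` annihilates `Ext¹_R(K, N) = Hom_{D(R)}(K, N[1])` for every `R`-module `N` if and only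
if, for some `c`, (a) `I^c` annihilates `H^{-1}(K)` and (b) `H^0(K)` is `I^c`-projective, i.e. `I^c`
annihilates `Ext¹_R(H^0(K), N)` for every `R`-module `N`. -/
theorem result {R : Type u} [CommRing R] (I : Ideal R) (K : Dual.D R)
    (hK : ∀ i : ℤ, i ≠ -1 → i ≠ 0 → Subsingleton (Dual.HD R K i)) :
    (∃ c : ℕ, ∀ (N : Type u) [AddCommGroup N] [Module R N] (a : R), a ∈ I ^ c →
        ∀ ξ : K ⟶ (Dual.inD R N)⟦(1 : ℤ)⟧, a • ξ = 0) ↔
      ∃ c : ℕ, (∀ a : R, a ∈ I ^ c → ∀ x : Dual.HD R K (-1), a • x = 0) ∧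
        ∀ (N : Type u) [AddCommGroup N] [Module R N] (a : R), a ∈ I ^ c →
          ∀ ξ : Dual.inD R (Dual.HD R K 0) ⟶ (Dual.inD R N)⟦(1 : ℤ)⟧, a • ξ = 0 := by
  open CategoryTheory.Pretriangulated DerivedCategory Groth.Agent.Lib.helper2
    Groth.Agent.Lib.helper2.TwoTermExt Groth.Agent.Lib.helper2.TwoTerm in
  have hGE : DerivedCategory.IsGE K (-1) := by
    rw [DerivedCategory.isGE_iff]
    intro i hi
    have := hK i (by lia) (by lia)
    exact ModuleCat.isZero_of_subsingleton _
  have hLE : DerivedCategory.IsLE K 0 := by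
    rw [DerivedCategory.isLE_iff]
    intro i hi
    have := hK i (by lia) (by lia)
    exact ModuleCat.isZero_of_subsingleton _
  have hT := (tR R).triangleLTGE_distinguished 0 K
  obtain ⟨e₀⟩ := nonempty_truncGE_iso K
  have hN : ∀ (N : Type u) [AddCommGroup N] [Module R N],
      DerivedCategory.IsGE ((Dual.inD R N)⟦(1 : ℤ)⟧) (-1) := by
    intro N _ _
    have : DerivedCategory.IsGE (Dual.inD R N) 0 := by
      dsimp [Dual.inD]; infer_instance
    exact DerivedCategory.TStructure.t.isGE_shift _ 0 1 (-1) (by lia)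
  constructor
  · rintro ⟨c, H1⟩
    refine ⟨c, ?_, ?_⟩
    · intro a ha x
      obtain ⟨E, hE1, hE2, hE0, ⟨e⟩⟩ := exists_twoTerm K
      have hE' : DRing.VanishesOutside E (-1) 0 := by
        rintro i (hi | hi)
        · exact E.isZero_of_isStrictlyGE (-1) i hi
        · exact E.isZero_of_isStrictlyLE 0 i hi
      obtain ⟨h, hh⟩ := (Groth.Agent.S7082.result (I ^ c) K hK).1 H1 E hE'
        ((IsProjective.iff_projective (R := R) (E.X 0)).2 hE0) ⟨e⟩ a ha
      exact smul_homology_eq_zero E (hE' (-2) (Or.inl (by lia))) K e a h hh x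
    · intro N _ _ a ha ξ
      have h1 := H1 N a ha (((tR R).truncGEπ 0).app K ≫ e₀.hom ≫ ξ)
      rw [← Linear.comp_smul] at h1
      obtain ⟨g, hg⟩ := Triangle.yoneda_exact₃ _ hT _ h1
      have hle0 : (tR R).IsLE (((tR R).truncLT 0).obj K) (-1) :=
        (tR R).isLE_truncLT_obj _ 0 (-1) (by lia)
      have hle : DerivedCategory.IsLE ((((tR R).truncLT 0).obj K)⟦(1 : ℤ)⟧) (-2) :=
        (tR R).isLE_shift (((tR R).truncLT 0).obj K) (-1) 1 (-2) (by lia)
      have hg0 : g = 0 := (tR R).zero_of_isLE_of_isGE g (-2) (-1) (by lia) hle (hN N)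
      rw [hg0, Limits.comp_zero, ← Linear.comp_smul] at hg
      exact (cancel_epi e₀.hom).1 (hg.trans Limits.comp_zero.symm)
  · rintro ⟨c, Ha, Hb⟩
    refine ⟨c + c, ?_⟩
    intro N _ _ x hx ξ
    rw [pow_add] at hx
    refine Submodule.mul_induction_on hx ?_ ?_
    · intro a ha b hb
      have hb0 : b • 𝟙 (((tR R).truncLT 0).obj K) = 0 := smul_id_truncLT_eq_zero K b (Ha b hb)
      have h2 : ((tR R).truncLTι 0).app K ≫ (b • ξ) = 0 := by
        rw [Linear.comp_smul, ← Category.id_comp (((tR R).truncLTι 0).app K ≫ ξ),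
          ← Linear.smul_comp, hb0, Limits.zero_comp]
      obtain ⟨g, hg⟩ : ∃ g : ((tR R).truncGE 0).obj K ⟶ _,
        b • ξ = ((tR R).truncGEπ 0).app K ≫ g := Triangle.yoneda_exact₂ _ hT (b • ξ) h2
      have h3 : a • g = 0 := by
        have := Hb N a ha (e₀.inv ≫ g)
        rw [← Linear.comp_smul] at this
        exact (cancel_epi e₀.inv).1 (this.trans Limits.comp_zero.symm)
      rw [mul_smul, hg, ← Linear.comp_smul, h3, Limits.comp_zero]
    · intro x y hx hy
      rw [add_smul, hx, hy, add_zero]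

end Groth.Agent.S12094
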