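import Groth.Statements.S12096
import Mathlib

set_option autoImplicit false
universe u
open BlowUp

namespace Groth.Agent.S12096aux

open BlowUp

theorem main (A : Type u) [CommRing A] (I : Ideal A) (π a : A)
    (Aa : Type u) [CommRing Aa] [Algebra A Aa] [IsLocalization.Away a Aa]
    (ψ : BlowUp.affineAlgebra A I π →+*
      BlowUp.affineAlgebra Aa (I.map (algebraMap A Aa)) (algebraMap A Aa π))
    (hψ : ∀ x : BlowUp.affineAlgebra A I π,
      ((ψ x : BlowUp.affineAlgebra Aa (I.map (algebraMap A Aa)) (algebraMap A Aa π)) :
          Localization.Away (algebraMap A Aa π)) =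
        Localization.awayMap (algebraMap A Aa) π (x : Localization.Away π)) :
    @IsLocalization.Away (BlowUp.affineAlgebra A I π) _ (algebraMap A (BlowUp.affineAlgebra A I π) a)
      (BlowUp.affineAlgebra Aa (I.map (algebraMap A Aa)) (algebraMap A Aa π)) _ ψ.toAlgebra := by
  let _ := ψ.toAlgebra
  have halg : algebraMap (BlowUp.affineAlgebra A I π)
      (BlowUp.affineAlgebra Aa (I.map (algebraMap A Aa)) (algebraMap A Aa π)) = ψ := rfl
  have hΦalg : ∀ r : A, Localization.awayMap (algebraMap A Aa) π (algebraMap A (Localization.Away π) r) =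
      algebraMap Aa (Localization.Away (algebraMap A Aa π)) (algebraMap A Aa r) := by
    intro r
    exact IsLocalization.map_eq _ r
  have hψalg : ∀ r : A, ((ψ (algebraMap A (BlowUp.affineAlgebra A I π) r) :
      BlowUp.affineAlgebra Aa (I.map (algebraMap A Aa)) (algebraMap A Aa π)) : Localization.Away (algebraMap A Aa π)) =
      algebraMap Aa (Localization.Away (algebraMap A Aa π)) (algebraMap A Aa r) := by
    intro r
    rw [hψ]
    exact hΦalg r
  rw [IsLocalization.Away, isLocalization_iff]
  refine ⟨?_, ?_, ?_⟩
  · -- units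
    rintro ⟨_, n, rfl⟩
    rw [halg, map_pow]
    refine IsUnit.pow n ?_
    obtain ⟨v, hv⟩ := (IsLocalization.Away.algebraMap_isUnit (S := Aa) a).exists_right_inv
    rw [isUnit_iff_exists_inv]
    refine ⟨algebraMap Aa _ v, ?_⟩
    apply Subtype.ext
    rw [Subalgebra.coe_mul, hψalg, Subalgebra.coe_algebraMap, ← map_mul, hv, map_one,
      Subalgebra.coe_one]
  · -- surjectivity
    have key : ∀ z : Localization.Away (algebraMap A Aa π),
        z ∈ BlowUp.affineAlgebra Aa (I.map (algebraMap A Aa)) (algebraMap A Aa π) →
        ∃ (x : BlowUp.affineAlgebra A I π) (n : ℕ),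
          z * (algebraMap Aa (Localization.Away (algebraMap A Aa π)) (algebraMap A Aa a)) ^ n =
            ((ψ x : BlowUp.affineAlgebra Aa (I.map (algebraMap A Aa)) (algebraMap A Aa π)) : Localization.Away (algebraMap A Aa π)) := by
      intro z hz
      unfold BlowUp.affineAlgebra at hz
      induction hz using Algebra.adjoin_induction with
      | mem q hq' =>
        obtain ⟨ybar, hybar, rfl⟩ := hq'
        rw [IsLocalization.mem_map_algebraMap_iff (Submonoid.powers a)] at hybar
        obtain ⟨⟨⟨y₀, hy₀⟩, ⟨_, l, rfl⟩⟩, hy⟩ := hybar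
        simp only at hy
        refine ⟨⟨IsLocalization.mk' (Localization.Away π) y₀ ⟨π, Submonoid.mem_powers π⟩,
          Algebra.subset_adjoin ⟨y₀, hy₀, rfl⟩⟩, l, ?_⟩
        rw [hψ]
        have : Localization.awayMap (algebraMap A Aa) π
            (IsLocalization.mk' (Localization.Away π) y₀ ⟨π, Submonoid.mem_powers π⟩) =
            IsLocalization.mk' (Localization.Away (algebraMap A Aa π)) (algebraMap A Aa y₀)
              ⟨algebraMap A Aa π, Submonoid.mem_powers _⟩ := IsLocalization.map_mk' _ _ _
        rw [this, ← hy, ← map_pow, ← map_pow, mul_comm, IsLocalization.mul_mk'_eq_mk'_of_mul,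
          mul_comm]
      | algebraMap r =>
        obtain ⟨⟨r₀, ⟨_, l, rfl⟩⟩, hr⟩ := IsLocalization.surj (Submonoid.powers a) r
        simp only at hr
        refine ⟨algebraMap A _ r₀, l, ?_⟩
        rw [hψalg, ← hr, map_mul, map_pow, map_pow]
      | add z z' _ _ ih ih' =>
        obtain ⟨x, n, hx⟩ := ih
        obtain ⟨x', n', hx'⟩ := ih'
        refine ⟨algebraMap A _ a ^ n' * x + algebraMap A _ a ^ n * x', n + n', ?_⟩
        rw [map_add, map_mul, map_mul, map_pow, map_pow, Subalgebra.coe_add, Subalgebra.coe_mul,
          Subalgebra.coe_mul, Subalgebra.coe_pow, Subalgebra.coe_pow, hψalg, ← hx, ← hx']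
        ring
      | mul z z' _ _ ih ih' =>
        obtain ⟨x, n, hx⟩ := ih
        obtain ⟨x', n', hx'⟩ := ih'
        refine ⟨x * x', n + n', ?_⟩
        rw [map_mul, Subalgebra.coe_mul, ← hx, ← hx']
        ring
    intro z
    obtain ⟨x, n, hx⟩ := key z z.2
    refine ⟨⟨x, ⟨_, n, rfl⟩⟩, ?_⟩
    simp only
    rw [halg, map_pow]
    apply Subtype.ext
    rw [Subalgebra.coe_mul, Subalgebra.coe_pow, hψalg]
    exact hx
  · intro x y h
    rw [halg] at h
    obtain ⟨⟨r, ⟨_, j, rfl⟩⟩, hr⟩ := IsLocalization.surj (Submonoid.powers π)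
      ((x : Localization.Away π) - y)
    simp only at hr
    have h1 := congrArg (Localization.awayMap (algebraMap A Aa) π) hr
    rw [map_mul, map_sub, ← hψ, ← hψ, h, sub_self, zero_mul, hΦalg] at h1
    have h2 := (IsLocalization.map_eq_zero_iff (Submonoid.powers (algebraMap A Aa π)) _ _).mp h1.symm
    obtain ⟨⟨_, l, rfl⟩, hl⟩ := h2
    simp only at hl
    rw [← map_pow, ← map_mul] at hl
    obtain ⟨⟨_, n, rfl⟩, hn⟩ := (IsLocalization.map_eq_zero_iff (Submonoid.powers a) Aa _).mp hl
    simp only at hn
    refine ⟨⟨algebraMap A _ a ^ n, n, rfl⟩, ?_⟩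
    simp only
    apply Subtype.ext
    rw [Subalgebra.coe_mul, Subalgebra.coe_mul, Subalgebra.coe_pow, Subalgebra.coe_algebraMap]
    have hu : IsUnit (algebraMap A (Localization.Away π) π) := IsLocalization.Away.algebraMap_isUnit π
    have h3 : algebraMap A (Localization.Away π) a ^ n * ((x : Localization.Away π) - y) = 0 := by
      have : (algebraMap A (Localization.Away π) π) ^ (l + j) *
          (algebraMap A (Localization.Away π) a ^ n * ((x : Localization.Away π) - y)) = 0 := by
        calc _ = algebraMap A (Localization.Away π) (a ^ n * π ^ l) *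
              (((x : Localization.Away π) - y) * algebraMap A _ (π ^ j)) := by
              rw [map_mul, map_pow, map_pow, map_pow]; ring
          _ = 0 := by rw [hr, ← map_mul, mul_assoc, hn, map_zero]
      exact (hu.pow _).mul_right_eq_zero.mp this
    rw [mul_sub, sub_eq_zero] at h3
    exact h3

end Groth.Agent.S12096aux

namespace Groth.Agent.S12096

/-- Néron's blowup is compatible with localization. For a ring `A`, an ideal `I`, elements `π, a ∈ A`,
`A' = A[I/π] ⊆ A_π` the affine blowup algebra and `(A_a)' = A_a[I A_a/π]` that of the localization,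
the canonical map `A' → (A_a)'` (the restriction of `A_π → (A_a)_π`, given here as a datum with that
compatibility) identifies `(A_a)'` with the localization `A'_a`. In Néron's situation (`I` the
inverse image of the maximal ideal of `Λ`, `π` a uniformizer, `a ∉ I`) this reads: the Néron blowup
of `A_a` is `A'_a`; the identity holds for arbitrary `A, I, π, a`. -/
theorem result (A : Type u) [CommRing A] (I : Ideal A) (π a : A) (hπ : π ∈ I)
    (ψ : BlowUp.affineAlgebra A I π →+*
      BlowUp.affineAlgebra (Localization.Away a) (I.map (algebraMap A (Localization.Away a))) (algebraMap A (Localization.Away a) π))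
    (hψ : ∀ x : BlowUp.affineAlgebra A I π,
      ((ψ x : BlowUp.affineAlgebra (Localization.Away a) (I.map (algebraMap A (Localization.Away a))) (algebraMap A (Localization.Away a) π)) :
          Localization.Away (algebraMap A (Localization.Away a) π)) =
        Localization.awayMap (algebraMap A (Localization.Away a)) π (x : Localization.Away π)) :
    letI := ψ.toAlgebra
    IsLocalization.Away (algebraMap A (BlowUp.affineAlgebra A I π) a)
      (BlowUp.affineAlgebra (Localization.Away a) (I.map (algebraMap A (Localization.Away a))) (algebraMap A (Localization.Away a) π)) := by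
  exact Groth.Agent.S12096aux.main A I π a (Localization.Away a) ψ hψ

end Groth.Agent.S12096
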