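import Groth.Statements.S12097
import Mathlib

set_option autoImplicit false
universe u
open BlowUp

namespace Groth.Agent.S12097aux

open BlowUp

/-- structure of elements of the affine blowup algebra -/
lemma struct (R : Type u) [CommRing R] (I : Ideal R) (a : R) (ha : a ∈ I)
    (x : Localization.Away a) (hx : x ∈ BlowUp.affineAlgebra R I a) :
    ∃ (m : ℕ) (y : R), y ∈ I ^ m ∧
      algebraMap R (Localization.Away a) y = x * (algebraMap R (Localization.Away a) a) ^ m := by
  unfold BlowUp.affineAlgebra at hx
  induction hx using Algebra.adjoin_induction with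
  | mem q hq =>
    obtain ⟨x, hxI, rfl⟩ := hq
    refine ⟨1, x, by simpa using hxI, ?_⟩
    rw [pow_one]
    exact (IsLocalization.mk'_spec (Localization.Away a) x ⟨a, Submonoid.mem_powers a⟩).symm
  | algebraMap r =>
    exact ⟨0, r, by simp, by simp⟩
  | add x x' _ _ ih ih' =>
    obtain ⟨m, y, hy, e⟩ := ih
    obtain ⟨m', y', hy', e'⟩ := ih'
    refine ⟨m + m', a ^ m' * y + a ^ m * y', ?_, ?_⟩
    · refine Ideal.add_mem _ ?_ ?_
      · rw [add_comm m m', pow_add]
        exact Ideal.mul_mem_mul (Ideal.pow_mem_pow ha m') hy
      · rw [pow_add]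
        exact Ideal.mul_mem_mul (Ideal.pow_mem_pow ha m) hy'
    · rw [map_add, map_mul, map_mul, map_pow, map_pow, e, e']
      ring
  | mul x x' _ _ ih ih' =>
    obtain ⟨m, y, hy, e⟩ := ih
    obtain ⟨m', y', hy', e'⟩ := ih'
    refine ⟨m + m', y * y', ?_, ?_⟩
    · rw [pow_add]
      exact Ideal.mul_mem_mul hy hy'
    · rw [map_mul, e, e']
      ring


theorem main (B A : Type u) [CommRing B] [CommRing A] [Algebra B A]
    (hq : Function.Surjective (algebraMap B A)) (I : Ideal B) (π : B) (hπ : π ∈ I)
    (ψ : BlowUp.affineAlgebra B I π →+* BlowUp.affineAlgebra A (I.map (algebraMap B A)) (algebraMap B A π))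
    (hψ : ∀ x : BlowUp.affineAlgebra B I π,
      ((ψ x : BlowUp.affineAlgebra A (I.map (algebraMap B A)) (algebraMap B A π)) : Localization.Away (algebraMap B A π)) =
        Localization.awayMap (algebraMap B A) π (x : Localization.Away π)) :
    Function.Surjective ψ ∧
      ∀ x : BlowUp.affineAlgebra B I π, x ∈ RingHom.ker ψ ↔
        ∃ n : ℕ, algebraMap B (BlowUp.affineAlgebra B I π) π ^ n * x ∈
          (RingHom.ker (algebraMap B A)).map (algebraMap B (BlowUp.affineAlgebra B I π)) := by
  have hΦalg : ∀ r : B, Localization.awayMap (algebraMap B A) π (algebraMap B (Localization.Away π) r) =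
      algebraMap A (Localization.Away (algebraMap B A π)) (algebraMap B A r) := by
    intro r
    exact IsLocalization.map_eq _ r
  have hψalg : ∀ r : B, ((ψ (algebraMap B (BlowUp.affineAlgebra B I π) r) :
      BlowUp.affineAlgebra A (I.map (algebraMap B A)) (algebraMap B A π)) : Localization.Away (algebraMap B A π)) =
      algebraMap A (Localization.Away (algebraMap B A π)) (algebraMap B A r) := by
    intro r
    rw [hψ]
    exact hΦalg r
  constructor
  · -- surjectivity
    have key : ∀ z : Localization.Away (algebraMap B A π),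
        z ∈ BlowUp.affineAlgebra A (I.map (algebraMap B A)) (algebraMap B A π) →
        ∃ x : BlowUp.affineAlgebra B I π,
          ((ψ x : BlowUp.affineAlgebra A (I.map (algebraMap B A)) (algebraMap B A π)) : Localization.Away (algebraMap B A π)) = z := by
      intro z hz
      unfold BlowUp.affineAlgebra at hz
      induction hz using Algebra.adjoin_induction with
      | mem q hq' =>
        obtain ⟨xbar, hxbar, rfl⟩ := hq'
        rw [Ideal.mem_map_iff_of_surjective _ hq] at hxbar
        obtain ⟨x, hxI, rfl⟩ := hxbar
        refine ⟨⟨IsLocalization.mk' (Localization.Away π) x ⟨π, Submonoid.mem_powers π⟩,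
          Algebra.subset_adjoin ⟨x, hxI, rfl⟩⟩, ?_⟩
        rw [hψ]
        exact IsLocalization.map_mk' _ _ _
      | algebraMap r =>
        obtain ⟨r₀, rfl⟩ := hq r
        exact ⟨algebraMap B _ r₀, hψalg r₀⟩
      | add z z' _ _ ih ih' =>
        obtain ⟨x, hx⟩ := ih
        obtain ⟨x', hx'⟩ := ih'
        exact ⟨x + x', by rw [map_add, Subalgebra.coe_add, hx, hx']⟩
      | mul z z' _ _ ih ih' =>
        obtain ⟨x, hx⟩ := ih
        obtain ⟨x', hx'⟩ := ih'
        exact ⟨x * x', by rw [map_mul, Subalgebra.coe_mul, hx, hx']⟩
    intro z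
    obtain ⟨x, hx⟩ := key z z.2
    exact ⟨x, Subtype.ext hx⟩
  · intro x
    constructor
    · intro hx
      rw [RingHom.mem_ker] at hx
      obtain ⟨m, y, hy, e⟩ := struct B I π hπ (x : Localization.Away π) x.2
      have h1 := congrArg (Localization.awayMap (algebraMap B A) π) e
      rw [hΦalg, map_mul, ← hψ, hx, Subalgebra.coe_zero, zero_mul] at h1
      rw [IsLocalization.map_eq_zero_iff (Submonoid.powers (algebraMap B A π))] at h1
      obtain ⟨⟨c, l, rfl⟩, hc⟩ := h1
      simp only at hc
      refine ⟨l + m, ?_⟩
      have h2 : algebraMap B (BlowUp.affineAlgebra B I π) π ^ (l + m) * x =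
          algebraMap B (BlowUp.affineAlgebra B I π) (π ^ l * y) := by
        apply Subtype.ext
        rw [Subalgebra.coe_mul, Subalgebra.coe_pow, Subalgebra.coe_algebraMap,
          Subalgebra.coe_algebraMap, map_mul, map_pow, e]
        ring
      rw [h2]
      apply Ideal.mem_map_of_mem
      rw [RingHom.mem_ker, map_mul, map_pow]
      exact hc
    · rintro ⟨n, hn⟩
      have hle : (RingHom.ker (algebraMap B A)).map (algebraMap B (BlowUp.affineAlgebra B I π)) ≤
          RingHom.ker ψ := by
        rw [Ideal.map_le_iff_le_comap]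
        intro j hj
        rw [Ideal.mem_comap, RingHom.mem_ker]
        apply Subtype.ext
        rw [hψalg, (RingHom.mem_ker).mp hj, map_zero, Subalgebra.coe_zero]
      have h1 := hle hn
      rw [RingHom.mem_ker, map_mul, map_pow] at h1
      have h2 := congrArg (Subtype.val) h1
      rw [Subalgebra.coe_mul, Subalgebra.coe_pow, hψalg, Subalgebra.coe_zero] at h2
      have hunit : IsUnit (algebraMap A (Localization.Away (algebraMap B A π)) (algebraMap B A π)) :=
        IsLocalization.Away.algebraMap_isUnit _
      rw [RingHom.mem_ker]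
      apply Subtype.ext
      rw [Subalgebra.coe_zero]
      exact (hunit.pow n).mul_right_eq_zero.mp h2

end Groth.Agent.S12097aux

namespace Groth.Agent.S12097

/-- Néron's blowup is compatible with closed immersions. For a surjective ring map `B → A` with kernel
`J`, an ideal `I ⊆ B` containing `π`, and the affine blowup algebras `B' = B[I/π] ⊆ B_π`, `A' =
A[IA/π] ⊆ A_π`, the canonical map `B' → A'` (the restriction of `B_π → A_π`, given as a datum with
that compatibility) is surjective with kernel the elements `x` such that `π^n x ∈ J B'` for some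
`n`: `A'` is the quotient of `B'/JB'` by its `π`-power torsion. In Néron's situation (`I` the
inverse image of the maximal ideal of `Λ`, `π` a uniformizer) this is the printed functoriality; the
identity holds for any surjection. -/
theorem result (B A : Type u) [CommRing B] [CommRing A] [Algebra B A]
    (hq : Function.Surjective (algebraMap B A)) (I : Ideal B) (π : B) (hπ : π ∈ I)
    (ψ : BlowUp.affineAlgebra B I π →+* BlowUp.affineAlgebra A (I.map (algebraMap B A)) (algebraMap B A π))
    (hψ : ∀ x : BlowUp.affineAlgebra B I π,
      ((ψ x : BlowUp.affineAlgebra A (I.map (algebraMap B A)) (algebraMap B A π)) : Localization.Away (algebraMap B A π)) =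
        Localization.awayMap (algebraMap B A) π (x : Localization.Away π)) :
    Function.Surjective ψ ∧
      ∀ x : BlowUp.affineAlgebra B I π, x ∈ RingHom.ker ψ ↔
        ∃ n : ℕ, algebraMap B (BlowUp.affineAlgebra B I π) π ^ n * x ∈
          (RingHom.ker (algebraMap B A)).map (algebraMap B (BlowUp.affineAlgebra B I π)) := by
  exact Groth.Agent.S12097aux.main B A hq I π hπ ψ hψ

end Groth.Agent.S12097
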