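import Groth.Statements.S12108
import Mathlib
import Groth.Agent.Lib.helper23.TF13

set_option autoImplicit false
open CategoryTheory CategoryTheory.Limits Opposite Groth.Agent.Lib.helper23
universe u
open SGA4

namespace Groth.Agent.S12108

/-- Let `(C, J)` be a small site, `X` an object and `s i : Y i ⟶ X` a family of morphisms indexed by a
small type. The following are equivalent: (i) the family is covering, for every `i` the diagonal of
presheaves `h_{Y i} ⟶ h_{Y i} ×_{h_X} h_{Y i}` becomes an isomorphism under the associated-sheaf
functor, and for all `i ≠ j` the sheaf associated to the presheaf `h_{Y i} ×_{h_X} h_{Y j}` is an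
initial object; (ii) the associated sheaf of `X`, with the maps induced by the `s i`, is a coproduct
of the associated sheaves of the `Y i` in sheaves of sets. -/
theorem result
    {C : Type u} [SmallCategory C] (J : GrothendieckTopology C) {X : C} {ι : Type u}
    (Y : ι → C) (s : ∀ i, Y i ⟶ X) :
    (Sieve.ofArrows Y s ∈ J X ∧
      (∀ i, IsIso ((presheafToSheaf J (Type u)).map (pullback.diagonal (yoneda.map (s i))))) ∧
      (∀ i j, i ≠ j → Nonempty (IsInitial ((presheafToSheaf J (Type u)).obj
        (pullback (yoneda.map (s i)) (yoneda.map (s j))))))) ↔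
    Nonempty (IsColimit (Cofan.mk ((presheafToSheaf J (Type u)).obj (yoneda.obj X))
      (fun i => (presheafToSheaf J (Type u)).map (yoneda.map (s i))))) := by
  -- transport along the exact functor `a`
  have hdiag : ∀ i, IsIso ((presheafToSheaf J (Type u)).map (pullback.diagonal (yoneda.map (s i)))) ↔
      Mono ((presheafToSheaf J (Type u)).map (yoneda.map (s i))) := by
    intro i
    rw [← pullback.isIso_diagonal_iff]
    have e : (presheafToSheaf J (Type u)).map (pullback.diagonal (yoneda.map (s i))) ≫
        (PreservesPullback.iso (presheafToSheaf J (Type u)) (yoneda.map (s i))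
          (yoneda.map (s i))).hom =
        pullback.diagonal ((presheafToSheaf J (Type u)).map (yoneda.map (s i))) := by
      apply pullback.hom_ext
      · rw [Category.assoc, PreservesPullback.iso_hom_fst, ← Functor.map_comp,
          pullback.diagonal_fst, pullback.diagonal_fst, CategoryTheory.Functor.map_id]
      · rw [Category.assoc, PreservesPullback.iso_hom_snd, ← Functor.map_comp,
          pullback.diagonal_snd, pullback.diagonal_snd, CategoryTheory.Functor.map_id]
    rw [← e]
    constructor
    · intro h
      infer_instance
    · intro h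
      exact IsIso.of_isIso_comp_right _ (PreservesPullback.iso (presheafToSheaf J (Type u))
        (yoneda.map (s i)) (yoneda.map (s i))).hom
  have hinit : ∀ i j, Nonempty (IsInitial ((presheafToSheaf J (Type u)).obj
      (pullback (yoneda.map (s i)) (yoneda.map (s j))))) ↔
      Nonempty (IsInitial (pullback ((presheafToSheaf J (Type u)).map (yoneda.map (s i)))
        ((presheafToSheaf J (Type u)).map (yoneda.map (s j))))) := by
    intro i j
    constructor
    · rintro ⟨h⟩
      exact ⟨h.ofIso (PreservesPullback.iso (presheafToSheaf J (Type u)) (yoneda.map (s i))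
        (yoneda.map (s j)))⟩
    · rintro ⟨h⟩
      exact ⟨h.ofIso (PreservesPullback.iso (presheafToSheaf J (Type u)) (yoneda.map (s i))
        (yoneda.map (s j))).symm⟩
  constructor
  · rintro ⟨hcov, hd, hi⟩
    have hdec : TF.IsDecomp (fun i => TF.epsMap J (s i)) := by
      refine ⟨TF.jepi_epsMap_of_covering J s hcov, fun i => (hdiag i).1 (hd i), ?_⟩
      intro i j hij P p q hpq
      obtain ⟨hI⟩ := (hinit i j).1 (hi i j hij)
      exact TF.nonempty_isInitial_of_hom hI (pullback.lift p q hpq)
    exact hdec.nonempty_isColimit
  · rintro ⟨hc⟩
    have hdec : TF.IsDecomp (fun i => TF.epsMap J (s i)) :=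
      TF.isDecomp_cofan (Cofan.mk _ (fun i => TF.epsMap J (s i))) hc
    refine ⟨TF.covering_of_jepi_epsMap J s hdec.jepi, fun i => (hdiag i).2 (hdec.mono i), ?_⟩
    intro i j hij
    rw [hinit]
    exact hdec.disj i j hij _ _ _ pullback.condition

end Groth.Agent.S12108
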