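import Groth.Statements.S12109
import Mathlib
import Groth.Agent.Lib.helper23.IndEq

set_option autoImplicit false
open CategoryTheory CategoryTheory.Limits
universe u
open SGA4

namespace Groth.Agent.S12109

/-- Let `u : C ⥤ C'` be a functor between small categories and `u_!` the left Kan extension functor on
presheaves of sets, whose restriction to ind-representable presheaves is the induced functor `Ind C
⥤ Ind C'`. Then `Ind(u)` is an equivalence — `u_!` is bijective on morphisms between
ind-representable presheaves on `C` and every ind-representable presheaf on `C'` is isomorphic to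
`u_! F` for some ind-representable `F` — if and only if `u` is full and faithful and every object of
`C'` is a retract (direct factor) of an object `u X`. -/
theorem result
    {C : Type u} [SmallCategory C] {C' : Type u} [SmallCategory C'] (u : C ⥤ C') :
    ((∀ (F G : Cᵒᵖ ⥤ Type u), IsIndObject F → IsIndObject G →
        Function.Bijective (fun φ : F ⟶ G => (u.op.lan : (Cᵒᵖ ⥤ Type u) ⥤ (C'ᵒᵖ ⥤ Type u)).map φ)) ∧
      (∀ G' : C'ᵒᵖ ⥤ Type u, IsIndObject G' →
        ∃ F : Cᵒᵖ ⥤ Type u, IsIndObject F ∧
          Nonempty ((u.op.lan : (Cᵒᵖ ⥤ Type u) ⥤ (C'ᵒᵖ ⥤ Type u)).obj F ≅ G'))) ↔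
    ((u.Full ∧ u.Faithful) ∧
      ∀ X' : C', ∃ (X : C) (i : X' ⟶ u.obj X) (r : u.obj X ⟶ X'), i ≫ r = 𝟙 X') := by
  constructor
  · rintro ⟨hbij, hes⟩
    exact ⟨⟨Groth.Agent.Lib.helper23.IndEq.full_of u hbij,
      Groth.Agent.Lib.helper23.IndEq.faithful_of u hbij⟩,
      Groth.Agent.Lib.helper23.IndEq.retract_of u hes⟩
  · rintro ⟨⟨hfull, hfaith⟩, hr⟩
    haveI := hfull
    haveI := hfaith
    refine ⟨?_, ?_⟩
    · intro F G _ _
      exact ((u.op.lanAdjunction (Type u)).fullyFaithfulLOfIsIsoUnit).map_bijective F G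
    · intro G' hG'
      haveI : IsCofiltered G'.Elements :=
        (Groth.Agent.Lib.helper23.IndEq.isIndObject_iff_isCofiltered G').1 hG'
      refine ⟨u.op ⋙ G', ?_, ?_⟩
      · rw [Groth.Agent.Lib.helper23.IndEq.isIndObject_iff_isCofiltered]
        exact Groth.Agent.Lib.helper23.IndEq.isCofiltered_restr u hr G'
      · haveI : IsIso (Groth.Agent.Lib.helper23.IndEq.eps u G') := by
          haveI : ∀ Y, IsIso ((Groth.Agent.Lib.helper23.IndEq.eps u G').app Y) := by
            intro Y
            rw [isIso_iff_bijective]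
            exact ⟨Groth.Agent.Lib.helper23.IndEq.eps_injective u hr G' Y.unop,
              Groth.Agent.Lib.helper23.IndEq.eps_surjective u hr G' Y.unop⟩
          exact NatIso.isIso_of_isIso_app _
        exact ⟨asIso (Groth.Agent.Lib.helper23.IndEq.eps u G')⟩

end Groth.Agent.S12109
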