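import Groth.Statements.S12113
import Mathlib
import Groth.Agent.S8718
import Groth.Agent.S18977
-- import your own Groth.Agent.* helpers here

set_option autoImplicit false
universe u
open CategoryTheory CategoryTheory.Limits MonoidalCategory CartesianMonoidalCategory MonObj AlgebraicGeometry
open SGA7

namespace Groth.Agent.S12113

open CategoryTheory CategoryTheory.Limits AlgebraicGeometry

namespace H5S12113

open MonoidalCategory CartesianMonoidalCategory MonObj Groth.Agent.S8718 Groth.Agent.S18977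

theorem main (S : Scheme.{u})
    (P G E E' : Over S) [GrpObj P] [GrpObj G] [GrpObj E] [GrpObj E']
    (u : G ⟶ E) (v : E ⟶ P) (hex : NonAbH1.IsExactSeq Scheme.fppfPrecoverage u v)
    (u' : G ⟶ E') (v' : E' ⟶ P) (hex' : NonAbH1.IsExactSeq Scheme.fppfPrecoverage u' v')
    (hPP : ∀ c : P ⊗ P ⟶ G, lift (𝟙 P) (toUnit P ≫ η[P]) ≫ c = 1 → lift (toUnit P ≫ η[P]) (𝟙 P) ≫ c = 1 → c = 1)
    (f : E ⟶ E') (hv : f ≫ v' = v) (hu : u ≫ f = u') (h1 : η[E] ≫ f = η[E'])
    (hl : ∀ (T : Over S) (g : T ⟶ G) (x : T ⟶ E), ((g ≫ u) * x) ≫ f = (g ≫ u') * (x ≫ f))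
    (hr : ∀ (T : Over S) (g : T ⟶ G) (x : T ⟶ E), (x * (g ≫ u)) ≫ f = (x ≫ f) * (g ≫ u')) :
    IsMonHom f := by
  obtain ⟨hmu, hmv, huv, hsq, hloc⟩ := hex
  obtain ⟨hmu', hmv', huv', hsq', hloc'⟩ := hex'
  have hlocq := H5S8718.loc_mono Scheme.fppfPrecoverage_le_fpqcPrecoverage hloc
  let δ : E ⊗ E ⟶ E' := ((fst E E * snd E E) ≫ f) * (snd E E ≫ f)⁻¹ * (fst E E ≫ f)⁻¹
  have hδ_pt : ∀ {W : Over S} (p : W ⟶ E ⊗ E), p ≫ δ =
      (((p ≫ fst E E) * (p ≫ snd E E)) ≫ f) * ((p ≫ snd E E) ≫ f)⁻¹ * ((p ≫ fst E E) ≫ f)⁻¹ := by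
    intro W p
    simp only [δ, MonObj.comp_mul, GrpObj.comp_inv, ← Category.assoc]
  have hδv : δ ≫ v' = 1 := by
    simp only [δ, MonObj.mul_comp, GrpObj.inv_comp, Category.assoc, hv]
    rw [mul_inv_cancel_right, mul_inv_cancel]
  obtain ⟨k, hk, -⟩ := H5S8718.ker_lift u' v' huv' hsq' δ hδv
  have hinv : ∀ {W : Over S} (p₁ p₂ : W ⟶ E ⊗ E), p₁ ≫ (v ⊗ₘ v) = p₂ ≫ (v ⊗ₘ v) →
      p₁ ≫ k = p₂ ≫ k := by
    intro W p₁ p₂ h
    have h1' : (p₁ ≫ fst E E) ≫ v = (p₂ ≫ fst E E) ≫ v := by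
      have := congrArg (fun q => q ≫ fst P P) h
      simpa using this
    have h2' : (p₁ ≫ snd E E) ≫ v = (p₂ ≫ snd E E) ≫ v := by
      have := congrArg (fun q => q ≫ snd P P) h
      simpa using this
    obtain ⟨a, ha, -⟩ := H5S8718.kerTr u v hsq _ _ h1'
    obtain ⟨b, hb, -⟩ := H5S8718.kerTr u v hsq _ _ h2'
    apply H5S8718.u_inj u' v' huv' hsq'
    rw [Category.assoc, Category.assoc, hk, hδ_pt, hδ_pt, ← ha, ← hb]
    generalize p₁ ≫ fst E E = x₁ at *
    generalize p₁ ≫ snd E E = y₁ at *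
    -- the conjugate of `a` by `y₁`
    have hcv : (y₁⁻¹ * (a ≫ u) * y₁) ≫ v = 1 := by
      rw [MonObj.mul_comp, MonObj.mul_comp, GrpObj.inv_comp, Category.assoc, huv, MonObj.comp_one,
        _root_.mul_one, inv_mul_cancel]
    obtain ⟨c, hc, -⟩ := H5S8718.ker_lift u v huv hsq _ hcv
    have e_ay : (a ≫ u) * y₁ = y₁ * (c ≫ u) := by rw [hc]; group
    have e1 : x₁ * (a ≫ u) * (y₁ * (b ≫ u)) = x₁ * y₁ * (c ≫ u) * (b ≫ u) := by
      rw [_root_.mul_assoc x₁, ← _root_.mul_assoc (a ≫ u), e_ay]; group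
    have e2 : (a ≫ u') * (y₁ ≫ f) = (y₁ ≫ f) * (c ≫ u') := by
      rw [← hl, ← hr, e_ay]
    have e3 : c ≫ u' = (y₁ ≫ f)⁻¹ * (a ≫ u') * (y₁ ≫ f) := by
      rw [_root_.mul_assoc, e2, inv_mul_cancel_left]
    rw [e1, hr, hr, hr, hr, e3]
    group
  have hloc2 : NonAbH1.IsLocallyTrivialFor Scheme.fpqcPrecoverage
      (Over.mk (v ⊗ₘ v).left : Over (P ⊗ P).left) := by
    rw [MonoidalCategory.tensorHom_def]
    exact H5S18977.part2 (v ▷ E) (P ◁ v) (H5S8718.loc_whiskerRight v E hlocq)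
      (H5S8718.loc_whiskerLeft v P hlocq)
  obtain ⟨kbar, hkbar, -⟩ := H5S8718.desc_over (v ⊗ₘ v) hloc2 k hinv
  have h1f : (1 : E ⟶ E) ≫ f = 1 := by
    rw [Hom.one_def, Category.assoc, h1, ← Hom.one_def]
  have hk1 : lift (𝟙 E) (1 : E ⟶ E) ≫ k = 1 := by
    apply H5S8718.u_inj u' v' huv' hsq'
    rw [Category.assoc, hk, hδ_pt, lift_fst, lift_snd, _root_.mul_one, h1f, inv_one,
      _root_.mul_one, mul_inv_cancel, MonObj.one_comp]
  have hk2 : lift (1 : E ⟶ E) (𝟙 E) ≫ k = 1 := by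
    apply H5S8718.u_inj u' v' huv' hsq'
    rw [Category.assoc, hk, hδ_pt, lift_fst, lift_snd, _root_.one_mul, h1f, inv_one,
      _root_.mul_one, mul_inv_cancel, MonObj.one_comp]
  have hax1 : lift (𝟙 P) (toUnit P ≫ η[P]) ≫ kbar = 1 := by
    apply H5S8718.epi_of_loc v hlocq
    have e1 : v ≫ lift (𝟙 P) (toUnit P ≫ η[P]) = lift (𝟙 E) (1 : E ⟶ E) ≫ (v ⊗ₘ v) := by
      apply CartesianMonoidalCategory.hom_ext
      · simp
      · simp only [Category.assoc, lift_snd, tensorHom_snd, lift_snd_assoc, MonObj.one_comp]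
        rw [Hom.one_def, ← Category.assoc]
        congr 1
        exact toUnit_unique _ _
    rw [← Category.assoc, e1, Category.assoc, hkbar, hk1, MonObj.comp_one]
  have hax2 : lift (toUnit P ≫ η[P]) (𝟙 P) ≫ kbar = 1 := by
    apply H5S8718.epi_of_loc v hlocq
    have e1 : v ≫ lift (toUnit P ≫ η[P]) (𝟙 P) = lift (1 : E ⟶ E) (𝟙 E) ≫ (v ⊗ₘ v) := by
      apply CartesianMonoidalCategory.hom_ext
      · simp only [Category.assoc, lift_fst, tensorHom_fst, lift_fst_assoc, MonObj.one_comp]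
        rw [Hom.one_def, ← Category.assoc]
        congr 1
        exact toUnit_unique _ _
      · simp
    rw [← Category.assoc, e1, Category.assoc, hkbar, hk2, MonObj.comp_one]
  have hkbar1 : kbar = 1 := hPP kbar hax1 hax2
  have hk0 : k = 1 := by rw [← hkbar, hkbar1, MonObj.comp_one]
  have hδ1 : δ = 1 := by rw [← hk, hk0, MonObj.one_comp]
  have hmul : (fst E E * snd E E) ≫ f = (fst E E ≫ f) * (snd E E ≫ f) := by
    have : ((fst E E * snd E E) ≫ f) * (snd E E ≫ f)⁻¹ * (fst E E ≫ f)⁻¹ = 1 := hδ1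
    rw [mul_inv_eq_one, mul_inv_eq_iff_eq_mul] at this
    exact this
  refine ⟨h1, ?_⟩
  rw [MonObj.mul_eq_mul, MonObj.mul_eq_mul, hmul, MonObj.comp_mul, tensorHom_fst, tensorHom_snd]

end H5S12113

/-- Group schemes, fppf site: over a base scheme S, let P and G be S-group schemes with G commutative,
and let u : G → E, v : E → P and u' : G → E', v' : E' → P be homomorphisms forming sequences 1 → G →
E → P → 1 and 1 → G → E' → P → 1 exact for the fppf topology. Suppose every morphism of S-schemes P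
×_S P → G trivial on P × e_P and on e_P × P is trivial. Let f : E → E' be a morphism of S-schemes
over P (f ≫ v' = v) and under G (u ≫ f = u'), preserving the unit section, and compatible with left
and right translations by G: for all points g of G and x of E with values in any S-scheme, f(u(g) x)
= u'(g) f(x) and f(x u(g)) = f(x) u'(g). Then f is a homomorphism of S-group schemes: such
extensions have no non-multiplicative morphisms of their underlying rigidified bitorsors. (The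
published statement is for sheaves of groups on an arbitrary topos and phrased as full faithfulness
of the functor from extensions to rigidified bitorsors; this row is the case of representable
sheaves on the fppf site of S, with G commutative so that the defect of multiplicativity descends to
P ×_S P as in the printed argument. Morphisms to a group scheme form a group; trivial means equal to
its unit.) -/
theorem result (S : Scheme.{u})
    (P G E E' : Over S) [GrpObj P] [GrpObj G] [GrpObj E] [GrpObj E'] [IsCommMonObj G]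
    (u : G ⟶ E) (v : E ⟶ P) (hex : NonAbH1.IsExactSeq Scheme.fppfPrecoverage u v)
    (u' : G ⟶ E') (v' : E' ⟶ P) (hex' : NonAbH1.IsExactSeq Scheme.fppfPrecoverage u' v')
    (hPP : ∀ c : P ⊗ P ⟶ G, lift (𝟙 P) (toUnit P ≫ η[P]) ≫ c = 1 → lift (toUnit P ≫ η[P]) (𝟙 P) ≫ c = 1 → c = 1)
    (f : E ⟶ E') (hv : f ≫ v' = v) (hu : u ≫ f = u') (h1 : η[E] ≫ f = η[E'])
    (hl : ∀ (T : Over S) (g : T ⟶ G) (x : T ⟶ E), ((g ≫ u) * x) ≫ f = (g ≫ u') * (x ≫ f))
    (hr : ∀ (T : Over S) (g : T ⟶ G) (x : T ⟶ E), (x * (g ≫ u)) ≫ f = (x ≫ f) * (g ≫ u')) :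
    IsMonHom f := by
  exact H5S12113.main S P G E E' u v hex u' v' hex' hPP f hv hu h1 hl hr

end Groth.Agent.S12113
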