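import Groth.Statements.S12118
import Mathlib

set_option autoImplicit false
universe u v
open EGA41

namespace Groth.Agent.S12118

/-- Let A be a commutative ring, M an A-module, (M_k)_{k ≥ 0} a decreasing filtration of M by submodules
with M_0 = M and ⋂_k M_k = 0, and f an element of A which is a non-zero-divisor on every graded
piece M_k/M_{k+1} (equivalently on the associated graded module). Then (i) f is a non-zero-divisor
on M, and (ii) M_k ∩ fM = fM_k for every k ≥ 0. -/
theorem result {A : Type u} [CommRing A] {M : Type v} [AddCommGroup M] [Module A M]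
    (F : ℕ → Submodule A M) (hanti : Antitone F) (h0 : F 0 = ⊤) (hsep : ⨅ k, F k = ⊥) (f : A)
    (hreg : ∀ k : ℕ, IsSMulRegular (↥(F k) ⧸ Submodule.comap (F k).subtype (F (k + 1))) f) :
    IsSMulRegular M f ∧ ∀ k : ℕ, F k ⊓ (Ideal.span {f} • (⊤ : Submodule A M)) = Ideal.span {f} • F k := by
  have key : ∀ (k : ℕ) (m : M), m ∈ F k → f • m ∈ F (k + 1) → m ∈ F (k + 1) := by
    intro k m hm hfm
    have h0 : f • (Submodule.Quotient.mk (p := Submodule.comap (F k).subtype (F (k + 1))) (⟨m, hm⟩ : ↥(F k))) =
        f • (0 : ↥(F k) ⧸ Submodule.comap (F k).subtype (F (k + 1))) := by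
      rw [smul_zero, ← Submodule.Quotient.mk_smul, Submodule.Quotient.mk_eq_zero]
      exact hfm
    have h1 := hreg k h0
    rw [Submodule.Quotient.mk_eq_zero] at h1
    exact h1
  have key2 : ∀ (k : ℕ) (m : M), f • m ∈ F k → m ∈ F k := by
    intro k m hfm
    induction k with
    | zero => rw [h0]; trivial
    | succ j ih =>
      have hj : f • m ∈ F j := hanti (Nat.le_succ j) hfm
      exact key j m (ih hj) hfm
  constructor
  · intro m m' hmm
    have hmm' : f • m = f • m' := hmm
    have h1 : f • (m - m') = 0 := by rw [smul_sub, hmm', sub_self]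
    have h2 : m - m' ∈ (⨅ k, F k) := by
      rw [Submodule.mem_iInf]
      intro k
      apply key2
      rw [h1]; exact zero_mem _
    rw [hsep, Submodule.mem_bot] at h2
    exact sub_eq_zero.mp h2
  · intro k
    rw [Submodule.ideal_span_singleton_smul, Submodule.ideal_span_singleton_smul]
    apply le_antisymm
    · rintro x ⟨hx1, hx2⟩
      rw [SetLike.mem_coe, Submodule.mem_smul_pointwise_iff_exists] at hx2
      obtain ⟨m, -, rfl⟩ := hx2
      rw [Submodule.mem_smul_pointwise_iff_exists]
      exact ⟨m, key2 k m hx1, rfl⟩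
    · intro x hx
      rw [Submodule.mem_smul_pointwise_iff_exists] at hx
      obtain ⟨m, hm, rfl⟩ := hx
      refine ⟨(F k).smul_mem f hm, ?_⟩
      rw [SetLike.mem_coe, Submodule.mem_smul_pointwise_iff_exists]
      exact ⟨m, trivial, rfl⟩

end Groth.Agent.S12118
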