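import Groth.Statements.S1212
import Mathlib


set_option autoImplicit false
universe u
open FlatMor

namespace Groth.Agent.S1212

open TensorProduct IsLocalRing in
/-- Let R be a local ring, S an R-algebra and N an S-module which is projective as an R-module, such
that the closed fibre ring of S is Noetherian and the closed fibre module of N is finite over it.
Then every prime q of S, over p in R, which is an associated prime (the annihilator of an element)
of the S-module N ⊗_R κ(p) satisfies q + 𝔪_R S ≠ S. -/
theorem result {R S : Type u} [CommRing R] [IsLocalRing R] [CommRing S] [Algebra R S]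
    (N : Type u) [AddCommGroup N] [Module S N] [Module R N] [IsScalarTower R S N] [Module.Projective R N]
    [IsNoetherianRing ((maximalIdeal R).Fiber S)]
    [Module.Finite ((maximalIdeal R).Fiber S) (FlatCA.fiberMod (maximalIdeal R) S N)]
    (p : Ideal R) [p.IsPrime] (q : Ideal S) [q.IsPrime] [q.LiesOver p]
    (hq : q ∈ FlatCA.ass S (N ⊗[R] p.ResidueField)) :
    q ⊔ (maximalIdeal R).map (algebraMap R S) ≠ ⊤ := by
  classical
  intro htop
  obtain ⟨hqprime, z, hz⟩ := hq
  have h1 : (1 : S) ∈ q ⊔ (maximalIdeal R).map (algebraMap R S) := by rw [htop]; trivial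
  obtain ⟨g, hg, h, hh, hgh⟩ := Submodule.mem_sup.1 h1
  have hgz : g • z = 0 := by
    have h2 : g ∈ (Submodule.span S {z}).annihilator := hz ▸ hg
    exact (Submodule.mem_annihilator_span_singleton z g).1 h2
  have hz0 : z ≠ 0 := by
    rintro rfl
    apply hqprime.ne_top
    rw [hz]
    simp [Submodule.annihilator_bot]
  have hhz : h • z = z := by
    have h2 : (g + h) • z = z := by rw [hgh, one_smul]
    rwa [add_smul, hgz, zero_add] at h2
  -- multiplication by h as an R-linear endomorphism of N
  let φ : N →ₗ[R] N := (LinearMap.lsmul S N h).restrictScalars R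
  have hact : ∀ y : N ⊗[R] p.ResidueField, h • y = (LinearMap.rTensor p.ResidueField φ) y := by
    intro y
    induction y using TensorProduct.induction_on with
    | zero => simp
    | tmul n k => simp [φ, TensorProduct.smul_tmul']
    | add x y hx hy => rw [smul_add, map_add, hx, hy]
  have hφ' : ∀ a ∈ (maximalIdeal R).map (algebraMap R S), ∀ n : N,
      a • n ∈ (maximalIdeal R • ⊤ : Submodule R N) := by
    intro a ha
    induction ha using Submodule.span_induction with
    | mem x hx =>
      obtain ⟨r, hr, rfl⟩ := hx
      intro n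
      rw [algebraMap_smul]
      exact Submodule.smul_mem_smul hr trivial
    | zero => intro n; simp
    | add x y _ _ hx hy => intro n; rw [add_smul]; exact add_mem (hx n) (hy n)
    | smul b x _ hx => intro n; rw [smul_eq_mul, mul_comm, mul_smul]; exact hx (b • n)
  have hφ : ∀ n : N, φ n ∈ (maximalIdeal R • ⊤ : Submodule R N) := fun n => hφ' h hh n
  obtain ⟨σ, hσ⟩ := Module.projective_def'.1 (inferInstance : Module.Projective R N)
  let π : (N →₀ R) →ₗ[R] N := Finsupp.linearCombination R id
  let e := TensorProduct.finsuppScalarLeft R p.ResidueField N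
  let u := LinearMap.rTensor p.ResidueField σ z
  have hzu : LinearMap.rTensor p.ResidueField π u = z := by
    show LinearMap.rTensor p.ResidueField π (LinearMap.rTensor p.ResidueField σ z) = z
    rw [← LinearMap.comp_apply, ← LinearMap.rTensor_comp, hσ, LinearMap.rTensor_id]
    rfl
  let Ψ : (N →₀ R) →ₗ[R] (N →₀ R) := σ ∘ₗ φ ∘ₗ π
  have huΨ : LinearMap.rTensor p.ResidueField Ψ u = u := by
    show LinearMap.rTensor p.ResidueField (σ ∘ₗ φ ∘ₗ π) u = u
    rw [LinearMap.rTensor_comp, LinearMap.rTensor_comp, LinearMap.comp_apply, LinearMap.comp_apply,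
      hzu, ← hact, hhz]
  let w := e u
  have hu' : u = w.sum (fun n k => (Finsupp.single n (1:R)) ⊗ₜ[R] k) := by
    have h2 : e.symm w = u := e.symm_apply_apply u
    rw [← h2]
    conv_lhs => rw [← Finsupp.sum_single w]
    rw [map_finsuppSum]
    simp [e, TensorProduct.finsuppScalarLeft_symm_apply_single]
  have hcoord : ∀ n0, w n0 = w.sum (fun n k => (Ψ (Finsupp.single n 1) n0) • k) := by
    intro n0
    have h3 : w n0 = e (LinearMap.rTensor p.ResidueField Ψ u) n0 := by rw [huΨ]
    rw [h3]
    conv_lhs => rw [hu']
    rw [map_finsuppSum, map_finsuppSum, Finsupp.sum_apply]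
    simp [e, TensorProduct.finsuppScalarLeft_apply_tmul_apply]
  have hcoordm : ∀ f ∈ (maximalIdeal R • ⊤ : Submodule R (N →₀ R)), ∀ n0, f n0 ∈ maximalIdeal R := by
    intro f hf n0
    refine Submodule.smul_induction_on hf ?_ ?_
    · intro r hr f _
      rw [Finsupp.smul_apply, smul_eq_mul]
      exact Ideal.mul_mem_right _ _ hr
    · intro x y hx hy
      rw [Finsupp.add_apply]
      exact add_mem hx hy
  have ha : ∀ n n0, Ψ (Finsupp.single n 1) n0 ∈ maximalIdeal R := by
    intro n n0
    apply hcoordm
    have h2 := hφ (π (Finsupp.single n 1))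
    have h3 : σ (φ (π (Finsupp.single n 1))) ∈ Submodule.map σ (maximalIdeal R • ⊤) :=
      Submodule.mem_map_of_mem h2
    rw [Submodule.map_smul''] at h3
    exact Submodule.smul_mono le_rfl le_top h3
  let c : Submodule R p.ResidueField := Submodule.span R (Set.range w)
  have hcfg : c.FG := Submodule.fg_span (Finsupp.finite_range w)
  have hle : c ≤ maximalIdeal R • c := by
    apply Submodule.span_le.2
    rintro _ ⟨n0, rfl⟩
    rw [SetLike.mem_coe, hcoord n0, Finsupp.sum]
    apply Submodule.sum_mem
    intro n _
    exact Submodule.smul_mem_smul (ha n n0) (Submodule.subset_span ⟨n, rfl⟩)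
  have hc : c = ⊥ :=
    Submodule.eq_bot_of_le_smul_of_le_jacobson_bot _ _ hcfg hle (IsLocalRing.maximalIdeal_le_jacobson _)
  have hw0 : w = 0 := by
    ext n
    have h2 : w n ∈ c := Submodule.subset_span ⟨n, rfl⟩
    rw [hc] at h2
    simpa using h2
  have hu0 : u = 0 := by
    have h2 : e u = e 0 := by rw [map_zero]; exact hw0
    exact e.injective h2
  apply hz0
  rw [← hzu, hu0, map_zero]

end Groth.Agent.S1212
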