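import Groth.Statements.S12121
import Groth.Agent.Lib.helper9.Depth28
-- import your own Groth.Agent.* helpers here

set_option autoImplicit false
universe u
open EGA4

namespace Groth.Agent.S12121

section helpers

open Groth.Agent.Lib.helper9.Depth LocCoh RingTheory.Sequence

variable {B : Type u} [CommRing B] [IsNoetherianRing B] (N : Type u) [AddCommGroup N] [Module B N]
  [Module.Finite B N]

/-- no inclusions among associated primes iff `(S_1)`. -/
lemma noIncl_iff_hasSk_one :
    (∀ p ∈ associatedPrimes B N, ∀ q ∈ associatedPrimes B N, p ≤ q → p = q) ↔
      HasSk 1 B N := by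
  rw [← noEmbedded_iff_hasSk_one]
  constructor
  · intro h q hq
    have hqprime : q.IsPrime := hq.isPrime
    have hann : Module.annihilator B N ≤ q := by
      rw [← Submodule.annihilator_top]
      exact IsAssociatedPrime.annihilator_le hq
    obtain ⟨p, hp, hpq⟩ := Ideal.exists_minimalPrimes_le hann
    have hpass : p ∈ associatedPrimes B N :=
      Module.associatedPrimes.minimalPrimes_annihilator_subset_associatedPrimes B N hp
    rw [← h p hpass q hq hpq]
    exact hp
  · intro h p hp q hq hpq
    have h1 := h p hp
    have h2 := h q hq
    exact le_antisymm hpq (h2.2 ⟨h1.1.1, h1.1.2⟩ hpq)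

omit [IsNoetherianRing B] [Module.Finite B N] in
lemma hasSk_mono {j k : ℕ} (hjk : j ≤ k) (h : HasSk k B N) : HasSk j B N := by
  intro p _
  refine le_trans (min_le_min_right _ ?_) (h p)
  exact_mod_cast hjk

end helpers

/-- Let A be a Noetherian ring, M a finite A-module (a coherent sheaf on X = Spec A) and k ≥ 1. Then M
has property (S_k) — depth M_p ≥ min(k, dim M_p) at every prime p — if and only if, for every basic
open set D(g) of X, every integer r < k and every M_g-regular sequence f_1, …, f_r in A_g, the
module M_g/(f_1, …, f_r)M_g has no embedded associated primes, i.e. no associated prime of it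
strictly contains another one. (The published statement quantifies over all open subsets of a
locally Noetherian scheme; both sides being local, over an affine scheme the basic open sets
suffice.) -/
theorem result (k : ℕ) (hk : 1 ≤ k) (A : Type u) [CommRing A] [IsNoetherianRing A]
    (M : Type u) [AddCommGroup M] [Module A M] [Module.Finite A M] :
    LocCoh.HasSk k A M ↔
      ∀ (g : A) (rs : List (Localization.Away g)), rs.length < k →
        RingTheory.Sequence.IsWeaklyRegular (LocalizedModule (Submonoid.powers g) M) rs →
        ∀ p ∈ associatedPrimes (Localization.Away g)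
            (LocalizedModule (Submonoid.powers g) M ⧸
              (Ideal.ofList rs • (⊤ : Submodule (Localization.Away g) (LocalizedModule (Submonoid.powers g) M)))),
          ∀ q ∈ associatedPrimes (Localization.Away g)
            (LocalizedModule (Submonoid.powers g) M ⧸
              (Ideal.ofList rs • (⊤ : Submodule (Localization.Away g) (LocalizedModule (Submonoid.powers g) M)))),
            p ≤ q → p = q := by
  classical
  have hNoeth : ∀ g : A, IsNoetherianRing (Localization.Away g) := fun g =>
    IsLocalization.isNoetherianRing (Submonoid.powers g) _ inferInstance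
  constructor
  · intro h g rs hlen hreg
    haveI := hNoeth g
    have h1 : LocCoh.HasSk k (Localization.Away g) (LocalizedModule (Submonoid.powers g) M) :=
      Groth.Agent.Lib.helper9.Depth.hasSk_localization (Submonoid.powers g) M h
    have h2 := Groth.Agent.Lib.helper9.Depth.hasSk_quot_ofList rs h1 hreg
    have h3 := hasSk_mono _ (show 1 ≤ k - rs.length by omega) h2
    exact (noIncl_iff_hasSk_one _).mpr h3
  · intro hC p _
    by_cases hMp : Subsingleton (LocalizedModule p.primeCompl M)
    · rw [Module.supportDim_eq_bot_of_subsingleton, min_eq_right bot_le]
      exact bot_le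
    rw [not_subsingleton_iff_nontrivial] at hMp
    obtain ⟨nd, hd⟩ := Groth.Agent.Lib.helper9.SemiLocalDim.exists_nat_eq_supportDim
      (Localization.AtPrime p) (LocalizedModule p.primeCompl M)
    obtain ⟨ne, he⟩ := Groth.Agent.Lib.helper9.Depth.exists_nat_depth
      (R := Localization.AtPrime p) (LocalizedModule p.primeCompl M)
    rw [hd, he, Groth.Agent.Lib.helper9.Depth.natCast_min_le_iff]
    by_contra hcon
    have hek : ne < k := by omega
    have hed : ne < nd := by omega
    -- a maximal regular sequence of `M_p`, spread out to `D(g)`
    obtain ⟨xs, hlen, hxs, hreg⟩ :=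
      Groth.Agent.Lib.helper9.Depth.exists_isWeaklyRegular_of_le_depth_localization p M ne he.ge
    have hreg' : RingTheory.Sequence.IsWeaklyRegular (LocalizedModule p.primeCompl M)
        (xs.map (algebraMap A (Localization.AtPrime p))) :=
      (RingTheory.Sequence.isWeaklyRegular_map_algebraMap_iff (Localization.AtPrime p) _ xs).mpr hreg
    obtain ⟨g, hgp, hg⟩ :=
      Groth.Agent.Lib.helper9.Depth.exists_notMem_isWeaklyRegular_away p xs M hreg'
    have hregg := hg g dvd_rfl
    haveI := hNoeth g
    set rs := xs.map (algebraMap A (Localization.Away g)) with hrs
    have hrslen : rs.length = ne := by rw [hrs, List.length_map, hlen]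
    have hS1 := (noIncl_iff_hasSk_one _).mp (hC g rs (by omega) hregg)
    -- the prime `P = p A_g`
    have hdisj : Disjoint (Submonoid.powers g : Set A) (p : Set A) := by
      rw [Set.disjoint_left]
      rintro x ⟨n, rfl⟩ hx
      exact hgp ((inferInstance : p.IsPrime).mem_of_pow_mem n hx)
    haveI hPprime : (p.map (algebraMap A (Localization.Away g))).IsPrime :=
      IsLocalization.isPrime_of_isPrime_disjoint (Submonoid.powers g) _ _ inferInstance hdisj
    have hcomap : (p.map (algebraMap A (Localization.Away g))).comap
        (algebraMap A (Localization.Away g)) = p :=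
      IsLocalization.under_map_of_isPrime_disjoint (Submonoid.powers g) _ inferInstance hdisj
    obtain ⟨t1, t2⟩ := Groth.Agent.Lib.helper9.Depth.depth_supportDim_localization_localization'
      (Submonoid.powers g) M (p.map (algebraMap A (Localization.Away g))) p hcomap
    set P := p.map (algebraMap A (Localization.Away g)) with hP
    haveI hMP : Nontrivial (LocalizedModule P.primeCompl
        (LocalizedModule (Submonoid.powers g) M)) := by
      rw [← Module.supportDim_ne_bot_iff_nontrivial (Localization.AtPrime P), t2, hd]
      exact WithBot.coe_ne_bot
    -- the sequence in `(A_g)_P`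
    have hregP := hregg.of_isLocalizedModule (Localization.AtPrime P) P.primeCompl
      (LocalizedModule.mkLinearMap P.primeCompl (LocalizedModule (Submonoid.powers g) M))
    have hmemP : ∀ r ∈ rs.map (algebraMap (Localization.Away g) (Localization.AtPrime P)),
        r ∈ IsLocalRing.maximalIdeal (Localization.AtPrime P) := by
      intro r hr
      obtain ⟨a, ha, rfl⟩ := List.mem_map.mp hr
      obtain ⟨x, hx, rfl⟩ := List.mem_map.mp ha
      exact (IsLocalization.AtPrime.to_map_mem_maximal_iff (Localization.AtPrime P) P _).mpr
        (Ideal.mem_map_of_mem _ (hxs x hx))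
    have e1 := Groth.Agent.Lib.helper9.Depth.quotLocEquiv P
      (LocalizedModule (Submonoid.powers g) M) (Ideal.ofList rs)
    rw [Ideal.map_ofList] at e1
    have hdepth := Groth.Agent.Lib.helper9.Depth.idealDepth_quot_ofList_add_length
      (I := IsLocalRing.maximalIdeal (Localization.AtPrime P))
      (rs.map (algebraMap (Localization.Away g) (Localization.AtPrime P)))
      (LocalizedModule P.primeCompl (LocalizedModule (Submonoid.powers g) M))
      (Groth.Agent.Lib.helper9.Depth.maximalIdeal_smul_top_ne_top
        (R := Localization.AtPrime P) _) hregP hmemP
    have hdim := Groth.Agent.Lib.helper9.Depth.supportDim_quot_ofList_add_length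
      (R := Localization.AtPrime P)
      (M := LocalizedModule P.primeCompl (LocalizedModule (Submonoid.powers g) M))
      (rs.map (algebraMap (Localization.Away g) (Localization.AtPrime P))) hmemP hregP
    have hSP := hS1 P
    unfold LocCoh.depth at hSP t1 he
    rw [Groth.Agent.Lib.helper9.Depth.idealDepth_congr _ e1,
      Module.supportDim_eq_of_equiv e1] at hSP
    rw [t1, he, List.length_map, hrslen] at hdepth
    rw [t2, hd, List.length_map, hrslen] at hdim
    -- extract numbers
    have hdep0 : LocCoh.idealDepth (IsLocalRing.maximalIdeal (Localization.AtPrime P))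
        (LocalizedModule P.primeCompl (LocalizedModule (Submonoid.powers g) M) ⧸
          Ideal.ofList (rs.map (algebraMap (Localization.Away g) (Localization.AtPrime P))) •
            (⊤ : Submodule (Localization.AtPrime P)
              (LocalizedModule P.primeCompl (LocalizedModule (Submonoid.powers g) M)))) = 0 := by
      have : LocCoh.idealDepth (IsLocalRing.maximalIdeal (Localization.AtPrime P))
          (LocalizedModule P.primeCompl (LocalizedModule (Submonoid.powers g) M) ⧸
            Ideal.ofList (rs.map (algebraMap (Localization.Away g) (Localization.AtPrime P))) •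
              (⊤ : Submodule (Localization.AtPrime P)
                (LocalizedModule P.primeCompl (LocalizedModule (Submonoid.powers g) M)))) +
            (ne : ℕ∞) = 0 + ne := by
        rw [zero_add]; exact hdepth
      exact WithTop.add_right_cancel (ENat.natCast_ne_top ne) this
    rw [hdep0] at hSP
    rcases Groth.Agent.Lib.helper9.Depth.supportDim_eq_bot_or_nat (R := Localization.AtPrime P)
      (LocalizedModule P.primeCompl (LocalizedModule (Submonoid.powers g) M) ⧸
          Ideal.ofList (rs.map (algebraMap (Localization.Away g) (Localization.AtPrime P))) •
            (⊤ : Submodule (Localization.AtPrime P)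
              (LocalizedModule P.primeCompl (LocalizedModule (Submonoid.powers g) M))))
      with hb | ⟨nq, hnq⟩
    · rw [hb] at hdim
      simp at hdim
    · rw [hnq] at hdim hSP
      have e2 : nq + ne = nd := by exact_mod_cast hdim
      have e3 : min 1 nq ≤ 0 := by
        have := (Groth.Agent.Lib.helper9.Depth.natCast_min_le_iff 1 nq 0).mp (by exact_mod_cast hSP)
        exact this
      omega

end Groth.Agent.S12121
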