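import Groth.Statements.S12127
import Mathlib

set_option autoImplicit false
universe u
open EGA43

namespace Groth.Agent.S12127aux

open Set

variable {X Y : Type u} [TopologicalSpace X] [TopologicalSpace Y]

/-- separation of a point from a finite union of locally closed sets by a locally closed set -/
lemma sep (y : Y) (T' : Set (Set Y)) (hfin : T'.Finite) :
    (∀ t ∈ T', IsLocallyClosed t) → y ∉ ⋃₀ T' → ∀ L₀ : Set Y, IsLocallyClosed L₀ → y ∈ L₀ →
    ∃ L' : Set Y, IsLocallyClosed L' ∧ y ∈ L' ∧ L' ⊆ L₀ ∧ L' ∩ ⋃₀ T' = ∅ := by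
  induction T', hfin using Set.Finite.induction_on with
  | empty =>
    intro _ _ L₀ hL₀ hy
    exact ⟨L₀, hL₀, hy, subset_rfl, by simp⟩
  | insert hnot hfin ih =>
    rename_i t s
    intro hlc hy L₀ hL₀ hyL₀
    have hy' : y ∉ ⋃₀ s := fun h => hy (by
      rw [sUnion_insert]; exact Or.inr h)
    have hyt : y ∉ t := fun h => hy (by
      rw [sUnion_insert]; exact Or.inl h)
    obtain ⟨L₁, hL₁, hyL₁, hsub, hdisj⟩ := ih (fun t' ht' => hlc t' (mem_insert_of_mem _ ht')) hy' L₀ hL₀ hyL₀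
    obtain ⟨U, C, hU, hC, rfl⟩ := hlc t (mem_insert _ _)
    by_cases hyC : y ∈ C
    · have hyU : y ∉ U := fun h => hyt ⟨h, hyC⟩
      refine ⟨L₁ ∩ Uᶜ, hL₁.inter hU.isClosed_compl.isLocallyClosed, ⟨hyL₁, hyU⟩,
        inter_subset_left.trans hsub, ?_⟩
      rw [sUnion_insert, inter_union_distrib_left]
      have h1 : L₁ ∩ Uᶜ ∩ (U ∩ C) = ∅ := by
        ext z; simp only [mem_inter_iff, mem_compl_iff, mem_empty_iff_false, iff_false]; tauto
      have h2 : L₁ ∩ Uᶜ ∩ ⋃₀ s = ∅ := by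
        apply subset_eq_empty _ hdisj
        exact inter_subset_inter_left _ inter_subset_left
      rw [h1, h2, union_empty]
    · refine ⟨L₁ ∩ Cᶜ, hL₁.inter hC.isOpen_compl.isLocallyClosed, ⟨hyL₁, hyC⟩,
        inter_subset_left.trans hsub, ?_⟩
      rw [sUnion_insert, inter_union_distrib_left]
      have h1 : L₁ ∩ Cᶜ ∩ (U ∩ C) = ∅ := by
        ext z; simp only [mem_inter_iff, mem_compl_iff, mem_empty_iff_false, iff_false]; tauto
      have h2 : L₁ ∩ Cᶜ ∩ ⋃₀ s = ∅ := by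
        apply subset_eq_empty _ hdisj
        exact inter_subset_inter_left _ inter_subset_left
      rw [h1, h2, union_empty]


section quasi
variable (f : X → Y) (hf : Continuous f)
  (hsurj : ∀ W : Set X, IsOpen W → ∃ U : Set Y, IsOpen U ∧ f ⁻¹' U = W)
  (hinj : ∀ U U' : Set Y, IsOpen U → IsOpen U' → f ⁻¹' U = f ⁻¹' U' → U = U')
include hf hsurj hinj

/-- very density -/
lemma vd (L : Set Y) (hL : IsLocallyClosed L) (h : f ⁻¹' L = ∅) : L = ∅ := by
  obtain ⟨U, C, hU, hC, rfl⟩ := hL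
  have h1 : f ⁻¹' (U ∩ Cᶜ) = f ⁻¹' U := by
    ext x
    simp only [mem_preimage, mem_inter_iff, mem_compl_iff]
    constructor
    · exact fun h => h.1
    · intro hx
      refine ⟨hx, fun hc => ?_⟩
      have : x ∈ f ⁻¹' (U ∩ C) := ⟨hx, hc⟩
      rw [h] at this
      exact this
  have h2 := hinj _ _ (hU.inter hC.isOpen_compl) hU h1
  ext z
  simp only [mem_inter_iff, mem_empty_iff_false, iff_false]
  rintro ⟨hzU, hzC⟩
  have : z ∈ U ∩ Cᶜ := by rw [h2]; exact hzU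
  exact this.2 hzC

/-- the comparison lemma -/
lemma sub (Z Z' : Set Y)
    (ha : ∀ y ∈ Z, ∃ L₀ : Set Y, IsLocallyClosed L₀ ∧ y ∈ L₀ ∧ L₀ ⊆ Z)
    (hb : ∀ y : Y, ∃ V : Set Y, IsOpen V ∧ y ∈ V ∧ ∃ T' : Set (Set Y), T'.Finite ∧
      (∀ t ∈ T', IsLocallyClosed t) ∧ Z' ∩ V = ⋃₀ T')
    (h : f ⁻¹' Z ⊆ f ⁻¹' Z') : Z ⊆ Z' := by
  intro y hy
  by_contra hyZ'
  obtain ⟨L₀, hL₀, hyL₀, hL₀Z⟩ := ha y hy
  obtain ⟨V, hV, hyV, T', hfin, hlc, hT'⟩ := hb y
  have hyT' : y ∉ ⋃₀ T' := by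
    rw [← hT']
    exact fun h => hyZ' h.1
  obtain ⟨L', hL', hyL', hsub, hdisj⟩ := sep y T' hfin hlc hyT' (L₀ ∩ V)
    (hL₀.inter hV.isLocallyClosed) ⟨hyL₀, hyV⟩
  have hempty : f ⁻¹' L' = ∅ := by
    ext x
    simp only [mem_preimage, mem_empty_iff_false, iff_false]
    intro hx
    have h1 : f x ∈ Z := hL₀Z (hsub hx).1
    have h2 : f x ∈ Z' := h h1
    have h3 : f x ∈ ⋃₀ T' := by rw [← hT']; exact ⟨h2, (hsub hx).2⟩
    have : f x ∈ L' ∩ ⋃₀ T' := ⟨hx, h3⟩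
    rw [hdisj] at this
    exact this
  have := vd f hf hsurj hinj L' hL' hempty
  rw [this] at hyL'
  exact hyL'

/-- closed sets descend -/
lemma closed_surj (C : Set X) (hC : IsClosed C) : ∃ C' : Set Y, IsClosed C' ∧ f ⁻¹' C' = C := by
  obtain ⟨U, hU, hUC⟩ := hsurj Cᶜ hC.isOpen_compl
  refine ⟨Uᶜ, hU.isClosed_compl, ?_⟩
  rw [preimage_compl, hUC, compl_compl]

/-- locally closed sets descend -/
lemma lc_surj (t : Set X) (ht : IsLocallyClosed t) :
    ∃ t' : Set Y, IsLocallyClosed t' ∧ f ⁻¹' t' = t := by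
  obtain ⟨U, C, hU, hC, rfl⟩ := ht
  obtain ⟨U', hU', hUU⟩ := hsurj U hU
  obtain ⟨C', hC', hCC⟩ := closed_surj f hf hsurj hinj C hC
  exact ⟨U' ∩ C', ⟨U', C', hU', hC', rfl⟩, by rw [preimage_inter, hUU, hCC]⟩

/-- finite unions of locally closed sets descend -/
lemma qc_surj (T : Set (Set X)) (hfin : T.Finite) (hlc : ∀ t ∈ T, IsLocallyClosed t) :
    ∃ T' : Set (Set Y), T'.Finite ∧ (∀ t ∈ T', IsLocallyClosed t) ∧ f ⁻¹' (⋃₀ T') = ⋃₀ T := by
  classical
  have hch : ∀ t : Set X, ∃ t' : Set Y, t ∈ T → (IsLocallyClosed t' ∧ f ⁻¹' t' = t) := by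
    intro t
    by_cases ht : t ∈ T
    · obtain ⟨t', h1, h2⟩ := lc_surj f hf hsurj hinj t (hlc t ht)
      exact ⟨t', fun _ => ⟨h1, h2⟩⟩
    · exact ⟨∅, fun h => absurd h ht⟩
  choose g hg using hch
  refine ⟨g '' T, hfin.image g, ?_, ?_⟩
  · rintro _ ⟨t, ht, rfl⟩
    exact (hg t ht).1
  · ext x
    simp only [mem_preimage, mem_sUnion, mem_image, exists_exists_and_eq_and]
    constructor
    · rintro ⟨t, ht, hx⟩
      refine ⟨t, ht, ?_⟩
      rw [← (hg t ht).2]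
      exact hx
    · rintro ⟨t, ht, hx⟩
      refine ⟨t, ht, ?_⟩
      rw [← (hg t ht).2] at hx
      exact hx

end quasi


/-- `Y`-level formulation of local quasi-constructibility -/
def LQC (Z : Set Y) : Prop := ∀ y : Y, ∃ V : Set Y, IsOpen V ∧ y ∈ V ∧ ∃ T' : Set (Set Y),
  T'.Finite ∧ (∀ t ∈ T', IsLocallyClosed t) ∧ Z ∩ V = ⋃₀ T'

lemma lqc_iff (Z : Set Y) : (∀ y : Y, ∃ V : Set Y, IsOpen V ∧ y ∈ V ∧
    ∃ T : Set (Set V), T.Finite ∧ (∀ t ∈ T, IsLocallyClosed t) ∧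
      (Subtype.val ⁻¹' Z : Set V) = ⋃₀ T) ↔ LQC Z := by
  constructor
  · intro h y
    obtain ⟨V, hV, hyV, T, hfin, hlc, hT⟩ := h y
    refine ⟨V, hV, hyV, (fun t : Set V => Subtype.val '' t) '' T, hfin.image _, ?_, ?_⟩
    · rintro _ ⟨t, ht, rfl⟩
      exact (hlc t ht).image Topology.IsInducing.subtypeVal
        (by rw [Subtype.range_coe]; exact hV.isLocallyClosed)
    · ext z
      simp only [mem_inter_iff, mem_sUnion, mem_image, exists_exists_and_eq_and]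
      constructor
      · rintro ⟨hzZ, hzV⟩
        have : (⟨z, hzV⟩ : V) ∈ (Subtype.val ⁻¹' Z : Set V) := hzZ
        rw [hT] at this
        obtain ⟨t, ht, hzt⟩ := this
        exact ⟨t, ht, ⟨⟨z, hzV⟩, hzt, rfl⟩⟩
      · rintro ⟨t, ht, ⟨w, hwt, rfl⟩⟩
        have : w ∈ ⋃₀ T := ⟨t, ht, hwt⟩
        rw [← hT] at this
        exact ⟨this, w.2⟩
  · intro h y
    obtain ⟨V, hV, hyV, T', hfin, hlc, hT'⟩ := h y
    refine ⟨V, hV, hyV, (fun t' : Set Y => (Subtype.val ⁻¹' t' : Set V)) '' T', hfin.image _, ?_, ?_⟩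
    · rintro _ ⟨t', ht', rfl⟩
      exact (hlc t' ht').preimage continuous_subtype_val
    · ext w
      simp only [mem_preimage, mem_sUnion, mem_image, exists_exists_and_eq_and]
      constructor
      · intro hw
        have : (w : Y) ∈ Z ∩ V := ⟨hw, w.2⟩
        rw [hT'] at this
        obtain ⟨t', ht', hwt'⟩ := this
        exact ⟨t', ht', hwt'⟩
      · rintro ⟨t', ht', hwt'⟩
        have : (w : Y) ∈ ⋃₀ T' := ⟨t', ht', hwt'⟩
        rw [← hT'] at this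
        exact this.1

lemma lqc_of_qc (Z : Set Y) (h : ∃ T : Set (Set Y), T.Finite ∧ (∀ t ∈ T, IsLocallyClosed t) ∧ Z = ⋃₀ T) :
    LQC Z := by
  obtain ⟨T, hfin, hlc, rfl⟩ := h
  intro y
  exact ⟨univ, isOpen_univ, mem_univ y, T, hfin, hlc, inter_univ _⟩

lemma lqc_a (Z : Set Y) (h : LQC Z) :
    ∀ y ∈ Z, ∃ L₀ : Set Y, IsLocallyClosed L₀ ∧ y ∈ L₀ ∧ L₀ ⊆ Z := by
  intro y hy
  obtain ⟨V, hV, hyV, T', hfin, hlc, hT'⟩ := h y
  have : y ∈ ⋃₀ T' := by rw [← hT']; exact ⟨hy, hyV⟩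
  obtain ⟨t, ht, hyt⟩ := this
  refine ⟨t, hlc t ht, hyt, ?_⟩
  intro z hz
  have : z ∈ ⋃₀ T' := ⟨t, ht, hz⟩
  rw [← hT'] at this
  exact this.1

lemma preimage_sUnion_image (f : X → Y) (T : Set (Set Y)) :
    f ⁻¹' (⋃₀ T) = ⋃₀ ((fun t => f ⁻¹' t) '' T) := by
  ext x
  simp only [mem_preimage, mem_sUnion, mem_image, exists_exists_and_eq_and]


theorem main (f : X → Y) (hf : Continuous f)
    (hq : Function.Bijective (fun U : TopologicalSpace.Opens Y =>
      (⟨f ⁻¹' (U : Set Y), U.isOpen.preimage hf⟩ : TopologicalSpace.Opens X))) :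
    Set.BijOn (fun Z : Set Y => f ⁻¹' Z)
        {Z : Set Y | ∃ T : Set (Set Y), T.Finite ∧ (∀ t ∈ T, IsLocallyClosed t) ∧ Z = ⋃₀ T}
        {Z : Set X | ∃ T : Set (Set X), T.Finite ∧ (∀ t ∈ T, IsLocallyClosed t) ∧ Z = ⋃₀ T} ∧
      Set.BijOn (fun Z : Set Y => f ⁻¹' Z) {Z : Set Y | LQC Z} {Z : Set X | LQC Z} := by
  have hsurj : ∀ W : Set X, IsOpen W → ∃ U : Set Y, IsOpen U ∧ f ⁻¹' U = W := by
    intro W hW
    obtain ⟨U, hU⟩ := hq.2 ⟨W, hW⟩
    exact ⟨U.1, U.2, congrArg (fun O : TopologicalSpace.Opens X => (O : Set X)) hU⟩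
  have hinj : ∀ U U' : Set Y, IsOpen U → IsOpen U' → f ⁻¹' U = f ⁻¹' U' → U = U' := by
    intro U U' hU hU' h
    have := hq.1 (a₁ := ⟨U, hU⟩) (a₂ := ⟨U', hU'⟩) (TopologicalSpace.Opens.ext h)
    exact congrArg (fun O : TopologicalSpace.Opens Y => (O : Set Y)) this
  -- injectivity on LQC sets
  have hinjLQC : ∀ Z Z' : Set Y, LQC Z → LQC Z' → f ⁻¹' Z = f ⁻¹' Z' → Z = Z' := by
    intro Z Z' hZ hZ' h
    exact subset_antisymm (sub f hf hsurj hinj Z Z' (lqc_a Z hZ) hZ' h.subset)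
      (sub f hf hsurj hinj Z' Z (lqc_a Z' hZ') hZ h.symm.subset)
  constructor
  · refine ⟨?_, ?_, ?_⟩
    · rintro Z ⟨T, hfin, hlc, rfl⟩
      refine ⟨(fun t => f ⁻¹' t) '' T, hfin.image _, ?_, preimage_sUnion_image f T⟩
      rintro _ ⟨t, ht, rfl⟩
      exact (hlc t ht).preimage hf
    · intro Z hZ Z' hZ' h
      exact hinjLQC Z Z' (lqc_of_qc Z hZ) (lqc_of_qc Z' hZ') h
    · rintro Z ⟨T, hfin, hlc, rfl⟩
      obtain ⟨T', hfin', hlc', hT'⟩ := qc_surj f hf hsurj hinj T hfin hlc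
      exact ⟨⋃₀ T', ⟨T', hfin', hlc', rfl⟩, hT'⟩
  · refine ⟨?_, ?_, ?_⟩
    · intro Z hZ x
      obtain ⟨V, hV, hyV, T', hfin, hlc, hT'⟩ := hZ (f x)
      refine ⟨f ⁻¹' V, hV.preimage hf, hyV, (fun t => f ⁻¹' t) '' T', hfin.image _, ?_, ?_⟩
      · rintro _ ⟨t, ht, rfl⟩
        exact (hlc t ht).preimage hf
      · change f ⁻¹' Z ∩ f ⁻¹' V = _
        rw [← preimage_inter, hT', preimage_sUnion_image]
    · intro Z hZ Z' hZ' h
      exact hinjLQC Z Z' hZ hZ' h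
    · intro ZX hZX
      -- the canonical candidate
      set ZY : Set Y := ⋃₀ {L : Set Y | IsLocallyClosed L ∧ f ⁻¹' L ⊆ ZX} with hZY
      have hpre : f ⁻¹' ZY = ZX := by
        apply subset_antisymm
        · rintro x ⟨L, ⟨_, hL⟩, hx⟩
          exact hL hx
        · intro x hx
          obtain ⟨t, ht, hxt, htZ⟩ := lqc_a ZX hZX x hx
          obtain ⟨t', ht', htt'⟩ := lc_surj f hf hsurj hinj t ht
          refine ⟨t', ⟨ht', by rw [htt']; exact htZ⟩, ?_⟩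
          change x ∈ f ⁻¹' t'
          rw [htt']
          exact hxt
      refine ⟨ZY, ?_, hpre⟩
      -- ZY is LQC
      intro y
      -- the good opens
      set 𝒱 : Set (Set Y) := {V' : Set Y | IsOpen V' ∧ ∃ T : Set (Set X), T.Finite ∧
        (∀ t ∈ T, IsLocallyClosed t) ∧ ZX ∩ f ⁻¹' V' = ⋃₀ T} with h𝒱
      have hopen : IsOpen (⋃₀ 𝒱) := isOpen_sUnion (fun V' hV' => hV'.1)
      have hcover : ⋃₀ 𝒱 = univ := by
        apply hinj _ _ hopen isOpen_univ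
        rw [preimage_univ]
        apply eq_univ_of_forall
        intro x
        obtain ⟨V, hV, hxV, T, hfin, hlc, hT⟩ := hZX x
        obtain ⟨V', hV', hVV'⟩ := hsurj V hV
        refine ⟨V', ⟨hV', T, hfin, hlc, by rw [hVV']; exact hT⟩, ?_⟩
        change x ∈ f ⁻¹' V'
        rw [hVV']
        exact hxV
      have hy : y ∈ ⋃₀ 𝒱 := by rw [hcover]; exact mem_univ y
      obtain ⟨V', ⟨hV', T, hfin, hlc, hT⟩, hyV'⟩ := hy
      obtain ⟨T', hfin', hlc', hT'⟩ := qc_surj f hf hsurj hinj T hfin hlc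
      refine ⟨V', hV', hyV', (fun t' => t' ∩ V') '' T', hfin'.image _, ?_, ?_⟩
      · rintro _ ⟨t', ht', rfl⟩
        exact (hlc' t' ht').inter hV'.isLocallyClosed
      · -- ZY ∩ V' = ⋃₀ T''
        have hE2pre : f ⁻¹' (⋃₀ ((fun t' => t' ∩ V') '' T')) = ZX ∩ f ⁻¹' V' := by
          ext x
          simp only [mem_preimage, mem_sUnion, mem_image, exists_exists_and_eq_and, mem_inter_iff]
          constructor
          · rintro ⟨t', ht', hx1, hx2⟩
            have : x ∈ f ⁻¹' (⋃₀ T') := ⟨t', ht', hx1⟩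
            rw [hT', ← hT] at this
            exact ⟨this.1, hx2⟩
          · rintro ⟨hx1, hx2⟩
            have : x ∈ ⋃₀ T := by rw [← hT]; exact ⟨hx1, hx2⟩
            rw [← hT'] at this
            obtain ⟨t', ht', hx3⟩ := this
            exact ⟨t', ht', hx3, hx2⟩
        apply subset_antisymm
        · apply sub f hf hsurj hinj
          · rintro z ⟨⟨L, ⟨hL, hLZ⟩, hzL⟩, hzV'⟩
            refine ⟨L ∩ V', hL.inter hV'.isLocallyClosed, ⟨hzL, hzV'⟩, ?_⟩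
            rintro w ⟨hwL, hwV'⟩
            exact ⟨⟨L, ⟨hL, hLZ⟩, hwL⟩, hwV'⟩
          · apply lqc_of_qc
            refine ⟨(fun t' => t' ∩ V') '' T', hfin'.image _, ?_, rfl⟩
            rintro _ ⟨t', ht', rfl⟩
            exact (hlc' t' ht').inter hV'.isLocallyClosed
          · rw [hE2pre, preimage_inter, hpre]
        · rintro z ⟨_, ⟨t', ht', rfl⟩, hz⟩
          refine ⟨⟨t' ∩ V', ⟨(hlc' t' ht').inter hV'.isLocallyClosed, ?_⟩, hz⟩, hz.2⟩
          intro x hx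
          have : x ∈ f ⁻¹' (⋃₀ ((fun t' => t' ∩ V') '' T')) := ⟨t' ∩ V', ⟨t', ht', rfl⟩, hx⟩
          rw [hE2pre] at this
          exact this.1

end Groth.Agent.S12127aux

namespace Groth.Agent.S12127

/-- Let f : X → Y be a quasi-homeomorphism, i.e. a continuous map such that U ↦ f⁻¹(U) is a bijection
from the open subsets of Y onto the open subsets of X. Call a subset quasi-constructible when it is
a finite union of locally closed subsets, and locally quasi-constructible when every point of the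
space has an open neighbourhood V whose intersection with it is quasi-constructible in V. Then Z ↦
f⁻¹(Z) induces a bijection from the quasi-constructible subsets of Y onto those of X, and from the
locally quasi-constructible subsets of Y onto those of X. -/
theorem result {X Y : Type u}
    [TopologicalSpace X] [TopologicalSpace Y] (f : X → Y) (hf : Continuous f)
    (hq : Function.Bijective (fun U : TopologicalSpace.Opens Y =>
      (⟨f ⁻¹' (U : Set Y), U.isOpen.preimage hf⟩ : TopologicalSpace.Opens X))) :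
    Set.BijOn (fun Z : Set Y => f ⁻¹' Z)
        {Z : Set Y | ∃ T : Set (Set Y), T.Finite ∧ (∀ t ∈ T, IsLocallyClosed t) ∧ Z = ⋃₀ T}
        {Z : Set X | ∃ T : Set (Set X), T.Finite ∧ (∀ t ∈ T, IsLocallyClosed t) ∧ Z = ⋃₀ T} ∧
      Set.BijOn (fun Z : Set Y => f ⁻¹' Z)
        {Z : Set Y | ∀ y : Y, ∃ V : Set Y, IsOpen V ∧ y ∈ V ∧
          ∃ T : Set (Set V), T.Finite ∧ (∀ t ∈ T, IsLocallyClosed t) ∧ (Subtype.val ⁻¹' Z : Set V) = ⋃₀ T}
        {Z : Set X | ∀ x : X, ∃ V : Set X, IsOpen V ∧ x ∈ V ∧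
          ∃ T : Set (Set V), T.Finite ∧ (∀ t ∈ T, IsLocallyClosed t) ∧ (Subtype.val ⁻¹' Z : Set V) = ⋃₀ T} := by
  obtain ⟨h1, h2⟩ := Groth.Agent.S12127aux.main f hf hq
  refine ⟨h1, ?_⟩
  convert h2 using 1
  · exact Set.ext (fun Z => Groth.Agent.S12127aux.lqc_iff Z)
  · exact Set.ext (fun Z => Groth.Agent.S12127aux.lqc_iff Z)

end Groth.Agent.S12127
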