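import Groth.Statements.S12129
import Mathlib
import Groth.Agent.Lib.helper7.DimSch3

set_option autoImplicit false
universe u
open EGA2

namespace Groth.Agent.S12129

open AlgebraicGeometry CategoryTheory in
open AlgebraicGeometry CategoryTheory in
theorem ringKrullDim_stalk_eq_one_iff {X : Scheme.{u}} (x : X) :
    ringKrullDim (X.presheaf.stalk x) = 1 ↔
      (∃ y : X, y ⤳ x ∧ y ≠ x) ∧ (∀ y : X, y ⤳ x → y ≠ x → ∀ z : X, z ⤳ y → z = y) := by
  have hemb := (X.fromSpecStalk x).isEmbedding
  have hrange : ∀ y : X, y ⤳ x ↔ ∃ p : PrimeSpectrum (X.presheaf.stalk x), X.fromSpecStalk x p = y := by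
    intro y
    have := Scheme.range_fromSpecStalk (X := X) (x := x)
    constructor
    · intro hy
      have h : y ∈ Set.range (X.fromSpecStalk x) := by rw [this]; exact hy
      exact h
    · rintro ⟨p, rfl⟩
      have h : X.fromSpecStalk x p ∈ Set.range (X.fromSpecStalk x) := ⟨p, rfl⟩
      rw [this] at h; exact h
  have hle : ∀ p q : PrimeSpectrum (X.presheaf.stalk x),
      p ≤ q ↔ X.fromSpecStalk x p ⤳ X.fromSpecStalk x q := by
    intro p q
    rw [PrimeSpectrum.le_iff_specializes]
    exact (hemb.isInducing.specializes_iff (x := p) (y := q)).symm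
  have hclosed : X.fromSpecStalk x (IsLocalRing.closedPoint (X.presheaf.stalk x)) = x :=
    Scheme.fromSpecStalk_closedPoint
  have hletop : ∀ p : PrimeSpectrum (X.presheaf.stalk x),
      p ≤ IsLocalRing.closedPoint (X.presheaf.stalk x) := fun p =>
    (PrimeSpectrum.le_iff_specializes _ _).mpr (IsLocalRing.specializes_closedPoint p)
  rw [ringKrullDim, le_antisymm_iff, Order.krullDim_le_one_iff, Order.one_le_krullDim_iff, and_comm]
  constructor
  · rintro ⟨⟨p, q, hpq⟩, hall⟩
    refine ⟨⟨X.fromSpecStalk x p, (hrange _).mpr ⟨p, rfl⟩, ?_⟩, ?_⟩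
    · intro h
      have hp := hemb.injective (h.trans hclosed.symm)
      rw [hp] at hpq
      exact hpq.not_ge (hletop q)
    · intro y hy hyx z hz
      obtain ⟨p, rfl⟩ := (hrange y).mp hy
      obtain ⟨r, rfl⟩ := (hrange z).mp (hz.trans hy)
      rcases hall p with hmin | hmax
      · have h1 : r ≤ p := (hle r p).mpr hz
        have h2 : p ≤ r := hmin h1
        rw [le_antisymm h1 h2]
      · exfalso
        apply hyx
        have : IsLocalRing.closedPoint (X.presheaf.stalk x) ≤ p := hmax (hletop p)
        have hp : p = IsLocalRing.closedPoint (X.presheaf.stalk x) := le_antisymm (hletop p) this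
        rw [hp]; exact hclosed
  · rintro ⟨⟨y, hy, hyx⟩, hall⟩
    obtain ⟨p, rfl⟩ := (hrange y).mp hy
    refine ⟨⟨p, IsLocalRing.closedPoint _, lt_of_le_of_ne (hletop p) ?_⟩, ?_⟩
    · intro h
      apply hyx
      rw [h, hclosed]
    · intro q
      by_cases hq : q = IsLocalRing.closedPoint (X.presheaf.stalk x)
      · right
        rw [hq]
        intro r hr
        exact hletop r
      · left
        intro r hr
        have h1 : X.fromSpecStalk x q ≠ x := by
          intro h
          apply hq
          apply hemb.injective
          rw [h, hclosed]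
        have h2 := hall _ ((hrange _).mpr ⟨q, rfl⟩) h1 _ ((hle r q).mp hr)
        rw [hemb.injective h2]


open AlgebraicGeometry CategoryTheory Groth.Agent.Lib.helper7.DimSch in
open AlgebraicGeometry CategoryTheory in
theorem main (k : Type u) [Field k] (X : Scheme.{u})
    [X.Over (Spec (CommRingCat.of k))] [LocallyOfFiniteType (X ↘ (Spec (CommRingCat.of k)))] :
    (∀ x : X, IsClosed ({x} : Set X) → ringKrullDim (X.presheaf.stalk x) = 1) ↔
      ((∀ F : Set X, IsClosed F → IsIrreducible F → F ∉ irreducibleComponents (X : Type u) →
          ∃ x : X, IsClosed ({x} : Set X) ∧ F = {x}) ∧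
        ∀ x : X, IsClosed ({x} : Set X) → ({x} : Set X) ∉ irreducibleComponents (X : Type u)) := by
  haveI : JacobsonSpace X := LocallyOfFiniteType.jacobsonSpace (X ↘ Spec (CommRingCat.of k))
  constructor
  · intro h
    refine ⟨fun F hFc hFi hFn => ?_, fun x hx hcomp => ?_⟩
    · obtain ⟨ξ, hξ⟩ := QuasiSober.sober hFi hFc
      have hξn : ¬ ∀ z : X, z ⤳ ξ → z = ξ := by
        rw [← closure_mem_irreducibleComponents_iff, hξ.def]; exact hFn
      obtain ⟨x, hxF, hxcl⟩ := nonempty_inter_closedPoints hFi.nonempty hFc.isLocallyClosed
      have hxcl' : IsClosed ({x} : Set X) := hxcl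
      have hξx : ξ ⤳ x := hξ.specializes hxF
      have h1 := (ringKrullDim_stalk_eq_one_iff x).mp (h x hxcl')
      by_cases hne : ξ = x
      · refine ⟨x, hxcl', ?_⟩
        rw [← hξ.def, hne, hxcl'.closure_eq]
      · exact absurd (h1.2 ξ hξx hne) hξn
    · have h1 := (ringKrullDim_stalk_eq_one_iff x).mp (h x hx)
      obtain ⟨y, hy, hyx⟩ := h1.1
      rw [← hx.closure_eq, closure_mem_irreducibleComponents_iff] at hcomp
      exact hyx (hcomp y hy)
  · rintro ⟨h1, h2⟩ x hx
    rw [ringKrullDim_stalk_eq_one_iff]
    constructor
    · have := h2 x hx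
      rw [← hx.closure_eq, closure_mem_irreducibleComponents_iff] at this
      push Not at this
      exact this
    · intro y hy hyx
      by_contra hcon
      have hFn : closure ({y} : Set X) ∉ irreducibleComponents (X : Type u) := by
        rw [closure_mem_irreducibleComponents_iff]; exact hcon
      obtain ⟨x', hx'cl, hx'⟩ := h1 _ isClosed_closure isIrreducible_singleton.closure hFn
      have hyx' : y = x' := by
        have : y ∈ closure ({y} : Set X) := subset_closure rfl
        rw [hx'] at this; exact this
      have hxmem : x ∈ closure ({y} : Set X) := hy.mem_closure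
      rw [hx'] at hxmem
      exact hyx (hyx'.trans hxmem.symm)

open AlgebraicGeometry CategoryTheory in
/-- Let X be a scheme of finite type over a field k. Then the local ring of X at every closed point has
dimension one if and only if the irreducible closed subsets of X other than its irreducible
components are exactly the (singletons of) closed points of X — that is, every irreducible closed
subset which is not an irreducible component is a closed point, and no closed point is by itself an
irreducible component. -/
theorem result (k : Type u) [Field k] (X : Scheme.{u})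
    [X.Over (Spec (CommRingCat.of k))] [LocallyOfFiniteType (X ↘ (Spec (CommRingCat.of k)))]
    [QuasiCompact (X ↘ (Spec (CommRingCat.of k)))] :
    (∀ x : X, IsClosed ({x} : Set X) → ringKrullDim (X.presheaf.stalk x) = 1) ↔
      ((∀ F : Set X, IsClosed F → IsIrreducible F → F ∉ irreducibleComponents (X : Type u) →
          ∃ x : X, IsClosed ({x} : Set X) ∧ F = {x}) ∧
        ∀ x : X, IsClosed ({x} : Set X) → ({x} : Set X) ∉ irreducibleComponents (X : Type u)) := by
  exact Groth.Agent.S12129.main k X

end Groth.Agent.S12129
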