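import Groth.Statements.S1213
import Mathlib
-- import your own Groth.Agent.* helpers here

set_option autoImplicit false
universe u
open scoped Classical
open FlatMor

namespace Groth.Agent.S1213

theorem smul_mem_of_mem_map {R S : Type u} [CommRing R] [CommRing S] [Algebra R S]
    {N : Type u} [AddCommGroup N] [Module S N] [Module R N] [IsScalarTower R S N]
    (J : Ideal R) {b : S} (hb : b ∈ J.map (algebraMap R S)) (n : N) :
    b • n ∈ (J • ⊤ : Submodule R N) := by
  revert n
  refine Submodule.span_induction (p := fun b _ => ∀ n : N, b • n ∈ (J • ⊤ : Submodule R N))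
    ?_ ?_ ?_ ?_ hb
  · rintro _ ⟨r, hr, rfl⟩ n
    rw [algebraMap_smul]
    exact Submodule.smul_mem_smul hr trivial
  · intro n
    simp
  · intro x y _ _ hx hy n
    rw [add_smul]
    exact add_mem (hx n) (hy n)
  · intro s x _ hx n
    rw [smul_eq_mul, mul_comm, mul_smul]
    exact hx (s • n)

open TensorProduct in
theorem key {R S : Type u} [CommRing R] [IsLocalRing R] [CommRing S] [Algebra R S]
    (N : Type u) [AddCommGroup N] [Module S N] [Module R N] [IsScalarTower R S N]
    (M : Type u) [AddCommGroup M] [Module R M]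
    (p p' : Submodule R N) (hc : IsCompl p p') (hpfg : p.FG)
    (f b : S) (hfb : f + b = 1) (hb : b ∈ (IsLocalRing.maximalIdeal R).map (algebraMap R S))
    (zT : p ⊗[R] M) (hz : f • (p.subtype.rTensor M zT) = 0) : zT = 0 := by
  let π : N →ₗ[R] p := Submodule.projectionOnto p p' hc
  let μ : N →ₗ[R] N := (LinearMap.lsmul S N f).restrictScalars R
  let f' : p →ₗ[R] p := π ∘ₗ μ ∘ₗ p.subtype
  have hfin : Module.Finite R p := Module.Finite.iff_fg.mpr hpfg
  have hf'y : ∀ y : p, y - f' y ∈ (IsLocalRing.maximalIdeal R • ⊤ : Submodule R p) := by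
    intro y
    have h1 : f' y = y - π (b • (y : N)) := by
      have hf : f = 1 - b := by rw [← hfb]; ring
      have h0 : f' y = π (f • (y : N)) := rfl
      rw [h0, hf, sub_smul, one_smul, map_sub, Submodule.projectionOnto_apply_left]
    rw [h1, sub_sub_cancel]
    have h2 := smul_mem_of_mem_map (IsLocalRing.maximalIdeal R) hb (y : N)
    have h3 : π (b • (y : N)) ∈ Submodule.map π (IsLocalRing.maximalIdeal R • ⊤ : Submodule R N) :=
      Submodule.mem_map_of_mem h2
    rw [Submodule.map_smul''] at h3
    exact Submodule.smul_mono le_rfl le_top h3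
  have hsurj : Function.Surjective f' := by
    rw [← LinearMap.range_eq_top, eq_top_iff]
    have hjac : IsLocalRing.maximalIdeal R ≤ Ideal.jacobson ⊥ := by
      rw [IsLocalRing.jacobson_eq_maximalIdeal ⊥ bot_ne_top]
    refine Submodule.le_of_le_smul_of_le_jacobson_bot (Module.Finite.fg_top) hjac ?_
    intro y _
    have : y = f' y + (y - f' y) := by abel
    rw [this]
    exact Submodule.add_mem_sup (LinearMap.mem_range_self _ _) (hf'y y)
  have hbij : Function.Bijective f' :=
    OrzechProperty.bijective_of_surjective_endomorphism f' hsurj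
  let e : p ≃ₗ[R] p := LinearEquiv.ofBijective f' hbij
  have hcomp : (f'.rTensor M) zT = π.rTensor M (f • (p.subtype.rTensor M zT)) := by
    have hμ : ∀ w : N ⊗[R] M, f • w = μ.rTensor M w := by
      intro w
      induction w using TensorProduct.induction_on with
      | zero => simp
      | tmul n m => rw [TensorProduct.smul_tmul', LinearMap.rTensor_tmul]; rfl
      | add x y hx hy => rw [smul_add, hx, hy, map_add]
    rw [hμ, ← LinearMap.comp_apply, ← LinearMap.comp_apply, ← LinearMap.rTensor_comp,
      ← LinearMap.rTensor_comp]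
    rfl
  rw [hz, map_zero] at hcomp
  have hinj : Function.Injective (f'.rTensor M) := (LinearEquiv.rTensor M e).injective
  exact hinj (by rw [hcomp, map_zero])

open TensorProduct IsLocalRing in
/-- Let R be a local ring, S an R-algebra and N an S-module which, as an R-module, is an internal direct
sum of finite R-submodules. Then for every R-module M and every prime q of S which is the
annihilator of an element of the S-module N ⊗_R M we have q + 𝔪_R S ≠ S. -/
theorem result {R S : Type u} [CommRing R] [IsLocalRing R] [CommRing S] [Algebra R S]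
    (N : Type u) [AddCommGroup N] [Module S N] [Module R N] [IsScalarTower R S N]
    (ι : Type u) (F : ι → Submodule R N) (hF : DirectSum.IsInternal F) (hfin : ∀ i, Module.Finite R (F i))
    (M : Type u) [AddCommGroup M] [Module R M]
    (q : Ideal S) [q.IsPrime] (hq : q ∈ FlatCA.ass S (N ⊗[R] M)) :
    q ⊔ (maximalIdeal R).map (algebraMap R S) ≠ ⊤ := by
  intro htop
  obtain ⟨hqp, z, hz⟩ := hq
  have h1 : (1 : S) ∈ q ⊔ (maximalIdeal R).map (algebraMap R S) := by rw [htop]; trivial
  obtain ⟨f, hf, b, hb, hfb⟩ := Submodule.mem_sup.mp h1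
  have hfz : f • z = 0 := by
    rw [hz] at hf
    exact (Submodule.mem_annihilator_span_singleton z f).mp hf
  obtain ⟨N₀, hN₀fin, hzN₀⟩ := TensorProduct.exists_finite_submodule_left_of_setFinite
    ({z} : Set (N ⊗[R] M)) (Set.finite_singleton z)
  have hN₀fg : N₀.FG := Module.Finite.iff_fg.mp hN₀fin
  have hle : N₀ ≤ ⨆ i, F i := by rw [hF.submodule_iSup_eq_top]; exact le_top
  obtain ⟨T, hT⟩ := CompleteLattice.IsCompactElement.exists_finset_of_le_iSup (Submodule R N) ((Submodule.fg_iff_compact N₀).mp hN₀fg) F hle
  have hc : IsCompl (⨆ i ∈ T, F i) (⨆ i ∈ ((T : Set ι)ᶜ), F i) := by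
    constructor
    · have := hF.submodule_iSupIndep.disjoint_biSup_biSup' (s := (T : Set ι))
        (t := (T : Set ι)ᶜ) disjoint_compl_right T.finite_toSet
      simpa using this
    · rw [codisjoint_iff, eq_top_iff, ← hF.submodule_iSup_eq_top]
      refine iSup_le fun i => ?_
      by_cases hi : i ∈ T
      · exact le_sup_of_le_left (le_biSup F hi)
      · exact le_sup_of_le_right (le_biSup F (show i ∈ (T : Set ι)ᶜ from hi))
  have hpfg : (⨆ i ∈ T, F i).FG :=
    Submodule.fg_biSup T F (fun i _ => Module.Finite.iff_fg.mp (hfin i))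
  obtain ⟨z₀, hz₀⟩ := hzN₀ (Set.mem_singleton z)
  have hzT : (⨆ i ∈ T, F i).subtype.rTensor M ((Submodule.inclusion hT).rTensor M z₀) = z := by
    rw [← hz₀, ← LinearMap.comp_apply, ← LinearMap.rTensor_comp]
    rfl
  have h0 := key N M _ _ hc hpfg f b hfb hb ((Submodule.inclusion hT).rTensor M z₀)
    (by rw [hzT]; exact hfz)
  have hz0 : z = 0 := by rw [← hzT, h0, map_zero]
  apply hqp.ne_top
  rw [hz, hz0]
  simp [Submodule.annihilator_bot]

end Groth.Agent.S1213
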