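import Groth.Statements.S12132
import Mathlib
import Groth.Agent.Lib.helper20.LocTr
import Groth.Agent.S2517
import Groth.Agent.S2518

set_option autoImplicit false
universe u
open AssSch

namespace Groth.Agent.S12132

open IsLocalRing in
theorem isMaximal_of_mem_support {A N : Type*} [CommRing A] [AddCommGroup N] [Module A N]
    [Module.Finite A N] (h : IsFiniteLength A N) {q : PrimeSpectrum A}
    (hq : q ∈ Module.support A N) : q.asIdeal.IsMaximal := by
  classical
  obtain ⟨s, hs⟩ := (Module.Finite.fg_top : (⊤ : Submodule A N).FG)
  let g : A →ₗ[A] (s → N) := LinearMap.pi (fun n => LinearMap.toSpanSingleton A N n.1)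
  have hg : ∀ a (n : s), g a n = a • n.1 := fun a n => rfl
  have hker : LinearMap.ker g = Module.annihilator A N := by
    ext a
    rw [LinearMap.mem_ker, Module.mem_annihilator]
    constructor
    · intro ha n
      have hn : n ∈ Submodule.span A (s : Set N) := by rw [hs]; trivial
      induction hn using Submodule.span_induction with
      | mem x hx =>
        have := congrFun ha ⟨x, hx⟩
        rwa [hg] at this
      | zero => simp
      | add x y _ _ hx hy => rw [smul_add, hx, hy, add_zero]
      | smul c x _ hx => rw [smul_comm, hx, smul_zero]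
    · intro ha
      funext n
      rw [hg]
      exact ha n.1
  obtain ⟨hN, hArt⟩ := isFiniteLength_iff_isNoetherian_isArtinian.mp h
  haveI := hN
  haveI := hArt
  haveI : IsArtinian A (A ⧸ LinearMap.ker g) :=
    isArtinian_of_injective ((LinearMap.ker g).liftQ g le_rfl)
      (LinearMap.ker_eq_bot.mp (Submodule.ker_liftQ_eq_bot _ _ _ le_rfl))
  have hle : LinearMap.ker g ≤ q.asIdeal := by
    rw [hker]
    exact Module.annihilator_le_of_mem_support hq
  haveI : IsArtinian A (A ⧸ q.asIdeal) :=
    isArtinian_of_surjective (A ⧸ LinearMap.ker g) (Submodule.factor hle)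
      (Submodule.factor_surjective hle)
  haveI : IsArtinianRing (A ⧸ q.asIdeal) := isArtinian_of_tower A inferInstance
  exact Ideal.Quotient.maximal_of_isField _ (IsArtinianRing.isField_of_isDomain _)

theorem map_mk_eq_span_iff {R : Type*} [CommRing R] (p m : Ideal R) (hpm : p ≤ m) (t : R) :
    Ideal.map (Ideal.Quotient.mk p) m = Ideal.span {Ideal.Quotient.mk p t} ↔
      m = Ideal.span {t} ⊔ p := by
  have h1 : Ideal.span {Ideal.Quotient.mk p t} =
      Ideal.map (Ideal.Quotient.mk p) (Ideal.span {t}) := by
    rw [Ideal.map_span, Set.image_singleton]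
  rw [h1]
  constructor
  · intro h
    have := congrArg (Ideal.comap (Ideal.Quotient.mk p)) h
    rw [Ideal.comap_map_of_surjective _ Ideal.Quotient.mk_surjective,
      Ideal.comap_map_of_surjective _ Ideal.Quotient.mk_surjective,
      ← RingHom.ker_eq_comap_bot, Ideal.mk_ker] at this
    rwa [sup_eq_left.mpr hpm] at this
  · intro h
    rw [h, Ideal.map_sup, Ideal.map_quotient_self, sup_bot_eq]

open IsLocalRing in
theorem core {B A : Type u} [CommRing B] [IsNoetherianRing B] [IsLocalRing B]
    [CommRing A] [IsLocalRing A] [Algebra B A]
    (hsurj : Function.Surjective (algebraMap B A))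
    (M : Type u) [AddCommGroup M] [Module B M] [Module A M] [IsScalarTower B A M]
    [Module.Finite B M]
    (hker : RingHom.ker (algebraMap B A) = Module.annihilator B M)
    (t : B) (ht : t ∈ IsLocalRing.maximalIdeal B)
    (hdim : 0 < Module.supportDim B M)
    (hfin : Module.length B (M ⧸ (Ideal.span {t} • (⊤ : Submodule B M))) ≠ ⊤) :
    (∑ᶠ p : (Module.annihilator B M).minimalPrimes,
        haveI : p.1.IsPrime := p.2.1.1
        Module.length (Localization.AtPrime p.1) (LocalizedModule p.1.primeCompl M)) ≤
      Module.length B (M ⧸ (Ideal.span {t} • (⊤ : Submodule B M))) ∧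
    ((∑ᶠ p : (Module.annihilator B M).minimalPrimes,
        haveI : p.1.IsPrime := p.2.1.1
        Module.length (Localization.AtPrime p.1) (LocalizedModule p.1.primeCompl M)) =
      Module.length B (M ⧸ (Ideal.span {t} • (⊤ : Submodule B M))) ↔
    IsSMulRegular M t ∧
      ∀ p : (Module.annihilator B M).minimalPrimes,
        Ideal.map (Ideal.Quotient.mk p.1) (IsLocalRing.maximalIdeal B) =
          Ideal.span {Ideal.Quotient.mk p.1 t}) := by
  haveI : IsNoetherianRing A := isNoetherianRing_of_surjective B A (algebraMap B A) hsurj
  haveI : Module.Finite A M := Module.Finite.of_restrictScalars_finite B A M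
  have hsmul : ∀ (b : B) (m : M), algebraMap B A b • m = b • m := fun b m => algebraMap_smul A b m
  have hann : Module.annihilator A M = ⊥ := by
    rw [eq_bot_iff]
    intro a ha
    obtain ⟨b, rfl⟩ := hsurj a
    rw [Module.mem_annihilator] at ha
    have hb : b ∈ Module.annihilator B M := by
      rw [Module.mem_annihilator]
      intro m
      rw [← hsmul]
      exact ha m
    rw [← hker] at hb
    exact hb
  have hsupp : ∀ q : PrimeSpectrum A, q ∈ Module.support A M := by
    intro q
    rw [Module.support_eq_zeroLocus, hann]
    simp
  have hdimA : 0 < ringKrullDim A := by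
    rw [Module.supportDim_eq_ringKrullDim_quotient_annihilator, ← hker] at hdim
    rwa [ringKrullDim_eq_of_ringEquiv (RingHom.quotientKerEquivOfSurjective hsurj)] at hdim
  have hcm : Ideal.comap (algebraMap B A) (maximalIdeal A) = maximalIdeal B := by
    haveI : (Ideal.comap (algebraMap B A) (maximalIdeal A)).IsMaximal :=
      Ideal.comap_isMaximal_of_surjective (algebraMap B A) hsurj
    exact IsLocalRing.eq_maximalIdeal this
  have ht' : algebraMap B A t ∈ maximalIdeal A := by
    rw [← hcm] at ht
    exact ht
  have hsub : (Ideal.span {algebraMap B A t} • (⊤ : Submodule A M)).restrictScalars B =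
      Ideal.span {t} • (⊤ : Submodule B M) := by
    rw [Submodule.ideal_span_singleton_smul, Submodule.ideal_span_singleton_smul]
    ext m
    simp only [Submodule.restrictScalars_mem, Submodule.mem_smul_pointwise_iff_exists,
      Submodule.mem_top, true_and]
    constructor
    · rintro ⟨n, rfl⟩
      exact ⟨n, (hsmul t n).symm⟩
    · rintro ⟨n, rfl⟩
      exact ⟨n, hsmul t n⟩
  have hlen : Module.length A (M ⧸ (Ideal.span {algebraMap B A t} • (⊤ : Submodule A M))) =
      Module.length B (M ⧸ (Ideal.span {t} • (⊤ : Submodule B M))) := by
    rw [← Module.length_eq_of_surjective (S := B) hsurj,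
      ← (Submodule.Quotient.restrictScalarsEquiv B _).length_eq]
    exact (Submodule.quotEquivOfEq _ _ hsub).length_eq
  have hfinA : IsFiniteLength A (QuotSMulTop (algebraMap B A t) M) := by
    rw [← Module.length_ne_top_iff]
    have : Module.length A (QuotSMulTop (algebraMap B A t) M) =
        Module.length A (M ⧸ (Ideal.span {algebraMap B A t} • (⊤ : Submodule A M))) :=
      (Submodule.quotEquivOfEq _ _
        ((⊤ : Submodule A M).ideal_span_singleton_smul (algebraMap B A t)).symm).length_eq
    rw [this, hlen]
    exact hfin
  have hart : IsArtinianRing (A ⧸ Ideal.span {algebraMap B A t}) := by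
    rw [isArtinianRing_iff_krullDimLE_zero, Ring.krullDimLE_zero_iff]
    intro P hP
    have hq : (P.comap (Ideal.Quotient.mk (Ideal.span {algebraMap B A t}))).IsMaximal := by
      haveI := hP
      let q : PrimeSpectrum A := ⟨P.comap (Ideal.Quotient.mk _), inferInstance⟩
      have hqs : q ∈ Module.support A (QuotSMulTop (algebraMap B A t) M) := by
        rw [Module.support_quotSMulTop]
        refine ⟨hsupp q, ?_⟩
        simp only [PrimeSpectrum.mem_zeroLocus, Set.singleton_subset_iff, SetLike.mem_coe]
        show algebraMap B A t ∈ P.comap _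
        rw [Ideal.mem_comap,
          Ideal.Quotient.eq_zero_iff_mem.mpr (Ideal.mem_span_singleton_self (algebraMap B A t))]
        exact P.zero_mem
      exact isMaximal_of_mem_support hfinA hqs
    have := Ideal.map_eq_top_or_isMaximal_of_surjective
      (f := Ideal.Quotient.mk (Ideal.span {algebraMap B A t})) Ideal.Quotient.mk_surjective hq
    rw [Ideal.map_comap_of_surjective _ Ideal.Quotient.mk_surjective] at this
    exact this.resolve_left hP.ne_top
  have main1 := Groth.Agent.S2517.result hdimA (algebraMap B A t) ht' hart M
  have main2 := Groth.Agent.S2518.result hdimA (algebraMap B A t) ht' hart M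
  have hIker : (⊥ : Ideal A).comap (algebraMap B A) = Module.annihilator B M := by
    rw [← hker]
    rfl
  have hmin : (Module.annihilator B M).minimalPrimes =
      Ideal.comap (algebraMap B A) '' minimalPrimes A := by
    rw [← hIker]
    exact Ideal.comap_minimalPrimes_eq_of_surjective hsurj ⊥
  let E : minimalPrimes A ≃ (Module.annihilator B M).minimalPrimes :=
    Equiv.ofBijective
      (fun q => ⟨q.1.comap (algebraMap B A), by rw [hmin]; exact ⟨q.1, q.2, rfl⟩⟩)
      ⟨fun q₁ q₂ h => Subtype.ext
          (Ideal.comap_injective_of_surjective (algebraMap B A) hsurj (congrArg Subtype.val h)),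
        fun p => by
          obtain ⟨q, hq, hqp⟩ :=
            (hmin ▸ p.2 : p.1 ∈ Ideal.comap (algebraMap B A) '' minimalPrimes A)
          exact ⟨⟨q, hq⟩, Subtype.ext hqp⟩⟩
  have hE : ∀ q, ((E q).1 : Ideal B) = q.1.comap (algebraMap B A) := fun q => rfl
  have hsum : (∑ᶠ p : (Module.annihilator B M).minimalPrimes,
        haveI : p.1.IsPrime := p.2.1.1
        Module.length (Localization.AtPrime p.1) (LocalizedModule p.1.primeCompl M)) =
      ∑ᶠ q : minimalPrimes A,
        haveI : q.1.IsPrime := q.2.1.1
        Module.length (Localization.AtPrime q.1) (LocalizedModule q.1.primeCompl M) := by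
    rw [← finsum_comp_equiv E]
    refine finsum_congr (fun q => ?_)
    exact @Groth.Agent.Lib.helper20.LocTr.length_localized_eq B A _ _ _ hsurj M _ _ _ _
      q.1 q.2.1.1 (E q).1 (E q).2.1.1 rfl
  have hIle : ∀ q : Ideal A, Module.annihilator B M ≤ q.comap (algebraMap B A) := by
    intro q
    rw [← hIker]
    exact Ideal.comap_mono bot_le
  have key : ∀ q : Ideal A, maximalIdeal A = Ideal.span {algebraMap B A t} ⊔ q ↔
      maximalIdeal B = Ideal.span {t} ⊔ q.comap (algebraMap B A) := by
    intro q
    have h2 : Ideal.span {algebraMap B A t} ⊔ q =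
        Ideal.map (algebraMap B A) (Ideal.span {t} ⊔ q.comap (algebraMap B A)) := by
      rw [Ideal.map_sup, Ideal.map_span, Set.image_singleton,
        Ideal.map_comap_of_surjective _ hsurj]
    constructor
    · intro h
      rw [← hcm, h, h2, Ideal.comap_map_of_surjective _ hsurj, hIker]
      exact (sup_eq_left.mpr (le_sup_of_le_right (hIle q))).symm ▸ rfl
    · intro h
      rw [h2, ← h, ← hcm, Ideal.map_comap_of_surjective _ hsurj]
  rw [hsum, ← hlen]
  refine ⟨main1, ?_⟩
  rw [main2]
  refine and_congr ?_ ?_
  · unfold IsSMulRegular
    have : (fun m : M => algebraMap B A t • m) = fun m => t • m := funext (hsmul t)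
    rw [this]
  · constructor
    · intro h p
      obtain ⟨q, rfl⟩ := E.surjective p
      haveI : q.1.IsPrime := q.2.1.1
      haveI : (E q).1.IsPrime := (E q).2.1.1
      have hq := h q ((Module.mem_support_iff (p := ⟨q.1, q.2.1.1⟩)).mp (hsupp _))
      rw [map_mk_eq_span_iff _ _ (IsLocalRing.le_maximalIdeal (Ideal.IsPrime.ne_top ‹_›)), key] at hq
      rw [map_mk_eq_span_iff _ _ (IsLocalRing.le_maximalIdeal (Ideal.IsPrime.ne_top ‹_›))]
      exact hq
    · intro h q _
      haveI : q.1.IsPrime := q.2.1.1
      haveI : (E q).1.IsPrime := (E q).2.1.1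
      have hq := h (E q)
      rw [map_mk_eq_span_iff _ _ (IsLocalRing.le_maximalIdeal (Ideal.IsPrime.ne_top ‹_›))] at hq
      rw [map_mk_eq_span_iff _ _ (IsLocalRing.le_maximalIdeal (Ideal.IsPrime.ne_top ‹_›)), key]
      exact hq

/-- Let B be a Noetherian local ring (the local ring of X at the generic point z of an irreducible
component Z of the support of F/tF), t an element of its maximal ideal, and M a finite B-module (the
stalk F_z) such that the support of M has positive dimension (Z is not an irreducible component of
Supp F) and M/tM has finite length (z is a maximal point of Supp(F/tF)). Then the length of M/tM is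
at least the sum, over the primes p of B minimal over the annihilator of M (the generic points of
the irreducible components of Supp F through z), of the lengths of the B_p-modules M_p; and the two
are equal if and only if t is a non-zero-divisor on M and for every such p the image of t generates
the maximal ideal of B/p (so that B/p is a discrete valuation ring with uniformizer t). -/
theorem result {B : Type u} [CommRing B] [IsNoetherianRing B]
    [IsLocalRing B] (t : B) (ht : t ∈ IsLocalRing.maximalIdeal B)
    (M : Type u) [AddCommGroup M] [Module B M] [Module.Finite B M]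
    (hdim : 0 < Module.supportDim B M)
    (hfin : Module.length B (M ⧸ (Ideal.span {t} • (⊤ : Submodule B M))) ≠ ⊤) :
    (∑ᶠ p : (Module.annihilator B M).minimalPrimes,
        haveI : p.1.IsPrime := p.2.1.1
        Module.length (Localization.AtPrime p.1) (LocalizedModule p.1.primeCompl M)) ≤
      Module.length B (M ⧸ (Ideal.span {t} • (⊤ : Submodule B M))) ∧
    ((∑ᶠ p : (Module.annihilator B M).minimalPrimes,
        haveI : p.1.IsPrime := p.2.1.1
        Module.length (Localization.AtPrime p.1) (LocalizedModule p.1.primeCompl M)) =
      Module.length B (M ⧸ (Ideal.span {t} • (⊤ : Submodule B M))) ↔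
    IsSMulRegular M t ∧
      ∀ p : (Module.annihilator B M).minimalPrimes,
        Ideal.map (Ideal.Quotient.mk p.1) (IsLocalRing.maximalIdeal B) =
          Ideal.span {Ideal.Quotient.mk p.1 t}) := by
  haveI hnt : Nontrivial M := by
    rw [← Module.supportDim_ne_bot_iff_nontrivial B]
    intro h
    rw [h] at hdim
    exact absurd hdim (by simp)
  have hIne : Module.annihilator B M ≠ ⊤ := by
    intro h
    have : (1 : B) ∈ Module.annihilator B M := h ▸ Submodule.mem_top
    rw [Module.mem_annihilator] at this
    obtain ⟨m, hm⟩ := exists_ne (0 : M)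
    exact hm (by simpa using this m)
  letI : Module (B ⧸ Module.annihilator B M) M := Module.quotientAnnihilator
  haveI : IsScalarTower B (B ⧸ Module.annihilator B M) M :=
    IsScalarTower.of_algebraMap_smul (fun r x => rfl)
  haveI : Nontrivial (B ⧸ Module.annihilator B M) := Ideal.Quotient.nontrivial_iff.mpr hIne
  haveI : IsLocalRing (B ⧸ Module.annihilator B M) :=
    IsLocalRing.of_surjective' (Ideal.Quotient.mk (Module.annihilator B M))
      Ideal.Quotient.mk_surjective
  exact core (A := B ⧸ Module.annihilator B M) Ideal.Quotient.mk_surjective M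
    (Ideal.mk_ker) t ht hdim hfin

end Groth.Agent.S12132
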