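import Groth.Statements.S12137
import Mathlib
import Groth.Agent.Lib.helper27.ProjQMap
import Groth.Agent.Lib.helper27.PolyGr
import Groth.Prelude.Def_RelSpec2

set_option autoImplicit false
universe u
open CategoryTheory CategoryTheory.Limits AlgebraicGeometry Opposite TopologicalSpace
open scoped HomogeneousIdeal
noncomputable section
open EGA2

namespace Groth.Agent.S12137aux
open CategoryTheory CategoryTheory.Limits AlgebraicGeometry Opposite TopologicalSpace
open scoped HomogeneousIdeal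
open Groth.Agent.Lib.helper27

variable {Y P : Scheme.{u}} (𝒜 : RelSpec.QCAlg Y) (Sh : RelProj.QCGrAlg Y) (ι : 𝒜 ⟶ Sh.toQCAlg)
  (hι : ∀ (U : Y.Opens) (hU : IsAffineOpen U) (a : 𝒜.presheaf.obj (op U)),
    (ι.hom.app (op U)).hom a ∈ Sh.deg U hU 0)
  (p : P ⟶ Y)
  (chart : ∀ (U : Y.Opens) (hU : IsAffineOpen U), (((p ⁻¹ᵁ U : P.Opens) : Scheme.{u}) ≅ Proj (Sh.deg U hU)))
  (hP : RelProj.IsRelProj Sh p chart)

section loc
variable (U : Y.Opens) (hU : IsAffineOpen U) (z' : Sh.presheaf.obj (op U)) (hz' : z' ∈ Sh.deg U hU 1)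
  (hpoly' : Function.Bijective (Polynomial.eval₂RingHom (ι.hom.app (op U)).hom z'))
  (θ' : CommRingCat.of (HomogeneousLocalization.Away (Sh.deg U hU) z') ⟶ 𝒜.presheaf.obj (op U))
  (hθ' : ∀ (q : HomogeneousLocalization.Away (Sh.deg U hU) z') (k : ℕ) (a : 𝒜.presheaf.obj (op U)),
    q.val = Localization.mk ((ι.hom.app (op U)).hom a * z' ^ k)
      ⟨z' ^ k, pow_mem (Submonoid.mem_powers z') k⟩ → θ'.hom q = a)

include hι hpoly' in
theorem exists_rep (t : HomogeneousLocalization.Away (Sh.deg U hU) z') :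
    ∃ (k : ℕ) (a : 𝒜.presheaf.obj (op U)) (hx : (ι.hom.app (op U)).hom a * z' ^ k ∈ Sh.deg U hU (k • 1)),
      t = HomogeneousLocalization.Away.mk _ hz' k ((ι.hom.app (op U)).hom a * z' ^ k) hx := by
  obtain ⟨k, x, hx, rfl⟩ := t.mk_surjective _ hz'
  have hx' : x ∈ Sh.deg U hU k := by simpa using hx
  obtain ⟨a, rfl⟩ := PolyGr.exists_of_mem₀ (Sh.deg U hU) (ι.hom.app (op U)).hom z' (hι U hU) hz' hpoly' hx'
  exact ⟨k, a, hx, rfl⟩

include hθ' in
theorem θ'_mk (k : ℕ) (a : 𝒜.presheaf.obj (op U))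
    (hx : (ι.hom.app (op U)).hom a * z' ^ k ∈ Sh.deg U hU (k • 1)) :
    θ'.hom (HomogeneousLocalization.Away.mk _ hz' k ((ι.hom.app (op U)).hom a * z' ^ k) hx) = a :=
  hθ' _ k a (HomogeneousLocalization.Away.val_mk _ _ _ _ _)

include hι hz' hpoly' hθ' in
theorem θ'_bijective : Function.Bijective θ'.hom := by
  constructor
  · intro t t' htt
    obtain ⟨k, a, hx, rfl⟩ := exists_rep 𝒜 Sh ι hι U hU z' hz' hpoly' t
    obtain ⟨k', a', hx', rfl⟩ := exists_rep 𝒜 Sh ι hι U hU z' hz' hpoly' t'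
    rw [θ'_mk 𝒜 Sh ι U hU z' hz' θ' hθ', θ'_mk 𝒜 Sh ι U hU z' hz' θ' hθ'] at htt
    subst htt
    apply HomogeneousLocalization.val_injective
    rw [HomogeneousLocalization.Away.val_mk, HomogeneousLocalization.Away.val_mk,
      Localization.mk_eq_mk_iff, Localization.r_iff_exists]
    refine ⟨1, ?_⟩
    simp only [OneMemClass.coe_one, one_mul]
    ring
  · intro a
    have hx : (ι.hom.app (op U)).hom a * z' ^ 0 ∈ Sh.deg U hU (0 • 1) := by
      simpa using hι U hU a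
    exact ⟨_, θ'_mk 𝒜 Sh ι U hU z' hz' θ' hθ' 0 a hx⟩

include hι hz' hpoly' hθ' in
theorem isIso_θ' : IsIso θ' :=
  (ConcreteCategory.isIso_iff_bijective _).mpr (θ'_bijective 𝒜 Sh ι hι U hU z' hz' hpoly' θ' hθ')

include hι hz' hpoly' in
theorem basicOpen_eq_top : Proj.basicOpen (Sh.deg U hU) z' = ⊤ := by
  rw [eq_top_iff]
  intro q _
  rw [Proj.mem_basicOpen]
  intro hzq
  apply q.not_irrelevant_le
  have : (HomogeneousIdeal.irrelevant (Sh.deg U hU)).toIdeal ≤ q.asHomogeneousIdeal.toIdeal := by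
    rw [HomogeneousIdeal.toIdeal_irrelevant_le]
    intro k hk x hx
    obtain ⟨a, rfl⟩ := PolyGr.exists_of_mem₀ (Sh.deg U hU) (ι.hom.app (op U)).hom z' (hι U hU) hz' hpoly' hx
    exact Ideal.mul_mem_left _ _ (Ideal.pow_mem_of_mem _ hzq _ hk)
  exact this

include hι hpoly' in
theorem isIso_awayι : IsIso (Proj.awayι (Sh.deg U hU) z' hz' one_pos) := by
  have h1 : (Proj.awayι (Sh.deg U hU) z' hz' one_pos).opensRange = ⊤ := by
    rw [Proj.opensRange_awayι, basicOpen_eq_top 𝒜 Sh ι hι U hU z' hz' hpoly']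
  exact isIso_of_isOpenImmersion_of_opensRange_eq_top _ h1

/-- the chart of `P` from `Spec 𝒜(U)`. -/
noncomputable def c' : Spec (𝒜.presheaf.obj (op U)) ⟶ P :=
  Spec.map θ' ≫ Proj.awayι (Sh.deg U hU) z' hz' one_pos ≫ RelProj.emb p chart U hU

include hι hpoly' hθ' in
theorem isOpenImmersion_c' : IsOpenImmersion (c' 𝒜 Sh p chart U hU z' hz' θ') := by
  have := isIso_θ' 𝒜 Sh ι hι U hU z' hz' hpoly' θ' hθ'
  unfold c' RelProj.emb
  infer_instance

include hι hpoly' hθ' in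
theorem opensRange_c' : Set.range (c' 𝒜 Sh p chart U hU z' hz' θ').base = ((p ⁻¹ᵁ U : P.Opens) : Set P) := by
  have h1 := isIso_θ' 𝒜 Sh ι hι U hU z' hz' hpoly' θ' hθ'
  have h2 := isIso_awayι 𝒜 Sh ι hι U hU z' hz' hpoly'
  have e : c' 𝒜 Sh p chart U hU z' hz' θ' =
      (Spec.map θ' ≫ Proj.awayι (Sh.deg U hU) z' hz' one_pos ≫ (chart U hU).inv) ≫ (p ⁻¹ᵁ U).ι := by
    unfold c' RelProj.emb
    simp only [Category.assoc]
  rw [e]
  have := Scheme.Hom.opensRange_comp_of_isIso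
    (Spec.map θ' ≫ Proj.awayι (Sh.deg U hU) z' hz' one_pos ≫ (chart U hU).inv) (p ⁻¹ᵁ U).ι
  rw [Scheme.Opens.opensRange_ι] at this
  exact congrArg (fun O : P.Opens => (O : Set P)) this

include hθ' hP in
theorem c'_p : c' 𝒜 Sh p chart U hU z' hz' θ' ≫ p = 𝒜.ι U hU ≫ 𝒜.π := by
  have hring : Sh.strZero U hU ≫ CommRingCat.ofHom (HomogeneousLocalization.fromZeroRingHom (Sh.deg U hU)
      (Submonoid.powers z')) ≫ θ' = 𝒜.str.app (op U) := by
    ext r
    change θ'.hom (HomogeneousLocalization.fromZeroRingHom (Sh.deg U hU)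
      (Submonoid.powers z') ((Sh.strZero U hU).hom r)) = _
    apply hθ' _ 0
    have hcomm : (Sh.str.app (op U)).hom r = (ι.hom.app (op U)).hom ((𝒜.str.app (op U)).hom r) := by
      have := congrArg (fun t => (t.app (op U)).hom r) ι.comm
      exact this.symm
    rw [← hcomm]
    change Localization.mk _ _ = Localization.mk _ _
    rw [Localization.mk_eq_mk_iff, Localization.r_iff_exists]
    refine ⟨1, ?_⟩
    simp
    rfl
  unfold c'
  rw [Category.assoc, Category.assoc, ProjQMap.emb_comp hP, Proj.awayι_toSpecZero_assoc,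
    ← Spec.map_comp_assoc, ← Spec.map_comp_assoc, hring, 𝒜.ι_π U hU]

end loc

section nat
variable (U : Y.Opens) (hU : IsAffineOpen U) (r : Γ(Y, U))

include hP in
theorem emb_res :
    Proj.map (Sh.res hU (hU.basicOpen r) (Y.basicOpen_le r)) (Sh.irrelevant_le_map U hU r) ≫
        RelProj.emb p chart U hU =
      RelProj.emb p chart (Y.basicOpen r) (hU.basicOpen r) := by
  have h := hP.chart_res U hU r
  have h' : Proj.map (Sh.res hU (hU.basicOpen r) (Y.basicOpen_le r)) (Sh.irrelevant_le_map U hU r) ≫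
      (chart U hU).inv =
      (chart (Y.basicOpen r) (hU.basicOpen r)).inv ≫ P.homOfLE (p.preimage_mono (Y.basicOpen_le r)) := by
    rw [Iso.eq_inv_comp, ← Category.assoc, ← h, Category.assoc, Iso.hom_inv_id, Category.comp_id]
  unfold RelProj.emb
  rw [← Category.assoc, h', Category.assoc, Scheme.homOfLE_ι]

include hι hP in
theorem nat_aux (zU : Sh.presheaf.obj (op U)) (hzU : zU ∈ Sh.deg U hU 1)
    (hpolyU : Function.Bijective (Polynomial.eval₂RingHom (ι.hom.app (op U)).hom zU))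
    (θU : CommRingCat.of (HomogeneousLocalization.Away (Sh.deg U hU) zU) ⟶ 𝒜.presheaf.obj (op U))
    (hθU : ∀ (q : HomogeneousLocalization.Away (Sh.deg U hU) zU) (k : ℕ) (a : 𝒜.presheaf.obj (op U)),
      q.val = Localization.mk ((ι.hom.app (op U)).hom a * zU ^ k)
        ⟨zU ^ k, pow_mem (Submonoid.mem_powers zU) k⟩ → θU.hom q = a)
    (zD : Sh.presheaf.obj (op (Y.basicOpen r)))
    (e : zD = (Sh.res hU (hU.basicOpen r) (Y.basicOpen_le r)) zU)
    (hzD : zD ∈ Sh.deg (Y.basicOpen r) (hU.basicOpen r) 1)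
    (θD : CommRingCat.of (HomogeneousLocalization.Away (Sh.deg (Y.basicOpen r) (hU.basicOpen r)) zD) ⟶
      𝒜.presheaf.obj (op (Y.basicOpen r)))
    (hθD : ∀ (q : HomogeneousLocalization.Away (Sh.deg (Y.basicOpen r) (hU.basicOpen r)) zD) (k : ℕ)
      (a : 𝒜.presheaf.obj (op (Y.basicOpen r))),
      q.val = Localization.mk ((ι.hom.app (op (Y.basicOpen r))).hom a * zD ^ k)
        ⟨zD ^ k, pow_mem (Submonoid.mem_powers zD) k⟩ → θD.hom q = a) :
    Spec.map (𝒜.presheaf.map (homOfLE (Y.basicOpen_le r)).op) ≫ c' 𝒜 Sh p chart U hU zU hzU θU =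
      c' 𝒜 Sh p chart (Y.basicOpen r) (hU.basicOpen r) zD hzD θD := by
  subst e
  have hring : θU ≫ 𝒜.presheaf.map (homOfLE (Y.basicOpen_le r)).op =
      CommRingCat.ofHom (HomogeneousLocalization.Away.map
        (Sh.res hU (hU.basicOpen r) (Y.basicOpen_le r)) zU) ≫ θD := by
    ext t
    obtain ⟨k, a, hx, rfl⟩ := exists_rep 𝒜 Sh ι hι U hU zU hzU hpolyU t
    change (𝒜.presheaf.map (homOfLE (Y.basicOpen_le r)).op).hom (θU.hom _) =
      θD.hom (HomogeneousLocalization.Away.map (Sh.res hU (hU.basicOpen r) (Y.basicOpen_le r)) zU _)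
    rw [θ'_mk 𝒜 Sh ι U hU zU hzU θU hθU, HomogeneousLocalization.Away.map_mk]
    symm
    apply hθD _ k
    rw [HomogeneousLocalization.Away.val_mk]
    congr 1
    rw [map_mul, map_pow]
    congr 1
    have := congrArg (fun t => t.hom a) (ι.hom.naturality (homOfLE (Y.basicOpen_le r)).op)
    exact this.symm
  unfold c'
  rw [← Spec.map_comp_assoc, hring, Spec.map_comp_assoc, ← emb_res Sh p chart hP U hU r,
    ← Proj.awayι_comp_map_assoc (Sh.res hU (hU.basicOpen r) (Y.basicOpen_le r))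
      (Sh.irrelevant_le_map U hU r) one_pos zU hzU]

end nat

section main
variable (z : Sh.presheaf.obj (op ⊤))
  (hz : ∀ (U : Y.Opens) (hU : IsAffineOpen U), RelCone.restrictTop Sh z U ∈ Sh.deg U hU 1)
  (hpoly : ∀ (U : Y.Opens) (hU : IsAffineOpen U),
    Function.Bijective (Polynomial.eval₂RingHom (ι.hom.app (op U)).hom (RelCone.restrictTop Sh z U)))
  (θ : ∀ (U : Y.Opens) (hU : IsAffineOpen U),
    CommRingCat.of (HomogeneousLocalization.Away (Sh.deg U hU) (RelCone.restrictTop Sh z U)) ⟶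
      𝒜.presheaf.obj (op U))
  (hθ : ∀ (U : Y.Opens) (hU : IsAffineOpen U)
    (q : HomogeneousLocalization.Away (Sh.deg U hU) (RelCone.restrictTop Sh z U))
    (k : ℕ) (a : 𝒜.presheaf.obj (op U)),
      q.val = Localization.mk ((ι.hom.app (op U)).hom a * RelCone.restrictTop Sh z U ^ k)
        ⟨RelCone.restrictTop Sh z U ^ k,
          pow_mem (Submonoid.mem_powers (RelCone.restrictTop Sh z U)) k⟩ →
      (θ U hU).hom q = a)

/-- the chart over `U`. -/
noncomputable abbrev c (U : Y.Opens) (hU : IsAffineOpen U) : Spec (𝒜.presheaf.obj (op U)) ⟶ P :=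
  c' 𝒜 Sh p chart U hU (RelCone.restrictTop Sh z U) (hz U hU) (θ U hU)

include hι hP hpoly hθ in
theorem nat (U : Y.Opens) (hU : IsAffineOpen U) (r : Γ(Y, U)) :
    Spec.map (𝒜.presheaf.map (homOfLE (Y.basicOpen_le r)).op) ≫ c 𝒜 Sh p chart z hz θ U hU =
      c 𝒜 Sh p chart z hz θ (Y.basicOpen r) (hU.basicOpen r) := by
  refine nat_aux 𝒜 Sh ι hι p chart hP U hU r _ (hz U hU) (hpoly U hU) (θ U hU) (hθ U hU) _ ?_
    (hz _ (hU.basicOpen r)) (θ _ (hU.basicOpen r)) (hθ _ (hU.basicOpen r))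
  change (Sh.presheaf.map _).hom z = (Sh.presheaf.map _).hom ((Sh.presheaf.map _).hom z)
  rw [← CommRingCat.comp_apply, ← Functor.map_comp]
  rfl

include hι hP hpoly hθ in
theorem nat_site {U V : Y.AffineZariskiSite} (f : V ⟶ U) :
    Spec.map (𝒜.presheaf.map (homOfLE (Scheme.AffineZariskiSite.toOpens_mono f.le)).op) ≫
        c 𝒜 Sh p chart z hz θ U.1 U.2 = c 𝒜 Sh p chart z hz θ V.1 V.2 := by
  obtain ⟨U, hU⟩ := U
  obtain ⟨V, hV⟩ := V
  obtain ⟨r, hr⟩ := f.le
  change Y.basicOpen r = V at hr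
  subst hr
  exact nat 𝒜 Sh ι hι p chart hP z hz hpoly θ hθ U hU r

/-- the cocone. -/
noncomputable def cocone (hι' : ∀ (U : Y.Opens) (hU : IsAffineOpen U) (a : 𝒜.presheaf.obj (op U)),
    (ι.hom.app (op U)).hom a ∈ Sh.deg U hU 0) (hP' : RelProj.IsRelProj Sh p chart)
    (hpoly' : ∀ (U : Y.Opens) (hU : IsAffineOpen U),
      Function.Bijective (Polynomial.eval₂RingHom (ι.hom.app (op U)).hom (RelCone.restrictTop Sh z U)))
    (hθ' : ∀ (U : Y.Opens) (hU : IsAffineOpen U)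
      (q : HomogeneousLocalization.Away (Sh.deg U hU) (RelCone.restrictTop Sh z U))
      (k : ℕ) (a : 𝒜.presheaf.obj (op U)),
        q.val = Localization.mk ((ι.hom.app (op U)).hom a * RelCone.restrictTop Sh z U ^ k)
          ⟨RelCone.restrictTop Sh z U ^ k,
            pow_mem (Submonoid.mem_powers (RelCone.restrictTop Sh z U)) k⟩ →
        (θ U hU).hom q = a) : Cocone 𝒜.glueData.functor where
  pt := P
  ι :=
    { app := fun U => c 𝒜 Sh p chart z hz θ U.1 U.2
      naturality := fun V U f => by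
        change Spec.map (𝒜.presheaf.map (homOfLE (Scheme.AffineZariskiSite.toOpens_mono f.le)).op) ≫
          c 𝒜 Sh p chart z hz θ U.1 U.2 = c 𝒜 Sh p chart z hz θ V.1 V.2 ≫ 𝟙 P
        rw [Category.comp_id]
        exact nat_site 𝒜 Sh ι hι' p chart hP' z hz hpoly' θ hθ' f }

include hι hP hpoly hθ in
theorem main :
    (∃! i : 𝒜.spec ⟶ P, ∀ (U : Y.Opens) (hU : IsAffineOpen U),
        𝒜.ι U hU ≫ i = c 𝒜 Sh p chart z hz θ U hU) ∧
      ∀ i : 𝒜.spec ⟶ P, (∀ (U : Y.Opens) (hU : IsAffineOpen U),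
        𝒜.ι U hU ≫ i = c 𝒜 Sh p chart z hz θ U hU) → IsIso i ∧ i ≫ p = 𝒜.π := by
  constructor
  · refine ⟨colimit.desc 𝒜.glueData.functor (cocone 𝒜 Sh ι p chart z hz θ hι hP hpoly hθ), ?_, ?_⟩
    · intro U hU
      exact colimit.ι_desc (cocone 𝒜 Sh ι p chart z hz θ hι hP hpoly hθ) ⟨U, hU⟩
    · intro i' hi'
      apply colimit.hom_ext
      intro U
      change 𝒜.ι U.1 U.2 ≫ i' = 𝒜.ι U.1 U.2 ≫ _
      rw [hi' U.1 U.2]
      exact (colimit.ι_desc (cocone 𝒜 Sh ι p chart z hz θ hι hP hpoly hθ) U).symm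
  · intro i hi
    have hover : i ≫ p = 𝒜.π := by
      apply colimit.hom_ext
      intro U
      change 𝒜.ι U.1 U.2 ≫ i ≫ p = 𝒜.ι U.1 U.2 ≫ 𝒜.π
      rw [← Category.assoc, hi U.1 U.2]
      exact c'_p 𝒜 Sh ι p chart hP U.1 U.2 _ (hz U.1 U.2) (θ U.1 U.2) (hθ U.1 U.2)
    refine ⟨?_, hover⟩
    have hc : ∀ U : Y.affineOpens, IsOpenImmersion (c 𝒜 Sh p chart z hz θ U.1 U.2) := fun U =>
      isOpenImmersion_c' 𝒜 Sh ι hι p chart U.1 U.2 _ (hz U.1 U.2) (hpoly U.1 U.2) (θ U.1 U.2) (hθ U.1 U.2)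
    have hrange : ∀ U : Y.affineOpens, Set.range (c 𝒜 Sh p chart z hz θ U.1 U.2).base =
        ((p ⁻¹ᵁ U.1 : P.Opens) : Set P) := fun U =>
      opensRange_c' 𝒜 Sh ι hι p chart U.1 U.2 _ (hz U.1 U.2) (hpoly U.1 U.2) (θ U.1 U.2) (hθ U.1 U.2)
    have key := ProjQMap.of_charts (MorphismProperty.isomorphisms Scheme.{u}) i
      (ι := Y.affineOpens)
      (fun U => Spec (𝒜.presheaf.obj (op U.1))) (fun U => Spec (𝒜.presheaf.obj (op U.1)))
      (fun U => c 𝒜 Sh p chart z hz θ U.1 U.2) hc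
      (fun U => 𝒜.ι U.1 U.2) (fun U => inferInstance) (fun U => 𝟙 _)
      (fun y => by
        obtain ⟨U, hyU⟩ := ProjQMap.exists_affine_mem P p y
        refine ⟨U, ?_⟩
        rw [hrange U]
        exact hyU)
      (fun U => by rw [Category.id_comp]; exact hi U.1 U.2)
      (fun U => by
        have h1 : (c 𝒜 Sh p chart z hz θ U.1 U.2).opensRange = p ⁻¹ᵁ U.1 :=
          TopologicalSpace.Opens.ext (hrange U)
        rw [h1, ← Scheme.Hom.comp_preimage, hover, 𝒜.π_preimage U.1 U.2])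
      (fun U => (MorphismProperty.isomorphisms.iff _).mpr inferInstance)
    exact (MorphismProperty.isomorphisms.iff _).mp key

end main

end Groth.Agent.S12137aux

namespace Groth.Agent.S12137

/-- Let Y be a scheme, 𝒜 a quasi-coherent O_Y-algebra and Ŝ = 𝒜[T], graded with 𝒜 in degree 0 and T in
degree 1 — presented through a homomorphism of algebras ι : 𝒜 → Ŝ landing in degree 0 and a global
section z of Ŝ of degree 1 such that, over every affine open U, the map 𝒜(U)[X] → Ŝ(U) sending X to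
z is bijective — and let p : P → Y with its charts be the relative homogeneous spectrum Proj(Ŝ). For
each affine open U let θ_U : Ŝ(U)_(z) → 𝒜(U) be the ring isomorphism sending ι(a) z^k / z^k to a.
Then there is a unique morphism i : Spec(𝒜) → P which, on the chart Spec 𝒜(U) of Spec(𝒜) over each
affine open U, is Spec(θ_U) followed by the open immersion of D_+(z|U) into Proj Ŝ(U) and the chart
of P; moreover i is an isomorphism and lies over Y. In particular Proj(O_Y[T]) is Y. -/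
theorem result {Y P : Scheme.{u}} (𝒜 : RelSpec.QCAlg Y) (Sh : RelProj.QCGrAlg Y)
    (ι : 𝒜 ⟶ Sh.toQCAlg)
    (hι : ∀ (U : Y.Opens) (hU : IsAffineOpen U) (a : 𝒜.presheaf.obj (op U)), (ι.hom.app (op U)).hom a ∈ Sh.deg U hU 0)
    (z : Sh.presheaf.obj (op ⊤))
    (hz : ∀ (U : Y.Opens) (hU : IsAffineOpen U), (Sh.presheaf.map (homOfLE le_top).op).hom z ∈ Sh.deg U hU 1)
    (hpoly : ∀ (U : Y.Opens) (hU : IsAffineOpen U),
      Function.Bijective (Polynomial.eval₂RingHom (ι.hom.app (op U)).hom ((Sh.presheaf.map (homOfLE le_top).op).hom z)))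
    (p : P ⟶ Y)
    (chart : ∀ (U : Y.Opens) (hU : IsAffineOpen U), (((p ⁻¹ᵁ U : P.Opens) : Scheme.{u}) ≅ Proj (Sh.deg U hU)))
    (hP : RelProj.IsRelProj Sh p chart)
    (θ : ∀ (U : Y.Opens) (hU : IsAffineOpen U),
      CommRingCat.of (HomogeneousLocalization.Away (Sh.deg U hU) ((Sh.presheaf.map (homOfLE le_top).op).hom z)) ⟶
        𝒜.presheaf.obj (op U))
    (hθ : ∀ (U : Y.Opens) (hU : IsAffineOpen U)
      (q : HomogeneousLocalization.Away (Sh.deg U hU) ((Sh.presheaf.map (homOfLE le_top).op).hom z))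
      (k : ℕ) (a : 𝒜.presheaf.obj (op U)),
        q.val = Localization.mk ((ι.hom.app (op U)).hom a * (Sh.presheaf.map (homOfLE le_top).op).hom z ^ k)
          ⟨(Sh.presheaf.map (homOfLE le_top).op).hom z ^ k,
            pow_mem (Submonoid.mem_powers ((Sh.presheaf.map (homOfLE le_top).op).hom z)) k⟩ →
        (θ U hU).hom q = a) :
    (∃! i : 𝒜.spec ⟶ P, ∀ (U : Y.Opens) (hU : IsAffineOpen U),
        𝒜.ι U hU ≫ i =
          Spec.map (θ U hU) ≫
            Proj.awayι (Sh.deg U hU) ((Sh.presheaf.map (homOfLE le_top).op).hom z) (hz U hU) one_pos ≫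
              RelProj.emb p chart U hU) ∧
      ∀ i : 𝒜.spec ⟶ P, (∀ (U : Y.Opens) (hU : IsAffineOpen U),
        𝒜.ι U hU ≫ i =
          Spec.map (θ U hU) ≫
            Proj.awayι (Sh.deg U hU) ((Sh.presheaf.map (homOfLE le_top).op).hom z) (hz U hU) one_pos ≫
              RelProj.emb p chart U hU) →
        IsIso i ∧ i ≫ p = 𝒜.π := by
  exact Groth.Agent.S12137aux.main 𝒜 Sh ι hι p chart hP z hz hpoly θ hθ

end Groth.Agent.S12137
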