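import Groth.Statements.S1214
import Mathlib
-- import your own Groth.Agent.* helpers here

set_option autoImplicit false
universe u
open FlatMor

namespace Groth.Agent.S1214

theorem pow_smul_mem {S : Type u} [CommRing S] (J : Ideal S) {N : Type u} [AddCommGroup N]
    [Module S N] {b : S} (hb : b ∈ J) (n : ℕ) (x : N) :
    b ^ n • x ∈ (J ^ n • ⊤ : Submodule S N) :=
  Submodule.smul_mem_smul (Ideal.pow_mem_pow hb n) trivial

theorem one_sub_smul_bijective {S : Type u} [CommRing S] (J : Ideal S) (N : Type u)
    [AddCommGroup N] [Module S N] [IsAdicComplete J N] {b : S} (hb : b ∈ J) :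
    Function.Bijective (fun x : N => (1 - b) • x) := by
  constructor
  · intro x y hxy
    simp only at hxy
    have hw : (x - y) = b • (x - y) := by
      have : (1 - b) • (x - y) = 0 := by rw [smul_sub, hxy, sub_self]
      rw [sub_smul, one_smul, sub_eq_zero] at this
      exact this
    have hwn : ∀ n : ℕ, (x - y) = b ^ n • (x - y) := by
      intro n
      induction n with
      | zero => simp
      | succ n ih => rw [pow_succ, mul_smul, ← hw, ← ih]
    have := IsHausdorff.haus (inferInstance : IsHausdorff J N) (x - y) (fun n => by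
      rw [SModEq.zero, hwn n]
      exact pow_smul_mem J hb n _)
    exact sub_eq_zero.mp this
  · intro y
    have hc : ∀ {m n : ℕ}, m ≤ n → (∑ k ∈ Finset.range m, b ^ k) • y ≡
        (∑ k ∈ Finset.range n, b ^ k) • y [SMOD (J ^ m • ⊤ : Submodule S N)] := by
      intro m n hmn
      rw [SModEq.sub_mem, ← sub_smul, ← neg_sub, neg_smul, neg_mem_iff,
        ← Finset.sum_Ico_eq_sub _ hmn]
      refine Submodule.smul_mem_smul (Ideal.sum_mem _ fun k hk => ?_) trivial
      exact Ideal.pow_le_pow_right (Finset.mem_Ico.mp hk).1 (Ideal.pow_mem_pow hb k)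
    obtain ⟨L, hL⟩ := IsPrecomplete.prec (inferInstance : IsPrecomplete J N) hc
    refine ⟨L, ?_⟩
    simp only
    have key : ∀ n : ℕ, (1 - b) • L - y ∈ (J ^ n • ⊤ : Submodule S N) := by
      intro n
      have h1 := (hL n).smul (1 - b)
      rw [SModEq.sub_mem, smul_smul, mul_neg_geom_sum, sub_smul, one_smul] at h1
      have h2 : (1 - b) • L - y = -(y - b ^ n • y - (1 - b) • L) - b ^ n • y := by abel
      rw [h2]
      exact sub_mem (neg_mem h1) (pow_smul_mem J hb n y)
    have := IsHausdorff.haus (inferInstance : IsHausdorff J N) ((1 - b) • L - y) (fun n => by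
      rw [SModEq.zero]
      exact key n)
    exact sub_eq_zero.mp this

open TensorProduct in
/-- Let R → S be a ring map, I an ideal of R and N an S-module which is I-adically complete. Then for
every R-module M and every prime q of S which is the annihilator of an element of the S-module N ⊗_R
M we have q + IS ≠ S. -/
theorem result {R S : Type u} [CommRing R] [CommRing S] [Algebra R S] (I : Ideal R)
    (N : Type u) [AddCommGroup N] [Module S N] [Module R N] [IsScalarTower R S N] [IsAdicComplete I N]
    (M : Type u) [AddCommGroup M] [Module R M]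
    (q : Ideal S) [q.IsPrime] (hq : q ∈ FlatCA.ass S (N ⊗[R] M)) :
    q ⊔ I.map (algebraMap R S) ≠ ⊤ := by
  intro htop
  obtain ⟨hqp, z, hz⟩ := hq
  have h1 : (1 : S) ∈ q ⊔ I.map (algebraMap R S) := by rw [htop]; trivial
  obtain ⟨a, ha, b, hb, hab⟩ := Submodule.mem_sup.mp h1
  have haz : a • z = 0 := by
    rw [hz] at ha
    exact (Submodule.mem_annihilator_span_singleton z a).mp ha
  have hcomp : IsAdicComplete (I.map (algebraMap R S)) N :=
    (IsAdicComplete.map_algebraMap_iff (S := S) I N).mpr inferInstance
  have hbij := one_sub_smul_bijective (I.map (algebraMap R S)) N hb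
  have ha' : a = 1 - b := by rw [← hab]; ring
  let μ : N →ₗ[R] N := (LinearMap.lsmul S N a).restrictScalars R
  have hμbij : Function.Bijective μ := by
    have : (μ : N → N) = fun x : N => (1 - b) • x := by
      funext x
      simp only [μ, ha', LinearMap.coe_restrictScalars, LinearMap.lsmul_apply]
    rw [this]
    exact hbij
  let e : N ≃ₗ[R] N := LinearEquiv.ofBijective μ hμbij
  have hμ : ∀ w : N ⊗[R] M, a • w = μ.rTensor M w := by
    intro w
    induction w using TensorProduct.induction_on with
    | zero => simp
    | tmul n m => rw [TensorProduct.smul_tmul', LinearMap.rTensor_tmul]; rfl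
    | add x y hx hy => rw [smul_add, hx, hy, map_add]
  have hz0 : z = 0 := by
    have h0 : μ.rTensor M z = 0 := by rw [← hμ, haz]
    have hinj : Function.Injective (μ.rTensor M) := (LinearEquiv.rTensor M e).injective
    exact hinj (by rw [h0, map_zero])
  apply hqp.ne_top
  rw [hz, hz0]
  simp [Submodule.annihilator_bot]

end Groth.Agent.S1214
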