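import Groth.Statements.S12140
import Mathlib
import Groth.Agent.Lib.helper27.DomQ
import Groth.Agent.Lib.helper27.ProjCone2
import Groth.Agent.Lib.helper27.ProjQMap
import Groth.Prelude.Def_RelSpec2
import Groth.Prelude.Def_RelProj4

set_option autoImplicit false
universe u
open CategoryTheory CategoryTheory.Limits AlgebraicGeometry TopologicalSpace Opposite
open scoped HomogeneousIdeal
noncomputable section
open EGA2

namespace Groth.Agent.S12140aux
open CategoryTheory CategoryTheory.Limits AlgebraicGeometry Opposite TopologicalSpace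
open scoped HomogeneousIdeal
open Groth.Agent.Lib.helper27
open Groth.Agent.Lib.helper27.ProjQMap

variable {Y PA PB : Scheme.{u}} {𝒜 ℬ : RelProj.QCGrAlg Y}
    (φ : 𝒜.toQCAlg ⟶ ℬ.toQCAlg) (hφ : RelProj.IsGradedHom φ)
    (pA : PA ⟶ Y) (chartA : ∀ (U : Y.Opens) (hU : IsAffineOpen U), (((pA ⁻¹ᵁ U : PA.Opens) : Scheme.{u}) ≅ Proj (𝒜.deg U hU)))
    (hA : RelProj.IsRelProj 𝒜 pA chartA)
    (pB : PB ⟶ Y) (chartB : ∀ (U : Y.Opens) (hU : IsAffineOpen U), (((pB ⁻¹ᵁ U : PB.Opens) : Scheme.{u}) ≅ Proj (ℬ.deg U hU)))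
    (hB : RelProj.IsRelProj ℬ pB chartB)

theorem mem_domOpen_psi_iff (U : Y.Opens) (hU : IsAffineOpen U) (pt : Proj (ℬ.deg U hU)) :
    pt ∈ RelCone.domOpen (psi φ hφ U hU) ↔ pt ∈ RelCone.domOpen (RelProj.gradedHomAt φ hφ U hU) := by
  rw [RelCone.mem_domOpen, RelCone.mem_domOpen]
  constructor
  · rintro ⟨f, hf, hfq⟩
    refine ⟨f, hf, ?_⟩
    rw [psi_apply] at hfq
    exact hfq
  · rintro ⟨f, hf, hfq⟩
    refine ⟨f, hf, ?_⟩
    rw [psi_apply]
    exact hfq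

include hB in
/-- part (2). -/
theorem part2 (U : Y.Opens) (hU : IsAffineOpen U) :
    RelProj.domQ (RelProj.QGrHom.ofHom φ hφ) pB chartB ⊓ pB ⁻¹ᵁ U =
      (RelProj.emb pB chartB U hU) ''ᵁ RelCone.domOpen (RelProj.gradedHomAt φ hφ U hU) := by
  apply le_antisymm
  · rintro x ⟨hx1, hx2⟩
    have hx3 : x ∈ (RelProj.emb pB chartB U hU).opensRange := by
      rw [ProjCone.range_emb]; exact hx2
    obtain ⟨pt, rfl⟩ := hx3
    have := DomQ.cc (RelProj.QGrHom.ofHom φ hφ) pB chartB hB U hU U hU (hle U) pt hx1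
    exact ⟨pt, (mem_domOpen_psi_iff φ hφ U hU pt).mp this, rfl⟩
  · rintro _ ⟨pt, hpt, rfl⟩
    refine ⟨?_, ?_⟩
    · change _ ∈ RelProj.domQ (RelProj.QGrHom.ofHom φ hφ) pB chartB
      unfold RelProj.domQ
      rw [Opens.mem_iSup]
      exact ⟨⟨(⟨U, hU⟩, ⟨U, hU⟩), hle U⟩, pt, (mem_domOpen_psi_iff φ hφ U hU pt).mpr hpt, rfl⟩
    · have : (RelProj.emb pB chartB U hU).base pt ∈ (RelProj.emb pB chartB U hU).opensRange :=
        ⟨pt, rfl⟩
      rw [ProjCone.range_emb] at this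
      exact this

include hB in
/-- every point of `G(φ)` over `U` lies in a standard `(U, U)`-chart. -/
theorem exists_chart (U : Y.Opens) (hU : IsAffineOpen U) (x : PB)
    (hx1 : x ∈ RelProj.domQ (RelProj.QGrHom.ofHom φ hφ) pB chartB) (hx2 : pB.base x ∈ U) :
    ∃ (d : ℕ) (hd : 0 < d) (f : 𝒜.presheaf.obj (op U)) (hf : f ∈ 𝒜.deg U hU d) (w : _),
      (aB φ hφ pB chartB ⟨U, hU, d, hd, f, hf⟩).base w = x := by
  have hx3 : x ∈ (RelProj.emb pB chartB U hU).opensRange := by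
    rw [ProjCone.range_emb]; exact hx2
  obtain ⟨pt, rfl⟩ := hx3
  have hpt := DomQ.cc (RelProj.QGrHom.ofHom φ hφ) pB chartB hB U hU U hU (hle U) pt hx1
  rw [RelCone.mem_domOpen] at hpt
  obtain ⟨g₀, hg₀, hgq⟩ := hpt
  have hnot : ¬ (HomogeneousIdeal.irrelevant (𝒜.deg U hU)).toIdeal ≤
      Ideal.comap (psi φ hφ U hU).toRingHom pt.asHomogeneousIdeal.toIdeal := by
    intro h
    exact hgq (h hg₀)
  rw [HomogeneousIdeal.toIdeal_irrelevant_le] at hnot
  push Not at hnot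
  obtain ⟨d, hd, hnle⟩ := hnot
  obtain ⟨f, hf, hfq⟩ := SetLike.not_le_iff_exists.mp hnle
  have hmem : pt ∈ Proj.basicOpen (ℬ.deg U hU) (psi φ hφ U hU f) := by
    rw [Proj.mem_basicOpen]; exact hfq
  have hmem' : pt ∈ (Proj.awayι (ℬ.deg U hU) (psi φ hφ U hU f)
      ((psi φ hφ U hU).map_mem hf) hd).opensRange := by
    rw [Proj.opensRange_awayι]; exact hmem
  obtain ⟨w, rfl⟩ := hmem'
  exact ⟨d, hd, f, hf, w, rfl⟩

variable (Φ : ((RelProj.domQ (RelProj.QGrHom.ofHom φ hφ) pB chartB : PB.Opens) : Scheme.{u}) ⟶ PA)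
    (hΦ : RelProj.IsProjQMapOn (RelProj.QGrHom.ofHom φ hφ) pA chartA pB chartB
      (RelProj.domQ (RelProj.QGrHom.ofHom φ hφ) pB chartB) Φ)

/-- the standard chart of `G(φ)`, lifted into `G(φ)`. -/
noncomputable abbrev L (i : Idx 𝒜) :
    Spec (CommRingCat.of (HomogeneousLocalization.Away (ℬ.deg i.U i.hU) (psi φ hφ i.U i.hU i.f))) ⟶
      ((RelProj.domQ (RelProj.QGrHom.ofHom φ hφ) pB chartB : PB.Opens) : Scheme.{u}) :=
  IsOpenImmersion.lift (RelProj.domQ (RelProj.QGrHom.ofHom φ hφ) pB chartB).ι (aB φ hφ pB chartB i)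
    (RelProj.range_awayEmb_subset_domQ (RelProj.QGrHom.ofHom φ hφ) pB chartB i.U i.hU i.U i.hU
      (hle i.U) i.hd i.f i.hf)

theorem L_ι (i : Idx 𝒜) :
    L φ hφ pB chartB i ≫ (RelProj.domQ (RelProj.QGrHom.ofHom φ hφ) pB chartB).ι = aB φ hφ pB chartB i :=
  IsOpenImmersion.lift_fac _ _ _

theorem isOpenImmersion_L (i : Idx 𝒜) : IsOpenImmersion (L φ hφ pB chartB i) := by
  have : IsOpenImmersion (L φ hφ pB chartB i ≫
      (RelProj.domQ (RelProj.QGrHom.ofHom φ hφ) pB chartB).ι) := by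
    rw [L_ι]; infer_instance
  exact IsOpenImmersion.of_comp (L φ hφ pB chartB i)
    (RelProj.domQ (RelProj.QGrHom.ofHom φ hφ) pB chartB).ι

include hΦ in
theorem L_Φ (i : Idx 𝒜) : L φ hφ pB chartB i ≫ Φ = gAB φ hφ i ≫ cA pA chartA i :=
  hΦ i.U i.hU i.U i.hU (hle i.U) i.d i.hd i.f i.hf _

include hA hB hΦ in
theorem L_Φ_pA (i : Idx 𝒜) :
    L φ hφ pB chartB i ≫ Φ ≫ pA =
      L φ hφ pB chartB i ≫ (RelProj.domQ (RelProj.QGrHom.ofHom φ hφ) pB chartB).ι ≫ pB := by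
  rw [← Category.assoc, L_Φ φ hφ pA chartA pB chartB Φ hΦ i, Category.assoc, cA, Category.assoc,
    awayι_emb_comp hA i, ← Category.assoc (L φ hφ pB chartB i), L_ι, aB_comp hB i, gAB,
    ← Spec.map_comp_assoc, ring_comm φ hφ i]

theorem ι_mem (b : ((RelProj.domQ (RelProj.QGrHom.ofHom φ hφ) pB chartB : PB.Opens) : Scheme.{u})) :
    (RelProj.domQ (RelProj.QGrHom.ofHom φ hφ) pB chartB).ι.base b ∈
      RelProj.domQ (RelProj.QGrHom.ofHom φ hφ) pB chartB := by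
  have h0 : (RelProj.domQ (RelProj.QGrHom.ofHom φ hφ) pB chartB).ι.base b ∈
      Set.range (RelProj.domQ (RelProj.QGrHom.ofHom φ hφ) pB chartB).ι.base := ⟨b, rfl⟩
  rw [Scheme.Opens.range_ι] at h0
  exact h0

theorem eq_L_of_ι_eq (i : Idx 𝒜)
    (b : ((RelProj.domQ (RelProj.QGrHom.ofHom φ hφ) pB chartB : PB.Opens) : Scheme.{u})) (w : _)
    (hw : (aB φ hφ pB chartB i).base w =
      (RelProj.domQ (RelProj.QGrHom.ofHom φ hφ) pB chartB).ι.base b) :
    b = (L φ hφ pB chartB i).base w := by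
  apply (RelProj.domQ (RelProj.QGrHom.ofHom φ hφ) pB chartB).ι.isOpenEmbedding.injective
  rw [← hw]
  have := congrArg (fun k => k.base w) (L_ι φ hφ pB chartB i)
  simp only [Scheme.Hom.comp_base, TopCat.hom_comp, ContinuousMap.comp_apply] at this
  exact this.symm

include hA hB hΦ in
theorem pA_Φ (b : ((RelProj.domQ (RelProj.QGrHom.ofHom φ hφ) pB chartB : PB.Opens) : Scheme.{u})) :
    pA.base (Φ.base b) = pB.base ((RelProj.domQ (RelProj.QGrHom.ofHom φ hφ) pB chartB).ι.base b) := by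
  obtain ⟨U, hxU⟩ := exists_affine_mem PB pB
    ((RelProj.domQ (RelProj.QGrHom.ofHom φ hφ) pB chartB).ι.base b)
  obtain ⟨d, hd, f, hf, w, hw⟩ := exists_chart φ hφ pB chartB hB U.1 U.2 _
    (ι_mem φ hφ pB chartB b) hxU
  rw [eq_L_of_ι_eq φ hφ pB chartB ⟨U.1, U.2, d, hd, f, hf⟩ b w hw]
  have := congrArg (fun k => k.base w) (L_Φ_pA φ hφ pA chartA hA pB chartB hB Φ hΦ ⟨U.1, U.2, d, hd, f, hf⟩)
  simp only [Scheme.Hom.comp_base, TopCat.hom_comp, ContinuousMap.comp_apply] at this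
  exact this

include hA hB hΦ in
theorem preimage_eq (i : Idx 𝒜) :
    Φ ⁻¹ᵁ (cA pA chartA i).opensRange = (L φ hφ pB chartB i).opensRange := by
  apply le_antisymm
  · intro b hb
    obtain ⟨v, hv⟩ := hb
    have hpA : pA.base (Φ.base b) ∈ i.U := by
      rw [← hv]
      have : (cA pA chartA i).base v ∈ (RelProj.emb pA chartA i.U i.hU).opensRange :=
        ⟨(Proj.awayι (𝒜.deg i.U i.hU) i.f i.hf i.hd).base v, rfl⟩
      rw [ProjCone.range_emb] at this
      exact this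
    rw [pA_Φ φ hφ pA chartA hA pB chartB hB Φ hΦ b] at hpA
    obtain ⟨d, hd, g, hg, w, hw⟩ := exists_chart φ hφ pB chartB hB i.U i.hU _
      (ι_mem φ hφ pB chartB b) hpA
    have hbL := eq_L_of_ι_eq φ hφ pB chartB ⟨i.U, i.hU, d, hd, g, hg⟩ b w hw
    have hΦb : Φ.base b = (RelProj.emb pA chartA i.U i.hU).base
        ((Proj.awayι (𝒜.deg i.U i.hU) g hg hd).base
          ((gAB φ hφ ⟨i.U, i.hU, d, hd, g, hg⟩).base w)) := by
      rw [hbL]
      have := congrArg (fun k => k.base w) (L_Φ φ hφ pA chartA pB chartB Φ hΦ ⟨i.U, i.hU, d, hd, g, hg⟩)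
      simp only [Scheme.Hom.comp_base, TopCat.hom_comp, ContinuousMap.comp_apply] at this
      exact this
    have h1 : (Proj.awayι (𝒜.deg i.U i.hU) g hg hd).base
          ((gAB φ hφ ⟨i.U, i.hU, d, hd, g, hg⟩).base w) =
        (Proj.awayι (𝒜.deg i.U i.hU) i.f i.hf i.hd).base v := by
      apply DomQ.emb_injective pA chartA i.U i.hU
      rw [← hΦb]
      exact hv.symm
    have h2 : (Proj.awayι (𝒜.deg i.U i.hU) g hg hd).base
          ((gAB φ hφ ⟨i.U, i.hU, d, hd, g, hg⟩).base w) ∈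
        Proj.basicOpen (𝒜.deg i.U i.hU) i.f := by
      rw [h1]
      exact (Proj.opensRange_awayι (𝒜.deg i.U i.hU) _ i.hf i.hd).le ⟨v, rfl⟩
    rw [mem_basicOpen_iff' (psi φ hφ i.U i.hU) i.hd hd i.f g i.hf hg w] at h2
    have h3 : (Proj.awayι (ℬ.deg i.U i.hU) (psi φ hφ i.U i.hU g)
        (GradedFunLike.map_mem (psi φ hφ i.U i.hU) hg) hd).base w ∈
        (Proj.awayι (ℬ.deg i.U i.hU) (psi φ hφ i.U i.hU i.f)
          ((psi φ hφ i.U i.hU).map_mem i.hf) i.hd).opensRange := by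
      rw [Proj.opensRange_awayι]; exact h2
    obtain ⟨w', hw'⟩ := h3
    refine ⟨w', ?_⟩
    have hb2 := eq_L_of_ι_eq φ hφ pB chartB i b w' (by
      rw [← hw]
      change (RelProj.emb pB chartB i.U i.hU).base ((Proj.awayι _ _ _ _).base w') =
        (RelProj.emb pB chartB i.U i.hU).base ((Proj.awayι _ _ _ _).base w)
      rw [hw'])
    exact hb2.symm
  · rintro _ ⟨w, rfl⟩
    change Φ.base ((L φ hφ pB chartB i).base w) ∈ (cA pA chartA i).opensRange
    have := congrArg (fun k => k.base w) (L_Φ φ hφ pA chartA pB chartB Φ hΦ i)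
    simp only [Scheme.Hom.comp_base, TopCat.hom_comp, ContinuousMap.comp_apply] at this
    rw [this]
    exact ⟨_, rfl⟩

include hA hB hΦ in
theorem isAffineHom_Φ : IsAffineHom Φ := by
  apply isAffineHom_of_forall_exists_isAffineOpen
  intro x
  obtain ⟨U, hxU⟩ := exists_affine_mem PA pA x
  have hx3 : x ∈ (RelProj.emb pA chartA U.1 U.2).opensRange := by
    rw [ProjCone.range_emb]; exact hxU
  obtain ⟨ptA, rfl⟩ := hx3
  have hnot : ¬ (HomogeneousIdeal.irrelevant (𝒜.deg U.1 U.2)).toIdeal ≤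
      ptA.asHomogeneousIdeal.toIdeal := fun h => ptA.not_irrelevant_le h
  rw [HomogeneousIdeal.toIdeal_irrelevant_le] at hnot
  push Not at hnot
  obtain ⟨d, hd, hnle⟩ := hnot
  obtain ⟨f, hf, hfq⟩ := SetLike.not_le_iff_exists.mp hnle
  have hmem : ptA ∈ Proj.basicOpen (𝒜.deg U.1 U.2) f := by
    rw [Proj.mem_basicOpen]; exact hfq
  have hmem' : ptA ∈ (Proj.awayι (𝒜.deg U.1 U.2) f hf hd).opensRange := by
    rw [Proj.opensRange_awayι]; exact hmem
  obtain ⟨v, rfl⟩ := hmem'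
  refine ⟨(cA pA chartA ⟨U.1, U.2, d, hd, f, hf⟩).opensRange, ⟨v, rfl⟩,
    isAffineOpen_opensRange _, ?_⟩
  rw [preimage_eq φ hφ pA chartA hA pB chartB hB Φ hΦ ⟨U.1, U.2, d, hd, f, hf⟩]
  have := isOpenImmersion_L φ hφ pB chartB ⟨U.1, U.2, d, hd, f, hf⟩
  exact isAffineOpen_opensRange _

end Groth.Agent.S12140aux

namespace Groth.Agent.S12140

/-- Let φ : 𝒜 → ℬ be a graded homomorphism of quasi-coherent positively graded O_Y-algebras, PA =
Proj(𝒜), PB = Proj(ℬ) with their charts, G(φ) ⊆ PB the open on which the induced morphism is defined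
and Φ = Proj(φ) : G(φ) → PA that morphism (pinned on the standard affine charts of G(φ)). Then Φ is
affine, and for every affine open U of Y the part of G(φ) over U is the image, under the chart of PB
over U, of the open G(φ(U)) of Proj ℬ(U) where the morphism of homogeneous spectra induced by φ(U) :
𝒜(U) → ℬ(U) is defined. -/
theorem result {Y PA PB : Scheme.{u}} (𝒜 ℬ : RelProj.QCGrAlg Y)
    (φ : 𝒜.toQCAlg ⟶ ℬ.toQCAlg) (hφ : RelProj.IsGradedHom φ)
    (pA : PA ⟶ Y) (chartA : ∀ (U : Y.Opens) (hU : IsAffineOpen U), (((pA ⁻¹ᵁ U : PA.Opens) : Scheme.{u}) ≅ Proj (𝒜.deg U hU)))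
    (hA : RelProj.IsRelProj 𝒜 pA chartA)
    (pB : PB ⟶ Y) (chartB : ∀ (U : Y.Opens) (hU : IsAffineOpen U), (((pB ⁻¹ᵁ U : PB.Opens) : Scheme.{u}) ≅ Proj (ℬ.deg U hU)))
    (hB : RelProj.IsRelProj ℬ pB chartB)
    (Φ : ((RelProj.domQ (RelProj.QGrHom.ofHom φ hφ) pB chartB : PB.Opens) : Scheme.{u}) ⟶ PA)
    (hΦ : RelProj.IsProjQMapOn (RelProj.QGrHom.ofHom φ hφ) pA chartA pB chartB
      (RelProj.domQ (RelProj.QGrHom.ofHom φ hφ) pB chartB) Φ) :
    IsAffineHom Φ ∧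
      ∀ (U : Y.Opens) (hU : IsAffineOpen U),
        RelProj.domQ (RelProj.QGrHom.ofHom φ hφ) pB chartB ⊓ pB ⁻¹ᵁ U =
          (RelProj.emb pB chartB U hU) ''ᵁ RelCone.domOpen (RelProj.gradedHomAt φ hφ U hU) := by
  exact ⟨Groth.Agent.S12140aux.isAffineHom_Φ φ hφ pA chartA hA pB chartB hB Φ hΦ,
    fun U hU => Groth.Agent.S12140aux.part2 φ hφ pB chartB hB U hU⟩

end Groth.Agent.S12140
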