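import Groth.Statements.S12142
import Mathlib
import Groth.Agent.Lib.helper27.ProjQMap
import Groth.Agent.Lib.helper27.SpecQ

set_option autoImplicit false
universe u
open CategoryTheory CategoryTheory.Limits AlgebraicGeometry TopologicalSpace Opposite
open scoped HomogeneousIdeal
noncomputable section
open EGA2

namespace Groth.Agent.S12142aux
open CategoryTheory CategoryTheory.Limits AlgebraicGeometry Opposite TopologicalSpace
open Groth.Agent.Lib.helper27

variable {S S' : Scheme.{u}} (g : S' ⟶ S)
    (A : RelSpec.QCAlg S) (B : RelSpec.QCAlg S') (u : RelSpec.QHom g A B)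
    (h : B.spec ⟶ A.spec) (hh : RelSpec.IsSpecQMap u h)

include hh in
theorem lies_over : h ≫ A.π = B.π ≫ g := by
  refine (SpecQ.cover g B).hom_ext _ _ ?_
  intro (k : SpecQ.K g)
  change B.ι k.U' k.hU' ≫ h ≫ A.π = B.ι k.U' k.hU' ≫ B.π ≫ g
  rw [← Category.assoc, hh k.U k.hU k.U' k.hU' k.hle, ← Category.assoc (B.ι k.U' k.hU'),
    B.ι_π k.U' k.hU', Category.assoc, Category.assoc, A.ι_π k.U k.hU, ← Spec.map_comp_assoc,
    u.str_appLE, Spec.map_comp_assoc, IsAffineOpen.SpecMap_appLE_fromSpec]

/-- the comparison morphism. -/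
noncomputable def kmap : B.spec ⟶ pullback A.π g :=
  pullback.lift h B.π (lies_over g A B u h hh)

/-- the chart of the fibre product. -/
noncomputable def cmap (k : SpecQ.K g) :
    pullback (Spec.map (A.str.app (op k.U))) (Spec.map (g.appLE k.U k.U' k.hle)) ⟶ pullback A.π g :=
  pullback.map _ _ _ _ (A.ι k.U k.hU) k.hU'.fromSpec k.hU.fromSpec
    (A.ι_π k.U k.hU).symm (IsAffineOpen.SpecMap_appLE_fromSpec g k.hU k.hU' k.hle)

instance (k : SpecQ.K g) : IsOpenImmersion (cmap g A k) := by
  unfold cmap; infer_instance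

/-- the chart comparison. -/
noncomputable def gmap (k : SpecQ.K g) :
    Spec (B.presheaf.obj (op k.U')) ⟶
      pullback (Spec.map (A.str.app (op k.U))) (Spec.map (g.appLE k.U k.U' k.hle)) :=
  pullback.lift (Spec.map (u.appLE k.U k.U' k.hle)) (Spec.map (B.str.app (op k.U')))
    (by rw [← Spec.map_comp, ← Spec.map_comp, u.str_appLE])

theorem isIso_gmap (hu : RelSpec.IsQBaseChange u) (k : SpecQ.K g) : IsIso (gmap g A B u k) := by
  have hp := isPullback_SpecMap_of_isPushout _ _ _ _ (hu k.U k.hU k.U' k.hU' k.hle)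
  -- hp : IsPullback (Spec.map (B.str U')) (Spec.map (u.appLE)) (Spec.map (g.appLE)) (Spec.map (A.str U))
  have h1 : gmap g A B u k = hp.flip.isoPullback.hom := by
    apply pullback.hom_ext
    · rw [gmap, pullback.lift_fst, IsPullback.isoPullback_hom_fst]
    · rw [gmap, pullback.lift_snd, IsPullback.isoPullback_hom_snd]
  rw [h1]
  infer_instance

include hh in
theorem comm (k : SpecQ.K g) :
    B.ι k.U' k.hU' ≫ kmap g A B u h hh = gmap g A B u k ≫ cmap g A k := by
  apply pullback.hom_ext
  · rw [Category.assoc, kmap, pullback.lift_fst, Category.assoc, cmap, pullback.lift_fst,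
      gmap, pullback.lift_fst_assoc]
    exact hh k.U k.hU k.U' k.hU' k.hle
  · rw [Category.assoc, kmap, pullback.lift_snd, Category.assoc, cmap, pullback.lift_snd,
      gmap, pullback.lift_snd_assoc]
    exact B.ι_π k.U' k.hU'

theorem range_cmap (k : SpecQ.K g) :
    ((cmap g A k).opensRange : Set (pullback A.π g : Scheme.{u})) =
      (pullback.snd A.π g).base ⁻¹' (k.U' : Set S') := by
  have h1 := Scheme.Pullback.range_map (Spec.map (A.str.app (op k.U)))
    (Spec.map (g.appLE k.U k.U' k.hle)) A.π g (A.ι k.U k.hU) k.hU'.fromSpec k.hU.fromSpec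
    (A.ι_π k.U k.hU).symm (IsAffineOpen.SpecMap_appLE_fromSpec g k.hU k.hU' k.hle)
  change Set.range (cmap g A k).base = _
  unfold cmap
  rw [h1]
  have r1 : Set.range (A.ι k.U k.hU).base = A.π.base ⁻¹' (k.U : Set S) := by
    have := congrArg (fun O : A.spec.Opens => (O : Set A.spec)) (A.π_preimage k.U k.hU)
    exact this.symm
  have r2 : Set.range k.hU'.fromSpec.base = (k.U' : Set S') := k.hU'.range_fromSpec
  rw [r1, r2]
  ext z
  constructor
  · rintro ⟨_, h2⟩; exact h2
  · intro h2
    refine ⟨?_, h2⟩
    change A.π.base ((pullback.fst A.π g).base z) ∈ k.U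
    have := congrArg (fun m => m.base z) (pullback.condition (f := A.π) (g := g))
    simp only [Scheme.Hom.comp_base, TopCat.hom_comp, ContinuousMap.comp_apply] at this
    rw [this]
    exact k.hle h2

include hh in
theorem main (hu : RelSpec.IsQBaseChange u) : IsPullback h B.π A.π g := by
  have hk : IsIso (kmap g A B u h hh) := by
    change MorphismProperty.isomorphisms Scheme.{u} _
    refine ProjQMap.of_charts (MorphismProperty.isomorphisms Scheme.{u}) (kmap g A B u h hh)
      (ι := SpecQ.K g) _ _ (fun k => cmap g A k) (fun k => inferInstance)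
      (fun k => B.ι k.U' k.hU') (fun k => inferInstance) (fun k => gmap g A B u k) ?_
      (fun k => comm g A B u h hh k) ?_ (fun k => isIso_gmap g A B u hu k)
    · intro z
      -- choose a pair around snd z
      obtain ⟨U, hU, hyU⟩ : ∃ U : S.Opens, IsAffineOpen U ∧
          g.base ((pullback.snd A.π g).base z) ∈ U := by
        obtain ⟨U, hxU⟩ := Opens.mem_iSup.mp
          ((iSup_affineOpens_eq_top S).symm ▸
            (Opens.mem_top (g.base ((pullback.snd A.π g).base z))) :
            g.base ((pullback.snd A.π g).base z) ∈ ⨆ i : S.affineOpens, (i : S.Opens))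
        exact ⟨U.1, U.2, hxU⟩
      have hy' : (pullback.snd A.π g).base z ∈ g ⁻¹ᵁ U := hyU
      obtain ⟨_, ⟨U', hU', rfl⟩, hxU', hle⟩ :=
        S'.isBasis_affineOpens.exists_subset_of_mem_open hy' (g ⁻¹ᵁ U).2
      refine ⟨⟨U, hU, U', hU', hle⟩, ?_⟩
      have : z ∈ ((cmap g A ⟨U, hU, U', hU', hle⟩).opensRange :
          Set (pullback A.π g : Scheme.{u})) := by
        rw [range_cmap]; exact hxU'
      exact this
    · intro k
      apply Opens.ext
      rw [Scheme.Hom.coe_preimage, range_cmap, ← Set.preimage_comp]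
      have h1 : (pullback.snd A.π g).base ∘ (kmap g A B u h hh).base = B.π.base := by
        have := congrArg (fun m => (m.base : B.spec → S'))
          (pullback.lift_snd h B.π (lies_over g A B u h hh))
        exact this
      rw [h1]
      have := congrArg (fun O : B.spec.Opens => (O : Set B.spec)) (B.π_preimage k.U' k.hU')
      exact this
  have e : h = kmap g A B u h hh ≫ pullback.fst A.π g := (pullback.lift_fst _ _ _).symm
  have e' : B.π = kmap g A B u h hh ≫ pullback.snd A.π g := (pullback.lift_snd _ _ _).symm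
  exact IsPullback.of_iso_pullback ⟨lies_over g A B u h hh⟩ (asIso (kmap g A B u h hh)) e.symm e'.symm

end Groth.Agent.S12142aux

namespace Groth.Agent.S12142

/-- Let g : S' → S be a morphism of schemes, A a quasi-coherent O_S-algebra and B = g^*A, presented as a
quasi-coherent O_{S'}-algebra with a g-morphism u : A → g_*B whose squares of rings over affine
opens U' ⊆ g⁻¹(U) are pushouts; let h = Spec(u) : Spec(B) → Spec(A) be the induced morphism of
relative spectra (chartwise Spec of A(U) → B(U')). Then h and the structure morphisms form a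
cartesian square: Spec(g^*A) is the fibre product Spec(A) ×_S S'. -/
theorem result {S S' : Scheme.{u}} (g : S' ⟶ S)
    (A : RelSpec.QCAlg S) (B : RelSpec.QCAlg S') (u : RelSpec.QHom g A B) (hu : RelSpec.IsQBaseChange u)
    (h : B.spec ⟶ A.spec) (hh : RelSpec.IsSpecQMap u h) :
    IsPullback h B.π A.π g := by
  exact Groth.Agent.S12142aux.main g A B u h hh hu

end Groth.Agent.S12142
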