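import Groth.Statements.S12156
import Mathlib
import Groth.Agent.Lib.helper27.PointedCone
import Groth.Agent.Lib.helper27.ProjCone2
import Groth.Agent.Lib.helper27.ProjCone
import Groth.Agent.Lib.helper27.ProjQMap
import Groth.Prelude.Def_RelSpec2
import Groth.Prelude.Def_RelProj4

set_option autoImplicit false
universe u
open CategoryTheory CategoryTheory.Limits AlgebraicGeometry TopologicalSpace Opposite
open scoped HomogeneousIdeal
noncomputable section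
open EGA2

namespace Groth.Agent.S12156aux
open CategoryTheory CategoryTheory.Limits AlgebraicGeometry Opposite TopologicalSpace
open scoped HomogeneousIdeal
open Groth.Agent.Lib.helper27

section pc
variable {Y PC : Scheme.{u}} {𝒮 𝒮h : RelProj.QCGrAlg Y}
    {ι : 𝒮.toQCAlg ⟶ 𝒮h.toQCAlg} {z : 𝒮h.presheaf.obj (op ⊤)} (hz : RelCone.IsPolyOver 𝒮 𝒮h ι z)
    (pC : PC ⟶ Y)
    (chartC : ∀ (U : Y.Opens) (hU : IsAffineOpen U),
      (((pC ⁻¹ᵁ U : PC.Opens) : Scheme.{u}) ≅ Proj (𝒮h.deg U hU)))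
    (hPC : RelProj.IsRelProj 𝒮h pC chartC)

include hPC in
theorem emb_mem_pointedProjCone_iff (U : Y.Opens) (hU : IsAffineOpen U) (pt : Proj (𝒮h.deg U hU)) :
    (RelProj.emb pC chartC U hU).base pt ∈ RelCone.pointedProjCone 𝒮 hz pC chartC ↔
      pt ∈ RelCone.domOpen (RelProj.gradedHomAt ι hz.graded U hU) := by
  constructor
  · intro hx
    by_contra hpt
    obtain ⟨i, hi, -⟩ := ProjCone.existsUnique_coneImm hz pC chartC hPC
    have hzq := ProjCone.z_not_mem_of_not_mem_domOpen hz U hU pt hpt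
    obtain ⟨w, rfl⟩ := (ProjCone.mem_range_j_iff hz U hU pt).mpr hzq
    rw [ProjCone.j_mem_domOpen_iff, not_not] at hpt
    have hc : (𝒮.toQCAlg.ι U hU).base w ∉ RelCone.pointedCone 𝒮 := by
      rw [PointedCone.mem_pointedCone_iff, not_not]; exact hpt
    unfold RelCone.pointedProjCone at hx
    rw [Opens.mem_iSup] at hx
    obtain ⟨⟨V, hV0⟩, pt0, hpt0, heq0⟩ := hx
    have hV : IsAffineOpen V := hV0
    obtain ⟨pt', hpt', heq⟩ : ∃ pt' : Proj (𝒮h.deg V hV),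
        pt' ∈ RelCone.domOpen (RelProj.gradedHomAt ι hz.graded V hV) ∧
        (RelProj.emb pC chartC V hV).base pt' =
          (RelProj.emb pC chartC U hU).base ((ProjCone.j hz U hU).base w) := ⟨pt0, hpt0, heq0⟩
    have h1 : (RelProj.emb pC chartC V hV).base pt' ∈ Set.range i.base := by
      rw [heq, ← ProjCone.i_ι hz U hU pC chartC i hi]; exact ⟨_, rfl⟩
    rw [ProjCone.emb_mem_range_i_iff hz pC chartC hPC i hi V hV pt'] at h1
    obtain ⟨w', rfl⟩ := (ProjCone.mem_range_j_iff hz V hV pt').mpr h1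
    have h2 : i.base ((𝒮.toQCAlg.ι V hV).base w') = i.base ((𝒮.toQCAlg.ι U hU).base w) := by
      rw [ProjCone.i_ι hz V hV pC chartC i hi, ProjCone.i_ι hz U hU pC chartC i hi]; exact heq
    have hoi := ProjCone.isOpenImmersion_i hz pC chartC hPC i hi
    have h3 := i.isOpenEmbedding.injective h2
    apply hc
    rw [← h3, PointedCone.mem_pointedCone_iff]
    exact (ProjCone.j_mem_domOpen_iff hz V hV w').mp hpt'
  · intro hpt
    unfold RelCone.pointedProjCone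
    rw [Opens.mem_iSup]
    exact ⟨⟨U, hU⟩, pt, hpt, rfl⟩

end pc

section alg
variable {A : Type*} [CommRing A] {𝒜 : ℕ → AddSubgroup A} [GradedRing 𝒜]

theorem mk_congr {f : A} {d : ℕ} (hf : f ∈ 𝒜 d) (k : ℕ) (y y' : A) (h : y = y') (hy : y ∈ 𝒜 (k • d))
    (hy' : y' ∈ 𝒜 (k • d)) :
    HomogeneousLocalization.Away.mk 𝒜 hf k y hy = HomogeneousLocalization.Away.mk 𝒜 hf k y' hy' := by
  subst h; rfl

end alg

section cov
variable {S S' P' : Scheme.{u}} {g : S' ⟶ S} {𝒮 : RelProj.QCGrAlg S} {𝒮' : RelProj.QCGrAlg S'}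
  (u : RelProj.QGrHom g 𝒮 𝒮') (p' : P' ⟶ S')
  (chart' : ∀ (U' : S'.Opens) (hU' : IsAffineOpen U'), (((p' ⁻¹ᵁ U' : P'.Opens) : Scheme.{u}) ≅ Proj (𝒮'.deg U' hU')))

theorem exists_awayEmb (x' : P') (hx : x' ∈ RelProj.domQ u p' chart') :
    ∃ (U : S.Opens) (hU : IsAffineOpen U) (U' : S'.Opens) (hU' : IsAffineOpen U') (hle : U' ≤ g ⁻¹ᵁ U)
      (d : ℕ) (hd : 0 < d) (f : 𝒮.presheaf.obj (op U)) (hf : f ∈ 𝒮.deg U hU d),
      x' ∈ Set.range (RelProj.awayEmb u p' chart' U hU U' hU' hle hd f hf).base := by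
  unfold RelProj.domQ at hx
  rw [Opens.mem_iSup] at hx
  obtain ⟨⟨⟨⟨U, hU⟩, ⟨U', hU'⟩⟩, hle⟩, pt, hpt, rfl⟩ := hx
  change pt ∈ RelCone.domOpen (u.gradedAt U hU U' hU' hle) at hpt
  rw [RelCone.mem_domOpen] at hpt
  obtain ⟨g₀, hg₀, hgq⟩ := hpt
  have hnot : ¬ (HomogeneousIdeal.irrelevant (𝒮.deg U hU)).toIdeal ≤
      Ideal.comap (u.appLE U U' hle).hom pt.asHomogeneousIdeal.toIdeal := by
    intro h
    exact hgq (h hg₀)
  rw [HomogeneousIdeal.toIdeal_irrelevant_le] at hnot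
  push Not at hnot
  obtain ⟨d, hd, hnle⟩ := hnot
  obtain ⟨f, hf, hfq⟩ := SetLike.not_le_iff_exists.mp hnle
  have hmem : pt ∈ Proj.basicOpen (𝒮'.deg U' hU') (u.gradedAt U hU U' hU' hle f) := by
    rw [Proj.mem_basicOpen]; exact hfq
  have hmem' : pt ∈ (Proj.awayι (𝒮'.deg U' hU') (u.gradedAt U hU U' hU' hle f)
      ((u.gradedAt U hU U' hU' hle).map_mem hf) hd).opensRange := by
    rw [Proj.opensRange_awayι]; exact hmem
  obtain ⟨w, rfl⟩ := hmem'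
  exact ⟨U, hU, U', hU', hle, d, hd, f, hf, w, rfl⟩

end cov

section R
variable {Y PA PB : Scheme.{u}} {𝒜 ℬ : RelProj.QCGrAlg Y}
    (φ : 𝒜.toQCAlg ⟶ ℬ.toQCAlg) (hφ : RelProj.IsGradedHom φ)
    (pA : PA ⟶ Y) (chartA : ∀ (U : Y.Opens) (hU : IsAffineOpen U), (((pA ⁻¹ᵁ U : PA.Opens) : Scheme.{u}) ≅ Proj (𝒜.deg U hU)))
    (pB : PB ⟶ Y) (chartB : ∀ (U : Y.Opens) (hU : IsAffineOpen U), (((pB ⁻¹ᵁ U : PB.Opens) : Scheme.{u}) ≅ Proj (ℬ.deg U hU)))
    (W : PB.Opens) (r : (W : Scheme.{u}) ⟶ PA)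
    (hr : RelProj.IsProjQMapOn (RelProj.QGrHom.ofHom φ hφ) pA chartA pB chartB W r)

include hr in
theorem exists_σ (U : Y.Opens) (hU : IsAffineOpen U) {m : ℕ} (hm : 0 < m)
    (f : 𝒜.presheaf.obj (op U)) (hf : f ∈ 𝒜.deg U hU m)
    (g' : ℬ.presheaf.obj (op U)) (e : g' = (φ.hom.app (op U)).hom f) (hg' : g' ∈ ℬ.deg U hU m)
    (hW : Set.range (Proj.awayι (ℬ.deg U hU) g' hg' hm ≫ RelProj.emb pB chartB U hU).base ⊆
      Set.range W.ι.base) :
    ∃ σ : HomogeneousLocalization.Away (𝒜.deg U hU) f →+* HomogeneousLocalization.Away (ℬ.deg U hU) g',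
      (∀ (k : ℕ) (y : 𝒜.presheaf.obj (op U)) (hy : y ∈ 𝒜.deg U hU (k • m)),
        σ (HomogeneousLocalization.Away.mk (𝒜.deg U hU) hf k y hy) =
          HomogeneousLocalization.Away.mk (ℬ.deg U hU) hg' k ((φ.hom.app (op U)).hom y) (hφ U hU _ y hy)) ∧
      IsOpenImmersion.lift W.ι (Proj.awayι (ℬ.deg U hU) g' hg' hm ≫ RelProj.emb pB chartB U hU) hW ≫ r =
        Spec.map (CommRingCat.ofHom σ) ≫ Proj.awayι (𝒜.deg U hU) f hf hm ≫ RelProj.emb pA chartA U hU := by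
  have e' : g' = ProjQMap.psi φ hφ U hU f := e.trans (ProjQMap.psi_apply φ hφ U hU f).symm
  subst e'
  refine ⟨HomogeneousLocalization.Away.map (ProjQMap.psi φ hφ U hU) f, ?_, ?_⟩
  · intro k y hy
    rw [HomogeneousLocalization.Away.map_mk]
    exact mk_congr (𝒜 := ℬ.deg U hU) _ k _ _ (ProjQMap.psi_apply φ hφ U hU y) _ _
  · exact hr U hU U hU (ProjQMap.hle U) m hm f hf hW

end R

section pc2
variable {Y PC : Scheme.{u}} {𝒮 𝒮h : RelProj.QCGrAlg Y}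
    {ι : 𝒮.toQCAlg ⟶ 𝒮h.toQCAlg} {z : 𝒮h.presheaf.obj (op ⊤)} (hz : RelCone.IsPolyOver 𝒮 𝒮h ι z)
    (pC : PC ⟶ Y)
    (chartC : ∀ (U : Y.Opens) (hU : IsAffineOpen U),
      (((pC ⁻¹ᵁ U : PC.Opens) : Scheme.{u}) ≅ Proj (𝒮h.deg U hU)))

/-- the chart at `g' = ι f` lands in the pointed projective cone. -/
theorem range_subset_pointed (U : Y.Opens) (hU : IsAffineOpen U) {m : ℕ} (hm : 0 < m)
    (f : 𝒮.presheaf.obj (op U)) (hf : f ∈ 𝒮.deg U hU m)
    (g' : 𝒮h.presheaf.obj (op U)) (e : g' = (ι.hom.app (op U)).hom f) (hg' : g' ∈ 𝒮h.deg U hU m) :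
    Set.range (Proj.awayι (𝒮h.deg U hU) g' hg' hm ≫ RelProj.emb pC chartC U hU).base ⊆
      Set.range (RelCone.pointedProjCone 𝒮 hz pC chartC).ι.base := by
  subst e
  rw [Scheme.Opens.range_ι]
  rintro _ ⟨w, rfl⟩
  change _ ∈ RelCone.pointedProjCone 𝒮 hz pC chartC
  unfold RelCone.pointedProjCone
  rw [Opens.mem_iSup]
  refine ⟨⟨U, hU⟩, (Proj.awayι (𝒮h.deg U hU) _ hg' hm).base w, ?_, rfl⟩
  change _ ∈ RelCone.domOpen (RelProj.gradedHomAt ι hz.graded U hU)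
  rw [RelCone.mem_domOpen]
  refine ⟨f, HomogeneousIdeal.mem_irrelevant_of_mem _ hm hf, ?_⟩
  have hb : (Proj.awayι (𝒮h.deg U hU) _ hg' hm).base w ∈
      Proj.basicOpen (𝒮h.deg U hU) ((ι.hom.app (op U)).hom f) :=
    (Proj.opensRange_awayι (𝒮h.deg U hU) _ hg' hm).le ⟨w, rfl⟩
  exact (ProjectiveSpectrum.mem_basicOpen _ _ _).mp hb

end pc2

section main
variable {Y Y' PC PC' : Scheme.{u}} (q : Y' ⟶ Y)
    (𝒮 : RelProj.QCGrAlg Y) (𝒮' : RelProj.QCGrAlg Y')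
    (u : RelProj.QGrHom q 𝒮 𝒮')
    (𝒮h : RelProj.QCGrAlg Y) (ι : 𝒮.toQCAlg ⟶ 𝒮h.toQCAlg) (z : 𝒮h.presheaf.obj (op ⊤))
    (hz : RelCone.IsPolyOver 𝒮 𝒮h ι z)
    (pC : PC ⟶ Y) (chartC : ∀ (U : Y.Opens) (hU : IsAffineOpen U), (((pC ⁻¹ᵁ U : PC.Opens) : Scheme.{u}) ≅ Proj (𝒮h.deg U hU)))
    (hC : RelProj.IsRelProj 𝒮h pC chartC)
    (𝒮h' : RelProj.QCGrAlg Y') (ι' : 𝒮'.toQCAlg ⟶ 𝒮h'.toQCAlg) (z' : 𝒮h'.presheaf.obj (op ⊤))
    (hz' : RelCone.IsPolyOver 𝒮' 𝒮h' ι' z')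
    (pC' : PC' ⟶ Y') (chartC' : ∀ (U : Y'.Opens) (hU : IsAffineOpen U), (((pC' ⁻¹ᵁ U : PC'.Opens) : Scheme.{u}) ≅ Proj (𝒮h'.deg U hU)))
    (uh : RelProj.QGrHom q 𝒮h 𝒮h')
    (huh : ∀ U : Y.Opens, ι.hom.app (op U) ≫ uh.app U = u.app U ≫ ι'.hom.app (op (q ⁻¹ᵁ U)))
    (Φh : ((RelProj.domQ uh pC' chartC' : PC'.Opens) : Scheme.{u}) ⟶ PC)
    (hΦh : RelProj.IsProjQMapOn uh pC chartC pC' chartC' (RelProj.domQ uh pC' chartC') Φh)

include huh in
theorem uh_ι (U : Y.Opens) (U' : Y'.Opens) (hle : U' ≤ q ⁻¹ᵁ U) :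
    ι.hom.app (op U) ≫ uh.appLE U U' hle = u.appLE U U' hle ≫ ι'.hom.app (op U') := by
  unfold RelSpec.QHom.appLE
  rw [← Category.assoc, huh U, Category.assoc, Category.assoc]
  congr 1
  exact (ι'.hom.naturality (homOfLE hle).op).symm

include hC hΦh in
theorem exists_chart (b' : ((RelProj.domQ uh pC' chartC' : PC'.Opens) : Scheme.{u}))
    (hb : Φh.base b' ∈ RelCone.pointedProjCone 𝒮 hz pC chartC) :
    ∃ (U : Y.Opens) (hU : IsAffineOpen U) (U' : Y'.Opens) (hU' : IsAffineOpen U') (hle : U' ≤ q ⁻¹ᵁ U)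
      (m : ℕ) (hm : 0 < m) (f : 𝒮.presheaf.obj (op U)) (hf : f ∈ 𝒮.deg U hU m),
      (RelProj.domQ uh pC' chartC').ι.base b' ∈ Set.range (RelProj.awayEmb uh pC' chartC' U hU U' hU' hle hm
        ((ι.hom.app (op U)).hom f) (hz.graded U hU m f hf)).base := by
  have hb1 : (RelProj.domQ uh pC' chartC').ι.base b' ∈ RelProj.domQ uh pC' chartC' := by
    have h0 : (RelProj.domQ uh pC' chartC').ι.base b' ∈
        Set.range (RelProj.domQ uh pC' chartC').ι.base := ⟨b', rfl⟩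
    rw [Scheme.Opens.range_ι] at h0
    exact h0
  obtain ⟨U, hU, U', hU', hle, n, hn, g, hg, w, hw⟩ := exists_awayEmb uh pC' chartC' _ hb1
  have hWh := RelProj.range_awayEmb_subset_domQ uh pC' chartC' U hU U' hU' hle hn g hg
  have hbL : b' = (IsOpenImmersion.lift (RelProj.domQ uh pC' chartC').ι
      (RelProj.awayEmb uh pC' chartC' U hU U' hU' hle hn g hg) hWh).base w := by
    apply (RelProj.domQ uh pC' chartC').ι.isOpenEmbedding.injective
    rw [← hw]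
    have := congrArg (fun k => k.base w) (IsOpenImmersion.lift_fac (RelProj.domQ uh pC' chartC').ι
      (RelProj.awayEmb uh pC' chartC' U hU U' hU' hle hn g hg) hWh)
    simp only [Scheme.Hom.comp_base, TopCat.hom_comp, ContinuousMap.comp_apply] at this
    exact this.symm
  have hΦb : Φh.base b' = (RelProj.emb pC chartC U hU).base
      ((Proj.awayι (𝒮h.deg U hU) g hg hn).base
        ((Spec.map (CommRingCat.ofHom (HomogeneousLocalization.Away.map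
          (uh.gradedAt U hU U' hU' hle) g))).base w)) := by
    rw [hbL]
    have := congrArg (fun k => k.base w) (hΦh U hU U' hU' hle n hn g hg hWh)
    simp only [Scheme.Hom.comp_base, TopCat.hom_comp, ContinuousMap.comp_apply] at this
    exact this
  rw [hΦb, emb_mem_pointedProjCone_iff hz pC chartC hC U hU, RelCone.mem_domOpen] at hb
  obtain ⟨g₀, hg₀, hgq⟩ := hb
  have hnot : ¬ (HomogeneousIdeal.irrelevant (𝒮.deg U hU)).toIdeal ≤
      Ideal.comap (ι.hom.app (op U)).hom ((Proj.awayι (𝒮h.deg U hU) g hg hn).base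
        ((Spec.map (CommRingCat.ofHom (HomogeneousLocalization.Away.map
          (uh.gradedAt U hU U' hU' hle) g))).base w)).asHomogeneousIdeal.toIdeal := by
    intro h
    exact hgq (h hg₀)
  rw [HomogeneousIdeal.toIdeal_irrelevant_le] at hnot
  push Not at hnot
  obtain ⟨m, hm, hnle⟩ := hnot
  obtain ⟨f, hf, hfq⟩ := SetLike.not_le_iff_exists.mp hnle
  have hmem : (Proj.awayι (𝒮h.deg U hU) g hg hn).base
        ((Spec.map (CommRingCat.ofHom (HomogeneousLocalization.Away.map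
          (uh.gradedAt U hU U' hU' hle) g))).base w) ∈
      Proj.basicOpen (𝒮h.deg U hU) ((ι.hom.app (op U)).hom f) := by
    rw [Proj.mem_basicOpen]; exact hfq
  rw [ProjQMap.mem_basicOpen_iff' (uh.gradedAt U hU U' hU' hle) hm hn ((ι.hom.app (op U)).hom f) g
    (hz.graded U hU m f hf) hg w] at hmem
  have hmem' : (Proj.awayι (𝒮h'.deg U' hU') (uh.gradedAt U hU U' hU' hle g)
      ((uh.gradedAt U hU U' hU' hle).map_mem hg) hn).base w ∈
      (Proj.awayι (𝒮h'.deg U' hU') (uh.gradedAt U hU U' hU' hle ((ι.hom.app (op U)).hom f))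
        ((uh.gradedAt U hU U' hU' hle).map_mem (hz.graded U hU m f hf)) hm).opensRange := by
    rw [Proj.opensRange_awayι]; exact hmem
  obtain ⟨w₂, hw₂⟩ := hmem'
  refine ⟨U, hU, U', hU', hle, m, hm, f, hf, w₂, ?_⟩
  rw [← hw]
  change (RelProj.emb pC' chartC' U' hU').base ((Proj.awayι _ _ _ _).base w₂) =
    (RelProj.emb pC' chartC' U' hU').base ((Proj.awayι _ _ _ _).base w)
  rw [hw₂]

variable {P P' : Scheme.{u}} (p : P ⟶ Y) (chart : ∀ (U : Y.Opens) (hU : IsAffineOpen U), (((p ⁻¹ᵁ U : P.Opens) : Scheme.{u}) ≅ Proj (𝒮.deg U hU)))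
    (p' : P' ⟶ Y') (chart' : ∀ (U : Y'.Opens) (hU : IsAffineOpen U), (((p' ⁻¹ᵁ U : P'.Opens) : Scheme.{u}) ≅ Proj (𝒮'.deg U hU)))
    (Φ : ((RelProj.domQ u p' chart' : P'.Opens) : Scheme.{u}) ⟶ P)
    (hΦ : RelProj.IsProjQMapOn u p chart p' chart' (RelProj.domQ u p' chart') Φ)
    (r : ((RelCone.pointedProjCone 𝒮 hz pC chartC : PC.Opens) : Scheme.{u}) ⟶ P)
    (hr : RelProj.IsProjQMapOn (RelProj.QGrHom.ofHom ι hz.graded) p chart pC chartC (RelCone.pointedProjCone 𝒮 hz pC chartC) r)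
    (r' : ((RelCone.pointedProjCone 𝒮' hz' pC' chartC' : PC'.Opens) : Scheme.{u}) ⟶ P')
    (hr' : RelProj.IsProjQMapOn (RelProj.QGrHom.ofHom ι' hz'.graded) p' chart' pC' chartC' (RelCone.pointedProjCone 𝒮' hz' pC' chartC') r')

include huh hΦh hΦ hr hr' in
theorem core (U : Y.Opens) (hU : IsAffineOpen U) (U' : Y'.Opens) (hU' : IsAffineOpen U')
    (hle : U' ≤ q ⁻¹ᵁ U) {m : ℕ} (hm : 0 < m) (f : 𝒮.presheaf.obj (op U)) (hf : f ∈ 𝒮.deg U hU m)
    {W : Scheme.{u}}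
    (α : W ⟶ Spec (CommRingCat.of (HomogeneousLocalization.Away (𝒮h'.deg U' hU')
      (uh.gradedAt U hU U' hU' hle ((ι.hom.app (op U)).hom f)))))
    (a₁ : W ⟶ ((RelCone.pointedProjCone 𝒮' hz' pC' chartC' : PC'.Opens) : Scheme.{u}))
    (b₁ : W ⟶ ((RelProj.domQ uh pC' chartC' : PC'.Opens) : Scheme.{u}))
    (c₁ : W ⟶ ((RelCone.pointedProjCone 𝒮 hz pC chartC : PC.Opens) : Scheme.{u}))
    (hα : α ≫ RelProj.awayEmb uh pC' chartC' U hU U' hU' hle hm ((ι.hom.app (op U)).hom f)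
      (hz.graded U hU m f hf) = b₁ ≫ (RelProj.domQ uh pC' chartC').ι)
    (hab : a₁ ≫ (RelCone.pointedProjCone 𝒮' hz' pC' chartC').ι = b₁ ≫ (RelProj.domQ uh pC' chartC').ι)
    (hbc : b₁ ≫ Φh = c₁ ≫ (RelCone.pointedProjCone 𝒮 hz pC chartC).ι) :
    Set.range (a₁ ≫ r').base ⊆ ((RelProj.domQ u p' chart' : P'.Opens) : Set P') ∧
      ∀ d₁ : W ⟶ ((RelProj.domQ u p' chart' : P'.Opens) : Scheme.{u}),
        a₁ ≫ r' = d₁ ≫ (RelProj.domQ u p' chart').ι → c₁ ≫ r = d₁ ≫ Φ := by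
  have hιf : (ι.hom.app (op U)).hom f ∈ 𝒮h.deg U hU m := hz.graded U hU m f hf
  have huf : u.gradedAt U hU U' hU' hle f ∈ 𝒮'.deg U' hU' m := (u.gradedAt U hU U' hU' hle).map_mem hf
  have huιf : uh.gradedAt U hU U' hU' hle ((ι.hom.app (op U)).hom f) ∈ 𝒮h'.deg U' hU' m :=
    (uh.gradedAt U hU U' hU' hle).map_mem hιf
  have e3 : ∀ y : 𝒮.presheaf.obj (op U), uh.gradedAt U hU U' hU' hle ((ι.hom.app (op U)).hom y) =
      (ι'.hom.app (op U')).hom (u.gradedAt U hU U' hU' hle y) := fun y =>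
    congrArg (fun t => t.hom y) (uh_ι q 𝒮 𝒮' u 𝒮h ι 𝒮h' ι' uh huh U U' hle)
  have hWr := range_subset_pointed hz pC chartC U hU hm f hf _ rfl hιf
  have hWr' := range_subset_pointed hz' pC' chartC' U' hU' hm (u.gradedAt U hU U' hU' hle f) huf
    _ (e3 f) huιf
  obtain ⟨σ, hσ, hσ2⟩ := exists_σ ι hz.graded p chart pC chartC _ r hr U hU hm f hf _ rfl hιf hWr
  obtain ⟨σ', hσ', hσ2'⟩ := exists_σ ι' hz'.graded p' chart' pC' chartC' _ r' hr' U' hU' hm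
    (u.gradedAt U hU U' hU' hle f) huf _ (e3 f) huιf hWr'
  have hW := RelProj.range_awayEmb_subset_domQ u p' chart' U hU U' hU' hle hm f hf
  have hWh := RelProj.range_awayEmb_subset_domQ uh pC' chartC' U hU U' hU' hle hm _ hιf
  -- a₁ through the chart
  have ha₁ : a₁ = α ≫ IsOpenImmersion.lift (RelCone.pointedProjCone 𝒮' hz' pC' chartC').ι
      (Proj.awayι (𝒮h'.deg U' hU') _ huιf hm ≫ RelProj.emb pC' chartC' U' hU') hWr' := by
    rw [← cancel_mono (RelCone.pointedProjCone 𝒮' hz' pC' chartC').ι, Category.assoc,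
      IsOpenImmersion.lift_fac, hab, ← hα]
    rfl
  have har' : a₁ ≫ r' = (α ≫ Spec.map (CommRingCat.ofHom σ')) ≫
      RelProj.awayEmb u p' chart' U hU U' hU' hle hm f hf := by
    rw [ha₁, Category.assoc, hσ2', Category.assoc]
    rfl
  refine ⟨?_, ?_⟩
  · rw [har']
    rintro _ ⟨t, rfl⟩
    have h2 := hW
    rw [Scheme.Opens.range_ι] at h2
    apply h2
    exact ⟨(α ≫ Spec.map (CommRingCat.ofHom σ')).base t, rfl⟩
  · intro d₁ hd₁
    have hd' : d₁ = (α ≫ Spec.map (CommRingCat.ofHom σ')) ≫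
        IsOpenImmersion.lift (RelProj.domQ u p' chart').ι
          (RelProj.awayEmb u p' chart' U hU U' hU' hle hm f hf) hW := by
      rw [← cancel_mono (RelProj.domQ u p' chart').ι, ← hd₁, har']
      simp only [Category.assoc, IsOpenImmersion.lift_fac]
    have hb₁ : b₁ = α ≫ IsOpenImmersion.lift (RelProj.domQ uh pC' chartC').ι
        (RelProj.awayEmb uh pC' chartC' U hU U' hU' hle hm _ hιf) hWh := by
      rw [← cancel_mono (RelProj.domQ uh pC' chartC').ι, Category.assoc, IsOpenImmersion.lift_fac, hα]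
    have hc₁ : c₁ = (α ≫ Spec.map (CommRingCat.ofHom (HomogeneousLocalization.Away.map
        (uh.gradedAt U hU U' hU' hle) ((ι.hom.app (op U)).hom f)))) ≫
        IsOpenImmersion.lift (RelCone.pointedProjCone 𝒮 hz pC chartC).ι
          (Proj.awayι (𝒮h.deg U hU) _ hιf hm ≫ RelProj.emb pC chartC U hU) hWr := by
      rw [← cancel_mono (RelCone.pointedProjCone 𝒮 hz pC chartC).ι, ← hbc, hb₁, Category.assoc,
        hΦh U hU U' hU' hle m hm _ hιf hWh, Category.assoc, Category.assoc, IsOpenImmersion.lift_fac]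
    have hring : CommRingCat.ofHom (HomogeneousLocalization.Away.map (u.gradedAt U hU U' hU' hle) f) ≫
        CommRingCat.ofHom σ' = CommRingCat.ofHom σ ≫ CommRingCat.ofHom
          (HomogeneousLocalization.Away.map (uh.gradedAt U hU U' hU' hle) ((ι.hom.app (op U)).hom f)) := by
      refine CommRingCat.hom_ext (RingHom.ext fun t => ?_)
      obtain ⟨k, y, hy, rfl⟩ := t.mk_surjective _ hf
      change σ' (HomogeneousLocalization.Away.map (u.gradedAt U hU U' hU' hle) f _) =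
        HomogeneousLocalization.Away.map (uh.gradedAt U hU U' hU' hle) _ (σ _)
      rw [HomogeneousLocalization.Away.map_mk, hσ', hσ, HomogeneousLocalization.Away.map_mk]
      exact mk_congr (𝒜 := 𝒮h'.deg U' hU') _ k _ _ (e3 y).symm _ _
    rw [hc₁, hd', Category.assoc, hσ2, Category.assoc (α ≫ Spec.map (CommRingCat.ofHom σ')),
      hΦ U hU U' hU' hle m hm f hf hW]
    simp only [Category.assoc]
    rw [← Spec.map_comp_assoc, ← Spec.map_comp_assoc, hring]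

include hC huh hΦh hΦ hr hr' in
theorem main (T : Scheme.{u}) (a : T ⟶ ((RelCone.pointedProjCone 𝒮' hz' pC' chartC' : PC'.Opens) : Scheme.{u}))
    (b : T ⟶ ((RelProj.domQ uh pC' chartC' : PC'.Opens) : Scheme.{u}))
    (c : T ⟶ ((RelCone.pointedProjCone 𝒮 hz pC chartC : PC.Opens) : Scheme.{u}))
    (hab : a ≫ (RelCone.pointedProjCone 𝒮' hz' pC' chartC').ι = b ≫ (RelProj.domQ uh pC' chartC').ι)
    (hbc : b ≫ Φh = c ≫ (RelCone.pointedProjCone 𝒮 hz pC chartC).ι) :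
    Set.range (a ≫ r').base ⊆ ((RelProj.domQ u p' chart' : P'.Opens) : Set P') ∧
      ∀ d : T ⟶ ((RelProj.domQ u p' chart' : P'.Opens) : Scheme.{u}),
        a ≫ r' = d ≫ (RelProj.domQ u p' chart').ι → c ≫ r = d ≫ Φ := by
  have hloc : ∀ t : T, ∃ W : T.Opens, t ∈ W ∧
      (Set.range ((W.ι ≫ a) ≫ r').base ⊆ ((RelProj.domQ u p' chart' : P'.Opens) : Set P') ∧
      ∀ d₁ : (W : Scheme.{u}) ⟶ ((RelProj.domQ u p' chart' : P'.Opens) : Scheme.{u}),
        (W.ι ≫ a) ≫ r' = d₁ ≫ (RelProj.domQ u p' chart').ι → (W.ι ≫ c) ≫ r = d₁ ≫ Φ) := by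
    intro t
    have hb : Φh.base (b.base t) ∈ RelCone.pointedProjCone 𝒮 hz pC chartC := by
      have := congrArg (fun k => k.base t) hbc
      simp only [Scheme.Hom.comp_base, TopCat.hom_comp, ContinuousMap.comp_apply] at this
      rw [this]
      have h0 : (RelCone.pointedProjCone 𝒮 hz pC chartC).ι.base (c.base t) ∈
          Set.range (RelCone.pointedProjCone 𝒮 hz pC chartC).ι.base := ⟨_, rfl⟩
      rw [Scheme.Opens.range_ι] at h0
      exact h0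
    obtain ⟨U, hU, U', hU', hle, m, hm, f, hf, hmem⟩ := exists_chart q 𝒮 𝒮h ι z hz pC chartC hC 𝒮h'
      pC' chartC' uh Φh hΦh (b.base t) hb
    have : IsOpenImmersion (RelProj.awayEmb uh pC' chartC' U hU U' hU' hle hm
        ((ι.hom.app (op U)).hom f) (hz.graded U hU m f hf)) := by
      unfold RelProj.awayEmb; infer_instance
    let W : T.Opens := (b ≫ (RelProj.domQ uh pC' chartC').ι) ⁻¹ᵁ
      (RelProj.awayEmb uh pC' chartC' U hU U' hU' hle hm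
        ((ι.hom.app (op U)).hom f) (hz.graded U hU m f hf)).opensRange
    refine ⟨W, hmem, ?_⟩
    have hr0 : Set.range (W.ι ≫ b ≫ (RelProj.domQ uh pC' chartC').ι).base ⊆
        Set.range (RelProj.awayEmb uh pC' chartC' U hU U' hU' hle hm
          ((ι.hom.app (op U)).hom f) (hz.graded U hU m f hf)).base := by
      rintro _ ⟨w, rfl⟩
      exact w.2
    have hα : IsOpenImmersion.lift (RelProj.awayEmb uh pC' chartC' U hU U' hU' hle hm
          ((ι.hom.app (op U)).hom f) (hz.graded U hU m f hf))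
        (W.ι ≫ b ≫ (RelProj.domQ uh pC' chartC').ι) hr0 ≫
        RelProj.awayEmb uh pC' chartC' U hU U' hU' hle hm
          ((ι.hom.app (op U)).hom f) (hz.graded U hU m f hf) =
        (W.ι ≫ b) ≫ (RelProj.domQ uh pC' chartC').ι := by
      rw [IsOpenImmersion.lift_fac, Category.assoc]
    exact core q 𝒮 𝒮' u 𝒮h ι z hz pC chartC 𝒮h' ι' z' hz' pC' chartC' uh huh Φh hΦh p chart p' chart'
      Φ hΦ r hr r' hr' U hU U' hU' hle hm f hf _ (W.ι ≫ a) (W.ι ≫ b) (W.ι ≫ c) hα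
      (by rw [Category.assoc, hab, Category.assoc]) (by rw [Category.assoc, hbc, Category.assoc])
  choose W hW hW1 hW2 using hloc
  refine ⟨?_, ?_⟩
  · rintro _ ⟨t, rfl⟩
    apply hW1 t
    exact ⟨⟨t, hW t⟩, rfl⟩
  · intro d hd
    have hcov : IsOpenCover W := by
      apply IsOpenCover.mk
      rw [eq_top_iff]
      intro t _
      exact Opens.mem_iSup.mpr ⟨t, hW t⟩
    refine (T.openCoverOfIsOpenCover W hcov).hom_ext _ _ (fun t => ?_)
    change (W t).ι ≫ c ≫ r = (W t).ι ≫ d ≫ Φ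
    have := hW2 t ((W t).ι ≫ d) (by rw [Category.assoc, hd, Category.assoc])
    simpa only [Category.assoc] using this

end main

end Groth.Agent.S12156aux

namespace Groth.Agent.S12156

/-- Let q : Y' → Y be a morphism, φ : 𝒮 → q_*𝒮' a graded q-morphism of quasi-coherent positively graded
algebras with 𝒮_0 = O_Y, 𝒮'_0 = O_{Y'}, φ̂ : 𝒮[z] → q_*𝒮'[z] its extension with φ̂(z) = z, Ĉ =
Proj(𝒮[z]), Ĉ' = Proj(𝒮'[z]) the projective cones with pointed cones Ê, Ê', and Φ̂ = Proj(φ̂) :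
G(φ̂) → Ĉ; let X = Proj(𝒮), X' = Proj(𝒮'), Proj(φ) : G(φ) → X on its open of definition G(φ) ⊆ X',
and p̂ : Ê → X, p̂' : Ê' → X' the canonical retractions. Then p̂'(Φ̂⁻¹(Ê)) ⊆ G(φ) and on Φ̂⁻¹(Ê) the
composites p̂ ∘ Φ̂ and Proj(φ) ∘ p̂' agree (stated on T-valued points: a : T → Ê' and b : T → G(φ̂)
agreeing in Ĉ' with Φ̂ ∘ b = c : T → Ê). -/
theorem result {Y Y' PC PC' : Scheme.{u}} (q : Y' ⟶ Y)
    (𝒮 : RelProj.QCGrAlg Y) (𝒮' : RelProj.QCGrAlg Y') (h0 : RelCone.StrZeroBij 𝒮) (h0' : RelCone.StrZeroBij 𝒮')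
    (u : RelProj.QGrHom q 𝒮 𝒮')
    (𝒮h : RelProj.QCGrAlg Y) (ι : 𝒮.toQCAlg ⟶ 𝒮h.toQCAlg) (z : 𝒮h.presheaf.obj (op ⊤))
    (hz : RelCone.IsPolyOver 𝒮 𝒮h ι z)
    (pC : PC ⟶ Y) (chartC : ∀ (U : Y.Opens) (hU : IsAffineOpen U), (((pC ⁻¹ᵁ U : PC.Opens) : Scheme.{u}) ≅ Proj (𝒮h.deg U hU)))
    (hC : RelProj.IsRelProj 𝒮h pC chartC)
    (𝒮h' : RelProj.QCGrAlg Y') (ι' : 𝒮'.toQCAlg ⟶ 𝒮h'.toQCAlg) (z' : 𝒮h'.presheaf.obj (op ⊤))
    (hz' : RelCone.IsPolyOver 𝒮' 𝒮h' ι' z')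
    (pC' : PC' ⟶ Y') (chartC' : ∀ (U : Y'.Opens) (hU : IsAffineOpen U), (((pC' ⁻¹ᵁ U : PC'.Opens) : Scheme.{u}) ≅ Proj (𝒮h'.deg U hU)))
    (hC' : RelProj.IsRelProj 𝒮h' pC' chartC')
    (uh : RelProj.QGrHom q 𝒮h 𝒮h')
    (huh : ∀ U : Y.Opens, ι.hom.app (op U) ≫ uh.app U = u.app U ≫ ι'.hom.app (op (q ⁻¹ᵁ U)))
    (huhz : (uh.app ⊤).hom z = RelCone.restrictTop 𝒮h' z' (q ⁻¹ᵁ ⊤))
    (Φh : ((RelProj.domQ uh pC' chartC' : PC'.Opens) : Scheme.{u}) ⟶ PC)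
    (hΦh : RelProj.IsProjQMapOn uh pC chartC pC' chartC' (RelProj.domQ uh pC' chartC') Φh)
    {P P' : Scheme.{u}} (p : P ⟶ Y) (chart : ∀ (U : Y.Opens) (hU : IsAffineOpen U), (((p ⁻¹ᵁ U : P.Opens) : Scheme.{u}) ≅ Proj (𝒮.deg U hU)))
    (hP : RelProj.IsRelProj 𝒮 p chart)
    (p' : P' ⟶ Y') (chart' : ∀ (U : Y'.Opens) (hU : IsAffineOpen U), (((p' ⁻¹ᵁ U : P'.Opens) : Scheme.{u}) ≅ Proj (𝒮'.deg U hU)))
    (hP' : RelProj.IsRelProj 𝒮' p' chart')
    (Φ : ((RelProj.domQ u p' chart' : P'.Opens) : Scheme.{u}) ⟶ P)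
    (hΦ : RelProj.IsProjQMapOn u p chart p' chart' (RelProj.domQ u p' chart') Φ)
    (r : ((RelCone.pointedProjCone 𝒮 hz pC chartC : PC.Opens) : Scheme.{u}) ⟶ P)
    (hr : RelProj.IsProjQMapOn (RelProj.QGrHom.ofHom ι hz.graded) p chart pC chartC (RelCone.pointedProjCone 𝒮 hz pC chartC) r)
    (r' : ((RelCone.pointedProjCone 𝒮' hz' pC' chartC' : PC'.Opens) : Scheme.{u}) ⟶ P')
    (hr' : RelProj.IsProjQMapOn (RelProj.QGrHom.ofHom ι' hz'.graded) p' chart' pC' chartC' (RelCone.pointedProjCone 𝒮' hz' pC' chartC') r')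
    (T : Scheme.{u}) (a : T ⟶ ((RelCone.pointedProjCone 𝒮' hz' pC' chartC' : PC'.Opens) : Scheme.{u}))
    (b : T ⟶ ((RelProj.domQ uh pC' chartC' : PC'.Opens) : Scheme.{u}))
    (c : T ⟶ ((RelCone.pointedProjCone 𝒮 hz pC chartC : PC.Opens) : Scheme.{u}))
    (hab : a ≫ (RelCone.pointedProjCone 𝒮' hz' pC' chartC').ι = b ≫ (RelProj.domQ uh pC' chartC').ι) (hbc : b ≫ Φh = c ≫ (RelCone.pointedProjCone 𝒮 hz pC chartC).ι) :
    Set.range (a ≫ r').base ⊆ ((RelProj.domQ u p' chart' : P'.Opens) : Set P') ∧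
      ∀ d : T ⟶ ((RelProj.domQ u p' chart' : P'.Opens) : Scheme.{u}),
        a ≫ r' = d ≫ (RelProj.domQ u p' chart').ι → c ≫ r = d ≫ Φ := by
  exact Groth.Agent.S12156aux.main q 𝒮 𝒮' u 𝒮h ι z hz pC chartC hC 𝒮h' ι' z' hz' pC' chartC' uh huh Φh hΦh
    p chart p' chart' Φ hΦ r hr r' hr' T a b c hab hbc

end Groth.Agent.S12156
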