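import Groth.Statements.S12155
import Mathlib
import Groth.Agent.S12156
import Groth.Agent.Lib.helper27.DomQ
import Groth.Agent.Lib.helper27.ProjCone2
import Groth.Agent.Lib.helper27.ProjCone
import Groth.Agent.Lib.helper27.ProjQMap
import Groth.Prelude.Def_RelSpec2
import Groth.Prelude.Def_RelProj4

set_option autoImplicit false
universe u
open CategoryTheory CategoryTheory.Limits AlgebraicGeometry TopologicalSpace Opposite
open scoped HomogeneousIdeal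
noncomputable section
open EGA2

namespace Groth.Agent.S12155aux
open CategoryTheory CategoryTheory.Limits AlgebraicGeometry Opposite TopologicalSpace
open scoped HomogeneousIdeal
open Groth.Agent.Lib.helper27

section main
variable {Y Y' PC PC' : Scheme.{u}} (q : Y' ⟶ Y)
    (𝒮 : RelProj.QCGrAlg Y) (𝒮' : RelProj.QCGrAlg Y')
    (u : RelProj.QGrHom q 𝒮 𝒮')
    (𝒮h : RelProj.QCGrAlg Y) (ι : 𝒮.toQCAlg ⟶ 𝒮h.toQCAlg) (z : 𝒮h.presheaf.obj (op ⊤))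
    (hz : RelCone.IsPolyOver 𝒮 𝒮h ι z)
    (pC : PC ⟶ Y) (chartC : ∀ (U : Y.Opens) (hU : IsAffineOpen U), (((pC ⁻¹ᵁ U : PC.Opens) : Scheme.{u}) ≅ Proj (𝒮h.deg U hU)))
    (hC : RelProj.IsRelProj 𝒮h pC chartC)
    (𝒮h' : RelProj.QCGrAlg Y') (ι' : 𝒮'.toQCAlg ⟶ 𝒮h'.toQCAlg) (z' : 𝒮h'.presheaf.obj (op ⊤))
    (hz' : RelCone.IsPolyOver 𝒮' 𝒮h' ι' z')
    (pC' : PC' ⟶ Y') (chartC' : ∀ (U : Y'.Opens) (hU : IsAffineOpen U), (((pC' ⁻¹ᵁ U : PC'.Opens) : Scheme.{u}) ≅ Proj (𝒮h'.deg U hU)))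
    (hC' : RelProj.IsRelProj 𝒮h' pC' chartC')
    (uh : RelProj.QGrHom q 𝒮h 𝒮h')
    (huh : ∀ U : Y.Opens, ι.hom.app (op U) ≫ uh.app U = u.app U ≫ ι'.hom.app (op (q ⁻¹ᵁ U)))
    (Φh : ((RelProj.domQ uh pC' chartC' : PC'.Opens) : Scheme.{u}) ⟶ PC)
    (hΦh : RelProj.IsProjQMapOn uh pC chartC pC' chartC' (RelProj.domQ uh pC' chartC') Φh)
    {P' : Scheme.{u}} (p' : P' ⟶ Y') (chart' : ∀ (U : Y'.Opens) (hU : IsAffineOpen U), (((p' ⁻¹ᵁ U : P'.Opens) : Scheme.{u}) ≅ Proj (𝒮'.deg U hU)))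
    (hP' : RelProj.IsRelProj 𝒮' p' chart')

theorem exists_pair_pt (y : Y') : ∃ (U : Y.Opens) (_ : IsAffineOpen U) (U' : Y'.Opens)
    (_ : IsAffineOpen U') (_ : U' ≤ q ⁻¹ᵁ U), y ∈ U' := by
  obtain ⟨U, hU, hyU⟩ : ∃ U : Y.Opens, IsAffineOpen U ∧ q.base y ∈ U := by
    obtain ⟨U, hxU⟩ := Opens.mem_iSup.mp
      ((iSup_affineOpens_eq_top Y).symm ▸ (Opens.mem_top (q.base y)) :
        q.base y ∈ ⨆ i : Y.affineOpens, (i : Y.Opens))
    exact ⟨U.1, U.2, hxU⟩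
  have hy' : y ∈ q ⁻¹ᵁ U := hyU
  obtain ⟨_, ⟨U', hU', rfl⟩, hxU', hle⟩ :=
    Y'.isBasis_affineOpens.exists_subset_of_mem_open hy' (q ⁻¹ᵁ U).2
  exact ⟨U, hU, U', hU', hle, hxU'⟩

include hC hΦh huh in
/-- part (A). -/
theorem partA :
    (RelProj.domQ uh pC' chartC').ι ''ᵁ (Φh ⁻¹ᵁ RelCone.pointedProjCone 𝒮 hz pC chartC) ≤
      RelCone.pointedProjCone 𝒮' hz' pC' chartC' := by
  rintro _ ⟨b', hb', rfl⟩
  obtain ⟨U, hU, U', hU', hle, m, hm, f, hf, hmem⟩ := S12156aux.exists_chart q 𝒮 𝒮h ι z hz pC chartC hC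
    𝒮h' pC' chartC' uh Φh hΦh b' hb'
  have e3 : uh.gradedAt U hU U' hU' hle ((ι.hom.app (op U)).hom f) =
      (ι'.hom.app (op U')).hom (u.gradedAt U hU U' hU' hle f) :=
    congrArg (fun t => t.hom f) (S12156aux.uh_ι q 𝒮 𝒮' u 𝒮h ι 𝒮h' ι' uh huh U U' hle)
  have huf : u.gradedAt U hU U' hU' hle f ∈ 𝒮'.deg U' hU' m := (u.gradedAt U hU U' hU' hle).map_mem hf
  have huιf : uh.gradedAt U hU U' hU' hle ((ι.hom.app (op U)).hom f) ∈ 𝒮h'.deg U' hU' m :=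
    (uh.gradedAt U hU U' hU' hle).map_mem (hz.graded U hU m f hf)
  have hWr' := S12156aux.range_subset_pointed hz' pC' chartC' U' hU' hm (u.gradedAt U hU U' hU' hle f) huf
    _ e3 huιf
  rw [Scheme.Opens.range_ι] at hWr'
  exact hWr' hmem

include huh hP' in
theorem claimX (hG : RelProj.domQ u p' chart' = ⊤) (U : Y.Opens) (hU : IsAffineOpen U) (U' : Y'.Opens)
    (hU' : IsAffineOpen U') (hle : U' ≤ q ⁻¹ᵁ U) (pt : Proj (𝒮h'.deg U' hU'))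
    (hpt : pt ∈ RelCone.domOpen (RelProj.gradedHomAt ι' hz'.graded U' hU')) :
    ∃ (k : ℕ) (_ : 0 < k) (f : 𝒮.presheaf.obj (op U)) (_ : f ∈ 𝒮.deg U hU k),
      uh.gradedAt U hU U' hU' hle ((ι.hom.app (op U)).hom f) ∉ pt.asHomogeneousIdeal := by
  rw [RelCone.mem_domOpen] at hpt
  obtain ⟨g₀, hg₀, hgq⟩ := hpt
  have hnot : ¬ (HomogeneousIdeal.irrelevant (𝒮'.deg U' hU')).toIdeal ≤
      Ideal.comap (ι'.hom.app (op U')).hom pt.asHomogeneousIdeal.toIdeal := by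
    intro h
    exact hgq (h hg₀)
  rw [HomogeneousIdeal.toIdeal_irrelevant_le] at hnot
  push Not at hnot
  obtain ⟨m, hm, hnle⟩ := hnot
  obtain ⟨f', hf', hfq⟩ := SetLike.not_le_iff_exists.mp hnle
  set ψ := RelProj.gradedHomAt ι' hz'.graded U' hU' with hψ
  have hmem : pt ∈ Proj.basicOpen (𝒮h'.deg U' hU') (ψ f') := by
    rw [Proj.mem_basicOpen]; exact hfq
  have hmem' : pt ∈ (Proj.awayι (𝒮h'.deg U' hU') (ψ f') (GradedFunLike.map_mem ψ hf') hm).opensRange := by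
    rw [Proj.opensRange_awayι]; exact hmem
  obtain ⟨w, rfl⟩ := hmem'
  have h0 : (Proj.awayι (𝒮'.deg U' hU') f' hf' hm).base
      ((Spec.map (CommRingCat.ofHom (HomogeneousLocalization.Away.map ψ f'))).base w) ∈
      RelCone.domOpen (u.gradedAt U hU U' hU' hle) := by
    rw [DomQ.domOpen_eq_top_of_domQ_eq_top u p' chart' hP' hG U hU U' hU' hle]; trivial
  rw [RelCone.mem_domOpen] at h0
  obtain ⟨g₁, hg₁, hg₁q⟩ := h0
  have hnot1 : ¬ (HomogeneousIdeal.irrelevant (𝒮.deg U hU)).toIdeal ≤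
      Ideal.comap (u.appLE U U' hle).hom ((Proj.awayι (𝒮'.deg U' hU') f' hf' hm).base
      ((Spec.map (CommRingCat.ofHom (HomogeneousLocalization.Away.map ψ f'))).base
        w)).asHomogeneousIdeal.toIdeal := by
    intro h
    exact hg₁q (h hg₁)
  rw [HomogeneousIdeal.toIdeal_irrelevant_le] at hnot1
  push Not at hnot1
  obtain ⟨k, hk, hnle1⟩ := hnot1
  obtain ⟨f, hf, hfq0⟩ := SetLike.not_le_iff_exists.mp hnle1
  have huf : u.gradedAt U hU U' hU' hle f ∈ 𝒮'.deg U' hU' k := (u.gradedAt U hU U' hU' hle).map_mem hf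
  have hmem0 : (Proj.awayι (𝒮'.deg U' hU') f' hf' hm).base
      ((Spec.map (CommRingCat.ofHom (HomogeneousLocalization.Away.map ψ f'))).base w) ∈
      Proj.basicOpen (𝒮'.deg U' hU') (u.gradedAt U hU U' hU' hle f) := by
    rw [Proj.mem_basicOpen]; exact hfq0
  rw [ProjQMap.mem_basicOpen_iff' ψ hk hm (u.gradedAt U hU U' hU' hle f) f' huf hf' w] at hmem0
  have e3 : uh.gradedAt U hU U' hU' hle ((ι.hom.app (op U)).hom f) =
      ψ (u.gradedAt U hU U' hU' hle f) :=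
    congrArg (fun t => t.hom f) (S12156aux.uh_ι q 𝒮 𝒮' u 𝒮h ι 𝒮h' ι' uh huh U U' hle)
  refine ⟨k, hk, f, hf, ?_⟩
  rw [e3]
  rw [Proj.mem_basicOpen] at hmem0
  exact hmem0

variable (huhz : (uh.app ⊤).hom z = RelCone.restrictTop 𝒮h' z' (q ⁻¹ᵁ ⊤))

include huhz in
theorem uh_z (U : Y.Opens) (U' : Y'.Opens) (hle : U' ≤ q ⁻¹ᵁ U) :
    (uh.appLE U U' hle).hom (RelCone.restrictTop 𝒮h z U) = RelCone.restrictTop 𝒮h' z' U' := by
  have h1 := uh.toQHom.map_appLE (U := ⊤) (V := U) (U' := U') le_top hle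
  have h2 : (uh.appLE U U' hle).hom (RelCone.restrictTop 𝒮h z U) =
      (uh.appLE ⊤ U' (hle.trans (q.preimage_mono le_top))).hom z := by
    have := congrArg (fun t => t.hom z) h1
    exact this
  rw [h2]
  change (𝒮h'.presheaf.map _).hom ((uh.app ⊤).hom z) = _
  rw [huhz]
  change (𝒮h'.presheaf.map _).hom ((𝒮h'.presheaf.map _).hom z') = (𝒮h'.presheaf.map _).hom z'
  rw [← CommRingCat.comp_apply, ← Functor.map_comp]
  rfl

include hz hz' huh huhz hP' in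
theorem domQ_uh_eq_top (hG : RelProj.domQ u p' chart' = ⊤) : RelProj.domQ uh pC' chartC' = ⊤ := by
  rw [eq_top_iff]
  intro y' _
  obtain ⟨U, hU, U', hU', hle, hy⟩ := exists_pair_pt q (pC'.base y')
  have hy2 : y' ∈ (RelProj.emb pC' chartC' U' hU').opensRange := by
    rw [ProjCone.range_emb]; exact hy
  obtain ⟨pt, rfl⟩ := hy2
  have key : pt ∈ RelCone.domOpen (uh.gradedAt U hU U' hU' hle) := by
    by_cases hzq : RelCone.restrictTop 𝒮h' z' U' ∈ pt.asHomogeneousIdeal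
    · have hpt : pt ∈ RelCone.domOpen (RelProj.gradedHomAt ι' hz'.graded U' hU') := by
        by_contra h
        exact (ProjCone.z_not_mem_of_not_mem_domOpen hz' U' hU' pt h) hzq
      obtain ⟨k, hk, f, hf, hnot⟩ := claimX q 𝒮 𝒮' u 𝒮h ι 𝒮h' ι' z' hz' uh huh p' chart' hP' hG
        U hU U' hU' hle pt hpt
      rw [RelCone.mem_domOpen]
      exact ⟨(ι.hom.app (op U)).hom f,
        HomogeneousIdeal.mem_irrelevant_of_mem _ hk (hz.graded U hU k f hf), hnot⟩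
    · rw [RelCone.mem_domOpen]
      refine ⟨RelCone.restrictTop 𝒮h z U,
        HomogeneousIdeal.mem_irrelevant_of_mem _ one_pos (hz.deg_z U hU), ?_⟩
      have e : (uh.gradedAt U hU U' hU' hle) (RelCone.restrictTop 𝒮h z U) =
          RelCone.restrictTop 𝒮h' z' U' := uh_z q 𝒮h z 𝒮h' z' uh huhz U U' hle
      rw [e]; exact hzq
  unfold RelProj.domQ
  rw [Opens.mem_iSup]
  exact ⟨⟨(⟨U, hU⟩, ⟨U', hU'⟩), hle⟩, pt, key, rfl⟩

include hC hC' huh hΦh hP' in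
theorem partB2 (hG : RelProj.domQ u p' chart' = ⊤) :
    (RelProj.domQ uh pC' chartC').ι ''ᵁ (Φh ⁻¹ᵁ RelCone.pointedProjCone 𝒮 hz pC chartC) =
      RelCone.pointedProjCone 𝒮' hz' pC' chartC' := by
  apply le_antisymm (partA q 𝒮 𝒮' u 𝒮h ι z hz pC chartC hC 𝒮h' ι' z' hz' pC' chartC' uh huh Φh hΦh)
  intro y' hy'
  obtain ⟨U, hU, U', hU', hle, hy⟩ := exists_pair_pt q (pC'.base y')
  have hy2 : y' ∈ (RelProj.emb pC' chartC' U' hU').opensRange := by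
    rw [ProjCone.range_emb]; exact hy
  obtain ⟨pt, rfl⟩ := hy2
  have hpt := (S12156aux.emb_mem_pointedProjCone_iff hz' pC' chartC' hC' U' hU' pt).mp hy'
  obtain ⟨k, hk, f, hf, hnot⟩ := claimX q 𝒮 𝒮' u 𝒮h ι 𝒮h' ι' z' hz' uh huh p' chart' hP' hG
    U hU U' hU' hle pt hpt
  have hιf := hz.graded U hU k f hf
  have hmem : pt ∈ Proj.basicOpen (𝒮h'.deg U' hU')
      (uh.gradedAt U hU U' hU' hle ((ι.hom.app (op U)).hom f)) := by
    rw [Proj.mem_basicOpen]; exact hnot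
  have hmem' : pt ∈ (Proj.awayι (𝒮h'.deg U' hU')
      (uh.gradedAt U hU U' hU' hle ((ι.hom.app (op U)).hom f))
      ((uh.gradedAt U hU U' hU' hle).map_mem hιf) hk).opensRange := by
    rw [Proj.opensRange_awayι]; exact hmem
  obtain ⟨w₂, rfl⟩ := hmem'
  have hWh := RelProj.range_awayEmb_subset_domQ uh pC' chartC' U hU U' hU' hle hk _ hιf
  refine ⟨(IsOpenImmersion.lift (RelProj.domQ uh pC' chartC').ι
    (RelProj.awayEmb uh pC' chartC' U hU U' hU' hle hk _ hιf) hWh).base w₂, ?_, ?_⟩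
  · change Φh.base _ ∈ RelCone.pointedProjCone 𝒮 hz pC chartC
    have := congrArg (fun k => k.base w₂) (hΦh U hU U' hU' hle k hk _ hιf hWh)
    simp only [Scheme.Hom.comp_base, TopCat.hom_comp, ContinuousMap.comp_apply] at this
    rw [this]
    have hWr := S12156aux.range_subset_pointed hz pC chartC U hU hk f hf _ rfl hιf
    rw [Scheme.Opens.range_ι] at hWr
    apply hWr
    exact ⟨(Spec.map (CommRingCat.ofHom (HomogeneousLocalization.Away.map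
      (uh.gradedAt U hU U' hU' hle) ((ι.hom.app (op U)).hom f)))).base w₂, rfl⟩
  · have := congrArg (fun k => k.base w₂) (IsOpenImmersion.lift_fac (RelProj.domQ uh pC' chartC').ι
      (RelProj.awayEmb uh pC' chartC' U hU U' hU' hle hk _ hιf) hWh)
    simp only [Scheme.Hom.comp_base, TopCat.hom_comp, ContinuousMap.comp_apply] at this
    exact this

end main

end Groth.Agent.S12155aux

namespace Groth.Agent.S12155

/-- Let q : Y' → Y be a morphism, φ : 𝒮 → q_*𝒮' a graded q-morphism of quasi-coherent positively graded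
algebras with 𝒮_0 = O_Y, 𝒮'_0 = O_{Y'}, φ̂ : 𝒮[z] → q_*𝒮'[z] its extension with φ̂(z) = z, Ĉ =
Proj(𝒮[z]), Ĉ' = Proj(𝒮'[z]) the projective cones with pointed cones Ê, Ê', and Φ̂ = Proj(φ̂) :
G(φ̂) → Ĉ. Then Φ̂⁻¹(Ê) ⊆ Ê'; moreover if Proj(φ) is everywhere defined on Proj(𝒮'), then Φ̂ is
everywhere defined on Ĉ' and Φ̂⁻¹(Ê) = Ê'. -/
theorem result {Y Y' PC PC' : Scheme.{u}} (q : Y' ⟶ Y)
    (𝒮 : RelProj.QCGrAlg Y) (𝒮' : RelProj.QCGrAlg Y') (h0 : RelCone.StrZeroBij 𝒮) (h0' : RelCone.StrZeroBij 𝒮')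
    (u : RelProj.QGrHom q 𝒮 𝒮')
    (𝒮h : RelProj.QCGrAlg Y) (ι : 𝒮.toQCAlg ⟶ 𝒮h.toQCAlg) (z : 𝒮h.presheaf.obj (op ⊤))
    (hz : RelCone.IsPolyOver 𝒮 𝒮h ι z)
    (pC : PC ⟶ Y) (chartC : ∀ (U : Y.Opens) (hU : IsAffineOpen U), (((pC ⁻¹ᵁ U : PC.Opens) : Scheme.{u}) ≅ Proj (𝒮h.deg U hU)))
    (hC : RelProj.IsRelProj 𝒮h pC chartC)
    (𝒮h' : RelProj.QCGrAlg Y') (ι' : 𝒮'.toQCAlg ⟶ 𝒮h'.toQCAlg) (z' : 𝒮h'.presheaf.obj (op ⊤))
    (hz' : RelCone.IsPolyOver 𝒮' 𝒮h' ι' z')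
    (pC' : PC' ⟶ Y') (chartC' : ∀ (U : Y'.Opens) (hU : IsAffineOpen U), (((pC' ⁻¹ᵁ U : PC'.Opens) : Scheme.{u}) ≅ Proj (𝒮h'.deg U hU)))
    (hC' : RelProj.IsRelProj 𝒮h' pC' chartC')
    (uh : RelProj.QGrHom q 𝒮h 𝒮h')
    (huh : ∀ U : Y.Opens, ι.hom.app (op U) ≫ uh.app U = u.app U ≫ ι'.hom.app (op (q ⁻¹ᵁ U)))
    (huhz : (uh.app ⊤).hom z = RelCone.restrictTop 𝒮h' z' (q ⁻¹ᵁ ⊤))
    (Φh : ((RelProj.domQ uh pC' chartC' : PC'.Opens) : Scheme.{u}) ⟶ PC)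
    (hΦh : RelProj.IsProjQMapOn uh pC chartC pC' chartC' (RelProj.domQ uh pC' chartC') Φh)
    {P' : Scheme.{u}} (p' : P' ⟶ Y') (chart' : ∀ (U : Y'.Opens) (hU : IsAffineOpen U), (((p' ⁻¹ᵁ U : P'.Opens) : Scheme.{u}) ≅ Proj (𝒮'.deg U hU)))
    (hP' : RelProj.IsRelProj 𝒮' p' chart') :
    (RelProj.domQ uh pC' chartC').ι ''ᵁ (Φh ⁻¹ᵁ RelCone.pointedProjCone 𝒮 hz pC chartC) ≤ RelCone.pointedProjCone 𝒮' hz' pC' chartC' ∧
      (RelProj.domQ u p' chart' = ⊤ →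
        RelProj.domQ uh pC' chartC' = ⊤ ∧
          (RelProj.domQ uh pC' chartC').ι ''ᵁ (Φh ⁻¹ᵁ RelCone.pointedProjCone 𝒮 hz pC chartC) = RelCone.pointedProjCone 𝒮' hz' pC' chartC') := by
  refine ⟨Groth.Agent.S12155aux.partA q 𝒮 𝒮' u 𝒮h ι z hz pC chartC hC 𝒮h' ι' z' hz' pC' chartC' uh huh Φh hΦh,
    fun hG => ⟨Groth.Agent.S12155aux.domQ_uh_eq_top q 𝒮 𝒮' u 𝒮h ι z hz 𝒮h' ι' z' hz' pC' chartC' uh huh
      p' chart' hP' huhz hG, ?_⟩⟩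
  exact Groth.Agent.S12155aux.partB2 q 𝒮 𝒮' u 𝒮h ι z hz pC chartC hC 𝒮h' ι' z' hz' pC' chartC' hC' uh huh Φh hΦh
    p' chart' hP' hG

end Groth.Agent.S12155
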