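import Groth.Statements.S12157
import Mathlib
import Groth.Agent.Lib.helper27.SpecQ
import Groth.Agent.Lib.helper27.ProjCone2
import Groth.Agent.Lib.helper27.ProjCone
import Groth.Prelude.Def_RelSpec2
import Groth.Prelude.Def_RelProj4

set_option autoImplicit false
universe u
open CategoryTheory CategoryTheory.Limits AlgebraicGeometry TopologicalSpace Opposite
open scoped HomogeneousIdeal
noncomputable section
open EGA2

namespace Groth.Agent.S12157aux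
open CategoryTheory CategoryTheory.Limits AlgebraicGeometry Opposite TopologicalSpace
open scoped HomogeneousIdeal
open Groth.Agent.Lib.helper27

variable {Y Y' PC PC' : Scheme.{u}} (q : Y' ⟶ Y)
    (𝒮 : RelProj.QCGrAlg Y) (𝒮' : RelProj.QCGrAlg Y')
    (u : RelProj.QGrHom q 𝒮 𝒮')
    (𝒮h : RelProj.QCGrAlg Y) (ι : 𝒮.toQCAlg ⟶ 𝒮h.toQCAlg) (z : 𝒮h.presheaf.obj (op ⊤))
    (hz : RelCone.IsPolyOver 𝒮 𝒮h ι z)
    (𝒮h' : RelProj.QCGrAlg Y') (ι' : 𝒮'.toQCAlg ⟶ 𝒮h'.toQCAlg) (z' : 𝒮h'.presheaf.obj (op ⊤))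
    (hz' : RelCone.IsPolyOver 𝒮' 𝒮h' ι' z')
    (uh : RelProj.QGrHom q 𝒮h 𝒮h')
    (huh : ∀ U : Y.Opens, ι.hom.app (op U) ≫ uh.app U = u.app U ≫ ι'.hom.app (op (q ⁻¹ᵁ U)))
    (huhz : (uh.app ⊤).hom z = RelCone.restrictTop 𝒮h' z' (q ⁻¹ᵁ ⊤))

include huhz in
theorem uh_z (U : Y.Opens) (U' : Y'.Opens) (hle : U' ≤ q ⁻¹ᵁ U) :
    (uh.appLE U U' hle).hom (RelCone.restrictTop 𝒮h z U) = RelCone.restrictTop 𝒮h' z' U' := by
  have h1 := uh.toQHom.map_appLE (U := ⊤) (V := U) (U' := U') le_top hle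
  have h2 : (uh.appLE U U' hle).hom (RelCone.restrictTop 𝒮h z U) =
      (uh.appLE ⊤ U' (hle.trans (q.preimage_mono le_top))).hom z := by
    have := congrArg (fun t => t.hom z) h1
    exact this
  rw [h2]
  change (𝒮h'.presheaf.map _).hom ((uh.app ⊤).hom z) = _
  rw [huhz]
  change (𝒮h'.presheaf.map _).hom ((𝒮h'.presheaf.map _).hom z') = (𝒮h'.presheaf.map _).hom z'
  rw [← CommRingCat.comp_apply, ← Functor.map_comp]
  rfl

include huh in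
theorem uh_ι (U : Y.Opens) (U' : Y'.Opens) (hle : U' ≤ q ⁻¹ᵁ U) :
    ι.hom.app (op U) ≫ uh.appLE U U' hle = u.appLE U U' hle ≫ ι'.hom.app (op U') := by
  unfold RelSpec.QHom.appLE
  rw [← Category.assoc, huh U, Category.assoc, Category.assoc]
  congr 1
  exact (ι'.hom.naturality (homOfLE hle).op).symm

include huh huhz in
theorem evalOne_uh (U : Y.Opens) (hU : IsAffineOpen U) (U' : Y'.Opens) (hU' : IsAffineOpen U')
    (hle : U' ≤ q ⁻¹ᵁ U) (y : 𝒮h.presheaf.obj (op U)) :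
    hz'.evalOne U' hU' ((uh.appLE U U' hle).hom y) = (u.appLE U U' hle).hom (hz.evalOne U hU y) := by
  obtain ⟨p, rfl⟩ := (hz.polyEquiv U hU).surjective y
  have h1 : (uh.appLE U U' hle).hom (hz.polyEquiv U hU p) =
      hz'.polyEquiv U' hU' (p.map (u.appLE U U' hle).hom) := by
    rw [RelCone.IsPolyOver.polyEquiv_apply, RelCone.IsPolyOver.polyEquiv_apply, Polynomial.hom_eval₂,
      Polynomial.eval₂_map, uh_z q 𝒮h z 𝒮h' z' uh huhz U U' hle]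
    congr 1
    ext a
    have := congrArg (fun t => t.hom a) (uh_ι q 𝒮 𝒮' u 𝒮h ι 𝒮h' ι' uh huh U U' hle)
    exact this
  rw [h1]
  simp only [RelCone.IsPolyOver.evalOne, RingHom.comp_apply, RingEquiv.toRingHom_eq_coe,
    RingHom.coe_coe, RingEquiv.symm_apply_apply, Polynomial.coe_evalRingHom]
  rw [Polynomial.eval_map, Polynomial.eval₂_at_one]

theorem exists_τ (U' : Y'.Opens) (hU' : IsAffineOpen U') (zz : 𝒮h'.presheaf.obj (op U'))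
    (e : zz = RelCone.restrictTop 𝒮h' z' U') (hzz : zz ∈ 𝒮h'.deg U' hU' 1) :
    ∃ τ : HomogeneousLocalization.Away (𝒮h'.deg U' hU') zz →+* 𝒮'.presheaf.obj (op U'),
      (∀ (k : ℕ) (y : 𝒮h'.presheaf.obj (op U')) (hy : y ∈ 𝒮h'.deg U' hU' (k • 1)),
        τ (HomogeneousLocalization.Away.mk _ hzz k y hy) = hz'.evalOne U' hU' y) ∧
      Spec.map (CommRingCat.ofHom τ) ≫ Proj.awayι (𝒮h'.deg U' hU') zz hzz one_pos =
        Spec.map (CommRingCat.ofHom (hz'.awayZToBase U' hU')) ≫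
          Proj.awayι (𝒮h'.deg U' hU') (RelCone.restrictTop 𝒮h' z' U') (hz'.deg_z U' hU') one_pos := by
  subst e
  exact ⟨hz'.awayZToBase U' hU', fun k y hy => ProjCone.awayZ_mk hz' U' hU' k y hy, rfl⟩

variable (pC : PC ⟶ Y)
    (chartC : ∀ (U : Y.Opens) (hU : IsAffineOpen U), (((pC ⁻¹ᵁ U : PC.Opens) : Scheme.{u}) ≅ Proj (𝒮h.deg U hU)))
    (pC' : PC' ⟶ Y')
    (chartC' : ∀ (U : Y'.Opens) (hU : IsAffineOpen U), (((pC' ⁻¹ᵁ U : PC'.Opens) : Scheme.{u}) ≅ Proj (𝒮h'.deg U hU)))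
    (Φh : ((RelProj.domQ uh pC' chartC' : PC'.Opens) : Scheme.{u}) ⟶ PC)
    (hΦh : RelProj.IsProjQMapOn uh pC chartC pC' chartC' (RelProj.domQ uh pC' chartC') Φh)
    (Φc : 𝒮'.toQCAlg.spec ⟶ 𝒮.toQCAlg.spec) (hΦc : RelSpec.IsSpecQMap u.toQHom Φc)
    (i : 𝒮.toQCAlg.spec ⟶ PC) (hi : RelCone.IsConeImm 𝒮 hz pC chartC i)
    (i' : 𝒮'.toQCAlg.spec ⟶ PC') (hi' : RelCone.IsConeImm 𝒮' hz' pC' chartC' i')

include hz huhz hi' in
theorem range_subset :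
    Set.range i'.base ⊆ ((RelProj.domQ uh pC' chartC' : PC'.Opens) : Set PC') := by
  rintro _ ⟨c', rfl⟩
  obtain ⟨k, w', rfl⟩ := SpecQ.exists_pair q 𝒮'.toQCAlg c'
  rw [ProjCone.i_ι hz' k.U' k.hU' pC' chartC' i' hi']
  change _ ∈ RelProj.domQ uh pC' chartC'
  unfold RelProj.domQ
  rw [Opens.mem_iSup]
  refine ⟨⟨(⟨k.U, k.hU⟩, ⟨k.U', k.hU'⟩), k.hle⟩, (ProjCone.j hz' k.U' k.hU').base w', ?_, rfl⟩
  change _ ∈ RelCone.domOpen (uh.gradedAt k.U k.hU k.U' k.hU' k.hle)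
  rw [RelCone.mem_domOpen]
  refine ⟨RelCone.restrictTop 𝒮h z k.U,
    HomogeneousIdeal.mem_irrelevant_of_mem _ one_pos (hz.deg_z k.U k.hU), ?_⟩
  have e : (uh.gradedAt k.U k.hU k.U' k.hU' k.hle) (RelCone.restrictTop 𝒮h z k.U) =
      RelCone.restrictTop 𝒮h' z' k.U' := uh_z q 𝒮h z 𝒮h' z' uh huhz k.U k.U' k.hle
  rw [e]
  exact (ProjCone.mem_range_j_iff hz' k.U' k.hU' _).mp ⟨w', rfl⟩

include hz huh huhz hΦh hΦc hi hi' in
theorem comm (i'' : 𝒮'.toQCAlg.spec ⟶ ((RelProj.domQ uh pC' chartC' : PC'.Opens) : Scheme.{u}))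
    (hi'' : i'' ≫ (RelProj.domQ uh pC' chartC').ι = i') : i'' ≫ Φh = Φc ≫ i := by
  refine (SpecQ.cover q 𝒮'.toQCAlg).hom_ext _ _ ?_
  intro (k : SpecQ.K q)
  change 𝒮'.toQCAlg.ι k.U' k.hU' ≫ i'' ≫ Φh = 𝒮'.toQCAlg.ι k.U' k.hU' ≫ Φc ≫ i
  obtain ⟨U, hU, U', hU', hle⟩ := k
  change 𝒮'.toQCAlg.ι U' hU' ≫ i'' ≫ Φh = 𝒮'.toQCAlg.ι U' hU' ≫ Φc ≫ i
  have e : (uh.gradedAt U hU U' hU' hle) (RelCone.restrictTop 𝒮h z U) =
      RelCone.restrictTop 𝒮h' z' U' := uh_z q 𝒮h z 𝒮h' z' uh huhz U U' hle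
  obtain ⟨τ, hτ, hτ2⟩ := exists_τ 𝒮' 𝒮h' ι' z' hz' U' hU' _ e
    ((uh.gradedAt U hU U' hU' hle).map_mem (hz.deg_z U hU))
  have hW := RelProj.range_awayEmb_subset_domQ uh pC' chartC' U hU U' hU' hle one_pos
    (RelCone.restrictTop 𝒮h z U) (hz.deg_z U hU)
  have hlift : 𝒮'.toQCAlg.ι U' hU' ≫ i'' = Spec.map (CommRingCat.ofHom τ) ≫
      IsOpenImmersion.lift (RelProj.domQ uh pC' chartC').ι
        (RelProj.awayEmb uh pC' chartC' U hU U' hU' hle one_pos (RelCone.restrictTop 𝒮h z U)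
          (hz.deg_z U hU)) hW := by
    rw [← cancel_mono (RelProj.domQ uh pC' chartC').ι, Category.assoc, hi'', Category.assoc,
      IsOpenImmersion.lift_fac, hi' U' hU']
    unfold RelProj.awayEmb
    rw [← Category.assoc (Spec.map (CommRingCat.ofHom τ)), hτ2, Category.assoc]
  have hring : CommRingCat.ofHom (HomogeneousLocalization.Away.map (uh.gradedAt U hU U' hU' hle)
      (RelCone.restrictTop 𝒮h z U)) ≫ CommRingCat.ofHom τ =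
      CommRingCat.ofHom (hz.awayZToBase U hU) ≫ u.appLE U U' hle := by
    ext t
    obtain ⟨k, y, hy, rfl⟩ := t.mk_surjective _ (hz.deg_z U hU)
    change τ (HomogeneousLocalization.Away.map (uh.gradedAt U hU U' hU' hle) _ _) =
      (u.appLE U U' hle).hom (hz.awayZToBase U hU _)
    rw [HomogeneousLocalization.Away.map_mk, hτ, ProjCone.awayZ_mk]
    exact evalOne_uh q 𝒮 𝒮' u 𝒮h ι z hz 𝒮h' ι' z' hz' uh huh huhz U hU U' hU' hle y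
  rw [← Category.assoc, hlift, Category.assoc,
    hΦh U hU U' hU' hle 1 one_pos (RelCone.restrictTop 𝒮h z U) (hz.deg_z U hU) hW,
    ← Spec.map_comp_assoc, hring, ← Category.assoc (𝒮'.toQCAlg.ι U' hU'), hΦc U hU U' hU' hle,
    Category.assoc, hi U hU, Spec.map_comp_assoc]

end Groth.Agent.S12157aux

namespace Groth.Agent.S12157

/-- Let q : Y' → Y be a morphism, φ : 𝒮 → q_*𝒮' a graded q-morphism of quasi-coherent positively graded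
algebras with 𝒮_0 = O_Y, 𝒮'_0 = O_{Y'}, φ̂ : 𝒮[z] → q_*𝒮'[z] its extension with φ̂(z) = z, Ĉ =
Proj(𝒮[z]), Ĉ' = Proj(𝒮'[z]) the projective cones with pointed cones Ê, Ê', and Φ̂ = Proj(φ̂) :
G(φ̂) → Ĉ; let Φ = Spec(φ) : C' = Spec(𝒮') → C = Spec(𝒮) be the morphism of affine cones and i : C →
Ĉ, i' : C' → Ĉ' the canonical open immersions. Then i'(C') ⊆ G(φ̂) and the square formed by Φ, i', i
and Φ̂ commutes. -/
theorem result {Y Y' PC PC' : Scheme.{u}} (q : Y' ⟶ Y)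
    (𝒮 : RelProj.QCGrAlg Y) (𝒮' : RelProj.QCGrAlg Y') (h0 : RelCone.StrZeroBij 𝒮) (h0' : RelCone.StrZeroBij 𝒮')
    (u : RelProj.QGrHom q 𝒮 𝒮')
    (𝒮h : RelProj.QCGrAlg Y) (ι : 𝒮.toQCAlg ⟶ 𝒮h.toQCAlg) (z : 𝒮h.presheaf.obj (op ⊤))
    (hz : RelCone.IsPolyOver 𝒮 𝒮h ι z)
    (pC : PC ⟶ Y) (chartC : ∀ (U : Y.Opens) (hU : IsAffineOpen U), (((pC ⁻¹ᵁ U : PC.Opens) : Scheme.{u}) ≅ Proj (𝒮h.deg U hU)))
    (hC : RelProj.IsRelProj 𝒮h pC chartC)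
    (𝒮h' : RelProj.QCGrAlg Y') (ι' : 𝒮'.toQCAlg ⟶ 𝒮h'.toQCAlg) (z' : 𝒮h'.presheaf.obj (op ⊤))
    (hz' : RelCone.IsPolyOver 𝒮' 𝒮h' ι' z')
    (pC' : PC' ⟶ Y') (chartC' : ∀ (U : Y'.Opens) (hU : IsAffineOpen U), (((pC' ⁻¹ᵁ U : PC'.Opens) : Scheme.{u}) ≅ Proj (𝒮h'.deg U hU)))
    (hC' : RelProj.IsRelProj 𝒮h' pC' chartC')
    (uh : RelProj.QGrHom q 𝒮h 𝒮h')
    (huh : ∀ U : Y.Opens, ι.hom.app (op U) ≫ uh.app U = u.app U ≫ ι'.hom.app (op (q ⁻¹ᵁ U)))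
    (huhz : (uh.app ⊤).hom z = RelCone.restrictTop 𝒮h' z' (q ⁻¹ᵁ ⊤))
    (Φh : ((RelProj.domQ uh pC' chartC' : PC'.Opens) : Scheme.{u}) ⟶ PC)
    (hΦh : RelProj.IsProjQMapOn uh pC chartC pC' chartC' (RelProj.domQ uh pC' chartC') Φh)
    (Φc : 𝒮'.toQCAlg.spec ⟶ 𝒮.toQCAlg.spec) (hΦc : RelSpec.IsSpecQMap u.toQHom Φc)
    (i : 𝒮.toQCAlg.spec ⟶ PC) (hi : RelCone.IsConeImm 𝒮 hz pC chartC i)
    (i' : 𝒮'.toQCAlg.spec ⟶ PC') (hi' : RelCone.IsConeImm 𝒮' hz' pC' chartC' i') :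
    Set.range i'.base ⊆ ((RelProj.domQ uh pC' chartC' : PC'.Opens) : Set PC') ∧
      ∀ i'' : 𝒮'.toQCAlg.spec ⟶ ((RelProj.domQ uh pC' chartC' : PC'.Opens) : Scheme.{u}),
        i'' ≫ (RelProj.domQ uh pC' chartC').ι = i' → i'' ≫ Φh = Φc ≫ i := by
  exact ⟨Groth.Agent.S12157aux.range_subset q 𝒮 𝒮' 𝒮h ι z hz 𝒮h' ι' z' hz' uh huhz pC' chartC' i' hi',
    fun i'' h => Groth.Agent.S12157aux.comm q 𝒮 𝒮' u 𝒮h ι z hz 𝒮h' ι' z' hz' uh huh huhz pC chartC pC' chartC'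
      Φh hΦh Φc hΦc i hi i' hi' i'' h⟩

end Groth.Agent.S12157
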