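import Groth.Statements.S12158
import Mathlib
import Groth.Agent.Lib.helper27.ProjQMap
import Groth.Prelude.Def_RelSpec2
import Groth.Prelude.Def_RelProj4

set_option autoImplicit false
universe u
open CategoryTheory CategoryTheory.Limits AlgebraicGeometry TopologicalSpace Opposite
open scoped HomogeneousIdeal
noncomputable section
open EGA2

namespace Groth.Agent.S12158aux
open CategoryTheory CategoryTheory.Limits AlgebraicGeometry Opposite TopologicalSpace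
open scoped HomogeneousIdeal
open Groth.Agent.Lib.helper27

section alg
variable {A : Type*} [CommRing A] {𝒜 : ℕ → AddSubgroup A} [GradedRing 𝒜]

theorem mk_congr {f : A} {d : ℕ} (hf : f ∈ 𝒜 d) (k : ℕ) (y y' : A) (h : y = y') (hy : y ∈ 𝒜 (k • d))
    (hy' : y' ∈ 𝒜 (k • d)) :
    HomogeneousLocalization.Away.mk 𝒜 hf k y hy = HomogeneousLocalization.Away.mk 𝒜 hf k y' hy' := by
  subst h; rfl

end alg

section cov
variable {S S' P' : Scheme.{u}} {g : S' ⟶ S} {𝒮 : RelProj.QCGrAlg S} {𝒮' : RelProj.QCGrAlg S'}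
  (u : RelProj.QGrHom g 𝒮 𝒮') (p' : P' ⟶ S')
  (chart' : ∀ (U' : S'.Opens) (hU' : IsAffineOpen U'), (((p' ⁻¹ᵁ U' : P'.Opens) : Scheme.{u}) ≅ Proj (𝒮'.deg U' hU')))

theorem exists_awayEmb (x' : P') (hx : x' ∈ RelProj.domQ u p' chart') :
    ∃ (U : S.Opens) (hU : IsAffineOpen U) (U' : S'.Opens) (hU' : IsAffineOpen U') (hle : U' ≤ g ⁻¹ᵁ U)
      (d : ℕ) (hd : 0 < d) (f : 𝒮.presheaf.obj (op U)) (hf : f ∈ 𝒮.deg U hU d),
      x' ∈ Set.range (RelProj.awayEmb u p' chart' U hU U' hU' hle hd f hf).base := by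
  unfold RelProj.domQ at hx
  rw [Opens.mem_iSup] at hx
  obtain ⟨⟨⟨⟨U, hU⟩, ⟨U', hU'⟩⟩, hle⟩, pt, hpt, rfl⟩ := hx
  change pt ∈ RelCone.domOpen (u.gradedAt U hU U' hU' hle) at hpt
  rw [RelCone.mem_domOpen] at hpt
  obtain ⟨g₀, hg₀, hgq⟩ := hpt
  have hnot : ¬ (HomogeneousIdeal.irrelevant (𝒮.deg U hU)).toIdeal ≤
      Ideal.comap (u.appLE U U' hle).hom pt.asHomogeneousIdeal.toIdeal := by
    intro h
    exact hgq (h hg₀)
  rw [HomogeneousIdeal.toIdeal_irrelevant_le] at hnot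
  push Not at hnot
  obtain ⟨d, hd, hnle⟩ := hnot
  obtain ⟨f, hf, hfq⟩ := SetLike.not_le_iff_exists.mp hnle
  have hmem : pt ∈ Proj.basicOpen (𝒮'.deg U' hU') (u.gradedAt U hU U' hU' hle f) := by
    rw [Proj.mem_basicOpen]; exact hfq
  have hmem' : pt ∈ (Proj.awayι (𝒮'.deg U' hU') (u.gradedAt U hU U' hU' hle f)
      ((u.gradedAt U hU U' hU' hle).map_mem hf) hd).opensRange := by
    rw [Proj.opensRange_awayι]; exact hmem
  obtain ⟨w, rfl⟩ := hmem'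
  exact ⟨U, hU, U', hU', hle, d, hd, f, hf, w, rfl⟩

end cov

section J
variable {Y PA PB : Scheme.{u}} {𝒜 ℬ : RelProj.QCGrAlg Y}
    (θ : 𝒜.toQCAlg ⟶ ℬ.toQCAlg) (hθ : RelProj.IsGradedHom θ)
    (pA : PA ⟶ Y) (chartA : ∀ (U : Y.Opens) (hU : IsAffineOpen U), (((pA ⁻¹ᵁ U : PA.Opens) : Scheme.{u}) ≅ Proj (𝒜.deg U hU)))
    (pB : PB ⟶ Y) (chartB : ∀ (U : Y.Opens) (hU : IsAffineOpen U), (((pB ⁻¹ᵁ U : PB.Opens) : Scheme.{u}) ≅ Proj (ℬ.deg U hU)))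
    (j : PB ⟶ PA) (hj : RelProj.IsProjQMap (RelProj.QGrHom.ofHom θ hθ) pA chartA pB chartB j)

include hj in
theorem exists_τ (U : Y.Opens) (hU : IsAffineOpen U) {n : ℕ} (hn : 0 < n)
    (g : 𝒜.presheaf.obj (op U)) (hg : g ∈ 𝒜.deg U hU n)
    (f' : ℬ.presheaf.obj (op U)) (e : f' = (θ.hom.app (op U)).hom g) (hf' : f' ∈ ℬ.deg U hU n) :
    ∃ τ : HomogeneousLocalization.Away (𝒜.deg U hU) g →+* HomogeneousLocalization.Away (ℬ.deg U hU) f',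
      (∀ (k : ℕ) (y : 𝒜.presheaf.obj (op U)) (hy : y ∈ 𝒜.deg U hU (k • n)),
        τ (HomogeneousLocalization.Away.mk (𝒜.deg U hU) hg k y hy) =
          HomogeneousLocalization.Away.mk (ℬ.deg U hU) hf' k ((θ.hom.app (op U)).hom y) (hθ U hU _ y hy)) ∧
      Proj.awayι (ℬ.deg U hU) f' hf' hn ≫ RelProj.emb pB chartB U hU ≫ j =
        Spec.map (CommRingCat.ofHom τ) ≫ Proj.awayι (𝒜.deg U hU) g hg hn ≫ RelProj.emb pA chartA U hU := by
  have e' : f' = ProjQMap.psi θ hθ U hU g := e.trans (ProjQMap.psi_apply θ hθ U hU g).symm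
  subst e'
  refine ⟨HomogeneousLocalization.Away.map (ProjQMap.psi θ hθ U hU) g, ?_, ?_⟩
  · intro k y hy
    rw [HomogeneousLocalization.Away.map_mk]
    exact mk_congr (𝒜 := ℬ.deg U hU) _ k _ _ (ProjQMap.psi_apply θ hθ U hU y) _ _
  · have := hj.2 U hU U hU (ProjQMap.hle U) n hn g hg
    unfold RelProj.awayEmb at this
    rw [Category.assoc] at this
    exact this

end J

section retr
variable {Y : Scheme.{u}} (𝒮 𝒮h : RelProj.QCGrAlg Y) (ι : 𝒮.toQCAlg ⟶ 𝒮h.toQCAlg) (z : 𝒮h.presheaf.obj (op ⊤))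
    (θ : 𝒮h.toQCAlg ⟶ 𝒮.toQCAlg) (hθι : ι ≫ θ = 𝟙 _) (hθz : (θ.hom.app (op ⊤)).hom z = 0)

include hθι in
theorem θι_apply (U : Y.Opens) (a : 𝒮.presheaf.obj (op U)) :
    (θ.hom.app (op U)).hom ((ι.hom.app (op U)).hom a) = a := by
  have := congrArg (fun t : 𝒮.toQCAlg ⟶ 𝒮.toQCAlg => (t.hom.app (op U)).hom a) hθι
  exact this

include hθz in
theorem θ_z (U : Y.Opens) : (θ.hom.app (op U)).hom (RelCone.restrictTop 𝒮h z U) = 0 := by
  have h := θ.hom.naturality (homOfLE (le_top : U ≤ ⊤)).op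
  have h2 := congrArg (fun t => t.hom z) h
  change (θ.hom.app (op U)).hom ((𝒮h.presheaf.map (homOfLE le_top).op).hom z) =
    (𝒮.presheaf.map (homOfLE le_top).op).hom ((θ.hom.app (op ⊤)).hom z) at h2
  change (θ.hom.app (op U)).hom ((𝒮h.presheaf.map (homOfLE le_top).op).hom z) = 0
  rw [h2, hθz, map_zero]

end retr

section main
variable {Y Y' PC PC' : Scheme.{u}} (q : Y' ⟶ Y)
    (𝒮 : RelProj.QCGrAlg Y) (𝒮' : RelProj.QCGrAlg Y')
    (u : RelProj.QGrHom q 𝒮 𝒮')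
    (𝒮h : RelProj.QCGrAlg Y) (ι : 𝒮.toQCAlg ⟶ 𝒮h.toQCAlg) (z : 𝒮h.presheaf.obj (op ⊤))
    (hz : RelCone.IsPolyOver 𝒮 𝒮h ι z)
    (𝒮h' : RelProj.QCGrAlg Y') (ι' : 𝒮'.toQCAlg ⟶ 𝒮h'.toQCAlg) (z' : 𝒮h'.presheaf.obj (op ⊤))
    (hz' : RelCone.IsPolyOver 𝒮' 𝒮h' ι' z')
    (uh : RelProj.QGrHom q 𝒮h 𝒮h')
    (huh : ∀ U : Y.Opens, ι.hom.app (op U) ≫ uh.app U = u.app U ≫ ι'.hom.app (op (q ⁻¹ᵁ U)))
    (huhz : (uh.app ⊤).hom z = RelCone.restrictTop 𝒮h' z' (q ⁻¹ᵁ ⊤))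

include huhz in
theorem uh_z (U : Y.Opens) (U' : Y'.Opens) (hle : U' ≤ q ⁻¹ᵁ U) :
    (uh.appLE U U' hle).hom (RelCone.restrictTop 𝒮h z U) = RelCone.restrictTop 𝒮h' z' U' := by
  have h1 := uh.toQHom.map_appLE (U := ⊤) (V := U) (U' := U') le_top hle
  have h2 : (uh.appLE U U' hle).hom (RelCone.restrictTop 𝒮h z U) =
      (uh.appLE ⊤ U' (hle.trans (q.preimage_mono le_top))).hom z := by
    have := congrArg (fun t => t.hom z) h1
    exact this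
  rw [h2]
  change (𝒮h'.presheaf.map _).hom ((uh.app ⊤).hom z) = _
  rw [huhz]
  change (𝒮h'.presheaf.map _).hom ((𝒮h'.presheaf.map _).hom z') = (𝒮h'.presheaf.map _).hom z'
  rw [← CommRingCat.comp_apply, ← Functor.map_comp]
  rfl

include huh in
theorem uh_ι (U : Y.Opens) (U' : Y'.Opens) (hle : U' ≤ q ⁻¹ᵁ U) :
    ι.hom.app (op U) ≫ uh.appLE U U' hle = u.appLE U U' hle ≫ ι'.hom.app (op U') := by
  unfold RelSpec.QHom.appLE
  rw [← Category.assoc, huh U, Category.assoc, Category.assoc]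
  congr 1
  exact (ι'.hom.naturality (homOfLE hle).op).symm

variable (θ : 𝒮h.toQCAlg ⟶ 𝒮.toQCAlg) (hθι : ι ≫ θ = 𝟙 _)
    (hθz : (θ.hom.app (op ⊤)).hom z = 0)
    (θ' : 𝒮h'.toQCAlg ⟶ 𝒮'.toQCAlg) (hθι' : ι' ≫ θ' = 𝟙 _)
    (hθz' : (θ'.hom.app (op ⊤)).hom z' = 0)

include hz huh huhz hθι hθz hθι' hθz' in
theorem θ_comm (U : Y.Opens) (hU : IsAffineOpen U) (U' : Y'.Opens) (hle : U' ≤ q ⁻¹ᵁ U)
    (y : 𝒮h.presheaf.obj (op U)) :
    (θ'.hom.app (op U')).hom ((uh.appLE U U' hle).hom y) =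
      (u.appLE U U' hle).hom ((θ.hom.app (op U)).hom y) := by
  obtain ⟨p, rfl⟩ := (hz.polyEquiv U hU).surjective y
  have key : (((θ'.hom.app (op U')).hom.comp (uh.appLE U U' hle).hom).comp
      (hz.polyEquiv U hU).toRingHom) =
      (((u.appLE U U' hle).hom.comp (θ.hom.app (op U)).hom).comp (hz.polyEquiv U hU).toRingHom) := by
    apply Polynomial.ringHom_ext
    · intro a
      simp only [RingHom.comp_apply, RingEquiv.toRingHom_eq_coe, RingHom.coe_coe,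
        RelCone.IsPolyOver.polyEquiv_apply, Polynomial.eval₂_C]
      rw [θι_apply 𝒮 𝒮h ι θ hθι U a]
      have e3 : (uh.appLE U U' hle).hom ((ι.hom.app (op U)).hom a) =
          (ι'.hom.app (op U')).hom ((u.appLE U U' hle).hom a) :=
        congrArg (fun t => t.hom a) (uh_ι q 𝒮 𝒮' u 𝒮h ι 𝒮h' ι' uh huh U U' hle)
      rw [e3, θι_apply 𝒮' 𝒮h' ι' θ' hθι' U' _]
    · simp only [RingHom.comp_apply, RingEquiv.toRingHom_eq_coe, RingHom.coe_coe,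
        RelCone.IsPolyOver.polyEquiv_apply, Polynomial.eval₂_X]
      rw [uh_z q 𝒮h z 𝒮h' z' uh huhz U U' hle, θ_z 𝒮' 𝒮h' z' θ' hθz' U', θ_z 𝒮 𝒮h z θ hθz U, map_zero]
  exact congrArg (fun t => t p) key

variable (pC : PC ⟶ Y)
    (chartC : ∀ (U : Y.Opens) (hU : IsAffineOpen U), (((pC ⁻¹ᵁ U : PC.Opens) : Scheme.{u}) ≅ Proj (𝒮h.deg U hU)))
    (pC' : PC' ⟶ Y')
    (chartC' : ∀ (U : Y'.Opens) (hU : IsAffineOpen U), (((pC' ⁻¹ᵁ U : PC'.Opens) : Scheme.{u}) ≅ Proj (𝒮h'.deg U hU)))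
    (Φh : ((RelProj.domQ uh pC' chartC' : PC'.Opens) : Scheme.{u}) ⟶ PC)
    (hΦh : RelProj.IsProjQMapOn uh pC chartC pC' chartC' (RelProj.domQ uh pC' chartC') Φh)
    {P P' : Scheme.{u}} (p : P ⟶ Y) (chart : ∀ (U : Y.Opens) (hU : IsAffineOpen U), (((p ⁻¹ᵁ U : P.Opens) : Scheme.{u}) ≅ Proj (𝒮.deg U hU)))
    (p' : P' ⟶ Y') (chart' : ∀ (U : Y'.Opens) (hU : IsAffineOpen U), (((p' ⁻¹ᵁ U : P'.Opens) : Scheme.{u}) ≅ Proj (𝒮'.deg U hU)))
    (Φ : ((RelProj.domQ u p' chart' : P'.Opens) : Scheme.{u}) ⟶ P)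
    (hΦ : RelProj.IsProjQMapOn u p chart p' chart' (RelProj.domQ u p' chart') Φ)
    (hθ : RelProj.IsGradedHom θ)
    (jX : P ⟶ PC) (hjX : RelProj.IsProjQMap (RelProj.QGrHom.ofHom θ hθ) pC chartC p chart jX)
    (hθ' : RelProj.IsGradedHom θ')
    (jX' : P' ⟶ PC') (hjX' : RelProj.IsProjQMap (RelProj.QGrHom.ofHom θ' hθ') pC' chartC' p' chart' jX')

include hz huh hθι' hjX' in
/-- the chart of `G(u)` at `f` is carried by `jX'` into the chart of `G(uh)` at `ι f`. -/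
theorem chart_jX' (U : Y.Opens) (hU : IsAffineOpen U) (U' : Y'.Opens) (hU' : IsAffineOpen U')
    (hle : U' ≤ q ⁻¹ᵁ U) {n : ℕ} (hn : 0 < n) (f : 𝒮.presheaf.obj (op U)) (hf : f ∈ 𝒮.deg U hU n) :
    ∃ τ' : HomogeneousLocalization.Away (𝒮h'.deg U' hU')
        (uh.gradedAt U hU U' hU' hle ((ι.hom.app (op U)).hom f)) →+*
        HomogeneousLocalization.Away (𝒮'.deg U' hU') (u.gradedAt U hU U' hU' hle f),
      (∀ (k : ℕ) (y : 𝒮h'.presheaf.obj (op U')) (hy : y ∈ 𝒮h'.deg U' hU' (k • n)),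
        τ' (HomogeneousLocalization.Away.mk (𝒮h'.deg U' hU')
          ((uh.gradedAt U hU U' hU' hle).map_mem (hz.graded U hU n f hf)) k y hy) =
          HomogeneousLocalization.Away.mk (𝒮'.deg U' hU') ((u.gradedAt U hU U' hU' hle).map_mem hf) k
            ((θ'.hom.app (op U')).hom y) (hθ' U' hU' _ y hy)) ∧
      RelProj.awayEmb u p' chart' U hU U' hU' hle hn f hf ≫ jX' =
        Spec.map (CommRingCat.ofHom τ') ≫
          RelProj.awayEmb uh pC' chartC' U hU U' hU' hle hn ((ι.hom.app (op U)).hom f)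
            (hz.graded U hU n f hf) := by
  have e3 : uh.gradedAt U hU U' hU' hle ((ι.hom.app (op U)).hom f) =
      (ι'.hom.app (op U')).hom (u.gradedAt U hU U' hU' hle f) :=
    congrArg (fun t => t.hom f) (uh_ι q 𝒮 𝒮' u 𝒮h ι 𝒮h' ι' uh huh U U' hle)
  obtain ⟨τ', hτ', hτ2'⟩ := exists_τ θ' hθ' pC' chartC' p' chart' jX' hjX' U' hU' hn
    (uh.gradedAt U hU U' hU' hle ((ι.hom.app (op U)).hom f))
    ((uh.gradedAt U hU U' hU' hle).map_mem (hz.graded U hU n f hf))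
    (u.gradedAt U hU U' hU' hle f)
    (by rw [e3]; exact (θι_apply 𝒮' 𝒮h' ι' θ' hθι' U' _).symm)
    ((u.gradedAt U hU U' hU' hle).map_mem hf)
  refine ⟨τ', hτ', ?_⟩
  unfold RelProj.awayEmb
  rw [Category.assoc, hτ2']

include hz huh hθι' hjX' in
theorem image_subset :
    jX'.base '' ((RelProj.domQ u p' chart' : P'.Opens) : Set P') ⊆
      ((RelProj.domQ uh pC' chartC' : PC'.Opens) : Set PC') := by
  rintro _ ⟨x', hx', rfl⟩
  obtain ⟨U, hU, U', hU', hle, n, hn, f, hf, w, rfl⟩ := exists_awayEmb u p' chart' x' hx'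
  obtain ⟨τ', -, hτ2'⟩ := chart_jX' q 𝒮 𝒮' u 𝒮h ι z hz 𝒮h' ι' uh huh θ' hθι' pC' chartC' p' chart'
    hθ' jX' hjX' U hU U' hU' hle hn f hf
  have h1 : jX'.base ((RelProj.awayEmb u p' chart' U hU U' hU' hle hn f hf).base w) =
      (RelProj.awayEmb uh pC' chartC' U hU U' hU' hle hn ((ι.hom.app (op U)).hom f)
        (hz.graded U hU n f hf)).base ((Spec.map (CommRingCat.ofHom τ')).base w) := by
    have := congrArg (fun k => k.base w) hτ2'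
    simp only [Scheme.Hom.comp_base, TopCat.hom_comp, ContinuousMap.comp_apply] at this
    exact this
  rw [h1]
  have h2 := RelProj.range_awayEmb_subset_domQ uh pC' chartC' U hU U' hU' hle hn
    ((ι.hom.app (op U)).hom f) (hz.graded U hU n f hf)
  rw [Scheme.Opens.range_ι] at h2
  exact h2 ⟨_, rfl⟩

include hz huh huhz hθι hθz hθι' hθz' hΦh hΦ hjX hjX' in
theorem core (U : Y.Opens) (hU : IsAffineOpen U) (U' : Y'.Opens) (hU' : IsAffineOpen U')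
    (hle : U' ≤ q ⁻¹ᵁ U) {n : ℕ} (hn : 0 < n) (f : 𝒮.presheaf.obj (op U)) (hf : f ∈ 𝒮.deg U hU n)
    {W : Scheme.{u}}
    (a : W ⟶ Spec (CommRingCat.of (HomogeneousLocalization.Away (𝒮'.deg U' hU')
      (u.gradedAt U hU U' hU' hle f))))
    (d' : W ⟶ ((RelProj.domQ u p' chart' : P'.Opens) : Scheme.{u}))
    (e' : W ⟶ ((RelProj.domQ uh pC' chartC' : PC'.Opens) : Scheme.{u}))
    (had : a ≫ RelProj.awayEmb u p' chart' U hU U' hU' hle hn f hf = d' ≫ (RelProj.domQ u p' chart').ι)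
    (hde' : d' ≫ (RelProj.domQ u p' chart').ι ≫ jX' = e' ≫ (RelProj.domQ uh pC' chartC').ι) :
    e' ≫ Φh = d' ≫ Φ ≫ jX := by
  have hιf : (ι.hom.app (op U)).hom f ∈ 𝒮h.deg U hU n := hz.graded U hU n f hf
  obtain ⟨τ, hτ, hτ2⟩ := exists_τ θ hθ pC chartC p chart jX hjX U hU hn ((ι.hom.app (op U)).hom f) hιf f
    (θι_apply 𝒮 𝒮h ι θ hθι U f).symm hf
  obtain ⟨τ', hτ', hτ2'⟩ := chart_jX' q 𝒮 𝒮' u 𝒮h ι z hz 𝒮h' ι' uh huh θ' hθι' pC' chartC' p' chart'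
    hθ' jX' hjX' U hU U' hU' hle hn f hf
  have hW := RelProj.range_awayEmb_subset_domQ u p' chart' U hU U' hU' hle hn f hf
  have hWh := RelProj.range_awayEmb_subset_domQ uh pC' chartC' U hU U' hU' hle hn _ hιf
  have hd' : d' = a ≫ IsOpenImmersion.lift (RelProj.domQ u p' chart').ι
      (RelProj.awayEmb u p' chart' U hU U' hU' hle hn f hf) hW := by
    rw [← cancel_mono (RelProj.domQ u p' chart').ι, Category.assoc, IsOpenImmersion.lift_fac, had]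
  have he' : e' = a ≫ Spec.map (CommRingCat.ofHom τ') ≫
      IsOpenImmersion.lift (RelProj.domQ uh pC' chartC').ι
        (RelProj.awayEmb uh pC' chartC' U hU U' hU' hle hn _ hιf) hWh := by
    rw [← cancel_mono (RelProj.domQ uh pC' chartC').ι, ← hde', ← Category.assoc d', ← had]
    simp only [Category.assoc, IsOpenImmersion.lift_fac]
    rw [hτ2']
  have hring : CommRingCat.ofHom (HomogeneousLocalization.Away.map (uh.gradedAt U hU U' hU' hle)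
      ((ι.hom.app (op U)).hom f)) ≫ CommRingCat.ofHom τ' =
      CommRingCat.ofHom τ ≫ CommRingCat.ofHom (HomogeneousLocalization.Away.map
        (u.gradedAt U hU U' hU' hle) f) := by
    refine CommRingCat.hom_ext (RingHom.ext fun t => ?_)
    obtain ⟨k, y, hy, rfl⟩ := t.mk_surjective _ hιf
    change τ' (HomogeneousLocalization.Away.map (uh.gradedAt U hU U' hU' hle) _ _) =
      HomogeneousLocalization.Away.map (u.gradedAt U hU U' hU' hle) f (τ _)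
    rw [HomogeneousLocalization.Away.map_mk, hτ', hτ, HomogeneousLocalization.Away.map_mk]
    exact mk_congr (𝒜 := 𝒮'.deg U' hU') _ k _ _
      (θ_comm q 𝒮 𝒮' u 𝒮h ι z hz 𝒮h' ι' z' uh huh huhz θ hθι hθz θ' hθι' hθz' U hU U' hle y) _ _
  rw [he', hd']
  simp only [Category.assoc]
  rw [hΦh U hU U' hU' hle n hn _ hιf hWh, ← Category.assoc _ Φ,
    hΦ U hU U' hU' hle n hn f hf hW]
  simp only [Category.assoc]
  rw [hτ2, ← Spec.map_comp_assoc, hring, Spec.map_comp_assoc]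

include hz huh huhz hθι hθz hθι' hθz' hΦh hΦ hjX hjX' in
theorem comm (T : Scheme.{u}) (d : T ⟶ ((RelProj.domQ u p' chart' : P'.Opens) : Scheme.{u}))
    (e : T ⟶ ((RelProj.domQ uh pC' chartC' : PC'.Opens) : Scheme.{u}))
    (hde : d ≫ (RelProj.domQ u p' chart').ι ≫ jX' = e ≫ (RelProj.domQ uh pC' chartC').ι) :
    e ≫ Φh = d ≫ Φ ≫ jX := by
  have hloc : ∀ t : T, ∃ W : T.Opens, t ∈ W ∧ W.ι ≫ e ≫ Φh = W.ι ≫ d ≫ Φ ≫ jX := by
    intro t
    have ht : (d ≫ (RelProj.domQ u p' chart').ι).base t ∈ RelProj.domQ u p' chart' := by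
      have h0 : (d ≫ (RelProj.domQ u p' chart').ι).base t ∈
          Set.range (RelProj.domQ u p' chart').ι.base := ⟨d.base t, rfl⟩
      rw [Scheme.Opens.range_ι] at h0
      exact h0
    obtain ⟨U, hU, U', hU', hle, n, hn, f, hf, hmem⟩ := exists_awayEmb u p' chart' _ ht
    have : IsOpenImmersion (RelProj.awayEmb u p' chart' U hU U' hU' hle hn f hf) := by
      unfold RelProj.awayEmb; infer_instance
    let W : T.Opens := (d ≫ (RelProj.domQ u p' chart').ι) ⁻¹ᵁ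
      (RelProj.awayEmb u p' chart' U hU U' hU' hle hn f hf).opensRange
    refine ⟨W, hmem, ?_⟩
    have hr : Set.range (W.ι ≫ d ≫ (RelProj.domQ u p' chart').ι).base ⊆
        Set.range (RelProj.awayEmb u p' chart' U hU U' hU' hle hn f hf).base := by
      rintro _ ⟨w, rfl⟩
      exact w.2
    have ha : IsOpenImmersion.lift (RelProj.awayEmb u p' chart' U hU U' hU' hle hn f hf)
        (W.ι ≫ d ≫ (RelProj.domQ u p' chart').ι) hr ≫
        RelProj.awayEmb u p' chart' U hU U' hU' hle hn f hf =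
        (W.ι ≫ d) ≫ (RelProj.domQ u p' chart').ι := by
      rw [IsOpenImmersion.lift_fac, Category.assoc]
    have := core q 𝒮 𝒮' u 𝒮h ι z hz 𝒮h' ι' z' uh huh huhz θ hθι hθz θ' hθι' hθz' pC chartC pC' chartC'
      Φh hΦh p chart p' chart' Φ hΦ hθ jX hjX hθ' jX' hjX' U hU U' hU' hle hn f hf
      (IsOpenImmersion.lift (RelProj.awayEmb u p' chart' U hU U' hU' hle hn f hf)
        (W.ι ≫ d ≫ (RelProj.domQ u p' chart').ι) hr) (W.ι ≫ d) (W.ι ≫ e) ha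
      (by rw [Category.assoc, hde, Category.assoc])
    simpa only [Category.assoc] using this
  choose W hW hWeq using hloc
  have hcov : IsOpenCover W := by
    apply IsOpenCover.mk
    rw [eq_top_iff]
    intro t _
    exact Opens.mem_iSup.mpr ⟨t, hW t⟩
  exact (T.openCoverOfIsOpenCover W hcov).hom_ext _ _ (fun t => hWeq t)

end main


end Groth.Agent.S12158aux

namespace Groth.Agent.S12158

/-- Let q : Y' → Y be a morphism, φ : 𝒮 → q_*𝒮' a graded q-morphism of quasi-coherent positively graded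
algebras with 𝒮_0 = O_Y, 𝒮'_0 = O_{Y'}, φ̂ : 𝒮[z] → q_*𝒮'[z] its extension with φ̂(z) = z, Ĉ =
Proj(𝒮[z]), Ĉ' = Proj(𝒮'[z]) the projective cones with pointed cones Ê, Ê', and Φ̂ = Proj(φ̂) :
G(φ̂) → Ĉ; let Proj(φ) : G(φ) → X = Proj(𝒮) be the morphism induced by φ on G(φ) ⊆ X' = Proj(𝒮'),
and j : X → Ĉ, j' : X' → Ĉ' the canonical closed immersions at infinity (Proj of the graded
retractions 𝒮[z] → 𝒮, 𝒮'[z] → 𝒮' killing z). Then j'(G(φ)) ⊆ G(φ̂) and the square formed by Proj(φ),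
j', j and Φ̂ commutes. -/
theorem result {Y Y' PC PC' : Scheme.{u}} (q : Y' ⟶ Y)
    (𝒮 : RelProj.QCGrAlg Y) (𝒮' : RelProj.QCGrAlg Y') (h0 : RelCone.StrZeroBij 𝒮) (h0' : RelCone.StrZeroBij 𝒮')
    (u : RelProj.QGrHom q 𝒮 𝒮')
    (𝒮h : RelProj.QCGrAlg Y) (ι : 𝒮.toQCAlg ⟶ 𝒮h.toQCAlg) (z : 𝒮h.presheaf.obj (op ⊤))
    (hz : RelCone.IsPolyOver 𝒮 𝒮h ι z)
    (pC : PC ⟶ Y) (chartC : ∀ (U : Y.Opens) (hU : IsAffineOpen U), (((pC ⁻¹ᵁ U : PC.Opens) : Scheme.{u}) ≅ Proj (𝒮h.deg U hU)))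
    (hC : RelProj.IsRelProj 𝒮h pC chartC)
    (𝒮h' : RelProj.QCGrAlg Y') (ι' : 𝒮'.toQCAlg ⟶ 𝒮h'.toQCAlg) (z' : 𝒮h'.presheaf.obj (op ⊤))
    (hz' : RelCone.IsPolyOver 𝒮' 𝒮h' ι' z')
    (pC' : PC' ⟶ Y') (chartC' : ∀ (U : Y'.Opens) (hU : IsAffineOpen U), (((pC' ⁻¹ᵁ U : PC'.Opens) : Scheme.{u}) ≅ Proj (𝒮h'.deg U hU)))
    (hC' : RelProj.IsRelProj 𝒮h' pC' chartC')
    (uh : RelProj.QGrHom q 𝒮h 𝒮h')
    (huh : ∀ U : Y.Opens, ι.hom.app (op U) ≫ uh.app U = u.app U ≫ ι'.hom.app (op (q ⁻¹ᵁ U)))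
    (huhz : (uh.app ⊤).hom z = RelCone.restrictTop 𝒮h' z' (q ⁻¹ᵁ ⊤))
    (Φh : ((RelProj.domQ uh pC' chartC' : PC'.Opens) : Scheme.{u}) ⟶ PC)
    (hΦh : RelProj.IsProjQMapOn uh pC chartC pC' chartC' (RelProj.domQ uh pC' chartC') Φh)
    {P P' : Scheme.{u}} (p : P ⟶ Y) (chart : ∀ (U : Y.Opens) (hU : IsAffineOpen U), (((p ⁻¹ᵁ U : P.Opens) : Scheme.{u}) ≅ Proj (𝒮.deg U hU)))
    (hP : RelProj.IsRelProj 𝒮 p chart)
    (p' : P' ⟶ Y') (chart' : ∀ (U : Y'.Opens) (hU : IsAffineOpen U), (((p' ⁻¹ᵁ U : P'.Opens) : Scheme.{u}) ≅ Proj (𝒮'.deg U hU)))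
    (hP' : RelProj.IsRelProj 𝒮' p' chart')
    (Φ : ((RelProj.domQ u p' chart' : P'.Opens) : Scheme.{u}) ⟶ P)
    (hΦ : RelProj.IsProjQMapOn u p chart p' chart' (RelProj.domQ u p' chart') Φ)
    (θ : 𝒮h.toQCAlg ⟶ 𝒮.toQCAlg) (hθ : RelProj.IsGradedHom θ) (hθι : ι ≫ θ = 𝟙 _)
    (hθz : (θ.hom.app (op ⊤)).hom z = 0)
    (jX : P ⟶ PC) (hjX : RelProj.IsProjQMap (RelProj.QGrHom.ofHom θ hθ) pC chartC p chart jX)
    (θ' : 𝒮h'.toQCAlg ⟶ 𝒮'.toQCAlg) (hθ' : RelProj.IsGradedHom θ') (hθι' : ι' ≫ θ' = 𝟙 _)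
    (hθz' : (θ'.hom.app (op ⊤)).hom z' = 0)
    (jX' : P' ⟶ PC') (hjX' : RelProj.IsProjQMap (RelProj.QGrHom.ofHom θ' hθ') pC' chartC' p' chart' jX')
    (T : Scheme.{u}) (d : T ⟶ ((RelProj.domQ u p' chart' : P'.Opens) : Scheme.{u}))
    (e : T ⟶ ((RelProj.domQ uh pC' chartC' : PC'.Opens) : Scheme.{u}))
    (hde : d ≫ (RelProj.domQ u p' chart').ι ≫ jX' = e ≫ (RelProj.domQ uh pC' chartC').ι) :
    jX'.base '' ((RelProj.domQ u p' chart' : P'.Opens) : Set P') ⊆ ((RelProj.domQ uh pC' chartC' : PC'.Opens) : Set PC') ∧ e ≫ Φh = d ≫ Φ ≫ jX := by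
  exact ⟨Groth.Agent.S12158aux.image_subset q 𝒮 𝒮' u 𝒮h ι z hz 𝒮h' ι' uh huh θ' hθι' pC' chartC' p' chart' hθ' jX' hjX',
    Groth.Agent.S12158aux.comm q 𝒮 𝒮' u 𝒮h ι z hz 𝒮h' ι' z' uh huh huhz θ hθι hθz θ' hθι' hθz' pC chartC pC' chartC'
      Φh hΦh p chart p' chart' Φ hΦ hθ jX hjX hθ' jX' hjX' T d e hde⟩

end Groth.Agent.S12158
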