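import Groth.Statements.S12163
import Mathlib
import Groth.Agent.Lib.helper27.ProjQMap

set_option autoImplicit false
universe u
open CategoryTheory CategoryTheory.Limits AlgebraicGeometry TopologicalSpace Opposite
open scoped HomogeneousIdeal
noncomputable section
open EGA2

namespace Groth.Agent.S12163aux
open CategoryTheory CategoryTheory.Limits AlgebraicGeometry Opposite TopologicalSpace
open scoped HomogeneousIdeal
open Groth.Agent.Lib.helper27.ProjQMap

theorem main {Y PB : Scheme.{u}} (𝒜 ℬ : RelProj.QCGrAlg Y)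
    (φ : 𝒜.toQCAlg ⟶ ℬ.toQCAlg) (hφ : RelProj.IsGradedHom φ)
    (pB : PB ⟶ Y) (chartB : ∀ (U : Y.Opens) (hU : IsAffineOpen U), (((pB ⁻¹ᵁ U : PB.Opens) : Scheme.{u}) ≅ Proj (ℬ.deg U hU)))
    (hcov : ∀ y : Y, ∃ (U : Y.Opens) (hU : IsAffineOpen U), y ∈ U ∧
      (ℬ.deg U hU)₊ ≤ ((𝒜.deg U hU)₊).map (RelProj.gradedHomAt φ hφ U hU)) :
    RelProj.domQ (RelProj.QGrHom.ofHom φ hφ) pB chartB = ⊤ := by
  rw [eq_top_iff]
  intro x _
  obtain ⟨U, hU, hxU, hle'⟩ := hcov (pB.base x)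
  have hx : x ∈ pB ⁻¹ᵁ U := hxU
  set x' := (chartB U hU).hom.base ⟨x, hx⟩ with hx'
  have hex : ∃ f ∈ (HomogeneousIdeal.irrelevant (𝒜.deg U hU)).toIdeal,
      psi φ hφ U hU f ∉ x'.asHomogeneousIdeal := by
    by_contra hcon
    push Not at hcon
    apply x'.not_irrelevant_le
    refine hle'.trans ?_
    change Ideal.map (RelProj.gradedHomAt φ hφ U hU) (HomogeneousIdeal.irrelevant (𝒜.deg U hU)).toIdeal
      ≤ x'.asHomogeneousIdeal.toIdeal
    rw [Ideal.map_le_iff_le_comap]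
    intro f hf
    have := hcon f hf
    rw [psi_apply] at this
    exact this
  rw [RelProj.domQ, Opens.mem_iSup]
  refine ⟨⟨(⟨U, hU⟩, ⟨U, hU⟩), hle U⟩, x', ?_, ?_⟩
  · rw [SetLike.mem_coe, RelCone.mem_domOpen]
    exact hex
  · change ((chartB U hU).hom ≫ RelProj.emb pB chartB U hU).base ⟨x, hx⟩ = x
    rw [RelProj.emb, Iso.hom_inv_id_assoc]
    rfl

end Groth.Agent.S12163aux

namespace Groth.Agent.S12163

/-- Let φ : 𝒜 → ℬ be a graded homomorphism of quasi-coherent positively graded O_Y-algebras and PB =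
Proj(ℬ) with its charts. If every point of Y has an affine neighbourhood U over which the irrelevant
ideal of ℬ(U) is contained in the ideal generated by φ(𝒜(U)_+), then the open of definition G(φ) of
Proj(φ) is all of PB. (The published condition asks 𝒮_+ to be generated by the image as a module
over the functions on U; generation as an ideal, used here, is implied by it.) -/
theorem result {Y PB : Scheme.{u}} (𝒜 ℬ : RelProj.QCGrAlg Y)
    (φ : 𝒜.toQCAlg ⟶ ℬ.toQCAlg) (hφ : RelProj.IsGradedHom φ)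
    (pB : PB ⟶ Y) (chartB : ∀ (U : Y.Opens) (hU : IsAffineOpen U), (((pB ⁻¹ᵁ U : PB.Opens) : Scheme.{u}) ≅ Proj (ℬ.deg U hU)))
    (hB : RelProj.IsRelProj ℬ pB chartB)
    (hcov : ∀ y : Y, ∃ (U : Y.Opens) (hU : IsAffineOpen U), y ∈ U ∧
      (ℬ.deg U hU)₊ ≤ ((𝒜.deg U hU)₊).map (RelProj.gradedHomAt φ hφ U hU)) :
    RelProj.domQ (RelProj.QGrHom.ofHom φ hφ) pB chartB = ⊤ := by
  exact Groth.Agent.S12163aux.main 𝒜 ℬ φ hφ pB chartB hcov

end Groth.Agent.S12163
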