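import Groth.Statements.S12166
import Mathlib
import Groth.Agent.Lib.helper27.ProjQMap

set_option autoImplicit false
universe u
open CategoryTheory CategoryTheory.Limits AlgebraicGeometry TopologicalSpace Opposite
open scoped HomogeneousIdeal
noncomputable section
open EGA2

namespace Groth.Agent.S12166aux
open CategoryTheory CategoryTheory.Limits AlgebraicGeometry Opposite TopologicalSpace
open scoped HomogeneousIdeal
open Groth.Agent.Lib.helper27.ProjQMap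

theorem main {Y PA PB : Scheme.{u}} (𝒜 ℬ : RelProj.QCGrAlg Y)
    (φ : 𝒜.toQCAlg ⟶ ℬ.toQCAlg) (hφ : RelProj.IsGradedHom φ)
    (hTN : ∃ n : ℕ, ∀ k, n ≤ k → ∀ (U : Y.Opens) (hU : IsAffineOpen U),
      (∀ x ∈ 𝒜.deg U hU k, (φ.hom.app (op U)).hom x = 0 → x = 0) ∧
        ∀ y ∈ ℬ.deg U hU k, ∃ x ∈ 𝒜.deg U hU k, (φ.hom.app (op U)).hom x = y)
    (pA : PA ⟶ Y) (chartA : ∀ (U : Y.Opens) (hU : IsAffineOpen U), (((pA ⁻¹ᵁ U : PA.Opens) : Scheme.{u}) ≅ Proj (𝒜.deg U hU)))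
    (hA : RelProj.IsRelProj 𝒜 pA chartA)
    (pB : PB ⟶ Y) (chartB : ∀ (U : Y.Opens) (hU : IsAffineOpen U), (((pB ⁻¹ᵁ U : PB.Opens) : Scheme.{u}) ≅ Proj (ℬ.deg U hU)))
    (hB : RelProj.IsRelProj ℬ pB chartB) :
    RelProj.domQ (RelProj.QGrHom.ofHom φ hφ) pB chartB = ⊤ ∧
      ∀ h : PB ⟶ PA, RelProj.IsProjQMap (RelProj.QGrHom.ofHom φ hφ) pA chartA pB chartB h →
        IsIso h := by
  obtain ⟨n, hn⟩ := hTN
  have hTN' : ∀ (U : Y.Opens) (hU : IsAffineOpen U), ∃ n : ℕ, ∀ k, n ≤ k →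
      ∀ y ∈ ℬ.deg U hU k, ∃ x ∈ 𝒜.deg U hU k, psi φ hφ U hU x = y := by
    intro U hU
    refine ⟨n, fun k hk y hy => ?_⟩
    obtain ⟨x, hx, hxy⟩ := (hn k hk U hU).2 y hy
    exact ⟨x, hx, (psi_apply φ hφ U hU x).trans hxy⟩
  refine ⟨domQ_eq_top hTN', fun h hh => ?_⟩
  rw [← MorphismProperty.isomorphisms.iff]
  refine projQMap_of_local (MorphismProperty.isomorphisms Scheme.{u}) hA hB hTN' h hh fun i => ?_
  rw [MorphismProperty.isomorphisms.iff]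
  have hsurj : Function.Surjective (HomogeneousLocalization.Away.map (psi φ hφ i.U i.hU) i.f) :=
    awayMap_surjective_of_TN (psi φ hφ i.U i.hU) n
      (fun k hk y hy => by
        obtain ⟨x, hx, hxy⟩ := (hn k hk i.U i.hU).2 y hy
        exact ⟨x, hx, (psi_apply φ hφ i.U i.hU x).trans hxy⟩) i.hd i.f i.hf
  have hinj : Function.Injective (HomogeneousLocalization.Away.map (psi φ hφ i.U i.hU) i.f) :=
    awayMap_injective_of_TN (psi φ hφ i.U i.hU) n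
      (fun k hk x hx hx0 => (hn k hk i.U i.hU).1 x hx ((psi_apply φ hφ i.U i.hU x).symm.trans hx0))
      i.hd i.f i.hf
  have : IsIso (CommRingCat.ofHom (HomogeneousLocalization.Away.map (psi φ hφ i.U i.hU) i.f)) :=
    (RingEquiv.ofBijective _ ⟨hinj, hsurj⟩).toCommRingCatIso.isIso_hom
  unfold gAB
  infer_instance

end Groth.Agent.S12166aux

namespace Groth.Agent.S12166

/-- Let φ : 𝒜 → ℬ be a graded homomorphism of quasi-coherent positively graded O_Y-algebras which is a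
(TN)-isomorphism (φ : 𝒜_k → ℬ_k bijective for all large k, on sections over affine opens), PA =
Proj(𝒜), PB = Proj(ℬ) with their charts. Then Proj(φ) is defined on all of PB and is an isomorphism
PB → PA. -/
theorem result {Y PA PB : Scheme.{u}} (𝒜 ℬ : RelProj.QCGrAlg Y)
    (φ : 𝒜.toQCAlg ⟶ ℬ.toQCAlg) (hφ : RelProj.IsGradedHom φ)
    (hTN : ∃ n : ℕ, ∀ k, n ≤ k → ∀ (U : Y.Opens) (hU : IsAffineOpen U),
      (∀ x ∈ 𝒜.deg U hU k, (φ.hom.app (op U)).hom x = 0 → x = 0) ∧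
        ∀ y ∈ ℬ.deg U hU k, ∃ x ∈ 𝒜.deg U hU k, (φ.hom.app (op U)).hom x = y)
    (pA : PA ⟶ Y) (chartA : ∀ (U : Y.Opens) (hU : IsAffineOpen U), (((pA ⁻¹ᵁ U : PA.Opens) : Scheme.{u}) ≅ Proj (𝒜.deg U hU)))
    (hA : RelProj.IsRelProj 𝒜 pA chartA)
    (pB : PB ⟶ Y) (chartB : ∀ (U : Y.Opens) (hU : IsAffineOpen U), (((pB ⁻¹ᵁ U : PB.Opens) : Scheme.{u}) ≅ Proj (ℬ.deg U hU)))
    (hB : RelProj.IsRelProj ℬ pB chartB) :
    RelProj.domQ (RelProj.QGrHom.ofHom φ hφ) pB chartB = ⊤ ∧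
      ∀ h : PB ⟶ PA, RelProj.IsProjQMap (RelProj.QGrHom.ofHom φ hφ) pA chartA pB chartB h → IsIso h := by
  exact Groth.Agent.S12166aux.main 𝒜 ℬ φ hφ hTN pA chartA hA pB chartB hB

end Groth.Agent.S12166
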