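import Groth.Statements.S12187
import Mathlib
import Groth.Agent.Lib.helper3.BL
-- import your own Groth.Agent.* helpers here

set_option autoImplicit false
universe u
open TensorProduct
open EtAlg

namespace Groth.Agent.S12187

theorem fwd_tensor (R : Type u) [CommRing R] (R' : Type u) [CommRing R'] [Algebra R R']
    (A B : Type u) [CommRing A] [Algebra R A] [CommRing B] [Algebra R B] (φ : A →ₐ[R] B)
    (h : φ.toRingHom.Finite) :
    (Algebra.TensorProduct.map (AlgHom.id R R') φ).toRingHom.Finite := by
  classical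
  unfold RingHom.Finite at h ⊢
  letI algAB : Algebra A B := φ.toRingHom.toAlgebra
  letI algT : Algebra (R' ⊗[R] A) (R' ⊗[R] B) :=
    (Algebra.TensorProduct.map (AlgHom.id R R') φ).toRingHom.toAlgebra
  obtain ⟨s, hs⟩ := h.fg_top
  refine ⟨⟨s.image (fun b => (1 : R') ⊗ₜ[R] b), ?_⟩⟩
  rw [eq_top_iff]
  intro w hw
  clear hw
  have hsm : ∀ (x : R' ⊗[R] A) (z : R' ⊗[R] B),
      x • z = (Algebra.TensorProduct.map (AlgHom.id R R') φ) x * z := fun x z => Algebra.smul_def x z
  induction w using TensorProduct.induction_on with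
  | zero => exact Submodule.zero_mem _
  | tmul r b =>
    have hb : b ∈ Submodule.span A (s : Set B) := by rw [hs]; trivial
    induction hb using Submodule.span_induction generalizing r with
    | mem y hy =>
      have : r ⊗ₜ[R] y = (r ⊗ₜ[R] (1 : A)) • ((1 : R') ⊗ₜ[R] y) := by
        rw [hsm, Algebra.TensorProduct.map_tmul, Algebra.TensorProduct.tmul_mul_tmul, mul_one,
          map_one, one_mul]
        rfl
      rw [this]
      refine Submodule.smul_mem _ _ (Submodule.subset_span ?_)
      exact Finset.mem_coe.mpr (Finset.mem_image_of_mem _ hy)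
    | zero => rw [tmul_zero]; exact Submodule.zero_mem _
    | add x y _ _ hx hy => rw [tmul_add]; exact Submodule.add_mem _ (hx r) (hy r)
    | smul a x _ hx =>
      have : r ⊗ₜ[R] (a • x) = ((1 : R') ⊗ₜ[R] a) • (r ⊗ₜ[R] x) := by
        rw [hsm, Algebra.TensorProduct.map_tmul, Algebra.TensorProduct.tmul_mul_tmul, map_one,
          one_mul]
        rfl
      rw [this]
      exact Submodule.smul_mem _ _ (hx r)
  | add x y hx hy => exact Submodule.add_mem _ hx hy

theorem away_span {A B : Type u} [CommRing A] [CommRing B] [Algebra A B] (r : A)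
    (h : (Localization.awayMap (algebraMap A B) r).Finite) :
    ∃ T : Finset B, ∀ N : Submodule A B, (↑T : Set B) ⊆ (N : Set B) →
      ∀ b : B, ∃ n : ℕ, r ^ n • b ∈ N := by
  classical
  unfold RingHom.Finite at h
  letI algL : Algebra (Localization.Away r) (Localization.Away (algebraMap A B r)) :=
    (Localization.awayMap (algebraMap A B) r).toAlgebra
  obtain ⟨s, hs⟩ := h.fg_top
  let g : B := algebraMap A B r
  let M := Submonoid.powers g
  let L := Localization.Away g
  have hsurj := fun y : L => IsLocalization.surj M y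
  refine ⟨s.image (fun y => (Classical.choose (hsurj y)).1), ?_⟩
  intro N hT b
  have hgN : ∀ (k : ℕ) (c : B), c ∈ N → c * g ^ k ∈ N := by
    intro k c hc
    have : c * g ^ k = r ^ k • c := by
      rw [Algebra.smul_def, map_pow, mul_comm]
    rw [this]
    exact N.smul_mem _ hc
  have hsm : ∀ (x : Localization.Away r) (y : L),
      x • y = Localization.awayMap (algebraMap A B) r x * y := fun x y => Algebra.smul_def x y
  have key : ∀ y : L, ∃ n : ℕ, ∃ c ∈ N, y * (algebraMap B L g) ^ n = algebraMap B L c := by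
    intro y
    have hy : y ∈ Submodule.span (Localization.Away r) (s : Set L) := by
      rw [hs]; trivial
    induction hy using Submodule.span_induction with
    | mem x hx =>
      obtain ⟨n, hn⟩ := (Classical.choose (hsurj x)).2.2
      refine ⟨n, (Classical.choose (hsurj x)).1, hT ?_, ?_⟩
      · exact Finset.mem_coe.mpr (Finset.mem_image_of_mem _ hx)
      · have := Classical.choose_spec (hsurj x)
        rw [← hn] at this
        rw [← map_pow]
        exact this
    | zero => exact ⟨0, 0, N.zero_mem, by simp⟩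
    | add x y _ _ hx hy =>
      obtain ⟨n₁, c₁, hc₁, h₁⟩ := hx
      obtain ⟨n₂, c₂, hc₂, h₂⟩ := hy
      refine ⟨n₁ + n₂, c₁ * g ^ n₂ + c₂ * g ^ n₁,
        N.add_mem (hgN _ _ hc₁) (hgN _ _ hc₂), ?_⟩
      rw [map_add, map_mul, map_mul, ← h₁, ← h₂, map_pow, map_pow]
      ring
    | smul x y _ hy =>
      obtain ⟨n₁, c₁, hc₁, h₁⟩ := hy
      obtain ⟨⟨a, ⟨_, n, rfl⟩⟩, ha⟩ := IsLocalization.surj (Submonoid.powers r) x
      refine ⟨n + n₁, a • c₁, N.smul_mem _ hc₁, ?_⟩
      have h2 := congrArg (Localization.awayMap (algebraMap A B) r) ha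
      rw [map_mul] at h2
      simp only [map_pow] at h2
      rw [Localization.awayMap, IsLocalization.Away.map, IsLocalization.map_eq,
        IsLocalization.map_eq] at h2
      rw [hsm, Algebra.smul_def a c₁, map_mul, ← h₁, ← h2]
      simp only [Localization.awayMap, IsLocalization.Away.map]
      ring
  obtain ⟨n, c, hc, hn⟩ := key (algebraMap B L b)
  rw [← map_pow, ← map_mul] at hn
  obtain ⟨⟨_, m, rfl⟩, hm⟩ := IsLocalization.exists_of_eq (M := M) hn
  refine ⟨m + n, ?_⟩
  have : r ^ (m + n) • b = r ^ m • c := by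
    rw [Algebra.smul_def, Algebra.smul_def, map_pow, map_pow]
    change g ^ (m + n) * b = g ^ m * c
    rw [← hm]; ring
  rw [this]
  exact N.smul_mem _ hc

theorem tensor_span (R : Type u) [CommRing R] (R' : Type u) [CommRing R'] [Algebra R R']
    (A B : Type u) [CommRing A] [Algebra R A] [CommRing B] [Algebra R B] (φ : A →ₐ[R] B)
    (h : (Algebra.TensorProduct.map (AlgHom.id R R') φ).toRingHom.Finite) :
    ∃ T : Finset B, ∀ P : Submodule R B, (∀ (a : A) (b : B), b ∈ P → φ a * b ∈ P) →
      (↑T : Set B) ⊆ (P : Set B) → Function.Surjective (P.subtype.lTensor R') := by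
  classical
  unfold RingHom.Finite at h
  letI algT : Algebra (R' ⊗[R] A) (R' ⊗[R] B) :=
    (Algebra.TensorProduct.map (AlgHom.id R R') φ).toRingHom.toAlgebra
  obtain ⟨s, hs⟩ := h.fg_top
  obtain ⟨N', hfin, hN'⟩ := TensorProduct.exists_finite_submodule_right_of_setFinite
    (R := R) (M := R') (N := B) (↑s : Set (R' ⊗[R] B)) s.finite_toSet
  obtain ⟨T, hT⟩ := (Module.Finite.iff_fg.mp hfin)
  refine ⟨T, ?_⟩
  intro P hP hTP
  have hNP : N' ≤ P := by
    rw [← hT, Submodule.span_le]
    exact hTP
  have hsm : ∀ (x : R' ⊗[R] A) (z : R' ⊗[R] B),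
      x • z = (Algebra.TensorProduct.map (AlgHom.id R R') φ) x * z := fun x z => Algebra.smul_def x z
  have hmul : ∀ (x : R' ⊗[R] A) (w : R' ⊗[R] P),
      (Algebra.TensorProduct.map (AlgHom.id R R') φ) x * P.subtype.lTensor R' w ∈
        LinearMap.range (P.subtype.lTensor R') := by
    intro x w
    induction x using TensorProduct.induction_on with
    | zero => rw [map_zero, zero_mul]; exact Submodule.zero_mem _
    | tmul r a =>
      induction w using TensorProduct.induction_on with
      | zero => rw [map_zero, mul_zero]; exact Submodule.zero_mem _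
      | tmul r' p =>
        refine ⟨(r * r') ⊗ₜ[R] ⟨φ a * p.1, hP a p.1 p.2⟩, ?_⟩
        rw [LinearMap.lTensor_tmul, LinearMap.lTensor_tmul, Algebra.TensorProduct.map_tmul,
          Algebra.TensorProduct.tmul_mul_tmul]
        rfl
      | add x y hx hy => rw [map_add, mul_add]; exact Submodule.add_mem _ hx hy
    | add x y hx hy => rw [map_add, add_mul]; exact Submodule.add_mem _ hx hy
  intro z
  have hz : z ∈ Submodule.span (R' ⊗[R] A) (s : Set (R' ⊗[R] B)) := by rw [hs]; trivial
  change z ∈ LinearMap.range (P.subtype.lTensor R')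
  induction hz using Submodule.span_induction with
  | mem x hx =>
    obtain ⟨v, hv⟩ := hN' hx
    refine ⟨(Submodule.inclusion hNP).lTensor R' v, ?_⟩
    rw [← hv, ← LinearMap.comp_apply, ← LinearMap.lTensor_comp]
    rfl
  | zero => exact Submodule.zero_mem _
  | add x y _ _ hx hy => exact Submodule.add_mem _ hx hy
  | smul x y _ hy =>
    obtain ⟨w, rfl⟩ := hy
    rw [hsm]
    exact hmul x w

/-- Glueing along a glueing pair detects finite morphisms of affine schemes, stated for coordinate
rings. Let (R → R', f) be a glueing pair and φ : A → B a homomorphism of R-algebras with A and B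
glueable as R-modules. Then φ is finite exactly when both induced maps A_f → B_f and R' ⊗_R A → R'
⊗_R B are finite. -/
theorem result (R : Type u) [CommRing R] (R' : Type u) [CommRing R'] [Algebra R R'] (f : R)
    (hRR' : EtGlue.IsGlueingPair R R' f) (A B : Type u) [CommRing A] [Algebra R A] [CommRing B] [Algebra R B]
    (hA : EtGlue.IsGlueable R R' f A) (hB : EtGlue.IsGlueable R R' f B) (φ : A →ₐ[R] B) :
    φ.toRingHom.Finite ↔ (Localization.awayMap φ.toRingHom (algebraMap R A f)).Finite ∧
      (Algebra.TensorProduct.map (AlgHom.id R R') φ).toRingHom.Finite := by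
  classical
  constructor
  · intro h
    exact ⟨RingHom.finite_localizationPreserves.away φ.toRingHom _ _ _ h, fwd_tensor R R' A B φ h⟩
  · rintro ⟨h1, h2⟩
    unfold RingHom.Finite
    letI algAB : Algebra A B := φ.toRingHom.toAlgebra
    have hst : IsScalarTower R A B := IsScalarTower.of_algebraMap_eq (fun r => (φ.commutes r).symm)
    obtain ⟨T₁, hT₁⟩ := away_span (A := A) (B := B) (algebraMap R A f) h1
    obtain ⟨T₂, hT₂⟩ := tensor_span R R' A B φ h2
    refine ⟨⟨T₁ ∪ T₂, ?_⟩⟩
    let N : Submodule A B := Submodule.span A (↑(T₁ ∪ T₂) : Set B)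
    have hT₁N : (↑T₁ : Set B) ⊆ (N : Set B) := fun x hx =>
      Submodule.subset_span (by rw [Finset.coe_union]; exact Or.inl hx)
    let P : Submodule R B := N.restrictScalars R
    have hT₂P : (↑T₂ : Set B) ⊆ (P : Set B) := fun x hx =>
      Submodule.subset_span (by rw [Finset.coe_union]; exact Or.inr hx)
    have hpow := hT₁ N hT₁N
    have hPmul : ∀ (a : A) (b : B), b ∈ P → φ a * b ∈ P := by
      intro a b hb
      have : φ a * b = a • b := (Algebra.smul_def a b).symm
      rw [this]
      exact N.smul_mem a hb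
    have hsurj := hT₂ P hPmul hT₂P
    have htors : ∀ c : B ⧸ P, ∃ n : ℕ, f ^ n • c = 0 := by
      intro c
      obtain ⟨b, rfl⟩ := Submodule.Quotient.mk_surjective P c
      obtain ⟨n, hn⟩ := hpow b
      refine ⟨n, ?_⟩
      rw [← Submodule.Quotient.mk_smul, Submodule.Quotient.mk_eq_zero]
      change f ^ n • b ∈ N
      rw [← map_pow, algebraMap_smul] at hn
      exact hn
    rw [eq_top_iff]
    intro b _
    have h0 : (1 : R') ⊗ₜ[R] (P.mkQ b) = 0 := by
      obtain ⟨w, hw⟩ := hsurj ((1 : R') ⊗ₜ[R] b)
      have := congrArg (P.mkQ.lTensor R') hw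
      rw [LinearMap.lTensor_tmul, ← LinearMap.comp_apply, ← LinearMap.lTensor_comp] at this
      rw [← this]
      have hz : P.mkQ ∘ₗ P.subtype = 0 := by
        ext a
        simp only [LinearMap.comp_apply, Submodule.mkQ_apply, LinearMap.zero_apply,
          Submodule.Quotient.mk_eq_zero]
        exact a.2
      rw [hz, LinearMap.lTensor_zero, LinearMap.zero_apply]
    have := Groth.Agent.Lib.helper3.BL.eq_zero_of_tmul_eq_zero f hRR'.1 (B ⧸ P) htors _ h0
    rw [Submodule.mkQ_apply, Submodule.Quotient.mk_eq_zero] at this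
    exact this

end Groth.Agent.S12187
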