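import Groth.Statements.S12195
import Groth.Agent.Lib.helper15.AlgSpFormalSm

set_option autoImplicit false
universe u
open CategoryTheory CategoryTheory.Limits AlgebraicGeometry
open AlgSp
open Groth.Agent.Lib.H15.AS

namespace Groth.Agent.S12195

/-- Let a : F ⟶ G be a representable, surjective and etale morphism of fppf sheaves on (Sch/S) and b : G
⟶ H a morphism such that a ≫ b is formally smooth. Consider a solid infinitesimal lifting square for
b: a square-zero thickening T = Spec (A/I) ⊂ T' = Spec A of affine schemes over S, a morphism T ⟶ G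
and a morphism T' ⟶ H making the square commute. Then for every point t of T' there exist an affine
scheme U', an etale morphism U' ⟶ T' whose image contains t, and a morphism U' ⟶ G lying over T' ⟶ H
whose restriction to T ×_{T'} U' agrees with the given T ⟶ G (stated for every scheme V mapping
compatibly to T and U'). (The published statement is for transformations of arbitrary presheaves of
sets on (Sch/S)_fppf; this row takes fppf sheaves, the case of algebraic spaces.) -/
theorem result {S : Scheme.{u}} {F G H : AlgSp.Sp S} (a : F ⟶ G)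
    (b : G ⟶ H) (ha : AlgSp.RepWith @Etale a) (ha' : AlgSp.RepWith @Surjective a)
    (hab : AlgSp.IsFormallySmoothMor (a ≫ b)) (sq : AlgSp.InfSq b) (t : ↥sq.ptT'.left) :
    ∃ (U' : Over S) (g : U' ⟶ sq.ptT') (l : (AlgSp.yon S).obj U' ⟶ G),
      IsAffine U'.left ∧ Etale g.left ∧ (∃ u : ↥U'.left, g.left u = t) ∧
        l ≫ b = (AlgSp.yon S).map g ≫ sq.bot ∧
          ∀ (V : Over S) (p : V ⟶ sq.ptT) (q : V ⟶ U'), p ≫ sq.j = q ≫ g →
            (AlgSp.yon S).map q ≫ l = (AlgSp.yon S).map p ≫ sq.top := by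
  have hrep : AlgSp.Representable a := ha.rep
  let P := hrep.pullback sq.top
  let p : P ⟶ sq.ptT := hrep.snd sq.top
  let q : (AlgSp.yon S).obj P ⟶ F := hrep.fst sq.top
  have hpq : q ≫ a = (AlgSp.yon S).map p ≫ sq.top := hrep.w sq.top
  haveI hpE : Etale p.left := ha.property_snd sq.top
  have hpS : Surjective p.left := ha'.property_snd sq.top
  obtain ⟨y0, hy0⟩ := spec_map_mk_surjective sq.I sq.sq_zero t
  obtain ⟨z, hz⟩ := hpS.surj y0
  let 𝒰 := P.left.affineOpenCover
  obtain ⟨z', hz'⟩ := 𝒰.covers z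
  have hfE : Etale (𝒰.f (𝒰.idx z) ≫ p.left) := inferInstance
  obtain ⟨W', e, lam, hW', heE, hlamb, hD, k, hk⟩ :=
    exists_local_lift_chart_smooth hab sq p q hpq (𝒰.X (𝒰.idx z)) (𝒰.f (𝒰.idx z)) hfE
  refine ⟨W', e, lam, hW', heE, ⟨k.left z', ?_⟩, hlamb, ?_⟩
  · have h1 : k.left ≫ e.left = 𝒰.f (𝒰.idx z) ≫ p.left ≫
        Spec.map (CommRingCat.ofHom (Ideal.Quotient.mk sq.I)) :=
      congrArg CommaMorphism.left hk
    have h2 := congrArg (fun m : Spec (𝒰.X (𝒰.idx z)) ⟶ Spec (.of sq.A) => m z') h1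
    simp only [Scheme.Hom.comp_apply] at h2
    rw [h2, hz', hz, hy0]
  · intro V p' q' hpq'
    let 𝒱 := V.left.affineOpenCover
    refine hom_ext_of_family (fun x => Over.mk (𝒱.f x ≫ V.hom))
      (fun x => (Over.homMk (𝒱.f x) rfl : Over.mk (𝒱.f x ≫ V.hom) ⟶ V))
      (fun x => by change Flat (𝒱.f x); infer_instance)
      (fun x => by change LocallyOfFinitePresentation (𝒱.f x); infer_instance)
      (fun v => ?_) _ _ fun x => ?_
    · obtain ⟨v', hv'⟩ := 𝒱.covers v
      exact ⟨𝒱.idx v, v', hv'⟩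
    · rw [← Functor.map_comp_assoc, ← Functor.map_comp_assoc]
      refine hD (𝒱.X x) (𝒱.f x ≫ V.hom) _ _ ?_
      rw [Category.assoc, Category.assoc, hpq']

end Groth.Agent.S12195
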