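import Groth.Statements.S12197
import Mathlib
import Groth.Agent.Lib.helper15.AlgSpGpd3
import Groth.Agent.Lib.helper15.AlgSpLocPGen2
import Groth.Agent.Lib.helper15.AlgSpEtale2
import Groth.Agent.Lib.helper15.AlgSpSeven
import Groth.Agent.Lib.helper15.AlgSpLocalSource2
import Groth.Agent.Lib.helper15.AlgSpLocP

set_option autoImplicit false
universe u
open CategoryTheory CategoryTheory.Limits AlgebraicGeometry
open AlgSp AlgSp.GroupoidSp

namespace Groth.Agent.S12197

open Groth.Agent.Lib.H15.AS Groth.Agent.Lib.H15.Gpd3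

theorem locP_openImm_comp {S : Scheme.{u}} {P₀ : MorphismProperty Scheme.{u}} (hP : GoodP P₀)
    {X' X Y : AlgSp.Sp S} (hX' : AlgSp.IsAlgSpace X') (hX : AlgSp.IsAlgSpace X)
    (hY : AlgSp.IsAlgSpace Y) {j : X' ⟶ X} {f : X ⟶ Y} (hj : AlgSp.RepWith @IsOpenImmersion j)
    (hf : AlgSp.LocP P₀ f) : AlgSp.LocP P₀ (j ≫ f) := by
  have := hP.mul
  have := hP.bc
  have hle : (@IsOpenImmersion : MorphismProperty Scheme.{u}) ≤ P₀ := fun A B g hg =>
    hP.etale_le g (by have : IsOpenImmersion g := hg; infer_instance)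
  have hj' : AlgSp.LocP P₀ j :=
    locP_of_repWith P₀ (fun A B C e p he hp => P₀.comp_mem e p (hP.etale_le e he) hp)
      (repWith_mono hle hj)
  exact locP_comp_gen hP hX' hX hY hj' hf

theorem isOpenMap_of_locP {S : Scheme.{u}} {P₀ : MorphismProperty Scheme.{u}}
    (h1 : P₀ ≤ @Flat) (h2 : P₀ ≤ @LocallyOfFinitePresentation)
    {X Y : AlgSp.Sp S} (hX : AlgSp.IsAlgSpace X) (hY : AlgSp.IsAlgSpace Y) {f : X ⟶ Y}
    (hf : AlgSp.LocP P₀ f) : IsOpenMap (AlgSp.Points.map f) :=
  isOpenMor_of_isUnivOpenMor hY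
    (isUnivOpenMor_of_flat_lfp hX hY (locP_mono h1 hf) (locP_mono h2 hf))


/-- Let B be an algebraic space over S and (U, R, s, t, c) a groupoid in algebraic spaces over B. Let τ
be one of the topologies fppf, etale, smooth and P a property of morphisms between algebraic spaces,
τ-local on the base, and assume that {s : R → U} and {t : R → U} are coverings for τ. Let W ⊂ U be
the largest open subspace such that s⁻¹(W) → W has P, characterised by: for an open subspace W' ⊂ U
the base change R ×_{s,U} W' → W' has P if and only if W' ⊂ W. Then W is an R-invariant open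
subspace of U. (The published statement also allows the syntomic topology, which is not available
here.) -/
theorem result {S : Scheme.{u}} {B : AlgSp.Sp S} (hB : AlgSp.IsAlgSpace B)
    (G : AlgSp.GroupoidSp B) (hU : AlgSp.IsAlgSpace G.U) (hR : AlgSp.IsAlgSpace G.R)
    (τ : AlgSp.CovNotion S) (hτ : τ = AlgSp.IsFppfCover ∨ τ = AlgSp.IsEtCover ∨ τ = AlgSp.IsSmCover)
    (P : MorphismProperty (AlgSp.Sp S)) (hP : AlgSp.IsLocalOnBase τ P)
    (hs : τ (fun _ : PUnit.{u + 1} => G.R) (fun _ => G.s)) (ht : τ (fun _ : PUnit.{u + 1} => G.R) (fun _ => G.t))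
    {W : AlgSp.Sp S} (hWsp : AlgSp.IsAlgSpace W) (w : W ⟶ G.U) [Mono w] (hw : AlgSp.RepWith @IsOpenImmersion w)
    (hmax : ∀ (W' : AlgSp.Sp S) (w' : W' ⟶ G.U), AlgSp.IsAlgSpace W' → AlgSp.RepWith @IsOpenImmersion w' →
      (P (pullback.snd G.s w') ↔ ∃ k : W' ⟶ W, k ≫ w = w')) :
    G.IsInvariant w := by
  have le1 : (@Etale : MorphismProperty Scheme.{u}) ≤ @Flat := fun A B g hg => by
    have : Etale g := hg
    exact (inferInstance : Flat g)
  have le2 : (@Etale : MorphismProperty Scheme.{u}) ≤ @LocallyOfFinitePresentation :=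
    fun A B g hg => by
      have : Etale g := hg
      exact (inferInstance : LocallyOfFinitePresentation g)
  have le3 : (@Smooth : MorphismProperty Scheme.{u}) ≤ @Flat := fun A B g hg => by
    have : Smooth g := hg
    exact (inferInstance : Flat g)
  have le4 : (@Smooth : MorphismProperty Scheme.{u}) ≤ @LocallyOfFinitePresentation :=
    fun A B g hg => by
      have : Smooth g := hg
      exact (inferInstance : LocallyOfFinitePresentation g)
  rcases hτ with rfl | rfl | rfl
  · exact isInvariant_of_largest_source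
      (Q := fun _ _ f => AlgSp.LocP @Flat f ∧ AlgSp.LocP @LocallyOfFinitePresentation f)
      (fun hX hY hY' _ _ _ _ sq hf => ⟨locP_of_isPullback_gen goodP_flat hX hY hY' sq hf.1,
        locP_of_isPullback_gen goodP_lfp hX hY hY' sq hf.2⟩)
      (fun hX' hX hY _ _ hj hf => ⟨locP_openImm_comp goodP_flat hX' hX hY hj hf.1,
        locP_openImm_comp goodP_lfp hX' hX hY hj hf.2⟩)
      (fun hX hY _ hf => isOpenMor_of_isUnivOpenMor hY (isUnivOpenMor_of_flat_lfp hX hY hf.1 hf.2))
      G hU hR P hP hs ht hWsp w hw hmax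
  · exact isInvariant_of_largest_source (Q := AlgSp.IsEtaleMor)
      (fun hX hY hY' _ _ _ _ sq hf => isEtaleMor_of_locP_etale hY'
        (locP_of_isPullback_gen goodP_etale hX hY hY' sq (locP_etale_of_isEtaleMor hf)))
      (fun hX' hX hY _ _ hj hf => isEtaleMor_of_locP_etale hY
        (locP_openImm_comp goodP_etale hX' hX hY hj (locP_etale_of_isEtaleMor hf)))
      (fun hX hY _ hf => isOpenMap_of_locP le1 le2 hX hY (locP_etale_of_isEtaleMor hf))
      G hU hR P hP hs ht hWsp w hw hmax
  · exact isInvariant_of_largest_source (Q := AlgSp.LocP @Smooth)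
      (fun hX hY hY' _ _ _ _ sq hf => locP_of_isPullback_gen goodP_smooth hX hY hY' sq hf)
      (fun hX' hX hY _ _ hj hf => locP_openImm_comp goodP_smooth hX' hX hY hj hf)
      (fun hX hY _ hf => isOpenMap_of_locP le3 le4 hX hY hf)
      G hU hR P hP hs ht hWsp w hw hmax

end Groth.Agent.S12197
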