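import Groth.Statements.S12198
import Mathlib
import Groth.Agent.S12197

set_option autoImplicit false
universe u
open CategoryTheory CategoryTheory.Limits AlgebraicGeometry
open AlgSp AlgSp.GroupoidSp

namespace Groth.Agent.S12198

open Groth.Agent.Lib.H15.AS Groth.Agent.Lib.H15.Gpd3 Groth.Agent.Lib.H15.Gpd

section Conj

variable {S : Scheme.{u}} {B : AlgSp.Sp S} (G : AlgSp.GroupoidSp B)

theorem diag_fst : G.diag ≫ pullback.fst G.pU G.pU = 𝟙 G.U := pullback.lift_fst _ _ _
theorem diag_snd : G.diag ≫ pullback.snd G.pU G.pU = 𝟙 G.U := pullback.lift_snd _ _ _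

theorem stabι_s : G.stabilizerι ≫ G.s = G.stabilizerToU := by
  have h := congrArg (fun k => k ≫ pullback.snd G.pU G.pU) (pullback.condition (f := G.j) (g := G.diag))
  simp only [Category.assoc, G.j_snd, diag_snd, Category.comp_id] at h
  exact h

theorem stabι_t : G.stabilizerι ≫ G.t = G.stabilizerToU := by
  have h := congrArg (fun k => k ≫ pullback.fst G.pU G.pU) (pullback.condition (f := G.j) (g := G.diag))
  simp only [Category.assoc, G.j_fst, diag_fst, Category.comp_id] at h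
  exact h

theorem stab_hom_ext {T : AlgSp.Sp S} (a b : T ⟶ G.stabilizer)
    (h : a ≫ G.stabilizerι = b ≫ G.stabilizerι) : a = b := by
  apply pullback.hom_ext
  · exact h
  · change a ≫ G.stabilizerToU = b ≫ G.stabilizerToU
    rw [← stabι_s, ← Category.assoc, h, Category.assoc]

noncomputable def stabLift {T : AlgSp.Sp S} (γ : T ⟶ G.R) (h : γ ≫ G.s = γ ≫ G.t) :
    T ⟶ G.stabilizer :=
  pullback.lift γ (γ ≫ G.s) (by
    apply pullback.hom_ext
    · rw [Category.assoc, G.j_fst, Category.assoc, diag_fst, Category.comp_id, h]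
    · rw [Category.assoc, G.j_snd, Category.assoc, diag_snd, Category.comp_id])

theorem stabLift_ι {T : AlgSp.Sp S} (γ : T ⟶ G.R) (h : γ ≫ G.s = γ ≫ G.t) :
    stabLift G γ h ≫ G.stabilizerι = γ := pullback.lift_fst _ _ _

theorem stabLift_toU {T : AlgSp.Sp S} (γ : T ⟶ G.R) (h : γ ≫ G.s = γ ≫ G.t) :
    stabLift G γ h ≫ G.stabilizerToU = γ ≫ G.s := pullback.lift_snd _ _ _

/-- `r ∘ g ∘ r⁻¹`. -/
noncomputable def conjR {T : AlgSp.Sp S} (g r : T ⟶ G.R) (h1 : r ≫ G.s = g ≫ G.t)
    (h2 : g ≫ G.s = r ≫ G.s) : T ⟶ G.R :=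
  cmp G (cmp G r g h1) (r ≫ G.i) (by rw [cmp_s, Category.assoc, G.i_t]; exact h2)

theorem conjR_s {T : AlgSp.Sp S} (g r : T ⟶ G.R) (h1 : r ≫ G.s = g ≫ G.t)
    (h2 : g ≫ G.s = r ≫ G.s) : conjR G g r h1 h2 ≫ G.s = r ≫ G.t := by
  unfold conjR
  rw [cmp_s, Category.assoc, G.i_s]

theorem conjR_t {T : AlgSp.Sp S} (g r : T ⟶ G.R) (h1 : r ≫ G.s = g ≫ G.t)
    (h2 : g ≫ G.s = r ≫ G.s) : conjR G g r h1 h2 ≫ G.t = r ≫ G.t := by
  unfold conjR
  rw [cmp_t, cmp_t]

theorem conjR_congr {T : AlgSp.Sp S} {g g' r r' : T ⟶ G.R} (hg : g = g') (hr : r = r')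
    (h1 : r ≫ G.s = g ≫ G.t) (h2 : g ≫ G.s = r ≫ G.s) :
    conjR G g r h1 h2 = conjR G g' r' (by rw [← hg, ← hr]; exact h1)
      (by rw [← hg, ← hr]; exact h2) := by
  subst hg hr; rfl

theorem precomp_conjR {T T' : AlgSp.Sp S} (m : T' ⟶ T) (g r : T ⟶ G.R)
    (h1 : r ≫ G.s = g ≫ G.t) (h2 : g ≫ G.s = r ≫ G.s) :
    m ≫ conjR G g r h1 h2 = conjR G (m ≫ g) (m ≫ r)
      (by rw [Category.assoc, Category.assoc, h1]) (by rw [Category.assoc, Category.assoc, h2]) := by
  unfold conjR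
  rw [precomp_cmp]
  refine cmp_congr G ?_ (Category.assoc _ _ _).symm _
  rw [precomp_cmp]

/-- `r⁻¹ ∘ g' ∘ r`. -/
noncomputable def conjInv {T : AlgSp.Sp S} (g' r : T ⟶ G.R) (h1 : g' ≫ G.t = r ≫ G.t)
    (h2 : g' ≫ G.s = r ≫ G.t) : T ⟶ G.R :=
  cmp G (cmp G (r ≫ G.i) g' (by rw [Category.assoc, G.i_s]; exact h1.symm)) r
    (by rw [cmp_s]; exact h2)

theorem conjInv_s {T : AlgSp.Sp S} (g' r : T ⟶ G.R) (h1 : g' ≫ G.t = r ≫ G.t)
    (h2 : g' ≫ G.s = r ≫ G.t) : conjInv G g' r h1 h2 ≫ G.s = r ≫ G.s := by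
  unfold conjInv
  rw [cmp_s]

theorem conjInv_t {T : AlgSp.Sp S} (g' r : T ⟶ G.R) (h1 : g' ≫ G.t = r ≫ G.t)
    (h2 : g' ≫ G.s = r ≫ G.t) : conjInv G g' r h1 h2 ≫ G.t = r ≫ G.s := by
  unfold conjInv
  rw [cmp_t, cmp_t, Category.assoc, G.i_t]

theorem conjInv_congr {T : AlgSp.Sp S} {g g' r r' : T ⟶ G.R} (hg : g = g') (hr : r = r')
    (h1 : g ≫ G.t = r ≫ G.t) (h2 : g ≫ G.s = r ≫ G.t) :
    conjInv G g r h1 h2 = conjInv G g' r' (by rw [← hg, ← hr]; exact h1)
      (by rw [← hg, ← hr]; exact h2) := by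
  subst hg hr; rfl

/-- `r (r⁻¹ g' r) r⁻¹ = g'`. -/
theorem conjR_conjInv {T : AlgSp.Sp S} (g' r : T ⟶ G.R) (h1 : g' ≫ G.t = r ≫ G.t)
    (h2 : g' ≫ G.s = r ≫ G.t) :
    conjR G (conjInv G g' r h1 h2) r (by rw [conjInv_t]) (by rw [conjInv_s]) = g' := by
  unfold conjR conjInv
  have hA : (r ≫ G.i) ≫ G.s = g' ≫ G.t := by rw [Category.assoc, G.i_s]; exact h1.symm
  have e1 : cmp G r (cmp G (cmp G (r ≫ G.i) g' hA) r (by rw [cmp_s]; exact h2))
      (by rw [cmp_t, cmp_t, Category.assoc, G.i_t]) = cmp G g' r h2 := by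
    refine (cmp_assoc G r (cmp G (r ≫ G.i) g' hA) r (by rw [cmp_t, Category.assoc, G.i_t])
      (by rw [cmp_s]; exact h2)).symm.trans ?_
    exact cmp_congr G (K3 G r g' h1.symm) rfl _
  refine (cmp_congr G e1 rfl _).trans ?_
  exact K2 G g' r h2

/-- `r⁻¹ (r g r⁻¹) r = g`. -/
theorem conjInv_conjR {T : AlgSp.Sp S} (g r : T ⟶ G.R) (h1 : r ≫ G.s = g ≫ G.t)
    (h2 : g ≫ G.s = r ≫ G.s) :
    conjInv G (conjR G g r h1 h2) r (conjR_t G g r h1 h2) (conjR_s G g r h1 h2) = g := by
  unfold conjInv conjR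
  have hB : (cmp G r g h1) ≫ G.s = (r ≫ G.i) ≫ G.t := by
    rw [cmp_s, Category.assoc, G.i_t]; exact h2
  have e1 : cmp G (r ≫ G.i) (cmp G (cmp G r g h1) (r ≫ G.i) hB)
      (by rw [cmp_t, cmp_t, Category.assoc, G.i_s]) = cmp G g (r ≫ G.i)
        (by rw [Category.assoc, G.i_t]; exact h2) := by
    refine (cmp_assoc G (r ≫ G.i) (cmp G r g h1) (r ≫ G.i)
      (by rw [cmp_t, Category.assoc, G.i_s]) hB).symm.trans ?_
    exact cmp_congr G (K4 G r g h1) rfl _
  refine (cmp_congr G e1 rfl _).trans ?_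
  exact K1 G g r h2

end Conj

section Square

variable {S : Scheme.{u}} {B : AlgSp.Sp S} (G : AlgSp.GroupoidSp B) {W W' : AlgSp.Sp S}
  (w : W ⟶ G.U) (w' : W' ⟶ G.U)

/-- The stabilizer arrow of a point of `G_W ×_W s⁻¹W`. -/
noncomputable def gX : pullback (pullback.snd G.stabilizerToU w) (pullback.snd G.s w) ⟶ G.R :=
  pullback.fst _ _ ≫ pullback.fst G.stabilizerToU w ≫ G.stabilizerι

/-- The arrow of a point of `G_W ×_W s⁻¹W`. -/
noncomputable def rX : pullback (pullback.snd G.stabilizerToU w) (pullback.snd G.s w) ⟶ G.R :=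
  pullback.snd _ _ ≫ pullback.fst G.s w

theorem gX_toU : gX G w ≫ G.s = rX G w ≫ G.s := by
  unfold gX rX
  simp only [Category.assoc]
  rw [stabι_s, pullback.condition (f := G.stabilizerToU) (g := w),
    pullback.condition (f := G.s) (g := w), pullback.condition_assoc]

theorem gX_s : gX G w ≫ G.s = rX G w ≫ G.s := gX_toU G w

theorem gX_t : gX G w ≫ G.t = rX G w ≫ G.s := by
  rw [← gX_s]
  unfold gX
  simp only [Category.assoc]
  rw [stabι_s, stabι_t]

variable (tW : pullback G.s w ⟶ W') (htW : tW ≫ w' = pullback.fst G.s w ≫ G.t)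

/-- `(g, r) ↦ (r g r⁻¹, t r)`. -/
noncomputable def q₂' :
    pullback (pullback.snd G.stabilizerToU w) (pullback.snd G.s w) ⟶ pullback G.stabilizerToU w' :=
  pullback.lift (stabLift G (conjR G (gX G w) (rX G w) (gX_t G w).symm (gX_s G w))
      (by rw [conjR_s, conjR_t]))
    (pullback.snd _ _ ≫ tW)
    (by
      rw [stabLift_toU, conjR_s, Category.assoc, htW]
      unfold rX
      rw [Category.assoc])

include htW in
theorem isPullback_q₂' :
    IsPullback (q₂' G w w' tW htW) (pullback.snd (pullback.snd G.stabilizerToU w) (pullback.snd G.s w))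
      (pullback.snd G.stabilizerToU w') tW := by
  have hq1 : q₂' G w w' tW htW ≫ pullback.fst G.stabilizerToU w' ≫ G.stabilizerι =
      conjR G (gX G w) (rX G w) (gX_t G w).symm (gX_s G w) := by
    unfold q₂'
    rw [pullback.lift_fst_assoc, stabLift_ι]
  have hq2 : q₂' G w w' tW htW ≫ pullback.snd G.stabilizerToU w' =
      pullback.snd (pullback.snd G.stabilizerToU w) (pullback.snd G.s w) ≫ tW :=
    pullback.lift_snd _ _ _
  -- data attached to a cone
  have hcone : ∀ (c : PullbackCone (pullback.snd G.stabilizerToU w') tW),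
      (c.fst ≫ pullback.fst G.stabilizerToU w' ≫ G.stabilizerι) ≫ G.t =
          (c.snd ≫ pullback.fst G.s w) ≫ G.t ∧
        (c.fst ≫ pullback.fst G.stabilizerToU w' ≫ G.stabilizerι) ≫ G.s =
          (c.snd ≫ pullback.fst G.s w) ≫ G.t := by
    intro c
    have h0 : c.fst ≫ pullback.fst G.stabilizerToU w' ≫ G.stabilizerToU =
        (c.snd ≫ pullback.fst G.s w) ≫ G.t := by
      rw [pullback.condition (f := G.stabilizerToU) (g := w'), ← Category.assoc, c.condition,
        Category.assoc, htW, Category.assoc]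
    constructor
    · simp only [Category.assoc] at h0 ⊢
      rw [stabι_t]; exact h0
    · simp only [Category.assoc] at h0 ⊢
      rw [stabι_s]; exact h0
  refine ⟨⟨hq2⟩, ⟨PullbackCone.IsLimit.mk _ ?lift ?fac1 ?fac2 ?uniq⟩⟩
  case lift =>
    intro c
    refine pullback.lift (pullback.lift (stabLift G (conjInv G _ _ (hcone c).1 (hcone c).2)
      (by rw [conjInv_s, conjInv_t])) (c.snd ≫ pullback.snd G.s w) ?_) c.snd
      (pullback.lift_snd _ _ _)
    rw [stabLift_toU, conjInv_s, Category.assoc, Category.assoc, pullback.condition]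
  case fac2 =>
    intro c
    exact pullback.lift_snd _ _ _
  case fac1 =>
    intro c
    apply pullback.hom_ext
    · apply stab_hom_ext
      rw [Category.assoc, Category.assoc, hq1, precomp_conjR]
      refine (conjR_congr G ?_ ?_ _ _).trans (conjR_conjInv G _ _ (hcone c).1 (hcone c).2)
      · unfold gX
        rw [pullback.lift_fst_assoc, pullback.lift_fst_assoc, stabLift_ι]
      · unfold rX
        rw [pullback.lift_snd_assoc]
    · rw [Category.assoc, hq2, pullback.lift_snd_assoc, c.condition]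
  case uniq =>
    intro c m hm1 hm2
    have hr : m ≫ rX G w = c.snd ≫ pullback.fst G.s w := by
      unfold rX
      rw [← Category.assoc, hm2]
    have hg : c.fst ≫ pullback.fst G.stabilizerToU w' ≫ G.stabilizerι =
        conjR G (m ≫ gX G w) (m ≫ rX G w)
          (by rw [Category.assoc, Category.assoc, gX_t])
          (by rw [Category.assoc, Category.assoc, gX_s]) := by
      rw [← hm1, Category.assoc, hq1, precomp_conjR]
    apply pullback.hom_ext
    · rw [pullback.lift_fst]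
      apply pullback.hom_ext
      · rw [pullback.lift_fst]
        apply stab_hom_ext
        rw [stabLift_ι]
        have e2 := conjInv_conjR G (m ≫ gX G w) (m ≫ rX G w)
          (by rw [Category.assoc, Category.assoc, gX_t])
          (by rw [Category.assoc, Category.assoc, gX_s])
        have e3 : (m ≫ pullback.fst (pullback.snd G.stabilizerToU w) (pullback.snd G.s w)) ≫
            pullback.fst G.stabilizerToU w ≫ G.stabilizerι = m ≫ gX G w := by
          unfold gX
          rw [Category.assoc]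
        rw [Category.assoc, e3]
        refine e2.symm.trans ?_
        exact conjInv_congr G hg.symm hr _ _
      · rw [pullback.lift_snd, Category.assoc, pullback.condition, ← Category.assoc, hm2]
    · rw [pullback.lift_snd, hm2]

end Square

section Main

variable {S : Scheme.{u}} {B : AlgSp.Sp S}

/-- Generic form: the largest open over which the stabilizer has `P` is invariant. -/
theorem isInvariant_of_largest_stab {Q : MorphismProperty (AlgSp.Sp S)}
    (hQbc : ∀ {X Y Y' X' : AlgSp.Sp S}, AlgSp.IsAlgSpace X → AlgSp.IsAlgSpace Y → AlgSp.IsAlgSpace Y' →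
      ∀ {f : X ⟶ Y} {g : Y' ⟶ Y} {fst : X' ⟶ X} {f' : X' ⟶ Y'}, IsPullback fst f' f g → Q f → Q f')
    (hQopen : ∀ {X' X Y : AlgSp.Sp S}, AlgSp.IsAlgSpace X' → AlgSp.IsAlgSpace X → AlgSp.IsAlgSpace Y →
      ∀ {j : X' ⟶ X} {f : X ⟶ Y}, AlgSp.RepWith @IsOpenImmersion j → Q f → Q (j ≫ f))
    (hQuo : ∀ {X Y : AlgSp.Sp S}, AlgSp.IsAlgSpace X → AlgSp.IsAlgSpace Y → ∀ {f : X ⟶ Y}, Q f →
      IsOpenMap (AlgSp.Points.map f))
    (hB : AlgSp.IsAlgSpace B)
    (G : AlgSp.GroupoidSp B) (hU : AlgSp.IsAlgSpace G.U) (hR : AlgSp.IsAlgSpace G.R)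
    (P : MorphismProperty (AlgSp.Sp S))
    (hP : AlgSp.IsLocalOnBase (fun _ _ Y g => AlgSp.IsCover Q Y g) P)
    (hs : AlgSp.IsCover Q (fun _ : PUnit.{u + 1} => G.R) (fun _ => G.s))
    (ht : AlgSp.IsCover Q (fun _ : PUnit.{u + 1} => G.R) (fun _ => G.t))
    {W : AlgSp.Sp S} (hWsp : AlgSp.IsAlgSpace W) (w : W ⟶ G.U) [Mono w]
    (hw : AlgSp.RepWith @IsOpenImmersion w)
    (hmax : ∀ (W' : AlgSp.Sp S) (w' : W' ⟶ G.U), AlgSp.IsAlgSpace W' →
      AlgSp.RepWith @IsOpenImmersion w' →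
      (P (pullback.snd G.stabilizerToU w') ↔ ∃ k : W' ⟶ W, k ≫ w = w')) :
    G.IsInvariant w := by
  have hUU : AlgSp.IsAlgSpace (pullback G.pU G.pU) :=
    isAlgSpace_of_isPullback hB.diag hU hU (IsPullback.of_hasPullback _ _)
  have hStab : AlgSp.IsAlgSpace G.stabilizer :=
    isAlgSpace_of_isPullback hUU.diag hR hU (IsPullback.of_hasPullback G.j G.diag)
  have hRW : AlgSp.IsAlgSpace (pullback G.s w) :=
    isAlgSpace_of_isPullback hU.diag hR hWsp (IsPullback.of_hasPullback G.s w)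
  have hGW : AlgSp.IsAlgSpace (pullback G.stabilizerToU w) :=
    isAlgSpace_of_isPullback hU.diag hStab hWsp (IsPullback.of_hasPullback _ _)
  have hjW : AlgSp.RepWith @IsOpenImmersion (pullback.fst G.s w) :=
    MorphismProperty.of_isPullback (IsPullback.of_hasPullback G.s w).flip hw
  have hPsW : P (pullback.snd G.stabilizerToU w) :=
    (hmax W w hWsp hw).2 ⟨𝟙 W, Category.id_comp w⟩
  have hQs : Q G.s := hs.1 PUnit.unit
  have hQt : Q G.t := ht.1 PUnit.unit
  have hQsW : Q (pullback.snd G.s w) := hQbc hR hU hWsp (IsPullback.of_hasPullback G.s w) hQs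
  have hQjt : Q (pullback.fst G.s w ≫ G.t) := hQopen hRW hR hU hjW hQt
  obtain ⟨Ω, hΩdef⟩ : ∃ Ω, Ω = Set.range (AlgSp.Points.map (pullback.fst G.s w ≫ G.t)) := ⟨_, rfl⟩
  have hΩ : IsOpen Ω := by rw [hΩdef]; exact (hQuo hRW hU hQjt).isOpen_range
  have hW' := isAlgSpace_openSub hU hΩ
  have hw' := repWith_isOpenImmersion_openSubι G.U hΩ
  obtain ⟨tW, htW⟩ := Groth.Agent.S10228.exists_factor_sub Ω (pullback.fst G.s w ≫ G.t)
    (by rw [hΩdef])
  have sqid : IsPullback (𝟙 (pullback G.s w)) tW (tW ≫ openSubι G.U Ω) (openSubι G.U Ω) :=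
    IsPullback.of_horiz_isIso_mono ⟨by rw [Category.id_comp]⟩
  have hQtW : Q tW := hQbc hRW hU hW' sqid (by rw [htW]; exact hQjt)
  have covS : AlgSp.IsCover Q (fun _ : PUnit.{u + 1} => pullback G.s w)
      (fun _ => pullback.snd G.s w) := by
    refine ⟨fun _ => hQsW, fun p => ⟨PUnit.unit, ?_⟩⟩
    obtain ⟨_, r, hr⟩ := hs.2 (AlgSp.Points.map w p)
    obtain ⟨z, -, hz⟩ := points_exists_of_isPullback (IsPullback.of_hasPullback G.s w) r p hr
    exact ⟨z, hz⟩
  have covT : AlgSp.IsCover Q (fun _ : PUnit.{u + 1} => pullback G.s w) (fun _ => tW) := by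
    refine ⟨fun _ => hQtW, fun p => ⟨PUnit.unit, ?_⟩⟩
    have h2 : AlgSp.Points.map (openSubι G.U Ω) p ∈
        Set.range (AlgSp.Points.map (openSubι G.U Ω)) := ⟨p, rfl⟩
    rw [range_map_openSubι] at h2
    have h3 : AlgSp.Points.map (openSubι G.U Ω) p ∈
        Set.range (AlgSp.Points.map (pullback.fst G.s w ≫ G.t)) := hΩdef ▸ h2
    obtain ⟨r, hr⟩ := h3
    refine ⟨r, ?_⟩
    apply injective_points_map_of_mono (openSubι G.U Ω)
    rw [← hr, ← htW, AlgSp.Points.map_comp]
  -- step A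
  have hX₁ : AlgSp.IsAlgSpace (pullback (pullback.snd G.stabilizerToU w) (pullback.snd G.s w)) :=
    isAlgSpace_of_isPullback hWsp.diag hGW hRW (IsPullback.of_hasPullback _ _)
  have hA : P (pullback.snd (pullback.snd G.stabilizerToU w) (pullback.snd G.s w)) :=
    (hP (fun _ : PUnit.{u + 1} => pullback G.s w) (fun _ => pullback.snd G.s w) hWsp (fun _ => hRW)
      covS (pullback.snd G.stabilizerToU w) hGW
      (fun _ => pullback (pullback.snd G.stabilizerToU w) (pullback.snd G.s w))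
      (fun _ => pullback.snd _ _) (fun _ => pullback.fst _ _) (fun _ => hX₁)
      (fun _ => IsPullback.of_hasPullback _ _)).1 hPsW PUnit.unit
  -- step B
  have hGW' : AlgSp.IsAlgSpace (pullback G.stabilizerToU (openSubι G.U Ω)) :=
    isAlgSpace_of_isPullback hU.diag hStab hW' (IsPullback.of_hasPullback _ _)
  have hB' : P (pullback.snd G.stabilizerToU (openSubι G.U Ω)) :=
    (hP (fun _ : PUnit.{u + 1} => pullback G.s w) (fun _ => tW) hW' (fun _ => hRW)
      covT (pullback.snd G.stabilizerToU _) hGW'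
      (fun _ => pullback (pullback.snd G.stabilizerToU w) (pullback.snd G.s w))
      (fun _ => pullback.snd _ _) (fun _ => q₂' G w _ tW htW) (fun _ => hX₁)
      (fun _ => isPullback_q₂' G w _ tW htW)).2 (fun _ => hA)
  obtain ⟨k, hk⟩ := (hmax _ _ hW' hw').1 hB'
  have key : ∀ ⦃T : Over S⦄ (r : (AlgSp.yon S).obj T ⟶ G.R),
      (∃ a : (AlgSp.yon S).obj T ⟶ W, a ≫ w = r ≫ G.s) →
      ∃ a : (AlgSp.yon S).obj T ⟶ W, a ≫ w = r ≫ G.t := by
    rintro T r ⟨a, ha⟩
    refine ⟨pullback.lift r a ha.symm ≫ tW ≫ k, ?_⟩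
    rw [Category.assoc, Category.assoc, hk, htW, pullback.lift_fst_assoc]
  intro T r
  constructor
  · rintro ⟨a, ha⟩
    obtain ⟨a', ha'⟩ := key (r ≫ G.i) ⟨a, by rw [Category.assoc, G.i_s]; exact ha⟩
    exact ⟨a', by rw [ha', Category.assoc, G.i_t]⟩
  · exact fun h => key r h

end Main


/-- Let B be an algebraic space over S, (U, R, s, t, c) a groupoid in algebraic spaces over B and G → U
its stabilizer group algebraic space. Let τ be one of the topologies fppf, etale, smooth and P a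
property of morphisms between algebraic spaces, τ-local on the base, and assume that {s : R → U} and
{t : R → U} are coverings for τ. Let W ⊂ U be the largest open subspace such that G_W → W has P,
characterised by: for an open subspace W' ⊂ U the base change G ×_U W' → W' has P if and only if W'
⊂ W. Then W is an R-invariant open subspace of U. (The published statement also allows the syntomic
topology, which is not available here.) -/
theorem result {S : Scheme.{u}} {B : AlgSp.Sp S} (hB : AlgSp.IsAlgSpace B)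
    (G : AlgSp.GroupoidSp B) (hU : AlgSp.IsAlgSpace G.U) (hR : AlgSp.IsAlgSpace G.R)
    (τ : AlgSp.CovNotion S) (hτ : τ = AlgSp.IsFppfCover ∨ τ = AlgSp.IsEtCover ∨ τ = AlgSp.IsSmCover)
    (P : MorphismProperty (AlgSp.Sp S)) (hP : AlgSp.IsLocalOnBase τ P)
    (hs : τ (fun _ : PUnit.{u + 1} => G.R) (fun _ => G.s)) (ht : τ (fun _ : PUnit.{u + 1} => G.R) (fun _ => G.t))
    {W : AlgSp.Sp S} (hWsp : AlgSp.IsAlgSpace W) (w : W ⟶ G.U) [Mono w] (hw : AlgSp.RepWith @IsOpenImmersion w)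
    (hmax : ∀ (W' : AlgSp.Sp S) (w' : W' ⟶ G.U), AlgSp.IsAlgSpace W' → AlgSp.RepWith @IsOpenImmersion w' →
      (P (pullback.snd G.stabilizerToU w') ↔ ∃ k : W' ⟶ W, k ≫ w = w')) :
    G.IsInvariant w := by
  have le1 : (@Etale : MorphismProperty Scheme.{u}) ≤ @Flat := fun A B g hg => by
    have : Etale g := hg
    exact (inferInstance : Flat g)
  have le2 : (@Etale : MorphismProperty Scheme.{u}) ≤ @LocallyOfFinitePresentation :=
    fun A B g hg => by
      have : Etale g := hg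
      exact (inferInstance : LocallyOfFinitePresentation g)
  have le3 : (@Smooth : MorphismProperty Scheme.{u}) ≤ @Flat := fun A B g hg => by
    have : Smooth g := hg
    exact (inferInstance : Flat g)
  have le4 : (@Smooth : MorphismProperty Scheme.{u}) ≤ @LocallyOfFinitePresentation :=
    fun A B g hg => by
      have : Smooth g := hg
      exact (inferInstance : LocallyOfFinitePresentation g)
  rcases hτ with rfl | rfl | rfl
  · exact isInvariant_of_largest_stab
      (Q := fun _ _ f => AlgSp.LocP @Flat f ∧ AlgSp.LocP @LocallyOfFinitePresentation f)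
      (fun hX hY hY' _ _ _ _ sq hf => ⟨locP_of_isPullback_gen goodP_flat hX hY hY' sq hf.1,
        locP_of_isPullback_gen goodP_lfp hX hY hY' sq hf.2⟩)
      (fun hX' hX hY _ _ hj hf => ⟨Groth.Agent.S12197.locP_openImm_comp goodP_flat hX' hX hY hj hf.1,
        Groth.Agent.S12197.locP_openImm_comp goodP_lfp hX' hX hY hj hf.2⟩)
      (fun hX hY _ hf => isOpenMor_of_isUnivOpenMor hY (isUnivOpenMor_of_flat_lfp hX hY hf.1 hf.2))
      hB G hU hR P hP hs ht hWsp w hw hmax
  · exact isInvariant_of_largest_stab (Q := AlgSp.IsEtaleMor)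
      (fun hX hY hY' _ _ _ _ sq hf => isEtaleMor_of_locP_etale hY'
        (locP_of_isPullback_gen goodP_etale hX hY hY' sq (locP_etale_of_isEtaleMor hf)))
      (fun hX' hX hY _ _ hj hf => isEtaleMor_of_locP_etale hY
        (Groth.Agent.S12197.locP_openImm_comp goodP_etale hX' hX hY hj (locP_etale_of_isEtaleMor hf)))
      (fun hX hY _ hf => Groth.Agent.S12197.isOpenMap_of_locP le1 le2 hX hY (locP_etale_of_isEtaleMor hf))
      hB G hU hR P hP hs ht hWsp w hw hmax
  · exact isInvariant_of_largest_stab (Q := AlgSp.LocP @Smooth)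
      (fun hX hY hY' _ _ _ _ sq hf => locP_of_isPullback_gen goodP_smooth hX hY hY' sq hf)
      (fun hX' hX hY _ _ hj hf => Groth.Agent.S12197.locP_openImm_comp goodP_smooth hX' hX hY hj hf)
      (fun hX hY _ hf => Groth.Agent.S12197.isOpenMap_of_locP le3 le4 hX hY hf)
      hB G hU hR P hP hs ht hWsp w hw hmax

end Groth.Agent.S12198
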