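import Groth.Statements.S12206
import Mathlib

set_option autoImplicit false
universe u
open CAlg

namespace Groth.Agent.S12206

/-- a finitely generated submodule of a coherent module is coherent -/
theorem coherent_submodule (R : Type u) [CommRing R] {M : Type u} [AddCommGroup M] [Module R M]
    (hM : ∀ P : Submodule R M, P.FG → Module.FinitePresentation R P) (Q : Submodule R M) (hQ : Q.FG) :
    Module.Finite R Q ∧ ∀ P : Submodule R Q, P.FG → Module.FinitePresentation R P := by
  refine ⟨Module.Finite.iff_fg.mpr hQ, ?_⟩
  intro P hP
  have hP' : (P.map Q.subtype).FG := hP.map _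
  haveI := hM _ hP'
  exact Module.FinitePresentation.of_equiv (Submodule.equivMapOfInjective Q.subtype
    (Submodule.injective_subtype Q) P).symm

/-- the quotient of a coherent module by a finitely generated submodule is coherent -/
theorem coherent_quotient (R : Type u) [CommRing R] {M : Type u} [AddCommGroup M] [Module R M]
    (hMf : Module.Finite R M)
    (hM : ∀ P : Submodule R M, P.FG → Module.FinitePresentation R P) (Q : Submodule R M) (hQ : Q.FG) :
    Module.Finite R (M ⧸ Q) ∧ ∀ P : Submodule R (M ⧸ Q), P.FG → Module.FinitePresentation R P := by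
  refine ⟨inferInstance, ?_⟩
  intro P hP
  -- the preimage of P in M
  set P' : Submodule R M := P.comap Q.mkQ with hP'
  have hmap : P'.map Q.mkQ = P := Submodule.map_comap_eq_of_surjective (Submodule.mkQ_surjective Q) P
  have hQP : Q ≤ P' := by
    intro x hx
    rw [hP', Submodule.mem_comap]
    have : Q.mkQ x = 0 := by simpa using hx
    rw [this]; exact zero_mem _
  have hfg : P'.FG := by
    apply Submodule.fg_of_fg_map_of_fg_inf_ker Q.mkQ
    · rw [hmap]; exact hP
    · rw [Submodule.ker_mkQ, inf_eq_right.mpr hQP]; exact hQ
  haveI := hM P' hfg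
  -- the restriction of mkQ to P' → P
  let l : P' →ₗ[R] P := Q.mkQ.restrict (fun x hx => hx)
  have hl : Function.Surjective l := by
    rintro ⟨y, hy⟩
    obtain ⟨x, rfl⟩ := Submodule.mkQ_surjective Q y
    exact ⟨⟨x, hy⟩, rfl⟩
  apply Module.finitePresentation_of_surjective l hl
  -- kernel is the image of Q
  have hker : LinearMap.ker l = (Q.comap P'.subtype) := by
    ext ⟨x, hx⟩
    rw [LinearMap.mem_ker, Submodule.mem_comap]
    change l ⟨x, hx⟩ = 0 ↔ x ∈ Q
    rw [← Submodule.Quotient.mk_eq_zero Q (x := x)]
    constructor
    · intro h; exact congrArg Subtype.val h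
    · intro h; exact Subtype.ext h
  rw [hker]
  have : Q.comap P'.subtype = (Submodule.comap P'.subtype Q) := rfl
  have e : (Submodule.comap P'.subtype Q).map P'.subtype = Q := by
    rw [Submodule.map_comap_subtype, inf_eq_right.mpr hQP]
  have hinj := Submodule.injective_subtype P'
  exact Submodule.fg_of_fg_map_injective P'.subtype hinj (by rw [e]; exact hQ)

/-- Let φ : N → M be a linear map from a finite R-module N to a coherent R-module M, where coherent
means finitely generated with every finitely generated submodule finitely presented. Then the kernel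
of φ is finitely generated, and the image of φ and the cokernel M/φ(N) are coherent. -/
theorem result (R : Type u) [CommRing R] {N M : Type u}
    [AddCommGroup N] [Module R N] [AddCommGroup M] [Module R M] [Module.Finite R N]
    (hM : Module.Finite R M ∧ ∀ P : Submodule R M, P.FG → Module.FinitePresentation R P)
    (φ : N →ₗ[R] M) :
    (LinearMap.ker φ).FG ∧
    (Module.Finite R (LinearMap.range φ) ∧
      ∀ P : Submodule R (LinearMap.range φ), P.FG → Module.FinitePresentation R P) ∧
    (Module.Finite R (M ⧸ LinearMap.range φ) ∧
      ∀ P : Submodule R (M ⧸ LinearMap.range φ), P.FG → Module.FinitePresentation R P) := by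
  obtain ⟨hMf, hMc⟩ := hM
  have hrange : (LinearMap.range φ).FG := by
    rw [LinearMap.range_eq_map]
    exact (Module.Finite.fg_top).map φ
  refine ⟨?_, coherent_submodule R hMc _ hrange, coherent_quotient R hMf hMc _ hrange⟩
  haveI := hMc _ hrange
  have := Module.FinitePresentation.fg_ker φ.rangeRestrict φ.surjective_rangeRestrict
  rwa [LinearMap.ker_rangeRestrict] at this

end Groth.Agent.S12206
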