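import Groth.Statements.S12210
import Groth.Agent.S2851
import Mathlib

set_option autoImplicit false
universe u
open CategoryTheory CategoryTheory.Limits AlgebraicGeometry
open Divisors

namespace Groth.Agent.S12210

set_option linter.style.haveILetI false
open Limits

theorem coheight_ne_zero (X : Scheme.{u}) [IsLocallyNoetherian X] (U : X.Opens) (ξ : X) (hξ : ξ ∉ U)
    (hcl : ξ ∈ closure (U : Set X)) : Order.coheight ξ ≠ 0 := by
  intro h0
  obtain ⟨R, f, hf, hsub⟩ := Scheme.exists_affine_mem_range_and_range_subset
    (show ξ ∈ (⊤ : X.Opens) from trivial)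
  obtain ⟨w, rfl⟩ := Set.mem_range.mp hsub.1
  rw [coheight_eq_of_isOpenImmersion] at h0
  haveI : IsLocallyNoetherian (Spec R) := isLocallyNoetherian_of_isOpenImmersion f
  haveI : IsNoetherian (Spec R) := {}
  haveI : TopologicalSpace.NoetherianSpace (Spec R) := inferInstance
  have hmax : IsMax w := Order.coheight_eq_zero.1 h0
  set Z := irreducibleComponent w with hZ
  have hZmem : Z ∈ irreducibleComponents (Spec R) := irreducibleComponent_mem_irreducibleComponents w
  have hZirr : IsIrreducible Z := isIrreducible_irreducibleComponent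
  have hZcl : IsClosed Z := isClosed_irreducibleComponent
  obtain ⟨η', hη'⟩ := QuasiSober.sober hZirr hZcl
  have hwZ : w ∈ Z := mem_irreducibleComponent
  have h1 : η' ⤳ w := hη'.specializes hwZ
  have h2 : w ⤳ η' := hmax h1
  -- the open complement of the other components
  have hfin : (irreducibleComponents (Spec R)).Finite :=
    TopologicalSpace.NoetherianSpace.finite_irreducibleComponents
  set o : Set (Spec R) := (⋃₀ (irreducibleComponents (Spec R) \ {Z}))ᶜ with ho
  have hoo : IsOpen o := by
    rw [ho, Set.sUnion_eq_biUnion, isOpen_compl_iff]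
    exact hfin.sdiff.isClosed_biUnion fun W hW ↦ isClosed_of_mem_irreducibleComponents W hW.1
  have hoZ : o ⊆ Z := by
    intro z hz
    by_contra hzZ
    apply hz
    refine ⟨irreducibleComponent z, ⟨irreducibleComponent_mem_irreducibleComponents z, ?_⟩,
      mem_irreducibleComponent⟩
    intro heq
    exact hzZ (heq ▸ mem_irreducibleComponent)
  have hwo : w ∈ o := by
    rintro ⟨Z', ⟨hZ'mem, hZ'ne⟩, hwZ'⟩
    apply hZ'ne
    have hZ'irr : IsIrreducible Z' := hZ'mem.1
    have hZ'cl : IsClosed Z' := isClosed_of_mem_irreducibleComponents Z' hZ'mem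
    obtain ⟨η'', hη''⟩ := QuasiSober.sober hZ'irr hZ'cl
    have h3 : η'' ⤳ w := hη''.specializes hwZ'
    have h4 : w ⤳ η'' := hmax h3
    -- Z' = closure {η''} = closure {w} = Z
    have e1 : Z' = closure {w} := by
      rw [← hη''.def]
      exact Set.Subset.antisymm (specializes_iff_closure_subset.1 h4)
        (specializes_iff_closure_subset.1 h3)
    have e2 : Z = closure {w} := by
      rw [← hη'.def]
      exact Set.Subset.antisymm (specializes_iff_closure_subset.1 h2)
        (specializes_iff_closure_subset.1 h1)
    rw [Set.mem_singleton_iff, e1, e2]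
  have hfo : IsOpen (f '' o) := f.isOpenEmbedding.isOpenMap o hoo
  obtain ⟨x, hxo, hxU⟩ := mem_closure_iff.1 hcl (f '' o) hfo ⟨w, hwo, rfl⟩
  obtain ⟨z, hzo, rfl⟩ := hxo
  have h3 : η' ⤳ z := hη'.specializes (hoZ hzo)
  have h4 : w ⤳ z := h2.trans h3
  have h5 : f w ⤳ f z := h4.map f.continuous
  exact hξ (h5.mem_open U.2 hxU)

theorem result' (X : Scheme.{u}) [IsLocallyNoetherian X]
    (U : X.Opens) [IsAffineHom U.ι] (ξ : X) (hξ : ξ ∉ U) (hgen : ∀ y : X, y ∉ U → y ⤳ ξ → y = ξ)
    (hcl : ξ ∈ closure (U : Set X)) :
    ringKrullDim (X.presheaf.stalk ξ) = 1 := by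
  have h1 := Groth.Agent.S2851.result X U ξ hξ hgen
  have h2 := coheight_ne_zero X U ξ hξ hcl
  rw [ringKrullDim_stalk_eq_coheight] at h1 ⊢
  have h3 : Order.coheight ξ ≤ 1 := by exact_mod_cast h1
  have h4 : Order.coheight ξ = 1 := by
    refine le_antisymm h3 ?_
    exact Order.one_le_iff_ne_zero.2 h2
  rw [h4]; rfl

/-- Let X be locally Noetherian and U an open subscheme whose inclusion is an affine morphism. If ξ is a
point outside U which is maximal under generization among points outside U (a generic point of an
irreducible component of the complement) and ξ lies in the closure of U, then the local ring of X at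
ξ has dimension exactly one. (The case X separated and U an affine open is the corresponding special
case, since then the inclusion of U is affine.) -/
theorem result (X : Scheme.{u}) [IsLocallyNoetherian X]
    (U : X.Opens) [IsAffineHom U.ι] (ξ : X) (hξ : ξ ∉ U) (hgen : ∀ y : X, y ∉ U → y ⤳ ξ → y = ξ)
    (hcl : ξ ∈ closure (U : Set X)) :
    ringKrullDim (X.presheaf.stalk ξ) = 1 := by
  exact result' X U ξ hξ hgen hcl

end Groth.Agent.S12210
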