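import Groth.Statements.S12211
import Mathlib

set_option autoImplicit false
universe u
open IntMult

namespace Groth.Agent.S12211

namespace Groth.Agent.S12211.aux

open IsLocalRing

theorem length_ne_top (A : Type u) [CommRing A] [IsNoetherianRing A] [IsLocalRing A]
    (J : Ideal A) (hJ : ∃ k : ℕ, maximalIdeal A ^ k ≤ J)
    (N : Type u) [AddCommGroup N] [Module A N] [Module.Finite A N] :
    Module.length A (N ⧸ (J • ⊤ : Submodule A N)) ≠ ⊤ := by
  by_cases hJt : J = ⊤
  · subst hJt
    have h1 : ((⊤ : Ideal A) • ⊤ : Submodule A N) = ⊤ := Submodule.top_smul _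
    haveI : Subsingleton (N ⧸ ((⊤ : Ideal A) • ⊤ : Submodule A N)) := by
      rw [h1]; infer_instance
    rw [Module.length_eq_zero]
    exact ENat.zero_ne_top
  · obtain ⟨k, hk⟩ := hJ
    have hJm : J ≤ maximalIdeal A := le_maximalIdeal hJt
    haveI : IsArtinianRing (A ⧸ J) := by
      apply IsLocalRing.quotient_artinian_of_mem_minimalPrimes_of_isLocalRing
      refine ⟨⟨inferInstance, hJm⟩, fun P ⟨hP, hJP⟩ _ => ?_⟩
      exact hP.le_of_pow_le (hk.trans hJP)
    haveI : Module.Finite (A ⧸ J) (N ⧸ (J • ⊤ : Submodule A N)) :=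
      Module.Finite.of_restrictScalars_finite A _ _
    haveI : IsArtinian (A ⧸ J) (N ⧸ (J • ⊤ : Submodule A N)) := inferInstance
    haveI : IsArtinian A (N ⧸ (J • ⊤ : Submodule A N)) :=
      isArtinian_of_surjective_algebraMap (R := A ⧸ J) Ideal.Quotient.mk_surjective
    rw [Module.length_ne_top_iff, isFiniteLength_iff_isNoetherian_isArtinian]
    exact ⟨inferInstance, inferInstance⟩

end Groth.Agent.S12211.aux

open Groth.Agent.S12211.aux in

/-- Suppose A is a local Noetherian ring and I ⊆ A is an ideal of definition. Given a short exact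
sequence 0 → M' → M → M'' → 0 of finite A-modules and a number d with dim Supp(M) ≤ d, we have
e_I(M, d) = e_I(M', d) + e_I(M'', d), where e_I(N, d) denotes the limit as t → ∞ of d! ·
length_A(N/I^t N)/t^d. Concretely: whenever these limits for M' and M'' exist and equal e' and e'',
the corresponding limit for M exists and equals e' + e''. -/
theorem result (A : Type u) [CommRing A] [IsNoetherianRing A] [IsLocalRing A]
    (I : Ideal A) (hI : I ≤ IsLocalRing.maximalIdeal A ∧ ∃ n : ℕ, IsLocalRing.maximalIdeal A ^ n ≤ I)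
    {M' M M'' : Type u} [AddCommGroup M'] [Module A M'] [AddCommGroup M] [Module A M]
    [AddCommGroup M''] [Module A M''] [Module.Finite A M'] [Module.Finite A M] [Module.Finite A M'']
    (f : M' →ₗ[A] M) (g : M →ₗ[A] M'') (hf : Function.Injective f) (hg : Function.Surjective g)
    (hfg : LinearMap.range f = LinearMap.ker g)
    (d : ℕ) (hd : Module.supportDim A M ≤ d) (e' e'' : ℝ)
    (h' : Filter.Tendsto (fun t : ℕ => (d.factorial : ℝ) * ((Module.length A (M' ⧸ (I ^ t • (⊤ : Submodule A M')))).toNat : ℝ) / (t : ℝ) ^ d) Filter.atTop (nhds e'))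
    (h'' : Filter.Tendsto (fun t : ℕ => (d.factorial : ℝ) * ((Module.length A (M'' ⧸ (I ^ t • (⊤ : Submodule A M'')))).toNat : ℝ) / (t : ℝ) ^ d) Filter.atTop (nhds e'')) :
    Filter.Tendsto (fun t : ℕ => (d.factorial : ℝ) * ((Module.length A (M ⧸ (I ^ t • (⊤ : Submodule A M)))).toNat : ℝ) / (t : ℝ) ^ d) Filter.atTop (nhds (e' + e'')) := by
  obtain ⟨hIm, n, hn⟩ := hI
  have hpow : ∀ t : ℕ, ∃ k : ℕ, IsLocalRing.maximalIdeal A ^ k ≤ I ^ t := fun t =>
    ⟨n * t, by rw [pow_mul]; exact Ideal.pow_right_mono hn t⟩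
  -- the comap filtration
  set K : ℕ → Submodule A M' := fun t => (I ^ t • (⊤ : Submodule A M)).comap f with hK
  set a : ℕ → ℕ := fun t => (Module.length A (M ⧸ (I ^ t • (⊤ : Submodule A M)))).toNat with ha
  set a' : ℕ → ℕ := fun t => (Module.length A (M' ⧸ (I ^ t • (⊤ : Submodule A M')))).toNat
    with ha'
  set a'' : ℕ → ℕ := fun t => (Module.length A (M'' ⧸ (I ^ t • (⊤ : Submodule A M'')))).toNat
    with ha''
  set b : ℕ → ℕ := fun t => (Module.length A (M' ⧸ K t)).toNat with hb
  have hle1 : ∀ t, I ^ t • (⊤ : Submodule A M') ≤ K t := fun t => by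
    rw [Submodule.smul_le]
    intro r hr x _
    rw [hK, Submodule.mem_comap, map_smul]
    exact Submodule.smul_mem_smul hr Submodule.mem_top
  -- Artin–Rees
  obtain ⟨c, hc⟩ := Ideal.exists_pow_inf_eq_pow_smul I (LinearMap.range f)
  have hle2 : ∀ t, c ≤ t → K t ≤ I ^ (t - c) • (⊤ : Submodule A M') := fun t ht x hx => by
    have h1 : f x ∈ I ^ t • (⊤ : Submodule A M) ⊓ LinearMap.range f := ⟨hx, x, rfl⟩
    rw [hc t ht] at h1
    have h2 : I ^ (t - c) • (I ^ c • (⊤ : Submodule A M) ⊓ LinearMap.range f) ≤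
        (I ^ (t - c) • (⊤ : Submodule A M')).map f := by
      rw [Submodule.map_smul'', Submodule.map_top]
      exact Submodule.smul_mono le_rfl inf_le_right
    obtain ⟨y, hy, hyx⟩ := h2 h1
    rw [← hf hyx]
    exact hy
  -- lengths
  have hb_le : ∀ t, Module.length A (M' ⧸ K t) ≤
      Module.length A (M' ⧸ (I ^ t • (⊤ : Submodule A M'))) := fun t =>
    Module.length_le_of_surjective (Submodule.mapQ _ _ LinearMap.id (hle1 t))
      (by
        intro y
        obtain ⟨x, rfl⟩ := Submodule.Quotient.mk_surjective _ y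
        exact ⟨Submodule.Quotient.mk x, rfl⟩)
  have hb_ge : ∀ t, c ≤ t → Module.length A (M' ⧸ (I ^ (t - c) • (⊤ : Submodule A M'))) ≤
      Module.length A (M' ⧸ K t) := fun t ht =>
    Module.length_le_of_surjective (Submodule.mapQ _ _ LinearMap.id (hle2 t ht))
      (by
        intro y
        obtain ⟨x, rfl⟩ := Submodule.Quotient.mk_surjective _ y
        exact ⟨Submodule.Quotient.mk x, rfl⟩)
  have hfin' : ∀ t, Module.length A (M' ⧸ (I ^ t • (⊤ : Submodule A M'))) ≠ ⊤ := fun t =>
    length_ne_top A (I ^ t) (hpow t) M'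
  have hfin'' : ∀ t, Module.length A (M'' ⧸ (I ^ t • (⊤ : Submodule A M''))) ≠ ⊤ := fun t =>
    length_ne_top A (I ^ t) (hpow t) M''
  have hfinb : ∀ t, Module.length A (M' ⧸ K t) ≠ ⊤ := fun t =>
    ne_top_of_le_ne_top (hfin' t) (hb_le t)
  -- the exact sequence
  have hadd : ∀ t, Module.length A (M ⧸ (I ^ t • (⊤ : Submodule A M))) =
      Module.length A (M' ⧸ K t) + Module.length A (M'' ⧸ (I ^ t • (⊤ : Submodule A M''))) := by
    intro t
    have hgle : I ^ t • (⊤ : Submodule A M) ≤ (I ^ t • (⊤ : Submodule A M'')).comap g := by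
      rw [Submodule.smul_le]
      intro r hr x _
      rw [Submodule.mem_comap, map_smul]
      exact Submodule.smul_mem_smul hr Submodule.mem_top
    refine Module.length_eq_add_of_exact
      (Submodule.mapQ (K t) (I ^ t • (⊤ : Submodule A M)) f le_rfl)
      (Submodule.mapQ (I ^ t • (⊤ : Submodule A M)) (I ^ t • (⊤ : Submodule A M'')) g hgle)
      ?_ ?_ ?_
    · rw [injective_iff_map_eq_zero]
      intro y hy
      obtain ⟨x, rfl⟩ := Submodule.Quotient.mk_surjective _ y
      rw [Submodule.mapQ_apply, Submodule.Quotient.mk_eq_zero] at hy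
      exact (Submodule.Quotient.mk_eq_zero _).mpr hy
    · intro y
      obtain ⟨x, rfl⟩ := Submodule.Quotient.mk_surjective _ y
      obtain ⟨z, rfl⟩ := hg x
      exact ⟨Submodule.Quotient.mk z, rfl⟩
    · intro y
      obtain ⟨x, rfl⟩ := Submodule.Quotient.mk_surjective _ y
      rw [Submodule.mapQ_apply, Submodule.Quotient.mk_eq_zero]
      constructor
      · intro hx
        have h1 : (I ^ t • (⊤ : Submodule A M'')) = (I ^ t • (⊤ : Submodule A M)).map g := by
          rw [Submodule.map_smul'', Submodule.map_top, LinearMap.range_eq_top.mpr hg]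
        rw [h1] at hx
        obtain ⟨y, hy, hyx⟩ := hx
        have h2 : x - y ∈ LinearMap.ker g := by
          rw [LinearMap.mem_ker, map_sub, hyx, sub_self]
        rw [← hfg] at h2
        obtain ⟨z, hz⟩ := h2
        refine ⟨Submodule.Quotient.mk z, ?_⟩
        rw [Submodule.mapQ_apply, hz, Submodule.Quotient.eq]
        rw [sub_sub_cancel_left]
        exact Submodule.neg_mem _ hy
      · rintro ⟨z, hz⟩
        obtain ⟨w, rfl⟩ := Submodule.Quotient.mk_surjective _ z
        rw [Submodule.mapQ_apply, Submodule.Quotient.eq] at hz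
        have h3 : g (f w - x) ∈ I ^ t • (⊤ : Submodule A M'') := hgle hz
        have h4 : g (f w) = 0 := by
          have : f w ∈ LinearMap.ker g := hfg ▸ ⟨w, rfl⟩
          exact this
        rw [map_sub, h4, zero_sub] at h3
        simpa using Submodule.neg_mem _ h3
  -- natural number versions
  have hnat_add : ∀ t, a t = b t + a'' t := fun t => by
    simp only [ha, hb, ha'']
    rw [hadd t, ENat.toNat_add (hfinb t) (hfin'' t)]
  have hnat_le : ∀ t, b t ≤ a' t := fun t =>
    ENat.toNat_le_toNat (hb_le t) (hfin' t)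
  have hnat_ge : ∀ t, c ≤ t → a' (t - c) ≤ b t := fun t ht =>
    ENat.toNat_le_toNat (hb_ge t ht) (hfinb t)
  -- real analysis
  have hD : (0 : ℝ) ≤ (d.factorial : ℝ) := by positivity
  have hlow : Filter.Tendsto (fun t : ℕ => (d.factorial : ℝ) * (a' (t - c) : ℝ) / (t : ℝ) ^ d)
      Filter.atTop (nhds e') := by
    have h1 : Filter.Tendsto (fun t : ℕ => (d.factorial : ℝ) * (a' (t - c) : ℝ) /
        ((t - c : ℕ) : ℝ) ^ d) Filter.atTop (nhds e') :=
      h'.comp (Filter.tendsto_sub_atTop_nat c)
    have h2 : Filter.Tendsto (fun t : ℕ => (((t - c : ℕ) : ℝ) / (t : ℝ)) ^ d) Filter.atTop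
        (nhds 1) := by
      have h3 : Filter.Tendsto (fun t : ℕ => (1 : ℝ) - (c : ℝ) / (t : ℝ)) Filter.atTop
          (nhds (1 - 0)) :=
        tendsto_const_nhds.sub (tendsto_const_div_atTop_nhds_zero_nat (c : ℝ))
      rw [sub_zero] at h3
      have h4 : Filter.Tendsto (fun t : ℕ => ((t - c : ℕ) : ℝ) / (t : ℝ)) Filter.atTop
          (nhds 1) := by
        refine h3.congr' ?_
        filter_upwards [Filter.eventually_ge_atTop (c + 1)] with t ht
        have ht0 : (t : ℝ) ≠ 0 := by
          have : 0 < t := by omega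
          positivity
        rw [Nat.cast_sub (by omega)]
        field_simp
      have := h4.pow d
      rwa [one_pow] at this
    have h5 := h1.mul h2
    rw [mul_one] at h5
    refine h5.congr' ?_
    filter_upwards [Filter.eventually_ge_atTop (c + 1)] with t ht
    have ht0 : (t : ℝ) ≠ 0 := by
      have : 0 < t := by omega
      positivity
    have htc : ((t - c : ℕ) : ℝ) ≠ 0 := by
      have : 0 < t - c := by omega
      positivity
    rw [div_pow]
    field_simp
  have hmid : Filter.Tendsto (fun t : ℕ => (d.factorial : ℝ) * (b t : ℝ) / (t : ℝ) ^ d)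
      Filter.atTop (nhds e') := by
    refine tendsto_of_tendsto_of_tendsto_of_le_of_le' hlow h' ?_ ?_
    · filter_upwards [Filter.eventually_ge_atTop c] with t ht
      have : (a' (t - c) : ℝ) ≤ (b t : ℝ) := by exact_mod_cast hnat_ge t ht
      gcongr
    · filter_upwards with t
      have : (b t : ℝ) ≤ (a' t : ℝ) := by exact_mod_cast hnat_le t
      gcongr
  have hsum := hmid.add h''
  refine hsum.congr (fun t => ?_)
  have : (a t : ℝ) = (b t : ℝ) + (a'' t : ℝ) := by exact_mod_cast hnat_add t
  simp only [ha] at this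
  rw [this]
  ring

end Groth.Agent.S12211
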