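import Groth.Statements.S12215
import Groth.Agent.Lib.helper9.CohB11

set_option autoImplicit false
universe u
open CategoryTheory CategoryTheory.Limits AlgebraicGeometry
open Divisors

namespace Groth.Agent.S12215

open Groth.Agent.Lib.helper9 in
lemma semi_weak {R S M N : Type*} [CommRing R] [CommRing S] [IsLocalRing R] [IsLocalRing S]
    [AddCommGroup M] [AddCommGroup N] [Module R M] [Module S N] (E : SemiEquiv R S M N)
    (h : ∃ x : M, Ideal.radical (LinearMap.ker (LinearMap.toSpanSingleton R M x)) =
      IsLocalRing.maximalIdeal R) :
    ∃ y : N, Ideal.radical (LinearMap.ker (LinearMap.toSpanSingleton S N y)) =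
      IsLocalRing.maximalIdeal S := by
  obtain ⟨x, hx⟩ := h
  refine ⟨E.e x, ?_⟩
  have hker : LinearMap.ker (LinearMap.toSpanSingleton S N (E.e x)) =
      Ideal.comap (E.σ.symm : S →+* R) (LinearMap.ker (LinearMap.toSpanSingleton R M x)) := by
    ext s
    rw [Ideal.mem_comap, LinearMap.mem_ker, LinearMap.mem_ker, LinearMap.toSpanSingleton_apply,
      LinearMap.toSpanSingleton_apply]
    have key : E.e ((E.σ.symm s) • x) = s • E.e x := by
      rw [E.map_smul, RingEquiv.apply_symm_apply]
    change _ ↔ (E.σ.symm s) • x = 0
    rw [← key]
    exact AddEquiv.map_eq_zero_iff E.e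
  rw [hker, ← Ideal.comap_radical, hx]
  exact comap_maximalIdeal_of_ringEquiv E.σ.symm

lemma alg_iff {R : Type u} [CommRing R] (p : Ideal R) [hp : p.IsPrime] (M : Type u)
    [AddCommGroup M] [Module R M] :
    p ∈ FlatCA.weakAss R M ↔ ∃ x : LocalizedModule p.primeCompl M,
      Ideal.radical (LinearMap.ker (LinearMap.toSpanSingleton (Localization.AtPrime p)
        (LocalizedModule p.primeCompl M) x)) =
        IsLocalRing.maximalIdeal (Localization.AtPrime p) := by
  have hmem : ∀ (m : M) (s : p.primeCompl) (a : R),
      algebraMap R (Localization.AtPrime p) a ∈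
        LinearMap.ker (LinearMap.toSpanSingleton (Localization.AtPrime p)
          (LocalizedModule p.primeCompl M) (LocalizedModule.mk m s)) ↔
        ∃ t : p.primeCompl, t • a • m = 0 := by
    intro m s a
    rw [LinearMap.mem_ker, LinearMap.toSpanSingleton_apply, algebraMap_smul,
      LocalizedModule.smul'_mk, Groth.Agent.Lib.helper9.Depth.mk_eq_zero_iff']
  constructor
  · rintro ⟨m, hmin⟩
    obtain ⟨⟨_, hIp⟩, hmin'⟩ := hmin
    refine ⟨LocalizedModule.mk m 1, ?_⟩
    apply le_antisymm
    · rw [(IsLocalRing.maximalIdeal.isMaximal _).isPrime.radical_le_iff]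
      apply IsLocalRing.le_maximalIdeal
      intro htop
      have h1 : (algebraMap R (Localization.AtPrime p) 1) ∈
          LinearMap.ker (LinearMap.toSpanSingleton (Localization.AtPrime p)
            (LocalizedModule p.primeCompl M) (LocalizedModule.mk m 1)) := by
        rw [htop]; trivial
      obtain ⟨t, ht⟩ := (hmem m 1 1).mp h1
      rw [one_smul] at ht
      exact t.2 (hIp ((Submodule.mem_annihilator_span_singleton m (t : R)).mpr ht))
    · rw [Ideal.radical_eq_sInf]
      refine le_sInf ?_
      rintro Q ⟨hJQ, hQ⟩
      have hq : (Q.comap (algebraMap R (Localization.AtPrime p))).IsPrime :=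
        Ideal.comap_isPrime _ _
      have hqp : Q.comap (algebraMap R (Localization.AtPrime p)) ≤ p := by
        intro a ha
        have h2 : algebraMap R (Localization.AtPrime p) a ∈
            IsLocalRing.maximalIdeal (Localization.AtPrime p) :=
          IsLocalRing.le_maximalIdeal hQ.ne_top ha
        exact (IsLocalization.AtPrime.to_map_mem_maximal_iff (Localization.AtPrime p) p a).mp h2
      have hIq : (Submodule.span R {m}).annihilator ≤
          Q.comap (algebraMap R (Localization.AtPrime p)) := by
        intro a ha
        rw [Submodule.mem_annihilator_span_singleton] at ha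
        rw [Ideal.mem_comap]
        apply hJQ
        rw [hmem]
        exact ⟨1, by rw [one_smul]; exact ha⟩
      have hpq := hmin' ⟨hq, hIq⟩ hqp
      calc IsLocalRing.maximalIdeal (Localization.AtPrime p)
          = p.map (algebraMap R (Localization.AtPrime p)) :=
            (Localization.AtPrime.map_eq_maximalIdeal).symm
        _ ≤ (Q.comap (algebraMap R (Localization.AtPrime p))).map
              (algebraMap R (Localization.AtPrime p)) := Ideal.map_mono hpq
        _ ≤ Q := Ideal.map_comap_le
  · rintro ⟨x, hx⟩
    revert hx
    refine LocalizedModule.induction_on (fun m s => ?_) x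
    intro hx
    refine ⟨m, ?_⟩
    have hIp : (Submodule.span R {m}).annihilator ≤ p := by
      intro a ha
      rw [Submodule.mem_annihilator_span_singleton] at ha
      have h1 : algebraMap R (Localization.AtPrime p) a ∈
          LinearMap.ker (LinearMap.toSpanSingleton (Localization.AtPrime p)
            (LocalizedModule p.primeCompl M) (LocalizedModule.mk m s)) := by
        rw [hmem]
        exact ⟨1, by rw [one_smul]; exact ha⟩
      have h2 : algebraMap R (Localization.AtPrime p) a ∈
          IsLocalRing.maximalIdeal (Localization.AtPrime p) := by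
        rw [← hx]
        exact Ideal.le_radical h1
      exact (IsLocalization.AtPrime.to_map_mem_maximal_iff (Localization.AtPrime p) p a).mp h2
    refine And.intro (And.intro hp hIp) ?_
    rintro q ⟨hq, hIq⟩ hqp
    have hdisj : Disjoint (p.primeCompl : Set R) (q : Set R) := by
      rw [Set.disjoint_left]
      intro a ha haq
      exact ha (hqp haq)
    have hQprime : (q.map (algebraMap R (Localization.AtPrime p))).IsPrime :=
      IsLocalization.isPrime_of_isPrime_disjoint p.primeCompl _ _ hq hdisj
    have hQcomap : (q.map (algebraMap R (Localization.AtPrime p))).comap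
        (algebraMap R (Localization.AtPrime p)) = q :=
      IsLocalization.under_map_of_isPrime_disjoint p.primeCompl _ hq hdisj
    have hJQ : LinearMap.ker (LinearMap.toSpanSingleton (Localization.AtPrime p)
        (LocalizedModule p.primeCompl M) (LocalizedModule.mk m s)) ≤
        q.map (algebraMap R (Localization.AtPrime p)) := by
      refine le_trans (le_of_eq (IsLocalization.map_under p.primeCompl
        (Localization.AtPrime p) _).symm) (Ideal.map_mono ?_)
      intro a ha
      rw [Ideal.mem_comap, hmem] at ha
      obtain ⟨t, ht⟩ := ha
      have h3 : (t : R) * a ∈ q := by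
        apply hIq
        rw [Submodule.mem_annihilator_span_singleton, mul_smul]
        exact ht
      rcases hq.mem_or_mem h3 with h4 | h4
      · exact absurd (hqp h4) t.2
      · exact h4
    have h5 : IsLocalRing.maximalIdeal (Localization.AtPrime p) ≤
        q.map (algebraMap R (Localization.AtPrime p)) := by
      rw [← hx]
      exact hQprime.radical_le_iff.mpr hJQ
    intro a ha
    rw [← hQcomap, Ideal.mem_comap]
    apply h5
    exact (IsLocalization.AtPrime.to_map_mem_maximal_iff (Localization.AtPrime p) p a).mpr ha

/-- Let M be a module over a ring A, M~ the associated quasi-coherent module on Spec A and p a prime of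
A. Then p is weakly associated to M — p is minimal among the prime ideals containing the annihilator
of some element of M — if and only if the point p of Spec A is weakly associated to M~, i.e. some
element of the stalk of M~ at p has annihilator whose radical is the maximal ideal of the local
ring. -/
theorem result (A : CommRingCat.{u}) (M : ModuleCat.{u} A) (p : Spec A) :
    p.asIdeal ∈ FlatCA.weakAss A M ↔ Curv2.IsWeakAssPoint (tilde M) p := by
  haveI hp : p.asIdeal.IsPrime := p.2
  rw [alg_iff p.asIdeal M]
  constructor
  · intro h
    exact semi_weak (Groth.Agent.Lib.helper9.CohB.semiEquivTilde M p) h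
  · intro h
    exact semi_weak (Groth.Agent.Lib.helper9.CohB.semiEquivTilde M p).symm h

end Groth.Agent.S12215
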