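import Groth.Statements.S12216
import Mathlib
import Groth.Agent.Lib.helper17.CSABaseChange
import Groth.Agent.S11683

set_option autoImplicit false
universe u v w
open scoped TensorProduct
open Curves

namespace Groth.Agent.S12216

/-- (1) ⇔ (3): a K-algebra A is finite central simple over the field K (finite-dimensional, with centre
K and no non-trivial two-sided ideals) if and only if, for an algebraic closure K̄ of K, the
K̄-algebra K̄ ⊗_K A is isomorphic to a matrix algebra Mat(d × d, K̄) for some d ≥ 1. -/
theorem result (K : Type u) [Field K] (A : Type v) [Ring A] [Algebra K A] :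
    (Algebra.IsCentral K A ∧ IsSimpleRing A ∧ FiniteDimensional K A) ↔
      Curves.Splits K A (AlgebraicClosure K) := by
  classical
  set L := AlgebraicClosure K with hL
  constructor
  · rintro ⟨hc, hs, hfd⟩
    have h1 : Algebra.IsCentral L (L ⊗[K] A) :=
      Groth.Agent.Lib.helper17.CSA.isCentral_baseChange K A L
    have h2 : IsSimpleRing (L ⊗[K] A) := Groth.Agent.Lib.helper17.CSA.isSimpleRing_tensor K A L
    have h3 : FiniteDimensional L (L ⊗[K] A) := inferInstance
    obtain ⟨n, ⟨e⟩⟩ := Groth.Agent.S11683.result L (L ⊗[K] A)
    refine ⟨n, ?_, ⟨e⟩⟩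
    rintro rfl
    have : Nontrivial (L ⊗[K] A) := inferInstance
    have hsub : Subsingleton (Matrix (Fin 0) (Fin 0) L) := inferInstance
    exact not_subsingleton (L ⊗[K] A) e.toEquiv.subsingleton
  · rintro ⟨n, hn, ⟨e⟩⟩
    have : NeZero n := ⟨hn⟩
    have hsimpleLA : IsSimpleRing (L ⊗[K] A) := IsSimpleRing.of_ringEquiv e.symm.toRingEquiv inferInstance
    have hcentLA : Algebra.IsCentral L (L ⊗[K] A) := ⟨by
      intro z hz
      have h1 : e z ∈ Subalgebra.center L (Matrix (Fin n) (Fin n) L) := by
        rw [Subalgebra.mem_center_iff] at hz ⊢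
        intro b
        obtain ⟨b', rfl⟩ := e.surjective b
        rw [← map_mul, ← map_mul, hz]
      have h2 := Algebra.IsCentral.out h1
      rw [Algebra.mem_bot] at h2 ⊢
      obtain ⟨c, hc⟩ := h2
      refine ⟨c, ?_⟩
      apply e.injective
      rw [← hc, AlgEquiv.commutes]⟩
    have hfinLA : Module.Finite L (L ⊗[K] A) := Module.Finite.equiv e.symm.toLinearEquiv
    have hfd : FiniteDimensional K A := Module.Finite.of_finite_tensorProduct_of_faithfullyFlat L
    have hnontriv : Nontrivial (L ⊗[K] A) := inferInstance
    refine ⟨?_, ?_, hfd⟩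
    · -- central
      constructor
      intro z hz
      by_contra hzbot
      have hz1 : (1 : L) ⊗ₜ[K] z ∈ Subalgebra.center L (L ⊗[K] A) := by
        rw [Subalgebra.mem_center_iff] at hz ⊢
        intro y
        induction y using TensorProduct.induction_on with
        | zero => simp
        | tmul l a =>
          rw [Algebra.TensorProduct.tmul_mul_tmul, Algebra.TensorProduct.tmul_mul_tmul, hz a, mul_comm]
        | add y₁ y₂ h₁ h₂ => rw [add_mul, mul_add, h₁, h₂]
      have h2 := hcentLA.out hz1
      rw [Algebra.mem_bot] at h2
      obtain ⟨c, hc⟩ := h2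
      -- a functional separating z from K·1
      have hznot : z ∉ (Submodule.span K {(1 : A)}) := by
        intro hmem
        apply hzbot
        rw [Submodule.mem_span_singleton] at hmem
        obtain ⟨a, rfl⟩ := hmem
        rw [Algebra.mem_bot]
        exact ⟨a, by rw [Algebra.algebraMap_eq_smul_one]⟩
      obtain ⟨φ, hφz, hφ1⟩ := Submodule.exists_dual_map_eq_bot_of_notMem hznot inferInstance
      have hφone : φ 1 = 0 := by
        have : φ 1 ∈ (Submodule.span K {(1 : A)}).map φ :=
          Submodule.mem_map_of_mem (Submodule.mem_span_singleton_self 1)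
        rw [hφ1] at this
        exact this
      have h3 := congrArg (LinearMap.lTensor L φ) hc
      rw [Algebra.TensorProduct.algebraMap_apply, LinearMap.lTensor_tmul, LinearMap.lTensor_tmul, hφone,
        TensorProduct.tmul_zero] at h3
      exact hφz ((Module.FaithfullyFlat.one_tmul_eq_zero_iff K K (A := L) (φ z)).1 h3.symm)
    · -- simple
      rw [isSimpleRing_iff_isTwoSided_imp]
      have hA : Nontrivial A := by
        by_contra hnt
        rw [not_nontrivial_iff_subsingleton] at hnt
        have : Subsingleton (L ⊗[K] A) := by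
          constructor
          intro x y
          have hx : ∀ w : L ⊗[K] A, w = 0 := by
            intro w
            induction w using TensorProduct.induction_on with
            | zero => rfl
            | tmul l a => rw [Subsingleton.elim a 0, TensorProduct.tmul_zero]
            | add x y hx hy => rw [hx, hy, add_zero]
          rw [hx x, hx y]
        exact not_subsingleton (L ⊗[K] A) this
      refine ⟨hA, ?_⟩
      intro I hI
      by_cases hbot : I = ⊥
      · exact Or.inl hbot
      right
      obtain ⟨x, hxI, hx0⟩ : ∃ x ∈ I, x ≠ 0 := by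
        by_contra hcon
        push Not at hcon
        exact hbot ((Submodule.eq_bot_iff I).2 hcon)
      set I' : Submodule K A := I.restrictScalars K with hI'
      set ι := LinearMap.lTensor L I'.subtype with hι
      -- the two-sided ideal of L ⊗ A
      have hleft : ∀ (t y : L ⊗[K] A), y ∈ LinearMap.range ι → t * y ∈ LinearMap.range ι := by
        intro t y hy
        obtain ⟨w, rfl⟩ := hy
        induction t using TensorProduct.induction_on with
        | zero => rw [zero_mul]; exact Submodule.zero_mem _
        | tmul l a =>
          induction w using TensorProduct.induction_on with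
          | zero => rw [map_zero, mul_zero]; exact Submodule.zero_mem _
          | tmul l' i =>
            refine ⟨(l * l') ⊗ₜ[K] ⟨a * i.1, I.mul_mem_left a i.2⟩, ?_⟩
            rw [hι, LinearMap.lTensor_tmul, LinearMap.lTensor_tmul, Algebra.TensorProduct.tmul_mul_tmul]
            rfl
          | add w₁ w₂ h₁ h₂ => rw [map_add, mul_add]; exact Submodule.add_mem _ h₁ h₂
        | add t₁ t₂ h₁ h₂ => rw [add_mul]; exact Submodule.add_mem _ h₁ h₂
      have hright : ∀ (t y : L ⊗[K] A), y ∈ LinearMap.range ι → y * t ∈ LinearMap.range ι := by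
        intro t y hy
        obtain ⟨w, rfl⟩ := hy
        induction t using TensorProduct.induction_on with
        | zero => rw [mul_zero]; exact Submodule.zero_mem _
        | tmul l a =>
          induction w using TensorProduct.induction_on with
          | zero => rw [map_zero, zero_mul]; exact Submodule.zero_mem _
          | tmul l' i =>
            refine ⟨(l' * l) ⊗ₜ[K] ⟨i.1 * a, hI.mul_mem_of_left a i.2⟩, ?_⟩
            rw [hι, LinearMap.lTensor_tmul, LinearMap.lTensor_tmul, Algebra.TensorProduct.tmul_mul_tmul]
            rfl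
          | add w₁ w₂ h₁ h₂ => rw [map_add, add_mul]; exact Submodule.add_mem _ h₁ h₂
        | add t₁ t₂ h₁ h₂ => rw [mul_add]; exact Submodule.add_mem _ h₁ h₂
      let J : Ideal (L ⊗[K] A) :=
        { carrier := LinearMap.range ι
          add_mem' := fun ha hb => Submodule.add_mem _ ha hb
          zero_mem' := Submodule.zero_mem _
          smul_mem' := fun t y hy => hleft t y hy }
      have hJts : J.IsTwoSided := ⟨fun {a} b ha => hright b a ha⟩
      have hJmem : ∀ y, y ∈ J ↔ y ∈ LinearMap.range ι := fun y => Iff.rfl
      rcases (isSimpleRing_iff_isTwoSided_imp.1 hsimpleLA).2 J hJts with hJ | hJ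
      · exfalso
        have h1 : (1 : L) ⊗ₜ[K] x ∈ J := ⟨(1 : L) ⊗ₜ[K] ⟨x, hxI⟩, rfl⟩
        rw [hJ, Ideal.mem_bot] at h1
        exact hx0 ((Module.FaithfullyFlat.one_tmul_eq_zero_iff K A (A := L) x).1 h1)
      · have h1 : (1 : L ⊗[K] A) ∈ J := by rw [hJ]; trivial
        obtain ⟨w, hw⟩ := (hJmem _).1 h1
        have h2 : LinearMap.lTensor L I'.mkQ (ι w) = 0 := by
          rw [hι, ← LinearMap.comp_apply, ← LinearMap.lTensor_comp]
          have : I'.mkQ ∘ₗ I'.subtype = 0 := by
            ext i
            simp
          rw [this, LinearMap.lTensor_zero, LinearMap.zero_apply]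
        rw [hw, Algebra.TensorProduct.one_def, LinearMap.lTensor_tmul] at h2
        have h3 := (Module.FaithfullyFlat.one_tmul_eq_zero_iff K (A ⧸ I') (A := L) (I'.mkQ 1)).1 h2
        rw [Submodule.mkQ_apply, Submodule.Quotient.mk_eq_zero] at h3
        exact (Ideal.eq_top_iff_one I).2 h3

end Groth.Agent.S12216
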