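import Groth.Statements.S12226
import Groth.Agent.Lib.helper9.CohB6
-- import your own Groth.Agent.* helpers here

set_option autoImplicit false
universe u
open CategoryTheory CategoryTheory.Limits AlgebraicGeometry TopologicalSpace
open LocCoh

namespace Groth.Agent.S12226

section Aux
open CategoryTheory

variable {C D : Type*} [Category C] [Category D] {L : C ⥤ D} {R : D ⥤ C} (adj : L ⊣ R)

lemma isIso_unit_app_right [IsIso adj.counit] (Y : D) : IsIso (adj.unit.app (R.obj Y)) := by
  have htri := adj.right_triangle_components Y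
  have h2 : IsIso (R.map (adj.counit.app Y)) := inferInstance
  have : adj.unit.app (R.obj Y) = inv (R.map (adj.counit.app Y)) :=
    IsIso.eq_inv_of_inv_hom_id htri
  rw [this]
  infer_instance

lemma adj_unique_lift {F G : C} (φ : F ⟶ G) [IsIso (L.map φ)] [IsIso (adj.unit.app G)] :
    (∃! ψ : G ⟶ R.obj (L.obj F), φ ≫ ψ = adj.unit.app F) ∧
      ∀ ψ : G ⟶ R.obj (L.obj F), φ ≫ ψ = adj.unit.app F → IsIso ψ := by
  have huniq : ∀ ψ : G ⟶ R.obj (L.obj F), φ ≫ ψ = adj.unit.app F →
      ψ = adj.homEquiv G (L.obj F) (inv (L.map φ)) := by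
    intro ψ hψ
    have h1 := congrArg (adj.homEquiv F (L.obj F)).symm hψ
    rw [Adjunction.homEquiv_naturality_left_symm] at h1
    have h2 : (adj.homEquiv F (L.obj F)).symm (adj.unit.app F) = 𝟙 _ := by
      rw [← Adjunction.homEquiv_id, Equiv.symm_apply_apply]
    rw [h2] at h1
    have h3 : (adj.homEquiv G (L.obj F)).symm ψ = inv (L.map φ) := by
      rw [← cancel_epi (L.map φ), h1, IsIso.hom_inv_id]
    rw [← h3, Equiv.apply_symm_apply]
  have hex : φ ≫ adj.homEquiv G (L.obj F) (inv (L.map φ)) = adj.unit.app F := by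
    rw [← Adjunction.homEquiv_naturality_left, IsIso.hom_inv_id, Adjunction.homEquiv_id]
  refine ⟨⟨adj.homEquiv G (L.obj F) (inv (L.map φ)), hex, fun ψ hψ => huniq ψ hψ⟩, ?_⟩
  intro ψ hψ
  rw [huniq ψ hψ, Adjunction.homEquiv_unit]
  infer_instance

end Aux


/-- Let j : U → X be the inclusion of an open subscheme of a Noetherian scheme X and F a coherent
O_X-module such that F' = j_*(F|_U) is coherent. Then (a) for every point x of X outside U the stalk
F'_x has depth at least 2 over O_{X,x}, and (b) F → F' is the unique map with these properties: for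
every coherent O_X-module G and every map φ : F → G whose restriction to U is an isomorphism and
such that depth(G_x) ≥ 2 for all x outside U, there is exactly one map ψ : G → F' whose composite
with φ is the canonical map F → j_*(F|_U), and this ψ is an isomorphism. (The compatibility of this
construction with flat base change is not part of this statement.) -/
theorem result (X : Scheme.{u}) [IsNoetherian X] (U : X.Opens)
    (F : X.Modules) (hF : Coh.IsCoh F) (hF' : Coh.IsCoh ((Coh.push U.ι).obj (F.restrict U.ι))) :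
    (∀ x : ↥X, x ∉ U → (2 : ℕ∞) ≤ LocCoh.depth (X.presheaf.stalk x)
        (((Coh.push U.ι).obj (F.restrict U.ι)).presheaf.stalk x)) ∧
    ∀ (G : X.Modules) (hG : Coh.IsCoh G) (φ : F ⟶ G),
      IsIso ((Scheme.Modules.restrictFunctor U.ι).map φ) →
      (∀ x : ↥X, x ∉ U → (2 : ℕ∞) ≤ LocCoh.depth (X.presheaf.stalk x) (G.presheaf.stalk x)) →
        (∃! ψ : G ⟶ (Coh.push U.ι).obj (F.restrict U.ι),
            φ ≫ ψ = (Scheme.Modules.restrictAdjunction U.ι).unit.app F) ∧
          ∀ ψ : G ⟶ (Coh.push U.ι).obj (F.restrict U.ι),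
            φ ≫ ψ = (Scheme.Modules.restrictAdjunction U.ι).unit.app F → IsIso ψ := by
  haveI : IsLocallyNoetherian X := inferInstance
  refine ⟨?_, ?_⟩
  · -- (a)
    haveI := hF'.1
    haveI := hF'.2
    have hiso := isIso_unit_app_right (Scheme.Modules.restrictAdjunction U.ι) (F.restrict U.ι)
    have hbij := (Groth.Agent.Lib.helper9.CohB.isIso_unit_iff
      ((Coh.push U.ι).obj (F.restrict U.ι)) U).mp hiso
    intro x hx
    exact Groth.Agent.Lib.helper9.CohB.two_le_depth_of_res_bijective'
      ((Coh.push U.ι).obj (F.restrict U.ι)) U hbij x hx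
  · -- (b)
    intro G hG φ hφ hdepth
    haveI := hG.1
    haveI := hG.2
    haveI : IsIso ((Scheme.Modules.restrictFunctor U.ι).map φ) := hφ
    haveI : IsIso ((Scheme.Modules.restrictAdjunction U.ι).unit.app G) :=
      Groth.Agent.Lib.helper9.CohB.isIso_unit_of_depth G U hdepth
    exact adj_unique_lift (Scheme.Modules.restrictAdjunction U.ι) φ

end Groth.Agent.S12226
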