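import Groth.Statements.S12228
import Mathlib

set_option autoImplicit false
universe w v u
open CategoryTheory CategoryTheory.Limits
open CohDer

namespace Groth.Agent.S12228

/-- Full faithfulness of Kᵇ(A)[Qis⁻¹] → Dᵇ(A), written in terms of roofs. Let A be an abelian category
and K, L bounded complexes (zero outside a finite range of degrees), viewed in the homotopy
category. Then every morphism Qh(K) → Qh(L) in the derived category is Qh(f) ≫ Qh(t)⁻¹ for some map
f : K → L' and quasi-isomorphism t : L → L' of K(A) with L' again bounded; and two maps f₁, f₂ : K →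
L of K(A) become equal in D(A) only if f₁ ≫ t = f₂ ≫ t for some quasi-isomorphism t : L → L' with L'
bounded. -/
theorem result {A : Type u} [Category.{v} A] [Abelian A] [HasDerivedCategory.{w} A]
    (K L : HomotopyCategory A (ComplexShape.up ℤ)) (a b a' b' : ℤ) [CochainComplex.IsStrictlyGE K.as a] [CochainComplex.IsStrictlyLE K.as b]
    [CochainComplex.IsStrictlyGE L.as a'] [CochainComplex.IsStrictlyLE L.as b'] :
    (∀ φ : DerivedCategory.Qh.obj K ⟶ DerivedCategory.Qh.obj L,
      ∃ (L' : HomotopyCategory A (ComplexShape.up ℤ)) (m n : ℤ) (_ : CochainComplex.IsStrictlyGE L'.as m) (_ : CochainComplex.IsStrictlyLE L'.as n) (f : K ⟶ L') (t : L ⟶ L'),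
        HomotopyCategory.quasiIso A (ComplexShape.up ℤ) t ∧ φ ≫ DerivedCategory.Qh.map t = DerivedCategory.Qh.map f) ∧
    (∀ f₁ f₂ : K ⟶ L, DerivedCategory.Qh.map f₁ = DerivedCategory.Qh.map f₂ →
      ∃ (L' : HomotopyCategory A (ComplexShape.up ℤ)) (m n : ℤ) (_ : CochainComplex.IsStrictlyGE L'.as m) (_ : CochainComplex.IsStrictlyLE L'.as n) (t : L ⟶ L'),
        HomotopyCategory.quasiIso A (ComplexShape.up ℤ) t ∧ f₁ ≫ t = f₂ ≫ t) := by
  obtain ⟨K₀, rfl⟩ := HomotopyCategory.quotient_obj_surjective K
  obtain ⟨L₀, rfl⟩ := HomotopyCategory.quotient_obj_surjective L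
  have hKa : CochainComplex.IsStrictlyGE K₀ a := ‹CochainComplex.IsStrictlyGE ((HomotopyCategory.quotient A _).obj K₀).as a›
  have hKb : CochainComplex.IsStrictlyLE K₀ b := ‹CochainComplex.IsStrictlyLE ((HomotopyCategory.quotient A _).obj K₀).as b›
  have hLa : CochainComplex.IsStrictlyGE L₀ a' := ‹CochainComplex.IsStrictlyGE ((HomotopyCategory.quotient A _).obj L₀).as a'›
  have hLb : CochainComplex.IsStrictlyLE L₀ b' := ‹CochainComplex.IsStrictlyLE ((HomotopyCategory.quotient A _).obj L₀).as b'›
  have hKb₀ : CochainComplex.IsStrictlyLE K₀ (max b b') := CochainComplex.isStrictlyLE_of_le K₀ b _ (le_max_left _ _)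
  have hLb₀ : CochainComplex.IsStrictlyLE L₀ (max b b') := CochainComplex.isStrictlyLE_of_le L₀ b' _ (le_max_right _ _)
  -- general factorisation lemma
  have key : ∀ (X : CochainComplex A ℤ) [CochainComplex.IsStrictlyLE X (max b b')]
      (φ : DerivedCategory.Q.obj X ⟶ DerivedCategory.Q.obj L₀),
      ∃ (Y' : CochainComplex A ℤ) (_ : Y'.IsStrictlyGE a') (_ : Y'.IsStrictlyLE (max b b'))
        (g : X ⟶ Y') (s : L₀ ⟶ Y') (_ : IsIso (DerivedCategory.Q.map s)),
        φ = DerivedCategory.Q.map g ≫ inv (DerivedCategory.Q.map s) := fun X _ φ =>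
    DerivedCategory.left_fac_of_isStrictlyLE_of_isStrictlyGE a' (max b b') φ
  constructor
  · intro φ
    obtain ⟨Y', hY'a, hY'b, g, s, hs, hfac⟩ := key K₀ φ
    refine ⟨(HomotopyCategory.quotient A _).obj Y', a', max b b', hY'a, hY'b,
      (HomotopyCategory.quotient A _).map g, (HomotopyCategory.quotient A _).map s, ?_, ?_⟩
    · rw [HomotopyCategory.quotient_map_mem_quasiIso_iff, HomologicalComplex.mem_quasiIso_iff]
      exact (DerivedCategory.isIso_Q_map_iff_quasiIso (C := A) s).1 hs
    · rw [hfac]
      have : IsIso (DerivedCategory.Qh.map ((HomotopyCategory.quotient A (ComplexShape.up ℤ)).map s)) := hs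
      show (DerivedCategory.Qh.map ((HomotopyCategory.quotient A _).map g) ≫
        inv (DerivedCategory.Qh.map ((HomotopyCategory.quotient A _).map s))) ≫
          DerivedCategory.Qh.map ((HomotopyCategory.quotient A _).map s) = _
      rw [Category.assoc, IsIso.inv_hom_id, Category.comp_id]
  · intro f₁ f₂ h
    obtain ⟨g₁, rfl⟩ := (HomotopyCategory.quotient _ _).map_surjective f₁
    obtain ⟨g₂, rfl⟩ := (HomotopyCategory.quotient _ _).map_surjective f₂
    have hd : DerivedCategory.Q.map (g₁ - g₂) = 0 := by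
      rw [Functor.map_sub, sub_eq_zero]
      exact h
    have hcone : CochainComplex.IsStrictlyLE (CochainComplex.mappingCone (g₁ - g₂)) (max b b') := by
      rw [CochainComplex.isStrictlyLE_iff]
      intro i hi
      rw [CochainComplex.mappingCone.isZero_X_iff]
      exact ⟨CochainComplex.isZero_of_isStrictlyLE K₀ b _ (by have := le_max_left b b'; lia),
        CochainComplex.isZero_of_isStrictlyLE L₀ b' _ (by have := le_max_right b b'; lia)⟩
    obtain ⟨r, hr⟩ : ∃ r : DerivedCategory.Q.obj (CochainComplex.mappingCone (g₁ - g₂)) ⟶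
        DerivedCategory.Q.obj L₀, 𝟙 (DerivedCategory.Q.obj L₀) =
          DerivedCategory.Q.map (CochainComplex.mappingCone.inr (g₁ - g₂)) ≫ r :=
      Pretriangulated.Triangle.yoneda_exact₂ _
        (DerivedCategory.mappingCone_triangle_distinguished (g₁ - g₂)) (𝟙 (DerivedCategory.Q.obj L₀))
        (by
          show DerivedCategory.Q.map (g₁ - g₂) ≫ 𝟙 _ = 0
          rw [hd, zero_comp])
    obtain ⟨Y', hY'a, hY'b, g, s, hs, hfac⟩ := key (CochainComplex.mappingCone (g₁ - g₂)) r
    have hQt : DerivedCategory.Q.map (CochainComplex.mappingCone.inr (g₁ - g₂) ≫ g) =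
        DerivedCategory.Q.map s := by
      have h1 : r ≫ DerivedCategory.Q.map s = DerivedCategory.Q.map g := by
        rw [hfac, Category.assoc, IsIso.inv_hom_id, Category.comp_id]
      rw [Functor.map_comp, ← h1, ← Category.assoc, ← hr, Category.id_comp]
    refine ⟨(HomotopyCategory.quotient A _).obj Y', a', max b b', hY'a, hY'b,
      (HomotopyCategory.quotient A _).map (CochainComplex.mappingCone.inr (g₁ - g₂) ≫ g), ?_, ?_⟩
    · rw [HomotopyCategory.quotient_map_mem_quasiIso_iff, HomologicalComplex.mem_quasiIso_iff,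
        ← DerivedCategory.isIso_Q_map_iff_quasiIso, hQt]
      exact hs
    · rw [← sub_eq_zero, ← Preadditive.sub_comp, ← Functor.map_sub, ← Functor.map_comp,
        ← Category.assoc]
      have h0 : (HomotopyCategory.quotient A (ComplexShape.up ℤ)).map
          ((g₁ - g₂) ≫ CochainComplex.mappingCone.inr (g₁ - g₂)) = 0 := by
        rw [← (HomotopyCategory.quotient A (ComplexShape.up ℤ)).map_zero]
        exact HomotopyCategory.eq_of_homotopy _ _
          (HomologicalComplex.homotopyCofiber.inrCompHomotopy (g₁ - g₂) (fun j => ⟨j - 1, by simp⟩))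
      rw [Functor.map_comp, h0, zero_comp]

end Groth.Agent.S12228
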