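import Groth.Statements.S1223



set_option autoImplicit false
universe u
open FlatMor

attribute [local instance] Algebra.TensorProduct.rightAlgebra


namespace Groth.Agent.S1223

/-- Ring form, X = Spec B affine: a finite type, flat A-algebra B with geometrically integral fibres is
universally pure relative to Spec A. -/
theorem result {A B : Type u} [CommRing A] [CommRing B] [Algebra A B] [Algebra.FiniteType A B] [Module.Flat A B]
    (h : FlatCA.GeomIntegralFibres A B) : FlatCA.IsUnivPure A B B := by
  intro p _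
  unfold FlatCA.IsUnivPureAlong
  intro A' B' N' _ _ _ _ _ _ _ _ _ _ _ _ _ _ f t' t _ _ P _ himp
  obtain ⟨h1, h2, h3, h4, h5, h6, h7⟩ := himp
  haveI := h1
  -- every fibre ring of `B'` over `A'` is a domain
  have hdom : ∀ (t₀ : Ideal A') [t₀.IsPrime], IsDomain (t₀.Fiber B') := by
    intro t₀ _
    letI iBF : Algebra B (t₀.Fiber B') :=
      ((algebraMap B' (t₀.Fiber B')).comp (algebraMap B B')).toAlgebra
    haveI : IsScalarTower B B' (t₀.Fiber B') := IsScalarTower.of_algebraMap_eq (fun _ => rfl)
    haveI : IsScalarTower A B' (t₀.Fiber B') :=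
      IsScalarTower.of_algebraMap_eq (fun a => by
        rw [IsScalarTower.algebraMap_apply A A' (t₀.Fiber B'),
          IsScalarTower.algebraMap_apply A A' B',
          ← IsScalarTower.algebraMap_apply A' B' (t₀.Fiber B')])
    haveI : IsScalarTower A B (t₀.Fiber B') :=
      IsScalarTower.of_algebraMap_eq (fun a => by
        rw [IsScalarTower.algebraMap_apply A B' (t₀.Fiber B'),
          IsScalarTower.algebraMap_apply A B B']
        rfl)
    have hpo : Algebra.IsPushout A B t₀.ResidueField (t₀.Fiber B') := by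
      haveI : Algebra.IsPushout A A' B B' := Algebra.IsPushout.symm h1
      have h' : Algebra.IsPushout A' t₀.ResidueField B' (t₀.Fiber B') := inferInstance
      exact ((Algebra.IsPushout.comp_iff (R := A) (S := A') (T := t₀.ResidueField) (R' := B)
        (S' := B') (T' := t₀.Fiber B')).mpr h').symm
    haveI := hpo
    have hpb := AlgebraicGeometry.isPullback_SpecMap_of_isPushout _ _ _ _
      (CommRingCat.isPushout_of_isPushout A B t₀.ResidueField (t₀.Fiber B'))
    have hint : AlgebraicGeometry.IsIntegral
        (AlgebraicGeometry.Spec (CommRingCat.of (t₀.Fiber B'))) :=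
      h.geometrically_isIntegral _ _ _ hpb
    exact (AlgebraicGeometry.affine_isIntegral_iff (CommRingCat.of (t₀.Fiber B'))).mp hint
  haveI hF : IsDomain (t'.Fiber B') := hdom t'
  haveI : Module.Flat A' B' :=
    Module.Flat.isBaseChange (R := A) (S := A') (M := B) B' (Algebra.IsPushout.symm h1).out
  -- a prime of `B'` over `t`
  haveI : IsDomain (t.Fiber B') := hdom t
  obtain ⟨Q'', hQ''⟩ := Ideal.exists_maximal (t.Fiber B')
  let x'' := (PrimeSpectrum.primesOverOrderIsoFiber A' B' t).symm ⟨Q'', hQ''.isPrime⟩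
  haveI hP''prime : x''.1.IsPrime := x''.2.1
  haveI hP''over : x''.1.LiesOver t := x''.2.2
  obtain ⟨P₀, hP₀le, hP₀prime, hP₀over⟩ :=
    Ideal.exists_ideal_le_liesOver_of_le (p := t') (q := t) x''.1 h3
  -- elements vanishing in the fibre ring lie in every prime over `t'`
  have hkey : ∀ (P₀ : Ideal B') [P₀.IsPrime] (hP₀ : P₀.LiesOver t') (x : B'),
      (Algebra.TensorProduct.includeRight (R := A') (A := t'.ResidueField) (B := B')) x = 0 →
        x ∈ P₀ := by
    intro P₀ _ hP₀ x hx
    let φ : t'.Fiber B' →ₐ[A'] P₀.ResidueField :=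
      Algebra.TensorProduct.lift
        (Ideal.ResidueField.mapₐ t' P₀ (Algebra.ofId A' B') hP₀.over)
        (IsScalarTower.toAlgHom A' B' P₀.ResidueField) (fun _ _ => .all _ _)
    have hφ : φ (Algebra.TensorProduct.includeRight x) = algebraMap B' P₀.ResidueField x := by
      simp [φ]
    rw [hx, map_zero] at hφ
    exact Ideal.algebraMap_residueField_eq_zero.mp hφ.symm
  -- the associated prime is zero
  let eN : N' ≃ₗ[B'] B' := h2.equiv.symm ≪≫ₗ TensorProduct.AlgebraTensorModule.rid B B' B'
  let E : TensorProduct B' (t'.Fiber B') N' ≃ₗ[t'.Fiber B'] (t'.Fiber B') :=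
    (TensorProduct.AlgebraTensorModule.congr
      (LinearEquiv.refl (t'.Fiber B') (t'.Fiber B')) eN) ≪≫ₗ
      TensorProduct.AlgebraTensorModule.rid B' (t'.Fiber B') (t'.Fiber B')
  have h6' : IsAssociatedPrime (FlatCA.fiberIdeal t' P) (t'.Fiber B') :=
    (LinearEquiv.isAssociatedPrime_iff E).mp h6
  obtain ⟨hQp, c, hc⟩ := h6'
  have hc0 : c ≠ 0 := by
    rintro rfl
    apply hQp.ne_top
    rw [Ideal.eq_top_iff_one, hc]
    apply Ideal.le_radical
    rw [Submodule.mem_colon_singleton, smul_zero]
    exact Submodule.zero_mem _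
  have hzero : ∀ x ∈ P,
      (Algebra.TensorProduct.includeRight (R := A') (A := t'.ResidueField) (B := B')) x = 0 := by
    intro x hx
    have hx' : (Algebra.TensorProduct.includeRight (R := A') (A := t'.ResidueField) (B := B')) x ∈
        FlatCA.fiberIdeal t' P := Ideal.mem_map_of_mem _ hx
    rw [hc] at hx'
    obtain ⟨k, hk⟩ := hx'
    rw [Submodule.mem_colon_singleton, Submodule.mem_bot, smul_eq_mul] at hk
    rcases mul_eq_zero.mp hk with hk | hk
    · exact eq_zero_of_pow_eq_zero hk
    · exact absurd hk hc0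
  have hPP₀ : P ≤ P₀ := fun x hx => hkey P₀ hP₀over x (hzero x hx)
  exact h7 x''.1 (hPP₀.trans hP₀le) hP''over

end Groth.Agent.S1223
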