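import Groth.Statements.S1224



set_option autoImplicit false
universe u
open FlatMor

attribute [local instance] Algebra.TensorProduct.rightAlgebra


namespace Groth.Agent.S1224

/-- Ring form, X = Spec B affine, where proper support means finite support: let B be a finite type
A-algebra and N a finite B-module such that B modulo the annihilator of N is finite over A. Then N
is universally pure relative to Spec A. -/
theorem result {A B : Type u} [CommRing A] [CommRing B] [Algebra A B] [Algebra.FiniteType A B]
    (N : Type u) [AddCommGroup N] [Module B N] [Module A N] [IsScalarTower A B N] [Module.Finite B N]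
    [Module.Finite A (B ⧸ Module.annihilator B N)] : FlatCA.IsUnivPure A B N := by
  intro p _
  unfold FlatCA.IsUnivPureAlong
  intro A' B' N' _ _ _ _ _ _ _ _ _ _ _ _ _ _ f t' t _ _ P _ himp
  obtain ⟨h1, h2, h3, h4, h5, h6, h7⟩ := himp
  haveI := h1
  haveI := h5
  -- Step 1: the image of the annihilator kills `N'`
  have hkill : ∀ b ∈ Module.annihilator B N, ∀ n' : N', algebraMap B B' b • n' = 0 := by
    intro b hb n'
    refine h2.inductionOn n' (fun n' => algebraMap B B' b • n' = 0) ?_ ?_ ?_ ?_
    · exact smul_zero _
    · intro n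
      rw [algebraMap_smul, ← f.map_smul, Module.mem_annihilator.mp hb n, map_zero]
    · intro s n ih
      rw [smul_comm, ih, smul_zero]
    · intro n₁ n₂ h₁ h₂
      rw [smul_add, h₁, h₂, add_zero]
  -- Step 2: hence kills the fibre module
  have hkillF : ∀ b ∈ Module.annihilator B N, ∀ m : FlatCA.fiberMod t' B' N',
      ((Algebra.TensorProduct.includeRight (R := A') (A := t'.ResidueField) (B := B'))
        (algebraMap B B' b)) • m = 0 := by
    intro b hb m
    have aux : ∀ m : TensorProduct B' (t'.Fiber B') N',
        ((Algebra.TensorProduct.includeRight (R := A') (A := t'.ResidueField) (B := B'))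
          (algebraMap B B' b)) • m = 0 := by
      intro m
      induction m using TensorProduct.induction_on with
      | zero => exact smul_zero _
      | tmul y n' =>
        rw [TensorProduct.smul_tmul', smul_eq_mul]
        have e : (Algebra.TensorProduct.includeRight (R := A') (A := t'.ResidueField) (B := B'))
            (algebraMap B B' b) * y = (algebraMap B B' b) • y := by
          rw [Algebra.smul_def]; rfl
        rw [e, TensorProduct.smul_tmul, hkill b hb n', TensorProduct.tmul_zero]
      | add x y hx hy => rw [smul_add, hx, hy, add_zero]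
    exact aux m
  -- Step 3: so lies in the associated prime
  have hmemQ : ∀ b ∈ Module.annihilator B N,
      (Algebra.TensorProduct.includeRight (R := A') (A := t'.ResidueField) (B := B'))
        (algebraMap B B' b) ∈ FlatCA.fiberIdeal t' P := by
    intro b hb
    obtain ⟨hQprime, m, hm⟩ := h6
    rw [hm]
    apply Ideal.le_radical
    rw [Submodule.mem_colon_singleton, Submodule.mem_bot]
    exact hkillF b hb m
  -- Step 4: pull back to `P`
  let φ : t'.Fiber B' →ₐ[A'] P.ResidueField :=
    Algebra.TensorProduct.lift
      (Ideal.ResidueField.mapₐ t' P (Algebra.ofId A' B') h5.over)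
      (IsScalarTower.toAlgHom A' B' P.ResidueField) (fun _ _ => .all _ _)
  have hφ : ∀ x : B', φ (Algebra.TensorProduct.includeRight x) =
      algebraMap B' P.ResidueField x := by
    intro x
    simp [φ]
  have hQker : FlatCA.fiberIdeal t' P ≤ RingHom.ker φ.toRingHom := by
    unfold FlatCA.fiberIdeal
    rw [Ideal.map_le_iff_le_comap]
    intro x hx
    rw [Ideal.mem_comap, RingHom.mem_ker]
    change φ (Algebra.TensorProduct.includeRight x) = 0
    rw [hφ, Ideal.algebraMap_residueField_eq_zero]
    exact hx
  have hannP : ∀ b ∈ Module.annihilator B N, algebraMap B B' b ∈ P := by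
    intro b hb
    have h := hQker (hmemQ b hb)
    rw [RingHom.mem_ker] at h
    change φ (Algebra.TensorProduct.includeRight (algebraMap B B' b)) = 0 at h
    rwa [hφ, Ideal.algebraMap_residueField_eq_zero] at h
  -- Step 5: `B' ⧸ P` is integral over `A'`
  have hint : ∀ x : B', IsIntegral A' (Ideal.Quotient.mk P x) := by
    intro x
    have hbc : IsBaseChange A' (IsScalarTower.toAlgHom A B B').toLinearMap :=
      (Algebra.IsPushout.symm h1).out
    refine hbc.inductionOn x (fun x => IsIntegral A' (Ideal.Quotient.mk P x)) ?_ ?_ ?_ ?_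
    · rw [map_zero]; exact isIntegral_zero
    · intro b
      change IsIntegral A' (Ideal.Quotient.mk P (algebraMap B B' b))
      let ψ : (B ⧸ Module.annihilator B N) →ₐ[A] (B' ⧸ P) :=
        Ideal.Quotient.liftₐ (Module.annihilator B N)
          ((Ideal.Quotient.mkₐ A P).comp (IsScalarTower.toAlgHom A B B'))
          (fun a ha => by
            change Ideal.Quotient.mk P (algebraMap B B' a) = 0
            exact Ideal.Quotient.eq_zero_iff_mem.mpr (hannP a ha))
      have hb : IsIntegral A (Ideal.Quotient.mk (Module.annihilator B N) b) :=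
        Algebra.IsIntegral.isIntegral _
      have h' : IsIntegral A (ψ (Ideal.Quotient.mk (Module.annihilator B N) b)) := hb.map ψ
      have h'' : IsIntegral A (Ideal.Quotient.mk P (algebraMap B B' b)) := h'
      exact h''.tower_top
    · intro s n ih
      have e : Ideal.Quotient.mk P (s • n) = s • Ideal.Quotient.mk P n :=
        map_smul (Ideal.Quotient.mkₐ A' P) s n
      rw [e]; exact ih.smul s
    · intro n₁ n₂ h₁ h₂
      rw [map_add]; exact h₁.add h₂
  -- Step 6: going up
  haveI : Algebra.IsIntegral A' (B' ⧸ P) := ⟨fun y => by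
    obtain ⟨x, rfl⟩ := Ideal.Quotient.mk_surjective y
    exact hint x⟩
  have hker : RingHom.ker (algebraMap A' (B' ⧸ P)) ≤ t := by
    intro a ha
    rw [RingHom.mem_ker] at ha
    have ha' : Ideal.Quotient.mk P (algebraMap A' B' a) = 0 := ha
    have h8 : algebraMap A' B' a ∈ P := Ideal.Quotient.eq_zero_iff_mem.mp ha'
    have h9 : a ∈ t' := by rw [h5.over]; exact h8
    exact h3 h9
  obtain ⟨Q, hQp, hQ⟩ :=
    Ideal.exists_ideal_over_prime_of_isIntegral_of_isDomain (R := A') (S := B' ⧸ P) t hker
  have hP'prime : (Q.comap (Ideal.Quotient.mk P)).IsPrime := Ideal.comap_isPrime _ _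
  have hPP' : P ≤ Q.comap (Ideal.Quotient.mk P) := by
    intro x hx
    rw [Ideal.mem_comap, Ideal.Quotient.eq_zero_iff_mem.mpr hx]
    exact Q.zero_mem
  have hover' : (Q.comap (Ideal.Quotient.mk P)).LiesOver t :=
    ⟨hQ.symm.trans (Ideal.ext fun x => Iff.rfl)⟩
  exact h7 (Q.comap (Ideal.Quotient.mk P)) hPP' hover'

end Groth.Agent.S1224
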