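import Groth.Statements.S12248
import Groth.Agent.Lib.helper19.ArtGlue
import Groth.Agent.Lib.helper19.ArtHsq
import Groth.Agent.S12724
import Groth.Agent.S12732

set_option autoImplicit false
universe u v
open CategoryTheory
open Deform

namespace Groth.Agent.S12248


theorem aux_surj {k Λ : Type u} [Field k] [CommRing Λ] [Algebra k Λ] [Algebra Λ k]
    [IsScalarTower k Λ k] : Function.Surjective (algebraMap Λ k) := by
  intro c
  refine ⟨algebraMap k Λ c, ?_⟩
  rw [← IsScalarTower.algebraMap_apply k Λ k c]
  rfl

theorem aux_hk {k Λ : Type u} [Field k] [CommRing Λ] [Algebra Λ k]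
    (hs : Function.Surjective (algebraMap Λ k)) : Subsingleton (Derivation Λ k k) := by
  constructor
  intro D₁ D₂
  ext c
  obtain ⟨l, rfl⟩ := hs c
  rw [D₁.map_algebraMap, D₂.map_algebraMap]

/-- Let k be an algebraically closed field, Λ a complete local Noetherian k-algebra with residue field
k, and F a set-valued functor on local Artinian Λ-algebras with residue field k such that F(k) is a
single point, with its k-vector-space structure on F(k[ε]) given as data compatible with ε ↦ cε and
(ε₁, ε₂) ↦ (ε, ε). Then F is prorepresentable (by a complete local Noetherian Λ-algebra with residue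
field k) if and only if: the comparison map F(A' ×_A A'') → F(A') ×_{F(A)} F(A'') is surjective
whenever A'' → A is a small extension; it is bijective whenever A = k and A'' = k[ε]; F(k[ε]) is
finite-dimensional; and the comparison map F(A' ×_A A') → F(A') ×_{F(A)} F(A') is bijective for
every small extension A' → A. -/
theorem result
    {k Λ : Type u} [Field k] [IsAlgClosed k] [CommRing Λ] [IsLocalRing Λ] [IsNoetherianRing Λ]
    [IsAdicComplete (IsLocalRing.maximalIdeal Λ) Λ] [Algebra k Λ] [Algebra Λ k] [IsScalarTower k Λ k]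
    (F : ArtFun.Art Λ k ⥤ Type v) [ArtFun.TangentStr F] (h0 : ArtFun.H0 F) :
    ArtFun.IsProrepresentable F ↔
      (ArtFun.Hbar F ∧ ArtFun.Heps F ∧ ArtFun.Hfin F ∧ ArtFun.HSq F) := by
  have hs : Function.Surjective (algebraMap Λ k) := aux_surj
  haveI : Module.Finite Λ k := Module.Finite.of_surjective (Algebra.linearMap Λ k) hs
  have hk := aux_hk hs
  constructor
  · intro hP
    obtain ⟨-, hL, h3⟩ := Groth.Agent.Lib.helper19.conditions_of_isProrepresentable hP
    exact ⟨fun B A A' A'' p' p'' f' f'' h _ => (hL p' p'' f' f'' h).2,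
      fun B A' p' p'' h => hL p' p'' _ _ h, h3,
      fun B A A' p₁ p₂ f h _ => hL p₁ p₂ f f h⟩
  · rintro ⟨hbar, h2, h3, h4⟩
    have h1 : ArtFun.S1 F := (Groth.Agent.S12724.result F).mpr hbar
    have hRS : Groth.Agent.Lib.helper19.RS F :=
      Groth.Agent.Lib.helper19.rs_of_hbar_heps_hsq F hbar h2 h4
    exact Groth.Agent.Lib.helper19.isProrepresentable_of_rs hk h0 hRS h3
      (Groth.Agent.S12732.result hk F h0 h1 h2 h3)

end Groth.Agent.S12248
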