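import Groth.Statements.S12249
import Groth.Agent.Lib.helper18.ArtDualSep

set_option autoImplicit false
universe u v
open CategoryTheory
open Deform

namespace Groth.Agent.S12249

/-- Let k be an algebraically closed field and F a set-valued functor on local Artinian k-algebras with
residue field k such that F(k) is a single point. If F has a semiuniversal formal element and its
tangent space F(k[ε]) is reduced to one element, then F(A) consists of exactly one element for every
A: F is the constant one-point functor h_k. -/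
theorem result
    {k : Type u} [Field k] [IsAlgClosed k]
    (F : ArtFun.Art k k ⥤ Type v) (h0 : ArtFun.H0 F) (hF : ArtFun.HasHull F)
    (ht : Subsingleton (ArtFun.TangentSpace F)) (A : ArtFun.Art k k) :
    Nonempty (F.obj A) ∧ Subsingleton (F.obj A) := by
  obtain ⟨⟨R, ξ, hvers, hbij⟩⟩ := hF
  -- `h_R(k[ε])` is a subsingleton
  have hsub : Subsingleton (ArtFun.HomSet R.carrier R.res (ArtFun.Art.dual k k)) := by
    constructor
    intro a b
    apply hbij.1
    exact Subsingleton.elim (α := ArtFun.TangentSpace F) _ _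
  -- square-zero property of the truncation
  have hT : ∀ a b : (R.trunc 1), (R.trunc 1).res a = 0 → (R.trunc 1).res b = 0 → a * b = 0 := by
    intro a b ha hb
    obtain ⟨a', rfl⟩ := Ideal.Quotient.mk_surjective a
    obtain ⟨b', rfl⟩ := Ideal.Quotient.mk_surjective b
    have ha' : a' ∈ IsLocalRing.maximalIdeal R.carrier := (R.mem_maximalIdeal_iff a').2 ha
    have hb' : b' ∈ IsLocalRing.maximalIdeal R.carrier := (R.mem_maximalIdeal_iff b').2 hb
    change Ideal.Quotient.mk (ArtFun.CRing.mpow R 1) a' * Ideal.Quotient.mk (ArtFun.CRing.mpow R 1) b' = 0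
    rw [← map_mul, Ideal.Quotient.eq_zero_iff_mem]
    change a' * b' ∈ IsLocalRing.maximalIdeal R.carrier ^ (1 + 1)
    rw [pow_two]
    exact Ideal.mul_mem_mul ha' hb'
  -- every element of the maximal ideal lies in its square
  have hm2 : ∀ r : R.carrier, r ∈ IsLocalRing.maximalIdeal R.carrier →
      r ∈ IsLocalRing.maximalIdeal R.carrier ^ 2 := by
    intro r hr
    have h0 : (R.truncHom 1).1 r = 0 := by
      apply Groth.Agent.H18.dual_separates (R.trunc 1) hT
      intro l
      have h1 : ArtFun.HomSet.map l (R.truncHom 1) =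
          ArtFun.HomSet.map (ArtFun.Art.toBase _ ≫ ArtFun.Art.baseToDual) (R.truncHom 1) :=
        Subsingleton.elim _ _
      have h2 := congrArg (fun ψ : ArtFun.HomSet R.carrier R.res (ArtFun.Art.dual k k) => ψ.1 r) h1
      have h3 : l ((R.truncHom 1).1 r) =
          (ArtFun.Art.toBase (R.trunc 1) ≫ ArtFun.Art.baseToDual) ((R.truncHom 1).1 r) := h2
      rw [h3, map_zero]
      have h4 : (R.trunc 1).res ((R.truncHom 1).1 r) = 0 := by
        have := congrArg (fun ψ : R.carrier →ₐ[k] k => ψ r) (R.truncHom 1).2
        have h5 : (R.trunc 1).res ((R.truncHom 1).1 r) = R.res r := this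
        rw [h5]
        exact (R.mem_maximalIdeal_iff r).1 hr
      change ArtFun.Art.baseToDual.toAlgHom ((R.trunc 1).res ((R.truncHom 1).1 r)) = 0
      rw [h4]
      exact map_zero (ArtFun.Art.baseToDual (Λ := k) (k := k)).toAlgHom
    have h6 : Ideal.Quotient.mk (ArtFun.CRing.mpow R 1) r = 0 := h0
    rw [Ideal.Quotient.eq_zero_iff_mem] at h6
    exact h6
  -- hence the maximal ideal is zero
  have hmzero : ∀ r : R.carrier, r ∈ IsLocalRing.maximalIdeal R.carrier → r = 0 := by
    intro r hr
    have hpow : ∀ n : ℕ, IsLocalRing.maximalIdeal R.carrier ≤ IsLocalRing.maximalIdeal R.carrier ^ n := by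
      intro n
      induction n with
      | zero => simp
      | succ n ih =>
        intro x hx
        have hx2 := hm2 x hx
        rw [pow_two] at hx2
        rw [pow_succ]
        exact Ideal.mul_mono ih le_rfl hx2
    have hH : IsHausdorff (IsLocalRing.maximalIdeal R.carrier) R.carrier := R.isAdicComplete.toIsHausdorff
    apply hH.haus
    intro n
    rw [SModEq.zero, smul_eq_mul, Ideal.mul_top]
    exact hpow n hr
  -- so `h_R(A)` is a subsingleton for every `A`
  have hsubA : Subsingleton (ArtFun.HomSet R.carrier R.res A) := by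
    constructor
    intro φ ψ
    apply Subtype.ext
    apply AlgHom.ext
    intro r
    have hr : r - algebraMap k R.carrier (R.res r) ∈ IsLocalRing.maximalIdeal R.carrier := by
      rw [R.mem_maximalIdeal_iff]
      simp
    have hr0 := hmzero _ hr
    have hr' : r = algebraMap k R.carrier (R.res r) := sub_eq_zero.mp hr0
    rw [hr', AlgHom.commutes, AlgHom.commutes]
  -- `ξ` is surjective on `A`
  have hsurj : Function.Surjective (ξ.app A) := by
    intro y
    obtain ⟨⟨pt⟩, hss⟩ := h0
    have hμ : Function.Surjective (ArtFun.Art.toBase A) := A.res_surjective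
    have hbase : ∃ φ0 : ArtFun.HomSet R.carrier R.res (ArtFun.Art.base k k), True :=
      ⟨⟨R.res, AlgHom.id_comp _⟩, trivial⟩
    obtain ⟨φ0, -⟩ := hbase
    obtain ⟨ψ, -, hψ⟩ := hvers (ArtFun.Art.toBase A) hμ φ0 y (Subsingleton.elim _ _)
    exact ⟨ψ, hψ⟩
  have hne : Nonempty (ArtFun.HomSet R.carrier R.res A) :=
    ⟨⟨(Algebra.ofId k A).comp R.res, by
      apply AlgHom.ext
      intro r
      change A.res (algebraMap k A (R.res r)) = R.res r
      rw [AlgHom.commutes]
      rfl⟩⟩
  refine ⟨?_, ?_⟩
  · obtain ⟨φ⟩ := hne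
    exact ⟨ξ.app A φ⟩
  · constructor
    intro a b
    obtain ⟨φa, rfl⟩ := hsurj a
    obtain ⟨φb, rfl⟩ := hsurj b
    rw [Subsingleton.elim φa φb]

end Groth.Agent.S12249
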