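import Groth.Statements.S12252
import Groth.Agent.Lib.helper18.ArtComplete

set_option autoImplicit false
universe u v
open CategoryTheory
open Deform

namespace Groth.Agent.S12252

/-- Let k be an algebraically closed field, Λ a complete local Noetherian k-algebra with residue field k
and F a set-valued functor on local Artinian Λ-algebras with residue field k. If (R, u) and (S, v)
both prorepresent F (complete local Noetherian Λ-algebras with residue field k carrying universal
families), then there is a unique isomorphism of Λ-algebras R ≅ S, compatible with the augmentations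
to k, along which the universal family of R is transported to that of S. -/
theorem result
    {k Λ : Type u} [Field k] [IsAlgClosed k] [CommRing Λ] [IsLocalRing Λ] [IsNoetherianRing Λ]
    [IsAdicComplete (IsLocalRing.maximalIdeal Λ) Λ] [Algebra k Λ] [Algebra Λ k] [IsScalarTower k Λ k]
    {F : ArtFun.Art Λ k ⥤ Type v} (P Q : ArtFun.ProRep F) :
    ∃! e : P.ring.carrier ≃ₐ[Λ] Q.ring.carrier,
      ∃ he : Q.ring.res.comp e.toAlgHom = P.ring.res, P.family.along e.toAlgHom he = Q.family := by
  classical
  obtain ⟨g, ⟨hg, hgQ⟩, hguniq⟩ :=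
    Groth.Agent.H18.existsUnique_along_of_universal P.family P.universal Q.ring Q.family
  obtain ⟨h, ⟨hh, hhP⟩, _⟩ :=
    Groth.Agent.H18.existsUnique_along_of_universal Q.family Q.universal P.ring P.family
  obtain ⟨iP, _, hPuniq⟩ :=
    Groth.Agent.H18.existsUnique_along_of_universal P.family P.universal P.ring P.family
  obtain ⟨iQ, _, hQuniq⟩ :=
    Groth.Agent.H18.existsUnique_along_of_universal Q.family Q.universal Q.ring Q.family
  have hPid : h.comp g = AlgHom.id Λ P.ring.carrier := by
    have h1 : h.comp g = iP := by
      apply hPuniq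
      refine ⟨by rw [← AlgHom.comp_assoc, hh, hg], ?_⟩
      rw [← Groth.Agent.H18.Family.along_along P.family g hg h hh, hgQ, hhP]
    have h2 : AlgHom.id Λ P.ring.carrier = iP := by
      apply hPuniq
      exact ⟨AlgHom.comp_id _, Groth.Agent.H18.Family.along_id P.family⟩
    rw [h1, h2]
  have hQid : g.comp h = AlgHom.id Λ Q.ring.carrier := by
    have h1 : g.comp h = iQ := by
      apply hQuniq
      refine ⟨by rw [← AlgHom.comp_assoc, hg, hh], ?_⟩
      rw [← Groth.Agent.H18.Family.along_along Q.family h hh g hg, hhP, hgQ]
    have h2 : AlgHom.id Λ Q.ring.carrier = iQ := by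
      apply hQuniq
      exact ⟨AlgHom.comp_id _, Groth.Agent.H18.Family.along_id Q.family⟩
    rw [h1, h2]
  refine ⟨AlgEquiv.ofAlgHom g h hQid hPid, ⟨hg, hgQ⟩, ?_⟩
  rintro e' ⟨he', hfam⟩
  have h3 : e'.toAlgHom = g := hguniq e'.toAlgHom ⟨he', hfam⟩
  apply AlgEquiv.ext
  intro x
  exact congrArg (fun χ : P.ring.carrier →ₐ[Λ] Q.ring.carrier => χ x) h3

end Groth.Agent.S12252
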