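import Groth.Statements.S12253
import Groth.Agent.Lib.helper19.ArtGlue
import Groth.Agent.S12732

set_option autoImplicit false
universe u v
open CategoryTheory
open Deform

namespace Groth.Agent.S12253


theorem aux_surj {k Λ : Type u} [Field k] [CommRing Λ] [Algebra k Λ] [Algebra Λ k]
    [IsScalarTower k Λ k] : Function.Surjective (algebraMap Λ k) := by
  intro c
  refine ⟨algebraMap k Λ c, ?_⟩
  rw [← IsScalarTower.algebraMap_apply k Λ k c]
  rfl

theorem aux_hk {k Λ : Type u} [Field k] [CommRing Λ] [Algebra Λ k]
    (hs : Function.Surjective (algebraMap Λ k)) : Subsingleton (Derivation Λ k k) := by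
  constructor
  intro D₁ D₂
  ext c
  obtain ⟨l, rfl⟩ := hs c
  rw [D₁.map_algebraMap, D₂.map_algebraMap]

/-- Let k be an algebraically closed field, Λ a complete local Noetherian k-algebra with residue field k
and F a set-valued functor on local Artinian Λ-algebras with residue field k such that F(k) is a
single point, with its k-vector-space structure on F(k[ε]) given as data compatible with ε ↦ cε and
(ε₁, ε₂) ↦ (ε, ε). Then F is prorepresentable by a complete local Noetherian Λ-algebra with residue
field k if and only if F is left exact, i.e. the comparison map F(A' ×_A A'') → F(A') ×_{F(A)}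
F(A'') is bijective for every fibre-product square, and F(k[ε]) is finite-dimensional. -/
theorem result
    {k Λ : Type u} [Field k] [IsAlgClosed k] [CommRing Λ] [IsLocalRing Λ] [IsNoetherianRing Λ]
    [IsAdicComplete (IsLocalRing.maximalIdeal Λ) Λ] [Algebra k Λ] [Algebra Λ k] [IsScalarTower k Λ k]
    (F : ArtFun.Art Λ k ⥤ Type v) [ArtFun.TangentStr F] (h0 : ArtFun.H0 F) :
    ArtFun.IsProrepresentable F ↔ (ArtFun.IsLeftExact F ∧ ArtFun.Hfin F) := by
  have hs : Function.Surjective (algebraMap Λ k) := aux_surj
  haveI : Module.Finite Λ k := Module.Finite.of_surjective (Algebra.linearMap Λ k) hs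
  have hk := aux_hk hs
  constructor
  · intro hP
    obtain ⟨-, hL, h3⟩ := Groth.Agent.Lib.helper19.conditions_of_isProrepresentable hP
    exact ⟨hL, h3⟩
  · rintro ⟨hL, h3⟩
    have h1 : ArtFun.S1 F := fun B A A' A'' p' p'' f' f'' h _ => (hL p' p'' f' f'' h).2
    have h2 : ArtFun.Heps F := fun B A' p' p'' h => hL p' p'' _ _ h
    have hRS : Groth.Agent.Lib.helper19.RS F := fun B A A' A'' p' p'' f' f'' h _ => hL p' p'' f' f'' h
    exact Groth.Agent.Lib.helper19.isProrepresentable_of_rs hk h0 hRS h3
      (Groth.Agent.S12732.result hk F h0 h1 h2 h3)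

end Groth.Agent.S12253
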