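import Groth.Statements.S12257
import Mathlib.CategoryTheory.Limits.Types.Pullbacks
import Mathlib.CategoryTheory.Limits.Shapes.Pullback.IsPullback.Basic
import Mathlib.CategoryTheory.Limits.FunctorCategory.Basic

set_option autoImplicit false
universe u v
open CategoryTheory CategoryTheory.Limits
open Deform

namespace Groth.Agent.S12257

/-- Let k be an algebraically closed field, Λ a complete local Noetherian k-algebra with residue field
k, and F, G, H set-valued functors on local Artinian Λ-algebras with residue field k, each with
one-point value at k. If F → G is a smooth morphism of functors and H → G is any morphism, then the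
second projection F ×_G H → H of the fibre product of functors is smooth. -/
theorem result
    {k Λ : Type u} [Field k] [IsAlgClosed k] [CommRing Λ] [IsLocalRing Λ] [IsNoetherianRing Λ]
    [IsAdicComplete (IsLocalRing.maximalIdeal Λ) Λ] [Algebra k Λ] [Algebra Λ k] [IsScalarTower k Λ k]
    {F G H : ArtFun.Art Λ k ⥤ Type v} (η : F ⟶ G) (θ : H ⟶ G)
    (hF : ArtFun.H0 F) (hG : ArtFun.H0 G) (hH : ArtFun.H0 H) (hη : ArtFun.IsSmooth η) :
    ArtFun.IsSmooth (pullback.snd η θ) := by
  intro B A μ hμ y
  -- pointwise pullback squares
  have sqA : IsPullback ((pullback.fst η θ).app A) ((pullback.snd η θ).app A) (η.app A) (θ.app A) :=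
    (IsPullback.of_hasPullback η θ).map ((evaluation _ _).obj A)
  have sqB : IsPullback ((pullback.fst η θ).app B) ((pullback.snd η θ).app B) (η.app B) (θ.app B) :=
    (IsPullback.of_hasPullback η θ).map ((evaluation _ _).obj B)
  obtain ⟨⟨p, h'⟩, hy⟩ := y
  change (pullback.snd η θ).app A p = H.map μ h' at hy
  let x := (pullback.fst η θ).app A p
  have hx : η.app A x = G.map μ (θ.app B h') := by
    have e1 : η.app A x = θ.app A ((pullback.snd η θ).app A p) :=
      ConcreteCategory.congr_hom sqA.w p
    rw [e1, hy]
    exact NatTrans.naturality_apply θ μ h'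
  obtain ⟨x', hx'⟩ := hη μ hμ ⟨(x, θ.app B h'), hx⟩
  have hx1 : F.map μ x' = x := congrArg (fun t => t.1.1) hx'
  have hx2 : η.app B x' = θ.app B h' := congrArg (fun t => t.1.2) hx'
  obtain ⟨p', hp1, hp2⟩ := Limits.Types.exists_of_isPullback sqB x' h' hx2
  refine ⟨p', ?_⟩
  apply Subtype.ext
  apply Prod.ext
  · change (pullback η θ).map μ p' = p
    apply Limits.Types.ext_of_isPullback sqA
    · have := NatTrans.naturality_apply (pullback.fst η θ) μ p'
      rw [this, hp1, hx1]
    · have := NatTrans.naturality_apply (pullback.snd η θ) μ p'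
      rw [this, hp2, hy]
  · exact hp2

end Groth.Agent.S12257
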