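import Groth.Statements.S1227
import Mathlib
-- import your own Groth.Agent.* helpers here

set_option autoImplicit false
universe u
open FlatMor

namespace Groth.Agent.S1227

section helpers
open TensorProduct


variable {A : Type u} [CommRing A] {M N : Type u} [AddCommGroup M] [Module A M]
  [AddCommGroup N] [Module A N]

/-- For `M` projective, `1 ⊗ m = 0` in `B ⊗ M` iff all `φ m` die in `B`. -/
theorem one_tmul_eq_zero_iff [Module.Projective A M] (B : Type u) [CommRing B] [Algebra A B]
    (m : M) : (1 : B) ⊗ₜ[A] m = 0 ↔ ∀ φ : M →ₗ[A] A, algebraMap A B (φ m) = 0 := by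
  constructor
  · intro h φ
    have := congrArg (fun t => TensorProduct.rid A B (LinearMap.lTensor B φ t)) h
    simpa [Algebra.smul_def] using this
  · intro h
    obtain ⟨s, hs⟩ := Module.projective_def'.1 (inferInstance : Module.Projective A M)
    have hm : m = Finsupp.linearCombination A id (s m) := by
      have := LinearMap.congr_fun hs m
      simpa using this.symm
    rw [hm, Finsupp.linearCombination_apply, Finsupp.sum, TensorProduct.tmul_sum]
    apply Finset.sum_eq_zero
    intro i _
    have hi := h ((Finsupp.lapply i).comp s)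
    simp only [LinearMap.coe_comp, Function.comp_apply, Finsupp.lapply_apply] at hi
    rw [id, TensorProduct.tmul_smul, TensorProduct.smul_tmul', Algebra.smul_def, mul_one, hi,
      TensorProduct.zero_tmul]


end helpers

open TensorProduct in
/-- Let u be a surjective linear map from a projective A-module M to an A-module N. Then there is an
ideal I of A such that for every A-algebra B, the base change u ⊗ 1 from B ⊗ M to B ⊗ N is bijective
if and only if the image of I in B is zero. -/
theorem result {A : Type u} [CommRing A] {M N : Type u} [AddCommGroup M] [Module A M] [Module.Projective A M]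
    [AddCommGroup N] [Module A N] (u : M →ₗ[A] N) (hu : Function.Surjective u) :
    ∃ I : Ideal A, ∀ (B : Type u) [CommRing B] [Algebra A B],
      Function.Bijective (u.baseChange B) ↔ I.map (algebraMap A B) = ⊥ := by
  refine ⟨Ideal.span {a | ∃ (φ : M →ₗ[A] A) (k : M), u k = 0 ∧ a = φ k}, ?_⟩
  intro B _ _
  have hex : Function.Exact (LinearMap.ker u).subtype u := by
    intro m
    simp
  have hexB := lTensor_exact B hex hu
  have hsurj : Function.Surjective (u.baseChange B) := LinearMap.lTensor_surjective B hu
  -- the ideal condition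
  have hI : Ideal.map (algebraMap A B) (Ideal.span {a | ∃ (φ : M →ₗ[A] A) (k : M), u k = 0 ∧ a = φ k}) = ⊥ ↔
      ∀ (φ : M →ₗ[A] A) (k : M), u k = 0 → algebraMap A B (φ k) = 0 := by
    rw [Ideal.map_span, Ideal.span_eq_bot]
    constructor
    · intro h φ k hk
      exact h _ ⟨_, ⟨φ, k, hk, rfl⟩, rfl⟩
    · rintro h _ ⟨_, ⟨φ, k, hk, rfl⟩, rfl⟩
      exact h φ k hk
  rw [hI]
  constructor
  · intro hbij φ k hk
    have : (1 : B) ⊗ₜ[A] k = 0 := by
      apply hbij.1
      simp [hk]
    exact (one_tmul_eq_zero_iff B k).1 this φ
  · intro h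
    refine ⟨?_, hsurj⟩
    rw [← LinearMap.ker_eq_bot, eq_bot_iff]
    intro t ht
    have ht' : LinearMap.lTensor B u t = 0 := ht
    obtain ⟨w, rfl⟩ := (hexB t).1 ht'
    have hzero : LinearMap.lTensor B (LinearMap.ker u).subtype = 0 := by
      ext b ⟨k, hk⟩
      simp only [AlgebraTensorModule.curry_apply, curry_apply, LinearMap.coe_restrictScalars,
        LinearMap.lTensor_tmul, Submodule.subtype_apply, LinearMap.zero_apply]
      have h1 : (1 : B) ⊗ₜ[A] k = 0 := (one_tmul_eq_zero_iff B k).2 (fun φ => h φ k hk)
      have : b ⊗ₜ[A] k = b • ((1 : B) ⊗ₜ[A] k) := by simp [TensorProduct.smul_tmul']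
      rw [this, h1, smul_zero]
    rw [hzero]
    simp

end Groth.Agent.S1227
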