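import Groth.Statements.S12299
import Groth.Agent.Lib.helper18.ArtDualSep

set_option autoImplicit false
universe u v
open CategoryTheory
open ArtFun

namespace Groth.Agent.S12299

/-- Let k be an algebraically closed field, F a set-valued functor on local Artinian k-algebras with
residue field k, and (R, ξ) a miniversal family for F, with R a complete local Noetherian k-algebra
with residue field k: the morphism h_R → F has the lifting property along surjections and is
bijective on the dual numbers. Let S be a complete local Noetherian k-algebra with residue field k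
and g₁, g₂ : R → S two k-algebra maps compatible with the augmentations along which ξ induces the
same formal family over S (the same compatible sequence in the F(S/m^(n+1))). Then g₁ and g₂ induce
the same map R → S/m_S², so the map R/m_R² → S/m_S² attached to a formal family over S is well
defined. (Coefficient rings are taken Noetherian here.) -/
theorem result
    {k : Type u} [Field k] [IsAlgClosed k] {F : ArtFun.Art k k ⥤ Type v}
    (R : ArtFun.CRing k k) (ξ : ArtFun.Family R.carrier R.res F) (hξ : ArtFun.IsMiniversal ξ)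
    (S : ArtFun.CRing k k) (g₁ g₂ : R.carrier →ₐ[k] S.carrier)
    (hg₁ : S.res.comp g₁ = R.res) (hg₂ : S.res.comp g₂ = R.res)
    (h : (ξ.along g₁ hg₁).toFormalElt = (ξ.along g₂ hg₂).toFormalElt) :
    (S.truncHom 1).1.comp g₁ = (S.truncHom 1).1.comp g₂ := by
  -- the truncation `T = S / m^2`
  have hT : ∀ a b : (S.trunc 1), (S.trunc 1).res a = 0 → (S.trunc 1).res b = 0 → a * b = 0 := by
    intro a b ha hb
    obtain ⟨a', rfl⟩ := Ideal.Quotient.mk_surjective a
    obtain ⟨b', rfl⟩ := Ideal.Quotient.mk_surjective b
    have ha' : a' ∈ IsLocalRing.maximalIdeal S.carrier := (S.mem_maximalIdeal_iff a').2 ha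
    have hb' : b' ∈ IsLocalRing.maximalIdeal S.carrier := (S.mem_maximalIdeal_iff b').2 hb
    change Ideal.Quotient.mk (ArtFun.CRing.mpow S 1) a' * Ideal.Quotient.mk (ArtFun.CRing.mpow S 1) b' = 0
    rw [← map_mul, Ideal.Quotient.eq_zero_iff_mem]
    change a' * b' ∈ IsLocalRing.maximalIdeal S.carrier ^ (1 + 1)
    rw [pow_two]
    exact Ideal.mul_mem_mul ha' hb'
  let φ₁ : ArtFun.HomSet R.carrier R.res (S.trunc 1) :=
    ⟨(S.truncHom 1).1.comp g₁, by rw [← AlgHom.comp_assoc, (S.truncHom 1).2, hg₁]⟩
  let φ₂ : ArtFun.HomSet R.carrier R.res (S.trunc 1) :=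
    ⟨(S.truncHom 1).1.comp g₂, by rw [← AlgHom.comp_assoc, (S.truncHom 1).2, hg₂]⟩
  have hφ : ξ.app _ φ₁ = ξ.app _ φ₂ := congrArg (fun u => u.elt 1) h
  apply AlgHom.ext
  intro r
  apply Groth.Agent.H18.dual_separates (S.trunc 1) hT
  intro l
  have hl : ArtFun.HomSet.map l φ₁ = ArtFun.HomSet.map l φ₂ := by
    apply hξ.2.1
    rw [ξ.natural, ξ.natural, hφ]
  exact congrArg (fun ψ : ArtFun.HomSet R.carrier R.res (ArtFun.Art.dual k k) => ψ.1 r) hl

end Groth.Agent.S12299
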