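import Groth.Statements.S12300
-- import your own Groth.Agent.* helpers here

set_option autoImplicit false
universe u v
open CategoryTheory
open ArtFun

namespace Groth.Agent.S12300

/-- Let k be an algebraically closed field, F a set-valued functor on local Artinian k-algebras with
residue field k, and (R, ξ) a universal family for F (R complete local Noetherian with residue field
k and h_R → F bijective on every object). Let S be a complete local Noetherian k-algebra with
residue field k and g₁, g₂ : R → S two k-algebra maps compatible with the augmentations along which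
ξ induces the same formal family over S. Then g₁ = g₂: a formal family over S is induced from ξ by
at most one map R → S. (Coefficient rings are taken Noetherian here.) -/
theorem result
    {k : Type u} [Field k] [IsAlgClosed k] {F : ArtFun.Art k k ⥤ Type v}
    (R : ArtFun.CRing k k) (ξ : ArtFun.Family R.carrier R.res F) (hξ : ArtFun.IsUniversal ξ)
    (S : ArtFun.CRing k k) (g₁ g₂ : R.carrier →ₐ[k] S.carrier)
    (hg₁ : S.res.comp g₁ = R.res) (hg₂ : S.res.comp g₂ = R.res)
    (h : (ξ.along g₁ hg₁).toFormalElt = (ξ.along g₂ hg₂).toFormalElt) :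
    g₁ = g₂ := by
  have key : ∀ n : ℕ, ArtFun.HomSet.map (A := S.trunc n) (B := S.trunc n) (𝟙 _)
      (⟨(S.truncHom n).1.comp g₁, by rw [← AlgHom.comp_assoc, (S.truncHom n).2, hg₁]⟩ :
        ArtFun.HomSet R.carrier R.res (S.trunc n)) =
      ArtFun.HomSet.map (𝟙 _) (⟨(S.truncHom n).1.comp g₂, by rw [← AlgHom.comp_assoc, (S.truncHom n).2, hg₂]⟩ :
        ArtFun.HomSet R.carrier R.res (S.trunc n)) := by
    intro n
    congr 1
    apply (hξ (S.trunc n)).1
    have := congrArg (fun u => u.elt n) h
    exact this
  apply AlgHom.ext
  intro r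
  have hmem : ∀ n : ℕ, g₁ r - g₂ r ∈ IsLocalRing.maximalIdeal S.carrier ^ (n + 1) := by
    intro n
    have := congrArg (fun ψ : ArtFun.HomSet R.carrier R.res (S.trunc n) => ψ.1 r) (key n)
    have h2 : Ideal.Quotient.mk (ArtFun.CRing.mpow S n) (g₁ r) = Ideal.Quotient.mk (ArtFun.CRing.mpow S n) (g₂ r) := this
    rw [Ideal.Quotient.eq] at h2
    exact h2
  have hH : IsHausdorff (IsLocalRing.maximalIdeal S.carrier) S.carrier := S.isAdicComplete.toIsHausdorff
  have : g₁ r - g₂ r = 0 := by
    apply hH.haus
    intro n
    rw [SModEq.zero]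
    rw [smul_eq_mul, Ideal.mul_top]
    rcases n with _ | n
    · simp
    · exact hmem n
  exact sub_eq_zero.mp this

end Groth.Agent.S12300
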