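import Groth.Statements.S12301
import Groth.Agent.Lib.helper18.ArtComplete

set_option autoImplicit false
universe u v
open CategoryTheory
open ArtFun

namespace Groth.Agent.S12301

/-- Let k be an algebraically closed field, f : F₁ → F₂ a morphism of set-valued functors on local
Artinian k-algebras with residue field k, (R₁, ξ₁) a family for F₁ and (R₂, ξ₂) a versal family for
F₂, where R₁, R₂ are complete local Noetherian k-algebras with residue field k and versal is meant
in the strong sense: h_{R₂} → F₂ is surjective on every object and has the lifting property along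
surjections. Then there is a k-algebra map φ : R₂ → R₁, compatible with the augmentations, such that
for every local Artinian A and every u : R₁ → A the element of F₂(A) given by ξ₂ at u ∘ φ equals the
image under f of the element of F₁(A) given by ξ₁ at u; in other words composition with φ, h_{R₁} →
h_{R₂}, covers f. (The published statement assumes (R₁, ξ₁) versal as well; this row asks nothing of
ξ₁, which is all the argument uses, and takes the coefficient rings Noetherian.) -/
theorem result
    {k : Type u} [Field k] [IsAlgClosed k] {F₁ F₂ : ArtFun.Art k k ⥤ Type v} (f : F₁ ⟶ F₂)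
    (R₁ : ArtFun.CRing k k) (ξ₁ : ArtFun.Family R₁.carrier R₁.res F₁)
    (R₂ : ArtFun.CRing k k) (ξ₂ : ArtFun.Family R₂.carrier R₂.res F₂) (hξ₂ : ArtFun.IsVersal ξ₂)
    (hsurj : ∀ A : ArtFun.Art k k, Function.Surjective (ξ₂.app A)) :
    ∃ (φ : R₂.carrier →ₐ[k] R₁.carrier) (hφ : R₁.res.comp φ = R₂.res),
      ∀ (A : ArtFun.Art k k) (u : ArtFun.HomSet R₁.carrier R₁.res A),
        (ξ₂.along φ hφ).app A u = f.app A (ξ₁.app A u) := by
  classical
  -- the target elements
  let y : ∀ n, F₂.obj (R₁.trunc n) := fun n => f.app _ (ξ₁.app _ (R₁.truncHom n))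
  have hy : ∀ n, F₂.map (R₁.truncMap n) (y (n + 1)) = y n := by
    intro n
    simp only [y]
    rw [← NatTrans.naturality_apply f, ← ξ₁.natural, ArtFun.CRing.truncMap_truncHom]
  have hsurjMap : ∀ n, Function.Surjective (R₁.truncMap n) := by
    intro n x
    obtain ⟨a, rfl⟩ := Ideal.Quotient.mk_surjective x
    exact ⟨Ideal.Quotient.mk _ a, rfl⟩
  -- recursive construction
  let Φ : ∀ n, {φ : ArtFun.HomSet R₂.carrier R₂.res (R₁.trunc n) // ξ₂.app _ φ = y n} := fun n =>
    Nat.rec (motive := fun n => {φ : ArtFun.HomSet R₂.carrier R₂.res (R₁.trunc n) // ξ₂.app _ φ = y n})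
      ⟨Classical.choose (hsurj _ (y 0)), Classical.choose_spec (hsurj _ (y 0))⟩
      (fun n φn =>
        ⟨Classical.choose (hξ₂ (R₁.truncMap n) (hsurjMap n) φn.1 (y (n + 1)) ((hy n).trans φn.2.symm)),
          (Classical.choose_spec (hξ₂ (R₁.truncMap n) (hsurjMap n) φn.1 (y (n + 1)) ((hy n).trans φn.2.symm))).2⟩) n
  have hΦ : ∀ n, ArtFun.HomSet.map (R₁.truncMap n) (Φ (n + 1)).1 = (Φ n).1 := by
    intro n
    exact (Classical.choose_spec (hξ₂ (R₁.truncMap n) (hsurjMap n) (Φ n).1 (y (n + 1))
      ((hy n).trans (Φ n).2.symm))).1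
  obtain ⟨g, hg, hgn⟩ := Groth.Agent.H18.exists_lift_of_compatible R₂.res R₁ (fun n => (Φ n).1) hΦ
  refine ⟨g, hg, ?_⟩
  intro A u
  obtain ⟨n, v, rfl⟩ := Groth.Agent.H18.exists_factor_trunc R₁ A u
  rw [ξ₁.natural, NatTrans.naturality_apply f]
  have h1 : (ξ₂.along g hg).app A (ArtFun.HomSet.map v (R₁.truncHom n)) =
      F₂.map v (ξ₂.app _ (Φ n).1) := by
    rw [← ξ₂.natural]
    show ξ₂.app A _ = ξ₂.app A _
    congr 1
    apply Subtype.ext
    show (v.toAlgHom.comp (R₁.truncHom n).1).comp g = v.toAlgHom.comp (Φ n).1.1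
    rw [AlgHom.comp_assoc, hgn n]
  rw [h1, (Φ n).2]

end Groth.Agent.S12301
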