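import Groth.Statements.S12302
import Groth.Agent.Lib.helper18.ArtFibLift

set_option autoImplicit false
universe u v
open CategoryTheory
open ArtFun

namespace Groth.Agent.S12302

/-- Let k be an algebraically closed field, F a set-valued functor on local Artinian k-algebras with
residue field k, and ξ : h_R → F a versal family in the strong sense, over an augmented k-algebra R:
ξ is surjective on every object and has the lifting property along surjections. Then F(k) has
exactly one element, and for every fibre-product square B = A' ×_A A'' in which A'' → A is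
surjective, the comparison map F(B) → F(A') ×_{F(A)} F(A'') is surjective. (The published form of
the second assertion allows arbitrary maps A' → A, A'' → A; for the functor of principal ideals
inside the maximal ideal, which has such a versal family over k[[x]], surjectivity fails for the two
maps k[s]/(s⁴) → k[x,y]/(x,y)³ ← k[t]/(t⁴) sending s to x and t to x + xy, and the published
argument lifts along one of the two maps, so that map is taken surjective here. The published
statement also takes R complete local, which the argument does not use.) -/
theorem result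
    {k : Type u} [Field k] [IsAlgClosed k] {F : ArtFun.Art k k ⥤ Type v}
    {R : Type u} [CommRing R] [Algebra k R] {resR : R →ₐ[k] k}
    (ξ : ArtFun.Family R resR F) (hξ : ArtFun.IsVersal ξ)
    (hsurj : ∀ A : ArtFun.Art k k, Function.Surjective (ξ.app A)) :
    ArtFun.H0 F ∧ ArtFun.S1 F := by
  constructor
  · -- H0
    have hne : Nonempty (ArtFun.HomSet R resR (ArtFun.Art.base k k)) :=
      ⟨⟨resR, AlgHom.id_comp _⟩⟩
    have hss : Subsingleton (ArtFun.HomSet R resR (ArtFun.Art.base k k)) := by
      constructor
      intro a b
      apply Subtype.ext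
      have ha := a.2
      have hb := b.2
      have ha' : a.1 = resR := (AlgHom.id_comp _).symm.trans ha
      have hb' : b.1 = resR := (AlgHom.id_comp _).symm.trans hb
      exact ha'.trans hb'.symm
    refine ⟨?_, ?_⟩
    · obtain ⟨φ⟩ := hne
      exact ⟨ξ.app _ φ⟩
    · constructor
      intro a b
      obtain ⟨φa, rfl⟩ := hsurj _ a
      obtain ⟨φb, rfl⟩ := hsurj _ b
      rw [Subsingleton.elim φa φb]
  · -- S1
    intro B A A' A'' p' p'' f' f'' h hf'' y
    obtain ⟨⟨x', x''⟩, hxy⟩ := y
    change F.map f' x' = F.map f'' x'' at hxy
    obtain ⟨φ', rfl⟩ := hsurj A' x'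
    have hφ : F.map f'' x'' = ξ.app A (ArtFun.HomSet.map f' φ') := by
      rw [ξ.natural, hxy]
    obtain ⟨ψ, hψ1, hψ2⟩ := hξ f'' hf'' (ArtFun.HomSet.map f' φ') x'' hφ
    obtain ⟨χ, hχ1, hχ2⟩ := Groth.Agent.H18.fibreProd_exists_lift h φ' ψ hψ1.symm
    refine ⟨ξ.app B χ, ?_⟩
    apply ArtFun.FibProd.ext
    · change F.map p' (ξ.app B χ) = ξ.app A' φ'
      rw [← ξ.natural, hχ1]
    · change F.map p'' (ξ.app B χ) = x''
      rw [← ξ.natural, hχ2, hψ2]

end Groth.Agent.S12302
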