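import Groth.Statements.S12303
import Groth.Agent.Lib.helper18.ArtFibLift

set_option autoImplicit false
universe u v
open CategoryTheory
open ArtFun

namespace Groth.Agent.S12303

/-- Let k be an algebraically closed field, F a set-valued functor on local Artinian k-algebras with
residue field k, and ξ : h_R → F a miniversal family in the strong sense, over an augmented
k-algebra R: ξ is surjective on every object, has the lifting property along surjections, and is
bijective on the dual numbers k[ε]. Then for every object A and every fibre-product square B = A ×_k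
k[ε] over k, the comparison map F(B) → F(A) ×_{F(k)} F(k[ε]) is bijective. (The published statement
takes R complete local, which the argument does not use.) -/
theorem result
    {k : Type u} [Field k] [IsAlgClosed k] {F : ArtFun.Art k k ⥤ Type v}
    {R : Type u} [CommRing R] [Algebra k R] {resR : R →ₐ[k] k}
    (ξ : ArtFun.Family R resR F) (hξ : ArtFun.IsMiniversal ξ)
    (hsurj : ∀ A : ArtFun.Art k k, Function.Surjective (ξ.app A)) :
    ArtFun.Heps F := by
  intro B A' p' p'' h
  have hf'' : Function.Surjective (ArtFun.Art.toBase (ArtFun.Art.dual k k)) :=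
    (ArtFun.Art.dual k k).res_surjective
  have hp' : Function.Surjective p' := Groth.Agent.H18.fibreProd_fst_surjective h hf''
  constructor
  · -- injective
    intro z₁ z₂ hz
    have hz1 : F.map p' z₁ = F.map p' z₂ := congrArg (fun t => t.1.1) hz
    have hz2 : F.map p'' z₁ = F.map p'' z₂ := congrArg (fun t => t.1.2) hz
    obtain ⟨χ₁, rfl⟩ := hsurj B z₁
    have hφ : F.map p' z₂ = ξ.app A' (ArtFun.HomSet.map p' χ₁) := by
      rw [ξ.natural, hz1]
    obtain ⟨χ₂, hχ1, hχ2⟩ := hξ.1 p' hp' (ArtFun.HomSet.map p' χ₁) z₂ hφ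
    subst hχ2
    have h2 : ArtFun.HomSet.map p'' χ₁ = ArtFun.HomSet.map p'' χ₂ := by
      apply hξ.2.1
      rw [ξ.natural, ξ.natural, hz2]
    rw [Groth.Agent.H18.fibreProd_homSet_ext h χ₁ χ₂ hχ1.symm h2]
  · -- surjective
    intro y
    obtain ⟨⟨x', x''⟩, hxy⟩ := y
    change F.map (ArtFun.Art.toBase A') x' = F.map (ArtFun.Art.toBase (ArtFun.Art.dual k k)) x'' at hxy
    obtain ⟨φ', rfl⟩ := hsurj A' x'
    have hφ : F.map (ArtFun.Art.toBase (ArtFun.Art.dual k k)) x'' =
        ξ.app _ (ArtFun.HomSet.map (ArtFun.Art.toBase A') φ') := by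
      rw [ξ.natural, hxy]
    obtain ⟨ψ, hψ1, hψ2⟩ := hξ.1 _ hf'' (ArtFun.HomSet.map (ArtFun.Art.toBase A') φ') x'' hφ
    obtain ⟨χ, hχ1, hχ2⟩ := Groth.Agent.H18.fibreProd_exists_lift h φ' ψ hψ1.symm
    refine ⟨ξ.app B χ, ?_⟩
    apply ArtFun.FibProd.ext
    · change F.map p' (ξ.app B χ) = ξ.app A' φ'
      rw [← ξ.natural, hχ1]
    · change F.map p'' (ξ.app B χ) = x''
      rw [← ξ.natural, hχ2, hψ2]

end Groth.Agent.S12303
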