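import Groth.Statements.S1232
import Groth.Agent.Lib.helper14.WeakAssFin3


set_option autoImplicit false
universe u
open FlatMor

open Groth.Agent.Lib.H14.WeakAssFin Groth.Agent.H14 TensorProduct

namespace Groth.Agent.S1232

open TensorProduct in
/-- Let A → B be a finite flat ring map, M an A-module and t a prime of B lying over the prime p of A.
Then t is a weakly associated prime of the B-module B ⊗_A M if and only if p is a weakly associated
prime of M. -/
theorem result {A B : Type u} [CommRing A] [CommRing B] [Algebra A B] [Module.Finite A B] [Module.Flat A B]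
    (M : Type u) [AddCommGroup M] [Module A M] (p : Ideal A) [p.IsPrime] (t : Ideal B) [t.IsPrime] [t.LiesOver p] :
    t ∈ FlatCA.weakAss B (B ⊗[A] M) ↔ p ∈ FlatCA.weakAss A M := by
  constructor
  · intro ht
    exact step2 M p (mem_weakAss_of_finite p t ht)
  · rintro ⟨m, hm⟩
    refine ⟨(1 : B) ⊗ₜ[A] m, ?_⟩
    have hint : Algebra.IsIntegral A B := Algebra.IsIntegral.of_finite A B
    have hover : t.comap (algebraMap A B) = p := (Ideal.LiesOver.over (p := p) (P := t)).symm
    have hle : (Submodule.span B {(1 : B) ⊗ₜ[A] m}).annihilator ≤ t := by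
      refine le_trans (ann_tmul_le_of_flat m) ?_
      rw [Ideal.map_le_iff_le_comap, hover]
      exact hm.1.2
    refine ⟨⟨inferInstance, hle⟩, ?_⟩
    rintro t' ⟨ht'pr, ht'le⟩ ht't
    have h1 : (Submodule.span A {m}).annihilator ≤ t'.comap (algebraMap A B) := by
      intro a ha
      rw [mem_ann_span_singleton] at ha
      apply ht'le
      rw [mem_ann_span_singleton, algebraMap_smul, ← TensorProduct.tmul_smul, ha,
        TensorProduct.tmul_zero]
    have h2 : t'.comap (algebraMap A B) ≤ p := hover ▸ Ideal.comap_mono ht't
    have h3 : p ≤ t'.comap (algebraMap A B) := hm.2 ⟨Ideal.comap_isPrime _ _, h1⟩ h2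
    have h4 : t'.comap (algebraMap A B) = p := le_antisymm h2 h3
    by_contra hne
    have hlt : t' < t := lt_of_le_of_ne ht't (fun h => hne (h ▸ le_rfl))
    have := Ideal.IsIntegral.comap_lt_comap (R := A) hlt
    rw [h4, hover] at this
    exact lt_irrefl _ this

end Groth.Agent.S1232
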