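import Groth.Statements.S7490
import Mathlib

set_option autoImplicit false
open CategoryTheory CategoryTheory.Limits AlgebraicGeometry
universe u
open QuotSh

namespace Groth.Agent.S7490

/-- `V ↦ h_V` as a functor to sheaves. -/
noncomputable def Φ (K : Precoverage Scheme.{u}) (S : Scheme.{u}) : Over S ⥤ QuotSh.Sh K S :=
  (yoneda ⋙ (Functor.whiskeringRight _ _ _).obj uliftFunctor.{u + 1, u}) ⋙
    presheafToSheaf (QuotSh.J K S) (Type (u + 1))

theorem Φ_map (K : Precoverage Scheme.{u}) (S : Scheme.{u}) {V W : Over S} (g : V ⟶ W) :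
    (Φ K S).map g = QuotSh.repMap K g := rfl

noncomputable instance (K : Precoverage Scheme.{u}) (S : Scheme.{u}) :
    PreservesLimitsOfShape WalkingCospan (Φ K S) := by
  unfold Φ
  infer_instance

/-- The scheme-level fibre product is a fibre product in `Over S`. -/
theorem isPullback_over {S : Scheme.{u}} {U M : Over S} (q : U ⟶ M) :
    IsPullback (Over.homMk (pullback.fst q.left q.left) rfl :
        Over.mk (pullback.fst q.left q.left ≫ U.hom) ⟶ U)
      (Over.homMk (pullback.snd q.left q.left) (by
        change pullback.snd q.left q.left ≫ U.hom = pullback.fst q.left q.left ≫ U.hom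
        rw [← Over.w q, pullback.condition_assoc]) :
        Over.mk (pullback.fst q.left q.left ≫ U.hom) ⟶ U) q q := by
  refine ⟨⟨?_⟩, ⟨PullbackCone.IsLimit.mk _ (fun c => Over.homMk (pullback.lift c.fst.left c.snd.left
    (by rw [← Over.comp_left, ← Over.comp_left, c.condition])) ?_) ?_ ?_ ?_⟩⟩
  · ext
    exact pullback.condition
  · change pullback.lift c.fst.left c.snd.left _ ≫ pullback.fst q.left q.left ≫ U.hom = c.pt.hom
    rw [pullback.lift_fst_assoc, Over.w]
  · intro c
    ext
    exact pullback.lift_fst _ _ _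
  · intro c
    ext
    exact pullback.lift_snd _ _ _
  · intro c m h1 h2
    ext
    apply pullback.hom_ext
    · exact (congrArg (fun k => k.left) h1).trans
        (pullback.lift_fst (f := q.left) (g := q.left) c.fst.left c.snd.left _).symm
    · exact (congrArg (fun k => k.left) h2).trans
        (pullback.lift_snd (f := q.left) (g := q.left) c.fst.left c.snd.left _).symm


/-- Let K be a precoverage on schemes (the topology τ), S a scheme, s, t : R -> U morphisms of schemes
over S (a pre-relation) and q : U -> M a morphism over S such that (1) q coequalizes s and t, (2)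
the induced map of τ-sheaves h_U -> h_M is an epimorphism, and (3) the map h_R -> h_(U x_M U)
induced by (t, s) is an epimorphism of τ-sheaves. Then M, through q, represents the quotient sheaf
U/R: the canonical map from the coequalizer of h_s, h_t to h_M is an isomorphism. (The published
statement takes τ to be the Zariski, étale, fppf, smooth or syntomic topology; this row allows the
topology generated by any precoverage K.) -/
theorem result (K : Precoverage Scheme.{u}) {S : Scheme.{u}} {R U M : Over S} (s t : R ⟶ U) (q : U ⟶ M) (w : s ≫ q = t ≫ q) (w' : t.left ≫ q.left = s.left ≫ q.left) (h₂ : Epi (QuotSh.repMap K q)) (h₃ : Epi (QuotSh.repMap K (Over.homMk (pullback.lift t.left s.left w') (((Category.assoc _ _ _).symm.trans (congrArg (fun k => k ≫ U.hom) (pullback.lift_fst t.left s.left w'))).trans (Over.w t)) : R ⟶ Over.mk (pullback.fst q.left q.left ≫ U.hom)))) : QuotSh.IsQuotient K s t q := by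
  refine ⟨w, ?_⟩
  have hreg : EffectiveEpi (QuotSh.repMap K q) := by
    have := IsRegularEpiCategory.regularEpiOfEpi (QuotSh.repMap K q)
    rw [← isRegularEpi_iff_effectiveEpi]
    exact this
  have sqP := (isPullback_over q).map (Φ K S)
  simp only [Φ_map] at sqP
  set p₁ : Over.mk (pullback.fst q.left q.left ≫ U.hom) ⟶ U :=
    Over.homMk (pullback.fst q.left q.left) rfl with hp₁
  set p₂ : Over.mk (pullback.fst q.left q.left ≫ U.hom) ⟶ U :=
    Over.homMk (pullback.snd q.left q.left) (by
      change pullback.snd q.left q.left ≫ U.hom = pullback.fst q.left q.left ≫ U.hom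
      rw [← Over.w q, pullback.condition_assoc]) with hp₂
  set j : R ⟶ Over.mk (pullback.fst q.left q.left ≫ U.hom) :=
    Over.homMk (pullback.lift t.left s.left w') (((Category.assoc _ _ _).symm.trans
      (congrArg (fun k => k ≫ U.hom) (pullback.lift_fst t.left s.left w'))).trans (Over.w t)) with hj
  have hj1 : j ≫ p₁ = t := by
    ext
    exact pullback.lift_fst _ _ _
  have hj2 : j ≫ p₂ = s := by
    ext
    exact pullback.lift_snd _ _ _
  have hπ : QuotSh.repMap K p₁ ≫ QuotSh.quotπ K s t = QuotSh.repMap K p₂ ≫ QuotSh.quotπ K s t := by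
    rw [← cancel_epi (QuotSh.repMap K j)]
    have e1 : QuotSh.repMap K j ≫ QuotSh.repMap K p₁ = QuotSh.repMap K t := by
      have := (Φ K S).map_comp j p₁
      rw [hj1] at this
      exact this.symm
    have e2 : QuotSh.repMap K j ≫ QuotSh.repMap K p₂ = QuotSh.repMap K s := by
      have := (Φ K S).map_comp j p₂
      rw [hj2] at this
      exact this.symm
    rw [reassoc_of% e1, reassoc_of% e2, QuotSh.quot_condition]
  have hcond : ∀ {Z : QuotSh.Sh K S} (g₁ g₂ : Z ⟶ QuotSh.rep K U),
      g₁ ≫ QuotSh.repMap K q = g₂ ≫ QuotSh.repMap K q →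
      g₁ ≫ QuotSh.quotπ K s t = g₂ ≫ QuotSh.quotπ K s t := by
    intro Z g₁ g₂ h
    have e1 : sqP.lift g₁ g₂ h ≫ QuotSh.repMap K p₁ = g₁ := sqP.lift_fst _ _ _
    have e2 : sqP.lift g₁ g₂ h ≫ QuotSh.repMap K p₂ = g₂ := sqP.lift_snd _ _ _
    calc g₁ ≫ QuotSh.quotπ K s t
        = (sqP.lift g₁ g₂ h ≫ QuotSh.repMap K p₁) ≫ QuotSh.quotπ K s t := by rw [e1]
      _ = (sqP.lift g₁ g₂ h ≫ QuotSh.repMap K p₂) ≫ QuotSh.quotπ K s t :=
          (Category.assoc _ _ _).trans ((congrArg (fun k => sqP.lift g₁ g₂ h ≫ k) hπ).trans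
            (Category.assoc _ _ _).symm)
      _ = g₂ ≫ QuotSh.quotπ K s t := by rw [e2]
  have hfac := EffectiveEpi.fac (QuotSh.repMap K q) (QuotSh.quotπ K s t) hcond
  have hqd : QuotSh.quotπ K s t ≫ QuotSh.quotDesc K q w = QuotSh.repMap K q :=
    coequalizer.π_desc _ _
  refine ⟨EffectiveEpi.desc (QuotSh.repMap K q) (QuotSh.quotπ K s t) hcond, ?_, ?_⟩
  · apply coequalizer.hom_ext
    change QuotSh.quotπ K s t ≫ _ = QuotSh.quotπ K s t ≫ _
    rw [reassoc_of% hqd, hfac, Category.comp_id]
  · rw [← cancel_epi (QuotSh.repMap K q), reassoc_of% hfac, hqd, Category.comp_id]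

end Groth.Agent.S7490
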