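import Groth.Statements.S5224
import Mathlib
import Groth.Agent.S7490
import Groth.Agent.Lib.helper15.AlgSpQuotSh
import Groth.Agent.Lib.helper15.AlgSpQuot2
import Groth.Agent.Lib.helper15.AlgSpMono

set_option autoImplicit false
open CategoryTheory CategoryTheory.Limits AlgebraicGeometry
universe u
open GrpQ

namespace Groth.Agent.S5224

open Groth.Agent.Lib.H15.Quot Groth.Agent.Lib.H15.AS TensorProduct

theorem flat_codescends : RingHom.CodescendsAlong RingHom.Flat RingHom.FaithfullyFlat := by
  refine .mk _ RingHom.Flat.respectsIso fun R S T _ _ _ _ _ h h' ↦ ?_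
  rw [RingHom.flat_algebraMap_iff] at h' ⊢
  rw [RingHom.faithfullyFlat_algebraMap_iff] at h
  exact Module.Flat.of_flat_tensorProduct (R := R) (M := T) S

instance flatDescends :
    MorphismProperty.DescendsAlong @Flat.{u} (@Surjective ⊓ @Flat ⊓ @QuasiCompact) :=
  HasRingHomProperty.descendsAlong_flat flat_codescends

/-- Mathlib's categorical equivalence relations give equivalence relations on points. -/
theorem isEqvRel_of_isEquivalenceRelation {S : Scheme.{u}} {R U : Over S} (s t : R ⟶ U)
    [h : IsEquivalenceRelation s t] : AlgSp.IsEqvRel s t := by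
  obtain ⟨E⟩ := h.nonempty_equivalenceRelation
  refine ⟨fun T r r' h1 h2 => E.right_cancellation r r' h2 h1, fun T => ⟨?_, ?_, ?_⟩⟩
  · intro a
    exact ⟨a ≫ E.r, by rw [Category.assoc, E.reflexivity₂, Category.comp_id],
      by rw [Category.assoc, E.reflexivity₁, Category.comp_id]⟩
  · rintro a b ⟨r, rfl, rfl⟩
    exact ⟨r ≫ E.s, by rw [Category.assoc, E.symmetry₂], by rw [Category.assoc, E.symmetry₁]⟩
  · rintro a b d ⟨r₁, rfl, hb⟩ ⟨r₂, h₂, rfl⟩
    have hw : r₂ ≫ t = r₁ ≫ s := by rw [h₂, hb]
    refine ⟨PullbackCone.IsLimit.lift E.isLimit r₂ r₁ hw ≫ E.t, ?_, ?_⟩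
    · rw [Category.assoc, E.transitivity₂, PullbackCone.IsLimit.lift_snd_assoc]
    · rw [Category.assoc, E.transitivity₁, PullbackCone.IsLimit.lift_fst_assoc]

set_option backward.isDefEq.respectTransparency.types false in
/-- Descent of flat, surjective, lfp along local sections. -/
theorem descend {S : Scheme.{u}} {R U Y : Over S} (s t : R ⟶ U) (q : U ⟶ Y)
    [Flat s.left] [Surjective s.left] [LocallyOfFinitePresentation s.left]
    (kp : IsPullback s.left t.left q.left q.left) (hepi : Epi ((AlgSp.yon S).map q)) :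
    Flat q.left ∧ Surjective q.left ∧ LocallyOfFinitePresentation q.left := by
  obtain ⟨Sv, hSv, hl⟩ := exists_cover_lift ((AlgSp.yon S).map q) (𝟙 ((AlgSp.yon S).obj Y))
  have hpt : ∀ y : Y.left, ∃ (Y' : Over S) (f : Y' ⟶ Y) (σ : Y' ⟶ U), σ ≫ q = f ∧ Flat f.left ∧
      LocallyOfFinitePresentation f.left ∧ y ∈ Set.range f.left := by
    intro y
    obtain ⟨Y', f, hf, hfl, hlfp, hy⟩ := exists_mem_of_mem_J Sv hSv y
    obtain ⟨a, ha⟩ := hl f hf
    obtain ⟨σ, rfl⟩ := (AlgSp.yon S).map_surjective a
    refine ⟨Y', f, σ, ?_, hfl, hlfp, hy⟩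
    apply (AlgSp.yon S).map_injective
    rw [Functor.map_comp, ha, Category.comp_id]
  choose Y' f σ hσ hfl hlfp hy using hpt
  let g : (∐ fun y => (Y' y).left) ⟶ Y.left := Sigma.desc (fun y => (f y).left)
  let τ : (∐ fun y => (Y' y).left) ⟶ U.left := Sigma.desc (fun y => (σ y).left)
  have hτ : τ ≫ q.left = g := by
    apply Sigma.hom_ext
    intro y
    rw [Sigma.ι_desc_assoc, Sigma.ι_desc, ← Over.comp_left, hσ]
  have hg1 : Flat g := inferInstance
  have hg2 : LocallyOfFinitePresentation g := IsZariskiLocalAtSource.sigmaDesc (fun y => hlfp y)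
  have hg3 : Surjective g := ⟨fun y => by
    obtain ⟨z, hz⟩ := hy y
    exact ⟨Sigma.ι (fun y => (Y' y).left) y z, by
      rw [← Scheme.Hom.comp_apply, Sigma.ι_desc]; exact hz⟩⟩
  have hQ : (@Surjective ⊓ @Flat ⊓ @LocallyOfFinitePresentation : MorphismProperty Scheme.{u}) g :=
    ⟨⟨hg3, hg1⟩, hg2⟩
  have big := ((IsPullback.of_hasPullback τ s.left).flip.paste_horiz kp.flip).flip
  rw [hτ] at big
  refine ⟨?_, ?_, ?_⟩
  · exact MorphismProperty.of_isPullback_of_descendsAlong (P := @Flat)
      (Q := @Surjective ⊓ @Flat ⊓ @LocallyOfFinitePresentation) big hQ inferInstance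
  · exact MorphismProperty.of_isPullback_of_descendsAlong (P := @Surjective)
      (Q := @Surjective ⊓ @Flat ⊓ @LocallyOfFinitePresentation) big hQ inferInstance
  · exact MorphismProperty.of_isPullback_of_descendsAlong (P := @LocallyOfFinitePresentation)
      (Q := @Surjective ⊓ @Flat ⊓ @LocallyOfFinitePresentation) big hQ inferInstance

/-- From the quotient property: `h_R` is the kernel pair of `h_q`, which is an epimorphism. -/
theorem kernelPair_of_isQuotient {S : Scheme.{u}} {R U Y : Over S} (s t : R ⟶ U)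
    [IsEquivalenceRelation s t] (q : U ⟶ Y)
    (h : QuotSh.IsQuotient Scheme.fppfPrecoverage s t q) :
    IsPullback ((AlgSp.yon S).map s) ((AlgSp.yon S).map t) ((AlgSp.yon S).map q)
      ((AlgSp.yon S).map q) ∧ Epi ((AlgSp.yon S).map q) := by
  obtain ⟨w, hiso⟩ := h
  have hE := isEqvRelSp_of_isEqvRel s t (isEqvRel_of_isEquivalenceRelation s t)
  haveI h1 := isIso_lift_kernelPair _ _ hE
  let ψ : AlgSp.quotSp ((AlgSp.yon S).map s) ((AlgSp.yon S).map t) ⟶ (AlgSp.yon S).obj Y :=
    (quotIso s t).hom ≫ QuotSh.quotDesc Scheme.fppfPrecoverage q w ≫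
      (QuotSh.repIsoUliftYoneda Scheme.fppfPrecoverage Y).hom
  have hqd : QuotSh.quotπ Scheme.fppfPrecoverage s t ≫ QuotSh.quotDesc Scheme.fppfPrecoverage q w =
      QuotSh.repMap Scheme.fppfPrecoverage q := coequalizer.π_desc _ _
  have hψ : AlgSp.quotSpπ ((AlgSp.yon S).map s) ((AlgSp.yon S).map t) ≫ ψ = (AlgSp.yon S).map q := by
    change _ ≫ (quotIso s t).hom ≫ _ ≫ _ = _
    rw [← Category.assoc, π_quotIso_hom]
    unfold qp
    rw [Category.assoc, reassoc_of% hqd, ← Category.assoc, ← yon_map_repIso_inv, Category.assoc,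
      Iso.inv_hom_id, Category.comp_id]
  haveI : IsIso ψ := by
    change IsIso (_ ≫ _ ≫ _)
    infer_instance
  have sq0 : IsPullback ((AlgSp.yon S).map t) ((AlgSp.yon S).map s)
      (AlgSp.quotSpπ ((AlgSp.yon S).map s) ((AlgSp.yon S).map t))
      (AlgSp.quotSpπ ((AlgSp.yon S).map s) ((AlgSp.yon S).map t)) :=
    IsPullback.of_iso_pullback ⟨(AlgSp.quotSp_condition _ _).symm⟩
      (asIso (pullback.lift ((AlgSp.yon S).map t) ((AlgSp.yon S).map s)
        (AlgSp.quotSp_condition _ _).symm)) (pullback.lift_fst _ _ _) (pullback.lift_snd _ _ _)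
  have sq1 : IsPullback ((AlgSp.yon S).map t) ((AlgSp.yon S).map s) ((AlgSp.yon S).map q)
      ((AlgSp.yon S).map q) := by
    rw [← hψ]
    exact IsPullback.of_iso sq0 (Iso.refl _) (Iso.refl _) (Iso.refl _) (asIso ψ) (by simp) (by simp)
      (by simp) (by simp)
  refine ⟨sq1.flip, ?_⟩
  rw [← hψ]
  infer_instance

/-- `h_j` is an epimorphism if `j` is an isomorphism on underlying schemes. -/
theorem epi_repMap_of_isIso_left (K : Precoverage Scheme.{u}) {S : Scheme.{u}} {A B : Over S}
    (j : A ⟶ B) (h : IsIso j.left) : Epi (QuotSh.repMap K j) := by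
  haveI : IsIso ((Over.forget S).map j) := h
  haveI : IsIso j := isIso_of_reflects_iso j (Over.forget S)
  haveI : IsIso ((Groth.Agent.S7490.Φ K S).map j) := Functor.map_isIso _ _
  exact (inferInstance : Epi ((Groth.Agent.S7490.Φ K S).map j))


/-- For the fppf topology: let `s, t : R ⇉ U` be an equivalence relation of schemes over `S` with `s`
faithfully flat and locally of finite presentation. A morphism `q : U ⟶ Y` over `S` is a faithfully
flat, locally finitely presented quotient with kernel pair `R` if and only if `q` identifies `h_Y`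
with the fppf quotient sheaf `U/R`. -/
theorem result {S : Scheme.{u}} {R U Y : Over S} (s t : R ⟶ U)
    [IsEquivalenceRelation s t]
    [Flat s.left] [Surjective s.left] [LocallyOfFinitePresentation s.left]
    (q : U ⟶ Y) :
    (IsKernelPair q s t ∧ Flat q.left ∧ Surjective q.left ∧ LocallyOfFinitePresentation q.left) ↔
      QuotSh.IsQuotient Scheme.fppfPrecoverage s t q := by
  have key2 : ∀ {V W : Over S} (g : V ⟶ W),
      QuotSh.repMap Scheme.fppfPrecoverage g =
        (QuotSh.repIsoUliftYoneda Scheme.fppfPrecoverage V).hom ≫ (AlgSp.yon S).map g ≫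
          (QuotSh.repIsoUliftYoneda Scheme.fppfPrecoverage W).inv := by
    intro V W g
    rw [Groth.Agent.Lib.H15.Quot.yon_map_repIso_inv, Iso.hom_inv_id_assoc]
  constructor
  · rintro ⟨kp, hfl, hsurj, hlfp⟩
    have w : s ≫ q = t ≫ q := kp.w
    have w' : t.left ≫ q.left = s.left ≫ q.left := by
      rw [← Over.comp_left, ← Over.comp_left, w]
    have kpl : IsPullback s.left t.left q.left q.left := kp.map (Over.forget S)
    refine Groth.Agent.S7490.result Scheme.fppfPrecoverage s t q w w' ?_ ?_
    · have hls := Groth.Agent.Lib.H15.AS.isLocallySurjective_of_repWith_fppf ((AlgSp.yon S).map q)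
        ((AlgSp.repWith_yon_map_iff @Flat q).2 hfl)
        ((AlgSp.repWith_yon_map_iff @LocallyOfFinitePresentation q).2 hlfp)
        ((AlgSp.repWith_yon_map_iff @Surjective q).2 hsurj)
      have hepi : Epi ((AlgSp.yon S).map q) := inferInstance
      rw [key2 q]
      infer_instance
    · have e1 : pullback.lift t.left s.left w' = kpl.flip.isoPullback.hom := by
        apply pullback.hom_ext
        · rw [pullback.lift_fst, IsPullback.isoPullback_hom_fst]
        · rw [pullback.lift_snd, IsPullback.isoPullback_hom_snd]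
      have h1 : IsIso (pullback.lift t.left s.left w') := by rw [e1]; infer_instance
      exact epi_repMap_of_isIso_left _ _ h1
  · intro h
    obtain ⟨sqY, hepi⟩ := kernelPair_of_isQuotient s t q h
    obtain ⟨w, -⟩ := h
    have kp : IsKernelPair q s t := IsPullback.of_map (AlgSp.yon S) w sqY
    have kpl : IsPullback s.left t.left q.left q.left := kp.map (Over.forget S)
    obtain ⟨h1, h2, h3⟩ := descend s t q kpl hepi
    exact ⟨kp, h1, h2, h3⟩

end Groth.Agent.S5224
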