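import Groth.Statements.S5225
import Mathlib
import Groth.Agent.S5224
import Groth.Agent.S7490

set_option autoImplicit false
open CategoryTheory CategoryTheory.Limits AlgebraicGeometry
universe u
open GrpQ

namespace Groth.Agent.S5225

open Groth.Agent.S7490

/-- The presheaf of `V` (lifted). -/
noncomputable abbrev yo {S : Scheme.{u}} (V : Over S) : (Over S)ᵒᵖ ⥤ Type (u + 1) :=
  yoneda.obj V ⋙ uliftFunctor.{u + 1, u}

/-- The map of presheaves of `g`. -/
noncomputable abbrev yoMap {S : Scheme.{u}} {V W : Over S} (g : V ⟶ W) : yo V ⟶ yo W :=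
  Functor.whiskerRight (yoneda.map g) uliftFunctor.{u + 1, u}

theorem mem_J_of_arrows (P : MorphismProperty Scheme.{u}) {S : Scheme.{u}} {T T' : Over S}
    (f : T' ⟶ T) (hP : P f.left) (hs : Surjective f.left) (R : Sieve T) (hR : R f) :
    R ∈ QuotSh.J (Scheme.precoverage P) S T := by
  rw [GrothendieckTopology.mem_over_iff]
  refine GrothendieckTopology.superset_covering _ ?_
    (Precoverage.generate_mem_toGrothendieck (R := Presieve.singleton f.left) ?_)
  · rw [Sieve.generate_le_iff]
    rintro Z g ⟨⟩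
    exact ⟨T', f, 𝟙 _, hR, by simp⟩
  · rw [Scheme.singleton_mem_precoverage_iff]
    exact ⟨hs.surj, hP⟩

theorem epi_repMap_of_cover (P : MorphismProperty Scheme.{u}) [P.IsStableUnderBaseChange]
    {S : Scheme.{u}} {U Y : Over S} (q : U ⟶ Y) (hP : P q.left) (hs : Surjective q.left) :
    Epi (QuotSh.repMap (Scheme.precoverage P) q) := by
  have hls : Presheaf.IsLocallySurjective (QuotSh.J (Scheme.precoverage P) S) (yoMap q) := by
    constructor
    intro T y
    have hw : pullback.fst q.left y.down.left ≫ U.hom =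
        pullback.snd q.left y.down.left ≫ T.hom := by
      rw [← Over.w q, ← Over.w y.down, pullback.condition_assoc]
    let T' : Over S := Over.mk (pullback.snd q.left y.down.left ≫ T.hom)
    let f : T' ⟶ T := Over.homMk (pullback.snd q.left y.down.left) rfl
    let x : T' ⟶ U := Over.homMk (pullback.fst q.left y.down.left) hw
    have hxq : x ≫ q = f ≫ y.down := by
      ext
      exact pullback.condition
    refine mem_J_of_arrows P f (P.pullback_snd _ _ hP) ?_ _ ?_
    · change Surjective (pullback.snd q.left y.down.left)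
      infer_instance
    · refine ⟨⟨x⟩, ?_⟩
      apply ULift.ext
      exact hxq
  have h2 : Sheaf.IsLocallySurjective ((presheafToSheaf (QuotSh.J (Scheme.precoverage P) S)
      (Type (u + 1))).map (yoMap q)) :=
    (Presheaf.isLocallySurjective_presheafToSheaf_map_iff _ _).2 hls
  exact Sheaf.epi_of_isLocallySurjective _

theorem isIso_quotDesc_iff (K : Precoverage Scheme.{u}) {S : Scheme.{u}} {R U Y : Over S}
    (s t : R ⟶ U) (q : U ⟶ Y) (w : s ≫ q = t ≫ q) :
    IsIso (QuotSh.quotDesc K q w) ↔ ∀ (F : QuotSh.Sh K S) (x : yo U ⟶ F.obj),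
      yoMap s ≫ x = yoMap t ≫ x → ∃! y : yo Y ⟶ F.obj, yoMap q ≫ y = x := by
  let adj := sheafificationAdjunction (QuotSh.J K S) (Type (u + 1))
  have nat : ∀ {V W : Over S} (g : V ⟶ W) (F : QuotSh.Sh K S) (a : QuotSh.rep K W ⟶ F),
      adj.homEquiv _ F (QuotSh.repMap K g ≫ a) = yoMap g ≫ adj.homEquiv _ F a :=
    fun g F a => adj.homEquiv_naturality_left _ _
  have hqd : QuotSh.quotπ K s t ≫ QuotSh.quotDesc K q w = QuotSh.repMap K q :=
    coequalizer.π_desc _ _
  have hsq : QuotSh.repMap K s ≫ QuotSh.repMap K q = QuotSh.repMap K t ≫ QuotSh.repMap K q := by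
    exact ((Φ K S).map_comp s q).symm.trans ((congrArg (Φ K S).map w).trans ((Φ K S).map_comp t q))
  constructor
  · intro hiso F x hx
    obtain ⟨x', rfl⟩ := (adj.homEquiv _ F).surjective x
    have hc : QuotSh.repMap K s ≫ x' = QuotSh.repMap K t ≫ x' := by
      apply (adj.homEquiv _ F).injective
      rw [nat, nat, hx]
    let d : QuotSh.quot K s t ⟶ F := coequalizer.desc x' hc
    have hd : QuotSh.quotπ K s t ≫ d = x' := coequalizer.π_desc _ _
    refine ⟨adj.homEquiv _ F (inv (QuotSh.quotDesc K q w) ≫ d), ?_, ?_⟩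
    · change yoMap q ≫ _ = _
      rw [← nat, ← hqd, Category.assoc, IsIso.hom_inv_id_assoc, hd]
    · intro y hy
      obtain ⟨y', rfl⟩ := (adj.homEquiv _ F).surjective y
      congr 1
      rw [IsIso.eq_inv_comp]
      apply coequalizer.hom_ext
      change QuotSh.quotπ K s t ≫ _ = QuotSh.quotπ K s t ≫ _
      rw [reassoc_of% hqd, hd]
      apply (adj.homEquiv _ F).injective
      rw [nat]
      exact hy
  · intro H
    obtain ⟨y, hy, -⟩ := H (QuotSh.quot K s t) (adj.homEquiv _ _ (QuotSh.quotπ K s t))
      (by rw [← nat, ← nat, QuotSh.quot_condition])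
    obtain ⟨y', rfl⟩ := (adj.homEquiv _ _).surjective y
    rw [← nat] at hy
    have hy' : QuotSh.repMap K q ≫ y' = QuotSh.quotπ K s t := (adj.homEquiv _ _).injective hy
    refine ⟨y', ?_, ?_⟩
    · apply coequalizer.hom_ext
      change QuotSh.quotπ K s t ≫ _ = QuotSh.quotπ K s t ≫ _
      rw [reassoc_of% hqd, hy', Category.comp_id]
    · obtain ⟨z, -, hz⟩ := H (QuotSh.rep K Y) (adj.homEquiv _ _ (QuotSh.repMap K q))
        (by rw [← nat, ← nat, hsq])
      have e1 := hz (adj.homEquiv _ _ (y' ≫ QuotSh.quotDesc K q w))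
        (by change yoMap q ≫ _ = _; rw [← nat, reassoc_of% hy', hqd])
      have e2 := hz (adj.homEquiv _ _ (𝟙 _)) (by change yoMap q ≫ _ = _; rw [← nat, Category.comp_id])
      exact (adj.homEquiv _ _).injective (e1.trans e2.symm)

theorem J_le (S : Scheme.{u}) :
    QuotSh.J Scheme.etalePrecoverage S ≤ QuotSh.J Scheme.fppfPrecoverage S := by
  have hle : Scheme.etalePrecoverage.{u} ≤ Scheme.fppfPrecoverage.{u} := by
    rw [Scheme.etalePrecoverage, Scheme.fppfPrecoverage]
    exact Scheme.precoverage_mono (fun X Y f (hf : Etale f) => ⟨inferInstance, inferInstance⟩)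
  intro T R hR
  rw [GrothendieckTopology.mem_over_iff] at hR ⊢
  exact Precoverage.toGrothendieck_mono hle _ hR

theorem fppf_of_etale {S : Scheme.{u}} {R U Y : Over S} (s t : R ⟶ U) (q : U ⟶ Y)
    (h : QuotSh.IsQuotient Scheme.etalePrecoverage s t q) :
    QuotSh.IsQuotient Scheme.fppfPrecoverage s t q := by
  obtain ⟨w, hiso⟩ := h
  refine ⟨w, ?_⟩
  rw [isIso_quotDesc_iff] at hiso ⊢
  intro F x hx
  exact hiso ⟨F.obj, (isSheaf_iff_isSheaf_of_type _ _).2 (Presieve.isSheaf_of_le _ (J_le S)
    ((isSheaf_iff_isSheaf_of_type _ _).1 F.property))⟩ x hx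


/-- For the étale topology: let `s, t : R ⇉ U` be an equivalence relation of schemes over `S` with `s`
étale and surjective. A morphism `q : U ⟶ Y` over `S` is an étale surjective quotient with kernel
pair `R` if and only if `q` identifies `h_Y` with the étale quotient sheaf `U/R`. -/
theorem result {S : Scheme.{u}} {R U Y : Over S} (s t : R ⟶ U)
    [IsEquivalenceRelation s t] [Etale s.left] [Surjective s.left]
    (q : U ⟶ Y) :
    (IsKernelPair q s t ∧ Etale q.left ∧ Surjective q.left) ↔
      QuotSh.IsQuotient Scheme.etalePrecoverage s t q := by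
  constructor
  · rintro ⟨kp, het, hsurj⟩
    have w : s ≫ q = t ≫ q := kp.w
    have w' : t.left ≫ q.left = s.left ≫ q.left := by
      rw [← Over.comp_left, ← Over.comp_left, w]
    have kpl : IsPullback s.left t.left q.left q.left := kp.map (Over.forget S)
    refine Groth.Agent.S7490.result Scheme.etalePrecoverage s t q w w' ?_ ?_
    · exact epi_repMap_of_cover @Etale q het hsurj
    · have e1 : pullback.lift t.left s.left w' = kpl.flip.isoPullback.hom := by
        apply pullback.hom_ext
        · rw [pullback.lift_fst, IsPullback.isoPullback_hom_fst]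
        · rw [pullback.lift_snd, IsPullback.isoPullback_hom_snd]
      have h1 : IsIso (pullback.lift t.left s.left w') := by rw [e1]; infer_instance
      exact Groth.Agent.S5224.epi_repMap_of_isIso_left _ _ h1
  · intro h
    have hf := fppf_of_etale s t q h
    obtain ⟨kp, h1, h2, h3⟩ := (Groth.Agent.S5224.result s t q).2 hf
    have kpl : IsPullback s.left t.left q.left q.left := kp.map (Over.forget S)
    have hQ : (@Surjective ⊓ @Flat ⊓ @LocallyOfFinitePresentation :
        MorphismProperty Scheme.{u}) q.left := ⟨⟨h2, h1⟩, h3⟩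
    refine ⟨kp, ?_, h2⟩
    exact MorphismProperty.of_isPullback_of_descendsAlong (P := @Etale)
      (Q := @Surjective ⊓ @Flat ⊓ @LocallyOfFinitePresentation) kpl hQ inferInstance

end Groth.Agent.S5225
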