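import Groth.Statements.S12417
import Mathlib

set_option autoImplicit false
universe u
open CategoryTheory AlgebraicGeometry
open Props

namespace Groth.Agent.S12417

/-- Let X be a quasi-compact quasi-separated scheme and P a property of opens of X such that (a) P holds
for every affine open, and (b) whenever a quasi-compact open U has a finite affine open covering U =
V_1 ∪ … ∪ V_n with P holding for every intersection V_i ∩ V_j, P holds for U. Then P holds for every
quasi-compact open of X. -/
theorem result (X : Scheme.{u}) [CompactSpace X] [QuasiSeparatedSpace X]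
    (P : X.Opens → Prop) (ha : ∀ U : X.Opens, IsAffineOpen U → P U)
    (hb : ∀ (U : X.Opens) (n : ℕ) (V : Fin n → X.Opens), IsCompact (U : Set X) →
      (∀ i, IsAffineOpen (V i)) → ⨆ i, V i = U → (∀ i j, P (V i ⊓ V j)) → P U)
    (U : X.Opens) (hU : IsCompact (U : Set X)) : P U := by
  classical
  -- reindexed version of (b)
  have hb' : ∀ (U : X.Opens) (ι : Type u) [Finite ι] (V : ι → X.Opens), IsCompact (U : Set X) →
      (∀ i, IsAffineOpen (V i)) → ⨆ i, V i = U → (∀ i j, P (V i ⊓ V j)) → P U := by
    intro U ι _ V hUc hV hsup hP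
    obtain ⟨n, ⟨e⟩⟩ := Finite.exists_equiv_fin ι
    refine hb U n (fun i => V (e.symm i)) hUc (fun i => hV _) ?_ (fun i j => hP _ _)
    rw [← hsup]
    exact e.symm.iSup_comp (g := V)
  -- Step A: compact opens inside an affine open
  have stepA : ∀ (V W : X.Opens), IsAffineOpen V → W ≤ V → IsCompact (W : Set X) → P W := by
    intro V W hV hWV hWc
    have hex : ∀ x : W, ∃ f : Γ(X, V), X.basicOpen f ≤ W ∧ (x : X) ∈ X.basicOpen f :=
      fun x => hV.exists_basicOpen_le x (hWV x.2)
    choose f hf1 hf2 using hex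
    obtain ⟨t, ht⟩ := hWc.elim_finite_subcover (fun x : W => (X.basicOpen (f x) : Set X))
      (fun x => (X.basicOpen (f x)).isOpen) (fun y hy => Set.mem_iUnion.2 ⟨⟨y, hy⟩, hf2 ⟨y, hy⟩⟩)
    refine hb' W (ULift.{u} t) (fun i => X.basicOpen (f i.down.1)) hWc
      (fun i => hV.basicOpen _) ?_ ?_
    · apply le_antisymm
      · exact iSup_le fun i => hf1 _
      · intro y hy
        have := ht hy
        simp only [Set.mem_iUnion] at this
        obtain ⟨x, hxt, hyx⟩ := this
        exact TopologicalSpace.Opens.mem_iSup.2 ⟨⟨⟨x, hxt⟩⟩, hyx⟩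
    · intro i j
      rw [← X.basicOpen_mul]
      exact ha _ (hV.basicOpen _)
  -- Step B
  obtain ⟨s, hs, rfl⟩ := isCompact_iff_finite_and_eq_biUnion_affineOpens.mp hU
  have : Finite s := hs.to_subtype
  refine hb' _ (ULift.{u} s) (fun i => (i.down.1 : X.Opens)) hU (fun i => i.down.1.2) ?_ ?_
  · apply le_antisymm
    · exact iSup_le fun i => le_iSup₂_of_le i.down.1 i.down.2 le_rfl
    · exact iSup₂_le fun i hi => le_iSup_of_le (⟨⟨i, hi⟩⟩ : ULift.{u} s) le_rfl
  · intro i j
    apply stepA i.down.1 _ i.down.1.2 inf_le_left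
    exact QuasiSeparatedSpace.inter_isCompact _ _ (i.down.1 : X.Opens).isOpen i.down.1.2.isCompact
      (j.down.1 : X.Opens).isOpen j.down.1.2.isCompact

end Groth.Agent.S12417
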