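import Groth.Statements.S12418
-- import your own Groth.Agent.* helpers here

set_option autoImplicit false
universe u
open CAlg

namespace Groth.Agent.S12418

/-- Let R be a Noetherian ring and b ∈ R; for x outside the ideal (b) put I_x = ((b) : x), the ideal of
r with r x ∈ (b). If s ∉ (b) and I_s is maximal among the I_x (x ∉ (b)), then I_s is prime. -/
theorem result {R : Type u} [CommRing R] [IsNoetherianRing R]
    (b s : R) (hs : s ∉ Ideal.span {b})
    (hmax : ∀ x : R, x ∉ Ideal.span {b} →
      Submodule.colon (Ideal.span {b}) (Ideal.span {s}) ≤ Submodule.colon (Ideal.span {b}) (Ideal.span {x}) →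
      Submodule.colon (Ideal.span {b}) (Ideal.span {x}) = Submodule.colon (Ideal.span {b}) (Ideal.span {s})) :
    (Submodule.colon (Ideal.span {b}) (Ideal.span ({s} : Set R))).IsPrime := by
  have key : ∀ x r : R, r ∈ Submodule.colon (Ideal.span {b}) (Ideal.span ({x} : Set R)) ↔
      r * x ∈ Ideal.span {b} := by
    intro x r
    have := Submodule.mem_colon_span_singleton (N := (Ideal.span {b} : Ideal R)) (x := x) (r := r)
    simp only [smul_eq_mul] at this; exact this
  rw [Ideal.isPrime_iff]
  constructor
  · intro htop
    have h1 : (1 : R) ∈ Submodule.colon (Ideal.span {b}) (Ideal.span ({s} : Set R)) := by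
      rw [htop]; trivial
    rw [key] at h1
    simp at h1
    exact hs h1
  · intro r t hrt
    by_contra hcon
    push Not at hcon
    obtain ⟨hr, ht⟩ := hcon
    rw [key] at hrt hr ht
    have hle : Submodule.colon (Ideal.span {b}) (Ideal.span {s}) ≤
        Submodule.colon (Ideal.span {b}) (Ideal.span {t * s}) := by
      intro a ha
      rw [key] at ha ⊢
      have : a * (t * s) = t * (a * s) := by ring
      rw [this]
      exact Ideal.mul_mem_left _ _ ha
    have heq := hmax (t * s) ht hle
    have : r ∈ Submodule.colon (Ideal.span {b}) (Ideal.span {t * s}) := by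
      rw [key]
      have : r * (t * s) = r * t * s := by ring
      rw [this]; exact hrt
    rw [heq, key] at this
    exact hr this

end Groth.Agent.S12418
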