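import Groth.Statements.S12421
import Mathlib

set_option autoImplicit false
universe u
open TensorProduct
open Desc

namespace Groth.Agent.S12421

section
variable (R A : Type u) [CommRing R] [CommRing A] [Algebra R A]

/-- the action map `A ⊗ P → P`. -/
noncomputable def act (P : Type u) [AddCommGroup P] [Module R P] [Module A P] [IsScalarTower R A P] :
    A ⊗[R] P →ₗ[R] P :=
  TensorProduct.lift ((Algebra.lsmul R R P).toLinearMap)

@[simp] theorem act_tmul (P : Type u) [AddCommGroup P] [Module R P] [Module A P]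
    [IsScalarTower R A P] (a : A) (p : P) : act R A P (a ⊗ₜ p) = a • p := by
  simp [act]

variable (M : Type u) [AddCommGroup M] [Module R M]

/-- the contraction `c ⊗ (m ⊗ (a ⊗ n)) ↦ (c a) ⊗ (m ⊗ n)` -/
noncomputable def sig (N : Type u) [AddCommGroup N] [Module R N] :
    A ⊗[R] (M ⊗[R] (A ⊗[R] N)) →ₗ[R] A ⊗[R] (M ⊗[R] N) :=
  act R A (A ⊗[R] (M ⊗[R] N)) ∘ₗ LinearMap.lTensor A (TensorProduct.leftComm R M A N).toLinearMap

@[simp] theorem sig_tmul (N : Type u) [AddCommGroup N] [Module R N] (c a : A) (m : M) (n : N) :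
    sig R A M N (c ⊗ₜ (m ⊗ₜ (a ⊗ₜ n))) = (c * a) ⊗ₜ (m ⊗ₜ n) := by
  simp [sig, TensorProduct.smul_tmul']

noncomputable def d1 : M ⊗[R] A →ₗ[R] M ⊗[R] (A ⊗[R] A) :=
  LinearMap.lTensor M (Algebra.TensorProduct.includeRight : A →ₐ[R] A ⊗[R] A).toLinearMap -
    LinearMap.lTensor M (Algebra.TensorProduct.includeLeft : A →ₐ[R] A ⊗[R] A).toLinearMap

noncomputable def d2 : M ⊗[R] (A ⊗[R] A) →ₗ[R] M ⊗[R] (A ⊗[R] (A ⊗[R] A)) :=
  LinearMap.lTensor M (Algebra.TensorProduct.includeRight : A ⊗[R] A →ₐ[R] A ⊗[R] (A ⊗[R] A)).toLinearMap -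
    LinearMap.lTensor M (Algebra.TensorProduct.map (AlgHom.id R A)
      (Algebra.TensorProduct.includeRight : A →ₐ[R] A ⊗[R] A)).toLinearMap +
    LinearMap.lTensor M (Algebra.TensorProduct.map (AlgHom.id R A)
      (Algebra.TensorProduct.includeLeft : A →ₐ[R] A ⊗[R] A)).toLinearMap

theorem d2_comp_d1 : d2 R A M ∘ₗ d1 R A M = 0 := by
  ext m a
  simp [d1, d2]

theorem homotopy :
    (d1 R A M).lTensor A ∘ₗ sig R A M A + sig R A M (A ⊗[R] A) ∘ₗ (d2 R A M).lTensor A =
      LinearMap.id := by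
  ext c m a b
  simp [d1, d2]

theorem exact_lTensor : Function.Exact ((d1 R A M).lTensor A) ((d2 R A M).lTensor A) := by
  intro y
  constructor
  · intro hy
    have h := LinearMap.congr_fun (homotopy R A M) y
    simp only [LinearMap.add_apply, LinearMap.coe_comp, Function.comp_apply, LinearMap.id_coe,
      id_eq, hy, map_zero, add_zero] at h
    exact ⟨_, h⟩
  · rintro ⟨z, rfl⟩
    rw [← LinearMap.comp_apply, ← LinearMap.lTensor_comp, d2_comp_d1]
    simp

theorem exact [Module.FaithfullyFlat R A] : Function.Exact (d1 R A M) (d2 R A M) :=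
  (Module.FaithfullyFlat.lTensor_exact_iff_exact R A _ _).1 (exact_lTensor R A M)
end

/-- Let R → R' be faithfully flat and M an R-module. With δ¹ : M ⊗ R' → M ⊗ (R' ⊗ R'), m ⊗ r ↦ m ⊗ (1 ⊗
r) − m ⊗ (r ⊗ 1), and δ² : M ⊗ (R' ⊗ R') → M ⊗ (R' ⊗ (R' ⊗ R')), m ⊗ x ↦ m ⊗ (1 ⊗ x) − m ⊗ (ins₁ x)
+ m ⊗ (ins₂ x), where ins₁ (r₁ ⊗ r₂) = r₁ ⊗ (1 ⊗ r₂) and ins₂ (r₁ ⊗ r₂) = r₁ ⊗ (r₂ ⊗ 1), the
sequence M ⊗ R' → M ⊗ R'^{⊗2} → M ⊗ R'^{⊗3} is exact: the kernel of δ² is the image of δ¹. (The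
published statement asserts exactness of the whole complex; this row states exactness at M ⊗ R′ ⊗ R′
only.) -/
theorem result (R R' : Type u) [CommRing R] [CommRing R'] [Algebra R R']
    [Module.FaithfullyFlat R R'] (M : Type u) [AddCommGroup M] [Module R M] :
    Function.Exact
      (LinearMap.lTensor M (Algebra.TensorProduct.includeRight : R' →ₐ[R] R' ⊗[R] R').toLinearMap -
        LinearMap.lTensor M
          (Algebra.TensorProduct.includeLeft : R' →ₐ[R] R' ⊗[R] R').toLinearMap)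
      (LinearMap.lTensor M
          (Algebra.TensorProduct.includeRight : R' ⊗[R] R' →ₐ[R] R' ⊗[R] (R' ⊗[R] R')).toLinearMap -
        LinearMap.lTensor M
          (Algebra.TensorProduct.map (AlgHom.id R R')
            (Algebra.TensorProduct.includeRight : R' →ₐ[R] R' ⊗[R] R')).toLinearMap +
        LinearMap.lTensor M
          (Algebra.TensorProduct.map (AlgHom.id R R')
            (Algebra.TensorProduct.includeLeft : R' →ₐ[R] R' ⊗[R] R')).toLinearMap) := by
  exact exact R R' M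

end Groth.Agent.S12421
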