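import Groth.Statements.S1244
import Mathlib

set_option autoImplicit false
universe u
open FlatMor

namespace Groth.Agent.S1244

section Helpers

open AlgebraicGeometry CategoryTheory

section ring
variable {A : Type u} [CommRing A] {A' : ℕ → Type u} [∀ n, CommRing (A' n)]
    {φ : ∀ n, A' (n + 1) →+* A' n} {π : ∀ n, A →+* A' n}

/-- iterated transition map `A' n → A' 0`. -/
def down (φ : ∀ n, A' (n + 1) →+* A' n) : ∀ n, A' n →+* A' 0
  | 0 => RingHom.id _
  | n + 1 => (down φ n).comp (φ n)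

lemma down_comp_pi (hlim : FlatCA.IsRingLimit A A' φ π) (n : ℕ) :
    (down φ n).comp (π n) = π 0 := by
  induction n with
  | zero => rfl
  | succ n ih => rw [down, RingHom.comp_assoc, hlim.1 n, ih]

lemma down_surjective (hsurj : ∀ n, Function.Surjective (φ n)) (n : ℕ) :
    Function.Surjective (down φ n) := by
  induction n with
  | zero => exact Function.surjective_id
  | succ n ih => exact ih.comp (hsurj n)

lemma down_ker_nil (hnil : ∀ n, ∀ x ∈ RingHom.ker (φ n), IsNilpotent x) (n : ℕ) :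
    ∀ x ∈ RingHom.ker (down φ n), IsNilpotent x := by
  induction n with
  | zero =>
    intro x hx
    have : x = 0 := by simpa [down] using hx
    rw [this]; exact IsNilpotent.zero
  | succ n ih =>
    intro x hx
    have h1 : φ n x ∈ RingHom.ker (down φ n) := by
      rw [RingHom.mem_ker] at hx ⊢; simpa [down] using hx
    obtain ⟨k, hk⟩ := ih _ h1
    have h2 : x ^ k ∈ RingHom.ker (φ n) := by
      rw [RingHom.mem_ker, map_pow, hk]
    obtain ⟨m, hm⟩ := hnil n _ h2
    exact ⟨k * m, by rw [pow_mul, hm]⟩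

noncomputable def liftSeq (hsurj : ∀ n, Function.Surjective (φ n)) (y : A' 0) : ∀ n, A' n
  | 0 => y
  | n + 1 => (hsurj n (liftSeq hsurj y n)).choose

lemma liftSeq_spec (hsurj : ∀ n, Function.Surjective (φ n)) (y : A' 0) (n : ℕ) :
    φ n (liftSeq hsurj y (n + 1)) = liftSeq hsurj y n :=
  (hsurj n (liftSeq hsurj y n)).choose_spec

lemma pi_zero_surjective (hlim : FlatCA.IsRingLimit A A' φ π)
    (hsurj : ∀ n, Function.Surjective (φ n)) : Function.Surjective (π 0) := by
  intro y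
  obtain ⟨a, ha⟩ := hlim.2.2 (liftSeq hsurj y) (liftSeq_spec hsurj y)
  exact ⟨a, ha 0⟩

lemma isUnit_of_map_of_nil {R S : Type*} [CommRing R] [CommRing S] (f : R →+* S)
    (hf : Function.Surjective f) (hn : ∀ x ∈ RingHom.ker f, IsNilpotent x) (x : R)
    (hx : IsUnit (f x)) : IsUnit x := by
  obtain ⟨u, hu⟩ := hx
  obtain ⟨y, hy⟩ := hf (↑u⁻¹ : S)
  have h1 : x * y - 1 ∈ RingHom.ker f := by
    rw [RingHom.mem_ker, map_sub, map_mul, hy, ← hu, map_one]; simp
  have h2 : IsUnit (x * y) := by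
    have := (hn _ h1).isUnit_add_one
    simpa using this
  exact isUnit_of_mul_isUnit_left h2

lemma isUnit_of_pi_zero (hlim : FlatCA.IsRingLimit A A' φ π)
    (hsurj : ∀ n, Function.Surjective (φ n))
    (hnil : ∀ n, ∀ x ∈ RingHom.ker (φ n), IsNilpotent x) (a : A) (ha : IsUnit (π 0 a)) :
    IsUnit a := by
  have hu : ∀ n, IsUnit (π n a) := by
    intro n
    induction n with
    | zero => exact ha
    | succ n ih =>
      apply isUnit_of_map_of_nil (φ n) (hsurj n) (hnil n)
      have := hlim.1 n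
      have h2 : φ n (π (n + 1) a) = π n a := by rw [← this]; rfl
      rw [h2]; exact ih
  have hcompat : ∀ n, φ n (↑(hu (n + 1)).unit⁻¹ : A' (n + 1)) = (↑(hu n).unit⁻¹ : A' n) := by
    intro n
    have h2 : φ n (π (n + 1) a) = π n a := by rw [← hlim.1 n]; rfl
    have h3 : φ n (↑(hu (n + 1)).unit⁻¹ : A' (n + 1)) * π n a = 1 := by
      rw [← h2, ← map_mul]
      have : (↑(hu (n + 1)).unit⁻¹ : A' (n + 1)) * π (n + 1) a = 1 := by
        exact (hu (n+1)).val_inv_mul
      rw [this, map_one]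
    have h4 : (↑(hu n).unit⁻¹ : A' n) * π n a = 1 := (hu n).val_inv_mul
    calc φ n (↑(hu (n + 1)).unit⁻¹ : A' (n + 1))
        = φ n (↑(hu (n + 1)).unit⁻¹ : A' (n + 1)) * (π n a * (↑(hu n).unit⁻¹ : A' n)) := by
          rw [(hu n).mul_val_inv, mul_one]
      _ = (↑(hu n).unit⁻¹ : A' n) := by rw [← mul_assoc, h3, one_mul]
  obtain ⟨b, hb⟩ := hlim.2.2 (fun n => (↑(hu n).unit⁻¹ : A' n)) hcompat
  have : a * b = 1 := by
    apply hlim.2.1
    intro n
    rw [map_mul, hb n, map_one]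
    exact (hu n).mul_val_inv
  exact IsUnit.of_mul_eq_one _ this

lemma ker_pi_zero_le_of_isMaximal (hlim : FlatCA.IsRingLimit A A' φ π)
    (hsurj : ∀ n, Function.Surjective (φ n))
    (hnil : ∀ n, ∀ x ∈ RingHom.ker (φ n), IsNilpotent x) (m : Ideal A) [hm : m.IsMaximal] :
    RingHom.ker (π 0) ≤ m := by
  intro x hx
  by_contra hxm
  obtain ⟨a, y, hy, hsum⟩ := hm.exists_inv hxm
  have h1 : π 0 y = 1 := by
    have := congrArg (π 0) hsum
    rw [map_add, map_mul, (RingHom.mem_ker).mp hx, mul_zero, zero_add, map_one] at this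
    exact this
  have h2 : IsUnit y := isUnit_of_pi_zero hlim hsurj hnil y (by rw [h1]; exact isUnit_one)
  exact hm.ne_top (Ideal.eq_top_of_isUnit_mem _ hy h2)

/-- gluing ring homs into the limit. -/
lemma exists_ringHom_lift (hlim : FlatCA.IsRingLimit A A' φ π) {R : Type*} [CommRing R]
    (ρ : ∀ n, R →+* A' n) (hρ : ∀ n, (φ n).comp (ρ (n + 1)) = ρ n) :
    ∃ σ : R →+* A, ∀ n, (π n).comp σ = ρ n := by
  have hex : ∀ r : R, ∃ a : A, ∀ n, π n a = ρ n r := fun r =>
    hlim.2.2 (fun n => ρ n r) (fun n => by rw [← hρ n]; rfl)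
  choose s hs using hex
  refine ⟨{ toFun := s, map_one' := ?_, map_mul' := ?_, map_zero' := ?_, map_add' := ?_ }, ?_⟩
  · apply hlim.2.1; intro n; rw [hs, map_one, map_one]
  · intro x y; apply hlim.2.1; intro n; rw [hs, map_mul, map_mul, hs, hs]
  · apply hlim.2.1; intro n; rw [hs, map_zero, map_zero]
  · intro x y; apply hlim.2.1; intro n; rw [hs, map_add, map_add, hs, hs]
  · intro n; ext r; exact hs r n

end ring

section scheme
variable {A : Type u} [CommRing A] {A' : ℕ → Type u} [∀ n, CommRing (A' n)]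
    {φ : ∀ n, A' (n + 1) →+* A' n} {π : ∀ n, A →+* A' n}

lemma opens_eq_top (hlim : FlatCA.IsRingLimit A A' φ π)
    (hsurj : ∀ n, Function.Surjective (φ n))
    (hnil : ∀ n, ∀ x ∈ RingHom.ker (φ n), IsNilpotent x)
    (U : (Spec (CommRingCat.of A)).Opens)
    (hU : Set.range (Spec.map (CommRingCat.ofHom (π 0))) ⊆ (U : Set (Spec (CommRingCat.of A)))) :
    U = ⊤ := by
  by_contra hne
  obtain ⟨x, hx⟩ : ∃ x : Spec (CommRingCat.of A), x ∉ U := by
    by_contra hall
    push_neg at hall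
    exact hne (top_unique fun x _ => hall x)
  let x' : PrimeSpectrum A := x
  obtain ⟨m, hm, hxm⟩ := Ideal.exists_le_maximal x'.asIdeal x'.2.ne_top
  let y : PrimeSpectrum A := ⟨m, hm.isPrime⟩
  have hspec : x' ⤳ y := (PrimeSpectrum.le_iff_specializes x' y).mp hxm
  have hy : y ∈ Set.range (PrimeSpectrum.comap (π 0)) := by
    rw [range_comap_of_surjective _ _ (pi_zero_surjective hlim hsurj)]
    exact ker_pi_zero_le_of_isMaximal hlim hsurj hnil m
  have hyU : y ∈ (U : Set (Spec (CommRingCat.of A))) := by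
    obtain ⟨z, hz⟩ := hy
    apply hU
    exact ⟨z, hz⟩
  exact hx (hspec.mem_open U.2 hyU)

lemma exists_glue (hlim : FlatCA.IsRingLimit A A' φ π) {N : Scheme.{u}} [IsAffine N]
    (k : ∀ n, Spec (CommRingCat.of (A' n)) ⟶ N)
    (hk : ∀ n, Spec.map (CommRingCat.ofHom (φ n)) ≫ k (n + 1) = k n) :
    ∃ σ : Spec (CommRingCat.of A) ⟶ N, ∀ n, Spec.map (CommRingCat.ofHom (π n)) ≫ σ = k n := by
  let k' : ∀ n, Spec (CommRingCat.of (A' n)) ⟶ Spec Γ(N, ⊤) := fun n => k n ≫ N.isoSpec.hom
  let ρ : ∀ n, Γ(N, ⊤) ⟶ CommRingCat.of (A' n) := fun n => Spec.preimage (k' n)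
  have hρ : ∀ n, Spec.map (ρ n) = k' n := fun n => Spec.map_preimage _
  have hcompat : ∀ n, (φ n).comp (ρ (n + 1)).hom = (ρ n).hom := by
    intro n
    have : ρ (n + 1) ≫ CommRingCat.ofHom (φ n) = ρ n := by
      apply Spec.map_injective
      rw [Spec.map_comp, hρ, hρ]
      simp only [k']
      rw [← Category.assoc, hk]
    rw [← this]; rfl
  obtain ⟨σ, hσ⟩ := exists_ringHom_lift hlim (fun n => (ρ n).hom) hcompat
  refine ⟨Spec.map (CommRingCat.ofHom σ) ≫ N.isoSpec.inv, fun n => ?_⟩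
  rw [← Category.assoc, ← Spec.map_comp]
  have : CommRingCat.ofHom σ ≫ CommRingCat.ofHom (π n) = ρ n := by
    ext r
    exact congrArg (fun f => f r) (hσ n)
  rw [this, hρ]
  simp [k']

lemma hom_ext_lim (hlim : FlatCA.IsRingLimit A A' φ π) {N : Scheme.{u}} [IsAffine N]
    (σ σ' : Spec (CommRingCat.of A) ⟶ N)
    (h : ∀ n, Spec.map (CommRingCat.ofHom (π n)) ≫ σ = Spec.map (CommRingCat.ofHom (π n)) ≫ σ') :
    σ = σ' := by
  rw [← cancel_mono N.isoSpec.hom]
  obtain ⟨ρ, hρ⟩ := Spec.map_surjective (σ ≫ N.isoSpec.hom)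
  obtain ⟨ρ', hρ'⟩ := Spec.map_surjective (σ' ≫ N.isoSpec.hom)
  rw [← hρ, ← hρ']
  congr 1
  ext r
  apply hlim.2.1
  intro n
  have h1 : ρ ≫ CommRingCat.ofHom (π n) = ρ' ≫ CommRingCat.ofHom (π n) := by
    apply Spec.map_injective
    rw [Spec.map_comp, Spec.map_comp, hρ, hρ', ← Category.assoc, ← Category.assoc, h n]
  exact congrArg (fun f => f.hom r) h1

lemma isIso_of_quasiCompact (hlim : FlatCA.IsRingLimit A A' φ π)
    (hsurj : ∀ n, Function.Surjective (φ n))
    (hnil : ∀ n, ∀ x ∈ RingHom.ker (φ n), IsNilpotent x)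
    {T : Scheme.{u}} (h : T ⟶ Spec (CommRingCat.of A)) [Mono h] [LocallyOfFiniteType h]
    [QuasiCompact h]
    (g : ∀ n, Spec (CommRingCat.of (A' n)) ⟶ T)
    (hg : ∀ n, g n ≫ h = Spec.map (CommRingCat.ofHom (π n))) : IsIso h := by
  have hgc : ∀ n, Spec.map (CommRingCat.ofHom (φ n)) ≫ g (n + 1) = g n := by
    intro n
    rw [← cancel_mono h, Category.assoc, hg, hg, ← Spec.map_comp]
    congr 1
    ext r
    exact congrArg (fun f => f r) (hlim.1 n)
  haveI : IsAffine h.normalization := isAffine_of_isAffineHom h.fromNormalization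
  obtain ⟨σ', hσ'⟩ := exists_glue hlim (fun n => g n ≫ h.toNormalization)
    (fun n => by rw [← Category.assoc, hgc])
  have hσ'1 : σ' ≫ h.fromNormalization = 𝟙 _ := by
    apply hom_ext_lim hlim
    intro n
    rw [← Category.assoc, hσ', Category.assoc, h.toNormalization_fromNormalization, hg,
      Category.comp_id]
  have hU : σ' ⁻¹ᵁ h.toNormalization.opensRange = ⊤ := by
    apply opens_eq_top hlim hsurj hnil
    rintro _ ⟨x, rfl⟩
    show σ' (Spec.map _ x) ∈ Set.range h.toNormalization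
    have h0 := hσ' 0
    refine ⟨g 0 x, ?_⟩
    rw [← Scheme.Hom.comp_apply, ← Scheme.Hom.comp_apply, h0]
  have hrange : Set.range σ' ⊆ Set.range h.toNormalization := by
    rintro _ ⟨x, rfl⟩
    have : x ∈ σ' ⁻¹ᵁ h.toNormalization.opensRange := by rw [hU]; trivial
    exact this
  let σ := IsOpenImmersion.lift h.toNormalization σ' hrange
  have hσ : σ ≫ h.toNormalization = σ' := IsOpenImmersion.lift_fac _ _ _
  have h1 : σ ≫ h = 𝟙 _ := by
    rw [← h.toNormalization_fromNormalization, ← Category.assoc, hσ, hσ'1]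
  have h2 : h ≫ σ = 𝟙 _ := by
    rw [← cancel_mono h, Category.assoc, h1, Category.comp_id, Category.id_comp]
  exact ⟨σ, h2, h1⟩

end scheme

section main
variable {A : Type u} [CommRing A] {A' : ℕ → Type u} [∀ n, CommRing (A' n)]
    {φ : ∀ n, A' (n + 1) →+* A' n} {π : ∀ n, A →+* A' n}

lemma spec_down_surjective (hsurj : ∀ n, Function.Surjective (φ n))
    (hnil : ∀ n, ∀ x ∈ RingHom.ker (φ n), IsNilpotent x) (n : ℕ) :
    Function.Surjective (Spec.map (CommRingCat.ofHom (down φ n))) := by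
  intro x
  have : (x : PrimeSpectrum (A' n)) ∈ Set.range (PrimeSpectrum.comap (down φ n)) := by
    rw [range_comap_of_surjective _ _ (down_surjective hsurj n)]
    intro z hz
    obtain ⟨k, hk⟩ := down_ker_nil hnil n z hz
    exact Ideal.IsPrime.mem_of_pow_mem inferInstance k (by rw [hk]; exact Ideal.zero_mem _)
  obtain ⟨z, hz⟩ := this
  exact ⟨z, hz⟩

theorem main (hlim : FlatCA.IsRingLimit A A' φ π)
    (hsurj : ∀ n, Function.Surjective (φ n))
    (hnil : ∀ n, ∀ x ∈ RingHom.ker (φ n), IsNilpotent x)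
    {T : Scheme.{u}} (h : T ⟶ Spec (CommRingCat.of A)) [Mono h] [LocallyOfFiniteType h]
    (hsec : ∀ n, ∃ g : Spec (CommRingCat.of (A' n)) ⟶ T,
      g ≫ h = Spec.map (CommRingCat.ofHom (π n))) : IsIso h := by
  choose g hg using hsec
  -- compact range
  have hK : IsCompact (Set.range (g 0)) := isCompact_range (g 0).continuous
  -- cover by affine opens
  have hcov : Set.range (g 0) ⊆ ⋃ (V : T.affineOpens), ((V : T.Opens) : Set T) := by
    intro t _
    obtain ⟨_, ⟨V, hV, rfl⟩, htV, -⟩ := T.isBasis_affineOpens.exists_subset_of_mem_open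
      (Set.mem_univ t) isOpen_univ
    exact Set.mem_iUnion.mpr ⟨⟨V, hV⟩, htV⟩
  obtain ⟨s, hs⟩ := hK.elim_finite_subcover (fun V : T.affineOpens => ((V : T.Opens) : Set T))
    (fun V => (V : T.Opens).2) hcov
  let W : T.Opens := ⨆ V ∈ s, (V : T.Opens)
  have hWc : IsCompact (W : Set T) := by
    have : (W : Set T) = ⋃ V ∈ s, ((V : T.Opens) : Set T) := by
      simp [W]
    rw [this]
    exact s.isCompact_biUnion fun V _ => V.2.isCompact
  have hKW : Set.range (g 0) ⊆ (W : Set T) := by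
    intro t ht
    have := hs ht
    simpa [W] using this
  -- all g n land in W
  have hgd : ∀ n, Spec.map (CommRingCat.ofHom (down φ n)) ≫ g n = g 0 := by
    intro n
    rw [← cancel_mono h, Category.assoc, hg, hg, ← Spec.map_comp]
    congr 1
    ext r
    exact congrArg (fun f => f r) (down_comp_pi hlim n)
  have hgW : ∀ n, Set.range (g n) ⊆ Set.range W.ι := by
    intro n
    rintro _ ⟨x, rfl⟩
    obtain ⟨z, rfl⟩ := spec_down_surjective hsurj hnil n x
    rw [Scheme.Opens.range_ι]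
    apply hKW
    refine ⟨z, ?_⟩
    rw [← hgd n, Scheme.Hom.comp_apply]
  let g' : ∀ n, Spec (CommRingCat.of (A' n)) ⟶ W.toScheme := fun n =>
    IsOpenImmersion.lift W.ι (g n) (hgW n)
  have hg' : ∀ n, g' n ≫ W.ι = g n := fun n => IsOpenImmersion.lift_fac _ _ _
  haveI : CompactSpace W := isCompact_iff_compactSpace.mp hWc
  haveI : QuasiCompact (W.ι ≫ h) := by
    rw [HasAffineProperty.iff_of_isAffine (P := @QuasiCompact)]
    infer_instance
  haveI : IsIso (W.ι ≫ h) := isIso_of_quasiCompact hlim hsurj hnil (W.ι ≫ h) g'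
    (fun n => by rw [← Category.assoc, hg', hg])
  have h1 : (inv (W.ι ≫ h) ≫ W.ι) ≫ h = 𝟙 _ := by
    rw [Category.assoc, IsIso.inv_hom_id]
  have h2 : h ≫ (inv (W.ι ≫ h) ≫ W.ι) = 𝟙 _ := by
    rw [← cancel_mono h, Category.assoc, h1, Category.comp_id, Category.id_comp]
  exact ⟨_, h2, h1⟩

end main

end Helpers

open AlgebraicGeometry CategoryTheory in
/-- Let A be the limit of an inverse system of rings (A_n) indexed by the natural numbers whose
transition maps are surjective with locally nilpotent kernels. Let T → Spec A be a monomorphism of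
schemes which is locally of finite type. If each Spec A_n → Spec A factors through T, then T → Spec
A is an isomorphism. -/
theorem result {A : Type u} [CommRing A] (A' : ℕ → Type u) [∀ n, CommRing (A' n)]
    (φ : ∀ n, A' (n + 1) →+* A' n) (π : ∀ n, A →+* A' n) (hlim : FlatCA.IsRingLimit A A' φ π)
    (hsurj : ∀ n, Function.Surjective (φ n)) (hnil : ∀ n, ∀ x ∈ RingHom.ker (φ n), IsNilpotent x)
    {T : Scheme.{u}} (h : T ⟶ Spec (CommRingCat.of A)) [Mono h] [LocallyOfFiniteType h]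
    (hsec : ∀ n, ∃ g : Spec (CommRingCat.of (A' n)) ⟶ T, g ≫ h = Spec.map (CommRingCat.ofHom (π n))) :
    IsIso h := by
  exact main hlim hsurj hnil h hsec

end Groth.Agent.S1244
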