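import Groth.Statements.S12446
import Groth.Agent.Lib.helper26.CatSch

set_option autoImplicit false
universe u
open CategoryTheory AlgebraicGeometry
open Props

namespace Groth.Agent.S12446



/-- For a scheme X, the underlying topological space of X is catenary if and only if for every point x
the local ring O_{X,x} is a catenary ring. -/
theorem result (X : Scheme.{u}) :
    PtTop.IsCatenarySpace X ↔ ∀ x : X, CAlg.IsCatenary (X.presheaf.stalk x) := by
  exact Groth.Agent.Lib.helper26.CatOrd.isCatenarySpace_iff_stalks X

end Groth.Agent.S12446
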