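import Groth.Statements.S12451
import Groth.Agent.Lib.helper9.LocFree2

set_option autoImplicit false
universe u
open CategoryTheory AlgebraicGeometry
open Props

namespace Groth.Agent.S12451

open CategoryTheory CategoryTheory.Limits AlgebraicGeometry in
set_option backward.isDefEq.respectTransparency false in
lemma main {R : CommRingCat.{u}} (M : ModuleCat.{u} R) :
    FlatMod.IsFinLocFree (tilde M) ↔ Module.Finite R M ∧ Module.Projective R M := by
  haveI hqc : (tilde M).IsQuasicoherent := inferInstance
  constructor
  · intro h
    haveI hfp : SheafOfModules.IsFinitePresentation.{u} (tilde M) :=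
      Groth.Agent.Lib.helper9.LocFree.isFinitePresentation_of_isFinLocFree (tilde M) h
    haveI hfpM : Module.FinitePresentation R M :=
      Groth.Agent.Lib.helper9.TildeFin.finitePresentation_of_isFinitePresentation_tilde M
    refine ⟨inferInstance, ?_⟩
    apply Module.projective_of_localization_maximal
    intro I hI
    haveI : I.IsPrime := hI.isPrime
    let q : PrimeSpectrum R := ⟨I, hI.isPrime⟩
    obtain ⟨V, n, hqV, ⟨i⟩⟩ := h q
    haveI := Groth.Agent.Lib.helper9.LocFree.free_stalk_of_restrict_iso (tilde M) n i q hqV
    haveI : Module.Free (Localization.AtPrime q.asIdeal)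
        (LocalizedModule q.asIdeal.primeCompl M) :=
      (Groth.Agent.Lib.helper9.CohB.semiEquivTilde M q).symm.free
    show Module.Projective (Localization.AtPrime q.asIdeal)
        (LocalizedModule q.asIdeal.primeCompl M)
    exact Module.Projective.of_free
  · rintro ⟨hfin, hproj⟩
    haveI := hfin
    haveI := hproj
    haveI hfpM : Module.FinitePresentation R M := Module.finitePresentation_of_projective _ _
    haveI hfp : SheafOfModules.IsFinitePresentation.{u} (tilde M) :=
      Groth.Agent.Lib.helper9.TildeFin.isFinitePresentation_tilde_of_finitePresentation M
    intro x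
    let q : PrimeSpectrum R := x
    haveI : q.asIdeal.IsPrime := q.2
    haveI : Module.Free (Localization.AtPrime q.asIdeal)
        (LocalizedModule q.asIdeal.primeCompl M) := Module.free_of_flat_of_isLocalRing
    have hfree : Module.Free ((Spec R).presheaf.stalk q) ((tilde M).presheaf.stalk q) :=
      (Groth.Agent.Lib.helper9.CohB.semiEquivTilde M q).free
    exact Groth.Agent.Lib.helper9.LocFree.exists_nhd_restrict_iso_freeMod_of_fp (tilde M) x hfree


/-- For a commutative ring R and an R-module M, the associated quasi-coherent module M~ on Spec R is a
finite locally free O-module exactly when M is finitely generated and projective over R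
(equivalently, a finite locally free R-module). -/
theorem result {R : CommRingCat.{u}} (M : ModuleCat.{u} R) :
    FlatMod.IsFinLocFree (tilde M) ↔ Module.Finite R M ∧ Module.Projective R M := by
  exact main M

end Groth.Agent.S12451
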