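import Groth.Statements.S12452
import Groth.Agent.Lib.helper18.BasisHom
open Groth.Agent.H18.BasisHom

set_option autoImplicit false
universe u
open CategoryTheory TopologicalSpace Opposite
open ShSp

namespace Groth.Agent.S12452

/-- For sheaves of sets, let f : X → Y be a continuous map, F a sheaf of sets on X, G a sheaf of sets on
Y, and B_X, B_Y bases for the topologies of X and Y. Suppose given, for every V in B_Y and U in B_X
with U ⊆ f⁻¹V, a map φ_V^U : G(V) → F(U), compatibly with restrictions. Then there is exactly one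
morphism of sheaves ψ : G → f_*F (an f-map G → F) such that G(V) → F(f⁻¹V) → F(U) equals φ_V^U for
every such pair. -/
theorem result {X Y : TopCat.{u}} (f : X ⟶ Y) (F : X.Sheaf (Type u)) (G : Y.Sheaf (Type u))
    {BX : Set (Opens X)} (hBX : Opens.IsBasis BX) {BY : Set (Opens Y)} (hBY : Opens.IsBasis BY)
    (φ : ∀ (V : BY) (U : BX), (U : Opens X) ≤ (Opens.map f).obj V →
      (G.presheaf.obj (op (V : Opens Y)) → F.presheaf.obj (op (U : Opens X))))
    (hφ : ∀ (V V' : BY) (U U' : BX) (hUV : (U : Opens X) ≤ (Opens.map f).obj V)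
      (hU'V' : (U' : Opens X) ≤ (Opens.map f).obj V') (hV : (V' : Opens Y) ≤ V) (hU : (U' : Opens X) ≤ U)
      (s : G.presheaf.obj (op (V : Opens Y))),
      F.presheaf.map (homOfLE hU).op (φ V U hUV s) = φ V' U' hU'V' (G.presheaf.map (homOfLE hV).op s)) :
    ∃! ψ : G ⟶ (TopCat.Sheaf.pushforward (Type u) f).obj F,
      ∀ (V : BY) (U : BX) (hUV : (U : Opens X) ≤ (Opens.map f).obj V) (s : G.presheaf.obj (op (V : Opens Y))),
        F.presheaf.map (homOfLE hUV).op (ψ.1.app (op (V : Opens Y)) s) = φ V U hUV s := by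
  classical
  -- Step 1: for V ∈ BY, glue the φ V U s.
  have hex : ∀ (V : BY) (s : G.presheaf.obj (op (V : Opens Y))),
      ∃ t : F.presheaf.obj (op ((Opens.map f).obj (V : Opens Y))),
        ∀ (U : BX) (hU : (U : Opens X) ≤ (Opens.map f).obj V),
          F.presheaf.map (homOfLE hU).op t = φ V U hU s := by
    intro V s
    refine glue F hBX (fun U hU => φ V U hU s) ?_
    intro U U' hU hU' hle
    have := hφ V V U U' hU hU' le_rfl hle s
    rw [this, map_id' G.1]
  choose ψV hψV using hex
  -- naturality on the basis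
  have hnat : ∀ (V V' : BY) (hV : (V' : Opens Y) ≤ V) (s : G.presheaf.obj (op (V : Opens Y))),
      F.presheaf.map ((Opens.map f).map (homOfLE hV)).op (ψV V s) =
        ψV V' (G.presheaf.map (homOfLE hV).op s) := by
    intro V V' hV s
    apply eq_of_basis F hBX
    intro U hU
    have hU2 : (U : Opens X) ≤ (Opens.map f).obj V := hU.trans ((Opens.map f).map (homOfLE hV)).le
    rw [map_map' F.1 (homOfLE hU) ((Opens.map f).map (homOfLE hV)) (homOfLE hU2), hψV V s U hU2,
      hψV V' _ U hU]
    have := hφ V V' U U hU2 hU hV le_rfl s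
    rw [← this, map_id' F.1]
  have hrange : Opens.IsBasis (Set.range (Subtype.val : BY → Opens Y)) := by
    rw [Subtype.range_coe]; exact hBY
  let FF := (TopCat.Sheaf.pushforward (Type u) f).obj F
  let α : (inducedFunctor (Subtype.val : BY → Opens Y)).op ⋙ G.1 ⟶
      (inducedFunctor (Subtype.val : BY → Opens Y)).op ⋙ FF.1 :=
    { app := fun i => (↾(ψV (show BY from i.unop)) :
        G.1.obj (op ((show BY from i.unop) : Opens Y)) ⟶
          F.1.obj (op ((Opens.map f).obj ((show BY from i.unop) : Opens Y))))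
      naturality := by
        intro i j g
        ext s
        have := hnat (show BY from i.unop) (show BY from j.unop) g.unop.hom.le s
        exact this.symm }
  let ψ0 : G.1 ⟶ FF.1 := TopCat.Sheaf.restrictHomEquivHom G.1 FF hrange α
  have hψ0 : ∀ (V : BY), ψ0.app (op (V : Opens Y)) = α.app (op V) :=
    fun V => TopCat.Sheaf.extend_hom_app G.1 FF hrange α V
  refine ⟨⟨ψ0⟩, ?_, ?_⟩
  · intro V U hUV s
    show F.presheaf.map (homOfLE hUV).op (ψ0.app (op (V : Opens Y)) s) = φ V U hUV s
    rw [hψ0 V]
    exact hψV V s U hUV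
  · intro ψ' hψ'
    apply Sheaf.hom_ext
    show ψ'.1 = ψ0
    apply TopCat.Sheaf.hom_ext G.1 FF hrange
    intro V
    ext s
    apply eq_of_basis F hBX
    intro U hU
    have e1 := hψ' V U hU s
    refine e1.trans ?_
    rw [hψ0 V]
    exact (hψV V s U hU).symm

end Groth.Agent.S12452
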