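import Groth.Statements.S1434
import Mathlib

set_option autoImplicit false
universe u
open FlatMor

namespace Groth.Agent.S1434

section Helpers

open CategoryTheory CategoryTheory.Limits AlgebraicGeometry

/-- On a first order thickening, the product of two sections vanishing on the thin scheme is
zero. -/
theorem mul_eq_zero_of_app_eq_zero {T T' : Scheme.{u}} (t : T ⟶ T')
    (ht : MoreMor.IsFirstOrderThickening t) (W' : T'.Opens) (σ₁ σ₂ : Γ(T', W'))
    (h1 : t.app W' σ₁ = 0) (h2 : t.app W' σ₂ = 0) : σ₁ * σ₂ = 0 := by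
  haveI : IsClosedImmersion t := ht.1.1
  refine TopCat.Presheaf.section_ext T'.sheaf W' _ _ (fun x hx => ?_)
  obtain ⟨_, ⟨W : T'.Opens, hW, rfl⟩, hxW, hWW' : W ≤ W'⟩ :=
    T'.isBasis_affineOpens.exists_subset_of_mem_open hx W'.isOpen
  have hres : ∀ σ : Γ(T', W'), t.app W' σ = 0 →
      T'.presheaf.map (homOfLE hWW').op σ ∈ t.ker.ideal ⟨W, hW⟩ := by
    intro σ hσ
    rw [Scheme.Hom.ker_apply, RingHom.mem_ker]
    have := congr($(t.naturality (homOfLE hWW').op) σ)
    simp only [CommRingCat.comp_apply] at this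
    refine this.trans ?_
    rw [hσ, map_zero]
  have hprod : T'.presheaf.map (homOfLE hWW').op σ₁ * T'.presheaf.map (homOfLE hWW').op σ₂ = 0 := by
    have hmem := Ideal.mul_mem_mul (hres σ₁ h1) (hres σ₂ h2)
    have hbot := congr(($(ht.2)).ideal ⟨W, hW⟩)
    rw [Scheme.IdealSheafData.ideal_mul, Pi.mul_apply, Scheme.IdealSheafData.ideal_bot,
      Pi.bot_apply] at hbot
    rw [hbot] at hmem
    exact hmem
  change T'.presheaf.germ W' x hx (σ₁ * σ₂) = T'.presheaf.germ W' x hx 0
  rw [← TopCat.Presheaf.germ_res_apply T'.presheaf (homOfLE hWW') x hxW, map_mul, hprod,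
    map_zero, map_zero]

theorem main {X T T' : Scheme.{u}} (I : X.IdealSheafData) (t : T ⟶ T')
    (ht : MoreMor.IsFirstOrderThickening t) (a : T ⟶ I.subscheme) (b : T' ⟶ X)
    (w : a ≫ I.subschemeι = t ≫ b) :
    ∃! a' : T' ⟶ (I ^ 2).subscheme, a' ≫ (I ^ 2).subschemeι = b := by
  have H : (I ^ 2).subschemeι.ker ≤ b.ker := by
    rw [Scheme.IdealSheafData.ker_subschemeι]
    change I ^ 2 ≤ Scheme.IdealSheafData.ofIdeals _
    rw [Scheme.IdealSheafData.le_ofIdeals_iff]
    intro U
    rw [Scheme.IdealSheafData.ideal_pow, Pi.pow_apply, pow_two]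
    refine Ideal.mul_le.mpr (fun s₁ hs₁ s₂ hs₂ => ?_)
    have hI : I ≤ (t ≫ b).ker := by
      rw [← w]
      exact (I.ker_subschemeι).symm.le.trans (Scheme.Hom.le_ker_comp a I.subschemeι)
    have hk : ∀ s ∈ I.ideal U, t.app (b ⁻¹ᵁ U) (b.app U s) = 0 := by
      intro s hs
      have := Scheme.Hom.ideal_ker_le (t ≫ b) U (hI U hs)
      rw [RingHom.mem_ker] at this
      exact this
    rw [RingHom.mem_ker, map_mul]
    exact mul_eq_zero_of_app_eq_zero t ht _ _ _ (hk s₁ hs₁) (hk s₂ hs₂)
  refine ⟨IsClosedImmersion.lift (I ^ 2).subschemeι b H, IsClosedImmersion.lift_fac _ _ _, ?_⟩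
  intro a'' ha''
  rw [← cancel_mono (I ^ 2).subschemeι, ha'', IsClosedImmersion.lift_fac]

end Helpers

open AlgebraicGeometry CategoryTheory Limits in
/-- Part (1), for a closed subscheme: let Z ⊂ X be the closed subscheme cut out by an ideal sheaf I and
Z' the one cut out by I², its first order infinitesimal neighbourhood. Given a first order
thickening T → T', a morphism a : T → Z and a morphism b : T' → X compatible with them, there is a
unique morphism T' → Z' through which b factors (compatibility with a is then automatic). -/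
theorem result {X T T' : Scheme.{u}} (I : X.IdealSheafData) (t : T ⟶ T') (ht : MoreMor.IsFirstOrderThickening t)
    (a : T ⟶ I.subscheme) (b : T' ⟶ X) (w : a ≫ I.subschemeι = t ≫ b) :
    ∃! a' : T' ⟶ (I ^ 2).subscheme, a' ≫ (I ^ 2).subschemeι = b := by
  exact main I t ht a b w

end Groth.Agent.S1434
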