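import Groth.Statements.S12456
import Mathlib
import Groth.Agent.S1434

set_option autoImplicit false
universe u
open CategoryTheory AlgebraicGeometry
open OmegaSh

namespace Groth.Agent.S12456

section Helpers

open CategoryTheory CategoryTheory.Limits AlgebraicGeometry

theorem firstOrder_inclusion {X : Scheme.{u}} (I : X.IdealSheafData) (h : I ^ 2 ≤ I) :
    MoreMor.IsFirstOrderThickening (Scheme.IdealSheafData.inclusion h) := by
  set k := Scheme.IdealSheafData.inclusion h with hk
  have hkι : k ≫ (I ^ 2).subschemeι = I.subschemeι := Scheme.IdealSheafData.inclusion_subschemeι h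
  haveI : IsClosedImmersion (k ≫ (I ^ 2).subschemeι) := by rw [hkι]; infer_instance
  haveI : IsClosedImmersion k := IsClosedImmersion.of_comp_isClosedImmersion k (I ^ 2).subschemeι
  refine ⟨⟨inferInstance, ⟨fun p => ?_⟩⟩, ?_⟩
  · have hp : (I ^ 2).subschemeι p ∈ ((I ^ 2).support : Set X) := by
      rw [← Scheme.IdealSheafData.range_subschemeι]; exact ⟨p, rfl⟩
    rw [Scheme.IdealSheafData.support_pow _ _ (by norm_num),
      ← Scheme.IdealSheafData.range_subschemeι] at hp
    obtain ⟨q, hq⟩ := hp
    refine ⟨q, (I ^ 2).subschemeι.injective ?_⟩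
    rw [← Scheme.Hom.comp_apply, hkι, hq]
  · refine le_bot_iff.mp ?_
    refine Scheme.IdealSheafData.le_of_iSup_eq_top
      (fun U' : X.affineOpens => (⟨(I ^ 2).subschemeι ⁻¹ᵁ U'.1, U'.2.preimage _⟩ :
        (I ^ 2).subscheme.affineOpens)) ?_ (fun U' => ?_)
    · rw [← Scheme.Hom.preimage_iSup, iSup_affineOpens_eq_top]
      rfl
    · rw [Scheme.IdealSheafData.ideal_mul, Pi.mul_apply, Scheme.IdealSheafData.ideal_bot,
        Pi.bot_apply, Scheme.Hom.ker_apply]
      refine Ideal.mul_le.mpr (fun x hx y hy => ?_)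
      rw [RingHom.mem_ker] at hx hy
      obtain ⟨x', rfl⟩ := (I ^ 2).subschemeι.app_surjective U'.1 U'.2 x
      obtain ⟨y', rfl⟩ := (I ^ 2).subschemeι.app_surjective U'.1 U'.2 y
      have hmem : ∀ z : Γ(X, U'.1), k.app ((I ^ 2).subschemeι ⁻¹ᵁ U'.1)
          ((I ^ 2).subschemeι.app U'.1 z) = 0 → z ∈ I.ideal U' := by
        intro z hz
        have h1 : (k ≫ (I ^ 2).subschemeι).app U'.1 z = 0 := by
          rw [Scheme.Hom.comp_app]
          exact hz
        have h2 : z ∈ (k ≫ (I ^ 2).subschemeι).ker.ideal U' := by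
          rw [Scheme.Hom.ker_apply, RingHom.mem_ker]
          exact h1
        rw [hkι, Scheme.IdealSheafData.ker_subschemeι] at h2
        exact h2
      have hxy : x' * y' ∈ (I ^ 2).ideal U' := by
        rw [Scheme.IdealSheafData.ideal_pow, Pi.pow_apply, pow_two]
        exact Ideal.mul_mem_mul (hmem x' hx) (hmem y' hy)
      rw [← Scheme.IdealSheafData.ker_subschemeι (I ^ 2), Scheme.Hom.ker_apply,
        RingHom.mem_ker, map_mul] at hxy
      rw [Submodule.mem_bot]
      exact hxy

theorem main {X : Scheme.{u}} (U : X.Opens) (I : (U : Scheme.{u}).IdealSheafData)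
    (h : I ^ 2 ≤ I) :
    OmegaSh.IsUnivThickening (I.subschemeι ≫ U.ι) (Scheme.IdealSheafData.inclusion h)
      ((I ^ 2).subschemeι ≫ U.ι) := by
  refine ⟨firstOrder_inclusion I h, Scheme.IdealSheafData.inclusion_subschemeι_assoc h _, ?_⟩
  intro T T' j b a hj hb
  haveI : Surjective j := hj.1.2
  have hrange : Set.range b ⊆ Set.range U.ι := by
    rintro _ ⟨p, rfl⟩
    obtain ⟨q, rfl⟩ := j.surjective p
    rw [← Scheme.Hom.comp_apply, hb]
    simp only [Scheme.Hom.comp_apply]
    exact ⟨_, rfl⟩
  let bU : T' ⟶ U.toScheme := IsOpenImmersion.lift U.ι b hrange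
  have hbU : bU ≫ U.ι = b := IsOpenImmersion.lift_fac _ _ _
  have hw : a ≫ I.subschemeι = j ≫ bU := by
    rw [← cancel_mono U.ι, Category.assoc, Category.assoc, hbU, hb]
  obtain ⟨a', ha', hu⟩ := Groth.Agent.S1434.main I j hj a bU hw
  refine ⟨a', ⟨?_, ?_⟩, ?_⟩
  · rw [← cancel_mono (I ^ 2).subschemeι, Category.assoc, ha', Category.assoc,
      Scheme.IdealSheafData.inclusion_subschemeι, hw]
  · rw [← Category.assoc, ha', hbU]
  · rintro a'' ⟨-, h2⟩
    apply hu
    rw [← cancel_mono U.ι, Category.assoc, h2, hbU]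

end Helpers

/-- Let i : Z → X be an immersion, written as the closed subscheme of an open U ⊆ X cut out by an ideal
sheaf I followed by the inclusion of U. Then the first order infinitesimal neighbourhood of Z in X —
the closed subscheme of U cut out by I² — together with Z ⊂ V(I²) and V(I²) → U → X is a universal
first order thickening of Z over X. (The inequality I² ≤ I is carried as an argument h; it always
holds.) -/
theorem result {X : Scheme.{u}} (U : X.Opens) (I : (U : Scheme.{u}).IdealSheafData)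
    (h : I ^ 2 ≤ I) :
    OmegaSh.IsUnivThickening (I.subschemeι ≫ U.ι) (Scheme.IdealSheafData.inclusion h)
      ((I ^ 2).subschemeι ≫ U.ι) := by
  exact main U I h

end Groth.Agent.S12456
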