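import Groth.Statements.S12462
import Mathlib

set_option autoImplicit false
universe u
open CategoryTheory CategoryTheory.Limits
open SpecSp

namespace Groth.Agent.S12462

section Helpers

open CategoryTheory CategoryTheory.Limits TopologicalSpace Topology

theorem quasiSober_of_finite (Y : Type*) [TopologicalSpace Y] [Finite Y] : QuasiSober Y := by
  classical
  refine ⟨fun {S} hS hSc => ?_⟩
  have hfin : S.Finite := Set.toFinite S
  have hcov : S ⊆ ⋃₀ ↑(hfin.toFinset.image fun z => closure ({z} : Set Y)) := by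
    intro z hz
    simp only [Finset.coe_image, Set.Finite.coe_toFinset, Set.sUnion_image, Set.mem_iUnion,
      exists_prop]
    exact ⟨z, hz, subset_closure rfl⟩
  obtain ⟨Z, hZ, hSZ⟩ := isIrreducible_iff_sUnion_isClosed.1 hS _
    (by
      intro z hz
      simp only [Finset.mem_image] at hz
      obtain ⟨w, -, rfl⟩ := hz
      exact isClosed_closure) hcov
  simp only [Finset.mem_image, Set.Finite.mem_toFinset] at hZ
  obtain ⟨z, hz, rfl⟩ := hZ
  refine ⟨z, ?_⟩
  exact le_antisymm (hSc.closure_subset_iff.2 (by simpa using hz)) hSZ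

variable (X : Type u) [TopologicalSpace X]

/-- quasi-compact opens -/
abbrev KO := {U : Opens X // IsCompact (U : Set X)}

/-- index set -/
abbrev J := Finset (KO X)

variable {X}

def φ (s : J X) (x : X) : (↥s → Prop) := fun U => x ∈ U.1.1

theorem continuous_φ (s : J X) : Continuous (φ s) := by
  refine continuous_pi fun U => ?_
  rw [continuous_Prop]
  exact U.1.1.isOpen

def obj (s : J X) : TopCat.{u} := TopCat.of (Set.range (φ s))

def resFun {s t : J X} (h : s ≤ t) (ξ : Set.range (φ t)) : Set.range (φ s) :=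
  ⟨fun U => ξ.1 ⟨U.1, h U.2⟩, by
    obtain ⟨x, hx⟩ := ξ.2
    exact ⟨x, by rw [← hx]; rfl⟩⟩

theorem continuous_resFun {s t : J X} (h : s ≤ t) : Continuous (resFun h) := by
  refine Continuous.subtype_mk (continuous_pi fun U => ?_) _
  exact (continuous_apply _).comp continuous_subtype_val

def res {s t : J X} (h : s ≤ t) : obj t ⟶ obj s := TopCat.ofHom ⟨resFun h, continuous_resFun h⟩

variable (X)

def F : (J X)ᵒᵖ ⥤ TopCat.{u} where
  obj j := obj j.unop
  map f := res (leOfHom f.unop)
  map_id j := by
    ext ξ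
    rfl
  map_comp f g := by
    ext ξ
    rfl

def toObj (s : J X) : TopCat.of X ⟶ obj s :=
  TopCat.ofHom ⟨fun x => ⟨φ s x, x, rfl⟩, Continuous.subtype_mk (continuous_φ s) _⟩

def cone : Cone (F X) where
  pt := TopCat.of X
  π := { app := fun j => toObj X j.unop
         naturality := fun j k f => by
           ext x
           rfl }


section main

variable (X : Type u) [TopologicalSpace X] [SpectralSpace X]

abbrev L := TopCat.limitCone.{u, u} (F X)

def lift : TopCat.of X ⟶ (L X).pt := (TopCat.limitConeIsLimit.{u, u} (F X)).lift (cone X)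

theorem lift_apply (x : X) (s : J X) : ((lift X x).1 (Opposite.op s)).1 = φ s x := rfl

theorem compat (u : (L X).pt) {s t : J X} (h : s ≤ t) (K : KO X) (hK : K ∈ s) :
    (u.1 (Opposite.op s)).1 ⟨K, hK⟩ = (u.1 (Opposite.op t)).1 ⟨K, h hK⟩ := by
  have := u.2 (homOfLE h).op
  rw [← this]
  rfl

theorem lift_injective : Function.Injective (lift X) := by
  intro x y hxy
  by_contra hne
  obtain ⟨U, hU, hx⟩ := exists_isOpen_xor'_mem hne
  have key : ∀ x y : X, lift X x = lift X y → x ∈ U → y ∈ U := by
    intro x y hxy hx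
    obtain ⟨V, ⟨hVo, hVc⟩, hxV, hVU⟩ :=
      (PrespectralSpace.isTopologicalBasis (X := X)).exists_subset_of_mem_open hx hU
    let K : KO X := ⟨⟨V, hVo⟩, hVc⟩
    have h1 := lift_apply X x {K}
    have h2 := lift_apply X y {K}
    rw [hxy] at h1
    have h3 := congrFun (h1.symm.trans h2) ⟨K, Finset.mem_singleton_self K⟩
    have : y ∈ V := by
      have hxV' : φ {K} x ⟨K, Finset.mem_singleton_self K⟩ := hxV
      rw [h3] at hxV'
      exact hxV'
    exact hVU this
  rcases hx with ⟨h1, h2⟩ | ⟨h1, h2⟩
  · exact h2 (key x y hxy h1)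
  · exact h2 (key y x hxy.symm h1)

theorem lift_surjective : Function.Surjective (lift X) := by
  intro u
  let a : ∀ s : J X, ↥s → Prop := fun s => (u.1 (Opposite.op s)).1
  let ξ : KO X → Prop := fun K => a {K} ⟨K, Finset.mem_singleton_self K⟩
  have hξ : ∀ (s : J X) (K : KO X) (hK : K ∈ s), a s ⟨K, hK⟩ = ξ K := by
    intro s K hK
    have hle : ({K} : J X) ≤ s := by
      intro K' hK'
      rw [Finset.mem_singleton] at hK'
      rw [hK']; exact hK
    exact (compat X u hle K (Finset.mem_singleton_self K)).symm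
  let W := WithConstructibleTopology X
  let C : KO X → Set W := fun K => WithTopology.ofTopology ⁻¹' {x | x ∈ K.1 ↔ ξ K}
  have hC : ∀ K, IsClosed (C K) := by
    intro K
    rw [WithTopology.isClosed_iff]
    change IsClosed[constructibleTopology X] {x | x ∈ K.1 ↔ ξ K}
    by_cases hK : ξ K
    · have : {x | x ∈ K.1 ↔ ξ K} = (K.1 : Set X) := by
        ext x; simp [hK]
      rw [this, ← @isOpen_compl_iff _ _ (constructibleTopology X)]
      apply IsCompact.isOpen_constructibleTopology_of_isClosed
      · rw [compl_compl]; exact K.2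
      · exact K.1.isOpen.isClosed_compl
    · have : {x | x ∈ K.1 ↔ ξ K} = (K.1 : Set X)ᶜ := by
        ext x; simp [hK]
      rw [this, @isClosed_compl_iff _ (constructibleTopology X)]
      exact K.2.isOpen_constructibleTopology_of_isOpen K.1.isOpen
  have hfip : ∀ s : Finset (KO X), (Set.univ ∩ ⋂ K ∈ s, C K).Nonempty := by
    intro s
    obtain ⟨x, hx⟩ := (u.1 (Opposite.op s)).2
    refine ⟨WithTopology.toTopology _ x, Set.mem_univ _, ?_⟩
    simp only [Set.mem_iInter]
    intro K hK
    change x ∈ K.1 ↔ ξ K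
    rw [← hξ s K hK]
    change φ s x ⟨K, hK⟩ ↔ _
    rw [hx]
  obtain ⟨w, -, hw⟩ := isCompact_univ.inter_iInter_nonempty C hC hfip
  simp only [Set.mem_iInter] at hw
  refine ⟨WithTopology.ofTopology w, ?_⟩
  apply Subtype.ext
  funext j
  obtain ⟨s⟩ := j
  apply Subtype.ext
  funext K
  obtain ⟨K, hK⟩ := K
  change (WithTopology.ofTopology w ∈ K.1) = a s ⟨K, hK⟩
  rw [hξ s K hK]
  exact propext (hw K)

theorem lift_isOpenMap : IsOpenMap (lift X) := by
  rw [(PrespectralSpace.isTopologicalBasis (X := X)).isOpenMap_iff]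
  rintro V ⟨hVo, hVc⟩
  let K : KO X := ⟨⟨V, hVo⟩, hVc⟩
  have : (lift X) '' V = {u | (u.1 (Opposite.op {K})).1 ⟨K, Finset.mem_singleton_self K⟩} := by
    ext u
    constructor
    · rintro ⟨x, hx, rfl⟩
      exact hx
    · intro hu
      obtain ⟨x, rfl⟩ := lift_surjective X u
      exact ⟨x, hu, rfl⟩
  rw [this]
  have hcont : Continuous fun u : (L X).pt =>
      (u.1 (Opposite.op {K})).1 ⟨K, Finset.mem_singleton_self K⟩ := by
    refine (continuous_apply _).comp (continuous_subtype_val.comp ?_)
    exact (continuous_apply (Opposite.op ({K} : J X))).comp continuous_subtype_val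
  exact continuous_Prop.1 hcont

theorem main : ∃ (J : Type u) (_ : Preorder J) (_ : Nonempty J) (_ : IsDirected J (· ≤ ·))
    (F : Jᵒᵖ ⥤ TopCat.{u}) (c : Cone F), Nonempty (IsLimit c) ∧
      (∀ j : Jᵒᵖ, Finite (F.obj j) ∧ T0Space (F.obj j) ∧ QuasiSober (F.obj j)) ∧
      Nonempty (c.pt ≅ TopCat.of X) := by
  classical
  refine ⟨J X, inferInstance, ⟨∅⟩, ⟨fun s t => ⟨s ∪ t, Finset.subset_union_left,
    Finset.subset_union_right⟩⟩, F X, cone X, ?_, ?_, ⟨Iso.refl _⟩⟩
  · have : IsIso ((TopCat.limitConeIsLimit.{u, u} (F X)).lift (cone X)) :=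
      TopCat.isIso_of_bijective_of_isOpenMap (lift X) ⟨lift_injective X, lift_surjective X⟩
        (lift_isOpenMap X)
    exact ⟨IsLimit.ofPointIso (TopCat.limitConeIsLimit.{u, u} (F X))⟩
  · intro j
    have hfin : Finite ((F X).obj j) := by
      change Finite (Set.range (φ j.unop))
      infer_instance
    refine ⟨hfin, ?_, ?_⟩
    · change T0Space (Set.range (φ j.unop))
      infer_instance
    · exact quasiSober_of_finite _

end main

end Helpers

/-- A spectral space is a directed inverse limit of finite sober topological spaces. Precisely: for X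
spectral there exist a nonempty directed preordered index set J, a functor from the opposite of J to
topological spaces whose values are finite sober (T0, every irreducible closed subset has a generic
point) spaces, and a limit cone of it whose vertex is isomorphic to X. -/
theorem result (X : Type u) [TopologicalSpace X] [SpectralSpace X] :
    ∃ (J : Type u) (_ : Preorder J) (_ : Nonempty J) (_ : IsDirected J (· ≤ ·)) (F : Jᵒᵖ ⥤ TopCat.{u})
      (c : Cone F), Nonempty (IsLimit c) ∧
        (∀ j : Jᵒᵖ, Finite (F.obj j) ∧ T0Space (F.obj j) ∧ QuasiSober (F.obj j)) ∧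
        Nonempty (c.pt ≅ TopCat.of X) := by
  exact main X

end Groth.Agent.S12462
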