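import Groth.Statements.S12463
import Groth.Agent.Lib.helper26.BrnchLib8

set_option autoImplicit false
universe u
open Variety

namespace Groth.Agent.S12463



/-- Let (A, m) be a strictly henselian reduced Nagata local ring of dimension one with δ-invariant equal
to the number of geometric branches minus one, and A' the integral closure of A in its total ring of
fractions. Then A is a wedge of discrete valuation rings: for every maximal ideal m' of A' the
localization A'_{m'} is a discrete valuation ring whose residue field is the image of A, and A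
consists exactly of the elements of A' congruent to an element of A modulo every maximal ideal of A'
(the displayed inclusion; the reverse inclusion is trivial). (The inequality δ ≥ branches − 1 of the
published statement holds for every reduced Nagata local ring of dimension one and is not restated.) -/
theorem result (A : Type u) [CommRing A] [HenselianLocalRing A]
    [IsSepClosed (IsLocalRing.ResidueField A)] [IsReduced A] (hN : CAlg.IsNagata A) (hdim : ringKrullDim A = 1)
    (heq : Curv2.deltaInv A + 1 = Brnch.numGeomBranches A) :
    (∀ m' : MaximalSpectrum ↥(integralClosure A (FractionRing A)),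
        (∃ _ : IsDomain (Localization.AtPrime m'.asIdeal), IsDiscreteValuationRing (Localization.AtPrime m'.asIdeal)) ∧
        Function.Surjective (⇑(IsLocalRing.residue (Localization.AtPrime m'.asIdeal)) ∘
          ⇑(algebraMap ↥(integralClosure A (FractionRing A)) (Localization.AtPrime m'.asIdeal)) ∘
          ⇑(algebraMap A ↥(integralClosure A (FractionRing A))))) ∧
    ∀ a' : ↥(integralClosure A (FractionRing A)),
      (∃ a : A, ∀ m' : MaximalSpectrum ↥(integralClosure A (FractionRing A)),
          a' - algebraMap A _ a ∈ m'.asIdeal) →
      a' ∈ (algebraMap A ↥(integralClosure A (FractionRing A))).range := by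
  classical
  haveI : IsNoetherianRing A := hN.1
  obtain ⟨hfinA', hloc, -⟩ :=
    Groth.Agent.Lib.helper26.DeltaInv.integralClosure_finite_of_reduced_nagata_dim_one A hN hdim
  haveI := hfinA'
  obtain ⟨hres, hrange⟩ := Groth.Agent.Lib.helper26.BrnchLib.eq_case A hN hdim heq
  let e := Groth.Agent.Lib.helper26.BrnchLib.normEquiv A
  have hdim1 : Ring.KrullDimLE 1 A := Ring.krullDimLE_iff.2 (by rw [hdim]; exact le_rfl)
  obtain ⟨t, htm, htav⟩ := Groth.Agent.Lib.helper26.MinPrimeProd.exists_avoid (A := A) hdim
  have htnzd : t ∈ nonZeroDivisors A :=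
    Groth.Agent.Lib.helper26.MinPrimeProd.mem_nonZeroDivisors_of_avoid hdim
      (Or.inr inferInstance) t htav
  have htn : algebraMap A (integralClosure A (FractionRing A)) t ∈
      nonZeroDivisors (integralClosure A (FractionRing A)) := by
    rw [mem_nonZeroDivisors_iff_right]
    intro z hz
    have hu : IsUnit (algebraMap A (FractionRing A) t) :=
      IsLocalization.map_units (FractionRing A) (⟨t, htnzd⟩ : nonZeroDivisors A)
    have h1 : (z : FractionRing A) * algebraMap A (FractionRing A) t = 0 := by
      have := congrArg (fun w : integralClosure A (FractionRing A) => (w : FractionRing A)) hz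
      simpa using this
    apply Subtype.ext
    exact (hu.mul_left_eq_zero).1 h1
  refine ⟨fun m' => ⟨?_, ?_⟩, ?_⟩
  · haveI := m'.isMaximal
    obtain ⟨hdom, hic⟩ := hloc ⟨m'.asIdeal, m'.isMaximal.isPrime⟩
    haveI := hdom
    haveI := hic
    exact ⟨hdom, Groth.Agent.Lib.helper26.BrnchLib.dvr_of_localization A hdim1
      (integralClosure A (FractionRing A)) m'.asIdeal t htm htn⟩
  · haveI := m'.isMaximal
    intro y
    obtain ⟨z, rfl⟩ := (IsLocalization.AtPrime.equivQuotMaximalIdeal m'.asIdeal
      (Localization.AtPrime m'.asIdeal)).surjective y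
    obtain ⟨a', rfl⟩ := Ideal.Quotient.mk_surjective z
    let n' : MaximalSpectrum (CAlg2.normRed A) :=
      ⟨m'.asIdeal.comap (e.symm : CAlg2.normRed A →+* integralClosure A (FractionRing A)),
        Ideal.comap_isMaximal_of_surjective _ e.symm.surjective⟩
    obtain ⟨a, ha⟩ := hres n' (Ideal.Quotient.mk n'.asIdeal (e a'))
    refine ⟨a, ?_⟩
    have h1 : algebraMap A (CAlg2.normRed A) a - e a' ∈ n'.asIdeal := by
      rw [← Ideal.Quotient.eq]
      exact ha
    have h2 : algebraMap A (integralClosure A (FractionRing A)) a - a' ∈ m'.asIdeal := by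
      have h3 : e.symm (algebraMap A (CAlg2.normRed A) a - e a') ∈ m'.asIdeal := h1
      rw [map_sub, e.symm.commutes, e.symm_apply_apply] at h3
      exact h3
    have h5 : Ideal.Quotient.mk m'.asIdeal (algebraMap A _ a) = Ideal.Quotient.mk m'.asIdeal a' :=
      Ideal.Quotient.eq.2 h2
    exact congrArg (IsLocalization.AtPrime.equivQuotMaximalIdeal m'.asIdeal
      (Localization.AtPrime m'.asIdeal)) h5
  · rintro a' ⟨a, ha⟩
    have hd : ∀ n' : MaximalSpectrum (CAlg2.normRed A),
        e (a' - algebraMap A _ a) ∈ n'.asIdeal := by
      intro n'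
      haveI := n'.isMaximal
      exact ha ⟨n'.asIdeal.comap (e : integralClosure A (FractionRing A) →+* CAlg2.normRed A),
        Ideal.comap_isMaximal_of_surjective _ e.surjective⟩
    obtain ⟨b, hb⟩ := hrange _ hd
    refine ⟨a + b, ?_⟩
    have h1 : e.symm (algebraMap A (CAlg2.normRed A) b) = a' - algebraMap A _ a := by
      rw [hb, e.symm_apply_apply]
    rw [e.symm.commutes] at h1
    rw [map_add, h1]
    ring

end Groth.Agent.S12463
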