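import Groth.Statements.S12465
import Mathlib
import Groth.Agent.Lib.helper23.OverBC

set_option autoImplicit false
universe u
open CategoryTheory AlgebraicGeometry
open BigSite

namespace Groth.Agent.S12465

/-- On the big étale sites, for a cartesian square g' : T' → T, f' : T' → S', f : T → S, g : S' → S of
schemes, i_g⁻¹ ∘ f_big,* ≅ f'_small,* ∘ i_{g'}⁻¹ as functors from abelian sheaves on (Sch/T)_ét to
abelian sheaves on the small étale site of S'. (Existence of a natural isomorphism; both sides send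
F to U' ↦ F(U' ×_{S'} T'). The binder BCCont f' holds for every morphism.) -/
theorem result {S T S' T' : Scheme.{u}} (f : T ⟶ S) (g : S' ⟶ S) (g' : T' ⟶ T)
    (f' : T' ⟶ S') (hsq : IsPullback g' f' f g) [EtCoh.BCCont f'] :
    Nonempty (BigSite.pushBig Scheme.etalePrecoverage f AddCommGrpCat.{u + 1} ⋙
        BigSite.resEtAlong Scheme.etalePrecoverage g ≅
      BigSite.resEtAlong Scheme.etalePrecoverage g' ⋙ EtCoh.push f') := by
  let K := Scheme.etalePrecoverage.{u}
  let F₁ : S'.Etale ⥤ Over T := EtFppf.a S' ⋙ Over.map g ⋙ Over.pullback f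
  let F₂ : S'.Etale ⥤ Over T := EtCoh.bc f' ⋙ EtFppf.a T' ⋙ Over.map g'
  have c1 : F₁.IsContinuous S'.smallEtaleTopology (QuotSh.J K T) := by
    have := Functor.isContinuous_comp (Over.map g) (Over.pullback f) (QuotSh.J K S')
      (QuotSh.J K S) (QuotSh.J K T)
    exact Functor.isContinuous_comp (EtFppf.a S') (Over.map g ⋙ Over.pullback f)
      S'.smallEtaleTopology (QuotSh.J K S') (QuotSh.J K T)
  have c2 : F₂.IsContinuous S'.smallEtaleTopology (QuotSh.J K T) := by
    have := Functor.isContinuous_comp (EtFppf.a T') (Over.map g') T'.smallEtaleTopology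
      (QuotSh.J K T') (QuotSh.J K T)
    exact Functor.isContinuous_comp (EtCoh.bc f') (EtFppf.a T' ⋙ Over.map g')
      S'.smallEtaleTopology T'.smallEtaleTopology (QuotSh.J K T)
  let e : F₁ ≅ F₂ := Functor.isoWhiskerLeft (EtFppf.a S') (OverBC.natIso hsq).symm ≪≫
    (Functor.associator _ _ _).symm ≪≫
    (Iso.refl _ : (EtFppf.a S' ⋙ Over.pullback f') ⋙ Over.map g' ≅
      EtCoh.bc f' ⋙ EtFppf.a T' ⋙ Over.map g')
  let i1 : BigSite.pushBig K f AddCommGrpCat.{u + 1} ⋙ BigSite.resEtAlong K g ≅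
      F₁.sheafPushforwardContinuous AddCommGrpCat.{u + 1} S'.smallEtaleTopology (QuotSh.J K T) :=
    Iso.refl _
  let i2 : BigSite.resEtAlong K g' ⋙ EtCoh.push f' ≅
      F₂.sheafPushforwardContinuous AddCommGrpCat.{u + 1} S'.smallEtaleTopology (QuotSh.J K T) :=
    Iso.refl _
  exact ⟨i1 ≪≫ Functor.sheafPushforwardContinuousIso e _ _ _ ≪≫ i2.symm⟩

end Groth.Agent.S12465
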