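import Groth.Statements.S12513
import Mathlib

set_option autoImplicit false
universe u
open Mero

namespace Groth.Agent.S12513aux
open CategoryTheory AlgebraicGeometry TopologicalSpace Opposite

theorem main (X : Scheme.{u}) (U : X.Opens)
    (hU : IsAffineOpen U) : Mero.regSub X U = nonZeroDivisors Γ(X, U) := by
  ext f
  constructor
  · intro hf
    rw [mem_nonZeroDivisors_iff_right]
    intro a ha
    have : a ∈ (⊥ : Ideal Γ(X, U)) := by
      rw [hU.mem_ideal_iff]
      intro x hx
      rw [Ideal.map_bot, Ideal.mem_bot]
      have h1 : X.presheaf.germ U x hx a * X.presheaf.germ U x hx f = 0 := by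
        rw [← map_mul, ha, map_zero]
      have h2 := hf ⟨x, hx⟩
      exact (mem_nonZeroDivisors_iff_right.mp h2) _ h1
    exact this
  · intro hf x
    have := hU.isLocalization_stalk x
    have := IsLocalization.map_nonZeroDivisors_le (hU.primeIdealOf x).asIdeal.primeCompl
      (X.presheaf.stalk x)
    exact this ⟨f, hf, rfl⟩

end Groth.Agent.S12513aux

namespace Groth.Agent.S12513

open AlgebraicGeometry in
/-- For a scheme X and an affine open U of X, the sections of O_X over U with nonzerodivisor germ at
every point of U are exactly the nonzerodivisors of the ring O_X(U). No Noetherian hypothesis is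
needed. -/
theorem result (X : Scheme.{u}) (U : X.Opens)
    (hU : IsAffineOpen U) : Mero.regSub X U = nonZeroDivisors Γ(X, U) := by
  exact Groth.Agent.S12513aux.main X U hU

end Groth.Agent.S12513
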