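import Groth.Statements.S12524
import Mathlib

set_option autoImplicit false
universe u v
open CAlg

namespace Groth.Agent.S12524

theorem aeval_sub_trunc_mem {K : Type u} {A : Type v} [Field K] [CommRing A] [Algebra K A]
    (I : Ideal A) (x : A) (hx : x ∈ I) (n : ℕ) (P : Polynomial K) :
    Polynomial.aeval x P - Polynomial.aeval x (PowerSeries.trunc n (P : PowerSeries K)) ∈ I ^ n := by
  have hdvd : (Polynomial.X : Polynomial K) ^ n ∣ P - PowerSeries.trunc n (P : PowerSeries K) := by
    rw [Polynomial.X_pow_dvd_iff]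
    intro d hd
    rw [Polynomial.coeff_sub, PowerSeries.coeff_trunc, if_pos hd, Polynomial.coeff_coe, sub_self]
  obtain ⟨Q, hQ⟩ := hdvd
  rw [← map_sub, hQ, map_mul, map_pow, Polynomial.aeval_X]
  exact Ideal.mul_mem_right _ _ (Ideal.pow_mem_pow hx n)

noncomputable def gHom {K : Type u} {A : Type v} [Field K] [CommRing A] [Algebra K A]
    (I : Ideal A) (x : A) (hx : x ∈ I) (n : ℕ) : PowerSeries K →ₐ[K] A ⧸ I ^ n :=
  AlgHom.ofLinearMap
    ((Ideal.Quotient.mkₐ K (I ^ n)).toLinearMap ∘ₗ (Polynomial.aeval x).toLinearMap ∘ₗ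
      PowerSeries.trunc n)
    (by
      show Ideal.Quotient.mk (I ^ n) (Polynomial.aeval x (PowerSeries.trunc n (1 : PowerSeries K))) = 1
      rw [← map_one (Ideal.Quotient.mk (I ^ n)), Ideal.Quotient.eq]
      have h := aeval_sub_trunc_mem I x hx n (1 : Polynomial K)
      rw [Polynomial.coe_one, map_one] at h
      rw [← neg_sub]
      exact (Ideal.neg_mem_iff _).2 h)
    (by
      intro f g
      show Ideal.Quotient.mk (I ^ n) (Polynomial.aeval x (PowerSeries.trunc n (f * g))) =
        Ideal.Quotient.mk (I ^ n) (Polynomial.aeval x (PowerSeries.trunc n f)) *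
        Ideal.Quotient.mk (I ^ n) (Polynomial.aeval x (PowerSeries.trunc n g))
      rw [← map_mul (Ideal.Quotient.mk (I ^ n)), Ideal.Quotient.eq,
        ← map_mul (Polynomial.aeval x)]
      have h := aeval_sub_trunc_mem I x hx n (PowerSeries.trunc n f * PowerSeries.trunc n g)
      rw [Polynomial.coe_mul, PowerSeries.trunc_trunc_mul_trunc] at h
      rw [← neg_sub]
      exact (Ideal.neg_mem_iff _).2 h)

theorem gHom_apply {K : Type u} {A : Type v} [Field K] [CommRing A] [Algebra K A]
    (I : Ideal A) (x : A) (hx : x ∈ I) (n : ℕ) (f : PowerSeries K) :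
    gHom I x hx n f = Ideal.Quotient.mk (I ^ n) (Polynomial.aeval x (PowerSeries.trunc n f)) := rfl

theorem gHom_compat {K : Type u} {A : Type v} [Field K] [CommRing A] [Algebra K A]
    (I : Ideal A) (x : A) (hx : x ∈ I) {a b : ℕ} (hle : a ≤ b) :
    (Ideal.Quotient.factorₐ K (Ideal.pow_le_pow_right hle)).comp (gHom I x hx b) =
      gHom I x hx a := by
  apply AlgHom.ext
  intro f
  rw [AlgHom.comp_apply, gHom_apply, gHom_apply, Ideal.Quotient.factorₐ_apply_mk,
    Ideal.Quotient.eq]
  have h := aeval_sub_trunc_mem I x hx a (PowerSeries.trunc b f)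
  rw [PowerSeries.trunc_trunc_of_le f hle] at h
  exact h

open IsLocalRing in
/-- Let `A` be a complete discrete valuation ring with maximal ideal `m`, containing a field `K` such
that `K → A → A/m` is bijective (a coefficient field), and let `x` be any generator of `m`. Then the
`K`-algebra map `K[X] → A`, `X ↦ x`, extends to a bijective `K`-algebra map `φ : K⟦X⟧ → A`,
characterised by `φ(∑ aᵢ Xⁱ) ≡ ∑_{i<n} aᵢ xⁱ (mod mⁿ)` for every `n`. -/
theorem result (K : Type u) (A : Type v) [Field K]
    [CommRing A] [IsDomain A] [IsDiscreteValuationRing A] [Algebra K A]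
    [IsAdicComplete (maximalIdeal A) A]
    (hK : Function.Bijective ((residue A).comp (algebraMap K A)))
    (x : A) (hx : maximalIdeal A = Ideal.span {x}) :
    ∃ φ : PowerSeries K →ₐ[K] A, φ PowerSeries.X = x ∧ Function.Bijective φ ∧
      ∀ (f : PowerSeries K) (n : ℕ),
        φ f - (Finset.range n).sum (fun i => algebraMap K A (PowerSeries.coeff i f) * x ^ i) ∈
          maximalIdeal A ^ n := by
  classical
  have hxm : x ∈ maximalIdeal A := by rw [hx]; exact Ideal.mem_span_singleton_self x
  have hx0 : x ≠ 0 := by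
    intro h0
    apply IsDiscreteValuationRing.not_a_field A
    rw [hx, h0]
    exact Ideal.span_singleton_eq_bot.2 rfl
  obtain ⟨φ, hφ⟩ : ∃ φ : PowerSeries K →ₐ[K] A, ∀ (f : PowerSeries K) (n : ℕ),
      φ f - Polynomial.aeval x (PowerSeries.trunc n f) ∈ maximalIdeal A ^ n := by
    refine ⟨IsAdicComplete.liftAlgHom (maximalIdeal A) (gHom (maximalIdeal A) x hxm)
      (fun hle => gHom_compat (maximalIdeal A) x hxm hle), fun f n => ?_⟩
    rw [← Ideal.Quotient.eq]
    exact IsAdicComplete.mk_liftAlgHom (maximalIdeal A) _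
      (fun hle => gHom_compat (maximalIdeal A) x hxm hle) n f
  have hinf : ∀ z : A, (∀ n : ℕ, z ∈ maximalIdeal A ^ n) → z = 0 := by
    intro z hz
    have h0 : (⨅ i : ℕ, maximalIdeal A ^ i) = ⊥ :=
      Ideal.iInf_pow_eq_bot_of_isLocalRing (maximalIdeal A) Ideal.IsPrime.ne_top'
    have h1 : z ∈ (⨅ i : ℕ, maximalIdeal A ^ i) := (Ideal.mem_iInf).2 hz
    rw [h0] at h1
    exact h1
  have hTsum : ∀ (f : PowerSeries K) (n : ℕ), Polynomial.aeval x (PowerSeries.trunc n f) =
      (Finset.range n).sum (fun i => algebraMap K A (PowerSeries.coeff i f) * x ^ i) := by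
    intro f n
    rw [Polynomial.aeval_def, PowerSeries.eval₂_trunc_eq_sum_range]
  refine ⟨φ, ?_, ⟨?_, ?_⟩, ?_⟩
  · have h0 : φ PowerSeries.X - x = 0 := hinf _ fun n => by
      have h1 := hφ PowerSeries.X n
      have h2 := aeval_sub_trunc_mem (maximalIdeal A) x hxm n (Polynomial.X : Polynomial K)
      rw [Polynomial.coe_X, Polynomial.aeval_X] at h2
      have h3 : φ PowerSeries.X - x =
          (φ PowerSeries.X - Polynomial.aeval x (PowerSeries.trunc n (PowerSeries.X : PowerSeries K)))
          - (x - Polynomial.aeval x (PowerSeries.trunc n (PowerSeries.X : PowerSeries K))) := by ring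
      rw [h3]
      exact Ideal.sub_mem _ h1 h2
    exact sub_eq_zero.1 h0
  · rw [injective_iff_map_eq_zero]
    intro f hf
    by_contra hne
    have hex : ∃ n, PowerSeries.coeff n f ≠ 0 := by
      by_contra h
      push_neg at h
      exact hne (PowerSeries.ext (fun n => by rw [h n, map_zero]))
    have hcn := Nat.find_spec hex
    have hlt : ∀ i, i < Nat.find hex → PowerSeries.coeff i f = 0 :=
      fun i hi => not_not.1 (Nat.find_min hex hi)
    have h1 := hφ f (Nat.find hex + 1)
    rw [hf, zero_sub, hTsum, Finset.sum_range_succ] at h1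
    have hzero : (Finset.range (Nat.find hex)).sum
        (fun i => algebraMap K A (PowerSeries.coeff i f) * x ^ i) = 0 :=
      Finset.sum_eq_zero (fun i hi => by
        rw [hlt i (Finset.mem_range.1 hi), map_zero, zero_mul])
    rw [hzero, zero_add, Ideal.neg_mem_iff, hx, Ideal.span_singleton_pow,
      Ideal.mem_span_singleton'] at h1
    obtain ⟨b, hb⟩ := h1
    have h2 : algebraMap K A (PowerSeries.coeff (Nat.find hex) f) = b * x := by
      have h4 : (b * x) * x ^ (Nat.find hex) =
          algebraMap K A (PowerSeries.coeff (Nat.find hex) f) * x ^ (Nat.find hex) := by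
        rw [← hb]; ring
      exact (mul_right_cancel₀ (pow_ne_zero _ hx0) h4).symm
    have h3 : residue A (algebraMap K A (PowerSeries.coeff (Nat.find hex) f)) = 0 := by
      rw [h2, IsLocalRing.residue_eq_zero_iff, hx]
      exact Ideal.mul_mem_left _ _ (Ideal.mem_span_singleton_self x)
    have h5 : PowerSeries.coeff (Nat.find hex) f = 0 := hK.1 (by
      rw [RingHom.comp_apply, h3, map_zero])
    exact hcn h5
  · intro y
    have hstep : ∀ z : A, ∃ (a : K) (z' : A), z = algebraMap K A a + x * z' := by
      intro z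
      obtain ⟨a, ha⟩ := hK.2 (residue A z)
      have h1 : z - algebraMap K A a ∈ maximalIdeal A := by
        rw [← IsLocalRing.residue_eq_zero_iff, map_sub, sub_eq_zero]
        exact ha.symm
      rw [hx, Ideal.mem_span_singleton'] at h1
      obtain ⟨z', hz'⟩ := h1
      exact ⟨a, z', by rw [mul_comm, hz']; ring⟩
    choose a' z' hstep using hstep
    obtain ⟨seq, hseq0, hseqS⟩ : ∃ seq : ℕ → A, seq 0 = y ∧ ∀ n, seq (n + 1) = z' (seq n) :=
      ⟨fun n => z'^[n] y, rfl, fun n => Function.iterate_succ_apply' _ _ _⟩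
    have hsum : ∀ n, y = (Finset.range n).sum
        (fun i => algebraMap K A (a' (seq i)) * x ^ i) + x ^ n * seq n := by
      intro n
      induction n with
      | zero => simp [hseq0]
      | succ n ih =>
        rw [Finset.sum_range_succ, hseqS n]
        have h1 := hstep (seq n)
        calc y = (Finset.range n).sum (fun i => algebraMap K A (a' (seq i)) * x ^ i) +
              x ^ n * seq n := ih
          _ = (Finset.range n).sum (fun i => algebraMap K A (a' (seq i)) * x ^ i) +
              x ^ n * (algebraMap K A (a' (seq n)) + x * z' (seq n)) := by rw [← h1]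
          _ = _ := by ring
    refine ⟨PowerSeries.mk (fun i => a' (seq i)), ?_⟩
    have h0 : φ (PowerSeries.mk fun i => a' (seq i)) - y = 0 := hinf _ fun n => by
      have h1 := hφ (PowerSeries.mk fun i => a' (seq i)) n
      rw [hTsum] at h1
      simp only [PowerSeries.coeff_mk] at h1
      have h2 : y - (Finset.range n).sum (fun i => algebraMap K A (a' (seq i)) * x ^ i) ∈
          maximalIdeal A ^ n := by
        have h3 : y - (Finset.range n).sum (fun i => algebraMap K A (a' (seq i)) * x ^ i) =
            x ^ n * seq n := by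
          rw [sub_eq_iff_eq_add']
          exact hsum n
        rw [h3]
        exact Ideal.mul_mem_right _ _ (Ideal.pow_mem_pow hxm n)
      have h4 : φ (PowerSeries.mk fun i => a' (seq i)) - y =
          (φ (PowerSeries.mk fun i => a' (seq i)) -
            (Finset.range n).sum (fun i => algebraMap K A (a' (seq i)) * x ^ i)) -
          (y - (Finset.range n).sum (fun i => algebraMap K A (a' (seq i)) * x ^ i)) := by ring
      rw [h4]
      exact Ideal.sub_mem _ h1 h2
    exact sub_eq_zero.1 h0
  · intro f n
    rw [← hTsum]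
    exact hφ f n

end Groth.Agent.S12524
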