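import Groth.Statements.S12544
import Groth.Agent.Lib.helper29.MuLaurent

set_option autoImplicit false
universe u
open TensorProduct LaurentPolynomial
open GIT

namespace Groth.Agent.S12544

/-- Let a commutative bialgebra A over a field k (an affine group or monoid G) coact linearly on affine
ι-space, let λ be a one-parameter subgroup of G (a bialgebra map to the Laurent polynomial ring) and
v ≠ 0 a vector. Then there is exactly one integer m for which t^m · (v moved by λ(t)) extends to the
affine line in t with non-zero value at t = 0; that m is the value μ(v, λ) of the numerical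
function, the largest of the numbers −r_i over the non-zero coordinates of v in coordinates
diagonalising λ. -/
theorem result (k : Type u) [Field k] (A : Type u) [CommRing A] [Bialgebra k A]
    (ι : Type u) [Fintype ι] [HopfRep.Comod k A (MvPolynomial ι k)] [GLin.IsCoactAlg k A (MvPolynomial ι k)]
    (hlin : GLin.IsLinear k A ι) (lam : A →ₐc[k] k[T;T⁻¹]) (v : ι → k) (hv : v ≠ 0) :
    ∃! m : ℤ, GLin.IsMu k A lam v m := by
  have hS := Groth.Agent.Lib.helper29.MuLaurent.supp_nonempty lam v hv
  refine ⟨-(Groth.Agent.Lib.helper29.MuLaurent.supp lam v).min' hS, ?_, ?_⟩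
  · exact (Groth.Agent.Lib.helper29.MuLaurent.isMu_iff_eq lam v hS _).mpr rfl
  · intro m hm
    exact (Groth.Agent.Lib.helper29.MuLaurent.isMu_iff_eq lam v hS m).mp hm

end Groth.Agent.S12544
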