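import Groth.Statements.S12545
import Groth.Agent.Lib.helper29.MuLaurent

set_option autoImplicit false
universe u
open TensorProduct LaurentPolynomial
open GIT

namespace Groth.Agent.S12545

open Groth.Agent.Lib.helper29.MuLaurent in
theorem aux (k : Type u) [Field k] (A : Type u) [CommRing A] [Bialgebra k A]
    (ι : Type u) [Fintype ι] [HopfRep.Comod k A (MvPolynomial ι k)] [GLin.IsCoactAlg k A (MvPolynomial ι k)]
    (lam : A →ₐc[k] k[T;T⁻¹]) (v : ι → k) (hv : v ≠ 0) :
    (¬ GLin.HasLimit k A lam (GLin.vecPt k ι v) ↔ ∃ m : ℤ, GLin.IsMu k A lam v m ∧ 0 < m) ∧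
      ((GLin.HasLimit k A lam (GLin.vecPt k ι v) ∧
          ¬ GLin.IsLimit k A lam (GLin.vecPt k ι v) (GLin.vecPt k ι (fun _ => (0 : k)))) ↔
        GLin.IsMu k A lam v 0) ∧
      (GLin.IsLimit k A lam (GLin.vecPt k ι v) (GLin.vecPt k ι (fun _ => (0 : k))) ↔
        ∃ m : ℤ, GLin.IsMu k A lam v m ∧ m < 0) := by
  have hS := supp_nonempty lam v hv
  have hmin_mem := Finset.min'_mem _ hS
  have hmin_le : ∀ n ∈ supp lam v, (supp lam v).min' hS ≤ n := fun n hn => Finset.min'_le _ _ hn
  refine ⟨?_, ?_, ?_⟩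
  · rw [hasLimit_iff]
    constructor
    · intro h
      refine ⟨-(supp lam v).min' hS, (isMu_iff_eq lam v hS _).mpr rfl, ?_⟩
      by_contra hle
      apply h
      intro i n hn
      have := hmin_le n ((mem_supp lam v n).mpr ⟨i, hn⟩)
      omega
    · rintro ⟨m, hm, hpos⟩ h
      have hm' := (isMu_iff_eq lam v hS m).mp hm
      obtain ⟨i, hi⟩ := (mem_supp lam v _).mp hmin_mem
      have := h i _ hi
      omega
  · rw [hasLimit_iff, isLimit_iff, isMu_iff]
    simp only [neg_zero]
    constructor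
    · rintro ⟨h1, h2⟩
      refine ⟨h1, ?_⟩
      by_contra hne
      push Not at hne
      exact h2 ⟨h1, hne⟩
    · rintro ⟨h1, i, hi⟩
      exact ⟨h1, fun h => hi (h.2 i)⟩
  · rw [isLimit_iff]
    constructor
    · rintro ⟨h1, h2⟩
      refine ⟨-(supp lam v).min' hS, (isMu_iff_eq lam v hS _).mpr rfl, ?_⟩
      obtain ⟨i, hi⟩ := (mem_supp lam v _).mp hmin_mem
      have h3 := h1 i _ hi
      have h4 : (supp lam v).min' hS ≠ 0 := by
        intro h0
        rw [h0] at hi
        exact hi (h2 i)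
      omega
    · rintro ⟨m, hm, hneg⟩
      have hm' := (isMu_iff_eq lam v hS m).mp hm
      refine ⟨?_, ?_⟩
      · intro i n hn
        have := hmin_le n ((mem_supp lam v n).mpr ⟨i, hn⟩)
        omega
      · intro i
        by_contra hne
        have := hmin_le 0 ((mem_supp lam v 0).mpr ⟨i, hne⟩)
        omega

/-- Let a commutative bialgebra A over a field k coact linearly on affine ι-space, let λ be a
one-parameter subgroup (a bialgebra map to the Laurent polynomial ring) and v ≠ 0 a vector; write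
μ(v, λ) = m when t^m · (v moved by λ(t)) extends to the affine line with non-zero value at t = 0.
Then v moved by λ(t) has no limit as t → 0 exactly when μ(v, λ) > 0, has a limit different from the
origin exactly when μ(v, λ) = 0, and tends to the origin exactly when μ(v, λ) < 0. -/
theorem result (k : Type u) [Field k] (A : Type u) [CommRing A] [Bialgebra k A]
    (ι : Type u) [Fintype ι] [HopfRep.Comod k A (MvPolynomial ι k)] [GLin.IsCoactAlg k A (MvPolynomial ι k)]
    (hlin : GLin.IsLinear k A ι) (lam : A →ₐc[k] k[T;T⁻¹]) (v : ι → k) (hv : v ≠ 0) :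
    (¬ GLin.HasLimit k A lam (GLin.vecPt k ι v) ↔ ∃ m : ℤ, GLin.IsMu k A lam v m ∧ 0 < m) ∧
      ((GLin.HasLimit k A lam (GLin.vecPt k ι v) ∧
          ¬ GLin.IsLimit k A lam (GLin.vecPt k ι v) (GLin.vecPt k ι (fun _ => (0 : k)))) ↔
        GLin.IsMu k A lam v 0) ∧
      (GLin.IsLimit k A lam (GLin.vecPt k ι v) (GLin.vecPt k ι (fun _ => (0 : k))) ↔
        ∃ m : ℤ, GLin.IsMu k A lam v m ∧ m < 0) := by
  exact aux k A ι lam v hv

end Groth.Agent.S12545
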