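import Groth.Statements.S12549
import Mathlib
import Groth.Agent.Lib.helper13.ChainIneq

set_option autoImplicit false
universe u
open GIT

namespace Groth.Agent.S12549

/-- Let g ≥ 1 and n ≥ 2g, and let e_0, …, e_n be natural numbers with e_0 = 0, e_n = n + g, e_0 ≤ … ≤
e_n, e_i ≤ i for i ≤ n − g and e_i ≤ i + g for all i. Then for all real r_0 ≥ r_1 ≥ … ≥ r_n with Σ
r_i = 0, not all zero, some chain 0 = c_0 < c_1 < … < c_μ = n has Σ_j (e_(c_(j+1)) − e_(c_j)) ·
(r_(c_(j+1)) + r_(c_j)) < 0. -/
theorem result (n g : ℕ) (hg : 1 ≤ g) (hn : 2 * g ≤ n)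
    (e : Fin (n + 1) → ℕ) (he0 : e 0 = 0) (hen : e (Fin.last n) = n + g) (hmono : Monotone e)
    (hle : ∀ i : Fin (n + 1), (i : ℕ) ≤ n - g → e i ≤ (i : ℕ)) (hle' : ∀ i : Fin (n + 1), e i ≤ (i : ℕ) + g)
    (r : Fin (n + 1) → ℝ) (hanti : Antitone r) (hsum : ∑ i, r i = 0) (hr : r ≠ 0) :
    ∃ (μ : ℕ) (c : Fin (μ + 1) → Fin (n + 1)), StrictMono c ∧ c 0 = 0 ∧ c (Fin.last μ) = Fin.last n ∧
      ∑ j : Fin μ, ((e (c j.succ) : ℝ) - (e (c j.castSucc) : ℝ)) * (r (c j.succ) + r (c j.castSucc)) < 0 := by
  classical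
  -- ℕ-indexed versions
  set E : ℕ → ℝ := fun k => if h : k < n + 1 then (e ⟨k, h⟩ : ℝ) else 0 with hE
  set R : ℕ → ℝ := fun k => if h : k < n + 1 then r ⟨k, h⟩ else 0 with hR
  have hEfin : ∀ i : Fin (n + 1), E i = (e i : ℝ) := by
    intro i; simp only [hE, dif_pos i.2, Fin.eta]
  have hRfin : ∀ i : Fin (n + 1), R i = r i := by
    intro i; simp only [hR, dif_pos i.2, Fin.eta]
  have hE0 : E 0 = 0 := by
    have := hEfin 0
    simp only [Fin.val_zero] at this
    rw [this, he0]; simp
  have hEn : E n = (n : ℝ) + g := by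
    have := hEfin (Fin.last n)
    simp only [Fin.val_last] at this
    rw [this, hen]; push_cast; ring
  have hEX : ∀ i, i ≤ n → E i ≤ Groth.Agent.Lib.helper13.ChainIneq.X n g i := by
    intro i hi
    have h1 := hEfin ⟨i, by omega⟩
    simp only at h1
    rw [h1]
    by_cases hiN : i ≤ n - g
    · rw [Groth.Agent.Lib.helper13.ChainIneq.X_le hiN]
      exact_mod_cast hle ⟨i, by omega⟩ hiN
    · rw [Groth.Agent.Lib.helper13.ChainIneq.X_gt (by omega)]
      exact_mod_cast hle' ⟨i, by omega⟩
  have hRanti : ∀ i j, i ≤ j → j ≤ n → R j ≤ R i := by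
    intro i j hij hj
    have h1 := hRfin ⟨i, by omega⟩
    have h2 := hRfin ⟨j, by omega⟩
    simp only at h1 h2
    rw [h1, h2]
    exact hanti (by simpa using hij)
  have hRsum : ∑ i ∈ Finset.range (n + 1), R i = 0 := by
    rw [← Fin.sum_univ_eq_sum_range]
    rw [← hsum]
    exact Finset.sum_congr rfl fun i _ => hRfin i
  have hRne : ∃ i, i ≤ n ∧ R i ≠ 0 := by
    by_contra hcon
    push Not at hcon
    apply hr
    funext i
    have := hcon i (by have := i.2; omega)
    rw [hRfin i] at this
    simpa using this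
  obtain ⟨a, b, G, w, haN, hbN, hbn, hwpos, hGneg, hleft, hmid, hright⟩ :=
    Groth.Agent.Lib.helper13.ChainIneq.core n g hg hn E R hE0 hEn hEX hRanti hRsum hRne
  have hab : a < b := by omega
  -- the chain
  set μ := a + (n - b) + 1 with hμ
  set cN : ℕ → ℕ := fun j => if j ≤ a then j else j + (b - a - 1) with hcN
  have hcN_lt : ∀ j, j < μ + 1 → cN j < n + 1 := by
    intro j hj
    simp only [hcN]
    split_ifs with h <;> omega
  set c : Fin (μ + 1) → Fin (n + 1) := fun j => ⟨cN j, hcN_lt j j.2⟩ with hc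
  refine ⟨μ, c, ?_, ?_, ?_, ?_⟩
  · intro i j hij
    have hij' : (i : ℕ) < j := hij
    show cN i < cN j
    simp only [hcN]
    split_ifs with h1 h2 <;> omega
  · apply Fin.ext
    show cN 0 = 0
    simp [hcN]
  · apply Fin.ext
    show cN μ = n
    simp only [hcN]
    split_ifs with h <;> omega
  · -- the estimate
    have hterm : ∀ j : Fin μ,
        w * (((e (c j.succ) : ℝ) - (e (c j.castSucc) : ℝ)) * (r (c j.succ) + r (c j.castSucc)))
          ≤ G (c j.succ) - G (c j.castSucc) := by
      intro j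
      have hj := j.2
      rw [← hEfin, ← hEfin, ← hRfin, ← hRfin]
      show w * ((E (cN (j + 1)) - E (cN j)) * (R (cN (j + 1)) + R (cN j)))
        ≤ G (cN (j + 1)) - G (cN j)
      rcases lt_trichotomy (j : ℕ) a with hlt | heq | hgt
      · have h1 : cN (j + 1) = j + 1 := by simp only [hcN]; rw [if_pos (by omega)]
        have h2 : cN j = j := by simp only [hcN]; rw [if_pos (by omega)]
        rw [h1, h2]
        exact hleft j hlt
      · have h1 : cN (j + 1) = b := by simp only [hcN]; rw [if_neg (by omega)]; omega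
        have h2 : cN j = a := by simp only [hcN]; rw [if_pos (by omega)]; omega
        rw [h1, h2]
        exact hmid
      · have h2 : cN j = j + (b - a - 1) := by simp only [hcN]; rw [if_neg (by omega)]
        have h1 : cN (j + 1) = j + (b - a - 1) + 1 := by
          simp only [hcN]; rw [if_neg (by omega)]; omega
        rw [h1, h2]
        exact hright _ (by omega) (by omega)
    have hsumle : w * ∑ j : Fin μ, ((e (c j.succ) : ℝ) - (e (c j.castSucc) : ℝ)) *
        (r (c j.succ) + r (c j.castSucc)) ≤ G n - G 0 := by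
      rw [Finset.mul_sum]
      refine (Finset.sum_le_sum fun j _ => hterm j).trans ?_
      have := Groth.Agent.Lib.helper13.ChainIneq.sum_fin_telescope μ (fun j => G (c j))
      rw [this]
      have hl : ((c (Fin.last μ) : Fin (n + 1)) : ℕ) = n := by
        show cN μ = n
        simp only [hcN]
        split_ifs with h <;> omega
      have h0 : ((c 0 : Fin (n + 1)) : ℕ) = 0 := by
        show cN 0 = 0
        simp [hcN]
      rw [hl, h0]
    by_contra hge
    push Not at hge
    have := mul_nonneg hwpos.le hge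
    linarith

end Groth.Agent.S12549
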