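import Groth.Statements.S12550
import Mathlib

set_option autoImplicit false
universe u
open GIT

namespace Groth.Agent.S12550

/-- Let V be a finite-dimensional vector space over a field K and x_0, …, x_m non-zero vectors, a
configuration of m + 1 points of the projective space P(V). If for every subspace L with 0 ≠ L ≠ V
the number of indices i with x_i ∈ L, multiplied by dim V, is less than dim L · (m + 1) (the
configuration is stable), then no two proper subspaces L', L'' with L' ∩ L'' = 0 contain between
them all the x_i. -/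
theorem result (K : Type u) [Field K]
    (V : Type u) [AddCommGroup V] [Module K V] [FiniteDimensional K V]
    (m : ℕ) (x : Fin (m + 1) → V) (hx : ∀ i, x i ≠ 0)
    (hst : ∀ L : Submodule K V, L ≠ ⊥ → L ≠ ⊤ →
      Set.ncard {i : Fin (m + 1) | x i ∈ L} * Module.finrank K V < Module.finrank K L * (m + 1)) :
    ¬ ∃ L' L'' : Submodule K V, L' ≠ ⊤ ∧ L'' ≠ ⊤ ∧ Disjoint L' L'' ∧ ∀ i, x i ∈ L' ∨ x i ∈ L'' := by
  rintro ⟨L', L'', hL', hL'', hdisj, hcov⟩
  classical
  set d := Module.finrank K V with hd
  have hcard : (m + 1) ≤ Set.ncard {i : Fin (m + 1) | x i ∈ L'} + Set.ncard {i : Fin (m + 1) | x i ∈ L''} := by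
    have h1 : ({i : Fin (m + 1) | x i ∈ L'} ∪ {i : Fin (m + 1) | x i ∈ L''}) = Set.univ := by
      ext i
      simp only [Set.mem_union, Set.mem_univ, iff_true]
      exact hcov i
    have h2 := Set.ncard_union_le {i : Fin (m + 1) | x i ∈ L'} {i : Fin (m + 1) | x i ∈ L''}
    rw [h1, Set.ncard_univ, Nat.card_fin] at h2
    exact h2
  have hsum : Module.finrank K L' + Module.finrank K L'' ≤ d := by
    have h3 := Submodule.finrank_sup_add_finrank_inf_eq L' L''
    rw [hdisj.eq_bot, finrank_bot, add_zero] at h3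
    rw [← h3]
    exact Submodule.finrank_le _
  have hlt' : Module.finrank K L' < d := Submodule.finrank_lt hL'
  have hlt'' : Module.finrank K L'' < d := Submodule.finrank_lt hL''
  -- bounds on the counts
  have hb' : Set.ncard {i : Fin (m + 1) | x i ∈ L'} * d ≤ Module.finrank K L' * (m + 1) ∧
      (L' ≠ ⊥ → Set.ncard {i : Fin (m + 1) | x i ∈ L'} * d < Module.finrank K L' * (m + 1)) := by
    by_cases hbot : L' = ⊥
    · subst hbot
      have : {i : Fin (m + 1) | x i ∈ (⊥ : Submodule K V)} = ∅ := by
        ext i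
        simp [hx i]
      rw [this]
      simp
    · exact ⟨(hst L' hbot hL').le, fun _ => hst L' hbot hL'⟩
  have hb'' : Set.ncard {i : Fin (m + 1) | x i ∈ L''} * d ≤ Module.finrank K L'' * (m + 1) ∧
      (L'' ≠ ⊥ → Set.ncard {i : Fin (m + 1) | x i ∈ L''} * d < Module.finrank K L'' * (m + 1)) := by
    by_cases hbot : L'' = ⊥
    · subst hbot
      have : {i : Fin (m + 1) | x i ∈ (⊥ : Submodule K V)} = ∅ := by
        ext i
        simp [hx i]
      rw [this]
      simp
    · exact ⟨(hst L'' hbot hL'').le, fun _ => hst L'' hbot hL''⟩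
  -- at least one of them is nonzero
  have hne : L' ≠ ⊥ ∨ L'' ≠ ⊥ := by
    rcases hcov 0 with h | h
    · left
      rintro rfl
      exact hx 0 (by simpa using h)
    · right
      rintro rfl
      exact hx 0 (by simpa using h)
  have key : (Set.ncard {i : Fin (m + 1) | x i ∈ L'} + Set.ncard {i : Fin (m + 1) | x i ∈ L''}) * d <
      (Module.finrank K L' + Module.finrank K L'') * (m + 1) := by
    rw [add_mul, add_mul]
    rcases hne with h | h
    · exact add_lt_add_of_lt_of_le (hb'.2 h) hb''.1
    · exact add_lt_add_of_le_of_lt hb'.1 (hb''.2 h)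
  have h4 : (m + 1) * d ≤ (Set.ncard {i : Fin (m + 1) | x i ∈ L'} + Set.ncard {i : Fin (m + 1) | x i ∈ L''}) * d :=
    Nat.mul_le_mul_right _ hcard
  have h5 : (Module.finrank K L' + Module.finrank K L'') * (m + 1) ≤ d * (m + 1) :=
    Nat.mul_le_mul_right _ hsum
  have : (m + 1) * d < d * (m + 1) := lt_of_le_of_lt h4 (lt_of_lt_of_le key h5)
  rw [mul_comm] at this
  exact lt_irrefl _ this

end Groth.Agent.S12550
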