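import Groth.Statements.S12553
import Groth.Agent.Lib.helper29.MuLaurent
import Groth.Agent.Lib.helper29.DiagGen

set_option autoImplicit false
universe u
open TensorProduct LaurentPolynomial
open GIT

namespace Groth.Agent.S12553

open Groth.Agent.Lib.helper29.MuLaurent Groth.Agent.Lib.helper29.DiagGen Groth.Agent.H12Comod

section
variable {k : Type u} [Field k] {A : Type u} [CommRing A] [HopfAlgebra k A]
  {R : Type u} [CommRing R] [Algebra k R] [HopfRep.Comod k A R] [GLin.IsCoactAlg k A R]

theorem orbitHom_of_coact_eq_sum (x : R →ₐ[k] k) (f : R) {σ : Type*} (s : Finset σ)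
    (g : σ → R) (a : σ → A)
    (h : HopfRep.Comod.coact (k := k) (A := A) f = ∑ j ∈ s, g j ⊗ₜ[k] a j) :
    GLin.orbitHom k A x f = ∑ j ∈ s, x (g j) • a j := by
  show (Algebra.TensorProduct.lid k A).toAlgHom
        ((Algebra.TensorProduct.map x (AlgHom.id k A)) (HopfRep.Comod.coact (k := k) (A := A) f)) = _
  rw [h, map_sum, map_sum]
  refine Finset.sum_congr rfl fun j _ => ?_
  simp

theorem orbitHom_of_coact_eq (x : R →ₐ[k] k) (f : R) (a : A)
    (h : HopfRep.Comod.coact (k := k) (A := A) f = f ⊗ₜ[k] a) :
    GLin.orbitHom k A x f = x f • a := by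
  have := orbitHom_of_coact_eq_sum x f (Finset.univ : Finset (Fin 1)) (fun _ => f) (fun _ => a)
    (by simpa using h)
  simpa using this

end

theorem sum_fin_eq {σ : Type*} {M : Type*} [AddCommMonoid M] (S : Finset σ) (F : σ → M) :
    ∑ j : Fin S.card, F ((S.equivFin.symm j : S) : σ) = ∑ χ ∈ S, F χ := by
  rw [← Finset.sum_coe_sort S F]
  exact Equiv.sum_comp S.equivFin.symm (fun x : S => F x)

theorem aux (k : Type u) [Field k]
    (A : Type u) [CommRing A] [HopfAlgebra k A] (hdiag : HopfRep.IsDiagonalizable k A)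
    (ι : Type u) [Fintype ι] [HopfRep.Comod k A (MvPolynomial ι k)] [GLin.IsCoactAlg k A (MvPolynomial ι k)]
    (hlin : GLin.IsLinear k A ι) :
    ∃ (N : ℕ) (χ : Fin N → A), (∀ j, IsGroupLikeElem k (χ j)) ∧
      ∀ v : ι → k, v ≠ 0 → ∃ I : Finset (Fin N), I.Nonempty ∧
        ∀ (lam : A →ₐc[k] k[T;T⁻¹]) (e : Fin N → ℤ), (∀ j, lam (χ j) = LaurentPolynomial.T (e j)) →
          ∀ m : ℤ, GLin.IsMu k A lam v m ↔ ((∀ j ∈ I, -e j ≤ m) ∧ ∃ j ∈ I, m = -e j) := by
  classical
  have hd : Submodule.span k {a : A | IsGroupLikeElem k a} = ⊤ := hdiag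
  let S : Finset (GroupLike k A) :=
    Finset.univ.biUnion fun i : ι => (ex hd (MvPolynomial.X i : MvPolynomial ι k)).support
  have hS : ∀ i : ι, (ex hd (MvPolynomial.X i : MvPolynomial ι k)).support ⊆ S := by
    intro i χ hχ
    exact Finset.mem_biUnion.mpr ⟨i, Finset.mem_univ _, hχ⟩
  let χ' : Fin S.card → GroupLike k A := fun j => ((S.equivFin.symm j : S) : GroupLike k A)
  have hχinj : Function.Injective χ' := by
    intro a b hab
    exact S.equivFin.symm.injective (Subtype.ext hab)
  refine ⟨S.card, fun j => (χ' j).val, fun j => (χ' j).2, ?_⟩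
  intro v hv
  -- the coefficients
  let c : ι → Fin S.card → k := fun i j =>
    (MvPolynomial.aeval v : MvPolynomial ι k →ₐ[k] k) (p hd (χ' j) (MvPolynomial.X i))
  have hcoact : ∀ i : ι, HopfRep.Comod.coact (k := k) (A := A) (MvPolynomial.X i : MvPolynomial ι k) =
      ∑ j : Fin S.card, p hd (χ' j) (MvPolynomial.X i) ⊗ₜ[k] (χ' j).val := by
    intro i
    rw [coact_eq_sum_of_subset hd _ S (hS i)]
    exact (sum_fin_eq S (fun χ => p hd χ (MvPolynomial.X i : MvPolynomial ι k) ⊗ₜ[k] χ.val)).symm
  have hXsum : ∀ i : ι, (MvPolynomial.X i : MvPolynomial ι k) =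
      ∑ j : Fin S.card, p hd (χ' j) (MvPolynomial.X i) := by
    intro i
    conv_lhs => rw [sum_p_of_subset hd _ S (hS i)]
    exact (sum_fin_eq S (fun χ => p hd χ (MvPolynomial.X i : MvPolynomial ι k))).symm
  refine ⟨Finset.univ.filter fun j => ∃ i, c i j ≠ 0, ?_, ?_⟩
  · -- nonempty
    have : ∃ i, v i ≠ 0 := by
      by_contra h
      push Not at h
      exact hv (funext h)
    obtain ⟨i, hi⟩ := this
    have h1 : v i = ∑ j : Fin S.card, c i j := by
      have := congrArg (MvPolynomial.aeval v) (hXsum i)
      rw [MvPolynomial.aeval_X, map_sum] at this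
      exact this
    have : ∃ j, c i j ≠ 0 := by
      by_contra h
      push Not at h
      apply hi
      rw [h1]
      exact Finset.sum_eq_zero fun j _ => h j
    obtain ⟨j, hj⟩ := this
    exact ⟨j, Finset.mem_filter.mpr ⟨Finset.mem_univ _, i, hj⟩⟩
  · intro lam e hlam m
    -- formula for ell
    have hell : ∀ i, ell lam v i = ∑ j : Fin S.card, c i j • (LaurentPolynomial.T (e j) : k[T;T⁻¹]) := by
      intro i
      have h1 : ell lam v i = lam (GLin.orbitHom k A (GLin.vecPt k ι v) (MvPolynomial.X i)) := rfl
      rw [h1, orbitHom_of_coact_eq_sum _ _ _ _ _ (hcoact i), map_sum]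
      refine Finset.sum_congr rfl fun j _ => ?_
      rw [map_smul, hlam]
    have hcoefT : ∀ (a n : ℤ), (LaurentPolynomial.T a : k[T;T⁻¹]).coeff n = if a = n then 1 else 0 :=
      fun a n => LaurentPolynomial.T_apply n a
    have hcoeff : ∀ i (n : ℤ), (ell lam v i).coeff n = ∑ j : Fin S.card, if e j = n then c i j else 0 := by
      intro i n
      rw [hell]
      have : ∀ (s : Finset (Fin S.card)),
          (∑ j ∈ s, c i j • (LaurentPolynomial.T (e j) : k[T;T⁻¹])).coeff n =
            ∑ j ∈ s, if e j = n then c i j else 0 := by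
        intro s
        induction s using Finset.induction_on with
        | empty => simp
        | insert a s ha ih =>
          rw [Finset.sum_insert ha, Finset.sum_insert ha, ← ih]
          rw [AddMonoidAlgebra.coeff_add, Finsupp.add_apply, AddMonoidAlgebra.coeff_smul,
            Finsupp.smul_apply, hcoefT]
          congr 1
          split_ifs <;> simp
      exact this Finset.univ
    -- fact 2
    have hfact2 : ∀ i j, c i j ≠ 0 → ∃ l, (ell lam v l).coeff (e j) ≠ 0 := by
      intro i j hcij
      obtain ⟨mi, hmi⟩ := hlin i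
      -- the linear form
      have hf : p hd (χ' j) (MvPolynomial.X i : MvPolynomial ι k) =
          ∑ l, coord hd (χ' j) (mi l) • (MvPolynomial.X l : MvPolynomial ι k) := by
        rw [p, LinearMap.comp_apply, hmi, map_sum]
        refine Finset.sum_congr rfl fun l _ => ?_
        rw [T_tmul]
      let Λ : MvPolynomial ι k →ₐ[k] k[T;T⁻¹] := GLin.lamOrbit k A lam (GLin.vecPt k ι v)
      have h1 : Λ (p hd (χ' j) (MvPolynomial.X i)) =
          ∑ l, coord hd (χ' j) (mi l) • ell lam v l := by
        rw [hf, map_sum]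
        refine Finset.sum_congr rfl fun l _ => ?_
        rw [map_smul]; rfl
      have h2 : Λ (p hd (χ' j) (MvPolynomial.X i)) = c i j • (LaurentPolynomial.T (e j) : k[T;T⁻¹]) := by
        show lam (GLin.orbitHom k A (GLin.vecPt k ι v) (p hd (χ' j) (MvPolynomial.X i))) = _
        rw [orbitHom_of_coact_eq _ _ _ (coact_p hd (χ' j) _), map_smul, hlam]
      by_contra hall
      push Not at hall
      apply hcij
      have h3 : (c i j • (LaurentPolynomial.T (e j) : k[T;T⁻¹])).coeff (e j) = c i j := by
        rw [AddMonoidAlgebra.coeff_smul, Finsupp.smul_apply, hcoefT]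
        simp
      rw [← h3, ← h2, h1]
      have : ∀ (s : Finset ι), (∑ l ∈ s, coord hd (χ' j) (mi l) • ell lam v l).coeff (e j) = 0 := by
        intro s
        induction s using Finset.induction_on with
        | empty => simp
        | insert a s ha ih =>
          rw [Finset.sum_insert ha, AddMonoidAlgebra.coeff_add, Finsupp.add_apply, ih,
            AddMonoidAlgebra.coeff_smul, Finsupp.smul_apply, hall a]
          simp
      exact this Finset.univ
    rw [isMu_iff]
    constructor
    · rintro ⟨h1, i, hi⟩
      refine ⟨?_, ?_⟩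
      · intro j hj
        obtain ⟨i', hi'⟩ := (Finset.mem_filter.mp hj).2
        obtain ⟨l, hl⟩ := hfact2 i' j hi'
        have := h1 l _ hl
        omega
      · rw [hcoeff] at hi
        obtain ⟨j, -, hj⟩ := Finset.exists_ne_zero_of_sum_ne_zero hi
        split_ifs at hj with hej
        · exact ⟨j, Finset.mem_filter.mpr ⟨Finset.mem_univ _, i, hj⟩, by omega⟩
        · exact absurd rfl hj
    · rintro ⟨h1, j₀, hj₀, hm⟩
      refine ⟨?_, ?_⟩
      · intro i n hn
        rw [hcoeff] at hn
        obtain ⟨j, -, hj⟩ := Finset.exists_ne_zero_of_sum_ne_zero hn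
        split_ifs at hj with hej
        · have := h1 j (Finset.mem_filter.mpr ⟨Finset.mem_univ _, i, hj⟩)
          omega
        · exact absurd rfl hj
      · obtain ⟨i', hi'⟩ := (Finset.mem_filter.mp hj₀).2
        obtain ⟨l, hl⟩ := hfact2 i' j₀ hi'
        refine ⟨l, ?_⟩
        have : -m = e j₀ := by omega
        rw [this]; exact hl

/-- Let k be a field and T = Spec A a diagonalizable affine group (A a commutative Hopf algebra spanned
by its group-like elements, e.g. a torus) acting linearly on affine ι-space. Then there are finitely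
many characters χ_1, …, χ_N of T (group-like elements of A) such that every vector v ≠ 0 has a
non-empty set I of indices for which, for every one-parameter subgroup λ of T with λ(χ_j) = t^(e_j),
the numerical function μ(v, λ) (the m for which t^m · (v moved by λ(t)) tends to a non-zero vector)
equals the maximum of −e_j over j ∈ I: μ is the maximum of finitely many linear functionals on
one-parameter subgroups. (The published proposition concerns a maximal torus of a reductive group
acting on a proper scheme with an ample linearised invertible sheaf; this row is the case of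
projective space with the hyperplane bundle, for any diagonalizable group acting linearly, stated on
the affine cone.) -/
theorem result (k : Type u) [Field k]
    (A : Type u) [CommRing A] [HopfAlgebra k A] (hdiag : HopfRep.IsDiagonalizable k A)
    (ι : Type u) [Fintype ι] [HopfRep.Comod k A (MvPolynomial ι k)] [GLin.IsCoactAlg k A (MvPolynomial ι k)]
    (hlin : GLin.IsLinear k A ι) :
    ∃ (N : ℕ) (χ : Fin N → A), (∀ j, IsGroupLikeElem k (χ j)) ∧
      ∀ v : ι → k, v ≠ 0 → ∃ I : Finset (Fin N), I.Nonempty ∧
        ∀ (lam : A →ₐc[k] k[T;T⁻¹]) (e : Fin N → ℤ), (∀ j, lam (χ j) = LaurentPolynomial.T (e j)) →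
          ∀ m : ℤ, GLin.IsMu k A lam v m ↔ ((∀ j ∈ I, -e j ≤ m) ∧ ∃ j ∈ I, m = -e j) := by
  exact aux k A hdiag ι hlin

end Groth.Agent.S12553
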