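import Groth.Statements.S12557
import Groth.Agent.Lib.helper29.Reynolds

set_option autoImplicit false
universe u
open TensorProduct
open GIT

namespace Groth.Agent.S12557

/-- Let k be a field, G = Spec A a linearly reductive affine group (A a commutative Hopf algebra whose
finite-dimensional comodules are all semisimple) acting on the affine scheme Spec R, R_0 ⊆ R the
ring of invariants, and (𝔄_i) a family of ideals of R each stable under the coaction. Then the sum
of the 𝔄_i meets R_0 in the sum of the intersections 𝔄_i ∩ R_0. -/
theorem result (k : Type u) [Field k] (A : Type u) [CommRing A] [HopfAlgebra k A]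
    (hG : HopfRep.IsLinearlyReductive k A)
    (R : Type u) [CommRing R] [Algebra k R] [HopfRep.Comod k A R] [GLin.IsCoactAlg k A R]
    (ι : Type u) (𝔄 : ι → Ideal R) (h𝔄 : ∀ i, HopfRep.IsSubcomod (k := k) (A := A) ((𝔄 i).restrictScalars k)) :
    (⨆ i, (𝔄 i).restrictScalars k) ⊓ Subalgebra.toSubmodule (GLin.invariants k A R) =
      ⨆ i, ((𝔄 i).restrictScalars k ⊓ Subalgebra.toSubmodule (GLin.invariants k A R)) := by
  open Groth.Agent.Lib.helper29.Reynolds in
  apply le_antisymm
  · obtain ⟨E, hE⟩ := exists_reynolds (k := k) (A := A) hG R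
    have claim : ∀ r ∈ (⨆ i, (𝔄 i).restrictScalars k),
        E r ∈ ⨆ i, ((𝔄 i).restrictScalars k ⊓ Subalgebra.toSubmodule (GLin.invariants k A R)) := by
      intro r hr
      induction hr using Submodule.iSup_induction' with
      | mem i x hx =>
        apply Submodule.mem_iSup_of_mem i
        refine ⟨reynolds_mem_subcomod hG hE _ (h𝔄 i) x hx, ?_⟩
        exact reynolds_mem_fixedPts hE x
      | zero => rw [map_zero]; exact Submodule.zero_mem _
      | add x y _ _ hx hy => rw [map_add]; exact Submodule.add_mem _ hx hy
    rintro z ⟨hz1, hz2⟩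
    have hEz : E z = z := (hE.2.2 z).mpr hz2
    rw [← hEz]
    exact claim z hz1
  · exact le_inf (iSup_mono fun i => inf_le_left) (iSup_le fun i => inf_le_right)

end Groth.Agent.S12557
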