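import Groth.Statements.S12580
import Groth.Agent.Lib.helper16.FFRes

set_option autoImplicit false
universe u v w
open FunFld

namespace Groth.Agent.S12580

/-- In a function field of one variable `K/k`, `Res_P(u dv) = 0` when `u, v ∈ O_P` (already before the
trace), and for a repartition `α` and `v ∈ K`, `Res_P(α_P dv) = 0` for almost all `P`; residues read
through Laurent expansions over `k` at every place. -/
theorem result (k : Type u) (K : Type v) [Field k] [Field K] [Algebra k K] (hK : FunFld.IsFunctionField k K)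
    (F : FunFld.Place k K → Type w) [∀ P, Field (F P)] [∀ P, Algebra k (F P)] [∀ P, FiniteDimensional k (F P)]
    (φ : ∀ P, K →ₐ[k] LaurentSeries (F P)) (hφ : ∀ P, LocRes.IsExpansionAt P.1 (φ P)) :
    (∀ (P : FunFld.Place k K) (u v : K), P.1 u ≤ 1 → P.1 v ≤ 1 → LocRes.resExp (φ P) u v = 0) ∧
    ∀ (a : FunFld.Place k K → K), a ∈ FunFld.adele k K → ∀ v : K,
      {P : FunFld.Place k K | LocRes.resExp (φ P) (a P) v ≠ 0}.Finite := by
  open Groth.Agent.Lib.helper16.FF in
  have key : ∀ (P : FunFld.Place k K) (u v : K), P.1 u ≤ 1 → P.1 v ≤ 1 →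
      LocRes.resExp (φ P) u v = 0 := by
    intro P u v hu hv
    have hu' : Valued.v ((φ P) u) ≤ (1 : WithZero (Multiplicative ℤ)) := by
      rw [(hφ P).1 u]; exact hu
    have hv' : Valued.v ((φ P) v) ≤ (1 : WithZero (Multiplicative ℤ)) := by
      rw [(hφ P).1 v]; exact hv
    obtain ⟨U, hU⟩ := (LaurentSeries.val_le_one_iff_eq_coe (F P) _).mp hu'
    obtain ⟨W, hW⟩ := (LaurentSeries.val_le_one_iff_eq_coe (F P) _).mp hv'
    unfold LocRes.resExp
    rw [← hU, ← hW, LocRes.D_coe, ← PowerSeries.coe_mul, LocRes.res_apply, PowerSeries.coeff_coe]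
    simp
  refine ⟨key, ?_⟩
  intro a ha v
  have ha' : {P : FunFld.Place k K | ¬ P.1 (a P) ≤ 1}.Finite := ha
  have hv' : {P : FunFld.Place k K | ¬ P.1 v ≤ 1}.Finite := by
    by_cases hv : v ∈ Set.range (algebraMap k K)
    · obtain ⟨c, rfl⟩ := hv
      have : {P : FunFld.Place k K | ¬ P.1 (algebraMap k K c) ≤ 1} = ∅ := by
        ext P
        simp only [Set.mem_ofPred_eq, Set.mem_empty_iff_false, iff_false, not_not]
        exact P.2.1 c
      rw [this]
      exact Set.finite_empty
    · refine (poles_finite hK hv).subset ?_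
      intro P hP
      exact not_le.mp hP
  refine (ha'.union hv').subset ?_
  intro P hP
  by_contra hcon
  rw [Set.mem_union, not_or] at hcon
  exact hP (key P (a P) v (not_not.mp hcon.1) (not_not.mp hcon.2))

end Groth.Agent.S12580
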