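import Groth.Statements.S12595


set_option autoImplicit false
open FunFld

namespace Groth.Agent.S12595

/-- Over an algebraically closed constant field, let `φ` be a birational projective map of the function
field `K` (the ratios `φ i / φ 0` generate `K`), `τ` a `k`-endomorphism of `K` and `H` a total Hasse
derivative. Then the first `τ`-order of `φ` is positive — the column `φ` of `0`-th Hasse derivatives
lies in the `K`-span of the leading column `τ(φ)` — exactly when `τ` is the identity. -/
theorem result
    (k K : Type*) [Field k] [IsAlgClosed k] [Field K] [Algebra k K]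
    (hK : FunFld.IsFunctionField k K) {n : ℕ} (φ : Fin (n + 1) → K) (h0 : φ 0 ≠ 0)
    (hbir : IntermediateField.adjoin k (Set.range fun i => φ i / φ 0) = ⊤)
    (τ : K →ₐ[k] K) (s : K) (H : K →ₐ[k] PowerSeries K) (hH : LocRes.IsHasseFamily s H) :
    ¬ FunFld.IsJump K (FunFld.hcol τ H φ) 1 ↔ τ = AlgHom.id k K := by
  have hc1 : FunFld.hcol τ H φ 1 = φ := by
    funext i
    show LocRes.hasseD H 0 (φ i) = φ i
    rw [LocRes.hasseD_apply, PowerSeries.coeff_zero_eq_constantCoeff_apply, hH.2]
  have hc0 : FunFld.hcol τ H φ 0 = fun i => τ (φ i) := rfl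
  have hIio : (Set.Iio 1 : Set ℕ) = {0} := by
    ext m
    simp
  unfold FunFld.IsJump
  rw [hIio, Set.image_singleton, hc1, hc0, not_not, Submodule.mem_span_singleton]
  constructor
  · rintro ⟨a, ha⟩
    have hai : ∀ i, a * τ (φ i) = φ i := fun i => congrFun ha i
    have ha0 : a ≠ 0 := by
      rintro rfl
      exact h0 (by rw [← hai 0, zero_mul])
    have hτ0 : τ (φ 0) ≠ 0 := by
      intro h
      exact h0 (by rw [← hai 0, h, mul_zero])
    -- the fixed field of `τ`
    let E : IntermediateField k K :=
      (AlgHom.equalizer τ (AlgHom.id k K)).toIntermediateField (by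
        intro y hy
        rw [AlgHom.mem_equalizer] at hy ⊢
        rw [map_inv₀, hy]
        rfl)
    have hE : ∀ y, y ∈ E ↔ τ y = y := by
      intro y
      show y ∈ AlgHom.equalizer τ (AlgHom.id k K) ↔ _
      rw [AlgHom.mem_equalizer]
      rfl
    have hle : IntermediateField.adjoin k (Set.range fun i => φ i / φ 0) ≤ E := by
      rw [IntermediateField.adjoin_le_iff]
      rintro _ ⟨i, rfl⟩
      have hτi : ∀ i, τ (φ i) = φ i / a := by
        intro i
        rw [eq_div_iff ha0, mul_comm]
        exact hai i
      rw [SetLike.mem_coe, hE, map_div₀, hτi i, hτi 0]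
      field_simp
    rw [hbir] at hle
    ext y
    exact (hE y).mp (hle IntermediateField.mem_top)
  · rintro rfl
    exact ⟨1, by simp⟩

end Groth.Agent.S12595
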