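import Groth.Statements.S12596


set_option autoImplicit false
open FunFld

namespace Groth.Agent.S12596

/-- Over an algebraically closed constant field, replacing a projective map `φ` by `Aφ` for an
invertible matrix `A` over `k` does not change the `τ`-order sequence, and multiplies every
generalized Wronskian determinant `det [τ(φ) | D^(I₁) φ | ⋯ | D^(Iₙ) φ]` (Hasse derivatives taken
with `H`) by `det A`. -/
theorem result
    (k K : Type*) [Field k] [IsAlgClosed k] [Field K] [Algebra k K]
    (hK : FunFld.IsFunctionField k K) {n : ℕ} (φ : Fin (n + 1) → K) (hφ : LinearIndependent k φ)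
    (τ : K →ₐ[k] K) (s : K) (H : K →ₐ[k] PowerSeries K) (hH : LocRes.IsHasseFamily s H)
    (A : Matrix (Fin (n + 1)) (Fin (n + 1)) k) (hA : A.det ≠ 0)
    (φ' : Fin (n + 1) → K) (hφ' : ∀ i, φ' i = ∑ j, A i j • φ j) :
    (∀ J : Fin n → ℕ, FunFld.IsOrders K (FunFld.hcol τ H φ') J ↔ FunFld.IsOrders K (FunFld.hcol τ H φ) J) ∧
    ∀ I : Fin n → ℕ, (FunFld.wrMat τ H φ' I).det = algebraMap k K A.det * (FunFld.wrMat τ H φ I).det := by
  classical
  let AK : Matrix (Fin (n + 1)) (Fin (n + 1)) K := A.map (algebraMap k K)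
  have hdetAK : AK.det = algebraMap k K A.det := (RingHom.map_det (algebraMap k K) A).symm
  have hAK0 : AK.det ≠ 0 := by
    rw [hdetAK]
    exact (map_ne_zero (algebraMap k K)).mpr hA
  -- `k`-linear maps commute with `A`
  have hlin : ∀ (f : K →ₗ[k] K) (i : Fin (n + 1)), f (φ' i) = ∑ j, AK i j * f (φ j) := by
    intro f i
    rw [hφ' i, map_sum]
    refine Finset.sum_congr rfl fun j _ => ?_
    rw [map_smul, Algebra.smul_def]
    rfl
  have hcoeff : ∀ (m : ℕ) (i : Fin (n + 1)),
      LocRes.hasseD H m (φ' i) = ∑ j, AK i j * LocRes.hasseD H m (φ j) := by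
    intro m i
    exact hlin ((PowerSeries.coeff (R := K) m).restrictScalars k ∘ₗ H.toLinearMap) i
  have hτ : ∀ i, τ (φ' i) = ∑ j, AK i j * τ (φ j) := fun i => hlin τ.toLinearMap i
  have hcol : ∀ m, FunFld.hcol τ H φ' m = AK.mulVec (FunFld.hcol τ H φ m) := by
    intro m
    funext i
    cases m with
    | zero => exact hτ i
    | succ m => exact hcoeff m i
  constructor
  · -- the order sequences agree
    have hunit : IsUnit AK := (Matrix.isUnit_iff_isUnit_det AK).mpr (isUnit_iff_ne_zero.mpr hAK0)
    let Lm : (Fin (n + 1) → K) ≃ₗ[K] (Fin (n + 1) → K) :=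
      LinearEquiv.ofBijective AK.mulVecLin
        ⟨Matrix.mulVec_injective_iff_isUnit.mpr hunit, Matrix.mulVec_surjective_iff_isUnit.mpr hunit⟩
    have hLm : ∀ v, Lm v = AK.mulVec v := fun v => rfl
    have hjump : ∀ j, FunFld.IsJump K (FunFld.hcol τ H φ') j ↔
        FunFld.IsJump K (FunFld.hcol τ H φ) j := by
      intro j
      unfold FunFld.IsJump
      have himg : (FunFld.hcol τ H φ') '' Set.Iio j = Lm '' ((FunFld.hcol τ H φ) '' Set.Iio j) := by
        rw [Set.image_image]
        apply Set.image_congr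
        intro m _
        rw [hcol m, hLm]
      rw [himg, hcol j, ← hLm, ← LinearEquiv.coe_coe, ← Submodule.map_span]
      rw [not_iff_not]
      constructor
      · rintro ⟨v, hv, hv'⟩
        have : v = FunFld.hcol τ H φ j := Lm.injective hv'
        rwa [← this]
      · intro hv
        exact ⟨_, hv, rfl⟩
    intro J
    unfold FunFld.IsOrders
    simp only [hjump]
  · intro I
    have hmat : FunFld.wrMat τ H φ' I = AK * FunFld.wrMat τ H φ I := by
      ext i c
      rw [Matrix.mul_apply]
      refine Fin.cases ?_ (fun l => ?_) c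
      · simp only [FunFld.wrMat, Matrix.of_apply, Fin.cases_zero]
        exact hτ i
      · simp only [FunFld.wrMat, Matrix.of_apply, Fin.cases_succ]
        exact hcoeff (I l) i
    rw [hmat, Matrix.det_mul, hdetAK]

end Groth.Agent.S12596
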