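import Groth.Statements.S12602
import Groth.Agent.Lib.helper16.Jumps
import Groth.Agent.S12595

set_option autoImplicit false
open FunFld

namespace Groth.Agent.S12602

/-- Over an algebraically closed constant field, for a birational projective map `φ = (φ₀, …, φₙ)`, `n ≥
1`, with orders `j₁ < ⋯ < jₙ`, and `τ ≠ 1`, the `τ`-orders of `φ` are `(0, j₁, …, j_{m-1}, j_{m+1},
…, jₙ)` for some `m`: the jump indices of `[τ(φ) | D^(0) φ | D^(1) φ | ⋯]` after the leading column
are `0` and the `jₗ` with `l ≠ m`. -/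
theorem result
    (k K : Type*) [Field k] [IsAlgClosed k] [Field K] [Algebra k K]
    (hK : FunFld.IsFunctionField k K) {n : ℕ} (hn : 0 < n) (φ : Fin (n + 1) → K) (hφ : LinearIndependent k φ)
    (h0 : φ 0 ≠ 0) (hbir : IntermediateField.adjoin k (Set.range fun i => φ i / φ 0) = ⊤)
    (τ : K →ₐ[k] K) (hτ : τ ≠ AlgHom.id k K) (s : K) (H : K →ₐ[k] PowerSeries K) (hH : LocRes.IsHasseFamily s H)
    (J : Fin n → ℕ) (hJ : FunFld.IsOrders K (FunFld.hcol (AlgHom.id k K) H φ) J) :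
    ∃ m : Fin n, ∀ j : ℕ,
      FunFld.IsJump K (FunFld.hcol τ H φ) (j + 1) ↔ (j = 0 ∨ ∃ l, l ≠ m ∧ J l = j) := by
  open Groth.Agent.Lib.helper16.Jmp in
  have hM : Module.finrank K (Fin (n + 1) → K) = n + 1 := by simp
  have hj1 : FunFld.IsJump K (FunFld.hcol τ H φ) 1 := by
    by_contra hnj
    exact hτ ((Groth.Agent.S12595.result k K hK φ h0 hbir τ s H hH).mp hnj)
  have hc1 : FunFld.hcol (AlgHom.id k K) H φ 1 = FunFld.hcol (AlgHom.id k K) H φ 0 := by
    funext i
    show LocRes.hasseD H 0 (φ i) = φ i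
    rw [LocRes.hasseD_apply, PowerSeries.coeff_zero_eq_constantCoeff_apply, hH.2]
  have he : FunFld.hcol τ H φ 0 ≠ 0 := by
    intro h
    have h1 : τ (φ 0) = 0 := congrFun h 0
    exact h0 ((map_eq_zero τ).mp h1)
  have hd0 : FunFld.hcol (AlgHom.id k K) H φ 0 ≠ 0 := by
    intro h
    exact h0 (congrFun h 0)
  exact tau_orders hM (FunFld.hcol τ H φ) (FunFld.hcol (AlgHom.id k K) H φ) (fun j => rfl) hc1 he hd0
    hj1 J hJ

end Groth.Agent.S12602
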