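import Groth.Statements.S4853
import Mathlib
import Groth.Agent.Lib.helper14.AdicExact

set_option autoImplicit false
universe u
open TensorProduct
open EGA43

namespace Groth.Agent.S4853

namespace S4853aux
open TensorProduct Function

/-- Lemma Q: a surjection onto a flat module which is injective modulo a nilpotent ideal is
injective. -/
theorem injective_of_flat_of_nilpotent {A' : Type u} [CommRing A'] (J' : Ideal A')
    (hJ' : IsNilpotent J')
    {L' N : Type u} [AddCommGroup L'] [Module A' L'] [AddCommGroup N] [Module A' N]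
    [Module.Flat A' N] (φ' : L' →ₗ[A'] N) (hsurj : Surjective φ')
    (hmod : ∀ x, φ' x ∈ (J' • ⊤ : Submodule A' N) → x ∈ (J' • ⊤ : Submodule A' L')) :
    Injective φ' := by
  obtain ⟨n, hn⟩ := hJ'
  have hK : ∀ m : ℕ, LinearMap.ker φ' ≤ (J' ^ m) • LinearMap.ker φ' := by
    intro m
    induction m with
    | zero => rw [pow_zero, Ideal.one_eq_top, Submodule.top_smul]
    | succ m ih =>
      have h1 : LinearMap.ker φ' ≤ J' • LinearMap.ker φ' := by
        intro x hx
        have hx1 : x ∈ (J' • ⊤ : Submodule A' L') := hmod x (by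
          rw [LinearMap.mem_ker.mp hx]; exact zero_mem _)
        have := H14.smul_top_inf_range_le_of_flat (LinearMap.ker φ').subtype φ'
          (Submodule.injective_subtype _) hsurj (LinearMap.exact_subtype_ker_map φ') J'
          ⟨hx1, ⟨⟨x, hx⟩, rfl⟩⟩
        rw [Submodule.map_smul'', Submodule.map_subtype_top] at this
        exact this
      calc LinearMap.ker φ' ≤ J' • LinearMap.ker φ' := h1
        _ ≤ J' • ((J' ^ m) • LinearMap.ker φ') := Submodule.smul_mono le_rfl ih
        _ = (J' ^ (m + 1)) • LinearMap.ker φ' := by rw [← mul_smul, ← pow_succ']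
  rw [← LinearMap.ker_eq_bot, ← le_bot_iff]
  calc LinearMap.ker φ' ≤ (J' ^ n) • LinearMap.ker φ' := hK n
    _ = ⊥ := by rw [hn, Ideal.zero_eq_bot, Submodule.bot_smul]

/-- nilpotent Nakayama -/
theorem eq_top_of_sup_smul_eq_top {A : Type u} [CommRing A] (J : Ideal A) (hJ : IsNilpotent J)
    {M : Type u} [AddCommGroup M] [Module A M] (N : Submodule A M)
    (h : N ⊔ J • ⊤ = ⊤) : N = ⊤ := by
  obtain ⟨n, hn⟩ := hJ
  have hK : ∀ m : ℕ, (⊤ : Submodule A M) ≤ N ⊔ (J ^ m) • ⊤ := by
    intro m
    induction m with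
    | zero => rw [pow_zero, Ideal.one_eq_top, Submodule.top_smul]; exact le_sup_right
    | succ m ih =>
      calc (⊤ : Submodule A M) ≤ N ⊔ (J ^ m) • ⊤ := ih
        _ = N ⊔ (J ^ m) • (N ⊔ J • ⊤) := by rw [h]
        _ ≤ N ⊔ (J ^ (m + 1)) • ⊤ := by
          rw [Submodule.smul_sup, ← mul_smul, ← pow_succ]
          refine sup_le le_sup_left (sup_le ?_ le_sup_right)
          exact le_trans Submodule.smul_le_right le_sup_left
  have := hK n
  rw [hn, Ideal.zero_eq_bot, Submodule.bot_smul, sup_bot_eq] at this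
  exact top_le_iff.mp this

section
variable {A : Type u} [CommRing A] (M : Type u) [AddCommGroup M] [Module A M] (J : Ideal A)
  {Λ : Type u} (b : Module.Basis Λ (A ⧸ J) ((A ⧸ J) ⊗[A] M)) (e : Λ → M)
  (hb : ∀ l, b l = (1 : A ⧸ J) ⊗ₜ[A] e l)

theorem key' (A' : Type u) [CommRing A'] [Algebra A A'] (c : Λ →₀ A) :
    (1 : A') ⊗ₜ[A] (Finsupp.linearCombination A e c) =
      Finsupp.linearCombination A' (fun l => (1 : A') ⊗ₜ[A] e l)
        (Finsupp.mapRange (algebraMap A A') (map_zero _) c) := by
  induction c using Finsupp.induction_linear with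
  | zero => simp
  | add x y hx hy =>
    rw [map_add, tmul_add, hx, hy, Finsupp.mapRange_add (by intro a b; exact map_add _ a b),
      map_add]
  | single l a =>
    rw [Finsupp.linearCombination_single, Finsupp.mapRange_single,
      Finsupp.linearCombination_single, tmul_smul, Algebra.algebraMap_eq_smul_one, smul_assoc,
      one_smul]

include hb in
theorem surj (hJ : IsNilpotent J) : Surjective (Finsupp.linearCombination A e) := by
  rw [← LinearMap.range_eq_top]
  apply eq_top_of_sup_smul_eq_top J hJ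
  rw [eq_top_iff]
  intro m _
  obtain ⟨c, hc⟩ := Finsupp.mapRange_surjective (Ideal.Quotient.mk J) (map_zero _)
    Ideal.Quotient.mk_surjective (b.repr ((1 : A ⧸ J) ⊗ₜ[A] m))
  have h1 : (1 : A ⧸ J) ⊗ₜ[A] (Finsupp.linearCombination A e c) = (1 : A ⧸ J) ⊗ₜ[A] m := by
    rw [key' M e (A ⧸ J) c]
    have : (fun l => (1 : A ⧸ J) ⊗ₜ[A] e l) = ⇑b := funext fun l => (hb l).symm
    rw [this]
    change Finsupp.linearCombination (A ⧸ J) b (Finsupp.mapRange (Ideal.Quotient.mk J) _ c) = _
    rw [hc, Module.Basis.linearCombination_repr]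
  have h2 : m - Finsupp.linearCombination A e c ∈ (J • ⊤ : Submodule A M) := by
    rw [← H14.one_tmul_eq_zero_iff, tmul_sub, h1, sub_self]
  have : m = Finsupp.linearCombination A e c + (m - Finsupp.linearCombination A e c) := by abel
  rw [this]
  exact Submodule.add_mem_sup (LinearMap.mem_range_self _ _) h2

theorem ker_lTensor_le {A : Type u} [CommRing A] {L M : Type u} [AddCommGroup L] [Module A L]
    [AddCommGroup M] [Module A M] (A' : Type u) [CommRing A'] [Algebra A A'] (φ : L →ₗ[A] M)
    (hsurj : Surjective φ) (x : A' ⊗[A] L) (hx : φ.lTensor A' x = 0) :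
    ∃ y, ((LinearMap.ker φ).subtype.lTensor A') y = x :=
  (lTensor_exact A' (LinearMap.exact_subtype_ker_map φ) hsurj x).mp hx

theorem freeA' (hsurj : Surjective (Finsupp.linearCombination A e))
    (A' : Type u) [CommRing A'] [Algebra A A']
    (hk : ∀ k : Λ →₀ A, Finsupp.linearCombination A e k = 0 → ∀ l, algebraMap A A' (k l) = 0) :
    Module.Free A' (A' ⊗[A] M) := by
  classical
  obtain ⟨φ, hφ⟩ : ∃ φ : (Λ →₀ A) →ₗ[A] M, φ = Finsupp.linearCombination A e := ⟨_, rfl⟩
  rw [← hφ] at hsurj hk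
  let ψ : A' ⊗[A] (Λ →₀ A) →ₗ[A'] A' ⊗[A] M := φ.baseChange A'
  have hψs : Surjective ψ := by
    have : Surjective (φ.lTensor A') := LinearMap.lTensor_surjective A' hsurj
    exact this
  have hzero : ∀ y, ((LinearMap.ker φ).subtype.lTensor A') y = 0 := by
    intro y
    induction y using TensorProduct.induction_on with
    | zero => simp
    | add x y hx hy => rw [map_add, hx, hy, add_zero]
    | tmul a' k =>
      rw [LinearMap.lTensor_tmul, Submodule.subtype_apply]
      have hk' := hk k.1 (LinearMap.mem_ker.mp k.2)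
      rw [← Finsupp.sum_single k.1, Finsupp.sum, tmul_sum]
      refine Finset.sum_eq_zero fun l _ => ?_
      have : Finsupp.single l (k.1 l) = (k.1 l) • Finsupp.single l (1 : A) := by
        rw [Finsupp.smul_single, smul_eq_mul, mul_one]
      rw [this, tmul_smul, smul_tmul', Algebra.smul_def, hk' l, zero_mul, zero_tmul]
  have hψi : Injective ψ := by
    rw [injective_iff_map_eq_zero]
    intro x hx
    have hx' : (φ.lTensor A') x = 0 := hx
    obtain ⟨y, rfl⟩ := ker_lTensor_le A' φ hsurj x hx'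
    exact hzero y
  exact Module.Free.of_equiv (LinearEquiv.ofBijective ψ ⟨hψi, hψs⟩)

include hb in
theorem flatA' (hJ : IsNilpotent J) (A' : Type u) [CommRing A'] [Algebra A A']
    [Module.Flat A' (A' ⊗[A] M)]
    (k : Λ →₀ A) (hk : Finsupp.linearCombination A e k = 0) (l : Λ) :
    algebraMap A A' (k l) = 0 := by
  classical
  have hsurj := surj M J b e hb hJ
  obtain ⟨J', hJ'def⟩ : ∃ J' : Ideal A', J' = J.map (algebraMap A A') := ⟨_, rfl⟩
  have hJ'nil : IsNilpotent J' := by
    obtain ⟨n, hn⟩ := hJ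
    refine ⟨n, ?_⟩
    rw [hJ'def, ← Ideal.map_pow, hn, Ideal.zero_eq_bot, Ideal.map_bot, Ideal.zero_eq_bot]
  let φ' : (Λ →₀ A') →ₗ[A'] A' ⊗[A] M :=
    Finsupp.linearCombination A' (fun l => (1 : A') ⊗ₜ[A] e l)
  have hφ's : Surjective φ' := by
    rw [← LinearMap.range_eq_top, eq_top_iff]
    intro y _
    clear * - hsurj φ'
    induction y using TensorProduct.induction_on with
    | zero => exact zero_mem _
    | add x y hx hy => exact add_mem hx hy
    | tmul a' m =>
      obtain ⟨c, rfl⟩ := hsurj m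
      have : a' ⊗ₜ[A] (Finsupp.linearCombination A e c) =
          a' • ((1 : A') ⊗ₜ[A] (Finsupp.linearCombination A e c)) := by
        rw [smul_tmul', smul_eq_mul, mul_one]
      rw [this, key' M e A' c]
      exact Submodule.smul_mem _ _ (LinearMap.mem_range_self _ _)
  -- the mod J' statement
  letI alg : Algebra (A ⧸ J) (A' ⧸ J') :=
    (Ideal.quotientMap J' (algebraMap A A') (by rw [hJ'def]; exact Ideal.le_comap_map)).toAlgebra
  haveI : IsScalarTower A (A ⧸ J) (A' ⧸ J') := IsScalarTower.of_algebraMap_eq (fun r => rfl)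
  let b' := b.baseChange (A' ⧸ J')
  let ec := AlgebraTensorModule.cancelBaseChange A (A ⧸ J) (A' ⧸ J') (A' ⧸ J') M
  let b'' : Module.Basis Λ (A' ⧸ J') ((A' ⧸ J') ⊗[A] M) := b'.map ec
  have hb'' : ∀ l, b'' l = (1 : A' ⧸ J') ⊗ₜ[A] e l := by
    intro l
    show ec (b' l) = _
    rw [Module.Basis.baseChange_apply, hb l, AlgebraTensorModule.cancelBaseChange_tmul, one_smul]
  let θ : A' ⊗[A] M →ₗ[A'] (A' ⧸ J') ⊗[A] M :=
    AlgebraTensorModule.map (Algebra.linearMap A' (A' ⧸ J')) (LinearMap.id : M →ₗ[A] M)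
  have hθ : ∀ l, θ ((1 : A') ⊗ₜ[A] e l) = b'' l := by
    intro l
    rw [hb'' l]
    simp [θ]
  have hθJ : ∀ y ∈ (J' • ⊤ : Submodule A' (A' ⊗[A] M)), θ y = 0 := by
    intro y hy
    refine Submodule.smul_induction_on (p := fun y => θ y = 0) hy ?_ ?_
    · intro j hj t _
      rw [map_smul, ← IsScalarTower.algebraMap_smul (A' ⧸ J') j (θ t)]
      have : algebraMap A' (A' ⧸ J') j = 0 := Ideal.Quotient.eq_zero_iff_mem.mpr hj
      rw [this, zero_smul]
    · intro x y hx hy
      rw [map_add, hx, hy, add_zero]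
  have h1 : ∀ x, θ (φ' x) = Finsupp.linearCombination (A' ⧸ J') b''
      (Finsupp.mapRange (Ideal.Quotient.mk J') (map_zero _) x) := by
    intro x
    induction x using Finsupp.induction_linear with
    | zero => simp
    | add x y hx hy =>
      rw [map_add, map_add, hx, hy, Finsupp.mapRange_add (by intro a b; exact map_add _ a b),
        map_add]
    | single l a =>
      simp only [φ', Finsupp.mapRange_single, Finsupp.linearCombination_single]
      rw [map_smul, hθ, ← IsScalarTower.algebraMap_smul (A' ⧸ J') a (b'' l)]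
      rfl
  have hmod : ∀ x, φ' x ∈ (J' • ⊤ : Submodule A' (A' ⊗[A] M)) →
      x ∈ (J' • ⊤ : Submodule A' (Λ →₀ A')) := by
    intro x hx
    have h0 := hθJ _ hx
    rw [h1] at h0
    have h2 := (linearIndependent_iff.mp b''.linearIndependent) _ h0
    have hx' : ∀ l, x l ∈ J' := by
      intro l
      have := DFunLike.congr_fun h2 l
      rw [Finsupp.mapRange_apply] at this
      exact Ideal.Quotient.eq_zero_iff_mem.mp this
    rw [← Finsupp.sum_single x, Finsupp.sum]
    refine Submodule.sum_mem _ fun l _ => ?_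
    have : Finsupp.single l (x l) = (x l) • Finsupp.single l (1 : A') := by
      rw [Finsupp.smul_single, smul_eq_mul, mul_one]
    rw [this]
    exact Submodule.smul_mem_smul (hx' l) Submodule.mem_top
  have hinj := injective_of_flat_of_nilpotent J' hJ'nil φ' hφ's hmod
  have h3 : φ' (Finsupp.mapRange (algebraMap A A') (map_zero _) k) = 0 := by
    show Finsupp.linearCombination A' (fun l => (1 : A') ⊗ₜ[A] e l) _ = 0
    rw [← key' M e A' k, hk, tmul_zero]
  have h4 := hinj (h3.trans (map_zero φ').symm)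
  have := DFunLike.congr_fun h4 l
  rw [Finsupp.mapRange_apply] at this
  exact this

end
end S4853aux

open TensorProduct in

/-- Let A be a commutative ring and M an A-module such that (A/J) ⊗_A M is free over A/J for some
nilpotent ideal J of A. Then among the ideals R of A such that (A/R) ⊗_A M is free over A/R there is
a least one, R₀, which is also the least ideal R such that (A/R) ⊗_A M is flat over A/R; and for
every commutative A-algebra A', the module A' ⊗_A M is free over A' if and only if it is flat over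
A', if and only if R₀ generates the zero ideal of A'. -/
theorem result {A : Type u} [CommRing A]
    (M : Type u) [AddCommGroup M] [Module A M]
    (J : Ideal A) (hJ : IsNilpotent J) (hfree : Module.Free (A ⧸ J) ((A ⧸ J) ⊗[A] M)) :
    ∃ R₀ : Ideal A,
      IsLeast {R : Ideal A | Module.Free (A ⧸ R) ((A ⧸ R) ⊗[A] M)} R₀ ∧
      IsLeast {R : Ideal A | Module.Flat (A ⧸ R) ((A ⧸ R) ⊗[A] M)} R₀ ∧
      ∀ (A' : Type u) [CommRing A'] [Algebra A A'],
        (Module.Free A' (A' ⊗[A] M) ↔ Ideal.map (algebraMap A A') R₀ = ⊥) ∧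
        (Module.Flat A' (A' ⊗[A] M) ↔ Ideal.map (algebraMap A A') R₀ = ⊥) := by
  classical
  let b := Module.Free.chooseBasis (A ⧸ J) ((A ⧸ J) ⊗[A] M)
  have hs : Function.Surjective (TensorProduct.mk A (A ⧸ J) M 1) :=
    TensorProduct.mk_surjective A M (A ⧸ J) Ideal.Quotient.mk_surjective
  choose e he using fun l => hs (b l)
  have hb : ∀ l, b l = (1 : A ⧸ J) ⊗ₜ[A] e l := fun l => (he l).symm
  have hsurj := S4853aux.surj M J b e hb hJ
  let gens : Set A := {a | ∃ k : _ →₀ A, Finsupp.linearCombination A e k = 0 ∧ ∃ l, k l = a}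
  have hmap : ∀ (A' : Type u) [CommRing A'] [Algebra A A'],
      Ideal.map (algebraMap A A') (Ideal.span gens) = ⊥ ↔
        ∀ k : _ →₀ A, Finsupp.linearCombination A e k = 0 → ∀ l, algebraMap A A' (k l) = 0 := by
    intro A' _ _
    rw [Ideal.map_span, Ideal.span_eq_bot]
    constructor
    · intro h k hk l
      exact h _ ⟨k l, ⟨k, hk, l, rfl⟩, rfl⟩
    · rintro h _ ⟨a, ⟨k, hk, l, rfl⟩, rfl⟩
      exact h k hk l
  have main : ∀ (A' : Type u) [CommRing A'] [Algebra A A'],
      (Module.Free A' (A' ⊗[A] M) ↔ Ideal.map (algebraMap A A') (Ideal.span gens) = ⊥) ∧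
      (Module.Flat A' (A' ⊗[A] M) ↔ Ideal.map (algebraMap A A') (Ideal.span gens) = ⊥) := by
    intro A' _ _
    have h1 : Module.Flat A' (A' ⊗[A] M) → Ideal.map (algebraMap A A') (Ideal.span gens) = ⊥ := by
      intro hfl
      rw [hmap]
      intro k hk l
      exact S4853aux.flatA' M J b e hb hJ A' k hk l
    have h2 : Ideal.map (algebraMap A A') (Ideal.span gens) = ⊥ → Module.Free A' (A' ⊗[A] M) := by
      intro h
      rw [hmap] at h
      exact S4853aux.freeA' M e hsurj A' h
    refine ⟨⟨fun h => h1 inferInstance, h2⟩, ⟨h1, fun h => ?_⟩⟩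
    haveI := h2 h
    infer_instance
  have hquot : ∀ R : Ideal A, Ideal.map (algebraMap A (A ⧸ R)) (Ideal.span gens) = ⊥ ↔
      Ideal.span gens ≤ R := by
    intro R
    rw [Ideal.map_eq_bot_iff_le_ker]
    show _ ≤ RingHom.ker (Ideal.Quotient.mk R) ↔ _
    rw [Ideal.mk_ker]
  refine ⟨Ideal.span gens, ⟨?_, ?_⟩, ⟨?_, ?_⟩, main⟩
  · show Module.Free (A ⧸ Ideal.span gens) _
    rw [(main (A ⧸ Ideal.span gens)).1, hquot]
  · intro R hR
    have hR' : Module.Free (A ⧸ R) ((A ⧸ R) ⊗[A] M) := hR
    rw [(main (A ⧸ R)).1, hquot] at hR'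
    exact hR'
  · show Module.Flat (A ⧸ Ideal.span gens) _
    rw [(main (A ⧸ Ideal.span gens)).2, hquot]
  · intro R hR
    have hR' : Module.Flat (A ⧸ R) ((A ⧸ R) ⊗[A] M) := hR
    rw [(main (A ⧸ R)).2, hquot] at hR'
    exact hR'

end Groth.Agent.S4853
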