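import Groth.Statements.S1265
import Mathlib
import Groth.Agent.S4853
import Groth.Agent.Lib.helper24.NilFlat2

set_option autoImplicit false
universe u
open FlatMor

namespace Groth.Agent.S1265

namespace S1265aux
open TensorProduct Function Groth.Agent.Lib.helper24.NilFlat

attribute [local instance] Algebra.TensorProduct.rightAlgebra

theorem local_data {A : Type u} [CommRing A] [IsArtinianRing A] (N : Type u) [AddCommGroup N]
    [Module A N] (𝔪 : MaximalSpectrum A) :
    ∃ R : Ideal (Localization.AtPrime 𝔪.asIdeal), ∀ (A'' : Type u) [CommRing A'']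
      [Algebra (Localization.AtPrime 𝔪.asIdeal) A''],
      Module.Flat A'' (A'' ⊗[Localization.AtPrime 𝔪.asIdeal]
        (Localization.AtPrime 𝔪.asIdeal ⊗[A] N)) ↔
      R.map (algebraMap (Localization.AtPrime 𝔪.asIdeal) A'') = ⊥ := by
  have hnil : IsNilpotent (IsLocalRing.maximalIdeal (Localization.AtPrime 𝔪.asIdeal)) := by
    rw [← IsLocalRing.jacobson_eq_maximalIdeal (⊥ : Ideal (Localization.AtPrime 𝔪.asIdeal))
      bot_ne_top]
    exact IsArtinianRing.isNilpotent_jacobson_bot
  have hfree : Module.Free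
      (Localization.AtPrime 𝔪.asIdeal ⧸ IsLocalRing.maximalIdeal (Localization.AtPrime 𝔪.asIdeal))
      ((Localization.AtPrime 𝔪.asIdeal ⧸
          IsLocalRing.maximalIdeal (Localization.AtPrime 𝔪.asIdeal)) ⊗[Localization.AtPrime 𝔪.asIdeal]
        (Localization.AtPrime 𝔪.asIdeal ⊗[A] N)) := by
    letI : Field (Localization.AtPrime 𝔪.asIdeal ⧸
        IsLocalRing.maximalIdeal (Localization.AtPrime 𝔪.asIdeal)) := Ideal.Quotient.field _
    exact Module.Free.of_divisionRing _ _
  obtain ⟨R₀, -, -, h⟩ := Groth.Agent.S4853.result (Localization.AtPrime 𝔪.asIdeal ⊗[A] N)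
    (IsLocalRing.maximalIdeal (Localization.AtPrime 𝔪.asIdeal)) hnil hfree
  exact ⟨R₀, fun A'' _ _ => (h A'').2⟩

theorem core {A : Type u} [CommRing A] [IsArtinianRing A] (N : Type u) [AddCommGroup N]
    [Module A N] :
    ∃ I : Ideal A, ∀ (A' : Type u) [CommRing A'] [Algebra A A'],
      Module.Flat A' (A' ⊗[A] N) ↔ I.map (algebraMap A A') = ⊥ := by
  classical
  choose R hR using local_data (A := A) N
  refine ⟨⨅ 𝔪 : MaximalSpectrum A, (R 𝔪).comap (algebraMap A (Localization.AtPrime 𝔪.asIdeal)), ?_⟩
  intro A' _ _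
  constructor
  · intro hflat
    rw [eq_bot_iff, Ideal.map_le_iff_le_comap]
    intro a ha
    rw [Ideal.mem_comap, Ideal.mem_bot]
    -- annihilator argument
    by_contra hne
    let Ann : Ideal A := LinearMap.ker (LinearMap.toSpanSingleton A A' (algebraMap A A' a))
    have hAnn : Ann ≠ ⊤ := by
      intro h
      have : (1 : A) ∈ Ann := h ▸ Submodule.mem_top
      have h1 : LinearMap.toSpanSingleton A A' (algebraMap A A' a) 1 = 0 := this
      rw [LinearMap.toSpanSingleton_apply, one_smul] at h1
      exact hne h1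
    obtain ⟨P, hP, hle⟩ := Ideal.exists_le_maximal Ann hAnn
    let 𝔪 : MaximalSpectrum A := ⟨P, hP⟩
    -- A'' = A_𝔪 ⊗ A'
    haveI : Module.Flat (Localization.AtPrime 𝔪.asIdeal ⊗[A] A')
        ((Localization.AtPrime 𝔪.asIdeal ⊗[A] A') ⊗[A] N) :=
      flat_baseChange_of_flat_baseChange A A' (Localization.AtPrime 𝔪.asIdeal ⊗[A] A') N
    haveI : Module.Flat (Localization.AtPrime 𝔪.asIdeal ⊗[A] A')
        ((Localization.AtPrime 𝔪.asIdeal ⊗[A] A') ⊗[Localization.AtPrime 𝔪.asIdeal]
          (Localization.AtPrime 𝔪.asIdeal ⊗[A] N)) :=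
      flat_baseChange_baseChange A (Localization.AtPrime 𝔪.asIdeal)
        (Localization.AtPrime 𝔪.asIdeal ⊗[A] A') N
    have h0 := (hR 𝔪 (Localization.AtPrime 𝔪.asIdeal ⊗[A] A')).mp inferInstance
    have ha' : algebraMap A (Localization.AtPrime 𝔪.asIdeal) a ∈ R 𝔪 := by
      have := (Ideal.mem_iInf.mp ha) 𝔪
      exact this
    have h1 : algebraMap (Localization.AtPrime 𝔪.asIdeal) (Localization.AtPrime 𝔪.asIdeal ⊗[A] A')
        (algebraMap A (Localization.AtPrime 𝔪.asIdeal) a) = 0 := by
      have := Ideal.mem_map_of_mem (algebraMap (Localization.AtPrime 𝔪.asIdeal)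
        (Localization.AtPrime 𝔪.asIdeal ⊗[A] A')) ha'
      rwa [h0, Ideal.mem_bot] at this
    have h2 : (TensorProduct.mk A (Localization.AtPrime 𝔪.asIdeal) A' 1) (algebraMap A A' a) = 0 := by
      rw [Algebra.TensorProduct.algebraMap_apply] at h1
      rw [TensorProduct.mk_apply, Algebra.algebraMap_eq_smul_one, ← TensorProduct.smul_tmul,
        ← Algebra.algebraMap_eq_smul_one]
      exact h1
    obtain ⟨c, hc⟩ := (IsLocalizedModule.eq_zero_iff 𝔪.asIdeal.primeCompl
      (TensorProduct.mk A (Localization.AtPrime 𝔪.asIdeal) A' 1)).mp h2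
    apply c.2
    apply hle
    show LinearMap.toSpanSingleton A A' (algebraMap A A' a) c = 0
    rw [LinearMap.toSpanSingleton_apply]
    exact hc
  · intro hI
    refine Module.flat_of_localized_maximal (A' ⊗[A] N) ?_
    intro P hP
    haveI : (P.comap (algebraMap A A')).IsPrime := Ideal.comap_isPrime _ _
    obtain ⟨𝔪, h𝔪⟩ : ∃ 𝔪 : MaximalSpectrum A, 𝔪.asIdeal = P.comap (algebraMap A A') :=
      ⟨⟨P.comap (algebraMap A A'), IsArtinianRing.isMaximal_of_isPrime _⟩, rfl⟩
    let φ : Localization.AtPrime 𝔪.asIdeal →+* Localization.AtPrime P :=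
      Localization.localRingHom 𝔪.asIdeal P (algebraMap A A') h𝔪
    letI : Algebra (Localization.AtPrime 𝔪.asIdeal) (Localization.AtPrime P) := φ.toAlgebra
    haveI : IsScalarTower A (Localization.AtPrime 𝔪.asIdeal) (Localization.AtPrime P) :=
      IsScalarTower.of_algebraMap_eq (fun a => by
        show algebraMap A (Localization.AtPrime P) a = φ (algebraMap A _ a)
        rw [Localization.localRingHom_to_map]
        exact IsScalarTower.algebraMap_apply A A' (Localization.AtPrime P) a)
    have hzero : (R 𝔪).map (algebraMap (Localization.AtPrime 𝔪.asIdeal) (Localization.AtPrime P))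
        = ⊥ := by
      rw [eq_bot_iff, Ideal.map_le_iff_le_comap]
      intro r hr
      rw [Ideal.mem_comap, Ideal.mem_bot]
      obtain ⟨a, ha⟩ :=
        PrimeSpectrum.maximalSpectrumToPiLocalization_surjective_of_discreteTopology A
          (Pi.single 𝔪 r)
      have haI : a ∈ ⨅ 𝔪' : MaximalSpectrum A,
          (R 𝔪').comap (algebraMap A (Localization.AtPrime 𝔪'.asIdeal)) := by
        rw [Ideal.mem_iInf]
        intro 𝔪'
        rw [Ideal.mem_comap]
        have := congrFun ha 𝔪'
        rw [MaximalSpectrum.toPiLocalization_apply_apply] at this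
        rw [this]
        by_cases h : 𝔪' = 𝔪
        · subst h
          rw [Pi.single_eq_same]
          exact hr
        · rw [Pi.single_eq_of_ne h]
          exact Ideal.zero_mem _
      have h1 : algebraMap A A' a = 0 := by
        have := Ideal.mem_map_of_mem (algebraMap A A') haI
        rwa [hI, Ideal.mem_bot] at this
      have h2 : algebraMap A (Localization.AtPrime 𝔪.asIdeal) a = r := by
        have := congrFun ha 𝔪
        rwa [MaximalSpectrum.toPiLocalization_apply_apply, Pi.single_eq_same] at this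
      rw [← h2, ← IsScalarTower.algebraMap_apply A (Localization.AtPrime 𝔪.asIdeal)
        (Localization.AtPrime P), IsScalarTower.algebraMap_apply A A' (Localization.AtPrime P), h1,
        map_zero]
    haveI hfl1 : Module.Flat (Localization.AtPrime P)
        (Localization.AtPrime P ⊗[Localization.AtPrime 𝔪.asIdeal]
          (Localization.AtPrime 𝔪.asIdeal ⊗[A] N)) := (hR 𝔪 (Localization.AtPrime P)).mpr hzero
    haveI hfl2 : Module.Flat (Localization.AtPrime P) (Localization.AtPrime P ⊗[A] N) :=
      Module.Flat.of_linearEquiv (AlgebraTensorModule.cancelBaseChange A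
        (Localization.AtPrime 𝔪.asIdeal) (Localization.AtPrime P) (Localization.AtPrime P) N).symm
    haveI hfl3 : Module.Flat (Localization.AtPrime P)
        (Localization.AtPrime P ⊗[A'] (A' ⊗[A] N)) :=
      flat_baseChange_baseChange A A' (Localization.AtPrime P) N
    haveI hfl4 : Module.Flat A' (Localization.AtPrime P ⊗[A'] (A' ⊗[A] N)) :=
      Module.Flat.trans A' (Localization.AtPrime P) _
    exact Module.Flat.of_linearEquiv
      ((LocalizedModule.equivTensorProduct P.primeCompl (A' ⊗[A] N)).restrictScalars A')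

end S1265aux

open TensorProduct in

/-- Ring form, stated for X = Spec B affine: let A be an Artinian ring, B an A-algebra and N a B-module.
Then there is an ideal I of A such that for every A-algebra A', with B' = B ⊗_A A' and N' the base
change of N (any models), N' is flat over A' if and only if IA' = 0. -/
theorem result {A B : Type u} [CommRing A] [IsArtinianRing A] [CommRing B] [Algebra A B]
    (N : Type u) [AddCommGroup N] [Module B N] [Module A N] [IsScalarTower A B N] :
    ∃ I : Ideal A, ∀ (A' B' N' : Type u) [CommRing A'] [CommRing B'] [Algebra A A'] [Algebra B B'] [Algebra A' B'] [Algebra A B']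
      [IsScalarTower A B B'] [IsScalarTower A A' B'] [Algebra.IsPushout A B A' B']
      [AddCommGroup N'] [Module B' N'] [Module B N'] [IsScalarTower B B' N'] [Module A' N'] [IsScalarTower A' B' N']
      (f : N →ₗ[B] N'), IsBaseChange B' f →
      (Module.Flat A' N' ↔ I.map (algebraMap A A') = ⊥) := by
  obtain ⟨I, hI⟩ := S1265aux.core (A := A) N
  refine ⟨I, ?_⟩
  intro A' B' N' _ _ _ _ _ _ _ _ _ _ _ _ _ _ _ f hf
  rw [← hI A']
  haveI : Algebra.IsPushout A A' B B' := Algebra.IsPushout.symm inferInstance
  let e₁ : B' ⊗[B] N ≃ₗ[B'] N' := hf.equiv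
  let e₂ : B' ⊗[B] N ≃ₗ[A'] A' ⊗[A] N := Algebra.IsPushout.cancelBaseChange A A' B B' N
  exact Module.Flat.equiv_iff ((e₁.restrictScalars A').symm.trans e₂)

end Groth.Agent.S1265
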