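import Groth.Statements.S1267
import Mathlib
import Groth.Agent.Lib.helper24.NilFlat
import Groth.Agent.Lib.helper24.NilFlat2

set_option autoImplicit false
universe u
open FlatMor

namespace Groth.Agent.S1267

namespace S1267aux
open TensorProduct Function Groth.Agent.Lib.helper24.NilFlat

theorem exists_smul_eq_zero {A : Type u} [CommRing A] (p : Ideal A) [p.IsPrime]
    (M : Type u) [AddCommGroup M] [Module A M]
    [Module.Flat A (LocalizedModule p.primeCompl M)]
    {N N' : Type u} [AddCommGroup N] [Module A N] [AddCommGroup N'] [Module A N']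
    (ι : N →ₗ[A] N') (hι : Injective ι) (t : N ⊗[A] M) (ht : ι.rTensor M t = 0) :
    ∃ s : A, s ∉ p ∧ s • t = 0 := by
  let ℓ := LocalizedModule.mkLinearMap p.primeCompl M
  have h1 : (ι.rTensor _) ((ℓ.lTensor N) t) = 0 := by
    rw [← LinearMap.comp_apply, LinearMap.rTensor_comp_lTensor, ← LinearMap.lTensor_comp_rTensor,
      LinearMap.comp_apply, ht, map_zero]
  have h2 : (ℓ.lTensor N) t = 0 :=
    Module.Flat.rTensor_preserves_injective_linearMap ι hι (by rw [h1, map_zero])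
  have h3 : (AlgebraTensorModule.rTensor A N ℓ) (TensorProduct.comm A N M t) = 0 := by
    have : ∀ z : N ⊗[A] M, (AlgebraTensorModule.rTensor A N ℓ) (TensorProduct.comm A N M z) =
        TensorProduct.comm A N _ ((ℓ.lTensor N) z) := by
      intro z
      induction z using TensorProduct.induction_on with
      | zero => simp
      | add x y hx hy => simp only [map_add, hx, hy]
      | tmul n m => simp
    rw [this, h2, map_zero]
  obtain ⟨c, hc⟩ := (IsLocalizedModule.eq_zero_iff p.primeCompl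
    (AlgebraTensorModule.rTensor A N ℓ)).mp h3
  refine ⟨c, c.2, ?_⟩
  apply (TensorProduct.comm A N M).injective
  rw [map_smul, map_zero]
  exact hc

theorem eq_zero_of_locally_zero {A : Type u} [CommRing A] (I : Ideal A) (M : Type u)
    [AddCommGroup M] [Module A M]
    [Module.Flat (A ⧸ I) ((A ⧸ I) ⊗[A] M)] (F : Finset A)
    (N : Type u) [AddCommGroup N] [Module A N] (hN : ∀ a ∈ I, ∀ x : N, a • x = 0)
    (hNF : ∀ x : N, (∀ f ∈ F, ∃ k : ℕ, f ^ k • x = 0) → x = 0)
    (t : N ⊗[A] M)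
    (ht : ∀ p : PrimeSpectrum A, p ∈ (PrimeSpectrum.zeroLocus (F : Set A))ᶜ →
      ∃ s : A, s ∉ p.asIdeal ∧ s • t = 0) : t = 0 := by
  classical
  have B2 : ∀ f ∈ F, ∃ k : ℕ, f ^ k • t = 0 := by
    intro f hf
    let a : Ideal A := LinearMap.ker (LinearMap.toSpanSingleton A _ t)
    have hfa : f ∈ a.radical := by
      rw [Ideal.radical_eq_sInf, Ideal.mem_sInf]
      rintro q ⟨haq, hq⟩
      by_contra hfq
      obtain ⟨s, hs, hst⟩ := ht ⟨q, hq⟩ (by
        rw [Set.mem_compl_iff, PrimeSpectrum.mem_zeroLocus]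
        intro hsub
        exact hfq (hsub hf))
      apply hs
      apply haq
      show LinearMap.toSpanSingleton A _ t s = 0
      rw [LinearMap.toSpanSingleton_apply]
      exact hst
    obtain ⟨k, hk⟩ := hfa
    refine ⟨k, ?_⟩
    have : LinearMap.toSpanSingleton A _ t (f ^ k) = 0 := hk
    rwa [LinearMap.toSpanSingleton_apply] at this
  choose! k hk using B2
  obtain ⟨K, hK⟩ : ∃ K : ℕ, ∀ f ∈ F, f ^ K • t = 0 := by
    refine ⟨F.sup k, fun f hf => ?_⟩
    have hle : k f ≤ F.sup k := Finset.le_sup hf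
    rw [← Nat.sub_add_cancel hle, pow_add, mul_smul, hk f hf, smul_zero]
  let ψ : N →ₗ[A] (F → N) := LinearMap.pi (fun f : F => (f.1 ^ K) • LinearMap.id)
  have hψinj : Injective ψ := by
    rw [injective_iff_map_eq_zero]
    intro x hx
    apply hNF
    intro f hf
    refine ⟨K, ?_⟩
    have := congrFun hx ⟨f, hf⟩
    simpa [ψ] using this
  have hN' : ∀ a ∈ I, ∀ x : F → N, a • x = 0 := by
    intro a ha x
    funext f
    simp [hN a ha]
  have hinj := P1 I M hN hN' ψ hψinj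
  apply hinj
  rw [map_zero]
  have hψ : ψ = ∑ f : F, (LinearMap.single A (fun _ : F => N) f) ∘ₗ
      ((f.1 ^ K) • (LinearMap.id : N →ₗ[A] N)) := by
    apply LinearMap.ext
    intro x
    funext g
    simp [ψ, LinearMap.sum_apply, Finset.sum_apply, Pi.single_apply]
  rw [hψ, ← LinearMap.coe_rTensorHom, map_sum, LinearMap.sum_apply]
  apply Finset.sum_eq_zero
  intro f _
  rw [LinearMap.coe_rTensorHom, LinearMap.rTensor_comp, LinearMap.comp_apply,
    LinearMap.rTensor_smul, LinearMap.rTensor_id, LinearMap.smul_apply, LinearMap.id_apply,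
    hK f.1 f.2, map_zero]

theorem main {A : Type u} [CommRing A] (I : Ideal A)
    (U : Set (PrimeSpectrum A)) (hU : IsOpen U) (hUc : IsCompact U)
    (M : Type u) [AddCommGroup M] [Module A M]
    [Module.Flat (A ⧸ I) ((A ⧸ I) ⊗[A] M)]
    (hflat : ∀ p ∈ U, Module.Flat A (LocalizedModule p.asIdeal.primeCompl M))
    (I₂ : Ideal A)
    (hI₂ : ∀ x : A, x ∈ I₂ ↔ x ∈ I ∧ ∀ p ∈ U, ∃ s : A, s ∉ p.asIdeal ∧ s * x ∈ I ^ 2) :
    Module.Flat (A ⧸ I₂) ((A ⧸ I₂) ⊗[A] M) := by
  obtain ⟨F, hF⟩ := PrimeSpectrum.isCompact_isOpen_iff.mp ⟨hUc, hU⟩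
  have h2 : I ^ 2 ≤ I₂ := by
    intro x hx
    rw [hI₂]
    refine ⟨Ideal.pow_le_self two_ne_zero hx, fun p _ => ⟨1, ?_, by rwa [one_mul]⟩⟩
    exact (Ideal.ne_top_iff_one _).mp p.2.ne_top
  have hle : I₂ ≤ I := fun x hx => ((hI₂ x).mp hx).1
  obtain ⟨I', hI'⟩ : ∃ I' : Ideal (A ⧸ I₂), I' = I.map (algebraMap A (A ⧸ I₂)) := ⟨_, rfl⟩
  have hsq : I' ^ 2 = ⊥ := by
    rw [hI', ← Ideal.map_pow, eq_bot_iff]
    refine (Ideal.map_mono h2).trans ?_
    rw [Ideal.Quotient.algebraMap_eq, Ideal.map_quotient_self]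
  haveI : Module.Flat ((A ⧸ I₂) ⧸ I.map (algebraMap A (A ⧸ I₂)))
      (((A ⧸ I₂) ⧸ I.map (algebraMap A (A ⧸ I₂))) ⊗[A] M) :=
    flat_baseChange_of_flat_baseChange A (A ⧸ I) _ M
  haveI : Module.Flat ((A ⧸ I₂) ⧸ I.map (algebraMap A (A ⧸ I₂)))
      (((A ⧸ I₂) ⧸ I.map (algebraMap A (A ⧸ I₂))) ⊗[A ⧸ I₂] ((A ⧸ I₂) ⊗[A] M)) :=
    flat_baseChange_baseChange A (A ⧸ I₂) _ M
  subst hI'
  refine flat_of_isNilpotent (I.map (algebraMap A (A ⧸ I₂))) ((A ⧸ I₂) ⊗[A] M) ⟨2, hsq⟩ ?_
  rw [rTensor_baseChange_injective_iff, injective_iff_map_eq_zero]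
  intro t ht
  refine eq_zero_of_locally_zero I M F _ ?_ ?_ t ?_
  · intro a ha x
    apply Subtype.ext
    have : (algebraMap A (A ⧸ I₂) a) * (x : A ⧸ I₂) ∈ (I.map (algebraMap A (A ⧸ I₂))) ^ 2 := by
      rw [pow_two]
      exact Ideal.mul_mem_mul (Ideal.mem_map_of_mem _ ha) x.2
    rw [hsq] at this
    rw [Submodule.coe_smul_of_tower, Algebra.smul_def]
    exact this
  · intro x hx
    obtain ⟨y, hyI, hyx⟩ := (Ideal.mem_map_iff_of_surjective (algebraMap A (A ⧸ I₂))
      Ideal.Quotient.mk_surjective).mp x.2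
    apply Subtype.ext
    rw [← hyx, Submodule.coe_zero, Ideal.Quotient.algebraMap_eq, Ideal.Quotient.eq_zero_iff_mem,
      hI₂]
    refine ⟨hyI, fun p hp => ?_⟩
    rw [← hF, Set.mem_compl_iff, PrimeSpectrum.mem_zeroLocus, Set.not_subset] at hp
    obtain ⟨f, hfF, hfp⟩ := hp
    obtain ⟨k, hk⟩ := hx f (Finset.mem_coe.mp hfF)
    have hk' : f ^ k * y ∈ I₂ := by
      have := congrArg Subtype.val hk
      rw [Submodule.coe_smul_of_tower, Submodule.coe_zero, ← hyx, Algebra.smul_def, ← map_mul,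
        Ideal.Quotient.algebraMap_eq, Ideal.Quotient.eq_zero_iff_mem] at this
      exact this
    obtain ⟨s, hs, hsy⟩ := ((hI₂ _).mp hk').2 p (by
      rw [← hF, Set.mem_compl_iff, PrimeSpectrum.mem_zeroLocus, Set.not_subset]
      exact ⟨f, hfF, hfp⟩)
    refine ⟨s * f ^ k, ?_, by rwa [mul_assoc]⟩
    intro hmem
    rcases p.2.mem_or_mem hmem with h | h
    · exact hs h
    · exact hfp (p.2.mem_of_pow_mem k h)
  · intro p hp
    rw [hF] at hp
    haveI := hflat p hp
    exact exists_smul_eq_zero p.asIdeal M _ (Subtype.val_injective) t ht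

end S1267aux

open TensorProduct in

/-- Let A be a local ring, I an ideal, U a quasi-compact open subset of Spec A and M an A-module such
that M/IM is flat over A/I and M_p is flat over A for all p in U. Let I₂ be the kernel of I → Γ(U,
I/I²), that is the set of x ∈ I such that for every p ∈ U some s outside p has s·x ∈ I². Then M/I₂M
is flat over A/I₂. -/
theorem result {A : Type u} [CommRing A] [IsLocalRing A] (I : Ideal A)
    (U : Set (PrimeSpectrum A)) (hU : IsOpen U) (hUc : IsCompact U)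
    (M : Type u) [AddCommGroup M] [Module A M]
    [Module.Flat (A ⧸ I) (M ⧸ (I • ⊤ : Submodule A M))]
    (hflat : ∀ p ∈ U, Module.Flat A (LocalizedModule p.asIdeal.primeCompl M))
    (I₂ : Ideal A) (hI₂ : ∀ x : A, x ∈ I₂ ↔ x ∈ I ∧ ∀ p ∈ U, ∃ s : A, s ∉ p.asIdeal ∧ s * x ∈ I ^ 2) :
    Module.Flat (A ⧸ I₂) (M ⧸ (I₂ • ⊤ : Submodule A M)) := by
  haveI : Module.Flat (A ⧸ I) ((A ⧸ I) ⊗[A] M) := by
    let e := (TensorProduct.quotTensorEquivQuotSMul M I).extendScalarsOfSurjective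
      (Ideal.Quotient.mk_surjective (I := I))
    exact Module.Flat.of_linearEquiv e
  haveI := S1267aux.main I U hU hUc M hflat I₂ hI₂
  let e := (TensorProduct.quotTensorEquivQuotSMul M I₂).extendScalarsOfSurjective
    (Ideal.Quotient.mk_surjective (I := I₂))
  exact Module.Flat.of_linearEquiv e.symm

end Groth.Agent.S1267
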