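import Groth.Statements.S12748
import Groth.Agent.Lib.helper19.PSCRing
import Groth.Agent.Lib.helper19.ArtCotangent

set_option autoImplicit false
universe u v
open CategoryTheory
open ArtFun ArtFun.CRing

namespace Groth.Agent.S12748

/-- Let R' → R be a morphism of complete local Noetherian Λ-algebras with residue field k with an
R'-algebra retraction ρ : R → R', so that R = R' ⊕ I for the ideal I = ker ρ; let x₁, …, x_r ∈ I map
to a basis of I/m_R I and let φ : R'[[X₁, …, X_r]] → R be an R'-algebra map sending X_i to x_i. If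
for all large n the induced map R'[[X]]/m^n → R/m_R^n has a left inverse — a Λ-algebra map g_n : R →
R'[[X]]/m^n with g_n ∘ φ equal to the quotient map — then φ is an isomorphism. -/
theorem result {Λ : Type u} {k : Type u} [CommRing Λ] [Field k] [Algebra Λ k]
    [IsNoetherianRing Λ] [Module.Finite Λ k]
    (R' R : ArtFun.CRing Λ k) [Algebra R'.carrier R.carrier] [IsScalarTower Λ R'.carrier R.carrier]
    (hc : R.res.comp (IsScalarTower.toAlgHom Λ R'.carrier R.carrier) = R'.res)
    (ρ : R.carrier →ₐ[R'.carrier] R'.carrier)
    (r : ℕ) (x : Fin r → R.carrier) (hxI : ∀ i, ρ (x i) = 0)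
    (hspan : Ideal.span (Set.range x) ⊔ IsLocalRing.maximalIdeal R.carrier * RingHom.ker ρ = RingHom.ker ρ)
    (hli : ∀ c : Fin r → R.carrier, (∑ i, c i * x i) ∈ IsLocalRing.maximalIdeal R.carrier * RingHom.ker ρ →
      ∀ i, c i ∈ IsLocalRing.maximalIdeal R.carrier)
    (φ : MvPowerSeries (Fin r) R'.carrier →ₐ[R'.carrier] R.carrier) (hφ : ∀ i, φ (MvPowerSeries.X i) = x i)
    (hinv : ∃ N : ℕ, ∀ n, N ≤ n →
      ∃ g : R.carrier →ₐ[Λ] (MvPowerSeries (Fin r) R'.carrier ⧸
          IsLocalRing.maximalIdeal (MvPowerSeries (Fin r) R'.carrier) ^ n),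
        ∀ s, g (φ s) = Ideal.Quotient.mk _ s) :
    Function.Bijective φ := by
  classical
  haveI : IsAdicComplete (IsLocalRing.maximalIdeal R'.carrier) R'.carrier := R'.isAdicComplete
  set T := MvPowerSeries (Fin r) R'.carrier with hT
  set 𝔐 := IsLocalRing.maximalIdeal T with h𝔐
  -- injectivity
  have hinj : Function.Injective φ := by
    rw [injective_iff_map_eq_zero]
    intro s hs
    obtain ⟨N, hN⟩ := hinv
    haveI : IsHausdorff 𝔐 T :=
      IsHausdorff.of_le_jacobson _ _ (IsLocalRing.maximalIdeal_le_jacobson _)
    apply IsHausdorff.haus (I := 𝔐) inferInstance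
    intro n
    rw [SModEq.zero, smul_eq_mul, Ideal.mul_top]
    obtain ⟨g, hg⟩ := hN (max n N) (le_max_right _ _)
    have h1 := hg s
    rw [hs, map_zero] at h1
    have h2 : s ∈ 𝔐 ^ (max n N) := Ideal.Quotient.eq_zero_iff_mem.mp h1.symm
    exact Ideal.pow_le_pow_right (le_max_left _ _) h2
  refine ⟨hinj, ?_⟩
  -- surjectivity
  have hρalg : ∀ a : R'.carrier, ρ (algebraMap R'.carrier R.carrier a) = a := fun a => by
    rw [AlgHom.commutes]; rfl
  have hker_le : RingHom.ker ρ ≤ IsLocalRing.maximalIdeal R.carrier := by
    apply IsLocalRing.le_maximalIdeal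
    intro h
    have : (1 : R.carrier) ∈ RingHom.ker ρ := by rw [h]; trivial
    rw [RingHom.mem_ker, map_one] at this
    exact one_ne_zero this
  have hxm : ∀ i, x i ∈ IsLocalRing.maximalIdeal R.carrier := fun i =>
    hker_le ((RingHom.mem_ker).mpr (hxI i))
  have hρm : ∀ y ∈ IsLocalRing.maximalIdeal R.carrier, ρ y ∈ IsLocalRing.maximalIdeal R'.carrier := by
    intro y hy
    by_contra hcon
    have hu : IsUnit (ρ y) := by
      by_contra h
      exact hcon h
    have hu' : IsUnit (algebraMap R'.carrier R.carrier (ρ y)) := hu.map _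
    have hd : y - algebraMap R'.carrier R.carrier (ρ y) ∈ IsLocalRing.maximalIdeal R.carrier := by
      apply hker_le
      rw [RingHom.mem_ker, map_sub, hρalg, sub_self]
    have := Ideal.sub_mem _ hy hd
    rw [sub_sub_cancel] at this
    exact this hu'
  have hnak : RingHom.ker ρ ≤ Ideal.span (Set.range x) := by
    apply Submodule.le_of_le_smul_of_le_jacobson_bot (I := IsLocalRing.maximalIdeal R.carrier)
      (IsNoetherian.noetherian _) (IsLocalRing.maximalIdeal_le_jacobson _)
    rw [Ideal.smul_eq_mul, hspan]
  let f : T →ₐ[Λ] R.carrier := φ.restrictScalars Λ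
  set resT : T →ₐ[Λ] k := Groth.Agent.Lib.helper19.SmoothBase.ρP (r := r) R'.res with hresT
  have hfres : R.res.comp f = resT := by
    have key : ((R.res.comp f : T →ₐ[Λ] k) : T →+* k) = (resT : T →+* k) := by
      apply Groth.Agent.Lib.helper19.ps_ringHom_ext _ _ 1
      · intro y hy
        rw [pow_one] at hy
        refine Submodule.span_induction (p := fun y _ => R.res (φ y) = 0) ?_ ?_ ?_ ?_ hy
        · rintro _ ⟨i, rfl⟩
          rw [hφ, ← ArtFun.CRing.mem_maximalIdeal_iff]
          exact hxm i
        · rw [map_zero, map_zero]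
        · intro u v _ _ hu hv
          rw [map_add, map_add, hu, hv, add_zero]
        · intro c u _ hu
          rw [smul_eq_mul, map_mul, map_mul, hu, mul_zero]
      · intro y hy
        rw [pow_one] at hy
        refine Submodule.span_induction
          (p := fun y _ => R'.res (MvPowerSeries.constantCoeff y) = 0) ?_ ?_ ?_ ?_ hy
        · rintro _ ⟨i, rfl⟩
          rw [MvPowerSeries.constantCoeff_X, map_zero]
        · rw [map_zero, map_zero]
        · intro u v _ _ hu hv
          rw [map_add, map_add, hu, hv, add_zero]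
        · intro c u _ hu
          rw [smul_eq_mul, map_mul, map_mul, hu, mul_zero]
      · intro a
        change R.res (φ (MvPowerSeries.C a)) = R'.res (MvPowerSeries.constantCoeff (MvPowerSeries.C a))
        rw [MvPowerSeries.constantCoeff_C]
        have h1 : φ (MvPowerSeries.C a) = algebraMap R'.carrier R.carrier a := by
          have := φ.commutes a
          rwa [MvPowerSeries.algebraMap_apply, Algebra.algebraMap_self, RingHom.id_apply] at this
        rw [h1]
        exact DFunLike.congr_fun hc a
      · intro i
        change R.res (φ (MvPowerSeries.X i)) = R'.res (MvPowerSeries.constantCoeff (MvPowerSeries.X i))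
        rw [hφ, MvPowerSeries.constantCoeff_X, map_zero, ← ArtFun.CRing.mem_maximalIdeal_iff]
        exact hxm i
    apply AlgHom.ext
    intro p
    exact DFunLike.congr_fun key p
  have hresTs : Function.Surjective resT := fun c => by
    obtain ⟨a, ha⟩ := R'.res_surjective c
    exact ⟨MvPowerSeries.C a, by
      rw [hresT, Groth.Agent.Lib.helper19.SmoothBase.ρP_apply, MvPowerSeries.constantCoeff_C, ha]⟩
  haveI : IsAdicComplete 𝔐 T := Groth.Agent.Lib.helper19.PSC.isAdicComplete
  have tfae := Groth.Agent.Lib.helper19.tfae_cotangent resT R.res hresTs R.res_surjective f hfres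
  have hsurj : Function.Surjective f := by
    apply (tfae.out 1 0).mp
    apply le_antisymm
    · apply sup_le
      · rw [Ideal.map_le_iff_le_comap]
        intro p hp
        rw [Ideal.mem_comap, ArtFun.CRing.mem_maximalIdeal_iff]
        have h1 : R.res (f p) = resT p := DFunLike.congr_fun hfres p
        rw [h1, hresT, Groth.Agent.Lib.helper19.SmoothBase.ρP_apply,
          ← ArtFun.CRing.mem_maximalIdeal_iff]
        rw [IsLocalRing.mem_maximalIdeal, mem_nonunits_iff,
          MvPowerSeries.isUnit_iff_constantCoeff] at hp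
        exact hp
      · exact Ideal.pow_le_self (by norm_num)
    · intro y hy
      apply Ideal.mem_sup_left
      have hy' : y = algebraMap R'.carrier R.carrier (ρ y) + (y - algebraMap R'.carrier R.carrier (ρ y)) := by
        ring
      rw [hy']
      apply Ideal.add_mem
      · have hC : MvPowerSeries.C (ρ y) ∈ 𝔐 := by
          rw [h𝔐, IsLocalRing.mem_maximalIdeal, mem_nonunits_iff,
            MvPowerSeries.isUnit_iff_constantCoeff, MvPowerSeries.constantCoeff_C]
          exact hρm y hy
        have h1 : f (MvPowerSeries.C (ρ y)) = algebraMap R'.carrier R.carrier (ρ y) := by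
          have := φ.commutes (ρ y)
          rwa [MvPowerSeries.algebraMap_apply, Algebra.algebraMap_self, RingHom.id_apply] at this
        rw [← h1]
        exact Ideal.mem_map_of_mem _ hC
      · have hk : y - algebraMap R'.carrier R.carrier (ρ y) ∈ RingHom.ker ρ := by
          rw [RingHom.mem_ker, map_sub, hρalg, sub_self]
        have hsp := hnak hk
        have hle : Ideal.span (Set.range x) ≤ Ideal.map f 𝔐 := by
          rw [Ideal.span_le]
          rintro _ ⟨i, rfl⟩
          have hX : (MvPowerSeries.X i : T) ∈ 𝔐 :=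
            Groth.Agent.Lib.helper19.PSC.span_X_le_maximalIdeal (Ideal.subset_span ⟨i, rfl⟩)
          have := Ideal.mem_map_of_mem f hX
          rwa [show f (MvPowerSeries.X i) = x i from hφ i] at this
        exact hle hsp
  exact hsurj

end Groth.Agent.S12748
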