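import Groth.Statements.S12749
import Groth.Agent.Lib.helper19.ArtCut3
import Groth.Agent.Lib.helper19.ArtFormal
import Groth.Agent.Lib.helper19.ArtMinVersal
import Groth.Agent.Lib.helper19.NoethEndo

set_option autoImplicit false
universe u v
open CategoryTheory
open ArtFun

namespace Groth.Agent.S12749

/-- For functors, suppose k admits no nonzero Λ-derivation into itself (that is, k is separable over the
image of Λ in k). Let F be a functor on Artinian local Λ-algebras with residue field k with F(k) a
point which satisfies (S2), and let ξ be a minimal versal family of F over a complete local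
Noetherian R with residue field k: ξ is versal, and every morphism of such coefficient rings R' → R
along which some formal element of F over R' pushes forward to the formal element of ξ is
surjective. Then ξ is a hull of F: it is moreover bijective on tangent spaces. (The published
statement, for arbitrary k, concludes that the tangent map of the minimal versal family is bijective
on orbits under the Λ-derivations of k; when k has no nonzero Λ-derivation into itself the orbits
are points and this is plain bijectivity, which is the case stated here.) -/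
theorem result {Λ : Type u} {k : Type u} [CommRing Λ] [Field k] [Algebra Λ k]
    [IsNoetherianRing Λ] [Module.Finite Λ k]
    (hk : Subsingleton (Derivation Λ k k))
    {F : ArtFun.Art Λ k ⥤ Type v} (h0 : ArtFun.H0 F) (h2 : ArtFun.Heps F)
    {R : ArtFun.CRing Λ k} (ξ : ArtFun.Family R.carrier R.res F) (hξ : ξ.IsMinimalVersal) :
    ArtFun.IsMiniversal ξ := by
  obtain ⟨hv, hmin⟩ := hξ
  refine ⟨hv, ?_, Groth.Agent.Lib.helper19.IsVersal.app_surjective h0 ξ hv (ArtFun.Art.dual Λ k)⟩
  by_contra hinj
  have h1 : ArtFun.S1 F := Groth.Agent.Lib.helper19.s1_of_isVersal h0 ξ hv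
  letI : Algebra R.carrier k := R.res.toRingHom.toAlgebra
  haveI : IsScalarTower Λ R.carrier k :=
    IsScalarTower.of_algebraMap_eq (fun r => (R.res.commutes r).symm)
  have hresk : ∀ a, algebraMap R.carrier k a = R.res a := fun a => rfl
  have hinj' : ¬ Function.Injective
      ((Groth.Agent.Lib.helper19.alongQuot R ξ ⊥ bot_le).app (ArtFun.Art.dual Λ k)) := by
    intro hi
    apply hinj
    intro τ₁ τ₂ he
    obtain ⟨τ₁', h1'⟩ := Groth.Agent.Lib.helper19.HomSet.exists_descend ⊥ bot_le τ₁ bot_le
    obtain ⟨τ₂', h2'⟩ := Groth.Agent.Lib.helper19.HomSet.exists_descend ⊥ bot_le τ₂ bot_le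
    have hr1 : Groth.Agent.Lib.helper19.HomSet.restrict ⊥ bot_le τ₁' = τ₁ := Subtype.ext h1'
    have hr2 : Groth.Agent.Lib.helper19.HomSet.restrict ⊥ bot_le τ₂' = τ₂ := Subtype.ext h2'
    have : τ₁' = τ₂' := by
      apply hi
      rw [Groth.Agent.Lib.helper19.alongQuot_app, Groth.Agent.Lib.helper19.alongQuot_app, hr1, hr2]
      exact he
    rw [← hr1, ← hr2, this]
  obtain ⟨x, hx, D₀, hI', hD₀I, hD₀x, hv'⟩ :=
    Groth.Agent.Lib.helper19.exists_cut_step R hresk ξ h0 h1 h2
      (Groth.Agent.Lib.helper19.tanCompat_of_heps R hresk ξ h2)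
      (Groth.Agent.Lib.helper19.tanSep_of_subsingleton R hresk ξ hk) ⊥ bot_le
      (Groth.Agent.Lib.helper19.isVersal_alongQuot_bot R ξ hv) hinj'
  set I' : Ideal R.carrier := ⊥ ⊔ Ideal.span {x} with hI'def
  set R' := Groth.Agent.Lib.helper19.cquot R I' hI' with hR'
  set ξ' := Groth.Agent.Lib.helper19.alongQuot R ξ I' hI' with hξ'
  obtain ⟨g, hg, hgη⟩ :=
    Groth.Agent.Lib.helper19.exists_along_toFormalElt_eq h0 R' ξ' hv' R ξ.toFormalElt
  have hgs : Function.Surjective g := by
    apply hmin R' ξ'.toFormalElt g hg
    rw [Groth.Agent.Lib.helper19.push_toFormalElt, hgη]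
  haveI : IsNoetherianRing R.carrier := R.isNoetherianRing
  have hcomp : Function.Surjective
      ((g.toRingHom).comp (Groth.Agent.Lib.helper19.cquotMk R I' hI').toRingHom) := by
    intro r
    obtain ⟨r', rfl⟩ := hgs r
    obtain ⟨a, rfl⟩ := Groth.Agent.Lib.helper19.cquotMk_surjective R I' hI' r'
    exact ⟨a, rfl⟩
  have hcinj := Groth.Agent.Lib.helper19.ringHom_injective_of_surjective_endo _ hcomp
  have hx0 : x = 0 := by
    apply hcinj
    rw [map_zero]
    have hxk : Groth.Agent.Lib.helper19.cquotMk R I' hI' x = 0 := by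
      have : x ∈ RingHom.ker (Groth.Agent.Lib.helper19.cquotMk R I' hI') := by
        rw [Groth.Agent.Lib.helper19.cquotMk_ker]
        exact Ideal.mem_sup_right (Ideal.mem_span_singleton_self x)
      exact this
    change g (Groth.Agent.Lib.helper19.cquotMk R I' hI' x) = 0
    rw [hxk, map_zero]
  rw [hx0, map_zero] at hD₀x
  exact zero_ne_one hD₀x

end Groth.Agent.S12749
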