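import Groth.Statements.S12751
import Groth.Agent.Lib.helper19.ArtDeriv

set_option autoImplicit false
universe u v
open CategoryTheory
open scoped TensorProduct
open ArtFun ArtFun.Art

namespace Groth.Agent.S12751

/-- A morphism f : B → A in the category of Artinian local Λ-algebras with residue field k is surjective
if and only if Ω_{B/Λ} ⊗_B k → Ω_{A/Λ} ⊗_A k is surjective; by right exactness of the sequence
Ω_{B/Λ} ⊗_B A → Ω_{A/Λ} → Ω_{A/B} → 0 this surjectivity is the vanishing of Ω_{A/B} ⊗_A k, which is
how it is written here (A a B-algebra through f, k an A-module through the augmentation). -/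
theorem result {Λ : Type u} {k : Type u} [CommRing Λ] [Field k] [Algebra Λ k]
    [IsNoetherianRing Λ] [Module.Finite Λ k]
    {A B : ArtFun.Art Λ k} (f : B ⟶ A) :
    letI : Algebra B A := f.toAlgHom.toRingHom.toAlgebra
    letI : Algebra A k := A.res.toRingHom.toAlgebra
    Function.Surjective f ↔ Subsingleton (k ⊗[A] Ω[A⁄B]) := by
  letI instBA : Algebra B A := f.toAlgHom.toRingHom.toAlgebra
  letI instAk : Algebra A k := A.res.toRingHom.toAlgebra
  constructor
  · intro hf
    haveI : Subsingleton (Ω[A⁄B]) := KaehlerDifferential.subsingleton_of_surjective B A hf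
    infer_instance
  · intro hsub
    by_contra hns
    haveI : IsScalarTower Λ A k := IsScalarTower.of_algebraMap_eq (fun r => (A.res.commutes r).symm)
    obtain ⟨N, hN⟩ := Groth.Agent.Lib.helper19.art_maximalIdeal_nilpotent B
    haveI : IsPrecomplete (IsLocalRing.maximalIdeal B) B :=
      Groth.Agent.Lib.helper19.isPrecomplete_of_pow_eq_bot _ N hN
    have hfcomp : (IsScalarTower.toAlgHom Λ A k).comp f.toAlgHom = B.res := by
      rw [← f.res_comp]
      rfl
    obtain ⟨D, hD1, x, hD2⟩ := Groth.Agent.Lib.helper19.exists_derivation_of_not_surjective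
      B.res B.res_surjective (S := A) A.res_surjective f.toAlgHom hfcomp hns
    letI instBk : Algebra B k := (A.res.toRingHom.comp f.toAlgHom.toRingHom).toAlgebra
    haveI : IsScalarTower B A k := IsScalarTower.of_algebraMap_eq (fun _ => rfl)
    let D' : Derivation B A k :=
      { toFun := D
        map_add' := D.map_add
        map_smul' := fun b a => by
          change D (f b * a) = A.res (f b) * D a
          rw [D.leibniz, hD1, smul_zero, add_zero]
          rfl
        map_one_eq_zero' := D.map_one_eq_zero
        leibniz' := D.leibniz }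
    let l : Ω[A⁄B] →ₗ[A] k := D'.liftKaehlerDifferential
    have hl : l (KaehlerDifferential.D B A x) = 1 := by
      change D'.liftKaehlerDifferential (KaehlerDifferential.D B A x) = 1
      rw [Derivation.liftKaehlerDifferential_comp_D]
      exact hD2
    let φ : k ⊗[A] Ω[A⁄B] →ₗ[A] k := (LinearMap.mul' A k).comp (l.lTensor k)
    have hφ : φ ((1 : k) ⊗ₜ[A] KaehlerDifferential.D B A x) = 1 := by
      change (LinearMap.mul' A k) ((l.lTensor k) ((1 : k) ⊗ₜ[A] KaehlerDifferential.D B A x)) = 1
      rw [LinearMap.lTensor_tmul, LinearMap.mul'_apply, hl, mul_one]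
    have h0 : (1 : k) ⊗ₜ[A] KaehlerDifferential.D B A x = 0 := Subsingleton.elim _ _
    rw [h0, map_zero] at hφ
    exact zero_ne_one hφ

end Groth.Agent.S12751
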