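import Groth.Statements.S12752
import Groth.Agent.Lib.helper19.ArtKaehler
import Groth.Agent.S12751

set_option autoImplicit false
universe u v
open CategoryTheory
open scoped TensorProduct
open ArtFun ArtFun.Art

namespace Groth.Agent.S12752

/-- (a) ⇔ (c): a morphism f : B → A in the category of Artinian local Λ-algebras with residue field k is
an essential surjection (surjective, and any morphism g into B with g followed by f surjective is
surjective) if and only if the map Ω_{B/Λ} ⊗_B k → Ω_{A/Λ} ⊗_A k is an isomorphism of k-vector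
spaces. These spaces are finite-dimensional, so the isomorphism condition is written as: the map is
surjective (that is, Ω_{A/B} ⊗_A k = 0) and the two spaces have equal dimension. -/
theorem result {Λ : Type u} {k : Type u} [CommRing Λ] [Field k] [Algebra Λ k]
    [IsNoetherianRing Λ] [Module.Finite Λ k]
    {A B : ArtFun.Art Λ k} (f : B ⟶ A) :
    letI : Algebra B A := f.toAlgHom.toRingHom.toAlgebra
    letI : Algebra A k := A.res.toRingHom.toAlgebra
    letI : Algebra B k := B.res.toRingHom.toAlgebra
    (Function.Surjective f ∧ ∀ (C : ArtFun.Art Λ k) (g : C ⟶ B), Function.Surjective (g ≫ f) → Function.Surjective g) ↔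
      (Subsingleton (k ⊗[A] Ω[A⁄B]) ∧
        Module.finrank k (k ⊗[B] Ω[B⁄Λ]) = Module.finrank k (k ⊗[A] Ω[A⁄Λ])) := by
  letI iBA : Algebra B A := f.toAlgHom.toRingHom.toAlgebra
  letI iAk : Algebra A k := A.res.toRingHom.toAlgebra
  letI iBk : Algebra B k := B.res.toRingHom.toAlgebra
  haveI : IsScalarTower Λ A k := IsScalarTower.of_algebraMap_eq (fun r => (A.res.commutes r).symm)
  haveI : IsScalarTower Λ B k := IsScalarTower.of_algebraMap_eq (fun r => (B.res.commutes r).symm)
  have hA : ∀ a, algebraMap A k a = A.res a := fun _ => rfl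
  have hB : ∀ b, algebraMap B k b = B.res b := fun _ => rfl
  have hsurj := Groth.Agent.S12751.result f
  obtain ⟨finA, frA⟩ := Groth.Agent.Lib.helper19.art_finrank_kaehler (Λ := Λ) (k := k) A
  obtain ⟨finB, frB⟩ := Groth.Agent.Lib.helper19.art_finrank_kaehler (Λ := Λ) (k := k) B
  rw [frA, frB]
  constructor
  · rintro ⟨hf, hess⟩
    refine ⟨hsurj.mp hf, ?_⟩
    have e := LinearEquiv.ofBijective (Groth.Agent.Lib.helper19.Art.derivPull f hA hB)
      ⟨Groth.Agent.Lib.helper19.Art.derivPull_injective f hA hB hf,
       Groth.Agent.Lib.helper19.Art.derivPull_surjective_of_essential f hA hB hf hess⟩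
    exact e.finrank_eq.symm
  · rintro ⟨hsub, hfr⟩
    have hf := hsurj.mpr hsub
    refine ⟨hf, ?_⟩
    have hinj := Groth.Agent.Lib.helper19.Art.derivPull_injective f hA hB hf
    have hs : Function.Surjective (Groth.Agent.Lib.helper19.Art.derivPull f hA hB) :=
      (LinearMap.injective_iff_surjective_of_finrank_eq_finrank hfr.symm).mp hinj
    exact Groth.Agent.Lib.helper19.Art.essential_of_derivPull_surjective f hA hB hs

end Groth.Agent.S12752
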