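import Groth.Statements.S12753
import Groth.Agent.Lib.helper19.ArtSepDeriv
import Groth.Agent.Lib.helper19.ArtEssential

set_option autoImplicit false
universe u v
open CategoryTheory
open ArtFun ArtFun.Art

namespace Groth.Agent.S12753

/-- Suppose k is separable over the image of Λ → k. A morphism f : B → A in the category of Artinian
local Λ-algebras with residue field k is an essential surjection (surjective, and any morphism g
into B with g followed by f surjective is surjective) if and only if the map of cotangent spaces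
relative to Λ, m_B/(m_Λ B + m_B²) → m_A/(m_Λ A + m_A²), is an isomorphism; surjectivity and
injectivity are written out in terms of ideals, m_Λ being the kernel of Λ → k. -/
theorem result {Λ : Type u} {k : Type u} [CommRing Λ] [Field k] [Algebra Λ k]
    [IsNoetherianRing Λ] [Module.Finite Λ k]
    [Algebra.IsSeparable (↥(algebraMap Λ k).range) k]
    {A B : ArtFun.Art Λ k} (f : B ⟶ A) :
    (Function.Surjective f ∧ ∀ (C : ArtFun.Art Λ k) (g : C ⟶ B), Function.Surjective (g ≫ f) → Function.Surjective g) ↔
      (Ideal.map (algebraMap Λ A) (RingHom.ker (algebraMap Λ k)) ⊔ Ideal.map f.toAlgHom (IsLocalRing.maximalIdeal B) ⊔ IsLocalRing.maximalIdeal A ^ 2 =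
          IsLocalRing.maximalIdeal A ∧
        ∀ b ∈ IsLocalRing.maximalIdeal B, f b ∈ Ideal.map (algebraMap Λ A) (RingHom.ker (algebraMap Λ k)) ⊔ IsLocalRing.maximalIdeal A ^ 2 →
          b ∈ Ideal.map (algebraMap Λ B) (RingHom.ker (algebraMap Λ k)) ⊔ IsLocalRing.maximalIdeal B ^ 2) := by
  letI iAk : Algebra A k := A.res.toRingHom.toAlgebra
  letI iBk : Algebra B k := B.res.toRingHom.toAlgebra
  haveI : IsScalarTower Λ A k := IsScalarTower.of_algebraMap_eq (fun r => (A.res.commutes r).symm)
  haveI : IsScalarTower Λ B k := IsScalarTower.of_algebraMap_eq (fun r => (B.res.commutes r).symm)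
  have hA : ∀ a, algebraMap A k a = A.res a := fun _ => rfl
  have hB : ∀ b, algebraMap B k b = B.res b := fun _ => rfl
  obtain ⟨N, hN⟩ := Groth.Agent.Lib.helper19.art_maximalIdeal_nilpotent B
  haveI : IsPrecomplete (IsLocalRing.maximalIdeal B) B :=
    Groth.Agent.Lib.helper19.isPrecomplete_of_pow_eq_bot _ N hN
  have tfae := Groth.Agent.Lib.helper19.tfae_cotangent B.res A.res B.res_surjective
    A.res_surjective f.toAlgHom f.res_comp
  have hsurj : Function.Surjective f ↔ _ := tfae.out 0 2
  constructor
  · rintro ⟨hf, hess⟩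
    refine ⟨hsurj.mp hf, ?_⟩
    intro b hb hfb
    by_contra hbJ
    obtain ⟨D, hD⟩ := Groth.Agent.Lib.helper19.Art.exists_deriv_ne_zero_of_isSeparable B hB b hb hbJ
    obtain ⟨D', rfl⟩ :=
      Groth.Agent.Lib.helper19.Art.derivPull_surjective_of_essential f hA hB hf hess D
    apply hD
    change D' (f b) = 0
    exact Groth.Agent.Lib.helper19.Art.deriv_eq_zero_of_mem A hA D' _ hfb
  · rintro ⟨h1, h2⟩
    have hf : Function.Surjective f := hsurj.mpr h1
    refine ⟨hf, Groth.Agent.Lib.helper19.Art.essential_of_derivPull_surjective f hA hB ?_⟩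
    intro D
    apply Groth.Agent.Lib.helper19.Art.exists_derivPull_eq f hA hB hf D
    intro x hx
    apply Groth.Agent.Lib.helper19.Art.deriv_eq_zero_of_mem B hB D
    apply h2 x
    · rw [ArtFun.Art.mem_maximalIdeal_iff, ← ArtFun.Art.res_app f, hx, map_zero]
    · rw [hx]
      exact zero_mem _

end Groth.Agent.S12753
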