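import Groth.Statements.S12754
import Mathlib

set_option autoImplicit false
universe u
open CategoryTheory
open ArtFun

namespace Groth.Agent.S12754
open CategoryTheory

section helpers




variable {K : Type u} [Field K]

def mkHom {V W : FGModuleCat.{u} K} (l : V →ₗ[K] W) : V ⟶ W :=
  ObjectProperty.homMk (ModuleCat.ofHom l)

@[simp] theorem mkHom_hom {V W : FGModuleCat.{u} K} (l : V →ₗ[K] W) : (mkHom l).hom.hom = l := rfl

theorem mkHom_add {V W : FGModuleCat.{u} K} (l l' : V →ₗ[K] W) :
    mkHom (l + l') = mkHom l + mkHom l' := by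
  apply FGModuleCat.hom_ext; rfl

theorem mkHom_smul {V W : FGModuleCat.{u} K} (c : K) (l : V →ₗ[K] W) :
    mkHom (c • l) = c • mkHom l := by
  apply FGModuleCat.hom_ext; rfl

theorem mkHom_comp {U V W : FGModuleCat.{u} K} (l : U →ₗ[K] V) (l' : V →ₗ[K] W) :
    mkHom l ≫ mkHom l' = mkHom (l' ∘ₗ l) := by
  apply FGModuleCat.hom_ext; rfl

theorem mkHom_self {V W : FGModuleCat.{u} K} (g : V ⟶ W) : mkHom g.hom.hom = g := by
  apply FGModuleCat.hom_ext; rfl

theorem mkHom_id {V : FGModuleCat.{u} K} : mkHom (LinearMap.id : V →ₗ[K] V) = 𝟙 V := by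
  apply FGModuleCat.hom_ext; rfl

theorem mkHom_sum {V W : FGModuleCat.{u} K} {ι : Type*} (s : Finset ι) (l : ι → (V →ₗ[K] W)) :
    mkHom (∑ i ∈ s, l i) = ∑ i ∈ s, mkHom (l i) := by
  classical
  induction s using Finset.induction_on with
  | empty => simp only [Finset.sum_empty]; apply FGModuleCat.hom_ext; rfl
  | insert a s ha ih => rw [Finset.sum_insert ha, Finset.sum_insert ha, mkHom_add, ih]

variable (L : FGModuleCat.{u} K ⥤ ModuleCat.{u} K) [L.Additive] [Functor.Linear K L]

/-- `f_v : K → V`. -/
def fv (V : FGModuleCat.{u} K) (v : V) : FGModuleCat.of K K ⟶ V :=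
  mkHom (LinearMap.toSpanSingleton K V v)

def beta (V : FGModuleCat.{u} K) : L.obj (FGModuleCat.of K K) →ₗ[K] V →ₗ[K] L.obj V :=
  LinearMap.mk₂ K (fun x v => (L.map (fv V v)).hom x)
    (fun x y v => map_add _ x y)
    (fun c x v => map_smul _ c x)
    (fun x v w => by
      have : fv V (v + w) = fv V v + fv V w := by
        rw [fv, fv, fv, ← mkHom_add]; congr 1
        ext; simp
      rw [this, Functor.map_add]; rfl)
    (fun c x v => by
      have : fv V (c • v) = c • fv V v := by
        rw [fv, fv, ← mkHom_smul]; congr 1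
        ext; simp
      rw [this, Functor.map_smul]; rfl)

def eta (V : FGModuleCat.{u} K) :
    TensorProduct K (L.obj (FGModuleCat.of K K)) V →ₗ[K] L.obj V :=
  TensorProduct.lift (beta L V)

theorem eta_tmul (V : FGModuleCat.{u} K) (x : L.obj (FGModuleCat.of K K)) (v : V) :
    eta L V (x ⊗ₜ v) = (L.map (fv V v)).hom x := rfl

noncomputable def theta (V : FGModuleCat.{u} K) :
    L.obj V →ₗ[K] TensorProduct K (L.obj (FGModuleCat.of K K)) V :=
  ∑ i : Fin (Module.finrank K V),
    ((TensorProduct.mk K (L.obj (FGModuleCat.of K K)) V).flip (Module.finBasis K V i)) ∘ₗ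
      (L.map (mkHom ((Module.finBasis K V).coord i) : V ⟶ FGModuleCat.of K K)).hom

theorem theta_apply (V : FGModuleCat.{u} K) (y : L.obj V) :
    theta L V y = ∑ i : Fin (Module.finrank K V),
      ((L.map (mkHom ((Module.finBasis K V).coord i) : V ⟶ FGModuleCat.of K K)).hom y) ⊗ₜ[K]
        (Module.finBasis K V i) := by
  simp [theta, LinearMap.sum_apply]

theorem eta_theta (V : FGModuleCat.{u} K) : eta L V ∘ₗ theta L V = LinearMap.id := by
  ext y
  rw [LinearMap.comp_apply, theta_apply, map_sum, LinearMap.id_apply]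
  simp only [eta_tmul]
  have h1 : ∀ i : Fin (Module.finrank K V),
      (L.map (fv V (Module.finBasis K V i))).hom
        ((L.map (mkHom ((Module.finBasis K V).coord i) : V ⟶ FGModuleCat.of K K)).hom y) =
      (L.map (mkHom ((LinearMap.toSpanSingleton K V (Module.finBasis K V i)) ∘ₗ
        ((Module.finBasis K V).coord i)) : V ⟶ V)).hom y := by
    intro i
    rw [← mkHom_comp (U := V) (V := FGModuleCat.of K K) (W := V), Functor.map_comp]; rfl
  simp only [h1]
  rw [← LinearMap.sum_apply, ← ModuleCat.hom_sum, ← Functor.map_sum, ← mkHom_sum]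
  have h2 : (∑ i : Fin (Module.finrank K V),
      (LinearMap.toSpanSingleton K V (Module.finBasis K V i)) ∘ₗ ((Module.finBasis K V).coord i))
      = LinearMap.id := by
    ext v
    simp only [LinearMap.sum_apply, LinearMap.comp_apply, LinearMap.toSpanSingleton_apply,
      LinearMap.id_apply, Module.Basis.coord_apply]
    exact (Module.finBasis K V).sum_repr v
  rw [h2, mkHom_id, L.map_id]; rfl

theorem theta_eta (V : FGModuleCat.{u} K) : theta L V ∘ₗ eta L V = LinearMap.id := by
  apply TensorProduct.ext'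
  intro x v
  rw [LinearMap.comp_apply, eta_tmul, theta_apply, LinearMap.id_apply]
  have h1 : ∀ i : Fin (Module.finrank K V),
      (L.map (mkHom ((Module.finBasis K V).coord i) : V ⟶ FGModuleCat.of K K)).hom
        ((L.map (fv V v)).hom x) = ((Module.finBasis K V).coord i v) • x := by
    intro i
    have h2 : fv V v ≫ (mkHom ((Module.finBasis K V).coord i) : V ⟶ FGModuleCat.of K K) =
        ((Module.finBasis K V).coord i v) • 𝟙 (FGModuleCat.of K K) := by
      rw [fv, mkHom_comp, ← mkHom_id, ← mkHom_smul]; congr 1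
      ext
      simp
    have h3 := congrArg (fun f => (L.map f).hom x) h2
    simp only [Functor.map_comp, Functor.map_smul, L.map_id] at h3
    exact h3
  simp only [h1]
  simp only [TensorProduct.smul_tmul]
  rw [← TensorProduct.tmul_sum]
  congr 1
  exact (Module.finBasis K V).sum_repr v

noncomputable def etaEquiv (V : FGModuleCat.{u} K) :
    TensorProduct K (L.obj (FGModuleCat.of K K)) V ≃ₗ[K] L.obj V :=
  LinearEquiv.ofLinearMap (eta L V) (theta L V) (eta_theta L V) (theta_eta L V)



end helpers

/-- A K-linear functor L from finite-dimensional K-vector spaces to K-vector spaces (K a field) is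
isomorphic to the functor V ↦ L(K) ⊗_K V. (Existence of an isomorphism of functors, which is how the
published statement reads; the natural choice sends x ⊗ v to L(f_v)(x) with f_v : K → V, 1 ↦ v.) -/
theorem result (K : Type u) [Field K]
    (L : FGModuleCat.{u} K ⥤ ModuleCat.{u} K) [L.Additive] [Functor.Linear K L] :
    Nonempty (L ≅ (ModuleCat.isFG.{u} K).ι ⋙ MonoidalCategory.tensorLeft (L.obj (FGModuleCat.of K K))) := by
  refine ⟨(NatIso.ofComponents (fun V => (etaEquiv L V).toModuleIso) ?_).symm⟩
  intro V W g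
  apply ModuleCat.hom_ext
  apply TensorProduct.ext'
  intro x v
  show eta L W (x ⊗ₜ (g.hom.hom v)) = (L.map g).hom (eta L V (x ⊗ₜ v))
  rw [eta_tmul, eta_tmul]
  have : fv W (g.hom.hom v) = fv V v ≫ g := by
    rw [fv, fv, ← mkHom_self g, mkHom_comp]; congr 1
    ext; simp
  rw [this, Functor.map_comp]; rfl

end Groth.Agent.S12754
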