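import Groth.Statements.S12756
-- import your own Groth.Agent.* helpers here

set_option autoImplicit false
universe u v
open CategoryTheory
open ArtFun

namespace Groth.Agent.S12756

/-- For functors on Artinian local Λ-algebras with residue field k, if φ : F → G is surjective on every
object and ψ ∘ φ : F → H is smooth, then ψ : G → H is smooth. -/
theorem result {Λ : Type u} {k : Type u} [CommRing Λ] [Field k] [Algebra Λ k]
    [IsNoetherianRing Λ] [Module.Finite Λ k]
    {F G H : ArtFun.Art Λ k ⥤ Type v} (φ : F ⟶ G) (ψ : G ⟶ H)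
    (hφ : ∀ A : ArtFun.Art Λ k, Function.Surjective (φ.app A)) (h : ArtFun.IsSmooth (φ ≫ ψ)) :
    ArtFun.IsSmooth ψ := by
  intro B A μ hμ x
  obtain ⟨⟨g, hh⟩, hx⟩ := x
  obtain ⟨a, ha⟩ := hφ A g
  have hx' : (φ ≫ ψ).app A a = H.map μ hh := by
    have : ψ.app A g = H.map μ hh := hx
    rw [← this, ← ha]
    simp
  obtain ⟨z, hz⟩ := h μ hμ ⟨(a, hh), hx'⟩
  have hz1 : F.map μ z = a := congrArg (fun t => t.1.1) hz
  have hz2 : (φ ≫ ψ).app B z = hh := congrArg (fun t => t.1.2) hz
  refine ⟨φ.app B z, Subtype.ext (Prod.ext ?_ ?_)⟩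
  · change G.map μ (φ.app B z) = g
    rw [← ha, ← hz1]
    exact (NatTrans.naturality_apply φ μ z).symm
  · change ψ.app B (φ.app B z) = hh
    rw [← hz2]
    simp

end Groth.Agent.S12756
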