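import Groth.Statements.S1276



set_option autoImplicit false
universe u
open FlatMor

attribute [local instance] Algebra.TensorProduct.rightAlgebra


namespace Groth.Agent.S1276

/-- Let B be a finite type A-algebra, N a finite B-module and p a prime of A. Then there is a finitely
generated ideal J of B annihilating N (so N is a module on the finitely presented closed subscheme
V(J) of Spec B) such that a point of the fibre Spec(κ(p) ⊗ B) lies in V(J) if and only if it lies in
the support of the fibre module of N. -/
theorem result {A B : Type u} [CommRing A] [CommRing B] [Algebra A B] [Algebra.FiniteType A B]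
    (N : Type u) [AddCommGroup N] [Module B N] [Module A N] [IsScalarTower A B N] [Module.Finite B N] (p : Ideal A) [p.IsPrime] :
    ∃ J : Ideal B, J.FG ∧ J ≤ Module.annihilator B N ∧
      ∀ x : PrimeSpectrum (p.Fiber B), FlatCA.fiberIdeal p J ≤ x.asIdeal ↔ x ∈ Module.support (p.Fiber B) (FlatCA.fiberMod p B N) := by
  classical
  haveI : IsNoetherianRing (p.Fiber B) :=
    Algebra.FiniteType.isNoetherianRing p.ResidueField (p.Fiber B)
  haveI hMfin : Module.Finite (p.Fiber B) (FlatCA.fiberMod p B N) :=
    inferInstanceAs (Module.Finite (p.Fiber B) (TensorProduct B (p.Fiber B) N))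
  let f : B →+* p.Fiber B :=
    (Algebra.TensorProduct.includeRight (R := A) (A := p.ResidueField) (B := B)).toRingHom
  have aux : ∀ b ∈ Module.annihilator B N, ∀ m : TensorProduct B (p.Fiber B) N,
      f b • m = 0 := by
    intro b hb m
    induction m using TensorProduct.induction_on with
    | zero => exact smul_zero _
    | tmul y n =>
      rw [TensorProduct.smul_tmul', smul_eq_mul]
      have e : f b * y = b • y := by rw [Algebra.smul_def]; rfl
      rw [e, TensorProduct.smul_tmul, Module.mem_annihilator.mp hb n, TensorProduct.tmul_zero]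
    | add x y hx hy => rw [smul_add, hx, hy, add_zero]
  have hfg : (Submodule.span (p.Fiber B) (f '' (Module.annihilator B N : Set B))).FG :=
    IsNoetherian.noetherian _
  obtain ⟨s', hs'sub, hs'eq⟩ := (Submodule.fg_span_iff_fg_span_finset_subset _).mp hfg
  obtain ⟨s'', hs''sub, hs''img⟩ := Finset.subset_set_image_iff.mp hs'sub
  have hJmap : ∀ b ∈ Module.annihilator B N,
      f b ∈ FlatCA.fiberIdeal p (Ideal.span (s'' : Set B)) := by
    intro b hb
    have h1 : f b ∈ Submodule.span (p.Fiber B) (f '' (Module.annihilator B N : Set B)) :=
      Submodule.subset_span ⟨b, hb, rfl⟩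
    rw [hs'eq, ← hs''img, Finset.coe_image] at h1
    unfold FlatCA.fiberIdeal
    rw [Ideal.map_span]
    exact h1
  refine ⟨Ideal.span (s'' : Set B), ⟨s'', rfl⟩, Ideal.span_le.mpr hs''sub, ?_⟩
  intro x
  constructor
  · intro hJx
    let q : Ideal B := x.asIdeal.comap f
    haveI : q.IsPrime := Ideal.comap_isPrime f x.asIdeal
    have hq : (⟨q, inferInstance⟩ : PrimeSpectrum B) ∈ Module.support B N := by
      rw [Module.support_eq_zeroLocus, PrimeSpectrum.mem_zeroLocus]
      intro b hb
      exact hJx (hJmap b hb)
    rw [Module.mem_support_iff_nontrivial_residueField_tensorProduct] at hq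
    rw [Module.mem_support_iff_nontrivial_residueField_tensorProduct]
    let ψ : q.ResidueField →ₐ[B] x.asIdeal.ResidueField :=
      Ideal.ResidueField.mapₐ q x.asIdeal (Algebra.ofId B (p.Fiber B)) rfl
    letI : Algebra q.ResidueField x.asIdeal.ResidueField := ψ.toRingHom.toAlgebra
    haveI : IsScalarTower B q.ResidueField x.asIdeal.ResidueField :=
      IsScalarTower.of_algebraMap_eq (fun b => (ψ.commutes b).symm)
    haveI : Nontrivial (TensorProduct B q.ResidueField N) := hq
    haveI : Nontrivial (TensorProduct q.ResidueField x.asIdeal.ResidueField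
        (TensorProduct B q.ResidueField N)) := inferInstance
    let e1 := TensorProduct.AlgebraTensorModule.cancelBaseChange (R := B) (A := q.ResidueField)
      (B := x.asIdeal.ResidueField) (M := x.asIdeal.ResidueField) (N := N)
    let e2 := TensorProduct.AlgebraTensorModule.cancelBaseChange (R := B) (A := p.Fiber B)
      (B := x.asIdeal.ResidueField) (M := x.asIdeal.ResidueField) (N := N)
    exact (e2.toEquiv.trans e1.symm.toEquiv).nontrivial
  · intro hx
    rw [Module.support_eq_zeroLocus, PrimeSpectrum.mem_zeroLocus] at hx
    unfold FlatCA.fiberIdeal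
    rw [Ideal.map_le_iff_le_comap]
    intro b hb
    have hbN : b ∈ Module.annihilator B N := Ideal.span_le.mpr hs''sub hb
    have h2 : f b ∈ Module.annihilator (p.Fiber B) (FlatCA.fiberMod p B N) := by
      rw [Module.mem_annihilator]
      intro m
      exact aux b hbN m
    exact hx h2

end Groth.Agent.S1276
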