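import Groth.Agent.S12776
import Groth.Agent.Lib.helper10.EquivOver
import Groth.Agent.Lib.helper10.Yoneda2
import Groth.Statements.S12774

set_option autoImplicit false
open CategoryTheory AlgebraicGeometry
universe u
open AlgSt

namespace Groth.Agent.S12774

open Groth.Agent.Lib.helper10 Groth.Agent.Lib.helper10.Yoneda2 Opposite

lemma inj_of_mono {S : Scheme.{u}} {F G : AlgSp.Sp S} (m : F ⟶ G) (hm : Mono m) (T : Over S) :
    Function.Injective (m.hom.app (op T)) := by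
  have h1 : Mono ((sheafToPresheaf _ _).map m) := inferInstance
  have h2 : Mono m.hom := h1
  have h3 : Mono (m.hom.app (op T)) := inferInstance
  exact (mono_iff_injective _).1 h3

lemma aux_eqToHom {A : Type*} [Category A] {X Y Z W : A} (p : X = Y) (q : Y = Z) (r : Z = W)
    (k : Y ⟶ Z) (hk : k = eqToHom q) (h : X = W) : eqToHom p ≫ k ≫ eqToHom r = eqToHom h := by
  subst hk
  simp

/-- the section map at an object lying (up to iso over the identity) over the terminal object of `C/U` -/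
lemma secHom_eq {S : Scheme.{u}} {F : AlgSp.Sp S} {U : Over S} (Φ : AlgSt.ofSp F ⥤ᵇ FibCat.overCat U)
    (s : (AlgSt.ofSp F).obj) (k : Φ.obj s ⟶ Over.mk (𝟙 U)) (hT : s.base = U)
    (hk : k.left = eqToHom ((Φ.w_obj s).trans hT)) :
    AlgSt.secHom Φ s = eqToHom hT := by
  have h1 : k.left ≫ 𝟙 U = (Φ.obj s).hom := Over.w k
  unfold AlgSt.secHom
  rw [← h1, hk]
  simp

lemma end_terminal {C : Type*} [Category C] (U : C) (f : Over.mk (𝟙 U) ⟶ Over.mk (𝟙 U)) : f = 𝟙 _ := by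
  apply Over.OverMorphism.ext
  have := Over.w f
  simpa using this

theorem fiber_full {S : Scheme.{u}} {𝒳 𝒴 : AlgSt.Cat S}
    (h𝒳 : FibCat.IsFibGrpd 𝒳.p) (h𝒴 : FibCat.IsFibGrpd 𝒴.p) (j : 𝒳 ⥤ᵇ 𝒴) (hj : AlgSt.IsMono j)
    (U : Over S) : (FibCat.fiberFunctor j U).Full := by
  have hfib : 𝒴.p.IsFibered := FiberFun.isFibered_of_isFibGrpd h𝒴
  refine ⟨fun {a b} θ => ?_⟩
  obtain ⟨θ₁, hθ₁⟩ : ∃ θ₁ : j.obj a.1 ⟶ j.obj b.1, θ₁ = θ.1 := ⟨_, rfl⟩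
  have hθl : 𝒴.p.IsHomLift (𝟙 U) θ₁ := by rw [hθ₁]; exact θ.2
  let ya : 𝒴.p.Fiber U := ⟨j.obj a.1, (j.w_obj a.1).trans a.2⟩
  let y : FibCat.overCat U ⥤ᵇ 𝒴 := yo U ya
  let o : Over U := Over.mk (𝟙 U)
  obtain ⟨τ, hτ⟩ : ∃ τ : pbObj U ya o ⟶ j.obj a.1, τ = pbMap U ya o := ⟨_, rfl⟩
  have hτsc : 𝒴.p.IsStronglyCartesian (𝟙 U) τ := by rw [hτ]; exact pbMap_sc U ya o
  have hτl : 𝒴.p.IsHomLift (𝟙 U) τ := hτsc.toIsHomLift
  have hτiso : IsIso τ := Functor.IsStronglyCartesian.isIso_of_base_isIso 𝒴.p (𝟙 U) τ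
  have hθsc : 𝒴.p.IsStronglyCartesian (𝟙 U) θ₁ := FiberFun.sc_of_isFibGrpd h𝒴 _ _
  have hθiso : IsIso θ₁ := Functor.IsStronglyCartesian.isIso_of_base_isIso 𝒴.p (𝟙 U) θ₁
  have hp1 : 𝒴.p.IsHomLift (𝟙 ((FibCat.overCat U).p.obj o)) τ := hτl
  have hp2 : 𝒴.p.IsHomLift (𝟙 ((FibCat.overCat U).p.obj o)) (τ ≫ θ₁) :=
    IsHomLift.comp_lift_id_left' 𝒴.p U τ (𝟙 U) θ₁
  have hcomp : IsIso (τ ≫ θ₁) := @IsIso.comp_isIso _ _ _ _ _ τ θ₁ hτiso hθiso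
  let za : (FibCat.fp y j).obj := ⟨⟨o, a.1, @asIso _ _ _ _ τ hτiso⟩, hp1⟩
  let zb : (FibCat.fp y j).obj := ⟨⟨o, b.1, @asIso _ _ _ _ (τ ≫ θ₁) hcomp⟩, hp2⟩
  obtain ⟨F, e, he, hm⟩ := hj U y
  have hm' : Mono (AlgSt.spMapOfOver (BasedFunctor.comp e (FibCat.fpFst y j))) := hm
  obtain ⟨sa, ιa, hιa⟩ := EquivOver.exists_iso e he za
  obtain ⟨sb, ιb, hιb⟩ := EquivOver.exists_iso e he zb
  have hιa' : (FibCat.fp y j).p.IsHomLift (𝟙 U) ιa.hom := hιa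
  have hιb' : (FibCat.fp y j).p.IsHomLift (𝟙 U) ιb.hom := hιb
  have hTa : sa.base = U :=
    (e.w_obj sa).symm.trans (IsHomLift.domain_eq (FibCat.fp y j).p (𝟙 U) ιa.hom)
  have hTb : sb.base = U :=
    (e.w_obj sb).symm.trans (IsHomLift.domain_eq (FibCat.fp y j).p (𝟙 U) ιb.hom)
  let Φ : AlgSt.ofSp F.obj ⥤ᵇ FibCat.overCat U := BasedFunctor.comp e (FibCat.fpFst y j)
  have hsa : AlgSt.secHom Φ sa = eqToHom hTa := by
    refine secHom_eq Φ sa ιa.hom.hom.fst hTa ?_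
    have := IsHomLift.fac' (FibCat.fp y j).p (𝟙 U) ιa.hom
    refine this.trans ?_
    simp
    rfl
  have hsb : AlgSt.secHom Φ sb = eqToHom hTb := by
    refine secHom_eq Φ sb ιb.hom.hom.fst hTb ?_
    have := IsHomLift.fac' (FibCat.fp y j).p (𝟙 U) ιb.hom
    refine this.trans ?_
    simp
    rfl
  -- the morphism `sa ⟶ sb`
  let g : sa.base ⟶ sb.base := eqToHom (hTa.trans hTb.symm)
  let sb' : (AlgSt.ofSp F.obj).obj := ⟨sa.base, F.obj.obj.map g.op sb.sec⟩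
  let ψ : sb' ⟶ sb := ⟨g, rfl⟩
  have hsb' : AlgSt.secHom Φ sb' = eqToHom hTa := by
    rw [← AlgSt.secHom_comp Φ ψ, hsb]
    change eqToHom (hTa.trans hTb.symm) ≫ eqToHom hTb = _
    simp
  have hsec : F.obj.obj.map g.op sb.sec = sa.sec := by
    apply inj_of_mono _ hm' sa.base
    rw [AlgSt.spMapOfOver_app, AlgSt.spMapOfOver_app]
    apply ULift.ext
    change AlgSt.secHom Φ sb' = AlgSt.secHom Φ sa
    rw [hsb', hsa]
  let γ : sa ⟶ sb := ⟨g, hsec⟩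
  let Ψ : za ⟶ zb := ιa.inv ≫ e.map γ ≫ ιb.hom
  have hΨ1 : Ψ.hom.fst = 𝟙 o := end_terminal U _
  have hyid : y.map (𝟙 o) = 𝟙 _ := y.toFunctor.map_id o
  have hw : y.map Ψ.hom.fst ≫ (τ ≫ θ₁) = τ ≫ j.map Ψ.hom.snd := Ψ.hom.w
  have hθ : θ₁ = j.map Ψ.hom.snd := by
    rw [hΨ1] at hw
    rw [← cancel_epi τ, ← hw]
    exact (Category.id_comp _).symm.trans (congrArg (fun m => m ≫ (τ ≫ θ₁)) hyid).symm
  have hφl : 𝒳.p.IsHomLift (𝟙 U) Ψ.hom.snd := by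
    rw [← BasedFunctor.isHomLift_iff j, ← hθ]
    exact hθl
  refine ⟨⟨Ψ.hom.snd, hφl⟩, ?_⟩
  apply Functor.Fiber.hom_ext
  change j.map Ψ.hom.snd = θ.1
  rw [← hθ, hθ₁]


/-- Take categories `𝒳` and `𝒴` fibred in groupoids over `(Sch/S)` and a 1-morphism `j : 𝒳 ⟶ 𝒴` between
them which is representable by algebraic spaces and a monomorphism. Then `j` is fully faithful on
fibre categories; for categories fibred in groupoids this is the same as `j` being full and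
faithful, which is how it is stated here. -/
theorem result {S : Scheme.{u}} {𝒳 𝒴 : AlgSt.Cat S}
    (h𝒳 : FibCat.IsFibGrpd 𝒳.p) (h𝒴 : FibCat.IsFibGrpd 𝒴.p) (j : 𝒳 ⥤ᵇ 𝒴) (hj : AlgSt.IsMono j) :
    j.toFunctor.Full ∧ j.toFunctor.Faithful := by
  have hrep : AlgSt.RepByAlgSp1 j := by
    intro U y
    obtain ⟨F, e, he, -⟩ := hj U y
    exact ⟨F, e, he⟩
  exact ⟨Groth.Agent.Lib.helper10.FiberFun.full_of_fiber_full j h𝒳 h𝒴 (fun U => fiber_full h𝒳 h𝒴 j hj U),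
    Groth.Agent.S12776.result h𝒳 h𝒴 j hrep⟩

end Groth.Agent.S12774
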