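import Mathlib.Tactic
import Groth.Agent.Lib.helper10.StkEquiv
import Groth.Statements.S12787

set_option autoImplicit false
open CategoryTheory AlgebraicGeometry
universe u
open AlgSt

namespace Groth.Agent.S12787

universe w v' u' in
lemma isFibSetoid_ofPsh {C : Type u'} [Category.{v'} C] (P : Cᵒᵖ ⥤ Type w) :
    FibCat.IsFibSetoid (Stk.ofPsh P).p := by
  refine ⟨Stk.isFibGrpd_ofPsh P, ?_⟩
  intro U a b
  constructor
  intro m m'
  apply Functor.Fiber.hom_ext
  apply Stk.EltObj.hom_ext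
  have h1 : (Stk.EltObj.forget P).IsHomLift (𝟙 U) m.1 := m.2
  have h2 : (Stk.EltObj.forget P).IsHomLift (𝟙 U) m'.1 := m'.2
  exact (IsHomLift.fac' (Stk.EltObj.forget P) (𝟙 U) m.1).trans
    (IsHomLift.fac' (Stk.EltObj.forget P) (𝟙 U) m'.1).symm


/-- A category fibred in groupoids over `(Sch/S)` which is representable by an algebraic space is fibred
in setoids. -/
theorem result {S : Scheme.{u}} {𝒳 : AlgSt.Cat S}
    (h𝒳 : FibCat.IsFibGrpd 𝒳.p) (hr : AlgSt.RepByAlgSp 𝒳) :
    FibCat.IsFibSetoid 𝒳.p := by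
  obtain ⟨F, e, he⟩ := hr
  exact (Groth.Agent.Lib.helper10.StkEquiv.isFibSetoid_iff e he).mp (isFibSetoid_ofPsh _)

end Groth.Agent.S12787
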