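import Mathlib.Tactic
import Groth.Agent.Lib.helper10.FpPaste
import Groth.Agent.Lib.helper10.EquivComp
import Groth.Statements.S12779

set_option autoImplicit false
open CategoryTheory AlgebraicGeometry
universe u
open AlgSt

namespace Groth.Agent.S12779

lemma aux_eq {A : Type*} [Category A] {X Y Z W V : A} (p : X = Y) (q : Y = Z) (r : Z = W)
    (s : X = W) (m : W ⟶ V) :
    eqToHom p ≫ (eqToHom q ≫ 𝟙 _ ≫ eqToHom r) ≫ m = eqToHom s ≫ m := by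
  subst p q r
  simp

/-- isomorphic functors to a slice induce the same map of sheaves -/
lemma secHom_eq_of_iso {S : Scheme.{u}} {F : AlgSp.Sp S} {U : Over S}
    (Φ₁ Φ₂ : ofSp F ⥤ᵇ FibCat.overCat U) (θ : Φ₁ ⟶ Φ₂) (a : (ofSp F).obj) :
    secHom Φ₁ a = secHom Φ₂ a := by
  have hl : (FibCat.overCat U).p.IsHomLift (𝟙 ((ofSp F).p.obj a)) (θ.toNatTrans.app a) := θ.isHomLift' a
  have h1 : (θ.toNatTrans.app a).left ≫ (Φ₂.obj a).hom = (Φ₁.obj a).hom := Over.w (θ.toNatTrans.app a)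
  have h2 : (θ.toNatTrans.app a).left = eqToHom (Φ₁.w_obj a) ≫ 𝟙 _ ≫ eqToHom (Φ₂.w_obj a).symm :=
    IsHomLift.fac' (FibCat.overCat U).p (𝟙 ((ofSp F).p.obj a)) (θ.toNatTrans.app a)
  refine Eq.trans (congrArg (fun t => eqToHom (Φ₁.w_obj a).symm ≫ t) h1.symm) ?_
  refine Eq.trans (congrArg (fun t => eqToHom (Φ₁.w_obj a).symm ≫ (t ≫ (Φ₂.obj a).hom)) h2) ?_
  exact aux_eq _ _ _ _ _

lemma spMapOfOver_eq_of_iso {S : Scheme.{u}} {F : AlgSp.Sp S} {U : Over S}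
    (Φ₁ Φ₂ : ofSp F ⥤ᵇ FibCat.overCat U) (θ : Φ₁ ≅ Φ₂) :
    spMapOfOver Φ₁ = spMapOfOver Φ₂ := by
  apply ObjectProperty.hom_ext
  apply NatTrans.ext
  funext T
  ext x
  apply ULift.ext
  exact secHom_eq_of_iso Φ₁ Φ₂ θ.hom ⟨T.unop, x⟩



/-- Let `𝒳`, `𝒴`, `𝒵` be fibred in groupoids over `(Sch/S)`, `f : 𝒳 ⟶ 𝒴` representable by algebraic
spaces with property `P` and `g : 𝒵 ⟶ 𝒴` any 1-morphism. Then the base change `𝒵 ×_𝒴 𝒳 ⟶ 𝒵` has `P`.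
(The published statement assumes `P` stable under base change and fppf local on the base; this row
holds for every property `P`.) -/
theorem result {S : Scheme.{u}} {𝒳 𝒴 𝒵 : AlgSt.Cat S}
    (h𝒳 : FibCat.IsFibGrpd 𝒳.p) (h𝒴 : FibCat.IsFibGrpd 𝒴.p) (h𝒵 : FibCat.IsFibGrpd 𝒵.p)
    (P : MorphismProperty (AlgSp.Sp S)) (f : 𝒳 ⥤ᵇ 𝒴) (g : 𝒵 ⥤ᵇ 𝒴) (hf : AlgSt.RepByAlgSpWith P f) :
    AlgSt.RepByAlgSpWith P (FibCat.fpFst g f) := by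
  intro U G
  obtain ⟨F, e₀, he₀, hP⟩ := hf U (BasedFunctor.comp G g)
  obtain ⟨Ψ', ⟨η⟩, ⟨ε⟩⟩ := Groth.Agent.Lib.helper10.FpPaste.Ψ₁_isEquivOver G g f
  refine ⟨F, BasedFunctor.comp e₀ Ψ',
    Groth.Agent.Lib.helper10.EquivComp.comp e₀ Ψ' he₀ ⟨_, ⟨ε⟩, ⟨η⟩⟩, ?_⟩
  have hiso : BasedFunctor.comp (BasedFunctor.comp e₀ Ψ') (FibCat.fpFst G (FibCat.fpFst g f)) ≅
      BasedFunctor.comp e₀ (FibCat.fpFst (BasedFunctor.comp G g) f) :=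
    (Stk.restr e₀ _).mapIso
      ((Groth.Agent.Lib.helper10.StkEquiv.post (FibCat.fpFst (BasedFunctor.comp G g) f) _).mapIso ε)
  rw [spMapOfOver_eq_of_iso _ _ hiso]
  exact hP

end Groth.Agent.S12779
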