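import Groth.Agent.Lib.helper10.FpPaste
import Groth.Agent.Lib.helper10.FpMap
import Groth.Agent.Lib.helper10.EquivComp
import Groth.Statements.S12785

set_option autoImplicit false
open CategoryTheory CategoryTheory.Limits
universe v u
open FibCat

namespace Groth.Agent.S12785

/-- The composite of two representable 1-morphisms `f : 𝒳 ⟶ 𝒴`, `g : 𝒴 ⟶ 𝒵` of categories over `C` is a
representable 1-morphism. (The published statement is for categories fibred in groupoids over
schemes over a base; this row is stated for categories over any base category.) -/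
theorem result {C : Type u} [Category.{v} C] {𝒳 𝒴 𝒵 : BasedCategory.{v, max u v} C}
    (f : 𝒳 ⥤ᵇ 𝒴) (g : 𝒴 ⥤ᵇ 𝒵) (hf : FibCat.IsRepresentable1 f) (hg : FibCat.IsRepresentable1 g) :
    FibCat.IsRepresentable1 (BasedFunctor.comp f g) := by
  intro U G
  obtain ⟨V, E, hE⟩ := hg U G
  obtain ⟨E', hE'⟩ := Groth.Agent.Lib.helper10.EquivComp.symm E hE
  have h1 : FibCat.IsRepresentable (FibCat.fp (BasedFunctor.comp E' (FibCat.fpSnd G g)) f) :=
    hf V (BasedFunctor.comp E' (FibCat.fpSnd G g))
  have hΦ := Groth.Agent.Lib.helper10.FpMap.Φ_isEquivOver'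
    (BasedFunctor.comp E' (FibCat.fpSnd G g)) f (FibCat.fpSnd G g) f E' (BasedFunctor.id 𝒳)
    (BasedFunctor.id 𝒴) (Iso.refl _) (Iso.refl _) hE'
    (Groth.Agent.Lib.helper10.EquivComp.id_isEquivOver 𝒳)
    (Groth.Agent.Lib.helper10.EquivComp.id_isEquivOver 𝒴)
  have h2 : FibCat.IsRepresentable (FibCat.fp (FibCat.fpSnd G g) f) :=
    (Groth.Agent.Lib.helper10.EquivComp.isRepresentable_iff _ hΦ).mp h1
  exact (Groth.Agent.Lib.helper10.EquivComp.isRepresentable_iff _
    (Groth.Agent.Lib.helper10.FpPaste.Ψ₂_isEquivOver G g f)).mp h2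

end Groth.Agent.S12785
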