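import Groth.Agent.Lib.helper10.FpProd
import Groth.Agent.S12784
import Groth.Agent.S12785
import Groth.Agent.S12786
import Groth.Statements.S12790

set_option autoImplicit false
open CategoryTheory CategoryTheory.Limits
universe v u
open FibCat

namespace Groth.Agent.S12790

/-- For representable 1-morphisms `f₁ : 𝒳₁ ⟶ 𝒴₁`, `f₂ : 𝒳₂ ⟶ 𝒴₂` of categories over `C`, the product `f₁
× f₂ : 𝒳₁ × 𝒳₂ ⟶ 𝒴₁ × 𝒴₂` (products over `C`; the functor induced on 2-fibre products, for any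
choice of the 2-isomorphism `e` filling the square) is a representable 1-morphism. (The published
statement is for categories fibred in groupoids over schemes over a base; this row is stated for
categories over any base category.) -/
theorem result {C : Type u} [Category.{v} C] {𝒳₁ 𝒳₂ 𝒴₁ 𝒴₂ : BasedCategory.{v, max u v} C}
    (f₁ : 𝒳₁ ⥤ᵇ 𝒴₁) (f₂ : 𝒳₂ ⥤ᵇ 𝒴₂) (hf₁ : FibCat.IsRepresentable1 f₁) (hf₂ : FibCat.IsRepresentable1 f₂)
    (e : BasedFunctor.comp (BasedFunctor.comp (FibCat.fpFst (FibCat.toSelf 𝒳₁) (FibCat.toSelf 𝒳₂)) f₁) (FibCat.toSelf 𝒴₁) ≅ BasedFunctor.comp (BasedFunctor.comp (FibCat.fpSnd (FibCat.toSelf 𝒳₁) (FibCat.toSelf 𝒳₂)) f₂) (FibCat.toSelf 𝒴₂)) :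
    FibCat.IsRepresentable1 (FibCat.fpLift (BasedFunctor.comp (FibCat.fpFst (FibCat.toSelf 𝒳₁) (FibCat.toSelf 𝒳₂)) f₁) (BasedFunctor.comp (FibCat.fpSnd (FibCat.toSelf 𝒳₁) (FibCat.toSelf 𝒳₂)) f₂) e) := by
  have hA : FibCat.IsRepresentable1 (Groth.Agent.Lib.helper10.FpProd.prodL (𝒳₂ := 𝒳₂) f₁) :=
    (Groth.Agent.S12784.result (Groth.Agent.Lib.helper10.FpProd.prodL (𝒳₂ := 𝒳₂) f₁)
      (FibCat.fpFst (FibCat.fpFst (FibCat.toSelf 𝒴₁) (FibCat.toSelf 𝒳₂)) f₁)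
      (Groth.Agent.Lib.helper10.FpProd.eL (𝒳₂ := 𝒳₂) f₁) (BasedFunctor.id _)
      (Groth.Agent.Lib.helper10.FpProd.eL_isEquivOver f₁)
      (Groth.Agent.Lib.helper10.EquivComp.id_isEquivOver _)
      (Groth.Agent.Lib.helper10.FpProd.eL_iso f₁)).mpr
      (Groth.Agent.S12786.result f₁ _ hf₁)
  have hB : FibCat.IsRepresentable1 (Groth.Agent.Lib.helper10.FpProd.prodR (𝒴₁ := 𝒴₁) f₂) :=
    (Groth.Agent.S12784.result (Groth.Agent.Lib.helper10.FpProd.prodR (𝒴₁ := 𝒴₁) f₂)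
      (FibCat.fpFst (FibCat.fpSnd (FibCat.toSelf 𝒴₁) (FibCat.toSelf 𝒴₂)) f₂)
      (Groth.Agent.Lib.helper10.FpProd.eR (𝒴₁ := 𝒴₁) f₂) (BasedFunctor.id _)
      (Groth.Agent.Lib.helper10.FpProd.eR_isEquivOver f₂)
      (Groth.Agent.Lib.helper10.EquivComp.id_isEquivOver _)
      (Groth.Agent.Lib.helper10.FpProd.eR_iso f₂)).mpr
      (Groth.Agent.S12786.result f₂ _ hf₂)
  have hAB := Groth.Agent.S12785.result _ _ hA hB
  exact (Groth.Agent.S12784.result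
    (BasedFunctor.comp (Groth.Agent.Lib.helper10.FpProd.prodL (𝒳₂ := 𝒳₂) f₁)
      (Groth.Agent.Lib.helper10.FpProd.prodR (𝒴₁ := 𝒴₁) f₂))
    (FibCat.fpLift (BasedFunctor.comp (FibCat.fpFst (FibCat.toSelf 𝒳₁) (FibCat.toSelf 𝒳₂)) f₁)
      (BasedFunctor.comp (FibCat.fpSnd (FibCat.toSelf 𝒳₁) (FibCat.toSelf 𝒳₂)) f₂) e)
    (BasedFunctor.id _) (BasedFunctor.id _)
    (Groth.Agent.Lib.helper10.EquivComp.id_isEquivOver _)
    (Groth.Agent.Lib.helper10.EquivComp.id_isEquivOver _)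
    (Groth.Agent.Lib.helper10.FpProd.factorIso f₁ f₂ e)).mp hAB

end Groth.Agent.S12790
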