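import Groth.Agent.Lib.helper10.StkEquiv
import Groth.Agent.Lib.helper10.EquivCore
import Groth.Agent.Lib.helper10.FFLift
import Groth.Agent.Lib.helper10.Yoneda2
import Groth.Statements.S12794

set_option autoImplicit false
open CategoryTheory
universe w v u
open Stk

namespace Groth.Agent.S12794

open Groth.Agent.Lib.helper10 in
theorem hes_of_local {C : Type u} [Category.{v} C] (J : GrothendieckTopology C) {𝒳 𝒴 : BasedCategory.{v, max u v} C}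
    (h𝒳 : Stk.IsStack J 𝒳) (h𝒴 : Stk.IsStack J 𝒴) (F : 𝒳 ⥤ᵇ 𝒴) [F.toFunctor.Full] [F.toFunctor.Faithful]
    (y : 𝒴.obj) (R : Sieve (𝒴.p.obj y)) (hR : R ∈ J (𝒴.p.obj y))
    (hloc : ∀ ⦃V : C⦄ (f : V ⟶ 𝒴.p.obj y), R f → ∃ (x : 𝒳.obj) (φ : F.obj x ⟶ y), 𝒴.p.IsHomLift f φ) :
    ∃ (x : 𝒳.obj) (e : F.obj x ≅ y), 𝒴.p.IsHomLift (𝟙 (𝒴.p.obj y)) e.hom := by
  have hfib : 𝒴.p.IsFibered := FiberFun.isFibered_of_isFibGrpd h𝒴.1
  obtain ⟨U, hU⟩ : ∃ U : C, 𝒴.p.obj y = U := ⟨_, rfl⟩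
  subst hU
  let a : 𝒴.p.Fiber (𝒴.p.obj y) := ⟨y, rfl⟩
  let Y : FibCat.overCat (𝒴.p.obj y) ⥤ᵇ 𝒴 := Yoneda2.yo (𝒴.p.obj y) a
  let L : Stk.sieveCat R ⥤ᵇ 𝒴 := BasedFunctor.comp (Stk.sieveIncl R) Y
  have hesL : ∀ b : (Stk.sieveCat R).obj, ∃ (x : 𝒳.obj) (e : F.obj x ≅ L.obj b),
      𝒴.p.IsHomLift (𝟙 ((Stk.sieveCat R).p.obj b)) e.hom := by
    intro b
    obtain ⟨x, φ, hφ⟩ := hloc b.obj.hom b.property
    have hsc : 𝒴.p.IsStronglyCartesian b.obj.hom (Yoneda2.pbMap (𝒴.p.obj y) a b.obj) :=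
      Yoneda2.pbMap_sc (𝒴.p.obj y) a b.obj
    have hφ' : 𝒴.p.IsHomLift (𝟙 b.obj.left ≫ b.obj.hom) φ := by
      rw [Category.id_comp]; exact hφ
    let χ : F.obj x ⟶ Yoneda2.pbObj (𝒴.p.obj y) a b.obj :=
      Functor.IsStronglyCartesian.map 𝒴.p b.obj.hom (Yoneda2.pbMap (𝒴.p.obj y) a b.obj)
        (g := 𝟙 b.obj.left) rfl φ
    have hχl : 𝒴.p.IsHomLift (𝟙 b.obj.left) χ :=
      Functor.IsStronglyCartesian.map_isHomLift 𝒴.p b.obj.hom (Yoneda2.pbMap (𝒴.p.obj y) a b.obj)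
        (g := 𝟙 b.obj.left) rfl φ
    have hχsc : 𝒴.p.IsStronglyCartesian (𝟙 b.obj.left) χ := FiberFun.sc_of_isFibGrpd h𝒴.1 _ χ
    have hiso : IsIso χ := Functor.IsStronglyCartesian.isIso_of_base_isIso 𝒴.p (𝟙 b.obj.left) χ
    exact ⟨x, @asIso _ _ _ _ χ hiso, hχl⟩
  obtain ⟨K, ⟨i1⟩⟩ := FFLift.exists_lift F L hesL
  have hE𝒳 : (Stk.resSieve R 𝒳).IsEquivalence := h𝒳.2 R hR
  have hE𝒴 : (Stk.resSieve R 𝒴).IsEquivalence := h𝒴.2 R hR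
  obtain ⟨H, ⟨i2⟩⟩ := Functor.EssSurj.mem_essImage (F := Stk.resSieve R 𝒳) K
  let i3 : (Stk.resSieve R 𝒴).obj (BasedFunctor.comp H F) ≅ (Stk.resSieve R 𝒴).obj Y :=
    (StkEquiv.post F (Stk.sieveCat R)).mapIso i2 ≪≫ i1
  let i4 : BasedFunctor.comp H F ≅ Y := (Stk.resSieve R 𝒴).preimageIso i3
  let o : Over (𝒴.p.obj y) := Over.mk (𝟙 (𝒴.p.obj y))
  let e1 : F.obj (H.obj o) ≅ Y.obj o := ((BasedNatTrans.forgetful _ _).mapIso i4).app o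
  have he1 : 𝒴.p.IsHomLift (𝟙 (𝒴.p.obj y)) e1.hom := i4.hom.isHomLift' o
  have hsc2 : 𝒴.p.IsStronglyCartesian (𝟙 (𝒴.p.obj y)) (Yoneda2.pbMap (𝒴.p.obj y) a o) :=
    Yoneda2.pbMap_sc (𝒴.p.obj y) a o
  have hiso2 : IsIso (Yoneda2.pbMap (𝒴.p.obj y) a o) :=
    @Functor.IsStronglyCartesian.isIso_of_base_isIso _ _ _ _ 𝒴.p _ _ _ _ (𝟙 (𝒴.p.obj y))
      (Yoneda2.pbMap (𝒴.p.obj y) a o) hsc2 inferInstance
  have he2 : 𝒴.p.IsHomLift (𝟙 (𝒴.p.obj y)) (Yoneda2.pbMap (𝒴.p.obj y) a o) := hsc2.toIsHomLift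
  refine ⟨H.obj o, e1 ≪≫ @asIso _ _ _ _ (Yoneda2.pbMap (𝒴.p.obj y) a o) hiso2, ?_⟩
  exact @IsHomLift.comp_lift_id_left' _ _ _ _ 𝒴.p _ _ _ (𝒴.p.obj y) e1.hom he1 _ _ (𝟙 (𝒴.p.obj y))
    (Yoneda2.pbMap (𝒴.p.obj y) a o) he2


/-- Let `𝒳`, `𝒴` be stacks in groupoids over `C` for the topology `J` and `F : 𝒳 ⟶ 𝒴` a functor over `C`
whose underlying functor is fully faithful. Then `F` is an equivalence over `C` if and only if every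
object `y` of `𝒴` is locally in the essential image: there is a covering sieve `R` of the object
under `y` such that for every arrow `f` of `R` some object `x` of `𝒳` has a morphism `F x ⟶ y` lying
over `f` (equivalently, the pullback of `y` along `f` is isomorphic in its fibre to an object in the
image of `F`). (The published statement is for stacks over the site, not necessarily in groupoids,
and 1-morphisms of stacks; this row treats stacks in groupoids.) -/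
theorem result {C : Type u} [Category.{v} C] (J : GrothendieckTopology C) {𝒳 𝒴 : BasedCategory.{v, max u v} C}
    (h𝒳 : Stk.IsStack J 𝒳) (h𝒴 : Stk.IsStack J 𝒴) (F : 𝒳 ⥤ᵇ 𝒴) [F.toFunctor.Full] [F.toFunctor.Faithful] :
    FibCat.IsEquivOver F ↔
      ∀ y : 𝒴.obj, ∃ R ∈ J (𝒴.p.obj y), ∀ ⦃V : C⦄ (f : V ⟶ 𝒴.p.obj y), R f →
        ∃ (x : 𝒳.obj) (φ : F.obj x ⟶ y), 𝒴.p.IsHomLift f φ := by
  constructor
  · intro hF y
    refine ⟨⊤, J.top_mem _, fun V f _ => ?_⟩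
    obtain ⟨y', ψ, hψ⟩ := h𝒴.1.exists_lift (x := y) f
    obtain ⟨x, θ, hθ⟩ := Groth.Agent.Lib.helper10.EquivOver.exists_iso F hF y'
    exact ⟨x, θ.hom ≫ ψ, IsHomLift.comp_lift_id_left' 𝒴.p (𝒴.p.obj y') θ.hom f ψ⟩
  · intro hloc
    apply Groth.Agent.Lib.helper10.EquivCore.isEquivOver F
    intro y
    obtain ⟨R, hR, hl⟩ := hloc y
    exact hes_of_local J h𝒳 h𝒴 F y R hR hl

end Groth.Agent.S12794
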