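import Groth.Agent.Lib.helper10.StkEquiv
import Groth.Agent.Lib.helper10.FFLift
import Groth.Agent.Lib.helper10.FiberFun
import Groth.Statements.S12795

set_option autoImplicit false
open CategoryTheory
universe w v u
open Stk

namespace Groth.Agent.S12795

open Groth.Agent.Lib.helper10

/-- the full subcategory as a category over `C` -/
abbrev sub {C : Type u} [Category.{v} C] (𝒳 : BasedCategory.{v, max u v} C) (Q : ObjectProperty 𝒳.obj) :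
    BasedCategory.{v, max u v} C := BasedCategory.ofFunctor (Q.ι ⋙ 𝒳.p)

/-- the inclusion functor over `C` -/
def incl {C : Type u} [Category.{v} C] (𝒳 : BasedCategory.{v, max u v} C) (Q : ObjectProperty 𝒳.obj) :
    sub 𝒳 Q ⥤ᵇ 𝒳 where
  toFunctor := Q.ι
  w := rfl

instance incl_full {C : Type u} [Category.{v} C] (𝒳 : BasedCategory.{v, max u v} C) (Q : ObjectProperty 𝒳.obj) :
    (incl 𝒳 Q).toFunctor.Full := by
  change Q.ι.Full
  infer_instance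

instance incl_faithful {C : Type u} [Category.{v} C] (𝒳 : BasedCategory.{v, max u v} C) (Q : ObjectProperty 𝒳.obj) :
    (incl 𝒳 Q).toFunctor.Faithful := by
  change Q.ι.Faithful
  infer_instance

theorem isFibGrpd_sub {C : Type u} [Category.{v} C] {𝒳 : BasedCategory.{v, max u v} C}
    (h𝒳 : FibCat.IsFibGrpd 𝒳.p) (Q : ObjectProperty 𝒳.obj)
    (h1 : ∀ ⦃y x : 𝒳.obj⦄ (φ : y ⟶ x), Q x → ∃ (y' : 𝒳.obj) (e : y ≅ y'), Q y' ∧ 𝒳.p.IsHomLift (𝟙 (𝒳.p.obj y)) e.hom) :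
    FibCat.IsFibGrpd (sub 𝒳 Q).p := by
  constructor
  · intro x V f
    revert f
    change ∀ f : V ⟶ 𝒳.p.obj x.obj, ∃ (b : (sub 𝒳 Q).obj) (φ : b ⟶ x), (sub 𝒳 Q).p.IsHomLift f φ
    intro f
    obtain ⟨y, φ, hφ⟩ := h𝒳.exists_lift (x := x.obj) f
    obtain ⟨y', e, hQ, he⟩ := h1 φ x.property
    have hinv : 𝒳.p.IsHomLift (𝟙 (𝒳.p.obj y)) e.inv := IsHomLift.lift_id_inv 𝒳.p (𝒳.p.obj y) e
    have hcomp : 𝒳.p.IsHomLift f (e.inv ≫ φ) :=
      IsHomLift.comp_lift_id_left' 𝒳.p (𝒳.p.obj y) e.inv f φ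
    let y'' : (sub 𝒳 Q).obj := ⟨y', hQ⟩
    let ψ : y'' ⟶ x := ObjectProperty.homMk (e.inv ≫ φ)
    refine ⟨y'', ψ, ?_⟩
    rw [← BasedFunctor.isHomLift_iff (incl 𝒳 Q)]
    exact hcomp
  · intro y x φ
    have hl : (sub 𝒳 Q).p.IsHomLift ((sub 𝒳 Q).p.map φ) φ := IsHomLift.map _ _
    exact StkEquiv.sc_reflect (incl 𝒳 Q) ((sub 𝒳 Q).p.map φ) φ (h𝒳.isStronglyCartesian φ.hom)

/-- two lifts of the same arrow with the same target are vertically isomorphic -/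
lemma exists_vert_iso {C : Type u} [Category.{v} C] {𝒳 : BasedCategory.{v, max u v} C}
    (h𝒳 : FibCat.IsFibGrpd 𝒳.p) {V U : C} (f : V ⟶ U) {y y' x : 𝒳.obj} (φ : y ⟶ x) (φ' : y' ⟶ x)
    [𝒳.p.IsHomLift f φ] [𝒳.p.IsHomLift f φ'] :
    ∃ e : y ≅ y', 𝒳.p.IsHomLift (𝟙 V) e.hom := by
  have hsc : 𝒳.p.IsStronglyCartesian f φ' := FiberFun.sc_of_isFibGrpd h𝒳 f φ'
  have hφ : 𝒳.p.IsHomLift (𝟙 V ≫ f) φ := by rw [Category.id_comp]; infer_instance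
  let χ : y ⟶ y' := Functor.IsStronglyCartesian.map 𝒳.p f φ' (g := 𝟙 V) rfl φ
  have hχl : 𝒳.p.IsHomLift (𝟙 V) χ :=
    Functor.IsStronglyCartesian.map_isHomLift 𝒳.p f φ' (g := 𝟙 V) rfl φ
  have hχsc : 𝒳.p.IsStronglyCartesian (𝟙 V) χ := FiberFun.sc_of_isFibGrpd h𝒳 _ χ
  have hiso : IsIso χ := Functor.IsStronglyCartesian.isIso_of_base_isIso 𝒳.p (𝟙 V) χ
  exact ⟨asIso χ, hχl⟩

theorem stackFor_sub {C : Type u} [Category.{v} C] (J : GrothendieckTopology C) {𝒳 : BasedCategory.{v, max u v} C}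
    (h𝒳 : Stk.IsStack J 𝒳) (Q : ObjectProperty 𝒳.obj)
    (h1 : ∀ ⦃y x : 𝒳.obj⦄ (φ : y ⟶ x), Q x → ∃ (y' : 𝒳.obj) (e : y ≅ y'), Q y' ∧ 𝒳.p.IsHomLift (𝟙 (𝒳.p.obj y)) e.hom)
    (h3 : ∀ ⦃U : C⦄ (R : Sieve U), R ∈ J U → ∀ (x : 𝒳.obj), 𝒳.p.obj x = U →
      (∀ ⦃V : C⦄ (f : V ⟶ U), R f → ∀ (y : 𝒳.obj) (φ : y ⟶ x), 𝒳.p.IsHomLift f φ →
        ∃ (y' : 𝒳.obj) (e : y ≅ y'), Q y' ∧ 𝒳.p.IsHomLift (𝟙 V) e.hom) →
      ∃ (x' : 𝒳.obj) (e : x ≅ x'), Q x' ∧ 𝒳.p.IsHomLift (𝟙 U) e.hom)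
    {U : C} (R : Sieve U) (hR : R ∈ J U) : Stk.IsStackFor R (sub 𝒳 Q) := by
  have hE : (Stk.resSieve R 𝒳).IsEquivalence := h𝒳.2 R hR
  have sq : Stk.resSieve R (sub 𝒳 Q) ⋙ StkEquiv.post (incl 𝒳 Q) (Stk.sieveCat R) =
      StkEquiv.post (incl 𝒳 Q) (FibCat.overCat U) ⋙ Stk.resSieve R 𝒳 := rfl
  have hfaith : (Stk.resSieve R (sub 𝒳 Q)).Faithful := by
    have : (Stk.resSieve R (sub 𝒳 Q) ⋙ StkEquiv.post (incl 𝒳 Q) (Stk.sieveCat R)).Faithful := by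
      rw [sq]; infer_instance
    exact Functor.Faithful.of_comp _ (StkEquiv.post (incl 𝒳 Q) (Stk.sieveCat R))
  have hfull : (Stk.resSieve R (sub 𝒳 Q)).Full := by
    have : (Stk.resSieve R (sub 𝒳 Q) ⋙ StkEquiv.post (incl 𝒳 Q) (Stk.sieveCat R)).Full := by
      rw [sq]; infer_instance
    exact Functor.Full.of_comp_faithful _ (StkEquiv.post (incl 𝒳 Q) (Stk.sieveCat R))
  have hes : (Stk.resSieve R (sub 𝒳 Q)).EssSurj := by
    refine ⟨fun K => ?_⟩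
    obtain ⟨H, ⟨i⟩⟩ := Functor.EssSurj.mem_essImage (F := Stk.resSieve R 𝒳)
      (BasedFunctor.comp K (incl 𝒳 Q))
    -- every value of `H` is vertically isomorphic to an object of `Q`
    let o₀ : Over U := Over.mk (𝟙 U)
    have hx₀ : 𝒳.p.obj (H.obj o₀) = U := H.w_obj o₀
    have hloc : ∀ ⦃V : C⦄ (f : V ⟶ U), R f → ∀ (y : 𝒳.obj) (φ : y ⟶ H.obj o₀), 𝒳.p.IsHomLift f φ →
        ∃ (y' : 𝒳.obj) (e : y ≅ y'), Q y' ∧ 𝒳.p.IsHomLift (𝟙 V) e.hom := by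
      intro V f hf y φ hφ
      let c : (Stk.sieveCat R).obj := ⟨Over.mk f, hf⟩
      let k : Over.mk f ⟶ o₀ := Over.homMk f (by simp [o₀])
      have hk : (FibCat.overCat U).p.IsHomLift f k := IsHomLift.map (Over.forget U) k
      have hHk : 𝒳.p.IsHomLift f (H.map k) := inferInstance
      obtain ⟨e₁, he₁⟩ := exists_vert_iso h𝒳.1 f φ (H.map k)
      let e₂ : H.obj (Over.mk f) ≅ (K.obj c).obj := ((BasedNatTrans.forgetful _ _).mapIso i).app c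
      have he₂ : 𝒳.p.IsHomLift (𝟙 V) e₂.hom := i.hom.isHomLift' c
      refine ⟨(K.obj c).obj, e₁ ≪≫ e₂, (K.obj c).property, ?_⟩
      exact IsHomLift.comp_lift_id_left' 𝒳.p V e₁.hom (𝟙 V) e₂.hom
    obtain ⟨x', e', hQ', he'⟩ := h3 R hR (H.obj o₀) hx₀ hloc
    have hesH : ∀ a : (FibCat.overCat U).obj, ∃ (x : (sub 𝒳 Q).obj) (e : (incl 𝒳 Q).obj x ≅ H.obj a),
        𝒳.p.IsHomLift (𝟙 ((FibCat.overCat U).p.obj a)) e.hom := by
      intro a
      let t : (a : Over U) ⟶ o₀ := Over.homMk (a : Over U).hom (by simp [o₀])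
      obtain ⟨y', e, hQy, he⟩ := h1 (H.map t ≫ e'.hom) hQ'
      have hd : 𝒳.p.obj (H.obj a) = (FibCat.overCat U).p.obj a := H.w_obj a
      have he2 : 𝒳.p.IsHomLift (𝟙 ((FibCat.overCat U).p.obj a)) e.hom := by
        rw [← hd]; exact he
      have hinv : 𝒳.p.IsHomLift (𝟙 ((FibCat.overCat U).p.obj a)) e.inv :=
        IsHomLift.lift_id_inv 𝒳.p _ e
      exact ⟨⟨y', hQy⟩, e.symm, hinv⟩
    obtain ⟨H', ⟨i'⟩⟩ := FFLift.exists_lift (incl 𝒳 Q) H hesH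
    refine ⟨H', ⟨?_⟩⟩
    let j : (StkEquiv.post (incl 𝒳 Q) (Stk.sieveCat R)).obj ((Stk.resSieve R (sub 𝒳 Q)).obj H') ≅
        (StkEquiv.post (incl 𝒳 Q) (Stk.sieveCat R)).obj K :=
      (Stk.resSieve R 𝒳).mapIso i' ≪≫ i
    exact (StkEquiv.post (incl 𝒳 Q) (Stk.sieveCat R)).preimageIso j
  exact ({ } : (Stk.resSieve R (sub 𝒳 Q)).IsEquivalence)


/-- Let `𝒳` be a stack in groupoids over `C` for the topology `J` and `Q` a property of objects of `𝒳`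
such that (1) for every morphism `y ⟶ x` of `𝒳` whose target satisfies `Q`, `y` is isomorphic, by an
isomorphism lying over an identity, to an object satisfying `Q`, and (3) for every covering sieve
`R` on `U` and every object `x` over `U`: if every source of a morphism to `x` lying over an arrow
of `R` is isomorphic over an identity to an object satisfying `Q`, then so is `x`. Then the full
subcategory of `𝒳` on `Q`, with the restricted structure functor, is a stack in groupoids for `J`.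
(The published statement has a further condition (2), fullness of the subcategory, which is built
into the full subcategory here; and its word isomorphic is read as isomorphic by an isomorphism
lying over an identity; the published statement is for stacks that are not necessarily in groupoids,
this row treats stacks in groupoids.) -/
theorem result {C : Type u} [Category.{v} C] (J : GrothendieckTopology C) {𝒳 : BasedCategory.{v, max u v} C}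
    (h𝒳 : Stk.IsStack J 𝒳) (Q : ObjectProperty 𝒳.obj)
    (h1 : ∀ ⦃y x : 𝒳.obj⦄ (φ : y ⟶ x), Q x → ∃ (y' : 𝒳.obj) (e : y ≅ y'), Q y' ∧ 𝒳.p.IsHomLift (𝟙 (𝒳.p.obj y)) e.hom)
    (h3 : ∀ ⦃U : C⦄ (R : Sieve U), R ∈ J U → ∀ (x : 𝒳.obj), 𝒳.p.obj x = U →
      (∀ ⦃V : C⦄ (f : V ⟶ U), R f → ∀ (y : 𝒳.obj) (φ : y ⟶ x), 𝒳.p.IsHomLift f φ →
        ∃ (y' : 𝒳.obj) (e : y ≅ y'), Q y' ∧ 𝒳.p.IsHomLift (𝟙 V) e.hom) →
      ∃ (x' : 𝒳.obj) (e : x ≅ x'), Q x' ∧ 𝒳.p.IsHomLift (𝟙 U) e.hom) :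
    Stk.IsStack J (BasedCategory.ofFunctor (Q.ι ⋙ 𝒳.p)) := by
  exact ⟨isFibGrpd_sub h𝒳.1 Q h1, fun U R hR => stackFor_sub J h𝒳 Q h1 h3 R hR⟩

end Groth.Agent.S12795
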