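import Groth.Agent.Lib.helper10.PshStk
import Groth.Statements.S12796

set_option autoImplicit false
open CategoryTheory
universe w v u
open Stk

namespace Groth.Agent.S12796

open Groth.Agent.Lib.helper10.PshStk Opposite

lemma map_id_op {C : Type u} [Category.{v} C] {P : Cᵒᵖ ⥤ Type w} {U : C} (t : P.obj (op U)) :
    P.map (𝟙 U).op t = t := by simp

theorem stackFor_of_sheafFor {C : Type u} [Category.{v} C] {P : Cᵒᵖ ⥤ Type w} {U : C} (R : Sieve U)
    (h : Presieve.IsSheafFor P R.arrows) : Stk.IsStackFor R (Stk.ofPsh P) := by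
  have hfaith : (Stk.resSieve R (Stk.ofPsh P)).Faithful := ⟨fun _ => Subsingleton.elim _ _⟩
  have hfull : (Stk.resSieve R (Stk.ofPsh P)).Full := by
    refine ⟨fun {G G'} α => ⟨homOfSecEq ?_, Subsingleton.elim _ _⟩⟩
    intro b
    rw [sec_eq_map G b, sec_eq_map G' b]
    congr 1
    apply h.isSeparatedFor.ext
    intro V f hf
    have h1 := sec_eq_of_hom α ⟨Over.mk f, hf⟩
    rw [sec_restr, sec_restr] at h1
    rw [sec_eq_map G, sec_eq_map G'] at h1
    exact h1
  have hes : (Stk.resSieve R (Stk.ofPsh P)).EssSurj := by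
    refine ⟨fun K => ?_⟩
    obtain ⟨s, hs⟩ := (h (fam R K) (fam_compatible R K)).exists
    refine ⟨ofElt P s, ⟨isoOfSecEq ?_⟩⟩
    intro a
    rw [sec_restr, sec_ofElt]
    exact hs a.obj.hom a.property
  exact ({ } : (Stk.resSieve R (Stk.ofPsh P)).IsEquivalence)

theorem sheafFor_of_stackFor {C : Type u} [Category.{v} C] {P : Cᵒᵖ ⥤ Type w} {U : C} (R : Sieve U)
    (h : Stk.IsStackFor R (Stk.ofPsh P)) : Presieve.IsSheafFor P R.arrows := by
  have hE : (Stk.resSieve R (Stk.ofPsh P)).IsEquivalence := h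
  intro x hx
  obtain ⟨G, ⟨e⟩⟩ := Functor.EssSurj.mem_essImage (F := Stk.resSieve R (Stk.ofPsh P)) (ofFam R x hx)
  have key : ∀ ⦃V : C⦄ (f : V ⟶ U) (hf : R f), P.map f.op (sec G (Over.mk (𝟙 U))) = x f hf := by
    intro V f hf
    have h0 := sec_eq_map G (Over.mk f)
    have h1 := sec_eq_of_hom e.hom ⟨Over.mk f, hf⟩
    rw [sec_restr, sec_ofFam] at h1
    exact h0.symm.trans h1
  refine ⟨sec G (Over.mk (𝟙 U)), key, ?_⟩
  intro s' hs'
  have hsec : ∀ a, sec ((Stk.resSieve R (Stk.ofPsh P)).obj (ofElt P s')) a =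
      sec ((Stk.resSieve R (Stk.ofPsh P)).obj (ofElt P (sec G (Over.mk (𝟙 U))))) a := by
    intro a
    rw [sec_restr, sec_restr, sec_ofElt, sec_ofElt]
    exact (hs' a.obj.hom a.property).trans (key a.obj.hom a.property).symm
  let β := (Stk.resSieve R (Stk.ofPsh P)).preimage (homOfSecEq hsec)
  have h2 := sec_eq_of_hom β (Over.mk (𝟙 U))
  rw [sec_ofElt, sec_ofElt] at h2
  exact (map_id_op s').symm.trans (h2.trans (map_id_op _))


/-- For a presheaf of sets `P` on `C`, the category over `C` attached to `P` (which is fibred in sets)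
is a stack in groupoids for the topology `J` if and only if `P` is a sheaf for `J`: under the
correspondence between presheaves and categories fibred in sets, sheaves correspond to stacks. -/
theorem result {C : Type u} [Category.{v} C] (J : GrothendieckTopology C) (P : Cᵒᵖ ⥤ Type w) :
    Stk.IsStack J (Stk.ofPsh P) ↔ Presieve.IsSheaf J P := by
  constructor
  · intro h U R hR
    exact sheafFor_of_stackFor R (h.2 R hR)
  · intro h
    exact ⟨Stk.isFibGrpd_ofPsh P, fun U R hR => stackFor_of_sheafFor R (h R hR)⟩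

end Groth.Agent.S12796
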