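import Groth.Agent.S12796
import Groth.Agent.Lib.helper10.StkEquiv
import Groth.Agent.Lib.helper10.EquivCore
import Groth.Statements.S12797

set_option autoImplicit false
open CategoryTheory
universe w v u
open Stk

namespace Groth.Agent.S12797

open Opposite

/-- the comparison functor `C/U ⟶ ofPsh h_U` -/
def toElt {C : Type u} [Category.{v} C] (U : C) : FibCat.overCat U ⥤ᵇ Stk.ofPsh (yoneda.obj U) where
  toFunctor :=
    { obj := fun a => ⟨a.left, a.hom⟩
      map := fun {a b} f => ⟨f.left, Over.w f⟩
      map_id := fun a => by apply Stk.EltObj.hom_ext; rfl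
      map_comp := fun f g => by apply Stk.EltObj.hom_ext; rfl }
  w := rfl

instance toElt_faithful {C : Type u} [Category.{v} C] (U : C) : (toElt U).toFunctor.Faithful := by
  refine ⟨fun {a b} f g h => ?_⟩
  apply Over.OverMorphism.ext
  exact congrArg Stk.EltObj.Hom.hom h

instance toElt_full {C : Type u} [Category.{v} C] (U : C) : (toElt U).toFunctor.Full := by
  refine ⟨fun {a b} φ => ⟨Over.homMk φ.hom φ.map_sec, ?_⟩⟩
  apply Stk.EltObj.hom_ext
  rfl

theorem toElt_isEquivOver {C : Type u} [Category.{v} C] (U : C) : FibCat.IsEquivOver (toElt U) := by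
  apply Groth.Agent.Lib.helper10.EquivCore.isEquivOver
  intro y
  refine ⟨Over.mk y.sec, Iso.refl _, ?_⟩
  exact IsHomLift.id rfl


/-- For an object `U` of `C`, the slice category `C/U` with its forgetful functor to `C` is a stack in
groupoids for the topology `J` if and only if the representable presheaf `h_U` is a sheaf for `J`. -/
theorem result {C : Type u} [Category.{v} C] (J : GrothendieckTopology C) (U : C) :
    Stk.IsStack J (FibCat.overCat U) ↔ Presieve.IsSheaf J (yoneda.obj U) := by
  rw [← Groth.Agent.S12796.result J (yoneda.obj U)]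
  exact Groth.Agent.Lib.helper10.StkEquiv.isStack_iff (toElt U) (toElt_isEquivOver U) J

end Groth.Agent.S12797
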