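import Groth.Agent.Lib.helper10.Yoneda3
import Groth.Agent.Lib.helper10.FiberFun
import Groth.Statements.S12798

set_option autoImplicit false
open CategoryTheory
universe w v u
open Stk

namespace Groth.Agent.S12798

open Groth.Agent.Lib.helper10 Groth.Agent.Lib.helper10.Yoneda2 Groth.Agent.Lib.helper10.Yoneda3 in
theorem fiber_faithful {C : Type u} [Category.{v} C] (J : GrothendieckTopology C) {𝒮₁ 𝒮₂ 𝒯₁ : BasedCategory.{v, max u v} C}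
    (h₁ : Stk.IsStack J 𝒮₁) (h₃ : Stk.IsStack J 𝒯₁) (F : 𝒮₂ ⥤ᵇ 𝒮₁) (G : 𝒯₁ ⥤ᵇ 𝒮₁)
    (hF : ∀ (y : 𝒮₁.obj) (U : C), 𝒮₁.p.obj y = U → ∃ R ∈ J U, ∀ ⦃V : C⦄ (f : V ⟶ U), R f →
      ∃ (x : 𝒮₂.obj) (φ : F.obj x ⟶ y), 𝒮₁.p.IsHomLift f φ)
    (hG' : (FibCat.fpFst F G).toFunctor.Faithful) (U : C) : (FibCat.fiberFunctor G U).Faithful := by
  have hfib : 𝒯₁.p.IsFibered := FiberFun.isFibered_of_isFibGrpd h₃.1
  refine ⟨fun {a b} α β hαβ => ?_⟩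
  have hG : G.map α.1 = G.map β.1 := congrArg (fun m => Functor.Fiber.fiberInclusion.map m) hαβ
  obtain ⟨R, hR, hl⟩ := hF (G.obj a.1) U ((G.w_obj a.1).trans a.2)
  have hE : (Stk.resSieve R 𝒯₁).IsEquivalence := h₃.2 R hR
  apply local_eq_fiber U R α β
  intro c
  obtain ⟨x, φ, hφ⟩ := hl c.obj.hom c.property
  -- notation
  obtain ⟨τ, hτ⟩ : ∃ τ : pbObj U a c.obj ⟶ a.1, τ = pbMap U a c.obj := ⟨_, rfl⟩
  obtain ⟨τ', hτ'⟩ : ∃ τ' : pbObj U b c.obj ⟶ b.1, τ' = pbMap U b c.obj := ⟨_, rfl⟩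
  have hτl : 𝒯₁.p.IsHomLift c.obj.hom τ := by rw [hτ]; infer_instance
  have hτ'l : 𝒯₁.p.IsHomLift c.obj.hom τ' := by rw [hτ']; infer_instance
  have hGτ : 𝒮₁.p.IsStronglyCartesian c.obj.hom (G.map τ) := FiberFun.sc_of_isFibGrpd h₁.1 _ _
  have hGτ' : 𝒮₁.p.IsStronglyCartesian c.obj.hom (G.map τ') := FiberFun.sc_of_isFibGrpd h₁.1 _ _
  -- the isomorphism `e : F x ≅ G s`
  have hφ' : 𝒮₁.p.IsHomLift (𝟙 c.obj.left ≫ c.obj.hom) φ := by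
    rw [Category.id_comp]; exact hφ
  let e : F.obj x ⟶ G.obj (pbObj U a c.obj) :=
    Functor.IsStronglyCartesian.map 𝒮₁.p c.obj.hom (G.map τ) (g := 𝟙 c.obj.left) rfl φ
  have hel : 𝒮₁.p.IsHomLift (𝟙 c.obj.left) e :=
    Functor.IsStronglyCartesian.map_isHomLift 𝒮₁.p c.obj.hom (G.map τ) (g := 𝟙 c.obj.left) rfl φ
  have hesc : 𝒮₁.p.IsStronglyCartesian (𝟙 c.obj.left) e := FiberFun.sc_of_isFibGrpd h₁.1 _ e
  have heiso : IsIso e := Functor.IsStronglyCartesian.isIso_of_base_isIso 𝒮₁.p (𝟙 c.obj.left) e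
  have hxV : 𝒮₂.p.obj x = c.obj.left :=
    (F.w_obj x).symm.trans (IsHomLift.domain_eq 𝒮₁.p (𝟙 c.obj.left) e)
  -- the two vertical morphisms
  obtain ⟨γα, hγα⟩ : ∃ γ : pbObj U a c.obj ⟶ pbObj U b c.obj, γ = yoApp U α c.obj := ⟨_, rfl⟩
  obtain ⟨γβ, hγβ⟩ : ∃ γ : pbObj U a c.obj ⟶ pbObj U b c.obj, γ = yoApp U β c.obj := ⟨_, rfl⟩
  have hγαl : 𝒯₁.p.IsHomLift (𝟙 c.obj.left) γα := by rw [hγα]; infer_instance
  have hγβl : 𝒯₁.p.IsHomLift (𝟙 c.obj.left) γβ := by rw [hγβ]; infer_instance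
  have fα : γα ≫ τ' = τ ≫ α.1 := by rw [hγα, hτ', hτ]; exact yoApp_fac U α c.obj
  have fβ : γβ ≫ τ' = τ ≫ β.1 := by rw [hγβ, hτ', hτ]; exact yoApp_fac U β c.obj
  have hGγ : G.map γα = G.map γβ := by
    have h1 : 𝒮₁.p.IsHomLift (𝟙 c.obj.left) (G.map γα) := inferInstance
    have h2 : 𝒮₁.p.IsHomLift (𝟙 c.obj.left) (G.map γβ) := inferInstance
    apply Functor.IsStronglyCartesian.ext 𝒮₁.p c.obj.hom (G.map τ') (𝟙 c.obj.left)
    change G.toFunctor.map γα ≫ G.toFunctor.map τ' = G.toFunctor.map γβ ≫ G.toFunctor.map τ'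
    rw [← G.toFunctor.map_comp, ← G.toFunctor.map_comp, fα, fβ, G.toFunctor.map_comp,
      G.toFunctor.map_comp]
    exact congrArg (fun m => G.toFunctor.map τ ≫ m) hG
  -- objects of the fibre product
  have hGγl : 𝒮₁.p.IsHomLift (𝟙 c.obj.left) (G.map γα) := inferInstance
  have hGγsc : 𝒮₁.p.IsStronglyCartesian (𝟙 c.obj.left) (G.map γα) := FiberFun.sc_of_isFibGrpd h₁.1 _ _
  have hGγiso : IsIso (G.map γα) :=
    Functor.IsStronglyCartesian.isIso_of_base_isIso 𝒮₁.p (𝟙 c.obj.left) (G.map γα)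
  have hp1 : 𝒮₁.p.IsHomLift (𝟙 (𝒮₂.p.obj x)) e := by rw [hxV]; exact hel
  have hp2 : 𝒮₁.p.IsHomLift (𝟙 (𝒮₂.p.obj x)) (e ≫ G.map γα) := by
    rw [hxV]
    exact IsHomLift.comp_lift_id_left' 𝒮₁.p c.obj.left e (𝟙 c.obj.left) (G.map γα)
  let z : (FibCat.fp F G).obj := ⟨⟨x, pbObj U a c.obj, asIso e⟩, hp1⟩
  let z' : (FibCat.fp F G).obj := ⟨⟨x, pbObj U b c.obj, asIso (e ≫ G.map γα)⟩, hp2⟩
  let Ψα : z ⟶ z' := ObjectProperty.homMk
    ({ fst := 𝟙 x, snd := γα, w := by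
        change F.toFunctor.map (𝟙 x) ≫ (e ≫ G.map γα) = e ≫ G.map γα
        simp } :
      Limits.CategoricalPullback.Hom (F := F.toFunctor) (G := G.toFunctor) z.obj z'.obj)
  let Ψβ : z ⟶ z' := ObjectProperty.homMk
    ({ fst := 𝟙 x, snd := γβ, w := by
        change F.toFunctor.map (𝟙 x) ≫ (e ≫ G.map γα) = e ≫ G.map γβ
        rw [hGγ]
        simp } :
      Limits.CategoricalPullback.Hom (F := F.toFunctor) (G := G.toFunctor) z.obj z'.obj)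
  have hΨ : Ψα = Ψβ := (FibCat.fpFst F G).toFunctor.map_injective rfl
  have hγ : γα = γβ := congrArg (fun m => m.hom.snd) hΨ
  rw [← hτ, ← fα, ← fβ, hγ]


/-- Let `𝒮₁`, `𝒮₂`, `𝒯₁` be stacks in groupoids over `C` for the topology `J`, and `F : 𝒮₂ ⟶ 𝒮₁`, `G :
𝒯₁ ⟶ 𝒮₁` functors over `C` such that every object of `𝒮₁` is locally in the essential image of `F`.
If the first projection `𝒮₂ ×_{𝒮₁} 𝒯₁ ⟶ 𝒮₂` of the 2-fibre product over `C` is faithful, then `G` is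
faithful. (The published statement is for any 2-cartesian square of stacks in groupoids; this row is
the case of the explicit 2-fibre product, to which the general case reduces because faithfulness is
invariant under equivalence.) -/
theorem result {C : Type u} [Category.{v} C] (J : GrothendieckTopology C) {𝒮₁ 𝒮₂ 𝒯₁ : BasedCategory.{v, max u v} C}
    (h₁ : Stk.IsStack J 𝒮₁) (h₂ : Stk.IsStack J 𝒮₂) (h₃ : Stk.IsStack J 𝒯₁) (F : 𝒮₂ ⥤ᵇ 𝒮₁) (G : 𝒯₁ ⥤ᵇ 𝒮₁)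
    (hF : ∀ y : 𝒮₁.obj, ∃ R ∈ J (𝒮₁.p.obj y), ∀ ⦃V : C⦄ (f : V ⟶ 𝒮₁.p.obj y), R f →
      ∃ (x : 𝒮₂.obj) (φ : F.obj x ⟶ y), 𝒮₁.p.IsHomLift f φ)
    (hG' : (FibCat.fpFst F G).toFunctor.Faithful) : G.toFunctor.Faithful := by
  apply Groth.Agent.Lib.helper10.FiberFun.faithful_of_fiber_faithful G h₃.1 h₁.1
  intro U
  refine fiber_faithful J h₁ h₃ F G ?_ hG' U
  intro y U hU
  subst hU
  exact hF y

end Groth.Agent.S12798
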