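import Mathlib.Tactic
import Groth.Agent.S6400
import Groth.Statements.S6401

set_option autoImplicit false
open CategoryTheory
universe v u
open FibCat

namespace Groth.Agent.S6401

open Groth.Agent.S6400 in
/-- A morphism of the 2-fibre product whose two components are strongly cartesian (and whose second
component has strongly cartesian image in `𝒮`) is strongly cartesian. -/
lemma fp_isStronglyCartesian {C : Type u} [Category.{v} C] {𝒳 𝒴 𝒮 : BasedCategory.{v, max u v} C}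
    (F : 𝒳 ⥤ᵇ 𝒮) (G : 𝒴 ⥤ᵇ 𝒮) {R S : C} (f : R ⟶ S) {t' t : (FibCat.fp F G).obj} (Φ : t' ⟶ t)
    (h1 : 𝒳.p.IsStronglyCartesian f Φ.hom.fst) (h2 : 𝒴.p.IsStronglyCartesian f Φ.hom.snd)
    (h3 : 𝒮.p.IsStronglyCartesian f (G.map Φ.hom.snd)) :
    (FibCat.fp F G).p.IsStronglyCartesian f Φ := by
  have hΦlift : (FibCat.fp F G).p.IsHomLift f Φ := (fp_lift_iff F G f Φ).2 inferInstance
  refine { toIsHomLift := hΦlift, universal_property' := ?_ }
  intro s g τ hτ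
  have hτ1 : 𝒳.p.IsHomLift (g ≫ f) τ.hom.fst := (fp_lift_iff F G _ τ).1 hτ
  have hτ2 : 𝒴.p.IsHomLift (g ≫ f) τ.hom.snd := fp_lift_snd F G _ τ hτ
  let α : s.obj.fst ⟶ t'.obj.fst :=
    Functor.IsStronglyCartesian.map 𝒳.p f Φ.hom.fst (g := g) rfl τ.hom.fst
  let β : s.obj.snd ⟶ t'.obj.snd :=
    Functor.IsStronglyCartesian.map 𝒴.p f Φ.hom.snd (g := g) rfl τ.hom.snd
  have hα : 𝒳.p.IsHomLift g α :=
    Functor.IsStronglyCartesian.map_isHomLift 𝒳.p f Φ.hom.fst (g := g) rfl τ.hom.fst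
  have hβ : 𝒴.p.IsHomLift g β :=
    Functor.IsStronglyCartesian.map_isHomLift 𝒴.p f Φ.hom.snd (g := g) rfl τ.hom.snd
  have hαf : α ≫ Φ.hom.fst = τ.hom.fst :=
    Functor.IsStronglyCartesian.fac 𝒳.p f Φ.hom.fst (g := g) rfl τ.hom.fst
  have hβf : β ≫ Φ.hom.snd = τ.hom.snd :=
    Functor.IsStronglyCartesian.fac 𝒴.p f Φ.hom.snd (g := g) rfl τ.hom.snd
  have hFα : 𝒮.p.IsHomLift g (F.map α) := (BasedFunctor.isHomLift_iff F g α).2 hα
  have hGβ : 𝒮.p.IsHomLift g (G.map β) := (BasedFunctor.isHomLift_iff G g β).2 hβ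
  have hs : 𝒮.p.IsHomLift (𝟙 (𝒳.p.obj s.obj.fst)) s.obj.iso.hom := s.property
  have ht' : 𝒮.p.IsHomLift (𝟙 (𝒳.p.obj t'.obj.fst)) t'.obj.iso.hom := t'.property
  have hl1 : 𝒮.p.IsHomLift g (F.map α ≫ t'.obj.iso.hom) :=
    IsHomLift.comp_lift_id_right' 𝒮.p g (F.map α) (𝒳.p.obj t'.obj.fst) t'.obj.iso.hom
  have hl2 : 𝒮.p.IsHomLift g (s.obj.iso.hom ≫ G.map β) :=
    IsHomLift.comp_lift_id_left' 𝒮.p (𝒳.p.obj s.obj.fst) s.obj.iso.hom g (G.map β)
  have hw : F.map α ≫ t'.obj.iso.hom = s.obj.iso.hom ≫ G.map β := by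
    apply Functor.IsStronglyCartesian.ext 𝒮.p f (G.map Φ.hom.snd) g
    rw [Category.assoc, ← Φ.hom.w, ← Category.assoc, ← F.map_comp, hαf, Category.assoc,
      ← G.map_comp, hβf]
    exact τ.hom.w
  let χ : s ⟶ t' := ObjectProperty.homMk
    ({ fst := α, snd := β, w := hw } :
      Limits.CategoricalPullback.Hom (F := F.toFunctor) (G := G.toFunctor) s.obj t'.obj)
  have hχ : (FibCat.fp F G).p.IsHomLift g χ := (fp_lift_iff F G g χ).2 hα
  refine ⟨χ, ⟨hχ, ?_⟩, ?_⟩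
  · apply ObjectProperty.hom_ext
    apply Limits.CategoricalPullback.hom_ext
    · exact hαf
    · exact hβf
  · rintro χ' ⟨hχ'1, hχ'2⟩
    have h1 : 𝒳.p.IsHomLift g χ'.hom.fst := (fp_lift_iff F G g χ').1 hχ'1
    have h2 : 𝒴.p.IsHomLift g χ'.hom.snd := fp_lift_snd F G g χ' hχ'1
    have e1 : χ'.hom.fst ≫ Φ.hom.fst = τ.hom.fst := by
      have := congrArg (fun m => m.hom.fst) hχ'2
      exact this
    have e2 : χ'.hom.snd ≫ Φ.hom.snd = τ.hom.snd := by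
      have := congrArg (fun m => m.hom.snd) hχ'2
      exact this
    apply ObjectProperty.hom_ext
    apply Limits.CategoricalPullback.hom_ext
    · exact Functor.IsStronglyCartesian.map_uniq 𝒳.p f Φ.hom.fst (g := g) rfl τ.hom.fst
        χ'.hom.fst e1
    · exact Functor.IsStronglyCartesian.map_uniq 𝒴.p f Φ.hom.snd (g := g) rfl τ.hom.snd
        χ'.hom.snd e2

/-- In a category fibred in groupoids every morphism is strongly cartesian over any morphism it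
lifts. -/
lemma isStronglyCartesian_of_isFibGrpd {C : Type u} [Category.{v} C] {𝒳 : Type*} [Category 𝒳]
    {p : 𝒳 ⥤ C} (hp : FibCat.IsFibGrpd p) {R S : C} (f : R ⟶ S) {a b : 𝒳} (φ : a ⟶ b)
    [h : p.IsHomLift f φ] : p.IsStronglyCartesian f φ := by
  obtain ⟨⟩ := h
  exact hp.isStronglyCartesian φ

lemma isFibered_of_isFibGrpd {C : Type u} [Category.{v} C] {𝒳 : Type*} [Category 𝒳]
    {p : 𝒳 ⥤ C} (hp : FibCat.IsFibGrpd p) : p.IsFibered := by
  apply Functor.IsFibered.of_exists_isStronglyCartesian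
  intro a R f
  obtain ⟨b, φ, hφ⟩ := hp.exists_lift f
  exact ⟨b, φ, isStronglyCartesian_of_isFibGrpd hp f φ⟩

/-- For categories `𝒳, 𝒴, 𝒮` fibred in groupoids over `C` and functors `F : 𝒳 ⟶ 𝒮`, `G : 𝒴 ⟶ 𝒮` over
`C`, the 2-fibre product `𝒳 ×_𝒮 𝒴` over `C` is fibred in groupoids over `C`. -/
theorem result {C : Type u} [Category.{v} C] {𝒳 𝒴 𝒮 : BasedCategory.{v, max u v} C} (F : 𝒳 ⥤ᵇ 𝒮) (G : 𝒴 ⥤ᵇ 𝒮) (h𝒳 : FibCat.IsFibGrpd 𝒳.p) (h𝒴 : FibCat.IsFibGrpd 𝒴.p) (h𝒮 : FibCat.IsFibGrpd 𝒮.p) :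
    FibCat.IsFibGrpd (FibCat.fp F G).p := by
  have := isFibered_of_isFibGrpd h𝒳
  have := isFibered_of_isFibGrpd h𝒴
  have := isFibered_of_isFibGrpd h𝒮
  have hfib : (FibCat.fp F G).p.IsFibered := by
    apply Groth.Agent.S6400.result F G
    · intro R S f a b φ hφ
      exact isStronglyCartesian_of_isFibGrpd h𝒮 f (F.map φ)
    · intro R S f a b φ hφ
      exact isStronglyCartesian_of_isFibGrpd h𝒮 f (G.map φ)
  refine ⟨?_, ?_⟩
  · intro t V f
    obtain ⟨t', Φ, hΦ⟩ := hfib.exists_isCartesian' f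
    exact ⟨t', Φ, inferInstance⟩
  · intro t' t Φ
    have h1 : 𝒳.p.IsHomLift ((FibCat.fp F G).p.map Φ) Φ.hom.fst :=
      (Groth.Agent.S6400.fp_lift_iff F G _ Φ).1 inferInstance
    have h2 : 𝒴.p.IsHomLift ((FibCat.fp F G).p.map Φ) Φ.hom.snd := inferInstance
    have h3 : 𝒮.p.IsHomLift ((FibCat.fp F G).p.map Φ) (G.map Φ.hom.snd) := inferInstance
    exact fp_isStronglyCartesian F G _ Φ (isStronglyCartesian_of_isFibGrpd h𝒳 _ _)
      (isStronglyCartesian_of_isFibGrpd h𝒴 _ _) (isStronglyCartesian_of_isFibGrpd h𝒮 _ _)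

end Groth.Agent.S6401
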