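import Mathlib.Tactic
import Groth.Statements.S12801

set_option autoImplicit false
open CategoryTheory
universe v₂ u₂ v u
open Stk

namespace Groth.Agent.S12801

lemma pullback_le {C : Type u} [Category.{v} C] {𝒳 : Type u₂} [Category.{v₂} 𝒳] (p : 𝒳 ⥤ C)
    (hp : FibCat.IsFibGrpd p) {X Y : 𝒳} (S : Sieve X) (f : Y ⟶ X) :
    (S.functorPushforward p).pullback (p.map f) ≤ (S.pullback f).functorPushforward p := by
  intro V g hg
  obtain ⟨W, h, k, hSh, e⟩ := hg
  obtain ⟨W', h', hl⟩ := hp.exists_lift (x := Y) g
  have hd : p.obj W' = V := IsHomLift.domain_eq p g h'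
  have hfac : p.map h' = eqToHom hd ≫ g := by
    have := IsHomLift.fac' p g h'
    simpa using this
  have hsc : p.IsStronglyCartesian (p.map h) h := hp.isStronglyCartesian h
  have hl2 : p.IsHomLift ((eqToHom hd ≫ k) ≫ p.map h) (h' ≫ f) := by
    have e2 : (eqToHom hd ≫ k) ≫ p.map h = p.map (h' ≫ f) := by
      rw [Category.assoc, ← e, p.map_comp, hfac, Category.assoc]
    rw [e2]
    exact IsHomLift.map p _
  let χ : W' ⟶ W := Functor.IsStronglyCartesian.map p (p.map h) h (g := eqToHom hd ≫ k) rfl (h' ≫ f)
  have hχ : χ ≫ h = h' ≫ f :=
    Functor.IsStronglyCartesian.fac p (p.map h) h (g := eqToHom hd ≫ k) rfl (h' ≫ f)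
  refine ⟨W', h', eqToHom hd.symm, ?_, ?_⟩
  · change S (h' ≫ f)
    rw [← hχ]
    exact S.downward_closed hSh χ
  · rw [hfac]
    simp


/-- Let `p : 𝒳 ⥤ C` make `𝒳` fibred in groupoids over `C` and let `J` be a Grothendieck topology on `C`.
A sieve `S` on an object `x` of `𝒳` belongs to the topology on `𝒳` generated by the sieves whose
image under `p` generates a covering sieve if and only if the image of `S` under `p` generates a
covering sieve of `p x`: the sieves whose image covers already satisfy the axioms of a topology (the
topology on `𝒳` inherited from `C`). (The published statement is for a fibred category, with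
coverings the families of strongly cartesian morphisms `{x_i ⟶ x}` such that `{p x_i ⟶ p x}` is a
covering; this row is the case of a category fibred in groupoids, where every morphism is strongly
cartesian, in sieve form.) -/
theorem result {C : Type u} [Category.{v} C] {𝒳 : Type u₂} [Category.{v₂} 𝒳] (p : 𝒳 ⥤ C)
    (hp : FibCat.IsFibGrpd p) (J : GrothendieckTopology C) {x : 𝒳} (S : Sieve x) :
    S ∈ p.restrictedTopology J x ↔ S.functorPushforward p ∈ J (p.obj x) := by
  constructor
  · intro hS
    rw [Functor.restrictedTopology] at hS
    induction hS with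
    | of X S hS => rwa [← Sieve.generate_map_eq_functorPushforward]
    | top X => simp
    | pullback X S _ Y f ih =>
      exact J.superset_covering (pullback_le p hp S f) (J.pullback_stable (p.map f) ih)
    | transitive X S R _ _ hS H' =>
      apply J.transitive hS
      rintro Y _ ⟨Z, g, i, hg, rfl⟩
      rw [Sieve.pullback_comp]
      apply J.pullback_stable i
      refine J.superset_covering ?_ (H' hg)
      rintro W _ ⟨Z', g', i', hg, rfl⟩
      refine ⟨Z', g' ≫ g, i', hg, ?_⟩
      simp
  · exact Functor.mem_restrictedTopology_of_functorPushforward_mem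

end Groth.Agent.S12801
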