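import Groth.Agent.S12801
import Groth.Statements.S12802

set_option autoImplicit false
open CategoryTheory
universe w v₃ u₃ v₂ u₂ v u
open Stk

namespace Groth.Agent.S12802


lemma cp {C : Type u} [Category.{v} C] {𝒳 : Type u₂} [Category.{v₂} 𝒳] {𝒴 : Type u₃} [Category.{v₃} 𝒴]
    (J : GrothendieckTopology C) (F : 𝒳 ⥤ 𝒴) (q : 𝒴 ⥤ C)
    (hp : FibCat.IsFibGrpd (F ⋙ q)) (hq : FibCat.IsFibGrpd q) :
    CoverPreserving ((F ⋙ q).restrictedTopology J) (q.restrictedTopology J) F := by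
  refine ⟨fun {x S} hS => ?_⟩
  rw [Groth.Agent.S12801.result (F ⋙ q) hp J] at hS
  rw [Groth.Agent.S12801.result q hq J]
  rw [Sieve.functorPushforward_comp] at hS
  exact hS

lemma lift_le {C : Type u} [Category.{v} C] {𝒳 : Type u₂} [Category.{v₂} 𝒳] {𝒴 : Type u₃} [Category.{v₃} 𝒴]
    (F : 𝒳 ⥤ 𝒴) (q : 𝒴 ⥤ C)
    (hp : FibCat.IsFibGrpd (F ⋙ q)) (hq : FibCat.IsFibGrpd q) {x : 𝒳} (T : Sieve (F.obj x)) :
    T.functorPushforward q ≤ (T.functorPullback F).functorPushforward (F ⋙ q) := by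
  intro V g hg
  obtain ⟨W, h, k, hTh, e⟩ := hg
  obtain ⟨x', g', hl⟩ := hp.exists_lift (x := x) g
  have hd : (F ⋙ q).obj x' = V := IsHomLift.domain_eq (F ⋙ q) g g'
  have hfac : (F ⋙ q).map g' = eqToHom hd ≫ g := by
    have := IsHomLift.fac' (F ⋙ q) g g'
    simpa using this
  have hsc : q.IsStronglyCartesian (q.map h) h := hq.isStronglyCartesian h
  have hl2 : q.IsHomLift ((eqToHom hd ≫ k) ≫ q.map h) (F.map g') := by
    have e2 : (eqToHom hd ≫ k) ≫ q.map h = q.map (F.map g') := by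
      rw [Category.assoc, ← e]
      exact hfac.symm
    rw [e2]
    exact IsHomLift.map q _
  let χ : F.obj x' ⟶ W := Functor.IsStronglyCartesian.map q (q.map h) h (g := eqToHom hd ≫ k) rfl (F.map g')
  have hχ : χ ≫ h = F.map g' :=
    Functor.IsStronglyCartesian.fac q (q.map h) h (g := eqToHom hd ≫ k) rfl (F.map g')
  refine ⟨x', g', eqToHom hd.symm, ?_, ?_⟩
  · change T (F.map g')
    rw [← hχ]
    exact T.downward_closed hTh χ
  · rw [hfac]
    simp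

lemma cocont {C : Type u} [Category.{v} C] {𝒳 : Type u₂} [Category.{v₂} 𝒳] {𝒴 : Type u₃} [Category.{v₃} 𝒴]
    (J : GrothendieckTopology C) (F : 𝒳 ⥤ 𝒴) (q : 𝒴 ⥤ C)
    (hp : FibCat.IsFibGrpd (F ⋙ q)) (hq : FibCat.IsFibGrpd q) :
    F.IsCocontinuous ((F ⋙ q).restrictedTopology J) (q.restrictedTopology J) := by
  refine ⟨fun {x T} hT => ?_⟩
  rw [Groth.Agent.S12801.result q hq J] at hT
  rw [Groth.Agent.S12801.result (F ⋙ q) hp J]
  exact J.superset_covering (lift_le F q hp hq T) hT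

lemma compat {C : Type u} [Category.{v} C] {𝒳 : Type u₂} [Category.{v₂} 𝒳] {𝒴 : Type u₃} [Category.{v₃} 𝒴]
    (K : GrothendieckTopology 𝒴) (F : 𝒳 ⥤ 𝒴) (q : 𝒴 ⥤ C)
    (hp : FibCat.IsFibGrpd (F ⋙ q)) (hq : FibCat.IsFibGrpd q) :
    CompatiblePreserving.{w} K F := by
  refine ⟨fun ℱ {Z T x} hx {Y₁ Y₂ X} f₁ f₂ {g₁ g₂} hg₁ hg₂ e => ?_⟩
  -- lift q.map f₁ to φ₁ : Z₁ ⟶ Y₁ in 𝒳
  obtain ⟨Z₁, φ₁, hl⟩ := hp.exists_lift (x := Y₁) (q.map f₁)
  have hd : (F ⋙ q).obj Z₁ = q.obj X := IsHomLift.domain_eq (F ⋙ q) (q.map f₁) φ₁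
  have hfac : q.map (F.map φ₁) = eqToHom hd ≫ q.map f₁ := by
    have := IsHomLift.fac' (F ⋙ q) (q.map f₁) φ₁
    simpa using this
  -- θ : X ⟶ F Z₁ with θ ≫ F φ₁ = f₁
  have hsc1 : q.IsStronglyCartesian (q.map (F.map φ₁)) (F.map φ₁) := hq.isStronglyCartesian _
  have hl1 : q.IsHomLift (eqToHom hd.symm ≫ q.map (F.map φ₁)) f₁ := by
    have e2 : eqToHom hd.symm ≫ q.map (F.map φ₁) = q.map f₁ := by
      rw [hfac]; simp
    rw [e2]
    exact IsHomLift.map q _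
  let θ : X ⟶ F.obj Z₁ := Functor.IsStronglyCartesian.map q (q.map (F.map φ₁)) (F.map φ₁)
    (g := eqToHom hd.symm) rfl f₁
  have hθ : θ ≫ F.map φ₁ = f₁ :=
    Functor.IsStronglyCartesian.fac q (q.map (F.map φ₁)) (F.map φ₁) (g := eqToHom hd.symm) rfl f₁
  have hθl : q.IsHomLift (eqToHom hd.symm) θ :=
    Functor.IsStronglyCartesian.map_isHomLift q (q.map (F.map φ₁)) (F.map φ₁) (g := eqToHom hd.symm) rfl f₁
  -- φ₂ : Z₁ ⟶ Y₂ with φ₂ ≫ g₂ = φ₁ ≫ g₁
  have hsc2 : (F ⋙ q).IsStronglyCartesian ((F ⋙ q).map g₂) g₂ := hp.isStronglyCartesian _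
  have hqe : q.map (F.map φ₁) ≫ q.map (F.map g₁) = (eqToHom hd ≫ q.map f₂) ≫ q.map (F.map g₂) := by
    rw [hfac, Category.assoc, Category.assoc, ← q.map_comp, ← q.map_comp, e]
  have hl3 : (F ⋙ q).IsHomLift ((eqToHom hd ≫ q.map f₂) ≫ (F ⋙ q).map g₂) (φ₁ ≫ g₁) := by
    have e2 : (eqToHom hd ≫ q.map f₂) ≫ (F ⋙ q).map g₂ = (F ⋙ q).map (φ₁ ≫ g₁) := by
      rw [Functor.map_comp]
      exact hqe.symm
    rw [e2]
    exact IsHomLift.map (F ⋙ q) _
  let φ₂ : Z₁ ⟶ Y₂ := Functor.IsStronglyCartesian.map (F ⋙ q) ((F ⋙ q).map g₂) g₂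
    (g := eqToHom hd ≫ q.map f₂) rfl (φ₁ ≫ g₁)
  have hφ₂ : φ₂ ≫ g₂ = φ₁ ≫ g₁ :=
    Functor.IsStronglyCartesian.fac (F ⋙ q) ((F ⋙ q).map g₂) g₂ (g := eqToHom hd ≫ q.map f₂) rfl (φ₁ ≫ g₁)
  have hφ₂l : (F ⋙ q).IsHomLift (eqToHom hd ≫ q.map f₂) φ₂ :=
    Functor.IsStronglyCartesian.map_isHomLift (F ⋙ q) ((F ⋙ q).map g₂) g₂ (g := eqToHom hd ≫ q.map f₂) rfl (φ₁ ≫ g₁)
  -- θ ≫ F φ₂ = f₂
  have hsc3 : q.IsStronglyCartesian (q.map (F.map g₂)) (F.map g₂) := hq.isStronglyCartesian _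
  have hθ2 : θ ≫ F.map φ₂ = f₂ := by
    have hfac2 : q.map (F.map φ₂) = eqToHom hd ≫ q.map f₂ := by
      have := IsHomLift.fac' (F ⋙ q) (eqToHom hd ≫ q.map f₂) φ₂
      simpa using this
    have hθfac : q.map θ = eqToHom hd.symm := by
      have := IsHomLift.fac' q (eqToHom hd.symm) θ
      simpa using this
    have hA : q.IsHomLift (q.map f₂) (θ ≫ F.map φ₂) := by
      have e2 : q.map f₂ = q.map (θ ≫ F.map φ₂) := by
        rw [q.map_comp, hfac2, hθfac]; simp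
      rw [e2]
      exact IsHomLift.map q _
    have hB : q.IsHomLift (q.map f₂) f₂ := IsHomLift.map q _
    refine Functor.IsStronglyCartesian.ext q (q.map (F.map g₂)) (F.map g₂) (q.map f₂) ?_
    rw [Category.assoc, ← F.map_comp, hφ₂, F.map_comp, ← Category.assoc, hθ, e]
  -- conclude
  have hcomp := hx φ₁ φ₂ hg₁ hg₂ hφ₂.symm
  have h1 : (ℱ.obj.map f₁.op) (x g₁ hg₁) = (ℱ.obj.map θ.op) ((ℱ.obj.map (F.map φ₁).op) (x g₁ hg₁)) := by
    rw [← hθ]
    simp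
  have h2 : (ℱ.obj.map f₂.op) (x g₂ hg₂) = (ℱ.obj.map θ.op) ((ℱ.obj.map (F.map φ₂).op) (x g₂ hg₂)) := by
    rw [← hθ2]
    simp
  rw [h1, h2]
  exact congrArg _ hcomp

lemma main {C : Type u} [Category.{v} C] {𝒳 : Type u₂} [Category.{v₂} 𝒳] {𝒴 : Type u₃} [Category.{v₃} 𝒴]
    (J : GrothendieckTopology C) (q : 𝒴 ⥤ C) (F : 𝒳 ⥤ 𝒴) (p : 𝒳 ⥤ C) (w : F ⋙ q = p)
    (hp : FibCat.IsFibGrpd p) (hq : FibCat.IsFibGrpd q) :
    CoverPreserving (p.restrictedTopology J) (q.restrictedTopology J) F ∧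
      F.IsCocontinuous (p.restrictedTopology J) (q.restrictedTopology J) ∧
      F.IsContinuous (p.restrictedTopology J) (q.restrictedTopology J) := by
  subst w
  refine ⟨cp J F q hp hq, cocont J F q hp hq, ?_⟩
  exact Functor.isContinuous_of_coverPreserving (compat _ F q hp hq) (cp J F q hp hq)

/-- Let `F : 𝒳 ⟶ 𝒴` be a functor over `C` between categories fibred in groupoids over `C` and endow `𝒳`
and `𝒴` with the topologies inherited from the topology `J` on `C` (generated by the sieves whose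
image in `C` covers). Then `F` maps covering sieves to families generating covering sieves, lifts
coverings (it is cocontinuous), and precomposition with `F` sends sheaves of types on `𝒴` to sheaves
on `𝒳` (it is continuous). (The published statement is for a 1-morphism of fibred categories with
the inherited topologies; this row is the case of categories fibred in groupoids, and the published
statement phrases continuity through the fibre products of covering families and deduces a morphism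
of topoi whose inverse image is precomposition with `F`, which is not stated here.) -/
theorem result {C : Type u} [Category.{v} C] (J : GrothendieckTopology C) {𝒳 𝒴 : BasedCategory.{v, max u v} C}
    (h𝒳 : FibCat.IsFibGrpd 𝒳.p) (h𝒴 : FibCat.IsFibGrpd 𝒴.p) (F : 𝒳 ⥤ᵇ 𝒴) :
    CoverPreserving (𝒳.p.restrictedTopology J) (𝒴.p.restrictedTopology J) F.toFunctor ∧
      F.toFunctor.IsCocontinuous (𝒳.p.restrictedTopology J) (𝒴.p.restrictedTopology J) ∧
      F.toFunctor.IsContinuous (𝒳.p.restrictedTopology J) (𝒴.p.restrictedTopology J) := by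
  exact main J 𝒴.p F.toFunctor 𝒳.p F.w h𝒳 h𝒴

end Groth.Agent.S12802
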