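import Groth.Agent.S12801
import Groth.Statements.S12803

set_option autoImplicit false
open CategoryTheory
universe v₂ u₂ v u
open Stk

namespace Groth.Agent.S12803

lemma post_faithful {C : Type u} [Category.{v} C] {𝒳 : Type u₂} [Category.{v₂} 𝒳] (p : 𝒳 ⥤ C)
    (hp : FibCat.IsFibGrpd p) (x : 𝒳) : (Over.post p : Over x ⥤ Over (p.obj x)).Faithful := by
  refine ⟨fun {a b} f g h => ?_⟩
  have hsc : p.IsStronglyCartesian (p.map b.hom) b.hom := hp.isStronglyCartesian _
  have hleft : p.map f.left = p.map g.left := congrArg CommaMorphism.left h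
  have hA : p.IsHomLift (p.map f.left) f.left := IsHomLift.map p _
  have hB : p.IsHomLift (p.map f.left) g.left := by
    rw [hleft]; exact IsHomLift.map p _
  apply Over.OverMorphism.ext
  refine Functor.IsStronglyCartesian.ext p (p.map b.hom) b.hom (p.map f.left) ?_
  rw [Over.w f, Over.w g]

lemma post_full {C : Type u} [Category.{v} C] {𝒳 : Type u₂} [Category.{v₂} 𝒳] (p : 𝒳 ⥤ C)
    (hp : FibCat.IsFibGrpd p) (x : 𝒳) : (Over.post p : Over x ⥤ Over (p.obj x)).Full := by
  refine ⟨fun {a b} φ => ?_⟩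
  have hsc : p.IsStronglyCartesian (p.map b.hom) b.hom := hp.isStronglyCartesian _
  obtain ⟨f, hf⟩ : ∃ f : p.obj a.left ⟶ p.obj b.left, f = φ.left := ⟨φ.left, rfl⟩
  have hw : f ≫ p.map b.hom = p.map a.hom := by
    rw [hf]; exact Over.w φ
  have hl : p.IsHomLift (f ≫ p.map b.hom) a.hom := by
    rw [hw]; exact IsHomLift.map p _
  let χ : a.left ⟶ b.left := Functor.IsStronglyCartesian.map p (p.map b.hom) b.hom (g := f) rfl a.hom
  have hχ : χ ≫ b.hom = a.hom :=
    Functor.IsStronglyCartesian.fac p (p.map b.hom) b.hom (g := f) rfl a.hom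
  have hχl : p.IsHomLift f χ :=
    Functor.IsStronglyCartesian.map_isHomLift p (p.map b.hom) b.hom (g := f) rfl a.hom
  refine ⟨Over.homMk χ hχ, ?_⟩
  apply Over.OverMorphism.ext
  have h4 : p.map χ = f := by
    have := IsHomLift.fac' p f χ
    simpa using this
  rw [← hf]
  exact h4

lemma post_essSurj {C : Type u} [Category.{v} C] {𝒳 : Type u₂} [Category.{v₂} 𝒳] (p : 𝒳 ⥤ C)
    (hp : FibCat.IsFibGrpd p) (x : 𝒳) : (Over.post p : Over x ⥤ Over (p.obj x)).EssSurj := by
  refine ⟨fun t => ?_⟩
  obtain ⟨x', g', hl⟩ := hp.exists_lift (x := x) t.hom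
  have hd : p.obj x' = t.left := IsHomLift.domain_eq p t.hom g'
  have hfac : p.map g' = eqToHom hd ≫ t.hom := by
    have := IsHomLift.fac' p t.hom g'
    simpa using this
  exact ⟨Over.mk g', ⟨Over.isoMk (eqToIso hd) (by dsimp; exact hfac.symm)⟩⟩


/-- Let `p : 𝒳 ⥤ C` make `𝒳` fibred in groupoids over `C`, let `J` be a topology on `C` and `x` an
object of `𝒳`. The functor `𝒳/x ⥤ C/p(x)` induced by `p` is an equivalence of categories, and it
identifies the localisation at `x` of the topology on `𝒳` inherited from `J` with the localisation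
of `J` at `p x`: a sieve on an object of `𝒳/x` covers if and only if its image covers. -/
theorem result {C : Type u} [Category.{v} C] {𝒳 : Type u₂} [Category.{v₂} 𝒳] (p : 𝒳 ⥤ C)
    (hp : FibCat.IsFibGrpd p) (J : GrothendieckTopology C) (x : 𝒳) :
    (Over.post p : Over x ⥤ Over (p.obj x)).IsEquivalence ∧
      ∀ (a : Over x) (S : Sieve a), S ∈ (p.restrictedTopology J).over x a ↔
        S.functorPushforward (Over.post p) ∈ (J.over (p.obj x)) ((Over.post p).obj a) := by
  refine ⟨?_, fun a S => ?_⟩
  · have h1 := post_faithful p hp x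
    have h2 := post_full p hp x
    have h3 := post_essSurj p hp x
    exact ({ } : (Over.post p : Over x ⥤ Over (p.obj x)).IsEquivalence)
  · rw [GrothendieckTopology.mem_over_iff, GrothendieckTopology.mem_over_iff,
      Groth.Agent.S12801.result p hp J, Sieve.overEquiv_functorPushforward_post]
    rfl

end Groth.Agent.S12803
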