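import Mathlib.Tactic
import Groth.Statements.S12807

set_option autoImplicit false
open CategoryTheory CategoryTheory.Limits
universe v₃ u₃ v₂ u₂ v u
open FibCat

namespace Groth.Agent.S12807

section

variable {C : Type u} [Category.{v} C] {D : Type u₂} [Category.{v₂} D] (u : C ⥤ D)
  {𝒮 : Type u₃} [Category.{v₃} 𝒮] (p : 𝒮 ⥤ D)

lemma aux_w1 {A : Type*} [Category A] {X Y Z : A} (d : Y = X) (g : X ⟶ Z) (pφ : Y ⟶ Z)
    (h : pφ = eqToHom d ≫ g) : g = eqToHom d.symm ≫ pφ := by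
  subst h d
  simp

lemma aux_w2 {A : Type*} [Category A] {X Y Z W : A} (d : Y = X) (i'' : W ≅ Z) (k : W ⟶ X)
    (pχ : Z ⟶ Y) (h : pχ = (i''.inv ≫ k) ≫ eqToHom d.symm) :
    k ≫ eqToHom d.symm = i''.hom ≫ pχ := by
  subst h d
  simp

theorem exists_sc [p.IsFibered] (a : CategoricalPullback u p) (U : C) (f : U ⟶ a.fst) :
    ∃ (b : CategoricalPullback u p) (Φ : b ⟶ a),
      (CategoricalPullback.π₁ u p).IsStronglyCartesian f Φ := by
  -- the base morphism in `D`
  let g : u.obj U ⟶ p.obj a.snd := u.map f ≫ a.iso.hom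
  obtain ⟨y, φ, hφc⟩ := Functor.IsPreFibered.exists_isCartesian' (p := p) g
  have hφ : p.IsStronglyCartesian g φ := Functor.IsFibered.isStronglyCartesian_of_isCartesian p g φ
  have d : p.obj y = u.obj U := IsHomLift.domain_eq p g φ
  have hpφ : p.map φ = eqToHom d ≫ g := by
    have := IsHomLift.fac' p g φ
    simpa using this
  let b : CategoricalPullback u p := ⟨U, y, eqToIso d.symm⟩
  let Φ : b ⟶ a := ⟨f, φ, aux_w1 d g (p.map φ) hpφ⟩
  refine ⟨b, Φ, ?_⟩
  have hΦl : (CategoricalPullback.π₁ u p).IsHomLift f Φ :=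
    IsHomLift.map (CategoricalPullback.π₁ u p) Φ
  refine { toIsHomLift := hΦl, universal_property' := ?_ }
  intro a'' k₀ Ψ hΨ
  obtain ⟨k, rfl⟩ : ∃ k : a''.fst ⟶ U, k = k₀ := ⟨k₀, rfl⟩
  -- first component
  have hΨ1 : Ψ.fst = k ≫ f :=
    (@IsHomLift.eq_of_isHomLift _ _ _ _ (CategoricalPullback.π₁ u p) a'' a (k ≫ f) Ψ hΨ).symm
  -- second component
  have hwΨ : u.map Ψ.fst ≫ a.iso.hom = a''.iso.hom ≫ p.map Ψ.snd := Ψ.w
  have hpψ : p.map Ψ.snd = (a''.iso.inv ≫ u.map k) ≫ g := by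
    rw [← cancel_epi a''.iso.hom, ← hwΨ, hΨ1, u.map_comp]
    simp [g]
  have hl : p.IsHomLift ((a''.iso.inv ≫ u.map k) ≫ g) Ψ.snd := by
    rw [← hpψ]; exact IsHomLift.map p _
  let χ₂ : a''.snd ⟶ y := Functor.IsStronglyCartesian.map p g φ (g := a''.iso.inv ≫ u.map k) rfl Ψ.snd
  have hχ₂f : χ₂ ≫ φ = Ψ.snd :=
    Functor.IsStronglyCartesian.fac p g φ (g := a''.iso.inv ≫ u.map k) rfl Ψ.snd
  have hχ₂l : p.IsHomLift (a''.iso.inv ≫ u.map k) χ₂ :=
    Functor.IsStronglyCartesian.map_isHomLift p g φ (g := a''.iso.inv ≫ u.map k) rfl Ψ.snd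
  have hpχ₂ : p.map χ₂ = (a''.iso.inv ≫ u.map k) ≫ eqToHom d.symm := by
    have := IsHomLift.fac' p (a''.iso.inv ≫ u.map k) χ₂
    simpa using this
  let χ : a'' ⟶ b := ⟨k, χ₂, aux_w2 d a''.iso (u.map k) (p.map χ₂) hpχ₂⟩
  have hχl : (CategoricalPullback.π₁ u p).IsHomLift k χ :=
    IsHomLift.map (CategoricalPullback.π₁ u p) χ
  refine ⟨χ, ⟨hχl, ?_⟩, ?_⟩
  · apply CategoricalPullback.hom_ext
    · exact hΨ1.symm
    · exact hχ₂f
  · rintro χ' ⟨hχ'l, hχ'⟩
    have h1 : χ'.fst = k :=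
      (@IsHomLift.eq_of_isHomLift _ _ _ _ (CategoricalPullback.π₁ u p) a'' b k χ' hχ'l).symm
    have h2 : χ'.snd ≫ φ = Ψ.snd := congrArg (fun m => m.snd) hχ'
    have hw' : u.map χ'.fst ≫ eqToHom d.symm = a''.iso.hom ≫ p.map χ'.snd := χ'.w
    have hpχ' : p.map χ'.snd = (a''.iso.inv ≫ u.map k) ≫ eqToHom d.symm := by
      rw [← cancel_epi a''.iso.hom, ← hw', h1]
      simp
    have hl' : p.IsHomLift (a''.iso.inv ≫ u.map k) χ'.snd := by
      apply IsHomLift.of_fac' p _ _ rfl d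
      rw [hpχ']
      simp
    have h3 : χ'.snd = χ₂ :=
      Functor.IsStronglyCartesian.map_uniq p g φ (g := a''.iso.inv ≫ u.map k) rfl Ψ.snd χ'.snd h2
    apply CategoricalPullback.hom_ext
    · exact h1
    · exact h3

end


/-- Let `u : C ⥤ D` be a functor and `𝒮` a category over `D` whose structure functor is a fibred
category. Then the 2-fibre product `C ×_D 𝒮` of `u` and the structure functor (triples `(U, y, u U ≅
p y)`), with its first projection, is a fibred category over `C`. (The published statement uses the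
strict fibre product, pairs with `u U = p y`; for `𝒮` fibred over `D` it is equivalent over `C` to
the 2-fibre product used here.) -/
theorem result {C : Type u} [Category.{v} C] {D : Type u₂} [Category.{v₂} D] (u : C ⥤ D)
    (𝒮 : BasedCategory.{v₃, u₃} D) [𝒮.p.IsFibered] :
    (CategoricalPullback.π₁ u 𝒮.p).IsFibered := by
  apply Functor.IsFibered.of_exists_isStronglyCartesian
  intro a R f
  exact exists_sc u 𝒮.p a R f

end Groth.Agent.S12807
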