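import Groth.Agent.S12792
import Groth.Agent.S6407
import Groth.Statements.S12811

set_option autoImplicit false
open CategoryTheory
universe v u
open Stk

namespace Groth.Agent.S12811

/-- For stacks in setoids `𝒳`, `𝒴`, `𝒮` over `C` for the topology `J` (stacks in groupoids that are
fibred in setoids) and functors `F : 𝒳 ⟶ 𝒮`, `G : 𝒴 ⟶ 𝒮` over `C`, the 2-fibre product `𝒳 ×_𝒮 𝒴`
over `C` is again a stack in setoids for `J`. -/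
theorem result {C : Type u} [Category.{v} C] (J : GrothendieckTopology C) {𝒳 𝒴 𝒮 : BasedCategory.{v, max u v} C}
    (F : 𝒳 ⥤ᵇ 𝒮) (G : 𝒴 ⥤ᵇ 𝒮) (h𝒳 : Stk.IsStack J 𝒳 ∧ FibCat.IsFibSetoid 𝒳.p) (h𝒴 : Stk.IsStack J 𝒴 ∧ FibCat.IsFibSetoid 𝒴.p)
    (h𝒮 : Stk.IsStack J 𝒮 ∧ FibCat.IsFibSetoid 𝒮.p) :
    Stk.IsStack J (FibCat.fp F G) ∧ FibCat.IsFibSetoid (FibCat.fp F G).p := by
  obtain ⟨s𝒳, t𝒳⟩ := h𝒳
  obtain ⟨s𝒴, t𝒴⟩ := h𝒴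
  obtain ⟨s𝒮, t𝒮⟩ := h𝒮
  have hS : Stk.IsStack J (FibCat.fp F G) :=
    Groth.Agent.S12792.result J F G s𝒳 s𝒴
      ⟨s𝒮.1, fun U R hR => ⟨(s𝒮.2 R hR).full, (s𝒮.2 R hR).faithful⟩⟩
  refine ⟨hS, hS.1, ?_⟩
  intro U a b
  constructor
  intro m m'
  apply Functor.Fiber.hom_ext
  apply ObjectProperty.hom_ext
  apply Limits.CategoricalPullback.hom_ext
  · have h1 : (FibCat.fp F G).p.IsHomLift (𝟙 U) m.1 := m.2
    have h1' : (FibCat.fp F G).p.IsHomLift (𝟙 U) m'.1 := m'.2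
    rw [Groth.Agent.Lib.helper10.FpGen.fp_lift_iff] at h1 h1'
    exact @Groth.Agent.S6407.eq_of_lift C _ 𝒳 t𝒳 U U (𝟙 U) _ _ m.1.hom.fst m'.1.hom.fst h1 h1'
  · have h1 : (FibCat.fp F G).p.IsHomLift (𝟙 U) m.1 := m.2
    have h1' : (FibCat.fp F G).p.IsHomLift (𝟙 U) m'.1 := m'.2
    have h2 := Groth.Agent.Lib.helper10.FpGen.fp_lift_snd F G (𝟙 U) m.1 h1
    have h2' := Groth.Agent.Lib.helper10.FpGen.fp_lift_snd F G (𝟙 U) m'.1 h1'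
    exact @Groth.Agent.S6407.eq_of_lift C _ 𝒴 t𝒴 U U (𝟙 U) _ _ m.1.hom.snd m'.1.hom.snd h2 h2'

end Groth.Agent.S12811
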