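import Groth.Agent.Lib.helper10.StkEquiv
import Groth.Agent.Lib.helper10.Yoneda3
import Groth.Statements.S12815
-- import your own Groth.Agent.* helpers here

set_option autoImplicit false
open CategoryTheory
universe v u
open Stk

namespace Groth.Agent.S12815

open Groth.Agent.Lib.helper10

section Setup

variable {C : Type u} [Category.{v} C] {U : C} {S R : Sieve U} (hSR : S ≤ R)

/-- inclusion of sieves as a functor over `C` -/
def inclSR : Stk.sieveCat S ⥤ᵇ Stk.sieveCat R where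
  toFunctor :=
    { obj := fun s => ⟨s.obj, hSR _ s.property⟩
      map := fun {s s'} m => ObjectProperty.homMk m.hom }
  w := rfl

lemma incl_comp : BasedFunctor.comp (inclSR hSR) (Stk.sieveIncl R) = Stk.sieveIncl S := rfl

variable (c : (Stk.sieveCat R).obj)

/-- `C/V ⟶ R`, `g ↦ g ≫ f` for `f : V ⟶ U` in `R` -/
def Φ : FibCat.overCat c.obj.left ⥤ᵇ Stk.sieveCat R where
  toFunctor :=
    { obj := fun g => ⟨Over.mk ((g : Over c.obj.left).hom ≫ c.obj.hom),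
        R.downward_closed c.property (g : Over c.obj.left).hom⟩
      map := fun {g g'} k => ObjectProperty.homMk (Over.homMk (k : (g : Over c.obj.left) ⟶ g').left (by
        change (k : (g : Over c.obj.left) ⟶ g').left ≫ ((g' : Over c.obj.left).hom ≫ c.obj.hom) = (g : Over c.obj.left).hom ≫ c.obj.hom
        rw [← Category.assoc, Over.w])) }
  w := rfl

/-- `f^*S ⟶ S` -/
def Ψ (S : Sieve U) : Stk.sieveCat (S.pullback c.obj.hom) ⥤ᵇ Stk.sieveCat S where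
  toFunctor :=
    { obj := fun g => ⟨Over.mk (g.obj.hom ≫ c.obj.hom), g.property⟩
      map := fun {g g'} k => ObjectProperty.homMk (Over.homMk k.hom.left (by
        change k.hom.left ≫ (g'.obj.hom ≫ c.obj.hom) = g.obj.hom ≫ c.obj.hom
        rw [← Category.assoc, Over.w])) }
  w := rfl

lemma sq_eq : BasedFunctor.comp (Stk.sieveIncl (S.pullback c.obj.hom)) (Φ c) =
    BasedFunctor.comp (Ψ c S) (inclSR hSR) := rfl

end Setup

lemma aux_final {A : Type*} [Category A] {X1 X2 X3 Y1 Y2 Y3 : A} (m : X1 ⟶ X3) (m' : Y1 ⟶ Y3)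
    (a : X1 ⟶ X2) (k : X2 ⟶ X3) (b : X3 ⟶ Y3)
    (β' : X2 ⟶ Y2) (k' : Y2 ⟶ Y3) (α₂ : X2 ⟶ Y2) (α₁ : X1 ⟶ Y1) (a' : Y1 ⟶ Y2)
    (e4 : m = a ≫ k) (e5 : m' = a' ≫ k')
    (fact2 : k ≫ b = β' ≫ k') (p1 : β' = α₂) (nat2 : a ≫ α₂ = α₁ ≫ a') :
    m ≫ b = α₁ ≫ m' := by
  subst e4 e5 p1
  rw [Category.assoc, fact2, ← Category.assoc, nat2, Category.assoc]

lemma aux_nat {A : Type*} [Category A] {X1 X2 X3 Y1 Y2 Y3 : A} (kμ : X1 ⟶ X2) (b' : X2 ⟶ Y2)
    (k'm : Y2 ⟶ Y3) (km : X2 ⟶ X3) (b₃ : X3 ⟶ Y3) (kμm : X1 ⟶ X3) (k'μm : Y1 ⟶ Y3) (a : X1 ⟶ Y1)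
    (k'μ : Y1 ⟶ Y2)
    (hb' : b' ≫ k'm = km ≫ b₃) (e1 : kμm = kμ ≫ km) (e2 : k'μm = k'μ ≫ k'm)
    (hc : kμm ≫ b₃ = a ≫ k'μm) : (kμ ≫ b') ≫ k'm = (a ≫ k'μ) ≫ k'm := by
  subst e1 e2
  rw [Category.assoc, hb', ← Category.assoc, hc, Category.assoc]

lemma aux_id {A : Type*} [Category A] {X Y : A} (i : X ⟶ X) (j : Y ⟶ Y) (b a : X ⟶ Y)
    (e1 : i = 𝟙 X) (e2 : j = 𝟙 Y) (hc : i ≫ b = a ≫ j) : b = a := by
  subst e1 e2
  simpa using hc

section Main

variable {C : Type u} [Category.{v} C] {U : C} {S R : Sieve U} (hSR : S ≤ R)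
  {𝒳 : BasedCategory.{v, max u v} C} (h𝒳 : FibCat.IsFibGrpd 𝒳.p)
  (hR : ∀ ⦃V : C⦄ (f : V ⟶ U), R f → Stk.IsPrestackFor (S.pullback f) 𝒳)
  {K K' : Stk.sieveCat R ⥤ᵇ 𝒳}
  (α : (Stk.restr (inclSR hSR) 𝒳).obj K ⟶ (Stk.restr (inclSR hSR) 𝒳).obj K')

/-- the characterising property of the component at `c` of the extension of `α` -/
def Char (c : (Stk.sieveCat R).obj) (b : K.obj c ⟶ K'.obj c) : Prop :=
  ∀ (s : (Stk.sieveCat S).obj) (μ : (inclSR hSR).obj s ⟶ c),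
    K.map μ ≫ b = α.toNatTrans.app s ≫ K'.map μ

instance map_lift (L : Stk.sieveCat R ⥤ᵇ 𝒳) {c c' : (Stk.sieveCat R).obj} (m : c ⟶ c') :
    𝒳.p.IsHomLift m.hom.left (L.map m) := by
  have h : (Stk.sieveCat R).p.IsHomLift m.hom.left m := IsHomLift.map (Stk.sieveCat R).p m
  exact @BasedFunctor.preserves_isHomLift _ _ _ _ L _ _ _ _ m.hom.left m h

include h𝒳 hR in
lemma char_unique (c : (Stk.sieveCat R).obj) (b b' : K.obj c ⟶ K'.obj c)
    [hb : 𝒳.p.IsHomLift (𝟙 c.obj.left) b] [hb' : 𝒳.p.IsHomLift (𝟙 c.obj.left) b']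
    (h : Char hSR α c b) (h' : Char hSR α c b') : b = b' := by
  have hfib : 𝒳.p.IsFibered := FiberFun.isFibered_of_isFibGrpd h𝒳
  have hfaith : (Stk.resSieve (S.pullback c.obj.hom) 𝒳).Faithful := (hR c.obj.hom c.property).2
  apply Yoneda3.local_eq c.obj.left (S.pullback c.obj.hom) b b'
  intro W g hg s' τ hτ
  let s₀ : (Stk.sieveCat S).obj := ⟨Over.mk (g ≫ c.obj.hom), hg⟩
  let μ : (inclSR hSR).obj s₀ ⟶ c := ObjectProperty.homMk (Over.homMk g rfl)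
  have hμl : 𝒳.p.IsHomLift g (K.map μ) := map_lift K μ
  have hsc : 𝒳.p.IsStronglyCartesian g (K.map μ) := FiberFun.sc_of_isFibGrpd h𝒳 g (K.map μ)
  have hτ' : 𝒳.p.IsHomLift (𝟙 W ≫ g) τ := by rw [Category.id_comp]; exact hτ
  let ι : s' ⟶ K.obj ((inclSR hSR).obj s₀) :=
    Functor.IsStronglyCartesian.map 𝒳.p g (K.map μ) (g := 𝟙 W) rfl τ
  have hι : ι ≫ K.map μ = τ := Functor.IsStronglyCartesian.fac 𝒳.p g (K.map μ) (g := 𝟙 W) rfl τ
  rw [← hι, Category.assoc, Category.assoc, h s₀ μ, h' s₀ μ]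

include h𝒳 hR in
lemma char_exists (c : (Stk.sieveCat R).obj) :
    ∃ b : K.obj c ⟶ K'.obj c, 𝒳.p.IsHomLift (𝟙 c.obj.left) b ∧ Char hSR α c b := by
  have hfull : (Stk.resSieve (S.pullback c.obj.hom) 𝒳).Full := (hR c.obj.hom c.property).1
  let αc : (Stk.resSieve (S.pullback c.obj.hom) 𝒳).obj (BasedFunctor.comp (Φ c) K) ⟶
      (Stk.resSieve (S.pullback c.obj.hom) 𝒳).obj (BasedFunctor.comp (Φ c) K') :=
    (Stk.restr (Ψ c S) 𝒳).map α
  let βc : BasedFunctor.comp (Φ c) K ⟶ BasedFunctor.comp (Φ c) K' :=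
    (Stk.resSieve (S.pullback c.obj.hom) 𝒳).preimage αc
  have hβc : (Stk.resSieve (S.pullback c.obj.hom) 𝒳).map βc = αc := Functor.map_preimage _ _
  have P1 : ∀ t : (Stk.sieveCat (S.pullback c.obj.hom)).obj,
      βc.toNatTrans.app t.obj = α.toNatTrans.app ((Ψ c S).obj t) := fun t =>
    congrArg (fun (γ : (Stk.resSieve (S.pullback c.obj.hom) 𝒳).obj (BasedFunctor.comp (Φ c) K) ⟶
      (Stk.resSieve (S.pullback c.obj.hom) 𝒳).obj (BasedFunctor.comp (Φ c) K')) => γ.toNatTrans.app t) hβc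
  let o₁ : Over c.obj.left := Over.mk (𝟙 c.obj.left)
  let ιc : (Φ c).obj o₁ ≅ c := ObjectProperty.isoMk _ (Over.isoMk (Iso.refl _) (by simp [Φ, o₁]))
  obtain ⟨β₁, hβ₁⟩ : ∃ β₁ : K.obj ((Φ c).obj o₁) ⟶ K'.obj ((Φ c).obj o₁), β₁ = βc.toNatTrans.app o₁ :=
    ⟨_, rfl⟩
  have hβ₁l : 𝒳.p.IsHomLift (𝟙 c.obj.left) β₁ := by rw [hβ₁]; exact βc.isHomLift' o₁
  have hl1 : 𝒳.p.IsHomLift (𝟙 c.obj.left) (K.map ιc.inv) := map_lift K ιc.inv
  have hl2 : 𝒳.p.IsHomLift (𝟙 c.obj.left) (K'.map ιc.hom) := map_lift K' ιc.hom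
  have hl3 : 𝒳.p.IsHomLift (𝟙 c.obj.left) (β₁ ≫ K'.map ιc.hom) :=
    IsHomLift.comp_lift_id_left' 𝒳.p c.obj.left β₁ (𝟙 c.obj.left) (K'.map ιc.hom)
  have hl4 : 𝒳.p.IsHomLift (𝟙 c.obj.left) (K.map ιc.inv ≫ β₁ ≫ K'.map ιc.hom) :=
    IsHomLift.comp_lift_id_left' 𝒳.p c.obj.left (K.map ιc.inv) (𝟙 c.obj.left) (β₁ ≫ K'.map ιc.hom)
  refine ⟨K.map ιc.inv ≫ β₁ ≫ K'.map ιc.hom, hl4, ?_⟩
  intro s μ
  obtain ⟨g, hg⟩ : ∃ g : s.obj.left ⟶ c.obj.left, g = μ.hom.left := ⟨_, rfl⟩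
  have hw : g ≫ c.obj.hom = s.obj.hom := by rw [hg]; exact Over.w μ.hom
  have hT : (S.pullback c.obj.hom) g := by
    change S (g ≫ c.obj.hom)
    rw [hw]; exact s.property
  let t : (Stk.sieveCat (S.pullback c.obj.hom)).obj := ⟨Over.mk g, hT⟩
  let ν' : s ⟶ (Ψ c S).obj t := ObjectProperty.homMk (Over.homMk (𝟙 s.obj.left) (by
    change 𝟙 _ ≫ (g ≫ c.obj.hom) = s.obj.hom
    rw [Category.id_comp, hw]))
  let κ : (Φ c).obj t.obj ⟶ c := ObjectProperty.homMk (Over.homMk g rfl)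
  have fact1 : μ = (inclSR hSR).map ν' ≫ κ := by
    apply ObjectProperty.hom_ext
    apply Over.OverMorphism.ext
    change μ.hom.left = 𝟙 _ ≫ g
    rw [Category.id_comp, hg]
  let tg : (t.obj : Over c.obj.left) ⟶ o₁ := Over.homMk g (by simp [o₁, t])
  have hκ : κ = (Φ c).map tg ≫ ιc.hom := by
    apply ObjectProperty.hom_ext
    apply Over.OverMorphism.ext
    change g = g ≫ 𝟙 _
    rw [Category.comp_id]
  have nat1 : K.map ((Φ c).map tg) ≫ β₁ = βc.toNatTrans.app t.obj ≫ K'.map ((Φ c).map tg) := by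
    rw [hβ₁]
    exact βc.toNatTrans.naturality tg
  have fact2 : K.map κ ≫ (K.map ιc.inv ≫ β₁ ≫ K'.map ιc.hom) =
      βc.toNatTrans.app t.obj ≫ K'.map κ := by
    rw [hκ]
    have e1 : K.map ((Φ c).map tg ≫ ιc.hom) = K.map ((Φ c).map tg) ≫ K.map ιc.hom :=
      K.toFunctor.map_comp _ _
    have e2 : K'.map ((Φ c).map tg ≫ ιc.hom) = K'.map ((Φ c).map tg) ≫ K'.map ιc.hom :=
      K'.toFunctor.map_comp _ _
    have e3 : K.map ιc.hom ≫ K.map ιc.inv = 𝟙 _ := by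
      have := K.toFunctor.map_comp ιc.hom ιc.inv
      rw [ιc.hom_inv_id, K.toFunctor.map_id] at this
      exact this.symm
    rw [e1, e2, Category.assoc, ← Category.assoc (K.map ιc.hom), e3, Category.id_comp,
      ← Category.assoc, nat1]
    exact Category.assoc _ _ _
  have nat2 : K.map ((inclSR hSR).map ν') ≫ α.toNatTrans.app ((Ψ c S).obj t) =
      α.toNatTrans.app s ≫ K'.map ((inclSR hSR).map ν') := α.toNatTrans.naturality ν'
  have e4 : K.map μ = K.map ((inclSR hSR).map ν') ≫ K.map κ := by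
    rw [fact1]; exact K.toFunctor.map_comp _ _
  have e5 : K'.map μ = K'.map ((inclSR hSR).map ν') ≫ K'.map κ := by
    rw [fact1]; exact K'.toFunctor.map_comp _ _
  exact aux_final _ _ _ _ _ _ _ _ _ _ e4 e5 fact2 (P1 t) nat2

/-- the chosen component -/
noncomputable def comp₀ (c : (Stk.sieveCat R).obj) : K.obj c ⟶ K'.obj c :=
  (char_exists hSR h𝒳 hR α c).choose

instance comp₀_lift (c : (Stk.sieveCat R).obj) :
    𝒳.p.IsHomLift (𝟙 c.obj.left) (comp₀ hSR h𝒳 hR α c) :=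
  (char_exists hSR h𝒳 hR α c).choose_spec.1

lemma comp₀_char (c : (Stk.sieveCat R).obj) : Char hSR α c (comp₀ hSR h𝒳 hR α c) :=
  (char_exists hSR h𝒳 hR α c).choose_spec.2

lemma comp₀_naturality {c c' : (Stk.sieveCat R).obj} (m : c ⟶ c') :
    K.map m ≫ comp₀ hSR h𝒳 hR α c' = comp₀ hSR h𝒳 hR α c ≫ K'.map m := by
  obtain ⟨h, hh⟩ : ∃ h : c.obj.left ⟶ c'.obj.left, h = m.hom.left := ⟨_, rfl⟩
  have hKm : 𝒳.p.IsHomLift h (K.map m) := by rw [hh]; exact map_lift K m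
  have hK'm : 𝒳.p.IsHomLift h (K'.map m) := by rw [hh]; exact map_lift K' m
  have hsc : 𝒳.p.IsStronglyCartesian h (K'.map m) := FiberFun.sc_of_isFibGrpd h𝒳 h (K'.map m)
  have hl0 : 𝒳.p.IsHomLift h (K.map m ≫ comp₀ hSR h𝒳 hR α c') :=
    IsHomLift.comp_lift_id_right' 𝒳.p h (K.map m) c'.obj.left (comp₀ hSR h𝒳 hR α c')
  have hl : 𝒳.p.IsHomLift (𝟙 c.obj.left ≫ h) (K.map m ≫ comp₀ hSR h𝒳 hR α c') := by
    rw [Category.id_comp]; exact hl0
  let b' : K.obj c ⟶ K'.obj c := Functor.IsStronglyCartesian.map 𝒳.p h (K'.map m)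
    (g := 𝟙 c.obj.left) rfl (K.map m ≫ comp₀ hSR h𝒳 hR α c')
  have hb'l : 𝒳.p.IsHomLift (𝟙 c.obj.left) b' :=
    Functor.IsStronglyCartesian.map_isHomLift 𝒳.p h (K'.map m) (g := 𝟙 c.obj.left) rfl
      (K.map m ≫ comp₀ hSR h𝒳 hR α c')
  have hb' : b' ≫ K'.map m = K.map m ≫ comp₀ hSR h𝒳 hR α c' :=
    Functor.IsStronglyCartesian.fac 𝒳.p h (K'.map m) (g := 𝟙 c.obj.left) rfl
      (K.map m ≫ comp₀ hSR h𝒳 hR α c')
  have hchar : Char hSR α c b' := by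
    intro s μ
    obtain ⟨g, hg⟩ : ∃ g : s.obj.left ⟶ c.obj.left, g = μ.hom.left := ⟨_, rfl⟩
    have h1 : 𝒳.p.IsHomLift g (K.map μ) := by rw [hg]; exact map_lift K μ
    have h2 : 𝒳.p.IsHomLift g (K'.map μ) := by rw [hg]; exact map_lift K' μ
    have h3 : 𝒳.p.IsHomLift g (K.map μ ≫ b') :=
      IsHomLift.comp_lift_id_right' 𝒳.p g (K.map μ) c.obj.left b'
    have h4 : 𝒳.p.IsHomLift (𝟙 s.obj.left) (α.toNatTrans.app s) := α.isHomLift' s
    have h5 : 𝒳.p.IsHomLift g (α.toNatTrans.app s ≫ K'.map μ) :=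
      @IsHomLift.comp_lift_id_left' _ _ _ _ 𝒳.p _ _ _ s.obj.left (α.toNatTrans.app s) h4 _ _ g
        (K'.map μ) h2
    have e1 : K.map (μ ≫ m) = K.map μ ≫ K.map m := K.toFunctor.map_comp _ _
    have e2 : K'.map (μ ≫ m) = K'.map μ ≫ K'.map m := K'.toFunctor.map_comp _ _
    have hc := comp₀_char hSR h𝒳 hR α c' s (μ ≫ m)
    refine @Functor.IsStronglyCartesian.ext _ _ _ _ 𝒳.p _ _ _ _ h (K'.map m) hsc _ _ g
      (K.map μ ≫ b') (α.toNatTrans.app s ≫ K'.map μ) h3 h5 ?_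
    exact aux_nat _ _ _ _ _ _ _ _ _ hb' e1 e2 hc
  have := char_unique hSR h𝒳 hR α c b' (comp₀ hSR h𝒳 hR α c) hchar (comp₀_char hSR h𝒳 hR α c)
  rw [← this, hb']

/-- the extension of `α` -/
noncomputable def ext₀ : K ⟶ K' where
  toNatTrans :=
    { app := fun c => comp₀ hSR h𝒳 hR α c
      naturality := fun _ _ m => comp₀_naturality hSR h𝒳 hR α m }
  isHomLift' := fun c => comp₀_lift hSR h𝒳 hR α c

lemma ext₀_restr : (Stk.restr (inclSR hSR) 𝒳).map (ext₀ hSR h𝒳 hR α) = α := by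
  apply BasedNatTrans.homCategory.ext
  ext s
  change comp₀ hSR h𝒳 hR α ((inclSR hSR).obj s) = α.toNatTrans.app s
  have hc := comp₀_char hSR h𝒳 hR α ((inclSR hSR).obj s) s (𝟙 _)
  have e1 : K.map (𝟙 ((inclSR hSR).obj s)) = 𝟙 _ := K.toFunctor.map_id _
  have e2 : K'.map (𝟙 ((inclSR hSR).obj s)) = 𝟙 _ := K'.toFunctor.map_id _
  exact aux_id _ _ _ _ e1 e2 hc

end Main


/-- Let `𝒳` be fibred in groupoids over `C` and let `S ≤ R` be sieves on an object `U` (a family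
refining another with the same target). If the gluing functor for `S` is an equivalence (restriction
of functors `C/U ⟶ 𝒳` over `C` to `S`), and for every arrow `f : V ⟶ U` of `R` restriction of
functors `C/V ⟶ 𝒳` over `C` to the pulled-back sieve `f^*S` is fully faithful, then the gluing
functor for `R` is an equivalence. (The published statement is for two families of maps with chosen
pullbacks and asks full faithfulness only over the members `U_i` of the coarser family and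
faithfulness over the products `U_i ×_U U_{i'}`; this row asks full faithfulness over every arrow of
the sieve they generate, a stronger hypothesis, and needs no fibre products; the published statement
is for a fibred category, this row for a category fibred in groupoids, the setting in which the
sieve form of the descent condition is the stack condition.) -/
theorem result {C : Type u} [Category.{v} C] {𝒳 : BasedCategory.{v, max u v} C}
    (h𝒳 : FibCat.IsFibGrpd 𝒳.p) {U : C} {S R : Sieve U} (hSR : S ≤ R) (hS : Stk.IsStackFor S 𝒳)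
    (hR : ∀ ⦃V : C⦄ (f : V ⟶ U), R f → Stk.IsPrestackFor (S.pullback f) 𝒳) :
    Stk.IsStackFor R 𝒳 := by
  have hE : (Stk.resSieve S 𝒳).IsEquivalence := hS
  have hfull : (Stk.restr (inclSR hSR) 𝒳).Full :=
    ⟨fun {K K'} α => ⟨ext₀ hSR h𝒳 hR α, ext₀_restr hSR h𝒳 hR α⟩⟩
  have hfaith : (Stk.restr (inclSR hSR) 𝒳).Faithful := by
    refine ⟨fun {K K'} β β' h => ?_⟩
    apply BasedNatTrans.homCategory.ext
    ext c
    have hb : 𝒳.p.IsHomLift (𝟙 c.obj.left) (β.toNatTrans.app c) := β.isHomLift' c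
    have hb' : 𝒳.p.IsHomLift (𝟙 c.obj.left) (β'.toNatTrans.app c) := β'.isHomLift' c
    refine char_unique hSR h𝒳 hR ((Stk.restr (inclSR hSR) 𝒳).map β) c _ _ ?_ ?_
    · intro s μ
      exact β.toNatTrans.naturality μ
    · intro s μ
      rw [h]
      exact β'.toNatTrans.naturality μ
  have sq : Stk.resSieve S 𝒳 = Stk.resSieve R 𝒳 ⋙ Stk.restr (inclSR hSR) 𝒳 := rfl
  have hes : (Stk.restr (inclSR hSR) 𝒳).EssSurj := by
    refine ⟨fun KS => ?_⟩
    obtain ⟨G, ⟨i⟩⟩ := Functor.EssSurj.mem_essImage (F := Stk.resSieve S 𝒳) KS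
    exact ⟨(Stk.resSieve R 𝒳).obj G, ⟨i⟩⟩
  have hρ : (Stk.restr (inclSR hSR) 𝒳).IsEquivalence := { }
  have hcomp : (Stk.resSieve R 𝒳 ⋙ Stk.restr (inclSR hSR) 𝒳).IsEquivalence := by
    rw [← sq]; exact hE
  exact Functor.isEquivalence_of_comp_right (Stk.resSieve R 𝒳) (Stk.restr (inclSR hSR) 𝒳)

end Groth.Agent.S12815
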