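import Mathlib.Tactic
import Groth.Agent.Lib.helper10.Yoneda2
import Groth.Statements.S6409

set_option autoImplicit false
open CategoryTheory
universe v u
open FibCat

namespace Groth.Agent.S6409

/-- For `𝒳` fibred in groupoids over `C`, evaluation at `𝟙_U` is an equivalence of categories from the
category of functors `C/U ⟶ 𝒳` over `C` to the fibre category `𝒳_U`. -/
theorem result {C : Type u} [Category.{v} C] {𝒳 : BasedCategory.{v, max u v} C} (h𝒳 : FibCat.IsFibGrpd 𝒳.p) (U : C) :
    (FibCat.evalAtId 𝒳 U).IsEquivalence := by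
  have := Groth.Agent.Lib.helper10.FiberFun.isFibered_of_isFibGrpd h𝒳
  have hE := Groth.Agent.Lib.helper10.Yoneda2.isEquivalence (𝒳 := 𝒳) U
  have hι : (Groth.Agent.Lib.helper10.Yoneda2.P U (𝒳 := 𝒳)).ι.IsEquivalence := by
    refine { faithful := inferInstance, full := inferInstance, essSurj := ⟨fun G => ?_⟩ }
    have hG : Groth.Agent.Lib.helper10.Yoneda2.P U G := by
      intro R S f a b φ hφ
      have : (FibCat.overCat U).p.IsHomLift f φ := hφ.toIsHomLift
      have : 𝒳.p.IsHomLift f (G.map φ) := inferInstance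
      exact Groth.Agent.Lib.helper10.FiberFun.sc_of_isFibGrpd h𝒳 f (G.map φ)
    exact ⟨⟨G, hG⟩, ⟨Iso.refl _⟩⟩
  exact Functor.isEquivalence_of_comp_left (Groth.Agent.Lib.helper10.Yoneda2.P U (𝒳 := 𝒳)).ι
    (FibCat.evalAtId 𝒳 U)

end Groth.Agent.S6409
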