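import Mathlib.Tactic
import Groth.Agent.S6409
import Groth.Agent.S6397
import Groth.Statements.S12816

set_option autoImplicit false
open CategoryTheory
universe v u
open Stk

namespace Groth.Agent.S12816

lemma full_of_equiv_comp {A B D : Type*} [Category A] [Category B] [Category D]
    (E : A ⥤ B) [E.IsEquivalence] (H : B ⥤ D) [(E ⋙ H).Full] : H.Full := by
  have : (E.inv ⋙ E ⋙ H).Full := inferInstance
  exact Functor.Full.of_iso
    ((Functor.associator E.inv E H).symm ≪≫
      Functor.isoWhiskerRight E.asEquivalence.counitIso H ≪≫ H.leftUnitor)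

lemma faithful_of_equiv_comp {A B D : Type*} [Category A] [Category B] [Category D]
    (E : A ⥤ B) [E.IsEquivalence] (H : B ⥤ D) [(E ⋙ H).Faithful] : H.Faithful := by
  have : (E.inv ⋙ E ⋙ H).Faithful := inferInstance
  exact Functor.Faithful.of_iso
    ((Functor.associator E.inv E H).symm ≪≫
      Functor.isoWhiskerRight E.asEquivalence.counitIso H ≪≫ H.leftUnitor)

lemma square {C : Type u} [Category.{v} C] {𝒳 𝒴 : BasedCategory.{v, max u v} C} (F : 𝒳 ⟶ 𝒴) (U : C) :
    Bicategory.postcomp (FibCat.overCat U) F ⋙ FibCat.evalAtId 𝒴 U =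
      FibCat.evalAtId 𝒳 U ⋙ FibCat.fiberFunctor F U := rfl


/-- Let `𝒳`, `𝒴` be fibred in groupoids over `C` and `F : 𝒳 ⟶ 𝒴` a functor over `C`. Then the underlying
functor of `F` is fully faithful if and only if, for every object `U` of `C`, postcomposition with
`F` is a fully faithful functor from the category of functors `C/U ⟶ 𝒳` over `C` to that of functors
`C/U ⟶ 𝒴` over `C`; under the 2-Yoneda lemma the latter says that `F` induces bijections between
morphisms of pullbacks `x|_V ⟶ y|_V` and `F(x)|_V ⟶ F(y)|_V` for all objects `x, y` over `U` and all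
`V ⟶ U`, that is, isomorphisms of the presheaves of morphisms. (The published statement is for
stacks over a site, not necessarily in groupoids; the stack property plays no role and is not
assumed here, and this row treats categories fibred in groupoids.) -/
theorem result {C : Type u} [Category.{v} C] {𝒳 𝒴 : BasedCategory.{v, max u v} C}
    (h𝒳 : FibCat.IsFibGrpd 𝒳.p) (h𝒴 : FibCat.IsFibGrpd 𝒴.p) (F : 𝒳 ⟶ 𝒴) :
    (F.toFunctor.Full ∧ F.toFunctor.Faithful) ↔
      ∀ U : C, (Bicategory.postcomp (FibCat.overCat U) F).Full ∧ (Bicategory.postcomp (FibCat.overCat U) F).Faithful := by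
  have hE𝒳 : ∀ U, (FibCat.evalAtId 𝒳 U).IsEquivalence := fun U => Groth.Agent.S6409.result h𝒳 U
  have hE𝒴 : ∀ U, (FibCat.evalAtId 𝒴 U).IsEquivalence := fun U => Groth.Agent.S6409.result h𝒴 U
  have key := Groth.Agent.S6397.result F h𝒳 h𝒴
  rw [key]
  constructor
  · intro h U
    have := hE𝒳 U
    have := hE𝒴 U
    have := (h U).1
    have := (h U).2
    have h1 : (Bicategory.postcomp (FibCat.overCat U) F ⋙ FibCat.evalAtId 𝒴 U).Full := by
      rw [square]; infer_instance
    have h2 : (Bicategory.postcomp (FibCat.overCat U) F ⋙ FibCat.evalAtId 𝒴 U).Faithful := by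
      rw [square]; infer_instance
    exact ⟨Functor.Full.of_comp_faithful _ (FibCat.evalAtId 𝒴 U), Functor.Faithful.of_comp _ (FibCat.evalAtId 𝒴 U)⟩
  · intro h U
    have := hE𝒳 U
    have := hE𝒴 U
    have := (h U).1
    have := (h U).2
    have h1 : (FibCat.evalAtId 𝒳 U ⋙ FibCat.fiberFunctor F U).Full := by
      rw [← square]; infer_instance
    have h2 : (FibCat.evalAtId 𝒳 U ⋙ FibCat.fiberFunctor F U).Faithful := by
      rw [← square]; infer_instance
    exact ⟨full_of_equiv_comp (FibCat.evalAtId 𝒳 U) _, faithful_of_equiv_comp (FibCat.evalAtId 𝒳 U) _⟩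

end Groth.Agent.S12816
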