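import Mathlib.Tactic
import Groth.Statements.S12817

set_option autoImplicit false
universe u
open CategoryTheory AlgebraicGeometry
open AlgSt

namespace Groth.Agent.S12817

open TensorProduct in
lemma exists_amalg {L M M' : Type u} [Field L] [Field M] [Field M'] (φ : L →+* M) (φ' : L →+* M') :
    ∃ (M'' : Type u) (_ : Field M'') (ψ : M →+* M'') (ψ' : M' →+* M''), ψ.comp φ = ψ'.comp φ' := by
  letI : Algebra L M := φ.toAlgebra
  letI : Algebra L M' := φ'.toAlgebra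
  have : Nontrivial (M ⊗[L] M') :=
    Algebra.TensorProduct.nontrivial_of_algebraMap_injective_of_flat_left (R := L) M M'
      (RingHom.injective (algebraMap L M'))
  obtain ⟨𝔪, h𝔪⟩ := Ideal.exists_maximal (M ⊗[L] M')
  letI : Field ((M ⊗[L] M') ⧸ 𝔪) := Ideal.Quotient.field 𝔪
  refine ⟨(M ⊗[L] M') ⧸ 𝔪, inferInstance,
    (Ideal.Quotient.mk 𝔪).comp (Algebra.TensorProduct.includeLeft : M →ₐ[L] M ⊗[L] M').toRingHom,
    (Ideal.Quotient.mk 𝔪).comp (Algebra.TensorProduct.includeRight : M' →ₐ[L] M ⊗[L] M').toRingHom, ?_⟩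
  ext l
  simp only [RingHom.comp_apply, AlgHom.toRingHom_eq_coe, RingHom.coe_coe]
  congr 1
  have h1 : φ l = algebraMap L M l := rfl
  have h2 : φ' l = algebraMap L M' l := rfl
  rw [h1, h2, AlgHom.commutes, AlgHom.commutes]

/-- the base morphism of a morphism between objects lying over given objects -/
def baseHom {S : Scheme.{u}} (𝒳 : AlgSt.Cat S) {x y : 𝒳.obj} {s t : Over S} (hx : 𝒳.p.obj x = s)
    (hy : 𝒳.p.obj y = t) (m : x ⟶ y) : s ⟶ t :=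
  eqToHom hx.symm ≫ 𝒳.p.map m ≫ eqToHom hy

lemma map_eq_baseHom {S : Scheme.{u}} (𝒳 : AlgSt.Cat S) {x y : 𝒳.obj} {s t : Over S} (hx : 𝒳.p.obj x = s)
    (hy : 𝒳.p.obj y = t) (m : x ⟶ y) :
    𝒳.p.map m = eqToHom hx ≫ baseHom 𝒳 hx hy m ≫ eqToHom hy.symm := by
  subst hx hy
  simp [baseHom]

/-- two morphisms to a common target from objects over spectra of fields can be dominated -/
theorem dominate {S : Scheme.{u}} (𝒳 : AlgSt.Cat S) (h𝒳 : FibCat.IsFibGrpd 𝒳.p)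
    (q r r' : AlgSt.FPt 𝒳) (b : r.obj ⟶ q.obj) (a' : r'.obj ⟶ q.obj) :
    ∃ (r'' : AlgSt.FPt 𝒳) (_ : r''.obj ⟶ r.obj) (_ : r''.obj ⟶ r'.obj), True := by
  let β : Over.mk r.str ⟶ Over.mk q.str := baseHom 𝒳 r.lies q.lies b
  let β' : Over.mk r'.str ⟶ Over.mk q.str := baseHom 𝒳 r'.lies q.lies a'
  obtain ⟨βl, hβl⟩ : ∃ βl : Spec (CommRingCat.of r.K) ⟶ Spec (CommRingCat.of q.K), βl = β.left := ⟨_, rfl⟩
  obtain ⟨βl', hβl'⟩ : ∃ βl' : Spec (CommRingCat.of r'.K) ⟶ Spec (CommRingCat.of q.K), βl' = β'.left :=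
    ⟨_, rfl⟩
  have hwβ : βl ≫ q.str = r.str := by rw [hβl]; exact Over.w β
  have hwβ' : βl' ≫ q.str = r'.str := by rw [hβl']; exact Over.w β'
  let φ : CommRingCat.of q.K ⟶ CommRingCat.of r.K := Spec.preimage βl
  let φ' : CommRingCat.of q.K ⟶ CommRingCat.of r'.K := Spec.preimage βl'
  obtain ⟨M'', hM'', ψ, ψ', hψ⟩ := exists_amalg φ.hom φ'.hom
  let Ψ : CommRingCat.of r.K ⟶ CommRingCat.of M'' := CommRingCat.ofHom ψ
  let Ψ' : CommRingCat.of r'.K ⟶ CommRingCat.of M'' := CommRingCat.ofHom ψ'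
  have hΨ : φ ≫ Ψ = φ' ≫ Ψ' := by
    ext l
    exact congrArg (fun f => f l) hψ
  have key : Spec.map Ψ ≫ βl = Spec.map Ψ' ≫ βl' := by
    have e1 : βl = Spec.map φ := (Spec.map_preimage βl).symm
    have e2 : βl' = Spec.map φ' := (Spec.map_preimage βl').symm
    rw [e1, e2, ← Spec.map_comp, ← Spec.map_comp, hΨ]
  let str'' : Spec (CommRingCat.of M'') ⟶ S := Spec.map Ψ ≫ r.str
  have hstr' : Spec.map Ψ' ≫ r'.str = str'' := by
    change _ = Spec.map Ψ ≫ r.str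
    rw [← hwβ, ← hwβ', ← Category.assoc, ← Category.assoc, key]
  let g : Over.mk str'' ⟶ Over.mk r.str := Over.homMk (Spec.map Ψ) rfl
  let g' : Over.mk str'' ⟶ Over.mk r'.str := Over.homMk (Spec.map Ψ') hstr'
  have hgβ : g ≫ β = g' ≫ β' := by
    apply Over.OverMorphism.ext
    change Spec.map Ψ ≫ β.left = Spec.map Ψ' ≫ β'.left
    rw [← hβl, ← hβl']
    exact key
  obtain ⟨r₁, m₁, hm₁⟩ := h𝒳.exists_lift (x := r.obj) (g ≫ eqToHom r.lies.symm)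
  obtain ⟨r₂, m₂, hm₂⟩ := h𝒳.exists_lift (x := r'.obj) (g' ≫ eqToHom r'.lies.symm)
  have d₁ : 𝒳.p.obj r₁ = Over.mk str'' := IsHomLift.domain_eq 𝒳.p (g ≫ eqToHom r.lies.symm) m₁
  have d₂ : 𝒳.p.obj r₂ = Over.mk str'' := IsHomLift.domain_eq 𝒳.p (g' ≫ eqToHom r'.lies.symm) m₂
  have f₁ : 𝒳.p.map m₁ = eqToHom d₁ ≫ (g ≫ eqToHom r.lies.symm) := by
    have := IsHomLift.fac' 𝒳.p (g ≫ eqToHom r.lies.symm) m₁
    simpa using this
  have f₂ : 𝒳.p.map m₂ = eqToHom d₂ ≫ (g' ≫ eqToHom r'.lies.symm) := by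
    have := IsHomLift.fac' 𝒳.p (g' ≫ eqToHom r'.lies.symm) m₂
    simpa using this
  have hb : 𝒳.p.map b = eqToHom r.lies ≫ β ≫ eqToHom q.lies.symm := map_eq_baseHom 𝒳 r.lies q.lies b
  have ha' : 𝒳.p.map a' = eqToHom r'.lies ≫ β' ≫ eqToHom q.lies.symm :=
    map_eq_baseHom 𝒳 r'.lies q.lies a'
  have hvw : 𝒳.p.map (m₁ ≫ b) = eqToHom (d₁.trans d₂.symm) ≫ 𝒳.p.map (m₂ ≫ a') := by
    rw [𝒳.p.map_comp, 𝒳.p.map_comp, f₁, f₂, hb, ha']
    simp only [Category.assoc, eqToHom_trans_assoc, eqToHom_refl, Category.id_comp]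
    rw [← Category.assoc g, ← Category.assoc g', hgβ]
  have hsc : 𝒳.p.IsStronglyCartesian (𝒳.p.map (m₂ ≫ a')) (m₂ ≫ a') := h𝒳.isStronglyCartesian _
  have hl : 𝒳.p.IsHomLift (eqToHom (d₁.trans d₂.symm) ≫ 𝒳.p.map (m₂ ≫ a')) (m₁ ≫ b) := by
    rw [← hvw]
    exact IsHomLift.map 𝒳.p _
  let χ : r₁ ⟶ r₂ := Functor.IsStronglyCartesian.map 𝒳.p (𝒳.p.map (m₂ ≫ a')) (m₂ ≫ a')
    (g := eqToHom (d₁.trans d₂.symm)) rfl (m₁ ≫ b)
  exact ⟨{ K := M'', str := str'', obj := r₁, lies := d₁ }, m₁, χ ≫ m₂, trivial⟩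


/-- For a category fibred in groupoids over the category of schemes over `S`, the relation on
field-valued points under which `Spec K ⟶ 𝒳` and `Spec L ⟶ 𝒳` are related when some `Spec M ⟶ 𝒳`
maps to both is an equivalence relation, so that the points of `𝒳` are its equivalence classes. (The
published statement is for an algebraic stack; this row takes any category fibred in groupoids over
the base.) -/
theorem result {S : Scheme.{u}} (𝒳 : AlgSt.Cat S) (h𝒳 : FibCat.IsFibGrpd 𝒳.p) :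
    _root_.Equivalence (@AlgSt.FPt.Rel S 𝒳) := by
  refine ⟨fun p => ⟨p, 𝟙 _, 𝟙 _, trivial⟩, ?_, ?_⟩
  · rintro p q ⟨r, a, b, -⟩
    exact ⟨r, b, a, trivial⟩
  · rintro p q q' ⟨r, a, b, -⟩ ⟨r', a', b', -⟩
    obtain ⟨r'', m, m', -⟩ := dominate 𝒳 h𝒳 q r r' b a'
    exact ⟨r'', m ≫ a, m' ≫ b', trivial⟩

end Groth.Agent.S12817
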