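import Groth.Agent.S12817
import Groth.Agent.Lib.helper10.LiftIso
import Groth.Statements.S12818

set_option autoImplicit false
universe u
open CategoryTheory AlgebraicGeometry
open AlgSt

namespace Groth.Agent.S12818

open Groth.Agent.Lib.helper10 in
theorem exists_fp_point {S : Scheme.{u}} {𝒳 𝒴 𝒵 : AlgSt.Cat S}
    (h𝒳 : FibCat.IsFibGrpd 𝒳.p) (h𝒴 : FibCat.IsFibGrpd 𝒴.p) (h𝒵 : FibCat.IsFibGrpd 𝒵.p)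
    (f : 𝒳 ⥤ᵇ 𝒴) (g : 𝒵 ⥤ᵇ 𝒴) (z₀ : AlgSt.FPt 𝒵) (x₀ : AlgSt.FPt 𝒳)
    (h : AlgSt.FPt.Rel (z₀.map g) (x₀.map f)) :
    ∃ w : AlgSt.FPt (FibCat.fp g f),
      AlgSt.FPt.Rel (w.map (FibCat.fpFst g f)) z₀ ∧ AlgSt.FPt.Rel (w.map (FibCat.fpSnd g f)) x₀ := by
  obtain ⟨r, a, b, -⟩ := h
  obtain ⟨a', ha'⟩ : ∃ a' : r.obj ⟶ g.obj z₀.obj, a' = a := ⟨a, rfl⟩
  obtain ⟨b', hb'⟩ : ∃ b' : r.obj ⟶ f.obj x₀.obj, b' = b := ⟨b, rfl⟩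
  obtain ⟨z₁, m, ε, hεv, hε, dz⟩ := LiftIso.exists_lift_iso h𝒵 h𝒴 g z₀.obj a'
  obtain ⟨x₁, n, δ, hδv, hδ, dx⟩ := LiftIso.exists_lift_iso h𝒳 h𝒴 f x₀.obj b'
  have hv : Vert.IsVert 𝒴.p (ε.symm ≪≫ δ).hom :=
    Vert.comp 𝒴.p ε.inv δ.hom (Vert.inv_of_iso 𝒴.p ε hεv) hδv
  have hprop : 𝒴.p.IsHomLift (𝟙 (𝒵.p.obj z₁)) (ε.symm ≪≫ δ).hom :=
    Vert.lift 𝒴.p _ hv (g.w_obj z₁)
  let w₀ : (FibCat.fp g f).obj := ⟨⟨z₁, x₁, ε.symm ≪≫ δ⟩, hprop⟩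
  have hlies : (FibCat.fp g f).p.obj w₀ = Over.mk r.str := dz.trans r.lies
  let w : AlgSt.FPt (FibCat.fp g f) := { K := r.K, str := r.str, obj := w₀, lies := hlies }
  refine ⟨w, ⟨w.map (FibCat.fpFst g f), 𝟙 _, m, trivial⟩, ⟨w.map (FibCat.fpSnd g f), 𝟙 _, n, trivial⟩⟩


/-- For morphisms `f : 𝒳 ⟶ 𝒴` and `g : 𝒵 ⟶ 𝒴` of algebraic stacks over `S`, the map `|𝒵 ×_𝒴 𝒳| → |𝒵|
×_{|𝒴|} |𝒳|` is surjective: a point of `𝒵` and a point of `𝒳` with the same image in `|𝒴|` are the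
two projections of some point of the 2-fibre product. -/
theorem result {S : Scheme.{u}} {𝒳 𝒴 𝒵 : AlgSt.Cat S}
    (h𝒳 : AlgSt.IsAlgStack Scheme.fppfPrecoverage 𝒳) (h𝒴 : AlgSt.IsAlgStack Scheme.fppfPrecoverage 𝒴)
    (h𝒵 : AlgSt.IsAlgStack Scheme.fppfPrecoverage 𝒵) (f : 𝒳 ⥤ᵇ 𝒴) (g : 𝒵 ⥤ᵇ 𝒴)
    (z : AlgSt.Points 𝒵) (x : AlgSt.Points 𝒳) (h : AlgSt.Points.map g z = AlgSt.Points.map f x) :
    ∃ w : AlgSt.Points (FibCat.fp g f),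
      AlgSt.Points.map (FibCat.fpFst g f) w = z ∧ AlgSt.Points.map (FibCat.fpSnd g f) w = x := by
  obtain ⟨z₀, rfl⟩ := AlgSt.Points.mk_surjective z
  obtain ⟨x₀, rfl⟩ := AlgSt.Points.mk_surjective x
  have hE := Groth.Agent.S12817.result 𝒴 h𝒴.isStack.1
  have hrel : AlgSt.FPt.Rel (z₀.map g) (x₀.map f) := by
    have h' : Quot.mk (@AlgSt.FPt.Rel S 𝒴) (z₀.map g) = Quot.mk (@AlgSt.FPt.Rel S 𝒴) (x₀.map f) := h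
    exact (hE.eqvGen_iff).1 (Quot.eqvGen_exact h')
  obtain ⟨w, h1, h2⟩ := exists_fp_point h𝒳.isStack.1 h𝒴.isStack.1 h𝒵.isStack.1 f g z₀ x₀ hrel
  exact ⟨AlgSt.Points.mk w, AlgSt.Points.sound h1, AlgSt.Points.sound h2⟩

end Groth.Agent.S12818
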