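import Groth.Statements.S12839
import Mathlib
import Groth.Agent.S18977
import Groth.Prelude.Def_ChGrp
-- import your own Groth.Agent.* helpers here

set_option autoImplicit false
universe u
open CategoryTheory AlgebraicGeometry
open AlgSt

namespace Groth.Agent.S12839

open CategoryTheory CategoryTheory.Limits AlgebraicGeometry MonoidalCategory CartesianMonoidalCategory MonObj

namespace H5S12839

variable {S : Scheme.{u}}

lemma ext_r3 {A B C Y : Over S} {f g : A ⊗ (B ⊗ C) ⟶ Y}
    (h : ∀ (T : Over S) (a : T ⟶ A) (b : T ⟶ B) (c : T ⟶ C),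
      lift a (lift b c) ≫ f = lift a (lift b c) ≫ g) : f = g := by
  have e : lift (fst A (B ⊗ C)) (lift (snd A (B ⊗ C) ≫ fst B C) (snd A (B ⊗ C) ≫ snd B C))
      = 𝟙 _ := by
    rw [← comp_lift, lift_fst_snd, Category.comp_id, lift_fst_snd]
  simpa [e] using h _ (fst _ _) (snd _ _ ≫ fst B C) (snd _ _ ≫ snd B C)

lemma leftMul_pt {G : Over S} [GrpObj G] (T : Over S) {W : Over S} (g h : W ⟶ G) (t : W ⟶ T) :
    lift g (lift h t) ≫ (AlgSt.leftMul G T).act = lift (g * h) t := by
  simp [AlgSt.leftMul, comp_lift, comp_mul]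

/-- the trivialisation square of a torsor along a section -/
lemma triv_cart {G P B T : Over S} [GrpObj G] (act : AlgGrp.Action G P) (π : P ⟶ B)
    (cart : IsPullback act.act (snd G P) π π) (fo : T ⟶ B) (so : T ⟶ P) (hso : so ≫ π = fo) :
    IsPullback ((G ◁ so) ≫ act.act) (snd G T) π fo := by
  have hw : ((G ◁ so) ≫ act.act) ≫ π = snd G T ≫ fo := by
    rw [Category.assoc, cart.w, whiskerLeft_snd_assoc, hso]
  have key : ∀ {W : Over S} (p : W ⟶ P) (t : W ⟶ T) (h : p ≫ π = t ≫ fo),
      ∃! m : W ⟶ G ⊗ T, m ≫ (G ◁ so) ≫ act.act = p ∧ m ≫ snd G T = t := by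
    intro W p t h
    have h' : p ≫ π = (t ≫ so) ≫ π := by rw [h, Category.assoc, hso]
    obtain ⟨g, hg, hgu⟩ := Groth.Agent.S18977.H5S18977.sq_tr cart p (t ≫ so) h'
    refine ⟨lift g t, ⟨?_, lift_snd _ _⟩, ?_⟩
    · rw [lift_whiskerLeft_assoc, hg]
    · rintro m ⟨hm1, hm2⟩
      have hm : m = lift (m ≫ fst G T) t := by
        apply CartesianMonoidalCategory.hom_ext
        · rw [lift_fst]
        · rw [lift_snd, hm2]
      have : m ≫ fst G T = g := by
        apply hgu
        rw [← hm1]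
        conv_rhs => rw [hm]
        rw [lift_whiskerLeft_assoc]
      rw [hm, this]
  refine ⟨⟨hw⟩, ⟨PullbackCone.IsLimit.mk _
    (fun s => (key s.fst s.snd s.condition).choose) ?_ ?_ ?_⟩⟩
  · intro s
    exact (key s.fst s.snd s.condition).choose_spec.1.1
  · intro s
    exact (key s.fst s.snd s.condition).choose_spec.1.2
  · intro s m hm1 hm2
    exact (key s.fst s.snd s.condition).choose_spec.2 m ⟨hm1, hm2⟩

theorem main (S : Scheme.{u}) (G : Over S) [GrpObj G] (X : Over S)
    (aX : AlgGrp.Action G X) (A : AlgSt.QuotObj Scheme.fppfPrecoverage G aX) :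
    ∃ (R : Presieve A.base.left) (_ : R ∈ Scheme.fppfPrecoverage A.base.left),
      ∀ ⦃T' : Scheme.{u}⦄ (f : T' ⟶ A.base.left), R f →
        ∃ (x : Over.mk (f ≫ A.base.hom) ⟶ X)
          (h : (AlgSt.quotMap Scheme.fppfPrecoverage G aX).obj ((AlgSt.ofOverCat X).obj (Over.mk x)) ⟶ A),
          h.base = Over.homMk f rfl := by
  obtain ⟨R, hR, hs⟩ := A.loc
  refine ⟨R, hR, ?_⟩
  intro T' f hf
  obtain ⟨s, hs'⟩ := hs f hf
  have hs'' : s ≫ A.π.left = f := hs'
  let To : Over S := Over.mk (f ≫ A.base.hom)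
  let fo : To ⟶ A.base := Over.homMk f rfl
  have hsw : s ≫ A.P.hom = f ≫ A.base.hom := by
    rw [← hs'', Category.assoc, Over.w]
  let so : To ⟶ A.P := Over.homMk s hsw
  have hso : so ≫ A.π = fo := by
    ext
    exact hs''
  have heqv : (AlgSt.leftMul G To).act ≫ (G ◁ so) ≫ A.act.act =
      (G ◁ ((G ◁ so) ≫ A.act.act)) ≫ A.act.act := by
    apply ext_r3
    intro W g h t
    rw [← Category.assoc, leftMul_pt, lift_whiskerLeft_assoc, lift_whiskerLeft_assoc,
      lift_whiskerLeft_assoc, AlgGrp.Action.lift_mul_act]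
  have hwφ : ((G ◁ so) ≫ A.act.act) ≫ A.φ = (G ◁ (so ≫ A.φ)) ≫ aX.act := by
    rw [Category.assoc, A.eqv, MonoidalCategory.whiskerLeft_comp, Category.assoc]
  exact ⟨so ≫ A.φ, ⟨fo, (G ◁ so) ≫ A.act.act, heqv, triv_cart A.act A.π A.cart fo so hso, hwφ⟩, rfl⟩

end H5S12839

/-- Let `G` be a group scheme over `S` acting on an `S`-scheme `X` and let `A` be an object of the
quotient category `[X/G]` over the `S`-scheme `T` — a `G`-torsor `P ⟶ T` for the fppf topology which
is a scheme, with an equivariant `P ⟶ X`. Then there is an fppf covering family of `T` such that for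
every member `f : T' ⟶ T` there are a `T'`-point `x` of `X` and a morphism of `[X/G]` lying over `f`
from the image of `x` under the canonical functor `X ⟶ [X/G]` (the trivial torsor `G ×_S T'` with
`(h, t) ↦ h · x(t)`) to `A`: every object is, fppf-locally on its base, isomorphic to a trivial one. -/
theorem result (S : Scheme.{u}) (G : Over S) [GrpObj G] (X : Over S)
    (aX : AlgGrp.Action G X) (A : AlgSt.QuotObj Scheme.fppfPrecoverage G aX) :
    ∃ (R : Presieve A.base.left) (_ : R ∈ Scheme.fppfPrecoverage A.base.left),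
      ∀ ⦃T' : Scheme.{u}⦄ (f : T' ⟶ A.base.left), R f →
        ∃ (x : Over.mk (f ≫ A.base.hom) ⟶ X)
          (h : (AlgSt.quotMap Scheme.fppfPrecoverage G aX).obj ((AlgSt.ofOverCat X).obj (Over.mk x)) ⟶ A),
          h.base = Over.homMk f rfl := by
  exact H5S12839.main S G X aX A

end Groth.Agent.S12839
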