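import Groth.Statements.S12838
import Mathlib
import Groth.Agent.S12839
import Groth.Prelude.Def_ChGrp
-- import your own Groth.Agent.* helpers here

set_option autoImplicit false
universe u
open CategoryTheory AlgebraicGeometry
open AlgSt

namespace Groth.Agent.S12838

open CategoryTheory CategoryTheory.Limits AlgebraicGeometry MonoidalCategory CartesianMonoidalCategory MonObj GrpObj

namespace H5S12838

open Groth.Agent.S12839

variable {S : Scheme.{u}}

section
variable {G : Over S} [GrpObj G] {X : Over S} (aX : AlgGrp.Action G X) {T T' : Over S} (f : T ⟶ T')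
  (x : T ⟶ X) (x' : T' ⟶ X)

lemma top_pt (g : T ⟶ G) {W : Over S} (a : W ⟶ G) (t : W ⟶ T) :
    lift a t ≫ lift (fst G T * (snd G T ≫ g)) (snd G T ≫ f) = lift (a * (t ≫ g)) (t ≫ f) := by
  rw [comp_lift, comp_mul, lift_fst, lift_snd_assoc, lift_snd_assoc]

lemma part1 (top : G ⊗ T ⟶ G ⊗ T')
    (eqv : (AlgSt.leftMul G T).act ≫ top = (G ◁ top) ≫ (AlgSt.leftMul G T').act)
    (hw : top ≫ snd G T' = snd G T ≫ f)
    (wφ : top ≫ (G ◁ x') ≫ aX.act = (G ◁ x) ≫ aX.act) :
    ∃ g : T ⟶ G, lift g (f ≫ x') ≫ aX.act = x ∧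
      top = lift (fst G T * (snd G T ≫ g)) (snd G T ≫ f) := by
  obtain ⟨e, he⟩ : ∃ e : T ⟶ G ⊗ T, e = lift 1 (𝟙 T) := ⟨_, rfl⟩
  obtain ⟨g, hg⟩ : ∃ g : T ⟶ G, g = e ≫ top ≫ fst G T' := ⟨_, rfl⟩
  have hu : e ≫ top = lift g f := by
    apply CartesianMonoidalCategory.hom_ext
    · rw [lift_fst, hg, Category.assoc]
    · rw [lift_snd, Category.assoc, hw, he, lift_snd_assoc, Category.id_comp]
  have hpt : ∀ {W : Over S} (a : W ⟶ G) (t : W ⟶ T),
      lift a t ≫ top = lift (a * (t ≫ g)) (t ≫ f) := by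
    intro W a t
    have h1 : lift a t = lift a (lift 1 t) ≫ (AlgSt.leftMul G T).act := by
      rw [H5S12839.leftMul_pt, _root_.mul_one]
    have h2 : lift (1 : W ⟶ G) t = t ≫ e := by
      rw [he, comp_lift, Category.comp_id, MonObj.comp_one]
    rw [h1, Category.assoc, eqv, lift_whiskerLeft_assoc, h2, Category.assoc, hu, comp_lift,
      H5S12839.leftMul_pt]
  refine ⟨g, ?_, ?_⟩
  · have h1 := congrArg (fun q => e ≫ q) wφ
    rw [← Category.assoc, hu, lift_whiskerLeft_assoc, he, lift_whiskerLeft_assoc, Category.id_comp,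
      AlgGrp.Action.lift_one_act] at h1
    exact h1
  · apply AlgGrp.Action.hom_ext_lift₂
    intro W a t
    rw [hpt, top_pt]

lemma part2 (g : T ⟶ G) (hg : lift g (f ≫ x') ≫ aX.act = x) :
    (AlgSt.leftMul G T).act ≫ lift (fst G T * (snd G T ≫ g)) (snd G T ≫ f) =
        (G ◁ lift (fst G T * (snd G T ≫ g)) (snd G T ≫ f)) ≫ (AlgSt.leftMul G T').act ∧
      IsPullback (lift (fst G T * (snd G T ≫ g)) (snd G T ≫ f)) (snd G T) (snd G T') f ∧
      lift (fst G T * (snd G T ≫ g)) (snd G T ≫ f) ≫ (G ◁ x') ≫ aX.act = (G ◁ x) ≫ aX.act := by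
  refine ⟨?_, ?_, ?_⟩
  · apply H5S12839.ext_r3
    intro W a b t
    rw [← Category.assoc, H5S12839.leftMul_pt, top_pt, lift_whiskerLeft_assoc, top_pt,
      H5S12839.leftMul_pt, _root_.mul_assoc]
  · have key : ∀ {W : Over S} (p : W ⟶ G ⊗ T') (t : W ⟶ T) (h : p ≫ snd G T' = t ≫ f),
        ∃! m : W ⟶ G ⊗ T, m ≫ lift (fst G T * (snd G T ≫ g)) (snd G T ≫ f) = p ∧
          m ≫ snd G T = t := by
      intro W p t h
      refine ⟨lift ((p ≫ fst G T') * (t ≫ g)⁻¹) t, ⟨?_, lift_snd _ _⟩, ?_⟩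
      · rw [top_pt, inv_mul_cancel_right]
        apply CartesianMonoidalCategory.hom_ext
        · rw [lift_fst]
        · rw [lift_snd, h]
      · rintro m ⟨hm1, hm2⟩
        have hm : m = lift (m ≫ fst G T) t := by
          apply CartesianMonoidalCategory.hom_ext
          · rw [lift_fst]
          · rw [lift_snd, hm2]
        have h3 : (m ≫ fst G T) * (t ≫ g) = p ≫ fst G T' := by
          rw [← hm1]
          conv_rhs => rw [hm]
          rw [top_pt, lift_fst]
        rw [hm, ← h3, mul_inv_cancel_right]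
    refine ⟨⟨lift_snd _ _⟩, ⟨PullbackCone.IsLimit.mk _
      (fun s => (key s.fst s.snd s.condition).choose) ?_ ?_ ?_⟩⟩
    · intro s
      exact (key s.fst s.snd s.condition).choose_spec.1.1
    · intro s
      exact (key s.fst s.snd s.condition).choose_spec.1.2
    · intro s m hm1 hm2
      exact (key s.fst s.snd s.condition).choose_spec.2 m ⟨hm1, hm2⟩
  · apply AlgGrp.Action.hom_ext_lift₂
    intro W a t
    rw [← Category.assoc, top_pt, lift_whiskerLeft_assoc, lift_whiskerLeft_assoc,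
      AlgGrp.Action.lift_mul_act]
    congr 2
    rw [← hg, comp_lift_assoc, Category.assoc]

end

end H5S12838

open MonoidalCategory CartesianMonoidalCategory MonObj GrpObj in
/-- Let `G` be a group scheme over `S` acting on an `S`-scheme `X`, `f : T ⟶ T'` a morphism of
`S`-schemes, `x` a `T`-point and `x'` a `T'`-point of `X`. In the quotient category `[X/G]` (scheme
torsors for the fppf topology with an equivariant morphism to `X`) the canonical functor `X ⟶ [X/G]`
sends `x` to the trivial torsor `G ×_S T ⟶ T`, with `G` acting by left multiplication on the first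
factor and the equivariant morphism `(h, t) ↦ h · x(t)`, and likewise for `x'`. The morphisms from
the image of `x` to the image of `x'` lying over `f` are exactly the maps `(h, t) ↦ (h · g(t),
f(t))` for those `T`-points `g` of `G` with `g · (x' ∘ f) = x`: every morphism over `f` is of this
form, and every such `g` defines one. -/
theorem result (S : Scheme.{u}) (G : Over S) [GrpObj G] (X : Over S)
    (aX : AlgGrp.Action G X) (T T' : Over S) (f : T ⟶ T') (x : T ⟶ X) (x' : T' ⟶ X) :
    (∀ h : (AlgSt.quotMap Scheme.fppfPrecoverage G aX).obj ((AlgSt.ofOverCat X).obj (Over.mk x)) ⟶ (AlgSt.quotMap Scheme.fppfPrecoverage G aX).obj ((AlgSt.ofOverCat X).obj (Over.mk x')),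
        h.base = f → ∃ g : T ⟶ G, lift g (f ≫ x') ≫ aX.act = x ∧
          h.top = lift (fst G T * (snd G T ≫ g)) (snd G T ≫ f)) ∧
    (∀ g : T ⟶ G, lift g (f ≫ x') ≫ aX.act = x →
        ∃ h : (AlgSt.quotMap Scheme.fppfPrecoverage G aX).obj ((AlgSt.ofOverCat X).obj (Over.mk x)) ⟶ (AlgSt.quotMap Scheme.fppfPrecoverage G aX).obj ((AlgSt.ofOverCat X).obj (Over.mk x')),
          h.base = f ∧ h.top = lift (fst G T * (snd G T ≫ g)) (snd G T ≫ f)) := by
  refine ⟨fun h hb => ?_, fun g hg => ?_⟩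
  · have hw : h.top ≫ snd G T' = snd G T ≫ f := by
      rw [← hb]
      exact h.cart.w
    exact H5S12838.part1 aX f x x' h.top h.eqv hw h.wφ
  · obtain ⟨h1, h2, h3⟩ := H5S12838.part2 aX f x x' g hg
    exact ⟨⟨f, _, h1, h2, h3⟩, rfl, rfl⟩

end Groth.Agent.S12838
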