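import Groth.Agent.S12817
import Groth.Agent.S12774
import Groth.Agent.Lib.helper10.LiftIso
import Groth.Statements.S12848

set_option autoImplicit false
open CategoryTheory AlgebraicGeometry
universe u
open AlgSt

namespace Groth.Agent.S12848

/-- A monomorphism `f : 𝒳 ⟶ 𝒴` of algebraic stacks over `S` induces an injective map `|𝒳| → |𝒴|` on
points. -/
theorem result {S : Scheme.{u}} {𝒳 𝒴 : AlgSt.Cat S}
    (h𝒳 : AlgSt.IsAlgStack Scheme.fppfPrecoverage 𝒳) (h𝒴 : AlgSt.IsAlgStack Scheme.fppfPrecoverage 𝒴) (f : 𝒳 ⥤ᵇ 𝒴) (hf : AlgSt.IsMono f) :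
    Function.Injective (AlgSt.Points.map f) := by
  have hX := h𝒳.isStack.1
  have hY := h𝒴.isStack.1
  obtain ⟨hfull, -⟩ := Groth.Agent.S12774.result hX hY f hf
  intro x x' h
  obtain ⟨x₀, rfl⟩ := AlgSt.Points.mk_surjective x
  obtain ⟨x₀', rfl⟩ := AlgSt.Points.mk_surjective x'
  have hE := Groth.Agent.S12817.result 𝒴 hY
  have hrel : AlgSt.FPt.Rel (x₀.map f) (x₀'.map f) := by
    have h' : Quot.mk (@AlgSt.FPt.Rel S 𝒴) (x₀.map f) = Quot.mk (@AlgSt.FPt.Rel S 𝒴) (x₀'.map f) := h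
    exact (hE.eqvGen_iff).1 (Quot.eqvGen_exact h')
  obtain ⟨r, a, b, -⟩ := hrel
  obtain ⟨a', ha'⟩ : ∃ a' : r.obj ⟶ f.obj x₀.obj, a' = a := ⟨a, rfl⟩
  obtain ⟨b', hb'⟩ : ∃ b' : r.obj ⟶ f.obj x₀'.obj, b' = b := ⟨b, rfl⟩
  obtain ⟨x₁, m, ε, hεv, hε, dx⟩ := Groth.Agent.Lib.helper10.LiftIso.exists_lift_iso hX hY f x₀.obj a'
  obtain ⟨x₁', m', ε', hεv', hε', dx'⟩ := Groth.Agent.Lib.helper10.LiftIso.exists_lift_iso hX hY f x₀'.obj b'
  obtain ⟨φ, -⟩ := f.toFunctor.map_surjective (ε.inv ≫ ε'.hom)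
  apply AlgSt.Points.sound
  exact ⟨{ K := r.K, str := r.str, obj := x₁, lies := dx.trans r.lies }, m, φ ≫ m', trivial⟩

end Groth.Agent.S12848
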