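import Mathlib
import Groth.Statements.S12868

set_option autoImplicit false
open CategoryTheory AlgebraicGeometry
universe u
open AlgSt

namespace Groth.Agent.S12868

theorem mono_of_repWith {S : Scheme.{u}} (P : MorphismProperty Scheme.{u})
    (hP : ∀ {X Y : Scheme.{u}} (f : X ⟶ Y), P f → Mono f)
    {F G : AlgSp.Sp S} (f : F ⟶ G) (hf : AlgSp.RepWith P f) : Mono f := by
  have key : ∀ {X : Over S} {a b : (AlgSp.yon S).obj X ⟶ F}, a ≫ f = b ≫ f → a = b := by
    intro X a b h
    suffices hf.rep.lift (g := a ≫ f) a (𝟙 X) (by simp) = hf.rep.lift b (𝟙 X) (by simp [← h]) by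
      simpa using (AlgSp.yon S).congr_map this =≫ (hf.rep.fst (a ≫ f))
    have h1 : P (hf.rep.snd (a ≫ f)).left := hf.property_snd (a ≫ f)
    have h2 : Mono (hf.rep.snd (a ≫ f)).left := hP _ h1
    have : Mono (hf.rep.snd (a ≫ f)) := (Over.forget S).mono_of_mono_map h2
    simp only [← cancel_mono (hf.rep.snd (a ≫ f)), Functor.relativelyRepresentable.lift_snd]
  refine ⟨fun {Z} a b h => ?_⟩
  apply Sheaf.hom_ext
  apply hom_ext_uliftYoneda.{u+1}
  intro X p
  let p' : (AlgSp.yon S).obj X ⟶ Z := ⟨p⟩
  have := key (a := p' ≫ a) (b := p' ≫ b) (by simp only [Category.assoc, h])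
  exact congrArg (fun k => k.hom) this


/-- An immersion `f : 𝒳 ⟶ 𝒴` (representable by algebraic spaces, with every base change to a scheme a
representable immersion) is a monomorphism. (The published statement is about algebraic stacks; this
row holds for arbitrary categories over `(Sch/S)`.) -/
theorem result {S : Scheme.{u}} {𝒳 𝒴 : AlgSt.Cat S} (f : 𝒳 ⥤ᵇ 𝒴)
    (hf : AlgSt.IsImm f) : AlgSt.IsMono f := by
  intro U y
  obtain ⟨F, e, he, hP⟩ := hf U y
  refine ⟨F, e, he, ?_⟩
  exact mono_of_repWith @IsImmersion (fun f hf => by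
    have : IsImmersion f := hf
    infer_instance) _ hP

end Groth.Agent.S12868
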