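import Groth.Statements.S12898
import Mathlib
import Groth.Agent.Lib.helper2.HAdj
import Groth.Agent.Lib.helper2.KProjRes
import Groth.Agent.Lib.helper2.KanRecog
import Groth.Agent.Lib.helper2.KPc
-- import your own Groth.Agent.* helpers here

set_option autoImplicit false
universe u
open CategoryTheory CategoryTheory.Limits
attribute [local instance] HasDerivedCategory.standard
open DRing

namespace Groth.Agent.S12898

/-- Let φ : R → A be a map of commutative rings. The derived base change functor D(R) → D(A), E ↦ E
⊗^L_R A (the total left derived functor of extension of scalars, whose existence is the stated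
instance hypothesis, true), is left adjoint to the restriction functor D(A) → D(R). (Existence of an
adjunction only.) -/
theorem result {R A : Type u} [CommRing R] [CommRing A] (φ : R →+* A)
    [DRing.HasLBaseChange φ] :
    Nonempty (DRing.LBaseChange φ ⊣ DRing.restrictD φ) := by
  let W₁ := HomotopyCategory.quasiIso (ModuleCat.{u} R) (ComplexShape.up ℤ)
  let W₂ := HomotopyCategory.quasiIso (ModuleCat.{u} A) (ComplexShape.up ℤ)
  let adj := Groth.Agent.Lib.helper2.HAdj.adjH (ModuleCat.extendRestrictScalarsAdj φ)
    (ComplexShape.up ℤ)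
  let α := (DRing.baseChangeKh φ).totalLeftDerivedCounit DerivedCategory.Qh W₁
  let e := (ModuleCat.restrictScalars.{u} φ).mapDerivedCategoryFactorsh
  have i2 : (DRing.restrictD φ).IsRightDerivedFunctor e.inv W₂ :=
    Functor.isRightDerivedFunctor_of_inverts W₂ _ e
  have i4 : (DRing.restrictD φ ⋙ DRing.LBaseChange φ).IsRightDerivedFunctor
      (Functor.whiskerRight e.inv (DRing.LBaseChange φ) ≫ (Functor.associator _ _ _).hom) W₂ :=
    Functor.isRightDerivedFunctor_of_inverts W₂ _
      ((Functor.associator _ _ _).symm ≪≫ Functor.isoWhiskerRight e (DRing.LBaseChange φ))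
  have i3 : (DRing.LBaseChange φ ⋙ DRing.restrictD φ).IsLeftDerivedFunctor
      ((Functor.associator _ _ _).inv ≫ Functor.whiskerRight α (DRing.restrictD φ)) W₁ := by
    refine ⟨Groth.Agent.Lib.helper2.KanRecog.isRightKanExtension _ _ _ _
      (fun X => ∃ P : CochainComplex (ModuleCat.{u} R) ℤ, P.IsKProjective ∧
        X = (HomotopyCategory.quotient _ _).obj P) ?_ ?_ ?_⟩
    · rintro X ⟨P, hP, rfl⟩ c
      exact CochainComplex.IsKProjective.Qh_map_bijective P c
    · intro d
      obtain ⟨P, hP, ⟨e'⟩⟩ := Groth.Agent.Lib.helper2.KProjRes.exists_kprojective R d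
      exact ⟨_, ⟨P, hP, rfl⟩, ⟨e'⟩⟩
    · rintro X ⟨P, hP, rfl⟩
      have hK : (DRing.LBaseChange φ).IsRightKanExtension α :=
        Functor.IsLeftDerivedFunctor.isRightKanExtension _ α W₁
      have : IsIso (α.app ((HomotopyCategory.quotient _ _).obj P)) :=
        Groth.Agent.Lib.helper2.KPc.isIso_counit_Qh (DRing.baseChangeKh φ) (DRing.LBaseChange φ) α P
      dsimp
      infer_instance
  exact ⟨adj.derived W₁ W₂ α e.inv⟩

end Groth.Agent.S12898
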