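import Groth.Statements.S12899
import Mathlib
import Groth.Agent.Lib.helper2.TDev
import Groth.Agent.Lib.helper17.DRingTA
import Groth.Agent.Lib.helper2.KPc
-- import your own Groth.Agent.* helpers here

set_option autoImplicit false
universe u
open CategoryTheory CategoryTheory.Limits
attribute [local instance] HasDerivedCategory.standard
open DRing

namespace Groth.Agent.S12899

/-- Let R be a commutative ring, f ∈ R and M an object of D(R) such that (1) H^i(M) = 0 for i &gt; 0,
(2) in D(R_f), M ⊗^L_R R_f is isomorphic to a flat R_f-module concentrated in degree 0, and (3) in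
D(R/fR), M ⊗^L_R R/fR is isomorphic to a flat R/fR-module concentrated in degree 0. Then, in D(R), M
itself is isomorphic to a flat R-module concentrated in degree 0. (The derived base change functors
along R → R_f and R → R/fR are the stated instance hypotheses, both true.) -/
theorem result {R : Type u} [CommRing R] (f : R) (M : Dual.D R)
    [DRing.HasLBaseChange (algebraMap R (Localization.Away f))]
    [DRing.HasLBaseChange (Ideal.Quotient.mk (Ideal.span ({f} : Set R)))]
    (h1 : ∀ i : ℤ, 0 < i → Subsingleton (Dual.HD R M i))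
    (h2 : ∃ (N : Type u) (_ : AddCommGroup N) (_ : Module (Localization.Away f) N),
      Module.Flat (Localization.Away f) N ∧
        Nonempty ((DRing.LBaseChange (algebraMap R (Localization.Away f))).obj M ≅ Dual.inD (Localization.Away f) N))
    (h3 : ∃ (N : Type u) (_ : AddCommGroup N) (_ : Module (R ⧸ Ideal.span ({f} : Set R)) N),
      Module.Flat (R ⧸ Ideal.span ({f} : Set R)) N ∧
        Nonempty ((DRing.LBaseChange (Ideal.Quotient.mk (Ideal.span ({f} : Set R)))).obj M ≅
          Dual.inD (R ⧸ Ideal.span ({f} : Set R)) N)) :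
    ∃ (N : Type u) (_ : AddCommGroup N) (_ : Module R N), Module.Flat R N ∧ Nonempty (M ≅ Dual.inD R N) := by
  obtain ⟨P, hPK, hPfl, ⟨e⟩⟩ := Groth.Agent.Lib.helper2.KProjRes.exists_kprojective_flat R M
  have eH : ∀ n : ℤ, P.homology n ≅ (DerivedCategory.homologyFunctor (ModuleCat.{u} R) n).obj M :=
    fun n => ((DerivedCategory.homologyFunctorFactors (ModuleCat.{u} R) n).app P).symm ≪≫
      (DerivedCategory.homologyFunctor (ModuleCat.{u} R) n).mapIso e
  -- positive degrees
  have hpos : ∀ (N : ModuleCat.{u} R) (i : ℤ), 0 < i → Limits.IsZero ((CohIII.TFun P i).obj N) := by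
    intro N i hi
    have h1' : ∀ j : ℤ, 1 ≤ j → Limits.IsZero (P.homology j) := fun j hj => by
      have := h1 j (by omega)
      exact (ModuleCat.isZero_of_subsingleton _).of_iso (eH j)
    exact Groth.Agent.Lib.helper2.NilDev.isZero_T_of_homology_vanishing P 1 h1' N i (by omega)
  -- modules killed by `f`
  obtain ⟨N3, _, _, hN3fl, ⟨e3⟩⟩ := h3
  have inst3 : DRing.HasLBaseChange (algebraMap R (R ⧸ Ideal.span ({f} : Set R))) :=
    (inferInstance : DRing.HasLBaseChange (Ideal.Quotient.mk (Ideal.span ({f} : Set R))))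
  have hK3 := Groth.Agent.Lib.helper2.NilDev.isKProjective_bcCx
    (algebraMap R (R ⧸ Ideal.span ({f} : Set R))) P
  have hta3 : DRing.HasTorAmplitudeIn (R ⧸ Ideal.span ({f} : Set R)) 0 0
      (DerivedCategory.Q.obj ((Groth.Agent.Lib.helper2.KPc.bcCx
        (algebraMap R (R ⧸ Ideal.span ({f} : Set R)))).obj P)) := by
    refine Groth.Agent.Lib.helper17.DRingTA.torAmp_of_iso
      (Groth.Agent.Lib.helper17.DRingTA.torAmp_single_of_flat
        (ModuleCat.of (R ⧸ Ideal.span ({f} : Set R)) N3) hN3fl) ?_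
    exact e3.symm ≪≫ (DRing.LBaseChange (Ideal.Quotient.mk (Ideal.span ({f} : Set R)))).mapIso e.symm ≪≫
      Groth.Agent.Lib.helper2.KPc.LBaseChangeIso (algebraMap R (R ⧸ Ideal.span ({f} : Set R))) P
  have hker : RingHom.ker (algebraMap R (R ⧸ Ideal.span ({f} : Set R))) = Ideal.span {f} :=
    Ideal.mk_ker
  have hsurj : Function.Surjective (algebraMap R (R ⧸ Ideal.span ({f} : Set R))) :=
    Ideal.Quotient.mk_surjective
  have hkill : ∀ i : ℤ, i ≠ 0 → ∀ (N : Type u) [AddCommGroup N] [Module R N],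
      (∀ x : N, f • x = 0) → Limits.IsZero ((CohIII.TFun P i).obj (ModuleCat.of R N)) := by
    intro i hi N _ _ hN
    refine Groth.Agent.Lib.helper2.NilDev.isZero_T_of_killed hsurj P i
      (fun M' => Groth.Agent.Lib.helper2.NilDev.isZero_T_of_torAmp _ 0 0 hta3 M' i (by omega)) N ?_
    intro r hr x
    rw [hker] at hr
    obtain ⟨a, rfl⟩ := Ideal.mem_span_singleton'.1 hr
    rw [mul_smul, hN, smul_zero]
  have htors : ∀ i : ℤ, i ≠ 0 → ∀ (T : Type u) [AddCommGroup T] [Module R T],
      (∀ x : T, ∃ n : ℕ, f ^ n • x = 0) →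
      Limits.IsZero ((CohIII.TFun P i).obj (ModuleCat.of R T)) := fun i hi T _ _ hT =>
    Groth.Agent.Lib.helper2.TDev.isZero_T_of_powerTorsion f P hPfl i (hkill i hi) T hT
  -- modules over the localization
  obtain ⟨N2, _, _, hN2fl, ⟨e2⟩⟩ := h2
  have hK2 := Groth.Agent.Lib.helper2.NilDev.isKProjective_bcCx
    (algebraMap R (Localization.Away f)) P
  have hta2 : DRing.HasTorAmplitudeIn (Localization.Away f) 0 0
      (DerivedCategory.Q.obj ((Groth.Agent.Lib.helper2.KPc.bcCx
        (algebraMap R (Localization.Away f))).obj P)) := by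
    refine Groth.Agent.Lib.helper17.DRingTA.torAmp_of_iso
      (Groth.Agent.Lib.helper17.DRingTA.torAmp_single_of_flat
        (ModuleCat.of (Localization.Away f) N2) hN2fl) ?_
    exact e2.symm ≪≫ (DRing.LBaseChange (algebraMap R (Localization.Away f))).mapIso e.symm ≪≫
      Groth.Agent.Lib.helper2.KPc.LBaseChangeIso (algebraMap R (Localization.Away f)) P
  have hloc : ∀ i : ℤ, i ≠ 0 → ∀ M' : ModuleCat.{u} (Localization.Away f),
      Limits.IsZero ((CohIII.TFun P i).obj
        ((ModuleCat.restrictScalars (algebraMap R (Localization.Away f))).obj M')) := fun i hi M' =>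
    Groth.Agent.Lib.helper2.NilDev.isZero_T_res M' P i
      (Groth.Agent.Lib.helper2.NilDev.isZero_T_of_torAmp _ 0 0 hta2 M' i (by omega))
  -- negative degrees
  have hneg : ∀ (N : ModuleCat.{u} R) (i : ℤ), i < 0 →
      Limits.IsZero ((CohIII.TFun P i).obj N) := fun N i hi =>
    Groth.Agent.Lib.helper2.TDev.isZero_T_of_loc f P hPfl i
      (fun j hj T _ _ hT => htors j (by omega) T hT) (hloc i (by omega)) N
  have hta : DRing.HasTorAmplitudeIn R 0 0 (DerivedCategory.Q.obj P) :=
    Groth.Agent.Lib.helper2.NilDev.torAmp_of_isZero_T P 0 0 (fun N i hi => by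
      rcases hi with hi | hi
      · exact hneg N i hi
      · exact hpos N i hi)
  obtain ⟨E, hEz, hEfl, ⟨eE⟩⟩ := hta
  have hge : E.IsStrictlyGE 0 := by
    rw [CochainComplex.isStrictlyGE_iff]
    exact fun i hi => hEz i (Or.inl hi)
  have hle : E.IsStrictlyLE 0 := by
    rw [CochainComplex.isStrictlyLE_iff]
    exact fun i hi => hEz i (Or.inr hi)
  obtain ⟨N0, ⟨eN⟩⟩ := CochainComplex.exists_iso_single E 0
  have eX : E.X 0 ≅ N0 := (HomologicalComplex.eval _ _ 0).mapIso eN ≪≫
    HomologicalComplex.singleObjXSelf (ComplexShape.up ℤ) 0 N0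
  have hfl : Module.Flat R N0 := by
    have := hEfl 0
    exact Module.Flat.of_linearEquiv eX.toLinearEquiv.symm
  refine ⟨N0, inferInstance, inferInstance, hfl, ⟨?_⟩⟩
  exact e.symm ≪≫ eE.symm ≪≫ DerivedCategory.Q.mapIso eN ≪≫
    Groth.Agent.Lib.helper17.PCohLES.QSingleIso N0 0

end Groth.Agent.S12899
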