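import Groth.Statements.S12902
import Groth.Agent.Lib.helper9.PushQCQS
import Groth.Agent.Lib.helper9.QcohLocal

set_option autoImplicit false
universe u
open CategoryTheory CategoryTheory.Limits AlgebraicGeometry
open Coherent

namespace Groth.Agent.S12902

open CategoryTheory CategoryTheory.Limits AlgebraicGeometry Scheme.Modules in
set_option backward.isDefEq.respectTransparency false in
lemma main {U X : Scheme.{u}} (j : U ⟶ X) [IsOpenImmersion j] [QuasiCompact j]
    (F : X.Modules) [F.IsQuasicoherent] :
    ((DCoh.gammaZ j).obj F).IsQuasicoherent := by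
  haveI h1 : (F.restrict j).IsQuasicoherent := inferInstance
  haveI h4 : ((pushforward j).obj (F.restrict j)).IsQuasicoherent :=
    Groth.Agent.Lib.helper9.PushQCQS.isQuasicoherent_pushforward_qcqs j _
  let η : F ⟶ (pushforward j).obj (F.restrict j) := (restrictAdjunction j).unit.app F
  exact (Groth.Agent.Lib.helper9.QcohLocal.isQuasicoherent_kernel η :
    (kernel η).IsQuasicoherent)


/-- Let X be a scheme, j : U → X a quasi-compact open immersion, Z the closed complement of U, and F a
quasi-coherent O_X-module. Then the subsheaf Γ_Z(F) ⊆ F of sections supported in Z (the kernel of F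
→ j_*(F|_U)) is a quasi-coherent O_X-module. -/
theorem result {U X : Scheme.{u}} (j : U ⟶ X) [IsOpenImmersion j] [QuasiCompact j]
    (F : X.Modules) (hF : Coh.IsQCoh F) :
    Coh.IsQCoh ((DCoh.gammaZ j).obj F) := by
  haveI : F.IsQuasicoherent := hF
  exact main j F

end Groth.Agent.S12902
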