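import Groth.Statements.S12903
import Groth.Agent.Lib.helper9.PushQCQS
import Groth.Agent.Lib.helper9.QcohLoc
import Groth.Agent.Lib.helper9.CohB3
import Groth.Agent.Lib.helper9.ZC7

set_option autoImplicit false
universe u
open CategoryTheory CategoryTheory.Limits AlgebraicGeometry Opposite
open Coherent

namespace Groth.Agent.S12903

open CategoryTheory CategoryTheory.Limits AlgebraicGeometry Opposite Scheme.Modules in
set_option backward.isDefEq.respectTransparency false in
/-- sections of a kernel. -/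
lemma exists_kernel_section {X : Scheme.{u}} {F G : X.Modules} (φ : F ⟶ G) (V : X.Opens)
    (s : Γ(F, V)) (hs : φ.app V s = 0) :
    ∃ t : Γ(kernel φ, V), (kernel.ι φ).app V t = s := by
  let ev : X.Modules ⥤ Ab.{u} := Scheme.Modules.toPresheaf X ⋙ (evaluation _ _).obj (op V)
  haveI : ev.PreservesZeroMorphisms := ⟨fun _ _ => rfl⟩
  haveI : PreservesLimit (parallelPair φ 0) ev := by
    haveI h1 : PreservesLimit (parallelPair φ 0) (Scheme.Modules.toPresheaf X) := inferInstance
    haveI h3 : PreservesLimitsOfShape WalkingParallelPair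
        ((evaluation (TopologicalSpace.Opens ↥X)ᵒᵖ Ab.{u}).obj (op V)) :=
      evaluation_preservesLimitsOfShape _
    haveI h2 : PreservesLimit (parallelPair φ 0 ⋙ Scheme.Modules.toPresheaf X)
        ((evaluation (TopologicalSpace.Opens ↥X)ᵒᵖ Ab.{u}).obj (op V)) := h3.preservesLimit
    exact comp_preservesLimit _ _
  have hlim : IsLimit ((KernelFork.ofι (kernel.ι φ) (kernel.condition φ)).map ev) :=
    KernelFork.mapIsLimit _ (kernelIsKernel φ) ev
  let k : AddCommGrpCat.of (ULift.{u} ℤ) ⟶ ev.obj F :=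
    AddCommGrpCat.ofHom ((zmultiplesHom Γ(F, V) s).comp (AddEquiv.ulift.toAddMonoidHom))
  have hk : k ≫ ev.map φ = 0 := by
    refine ConcreteCategory.hom_ext _ _ (fun n => ?_)
    show φ.app V (n.down • s) = 0
    rw [map_zsmul, hs, smul_zero]
  obtain ⟨l, hl⟩ := KernelFork.IsLimit.lift' hlim k hk
  refine ⟨l (ULift.up 1), ?_⟩
  have h1 := congrArg (fun ψ : AddCommGrpCat.of (ULift.{u} ℤ) ⟶ ev.obj F => ψ (ULift.up 1)) hl
  refine Eq.trans ?_ (h1.trans ?_)
  · rfl
  · show (1 : ℤ) • s = s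
    exact one_zsmul s

open CategoryTheory CategoryTheory.Limits AlgebraicGeometry Opposite Scheme.Modules
  Groth.Agent.Lib.helper9.ZC in
set_option backward.isDefEq.respectTransparency false in
lemma main {U X : Scheme.{u}} (j : U ⟶ X) [IsOpenImmersion j] [QuasiCompact j]
    (F : X.Modules) (hF : Coh.IsQCoh F) (V : X.Opens) (hV : IsAffineOpen V)
    (I : Ideal (X.ringCatSheaf.obj.obj (op V))) (hI : I.FG)
    (hZ : ∀ x : X, x ∈ V → (x ∉ Set.range j.base ↔ ∀ f ∈ I, x ∉ X.basicOpen (f : Γ(X, V))))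
    (s : F.val.obj (op V)) :
    s ∈ Set.range ((((CxOX.gammaZι j).app F).val.app (op V)).hom) ↔
      ∃ n : ℕ, ∀ a ∈ I ^ n, a • s = 0 := by
  haveI : F.IsQuasicoherent := hF
  let η : F ⟶ (pushforward j).obj (F.restrict j) := (restrictAdjunction j).unit.app F
  have hWV : j ''ᵁ j ⁻¹ᵁ V ≤ V := j.image_preimage_le V
  have hmemW : ∀ x : X, x ∈ j ''ᵁ j ⁻¹ᵁ V ↔ (x ∈ V ∧ x ∈ Set.range j.base) := by
    intro x
    rw [Scheme.Hom.image_preimage_eq_opensRange_inf j V]
    constructor
    · rintro ⟨h1, h2⟩; exact ⟨h2, h1⟩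
    · rintro ⟨h1, h2⟩; exact ⟨h2, h1⟩
  have hDW : ∀ f : Γ(X, V), f ∈ (show Ideal Γ(X, V) from I) → X.basicOpen f ≤ j ''ᵁ j ⁻¹ᵁ V := by
    intro f hf x hx
    have hxV : x ∈ V := X.basicOpen_le _ hx
    rw [hmemW]
    refine ⟨hxV, ?_⟩
    by_contra hnr
    exact ((hZ x hxV).mp hnr) f hf hx
  have hcovW : ∀ x ∈ j ''ᵁ j ⁻¹ᵁ V, ∃ f : Γ(X, V), f ∈ (show Ideal Γ(X, V) from I) ∧
      x ∈ X.basicOpen f := by
    intro x hx
    obtain ⟨hxV, hxr⟩ := (hmemW x).mp hx
    by_contra hcon
    push Not at hcon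
    exact ((hZ x hxV).mpr (fun f hf => hcon f hf)) hxr
  constructor
  · rintro ⟨t, ht⟩
    have hs : (kernel.ι η).app V t = (show Γ(F, V) from s) := ht
    have h0 : F.presheaf.map (homOfLE hWV).op (show Γ(F, V) from s) = 0 := by
      rw [← hs]
      have hc : kernel.ι η ≫ η = 0 := kernel.condition η
      exact congrArg (fun ψ : kernel η ⟶ (pushforward j).obj (F.restrict j) => ψ.app V t) hc
    have hrad : (show Ideal Γ(X, V) from I) ≤
        ((Submodule.span Γ(X, V) {(show Γ(F, V) from s)}).annihilator).radical := by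
      intro f hf
      have hle : X.basicOpen f ≤ V := X.basicOpen_le f
      have h1 : F.presheaf.map (homOfLE hle).op (show Γ(F, V) from s) = 0 := by
        rw [← map_map_op F (homOfLE hWV) (homOfLE (hDW f hf)) (homOfLE hle)
          (show Γ(F, V) from s), h0, map_zero]
      obtain ⟨n, hn⟩ := Groth.Agent.Lib.helper9.QcohLoc.exists_pow_smul_eq_zero F hV f
        (X.basicOpen f) rfl hle (show Γ(F, V) from s) h1
      exact ⟨n, (Submodule.mem_annihilator_span_singleton _ _).mpr hn⟩
    obtain ⟨n, hn⟩ := Ideal.exists_pow_le_of_le_radical_of_fg hrad hI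
    refine ⟨n, fun a ha => ?_⟩
    exact (Submodule.mem_annihilator_span_singleton _ _).mp (hn ha)
  · rintro ⟨n, hn⟩
    have h0 : η.app V (show Γ(F, V) from s) = 0 := by
      show F.presheaf.map (homOfLE hWV).op (show Γ(F, V) from s) = 0
      apply eq_zero_of_germ_eq_zero F (j ''ᵁ j ⁻¹ᵁ V)
      intro x hx
      obtain ⟨f, hf, hxf⟩ := hcovW x hx
      have hxV : x ∈ V := hWV hx
      refine (germ_res F hWV x hx (show Γ(F, V) from s)).trans ?_
      have hfn : f ^ n ∈ (show Ideal Γ(X, V) from I) ^ n := Ideal.pow_mem_pow hf n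
      have h1 : (f ^ n) • (show Γ(F, V) from s) = 0 := hn _ hfn
      have h2 := Groth.Agent.Lib.helper9.CohB.germ_smul F x V hxV (f ^ n) (show Γ(F, V) from s)
      rw [h1, map_zero] at h2
      have hu : IsUnit (X.presheaf.germ V x hxV (f ^ n)) := by
        rw [map_pow]
        exact ((X.mem_basicOpen f x hxV).mp hxf).pow n
      exact (hu.smul_eq_zero).mp h2.symm
    obtain ⟨t, ht⟩ := exists_kernel_section η V (show Γ(F, V) from s) h0
    exact ⟨t, ht⟩


/-- Let X be a scheme, j : U → X a quasi-compact open immersion with closed complement Z, F a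
quasi-coherent O_X-module, V an affine open of X and I a finitely generated ideal of Γ(V, O_X)
cutting out Z ∩ V (a point of V lies outside U if and only if it lies in no basic open X_f with f ∈
I). Then a section s of F over V belongs to the subsheaf Γ_Z(F) of sections supported in Z (the
kernel of F → j_*(F|_U)) if and only if I^n s = 0 for some n. -/
theorem result {U X : Scheme.{u}} (j : U ⟶ X) [IsOpenImmersion j] [QuasiCompact j]
    (F : X.Modules) (hF : Coh.IsQCoh F) (V : X.Opens) (hV : IsAffineOpen V)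
    (I : Ideal (X.ringCatSheaf.obj.obj (op V))) (hI : I.FG)
    (hZ : ∀ x : X, x ∈ V → (x ∉ Set.range j.base ↔ ∀ f ∈ I, x ∉ X.basicOpen (f : Γ(X, V))))
    (s : F.val.obj (op V)) :
    s ∈ Set.range ((((CxOX.gammaZι j).app F).val.app (op V)).hom) ↔ ∃ n : ℕ, ∀ a ∈ I ^ n, a • s = 0 := by
  exact main j F hF V hV I hI hZ s

end Groth.Agent.S12903
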