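import Groth.Statements.S12918
import Mathlib
import Groth.Agent.Lib.helper28.TotInt

set_option autoImplicit false
universe u v w
open HopfRep

namespace Groth.Agent.S12918

open Groth.Agent.Lib.helper28.TotInt
open TensorProduct

lemma hmSMul_eq_mul (k : Type u) [CommRing k] (A : Type v) [CommRing A] [Bialgebra k A]
    (B : Type w) [CommRing B] [Algebra k B] (x y : B ⊗[k] A) :
    TameAct.hmSMul k A B B x y = x * y := by
  induction x using TensorProduct.induction_on with
  | zero => simp
  | tmul b a =>
    induction y using TensorProduct.induction_on with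
    | zero => simp
    | tmul m a' => simp [Algebra.TensorProduct.tmul_mul_tmul]
    | add y z hy hz => rw [map_add, hy, hz, mul_add]
  | add x z hx hz => rw [map_add, LinearMap.add_apply, hx, hz, add_mul]


/-- Let `k` be a commutative ring, `A` a commutative Hopf algebra over `k`, flat as a `k`-module and `B`
a commutative `k`-algebra with a coaction `ρ : B → B ⊗ A` that is an algebra map (an action of the
affine group scheme `Spec A` on `Spec B`). Then the action admits a total integral — a comodule map
`α : A → B`, for the regular coaction on `A`, with `α 1 = 1` — if and only if `ρ` has a left inverse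
`B ⊗ A → B` which is a comodule map for the coaction `id ⊗ Δ` on `B ⊗ A`. -/
theorem result
    (k : Type u) [CommRing k] (A : Type v) [CommRing A] [HopfAlgebra k A] [Module.Flat k A]
    (B : Type w) [CommRing B] [Algebra k B] [HopfRep.Comod k A B] [GLin.IsCoactAlg k A B] :
    (∃ α : A →ₗ[k] B, Hoch.IsComodHom A α ∧ α 1 = 1) ↔
      ∃ lam : Hoch.Ind k A B →ₗ[k] B, Hoch.IsComodHom A lam ∧ lam ∘ₗ Hoch.toInd k A B = LinearMap.id := by
  haveI : TameAct.IsHopfMod k A B B := ⟨fun b m => by
    rw [smul_eq_mul, GLin.IsCoactAlg.coact_mul (k := k) (A := A), hmSMul_eq_mul]⟩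
  constructor
  · rintro ⟨α, hα, hα1⟩
    exact ⟨lam k A B B α ∘ₗ (Hoch.Ind.equiv k A B).symm.toLinearMap,
      isComodHom_lam k A B B α hα, lam_comp_toInd k A B B α hα1⟩
  · rintro ⟨lam', hlam, hinv⟩
    refine ⟨lam' ∘ₗ (Hoch.Ind.equiv k A B).toLinearMap ∘ₗ TensorProduct.mk k B A 1, ?_, ?_⟩
    · show HopfRep.Comod.coact (k := k) (A := A) (V := B) ∘ₗ _ = _
      apply LinearMap.ext
      intro a
      have h1 := LinearMap.congr_fun hlam (Hoch.Ind.equiv k A B ((1 : B) ⊗ₜ[k] a))
      simp only [LinearMap.comp_apply] at h1
      simp only [LinearMap.comp_apply, LinearEquiv.coe_coe, TensorProduct.mk_apply]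
      rw [h1, Hoch.Ind.coact_equiv_tmul]
      have h2 : HopfRep.Comod.coact (k := k) (A := A) (V := A) a =
          CoalgebraStruct.comul (R := k) (A := A) a := rfl
      rw [h2]
      have h4 : (TensorProduct.assoc k B A A).symm.toLinearMap ∘ₗ
          (TensorProduct.mk k B (A ⊗[k] A) 1) = (TensorProduct.mk k B A 1).rTensor A := by
        ext x y
        simp
      have h5 := LinearMap.congr_fun h4 (CoalgebraStruct.comul (R := k) (A := A) a)
      simp only [LinearMap.comp_apply, LinearEquiv.coe_coe, TensorProduct.mk_apply] at h5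
      rw [h5]
      have h6 : (lam' ∘ₗ (Hoch.Ind.equiv k A B).toLinearMap ∘ₗ TensorProduct.mk k B A 1).rTensor A =
          lam'.rTensor A ∘ₗ ((Hoch.Ind.equiv k A B).toLinearMap ∘ₗ TensorProduct.mk k B A 1).rTensor A :=
        LinearMap.rTensor_comp _ _ _
      rw [h6, LinearMap.comp_apply]
      rfl
    · have h3 := LinearMap.congr_fun hinv (1 : B)
      simp only [LinearMap.comp_apply, LinearMap.id_apply, Hoch.toInd, LinearEquiv.coe_coe] at h3
      rw [GLin.IsCoactAlg.coact_one (k := k) (A := A) (R := B), Algebra.TensorProduct.one_def] at h3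
      simpa using h3

end Groth.Agent.S12918
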