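import Groth.Statements.S1292
import Mathlib
import Groth.Agent.S1235
import Groth.Agent.Lib.helper17.WETorAmp

set_option autoImplicit false
universe u
open CategoryTheory
attribute [local instance] HasDerivedCategory.standard
open FlatMor

namespace Groth.Agent.S1292

open IsLocalRing in
/-- Let A be a ring, p a prime ideal of A, Ah a henselization and Ash a strict henselization of the
local ring A_p, with Ash an Ah-algebra compatibly with the structure maps from A_p, and a, b
integers. Tor amplitude is meant in the flat-representative form: an object of the derived category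
of a ring has tor amplitude in [a, b] when it is isomorphic to a complex of flat modules vanishing
outside degrees [a, b]. For K in D(Ash) the following are equivalent: K with scalars restricted to
A_p has tor amplitude in [a, b]; K with scalars restricted to Ah has tor amplitude in [a, b]; K has
tor amplitude in [a, b] over Ash. Moreover, for L in D(Ah): L with scalars restricted to A_p has tor
amplitude in [a, b] if and only if L has tor amplitude in [a, b] over Ah. (The published statement
is for a general scheme S; this is the case S = Spec A.) -/
theorem result {A : Type u} [CommRing A] (p : Ideal A) [p.IsPrime]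
    (Ah Ash : Type u) [CommRing Ah] [IsLocalRing Ah] [CommRing Ash] [IsLocalRing Ash]
    [Algebra (Localization.AtPrime p) Ah] [IsLocalHom (algebraMap (Localization.AtPrime p) Ah)] [Hensel.IsHenselization (Localization.AtPrime p) Ah]
    [Algebra (Localization.AtPrime p) Ash] [IsLocalHom (algebraMap (Localization.AtPrime p) Ash)] [Hensel.IsStrictHenselization (Localization.AtPrime p) Ash]
    [Algebra Ah Ash] [IsScalarTower (Localization.AtPrime p) Ah Ash]
    (a b : ℤ) (K : Dual.D Ash) (L : Dual.D Ah) :
    [DRing.HasTorAmplitudeIn (Localization.AtPrime p) a b ((DRing.restrictD (algebraMap (Localization.AtPrime p) Ash)).obj K),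
     DRing.HasTorAmplitudeIn Ah a b ((DRing.restrictD (algebraMap Ah Ash)).obj K),
     DRing.HasTorAmplitudeIn Ash a b K].TFAE ∧
    (DRing.HasTorAmplitudeIn (Localization.AtPrime p) a b ((DRing.restrictD (algebraMap (Localization.AtPrime p) Ah)).obj L) ↔
      DRing.HasTorAmplitudeIn Ah a b L) := by
  obtain ⟨M1⟩ := Groth.Agent.Lib.lead.SH.exists_model_of_hens (R := Localization.AtPrime p) Ah
  obtain ⟨M2⟩ := Groth.Agent.Lib.lead.SH.exists_model_of_strict (R := Localization.AtPrime p) Ash
  haveI f1 : Module.Flat (Localization.AtPrime p) Ah := M1.flat
  haveI f2 : Module.Flat (Localization.AtPrime p) Ash := M2.flat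
  -- modules over `Ash`
  have keySh : ∀ M : ModuleCat.{u} Ash,
      (Module.Flat (Localization.AtPrime p)
        ((ModuleCat.restrictScalars (algebraMap (Localization.AtPrime p) Ash)).obj M) →
          Module.Flat Ash M) ∧
      (Module.Flat Ah ((ModuleCat.restrictScalars (algebraMap Ah Ash)).obj M) →
          Module.Flat Ash M) := by
    intro M
    letI : Module Ah M := Module.compHom M (algebraMap Ah Ash)
    letI : Module (Localization.AtPrime p) M :=
      Module.compHom M (algebraMap (Localization.AtPrime p) Ash)
    haveI : IsScalarTower Ah Ash M := IsScalarTower.of_algebraMap_smul (fun r m => rfl)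
    haveI : IsScalarTower (Localization.AtPrime p) Ash M :=
      IsScalarTower.of_algebraMap_smul (fun r m => rfl)
    haveI : IsScalarTower (Localization.AtPrime p) Ah M :=
      IsScalarTower.of_algebraMap_smul (fun r m => by
        change algebraMap Ah Ash (algebraMap (Localization.AtPrime p) Ah r) • m =
          algebraMap (Localization.AtPrime p) Ash r • m
        rw [← IsScalarTower.algebraMap_apply])
    have T := (Groth.Agent.S1235.result p Ah Ash M Ah).1
    exact ⟨fun h => (T.out 0 2).1 h, fun h => (T.out 1 2).1 h⟩
  -- modules over `Ah`
  have keyH : ∀ M : ModuleCat.{u} Ah,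
      Module.Flat (Localization.AtPrime p)
        ((ModuleCat.restrictScalars (algebraMap (Localization.AtPrime p) Ah)).obj M) →
          Module.Flat Ah M := by
    intro M
    letI : Module (Localization.AtPrime p) M :=
      Module.compHom M (algebraMap (Localization.AtPrime p) Ah)
    haveI : IsScalarTower (Localization.AtPrime p) Ah M :=
      IsScalarTower.of_algebraMap_smul (fun r m => rfl)
    have T := (Groth.Agent.S1235.result p Ah Ash Ash M).2
    exact fun h => T.1 h
  have f3 : Module.Flat Ah Ash := by
    have T := (Groth.Agent.S1235.result p Ah Ash Ash Ah).1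
    exact (T.out 0 1).1 f2
  have hφ1 : (algebraMap (Localization.AtPrime p) Ash).Flat :=
    RingHom.flat_algebraMap_iff.2 f2
  have hφ2 : (algebraMap Ah Ash).Flat := RingHom.flat_algebraMap_iff.2 f3
  have hφ3 : (algebraMap (Localization.AtPrime p) Ah).Flat :=
    RingHom.flat_algebraMap_iff.2 f1
  refine ⟨?_, ?_⟩
  · tfae_have 1 ↔ 3 := Groth.Agent.Lib.helper17.WETorAmp.torAmp_resD_iff
      (algebraMap (Localization.AtPrime p) Ash) hφ1 (fun M => (keySh M).1) K a b
    tfae_have 2 ↔ 3 := Groth.Agent.Lib.helper17.WETorAmp.torAmp_resD_iff
      (algebraMap Ah Ash) hφ2 (fun M => (keySh M).2) K a b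
    tfae_finish
  · exact Groth.Agent.Lib.helper17.WETorAmp.torAmp_resD_iff
      (algebraMap (Localization.AtPrime p) Ah) hφ3 keyH L a b

end Groth.Agent.S1292
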