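import Groth.Statements.S12921
import Mathlib
import Groth.Agent.Lib.helper28.TotIntAlg

set_option autoImplicit false
universe u v w
open HopfRep

namespace Groth.Agent.S12921

open Groth.Agent.Lib.helper28.TotIntAlg

/-- Let `k` be a commutative ring, `A` a commutative Hopf algebra over `k`, flat as a `k`-module, `B` a
commutative `k`-algebra with a coaction of `A` that is an algebra map and admits a total integral (a
comodule map `α : A → B` with `α 1 = 1`), and `C = B^A` the subring of invariants. Then for every
ideal `c` of `C` one has `cB ∩ C = c`. (The published statement assumes only that taking invariants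
is exact on `(B, A)`-modules; a total integral, assumed here, gives that exactness.) -/
theorem result
    (k : Type u) [CommRing k] (A : Type v) [CommRing A] [HopfAlgebra k A] [Module.Flat k A]
    (B : Type w) [CommRing B] [Algebra k B] [HopfRep.Comod k A B] [GLin.IsCoactAlg k A B]
    (htame : ∃ α : A →ₗ[k] B, Hoch.IsComodHom A α ∧ α 1 = 1)
    (c : Ideal (GLin.invariants k A B)) :
    (c.map (algebraMap (GLin.invariants k A B) B)).comap (algebraMap (GLin.invariants k A B) B) = c := by
  obtain ⟨α, hα, hα1⟩ := htame
  apply le_antisymm
  · intro x hx
    rw [Ideal.mem_comap] at hx
    set r := ReyC k A B α hα with hr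
    have key : ∀ y ∈ c.map (algebraMap (GLin.invariants k A B) B), ∀ b : B, r (b * y) ∈ c := by
      intro y hy
      rw [Ideal.map] at hy
      induction hy using Submodule.span_induction with
      | mem y hy =>
        obtain ⟨z, hz, rfl⟩ := hy
        intro b
        have h1 : b * algebraMap (GLin.invariants k A B) B z = z • b := by
          rw [Algebra.smul_def, mul_comm]
        rw [h1, map_smul, smul_eq_mul]
        exact c.mul_mem_right _ hz
      | zero =>
        intro b
        rw [mul_zero, map_zero]
        exact c.zero_mem
      | add y z _ _ hy hz =>
        intro b
        rw [mul_add, map_add]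
        exact c.add_mem (hy b) (hz b)
      | smul a y _ hy =>
        intro b
        rw [smul_eq_mul, ← mul_assoc]
        exact hy (b * a)
    have h2 := key _ hx 1
    rw [one_mul, hr, ReyC_algebraMap k A B α hα hα1] at h2
    exact h2
  · exact Ideal.le_comap_map

end Groth.Agent.S12921
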