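import Groth.Statements.S12923
import Mathlib
import Groth.Agent.Lib.helper28.TotIntAlg

set_option autoImplicit false
universe u v w
open HopfRep

namespace Groth.Agent.S12923

open Groth.Agent.Lib.helper28.TotIntAlg

/-- Let `k` be a commutative ring, `A` a commutative Hopf algebra over `k`, flat as a `k`-module, `B` a
commutative `k`-algebra with a coaction of `A` that is an algebra map and admits a total integral (a
comodule map `α : A → B` with `α 1 = 1`), `C = B^A`, and `b` an ideal of `B` which is a subcomodule
(a closed subscheme of `Spec B` stable under the action). Then the image of `V(b)` under `Spec B →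
Spec C` is the closed set `V(b ∩ C)`. (The published statement assumes only that taking invariants
is exact on `(B, A)`-modules; a total integral, assumed here, gives that exactness.) -/
theorem result
    (k : Type u) [CommRing k] (A : Type v) [CommRing A] [HopfAlgebra k A] [Module.Flat k A]
    (B : Type w) [CommRing B] [Algebra k B] [HopfRep.Comod k A B] [GLin.IsCoactAlg k A B]
    (htame : ∃ α : A →ₗ[k] B, Hoch.IsComodHom A α ∧ α 1 = 1)
    (b : Ideal B) (hb : HopfRep.IsSubcomod (k := k) (A := A) (b.restrictScalars k)) :
    PrimeSpectrum.comap (algebraMap (GLin.invariants k A B) B) '' PrimeSpectrum.zeroLocus (b : Set B) =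
      PrimeSpectrum.zeroLocus ((b.comap (algebraMap (GLin.invariants k A B) B) : Ideal (GLin.invariants k A B)) : Set (GLin.invariants k A B)) := by
  obtain ⟨α, hα, hα1⟩ := htame
  set f := algebraMap (GLin.invariants k A B) B with hf
  apply Set.Subset.antisymm
  · rintro _ ⟨q, hq, rfl⟩
    rw [PrimeSpectrum.mem_zeroLocus] at hq ⊢
    intro x hx
    exact hq hx
  · intro p hp
    rw [PrimeSpectrum.mem_zeroLocus] at hp
    set g : GLin.invariants k A B →+* B ⧸ b := (Ideal.Quotient.mk b).comp f with hg
    have hcm : (p.asIdeal.map g).comap g = p.asIdeal := by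
      apply le_antisymm
      · intro x hx
        rw [Ideal.mem_comap, hg, ← Ideal.map_map] at hx
        obtain ⟨y, hy, hyx⟩ := (Ideal.mem_map_iff_of_surjective (Ideal.Quotient.mk b)
          Ideal.Quotient.mk_surjective).1 hx
        rw [RingHom.comp_apply, Ideal.Quotient.eq] at hyx
        -- f x = y + (f x - y)
        set r := ReyC k A B α hα with hr
        have h1 : r y ∈ p.asIdeal := ReyC_mem_of_mem_map k A B α hα p.asIdeal y hy
        have h2 : r (f x - y) ∈ p.asIdeal := by
          apply hp
          show f (r (f x - y)) ∈ b
          have : f (r (f x - y)) = Rey k A B α (f x - y) := rfl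
          rw [this]
          apply Rey_mem_ideal k A B α b hb
          have := b.neg_mem hyx
          rwa [neg_sub] at this
        have h3 : x = r y + r (f x - y) := by
          rw [← map_add, add_sub_cancel, hr, hf, ReyC_algebraMap k A B α hα hα1]
        rw [h3]
        exact p.asIdeal.add_mem h1 h2
      · exact Ideal.le_comap_map
    obtain ⟨q', hq'⟩ := (PrimeSpectrum.mem_range_comap_iff g (p := p)).2 hcm
    refine ⟨PrimeSpectrum.comap (Ideal.Quotient.mk b) q', ?_, ?_⟩
    · rw [PrimeSpectrum.mem_zeroLocus]
      intro x hx
      show Ideal.Quotient.mk b x ∈ q'.asIdeal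
      rw [Ideal.Quotient.eq_zero_iff_mem.2 hx]
      exact q'.asIdeal.zero_mem
    · rw [← hq']
      rfl

end Groth.Agent.S12923
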