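import Groth.Statements.S12929
import Mathlib.Tactic

set_option autoImplicit false
universe u v w w'
open HopfRep

namespace Groth.Agent.S12929

set_option linter.unusedSectionVars false

open TensorProduct

section aux

variable {k : Type u} [CommRing k] {A : Type v} [AddCommGroup A] [Module k A] [Coalgebra k A]
variable {M : Type w} [AddCommGroup M] [Module k M] [HopfRep.Comod k A M]
variable {N : Type w'} [AddCommGroup N] [Module k N]

lemma assoc_symm_rTensor (h : M →ₗ[k] N) (t : M ⊗[k] (A ⊗[k] A)) :
    (TensorProduct.assoc k N A A).symm (h.rTensor (A ⊗[k] A) t) =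
      (h.rTensor A).rTensor A ((TensorProduct.assoc k M A A).symm t) := by
  induction t using TensorProduct.induction_on with
  | zero => simp
  | tmul m u =>
    induction u using TensorProduct.induction_on with
    | zero => simp
    | tmul a b => simp
    | add x y hx hy => simp only [TensorProduct.tmul_add, map_add, hx, hy]
  | add x y hx hy => simp only [map_add, hx, hy]

lemma lTensor_rTensor_comm' (h : M →ₗ[k] N) (t : M ⊗[k] A) :
    (CoalgebraStruct.comul (R := k) (A := A)).lTensor N (h.rTensor A t) =
      h.rTensor (A ⊗[k] A) ((CoalgebraStruct.comul (R := k) (A := A)).lTensor M t) := by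
  induction t using TensorProduct.induction_on with
  | zero => simp
  | tmul m a => simp
  | add x y hx hy => simp only [map_add, hx, hy]

lemma coact_coact (m : M) :
    (HopfRep.Comod.coact (k := k) (A := A) (V := M)).rTensor A
      (HopfRep.Comod.coact (k := k) (A := A) m) =
      (TensorProduct.assoc k M A A).symm ((CoalgebraStruct.comul (R := k) (A := A)).lTensor M
        (HopfRep.Comod.coact (k := k) (A := A) m)) := by
  have hco := LinearMap.congr_fun (HopfRep.Comod.coassoc (k := k) (A := A) (V := M)) m
  simp only [LinearMap.comp_apply, LinearEquiv.coe_coe] at hco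
  rw [← hco, LinearEquiv.symm_apply_apply]

/-- `(id ⊗ ε ⊗ id) ∘ (id ⊗ Δ) = id` on `N ⊗ A`, bracketed to the left -/
lemma counit_rTensor_coactAux (t : N ⊗[k] A) :
    ((TensorProduct.rid k N).toLinearMap ∘ₗ
      (CoalgebraStruct.counit (R := k) (A := A)).lTensor N).rTensor A
      ((TensorProduct.assoc k N A A).symm ((CoalgebraStruct.comul (R := k) (A := A)).lTensor N t)) = t := by
  induction t using TensorProduct.induction_on with
  | zero => simp
  | tmul n a =>
    have h := LinearMap.congr_fun (Coalgebra.rTensor_counit_comp_comul (R := k) (A := A)) a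
    simp only [LinearMap.comp_apply, TensorProduct.mk_apply] at h
    have key : ∀ u : A ⊗[k] A, ((TensorProduct.rid k N).toLinearMap ∘ₗ
        (CoalgebraStruct.counit (R := k) (A := A)).lTensor N).rTensor A
        ((TensorProduct.assoc k N A A).symm (n ⊗ₜ[k] u)) =
        n ⊗ₜ[k] (TensorProduct.lid k A ((CoalgebraStruct.counit (R := k) (A := A)).rTensor A u)) := by
      intro u
      induction u using TensorProduct.induction_on with
      | zero => simp
      | tmul a b => simp [TensorProduct.smul_tmul]
      | add x y hx hy => simp only [TensorProduct.tmul_add, map_add, hx, hy]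
    rw [LinearMap.lTensor_tmul, key, h]
    simp
  | add x y hx hy => simp only [map_add, hx, hy]

end aux

/-- Let `k` be a commutative ring, `A` a commutative Hopf algebra over `k`, `M` a right `A`-comodule and
`N` a `k`-module; give `N ⊗ A` the coaction `id ⊗ Δ`. Then for every `k`-linear map `h : M → N` the
composite `(h ⊗ id_A) ∘ ρ_M : M → N ⊗ A` is a comodule map, and every comodule map `f : M → N ⊗ A`
is of this form for exactly one `h` (which is `(id_N ⊗ ε) ∘ f`): comodule maps `M → N ⊗ A`
correspond bijectively to linear maps `M → N`. -/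
theorem result
    (k : Type u) [CommRing k] (A : Type v) [CommRing A] [HopfAlgebra k A]
    (M : Type w) [AddCommGroup M] [Module k M] [HopfRep.Comod k A M]
    (N : Type w') [AddCommGroup N] [Module k N] :
    (∀ h : M →ₗ[k] N, Hoch.IsComodHom A
        ((Hoch.Ind.equiv k A N).toLinearMap ∘ₗ h.rTensor A ∘ₗ HopfRep.Comod.coact (k := k) (A := A))) ∧
      ∀ f : M →ₗ[k] Hoch.Ind k A N, Hoch.IsComodHom A f →
        ∃! h : M →ₗ[k] N,
          f = (Hoch.Ind.equiv k A N).toLinearMap ∘ₗ h.rTensor A ∘ₗ HopfRep.Comod.coact (k := k) (A := A) := by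
  constructor
  · intro h
    unfold Hoch.IsComodHom
    ext m
    show Hoch.Ind.coactAux k A N (h.rTensor A (HopfRep.Comod.coact (k := k) (A := A) m)) =
      (h.rTensor A ∘ₗ HopfRep.Comod.coact (k := k) (A := A) (V := M)).rTensor A
        (HopfRep.Comod.coact (k := k) (A := A) m)
    unfold Hoch.Ind.coactAux
    rw [LinearMap.comp_apply, LinearEquiv.coe_coe, LinearMap.rTensor_comp, LinearMap.comp_apply,
      coact_coact, ← assoc_symm_rTensor, ← lTensor_rTensor_comm']
  · intro f hf
    have hf' : ∀ m, Hoch.Ind.coactAux k A N (f m) =
        (show M →ₗ[k] N ⊗[k] A from f).rTensor A (HopfRep.Comod.coact (k := k) (A := A) m) :=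
      fun m => LinearMap.congr_fun hf m
    refine ⟨((TensorProduct.rid k N).toLinearMap ∘ₗ
      (CoalgebraStruct.counit (R := k) (A := A)).lTensor N) ∘ₗ (show M →ₗ[k] N ⊗[k] A from f), ?_, ?_⟩
    · ext m
      show (show M →ₗ[k] N ⊗[k] A from f) m = (((TensorProduct.rid k N).toLinearMap ∘ₗ
        (CoalgebraStruct.counit (R := k) (A := A)).lTensor N) ∘ₗ
          (show M →ₗ[k] N ⊗[k] A from f)).rTensor A (HopfRep.Comod.coact (k := k) (A := A) m)
      rw [LinearMap.rTensor_comp, LinearMap.comp_apply, ← hf' m]
      unfold Hoch.Ind.coactAux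
      rw [LinearMap.comp_apply, LinearEquiv.coe_coe, counit_rTensor_coactAux]
      rfl
    · intro h' hh'
      ext m
      have h1 : (show M →ₗ[k] N ⊗[k] A from f) m =
          h'.rTensor A (HopfRep.Comod.coact (k := k) (A := A) m) := by
        rw [hh']; rfl
      have hcu := LinearMap.congr_fun (HopfRep.Comod.counit_comp (k := k) (A := A) (V := M)) m
      simp only [LinearMap.comp_apply, LinearMap.flip_apply, TensorProduct.mk_apply] at hcu
      simp only [LinearMap.comp_apply, LinearEquiv.coe_coe]
      rw [h1]
      have key : ∀ t : M ⊗[k] A, (TensorProduct.rid k N)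
          ((CoalgebraStruct.counit (R := k) (A := A)).lTensor N (h'.rTensor A t)) =
          h' (TensorProduct.rid k M ((CoalgebraStruct.counit (R := k) (A := A)).lTensor M t)) := by
        intro t
        induction t using TensorProduct.induction_on with
        | zero => simp
        | tmul x a => simp
        | add x y hx hy => simp only [map_add, hx, hy]
      rw [key, hcu]
      simp

end Groth.Agent.S12929
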