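import Groth.Statements.S12932
import Mathlib

set_option autoImplicit false
universe u v
open scoped BigOperators
open InvTh

namespace Groth.Agent.S12932

section
variable {B : Type u} [CommRing B] {Γ : Type v} [Group Γ] [Fintype Γ] [MulSemiringAction Γ B]

/-- the monoid hom `b ↦ (γ • b mod P)` -/
noncomputable def F (P : Ideal B) (γ : Γ) : B →* (B ⧸ P) :=
  (((Ideal.Quotient.mk P).comp (MulSemiringAction.toRingHom Γ B γ) : B →+* B ⧸ P) : B →* B ⧸ P)

lemma F_apply (P : Ideal B) (γ : Γ) (b : B) : F P γ b = Ideal.Quotient.mk P (γ • b) := rfl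

lemma F_eq_iff (P : Ideal B) (γ γ' : Γ) : F P γ = F P γ' ↔ γ * γ'⁻¹ ∈ P.inertia Γ := by
  constructor
  · intro h x
    have := DFunLike.congr_fun h (γ'⁻¹ • x)
    rw [F_apply, F_apply, smul_smul, smul_smul, mul_inv_cancel, one_smul,
      Ideal.Quotient.eq] at this
    exact this
  · intro h
    apply MonoidHom.ext
    intro b
    rw [F_apply, F_apply, Ideal.Quotient.eq]
    have := h (γ' • b)
    rw [smul_smul, inv_mul_cancel_right] at this
    exact this

lemma card_fiber (P : Ideal B) [DecidableEq (B →* (B ⧸ P))] (γ0 : Γ) :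
    (Finset.univ.filter (fun γ : Γ => F P γ = F P γ0)).card = Nat.card (P.inertia Γ) := by
  classical
  rw [Nat.card_eq_fintype_card, Fintype.card_subtype]
  symm
  apply Finset.card_bij (fun τ _ => τ * γ0)
  · intro τ hτ
    rw [Finset.mem_filter] at hτ ⊢
    refine ⟨Finset.mem_univ _, ?_⟩
    rw [F_eq_iff, mul_inv_cancel_right]
    exact hτ.2
  · intro a _ b _ hab
    exact mul_right_cancel hab
  · intro γ hγ
    rw [Finset.mem_filter] at hγ
    refine ⟨γ * γ0⁻¹, ?_, by rw [inv_mul_cancel_right]⟩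
    rw [Finset.mem_filter]
    exact ⟨Finset.mem_univ _, (F_eq_iff P γ γ0).mp hγ.2⟩

lemma key (P : Ideal B) [DecidableEq (B →* (B ⧸ P))] (b : B) :
    Ideal.Quotient.mk P (∑ γ : Γ, γ • b) =
      ((Nat.card (P.inertia Γ) : ℕ) : B ⧸ P) *
        ∑ χ ∈ Finset.univ.image (fun γ : Γ => F P γ), χ b := by
  rw [map_sum]
  have h1 : ∀ γ : Γ, Ideal.Quotient.mk P (γ • b) = (fun χ : B →* (B ⧸ P) => χ b) (F P γ) :=
    fun γ => rfl
  simp_rw [h1]
  rw [Finset.sum_comp (fun χ : B →* (B ⧸ P) => χ b) (fun γ : Γ => F P γ), Finset.mul_sum]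
  refine Finset.sum_congr rfl fun χ hχ => ?_
  obtain ⟨γ0, -, rfl⟩ := Finset.mem_image.mp hχ
  rw [card_fiber P γ0, nsmul_eq_mul]

lemma exists_trace_notMem (P : Ideal B) [P.IsPrime]
    (hP : ((Nat.card (P.inertia Γ) : ℕ) : B ⧸ P) ≠ 0) : ∃ b : B, ∑ γ : Γ, γ • b ∉ P := by
  classical
  by_contra hcon
  push Not at hcon
  have h0 : ∀ b : B, ∑ χ ∈ Finset.univ.image (fun γ : Γ => F P γ), χ b = 0 := by
    intro b
    have := key (Γ := Γ) P b
    rw [Ideal.Quotient.eq_zero_iff_mem.mpr (hcon b)] at this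
    exact (mul_eq_zero.mp this.symm).resolve_left hP
  have hli := linearIndependent_monoidHom B (B ⧸ P)
  rw [linearIndependent_iff'] at hli
  have h1 := hli (Finset.univ.image (fun γ : Γ => F P γ)) (fun _ => (1 : B ⧸ P)) (by
    funext b
    simp only [one_smul, Finset.sum_apply, Pi.zero_apply]
    exact h0 b) (F P 1) (Finset.mem_image.mpr ⟨1, Finset.mem_univ _, rfl⟩)
  exact one_ne_zero h1

end

/-- Let `B` be a commutative ring with an action of a finite group `Γ` by ring automorphisms, and call a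
prime ideal `P` of `B` tame when the order of its inertia group `{γ | γ • x - x ∈ P for all x}` is
not divisible by the characteristic of `B/P` (its ramification group is trivial). Then every prime
of `B` is tame if and only if the trace `b ↦ Σ_γ γ • b`, which takes values in the invariant ring
`B^Γ` and is `B^Γ`-linear, is onto `B^Γ` — equivalently, some element of `B` has trace `1`. -/
theorem result
    (B : Type u) [CommRing B] (Γ : Type v) [Group Γ] [Fintype Γ] [MulSemiringAction Γ B] :
    (∃ b : B, ∑ γ : Γ, γ • b = 1) ↔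
      ∀ P : Ideal B, P.IsPrime → ((Nat.card (P.inertia Γ) : ℕ) : B ⧸ P) ≠ 0 := by
  classical
  constructor
  · rintro ⟨b, hb⟩ P hP
    intro h0
    have := key (Γ := Γ) P b
    rw [hb, h0, zero_mul, map_one] at this
    exact one_ne_zero this
  · intro h
    -- the fixed subring
    let A := FixedPoints.subring B Γ
    haveI : Algebra.IsInvariant A B Γ := ⟨fun b hb => ⟨⟨b, hb⟩, rfl⟩⟩
    haveI : Algebra.IsIntegral A B := Algebra.IsInvariant.isIntegral A B Γ
    have htr : ∀ b : B, ∑ γ : Γ, γ • b ∈ A := by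
      intro b γ'
      show γ' • (∑ γ : Γ, γ • b) = ∑ γ : Γ, γ • b
      rw [Finset.smul_sum]
      simp only [smul_smul]
      exact Fintype.sum_bijective (fun γ => γ' * γ) (Group.mulLeft_bijective γ') _ _ (fun _ => rfl)
    let J : Ideal A :=
      { carrier := {a | ∃ b : B, ∑ γ : Γ, γ • b = (a : B)}
        add_mem' := by
          rintro a a' ⟨b, hb⟩ ⟨b', hb'⟩
          refine ⟨b + b', ?_⟩
          simp only [smul_add, Finset.sum_add_distrib, hb, hb']
          rfl
        zero_mem' := ⟨0, by simp⟩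
        smul_mem' := by
          rintro c a ⟨b, hb⟩
          refine ⟨(c : B) * b, ?_⟩
          have hc : ∀ γ : Γ, γ • (c : B) = c := fun γ => c.2 γ
          simp only [smul_mul', hc, ← Finset.mul_sum, hb]
          rfl }
    by_contra hno
    have hJ : J ≠ ⊤ := by
      intro hJ
      apply hno
      have : (1 : A) ∈ J := by rw [hJ]; trivial
      obtain ⟨b, hb⟩ := this
      exact ⟨b, hb⟩
    obtain ⟨m, hm, hJm⟩ := Ideal.exists_le_maximal J hJ
    have hker : RingHom.ker (algebraMap A B) ≤ m := by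
      intro x hx
      have : x = 0 := Subtype.ext (by simpa using hx)
      rw [this]; exact m.zero_mem
    obtain ⟨Q, hQ, hQm⟩ := Ideal.exists_ideal_over_maximal_of_isIntegral m hker
    haveI := hQ.isPrime
    obtain ⟨b, hb⟩ := exists_trace_notMem Q (h Q hQ.isPrime)
    apply hb
    have h1 : (⟨∑ γ : Γ, γ • b, htr b⟩ : A) ∈ J := ⟨b, rfl⟩
    have h2 := hJm h1
    rw [← hQm] at h2
    exact h2

end Groth.Agent.S12932
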