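import Groth.Statements.S12933
import Mathlib

set_option autoImplicit false
universe u v w w'
open TensorProduct
open InvTh

namespace Groth.Agent.S12933

/-- Let `R` be a commutative ring, `B` a commutative `R`-algebra with an action of a finite group `Γ` by
`R`-algebra automorphisms, and `R'` a flat commutative `R`-algebra; let `Γ` act on `R' ⊗_R B`
through the factor `B`. Then an element of `R' ⊗_R B` is fixed by every element of `Γ` if and only
if it lies in the `R'`-submodule spanned by the tensors `1 ⊗ b` with `b ∈ B^Γ`: taking invariants
commutes with flat base change (the map `R' ⊗_R B^Γ → R' ⊗_R B` being moreover injective by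
flatness). -/
theorem result
    (R : Type u) [CommRing R] (B : Type v) [CommRing B] [Algebra R B]
    (Γ : Type w) [Group Γ] [Finite Γ] [MulSemiringAction Γ B] [SMulCommClass Γ R B]
    (R' : Type w') [CommRing R'] [Algebra R R'] [Module.Flat R R']
    (x : R' ⊗[R] B) :
    (∀ γ : Γ, Algebra.TensorProduct.map (AlgHom.id R R') (MulSemiringAction.toAlgHom R B γ) x = x) ↔
      x ∈ Submodule.span R' ((fun b : B => (1 : R') ⊗ₜ[R] b) '' {b : B | ∀ γ : Γ, γ • b = b}) := by
  classical
  haveI : Fintype Γ := Fintype.ofFinite Γ
  -- the difference map
  let δ : B →ₗ[R] (Γ → B) :=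
    { toFun := fun b γ => γ • b - b
      map_add' := fun a b => by ext γ; simp [smul_add]; abel
      map_smul' := fun r b => by
        ext γ
        simp only [Pi.smul_apply, RingHom.id_apply, smul_sub]
        rw [smul_comm] }
  have hker : ∀ b, b ∈ LinearMap.ker δ ↔ ∀ γ : Γ, γ • b = b := by
    intro b
    rw [LinearMap.mem_ker]
    constructor
    · intro h γ
      have := congrFun h γ
      simpa [δ, sub_eq_zero] using this
    · intro h
      ext γ
      simp [δ, h γ]
  have hrange : ∀ s : R' ⊗[R] (LinearMap.ker δ),
      (LinearMap.lTensor R' (LinearMap.ker δ).subtype) s ∈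
        Submodule.span R' ((fun b : B => (1 : R') ⊗ₜ[R] b) '' {b : B | ∀ γ : Γ, γ • b = b}) := by
    intro s
    induction s with
    | zero => simp
    | tmul r n =>
      have : (LinearMap.lTensor R' (LinearMap.ker δ).subtype) (r ⊗ₜ[R] n) =
          r • ((1 : R') ⊗ₜ[R] (n : B)) := by
        simp [TensorProduct.smul_tmul']
      rw [this]
      exact Submodule.smul_mem _ _ (Submodule.subset_span ⟨n, (hker _).1 n.2, rfl⟩)
    | add y z hy hz =>
      rw [map_add]
      exact add_mem hy hz
  have hsm : ∀ (r : R') (y : R' ⊗[R] B), r • y = (r ⊗ₜ[R] (1 : B)) * y := by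
    intro r y
    induction y with
    | zero => simp
    | tmul a b => simp [TensorProduct.smul_tmul']
    | add y z hy hz => rw [smul_add, mul_add, hy, hz]
  constructor
  · intro hx
    have hex := Module.Flat.lTensor_exact R' (LinearMap.exact_subtype_ker_map δ)
    have h0 : (δ.lTensor R') x = 0 := by
      apply (TensorProduct.piRight R R R' (fun _ : Γ => B)).injective
      rw [map_zero]
      ext γ
      have key : ∀ y : R' ⊗[R] B, (TensorProduct.piRight R R R' (fun _ : Γ => B)) ((δ.lTensor R') y) γ =
          Algebra.TensorProduct.map (AlgHom.id R R') (MulSemiringAction.toAlgHom R B γ) y - y := by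
        intro y
        induction y with
        | zero => simp
        | tmul r b =>
          simp [δ, TensorProduct.tmul_sub]
        | add y z hy hz =>
          simp only [map_add, Pi.add_apply, hy, hz]
          abel
      rw [key, hx γ, sub_self]
      rfl
    obtain ⟨s, rfl⟩ := (hex x).1 h0
    exact hrange s
  · intro hx γ
    refine Submodule.span_induction ?_ ?_ ?_ ?_ hx
    · rintro _ ⟨b, hb, rfl⟩
      simp [hb γ]
    · simp
    · intro y z _ _ hy hz
      rw [map_add, hy, hz]
    · intro r y _ hy
      rw [hsm, map_mul, hy]
      simp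

end Groth.Agent.S12933
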