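import Groth.Statements.S12934
import Mathlib

set_option autoImplicit false
universe u v
open InvTh

namespace Groth.Agent.S12934
open IsLocalRing

section helpers


open IsLocalRing

section
variable {B : Type u} [CommRing B] [IsLocalRing B]
  {Γ : Type v} [Group Γ] [MulSemiringAction Γ B]
  (hin : ∀ (γ : Γ) (b : B), γ • b - b ∈ maximalIdeal B)
  (hst : ∀ (γ : Γ) (b : B), ∃ u : B, γ • b = b * u)

include hin in
theorem res_smul (γ : Γ) (x : B) : residue B (γ • x) = residue B x := by
  have := (residue_eq_zero_iff _).2 (hin γ x)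
  rw [map_sub, sub_eq_zero] at this
  exact this

theorem ann_mem {b c : B} (hb : b ≠ 0) (h : b * c = 0) : c ∈ maximalIdeal B := by
  rw [mem_maximalIdeal]
  intro hc
  obtain ⟨u, rfl⟩ := hc
  exact hb (by simpa using h)

/-- the character attached to `b` -/
noncomputable def chi (b : B) (γ : Γ) : ResidueField B := residue B (Classical.choose (hst γ b))

omit [IsLocalRing B] in
theorem chi_spec (b : B) (γ : Γ) : γ • b = b * Classical.choose (hst γ b) :=
  Classical.choose_spec (hst γ b)


theorem chi_eq {b : B} (hb : b ≠ 0) {γ : Γ} {u : B} (h : γ • b = b * u) :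
    chi hst b γ = residue B u := by
  have h1 := chi_spec hst b γ
  have h2 : b * (Classical.choose (hst γ b) - u) = 0 := by rw [mul_sub, ← h1, ← h, sub_self]
  have h3 := (residue_eq_zero_iff _).2 (ann_mem hb h2)
  rw [map_sub, sub_eq_zero] at h3
  exact h3

include hin in
theorem chi_mul {b : B} (hb : b ≠ 0) (γ δ : Γ) :
    chi hst b (γ * δ) = chi hst b γ * chi hst b δ := by
  obtain ⟨uγ, h1, e1⟩ : ∃ u, γ • b = b * u ∧ chi hst b γ = residue B u :=
    ⟨_, chi_spec hst b γ, rfl⟩
  obtain ⟨uδ, h2, e2⟩ : ∃ u, δ • b = b * u ∧ chi hst b δ = residue B u :=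
    ⟨_, chi_spec hst b δ, rfl⟩
  have h3 : (γ * δ) • b = b * (uγ * γ • uδ) := by
    rw [mul_smul, h2, smul_mul', h1]; ring
  rw [chi_eq hst hb h3, map_mul, res_smul hin, e1, e2]

theorem chi_one {b : B} (hb : b ≠ 0) : chi hst b (1 : Γ) = 1 := by
  have : (1 : Γ) • b = b * 1 := by simp
  rw [chi_eq hst hb this, map_one]

include hin in
theorem chi_pow {b : B} (hb : b ≠ 0) (γ : Γ) (n : ℕ) : chi hst b (γ ^ n) = chi hst b γ ^ n := by
  induction n with
  | zero => rw [pow_zero, pow_zero, chi_one hst hb]
  | succ n ih => rw [pow_succ, chi_mul hin hst hb, ih, pow_succ]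

include hin in
theorem chi_inv {b : B} (hb : b ≠ 0) (γ : Γ) : chi hst b γ⁻¹ = (chi hst b γ)⁻¹ := by
  have h := chi_mul hin hst hb γ γ⁻¹
  rw [mul_inv_cancel, chi_one hst hb] at h
  exact eq_inv_of_mul_eq_one_right h.symm

variable (S : Set Γ)
  (hS : ∀ γ : Γ, γ ∈ S ↔ ∀ b : B, ∃ x ∈ maximalIdeal B, γ • b = b + b * x)

include hS in
theorem mem_S_iff (γ : Γ) : γ ∈ S ↔ ∀ b : B, b ≠ 0 → chi hst b γ = 1 := by
  rw [hS]
  constructor
  · intro h b hb
    obtain ⟨x, hx, hbx⟩ := h b
    have : γ • b = b * (1 + x) := by rw [hbx]; ring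
    rw [chi_eq hst hb this, map_add, map_one, (residue_eq_zero_iff _).2 hx, add_zero]
  · intro h b
    by_cases hb : b = 0
    · exact ⟨0, Ideal.zero_mem _, by rw [hb]; simp⟩
    · have h1 := h b hb
      obtain ⟨uγ, h2, e1⟩ : ∃ u, γ • b = b * u ∧ chi hst b γ = residue B u :=
        ⟨_, chi_spec hst b γ, rfl⟩
      refine ⟨uγ - 1, ?_, by rw [h2]; ring⟩
      rw [← residue_eq_zero_iff, map_sub, map_one, sub_eq_zero, ← e1]
      exact h1

include hin hst hS in
theorem pow_mem_S (γ : Γ) (hγ : γ ∈ S) (j : ℕ) : γ ^ j ∈ S := by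
  rw [mem_S_iff hst S hS]
  intro c hc
  rw [chi_pow hin hst hc, (mem_S_iff hst S hS γ).1 hγ c hc, one_pow]

include hin hst hS in
theorem zs [FaithfulSMul Γ B] (γ : Γ) (hγ : γ ∈ S) (q : ℕ) (hq : γ ^ q = 1)
    (hqk : (q : ResidueField B) ≠ 0) : γ = 1 := by
  apply eq_of_smul_eq_smul (α := B)
  intro b
  rw [one_smul]
  by_contra hne
  set z := γ • b - b with hz
  have hz0 : z ≠ 0 := sub_ne_zero.2 hne
  have htel : ∀ i : ℕ, γ ^ i • b = b + ∑ j ∈ Finset.range i, γ ^ j • z := by
    intro i
    induction i with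
    | zero => simp
    | succ i ih =>
      have hb : γ • b = b + z := by rw [hz]; ring
      rw [pow_succ, mul_smul, hb, smul_add, ih, Finset.sum_range_succ]; ring
  choose x hx hxz using fun j : ℕ => ((hS (γ ^ j)).1 (pow_mem_S hin hst S hS γ hγ j)) z
  have hsum : γ ^ q • b = b + z * ((q : B) + ∑ j ∈ Finset.range q, x j) := by
    rw [htel]
    congr 1
    simp_rw [hxz]
    rw [Finset.sum_add_distrib, Finset.sum_const, Finset.card_range, ← Finset.mul_sum, nsmul_eq_mul]
    ring
  rw [hq, one_smul] at hsum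
  have h0 : z * ((q : B) + ∑ j ∈ Finset.range q, x j) = 0 := by
    have := hsum
    rw [left_eq_add] at this
    exact this
  have hmem := ann_mem hz0 h0
  have h2 : ∑ j ∈ Finset.range q, x j ∈ maximalIdeal B := Ideal.sum_mem _ (fun j _ => hx j)
  have h3 : (q : B) ∈ maximalIdeal B := by
    have := Ideal.sub_mem _ hmem h2
    simpa using this
  apply hqk
  rw [← map_natCast (residue B)]
  exact (residue_eq_zero_iff _).2 h3

/-- `S` as a subgroup -/
def Ssub (hin : ∀ (γ : Γ) (b : B), γ • b - b ∈ maximalIdeal B)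
    (hst : ∀ (γ : Γ) (b : B), ∃ u : B, γ • b = b * u) (S : Set Γ)
    (hS : ∀ γ : Γ, γ ∈ S ↔ ∀ b : B, ∃ x ∈ maximalIdeal B, γ • b = b + b * x) : Subgroup Γ where
  carrier := S
  mul_mem' := by
    intro γ δ hγ hδ
    rw [mem_S_iff hst S hS] at hγ hδ ⊢
    intro b hb
    rw [chi_mul hin hst hb, hγ b hb, hδ b hb, one_mul]
  one_mem' := by
    rw [mem_S_iff hst S hS]
    intro b hb
    exact chi_one hst hb
  inv_mem' := by
    intro γ hγ
    rw [mem_S_iff hst S hS] at hγ ⊢
    intro b hb
    rw [chi_inv hin hst hb, hγ b hb, inv_one]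

include hin hS in
theorem prime_dvd_card [Finite Γ] [FaithfulSMul Γ B] (q : ℕ) (hq : q.Prime)
    (hdvd : q ∣ Nat.card (Ssub hin hst S hS)) : (q : ResidueField B) = 0 := by
  by_contra hqk
  have : Fact q.Prime := ⟨hq⟩
  obtain ⟨x, hx⟩ := exists_prime_orderOf_dvd_card' q hdvd
  have h1 : (x : Γ) = 1 := by
    apply zs hin hst S hS (x : Γ) x.2 q ?_ hqk
    have := pow_orderOf_eq_one x
    rw [hx] at this
    exact_mod_cast congrArg Subtype.val this
  have h2 : x = 1 := Subtype.ext h1
  rw [h2, orderOf_one] at hx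
  exact hq.one_lt.ne hx

end



end helpers

/-- Let `B` be a local commutative ring with maximal ideal `m` and residue field `k`, and `Γ` a finite
group acting faithfully on `B` by ring automorphisms, such that every element of `Γ` acts trivially
modulo `m` (the whole group is inertia) and maps each principal ideal of `B` into itself (every
ideal is stable). Let `S ⊆ Γ` be the set of `γ` with `γ b ∈ b + b m` for all `b`. Then: if `k` has
characteristic `0`, `S = {1}`; if `k` has characteristic `p > 0`, `S` is (the underlying set of) a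
Sylow `p`-subgroup; every commutator of `Γ` lies in `S`, so `Γ/S` is abelian; and whenever the class
of `γ` in `Γ/S` has order `n` (`γ^n ∈ S`, no smaller positive power in `S`), `k` contains a
primitive `n`-th root of unity. (The published statement also bounds the number of generators of
`Γ/S` by the number of generators of the monoid of principal ideals; that clause is not included.) -/
theorem result
    (B : Type u) [CommRing B] [IsLocalRing B]
    (Γ : Type v) [Group Γ] [Finite Γ] [MulSemiringAction Γ B] [FaithfulSMul Γ B]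
    (hin : ∀ (γ : Γ) (b : B), γ • b - b ∈ IsLocalRing.maximalIdeal B)
    (hst : ∀ (γ : Γ) (b : B), ∃ u : B, γ • b = b * u)
    (S : Set Γ)
    (hS : ∀ γ : Γ, γ ∈ S ↔ ∀ b : B, ∃ x ∈ IsLocalRing.maximalIdeal B, γ • b = b + b * x) :
    (ringChar (IsLocalRing.ResidueField B) = 0 → S = {1}) ∧
      (∀ (p : ℕ) [Fact p.Prime], ringChar (IsLocalRing.ResidueField B) = p →
        ∃ Q : Sylow p Γ, (Q : Set Γ) = S) ∧
      (∀ γ δ : Γ, γ * δ * γ⁻¹ * δ⁻¹ ∈ S) ∧
      (∀ (γ : Γ) (n : ℕ), 0 < n → γ ^ n ∈ S → (∀ i : ℕ, 0 < i → i < n → γ ^ i ∉ S) →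
        ∃ ζ : IsLocalRing.ResidueField B, IsPrimitiveRoot ζ n) := by
  classical
  set S' := Ssub hin hst S hS with hS'
  have hS'mem : ∀ γ, γ ∈ S' ↔ γ ∈ S := fun γ => Iff.rfl
  refine ⟨?_, ?_, ?_, ?_⟩
  · -- characteristic zero
    intro h0
    have hchar : CharZero (IsLocalRing.ResidueField B) := by
      have := ringChar.charP (IsLocalRing.ResidueField B)
      rw [h0] at this
      exact CharP.charP_to_charZero _
    have hcard : Nat.card S' = 1 := by
      by_contra hne
      obtain ⟨q, hq, hqd⟩ := Nat.exists_prime_and_dvd hne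
      have := prime_dvd_card hin hst S hS q hq hqd
      exact (Nat.cast_ne_zero.2 hq.ne_zero) this
    have hbot : S' = ⊥ := Subgroup.card_eq_one.1 hcard
    ext γ
    rw [← hS'mem, hbot, Subgroup.mem_bot, Set.mem_singleton_iff]
  · -- characteristic p
    intro p hp hchar
    have hcp : CharP (IsLocalRing.ResidueField B) p := by
      have := ringChar.charP (IsLocalRing.ResidueField B)
      rwa [hchar] at this
    have hpg : IsPGroup p S' := by
      rw [IsPGroup.iff_card]
      refine ⟨_, Nat.eq_prime_pow_of_unique_prime_dvd Nat.card_pos.ne' ?_⟩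
      intro q hq hqd
      have h0 := prime_dvd_card hin hst S hS q hq hqd
      rw [CharP.cast_eq_zero_iff (IsLocalRing.ResidueField B) p] at h0
      exact ((Nat.prime_dvd_prime_iff_eq hp.out hq).1 h0).symm
    obtain ⟨Q, hQ⟩ := hpg.exists_le_sylow
    refine ⟨Q, ?_⟩
    apply Set.Subset.antisymm
    · intro γ hγ
      rw [mem_S_iff hst S hS]
      intro b hb
      obtain ⟨j, hj⟩ := Q.isPGroup' ⟨γ, hγ⟩
      have hj' : γ ^ (p ^ j) = 1 := by
        have := congrArg Subtype.val hj
        simpa using this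
      have h1 : chi hst b γ ^ (p ^ j) = 1 := by
        rw [← chi_pow hin hst hb, hj', chi_one hst hb]
      have h2 : (chi hst b γ - 1) ^ (p ^ j) = 0 := by
        rw [sub_pow_char_pow, h1, one_pow, sub_self]
      exact sub_eq_zero.1 (pow_eq_zero_iff (pow_ne_zero _ hp.out.ne_zero)|>.1 h2)
    · intro γ hγ
      exact hQ ((hS'mem γ).2 hγ)
  · -- commutators
    intro γ δ
    rw [mem_S_iff hst S hS]
    intro b hb
    rw [chi_mul hin hst hb, chi_mul hin hst hb, chi_mul hin hst hb, chi_inv hin hst hb,
      chi_inv hin hst hb]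
    have h1 : chi hst b γ ≠ 0 := by
      intro h0
      have := chi_mul hin hst hb γ γ⁻¹
      rw [mul_inv_cancel, chi_one hst hb, h0, zero_mul] at this
      exact one_ne_zero this
    have h2 : chi hst b δ ≠ 0 := by
      intro h0
      have := chi_mul hin hst hb δ δ⁻¹
      rw [mul_inv_cancel, chi_one hst hb, h0, zero_mul] at this
      exact one_ne_zero this
    field_simp
  · -- roots of unity
    intro γ n hn hγn hmin
    have : NeZero n := ⟨hn.ne'⟩
    have hcyc : IsCyclic (rootsOfUnity n (IsLocalRing.ResidueField B)) := rootsOfUnity.isCyclic _ n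
    obtain ⟨ω, hω⟩ := hcyc.exists_generator
    set d := orderOf ω with hd
    have hdpos : 0 < d := orderOf_pos ω
    have hdn : d ∣ n := by
      apply orderOf_dvd_of_pow_eq_one
      apply Subtype.ext
      have := ω.2
      rw [mem_rootsOfUnity] at this
      simpa using this
    -- every chi value is a power of ω
    have hpow : ∀ b : B, b ≠ 0 → chi hst b γ ^ d = 1 := by
      intro b hb
      have h1 : chi hst b γ ^ n = 1 := by
        rw [← chi_pow hin hst hb, (mem_S_iff hst S hS _).1 hγn b hb]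
      have hu : IsUnit (chi hst b γ) := by
        rw [isUnit_iff_ne_zero]
        intro h0
        rw [h0, zero_pow hn.ne'] at h1
        exact zero_ne_one h1
      obtain ⟨u, hu⟩ := hu
      have hmem : u ∈ rootsOfUnity n (IsLocalRing.ResidueField B) := by
        rw [mem_rootsOfUnity]
        apply Units.ext
        rw [Units.val_pow_eq_pow_val, hu, h1, Units.val_one]
      obtain ⟨m, hm⟩ := hω ⟨u, hmem⟩
      have h2 : (⟨u, hmem⟩ : rootsOfUnity n (IsLocalRing.ResidueField B)) ^ d = 1 := by
        rw [← hm, ← zpow_natCast, ← zpow_mul, mul_comm, zpow_mul, zpow_natCast, hd,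
          pow_orderOf_eq_one, one_zpow]
      have h3 := congrArg (fun x : rootsOfUnity n (IsLocalRing.ResidueField B) =>
        ((x : (IsLocalRing.ResidueField B)ˣ) : IsLocalRing.ResidueField B)) h2
      simpa [hu] using h3
    have hγd : γ ^ d ∈ S := by
      rw [mem_S_iff hst S hS]
      intro b hb
      rw [chi_pow hin hst hb, hpow b hb]
    have hdn' : d = n := by
      by_contra hne
      have hlt : d < n := lt_of_le_of_ne (Nat.le_of_dvd hn hdn) hne
      exact hmin d hdpos hlt hγd
    refine ⟨((ω : (IsLocalRing.ResidueField B)ˣ) : IsLocalRing.ResidueField B), ?_⟩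
    have h1 : IsPrimitiveRoot ω (orderOf ω) := IsPrimitiveRoot.orderOf ω
    have h2 : IsPrimitiveRoot (ω : (IsLocalRing.ResidueField B)ˣ) (orderOf ω) := by
      exact h1.map_of_injective (f := Subgroup.subtype _) (Subgroup.subtype_injective _)
    have h3 : IsPrimitiveRoot (((ω : (IsLocalRing.ResidueField B)ˣ) : IsLocalRing.ResidueField B))
        (orderOf ω) :=
      h2.map_of_injective (f := Units.coeHom _) Units.coeHom_injective
    rw [← hd, hdn'] at h3
    exact h3

end Groth.Agent.S12934
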