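import Groth.Statements.S12935
import Mathlib

set_option autoImplicit false
universe u v
open InvTh

namespace Groth.Agent.S12935

section
open Pointwise
variable {B : Type u} [CommRing B] {Γ : Type v} [Group Γ] [Finite Γ] [MulSemiringAction Γ B]
  (Ω : Subgroup Γ) (P : Ideal B) [P.IsPrime]

instance isInv : Algebra.IsInvariant (FixedPoints.subring B ↥Ω) B ↥Ω :=
  ⟨fun b hb => ⟨⟨b, hb⟩, rfl⟩⟩

theorem part_a (γ : Γ) (h : ∀ x : B, (∀ ω ∈ Ω, ω • x = x) → (x ∈ P ↔ γ • x ∈ P)) :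
    ∃ ω ∈ Ω, ∀ x : B, x ∈ P ↔ (γ * ω) • x ∈ P := by
  have hu : P.under (FixedPoints.subring B ↥Ω) = (γ⁻¹ • P).under (FixedPoints.subring B ↥Ω) := by
    ext a
    simp only [Ideal.under_def, Ideal.mem_comap]
    rw [Ideal.mem_inv_pointwise_smul_iff]
    exact h (a : B) (fun ω hω => a.2 ⟨ω, hω⟩)
  obtain ⟨ω, hω⟩ := Algebra.IsInvariant.exists_smul_of_under_eq (FixedPoints.subring B ↥Ω) B ↥Ω
    P (γ⁻¹ • P) hu
  refine ⟨ω, ω.2, fun x => ?_⟩
  rw [mul_smul, ← Ideal.mem_inv_pointwise_smul_iff, hω,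
    Ideal.mem_pointwise_smul_iff_inv_smul_mem, Subgroup.smul_def, Subgroup.coe_inv, inv_smul_smul]

theorem part_b (γ : Γ) (h : ∀ x : B, (∀ ω ∈ Ω, ω • x = x) → γ • x - x ∈ P) :
    ∃ ω ∈ Ω, ∀ x : B, (γ * ω) • x - x ∈ P := by
  have h' : ∀ x : B, (∀ ω ∈ Ω, ω • x = x) → (x ∈ P ↔ γ • x ∈ P) := by
    intro x hx
    have := h x hx
    constructor
    · intro hxP; have := P.add_mem this hxP; simpa using this
    · intro hγ; have := P.sub_mem hγ this; simpa using this
  obtain ⟨ω₁, hω₁, hstab⟩ := part_a Ω P γ h'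
  have hγ₁A : ∀ x : B, (∀ ω ∈ Ω, ω • x = x) → (γ * ω₁) • x - x ∈ P := by
    intro x hx
    rw [mul_smul, hx ω₁ hω₁]; exact h x hx
  have hmap : P = P.map ((MulSemiringAction.toRingEquiv Γ B (γ * ω₁) : B ≃+* B) : B →+* B) := by
    ext y
    rw [Ideal.mem_map_iff_of_surjective ((MulSemiringAction.toRingEquiv Γ B (γ * ω₁) : B ≃+* B) : B →+* B)
      (MulSemiringAction.toRingEquiv Γ B (γ * ω₁)).surjective]
    constructor
    · intro hy
      refine ⟨(γ * ω₁)⁻¹ • y, ?_, ?_⟩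
      · rw [hstab, smul_inv_smul]; exact hy
      · change (γ * ω₁) • ((γ * ω₁)⁻¹ • y) = y
        rw [smul_inv_smul]
    · rintro ⟨x, hx, rfl⟩
      exact (hstab x).mp hx
  let σr : (B ⧸ P) ≃+* (B ⧸ P) :=
    Ideal.quotientEquiv P P (MulSemiringAction.toRingEquiv Γ B (γ * ω₁)) hmap
  have hσr : ∀ b : B, σr (Ideal.Quotient.mk P b) = Ideal.Quotient.mk P ((γ * ω₁) • b) :=
    fun b => rfl
  let σ : (B ⧸ P) ≃ₐ[(FixedPoints.subring B ↥Ω) ⧸ P.under (FixedPoints.subring B ↥Ω)] (B ⧸ P) :=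
    AlgEquiv.ofRingEquiv (f := σr) (by
      intro x
      obtain ⟨a, rfl⟩ := Ideal.Quotient.mk_surjective x
      change σr (Ideal.Quotient.mk P (a : B)) = Ideal.Quotient.mk P (a : B)
      rw [hσr, Ideal.Quotient.eq]
      exact hγ₁A a (fun ω hω => a.2 ⟨ω, hω⟩))
  obtain ⟨ω₂, hω₂⟩ := Ideal.Quotient.stabilizerHom_surjective ↥Ω
    (P.under (FixedPoints.subring B ↥Ω)) P σ.symm
  refine ⟨ω₁ * ω₂.1, Ω.mul_mem hω₁ ω₂.1.2, fun x => ?_⟩
  have := congrArg σ (DFunLike.congr_fun hω₂ (Ideal.Quotient.mk P x))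
  rw [AlgEquiv.apply_symm_apply] at this
  change σr (Ideal.Quotient.mk P (ω₂ • x)) = _ at this
  rw [hσr, Ideal.Quotient.eq] at this
  rw [← mul_assoc, mul_smul]
  exact this
end

/-- Let `B` be a commutative ring with an action of a finite group `Γ` by ring automorphisms, `Ω` a
normal subgroup of `Γ`, `B^Ω` the subring of `Ω`-invariants (stable under `Γ`, with the induced
action of `Γ/Ω`), and `P` a prime ideal of `B`. Then (decomposition groups) an element `γ` maps `P ∩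
B^Ω` onto itself if and only if `γω` maps `P` onto itself for some `ω ∈ Ω`; and (inertia groups) `γ`
fixes `B^Ω` modulo `P ∩ B^Ω` if and only if `γω` fixes `B` modulo `P` for some `ω ∈ Ω`. In other
words the decomposition and inertia groups of `P ∩ B^Ω` under `Γ/Ω` are the images of those of `P`.
(The published statement also asserts the same for the ramification groups, the Sylow subgroups of
the inertia groups at the residue characteristic; that clause is not included here.) -/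
theorem result
    (B : Type u) [CommRing B] (Γ : Type v) [Group Γ] [Finite Γ] [MulSemiringAction Γ B]
    (Ω : Subgroup Γ) [Ω.Normal] (P : Ideal B) [P.IsPrime] (γ : Γ) :
    ((∀ x : B, (∀ ω ∈ Ω, ω • x = x) → (x ∈ P ↔ γ • x ∈ P)) ↔
        ∃ ω ∈ Ω, ∀ x : B, x ∈ P ↔ (γ * ω) • x ∈ P) ∧
      ((∀ x : B, (∀ ω ∈ Ω, ω • x = x) → γ • x - x ∈ P) ↔
        ∃ ω ∈ Ω, ∀ x : B, (γ * ω) • x - x ∈ P) := by
  constructor
  · constructor
    · exact part_a Ω P γ
    · rintro ⟨ω, hω, h⟩ x hx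
      rw [h x, mul_smul, hx ω hω]
  · constructor
    · exact part_b Ω P γ
    · rintro ⟨ω, hω, h⟩ x hx
      have := h x
      rwa [mul_smul, hx ω hω] at this

end Groth.Agent.S12935
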