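import Groth.Statements.S12936
import Mathlib

set_option autoImplicit false
universe u v
open InvTh

namespace Groth.Agent.S12936

/-- Let `B` be a commutative ring with an action of a finite group `Γ` by ring automorphisms and `P` a
maximal ideal of `B`, with decomposition group `D_P = {γ | γP = P}` and decomposition ring `D =
B^{D_P}`. Then `D = B^Γ + (P ∩ D)`: every element of `B` fixed by `D_P` is congruent modulo `P` to a
`Γ`-invariant element. Hence the residue field of `D` at `P ∩ D` is that of `B^Γ` at `P ∩ B^Γ`; for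
an arbitrary prime `P` the same equality of residue fields follows by localising at `P ∩ B^Γ`. (The
published statement prints this residue field as `k(P)`; the proof establishes the equality with the
residue field of `B^Γ` stated here.) -/
theorem result
    (B : Type u) [CommRing B] (Γ : Type v) [Group Γ] [Finite Γ] [MulSemiringAction Γ B]
    (P : Ideal B) [P.IsMaximal] (x : B)
    (hx : ∀ γ : Γ, (∀ y : B, y ∈ P ↔ γ • y ∈ P) → γ • x = x) :
    ∃ c : B, (∀ γ : Γ, γ • c = c) ∧ x - c ∈ P := by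
  classical
  have : Fintype Γ := Fintype.ofFinite Γ
  -- the conjugate ideals
  let Q : Γ → Ideal B := fun γ => Ideal.comap (MulSemiringAction.toRingHom Γ B γ) P
  have hQmem : ∀ (γ : Γ) (y : B), y ∈ Q γ ↔ γ • y ∈ P := fun γ y => Iff.rfl
  have hQmax : ∀ γ, (Q γ).IsMaximal := fun γ =>
    Ideal.comap_isMaximal_of_surjective _ (MulAction.surjective γ)
  have hQ1 : Q 1 = P := by
    ext y; rw [hQmem, one_smul]
  have hQmul : ∀ δ' δ : Γ, Q δ' = P → Q (δ' * δ) = Q δ := by
    intro δ' δ h
    ext y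
    rw [hQmem, hQmem, mul_smul, ← hQmem δ', h]
  have hxD : ∀ δ : Γ, Q δ = P → δ • x = x := by
    intro δ h
    apply hx
    intro y
    rw [← hQmem, h]
  -- Step 1: the element z
  obtain ⟨z, hz1, hz2⟩ : ∃ z : B, z - 1 ∈ P ∧ ∀ γ, Q γ ≠ P → γ • z ∈ P := by
    have hcop : IsCoprime P (⨅ γ ∈ (Finset.univ.filter fun γ => Q γ ≠ P), Q γ) := by
      apply Ideal.isCoprime_biInf
      intro γ hγ
      rw [Finset.mem_filter] at hγ
      have := hQmax γ
      exact Ideal.isCoprime_of_isMaximal (Ne.symm hγ.2)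
    obtain ⟨i, hi, j, hj, hij⟩ := Ideal.isCoprime_iff_exists.mp hcop
    refine ⟨j, ?_, ?_⟩
    · have : j - 1 = -i := by rw [← hij]; ring
      rw [this]
      exact P.neg_mem hi
    · intro γ hγ
      rw [← hQmem]
      have := (Submodule.mem_iInf _).mp hj γ
      exact (Submodule.mem_iInf _).mp this (Finset.mem_filter.mpr ⟨Finset.mem_univ _, hγ⟩)
  -- Step 2: w and u
  obtain ⟨w, hw⟩ : ∃ w : B, w = ∏ δ ∈ (Finset.univ.filter fun δ => Q δ = P), δ • z := ⟨_, rfl⟩
  have hwD : ∀ δ' : Γ, Q δ' = P → δ' • w = w := by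
    intro δ' h
    have h1 : δ' • w = ∏ δ ∈ (Finset.univ.filter fun δ => Q δ = P), (δ' * δ) • z := by
      rw [hw]
      change MulSemiringAction.toRingHom Γ B δ' _ = _
      rw [map_prod]
      refine Finset.prod_congr rfl (fun δ _ => ?_)
      rw [mul_smul]
      rfl
    rw [h1, hw]
    refine Finset.prod_equiv (Equiv.mulLeft δ') ?_ ?_
    · intro δ
      simp only [Finset.mem_filter, Finset.mem_univ, true_and, Equiv.coe_mulLeft]
      rw [hQmul δ' δ h]
    · intro δ _
      rfl
  have hw1 : w - 1 ∈ P := by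
    rw [← Ideal.Quotient.eq, hw, map_prod, map_one]
    refine Finset.prod_eq_one (fun δ hδ => ?_)
    rw [Finset.mem_filter] at hδ
    rw [← map_one (Ideal.Quotient.mk P), Ideal.Quotient.eq]
    have : δ • z - 1 = δ • (z - 1) := by rw [smul_sub, smul_one]
    rw [this, ← hQmem, hδ.2]
    exact hz1
  have hwP : ∀ γ : Γ, Q γ ≠ P → γ • w ∈ P := by
    intro γ hγ
    have h1mem : (1 : Γ) ∈ (Finset.univ.filter fun δ => Q δ = P) :=
      Finset.mem_filter.mpr ⟨Finset.mem_univ _, hQ1⟩
    obtain ⟨k, hk⟩ := Finset.dvd_prod_of_mem (fun δ : Γ => δ • z) h1mem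
    rw [hw, hk, smul_mul', one_smul]
    exact P.mul_mem_right _ (hz2 γ hγ)
  obtain ⟨u, hu⟩ : ∃ u : B, u = x * w := ⟨_, rfl⟩
  have huD : ∀ δ : Γ, Q δ = P → δ • u = u := by
    intro δ h
    rw [hu, smul_mul', hxD δ h, hwD δ h]
  have huP : ∀ γ : Γ, Q γ ≠ P → γ • u ∈ P := by
    intro γ h
    rw [hu, smul_mul']
    exact P.mul_mem_left _ (hwP γ h)
  have hux : x - u ∈ P := by
    have : x - u = -(x * (w - 1)) := by rw [hu]; ring
    rw [this]
    exact P.neg_mem (P.mul_mem_left _ hw1)
  -- Step 3: sum over the set of conjugates of u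
  obtain ⟨T, hT⟩ : ∃ T : Finset B, T = Finset.univ.image (fun γ : Γ => γ • u) := ⟨_, rfl⟩
  have huT : u ∈ T := by
    rw [hT, Finset.mem_image]
    exact ⟨1, Finset.mem_univ _, one_smul _ _⟩
  refine ⟨∑ b ∈ T, b, ?_, ?_⟩
  · intro γ
    rw [Finset.smul_sum]
    have himg : T.image (fun b => γ • b) = T := by
      rw [hT, Finset.image_image]
      ext b
      simp only [Finset.mem_image, Finset.mem_univ, true_and, Function.comp_apply]
      constructor
      · rintro ⟨g, rfl⟩
        exact ⟨γ * g, mul_smul _ _ _⟩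
      · rintro ⟨g, rfl⟩
        exact ⟨γ⁻¹ * g, by rw [← mul_smul, mul_inv_cancel_left]⟩
    conv_rhs => rw [← himg]
    rw [Finset.sum_image]
    intro a _ b _ hab
    exact MulAction.injective γ hab
  · have hsplit : ∑ b ∈ T, b = u + ∑ b ∈ T.erase u, b := by
      exact (Finset.add_sum_erase T (fun b => b) huT).symm
    rw [hsplit]
    have hrest : ∑ b ∈ T.erase u, b ∈ P := by
      refine Ideal.sum_mem _ (fun b hb => ?_)
      rw [Finset.mem_erase, hT, Finset.mem_image] at hb
      obtain ⟨hne, γ, -, rfl⟩ := hb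
      apply huP
      intro hQ
      exact hne (huD γ hQ)
    have : x - (u + ∑ b ∈ T.erase u, b) = (x - u) - ∑ b ∈ T.erase u, b := by ring
    rw [this]
    exact P.sub_mem hux hrest

end Groth.Agent.S12936
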