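import Mathlib
import Groth.Statements.S12946

set_option autoImplicit false
universe u
open CategoryTheory AlgebraicGeometry
open AlgSt

namespace Groth.Agent.S12946

theorem lqf_of_unram {X Y : Scheme.{u}} (f : X ⟶ Y) (h1 : LocallyOfFiniteType f)
    (h2 : FormallyUnramified f) : LocallyQuasiFinite f := by
  rw [HasRingHomProperty.iff_appLE (P := @LocallyQuasiFinite)]
  intro U V e
  have h1 := HasRingHomProperty.appLE (P := @LocallyOfFiniteType) f h1 U V e
  have h2 := HasRingHomProperty.appLE (P := @FormallyUnramified) f h2 U V e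
  generalize (Scheme.Hom.appLE f U.1 V.1 e).hom = φ at h1 h2 ⊢
  algebraize [φ]
  rw [RingHom.QuasiFinite]
  infer_instance


/-- A DM morphism of algebraic stacks is quasi-DM (an unramified morphism of algebraic spaces being
locally quasi-finite). -/
theorem result
    (S : Scheme.{u}) (𝒳 : AlgSt.Cat S) (𝒴 : AlgSt.Cat S)
    (h𝒳 : AlgSt.IsAlgStack Scheme.fppfPrecoverage 𝒳)
    (h𝒴 : AlgSt.IsAlgStack Scheme.fppfPrecoverage 𝒴)
    (f : 𝒳 ⥤ᵇ 𝒴) :
    AlgSt.IsDMMor f → AlgSt.IsQuasiDMMor f := by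
  intro hf U y
  obtain ⟨F, e, he, hP⟩ := hf U y
  refine ⟨F, e, he, ?_⟩
  intro V W a b h ha hb hab
  have := hP a b h ha hb hab
  exact ⟨lqf_of_unram _ this.1 this.2, this.1⟩

end Groth.Agent.S12946
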