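import Groth.Statements.S1302
import Mathlib
import Groth.Agent.Lib.helper22.NilAffine

set_option autoImplicit false
universe u
open FlatMor

namespace Groth.Agent.S1302

section Helpers

open CategoryTheory CategoryTheory.Limits AlgebraicGeometry

open Groth.Agent.H22.ThickAffine Groth.Agent.H22.NilAffine in
theorem main {X X' S S' : Scheme.{u}} (iX : X ⟶ X') (iS : S ⟶ S') (f : X ⟶ S) (f' : X' ⟶ S')
    (hX : MoreMor.IsThickening iX) (hS : MoreMor.IsThickening iS) (w : iX ≫ f' = f ≫ iS) :
    IsAffineHom f ↔ IsAffineHom f' := by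
  haveI : IsClosedImmersion iX := hX.1
  haveI : Surjective iX := hX.2
  haveI : IsClosedImmersion iS := hS.1
  haveI : Surjective iS := hS.2
  have hpre : ∀ U : S'.Opens, iX ⁻¹ᵁ (f' ⁻¹ᵁ U) = f ⁻¹ᵁ (iS ⁻¹ᵁ U) := by
    intro U
    change (iX ≫ f') ⁻¹ᵁ U = (f ≫ iS) ⁻¹ᵁ U
    rw [w]
  constructor
  · intro hf
    refine ⟨fun U hU => ?_⟩
    apply isAffineOpen_of_isAffineOpen_preimage' iX (f' ⁻¹ᵁ U)
    rw [hpre]
    exact (hU.preimage iS).preimage f
  · intro hf'
    refine ⟨fun V hV => ?_⟩
    have hV' : iS ⁻¹ᵁ (imgOpen iS V) = V := preimage_imgOpen iS V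
    have hU : IsAffineOpen (imgOpen iS V) := by
      apply isAffineOpen_of_isAffineOpen_preimage' iS
      rw [hV']
      exact hV
    have := (hU.preimage f').preimage iX
    rw [hpre, hV'] at this
    exact this

end Helpers

open AlgebraicGeometry CategoryTheory Limits in
/-- For a morphism of thickenings, that is a commutative square whose horizontal maps are thickenings
(closed immersions that are surjective on points), the morphism between the thin schemes is affine
if and only if the morphism between the thick ones is. -/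
theorem result {X X' S S' : Scheme.{u}} (iX : X ⟶ X') (iS : S ⟶ S') (f : X ⟶ S) (f' : X' ⟶ S')
    (hX : MoreMor.IsThickening iX) (hS : MoreMor.IsThickening iS) (w : iX ≫ f' = f ≫ iS) :
    IsAffineHom f ↔ IsAffineHom f' := by
  exact main iX iS f f' hX hS w

end Groth.Agent.S1302
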