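import Groth.Statements.S13042
import Mathlib

set_option autoImplicit false
set_option linter.style.haveILetI false
universe u
open MaxMod

namespace Groth.Agent.S13042

lemma add_pow_p {S : Type*} [CommRing S] (p : ℕ) (hp : p.Prime) (hS : (p : S) = 0) (x y : S) :
    (x + y) ^ p = x ^ p + y ^ p := by
  obtain ⟨r, hr⟩ := exists_add_pow_prime_eq hp x y
  rw [hr, hS]; ring

lemma sub_pow_p {S : Type*} [CommRing S] (p : ℕ) (hp : p.Prime) (hS : (p : S) = 0) (x y : S) :
    (x - y) ^ p = x ^ p - y ^ p := by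
  have := add_pow_p p hp hS (x - y) y
  rw [sub_add_cancel] at this
  rw [this]; ring

/-- `1 + λ w` is invertible when `w ^ p = f` and `c (1 + λ^p f) = 1`. -/
lemma one_add_mul_inv {R S : Type*} [CommRing R] [CommRing S] [Algebra R S] (p : ℕ) (hp : p.Prime)
    (hS : (p : S) = 0) (lam f c : R) (hc : (1 + lam ^ p * f) * c = 1) (w : S)
    (hw : w ^ p = algebraMap R S f) :
    (1 + algebraMap R S lam * w) * ((1 + algebraMap R S lam * w) ^ (p - 1) * algebraMap R S c)
      = 1 := by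
  have hp1 : p - 1 + 1 = p := Nat.sub_add_cancel hp.one_le
  calc (1 + algebraMap R S lam * w) * ((1 + algebraMap R S lam * w) ^ (p - 1) * algebraMap R S c)
      = (1 + algebraMap R S lam * w) ^ (p - 1 + 1) * algebraMap R S c := by ring
    _ = (1 + algebraMap R S lam * w) ^ p * algebraMap R S c := by rw [hp1]
    _ = (1 + algebraMap R S lam ^ p * algebraMap R S f) * algebraMap R S c := by
        rw [add_pow_p p hp hS, one_pow, mul_pow, hw]
    _ = algebraMap R S ((1 + lam ^ p * f) * c) := by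
        simp only [map_mul, map_add, map_one, map_pow]
    _ = 1 := by rw [hc, map_one]


open MvPolynomial in
/-- Let p be a prime, R a local ring of characteristic p, λ an element of the maximal ideal of R and f ∈
R. Then there is an isomorphism of R-algebras R[W₁, W₂]/(W₁^p − f, W₂^p − f) ≅ R[x, W]/(x^p, W^p −
f) with W₁ ↦ x + W + λ·x·W and W₂ ↦ W; that is, Spec R[W]/(W^p − f) with the action w ↦ x + w + λxw
is a torsor under the group scheme Spec R[x]/(x^p) with law x₁ ∘ x₂ = x₁ + x₂ + λx₁x₂. (The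
published statement is over a complete discrete valuation ring of characteristic p with λ a nonzero
nonunit, and also asserts that for f in the fraction field with negative valuation v(f) > −p·v(λ)
the torsor W^p = f extends to a torsor over R, using the coordinate 1/W; that second case fails: for
p = 2, λ = π a uniformizer and f = 1/π, every model is Spec R[π^a t] with t² = π, and none of these
is a torsor since the coaction sends t to t − π(1 + t)x. Only the case f ∈ R is stated, and the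
argument there uses only that R is local of characteristic p.) -/
theorem result
    (p : ℕ) [Fact p.Prime] (R : Type u) [CommRing R] [IsLocalRing R] [CharP R p]
    (lam f : R) (hlam : lam ∈ IsLocalRing.maximalIdeal R) :
    ∃ e : (MvPolynomial (Fin 2) R ⧸ Ideal.span {(X 0 ^ p - C f : MvPolynomial (Fin 2) R), X 1 ^ p - C f}) ≃ₐ[R]
        (MvPolynomial (Fin 2) R ⧸ Ideal.span {(X 0 ^ p : MvPolynomial (Fin 2) R), X 1 ^ p - C f}),
      e (Ideal.Quotient.mk _ (X 0)) = Ideal.Quotient.mk _ (X 0 + X 1 + C lam * X 0 * X 1) ∧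
      e (Ideal.Quotient.mk _ (X 1)) = Ideal.Quotient.mk _ (X 1) := by
  classical
  have hp : p.Prime := Fact.out
  -- the unit `1 + lam^p f`
  have hunit : IsUnit (1 + lam ^ p * f) := by
    have hmem : lam ^ p * f ∈ IsLocalRing.maximalIdeal R :=
      Ideal.mul_mem_right _ _ (Ideal.pow_mem_of_mem _ hlam p hp.pos)
    rcases IsLocalRing.isUnit_or_isUnit_of_add_one
      (show (1 + lam ^ p * f) + (-(lam ^ p * f)) = 1 by ring) with h | h
    · exact h
    · exfalso
      have : -(lam ^ p * f) ∈ IsLocalRing.maximalIdeal R := Ideal.neg_mem_iff _ |>.2 hmem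
      exact (IsLocalRing.mem_maximalIdeal _).1 this h
  obtain ⟨c, hc⟩ := hunit.exists_right_inv
  obtain ⟨I₁, hI₁⟩ : ∃ I : Ideal (MvPolynomial (Fin 2) R),
      I = Ideal.span {(X 0 ^ p - C f : MvPolynomial (Fin 2) R), X 1 ^ p - C f} := ⟨_, rfl⟩
  obtain ⟨I₂, hI₂⟩ : ∃ I : Ideal (MvPolynomial (Fin 2) R),
      I = Ideal.span {(X 0 ^ p : MvPolynomial (Fin 2) R), X 1 ^ p - C f} := ⟨_, rfl⟩
  rw [← hI₁, ← hI₂]
  have hS₁ : ((p : ℕ) : MvPolynomial (Fin 2) R ⧸ I₁) = 0 := by
    rw [← map_natCast (algebraMap R (MvPolynomial (Fin 2) R ⧸ I₁)), CharP.cast_eq_zero R p,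
      map_zero]
  have hS₂ : ((p : ℕ) : MvPolynomial (Fin 2) R ⧸ I₂) = 0 := by
    rw [← map_natCast (algebraMap R (MvPolynomial (Fin 2) R ⧸ I₂)), CharP.cast_eq_zero R p,
      map_zero]
  -- relations in the quotients
  have hw₁0 : (Ideal.Quotient.mk I₁ (X 0)) ^ p = algebraMap R _ f := by
    rw [← map_pow, ← sub_eq_zero]
    have : algebraMap R (MvPolynomial (Fin 2) R ⧸ I₁) f = Ideal.Quotient.mk I₁ (C f) := rfl
    rw [this, ← map_sub, Ideal.Quotient.eq_zero_iff_mem, hI₁]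
    exact Ideal.subset_span (by simp)
  have hw₁1 : (Ideal.Quotient.mk I₁ (X 1)) ^ p = algebraMap R _ f := by
    rw [← map_pow, ← sub_eq_zero]
    have : algebraMap R (MvPolynomial (Fin 2) R ⧸ I₁) f = Ideal.Quotient.mk I₁ (C f) := rfl
    rw [this, ← map_sub, Ideal.Quotient.eq_zero_iff_mem, hI₁]
    exact Ideal.subset_span (by simp)
  have hw₂0 : (Ideal.Quotient.mk I₂ (X 0)) ^ p = 0 := by
    rw [← map_pow, Ideal.Quotient.eq_zero_iff_mem, hI₂]
    exact Ideal.subset_span (by simp)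
  have hw₂1 : (Ideal.Quotient.mk I₂ (X 1)) ^ p = algebraMap R _ f := by
    rw [← map_pow, ← sub_eq_zero]
    have : algebraMap R (MvPolynomial (Fin 2) R ⧸ I₂) f = Ideal.Quotient.mk I₂ (C f) := rfl
    rw [this, ← map_sub, Ideal.Quotient.eq_zero_iff_mem, hI₂]
    exact Ideal.subset_span (by simp)
  set x := Ideal.Quotient.mk I₂ (X 0) with hx
  set W := Ideal.Quotient.mk I₂ (X 1) with hW
  set w₁ := Ideal.Quotient.mk I₁ (X 0) with hw₁
  set w₂ := Ideal.Quotient.mk I₁ (X 1) with hw₂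
  -- the forward map
  let φ₀ : MvPolynomial (Fin 2) R →ₐ[R] (MvPolynomial (Fin 2) R ⧸ I₂) :=
    aeval ![x + W + algebraMap R _ lam * x * W, W]
  have hφ₀0 : φ₀ (X 0) = x + W + algebraMap R _ lam * x * W := by simp [φ₀]
  have hφ₀1 : φ₀ (X 1) = W := by simp [φ₀]
  have hφ₀C : ∀ r : R, φ₀ (C r) = algebraMap R _ r := fun r => by simp [φ₀]
  have hφ₀I : ∀ a ∈ I₁, φ₀ a = 0 := by
    intro a ha
    have hle : I₁ ≤ RingHom.ker φ₀ := by
      rw [hI₁, Ideal.span_le]
      intro z hz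
      rcases hz with rfl | hz
      · show φ₀ (X 0 ^ p - C f) = 0
        rw [map_sub, map_pow, hφ₀0, hφ₀C, add_pow_p p hp hS₂, add_pow_p p hp hS₂, mul_pow, mul_pow,
          hw₂0, hw₂1]
        ring
      · rw [Set.mem_singleton_iff] at hz
        subst hz
        show φ₀ (X 1 ^ p - C f) = 0
        rw [map_sub, map_pow, hφ₀1, hφ₀C, hw₂1, sub_self]
    exact hle ha
  let φ : (MvPolynomial (Fin 2) R ⧸ I₁) →ₐ[R] (MvPolynomial (Fin 2) R ⧸ I₂) :=
    Ideal.Quotient.liftₐ I₁ φ₀ hφ₀I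
  have hφmk : ∀ a, φ (Ideal.Quotient.mk I₁ a) = φ₀ a := fun a => Ideal.Quotient.liftₐ_apply _ _ _ _
  -- the backward map
  set u : MvPolynomial (Fin 2) R ⧸ I₁ :=
    (1 + algebraMap R _ lam * w₂) ^ (p - 1) * algebraMap R _ c with hu
  have hu1 : (1 + algebraMap R _ lam * w₂) * u = 1 :=
    one_add_mul_inv p hp hS₁ lam f c hc w₂ hw₁1
  let ψ₀ : MvPolynomial (Fin 2) R →ₐ[R] (MvPolynomial (Fin 2) R ⧸ I₁) :=
    aeval ![(w₁ - w₂) * u, w₂]
  have hψ₀0 : ψ₀ (X 0) = (w₁ - w₂) * u := by simp [ψ₀]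
  have hψ₀1 : ψ₀ (X 1) = w₂ := by simp [ψ₀]
  have hψ₀C : ∀ r : R, ψ₀ (C r) = algebraMap R _ r := fun r => by simp [ψ₀]
  have hψ₀I : ∀ a ∈ I₂, ψ₀ a = 0 := by
    intro a ha
    have hle : I₂ ≤ RingHom.ker ψ₀ := by
      rw [hI₂, Ideal.span_le]
      intro z hz
      rcases hz with rfl | hz
      · show ψ₀ (X 0 ^ p) = 0
        rw [map_pow, hψ₀0, mul_pow, sub_pow_p p hp hS₁, hw₁0, hw₁1, sub_self, zero_mul]
      · rw [Set.mem_singleton_iff] at hz
        subst hz
        show ψ₀ (X 1 ^ p - C f) = 0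
        rw [map_sub, map_pow, hψ₀1, hψ₀C, hw₁1, sub_self]
    exact hle ha
  let ψ : (MvPolynomial (Fin 2) R ⧸ I₂) →ₐ[R] (MvPolynomial (Fin 2) R ⧸ I₁) :=
    Ideal.Quotient.liftₐ I₂ ψ₀ hψ₀I
  have hψmk : ∀ a, ψ (Ideal.Quotient.mk I₂ a) = ψ₀ a := fun a => Ideal.Quotient.liftₐ_apply _ _ _ _
  -- images of generators
  have hφw₁ : φ w₁ = x + W + algebraMap R _ lam * x * W := by rw [hw₁, hφmk, hφ₀0]
  have hφw₂ : φ w₂ = W := by rw [hw₂, hφmk, hφ₀1]
  have hψx : ψ x = (w₁ - w₂) * u := by rw [hx, hψmk, hψ₀0]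
  have hψW : ψ W = w₂ := by rw [hW, hψmk, hψ₀1]
  have hφu : φ u = (1 + algebraMap R _ lam * W) ^ (p - 1) * algebraMap R _ c := by
    rw [hu, map_mul, map_pow, map_add, map_one, map_mul, hφw₂, AlgHom.commutes, AlgHom.commutes]
  have hu2 : (1 + algebraMap R _ lam * W) * φ u = 1 := by
    rw [hφu]
    exact one_add_mul_inv p hp hS₂ lam f c hc W hw₂1
  -- the two composites
  have h12 : ψ.comp φ = AlgHom.id R _ := by
    apply Ideal.Quotient.algHom_ext
    apply MvPolynomial.algHom_ext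
    intro i
    fin_cases i
    · show ψ (φ w₁) = w₁
      rw [hφw₁, map_add, map_add, map_mul, map_mul, hψx, hψW, AlgHom.commutes]
      linear_combination (w₁ - w₂) * hu1
    · show ψ (φ w₂) = w₂
      rw [hφw₂, hψW]
  have h21 : φ.comp ψ = AlgHom.id R _ := by
    apply Ideal.Quotient.algHom_ext
    apply MvPolynomial.algHom_ext
    intro i
    fin_cases i
    · show φ (ψ x) = x
      rw [hψx, map_mul, map_sub, hφw₁, hφw₂]
      linear_combination x * hu2
    · show φ (ψ W) = W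
      rw [hψW, hφw₂]
  refine ⟨AlgEquiv.ofAlgHom φ ψ h21 h12, ?_, ?_⟩
  · show φ w₁ = _
    rw [hφw₁, hx, hW]
    simp only [map_add, map_mul]
    rfl
  · show φ w₂ = _
    rw [hφw₂]

end Groth.Agent.S13042
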