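import Groth.Statements.S14188
import Mathlib

set_option autoImplicit false
universe u
open CategoryTheory CategoryTheory.Limits AlgebraicGeometry
open FlatMor

namespace Groth.Agent.S14188

section Helpers
open AlgebraicGeometry CategoryTheory Limits TopologicalSpace TensorProduct

lemma eq_zero_of_iso {A B : CommRingCat.{u}} (φ : A ⟶ B) [IsIso φ] (x : A) (h : φ.hom x = 0) :
    x = 0 :=
  (ConcreteCategory.bijective_of_isIso φ).1 (by rw [map_zero]; exact h)

lemma inl_injective_of_isPushout {R S T P : CommRingCat.{u}} {a : R ⟶ S} {b : R ⟶ T}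
    {inl : S ⟶ P} {inr : T ⟶ P}
    (h : IsPushout a b inl inr) (ha : a.hom.Flat) (hb : Function.Injective b.hom) :
    Function.Injective inl.hom := by
  algebraize [a.hom, b.hom]
  have h' := CommRingCat.isPushout_tensorProduct R S T
  have e1 : CommRingCat.ofHom (algebraMap R S) = a := rfl
  have e2 : CommRingCat.ofHom (algebraMap R T) = b := rfl
  rw [e1, e2] at h'
  have h3 := h'.inl_isoIsPushout_hom _ _ h
  have hfl : Module.Flat R S := ha
  have hinj : Function.Injective
      (Algebra.TensorProduct.includeLeftRingHom : S →+* S ⊗[R] T) :=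
    Algebra.TensorProduct.includeLeft_injective (S := R) hb
  rw [← h3, CommRingCat.hom_comp, RingHom.coe_comp]
  exact (ConcreteCategory.bijective_of_isIso (h'.isoIsPushout _ _ h).hom).1.comp hinj

/-- sections over small affine opens of a flat scheme over an integral base inject into the
generic fibre -/
lemma app_injective_small (T Y : Scheme.{u}) [IsIntegral T] (pY : Y ⟶ T) [Flat pY]
    (US : T.Opens) (hUS : IsAffineOpen US) (V : Y.Opens) (hV : IsAffineOpen V)
    (hVU : V ≤ pY ⁻¹ᵁ US) (c : Γ(Y, V))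
    (hc : ((pullback.fst pY (T.fromSpecStalk (genericPoint T))).app V).hom c = 0) : c = 0 := by
  by_cases hne : (V : Set Y).Nonempty
  swap
  · have hV0 : V = ⊥ := by
      ext x; simp only [Opens.coe_bot, Set.mem_empty_iff_false, iff_false]
      exact fun hx => hne ⟨x, hx⟩
    subst hV0
    have : Subsingleton Γ(Y, (⊥ : Y.Opens)) :=
      CommRingCat.subsingleton_of_isTerminal (Y.sheaf.isTerminalOfEmpty)
    exact Subsingleton.elim _ _
  obtain ⟨y, hy⟩ := hne
  have hηU : genericPoint T ∈ US :=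
    ((genericPoint_spec T).mem_open_set_iff US.2).mpr ⟨pY y, trivial, hVU hy⟩
  have H : IsPullback (pullback.fst pY (T.fromSpecStalk (genericPoint T)))
      (pullback.snd pY (T.fromSpecStalk (genericPoint T))) pY (T.fromSpecStalk (genericPoint T)) :=
    IsPullback.of_hasPullback _ _
  have hUST : (⊤ : (Spec (T.presheaf.stalk (genericPoint T))).Opens) ≤
      (T.fromSpecStalk (genericPoint T)) ⁻¹ᵁ US := by
    intro x _
    have hx : (T.fromSpecStalk (genericPoint T)) x ∈ Set.range (T.fromSpecStalk (genericPoint T)) :=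
      ⟨x, rfl⟩
    rw [Scheme.range_fromSpecStalk] at hx
    exact hx.mem_open US.2 hηU
  have hiso := isIso_pushoutSection_of_isAffineOpen H hUST hVU rfl hUS (isAffineOpen_top _) hV
  have hpo := (isIso_pushoutSection_iff H hUST hVU rfl).mp hiso
  have hfl : (pY.appLE US V hVU).hom.Flat :=
    HasRingHomProperty.appLE (P := @Flat) pY ‹Flat pY› ⟨US, hUS⟩ ⟨V, hV⟩ _
  have hb : Function.Injective ((T.fromSpecStalk (genericPoint T)).appLE US ⊤ hUST).hom := by
    rw [injective_iff_map_eq_zero]
    intro a ha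
    have hid : (Spec (T.presheaf.stalk (genericPoint T))).presheaf.map
        (homOfLE (le_top : (T.fromSpecStalk (genericPoint T)) ⁻¹ᵁ US ≤ ⊤)).op ≫
        (Spec (T.presheaf.stalk (genericPoint T))).presheaf.map (homOfLE hUST).op = 𝟙 _ := by
      rw [← Functor.map_comp, ← op_comp]
      have : homOfLE hUST ≫ homOfLE (le_top : (T.fromSpecStalk (genericPoint T)) ⁻¹ᵁ US ≤ ⊤)
          = 𝟙 _ := Subsingleton.elim _ _
      rw [this, op_id, CategoryTheory.Functor.map_id]
    rw [Scheme.Hom.appLE, Scheme.fromSpecStalk_app hηU, Category.assoc, Category.assoc, hid,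
      Category.comp_id] at ha
    simp only [CommRingCat.hom_comp, RingHom.comp_apply] at ha
    have h3 := eq_zero_of_iso _ _ ha
    exact (germ_injective_of_isIntegral T (genericPoint T) hηU) (by rw [map_zero]; exact h3)
  have hinj := inl_injective_of_isPushout hpo hfl hb
  apply hinj
  rw [map_zero, Scheme.Hom.appLE, CommRingCat.hom_comp, RingHom.comp_apply, hc, map_zero]

lemma app_injective (T Y : Scheme.{u}) [IsIntegral T] (pY : Y ⟶ T) [Flat pY] (V : Y.Opens)
    (c : Γ(Y, V))
    (hc : ((pullback.fst pY (T.fromSpecStalk (genericPoint T))).app V).hom c = 0) : c = 0 := by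
  refine TopCat.Sheaf.eq_of_locally_eq' Y.sheaf
    (fun i : {W : Y.Opens // IsAffineOpen W ∧ W ≤ V ∧
      ∃ US : T.Opens, IsAffineOpen US ∧ W ≤ pY ⁻¹ᵁ US} => i.1) V
    (fun i => homOfLE i.2.2.1) ?_ c 0 ?_
  · intro x hx
    obtain ⟨_, ⟨US, hUS, rfl⟩, hxUS, -⟩ := T.isBasis_affineOpens.exists_subset_of_mem_open
      (Set.mem_univ (pY x)) isOpen_univ
    obtain ⟨_, ⟨W, hW, rfl⟩, hxW, hWV⟩ := Y.isBasis_affineOpens.exists_subset_of_mem_open
      (show x ∈ (V ⊓ pY ⁻¹ᵁ US : Y.Opens) from ⟨hx, hxUS⟩) (V ⊓ pY ⁻¹ᵁ US).2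
    exact Opens.mem_iSup.mpr ⟨⟨W, hW, fun y hy => (hWV hy).1, US, hUS, fun y hy => (hWV hy).2⟩, hxW⟩
  · intro i
    rw [map_zero]
    obtain ⟨W, hW, hWV, US, hUS, hWU⟩ := i
    refine app_injective_small T Y pY US hUS W hW hWU _ ?_
    have := (pullback.fst pY (T.fromSpecStalk (genericPoint T))).naturality (homOfLE hWV).op
    have h2 := congr($(this).hom c)
    simp only [CommRingCat.hom_comp, RingHom.comp_apply] at h2
    refine h2.trans ?_
    rw [hc, map_zero]

theorem main (T Y Z : Scheme.{u}) [IsIntegral T]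
    (pY : Y ⟶ T) (pZ : Z ⟶ T) [Flat pY] [Flat pZ] [IsSeparated pZ]
    (ψ : pullback pY (T.fromSpecStalk (genericPoint T)) ⟶ Z)
    (hψ : ψ ≫ pZ = pullback.fst pY (T.fromSpecStalk (genericPoint T)) ≫ pY)
    (gr : pullback pY (T.fromSpecStalk (genericPoint T)) ⟶ pullback pY pZ)
    (hgr₁ : gr ≫ pullback.fst pY pZ = pullback.fst pY (T.fromSpecStalk (genericPoint T)))
    (hgr₂ : gr ≫ pullback.snd pY pZ = ψ) :
    (∃ φ : Y ⟶ Z, φ ≫ pZ = pY ∧ pullback.fst pY (T.fromSpecStalk (genericPoint T)) ≫ φ = ψ) ↔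
      IsIso (gr.imageι ≫ pullback.fst pY pZ) := by
  constructor
  · rintro ⟨φ, hφ1, hφ2⟩
    let γ : Y ⟶ pullback pY pZ := pullback.lift (𝟙 Y) φ (by rw [Category.id_comp, hφ1])
    have hγ1 : γ ≫ pullback.fst pY pZ = 𝟙 Y := pullback.lift_fst _ _ _
    have hγ2 : γ ≫ pullback.snd pY pZ = φ := pullback.lift_snd _ _ _
    have hγ : IsClosedImmersion γ := by
      have : IsClosedImmersion (γ ≫ pullback.fst pY pZ) := by rw [hγ1]; infer_instance
      exact IsClosedImmersion.of_comp γ (pullback.fst pY pZ)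
    have hgr : gr = pullback.fst pY (T.fromSpecStalk (genericPoint T)) ≫ γ := by
      apply pullback.hom_ext
      · rw [hgr₁, Category.assoc, hγ1, Category.comp_id]
      · rw [hgr₂, Category.assoc, hγ2, hφ2]
    have hker : gr.ker = γ.ker := by
      rw [hgr]
      refine le_antisymm ?_ (Scheme.Hom.le_ker_comp _ _)
      refine Scheme.IdealSheafData.le_ofIdeals_iff.mpr (fun W b hb => ?_)
      have hb' := Scheme.Hom.ideal_ker_le _ W hb
      rw [RingHom.mem_ker] at hb' ⊢
      exact app_injective T Y pY (γ ⁻¹ᵁ W.1) _ hb'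
    have key : ∀ (I : (pullback pY pZ).IdealSheafData), I = γ.ker →
        IsIso (I.subschemeι ≫ pullback.fst pY pZ) := by
      rintro _ rfl
      have h1 : γ.toImage ≫ (γ.imageι ≫ pullback.fst pY pZ) = 𝟙 Y := by
        rw [← Category.assoc, γ.toImage_imageι, hγ1]
      have : IsIso (γ.toImage ≫ (γ.imageι ≫ pullback.fst pY pZ)) := by rw [h1]; infer_instance
      exact IsIso.of_isIso_comp_left γ.toImage _
    exact key gr.ker hker
  · intro he
    refine ⟨inv (gr.imageι ≫ pullback.fst pY pZ) ≫ gr.imageι ≫ pullback.snd pY pZ, ?_, ?_⟩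
    · rw [Category.assoc, Category.assoc, ← pullback.condition, ← Category.assoc gr.imageι,
        IsIso.inv_hom_id_assoc]
    · have h1 : pullback.fst pY (T.fromSpecStalk (genericPoint T)) =
          gr.toImage ≫ (gr.imageι ≫ pullback.fst pY pZ) := by
        rw [← Category.assoc, gr.toImage_imageι, hgr₁]
      rw [h1, Category.assoc, IsIso.hom_inv_id_assoc, ← Category.assoc, gr.toImage_imageι, hgr₂]

end Helpers


/-- Let T be an integral scheme with generic point η, let Y and Z be schemes flat over T with Z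
separated over T, and let ψ : Y_η → Z be a T-morphism from the generic fibre Y_η = Y ×_T Spec
O_{T,η} (equivalently, an η-morphism Y_η → Z_η). Let gr : Y_η → Y ×_T Z be the graph of ψ, the
morphism whose components are the projection Y_η → Y and ψ, and let Γ ⊆ Y ×_T Z be the
scheme-theoretic image of gr (the schematic closure of the graph). Then ψ extends to a T-morphism φ
: Y → Z, meaning that the composite Y_η → Y → Z is ψ, if and only if the composite of the inclusion
Γ → Y ×_T Z with the first projection is an isomorphism Γ ≅ Y. -/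
theorem result (T Y Z : Scheme.{u}) [IsIntegral T]
    (pY : Y ⟶ T) (pZ : Z ⟶ T) [Flat pY] [Flat pZ] [IsSeparated pZ]
    (ψ : pullback pY (T.fromSpecStalk (genericPoint T)) ⟶ Z)
    (hψ : ψ ≫ pZ = pullback.fst pY (T.fromSpecStalk (genericPoint T)) ≫ pY)
    (gr : pullback pY (T.fromSpecStalk (genericPoint T)) ⟶ pullback pY pZ)
    (hgr₁ : gr ≫ pullback.fst pY pZ = pullback.fst pY (T.fromSpecStalk (genericPoint T)))
    (hgr₂ : gr ≫ pullback.snd pY pZ = ψ) :
    (∃ φ : Y ⟶ Z, φ ≫ pZ = pY ∧ pullback.fst pY (T.fromSpecStalk (genericPoint T)) ≫ φ = ψ) ↔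
      IsIso (gr.imageι ≫ pullback.fst pY pZ) := by
  exact main T Y Z pY pZ ψ hψ gr hgr₁ hgr₂

end Groth.Agent.S14188
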