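import Groth.Statements.S13044
import Mathlib
import Groth.Agent.S14188

set_option autoImplicit false
universe u
open MaxMod

namespace Groth.Agent.S13044

section Helpers

open AlgebraicGeometry CategoryTheory Limits TopologicalSpace

lemma exists_factor' (R : CommRingCat.{u}) (K : Type u) [IsDomain R] [Field K] [Algebra R K]
    [IsFractionRing R K] :
    ∃ s : Spec ((Spec R).presheaf.stalk (genericPoint (Spec R))) ⟶ Spec (CommRingCat.of K),
      (Spec R).fromSpecStalk (genericPoint (Spec R)) =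
        s ≫ Spec.map (CommRingCat.ofHom (algebraMap R K)) := by
  obtain ⟨x, hx⟩ : ∃ x : PrimeSpectrum R, x = genericPoint (Spec R) := ⟨_, rfl⟩
  have hu : ∀ y : nonZeroDivisors (R : Type u),
      IsUnit ((StructureSheaf.toStalk R x).hom y) := by
    intro y
    have := IsLocalization.map_units
      ((Spec.structureSheaf R).presheaf.stalk x)
      (M := x.asIdeal.primeCompl) ⟨y.1, by
        rw [hx, genericPoint_eq_bot_of_affine]
        show y.1 ∉ (⊥ : Ideal R)
        rw [Ideal.mem_bot]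
        exact nonZeroDivisors.ne_zero y.2⟩
    exact this
  rw [← hx]
  let φ : CommRingCat.of K ⟶ (Spec R).presheaf.stalk x :=
    CommRingCat.ofHom (IsLocalization.lift (M := nonZeroDivisors (R : Type u)) (S := K) hu)
  have hφ : ∀ r : R, φ.hom (algebraMap R K r) = (StructureSheaf.toStalk R x).hom r :=
    fun r => IsLocalization.lift_eq _ r
  refine ⟨Spec.map φ, ?_⟩
  rw [← Spec.map_comp]
  refine (Spec.fromSpecStalk_eq' R x).trans ?_
  congr 1
  ext r
  exact (hφ r).symm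

lemma exists_factor (R K : Type u) [CommRing R] [IsDomain R] [Field K] [Algebra R K]
    [IsFractionRing R K] :
    ∃ s : Spec ((Spec (CommRingCat.of R)).presheaf.stalk (genericPoint (Spec (CommRingCat.of R))))
        ⟶ Spec (CommRingCat.of K),
      (Spec (CommRingCat.of R)).fromSpecStalk (genericPoint (Spec (CommRingCat.of R))) =
        s ≫ Spec.map (CommRingCat.ofHom (algebraMap R K)) :=
  exists_factor' (CommRingCat.of R) K

lemma exists_lift (T X P Z : Scheme.{u}) [IsIntegral T] (pX : X ⟶ T) [Flat pX]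
    (i : Z ⟶ P) [IsClosedImmersion i] (g : X ⟶ P)
    (d : pullback pX (T.fromSpecStalk (genericPoint T)) ⟶ Z)
    (hd : d ≫ i = pullback.fst pX (T.fromSpecStalk (genericPoint T)) ≫ g) :
    ∃ c : X ⟶ Z, c ≫ i = g := by
  have h1 : i.ker ≤ (pullback.fst pX (T.fromSpecStalk (genericPoint T)) ≫ g).ker := by
    rw [← hd]; exact Scheme.Hom.le_ker_comp _ _
  have h2 : (pullback.fst pX (T.fromSpecStalk (genericPoint T)) ≫ g).ker ≤ g.ker := by
    refine Scheme.IdealSheafData.le_ofIdeals_iff.mpr (fun W b hb => ?_)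
    have hb' := Scheme.Hom.ideal_ker_le _ W hb
    rw [RingHom.mem_ker] at hb' ⊢
    exact Groth.Agent.S14188.app_injective T X pX (g ⁻¹ᵁ W.1) _ hb'
  exact ⟨IsClosedImmersion.lift i g (h1.trans h2), IsClosedImmersion.lift_fac _ _ _⟩

theorem main' (T₀ : Scheme.{u}) [IsIntegral T₀]
    (Y Γ : Scheme.{u}) (f : Y ⟶ T₀) [Flat f]
    (p₁ p₂ : Γ ⟶ Y) (h : p₁ ≫ f = p₂ ≫ f)
    (hΓ : IsClosedImmersion (pullback.lift p₁ p₂ h))
    [Flat (p₁ ≫ f)] [Flat p₁] [Flat p₂]
    (hK' : ∀ (X : Scheme.{u}) (pX : X ⟶ T₀),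
      _root_.Equivalence fun a b : {a : pullback pX (T₀.fromSpecStalk (genericPoint T₀)) ⟶ Y //
          a ≫ f = pullback.fst pX (T₀.fromSpecStalk (genericPoint T₀)) ≫ pX} =>
        ∃ c : pullback pX (T₀.fromSpecStalk (genericPoint T₀)) ⟶ Γ, c ≫ p₁ = a.1 ∧ c ≫ p₂ = b.1) :
    ∀ (T : Scheme.{u}) (t : T ⟶ T₀),
      _root_.Equivalence fun a b : {a : T ⟶ Y // a ≫ f = t} =>
        ∃ c : T ⟶ Γ, c ≫ p₁ = a.1 ∧ c ≫ p₂ = b.1 := by
  set η := T₀.fromSpecStalk (genericPoint T₀) with hη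
  -- reflexivity
  obtain ⟨c₀, hc₀⟩ : ∃ c : Y ⟶ Γ, c ≫ pullback.lift p₁ p₂ h = pullback.lift (𝟙 Y) (𝟙 Y) rfl := by
    obtain ⟨d, hd1, hd2⟩ := (hK' Y f).refl ⟨pullback.fst f η, rfl⟩
    refine exists_lift T₀ Y _ Γ f _ _ d ?_
    apply pullback.hom_ext
    · simp only [Category.assoc, pullback.lift_fst, Category.comp_id]; exact hd1
    · simp only [Category.assoc, pullback.lift_snd, Category.comp_id]; exact hd2
  have hc₀1 : c₀ ≫ p₁ = 𝟙 Y := by
    have := congr($hc₀ ≫ pullback.fst f f)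
    simpa only [Category.assoc, pullback.lift_fst] using this
  have hc₀2 : c₀ ≫ p₂ = 𝟙 Y := by
    have := congr($hc₀ ≫ pullback.snd f f)
    simpa only [Category.assoc, pullback.lift_snd] using this
  -- symmetry
  obtain ⟨σ, hσ⟩ : ∃ c : Γ ⟶ Γ, c ≫ pullback.lift p₁ p₂ h = pullback.lift p₂ p₁ h.symm := by
    obtain ⟨d, hd1, hd2⟩ := (hK' Γ (p₁ ≫ f)).symm
      (x := ⟨pullback.fst (p₁ ≫ f) η ≫ p₁, by rw [Category.assoc]⟩)
      (y := ⟨pullback.fst (p₁ ≫ f) η ≫ p₂, by rw [Category.assoc, h]⟩)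
      ⟨pullback.fst (p₁ ≫ f) η, rfl, rfl⟩
    refine exists_lift T₀ Γ _ Γ (p₁ ≫ f) _ _ d ?_
    apply pullback.hom_ext
    · simp only [Category.assoc, pullback.lift_fst]; exact hd1
    · simp only [Category.assoc, pullback.lift_snd]; exact hd2
  have hσ1 : σ ≫ p₁ = p₂ := by
    have := congr($hσ ≫ pullback.fst f f)
    simpa only [Category.assoc, pullback.lift_fst] using this
  have hσ2 : σ ≫ p₂ = p₁ := by
    have := congr($hσ ≫ pullback.snd f f)
    simpa only [Category.assoc, pullback.lift_snd] using this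
  -- transitivity
  have hfl : Flat (pullback.fst p₂ p₁ ≫ p₁ ≫ f) := inferInstance
  obtain ⟨m, hm⟩ : ∃ c : pullback p₂ p₁ ⟶ Γ, c ≫ pullback.lift p₁ p₂ h =
      pullback.lift (pullback.fst p₂ p₁ ≫ p₁) (pullback.snd p₂ p₁ ≫ p₂)
        (by rw [Category.assoc, Category.assoc, ← h, ← pullback.condition_assoc, h]) := by
    set pW := pullback.fst p₂ p₁ ≫ p₁ ≫ f with hpW
    obtain ⟨d, hd1, hd2⟩ := (hK' (pullback p₂ p₁) pW).trans
      (x := ⟨pullback.fst pW η ≫ pullback.fst p₂ p₁ ≫ p₁, by simp only [Category.assoc, hpW]⟩)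
      (y := ⟨pullback.fst pW η ≫ pullback.fst p₂ p₁ ≫ p₂, by simp only [Category.assoc, hpW, h]⟩)
      (z := ⟨pullback.fst pW η ≫ pullback.snd p₂ p₁ ≫ p₂, by
        simp only [Category.assoc, hpW, ← h, ← pullback.condition_assoc]⟩)
      ⟨pullback.fst pW η ≫ pullback.fst p₂ p₁, by simp only [Category.assoc],
        by simp only [Category.assoc]⟩
      ⟨pullback.fst pW η ≫ pullback.snd p₂ p₁, by simp only [Category.assoc, pullback.condition],
        by simp only [Category.assoc]⟩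
    refine exists_lift T₀ (pullback p₂ p₁) _ Γ pW _ _ d ?_
    apply pullback.hom_ext
    · simp only [Category.assoc, pullback.lift_fst]; exact hd1
    · simp only [Category.assoc, pullback.lift_snd]; exact hd2
  have hm1 : m ≫ p₁ = pullback.fst p₂ p₁ ≫ p₁ := by
    have := congr($hm ≫ pullback.fst f f)
    simpa only [Category.assoc, pullback.lift_fst] using this
  have hm2 : m ≫ p₂ = pullback.snd p₂ p₁ ≫ p₂ := by
    have := congr($hm ≫ pullback.snd f f)
    simpa only [Category.assoc, pullback.lift_snd] using this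
  intro T t
  refine ⟨fun a => ⟨a.1 ≫ c₀, ?_, ?_⟩, ?_, ?_⟩
  · rw [Category.assoc, hc₀1, Category.comp_id]
  · rw [Category.assoc, hc₀2, Category.comp_id]
  · rintro a b ⟨c, hc1, hc2⟩
    exact ⟨c ≫ σ, by rw [Category.assoc, hσ1, hc2], by rw [Category.assoc, hσ2, hc1]⟩
  · rintro a b c ⟨c₁, h11, h12⟩ ⟨c₂, h21, h22⟩
    refine ⟨pullback.lift c₁ c₂ (by rw [h12, h21]) ≫ m, ?_, ?_⟩
    · rw [Category.assoc, hm1, pullback.lift_fst_assoc, h11]
    · rw [Category.assoc, hm2, pullback.lift_snd_assoc, h22]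

theorem main
    (R K : Type u) [CommRing R] [IsDomain R]
    [Field K] [Algebra R K] [IsFractionRing R K]
    (Y Γ : Scheme.{u}) (f : Y ⟶ Spec (CommRingCat.of R)) [Flat f]
    (p₁ p₂ : Γ ⟶ Y) (h : p₁ ≫ f = p₂ ≫ f)
    (hΓ : IsClosedImmersion (pullback.lift p₁ p₂ h))
    [Flat (p₁ ≫ f)] [Flat p₁] [Flat p₂]
    (hK : ∀ (T : Scheme.{u}) (t : T ⟶ Spec (CommRingCat.of R)),
      (∃ s : T ⟶ Spec (CommRingCat.of K), t = s ≫ Spec.map (CommRingCat.ofHom (algebraMap R K))) →
      _root_.Equivalence fun a b : {a : T ⟶ Y // a ≫ f = t} =>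
        ∃ c : T ⟶ Γ, c ≫ p₁ = a.1 ∧ c ≫ p₂ = b.1) :
    ∀ (T : Scheme.{u}) (t : T ⟶ Spec (CommRingCat.of R)),
      _root_.Equivalence fun a b : {a : T ⟶ Y // a ≫ f = t} =>
        ∃ c : T ⟶ Γ, c ≫ p₁ = a.1 ∧ c ≫ p₂ = b.1 := by
  obtain ⟨s₀, hs₀⟩ := exists_factor R K
  refine main' (Spec (CommRingCat.of R)) Y Γ f p₁ p₂ h hΓ ?_
  intro X pX
  refine hK _ _ ⟨pullback.snd pX _ ≫ s₀, ?_⟩
  rw [Category.assoc, ← hs₀, pullback.condition]

end Helpers


open CategoryTheory Limits AlgebraicGeometry in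
/-- Let R be a discrete valuation ring with fraction field K, let Y be a flat separated R-scheme and let
Γ → Y ×_R Y be a closed subscheme, with projections p₁, p₂ : Γ → Y, such that Γ is flat over R
(equivalently, Γ is the schematic closure of its generic fibre) and p₁, p₂ are flat. If for every
scheme T over Spec K the relation on the T-valued points of Y defined by the T-valued points of Γ is
an equivalence relation, then for every scheme T over Spec R that relation is an equivalence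
relation: Γ is a flat equivalence relation on Y. -/
theorem result
    (R K : Type u) [CommRing R] [IsDomain R] [IsDiscreteValuationRing R]
    [Field K] [Algebra R K] [IsFractionRing R K]
    (Y Γ : Scheme.{u}) (f : Y ⟶ Spec (CommRingCat.of R)) [IsSeparated f] [Flat f]
    (p₁ p₂ : Γ ⟶ Y) (h : p₁ ≫ f = p₂ ≫ f)
    (hΓ : IsClosedImmersion (pullback.lift p₁ p₂ h))
    [Flat (p₁ ≫ f)] [Flat p₁] [Flat p₂]
    (hK : ∀ (T : Scheme.{u}) (t : T ⟶ Spec (CommRingCat.of R)),
      (∃ s : T ⟶ Spec (CommRingCat.of K), t = s ≫ Spec.map (CommRingCat.ofHom (algebraMap R K))) →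
      _root_.Equivalence fun a b : {a : T ⟶ Y // a ≫ f = t} =>
        ∃ c : T ⟶ Γ, c ≫ p₁ = a.1 ∧ c ≫ p₂ = b.1) :
    ∀ (T : Scheme.{u}) (t : T ⟶ Spec (CommRingCat.of R)),
      _root_.Equivalence fun a b : {a : T ⟶ Y // a ≫ f = t} =>
        ∃ c : T ⟶ Γ, c ≫ p₁ = a.1 ∧ c ≫ p₂ = b.1 := by
  exact main R K Y Γ f p₁ p₂ h hΓ hK

end Groth.Agent.S13044
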