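import Groth.Statements.S13047
import Mathlib

set_option autoImplicit false
universe u
open FrobAlg

namespace Groth.Agent.S13047

open Polynomial TensorProduct

section BB
variable (R : Type u) [CommRing R] (u v : R)

/-- the ideal `(uX, X^2 - v^2)` -/
noncomputable abbrev II : Ideal R[X] := Ideal.span {(C u * X : R[X]), X ^ 2 - C (v ^ 2)}
/-- the algebra `B` -/
abbrev BB : Type u := R[X] ⧸ II R u v
/-- the class of `X` -/
noncomputable abbrev al : BB R u v := Ideal.Quotient.mk (II R u v) X

theorem u_al : algebraMap R (BB R u v) u * al R u v = 0 := by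
  have : Ideal.Quotient.mk (II R u v) (C u * X) = 0 :=
    Ideal.Quotient.eq_zero_iff_mem.mpr (Ideal.subset_span (by simp))
  rw [map_mul] at this
  exact this

theorem al_sq : al R u v ^ 2 = algebraMap R (BB R u v) (v ^ 2) := by
  have : Ideal.Quotient.mk (II R u v) (X ^ 2 - C (v ^ 2)) = 0 :=
    Ideal.Quotient.eq_zero_iff_mem.mpr (Ideal.subset_span (by simp))
  rw [map_sub, sub_eq_zero, map_pow] at this
  exact this

theorem al_pow_even (j : ℕ) : al R u v ^ (2 * j) = algebraMap R (BB R u v) (v ^ (2 * j)) := by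
  rw [pow_mul, al_sq, ← map_pow, ← pow_mul]

theorem al_pow_odd (j : ℕ) :
    al R u v ^ (2 * j + 1) = algebraMap R (BB R u v) (v ^ (2 * j)) * al R u v := by
  rw [pow_succ, al_pow_even]

theorem exists_rep (b : BB R u v) : ∃ a0 a1 : R,
    b = algebraMap R (BB R u v) a0 + algebraMap R (BB R u v) a1 * al R u v := by
  obtain ⟨f, rfl⟩ := Ideal.Quotient.mk_surjective b
  induction f using Polynomial.induction_on' with
  | add f g hf hg =>
    obtain ⟨a0, a1, h1⟩ := hf
    obtain ⟨b0, b1, h2⟩ := hg
    refine ⟨a0 + b0, a1 + b1, ?_⟩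
    rw [map_add, h1, h2, map_add, map_add]; ring
  | monomial n c =>
    have e : Ideal.Quotient.mk (II R u v) (monomial n c) =
        algebraMap R (BB R u v) c * al R u v ^ n := by
      rw [← C_mul_X_pow_eq_monomial, map_mul, map_pow]; rfl
    rcases Nat.even_or_odd' n with ⟨j, hj | hj⟩
    · refine ⟨c * v ^ (2 * j), 0, ?_⟩
      rw [e, hj, al_pow_even, map_mul, map_zero, zero_mul, add_zero]
    · refine ⟨0, c * v ^ (2 * j), ?_⟩
      rw [e, hj, al_pow_odd, map_mul, map_zero, zero_add, mul_assoc]

variable (huv : u * v = 0)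

/-- `b ↦ v^2 b` on `R/(u)` with values in `R` -/
noncomputable def liftV : (R ⧸ Ideal.span {u}) →ₗ[R] R :=
  Submodule.liftQ (Ideal.span {u}) (LinearMap.mulLeft R (v ^ 2)) (by
    intro x hx
    obtain ⟨c, rfl⟩ := Ideal.mem_span_singleton'.mp hx
    rw [LinearMap.mem_ker, LinearMap.mulLeft_apply]
    have : v ^ 2 * (c * u) = c * v * (u * v) := by ring
    rw [this, huv, mul_zero])

theorem liftV_mk (b : R) : liftV R u v huv (Ideal.Quotient.mk _ b) = v ^ 2 * b := rfl

/-- the action of `X` on `R × R/(u)` -/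
noncomputable def TT : (R × (R ⧸ Ideal.span {u})) →ₗ[R] (R × (R ⧸ Ideal.span {u})) :=
  LinearMap.prod ((liftV R u v huv).comp (LinearMap.snd R R _))
    ((Submodule.mkQ (Ideal.span {u})).comp (LinearMap.fst R R _))

theorem TT_apply (a : R) (b : R ⧸ Ideal.span {u}) :
    TT R u v huv (a, b) = (liftV R u v huv b, Ideal.Quotient.mk _ a) := rfl

/-- the coordinate map on polynomials -/
noncomputable def psi0 : R[X] →ₗ[R] (R × (R ⧸ Ideal.span {u})) where
  toFun f := aeval (TT R u v huv) f (1, 0)
  map_add' f g := by rw [map_add, LinearMap.add_apply]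
  map_smul' c f := by rw [map_smul, LinearMap.smul_apply, RingHom.id_apply]

theorem psi0_mul (g f : R[X]) :
    psi0 R u v huv (g * f) = aeval (TT R u v huv) g (psi0 R u v huv f) := by
  change aeval (TT R u v huv) (g * f) (1, 0) = _
  rw [map_mul, Module.End.mul_apply]
  rfl

theorem psi0_kills (f : R[X]) (hf : f ∈ II R u v) : psi0 R u v huv f = 0 := by
  obtain ⟨g1, g2, rfl⟩ := Ideal.mem_span_pair.mp hf
  have e1 : TT R u v huv (1, 0) = (0, Ideal.Quotient.mk _ 1) := by rw [TT_apply, map_zero]
  have e2 : TT R u v huv (0, Ideal.Quotient.mk _ 1) = (v ^ 2, 0) := by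
    rw [TT_apply, liftV_mk, mul_one, map_zero]
  have h1 : psi0 R u v huv (C u * X) = 0 := by
    change aeval (TT R u v huv) (C u * X) (1, 0) = 0
    rw [map_mul, aeval_C, aeval_X, Module.End.mul_apply, e1, Module.algebraMap_end_apply,
      Prod.smul_mk, smul_zero]
    have : u • (Ideal.Quotient.mk (Ideal.span {u}) 1) = 0 := by
      rw [← Ideal.Quotient.mk_eq_mk, ← Submodule.Quotient.mk_smul, Submodule.Quotient.mk_eq_zero,
        smul_eq_mul, mul_one]
      exact Ideal.subset_span rfl
    rw [this]
    rfl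
  have h2 : psi0 R u v huv (X ^ 2 - C (v ^ 2)) = 0 := by
    change aeval (TT R u v huv) (X ^ 2 - C (v ^ 2)) (1, 0) = 0
    rw [map_sub, map_pow, aeval_C, aeval_X, LinearMap.sub_apply, pow_two, Module.End.mul_apply,
      e1, e2, Module.algebraMap_end_apply, Prod.smul_mk, smul_zero, smul_eq_mul, mul_one,
      sub_self]
  rw [map_add, psi0_mul R u v huv g1, psi0_mul R u v huv g2, h1, h2, map_zero, map_zero,
    add_zero]

/-- the coordinate map on `B` -/
noncomputable def psi : BB R u v →ₗ[R] (R × (R ⧸ Ideal.span {u})) :=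
  Submodule.liftQ ((II R u v).restrictScalars R) (psi0 R u v huv) (fun f hf =>
    psi0_kills R u v huv f hf)

theorem psi_algebraMap (a : R) : psi R u v huv (algebraMap R (BB R u v) a) = (a, 0) := by
  change psi0 R u v huv (C a) = _
  change aeval (TT R u v huv) (C a) (1, 0) = _
  rw [aeval_C, Module.algebraMap_end_apply, Prod.smul_mk, smul_zero, smul_eq_mul, mul_one]

theorem psi_al (a : R) : psi R u v huv (algebraMap R (BB R u v) a * al R u v) =
    (0, Ideal.Quotient.mk _ a) := by
  change psi0 R u v huv (C a * X) = _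
  change aeval (TT R u v huv) (C a * X) (1, 0) = _
  rw [map_mul, aeval_C, aeval_X, Module.End.mul_apply, TT_apply, map_zero,
    Module.algebraMap_end_apply, Prod.smul_mk, smul_zero]
  congr 1
  rw [← Ideal.Quotient.mk_eq_mk, ← Submodule.Quotient.mk_smul, smul_eq_mul, mul_one]
  rfl

end BB

section Tw
open W4c1imperftorsors
variable (p : ℕ) [hp : Fact p.Prime] (R : Type u) [CommRing R] [CharP R p] (u v : R)
  (huv : u * v = 0)

/-- Frobenius power `R/(u) → R/(u^(p^i))` -/
noncomputable def frobQ (i : ℕ) : (R ⧸ Ideal.span {u}) →+* (R ⧸ Ideal.span {u ^ p ^ i}) :=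
  Ideal.Quotient.lift (Ideal.span {u})
    ((Ideal.Quotient.mk (Ideal.span {u ^ p ^ i})).comp (iterateFrobenius R p i)) (by
      intro a ha
      obtain ⟨c, rfl⟩ := Ideal.mem_span_singleton'.mp ha
      rw [RingHom.comp_apply, iterateFrobenius_def, mul_pow]
      exact Ideal.Quotient.eq_zero_iff_mem.mpr
        (Ideal.mul_mem_left _ _ (Ideal.subset_span rfl)))

theorem frobQ_mk (i : ℕ) (a : R) :
    frobQ p R u i (Ideal.Quotient.mk _ a) = Ideal.Quotient.mk _ (a ^ p ^ i) := rfl

/-- the bilinear map underlying `theta` -/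
noncomputable def thetaFun (i : ℕ) (r : R) (b : BB R u v) : R × (R ⧸ Ideal.span {u ^ p ^ i}) :=
  (r * iterateFrobenius R p i (psi R u v huv b).1,
    Ideal.Quotient.mk _ r * frobQ p R u i (psi R u v huv b).2)

theorem thetaFun_add_left (i : ℕ) (r r' : R) (b : BB R u v) :
    thetaFun p R u v huv i (r + r') b = thetaFun p R u v huv i r b + thetaFun p R u v huv i r' b := by
  unfold thetaFun
  ext
  · simp [add_mul]
  · simp [add_mul]

theorem thetaFun_add_right (i : ℕ) (r : R) (b b' : BB R u v) :
    thetaFun p R u v huv i r (b + b') = thetaFun p R u v huv i r b + thetaFun p R u v huv i r b' := by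
  unfold thetaFun
  ext
  · simp [mul_add]
  · simp [mul_add]

theorem thetaFun_smul (i : ℕ) (s r : R) (b : BB R u v) :
    thetaFun p R u v huv i (s ^ p ^ i * r) b =
      thetaFun p R u v huv i r (algebraMap R (BB R u v) s * b) := by
  unfold thetaFun
  have e : psi R u v huv (algebraMap R (BB R u v) s * b) = s • psi R u v huv b := by
    rw [← Algebra.smul_def, map_smul]
  rw [e]
  ext
  · simp only [Prod.smul_fst, smul_eq_mul, map_mul, iterateFrobenius_def]
    ring
  · simp only [Prod.smul_snd, map_mul, map_pow]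
    have : s • (psi R u v huv b).2 = Ideal.Quotient.mk _ s * (psi R u v huv b).2 := by
      rw [← Ideal.Quotient.mk_eq_mk, Algebra.smul_def]; rfl
    rw [this, map_mul, frobQ_mk, map_pow]
    ring

variable [CharP (BB R u v) p]

/-- the coordinates on the `i`-th twist -/
noncomputable def theta (i : ℕ) :
    Twist p R (BB R u v) i →+ R × (R ⧸ Ideal.span {u ^ p ^ i}) :=
  TensorProduct.liftAddHom
    (AddMonoidHom.mk' (fun r : R => AddMonoidHom.mk'
        (fun b : ASrc p R (BB R u v) i => thetaFun p R u v huv i r (aEquiv p R (BB R u v) i b))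
        (fun b b' => by rw [map_add, thetaFun_add_right]))
      (fun r r' => by
        apply AddMonoidHom.ext
        intro b
        simp only [AddMonoidHom.mk'_apply, AddMonoidHom.add_apply]
        rw [thetaFun_add_left]))
    (by
      intro s r b
      simp only [AddMonoidHom.mk'_apply]
      have e1 : s • r = (srcEquiv p R i s) ^ p ^ i * r := by
        rw [Algebra.smul_def, algebraMap_src]
      have e2 : aEquiv p R (BB R u v) i (s • b) =
          algebraMap R (BB R u v) (srcEquiv p R i s) * aEquiv p R (BB R u v) i b := by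
        rw [Algebra.smul_def, algebraMap_aSrc, map_mul, RingEquiv.apply_symm_apply]
      rw [e1, e2, thetaFun_smul])

theorem theta_tmul (i : ℕ) (r : R) (b : ASrc p R (BB R u v) i) :
    theta p R u v huv i (r ⊗ₜ[Src p R i] b) =
      thetaFun p R u v huv i r (aEquiv p R (BB R u v) i b) := rfl

/-- the class of `α` in the `i`-th source copy -/
noncomputable def alS (i : ℕ) : ASrc p R (BB R u v) i :=
  (aEquiv p R (BB R u v) i).symm (al R u v)

theorem theta_one (i : ℕ) (r : R) :
    theta p R u v huv i (r ⊗ₜ[Src p R i] (1 : ASrc p R (BB R u v) i)) = (r, 0) := by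
  rw [theta_tmul, map_one]
  unfold thetaFun
  have : psi R u v huv (1 : BB R u v) = (1, 0) := by
    rw [← map_one (algebraMap R (BB R u v)), psi_algebraMap]
  rw [this]
  simp

theorem theta_al (i : ℕ) (s : R) :
    theta p R u v huv i (s ⊗ₜ[Src p R i] alS p R u v i) = (0, Ideal.Quotient.mk _ s) := by
  rw [theta_tmul, alS, RingEquiv.apply_symm_apply]
  unfold thetaFun
  have : psi R u v huv (al R u v) = (0, Ideal.Quotient.mk _ 1) := by
    have := psi_al R u v huv 1
    rwa [map_one, one_mul] at this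
  rw [this]
  simp [frobQ_mk]

theorem exists_rep_tw (i : ℕ) (x : Twist p R (BB R u v) i) : ∃ r s : R,
    x = r ⊗ₜ[Src p R i] (1 : ASrc p R (BB R u v) i) + s ⊗ₜ[Src p R i] alS p R u v i := by
  induction x using TensorProduct.induction_on with
  | zero => exact ⟨0, 0, by rw [TensorProduct.zero_tmul, TensorProduct.zero_tmul, add_zero]⟩
  | tmul r b =>
    obtain ⟨a0, a1, hb⟩ := exists_rep R u v (aEquiv p R (BB R u v) i b)
    have hb' : b = (srcEquiv p R i).symm a0 • (1 : ASrc p R (BB R u v) i) +
        (srcEquiv p R i).symm a1 • alS p R u v i := by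
      apply (aEquiv p R (BB R u v) i).injective
      rw [hb, map_add, Algebra.smul_def, Algebra.smul_def, algebraMap_aSrc, algebraMap_aSrc,
        map_mul, map_mul, RingEquiv.apply_symm_apply, RingEquiv.apply_symm_apply,
        RingEquiv.apply_symm_apply, RingEquiv.apply_symm_apply, map_one, mul_one, alS,
        RingEquiv.apply_symm_apply]
    refine ⟨(srcEquiv p R i).symm a0 • r, (srcEquiv p R i).symm a1 • r, ?_⟩
    rw [hb', TensorProduct.tmul_add, TensorProduct.smul_tmul, TensorProduct.smul_tmul]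
  | add x y hx hy =>
    obtain ⟨r, s, rfl⟩ := hx
    obtain ⟨r', s', rfl⟩ := hy
    refine ⟨r + r', s + s', ?_⟩
    rw [TensorProduct.add_tmul, TensorProduct.add_tmul]
    abel

theorem tmul_al_eq_zero (i : ℕ) (c : R) :
    (c * u ^ p ^ i) ⊗ₜ[Src p R i] alS p R u v i = 0 := by
  have e1 : c * u ^ p ^ i = (srcEquiv p R i).symm u • c := by
    rw [Algebra.smul_def, algebraMap_src, RingEquiv.apply_symm_apply, mul_comm]
  have e2 : (srcEquiv p R i).symm u • alS p R u v i = 0 := by
    apply (aEquiv p R (BB R u v) i).injective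
    rw [Algebra.smul_def, algebraMap_aSrc, map_mul, RingEquiv.apply_symm_apply,
      RingEquiv.apply_symm_apply, alS, RingEquiv.apply_symm_apply, u_al, map_zero]
  rw [e1, TensorProduct.smul_tmul, e2, TensorProduct.tmul_zero]

theorem eq_of_theta (i : ℕ) (x : Twist p R (BB R u v) i) (r : R)
    (h : theta p R u v huv i x = (r, 0)) :
    x = r ⊗ₜ[Src p R i] (1 : ASrc p R (BB R u v) i) := by
  obtain ⟨r', s, rfl⟩ := exists_rep_tw p R u v i x
  rw [map_add, theta_one, theta_al] at h
  have h1 : r' = r := by simpa using congrArg Prod.fst h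
  have h2 : Ideal.Quotient.mk (Ideal.span {u ^ p ^ i}) s = 0 := by
    simpa using congrArg Prod.snd h
  obtain ⟨c, rfl⟩ := Ideal.mem_span_singleton'.mp (Ideal.Quotient.eq_zero_iff_mem.mp h2)
  rw [tmul_al_eq_zero, add_zero, h1]

theorem relFrob_tmul (i : ℕ) (r : R) (b : ASrc p R (BB R u v) (i + 1)) :
    relFrob p R (BB R u v) i (r ⊗ₜ[Src p R (i + 1)] b) =
      r ⊗ₜ[Src p R i] (aEquiv p R (BB R u v) i).symm ((aEquiv p R (BB R u v) (i + 1) b) ^ p) := by
  change relFrobAux p R (BB R u v) i (r ⊗ₜ[Src p R (i + 1)] b) = _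
  rw [relFrobAux, Algebra.TensorProduct.lift_tmul]
  change algebraMap R (Twist p R (BB R u v) i) r *
    ((1 : R) ⊗ₜ[Src p R i] (aEquiv p R (BB R u v) i).symm
      (frobenius (BB R u v) p (aEquiv p R (BB R u v) (i + 1) b))) = _
  rw [Algebra.TensorProduct.algebraMap_apply, Algebra.TensorProduct.tmul_mul_tmul, frobenius_def]
  simp

theorem al_pow_p (hp2 : p ≠ 2) :
    al R u v ^ p = algebraMap R (BB R u v) (v ^ (p - 1)) * al R u v := by
  obtain ⟨j, hj⟩ := hp.out.odd_of_ne_two hp2
  have : p - 1 = 2 * j := by omega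
  rw [this, hj, al_pow_odd]

theorem relFrob_rep (hp2 : p ≠ 2) (i : ℕ) (r s : R) :
    relFrob p R (BB R u v) i (r ⊗ₜ[Src p R (i + 1)] (1 : ASrc p R (BB R u v) (i + 1)) +
        s ⊗ₜ[Src p R (i + 1)] alS p R u v (i + 1)) =
      r ⊗ₜ[Src p R i] (1 : ASrc p R (BB R u v) i) +
        (v ^ ((p - 1) * p ^ i) * s) ⊗ₜ[Src p R i] alS p R u v i := by
  rw [map_add, relFrob_tmul, relFrob_tmul, map_one, one_pow, map_one, alS,
    RingEquiv.apply_symm_apply, al_pow_p p R u v hp2]
  congr 1
  have e1 : (aEquiv p R (BB R u v) i).symm (algebraMap R (BB R u v) (v ^ (p - 1)) * al R u v) =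
      (srcEquiv p R i).symm (v ^ (p - 1)) • alS p R u v i := by
    rw [Algebra.smul_def, algebraMap_aSrc, RingEquiv.apply_symm_apply, alS, map_mul]
  have e2 : v ^ ((p - 1) * p ^ i) * s = (srcEquiv p R i).symm (v ^ (p - 1)) • s := by
    rw [Algebra.smul_def, algebraMap_src, RingEquiv.apply_symm_apply, ← pow_mul]
  rw [e1, e2, TensorProduct.smul_tmul]

end Tw

section Final
open W4c1imperftorsors

theorem algebraMap_tw (p : ℕ) [hp : Fact p.Prime] (R : Type u) [CommRing R] [CharP R p] (u v : R)
    (i : ℕ) (r : R) :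
    algebraMap R (Twist p R (BB R u v) i) r =
      r ⊗ₜ[Src p R i] (1 : ASrc p R (BB R u v) i) := by
  rw [Algebra.TensorProduct.algebraMap_apply]
  rfl

theorem result' (p : ℕ) [hp' : Fact p.Prime] (hp : p ≠ 2) (R : Type u) [CommRing R] [CharP R p]
    (u v : R) (huv : u * v = 0)
    (hsep : ∀ N : ℕ, 1 ≤ N → ∀ g : R,
      (∀ n : ℕ, g ∈ Ideal.span {v ^ n} ⊔ Ideal.span {u ^ N}) → g ∈ Ideal.span {u ^ N})
    [CharP (R[X] ⧸ Ideal.span {(C u * X : R[X]), X ^ 2 - C (v ^ 2)}) p] :
    Function.Bijective
      (algebraMap R ↥(W4c1imperftorsors.prePerf p R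
        (R[X] ⧸ Ideal.span {(C u * X : R[X]), X ^ 2 - C (v ^ 2)}))) := by
  constructor
  · intro r r' h
    have h0 : algebraMap R (Twist p R (BB R u v) 0) r = algebraMap R (Twist p R (BB R u v) 0) r' := by
      have := congrArg (fun x : ↥(prePerf p R (BB R u v)) =>
        (x : Π j, Twist p R (BB R u v) j) 0) h
      exact this
    rw [algebraMap_tw, algebraMap_tw] at h0
    have h1 := congrArg (theta p R u v huv 0) h0
    rw [theta_one, theta_one] at h1
    exact congrArg Prod.fst h1
  · intro x
    set X : Π j, Twist p R (BB R u v) j := (x : Π j, Twist p R (BB R u v) j) with hX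
    have hx : ∀ j, relFrob p R (BB R u v) j (X (j + 1)) = X j := by
      intro j
      have h1 := x.2
      unfold prePerf at h1
      rw [Algebra.mem_iInf] at h1
      have h2 := h1 j
      rw [AlgHom.mem_equalizer] at h2
      exact h2
    choose r s hrs using fun j => exists_rep_tw p R u v j (X j)
    have hcompat : ∀ j, r (j + 1) = r j ∧
        Ideal.Quotient.mk (Ideal.span {u ^ p ^ j}) (v ^ ((p - 1) * p ^ j) * s (j + 1)) =
          Ideal.Quotient.mk (Ideal.span {u ^ p ^ j}) (s j) := by
      intro j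
      have h1 := hx j
      rw [hrs (j + 1), relFrob_rep p R u v hp, hrs j] at h1
      have h2 := congrArg (theta p R u v huv j) h1
      rw [map_add, map_add, theta_one, theta_one, theta_al, theta_al] at h2
      constructor
      · simpa using congrArg Prod.fst h2
      · simpa using congrArg Prod.snd h2
    have hp1 : 1 ≤ p - 1 := by have := hp'.out.two_le; omega
    have hclaim : ∀ m j, s j ∈ Ideal.span {v ^ m} ⊔ Ideal.span {u ^ p ^ j} := by
      intro m
      induction m with
      | zero =>
        intro j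
        rw [pow_zero, Ideal.span_singleton_one, top_sup_eq]
        exact Submodule.mem_top
      | succ m ih =>
        intro j
        obtain ⟨y, hy, z, hz, hyz⟩ := Submodule.mem_sup.mp (ih (j + 1))
        obtain ⟨a, rfl⟩ := Ideal.mem_span_singleton'.mp hy
        obtain ⟨b, rfl⟩ := Ideal.mem_span_singleton'.mp hz
        have h3 := (hcompat j).2
        rw [Ideal.Quotient.eq, Ideal.mem_span_singleton'] at h3
        obtain ⟨c, hc⟩ := h3
        have he : 1 ≤ (p - 1) * p ^ j := Nat.one_le_iff_ne_zero.mpr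
          (Nat.mul_ne_zero (by omega) (pow_ne_zero _ hp'.out.ne_zero))
        obtain ⟨e, he'⟩ : ∃ e, (p - 1) * p ^ j = e + 1 := ⟨(p - 1) * p ^ j - 1, by omega⟩
        have hsj : s j = (a * v ^ e) * v ^ (m + 1) +
            (v ^ (e + 1) * b * (u ^ p ^ j) ^ (p - 1) - c) * u ^ p ^ j := by
          have h4 : s j = v ^ ((p - 1) * p ^ j) * s (j + 1) - c * u ^ p ^ j := by
            rw [hc]; ring
          rw [h4, ← hyz, he']
          have h5 : u ^ p ^ (j + 1) = (u ^ p ^ j) ^ (p - 1) * u ^ p ^ j := by
            rw [← pow_succ, ← pow_mul, pow_succ p j]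
            congr 2
            omega
          rw [h5]
          ring
        rw [hsj]
        exact Ideal.add_mem _
          (Ideal.mem_sup_left (Ideal.mem_span_singleton'.mpr ⟨_, rfl⟩))
          (Ideal.mem_sup_right (Ideal.mem_span_singleton'.mpr ⟨_, rfl⟩))
    have hs : ∀ j, s j ∈ Ideal.span {u ^ p ^ j} := fun j =>
      hsep (p ^ j) (Nat.one_le_pow _ _ hp'.out.pos) (s j) (fun n => hclaim n j)
    have hr : ∀ j, r j = r 0 := by
      intro j
      induction j with
      | zero => rfl
      | succ j ih => rw [(hcompat j).1, ih]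
    refine ⟨r 0, ?_⟩
    apply Subtype.ext
    funext j
    have e1 : ((algebraMap R ↥(prePerf p R (BB R u v)) (r 0) : ↥(prePerf p R (BB R u v))) :
        Π j, Twist p R (BB R u v) j) j = algebraMap R (Twist p R (BB R u v) j) (r 0) := rfl
    rw [e1, algebraMap_tw]
    change _ = X j
    rw [hrs j, hr j]
    obtain ⟨c, hc⟩ := Ideal.mem_span_singleton'.mp (hs j)
    rw [← hc, tmul_al_eq_zero, add_zero]

end Final

open Polynomial in
/-- Let p be an odd prime, R a commutative ring of characteristic p and u, v ∈ R with uv = 0, such that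
for every N ≥ 1 an element of R lying in (v^n) + (u^N) for all n lies in (u^N) (v-adic separatedness
of R/(u^N)). Let B = R[α]/(uα, α² − v²), an R-algebra of characteristic p, with Frobenius twists
B^{p^i/R} = R ⊗_{F^i,R} B and preperfection B^{p^∞/R} = lim_i B^{p^i/R} along the relative Frobenius
maps. Then the structure map R → B^{p^∞/R} is bijective: the preperfection of B is R. (The published
statement is for R = F_p[[u, v]]/(uv), where B arises as the preperfection of R[x, y, 1/(x − y)]/(xy
− u), so that the second preperfection of that algebra is R although the first is not perfect; the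
printed computation uses only the hypotheses listed here, which that R satisfies.) -/
theorem result
    (p : ℕ) [Fact p.Prime] (hp : p ≠ 2) (R : Type u) [CommRing R] [CharP R p]
    (u v : R) (huv : u * v = 0)
    (hsep : ∀ N : ℕ, 1 ≤ N → ∀ g : R,
      (∀ n : ℕ, g ∈ Ideal.span {v ^ n} ⊔ Ideal.span {u ^ N}) → g ∈ Ideal.span {u ^ N})
    [CharP (R[X] ⧸ Ideal.span {(C u * X : R[X]), X ^ 2 - C (v ^ 2)}) p] :
    Function.Bijective
      (algebraMap R ↥(W4c1imperftorsors.prePerf p R
        (R[X] ⧸ Ideal.span {(C u * X : R[X]), X ^ 2 - C (v ^ 2)}))) := by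
  exact result' p hp R u v huv hsep

end Groth.Agent.S13047
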