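import Groth.Statements.S13048
import Mathlib

set_option autoImplicit false
universe u
open FrobAlg

namespace Groth.Agent.S13048

/-- Let k be an algebraically closed field of characteristic p > 0 and let A be a reduced finitely
generated commutative k-algebra with connected spectrum (A ≠ 0 and 0, 1 are its only idempotents).
If x ∈ A is a p^n-th power in A for every n ≥ 0, then x lies in the image of k; that is, ⋂_n A^{p^n}
= k. (The published statement is: for an artinian local ring R of characteristic p and a flat
R-algebra A of finite type, the maps A^ét → O(π₀(A)) → A^{p^∞/R} from the largest étale subalgebra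
to the preperfection are isomorphisms. This row is the case R = k algebraically closed and A reduced
with connected spectrum, where A^ét = k and the preperfection is ⋂_n A^{p^n}; the printed proof
reduces to this case and its last step proves it.) -/
theorem result
    (p : ℕ) [Fact p.Prime] (k : Type u) [Field k] [IsAlgClosed k] [CharP k p]
    (A : Type u) [CommRing A] [Algebra k A] [Algebra.FiniteType k A] [IsReduced A] [Nontrivial A]
    (hconn : ∀ e : A, IsIdempotentElem e → e = 0 ∨ e = 1)
    (x : A) (hx : ∀ n : ℕ, ∃ a : A, a ^ p ^ n = x) :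
    x ∈ (algebraMap k A).range := by
  classical
  haveI : CharP A p := charP_of_injective_algebraMap (algebraMap k A).injective p
  haveI : IsNoetherianRing A := Algebra.FiniteType.isNoetherianRing k A
  have hp1 : 1 < p := (Fact.out : p.Prime).one_lt
  have hloc : ∀ (m : Ideal A) [m.IsMaximal], ∃ c : k,
      algebraMap A (Localization.AtPrime m) (x - algebraMap k A c) = 0 := by
    intro m hm
    letI : Field (A ⧸ m) := Ideal.Quotient.field m
    haveI : Module.Finite k (A ⧸ m) := finite_of_finite_type_of_isJacobsonRing k (A ⧸ m)
    haveI : Algebra.IsIntegral k (A ⧸ m) := Algebra.IsIntegral.of_finite k (A ⧸ m)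
    obtain ⟨c, hc⟩ := (IsAlgClosed.algebraMap_bijective_of_isIntegral (k := k) (K := A ⧸ m)).2
      (Ideal.Quotient.mk m x)
    refine ⟨c, ?_⟩
    have hcm : x - algebraMap k A c ∈ m := by
      rw [← Ideal.Quotient.eq, ← hc]
      rfl
    have hpow : ∀ n : ℕ, x - algebraMap k A c ∈ m ^ (p ^ n) := by
      intro n
      obtain ⟨a, ha⟩ := hx n
      obtain ⟨d, hd⟩ := IsAlgClosed.exists_pow_nat_eq c (pow_pos (Fact.out : p.Prime).pos n)
      have h1 : (a - algebraMap k A d) ^ p ^ n = x - algebraMap k A c := by
        rw [sub_pow_char_pow, ha, ← map_pow, hd]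
      have h2 : a - algebraMap k A d ∈ m := by
        apply (Ideal.IsMaximal.isPrime hm).mem_of_pow_mem (p ^ n)
        rw [h1]
        exact hcm
      rw [← h1]
      exact Ideal.pow_mem_pow h2 _
    have hK := Ideal.iInf_pow_eq_bot_of_isLocalRing (R := Localization.AtPrime m)
      (I := IsLocalRing.maximalIdeal (Localization.AtPrime m))
      (IsLocalRing.maximalIdeal.isMaximal _).ne_top
    have hmem : algebraMap A (Localization.AtPrime m) (x - algebraMap k A c) ∈
        ⨅ i : ℕ, IsLocalRing.maximalIdeal (Localization.AtPrime m) ^ i := by
      rw [Ideal.mem_iInf]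
      intro i
      have h3 : algebraMap A (Localization.AtPrime m) (x - algebraMap k A c) ∈
          (Ideal.map (algebraMap A (Localization.AtPrime m)) m) ^ (p ^ i) := by
        rw [← Ideal.map_pow]
        exact Ideal.mem_map_of_mem _ (hpow i)
      rw [Localization.AtPrime.map_eq_maximalIdeal] at h3
      exact Ideal.pow_le_pow_right (Nat.lt_pow_self hp1).le h3
    rw [hK] at hmem
    exact hmem
  obtain ⟨m0, hm0⟩ := Ideal.exists_maximal A
  haveI := hm0
  obtain ⟨c0, hc0⟩ := hloc m0
  obtain ⟨y, hy⟩ : ∃ y, y = x - algebraMap k A c0 := ⟨_, rfl⟩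
  rw [← hy] at hc0
  have hymem : y ∈ Ideal.span {y ^ 2} := by
    apply Ideal.mem_of_localization_maximal
    intro P hP
    haveI := hP
    obtain ⟨c, hc⟩ := hloc P
    rw [Ideal.map_span, Set.image_singleton, map_pow]
    by_cases hcc : c = c0
    · have h0 : algebraMap A (Localization.AtPrime P) y = 0 := by
        rw [hy, ← hcc]
        exact hc
      rw [h0]
      exact Ideal.zero_mem _
    · have hyc : algebraMap A (Localization.AtPrime P) y =
          algebraMap A (Localization.AtPrime P) (algebraMap k A (c - c0)) := by
        have h4 : y = (x - algebraMap k A c) + algebraMap k A (c - c0) := by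
          rw [hy, map_sub]
          ring
        rw [h4, map_add, hc, zero_add]
      have hu : IsUnit (algebraMap A (Localization.AtPrime P) y) := by
        rw [hyc]
        exact ((isUnit_iff_ne_zero.2 (sub_ne_zero.2 hcc)).map (algebraMap k A)).map
          (algebraMap A (Localization.AtPrime P))
      rw [Ideal.span_singleton_eq_top.2 (hu.pow 2)]
      exact Submodule.mem_top
  rw [Ideal.mem_span_singleton'] at hymem
  obtain ⟨z, hz⟩ := hymem
  have he : IsIdempotentElem (z * y) := by
    show z * y * (z * y) = z * y
    calc z * y * (z * y) = z * (z * y ^ 2) := by ring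
      _ = z * y := by rw [hz]
  rcases hconn _ he with h0 | h1
  · have hy0 : y = 0 := by
      calc y = z * y ^ 2 := hz.symm
        _ = (z * y) * y := by ring
        _ = 0 := by rw [h0, zero_mul]
    refine ⟨c0, ?_⟩
    rw [hy, sub_eq_zero] at hy0
    exact hy0.symm
  · exfalso
    have hu : IsUnit y := IsUnit.of_mul_eq_one_right z h1
    have hu' := hu.map (algebraMap A (Localization.AtPrime m0))
    rw [hc0] at hu'
    exact not_isUnit_zero hu'

end Groth.Agent.S13048
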