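import Groth.Statements.S1305
import Mathlib
import Groth.Agent.S1302

set_option autoImplicit false
universe u
open FlatMor

namespace Groth.Agent.S1305

section Helpers

open CategoryTheory CategoryTheory.Limits AlgebraicGeometry

theorem main {X X' S S' : Scheme.{u}} (iX : X ⟶ X') (iS : S ⟶ S') (f : X ⟶ S) (f' : X' ⟶ S')
    (hX : MoreMor.IsThickening iX) (hS : MoreMor.IsThickening iS) (w : iX ≫ f' = f ≫ iS) :
    IsIntegralHom f ↔ IsIntegralHom f' := by
  haveI : IsClosedImmersion iX := hX.1
  haveI : Surjective iX := hX.2
  haveI : IsClosedImmersion iS := hS.1
  haveI : Surjective iS := hS.2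
  constructor
  · intro hf
    haveI : IsAffineHom f' := (Groth.Agent.S1302.result iX iS f f' hX hS w).mp inferInstance
    haveI : UniversallyClosed (iX ≫ f') := by rw [w]; infer_instance
    haveI : UniversallyClosed f' := UniversallyClosed.of_comp_surjective iX f'
    exact IsIntegralHom.iff_universallyClosed_and_isAffineHom.mpr ⟨inferInstance, inferInstance⟩
  · intro hf'
    have h1 : IsIntegralHom (f ≫ iS) := by rw [← w]; infer_instance
    exact MorphismProperty.of_postcomp (W := @IsIntegralHom) (W' := @IsSeparated) f iS
      inferInstance h1

end Helpers

open AlgebraicGeometry CategoryTheory Limits in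
/-- For a morphism of thickenings, that is a commutative square whose horizontal maps are thickenings
(closed immersions that are surjective on points), the morphism between the thin schemes is integral
if and only if the morphism between the thick ones is. -/
theorem result {X X' S S' : Scheme.{u}} (iX : X ⟶ X') (iS : S ⟶ S') (f : X ⟶ S) (f' : X' ⟶ S')
    (hX : MoreMor.IsThickening iX) (hS : MoreMor.IsThickening iS) (w : iX ≫ f' = f ≫ iS) :
    IsIntegralHom f ↔ IsIntegralHom f' := by
  exact main iX iS f f' hX hS w

end Groth.Agent.S1305
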