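import Groth.Statements.S13051
import Groth.Agent.Lib.helper13.ExpLog

set_option autoImplicit false
universe u
open CategoryTheory AlgebraicGeometry
open Zeta

namespace Groth.Agent.S13051

open Groth.Agent.Lib.helper13.ExpLog in
theorem core {k : Type u} [Field k] {X : Scheme.{u}}
    (f : X ⟶ Spec (CommRingCat.of k)) (n : ℕ) :
    ∀ m ≤ n, PowerSeries.coeff m
        (Zeta.zetaFun f * ∏ r ∈ Finset.Icc 1 n, (1 - PowerSeries.X ^ r) ^ Zeta.degCount f r) =
      PowerSeries.coeff m (1 : PowerSeries ℚ) := by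
  have hZ : Zeta.zetaFun f = E (Zeta.logZeta f) := rfl
  have hL0 : PowerSeries.constantCoeff (Zeta.logZeta f) = 0 := by
    rw [← PowerSeries.coeff_zero_eq_constantCoeff_apply, Zeta.logZeta, PowerSeries.coeff_mk]
    simp
  set lam : ℕ → PowerSeries ℚ := fun r => (-(ell (1 : ℚ))).subst (PowerSeries.X ^ r : PowerSeries ℚ)
    with hlam
  have hlam0 : ∀ r, r ≠ 0 → PowerSeries.constantCoeff (lam r) = 0 := by
    intro r hr
    have h1 : PowerSeries.constantCoeff (PowerSeries.X ^ r : PowerSeries ℚ) = 0 := by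
      simp [hr]
    exact PowerSeries.constantCoeff_subst_eq_zero h1 _ (by simp [constantCoeff_ell])
  have hfac : ∀ r ∈ Finset.Icc 1 n, (1 - (PowerSeries.X : PowerSeries ℚ) ^ r) ^ Zeta.degCount f r =
      E (Zeta.degCount f r • lam r) := by
    intro r hr
    have hr0 : r ≠ 0 := by have := (Finset.mem_Icc.mp hr).1; omega
    rw [E_nsmul (hlam0 r hr0), hlam, ← one_sub_X_pow_eq_E (1 : ℚ) hr0]
    simp
  have hsmul0 : ∀ r ∈ Finset.Icc 1 n,
      PowerSeries.constantCoeff (Zeta.degCount f r • lam r) = 0 := by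
    intro r hr
    have hr0 : r ≠ 0 := by have := (Finset.mem_Icc.mp hr).1; omega
    simp [hlam0 r hr0]
  rw [hZ, Finset.prod_congr rfl hfac, ← E_sum _ _ hsmul0,
    ← E_add hL0 (constantCoeff_sum_eq_zero _ _ hsmul0)]
  apply coeff_E_of_coeff_eq_zero n
  intro m hm
  have hcoef : ∀ r ∈ Finset.Icc 1 n, PowerSeries.coeff m (Zeta.degCount f r • lam r) =
      if r ∣ m then -((Zeta.degCount f r : ℚ) * ((1 : ℚ) / ((m / r : ℕ) : ℚ))) else 0 := by
    intro r hr
    have hr0 : r ≠ 0 := by have := (Finset.mem_Icc.mp hr).1; omega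
    rw [map_nsmul, hlam, PowerSeries.coeff_subst_X_pow hr0]
    split_ifs with hd
    · rw [map_neg, coeff_ell, nsmul_eq_mul]
      simp
    · simp
  rw [map_add, map_sum, Finset.sum_congr rfl hcoef, Zeta.logZeta, PowerSeries.coeff_mk]
  rcases Nat.eq_zero_or_pos m with hm0 | hm0
  · subst hm0
    simp
  · rw [← Finset.sum_filter]
    have hfilter : (Finset.Icc 1 n).filter (fun r => r ∣ m) = m.divisors := by
      ext r
      simp only [Finset.mem_filter, Finset.mem_Icc, Nat.mem_divisors]
      constructor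
      · rintro ⟨_, hd⟩
        exact ⟨hd, by omega⟩
      · rintro ⟨hd, _⟩
        have h1 : r ≤ m := Nat.le_of_dvd hm0 hd
        have h2 : 0 < r := Nat.pos_of_dvd_of_pos hd hm0
        exact ⟨⟨h2, by omega⟩, hd⟩
    rw [hfilter, Zeta.nPts]
    push_cast
    rw [Finset.sum_div, ← Finset.sum_add_distrib]
    apply Finset.sum_eq_zero
    intro r hr
    have hd : r ∣ m := (Nat.mem_divisors.mp hr).1
    have hr0 : (r : ℚ) ≠ 0 := by
      have : 0 < r := Nat.pos_of_dvd_of_pos hd hm0
      exact_mod_cast this.ne'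
    have hm0' : (m : ℚ) ≠ 0 := by exact_mod_cast hm0.ne'
    rw [Nat.cast_div hd hr0]
    field_simp
    ring

/-- For a scheme X of finite type over a finite field k, Z(X, t) = ∏ over the closed points x of (1 −
t^{deg x})^{−1}, that is ∏_{r ≥ 1} (1 − t^r)^{−a_r} with a_r the number of closed points of residue
degree r; equivalently, for every n the product Z(X, t) · ∏_{r = 1}^{n} (1 − t^r)^{a_r} is ≡ 1
modulo t^{n+1}. In particular Z(X, t) has integer coefficients. (Stated for any scheme of finite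
type over k; reducedness plays no role.) -/
theorem result {k : Type u} [Field k] [Finite k] {X : Scheme.{u}}
    (f : X ⟶ Spec (CommRingCat.of k)) [LocallyOfFiniteType f] [QuasiCompact f] :
    (∀ n : ℕ, PowerSeries.trunc (n + 1)
        (Zeta.zetaFun f * ∏ r ∈ Finset.Icc 1 n, (1 - PowerSeries.X ^ r) ^ Zeta.degCount f r) = 1) ∧
      ∀ n : ℕ, ∃ z : ℤ, PowerSeries.coeff n (Zeta.zetaFun f) = (z : ℚ) := by
  constructor
  · intro n
    ext m
    rw [PowerSeries.coeff_trunc, Polynomial.coeff_one]
    split_ifs with h1 h2 h2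
    · rw [core f n m (by omega), PowerSeries.coeff_one, if_pos h2]
    · rw [core f n m (by omega), PowerSeries.coeff_one, if_neg h2]
    · omega
    · rfl
  · intro n
    set U : PowerSeries ℚ := ∏ r ∈ Finset.Icc 1 n,
      (1 - PowerSeries.X ^ r) ^ Zeta.degCount f r with hU
    set Uz : PowerSeries ℤ := ∏ r ∈ Finset.Icc 1 n,
      (1 - PowerSeries.X ^ r) ^ Zeta.degCount f r with hUz
    have hmap : PowerSeries.map (Int.castRingHom ℚ) Uz = U := by
      rw [hUz, hU, map_prod]
      apply Finset.prod_congr rfl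
      intro r _
      simp
    have hc : PowerSeries.constantCoeff Uz = 1 := by
      rw [hUz, map_prod]
      apply Finset.prod_eq_one
      intro r hr
      have hr0 : r ≠ 0 := by have := (Finset.mem_Icc.mp hr).1; omega
      simp [hr0]
    have hunit : IsUnit Uz := PowerSeries.isUnit_iff_constantCoeff.mpr (by rw [hc]; exact isUnit_one)
    obtain ⟨Vz, hV⟩ := hunit.exists_right_inv
    have hUW : U * PowerSeries.map (Int.castRingHom ℚ) Vz = 1 := by
      rw [← hmap, ← map_mul, hV, map_one]
    refine ⟨PowerSeries.coeff n Vz, ?_⟩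
    have h1 : Zeta.zetaFun f = (Zeta.zetaFun f * U) * PowerSeries.map (Int.castRingHom ℚ) Vz := by
      rw [mul_assoc, hUW, mul_one]
    rw [h1, PowerSeries.coeff_mul]
    have h2 : ∀ p ∈ Finset.HasAntidiagonal.antidiagonal n,
        PowerSeries.coeff p.1 (Zeta.zetaFun f * U) *
          PowerSeries.coeff p.2 (PowerSeries.map (Int.castRingHom ℚ) Vz) =
        PowerSeries.coeff p.1 (1 : PowerSeries ℚ) *
          PowerSeries.coeff p.2 (PowerSeries.map (Int.castRingHom ℚ) Vz) := by
      intro p hp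
      have := Finset.HasAntidiagonal.mem_antidiagonal.mp hp
      rw [core f n p.1 (by omega)]
    rw [Finset.sum_congr rfl h2, ← PowerSeries.coeff_mul, one_mul, PowerSeries.coeff_map]
    rfl

end Groth.Agent.S13051
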