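import Groth.Statements.S13055
import Groth.Agent.Lib.helper13.ExpLog

set_option autoImplicit false
universe u
open CategoryTheory AlgebraicGeometry
open Zeta

namespace Groth.Agent.S13055

/-- Let X be a scheme of finite type over a finite field k with q elements and P = a_d y^d + ⋯ + a_0 ∈
ℤ[y] with N_m = P(q^m) for every m ≥ 1 (X is of polynomial count). Then Z(X, t) = ∏_{i = 0}^{d} (1 −
q^i t)^{−a_i}; stated cleared of denominators, with the factors of positive exponent moved to the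
left. -/
theorem result {k : Type u} [Field k] [Finite k] {X : Scheme.{u}}
    (f : X ⟶ Spec (CommRingCat.of k)) [LocallyOfFiniteType f] [QuasiCompact f] (P : Polynomial ℤ)
    (hP : ∀ m : ℕ, 1 ≤ m → (Zeta.nPts f m : ℤ) = P.eval ((Nat.card k : ℤ) ^ m)) :
    Zeta.zetaFun f * ∏ i ∈ Finset.range (P.natDegree + 1),
        (1 - PowerSeries.C ((Nat.card k : ℚ) ^ i) * PowerSeries.X) ^ (P.coeff i).toNat =
      ∏ i ∈ Finset.range (P.natDegree + 1),
        (1 - PowerSeries.C ((Nat.card k : ℚ) ^ i) * PowerSeries.X) ^ (-P.coeff i).toNat := by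
  have hZ : Zeta.zetaFun f = Groth.Agent.Lib.helper13.ExpLog.E (Zeta.logZeta f) := rfl
  have hL0 : PowerSeries.constantCoeff (Zeta.logZeta f) = 0 := by
    rw [← PowerSeries.coeff_zero_eq_constantCoeff_apply, Zeta.logZeta, PowerSeries.coeff_mk]
    simp
  have hneg : ∀ (n : ℕ) (b : ℚ), PowerSeries.constantCoeff
      (n • (-(Groth.Agent.Lib.helper13.ExpLog.ell b))) = 0 := by
    intro n b
    simp [Groth.Agent.Lib.helper13.ExpLog.constantCoeff_ell]
  rw [hZ]
  simp_rw [Groth.Agent.Lib.helper13.ExpLog.one_sub_pow_eq_E]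
  rw [← Groth.Agent.Lib.helper13.ExpLog.E_sum _ _ (fun i _ => hneg _ _),
    ← Groth.Agent.Lib.helper13.ExpLog.E_sum _ _ (fun i _ => hneg _ _),
    ← Groth.Agent.Lib.helper13.ExpLog.E_add hL0
      (Groth.Agent.Lib.helper13.ExpLog.constantCoeff_sum_eq_zero _ _ (fun i _ => hneg _ _))]
  congr 1
  ext m
  have hcoef : ∀ (n : ℕ) (b : ℚ), PowerSeries.coeff m
      (n • (-(Groth.Agent.Lib.helper13.ExpLog.ell b))) = -((n : ℚ) * (b ^ m / (m : ℚ))) := by
    intro n b
    rw [map_nsmul, map_neg, Groth.Agent.Lib.helper13.ExpLog.coeff_ell, nsmul_eq_mul]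
    ring
  simp only [map_add, map_sum, hcoef, Zeta.logZeta, PowerSeries.coeff_mk]
  rcases Nat.eq_zero_or_pos m with hm | hm
  · subst hm
    simp
  · have key : ((Zeta.nPts f m : ℕ) : ℚ) = ∑ i ∈ Finset.range (P.natDegree + 1),
        ((((P.coeff i).toNat : ℕ) : ℚ) - (((-P.coeff i).toNat : ℕ) : ℚ)) *
          (((Nat.card k : ℚ) ^ i) ^ m) := by
      have h1 := hP m hm
      rw [Polynomial.eval_eq_sum_range] at h1
      have h2 : ((Zeta.nPts f m : ℕ) : ℚ) = (((Zeta.nPts f m : ℕ) : ℤ) : ℚ) := by push_cast; rfl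
      rw [h2, h1]
      push_cast
      apply Finset.sum_congr rfl
      intro i _
      have h3 : (((P.coeff i).toNat : ℕ) : ℚ) - (((-P.coeff i).toNat : ℕ) : ℚ) =
          ((P.coeff i : ℤ) : ℚ) := by
        have := Int.toNat_sub_toNat_neg (P.coeff i)
        exact_mod_cast congrArg (Int.cast : ℤ → ℚ) this
      rw [h3, ← pow_mul, ← pow_mul, mul_comm m i]
    rw [key, Finset.sum_div, ← Finset.sum_add_distrib]
    apply Finset.sum_congr rfl
    intro i _
    ring

end Groth.Agent.S13055
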