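import Groth.Statements.S13057
import Mathlib

set_option autoImplicit false
universe u
open Zeta

namespace Groth.Agent.S13057

open PowerSeries Finset in
theorem coeff_mul_window {L : Type*} [Field L] (f : PowerSeries L) (Q : Polynomial L) (N i : ℕ)
    (hQ : ∀ k, N < k → Q.coeff k = 0) :
    PowerSeries.coeff (i + N) (f * (Q : PowerSeries L)) =
      ∑ j : Fin (N + 1), PowerSeries.coeff (i + (j : ℕ)) f * Q.coeff (N - (j : ℕ)) := by
  rw [PowerSeries.coeff_mul, Finset.Nat.sum_antidiagonal_eq_sum_range_succ_mk]
  rw [show (i + N).succ = i + (N + 1) by omega, Finset.sum_range_add]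
  rw [Finset.sum_eq_zero, zero_add, Finset.sum_range]
  · apply Finset.sum_congr rfl
    intro j _
    rw [Polynomial.coeff_coe]
    congr 2
    have := j.2
    omega
  · intro k hk
    rw [Polynomial.coeff_coe, hQ _ (by have := Finset.mem_range.mp hk; omega), mul_zero]


/-- A power series f = ∑_{m ≥ 0} a_m t^m over a field L lies in L(t), i.e. f · Q = P for some
polynomials P, Q with Q ≠ 0, if and only if there are natural numbers M, N such that the vectors
(a_i, a_{i+1}, …, a_{i+N}) ∈ L^{N+1}, i ≥ M, span a proper subspace. -/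
theorem result {L : Type u} [Field L]
    (f : PowerSeries L) :
    (∃ P Q : Polynomial L, Q ≠ 0 ∧ f * (Q : PowerSeries L) = (P : PowerSeries L)) ↔
      ∃ M N : ℕ, Submodule.span L
          {v : Fin (N + 1) → L | ∃ i : ℕ, M ≤ i ∧ v = fun j : Fin (N + 1) => PowerSeries.coeff (i + (j : ℕ)) f} ≠ ⊤ := by
  classical
  constructor
  · rintro ⟨P, Q, hQ0, hPQ⟩
    refine ⟨P.natDegree + 1, Q.natDegree, ?_⟩
    set N := Q.natDegree with hN
    intro htop
    let φ : (Fin (N + 1) → L) →ₗ[L] L :=
      ∑ j : Fin (N + 1), Q.coeff (N - (j : ℕ)) • LinearMap.proj j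
    have hφ : ∀ v, φ v = ∑ j : Fin (N + 1), v j * Q.coeff (N - (j : ℕ)) := by
      intro v
      simp only [φ, LinearMap.sum_apply, LinearMap.smul_apply, LinearMap.proj_apply, smul_eq_mul]
      apply Finset.sum_congr rfl
      intro j _
      ring
    have hle : Submodule.span L
        {v : Fin (N + 1) → L | ∃ i : ℕ, P.natDegree + 1 ≤ i ∧
          v = fun j : Fin (N + 1) => PowerSeries.coeff (i + (j : ℕ)) f} ≤ LinearMap.ker φ := by
      rw [Submodule.span_le]
      rintro v ⟨i, hi, rfl⟩
      rw [SetLike.mem_coe, LinearMap.mem_ker, hφ]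
      rw [← coeff_mul_window f Q N i
        (fun k hk => Polynomial.coeff_eq_zero_of_natDegree_lt hk), hPQ, Polynomial.coeff_coe]
      exact Polynomial.coeff_eq_zero_of_natDegree_lt (by omega)
    rw [htop] at hle
    have h1 : (Pi.single 0 1 : Fin (N + 1) → L) ∈ LinearMap.ker φ := hle Submodule.mem_top
    rw [LinearMap.mem_ker, hφ, Finset.sum_eq_single (0 : Fin (N + 1))] at h1
    · simp only [Pi.single_eq_same, one_mul, Fin.val_zero, Nat.sub_zero] at h1
      exact hQ0 (Polynomial.leadingCoeff_eq_zero.mp h1)
    · intro j _ hj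
      rw [Pi.single_eq_of_ne hj, zero_mul]
    · intro h; exact absurd (Finset.mem_univ _) h
  · rintro ⟨M, N, hspan⟩
    obtain ⟨φ, hφ0, hle⟩ := Submodule.exists_le_ker_of_lt_top _ (lt_top_iff_ne_top.mpr hspan)
    set c : Fin (N + 1) → L := fun j => φ (Pi.single j 1) with hc
    have hφ : ∀ v, φ v = ∑ j : Fin (N + 1), v j * c j := by
      intro v
      rw [LinearMap.pi_apply_eq_sum_univ φ v]
      apply Finset.sum_congr rfl
      intro j _
      rw [smul_eq_mul, hc]
      congr 2
      ext k
      simp [Pi.single_apply, eq_comm]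
    obtain ⟨j0, hj0⟩ : ∃ j, c j ≠ 0 := by
      by_contra hcon
      push Not at hcon
      apply hφ0
      apply LinearMap.ext
      intro v
      rw [hφ]
      simp [hcon]
    set Q : Polynomial L := ∑ j : Fin (N + 1), Polynomial.monomial (N - (j : ℕ)) (c j) with hQ
    have hQcoeff : ∀ j : Fin (N + 1), Q.coeff (N - (j : ℕ)) = c j := by
      intro j
      rw [hQ, Polynomial.finsetSum_coeff, Finset.sum_eq_single j]
      · rw [Polynomial.coeff_monomial, if_pos rfl]
      · intro j' _ hj'
        rw [Polynomial.coeff_monomial, if_neg]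
        intro h
        apply hj'
        have := j.2
        have := j'.2
        apply Fin.ext
        omega
      · intro h; exact absurd (Finset.mem_univ _) h
    have hQbig : ∀ k, N < k → Q.coeff k = 0 := by
      intro k hk
      rw [hQ, Polynomial.finsetSum_coeff]
      apply Finset.sum_eq_zero
      intro j _
      rw [Polynomial.coeff_monomial, if_neg]
      omega
    refine ⟨PowerSeries.trunc (M + N) (f * (Q : PowerSeries L)), Q, ?_, ?_⟩
    · intro h
      apply hj0
      rw [← hQcoeff j0, h, Polynomial.coeff_zero]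
    · ext n
      rw [Polynomial.coeff_coe, PowerSeries.coeff_trunc]
      split_ifs with hn
      · rfl
      · obtain ⟨i, rfl⟩ : ∃ i, n = i + N := ⟨n - N, by omega⟩
        rw [coeff_mul_window f Q N i hQbig]
        have hmem : (fun j : Fin (N + 1) => PowerSeries.coeff (i + (j : ℕ)) f) ∈ LinearMap.ker φ :=
          hle (Submodule.subset_span ⟨i, by omega, rfl⟩)
        rw [LinearMap.mem_ker, hφ] at hmem
        rw [← hmem]
        apply Finset.sum_congr rfl
        intro j _
        rw [hQcoeff]


end Groth.Agent.S13057
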