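import Groth.Statements.S13058
import Mathlib

set_option autoImplicit false
universe u v
open Zeta

namespace Groth.Agent.S13058

/-- If L'/L is a field extension, a power series f ∈ L⟦t⟧ belongs to L(t) exactly when it belongs to
L'(t); here membership in L(t) means f · Q = P for polynomials P, Q over the field in question with
Q ≠ 0. -/
theorem result {L : Type u} {L' : Type v} [Field L] [Field L']
    [Algebra L L'] (f : PowerSeries L) :
    (∃ P Q : Polynomial L', Q ≠ 0 ∧
        PowerSeries.map (algebraMap L L') f * (Q : PowerSeries L') = (P : PowerSeries L')) ↔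
      ∃ P Q : Polynomial L, Q ≠ 0 ∧ f * (Q : PowerSeries L) = (P : PowerSeries L) := by
  constructor
  · rintro ⟨P, Q, hQ, h⟩
    obtain ⟨n₀, hn₀⟩ : ∃ n, Q.coeff n ≠ 0 := by
      by_contra hcon
      push Not at hcon
      exact hQ (Polynomial.ext (by simpa using hcon))
    obtain ⟨φ, hφ⟩ : ∃ φ : L' →ₗ[L] L, φ (Q.coeff n₀) ≠ 0 := by
      by_contra hcon
      push Not at hcon
      exact hn₀ ((Module.forall_dual_apply_eq_zero_iff L _).1 hcon)
    let tr : Polynomial L' → Polynomial L := fun R =>
      ∑ i ∈ R.support, Polynomial.monomial i (φ (R.coeff i))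
    have htr : ∀ R i, (tr R).coeff i = φ (R.coeff i) := by
      intro R i
      simp only [tr, Polynomial.finsetSum_coeff, Polynomial.coeff_monomial]
      rw [Finset.sum_ite_eq']
      split_ifs with hi
      · rfl
      · rw [Polynomial.notMem_support_iff.1 hi, map_zero]
    refine ⟨tr P, tr Q, ?_, ?_⟩
    · intro h0
      apply hφ
      rw [← htr, h0, Polynomial.coeff_zero]
    · ext n
      rw [PowerSeries.coeff_mul, Polynomial.coeff_coe, htr]
      have h1 := congrArg (PowerSeries.coeff n) h
      rw [PowerSeries.coeff_mul, Polynomial.coeff_coe] at h1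
      rw [← h1, map_sum]
      apply Finset.sum_congr rfl
      intro ij _
      rw [Polynomial.coeff_coe, Polynomial.coeff_coe, htr, PowerSeries.coeff_map,
        ← Algebra.smul_def, map_smul, smul_eq_mul]
  · rintro ⟨P, Q, hQ, h⟩
    refine ⟨P.map (algebraMap L L'), Q.map (algebraMap L L'), ?_, ?_⟩
    · rwa [Ne, Polynomial.map_eq_zero_iff (algebraMap L L').injective]
    · rw [Polynomial.polynomial_map_coe, Polynomial.polynomial_map_coe, ← map_mul, h]

end Groth.Agent.S13058
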