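import Groth.Statements.S13059
import Mathlib

set_option autoImplicit false
universe u
open Zeta

namespace Groth.Agent.S13059

open Polynomial Matrix in
theorem matrix_lemma {K : Type*} [Field K] {n : Type*} [Fintype n] [DecidableEq n]
    (F G : Matrix n n K) (c : K) (hc : c ≠ 0) (h : Fᵀ * G = c • (1 : Matrix n n K)) :
    F.det • G.charpolyRev =
      ((-1) ^ Fintype.card n * c ^ Fintype.card n) • (c⁻¹ • F).charpoly := by
  have h1 : (Polynomial.C F.det : K[X]) = (Fᵀ.map (Polynomial.C : K →+* K[X])).det := by
    rw [← RingHom.mapMatrix_apply, ← RingHom.map_det, Matrix.det_transpose]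
  have h2 : (Fᵀ.map (Polynomial.C : K →+* K[X])) * (G.map Polynomial.C) =
      (Polynomial.C c : K[X]) • (1 : Matrix n n K[X]) := by
    rw [← Matrix.map_mul, h]
    ext i j
    simp [Matrix.map_apply, Matrix.smul_apply, Matrix.one_apply]
    split_ifs <;> simp
  rw [Polynomial.smul_eq_C_mul, Polynomial.smul_eq_C_mul, h1, Matrix.charpolyRev, ← Matrix.det_mul,
    Matrix.mul_sub, Matrix.mul_one, Matrix.mul_smul, h2]
  have h3 : ((-1 : K) ^ Fintype.card n * c ^ Fintype.card n) = (-c) ^ Fintype.card n := by
    rw [← mul_pow]; simp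
  rw [h3, map_pow, Matrix.charpoly, ← Matrix.det_smul, ← Matrix.det_transpose]
  congr 1
  refine Matrix.ext fun i j => ?_
  simp only [Matrix.transpose_apply, Matrix.sub_apply, Matrix.map_apply, Matrix.smul_apply,
    Matrix.one_apply, Matrix.charmatrix_apply, Matrix.diagonal_apply, smul_eq_mul, map_neg,
    map_mul]
  have hcc : (Polynomial.C c : K[X]) * Polynomial.C c⁻¹ = 1 := by
    rw [← map_mul, mul_inv_cancel₀ hc, map_one]
  by_cases hij : i = j
  · subst hij
    simp only [if_true]
    linear_combination (-(Polynomial.C (F i i) : K[X])) * hcc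
  · rw [if_neg hij, if_neg (Ne.symm hij)]
    linear_combination (-(Polynomial.C (F i j) : K[X])) * hcc


/-- Let B : V × W → K be a perfect pairing of finite-dimensional vector spaces over a field K, c ∈ K
nonzero, and f, g endomorphisms of V, W with B(f v, g w) = c · B(v, w) for all v, w. Then det(Id − t
g) = (−1)^r c^r t^r det(f)^{−1} det(Id − c^{−1} t^{−1} f) with r the common dimension; stated
cleared of denominators as det(f) · det(Id − t g) = (−1)^r c^r · det(t Id − c^{−1} f) in K[t],
det(Id − t g) being the reverse of the characteristic polynomial of g. -/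
theorem result (K : Type u) [Field K] (V W : Type u)
    [AddCommGroup V] [Module K V] [FiniteDimensional K V] [AddCommGroup W] [Module K W]
    [FiniteDimensional K W] (B : V →ₗ[K] W →ₗ[K] K) [B.IsPerfPair] (f : V →ₗ[K] V) (g : W →ₗ[K] W)
    (c : K) (hc : c ≠ 0) (hfg : ∀ (v : V) (w : W), B (f v) (g w) = c * B v w) :
    LinearMap.det f • (LinearMap.charpoly g).reverse =
      ((-1) ^ Module.finrank K W * c ^ Module.finrank K W) • (c⁻¹ • f).charpoly := by
  classical
  let b := Module.finBasis K V
  let e : W ≃ₗ[K] Module.Dual K V := B.flip.toPerfPair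
  have he : ∀ w v, e w v = B v w := fun w v => rfl
  let g' : Module.End K (Module.Dual K V) := e.conj g
  have hcomp : f.dualMap ∘ₗ g' = c • LinearMap.id := by
    apply LinearMap.ext
    intro φ
    apply LinearMap.ext
    intro v
    obtain ⟨w, rfl⟩ := e.surjective φ
    simp only [g', LinearMap.comp_apply, LinearEquiv.conj_apply, LinearEquiv.symm_apply_apply,
      LinearMap.dualMap_apply, LinearEquiv.coe_coe, he, hfg, LinearMap.smul_apply,
      LinearMap.id_apply, smul_eq_mul]
  set F := LinearMap.toMatrix b b f with hF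
  set G := LinearMap.toMatrix b.dualBasis b.dualBasis g' with hG
  have hFG : F.transpose * G = c • (1 : Matrix _ _ K) := by
    rw [hF, ← LinearMap.toMatrix_transpose (B₁ := b) (B₂ := b), ← LinearMap.dualMap_def, hG,
      ← LinearMap.toMatrix_comp, hcomp, map_smul, LinearMap.toMatrix_id]
  have hrank : Module.finrank K W = Fintype.card (Fin (Module.finrank K V)) := by
    rw [Fintype.card_fin]
    exact (Module.finrank_of_isPerfPair B).symm
  rw [hrank]
  have h1 : LinearMap.det f = F.det := (LinearMap.det_toMatrix b f).symm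
  have h2 : (LinearMap.charpoly g).reverse = G.charpolyRev := by
    rw [← LinearEquiv.charpoly_conj e g, ← LinearMap.charpoly_toMatrix (e.conj g) b.dualBasis,
      Matrix.reverse_charpoly]
  have h3 : (c⁻¹ • f).charpoly = (c⁻¹ • F).charpoly := by
    rw [← LinearMap.charpoly_toMatrix (c⁻¹ • f) b, map_smul]
  rw [h1, h2, h3]
  exact matrix_lemma F G c hc hFG

end Groth.Agent.S13059
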