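import Groth.Statements.S1306
import Mathlib
import Groth.Agent.Lib.helper2.Thickening
-- import your own Groth.Agent.* helpers here

set_option autoImplicit false
universe u
open FlatMor

namespace Groth.Agent.S1306

open AlgebraicGeometry CategoryTheory Limits in
/-- For a morphism of thickenings, that is a commutative square whose horizontal maps are thickenings
(closed immersions that are surjective on points), the morphism between the thin schemes is
quasi-separated if and only if the morphism between the thick ones is. -/
theorem result {X X' S S' : Scheme.{u}} (iX : X ⟶ X') (iS : S ⟶ S') (f : X ⟶ S) (f' : X' ⟶ S')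
    (hX : MoreMor.IsThickening iX) (hS : MoreMor.IsThickening iS) (w : iX ≫ f' = f ≫ iS) :
    QuasiSeparated f ↔ QuasiSeparated f' := by
  have : IsClosedImmersion iX := hX.1
  have : Surjective iX := hX.2
  have : IsClosedImmersion iS := hS.1
  have : Surjective iS := hS.2
  constructor
  · intro h
    have h1 : QuasiSeparated (iX ≫ f') := by rw [w]; infer_instance
    have h2 : QuasiCompact (pullback.diagonal (iX ≫ f')) := h1.1
    have := Groth.Agent.Lib.helper2.isClosedImmersion_pullbackMap iX f'
    have h3 : QuasiCompact (iX ≫ pullback.diagonal f') := by
      rw [← Groth.Agent.Lib.helper2.diagonal_comp_pullbackMap]; infer_instance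
    exact ⟨Groth.Agent.Lib.helper2.quasiCompact_of_comp_surjective iX _⟩
  · intro h
    have : QuasiSeparated (f ≫ iS) := by rw [← w]; infer_instance
    exact QuasiSeparated.of_comp f iS

end Groth.Agent.S1306
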