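import Groth.Statements.S13060
import Mathlib

set_option autoImplicit false
universe u v w x
open TensorProduct
open Zeta

namespace Groth.Agent.S13060

/-- Let k be a field, V and W vector spaces over k and G a group acting on V by k-linear automorphisms;
for the induced action on V ⊗_k W (trivial on W) one has (V ⊗_k W)^G = V^G ⊗_k W, i.e. the
invariants of V ⊗ W are the image of V^G ⊗ W → V ⊗ W. -/
theorem result {k : Type u} [Field k] {G : Type v} [Group G]
    {V : Type w} {W : Type x} [AddCommGroup V] [Module k V] [AddCommGroup W] [Module k W]
    (ρ : Representation k G V) :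
    (ρ.tprod (Representation.trivial k G W)).invariants =
      LinearMap.range (TensorProduct.map ρ.invariants.subtype (LinearMap.id : W →ₗ[k] W)) := by
  classical
  let 𝒞 := Module.Basis.ofVectorSpace k W
  let e := TensorProduct.equivFinsuppOfBasisRight (M := V) 𝒞
  have hcomm : ∀ (T : V →ₗ[k] V) (t : V ⊗[k] W) i,
      e (TensorProduct.map T LinearMap.id t) i = T (e t i) := by
    intro T t i
    induction t with
    | zero => simp
    | tmul m n =>
      simp only [TensorProduct.map_tmul, LinearMap.id_apply, e]
      rw [TensorProduct.equivFinsuppOfBasisRight_apply_tmul_apply,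
        TensorProduct.equivFinsuppOfBasisRight_apply_tmul_apply, map_smul]
    | add x y hx hy => simp only [map_add, Finsupp.add_apply, hx, hy]
  apply le_antisymm
  · intro t ht
    rw [Representation.mem_invariants] at ht
    have hinv : ∀ i, e t i ∈ ρ.invariants := by
      intro i
      rw [Representation.mem_invariants]
      intro g
      have h1 := ht g
      rw [Representation.tprod_apply] at h1
      have h2 : Representation.trivial k G W g = LinearMap.id := by
        ext w; simp
      rw [h2] at h1
      rw [← hcomm, h1]
    have ht' : t = e.symm (e t) := (e.symm_apply_apply t).symm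
    rw [ht']
    simp only [e]
    rw [TensorProduct.equivFinsuppOfBasisRight_symm_apply]
    apply Submodule.sum_mem
    intro i _
    exact ⟨(⟨e t i, hinv i⟩ : ρ.invariants) ⊗ₜ[k] 𝒞 i, by simp [e]⟩
  · rintro _ ⟨s, rfl⟩
    rw [Representation.mem_invariants]
    intro g
    rw [Representation.tprod_apply]
    have h2 : Representation.trivial k G W g = LinearMap.id := by
      ext w; simp
    rw [h2, ← LinearMap.comp_apply, ← TensorProduct.map_comp]
    congr 2
    ext v
    exact (Representation.mem_invariants ρ v.1).1 v.2 g

end Groth.Agent.S13060
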