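import Groth.Statements.S13061
import Mathlib

set_option autoImplicit false
universe u v w
open Zeta

namespace Groth.Agent.S13061

theorem choose_pow_mul (p : ℕ) [Fact p.Prime] (n m : ℕ) :
    Nat.choose (p ^ n * m) (p ^ n) ≡ m [MOD p] := by
  have hp : 0 < p := (Fact.out : p.Prime).pos
  induction n with
  | zero => simp [Nat.ModEq.refl]
  | succ n ih =>
    have h := Choose.choose_modEq_choose_mod_mul_choose_div_nat
      (n := p ^ (n + 1) * m) (k := p ^ (n + 1)) (p := p)
    have h1 : p ^ (n + 1) * m % p = 0 := by
      rw [pow_succ', mul_assoc]; exact Nat.mul_mod_right _ _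
    have h2 : p ^ (n + 1) % p = 0 := by
      rw [pow_succ']; exact Nat.mul_mod_right _ _
    have h3 : p ^ (n + 1) * m / p = p ^ n * m := by
      rw [pow_succ', mul_assoc]; exact Nat.mul_div_cancel_left _ hp
    have h4 : p ^ (n + 1) / p = p ^ n := by
      rw [pow_succ']; exact Nat.mul_div_cancel_left _ hp
    rw [h1, h2, h3, h4, Nat.choose_self, one_mul] at h
    exact h.trans ih

/-- Let A be a commutative algebra over a field k, G a finite group acting on A by k-algebra
automorphisms and I ⊆ A an ideal preserved by G. If p^n is the largest power of p = char(k) dividing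
|G| (with p^n = 1 when char(k) = 0), then for every G-invariant b ∈ A/I the power b^{p^n} lies in
the image of A^G → (A/I)^G. (The published statement takes A finitely generated over k, which the
proof does not use.) -/
theorem result {k : Type u} [Field k]
    {A : Type v} [CommRing A] [Algebra k A] {G : Type w} [Group G] [Finite G]
    [MulSemiringAction G A] [SMulCommClass G k A] (I : Ideal A)
    (hI : ∀ (g : G) (a : A), a ∈ I → g • a ∈ I) (u : A) (hu : ∀ g : G, g • u - u ∈ I) :
    ∃ a : A, (∀ g : G, g • a = a) ∧
      Ideal.Quotient.mk I a =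
        Ideal.Quotient.mk I u ^ (ringChar k ^ (Nat.card G).factorization (ringChar k)) := by
  classical
  have : Fintype G := Fintype.ofFinite G
  set p := ringChar k with hp
  set N := Nat.card G with hN
  set q := p ^ N.factorization p with hq
  have hN0 : N ≠ 0 := Nat.card_pos.ne'
  -- the binomial coefficient is invertible in `k`
  have hc : ((Nat.choose N q : ℕ) : k) ≠ 0 := by
    rcases CharP.char_is_prime_or_zero k p with hpp | hp0
    · have : Fact p.Prime := ⟨hpp⟩
      have hdecomp : q * (N / q) = N := Nat.ordProj_mul_ordCompl_eq_self N p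
      have hnd : ¬ p ∣ N / q := Nat.not_dvd_ordCompl hpp hN0
      have h1 := choose_pow_mul p (N.factorization p) (N / q)
      rw [← hq, hdecomp] at h1
      rw [(CharP.natCast_eq_natCast k p).mpr h1]
      rwa [Ne, CharP.cast_eq_zero_iff k p]
    · have hq1 : q = 1 := by rw [hq, hp0]; simp
      rw [hq1, Nat.choose_one_right]
      have : CharP k 0 := by rw [← hp0]; exact ringChar.charP k
      have : CharZero k := CharP.charP_to_charZero k
      exact Nat.cast_ne_zero.mpr hN0
  set f : G → A := fun g => g • u with hf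
  set a0 : A := MvPolynomial.aeval f (MvPolynomial.esymm G k q) with ha0
  have ha0' : a0 = ∑ t ∈ Finset.powersetCard q (Finset.univ : Finset G), ∏ g ∈ t, f g := by
    rw [ha0, MvPolynomial.aeval_esymm_eq_multiset_esymm, Finset.esymm_map_val]
  have hinv0 : ∀ h : G, h • a0 = a0 := by
    intro h
    have h1 : h • a0 = MulSemiringAction.toAlgHom k A h a0 := rfl
    rw [h1, ha0, ← AlgHom.comp_apply, MvPolynomial.comp_aeval]
    have h2 : (fun i => (MulSemiringAction.toAlgHom k A h) (f i)) = f ∘ (Equiv.mulLeft h) := by
      funext g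
      simp only [hf, MulSemiringAction.toAlgHom_apply, Function.comp_apply, Equiv.coe_mulLeft,
        mul_smul]
    rw [h2, ← MvPolynomial.aeval_rename, MvPolynomial.esymm_isSymmetric G k q (Equiv.mulLeft h)]
  have hmk0 : Ideal.Quotient.mk I a0 = (Nat.choose N q : ℕ) • (Ideal.Quotient.mk I u) ^ q := by
    rw [ha0', map_sum]
    have h1 : ∀ t ∈ Finset.powersetCard q (Finset.univ : Finset G),
        Ideal.Quotient.mk I (∏ g ∈ t, f g) = (Ideal.Quotient.mk I u) ^ q := by
      intro t ht
      rw [map_prod]
      have h2 : ∀ g ∈ t, Ideal.Quotient.mk I (f g) = Ideal.Quotient.mk I u :=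
        fun g _ => Ideal.Quotient.eq.mpr (hu g)
      rw [Finset.prod_congr rfl h2, Finset.prod_const, (Finset.mem_powersetCard.mp ht).2]
    rw [Finset.sum_congr rfl h1, Finset.sum_const, Finset.card_powersetCard, Finset.card_univ,
      ← Nat.card_eq_fintype_card]
  refine ⟨((Nat.choose N q : ℕ) : k)⁻¹ • a0, ?_, ?_⟩
  · intro g
    rw [smul_comm, hinv0 g]
  · have h3 : Ideal.Quotient.mk I (((Nat.choose N q : ℕ) : k)⁻¹ • a0) =
        ((Nat.choose N q : ℕ) : k)⁻¹ • Ideal.Quotient.mk I a0 :=
      map_smul (Ideal.Quotient.mkₐ k I) _ _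
    rw [h3, hmk0, ← Nat.cast_smul_eq_nsmul k, inv_smul_smul₀ hc]

end Groth.Agent.S13061
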