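import Groth.Statements.S13066
import Groth.Agent.Lib.helper13.FFSums

set_option autoImplicit false
universe u
open Zeta

namespace Groth.Agent.S13066

/-- Let k be a finite field with q elements and characteristic p, n ≥ 2, and f ∈ k[x_0, …, x_n]
homogeneous of degree n + 1. Then the coefficient of (x_0 ⋯ x_n)^{q−1} in f^{q−1} is nonzero if and
only if the coefficient of (x_0 ⋯ x_n)^{p−1} in f^{p−1} is nonzero. -/
theorem result {k : Type u} [Field k] [Finite k]
    (p : ℕ) [CharP k p] (n : ℕ) (hn : 2 ≤ n) (f : MvPolynomial (Fin (n + 1)) k)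
    (hf : f.IsHomogeneous (n + 1)) :
    MvPolynomial.coeff (Finsupp.equivFunOnFinite.symm fun _ : Fin (n + 1) => Nat.card k - 1)
        (f ^ (Nat.card k - 1)) ≠ 0 ↔
      MvPolynomial.coeff (Finsupp.equivFunOnFinite.symm fun _ : Fin (n + 1) => p - 1)
        (f ^ (p - 1)) ≠ 0 := by
  classical
  have : Fintype k := Fintype.ofFinite k
  obtain ⟨e, hpprime, hq⟩ := FiniteField.card k p
  have : Fact p.Prime := ⟨hpprime⟩
  have hp1 : 1 ≤ p := hpprime.one_lt.le
  rw [Nat.card_eq_fintype_card, hq]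
  set c : ℕ → k := fun e =>
    MvPolynomial.coeff (Groth.Agent.Lib.helper13.FFSums.cst (Fin (n + 1)) (p ^ e - 1))
      (f ^ (p ^ e - 1)) with hc
  have hrec : ∀ e, c (e + 1) = c e ^ p * c 1 := by
    intro e
    have hpe : 1 ≤ p ^ e := Nat.one_le_pow _ _ (by omega)
    have hexp : p ^ (e + 1) - 1 = (p ^ e - 1) * p + (p - 1) := by
      rw [pow_succ, Nat.sub_mul, one_mul]
      have : p ≤ p ^ e * p := Nat.le_mul_of_pos_left p (by omega)
      omega
    have hh : (f ^ (p - 1)).IsHomogeneous ((p - 1) * Fintype.card (Fin (n + 1))) := by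
      rw [Fintype.card_fin]
      have := hf.pow (p - 1)
      rwa [mul_comm] at this
    simp only [hc]
    rw [hexp, pow_add, pow_mul, ← hexp, pow_succ', pow_one]
    exact Groth.Agent.Lib.helper13.FFSums.coeff_pow_mul p (p ^ e) hpe _ _ hh
  have key : ∀ e, c (e + 1) ≠ 0 ↔ c 1 ≠ 0 := by
    intro e
    induction e with
    | zero => rfl
    | succ e ih =>
      rw [hrec (e + 1), mul_ne_zero_iff, pow_ne_zero_iff hpprime.ne_zero, ih]
      exact and_self_iff
  obtain ⟨e', he'⟩ : ∃ e', (e : ℕ) = e' + 1 := ⟨(e : ℕ) - 1, by have := e.pos; omega⟩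
  rw [he']
  have h1 := key e'
  simp only [hc, pow_one] at h1
  exact h1

end Groth.Agent.S13066
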