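import Groth.Statements.S1307
import Mathlib
import Groth.Agent.Lib.helper2.Thickening
-- import your own Groth.Agent.* helpers here

set_option autoImplicit false
universe u
open FlatMor

namespace Groth.Agent.S1307

open AlgebraicGeometry CategoryTheory Limits in
/-- For a morphism of thickenings, that is a commutative square whose horizontal maps are thickenings
(closed immersions that are surjective on points), the morphism between the thin schemes is
universally injective if and only if the morphism between the thick ones is. -/
theorem result {X X' S S' : Scheme.{u}} (iX : X ⟶ X') (iS : S ⟶ S') (f : X ⟶ S) (f' : X' ⟶ S')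
    (hX : MoreMor.IsThickening iX) (hS : MoreMor.IsThickening iS) (w : iX ≫ f' = f ≫ iS) :
    UniversallyInjective f ↔ UniversallyInjective f' := by
  have : IsClosedImmersion iX := hX.1
  have : Surjective iX := hX.2
  have : IsClosedImmersion iS := hS.1
  have : Surjective iS := hS.2
  constructor
  · intro h
    have h1 : UniversallyInjective (iX ≫ f') := by
      rw [w]; exact MorphismProperty.comp_mem _ _ _ h inferInstance
    have h2 : Surjective (pullback.diagonal (iX ≫ f')) :=
      (UniversallyInjective.iff_diagonal _).1 h1
    have := Groth.Agent.Lib.helper2.surjective_pullbackMap iX f'
    have h3 : Surjective (iX ≫ pullback.diagonal f') := by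
      rw [← Groth.Agent.Lib.helper2.diagonal_comp_pullbackMap]; infer_instance
    exact (UniversallyInjective.iff_diagonal _).2 (Surjective.of_comp iX _)
  · intro h
    have : UniversallyInjective (f ≫ iS) := by
      rw [← w]; exact MorphismProperty.comp_mem _ _ _ inferInstance h
    exact MorphismProperty.of_postcomp (W := @UniversallyInjective)
      (W' := MorphismProperty.monomorphisms Scheme.{u}) f iS
      (inferInstanceAs (Mono iS)) this

end Groth.Agent.S1307
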