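import Groth.Statements.S1308
import Mathlib
import Groth.Agent.Lib.helper2.Thickening
-- import your own Groth.Agent.* helpers here

set_option autoImplicit false
universe u
open FlatMor

namespace Groth.Agent.S1308

open AlgebraicGeometry CategoryTheory Limits in
/-- For a morphism of thickenings, that is a commutative square whose horizontal maps are thickenings
(closed immersions that are surjective on points), the morphism between the thin schemes is
universally open if and only if the morphism between the thick ones is. -/
theorem result {X X' S S' : Scheme.{u}} (iX : X ⟶ X') (iS : S ⟶ S') (f : X ⟶ S) (f' : X' ⟶ S')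
    (hX : MoreMor.IsThickening iX) (hS : MoreMor.IsThickening iS) (w : iX ≫ f' = f ≫ iS) :
    UniversallyOpen f ↔ UniversallyOpen f' := by
  have : IsClosedImmersion iX := hX.1
  have : Surjective iX := hX.2
  have : IsClosedImmersion iS := hS.1
  have : Surjective iS := hS.2
  have : UniversallyOpen iX :=
    Groth.Agent.Lib.helper2.universallyOpen_of_isClosedImmersion_of_surjective iX
  have : UniversallyOpen iS :=
    Groth.Agent.Lib.helper2.universallyOpen_of_isClosedImmersion_of_surjective iS
  constructor
  · intro h
    have : UniversallyOpen (iX ≫ f') := by rw [w]; infer_instance
    exact Groth.Agent.Lib.helper2.universallyOpen_of_comp_surjective iX f'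
  · intro h
    have : UniversallyOpen (f ≫ iS) := by rw [← w]; infer_instance
    exact MorphismProperty.of_postcomp (W := @UniversallyOpen)
      (W' := MorphismProperty.monomorphisms Scheme.{u}) f iS
      (inferInstanceAs (Mono iS)) this

end Groth.Agent.S1308
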