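import Groth.Statements.S1309
import Mathlib
import Groth.Agent.Lib.helper22.ThickBC
import Groth.Agent.Lib.helper22.NilFT

set_option autoImplicit false
universe u
open FlatMor

namespace Groth.Agent.S1309

section Helpers

open CategoryTheory CategoryTheory.Limits AlgebraicGeometry

theorem appLE_congr_hom {X Y : Scheme.{u}} (φ ψ : X ⟶ Y) (h : φ = ψ) (V : Y.Opens) (W : X.Opens)
    (h1 : W ≤ φ ⁻¹ᵁ V) (h2 : W ≤ ψ ⁻¹ᵁ V) : φ.appLE V W h1 = ψ.appLE V W h2 := by
  subst h
  rfl

open Groth.Agent.H22.ThickBC Groth.Agent.H22.NilFT in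
theorem forward {X X' S S' : Scheme.{u}} (iX : X ⟶ X') (iS : S ⟶ S') (f : X ⟶ S) (f' : X' ⟶ S')
    (hS : MoreMor.IsFiniteOrderThickening iS) (hc : IsPullback iX f f' iS)
    [LocallyOfFiniteType f] : LocallyOfFiniteType f' := by
  haveI : IsClosedImmersion iS := hS.1.1
  haveI : IsClosedImmersion iX :=
    MorphismProperty.of_isPullback (P := @IsClosedImmersion) hc.flip inferInstance
  obtain ⟨n, hn⟩ := hS.2
  refine ⟨fun {U'} hU' {V'} hV' e => ?_⟩
  have hU : IsAffineOpen (iS ⁻¹ᵁ U') := hU'.preimage iS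
  have hV : IsAffineOpen (iX ⁻¹ᵁ V') := hV'.preimage iX
  have hVU : iX ⁻¹ᵁ V' ≤ f ⁻¹ᵁ (iS ⁻¹ᵁ U') := by
    intro x hx
    change iS (f x) ∈ U'
    rw [← Scheme.Hom.comp_apply, ← hc.w, Scheme.Hom.comp_apply]
    exact e hx
  have hφ := f.finiteType_appLE hU hV hVU
  have hψA : Function.Surjective (iS.app U').hom := iS.app_surjective U' hU'
  have hψB : Function.Surjective (iX.app V').hom := iX.app_surjective V' hV'
  have hcomm : f'.appLE U' V' e ≫ iX.app V' = iS.app U' ≫ f.appLE (iS ⁻¹ᵁ U') (iX ⁻¹ᵁ V') hVU := by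
    rw [Scheme.Hom.app_eq_appLE, Scheme.Hom.app_eq_appLE, Scheme.Hom.appLE_comp_appLE,
      Scheme.Hom.appLE_comp_appLE]
    exact appLE_congr_hom _ _ hc.w _ _ _ _
  set I : Ideal Γ(S', U') := iS.ker.ideal ⟨U', hU'⟩ with hI
  have hIn : I ^ n = ⊥ := by
    have := congr(($hn).ideal ⟨U', hU'⟩)
    rw [Scheme.IdealSheafData.ideal_pow, Pi.pow_apply] at this
    exact this
  have hK : iX.ker.ideal ⟨V', hV'⟩ ≤ Ideal.map (f'.appLE U' V' e).hom I :=
    ker_ideal_le_map_of_isPullback iX f f' iS hc V' hV' U' hU' e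
  rw [Scheme.Hom.ker_apply] at hK
  letI algAB : Algebra Γ(S', U') Γ(X', V') := (f'.appLE U' V' e).hom.toAlgebra
  let Q := Γ(X', V') ⧸ I.map (algebraMap Γ(S', U') Γ(X', V'))
  let χ : Γ(X, iX ⁻¹ᵁ V') →+* Q :=
    RingHom.liftOfSurjective (iX.app V').hom hψB ⟨Ideal.Quotient.mk _, by
      rw [Ideal.mk_ker]; exact hK⟩
  have hχ : χ.comp (iX.app V').hom = Ideal.Quotient.mk _ :=
    RingHom.liftOfRightInverse_comp _ _ _ _
  have hχsurj : Function.Surjective χ := by
    intro q
    obtain ⟨b, rfl⟩ := Ideal.Quotient.mk_surjective q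
    exact ⟨(iX.app V').hom b, congr($hχ b)⟩
  have hQ : (algebraMap Γ(S', U') Q).FiniteType := by
    have h1 : algebraMap Γ(S', U') Q =
        (χ.comp (f.appLE (iS ⁻¹ᵁ U') (iX ⁻¹ᵁ V') hVU).hom).comp (iS.app U').hom := by
      ext a
      have h2 := congr($hcomm a)
      simp only [CommRingCat.comp_apply] at h2
      rw [RingHom.comp_apply, RingHom.comp_apply, ← h2]
      exact (congr($hχ ((f'.appLE U' V' e).hom a))).symm
    rw [h1]
    exact RingHom.FiniteType.comp (RingHom.FiniteType.comp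
      (RingHom.FiniteType.of_surjective _ hχsurj) hφ) (RingHom.FiniteType.of_surjective _ hψA)
  rw [RingHom.finiteType_algebraMap] at hQ
  haveI := hQ
  rw [RingHom.FiniteType]
  exact finiteType_of_quotient_map I n hIn

theorem main {X X' S S' : Scheme.{u}} (iX : X ⟶ X') (iS : S ⟶ S') (f : X ⟶ S) (f' : X' ⟶ S')
    (hS : MoreMor.IsFiniteOrderThickening iS) (hc : IsPullback iX f f' iS) :
    LocallyOfFiniteType f ↔ LocallyOfFiniteType f' :=
  ⟨fun _ => forward iX iS f f' hS hc,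
    fun h => MorphismProperty.of_isPullback (P := @LocallyOfFiniteType) hc h⟩

end Helpers

open AlgebraicGeometry CategoryTheory Limits in
/-- Let S ⟶ S' be a finite order thickening and let X be the base change of a scheme X' over S' to S (so
X ⟶ X' is again a thickening). Then X ⟶ S is locally of finite type if and only if X' ⟶ S' is. -/
theorem result {X X' S S' : Scheme.{u}} (iX : X ⟶ X') (iS : S ⟶ S') (f : X ⟶ S) (f' : X' ⟶ S')
    (hS : MoreMor.IsFiniteOrderThickening iS) (hc : IsPullback iX f f' iS) :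
    LocallyOfFiniteType f ↔ LocallyOfFiniteType f' := by
  exact main iX iS f f' hS hc

end Groth.Agent.S1309
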