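import Groth.Statements.S13096
import Mathlib

set_option autoImplicit false
universe u v
open CAlg

namespace Groth.Agent.S13096

section helpers



theorem ringEnd_inj {S : Type*} [CommRing S] [IsNoetherianRing S] (α : S →+* S)
    (hs : Function.Surjective α) : Function.Injective α := by
  let K : ℕ →o Ideal S := ⟨fun n => RingHom.ker (α ^ n), fun m n hmn x hx => by
    obtain ⟨k, rfl⟩ := Nat.exists_eq_add_of_le hmn
    rw [RingHom.mem_ker] at hx ⊢
    rw [add_comm, pow_add, RingHom.mul_def, RingHom.comp_apply, hx, map_zero]⟩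
  obtain ⟨n, hn⟩ := monotone_stabilizes_iff_noetherian.mpr (inferInstance : IsNoetherian S S) K
  have hsn : Function.Surjective (α ^ n) := by
    rw [RingHom.coe_pow]
    exact hs.iterate n
  rw [injective_iff_map_eq_zero]
  intro x hx
  obtain ⟨y, rfl⟩ := hsn x
  have h1 : y ∈ K (n+1) := by
    show y ∈ RingHom.ker (α ^ (n+1))
    rw [RingHom.mem_ker, pow_succ', RingHom.mul_def, RingHom.comp_apply, hx]
  rw [← hn (n+1) (Nat.le_succ n)] at h1
  exact h1



end helpers

set_option maxHeartbeats 400000 in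
/-- Let R be a commutative ring and R' a commutative R-algebra of finite presentation. Then every
surjective R-algebra endomorphism α : R' → R' is bijective (an automorphism). -/
theorem result (R : Type u) [CommRing R]
    (R' : Type v) [CommRing R'] [Algebra R R'] [Algebra.FinitePresentation R R']
    (α : R' →ₐ[R] R') (hα : Function.Surjective α) : Function.Bijective α := by
  classical
  refine ⟨?_, hα⟩
  obtain ⟨n, π, hπ, s, hs⟩ :=
    (Algebra.FinitePresentation.out : ∃ (n : ℕ) (f : MvPolynomial (Fin n) R →ₐ[R] R'),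
      Function.Surjective f ∧ (RingHom.ker f.toRingHom).FG)
  have hmem : ∀ x : MvPolynomial (Fin n) R, x ∈ Ideal.span (s : Set (MvPolynomial (Fin n) R)) ↔
      π x = 0 := by
    intro x; rw [hs]; rfl
  -- the lift of α to the polynomial ring
  choose g hg using fun i : Fin n => hπ (α (π (MvPolynomial.X i)))
  let G : MvPolynomial (Fin n) R →ₐ[R] MvPolynomial (Fin n) R := MvPolynomial.aeval g
  have hG : ∀ q, π (G q) = α (π q) := by
    have : π.comp G = α.comp π := by
      apply MvPolynomial.algHom_ext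
      intro i
      simp [G, hg]
    intro q
    exact AlgHom.congr_fun this q
  choose h hh using fun i : Fin n => (by
    obtain ⟨a, ha⟩ := hα (π (MvPolynomial.X i))
    obtain ⟨q, rfl⟩ := hπ a
    exact ⟨q, ha⟩ : ∃ q, α (π q) = π (MvPolynomial.X i))
  rw [injective_iff_map_eq_zero]
  intro a ha
  obtain ⟨p, rfl⟩ := hπ a
  -- certificates
  have span_cert : ∀ x, π x = 0 → ∃ c : MvPolynomial (Fin n) R → MvPolynomial (Fin n) R,
      ∑ k ∈ s, c k * k = x := by
    intro x hx
    rw [← hmem, Ideal.span, Submodule.mem_span_finset] at hx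
    obtain ⟨c, -, hc⟩ := hx
    exact ⟨c, by simpa using hc⟩
  have c1 : ∀ j ∈ s, ∃ c : MvPolynomial (Fin n) R → MvPolynomial (Fin n) R,
      ∑ k ∈ s, c k * k = G j := by
    intro j hj
    apply span_cert
    rw [hG, (hmem j).mp (Ideal.subset_span hj), map_zero]
  choose! d hd using c1
  have c2 : ∀ i : Fin n, ∃ c : MvPolynomial (Fin n) R → MvPolynomial (Fin n) R,
      ∑ k ∈ s, c k * k = G (h i) - MvPolynomial.X i := by
    intro i
    apply span_cert
    rw [map_sub, hG, hh, sub_self]
  choose c hc using c2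
  obtain ⟨e, he⟩ := span_cert (G p) (by rw [hG, ha])
  -- the finite set of polynomials whose coefficients we adjoin
  let Tset : Finset (MvPolynomial (Fin n) R) :=
    s ∪ Finset.univ.image g ∪ Finset.univ.image h ∪ {p} ∪
      (s ×ˢ s).image (fun jk => d jk.1 jk.2) ∪
      (Finset.univ ×ˢ s).image (fun ik : Fin n × MvPolynomial (Fin n) R => c ik.1 ik.2) ∪ s.image e
  let coefs : Set R := ⋃ q ∈ Tset, (q.coeffs : Set R)
  have hfin : coefs.Finite := Set.Finite.biUnion Tset.finite_toSet (fun q _ => Finset.finite_toSet _)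
  let R₀ : Subalgebra ℤ R := Algebra.adjoin ℤ coefs
  have hft : Algebra.FiniteType ℤ R₀ :=
    (Subalgebra.fg_iff_finiteType _).mp (Subalgebra.fg_def.mpr ⟨coefs, hfin, rfl⟩)
  have hnoeth : IsNoetherianRing R₀ := Algebra.FiniteType.isNoetherianRing ℤ R₀
  let ι : MvPolynomial (Fin n) R₀ →+* MvPolynomial (Fin n) R := MvPolynomial.map R₀.val.toRingHom
  have hιinj : Function.Injective ι := MvPolynomial.map_injective _ Subtype.val_injective
  have hrange : ∀ q ∈ Tset, q ∈ Set.range ι := by
    intro q hq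
    rw [MvPolynomial.mem_range_map_iff_coeffs_subset]
    intro r hr
    have : r ∈ coefs := Set.mem_biUnion hq hr
    exact ⟨⟨r, Algebra.subset_adjoin this⟩, rfl⟩
  let L : MvPolynomial (Fin n) R → MvPolynomial (Fin n) R₀ := fun q =>
    if hq : q ∈ Set.range ι then hq.choose else 0
  have hL : ∀ q ∈ Tset, ι (L q) = q := by
    intro q hq
    have := hrange q hq
    simp only [L, dif_pos this]
    exact this.choose_spec
  -- membership facts
  have hsT : ∀ k ∈ s, k ∈ Tset := fun k hk => by simp [Tset, hk]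
  have hgT : ∀ i, g i ∈ Tset := fun i => by simp [Tset]
  have hhT : ∀ i, h i ∈ Tset := fun i => by simp [Tset]
  have hpT : p ∈ Tset := by simp [Tset]
  have hdT : ∀ j ∈ s, ∀ k ∈ s, d j k ∈ Tset := fun j hj k hk => by
    have : d j k ∈ (s ×ˢ s).image (fun jk => d jk.1 jk.2) :=
      Finset.mem_image.mpr ⟨(j, k), Finset.mem_product.mpr ⟨hj, hk⟩, rfl⟩
    simp only [Tset, Finset.mem_union]
    tauto
  have hcT : ∀ i, ∀ k ∈ s, c i k ∈ Tset := fun i k hk => by
    have : c i k ∈ (Finset.univ ×ˢ s).image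
        (fun ik : Fin n × MvPolynomial (Fin n) R => c ik.1 ik.2) :=
      Finset.mem_image.mpr ⟨(i, k), Finset.mem_product.mpr ⟨Finset.mem_univ _, hk⟩, rfl⟩
    simp only [Tset, Finset.mem_union]
    tauto
  have heT : ∀ k ∈ s, e k ∈ Tset := fun k hk => by
    have : e k ∈ s.image e := Finset.mem_image_of_mem _ hk
    simp only [Tset, Finset.mem_union]
    tauto
  let I₀ : Ideal (MvPolynomial (Fin n) R₀) :=
    Ideal.span ((s.image L : Finset (MvPolynomial (Fin n) R₀)) : Set (MvPolynomial (Fin n) R₀))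
  have lift_sum : ∀ (x₀ : MvPolynomial (Fin n) R₀)
      (coef : MvPolynomial (Fin n) R → MvPolynomial (Fin n) R),
      (∀ k ∈ s, coef k ∈ Tset) → ι x₀ = ∑ k ∈ s, coef k * k → x₀ ∈ I₀ := by
    intro x₀ coef hcoef hx
    have : x₀ = ∑ k ∈ s, L (coef k) * L k := by
      apply hιinj
      rw [hx, map_sum]
      refine Finset.sum_congr rfl (fun k hk => ?_)
      rw [map_mul, hL _ (hcoef k hk), hL _ (hsT k hk)]
    rw [this]
    refine Ideal.sum_mem _ (fun k hk => Ideal.mul_mem_left _ _ (Ideal.subset_span ?_))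
    exact Finset.mem_coe.mpr (Finset.mem_image_of_mem _ hk)
  let G₀ : MvPolynomial (Fin n) R₀ →ₐ[R₀] MvPolynomial (Fin n) R₀ :=
    MvPolynomial.aeval (fun i => L (g i))
  have hιG : ∀ q, ι (G₀ q) = G (ι q) := by
    have : ι.comp G₀.toRingHom = G.toRingHom.comp ι := by
      apply MvPolynomial.ringHom_ext
      · intro r
        simp [ι, G₀, G]
      · intro i
        simp [ι, G₀, G, hL _ (hgT i)]
        exact hL _ (hgT i)
    intro q
    exact RingHom.congr_fun this q
  have hI₀ : I₀ ≤ I₀.comap G₀.toRingHom := by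
    rw [Ideal.span_le]
    intro x hx
    obtain ⟨j, hj, rfl⟩ := Finset.mem_image.mp (Finset.mem_coe.mp hx)
    show G₀ (L j) ∈ I₀
    apply lift_sum _ (d j) (fun k hk => hdT j hj k hk)
    rw [hιG, hL _ (hsT j hj), hd j hj]
  let α₀ : (MvPolynomial (Fin n) R₀ ⧸ I₀) →+* (MvPolynomial (Fin n) R₀ ⧸ I₀) :=
    Ideal.quotientMap I₀ G₀.toRingHom hI₀
  have hα₀ : ∀ q, α₀ (Ideal.Quotient.mk I₀ q) = Ideal.Quotient.mk I₀ (G₀ q) := fun q =>
    Ideal.quotientMap_mk
  have hsurj : Function.Surjective α₀ := by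
    intro y
    obtain ⟨q, rfl⟩ := Ideal.Quotient.mk_surjective y
    show Ideal.Quotient.mk I₀ q ∈ α₀.range
    induction q using MvPolynomial.induction_on with
    | C r => exact ⟨Ideal.Quotient.mk I₀ (MvPolynomial.C r), by rw [hα₀]; simp [G₀]⟩
    | add p q hp hq => rw [map_add]; exact add_mem hp hq
    | mul_X q i hq =>
      rw [map_mul]
      refine mul_mem hq ⟨Ideal.Quotient.mk I₀ (L (h i)), ?_⟩
      rw [hα₀, Ideal.Quotient.eq]
      apply lift_sum _ (c i) (fun k hk => hcT i k hk)
      rw [map_sub, hιG, hL _ (hhT i), hc i]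
      simp [ι]
  have hN : IsNoetherianRing (MvPolynomial (Fin n) R₀ ⧸ I₀) := inferInstance
  have hinj := ringEnd_inj (S := MvPolynomial (Fin n) R₀ ⧸ I₀) α₀ hsurj
  have hp0 : Ideal.Quotient.mk I₀ (L p) = 0 := by
    apply hinj
    rw [hα₀, map_zero, Ideal.Quotient.eq_zero_iff_mem]
    apply lift_sum _ e heT
    rw [hιG, hL _ hpT, he]
  rw [Ideal.Quotient.eq_zero_iff_mem] at hp0
  -- transfer back
  have hmap : Ideal.map ι I₀ ≤ Ideal.span (s : Set (MvPolynomial (Fin n) R)) := by
    rw [Ideal.map_span, Ideal.span_le]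
    rintro x ⟨y, hy, rfl⟩
    obtain ⟨k, hk, rfl⟩ := Finset.mem_image.mp (Finset.mem_coe.mp hy)
    rw [hL _ (hsT k hk)]
    exact Ideal.subset_span hk
  have := hmap (Ideal.mem_map_of_mem ι hp0)
  rw [hL _ hpT] at this
  exact (hmem p).mp this

end Groth.Agent.S13096
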