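import Groth.Statements.S13097
import Groth.Agent.Lib.helper11.FrobUH
import Groth.Agent.Lib.helper11.UnivHomeo

set_option autoImplicit false
universe u
open FlatMor

namespace Groth.Agent.S13097

section
open CategoryTheory AlgebraicGeometry

theorem dense_of_schDense {X : Scheme.{u}} (W : X.Opens) (h : CInt.IsSchematicallyDense W) :
    Dense (W : Set X) := by
  rw [dense_iff_inter_open]
  intro V hV hne
  by_contra hcon
  rw [Set.not_nonempty_iff_eq_empty] at hcon
  let V' : X.Opens := ⟨V, hV⟩
  have hbot : V' ⊓ W = ⊥ := by
    ext x
    simp only [TopologicalSpace.Opens.coe_inf, TopologicalSpace.Opens.coe_bot]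
    exact Set.ext_iff.mp hcon x
  have hinj := h V'
  haveI : Nonempty V' := hne.to_subtype
  haveI : Nontrivial Γ(X, V') := inferInstance
  haveI : Subsingleton Γ(X, V' ⊓ W) := by
    rw [hbot]
    infer_instance
  obtain ⟨a, b, hab⟩ := exists_pair_ne Γ(X, V')
  exact hab (hinj (Subsingleton.elim _ _))
end

open CategoryTheory AlgebraicGeometry in
/-- Let f : X → S be a quasi-compact, separated morphism of schemes with a section e : S → X (e followed
by f is the identity of S), and U ⊆ S an open subscheme such that f⁻¹(U) is schematically dense in X
(for every open V of X, restriction of functions from V to V ∩ f⁻¹(U) is injective) and such that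
the restriction f⁻¹(U) → U of f is a homeomorphism of underlying spaces. Then f is universally a
homeomorphism (every base change of f is a homeomorphism), and f is finite as soon as it is locally
of finite type. (The published statement also lists surjectivity of f, which a section forces, and
offers as an alternative to the section the hypothesis that f be flat, still with f⁻¹(U) → U only a
homeomorphism; that flat alternative fails: the spectrum of a separable quadratic field extension
over the spectrum of the ground field, with U the whole base, is flat, surjective, quasi-compact,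
separated and a homeomorphism over U, yet not universally injective. Only the case of a section,
whose published proof is complete, is stated here.) -/
theorem result {X S : Scheme.{u}} (f : X ⟶ S)
    [QuasiCompact f] [IsSeparated f] (U : S.Opens)
    (hdense : CInt.IsSchematicallyDense (f ⁻¹ᵁ U)) (hU : IsHomeomorph (f ∣_ U).base)
    (e : S ⟶ X) (he : e ≫ f = 𝟙 S) :
    FlatMor.IsUnivHomeo f ∧ (LocallyOfFiniteType f → IsFinite f) := by
  haveI : IsClosedImmersion (e ≫ f) := by rw [he]; infer_instance
  haveI : IsClosedImmersion e := IsClosedImmersion.of_comp e f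
  have hfe : ∀ s : S, f (e s) = s := fun s => by
    rw [← Scheme.Hom.comp_apply, he]
    rfl
  have hsub : ((f ⁻¹ᵁ U : X.Opens) : Set X) ⊆ Set.range e := by
    intro x hx
    have hx' : f x ∈ U := hx
    have h2 : e (f x) ∈ f ⁻¹ᵁ U := by
      change f (e (f x)) ∈ U
      rw [hfe]
      exact hx'
    have hinj := hU.injective
    have : (⟨e (f x), h2⟩ : (f ⁻¹ᵁ U : X.Opens)) = ⟨x, hx⟩ := by
      apply hinj
      apply Subtype.ext
      change ((f ∣_ U) ⟨e (f x), h2⟩).1 = ((f ∣_ U) ⟨x, hx⟩).1
      rw [morphismRestrict_base_coe, morphismRestrict_base_coe]
      exact hfe (f x)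
    exact ⟨f x, congrArg Subtype.val this⟩
  have hsurj : Function.Surjective e := by
    rw [← Set.range_eq_univ]
    have hcl : IsClosed (Set.range e) := e.isClosedEmbedding.isClosed_range
    have hd : Dense (Set.range e) := (dense_of_schDense _ hdense).mono hsub
    rw [← hcl.closure_eq, hd.closure_eq]
  haveI : Surjective e := ⟨hsurj⟩
  have huh : FlatMor.IsUnivHomeo f := by
    rw [Groth.Agent.Lib.helper11.UnivHomeo.isUnivHomeo_iff]
    haveI : UniversallyClosed (e ≫ f) := by rw [he]; infer_instance
    haveI : UniversallyInjective (e ≫ f) := by rw [he]; infer_instance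
    refine ⟨UniversallyClosed.of_comp_surjective e f,
      Groth.Agent.Lib.helper11.UnivHomeo.univInj_of_comp_surj e f, ⟨fun s => ⟨e s, hfe s⟩⟩⟩
  refine ⟨huh, fun hlft => ?_⟩
  haveI := hlft
  haveI := Groth.Agent.Lib.helper11.FrobUH.isIntegralHom_of_uh f huh
  exact (IsFinite.iff_isIntegralHom_and_locallyOfFiniteType f).mpr ⟨inferInstance, inferInstance⟩

end Groth.Agent.S13097
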