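import Groth.Statements.S13098
import Mathlib

set_option autoImplicit false
universe u v
open Lie3Mod

namespace Groth.Agent.S13098

/-- Let R be a commutative ring, M an R-module with a basis x = bs 0, y = bs 1, z = bs 2 indexed by Fin
3, and B an R-bilinear alternating map on M (B m m = 0) with B x y = a x + b y + c z, B x z = d x +
e y + f z and B y z = g x + h y + i z. Then B satisfies the Jacobi identity for all triples if and
only if the three Jacobi polynomials vanish: ah + di − fg − bg = 0, ie + bd − fh − ae = 0 and hc +
dc − af − bi = 0. (This is the statement that Lie brackets on a based free module of rank 3 are the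
points of the closed subscheme of affine 9-space defined by these three equations.) -/
theorem result (R : Type u) [CommRing R] (M : Type v) [AddCommGroup M] [Module R M]
    (bs : Module.Basis (Fin 3) R M) (B : M →ₗ[R] M →ₗ[R] M) (halt : ∀ m : M, B m m = 0)
    (a b c d e f g h i : R)
    (hxy : B (bs 0) (bs 1) = a • bs 0 + b • bs 1 + c • bs 2)
    (hxz : B (bs 0) (bs 2) = d • bs 0 + e • bs 1 + f • bs 2)
    (hyz : B (bs 1) (bs 2) = g • bs 0 + h • bs 1 + i • bs 2) :
    (∀ u v w : M, B u (B v w) + B v (B w u) + B w (B u v) = 0) ↔
      (a * h + d * i - f * g - b * g = 0 ∧ i * e + b * d - f * h - a * e = 0 ∧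
        h * c + d * c - a * f - b * i = 0) := by
  have hanti : ∀ u v : M, B u v = - B v u := by
    intro u v
    have := halt (u + v)
    simp only [map_add, LinearMap.add_apply, halt, zero_add, add_zero] at this
    exact eq_neg_of_add_eq_zero_right this
  have hyx : B (bs 1) (bs 0) = -(a • bs 0 + b • bs 1 + c • bs 2) := by rw [hanti, hxy]
  have hzx : B (bs 2) (bs 0) = -(d • bs 0 + e • bs 1 + f • bs 2) := by rw [hanti, hxz]
  have hzy : B (bs 2) (bs 1) = -(g • bs 0 + h • bs 1 + i • bs 2) := by rw [hanti, hyz]
  have hxx := halt (bs 0)
  have hyy := halt (bs 1)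
  have hzz := halt (bs 2)
  -- reduction to basis triples
  have hred : (∀ i j k, B (bs i) (B (bs j) (bs k)) + B (bs j) (B (bs k) (bs i)) +
      B (bs k) (B (bs i) (bs j)) = 0) →
      ∀ u v w : M, B u (B v w) + B v (B w u) + B w (B u v) = 0 := by
    intro H
    have H1 : ∀ u j k, B u (B (bs j) (bs k)) + B (bs j) (B (bs k) u) +
        B (bs k) (B u (bs j)) = 0 := by
      intro u j k
      have : (B.flip (B (bs j) (bs k)) + (B (bs j)).comp (B (bs k)) +
          (B (bs k)).comp (B.flip (bs j))) = 0 := by
        apply bs.ext
        intro i
        simpa using H i j k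
      simpa using LinearMap.congr_fun this u
    have H2 : ∀ u v k, B u (B v (bs k)) + B v (B (bs k) u) +
        B (bs k) (B u v) = 0 := by
      intro u v k
      have : ((B u).comp (B.flip (bs k)) + B.flip (B (bs k) u) +
          (B (bs k)).comp (B u)) = 0 := by
        apply bs.ext
        intro j
        simpa using H1 u j k
      simpa using LinearMap.congr_fun this v
    intro u v w
    have : ((B u).comp (B v) + (B v).comp (B.flip u) + B.flip (B u v)) = 0 := by
      apply bs.ext
      intro k
      simpa using H2 u v k
    simpa using LinearMap.congr_fun this w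
  constructor
  · intro H
    have H0 := H (bs 0) (bs 1) (bs 2)
    have key : ∀ l, bs.repr (B (bs 0) (B (bs 1) (bs 2)) + B (bs 1) (B (bs 2) (bs 0)) +
        B (bs 2) (B (bs 0) (bs 1))) l = 0 := by
      intro l; rw [H0]; simp
    have k0 := key 0
    have k1 := key 1
    have k2 := key 2
    simp [hxy, hxz, hyz, hyx, hzx, hzy, hxx, hyy, hzz] at k0 k1 k2
    refine ⟨?_, ?_, ?_⟩
    · linear_combination k0
    · linear_combination k1
    · linear_combination k2
  · rintro ⟨h1, h2, h3⟩
    apply hred
    intro i' j' k'
    apply bs.repr.injective
    ext l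
    fin_cases i' <;> fin_cases j' <;> fin_cases k' <;> fin_cases l <;>
    simp [hxy, hxz, hyz, hyx, hzx, hzy, hxx, hyy, hzz] <;>
    first
      | ring1
      | linear_combination h1
      | linear_combination -h1
      | linear_combination h2
      | linear_combination -h2
      | linear_combination h3
      | linear_combination -h3

end Groth.Agent.S13098
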