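import Groth.Statements.S13099
import Mathlib

set_option autoImplicit false
universe u
open GrpSch

namespace Groth.Agent.S13099aux

open MvPolynomial in
/-- the monomial `Y^i Z^j` -/
noncomputable def mono (i j : ℕ) : Fin 2 →₀ ℕ := Finsupp.single 0 i + Finsupp.single 1 j

lemma mono_eq_iff (i j k l : ℕ) : mono k l = mono i j ↔ k = i ∧ l = j := by
  constructor
  · intro h
    have h0 := DFunLike.congr_fun h 0
    have h1 := DFunLike.congr_fun h 1
    simp [mono] at h0 h1
    exact ⟨h0, h1⟩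
  · rintro ⟨rfl, rfl⟩; rfl

lemma single0_eq (n : ℕ) : (Finsupp.single 0 n : Fin 2 →₀ ℕ) = mono n 0 := by simp [mono]
lemma single1_eq (n : ℕ) : (Finsupp.single 1 n : Fin 2 →₀ ℕ) = mono 0 n := by simp [mono]

variable {A : Type u} [CommRing A]

open MvPolynomial in
lemma coeff_add_pow (i j n : ℕ) :
    coeff (mono i j) ((X 0 + X 1 : MvPolynomial (Fin 2) A) ^ n) =
      if i + j = n then (n.choose i : A) else 0 := by
  classical
  rw [add_pow, coeff_sum]
  have hterm : ∀ k ∈ Finset.range (n + 1),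
      coeff (mono i j) ((X 0 : MvPolynomial (Fin 2) A) ^ k * X 1 ^ (n - k) * (n.choose k : MvPolynomial (Fin 2) A)) =
        if k = i ∧ n - k = j then (n.choose k : A) else 0 := by
    intro k _
    have e1 : ((X 0 : MvPolynomial (Fin 2) A) ^ k * X 1 ^ (n - k) * (n.choose k : MvPolynomial (Fin 2) A)) =
        monomial (mono k (n - k)) (n.choose k : A) := by
      rw [X_pow_eq_monomial, X_pow_eq_monomial, monomial_mul, one_mul,
        show ((n.choose k : ℕ) : MvPolynomial (Fin 2) A) = C (n.choose k : A) by simp,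
        mul_comm, C_mul_monomial, mul_one]
      rfl
    rw [e1, coeff_monomial]
    simp only [mono_eq_iff]
  rw [Finset.sum_congr rfl hterm]
  by_cases h : i + j = n
  · rw [if_pos h, Finset.sum_eq_single i]
    · rw [if_pos ⟨rfl, by omega⟩]
    · intro k _ hk
      rw [if_neg (fun h' => hk h'.1)]
    · intro hi
      exact absurd (Finset.mem_range.mpr (by omega)) hi
  · rw [if_neg h]
    apply Finset.sum_eq_zero
    intro k hk
    rw [Finset.mem_range] at hk
    rw [if_neg]
    rintro ⟨rfl, h2⟩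
    omega

open MvPolynomial in
lemma coeff_X0_pow (i j n : ℕ) :
    coeff (mono i j) ((X 0 : MvPolynomial (Fin 2) A) ^ n) = if n = i ∧ j = 0 then 1 else 0 := by
  classical
  rw [coeff_X_pow, single0_eq]
  simp only [mono_eq_iff, eq_comm (a := (0:ℕ))]

open MvPolynomial in
lemma coeff_X1_pow (i j n : ℕ) :
    coeff (mono i j) ((X 1 : MvPolynomial (Fin 2) A) ^ n) = if i = 0 ∧ n = j then 1 else 0 := by
  classical
  rw [coeff_X_pow, single1_eq]
  simp only [mono_eq_iff, eq_comm (a := (0:ℕ))]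

open MvPolynomial in
lemma coeff_of_mem (N i j : ℕ) (hi : i < N) (hj : j < N) (f : MvPolynomial (Fin 2) A)
    (hf : f ∈ Ideal.span ({X 0 ^ N, X 1 ^ N} : Set (MvPolynomial (Fin 2) A))) :
    coeff (mono i j) f = 0 := by
  classical
  rw [Ideal.mem_span_pair] at hf
  obtain ⟨a, b, rfl⟩ := hf
  rw [coeff_add, X_pow_eq_monomial, X_pow_eq_monomial, coeff_mul_monomial', coeff_mul_monomial',
    if_neg, if_neg, add_zero]
  · intro h
    have := h 1
    simp [mono] at this
    omega
  · intro h
    have := h 0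
    simp [mono] at this
    omega


open MvPolynomial in
/-- the coefficient of `Y^i Z^j` (`i, j ≥ 1`) in `q(Y+Z) - q(Y) - q(Z)` -/
lemma coeff_D (N : ℕ) (q : Polynomial A) (hq : q.natDegree < N) (i j : ℕ) (hi : 1 ≤ i) (hj : 1 ≤ j)
    (hij : i + j < N) :
    coeff (mono i j) (Polynomial.aeval (X 0 + X 1 : MvPolynomial (Fin 2) A) q -
      Polynomial.aeval (X 0 : MvPolynomial (Fin 2) A) q -
      Polynomial.aeval (X 1 : MvPolynomial (Fin 2) A) q) = q.coeff (i + j) * ((i + j).choose i : A) := by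
  classical
  rw [Polynomial.aeval_eq_sum_range' hq, Polynomial.aeval_eq_sum_range' hq,
    Polynomial.aeval_eq_sum_range' hq, coeff_sub, coeff_sub, coeff_sum, coeff_sum, coeff_sum]
  simp only [coeff_smul, coeff_add_pow, coeff_X0_pow, coeff_X1_pow, smul_eq_mul]
  have h1 : ∀ n ∈ Finset.range N, (q.coeff n * if n = i ∧ j = 0 then (1:A) else 0) = 0 := by
    intro n _
    rw [if_neg (by omega), mul_zero]
  have h2 : ∀ n ∈ Finset.range N, (q.coeff n * if i = 0 ∧ n = j then (1:A) else 0) = 0 := by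
    intro n _
    rw [if_neg (by omega), mul_zero]
  rw [Finset.sum_eq_zero h1, Finset.sum_eq_zero h2, sub_zero, sub_zero,
    Finset.sum_eq_single (i + j)]
  · rw [if_pos rfl]
  · intro n _ hn
    rw [if_neg (Ne.symm hn), mul_zero]
  · intro h
    exact absurd (Finset.mem_range.mpr hij) h

open MvPolynomial in
lemma coeff_D_zero (N : ℕ) (q : Polynomial A) (hq : q.natDegree < N) :
    coeff (mono 0 0) (Polynomial.aeval (X 0 + X 1 : MvPolynomial (Fin 2) A) q -
      Polynomial.aeval (X 0 : MvPolynomial (Fin 2) A) q -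
      Polynomial.aeval (X 1 : MvPolynomial (Fin 2) A) q) = - q.coeff 0 := by
  classical
  have hN : 0 < N := by omega
  rw [Polynomial.aeval_eq_sum_range' hq, Polynomial.aeval_eq_sum_range' hq,
    Polynomial.aeval_eq_sum_range' hq, coeff_sub, coeff_sub, coeff_sum, coeff_sum, coeff_sum]
  simp only [coeff_smul, coeff_add_pow, coeff_X0_pow, coeff_X1_pow, smul_eq_mul]
  have h0 : ∀ (g : ℕ → A), (∀ n, n ≠ 0 → g n = 0) → ∑ n ∈ Finset.range N, q.coeff n * g n = q.coeff 0 * g 0 := by
    intro g hg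
    rw [Finset.sum_eq_single 0]
    · intro n _ hn
      rw [hg n hn, mul_zero]
    · intro h
      exact absurd (Finset.mem_range.mpr hN) h
  rw [h0 (fun n => if 0 + 0 = n then (n.choose 0 : A) else 0) (fun n hn => if_neg (by omega)),
    h0 (fun n => if n = 0 ∧ True then (1 : A) else 0) (fun n hn => if_neg (by simp [hn])),
    h0 (fun n => if True ∧ n = 0 then (1 : A) else 0) (fun n hn => if_neg (by simp [hn]))]
  simp

/-- non-multiples of `p` are non-zero-divisors in characteristic `p` -/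
lemma eq_zero_of_mul_natCast (p : ℕ) [Fact p.Prime] [CharP A p] (t : ℕ) (ht : ¬ p ∣ t) (c : A)
    (h : c * (t : A) = 0) : c = 0 := by
  have hp : p.Prime := Fact.out
  have hcop : Nat.Coprime t p := (Nat.Coprime.symm ((Nat.Prime.coprime_iff_not_dvd hp).mpr ht))
  have hb := Nat.gcd_eq_gcd_ab t p
  rw [hcop] at hb
  have hb' : (1 : A) = (t : A) * ((Nat.gcdA t p : ℤ) : A) + (p : A) * ((Nat.gcdB t p : ℤ) : A) := by
    have := congrArg (fun z : ℤ => (z : A)) hb
    simpa using this
  rw [CharP.cast_eq_zero A p, zero_mul, add_zero] at hb'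
  calc c = c * 1 := (mul_one c).symm
    _ = c * (t : A) * ((Nat.gcdA t p : ℤ) : A) := by rw [hb', mul_assoc]
    _ = 0 := by rw [h, zero_mul]

/-- the combinatorial input: for `2 ≤ n < p²`, `n ≠ p`, some `C(n,i)` with `0 < i < n` is prime to `p` -/
lemma exists_choose (p : ℕ) [Fact p.Prime] (n : ℕ) (h2 : 2 ≤ n) (hn : n < p ^ 2) (hnp : n ≠ p) :
    ∃ i, 1 ≤ i ∧ i < n ∧ ¬ p ∣ n.choose i := by
  have hp : p.Prime := Fact.out
  have hp2 := hp.two_le
  by_cases hlt : n < p
  · refine ⟨1, le_rfl, by omega, ?_⟩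
    rw [Nat.choose_one_right]
    intro hd
    exact absurd (Nat.le_of_dvd (by omega) hd) (by omega)
  · rw [not_lt] at hlt
    have hdiv : n / p < p := by
      rw [Nat.div_lt_iff_lt_mul hp.pos]
      calc n < p ^ 2 := hn
        _ = p * p := sq p
    have hdiv1 : 1 ≤ n / p := by
      rw [Nat.le_div_iff_mul_le hp.pos]; omega
    have hmod : n % p < p := Nat.mod_lt _ hp.pos
    have hdm := Nat.div_add_mod n p
    by_cases hb : n % p = 0
    · -- n = p * a, a ≥ 2
      have ha2 : 2 ≤ n / p := by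
        by_contra hcon
        have : n / p = 1 := by omega
        rw [this, hb] at hdm
        omega
      refine ⟨p, hp.one_le, by nlinarith, ?_⟩
      intro hd
      have hl := Choose.choose_modEq_choose_mod_mul_choose_div_nat (n := n) (k := p) (p := p)
      rw [hb, Nat.mod_self, Nat.div_self hp.pos, Nat.choose_one_right, Nat.choose_self, one_mul] at hl
      have : p ∣ n / p := by
        rw [Nat.dvd_iff_mod_eq_zero] at hd ⊢
        rw [← hl]
        exact hd
      exact absurd (Nat.le_of_dvd (by omega) this) (by omega)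
    · refine ⟨n % p, by omega, by nlinarith, ?_⟩
      intro hd
      have hl := Choose.choose_modEq_choose_mod_mul_choose_div_nat (n := n) (k := n % p) (p := p)
      rw [Nat.mod_mod, Nat.choose_self, Nat.div_eq_of_lt hmod, Nat.choose_zero_right, one_mul] at hl
      have : p ∣ 1 := by
        rw [Nat.dvd_iff_mod_eq_zero] at hd ⊢
        rw [← hl]
        exact hd
      exact absurd (Nat.le_of_dvd (by omega) this) (by omega)


open MvPolynomial in
theorem part1 (p : ℕ) [Fact p.Prime] [CharP A p] (q : Polynomial A) (hq : q.natDegree < p ^ 2) :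
    (Polynomial.aeval (X 0 + X 1 : MvPolynomial (Fin 2) A) q -
            Polynomial.aeval (X 0 : MvPolynomial (Fin 2) A) q -
            Polynomial.aeval (X 1 : MvPolynomial (Fin 2) A) q ∈
          Ideal.span ({X 0 ^ p ^ 2, X 1 ^ p ^ 2} : Set (MvPolynomial (Fin 2) A)) ↔
        ∃ a₁ ap : A, q = Polynomial.C a₁ * Polynomial.X + Polynomial.C ap * Polynomial.X ^ p) := by
  have hp : p.Prime := Fact.out
  have hp2 := hp.two_le
  have hN : 0 < p ^ 2 := by positivity
  constructor
  · intro hD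
    refine ⟨q.coeff 1, q.coeff p, ?_⟩
    have hc0 : q.coeff 0 = 0 := by
      have := coeff_of_mem (p ^ 2) 0 0 hN hN _ hD
      rw [coeff_D_zero _ q hq] at this
      simpa using this
    have hcn : ∀ n, 2 ≤ n → n ≠ p → q.coeff n = 0 := by
      intro n h2 hnp
      by_cases hn : n < p ^ 2
      · obtain ⟨i, hi1, hin, hpi⟩ := exists_choose p n h2 hn hnp
        have := coeff_of_mem (p ^ 2) i (n - i) (by omega) (by omega) _ hD
        rw [coeff_D _ q hq i (n - i) hi1 (by omega) (by omega)] at this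
        have e : i + (n - i) = n := by omega
        rw [e] at this
        exact eq_zero_of_mul_natCast p _ hpi _ this
      · exact Polynomial.coeff_eq_zero_of_natDegree_lt (by omega)
    ext n
    simp only [Polynomial.coeff_add, Polynomial.coeff_C_mul, Polynomial.coeff_X, Polynomial.coeff_X_pow]
    rcases Nat.lt_or_ge n 2 with h | h
    · interval_cases n
      · rw [hc0, if_neg (by omega), if_neg (by omega)]; simp
      · rw [if_pos rfl, if_neg (by omega)]; simp
    · by_cases hnp : n = p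
      · subst hnp
        rw [if_neg (by omega), if_pos rfl]; simp
      · rw [hcn n h hnp, if_neg (by omega), if_neg hnp]; simp
  · rintro ⟨a₁, ap, rfl⟩
    have : (Polynomial.aeval (X 0 + X 1 : MvPolynomial (Fin 2) A)
          (Polynomial.C a₁ * Polynomial.X + Polynomial.C ap * Polynomial.X ^ p) -
        Polynomial.aeval (X 0 : MvPolynomial (Fin 2) A)
          (Polynomial.C a₁ * Polynomial.X + Polynomial.C ap * Polynomial.X ^ p) -
        Polynomial.aeval (X 1 : MvPolynomial (Fin 2) A)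
          (Polynomial.C a₁ * Polynomial.X + Polynomial.C ap * Polynomial.X ^ p)) = 0 := by
      simp only [map_add, map_mul, Polynomial.aeval_C, Polynomial.aeval_X, map_pow]
      rw [add_pow_char]
      ring
    rw [this]
    exact zero_mem _


section part2
open Polynomial

lemma phi_mk (N : ℕ) (g : A[X])
    (φ : (A[X] ⧸ Ideal.span ({X ^ N} : Set A[X])) →ₐ[A] (A[X] ⧸ Ideal.span ({X ^ N} : Set A[X])))
    (hφ : φ (Ideal.Quotient.mk _ X) = Ideal.Quotient.mk _ g) (f : A[X]) :
    φ (Ideal.Quotient.mk _ f) = Ideal.Quotient.mk _ (f.comp g) := by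
  have h1 : ∀ (x f : A[X]), Ideal.Quotient.mk (Ideal.span ({X ^ N} : Set A[X])) (f.comp x) =
      aeval (Ideal.Quotient.mk (Ideal.span ({X ^ N} : Set A[X])) x) f := by
    intro x f
    have := Polynomial.aeval_algHom_apply (Ideal.Quotient.mkₐ A (Ideal.span ({X ^ N} : Set A[X]))) x f
    rw [Polynomial.comp_eq_aeval]
    exact this.symm
  have h2 := h1 X f
  rw [Polynomial.comp_X] at h2
  rw [h2, ← Polynomial.aeval_algHom_apply, hφ, h1]


lemma eq_id_of_fix (N : ℕ)
    (φ : (A[X] ⧸ Ideal.span ({X ^ N} : Set A[X])) →ₐ[A] (A[X] ⧸ Ideal.span ({X ^ N} : Set A[X])))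
    (h : φ (Ideal.Quotient.mk _ X) = Ideal.Quotient.mk _ X) : ∀ b, φ b = b := by
  intro b
  obtain ⟨f, rfl⟩ := Ideal.Quotient.mk_surjective b
  rw [phi_mk N X φ h f, Polynomial.comp_X]

lemma exists_endo (N : ℕ) (g : A[X]) (hg : X ∣ g) :
    ∃ ψ : (A[X] ⧸ Ideal.span ({X ^ N} : Set A[X])) →ₐ[A] (A[X] ⧸ Ideal.span ({X ^ N} : Set A[X])),
      ψ (Ideal.Quotient.mk _ X) = Ideal.Quotient.mk _ g := by
  refine ⟨Ideal.Quotient.liftₐ _ (aeval (Ideal.Quotient.mk (Ideal.span ({X ^ N} : Set A[X])) g)) ?_, ?_⟩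
  · intro a ha
    rw [Ideal.mem_span_singleton] at ha
    obtain ⟨c, rfl⟩ := ha
    rw [map_mul, map_pow, aeval_X, ← map_pow]
    obtain ⟨d, rfl⟩ := hg
    have hz : Ideal.Quotient.mk (Ideal.span ({X ^ N} : Set A[X])) (X ^ N) = 0 :=
      Ideal.Quotient.eq_zero_iff_mem.mpr (Ideal.subset_span rfl)
    rw [mul_pow, map_mul (Ideal.Quotient.mk _) (X ^ N), hz, zero_mul, zero_mul]
  · rw [Ideal.Quotient.liftₐ_apply, Ideal.Quotient.lift_mk]
    simp

theorem part2 (p : ℕ) [Fact p.Prime] [CharP A p] (a₁ ap : A)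
    (φ : (A[X] ⧸ Ideal.span ({X ^ p ^ 2} : Set A[X])) →ₐ[A] (A[X] ⧸ Ideal.span ({X ^ p ^ 2} : Set A[X])))
    (hφ : φ (Ideal.Quotient.mk (Ideal.span ({X ^ p ^ 2} : Set A[X])) X) =
          Ideal.Quotient.mk (Ideal.span ({X ^ p ^ 2} : Set A[X])) (C a₁ * X + C ap * X ^ p)) :
    Function.Bijective φ ↔ IsUnit a₁ := by
  have hp : p.Prime := Fact.out
  have hp2 := hp.two_le
  have hN : 2 ≤ p ^ 2 := by nlinarith
  constructor
  · intro hbij
    obtain ⟨b, hb⟩ := hbij.2 (Ideal.Quotient.mk _ X)
    obtain ⟨G, rfl⟩ := Ideal.Quotient.mk_surjective b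
    rw [phi_mk _ _ φ hφ G, Ideal.Quotient.eq, Ideal.mem_span_singleton] at hb
    obtain ⟨s, hs⟩ := hb
    have h1 : G.comp (C a₁ * X + C ap * X ^ p) = X ^ p ^ 2 * s + X := by rw [← hs]; ring
    have h2 := congrArg (fun f => (derivative f).eval 0) h1
    have e1 : p ^ 2 - 1 ≠ 0 := by omega
    have e2 : p - 1 ≠ 0 := by omega
    have e3 : p ^ 2 ≠ 0 := by omega
    simp only [derivative_comp, derivative_add, derivative_mul, derivative_C, derivative_X,
      derivative_X_pow, eval_mul, eval_add, eval_comp, eval_C, eval_X, eval_pow, zero_mul, zero_add,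
      mul_one, zero_pow e1, zero_pow e2, zero_pow e3, zero_pow hp.ne_zero, mul_zero, add_zero,
      eval_one] at h2
    exact isUnit_iff_exists_inv.mpr ⟨_, h2⟩
  · intro hu
    obtain ⟨u, hu⟩ := hu.exists_left_inv
    have hU : (C u : A[X]) * C a₁ = 1 := by rw [← C_mul, hu, C_1]
    have hU' : (C u : A[X]) ^ p * C a₁ ^ p = 1 := by rw [← mul_pow, hU, one_pow]
    obtain ⟨ψ, hψ⟩ := exists_endo (p ^ 2) (C u * X - C (ap * u ^ (p + 1)) * X ^ p)
      (Dvd.dvd.sub (Dvd.intro_left _ rfl) (Dvd.dvd.mul_left (dvd_pow_self X hp.ne_zero) _))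
    have h1 : ∀ b, φ (ψ b) = b := by
      refine eq_id_of_fix _ (φ.comp ψ) ?_
      rw [AlgHom.comp_apply, hψ, phi_mk _ _ φ hφ, Ideal.Quotient.eq, Ideal.mem_span_singleton]
      refine ⟨-(C ap * C u ^ (p + 1)) * C ap ^ p, ?_⟩
      simp only [sub_comp, mul_comp, C_comp, X_comp, pow_comp, map_mul, map_pow]
      rw [add_pow_char]
      linear_combination (X) * hU - (C u * C ap * X ^ p) * hU'
    have h2 : ∀ b, ψ (φ b) = b := by
      refine eq_id_of_fix _ (ψ.comp φ) ?_
      rw [AlgHom.comp_apply, hφ, phi_mk _ _ ψ hψ, Ideal.Quotient.eq, Ideal.mem_span_singleton]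
      refine ⟨- C ap * (C ap * C u ^ (p + 1)) ^ p, ?_⟩
      simp only [add_comp, mul_comp, C_comp, X_comp, pow_comp, map_mul, map_pow]
      rw [sub_pow_char]
      linear_combination (X - C ap * C u ^ p * X ^ p) * hU
    exact Function.bijective_iff_has_inverse.mpr ⟨ψ, h2, h1⟩

end part2

end Groth.Agent.S13099aux

namespace Groth.Agent.S13099

open Polynomial in
/-- Let p be a prime and A a commutative ring of characteristic p, and consider the infinitesimal group
scheme Spec A[X]/(X^{p²}) with the additive group law. In coordinates: (1) a polynomial q ∈ A[X] of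
degree less than p² satisfies q(Y + Z) − q(Y) − q(Z) ∈ (Y^{p²}, Z^{p²}) in A[Y, Z] (that is, X ↦ q
respects the comultiplication) if and only if q = a₁ X + a_p X^p for some a₁, a_p ∈ A; (2) an
A-algebra endomorphism of A[X]/(X^{p²}) that sends the class of X to the class of a₁ X + a_p X^p is
bijective if and only if a₁ is a unit of A. (The printed statement is that the automorphism group
scheme of this group scheme is the semidirect product of the additive group by the multiplicative
group, v acting on u by v^{p−1}u; this row records the two computations it consists of, in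
coordinates.) -/
theorem result (p : ℕ) [Fact p.Prime] (A : Type u) [CommRing A] [CharP A p] :
    (∀ q : A[X], q.natDegree < p ^ 2 →
      (Polynomial.aeval (MvPolynomial.X 0 + MvPolynomial.X 1 : MvPolynomial (Fin 2) A) q -
            Polynomial.aeval (MvPolynomial.X 0 : MvPolynomial (Fin 2) A) q -
            Polynomial.aeval (MvPolynomial.X 1 : MvPolynomial (Fin 2) A) q ∈
          Ideal.span ({MvPolynomial.X 0 ^ p ^ 2, MvPolynomial.X 1 ^ p ^ 2} : Set (MvPolynomial (Fin 2) A)) ↔
        ∃ a₁ ap : A, q = Polynomial.C a₁ * X + Polynomial.C ap * X ^ p)) ∧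
    (∀ (a₁ ap : A) (φ : (A[X] ⧸ Ideal.span ({X ^ p ^ 2} : Set A[X])) →ₐ[A] (A[X] ⧸ Ideal.span ({X ^ p ^ 2} : Set A[X]))),
      φ (Ideal.Quotient.mk (Ideal.span ({X ^ p ^ 2} : Set A[X])) X) =
          Ideal.Quotient.mk (Ideal.span ({X ^ p ^ 2} : Set A[X])) (Polynomial.C a₁ * X + Polynomial.C ap * X ^ p) →
        (Function.Bijective φ ↔ IsUnit a₁)) := by
  exact ⟨fun q hq => Groth.Agent.S13099aux.part1 p q hq,
    fun a₁ ap φ hφ => Groth.Agent.S13099aux.part2 p a₁ ap φ hφ⟩

end Groth.Agent.S13099
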