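import Groth.Statements.S13100
import Mathlib

set_option autoImplicit false
universe u
open GrpSch

namespace Groth.Agent.S13100

/-- Let k be an algebraically closed field of characteristic different from 2 and K = k((t)) the field
of Laurent series over k. Then a non-zero Laurent series f is a square in K if and only if its order
in t is even; consequently the group Kˣ/Kˣ² of non-zero elements modulo squares has exactly two
elements, represented by 1 and t. -/
theorem result (k : Type u) [Field k] [IsAlgClosed k] (h2 : (2 : k) ≠ 0)
    (f : LaurentSeries k) (hf : f ≠ 0) : IsSquare f ↔ Even f.order := by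
  classical
  constructor
  · rintro ⟨g, rfl⟩
    have hg : g ≠ 0 := by
      rintro rfl; exact hf (by simp)
    have h1 : (g * g).order = g.order + g.order := by
      apply HahnSeries.order_mul_of_ne_zero
      have := HahnSeries.leadingCoeff_ne_zero.mpr hg
      exact mul_ne_zero this this
    rw [h1]
    exact ⟨g.order, rfl⟩
  · rintro ⟨m, hm⟩
    -- the power series part
    set u : PowerSeries k := f.powerSeriesPart with hu
    have hu0 : PowerSeries.constantCoeff u ≠ 0 := by
      rw [← PowerSeries.coeff_zero_eq_constantCoeff_apply, hu, LaurentSeries.powerSeriesPart_coeff]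
      simp only [Nat.cast_zero, add_zero]
      exact fun h => hf (HahnSeries.coeff_order_eq_zero.mp h)
    obtain ⟨c, hc⟩ := IsAlgClosed.exists_pow_nat_eq (PowerSeries.constantCoeff u) (n := 2) (by norm_num)
    have hc0 : c ≠ 0 := by
      rintro rfl
      apply hu0
      rw [← hc]; simp
    -- Hensel
    have hH : HenselianRing (PowerSeries k) (Ideal.span {PowerSeries.X}) := inferInstance
    let P : Polynomial (PowerSeries k) := Polynomial.X ^ 2 - Polynomial.C u
    have hPm : P.Monic := Polynomial.monic_X_pow_sub_C u (by norm_num)
    have hev : P.eval (PowerSeries.C c) ∈ Ideal.span {(PowerSeries.X : PowerSeries k)} := by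
      rw [Ideal.mem_span_singleton, PowerSeries.X_dvd_iff]
      simp [P, hc]
    have hder : IsUnit (Ideal.Quotient.mk (Ideal.span {(PowerSeries.X : PowerSeries k)})
        (P.derivative.eval (PowerSeries.C c))) := by
      apply IsUnit.map
      have h2c : (2 : k) * c ≠ 0 := mul_ne_zero h2 hc0
      have : P.derivative.eval (PowerSeries.C c) = PowerSeries.C (2 * c) := by
        simp only [P, Polynomial.derivative_sub, Polynomial.derivative_X_pow, Polynomial.derivative_C,
          sub_zero, Polynomial.eval_mul, Polynomial.eval_pow, Polynomial.eval_X, Polynomial.eval_C,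
          Nat.cast_ofNat, map_mul]
        rw [show (2 : k) = ((2 : ℕ) : k) by norm_num, map_natCast]
        simp
      rw [this]
      exact (IsUnit.mk0 _ h2c).map PowerSeries.C
    obtain ⟨v, hv, -⟩ := hH.is_henselian P hPm (PowerSeries.C c) hev hder
    have hv2 : v ^ 2 = u := by
      have : P.eval v = 0 := hv
      simpa [P, sub_eq_zero] using this
    refine ⟨HahnSeries.single m 1 * HahnSeries.ofPowerSeries ℤ k v, ?_⟩
    have h3 := f.single_order_mul_powerSeriesPart
    rw [← h3, hm, ← hu, ← hv2]
    have h4 : (HahnSeries.single (m + m) (1 : k) : LaurentSeries k) =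
        HahnSeries.single m 1 * HahnSeries.single m 1 := by
      rw [HahnSeries.single_mul_single, mul_one]
    rw [h4, pow_two]
    push_cast
    ring

end Groth.Agent.S13100
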