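import Groth.Statements.S13103
import Mathlib

set_option autoImplicit false
universe u v
open GrpSch

namespace Groth.Agent.S13103

open TensorProduct in
/-- Let A be a commutative ring and H an algebra over the power series ring A[[t]] (not assumed
commutative) which is flat as an A[[t]]-module, as a finite locally free algebra is. If the base
change A((t)) ⊗ H of H to the ring of Laurent series is commutative, then H itself is commutative.
(The published statement says that prolongations over A[[t]] of a commutative finite Hopf algebra
over the Laurent series are commutative, and adds that taking spectra is then an equivalence of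
categories between prolongations of the Hopf algebra and prolongations of the corresponding group
scheme; this row states the commutativity only, for any flat algebra, the Hopf structure playing no
role; the equivalence of categories is not stated.) -/
theorem result (A : Type u) [CommRing A]
    (H : Type v) [Ring H] [Algebra (PowerSeries A) H] [Module.Flat (PowerSeries A) H]
    (hcomm : ∀ x y : LaurentSeries A ⊗[PowerSeries A] H, x * y = y * x) :
    ∀ x y : H, x * y = y * x := by
  intro x y
  have hinj : Function.Injective (algebraMap (PowerSeries A) (LaurentSeries A)) := by
    rw [LaurentSeries.coe_algebraMap]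
    exact HahnSeries.ofPowerSeries_injective
  let ι : PowerSeries A →ₗ[PowerSeries A] LaurentSeries A := Algebra.linearMap _ _
  have h1 : Function.Injective (ι.rTensor H) :=
    Module.Flat.rTensor_preserves_injective_linearMap ι hinj
  have h2 : Function.Injective (fun h : H => (1 : LaurentSeries A) ⊗ₜ[PowerSeries A] h) := by
    have : (fun h : H => (1 : LaurentSeries A) ⊗ₜ[PowerSeries A] h) =
        (ι.rTensor H) ∘ (TensorProduct.lid (PowerSeries A) H).symm := by
      funext h
      simp [ι]
    rw [this]
    exact h1.comp (TensorProduct.lid (PowerSeries A) H).symm.injective
  apply h2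
  change (1 : LaurentSeries A) ⊗ₜ[PowerSeries A] (x * y) = (1 : LaurentSeries A) ⊗ₜ[PowerSeries A] (y * x)
  have e1 : (1 : LaurentSeries A) ⊗ₜ[PowerSeries A] (x * y) =
      ((1 : LaurentSeries A) ⊗ₜ[PowerSeries A] x) * ((1 : LaurentSeries A) ⊗ₜ[PowerSeries A] y) := by
    rw [Algebra.TensorProduct.tmul_mul_tmul, one_mul]
  have e2 : (1 : LaurentSeries A) ⊗ₜ[PowerSeries A] (y * x) =
      ((1 : LaurentSeries A) ⊗ₜ[PowerSeries A] y) * ((1 : LaurentSeries A) ⊗ₜ[PowerSeries A] x) := by
    rw [Algebra.TensorProduct.tmul_mul_tmul, one_mul]
  rw [e1, e2, hcomm]

end Groth.Agent.S13103
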