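import Groth.Statements.S13104
import Mathlib

set_option autoImplicit false
universe u
open GrpSch

namespace Groth.Agent.S13104

section Aux
open AlgebraicGeometry CategoryTheory Limits TopologicalSpace

theorem epi_aux {X Y G : Scheme.{u}} (f : X ⟶ Y) (hs : Function.Surjective f.base)
    (hinj : ∀ U : Y.Opens, Function.Injective (f.app U)) (u v : Y ⟶ G) (huv : f ≫ u = f ≫ v) :
    u = v := by
  have hbase : ∀ y, u.base y = v.base y := by
    intro y; obtain ⟨x, rfl⟩ := hs y
    rw [← Scheme.Hom.comp_apply, ← Scheme.Hom.comp_apply, huv]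
  apply Scheme.hom_ext_of_forall
  intro y
  obtain ⟨W, hW, hyW⟩ : ∃ W : G.Opens, IsAffineOpen W ∧ u.base y ∈ W := by
    obtain ⟨_, ⟨W, hW, rfl⟩, hyW, -⟩ := G.isBasis_affineOpens.exists_subset_of_mem_open
      (Set.mem_univ (u.base y)) isOpen_univ
    exact ⟨W, hW, hyW⟩
  refine ⟨u ⁻¹ᵁ W, hyW, ?_⟩
  have hVv : u ⁻¹ᵁ W ≤ v ⁻¹ᵁ W := by
    intro z hz
    show v.base z ∈ W
    rw [← hbase]; exact hz
  let u' : (u ⁻¹ᵁ W : Scheme) ⟶ W := u.resLE W (u ⁻¹ᵁ W) le_rfl
  let v' : (u ⁻¹ᵁ W : Scheme) ⟶ W := v.resLE W (u ⁻¹ᵁ W) hVv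
  have hu' : u' ≫ W.ι = (u ⁻¹ᵁ W).ι ≫ u := Scheme.Hom.resLE_comp_ι _ _
  have hv' : v' ≫ W.ι = (u ⁻¹ᵁ W).ι ≫ v := Scheme.Hom.resLE_comp_ι _ _
  rw [← hu', ← hv']
  congr 1
  haveI : IsAffine W := hW
  apply ext_of_isAffine
  have hf' : (f ∣_ (u ⁻¹ᵁ W)) ≫ u' = (f ∣_ (u ⁻¹ᵁ W)) ≫ v' := by
    rw [← cancel_mono W.ι]; simp only [Category.assoc, hu', hv']
    rw [← Category.assoc, ← Category.assoc, morphismRestrict_ι, Category.assoc, Category.assoc, huv]
  have hinj' : Function.Injective (f ∣_ (u ⁻¹ᵁ W)).appTop := by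
    rw [morphismRestrict_appTop]
    intro a b hab
    apply hinj ((u ⁻¹ᵁ W).ι ''ᵁ ⊤)
    have hiso : Function.Injective
        (X.presheaf.map (eqToHom (image_morphismRestrict_preimage f (u ⁻¹ᵁ W) ⊤)).op) :=
      (ConcreteCategory.bijective_of_isIso _).1
    apply hiso
    exact hab
  have := congrArg Scheme.Hom.appTop hf'
  rw [Scheme.Hom.comp_appTop, Scheme.Hom.comp_appTop] at this
  ext s
  apply hinj'
  exact congr($this s)


theorem psi_formula (B : Type u) [CommRing B]
    (ψ : DualNumber B →+* DualNumber (DualNumber B))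
    (hψB : ∀ b : B, ψ (algebraMap B (DualNumber B) b) = algebraMap B (DualNumber (DualNumber B)) b)
    (hψ : ψ DualNumber.eps = algebraMap (DualNumber B) (DualNumber (DualNumber B)) DualNumber.eps * DualNumber.eps)
    (x : DualNumber B) :
    ψ x = TrivSqZeroExt.inl (TrivSqZeroExt.inl x.fst) + TrivSqZeroExt.inr (TrivSqZeroExt.inr x.snd) := by
  conv_lhs => rw [← TrivSqZeroExt.inl_fst_add_inr_snd_eq x]
  rw [map_add]
  have h1 : ψ (TrivSqZeroExt.inl x.fst) = TrivSqZeroExt.inl (TrivSqZeroExt.inl x.fst) := by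
    have := hψB x.fst
    rw [TrivSqZeroExt.algebraMap_eq_inl] at this
    rw [this]
    rfl
  have h2 : ψ (TrivSqZeroExt.inr x.snd) = TrivSqZeroExt.inr (TrivSqZeroExt.inr x.snd) := by
    have e : (TrivSqZeroExt.inr x.snd : DualNumber B) = algebraMap B (DualNumber B) x.snd * DualNumber.eps := by
      rw [← Algebra.smul_def, DualNumber.inr_eq_smul_eps]
    have e2 : algebraMap B (DualNumber (DualNumber B)) x.snd =
        TrivSqZeroExt.inl (TrivSqZeroExt.inl x.snd) := rfl
    rw [e, map_mul, hψB, hψ, e2]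
    ext <;> simp [TrivSqZeroExt.algebraMap_eq_inl]
  rw [h1, h2]

theorem psi_inj (B : Type u) [CommRing B]
    (ψ : DualNumber B →+* DualNumber (DualNumber B))
    (hψB : ∀ b : B, ψ (algebraMap B (DualNumber B) b) = algebraMap B (DualNumber (DualNumber B)) b)
    (hψ : ψ DualNumber.eps = algebraMap (DualNumber B) (DualNumber (DualNumber B)) DualNumber.eps * DualNumber.eps) :
    Function.Injective ψ := by
  intro x y hxy
  rw [psi_formula B ψ hψB hψ x, psi_formula B ψ hψB hψ y] at hxy
  have h1 := congrArg (fun z => z.fst.fst) hxy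
  have h2 := congrArg (fun z => z.snd.snd) hxy
  simp at h1 h2
  exact TrivSqZeroExt.ext h1 h2

theorem comap_surj (B : Type u) [CommRing B]
    (ψ : DualNumber B →+* DualNumber (DualNumber B))
    (hψB : ∀ b : B, ψ (algebraMap B (DualNumber B) b) = algebraMap B (DualNumber (DualNumber B)) b)
    (hψ : ψ DualNumber.eps = algebraMap (DualNumber B) (DualNumber (DualNumber B)) DualNumber.eps * DualNumber.eps) :
    ∀ p : Ideal (DualNumber B), p.IsPrime →
      ∃ P : Ideal (DualNumber (DualNumber B)), P.IsPrime ∧ P.comap ψ = p := by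
  intro p hp
  let π₂ : DualNumber (DualNumber B) →+* DualNumber B :=
    (TrivSqZeroExt.fstHom (DualNumber B) (DualNumber B) (DualNumber B)).toRingHom
  refine ⟨p.comap π₂, Ideal.comap_isPrime π₂ p, ?_⟩
  ext x
  simp only [Ideal.mem_comap]
  have hx : π₂ (ψ x) = TrivSqZeroExt.inl x.fst := by
    rw [psi_formula B ψ hψB hψ x]; simp [π₂]
  rw [hx]
  have hnil : (TrivSqZeroExt.inr x.snd : DualNumber B) ∈ p := by
    apply hp.mem_of_pow_mem 2
    rw [pow_two, TrivSqZeroExt.inr_mul_inr]; exact zero_mem _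
  conv_rhs => rw [← TrivSqZeroExt.inl_fst_add_inr_snd_eq x]
  exact ((Ideal.add_mem_iff_left _ hnil)).symm

theorem dominant_Spec {R S : CommRingCat.{u}} (φ : R ⟶ S) (hφ : Function.Injective φ.hom) :
    IsSchemeTheoreticallyDominant (Spec.map φ) := by
  constructor
  apply Scheme.IdealSheafData.ext_of_isAffine
  rw [Scheme.Hom.ker_apply]
  simp only [Scheme.IdealSheafData.ideal_bot, Pi.bot_apply]
  rw [← RingHom.injective_iff_ker_eq_bot]
  have h : (Spec.map φ).appTop = (Scheme.ΓSpecIso R).hom ≫ φ ≫ (Scheme.ΓSpecIso S).inv := by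
    rw [Scheme.ΓSpecIso_inv_naturality, Iso.hom_inv_id_assoc]
  show Function.Injective (Spec.map φ).appTop
  intro a b hab
  rw [h] at hab
  have h1 : Function.Injective (Scheme.ΓSpecIso R).hom := (ConcreteCategory.bijective_of_isIso _).1
  have h2 : Function.Injective (Scheme.ΓSpecIso S).inv := (ConcreteCategory.bijective_of_isIso _).1
  apply h1
  apply hφ
  apply h2
  exact hab

theorem main (B : Type u) [CommRing B]
    (ψ : DualNumber B →+* DualNumber (DualNumber B))
    (hψB : ∀ b : B, ψ (algebraMap B (DualNumber B) b) = algebraMap B (DualNumber (DualNumber B)) b)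
    (hψ : ψ DualNumber.eps = algebraMap (DualNumber B) (DualNumber (DualNumber B)) DualNumber.eps * DualNumber.eps)
    (G : Scheme.{u}) :
    Function.Injective (fun u : Spec (CommRingCat.of (DualNumber B)) ⟶ G =>
      Spec.map (CommRingCat.ofHom (R := DualNumber B) (S := DualNumber (DualNumber B)) ψ) ≫ u) := by
  intro u v huv
  haveI hdom := dominant_Spec (CommRingCat.ofHom (R := DualNumber B) (S := DualNumber (DualNumber B)) ψ)
    (psi_inj B ψ hψB hψ)
  refine epi_aux (Spec.map (CommRingCat.ofHom (R := DualNumber B) (S := DualNumber (DualNumber B)) ψ))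
    ?_ (fun U => Scheme.Hom.app_injective _ U) u v huv
  intro p
  obtain ⟨P, hP, hPp⟩ := comap_surj B ψ hψB hψ p.asIdeal p.isPrime
  refine ⟨⟨P, hP⟩, ?_⟩
  apply PrimeSpectrum.ext
  exact hPp

end Aux

open CategoryTheory AlgebraicGeometry in
/-- Let B be a commutative ring, B[ε] the ring of dual numbers (ε² = 0) and B[α, β]/(α², β²) the double
dual numbers, realised as dual numbers over the dual numbers with α the inner and β the outer
generator, and let ψ : B[ε] → B[α, β]/(α², β²) be the B-algebra homomorphism with ψ(ε) = αβ. Then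
for every scheme G the map u ↦ Spec(ψ) ≫ u from morphisms Spec B[ε] → G to morphisms Spec
B[α,β]/(α²,β²) → G is injective. (The printed statement is its consequence for a group scheme G: the
map Lie(G)(B) → G(B[α,β]/(α²,β²)), x ↦ exp(αβ x), is injective; the injectivity on all B[ε]-points
stated here is what the printed argument establishes.) -/
theorem result (B : Type u) [CommRing B]
    (ψ : DualNumber B →+* DualNumber (DualNumber B))
    (hψB : ∀ b : B, ψ (algebraMap B (DualNumber B) b) = algebraMap B (DualNumber (DualNumber B)) b)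
    (hψ : ψ DualNumber.eps = algebraMap (DualNumber B) (DualNumber (DualNumber B)) DualNumber.eps * DualNumber.eps)
    (G : Scheme.{u}) :
    Function.Injective (fun u : Spec (CommRingCat.of (DualNumber B)) ⟶ G =>
      Spec.map (CommRingCat.ofHom (R := DualNumber B) (S := DualNumber (DualNumber B)) ψ) ≫ u) := by
  exact main B ψ hψB hψ G

end Groth.Agent.S13104
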