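import Groth.Statements.S13106
import Mathlib

set_option autoImplicit false
universe u
open GrpSch

namespace Groth.Agent.S13106
open CategoryTheory.Limits

open CategoryTheory AlgebraicGeometry in
theorem ker_ι_eq_bot {Y : Scheme.{u}} (U : Y.Opens) (hU : CInt.IsSchematicallyDense U) :
    U.ι.ker = ⊥ := by
  apply Scheme.IdealSheafData.ext
  funext V
  rw [Scheme.IdealSheafData.ideal_bot]
  show U.ι.ker.ideal V = ⊥
  rw [eq_bot_iff]
  refine (U.ι.ideal_ker_le V).trans ?_
  rw [le_bot_iff, ← RingHom.injective_iff_ker_eq_bot]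
  have e : U.ι ''ᵁ U.ι ⁻¹ᵁ V.1 = V.1 ⊓ U := by
    ext x
    simp only [TopologicalSpace.Opens.coe_inf, Set.mem_inter_iff, SetLike.mem_coe]
    constructor
    · rintro ⟨y, hy, rfl⟩
      exact ⟨hy, y.2⟩
    · rintro ⟨hxV, hxU⟩
      exact ⟨⟨x, hxU⟩, hxV, rfl⟩
  have hfac : U.ι.app V.1 = Y.presheaf.map (homOfLE (inf_le_left : V.1 ⊓ U ≤ V.1)).op ≫
      Y.presheaf.map (eqToHom e).op := by
    rw [Scheme.Opens.ι_app, ← Functor.map_comp]; rfl
  have hinj : Function.Injective (Y.presheaf.map (homOfLE (inf_le_left : V.1 ⊓ U ≤ V.1)).op ≫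
      Y.presheaf.map (eqToHom e).op).hom := by
    rw [CommRingCat.hom_comp, RingHom.coe_comp]
    refine Function.Injective.comp ?_ (hU V.1)
    exact (ConcreteCategory.bijective_of_isIso (Y.presheaf.map (eqToHom e).op)).1
  rw [hfac]
  exact hinj


open CategoryTheory AlgebraicGeometry in
/-- Let f : X → Y be a morphism of schemes and U ⊆ Y a schematically dense open subscheme (for every
open V of Y, restriction of functions from V to V ∩ U is injective) such that the restriction f⁻¹(U)
→ U of f is an isomorphism. Then two morphisms from Y to a scheme separated over a base T that agree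
after composing with f and have the same composite to T are equal: if Z → T is separated and v₁, v₂
: Y → Z satisfy v₁ ≫ (Z → T) = v₂ ≫ (Z → T) and f ≫ v₁ = f ≫ v₂, then v₁ = v₂. (The published
statement is the case of a morphism between two prolongations over A[[t]] of a finite group scheme
over A((t)), where U is the generic fibre, schematically dense by flatness; uniqueness of
prolongation maps follows.) -/
theorem result {X Y Z T : Scheme.{u}} (f : X ⟶ Y)
    (U : Y.Opens) (hU : CInt.IsSchematicallyDense U) [IsIso (f ∣_ U)]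
    (z : Z ⟶ T) [IsSeparated z] (v₁ v₂ : Y ⟶ Z) (hz : v₁ ≫ z = v₂ ≫ z) (h : f ≫ v₁ = f ≫ v₂) :
    v₁ = v₂ := by
  let Y' : Over T := Over.mk (v₁ ≫ z)
  let Z' : Over T := Over.mk z
  let a : Y' ⟶ Z' := Over.homMk v₁
  let b : Y' ⟶ Z' := Over.homMk v₂ (by simp [Y', Z', hz])
  haveI : IsSeparated Z'.hom := ‹_›
  have hUι : U.ι ≫ v₁ = U.ι ≫ v₂ := by
    have h1 : U.ι = inv (f ∣_ U) ≫ (f ⁻¹ᵁ U).ι ≫ f := by
      rw [IsIso.eq_inv_comp, morphismRestrict_ι]
    rw [h1]
    simp only [Category.assoc, h]
  let U' : Over T := Over.mk (U.ι ≫ v₁ ≫ z)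
  let ι' : U' ⟶ Y' := Over.homMk U.ι
  have hcond : ι' ≫ a = ι' ≫ b := by
    ext1; exact hUι
  have hfac : (equalizer.lift ι' hcond).left ≫ (equalizer.ι a b).left = U.ι := by
    rw [← Over.comp_left, equalizer.lift_ι]; rfl
  have hker : (equalizer.ι a b).left.ker = ⊥ := by
    rw [eq_bot_iff]
    refine (Scheme.Hom.le_ker_comp (equalizer.lift ι' hcond).left (equalizer.ι a b).left).trans ?_
    rw [hfac, Groth.Agent.S13106.ker_ι_eq_bot U hU]
  haveI : IsIso (equalizer.ι a b).left := IsClosedImmersion.isIso_iff_ker_eq_bot.mpr hker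
  rw [← cancel_epi (equalizer.ι a b).left]
  exact congr($(equalizer.condition a b).left)

end Groth.Agent.S13106
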