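import Groth.Statements.S1311
import Mathlib
import Groth.Agent.S1310

set_option autoImplicit false
universe u
open FlatMor

namespace Groth.Agent.S1311

section Helpers

open CategoryTheory CategoryTheory.Limits AlgebraicGeometry

open Groth.Agent.H22.ThickBC in
theorem forward {X X' S S' : Scheme.{u}} (iX : X ⟶ X') (iS : S ⟶ S') (f : X ⟶ S) (f' : X' ⟶ S')
    (hS : MoreMor.IsFiniteOrderThickening iS) (hc : IsPullback iX f f' iS)
    [Mono f] : Mono f' := by
  haveI : IsIso (pullback.diagonal f) := inferInstance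
  haveI : IsOpenImmersion (pullback.diagonal f) := inferInstance
  haveI : FormallyUnramified f := inferInstance
  haveI : FormallyUnramified f' := Groth.Agent.S1310.forward iX iS f f' hS hc
  refine ⟨fun {T} a b hab => ?_⟩
  let t : pullback (a ≫ f') iS ⟶ T := pullback.fst _ _
  let τ : pullback (a ≫ f') iS ⟶ S := pullback.snd _ _
  have ht : MoreMor.IsFiniteOrderThickening t :=
    finiteOrder_of_isPullback t τ (a ≫ f') iS (IsPullback.of_hasPullback _ _) hS
  haveI : IsClosedImmersion t := ht.1.1
  have hta : (t ≫ a) ≫ f' = τ ≫ iS := by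
    rw [Category.assoc]; exact pullback.condition
  have htb : (t ≫ b) ≫ f' = τ ≫ iS := by
    rw [Category.assoc, ← hab]; exact pullback.condition
  let a₀ : pullback (a ≫ f') iS ⟶ X := hc.lift (t ≫ a) τ hta
  let b₀ : pullback (a ≫ f') iS ⟶ X := hc.lift (t ≫ b) τ htb
  have hab₀ : a₀ = b₀ := by
    rw [← cancel_mono f]
    exact (hc.lift_snd _ _ _).trans (hc.lift_snd _ _ _).symm
  have htab : t ≫ a = t ≫ b := by
    rw [← hc.lift_fst (t ≫ a) τ hta, ← hc.lift_fst (t ≫ b) τ htb]
    change a₀ ≫ iX = b₀ ≫ iX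
    rw [hab₀]
  exact FormallyUnramified.hom_ext t ht.2 f' htab hab

theorem main {X X' S S' : Scheme.{u}} (iX : X ⟶ X') (iS : S ⟶ S') (f : X ⟶ S) (f' : X' ⟶ S')
    (hS : MoreMor.IsFiniteOrderThickening iS) (hc : IsPullback iX f f' iS) :
    Mono f ↔ Mono f' :=
  ⟨fun _ => forward iX iS f f' hS hc, fun _ => hc.mono_snd_of_mono⟩

end Helpers

open AlgebraicGeometry CategoryTheory Limits in
/-- Let S ⟶ S' be a finite order thickening and let X be the base change of a scheme X' over S' to S (so
X ⟶ X' is again a thickening). Then X ⟶ S is a monomorphism if and only if X' ⟶ S' is. -/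
theorem result {X X' S S' : Scheme.{u}} (iX : X ⟶ X') (iS : S ⟶ S') (f : X ⟶ S) (f' : X' ⟶ S')
    (hS : MoreMor.IsFiniteOrderThickening iS) (hc : IsPullback iX f f' iS) :
    Mono f ↔ Mono f' := by
  exact main iX iS f f' hS hc

end Groth.Agent.S1311
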