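import Groth.Statements.S13112
import Groth.Agent.Lib.helper11.SNSch

set_option autoImplicit false
universe u
open HTop

namespace Groth.Agent.S13112

open CategoryTheory AlgebraicGeometry in
/-- Let k be a field, T a seminormal scheme of finite type over k, and f : X → Y a proper universally
injective k-morphism of schemes locally of finite type over k. If a morphism of schemes g : T → Y
lifts through f at every point of T, i.e. for every t the composite Spec κ(t) → T → Y factors
through f, then g itself factors through f. -/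
theorem result
    {k : Type u} [Field k] {T X Y : Scheme.{u}}
    (sT : T ⟶ Spec (CommRingCat.of k)) (sX : X ⟶ Spec (CommRingCat.of k)) (sY : Y ⟶ Spec (CommRingCat.of k))
    [LocallyOfFiniteType sT] [QuasiCompact sT] [LocallyOfFiniteType sX] [LocallyOfFiniteType sY]
    (hT : HTop.IsSeminormal T)
    (f : X ⟶ Y) (hf : f ≫ sY = sX) [IsProper f] [UniversallyInjective f]
    (g : T ⟶ Y)
    (hlift : ∀ t : T, ∃ l : Spec (T.residueField t) ⟶ X, l ≫ f = T.fromSpecResidueField t ≫ g) :
    ∃ h : T ⟶ X, h ≫ f = g := by
  haveI : UniversallyInjective (Limits.pullback.fst g f) :=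
    MorphismProperty.pullback_fst (P := @UniversallyInjective) g f inferInstance
  have hinjq : Function.Injective (Limits.pullback.fst g f) := Scheme.Hom.injective _
  have hc : ∀ t : T, ∃ c : Spec (T.residueField t) ⟶ Limits.pullback g f,
      c ≫ Limits.pullback.fst g f = T.fromSpecResidueField t := fun t => by
    obtain ⟨l, hl⟩ := hlift t
    exact ⟨Limits.pullback.lift (T.fromSpecResidueField t) l hl.symm, Limits.pullback.lift_fst _ _ _⟩
  have hsn : Groth.Agent.Lib.helper11.SNSch.SN (Limits.pullback.fst g f) := by
    refine ⟨(Groth.Agent.Lib.helper11.UnivHomeo.isUnivHomeo_iff _).mpr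
      ⟨inferInstance, inferInstance, ⟨fun t => ?_⟩⟩, fun z => ?_⟩
    · obtain ⟨c, hc'⟩ := hc t
      refine ⟨c (IsLocalRing.closedPoint _), ?_⟩
      rw [← Scheme.Hom.comp_apply, hc', Scheme.fromSpecResidueField_apply]
    · obtain ⟨c, hc'⟩ := hc (Limits.pullback.fst g f z)
      exact Groth.Agent.Lib.helper11.SNSch.isIso_residueFieldMap_of_lift _ hinjq z c hc'
  obtain ⟨σ, hσ⟩ := Groth.Agent.Lib.helper11.SNSch.exists_section_of_sn _ hsn hT
  refine ⟨σ ≫ Limits.pullback.snd g f, ?_⟩
  rw [Category.assoc, ← Limits.pullback.condition, ← Category.assoc, hσ, Category.id_comp]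

end Groth.Agent.S13112
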