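import Groth.Statements.S13115
import Mathlib

set_option autoImplicit false
universe u
open scoped TensorProduct
open HilbChow

namespace Groth.Agent.S13115
open scoped TensorProduct

section helpers



theorem exists_perm_of_card_fiber_eq {m : ℕ} {κ : Type*} [DecidableEq κ] (p q : Fin m → κ)
    (h : ∀ i : κ, (Finset.univ.filter fun j => p j = i).card =
      (Finset.univ.filter fun j => q j = i).card) :
    ∃ σ : Equiv.Perm (Fin m), ∀ j, p (σ j) = q j := by
  have e : ∀ i : κ, {j // q j = i} ≃ {j // p j = i} := fun i =>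
    Fintype.equivOfCardEq (by
      rw [Fintype.card_subtype, Fintype.card_subtype]; exact (h i).symm)
  refine ⟨(Equiv.sigmaFiberEquiv q).symm.trans
    ((Equiv.sigmaCongrRight e).trans (Equiv.sigmaFiberEquiv p)), fun j => ?_⟩
  simp only [Equiv.trans_apply, Equiv.sigmaFiberEquiv_symm_apply_fst,
    Equiv.sigmaCongrRight_apply, Equiv.sigmaFiberEquiv_apply]
  exact (e (q j) ⟨j, rfl⟩).2

noncomputable def mon {m : ℕ} {κ : Type*} (p : Fin m → κ) : κ →₀ ℕ := ∑ j, Finsupp.single (p j) 1

theorem mon_apply {m : ℕ} {κ : Type*} [DecidableEq κ] (p : Fin m → κ) (i : κ) :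
    mon p i = (Finset.univ.filter fun j => p j = i).card := by
  unfold mon
  rw [Finsupp.finsetSum_apply, Finset.card_filter]
  refine Finset.sum_congr rfl fun j _ => ?_
  rw [Finsupp.single_apply]

theorem prod_X_eq {m : ℕ} {κ : Type*} (k : Type*) [CommSemiring k] (p : Fin m → κ) :
    ∏ j, (MvPolynomial.X (p j) : MvPolynomial κ k) = MvPolynomial.monomial (mon p) 1 := by
  unfold mon
  rw [MvPolynomial.monomial_sum_index]
  simp [MvPolynomial.X]



end helpers

/-- Let k be an infinite field, V a k-vector space and m a natural number. Then every symmetric tensor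
in the m-fold tensor power of V — one fixed by every permutation of the factors — is a k-linear
combination of pure powers v ⊗ ⋯ ⊗ v with v in V. (The published statement concerns the ring of
functions of an affine scheme over an infinite field, where it gives the uniqueness of the algebra
map defining the Hilbert-to-Chow morphism for zero-cycles; this row states it for any vector space.) -/
theorem result
    (k V : Type u) [Field k] [Infinite k] [AddCommGroup V] [Module k V] (m : ℕ)
    (x : ⨂[k] _ : Fin m, V)
    (hx : ∀ σ : Equiv.Perm (Fin m), PiTensorProduct.reindex k (fun _ : Fin m => V) σ x = x) :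
    x ∈ Submodule.span k (Set.range fun v : V => PiTensorProduct.tprod k (fun _ : Fin m => v)) := by
  classical
  by_contra hxW
  obtain ⟨φ, hφx, hφW⟩ := Submodule.exists_le_ker_of_notMem hxW
  apply hφx
  let κ := Module.Basis.ofVectorSpaceIndex k V
  let b : Module.Basis κ k V := Module.Basis.ofVectorSpace k V
  let B : Module.Basis (Fin m → κ) k (⨂[k] _ : Fin m, V) := Basis.piTensorProduct (fun _ => b)
  have hB : ∀ p, B p = PiTensorProduct.tprod k (fun j => b (p j)) :=
    fun p => Basis.piTensorProduct_apply _ p
  set c := B.repr x with hc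
  have hsym : ∀ (σ : Equiv.Perm (Fin m)) (q : Fin m → κ), c (q ∘ σ) = c q := by
    intro σ q
    have h1 : (B.coord q) ∘ₗ (PiTensorProduct.reindex k (fun _ : Fin m => V) σ).toLinearMap
        = B.coord (q ∘ σ) := by
      apply B.ext
      intro p
      simp only [LinearMap.comp_apply, LinearEquiv.coe_coe]
      rw [hB p, PiTensorProduct.reindex_tprod, ← hB p]
      have : (PiTensorProduct.tprod k fun i => b (p (σ.symm i))) = B (p ∘ σ.symm) := (hB _).symm
      rw [this]
      simp only [Module.Basis.coord_apply, Module.Basis.repr_self, Finsupp.single_apply]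
      have : (p ∘ σ.symm = q) ↔ (p = q ∘ σ) := by
        constructor
        · rintro rfl; ext j; simp
        · rintro rfl; ext j; simp
      simp only [this]
    have h2 := congrArg (fun L => L x) h1
    simp only [LinearMap.comp_apply, LinearEquiv.coe_coe] at h2
    rw [hx σ] at h2
    exact h2.symm
  let Tt : Finset κ := c.support.biUnion (fun p => Finset.univ.image p)
  let PF : Finset (Fin m → κ) := Fintype.piFinset (fun _ : Fin m => Tt)
  have hsupp : c.support ⊆ PF := by
    intro p hp
    rw [Fintype.mem_piFinset]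
    intro j
    exact Finset.mem_biUnion.2 ⟨p, hp, Finset.mem_image_of_mem _ (Finset.mem_univ _)⟩
  let ψ : (Fin m → κ) → k := fun p => φ (B p)
  have hφx' : φ x = ∑ p ∈ PF, c p * ψ p := by
    have h1 : x = ∑ p ∈ c.support, c p • B p := by
      conv_lhs => rw [← B.linearCombination_repr x]
      rw [Finsupp.linearCombination_apply, Finsupp.sum]
    conv_lhs => rw [h1]
    rw [map_sum]
    rw [Finset.sum_subset hsupp]
    · refine Finset.sum_congr rfl fun p _ => ?_
      rw [map_smul, smul_eq_mul]
    · intro p _ hp
      rw [Finsupp.notMem_support_iff.1 hp, zero_smul, map_zero]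
  let Q : MvPolynomial κ k := ∑ p ∈ PF, MvPolynomial.C (ψ p) * ∏ j, MvPolynomial.X (p j)
  have hQ : Q = 0 := by
    apply MvPolynomial.funext
    intro t
    rw [map_zero]
    have h1 : MvPolynomial.eval t Q = ∑ p ∈ PF, ψ p * ∏ j, t (p j) := by
      simp only [Q, map_sum, map_mul, map_prod, MvPolynomial.eval_C, MvPolynomial.eval_X]
    rw [h1]
    have h2 : PiTensorProduct.tprod k (fun _ : Fin m => ∑ i ∈ Tt, t i • b i)
        = ∑ p ∈ PF, (∏ j, t (p j)) • B p := by
      rw [MultilinearMap.map_sum_finset (PiTensorProduct.tprod k)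
        (fun (_ : Fin m) (i : κ) => t i • b i) (fun _ => Tt)]
      refine Finset.sum_congr rfl fun p _ => ?_
      rw [MultilinearMap.map_smul_univ, hB p]
    have h3 : φ (PiTensorProduct.tprod k (fun _ : Fin m => ∑ i ∈ Tt, t i • b i)) = 0 :=
      hφW (Submodule.subset_span ⟨_, rfl⟩)
    rw [h2, map_sum] at h3
    rw [← h3]
    refine Finset.sum_congr rfl fun p _ => ?_
    rw [map_smul, smul_eq_mul, mul_comm]
  have hcoeff : ∀ μ : κ →₀ ℕ, ∑ p ∈ PF.filter (fun p => mon p = μ), ψ p = 0 := by
    intro μ
    have h1 := congrArg (MvPolynomial.coeff μ) hQ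
    simp only [Q, MvPolynomial.coeff_sum, MvPolynomial.coeff_zero, prod_X_eq,
      MvPolynomial.C_mul_monomial, mul_one, MvPolynomial.coeff_monomial] at h1
    rw [Finset.sum_filter]
    exact h1
  rw [hφx']
  rw [← Finset.sum_fiberwise_of_maps_to (g := fun p => mon p) (t := PF.image (fun p => mon p))
    (fun p hp => Finset.mem_image_of_mem _ hp)]
  refine Finset.sum_eq_zero fun μ _ => ?_
  rcases (PF.filter (fun p => mon p = μ)).eq_empty_or_nonempty with he | ⟨p₀, hp₀⟩
  · rw [he, Finset.sum_empty]
  · have hp₀' := (Finset.mem_filter.1 hp₀).2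
    have hconst : ∀ p ∈ PF.filter (fun p => mon p = μ), c p = c p₀ := by
      intro p hp
      have hp' := (Finset.mem_filter.1 hp).2
      obtain ⟨σ, hσ⟩ := exists_perm_of_card_fiber_eq p₀ p (fun i => by
        rw [← mon_apply, ← mon_apply, hp', hp₀'])
      have : p = p₀ ∘ σ := funext fun j => (hσ j).symm
      rw [this, hsym]
    rw [Finset.sum_congr rfl (fun p hp => by rw [hconst p hp]), ← Finset.mul_sum, hcoeff μ,
      mul_zero]

end Groth.Agent.S13115
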