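import Groth.Statements.S13117
import Groth.Agent.Lib.helper13.NormLocal2

set_option autoImplicit false
universe u
open HilbChow

namespace Groth.Agent.S13117

/-- Let k be an algebraically closed field, A a finite-dimensional commutative k-algebra (the coordinate
ring of a zero-dimensional subscheme Z of length dim_k A) and f ∈ A. Then the determinant of
multiplication by f on A is the product over the points x of Z — the k-algebra homomorphisms A → k —
of the value f(x) raised to the length of the local ring of Z at x, that length being the
k-dimension of the localisation of A at the corresponding maximal ideal. This is the formula by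
which the Hilbert-to-Chow morphism for zero-cycles sends Z to its fundamental cycle Σ ℓ(O_{Z,x})[x]. -/
theorem result
    (k A : Type u) [Field k] [IsAlgClosed k] [CommRing A] [Algebra k A] [Module.Finite k A] (f : A) :
    Algebra.norm k f =
      ∏ᶠ φ : A →ₐ[k] k, φ f ^ Module.finrank k (Localization.AtPrime (Ideal.comap φ ⊥)) := by
  classical
  have : IsArtinianRing A := IsArtinianRing.of_finite k A
  have : Fintype (MaximalSpectrum A) := Fintype.ofFinite _
  have := fun m => Lib.helper13.NormLocal.finite_loc k A m
  rw [Lib.helper13.NormLocal.norm_eq_prod_det k A f, ← finprod_eq_prod_of_fintype]
  symm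
  apply finprod_eq_of_bijective (Lib.helper13.NormLocal.pt k A)
    (Lib.helper13.NormLocal.pt_bijective k A)
  intro φ
  exact (Lib.helper13.NormLocal.det_mulLeft_loc k A φ f).symm

end Groth.Agent.S13117
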