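import Groth.Statements.S1312
import Mathlib

set_option autoImplicit false
universe u
open FlatMor

namespace Groth.Agent.S1312

section Helpers

open CategoryTheory CategoryTheory.Limits AlgebraicGeometry

theorem forward {X X' Y Y' : Scheme.{u}} (iX : X ⟶ X') (iY : Y ⟶ Y') (f : X ⟶ Y) (f' : X' ⟶ Y')
    (hY : MoreMor.IsThickening iY) (hc : IsPullback iX f f' iY) [LocallyOfFiniteType f]
    [LocallyOfFiniteType f'] [LocallyQuasiFinite f] : LocallyQuasiFinite f' := by
  haveI : IsClosedImmersion iY := hY.1
  haveI : Surjective iY := hY.2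
  haveI : IsClosedImmersion iX :=
    MorphismProperty.of_isPullback (P := @IsClosedImmersion) hc.flip inferInstance
  haveI : Surjective iX := MorphismProperty.of_isPullback (P := @Surjective) hc.flip inferInstance
  rw [locallyQuasiFinite_iff_isDiscrete_preimage_singleton]
  intro y'
  obtain ⟨y, rfl⟩ := iY.surjective y'
  have h1 : _root_.IsDiscrete (f ⁻¹' {y}) := f.isDiscrete_preimage_singleton y
  have h2 : f' ⁻¹' {iY y} = iX '' (f ⁻¹' {y}) := by
    ext x'
    constructor
    · intro hx'
      obtain ⟨x, rfl⟩ := iX.surjective x'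
      refine ⟨x, ?_, rfl⟩
      apply iY.injective
      change iY (f x) = iY y
      rw [← Scheme.Hom.comp_apply, ← hc.w, Scheme.Hom.comp_apply]
      exact hx'
    · rintro ⟨x, hx, rfl⟩
      change f' (iX x) = iY y
      rw [← Scheme.Hom.comp_apply, hc.w, Scheme.Hom.comp_apply]
      exact congrArg iY hx
  rw [h2]
  exact h1.image iX.isClosedEmbedding.isInducing

theorem main {X X' Y Y' : Scheme.{u}} (iX : X ⟶ X') (iY : Y ⟶ Y') (f : X ⟶ Y) (f' : X' ⟶ Y')
    (hY : MoreMor.IsThickening iY) (hc : IsPullback iX f f' iY) [LocallyOfFiniteType f]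
    [LocallyOfFiniteType f'] : LocallyQuasiFinite f ↔ LocallyQuasiFinite f' :=
  ⟨fun _ => forward iX iY f f' hY hc,
    fun h => MorphismProperty.of_isPullback (P := @LocallyQuasiFinite) hc h⟩

end Helpers

open AlgebraicGeometry CategoryTheory Limits in
/-- Let Y ⟶ Y' be a thickening, let X be the base change to Y of a scheme X' over Y', and assume both X
⟶ Y and X' ⟶ Y' are locally of finite type. Then X ⟶ Y is locally quasi-finite if and only if X' ⟶
Y' is. -/
theorem result {X X' Y Y' : Scheme.{u}} (iX : X ⟶ X') (iY : Y ⟶ Y') (f : X ⟶ Y) (f' : X' ⟶ Y')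
    (hY : MoreMor.IsThickening iY) (hc : IsPullback iX f f' iY) [LocallyOfFiniteType f] [LocallyOfFiniteType f'] :
    LocallyQuasiFinite f ↔ LocallyQuasiFinite f' := by
  exact main iX iY f f' hY hc

end Groth.Agent.S1312
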