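import Groth.Statements.S13120
import Mathlib

set_option autoImplicit false
universe u
open KumFam

namespace Groth.Agent.S13120aux
open MvPolynomial

variable {R : Type u} [CommRing R]

abbrev P (R : Type u) [CommRing R] := MvPolynomial (Fin 2) R

/-- the subalgebra `R[u², v²]` -/
noncomputable abbrev S₀ (R : Type u) [CommRing R] : Subalgebra R (P R) :=
  Algebra.adjoin R {X 0 ^ 2, X 1 ^ 2}

theorem u2_mem : (X 0 ^ 2 : P R) ∈ S₀ R := Algebra.subset_adjoin (by simp)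
theorem v2_mem : (X 1 ^ 2 : P R) ∈ S₀ R := Algebra.subset_adjoin (by simp)
theorem C_mem (r : R) : (C r : P R) ∈ S₀ R := (S₀ R).algebraMap_mem r

theorem der_adjoin_zero (D : Derivation R (P R) (P R)) (s : Set (P R)) (hs : ∀ x ∈ s, D x = 0) :
    ∀ a ∈ Algebra.adjoin R s, D a = 0 := by
  intro a ha
  induction ha using Algebra.adjoin_induction with
  | mem x hx => exact hs x hx
  | algebraMap r => exact D.map_algebraMap r
  | add x y _ _ hx hy => rw [map_add, hx, hy, add_zero]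
  | mul x y _ _ hx hy => rw [Derivation.leibniz, hx, hy, smul_zero, smul_zero, add_zero]

theorem decomp (a : P R)
    (ha : a ∈ Algebra.adjoin R ({X 0 ^ 2, X 0 ^ 3, X 1 ^ 2, X 1 ^ 3} : Set (P R))) :
    ∃ α ∈ S₀ R, ∃ β ∈ S₀ R, ∃ γ ∈ S₀ R, ∃ δ ∈ S₀ R,
      a = α + β * X 0 ^ 3 + γ * X 1 ^ 3 + δ * (X 0 ^ 3 * X 1 ^ 3) := by
  have h0 : (0 : P R) ∈ S₀ R := (S₀ R).zero_mem
  have h1 : (1 : P R) ∈ S₀ R := (S₀ R).one_mem
  induction ha using Algebra.adjoin_induction with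
  | mem x hx =>
    simp only [Set.mem_insert_iff, Set.mem_singleton_iff] at hx
    rcases hx with rfl | rfl | rfl | rfl
    · exact ⟨_, u2_mem, 0, h0, 0, h0, 0, h0, by ring⟩
    · exact ⟨0, h0, 1, h1, 0, h0, 0, h0, by ring⟩
    · exact ⟨_, v2_mem, 0, h0, 0, h0, 0, h0, by ring⟩
    · exact ⟨0, h0, 0, h0, 1, h1, 0, h0, by ring⟩
  | algebraMap r =>
    exact ⟨_, (S₀ R).algebraMap_mem r, 0, h0, 0, h0, 0, h0, by ring⟩
  | add x y _ _ hx hy =>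
    obtain ⟨α, hα, β, hβ, γ, hγ, δ, hδ, rfl⟩ := hx
    obtain ⟨α', hα', β', hβ', γ', hγ', δ', hδ', rfl⟩ := hy
    exact ⟨α + α', (S₀ R).add_mem hα hα', β + β', (S₀ R).add_mem hβ hβ', γ + γ', (S₀ R).add_mem hγ hγ',
      δ + δ', (S₀ R).add_mem hδ hδ', by ring⟩
  | mul x y _ _ hx hy =>
    obtain ⟨α, hα, β, hβ, γ, hγ, δ, hδ, rfl⟩ := hx
    obtain ⟨α', hα', β', hβ', γ', hγ', δ', hδ', rfl⟩ := hy
    have hu6 : (X 0 ^ 2 : P R) ^ 3 ∈ S₀ R := (S₀ R).pow_mem u2_mem 3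
    have hv6 : (X 1 ^ 2 : P R) ^ 3 ∈ S₀ R := (S₀ R).pow_mem v2_mem 3
    have mm := fun {x y : P R} (hx : x ∈ S₀ R) (hy : y ∈ S₀ R) => (S₀ R).mul_mem hx hy
    have aa := fun {x y : P R} (hx : x ∈ S₀ R) (hy : y ∈ S₀ R) => (S₀ R).add_mem hx hy
    refine ⟨α * α' + β * β' * (X 0 ^ 2) ^ 3 + γ * γ' * (X 1 ^ 2) ^ 3 + δ * δ' * ((X 0 ^ 2) ^ 3 * (X 1 ^ 2) ^ 3), ?_,
      α * β' + β * α' + γ * δ' * (X 1 ^ 2) ^ 3 + δ * γ' * (X 1 ^ 2) ^ 3, ?_,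
      α * γ' + γ * α' + β * δ' * (X 0 ^ 2) ^ 3 + δ * β' * (X 0 ^ 2) ^ 3, ?_,
      α * δ' + δ * α' + β * γ' + γ * β', ?_, by ring⟩
    · exact aa (aa (aa (mm hα hα') (mm (mm hβ hβ') hu6)) (mm (mm hγ hγ') hv6)) (mm (mm hδ hδ') (mm hu6 hv6))
    · exact aa (aa (aa (mm hα hβ') (mm hβ hα')) (mm (mm hγ hδ') hv6)) (mm (mm hδ hγ') hv6)
    · exact aa (aa (aa (mm hα hγ') (mm hγ hα')) (mm (mm hβ hδ') hu6)) (mm (mm hδ hβ') hu6)
    · exact aa (aa (aa (mm hα hδ') (mm hδ hα')) (mm hβ hγ')) (mm hγ hβ')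

variable [CharP R 2]

theorem two_eq : (2 : P R) = 0 := CharTwo.two_eq_zero

theorem der_sq (D : Derivation R (P R) (P R)) (x : P R) : D (x ^ 2) = 0 := by
  rw [pow_two, Derivation.leibniz, smul_eq_mul, ← two_mul, two_eq, zero_mul]

theorem der_S₀ (D : Derivation R (P R) (P R)) (a : P R) (ha : a ∈ S₀ R) : D a = 0 := by
  apply der_adjoin_zero D _ _ a ha
  intro x hx
  simp only [Set.mem_insert_iff, Set.mem_singleton_iff] at hx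
  rcases hx with rfl | rfl <;> exact der_sq D _

theorem der_cube (D : Derivation R (P R) (P R)) (x : P R) : D (x ^ 3) = x ^ 2 * D x := by
  have : x ^ 3 = x ^ 2 * x := by ring
  rw [this, Derivation.leibniz, der_sq, smul_zero, add_zero, smul_eq_mul]

section Main

variable (l0 l2 l4 s0 s2 s4 τ : R)

noncomputable abbrev P₀ : P R := C l0 * X 0 ^ 4 + C l2 * X 0 ^ 2 + C l4
noncomputable abbrev Q₀ : P R := C s0 * X 1 ^ 4 + C s2 * X 1 ^ 2 + C s4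

noncomputable abbrev DD : Derivation R (P R) (P R) :=
  MvPolynomial.mkDerivation R
    (![X 1 ^ 2 * (C l0 * X 0 ^ 4 + C τ * X 0 ^ 3 + C l2 * X 0 ^ 2 + C l4),
      X 0 ^ 2 * (C s0 * X 1 ^ 4 + C τ * X 1 ^ 3 + C s2 * X 1 ^ 2 + C s4)] :
      Fin 2 → MvPolynomial (Fin 2) R)

omit [CharP R 2] in
theorem P₀_mem : P₀ l0 l2 l4 ∈ S₀ R := by
  have : P₀ l0 l2 l4 = C l0 * (X 0 ^ 2) ^ 2 + C l2 * X 0 ^ 2 + C l4 := by ring
  rw [this]
  exact (S₀ R).add_mem ((S₀ R).add_mem ((S₀ R).mul_mem (C_mem _) ((S₀ R).pow_mem u2_mem 2))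
    ((S₀ R).mul_mem (C_mem _) u2_mem)) (C_mem _)

omit [CharP R 2] in
theorem Q₀_mem : Q₀ s0 s2 s4 ∈ S₀ R := by
  have : Q₀ s0 s2 s4 = C s0 * (X 1 ^ 2) ^ 2 + C s2 * X 1 ^ 2 + C s4 := by ring
  rw [this]
  exact (S₀ R).add_mem ((S₀ R).add_mem ((S₀ R).mul_mem (C_mem _) ((S₀ R).pow_mem v2_mem 2))
    ((S₀ R).mul_mem (C_mem _) v2_mem)) (C_mem _)

omit [CharP R 2] in
theorem DD_u : DD l0 l2 l4 s0 s2 s4 τ (X 0) = X 1 ^ 2 * (P₀ l0 l2 l4 + C τ * X 0 ^ 3) := by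
  rw [DD, mkDerivation_X]
  show X 1 ^ 2 * (C l0 * X 0 ^ 4 + C τ * X 0 ^ 3 + C l2 * X 0 ^ 2 + C l4) = _
  ring

omit [CharP R 2] in
theorem DD_v : DD l0 l2 l4 s0 s2 s4 τ (X 1) = X 0 ^ 2 * (Q₀ s0 s2 s4 + C τ * X 1 ^ 3) := by
  rw [DD, mkDerivation_X]
  show X 0 ^ 2 * (C s0 * X 1 ^ 4 + C τ * X 1 ^ 3 + C s2 * X 1 ^ 2 + C s4) = _
  ring

theorem D_formula (α β γ δ : P R) (hα : α ∈ S₀ R) (hβ : β ∈ S₀ R) (hγ : γ ∈ S₀ R) (hδ : δ ∈ S₀ R) :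
    DD l0 l2 l4 s0 s2 s4 τ (α + β * X 0 ^ 3 + γ * X 1 ^ 3 + δ * (X 0 ^ 3 * X 1 ^ 3)) =
      X 0 ^ 2 * (X 1 ^ 2 * ((β * P₀ l0 l2 l4 + γ * Q₀ s0 s2 s4) + (β * C τ + δ * Q₀ s0 s2 s4) * X 0 ^ 3 +
        (γ * C τ + δ * P₀ l0 l2 l4) * X 1 ^ 3)) := by
  have e : DD l0 l2 l4 s0 s2 s4 τ (α + β * X 0 ^ 3 + γ * X 1 ^ 3 + δ * (X 0 ^ 3 * X 1 ^ 3)) =
      β * (X 0 ^ 2 * DD l0 l2 l4 s0 s2 s4 τ (X 0)) + γ * (X 1 ^ 2 * DD l0 l2 l4 s0 s2 s4 τ (X 1)) +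
        δ * (X 0 ^ 3 * (X 1 ^ 2 * DD l0 l2 l4 s0 s2 s4 τ (X 1)) +
          X 1 ^ 3 * (X 0 ^ 2 * DD l0 l2 l4 s0 s2 s4 τ (X 0))) := by
    simp only [map_add, Derivation.leibniz, der_cube, der_S₀ _ _ hα, der_S₀ _ _ hβ, der_S₀ _ _ hγ,
      der_S₀ _ _ hδ, smul_eq_mul, zero_add, mul_zero, add_zero]
  rw [e, DD_u, DD_v]
  linear_combination (δ * C τ * X 0 ^ 5 * X 1 ^ 5) * (two_eq (R := R))

theorem coeff_zero_of (c0 c1 c2 : P R) (h0 : c0 ∈ S₀ R) (h1 : c1 ∈ S₀ R) (h2 : c2 ∈ S₀ R)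
    (hE : c0 + c1 * X 0 ^ 3 + c2 * X 1 ^ 3 = 0) : c1 = 0 ∧ c2 = 0 := by
  constructor
  · have := congrArg (pderiv (0 : Fin 2)) hE
    simp only [map_add, Derivation.leibniz, der_cube, der_S₀ _ _ h0, der_S₀ _ _ h1, der_S₀ _ _ h2,
      smul_eq_mul, zero_add, pderiv_X_self, map_zero, mul_one] at this
    exact (isRegular_X_pow (R := R) (n := (0 : Fin 2)) 2).left (by
      show X 0 ^ 2 * c1 = X 0 ^ 2 * 0
      have hp : pderiv (0 : Fin 2) (X 1 : P R) = 0 := pderiv_X_of_ne (by decide)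
      linear_combination this - c2 * X 1 ^ 2 * hp)
  · have := congrArg (pderiv (1 : Fin 2)) hE
    simp only [map_add, Derivation.leibniz, der_cube, der_S₀ _ _ h0, der_S₀ _ _ h1, der_S₀ _ _ h2,
      smul_eq_mul, zero_add, pderiv_X_self, map_zero, mul_one] at this
    exact (isRegular_X_pow (R := R) (n := (1 : Fin 2)) 2).left (by
      show X 1 ^ 2 * c2 = X 1 ^ 2 * 0
      have hp : pderiv (1 : Fin 2) (X 0 : P R) = 0 := pderiv_X_of_ne (by decide)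
      linear_combination this - c1 * X 0 ^ 2 * hp)

theorem main (hτ : IsUnit τ) (a : P R)
    (ha : a ∈ Algebra.adjoin R ({X 0 ^ 2, X 0 ^ 3, X 1 ^ 2, X 1 ^ 3} : Set (P R))) :
    DD l0 l2 l4 s0 s2 s4 τ a = 0 ↔
      a ∈ Algebra.adjoin R
        ({X 0 ^ 2, X 1 ^ 2,
          (C s0 * X 1 ^ 4 + C s2 * X 1 ^ 2 + C s4) * X 0 ^ 3 +
            (C l0 * X 0 ^ 4 + C l2 * X 0 ^ 2 + C l4) * X 1 ^ 3 +
            C τ * X 0 ^ 3 * X 1 ^ 3} : Set (P R)) := by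
  set g : P R := (C s0 * X 1 ^ 4 + C s2 * X 1 ^ 2 + C s4) * X 0 ^ 3 +
            (C l0 * X 0 ^ 4 + C l2 * X 0 ^ 2 + C l4) * X 1 ^ 3 +
            C τ * X 0 ^ 3 * X 1 ^ 3 with hg
  have hgform : g = 0 + Q₀ s0 s2 s4 * X 0 ^ 3 + P₀ l0 l2 l4 * X 1 ^ 3 + C τ * (X 0 ^ 3 * X 1 ^ 3) := by
    rw [hg]; ring
  have hS₀T : S₀ R ≤ Algebra.adjoin R ({X 0 ^ 2, X 1 ^ 2, g} : Set (P R)) := by
    apply Algebra.adjoin_mono
    intro x hx
    simp only [Set.mem_insert_iff, Set.mem_singleton_iff] at hx ⊢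
    rcases hx with rfl | rfl
    · exact Or.inl rfl
    · exact Or.inr (Or.inl rfl)
  have hgT : g ∈ Algebra.adjoin R ({X 0 ^ 2, X 1 ^ 2, g} : Set (P R)) :=
    Algebra.subset_adjoin (by simp)
  constructor
  · intro hDa
    obtain ⟨α, hα, β, hβ, γ, hγ, δ, hδ, rfl⟩ := decomp a ha
    rw [D_formula l0 l2 l4 s0 s2 s4 τ α β γ δ hα hβ hγ hδ] at hDa
    have hE := (isRegular_X_pow (R := R) (n := (1 : Fin 2)) 2).left
      ((isRegular_X_pow (R := R) (n := (0 : Fin 2)) 2).left (by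
        show X 0 ^ 2 * _ = X 0 ^ 2 * (X 1 ^ 2 * 0)
        rw [hDa, mul_zero, mul_zero]))
    have mm := fun {x y : P R} (hx : x ∈ S₀ R) (hy : y ∈ S₀ R) => (S₀ R).mul_mem hx hy
    have aa := fun {x y : P R} (hx : x ∈ S₀ R) (hy : y ∈ S₀ R) => (S₀ R).add_mem hx hy
    obtain ⟨h1, h2⟩ := coeff_zero_of _ _ _
      (aa (mm hβ (P₀_mem l0 l2 l4)) (mm hγ (Q₀_mem s0 s2 s4)))
      (aa (mm hβ (C_mem τ)) (mm hδ (Q₀_mem s0 s2 s4)))
      (aa (mm hγ (C_mem τ)) (mm hδ (P₀_mem l0 l2 l4))) hE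
    obtain ⟨τu, rfl⟩ := hτ
    have hττ : (C (τu : R) : P R) * C ((τu⁻¹ : Rˣ) : R) = 1 := by
      rw [← C_mul, Units.mul_inv, C_1]
    have key : α + β * X 0 ^ 3 + γ * X 1 ^ 3 + δ * (X 0 ^ 3 * X 1 ^ 3) =
        α + (C ((τu⁻¹ : Rˣ) : R) * δ) * g := by
      rw [hgform]
      linear_combination (X 0 ^ 3 * C ((τu⁻¹ : Rˣ) : R)) * h1 + (X 1 ^ 3 * C ((τu⁻¹ : Rˣ) : R)) * h2 -
        (β * X 0 ^ 3 + γ * X 1 ^ 3 + δ * (X 0 ^ 3 * X 1 ^ 3)) * hττ -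
        (C ((τu⁻¹ : Rˣ) : R) * δ * (Q₀ s0 s2 s4 * X 0 ^ 3 + P₀ l0 l2 l4 * X 1 ^ 3)) * (two_eq (R := R))
    rw [key]
    refine Subalgebra.add_mem _ (hS₀T hα) (Subalgebra.mul_mem _ (Subalgebra.mul_mem _ ?_ (hS₀T hδ)) hgT)
    exact Subalgebra.algebraMap_mem _ _
  · intro haT
    apply der_adjoin_zero _ _ _ a haT
    intro x hx
    simp only [Set.mem_insert_iff, Set.mem_singleton_iff] at hx
    rcases hx with rfl | rfl | rfl
    · exact der_sq _ _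
    · exact der_sq _ _
    · rw [hgform, D_formula l0 l2 l4 s0 s2 s4 τ 0 _ _ _ (S₀ R).zero_mem (Q₀_mem s0 s2 s4) (P₀_mem l0 l2 l4)
        (C_mem τ)]
      linear_combination (X 0 ^ 2 * (X 1 ^ 2 * (Q₀ s0 s2 s4 * P₀ l0 l2 l4 + Q₀ s0 s2 s4 * C τ * X 0 ^ 3 +
        P₀ l0 l2 l4 * C τ * X 1 ^ 3))) * (two_eq (R := R))

end Main

end Groth.Agent.S13120aux

namespace Groth.Agent.S13120

open MvPolynomial in
/-- Let R be a commutative ring of characteristic 2 and l0, l2, l4, s0, s2, s4, τ ∈ R with τ a unit.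
Inside R[u, v] (u = X 0, v = X 1) let A = R[u², u³, v², v³] be the coordinate ring of the product of
two cuspidal curves, and let D be the R-derivation of R[u, v] with D(u) = v²(l0 u⁴ + τ u³ + l2 u² +
l4) and D(v) = u²(s0 v⁴ + τ v³ + s2 v² + s4); D is u²v² times the rational vector field (l0 u² + τ u
+ l2 + l4 u⁻²) ∂_u + (s0 v² + τ v + s2 + s4 v⁻²) ∂_v, which maps A into itself, and u²v² is a
non-zero-divisor, so the kernel of that vector field on A is the set of a ∈ A with D(a) = 0. Then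
for a ∈ A: D(a) = 0 if and only if a ∈ R[u², v², g], where g = (s0 v⁴ + s2 v² + s4) u³ + (l0 u⁴ + l2
u² + l4) v³ + τ u³ v³. (The published statement identifies this kernel with the ring of invariants
of the corresponding action of the group scheme of square roots of unity; this row states the kernel
computation that is actually carried out.) -/
theorem result (R : Type u) [CommRing R] [CharP R 2]
    (l0 l2 l4 s0 s2 s4 τ : R) (hτ : IsUnit τ) (a : MvPolynomial (Fin 2) R)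
    (ha : a ∈ Algebra.adjoin R
      ({X 0 ^ 2, X 0 ^ 3, X 1 ^ 2, X 1 ^ 3} : Set (MvPolynomial (Fin 2) R))) :
    MvPolynomial.mkDerivation R
        (![X 1 ^ 2 * (C l0 * X 0 ^ 4 + C τ * X 0 ^ 3 + C l2 * X 0 ^ 2 + C l4),
          X 0 ^ 2 * (C s0 * X 1 ^ 4 + C τ * X 1 ^ 3 + C s2 * X 1 ^ 2 + C s4)] :
          Fin 2 → MvPolynomial (Fin 2) R) a = 0 ↔
      a ∈ Algebra.adjoin R
        ({X 0 ^ 2, X 1 ^ 2,
          (C s0 * X 1 ^ 4 + C s2 * X 1 ^ 2 + C s4) * X 0 ^ 3 +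
            (C l0 * X 0 ^ 4 + C l2 * X 0 ^ 2 + C l4) * X 1 ^ 3 +
            C τ * X 0 ^ 3 * X 1 ^ 3} : Set (MvPolynomial (Fin 2) R)) := by
  exact Groth.Agent.S13120aux.main l0 l2 l4 s0 s2 s4 τ hτ a ha

end Groth.Agent.S13120
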