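import Groth.Statements.S13121
import Mathlib
import Groth.Agent.Lib.helper27.KumFam

set_option autoImplicit false
universe u
open KumFam

namespace Groth.Agent.S13121aux
open MvPolynomial H27KumFam

variable {R : Type u} [CommRing R] [CharP R 2]

theorem main (l0 l2 l4 s0 s2 s4 τ : R) (hτ : IsUnit τ) :
    RingHom.ker (MvPolynomial.aeval (R := R) (S₁ := MvPolynomial (Fin 2) R)
        ![X 0 ^ 2, X 1 ^ 2,
          (C s0 * X 1 ^ 4 + C s2 * X 1 ^ 2 + C s4) * X 0 ^ 3 +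
            (C l0 * X 0 ^ 4 + C l2 * X 0 ^ 2 + C l4) * X 1 ^ 3 +
            C τ * X 0 ^ 3 * X 1 ^ 3]) =
      Ideal.span {(X 2 ^ 2 + C (s0 ^ 2) * X 0 ^ 3 * X 1 ^ 4 + C (s2 ^ 2) * X 0 ^ 3 * X 1 ^ 2 +
        C (s4 ^ 2) * X 0 ^ 3 + C (l0 ^ 2) * X 0 ^ 4 * X 1 ^ 3 + C (l2 ^ 2) * X 0 ^ 2 * X 1 ^ 3 +
        C (l4 ^ 2) * X 1 ^ 3 + C (τ ^ 2) * X 0 ^ 3 * X 1 ^ 3 : MvPolynomial (Fin 3) R)} := by
  set g : P R := (C s0 * X 1 ^ 4 + C s2 * X 1 ^ 2 + C s4) * X 0 ^ 3 +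
            (C l0 * X 0 ^ 4 + C l2 * X 0 ^ 2 + C l4) * X 1 ^ 3 +
            C τ * X 0 ^ 3 * X 1 ^ 3 with hg
  set G : P R := C (s0 ^ 2) * X 0 ^ 3 * X 1 ^ 4 + C (s2 ^ 2) * X 0 ^ 3 * X 1 ^ 2 +
        C (s4 ^ 2) * X 0 ^ 3 + C (l0 ^ 2) * X 0 ^ 4 * X 1 ^ 3 + C (l2 ^ 2) * X 0 ^ 2 * X 1 ^ 3 +
        C (l4 ^ 2) * X 1 ^ 3 + C (τ ^ 2) * X 0 ^ 3 * X 1 ^ 3 with hG
  have hgen : (X 2 ^ 2 + C (s0 ^ 2) * X 0 ^ 3 * X 1 ^ 4 + C (s2 ^ 2) * X 0 ^ 3 * X 1 ^ 2 +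
        C (s4 ^ 2) * X 0 ^ 3 + C (l0 ^ 2) * X 0 ^ 4 * X 1 ^ 3 + C (l2 ^ 2) * X 0 ^ 2 * X 1 ^ 3 +
        C (l4 ^ 2) * X 1 ^ 3 + C (τ ^ 2) * X 0 ^ 3 * X 1 ^ 3 : MvPolynomial (Fin 3) R) = X 2 ^ 2 + ρ R G := by
    rw [hG]
    simp only [map_add, map_mul, map_pow, ρ_X0, ρ_X1, ρ_C]
    ring
  rw [hgen]
  have e1 : g ^ 2 = expand 2 G := by
    rw [hg, hG]
    simp only [CharTwo.add_sq, mul_pow, map_add, map_mul, map_pow, expand_C, expand_X, C_pow]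
    ring
  have hw : g ^ 2 + expand 2 G = 0 := by
    rw [e1, ← two_mul, two_eq, zero_mul]
  refine ker_eq g G hw ?_
  intro f₀ f₁ h
  have hform : expand 2 f₀ + expand 2 f₁ * g =
      expand 2 f₀ + (expand 2 f₁ * (C s0 * X 1 ^ 4 + C s2 * X 1 ^ 2 + C s4)) * X 0 ^ 3 +
        (expand 2 f₁ * (C l0 * X 0 ^ 4 + C l2 * X 0 ^ 2 + C l4)) * X 1 ^ 3 +
        (expand 2 f₁ * C τ) * (X 0 ^ 3 * X 1 ^ 3) := by
    rw [hg]; ring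
  rw [hform] at h
  have hδ := indep_cusp _ _ _ _ (expand_mem f₀)
    ((S₀ R).mul_mem (expand_mem f₁) (quartic_mem s0 s2 s4 1))
    ((S₀ R).mul_mem (expand_mem f₁) (quartic_mem l0 l2 l4 0))
    ((S₀ R).mul_mem (expand_mem f₁) (C_mem τ)) h
  have := eq_zero_of_mul_C_unit τ hτ _ hδ
  exact (expand_eq_zero (by norm_num)).1 this

end Groth.Agent.S13121aux

namespace Groth.Agent.S13121

open MvPolynomial in
/-- Let R be a commutative ring of characteristic 2 and l0, l2, l4, s0, s2, s4, τ ∈ R with τ a unit. In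
R[u, v] (u = X 0, v = X 1) put g = (s0 v⁴ + s2 v² + s4) u³ + (l0 u⁴ + l2 u² + l4) v³ + τ u³ v³. Then
the kernel of the R-algebra homomorphism R[a, b, c] → R[u, v] (a = X 0, b = X 1, c = X 2) with a ↦
u², b ↦ v², c ↦ g is the ideal generated by c² + s0² a³ b⁴ + s2² a³ b² + s4² a³ + l0² a⁴ b³ + l2² a²
b³ + l4² b³ + τ² a³ b³; its image is the subalgebra R[u², v², g], which is therefore presented by
this one equation. -/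
theorem result (R : Type u) [CommRing R] [CharP R 2]
    (l0 l2 l4 s0 s2 s4 τ : R) (hτ : IsUnit τ) :
    RingHom.ker (MvPolynomial.aeval (R := R) (S₁ := MvPolynomial (Fin 2) R)
        ![X 0 ^ 2, X 1 ^ 2,
          (C s0 * X 1 ^ 4 + C s2 * X 1 ^ 2 + C s4) * X 0 ^ 3 +
            (C l0 * X 0 ^ 4 + C l2 * X 0 ^ 2 + C l4) * X 1 ^ 3 +
            C τ * X 0 ^ 3 * X 1 ^ 3]) =
      Ideal.span {(X 2 ^ 2 + C (s0 ^ 2) * X 0 ^ 3 * X 1 ^ 4 + C (s2 ^ 2) * X 0 ^ 3 * X 1 ^ 2 +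
        C (s4 ^ 2) * X 0 ^ 3 + C (l0 ^ 2) * X 0 ^ 4 * X 1 ^ 3 + C (l2 ^ 2) * X 0 ^ 2 * X 1 ^ 3 +
        C (l4 ^ 2) * X 1 ^ 3 + C (τ ^ 2) * X 0 ^ 3 * X 1 ^ 3 : MvPolynomial (Fin 3) R)} := by
  exact Groth.Agent.S13121aux.main l0 l2 l4 s0 s2 s4 τ hτ

end Groth.Agent.S13121
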