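import Groth.Statements.S13122
import Mathlib
import Groth.Agent.Lib.helper27.KumFam

set_option autoImplicit false
universe u
open KumFam

namespace Groth.Agent.S13122aux
open MvPolynomial H27KumFam

variable {R : Type u} [CommRing R]

theorem decomp (p : P R) :
    ∃ α ∈ S₀ R, ∃ β ∈ S₀ R, ∃ γ ∈ S₀ R, ∃ δ ∈ S₀ R,
      p = α + β * X 0 + γ * X 1 + δ * (X 0 * X 1) := by
  have h0 : (0 : P R) ∈ S₀ R := (S₀ R).zero_mem
  have mm := fun {x y : P R} (hx : x ∈ S₀ R) (hy : y ∈ S₀ R) => (S₀ R).mul_mem hx hy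
  induction p using MvPolynomial.induction_on with
  | C a => exact ⟨_, C_mem a, 0, h0, 0, h0, 0, h0, by ring⟩
  | add p q hp hq =>
    obtain ⟨α, hα, β, hβ, γ, hγ, δ, hδ, rfl⟩ := hp
    obtain ⟨α', hα', β', hβ', γ', hγ', δ', hδ', rfl⟩ := hq
    exact ⟨α + α', (S₀ R).add_mem hα hα', β + β', (S₀ R).add_mem hβ hβ', γ + γ', (S₀ R).add_mem hγ hγ',
      δ + δ', (S₀ R).add_mem hδ hδ', by ring⟩
  | mul_X p i hp =>
    obtain ⟨α, hα, β, hβ, γ, hγ, δ, hδ, rfl⟩ := hp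
    fin_cases i
    · exact ⟨β * X 0 ^ 2, mm hβ u2_mem, α, hα, δ * X 0 ^ 2, mm hδ u2_mem, γ, hγ, by
        show (α + β * X 0 + γ * X 1 + δ * (X 0 * X 1)) * X 0 = _
        ring⟩
    · exact ⟨γ * X 1 ^ 2, mm hγ v2_mem, δ * X 1 ^ 2, mm hδ v2_mem, α, hα, β, hβ, by
        show (α + β * X 0 + γ * X 1 + δ * (X 0 * X 1)) * X 1 = _
        ring⟩

variable [CharP R 2]

section Main

variable (l0 l2 l4 s0 s2 s4 τ : R)

noncomputable abbrev P' : P R := C l4 * X 0 ^ 4 + C l2 * X 0 ^ 2 + C l0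
noncomputable abbrev Q' : P R := C s4 * X 1 ^ 4 + C s2 * X 1 ^ 2 + C s0

noncomputable abbrev DD : Derivation R (P R) (P R) :=
  MvPolynomial.mkDerivation R
    (![C l4 * X 0 ^ 4 + C l2 * X 0 ^ 2 + C τ * X 0 + C l0,
       C s4 * X 1 ^ 4 + C s2 * X 1 ^ 2 + C τ * X 1 + C s0] : Fin 2 → MvPolynomial (Fin 2) R)

noncomputable abbrev hh : P R :=
  (C s4 * X 1 ^ 4 + C s2 * X 1 ^ 2 + C s0) * X 0 +
    (C l4 * X 0 ^ 4 + C l2 * X 0 ^ 2 + C l0) * X 1 + C τ * X 0 * X 1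

omit [CharP R 2] in
theorem DD_x : DD l0 l2 l4 s0 s2 s4 τ (X 0) = P' l0 l2 l4 + C τ * X 0 := by
  rw [DD, mkDerivation_X]
  show C l4 * X 0 ^ 4 + C l2 * X 0 ^ 2 + C τ * X 0 + C l0 = _
  ring

omit [CharP R 2] in
theorem DD_y : DD l0 l2 l4 s0 s2 s4 τ (X 1) = Q' s0 s2 s4 + C τ * X 1 := by
  rw [DD, mkDerivation_X]
  show C s4 * X 1 ^ 4 + C s2 * X 1 ^ 2 + C τ * X 1 + C s0 = _
  ring

omit [CharP R 2] in
theorem P'_mem : P' l0 l2 l4 ∈ S₀ R := quartic_mem l4 l2 l0 0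
omit [CharP R 2] in
theorem Q'_mem : Q' s0 s2 s4 ∈ S₀ R := quartic_mem s4 s2 s0 1

theorem D_formula (α β γ δ : P R) (hα : α ∈ S₀ R) (hβ : β ∈ S₀ R) (hγ : γ ∈ S₀ R) (hδ : δ ∈ S₀ R) :
    DD l0 l2 l4 s0 s2 s4 τ (α + β * X 0 + γ * X 1 + δ * (X 0 * X 1)) =
      (β * P' l0 l2 l4 + γ * Q' s0 s2 s4) + (β * C τ + δ * Q' s0 s2 s4) * X 0 +
        (γ * C τ + δ * P' l0 l2 l4) * X 1 := by
  have e : DD l0 l2 l4 s0 s2 s4 τ (α + β * X 0 + γ * X 1 + δ * (X 0 * X 1)) =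
      β * DD l0 l2 l4 s0 s2 s4 τ (X 0) + γ * DD l0 l2 l4 s0 s2 s4 τ (X 1) +
        δ * (X 0 * DD l0 l2 l4 s0 s2 s4 τ (X 1) + X 1 * DD l0 l2 l4 s0 s2 s4 τ (X 0)) := by
    simp only [map_add, Derivation.leibniz, der_S₀ _ _ hα, der_S₀ _ _ hβ, der_S₀ _ _ hγ,
      der_S₀ _ _ hδ, smul_eq_mul, zero_add, mul_zero, add_zero]
  rw [e, DD_x, DD_y]
  linear_combination (δ * C τ * X 0 * X 1) * (two_eq (R := R))

theorem coeff_zero_of (c0 c1 c2 : P R) (h0 : c0 ∈ S₀ R) (h1 : c1 ∈ S₀ R) (h2 : c2 ∈ S₀ R)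
    (hE : c0 + c1 * X 0 + c2 * X 1 = 0) : c1 = 0 ∧ c2 = 0 := by
  constructor
  · have := congrArg (pderiv (0 : Fin 2)) hE
    simp only [map_add, Derivation.leibniz, der_S₀ _ _ h0, der_S₀ _ _ h1, der_S₀ _ _ h2,
      smul_eq_mul, zero_add, mul_zero, add_zero, pderiv_X_self, map_zero, mul_one, pd01] at this
    exact this
  · have := congrArg (pderiv (1 : Fin 2)) hE
    simp only [map_add, Derivation.leibniz, der_S₀ _ _ h0, der_S₀ _ _ h1, der_S₀ _ _ h2,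
      smul_eq_mul, zero_add, mul_zero, add_zero, pderiv_X_self, map_zero, mul_one, pd10] at this
    exact this

theorem hh_form : hh l0 l2 l4 s0 s2 s4 τ =
    0 + Q' s0 s2 s4 * X 0 + P' l0 l2 l4 * X 1 + C τ * (X 0 * X 1) := by
  ring

theorem DD_hh : DD l0 l2 l4 s0 s2 s4 τ (hh l0 l2 l4 s0 s2 s4 τ) = 0 := by
  rw [hh_form, D_formula l0 l2 l4 s0 s2 s4 τ 0 _ _ _ (S₀ R).zero_mem (Q'_mem s0 s2 s4) (P'_mem l0 l2 l4)
    (C_mem τ)]
  linear_combination (Q' s0 s2 s4 * P' l0 l2 l4 + Q' s0 s2 s4 * C τ * X 0 +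
    P' l0 l2 l4 * C τ * X 1) * (two_eq (R := R))

theorem part1 (hτ : IsUnit τ) (p : P R) :
    DD l0 l2 l4 s0 s2 s4 τ p = 0 ↔ p ∈ (φ (hh l0 l2 l4 s0 s2 s4 τ)).range := by
  have hS₀ : S₀ R ≤ (φ (hh l0 l2 l4 s0 s2 s4 τ)).range := by
    apply Algebra.adjoin_le
    intro x hx
    simp only [Set.mem_insert_iff, Set.mem_singleton_iff] at hx
    rcases hx with rfl | rfl
    · exact ⟨X 0, by simp [φ]⟩
    · exact ⟨X 1, by simp [φ]⟩
  have hhr : hh l0 l2 l4 s0 s2 s4 τ ∈ (φ (hh l0 l2 l4 s0 s2 s4 τ)).range := ⟨X 2, φ_X2 _⟩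
  constructor
  · intro hD
    obtain ⟨α, hα, β, hβ, γ, hγ, δ, hδ, rfl⟩ := decomp p
    rw [D_formula l0 l2 l4 s0 s2 s4 τ α β γ δ hα hβ hγ hδ] at hD
    have mm := fun {x y : P R} (hx : x ∈ S₀ R) (hy : y ∈ S₀ R) => (S₀ R).mul_mem hx hy
    have aa := fun {x y : P R} (hx : x ∈ S₀ R) (hy : y ∈ S₀ R) => (S₀ R).add_mem hx hy
    obtain ⟨h1, h2⟩ := coeff_zero_of _ _ _
      (aa (mm hβ (P'_mem l0 l2 l4)) (mm hγ (Q'_mem s0 s2 s4)))
      (aa (mm hβ (C_mem τ)) (mm hδ (Q'_mem s0 s2 s4)))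
      (aa (mm hγ (C_mem τ)) (mm hδ (P'_mem l0 l2 l4))) hD
    obtain ⟨τu, rfl⟩ := hτ
    have hττ : (C (τu : R) : P R) * C ((τu⁻¹ : Rˣ) : R) = 1 := by
      rw [← C_mul, Units.mul_inv, C_1]
    have key : α + β * X 0 + γ * X 1 + δ * (X 0 * X 1) =
        α + (C ((τu⁻¹ : Rˣ) : R) * δ) * hh l0 l2 l4 s0 s2 s4 (τu : R) := by
      rw [hh_form]
      linear_combination (X 0 * C ((τu⁻¹ : Rˣ) : R)) * h1 + (X 1 * C ((τu⁻¹ : Rˣ) : R)) * h2 -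
        (β * X 0 + γ * X 1 + δ * (X 0 * X 1)) * hττ -
        (C ((τu⁻¹ : Rˣ) : R) * δ * (Q' s0 s2 s4 * X 0 + P' l0 l2 l4 * X 1)) * (two_eq (R := R))
    rw [key]
    refine Subalgebra.add_mem _ (hS₀ hα) (Subalgebra.mul_mem _ (Subalgebra.mul_mem _ ?_ (hS₀ hδ)) hhr)
    exact Subalgebra.algebraMap_mem _ _
  · rintro ⟨f, rfl⟩
    induction f using MvPolynomial.induction_on with
    | C a =>
      show DD l0 l2 l4 s0 s2 s4 τ (φ _ (C a)) = 0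
      rw [← MvPolynomial.algebraMap_eq, AlgHom.commutes, Derivation.map_algebraMap]
    | add p q hp hq =>
      show DD l0 l2 l4 s0 s2 s4 τ (φ _ (p + q)) = 0
      rw [map_add, map_add]
      rw [show DD l0 l2 l4 s0 s2 s4 τ (φ _ p) = 0 from hp, show DD l0 l2 l4 s0 s2 s4 τ (φ _ q) = 0 from hq,
        add_zero]
    | mul_X p i hp =>
      show DD l0 l2 l4 s0 s2 s4 τ (φ _ (p * X i)) = 0
      rw [map_mul, Derivation.leibniz, show DD l0 l2 l4 s0 s2 s4 τ (φ _ p) = 0 from hp, smul_zero, add_zero]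
      have : DD l0 l2 l4 s0 s2 s4 τ (φ (hh l0 l2 l4 s0 s2 s4 τ) (X i)) = 0 := by
        fin_cases i
        · have : φ (hh l0 l2 l4 s0 s2 s4 τ) (X 0) = X 0 ^ 2 := by simp [φ]
          show DD l0 l2 l4 s0 s2 s4 τ (φ _ (X 0)) = 0
          rw [this]; exact der_sq _ _
        · have : φ (hh l0 l2 l4 s0 s2 s4 τ) (X 1) = X 1 ^ 2 := by simp [φ]
          show DD l0 l2 l4 s0 s2 s4 τ (φ _ (X 1)) = 0
          rw [this]; exact der_sq _ _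
        · show DD l0 l2 l4 s0 s2 s4 τ (φ _ (X 2)) = 0
          rw [φ_X2]; exact DD_hh l0 l2 l4 s0 s2 s4 τ
      rw [this, smul_zero]

theorem part2 (hτ : IsUnit τ) :
    RingHom.ker (φ (hh l0 l2 l4 s0 s2 s4 τ)) =
      Ideal.span {(X 2 ^ 2 + C (τ ^ 2) * X 0 * X 1 +
        (C (s4 ^ 2) * X 1 ^ 4 + C (s2 ^ 2) * X 1 ^ 2 + C (s0 ^ 2)) * X 0 +
        (C (l4 ^ 2) * X 0 ^ 4 + C (l2 ^ 2) * X 0 ^ 2 + C (l0 ^ 2)) * X 1 : MvPolynomial (Fin 3) R)} := by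
  set G : P R := C (τ ^ 2) * X 0 * X 1 +
        (C (s4 ^ 2) * X 1 ^ 4 + C (s2 ^ 2) * X 1 ^ 2 + C (s0 ^ 2)) * X 0 +
        (C (l4 ^ 2) * X 0 ^ 4 + C (l2 ^ 2) * X 0 ^ 2 + C (l0 ^ 2)) * X 1 with hG
  have hgen : (X 2 ^ 2 + C (τ ^ 2) * X 0 * X 1 +
        (C (s4 ^ 2) * X 1 ^ 4 + C (s2 ^ 2) * X 1 ^ 2 + C (s0 ^ 2)) * X 0 +
        (C (l4 ^ 2) * X 0 ^ 4 + C (l2 ^ 2) * X 0 ^ 2 + C (l0 ^ 2)) * X 1 : MvPolynomial (Fin 3) R) =
        X 2 ^ 2 + ρ R G := by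
    rw [hG]
    simp only [map_add, map_mul, map_pow, ρ_X0, ρ_X1, ρ_C]
    ring
  rw [hgen]
  have e1 : (hh l0 l2 l4 s0 s2 s4 τ) ^ 2 = expand 2 G := by
    rw [hG]
    simp only [hh, CharTwo.add_sq, mul_pow, map_add, map_mul, map_pow, expand_C, expand_X]
    ring
  have hw : (hh l0 l2 l4 s0 s2 s4 τ) ^ 2 + expand 2 G = 0 := by
    rw [e1, ← two_mul, two_eq, zero_mul]
  refine ker_eq _ G hw ?_
  intro f₀ f₁ h
  have hform : expand 2 f₀ + expand 2 f₁ * hh l0 l2 l4 s0 s2 s4 τ =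
      expand 2 f₀ + (expand 2 f₁ * Q' s0 s2 s4) * X 0 +
        (expand 2 f₁ * P' l0 l2 l4) * X 1 +
        (expand 2 f₁ * C τ) * (X 0 * X 1) := by
    ring
  rw [hform] at h
  have hδ := indep_smooth _ _ _ _ (expand_mem f₀)
    ((S₀ R).mul_mem (expand_mem f₁) (Q'_mem s0 s2 s4))
    ((S₀ R).mul_mem (expand_mem f₁) (P'_mem l0 l2 l4))
    ((S₀ R).mul_mem (expand_mem f₁) (C_mem τ)) h
  have := eq_zero_of_mul_C_unit τ hτ _ hδ
  exact (expand_eq_zero (by norm_num)).1 this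

end Main

end Groth.Agent.S13122aux

namespace Groth.Agent.S13122

open MvPolynomial in
/-- Let R be a commutative ring of characteristic 2 and l0, l2, l4, s0, s2, s4, τ ∈ R with τ a unit. On
R[x, y] (x = X 0, y = X 1; the coordinates u⁻¹, v⁻¹ of the smooth chart of the product of two
cuspidal curves) let D be the R-derivation with D(x) = l4 x⁴ + l2 x² + τ x + l0 and D(y) = s4 y⁴ +
s2 y² + τ y + s0, and put h = (s4 y⁴ + s2 y² + s0) x + (l4 x⁴ + l2 x² + l0) y + τ x y. Then: (1) for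
p ∈ R[x, y], D(p) = 0 if and only if p lies in the image of the R-algebra homomorphism R[a, b, c] →
R[x, y] (a = X 0, b = X 1, c = X 2) with a ↦ x², b ↦ y², c ↦ h; (2) the kernel of that homomorphism
is the ideal generated by c² + τ² a b + (s4² b⁴ + s2² b² + s0²) a + (l4² a⁴ + l2² a² + l0²) b. (The
published statement asserts that the ring of invariants of the action of the group scheme of square
roots of unity given by this vector field is R[a, b, c] modulo this equation, by the same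
computation as on the other chart; this row pins the generator h and states the kernel computation.) -/
theorem result (R : Type u) [CommRing R]
    [CharP R 2] (l0 l2 l4 s0 s2 s4 τ : R) (hτ : IsUnit τ) :
    (∀ p : MvPolynomial (Fin 2) R,
      MvPolynomial.mkDerivation R
          (![C l4 * X 0 ^ 4 + C l2 * X 0 ^ 2 + C τ * X 0 + C l0,
            C s4 * X 1 ^ 4 + C s2 * X 1 ^ 2 + C τ * X 1 + C s0] :
            Fin 2 → MvPolynomial (Fin 2) R) p = 0 ↔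
        p ∈ (MvPolynomial.aeval (R := R) (S₁ := MvPolynomial (Fin 2) R)
          ![X 0 ^ 2, X 1 ^ 2,
            (C s4 * X 1 ^ 4 + C s2 * X 1 ^ 2 + C s0) * X 0 +
              (C l4 * X 0 ^ 4 + C l2 * X 0 ^ 2 + C l0) * X 1 + C τ * X 0 * X 1]).range) ∧
    RingHom.ker (MvPolynomial.aeval (R := R) (S₁ := MvPolynomial (Fin 2) R)
        ![X 0 ^ 2, X 1 ^ 2,
          (C s4 * X 1 ^ 4 + C s2 * X 1 ^ 2 + C s0) * X 0 +
            (C l4 * X 0 ^ 4 + C l2 * X 0 ^ 2 + C l0) * X 1 + C τ * X 0 * X 1]) =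
      Ideal.span {(X 2 ^ 2 + C (τ ^ 2) * X 0 * X 1 +
        (C (s4 ^ 2) * X 1 ^ 4 + C (s2 ^ 2) * X 1 ^ 2 + C (s0 ^ 2)) * X 0 +
        (C (l4 ^ 2) * X 0 ^ 4 + C (l2 ^ 2) * X 0 ^ 2 + C (l0 ^ 2)) * X 1 : MvPolynomial (Fin 3) R)} := by
  exact ⟨fun p => Groth.Agent.S13122aux.part1 l0 l2 l4 s0 s2 s4 τ hτ p,
    Groth.Agent.S13122aux.part2 l0 l2 l4 s0 s2 s4 τ hτ⟩

end Groth.Agent.S13122
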