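import Groth.Statements.S13124
import Mathlib.RingTheory.IntegralClosure.IntegrallyClosed
import Mathlib.RingTheory.Flat.Basic
import Mathlib.RingTheory.Localization.FractionRing
import Mathlib.Tactic

set_option autoImplicit false
universe u v w
open KumFam

namespace Groth.Agent.S13124

/-- Let k be a commutative ring, A a commutative k-bialgebra that is flat over k, and R a commutative
k-algebra which is an integrally closed domain, with a coaction R → R ⊗ A that is an algebra
homomorphism. Then the ring of invariants (the elements f with coaction f ⊗ 1) is an integrally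
closed domain. (The published statement is for a finite group scheme acting on a normal scheme whose
quotient is, locally, the spectrum of the ring of invariants; this row is the affine integral case
and allows any commutative bialgebra flat over k, flatness being automatic over a field.) -/
theorem result (k : Type u) [CommRing k]
    (A : Type v) [CommRing A] [Bialgebra k A] [Module.Flat k A]
    (R : Type w) [CommRing R] [Algebra k R] [IsDomain R] [IsIntegrallyClosed R]
    [HopfRep.Comod k A R] [GLin.IsCoactAlg k A R] :
    IsIntegrallyClosed (GLin.invariants k A R) := by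
  classical
  set S := GLin.invariants k A R with hS
  have key : ∀ (b : R), b ∈ S → b ≠ 0 → ∀ r : R, b * r ∈ S → r ∈ S := by
    intro b hb hb0 r hbr
    rw [GLin.mem_invariants_iff] at hb hbr ⊢
    rw [GLin.IsCoactAlg.coact_mul, hb] at hbr
    have hinj : Function.Injective ((LinearMap.mulLeft k b).rTensor A) :=
      Module.Flat.rTensor_preserves_injective_linearMap _ (mul_right_injective₀ hb0)
    apply hinj
    have hmul : ∀ t : TensorProduct k R A, (LinearMap.mulLeft k b).rTensor A t = (b ⊗ₜ[k] (1 : A)) * t := by
      intro t
      induction t using TensorProduct.induction_on with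
      | zero => simp
      | add x y hx hy => rw [map_add, hx, hy, mul_add]
      | tmul x y => simp [Algebra.TensorProduct.tmul_mul_tmul]
    rw [hmul, hmul, hbr, Algebra.TensorProduct.tmul_mul_tmul, one_mul]
  rw [isIntegrallyClosed_iff (FractionRing S)]
  intro x hx
  let L := FractionRing R
  have hinjSL : Function.Injective ((algebraMap R L).comp (S.val : S →+* R)) :=
    (IsFractionRing.injective R L).comp Subtype.val_injective
  let ψ : FractionRing S →+* L := IsFractionRing.lift hinjSL
  have hψ : ∀ s : S, ψ (algebraMap S (FractionRing S) s) = algebraMap R L (s : R) := by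
    intro s
    exact IsFractionRing.lift_algebraMap hinjSL s
  have hint : IsIntegral R (ψ x) := by
    refine IsIntegral.map_of_comp_eq (S.val : S →+* R) ψ ?_ hx
    ext s
    simp only [RingHom.comp_apply]
    rw [hψ]
    rfl
  obtain ⟨r, hr⟩ := (isIntegrallyClosed_iff L).1 inferInstance hint
  obtain ⟨a, b, hb, rfl⟩ := IsFractionRing.div_surjective (A := S) x
  have hb0 : (b : R) ≠ 0 := by
    intro h
    have : b = 0 := Subtype.ext h
    rw [this] at hb
    exact zero_notMem_nonZeroDivisors hb
  have hbL : algebraMap R L (b : R) ≠ 0 := by
    intro h
    exact hb0 ((IsFractionRing.injective R L) (by rw [h, map_zero]))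
  have hbr : (b : R) * r = a := by
    apply IsFractionRing.injective R L
    rw [map_mul, hr, map_div₀, hψ, hψ, mul_div_cancel₀ _ hbL]
  have hrS : r ∈ S := key b b.2 hb0 r (by rw [hbr]; exact a.2)
  refine ⟨⟨r, hrS⟩, ?_⟩
  have hbK : algebraMap S (FractionRing S) b ≠ 0 := by
    intro h
    have := (IsFractionRing.injective S (FractionRing S)) (by rw [h, map_zero] : algebraMap S (FractionRing S) b = algebraMap S (FractionRing S) 0)
    rw [this] at hb
    exact zero_notMem_nonZeroDivisors hb
  rw [eq_div_iff hbK, ← map_mul]
  congr 1
  apply Subtype.ext
  simp only [Subalgebra.coe_mul]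
  rw [mul_comm]; exact hbr

end Groth.Agent.S13124
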