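import Groth.Statements.S13125
import Mathlib

set_option autoImplicit false
universe u v
open KumFam

namespace Groth.Agent.S13125

section aux
variable {ι : Type u} [DecidableEq ι] [AddMonoid ι]
    {A : Type v} [CommRing A] (𝒜 : ι → AddSubgroup A) [GradedRing 𝒜] (I : Ideal A)

/-- the image grading -/
def imgGrading (i : ι) : AddSubgroup (A ⧸ I) :=
  (𝒜 i).map (Ideal.Quotient.mk I : A →+ A ⧸ I)

/-- component maps -/
def compMap (i : ι) : ↥(𝒜 i) →+ ↥(imgGrading 𝒜 I i) where
  toFun a := ⟨Ideal.Quotient.mk I (a : A), ⟨a, a.2, rfl⟩⟩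
  map_zero' := Subtype.ext (map_zero _)
  map_add' a b := Subtype.ext (map_add _ _ _)

theorem coe_map_eq (x : DirectSum ι fun i => ↥(𝒜 i)) :
    DirectSum.coeAddMonoidHom (imgGrading 𝒜 I) (DirectSum.map (compMap 𝒜 I) x) =
      Ideal.Quotient.mk I (DirectSum.coeAddMonoidHom 𝒜 x) := by
  induction x using DirectSum.induction_on with
  | zero => simp
  | of i a =>
    rw [DirectSum.map_of, DirectSum.coeAddMonoidHom_of, DirectSum.coeAddMonoidHom_of]
    rfl
  | add x y hx hy => rw [map_add, map_add, map_add, map_add, hx, hy]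

end aux

/-- Let A be a commutative ring graded by an additive monoid ι (an abelian group in the published
statement) through additive subgroups 𝒜 i, and I an ideal of A. Then I is a homogeneous ideal if and
only if A/I carries a structure of ι-graded ring ℬ for which the quotient map sends 𝒜 i into ℬ i for
all i. -/
theorem result (ι : Type u) [DecidableEq ι] [AddMonoid ι]
    (A : Type v) [CommRing A] (𝒜 : ι → AddSubgroup A) [GradedRing 𝒜] (I : Ideal A) :
    I.IsHomogeneous 𝒜 ↔
      ∃ ℬ : ι → AddSubgroup (A ⧸ I), Nonempty (GradedRing ℬ) ∧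
        ∀ i : ι, (𝒜 i).map (Ideal.Quotient.mk I : A →+ A ⧸ I) ≤ ℬ i := by
  constructor
  · intro hI
    refine ⟨imgGrading 𝒜 I, ?_, fun i => le_rfl⟩
    -- graded monoid structure
    haveI hGM : SetLike.GradedMonoid (imgGrading 𝒜 I) :=
      { one_mem := ⟨1, SetLike.GradedOne.one_mem, map_one (Ideal.Quotient.mk I)⟩
        mul_mem := by
          rintro i j _ _ ⟨a, ha, rfl⟩ ⟨b, hb, rfl⟩
          exact ⟨a * b, SetLike.GradedMul.mul_mem ha hb, map_mul (Ideal.Quotient.mk I) a b⟩ }
    let φ : A →+ DirectSum ι fun i => ↥(imgGrading 𝒜 I i) :=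
      (DirectSum.map (compMap 𝒜 I)).comp (DirectSum.decomposeAddEquiv 𝒜).toAddMonoidHom
    have hφ : I.toAddSubgroup ≤ φ.ker := by
      intro x hx
      rw [AddMonoidHom.mem_ker]
      change DirectSum.map (compMap 𝒜 I) (DirectSum.decompose 𝒜 x) = 0
      apply DFinsupp.ext
      intro i
      rw [DirectSum.map_apply]
      apply Subtype.ext
      change Ideal.Quotient.mk I ((DirectSum.decompose 𝒜 x i : A)) = 0
      exact Ideal.Quotient.eq_zero_iff_mem.mpr (hI i hx)
    let dec : A ⧸ I →+ DirectSum ι fun i => ↥(imgGrading 𝒜 I i) :=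
      QuotientAddGroup.lift I.toAddSubgroup φ hφ
    have hdec : ∀ a : A, dec (Ideal.Quotient.mk I a) = φ a := fun a => rfl
    refine ⟨{ hGM, DirectSum.Decomposition.ofAddHom _ dec ?_ ?_ with }⟩
    · apply AddMonoidHom.ext
      intro x
      obtain ⟨a, rfl⟩ := Ideal.Quotient.mk_surjective x
      rw [AddMonoidHom.comp_apply, hdec]
      change DirectSum.coeAddMonoidHom (imgGrading 𝒜 I)
        (DirectSum.map (compMap 𝒜 I) (DirectSum.decompose 𝒜 a)) = _
      rw [coe_map_eq]
      have : DirectSum.coeAddMonoidHom 𝒜 (DirectSum.decompose 𝒜 a) = a :=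
        DirectSum.Decomposition.left_inv a
      rw [this]
      rfl
    · apply DirectSum.addHom_ext
      rintro i ⟨_, a, ha, rfl⟩
      rw [AddMonoidHom.comp_apply, DirectSum.coeAddMonoidHom_of]
      change dec (Ideal.Quotient.mk I a) = _
      rw [hdec]
      change DirectSum.map (compMap 𝒜 I) (DirectSum.decompose 𝒜 a) = _
      rw [DirectSum.decompose_of_mem 𝒜 ha, DirectSum.map_of]
      rfl
  · rintro ⟨ℬ, ⟨hℬ⟩, hle⟩
    have key : ∀ (r : A) (i : ι), ((DirectSum.decompose ℬ (Ideal.Quotient.mk I r) i : ℬ i) : A ⧸ I) =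
        Ideal.Quotient.mk I (DirectSum.decompose 𝒜 r i : A) := by
      intro r
      induction r using DirectSum.Decomposition.inductionOn 𝒜 with
      | zero =>
        intro i
        rw [map_zero, DirectSum.decompose_zero, DirectSum.decompose_zero]
        simp
      | homogeneous a =>
        rename_i j
        intro i
        have hπ : Ideal.Quotient.mk I (a : A) ∈ ℬ j := hle j ⟨a, a.2, rfl⟩
        rw [DirectSum.decompose_of_mem ℬ hπ, DirectSum.decompose_coe]
        by_cases hij : j = i
        · subst hij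
          rw [DirectSum.of_eq_same, DirectSum.of_eq_same]
        · rw [DirectSum.of_eq_of_ne _ _ _ (Ne.symm hij), DirectSum.of_eq_of_ne _ _ _ (Ne.symm hij)]
          simp
      | add a b ha hb =>
        intro i
        rw [map_add, DirectSum.decompose_add, DirectSum.decompose_add, DirectSum.add_apply,
          DirectSum.add_apply, AddSubgroup.coe_add, AddSubgroup.coe_add, map_add, ha i, hb i]
    intro i r hr
    have h0 : Ideal.Quotient.mk I r = 0 := Ideal.Quotient.eq_zero_iff_mem.mpr hr
    have := key r i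
    rw [h0, DirectSum.decompose_zero] at this
    rw [← Ideal.Quotient.eq_zero_iff_mem, ← this]
    simp

end Groth.Agent.S13125
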