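import Groth.Statements.S13126
import Mathlib

set_option autoImplicit false
universe u
open KumFam

namespace Groth.Agent.S13126

open Polynomial in
/-- Let R be a commutative ring, n a natural number which is a unit in R, and ζ ∈ R with ζ^n = 1 and 1 −
ζ^i a unit for 0 < i < n (a primitive n-th root of unity in the fibrewise sense: the powers ζ^0, …,
ζ^(n−1) are roots of X^n − 1 with pairwise unit differences; over an integral domain in which n is a
unit this is the same as ζ having multiplicative order n). Then the R-algebra homomorphism R[X] →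
(Fin n → R) sending a polynomial to its values at ζ^0, …, ζ^(n−1) is surjective and its kernel is
the ideal generated by X^n − 1; hence R[X]/(X^n − 1) ≅ R^n as R-algebras, i.e. the scheme of n-th
roots of unity over Spec R is the disjoint union of n copies of Spec R. (The published statement
asks that R contain a primitive n-th root of unity without defining the term; its Chinese-remainder
argument uses that the ideals (X − ζ^i), i < n, are pairwise comaximal, which is the unit-difference
condition taken as the hypothesis here, whereas under the reading 'ζ has multiplicative order n'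
alone the surjectivity fails over a product of two fields. The published statement also asserts that
the isomorphism respects the group-scheme structures of the n-th roots of unity and of the constant
group ℤ/n; this row does not state that.) -/
theorem result (R : Type u) [CommRing R]
    (n : ℕ) (hn : IsUnit (n : R)) (ζ : R) (hζ : ζ ^ n = 1)
    (hprim : ∀ i : ℕ, 0 < i → i < n → IsUnit (1 - ζ ^ i)) :
    Function.Surjective (AlgHom.pi (fun i : Fin n => Polynomial.aeval (R := R) (ζ ^ (i : ℕ)))) ∧
      RingHom.ker (AlgHom.pi (fun i : Fin n => Polynomial.aeval (R := R) (ζ ^ (i : ℕ)))) =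
        Ideal.span {(X ^ n - 1 : R[X])} := by
  classical
  rcases Nat.eq_zero_or_pos n with hn0 | hnpos
  · subst hn0
    have hsub : Subsingleton R := by
      rw [Nat.cast_zero] at hn
      exact subsingleton_of_zero_eq_one (by
        obtain ⟨u, hu⟩ := hn
        have := u.mul_inv
        rw [hu, zero_mul] at this
        exact this)
    constructor
    · intro v
      exact ⟨0, Subsingleton.elim _ _⟩
    · exact Subsingleton.elim _ _
  · have hζu : IsUnit ζ := by
      refine IsUnit.of_mul_eq_one (ζ ^ (n - 1)) ?_
      rw [← pow_succ', Nat.sub_add_cancel hnpos, hζ]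
    have hdiff : ∀ i j : Fin n, i ≠ j → IsUnit (ζ ^ (i : ℕ) - ζ ^ (j : ℕ)) := by
      intro i j hij
      rcases lt_or_gt_of_ne (fun h => hij (Fin.ext h) : (i : ℕ) ≠ j) with h | h
      · have h1 : ζ ^ (i : ℕ) - ζ ^ (j : ℕ) = ζ ^ (i : ℕ) * (1 - ζ ^ ((j : ℕ) - i)) := by
          rw [mul_sub, mul_one, ← pow_add, Nat.add_sub_cancel' h.le]
        rw [h1]
        exact (hζu.pow _).mul (hprim _ (Nat.sub_pos_of_lt h) (lt_of_le_of_lt (Nat.sub_le _ _) j.2))
      · have h1 : ζ ^ (i : ℕ) - ζ ^ (j : ℕ) = -(ζ ^ (j : ℕ) * (1 - ζ ^ ((i : ℕ) - j))) := by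
          rw [mul_sub, mul_one, ← pow_add, Nat.add_sub_cancel' h.le]
          ring
        rw [h1]
        exact ((hζu.pow _).mul
          (hprim _ (Nat.sub_pos_of_lt h) (lt_of_le_of_lt (Nat.sub_le _ _) i.2))).neg
    have hcop : Pairwise (Function.onFun IsCoprime fun i : Fin n => (X - C (ζ ^ (i : ℕ)) : R[X])) := by
      intro i j hij
      exact Polynomial.isCoprime_X_sub_C_of_isUnit_sub (hdiff i j hij)
    have hroot : ∀ (p : R[X]) (i : Fin n),
        (X - C (ζ ^ (i : ℕ)) : R[X]) ∣ p ↔ Polynomial.aeval (R := R) (ζ ^ (i : ℕ)) p = 0 := by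
      intro p i
      rw [Polynomial.dvd_iff_isRoot, Polynomial.IsRoot.def, Polynomial.coe_aeval_eq_eval]
    have hpi : ∀ (p : R[X]) (i : Fin n),
        (AlgHom.pi (fun i : Fin n => Polynomial.aeval (R := R) (ζ ^ (i : ℕ)))) p i =
          Polynomial.aeval (R := R) (ζ ^ (i : ℕ)) p := fun p i => rfl
    have hprod : ∏ i : Fin n, (X - C (ζ ^ (i : ℕ)) : R[X]) = X ^ n - 1 := by
      rcases subsingleton_or_nontrivial R with hs | hnt
      · exact Subsingleton.elim _ _
      have hmon : (∏ i : Fin n, (X - C (ζ ^ (i : ℕ)) : R[X])).Monic :=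
        Polynomial.monic_prod_of_monic _ _ (fun i _ => Polynomial.monic_X_sub_C _)
      have hdeg : (∏ i : Fin n, (X - C (ζ ^ (i : ℕ)) : R[X])).natDegree = n := by
        rw [Polynomial.natDegree_prod_of_monic _ _ (fun i _ => Polynomial.monic_X_sub_C _)]
        simp only [Polynomial.natDegree_X_sub_C, Finset.sum_const, Finset.card_univ,
          Fintype.card_fin, smul_eq_mul, mul_one]
      have hmon2 : (X ^ n - 1 : R[X]).Monic := by
        have := Polynomial.monic_X_pow_sub_C (1 : R) hnpos.ne'
        rwa [map_one] at this
      have hdeg2 : (X ^ n - 1 : R[X]).natDegree = n := by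
        have := Polynomial.natDegree_X_pow_sub_C (R := R) (n := n) (r := 1)
        rwa [map_one] at this
      have hdvd : (∏ i : Fin n, (X - C (ζ ^ (i : ℕ)) : R[X])) ∣ X ^ n - 1 := by
        refine Fintype.prod_dvd_of_coprime hcop ?_
        intro i
        rw [hroot]
        simp only [map_sub, map_pow, Polynomial.aeval_X, map_one]
        rw [← pow_mul, mul_comm, pow_mul, hζ, one_pow, sub_self]
      exact (Polynomial.eq_of_monic_of_dvd_of_natDegree_le hmon hmon2 hdvd
        (by rw [hdeg, hdeg2])).symm
    constructor
    · intro v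
      have hcopI : Pairwise (Function.onFun IsCoprime
          fun i : Fin n => Ideal.span {(X - C (ζ ^ (i : ℕ)) : R[X])}) := by
        intro i j hij
        exact (Ideal.isCoprime_span_singleton_iff _ _).mpr (hcop hij)
      obtain ⟨r, hr⟩ := Ideal.pi_quotient_surjective hcopI
        (fun i => Ideal.Quotient.mk _ (C (v i)))
      refine ⟨r, ?_⟩
      funext i
      have h1 := hr i
      rw [Ideal.Quotient.eq, Ideal.mem_span_singleton, hroot] at h1
      rw [map_sub, sub_eq_zero, Polynomial.aeval_C] at h1
      rw [hpi, h1]
      rfl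
    · ext p
      rw [RingHom.mem_ker, ← hprod, Ideal.mem_span_singleton]
      constructor
      · intro h
        refine Fintype.prod_dvd_of_coprime hcop ?_
        intro i
        rw [hroot, ← hpi, h]
        rfl
      · intro h
        funext i
        have h2 : (X - C (ζ ^ (i : ℕ)) : R[X]) ∣ p :=
          dvd_trans (Finset.dvd_prod_of_mem (fun i : Fin n => (X - C (ζ ^ (i : ℕ)) : R[X]))
            (Finset.mem_univ i)) h
        rw [hroot] at h2
        rw [hpi, h2]
        rfl

end Groth.Agent.S13126
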