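import Groth.Statements.S13127
import Mathlib
import Groth.Agent.Lib.helper20.FormalIFT

set_option autoImplicit false
universe u
open KumFam

namespace Groth.Agent.S13127

open MvPowerSeries in
/-- Let R be a commutative ring of characteristic 2 and l0, l2, l4, s0, s2, s4, τ, lam, sig ∈ R with l4,
s4, lam, sig units, and let κ₁, κ₂ ∈ R satisfy s4² κ₁³ = sig² and l4² κ₂³ = lam² (cube roots of
sig²/s4² and lam²/l4²). In the power series ring R[[a, b, c]] (a = X 0, b = X 1, c = X 2) put F = c²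
+ s0² a³ b⁴ + s2² a³ b² + s4² a³ + l0² a⁴ b³ + l2² a² b³ + l4² b³ + τ² a³ b³ and F₀ = c² + sig² a³ +
lam² b³. Then some R-algebra automorphism of R[[a, b, c]] maps F to F₀; consequently R[[a, b,
c]]/(F) ≅ R[[a, b, c]]/(F₀). (In the published statement lam, sig are the representatives in the
ground field of the residues of l4, s4 at a rational point, so that F₀ is the equation of the
special fibre made constant; this row takes them to be arbitrary units.) -/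
theorem result (R : Type u) [CommRing R] [CharP R 2]
    (l0 l2 l4 s0 s2 s4 τ lam sig κ₁ κ₂ : R) (hl4 : IsUnit l4) (hs4 : IsUnit s4) (hlam : IsUnit lam)
    (hsig : IsUnit sig) (h₁ : s4 ^ 2 * κ₁ ^ 3 = sig ^ 2) (h₂ : l4 ^ 2 * κ₂ ^ 3 = lam ^ 2) :
    ∃ φ : MvPowerSeries (Fin 3) R ≃ₐ[R] MvPowerSeries (Fin 3) R,
      φ ((X 2 ^ 2 + C (s0 ^ 2) * X 0 ^ 3 * X 1 ^ 4 + C (s2 ^ 2) * X 0 ^ 3 * X 1 ^ 2 +
          C (s4 ^ 2) * X 0 ^ 3 + C (l0 ^ 2) * X 0 ^ 4 * X 1 ^ 3 + C (l2 ^ 2) * X 0 ^ 2 * X 1 ^ 3 +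
          C (l4 ^ 2) * X 1 ^ 3 + C (τ ^ 2) * X 0 ^ 3 * X 1 ^ 3 : MvPowerSeries (Fin 3) R)) =
        (X 2 ^ 2 + C (sig ^ 2) * X 0 ^ 3 + C (lam ^ 2) * X 1 ^ 3 : MvPowerSeries (Fin 3) R) := by
  classical
  have h3 : IsUnit (3 : R) := by
    have h2 : (2 : R) = 0 := CharTwo.two_eq_zero
    have h31 : (3 : R) = 1 := by linear_combination h2
    rw [h31]; exact isUnit_one
  obtain ⟨s4i, hs4i⟩ := hs4.exists_right_inv
  obtain ⟨l4i, hl4i⟩ := hl4.exists_right_inv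
  have hκ₁ : IsUnit κ₁ := by
    have h : IsUnit (s4 ^ 2 * κ₁ ^ 3) := by rw [h₁]; exact hsig.pow 2
    exact (isUnit_pow_iff (by norm_num)).mp (isUnit_of_mul_isUnit_right h)
  have hκ₂ : IsUnit κ₂ := by
    have h : IsUnit (l4 ^ 2 * κ₂ ^ 3) := by rw [h₂]; exact hlam.pow 2
    exact (isUnit_pow_iff (by norm_num)).mp (isUnit_of_mul_isUnit_right h)
  obtain ⟨k1i, hk1i⟩ := hκ₁.exists_right_inv
  obtain ⟨k2i, hk2i⟩ := hκ₂.exists_right_inv
  have hc1 : sig ^ 2 * k1i ^ 3 * s4i ^ 2 = 1 := by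
    calc sig ^ 2 * k1i ^ 3 * s4i ^ 2 = (s4 * s4i) ^ 2 * (κ₁ * k1i) ^ 3 := by rw [← h₁]; ring
      _ = 1 := by rw [hs4i, hk1i, one_pow, one_pow, one_mul]
  have hc2 : lam ^ 2 * k2i ^ 3 * l4i ^ 2 = 1 := by
    calc lam ^ 2 * k2i ^ 3 * l4i ^ 2 = (l4 * l4i) ^ 2 * (κ₂ * k2i) ^ 3 := by rw [← h₂]; ring
      _ = 1 := by rw [hl4i, hk2i, one_pow, one_pow, one_mul]
  obtain ⟨P, hP⟩ : ∃ P : MvPowerSeries (Fin 3) R, P = C (s4 ^ 2) + C (s2 ^ 2) * X 1 ^ 2 +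
      C (τ ^ 2) * X 1 ^ 3 + C (s0 ^ 2) * X 1 ^ 4 := ⟨_, rfl⟩
  obtain ⟨Q, hQ⟩ : ∃ Q : MvPowerSeries (Fin 3) R, Q = C (l4 ^ 2) + C (l2 ^ 2) * X 0 ^ 2 +
      C (l0 ^ 2) * X 0 ^ 4 := ⟨_, rfl⟩
  have hPc : constantCoeff (C (s4i ^ 2) * P - 1) = 0 := by
    rw [hP]
    simp only [map_sub, map_mul, map_add, map_pow, constantCoeff_C, constantCoeff_X, map_one]
    have : s4i ^ 2 * s4 ^ 2 = 1 := by
      calc s4i ^ 2 * s4 ^ 2 = (s4 * s4i) ^ 2 := by ring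
        _ = 1 := by rw [hs4i, one_pow]
    linear_combination this
  have hQc : constantCoeff (C (l4i ^ 2) * Q - 1) = 0 := by
    rw [hQ]
    simp only [map_sub, map_mul, map_add, map_pow, constantCoeff_C, constantCoeff_X, map_one]
    have : l4i ^ 2 * l4 ^ 2 = 1 := by
      calc l4i ^ 2 * l4 ^ 2 = (l4 * l4i) ^ 2 := by ring
        _ = 1 := by rw [hl4i, one_pow]
    linear_combination this
  obtain ⟨y₁, hy₁0, hy₁⟩ := Groth.Agent.Lib.helper20.FormalIFT.exists_cubeRoot h3 _ hPc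
  obtain ⟨y₂, hy₂0, hy₂⟩ := Groth.Agent.Lib.helper20.FormalIFT.exists_cubeRoot h3 _ hQc
  obtain ⟨g, hg⟩ : ∃ g : MvPowerSeries (Fin 3) R, g = C k1i * (1 + y₁) := ⟨_, rfl⟩
  obtain ⟨h, hh⟩ : ∃ h : MvPowerSeries (Fin 3) R, h = C k2i * (1 + y₂) := ⟨_, rfl⟩
  have hgc : constantCoeff g = k1i := by
    rw [hg, map_mul, map_add, map_one, hy₁0, add_zero, constantCoeff_C, mul_one]
  have hhc : constantCoeff h = k2i := by
    rw [hh, map_mul, map_add, map_one, hy₂0, add_zero, constantCoeff_C, mul_one]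
  have hg3 : C (sig ^ 2) * g ^ 3 = P := by
    have hC : (C (sig ^ 2) * (C k1i) ^ 3 * C (s4i ^ 2) : MvPowerSeries (Fin 3) R) = 1 := by
      rw [← map_pow, ← map_mul, ← map_mul, hc1, map_one]
    calc C (sig ^ 2) * g ^ 3 = (C (sig ^ 2) * (C k1i) ^ 3 * C (s4i ^ 2)) * P := by
          rw [hg, mul_pow, hy₁]; ring
      _ = P := by rw [hC, one_mul]
  have hh3 : C (lam ^ 2) * h ^ 3 = Q := by
    have hC : (C (lam ^ 2) * (C k2i) ^ 3 * C (l4i ^ 2) : MvPowerSeries (Fin 3) R) = 1 := by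
      rw [← map_pow, ← map_mul, ← map_mul, hc2, map_one]
    calc C (lam ^ 2) * h ^ 3 = (C (lam ^ 2) * (C k2i) ^ 3 * C (l4i ^ 2)) * Q := by
          rw [hh, mul_pow, hy₂]; ring
      _ = Q := by rw [hC, one_mul]
  let G : Matrix (Fin 3) (Fin 3) (MvPowerSeries (Fin 3) R) := !![g, 0, 0; 0, h, 0; 0, 0, 1]
  have hdet : IsUnit (Matrix.det (G.map (fun f => constantCoeff f))) := by
    have hd : Matrix.det (G.map (fun f => constantCoeff f)) = k1i * k2i := by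
      rw [Matrix.det_fin_three]
      simp [G, hgc, hhc]
    rw [hd]
    have u1 : IsUnit k1i := ⟨⟨k1i, κ₁, by rw [mul_comm]; exact hk1i, hk1i⟩, rfl⟩
    have u2 : IsUnit k2i := ⟨⟨k2i, κ₂, by rw [mul_comm]; exact hk2i, hk2i⟩, rfl⟩
    exact u1.mul u2
  obtain ⟨ψ, hψX, -⟩ := Groth.Agent.Lib.helper20.FormalIFT.exists_algEquiv_of_matrix G hdet
  have hψ0 : ψ (X 0) = X 0 * g := by rw [hψX, Fin.sum_univ_three]; simp [G]
  have hψ1 : ψ (X 1) = X 1 * h := by rw [hψX, Fin.sum_univ_three]; simp [G]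
  have hψ2 : ψ (X 2) = X 2 := by rw [hψX, Fin.sum_univ_three]; simp [G]
  refine ⟨ψ.symm, ?_⟩
  rw [AlgEquiv.symm_apply_eq]
  simp only [map_add ψ, map_mul ψ, map_pow ψ, Groth.Agent.Lib.helper20.FormalIFT.map_C ψ,
    hψ0, hψ1, hψ2]
  subst hP hQ
  linear_combination (-(X 0 : MvPowerSeries (Fin 3) R) ^ 3) * hg3 +
    (-(X 1 : MvPowerSeries (Fin 3) R) ^ 3) * hh3

end Groth.Agent.S13127
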