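import Groth.Statements.S13128
import Mathlib
import Groth.Agent.Lib.helper20.FormalIFT

set_option autoImplicit false
universe u
open KumFam

namespace Groth.Agent.S13128

open MvPowerSeries in
/-- Let R be a commutative ring of characteristic 2, l0, l2, l4, s0, s2, s4, τ ∈ R with τ a unit, and α,
β ∈ R with l4² α⁴ + l2² α² + τ² α + l0² = 0 and s4² β⁴ + s2² β² + τ² β + s0² = 0. In characteristic
2 these relations give τ² α = (l4 α² + l2 α + l0)² and τ² β = (s4 β² + s2 β + s0)², so α = α′² and β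
= β′² with α′ = (l4 α² + l2 α + l0)/τ and β′ = (s4 β² + s2 β + s0)/τ. In R[[a, b, c]] (a = X 0, b =
X 1, c = X 2) put h = c² + τ² a b + (s4² b⁴ + s2² b²) a + (l4² a⁴ + l2² a²) b + l4² β a⁴ + l2² β a²
+ s4² α b⁴ + s2² α b²; this is the chart equation c² + τ² a b + (s4² b⁴ + s2² b² + s0²) a + (l4² a⁴
+ l2² a² + l0²) b after the substitution a ↦ a + α, b ↦ b + β, c ↦ c + τ α′ β′, which moves the
point (α, β, τ α′ β′) of that surface, where all partial derivatives vanish, to the origin. Then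
some R-algebra automorphism of R[[a, b, c]] maps h to c² + a b; consequently R[[a, b, c]]/(h) ≅
R[[a, b, c]]/(c² + a b), the completed local ring of an ordinary double point, constant over R. (The
published statement translates only a and b, so that its h carries the additional constant term τ² α
β; with that term h is a unit of R[[a, b, c]] whenever τ α β is a unit, for instance c² + a b + 1
over the field with two elements with l0 = s0 = τ = α = β = 1 and l2 = l4 = s2 = s4 = 0, and no ring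
automorphism carries a unit to c² + a b. The published proof begins by shifting c by a polynomial in
a, b whose constant term is τ α′ β′, a substitution of the polynomial ring which removes the term τ²
α β, and the rest of its argument takes place in R[[a, b, c]]; this row states the result for the
fully translated equation, which is what that argument proves.) -/
theorem result (R : Type u) [CommRing R] [CharP R 2]
    (l0 l2 l4 s0 s2 s4 τ α β : R) (hτ : IsUnit τ)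
    (hα : l4 ^ 2 * α ^ 4 + l2 ^ 2 * α ^ 2 + τ ^ 2 * α + l0 ^ 2 = 0)
    (hβ : s4 ^ 2 * β ^ 4 + s2 ^ 2 * β ^ 2 + τ ^ 2 * β + s0 ^ 2 = 0) :
    ∃ φ : MvPowerSeries (Fin 3) R ≃ₐ[R] MvPowerSeries (Fin 3) R,
      φ ((X 2 ^ 2 + C (τ ^ 2) * X 0 * X 1 + (C (s4 ^ 2) * X 1 ^ 4 + C (s2 ^ 2) * X 1 ^ 2) * X 0 +
          (C (l4 ^ 2) * X 0 ^ 4 + C (l2 ^ 2) * X 0 ^ 2) * X 1 + C (l4 ^ 2 * β) * X 0 ^ 4 +
          C (l2 ^ 2 * β) * X 0 ^ 2 + C (s4 ^ 2 * α) * X 1 ^ 4 + C (s2 ^ 2 * α) * X 1 ^ 2 :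
          MvPowerSeries (Fin 3) R)) =
        (X 2 ^ 2 + X 0 * X 1 : MvPowerSeries (Fin 3) R) := by
  classical
  have h2R : (2 : R) = 0 := CharTwo.two_eq_zero
  obtain ⟨τi, hτi⟩ := hτ.exists_right_inv
  obtain ⟨α', hα'⟩ : ∃ α' : R, α' ^ 2 = α := by
    refine ⟨τi * (l4 * α ^ 2 + l2 * α + l0), ?_⟩
    have hsq : (l4 * α ^ 2 + l2 * α + l0) ^ 2 = τ ^ 2 * α := by
      rw [CharTwo.add_sq, CharTwo.add_sq]
      linear_combination hα - (τ ^ 2 * α) * h2R
    rw [mul_pow, hsq]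
    calc τi ^ 2 * (τ ^ 2 * α) = (τ * τi) ^ 2 * α := by ring
      _ = α := by rw [hτi, one_pow, one_mul]
  obtain ⟨β', hβ'⟩ : ∃ β' : R, β' ^ 2 = β := by
    refine ⟨τi * (s4 * β ^ 2 + s2 * β + s0), ?_⟩
    have hsq : (s4 * β ^ 2 + s2 * β + s0) ^ 2 = τ ^ 2 * β := by
      rw [CharTwo.add_sq, CharTwo.add_sq]
      linear_combination hβ - (τ ^ 2 * β) * h2R
    rw [mul_pow, hsq]
    calc τi ^ 2 * (τ ^ 2 * β) = (τ * τi) ^ 2 * β := by ring
      _ = β := by rw [hτi, one_pow, one_mul]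
  haveI : CharP (MvPowerSeries (Fin 3) R) 2 :=
    charP_of_injective_ringHom (MvPowerSeries.C_injective) 2
  have hA : (C α' : MvPowerSeries (Fin 3) R) ^ 2 = C α := by rw [← map_pow, hα']
  have hB : (C β' : MvPowerSeries (Fin 3) R) ^ 2 = C β := by rw [← map_pow, hβ']
  obtain ⟨w, hw⟩ : ∃ w : MvPowerSeries (Fin 3) R, w = C (τ ^ 2) + C (s4 ^ 2) * X 1 ^ 3 +
      C (s2 ^ 2) * X 1 + C (l4 ^ 2) * X 0 ^ 3 + C (l2 ^ 2) * X 0 := ⟨_, rfl⟩
  obtain ⟨q0, hq0⟩ : ∃ q0 : MvPowerSeries (Fin 3) R, q0 = C l4 * C β' * X 0 + C l2 * C β' :=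
    ⟨_, rfl⟩
  obtain ⟨q1, hq1⟩ : ∃ q1 : MvPowerSeries (Fin 3) R, q1 = C s4 * C α' * X 1 + C s2 * C α' :=
    ⟨_, rfl⟩
  have hwc : constantCoeff w = τ ^ 2 := by rw [hw]; simp
  have hq0c : constantCoeff q0 = l2 * β' := by rw [hq0]; simp
  have hq1c : constantCoeff q1 = s2 * α' := by rw [hq1]; simp
  let G : Matrix (Fin 3) (Fin 3) (MvPowerSeries (Fin 3) R) := !![w, 0, 0; 0, 1, 0; q0, q1, 1]
  have hdet : IsUnit (Matrix.det (G.map (fun f => constantCoeff f))) := by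
    have hd : Matrix.det (G.map (fun f => constantCoeff f)) = τ ^ 2 := by
      rw [Matrix.det_fin_three]
      simp [G, hwc, hq0c, hq1c]
    rw [hd]
    exact hτ.pow 2
  obtain ⟨ψ, hψX, -⟩ := Groth.Agent.Lib.helper20.FormalIFT.exists_algEquiv_of_matrix G hdet
  have hψ0 : ψ (X 0) = X 0 * w := by rw [hψX, Fin.sum_univ_three]; simp [G]
  have hψ1 : ψ (X 1) = X 1 := by rw [hψX, Fin.sum_univ_three]; simp [G]
  have hψ2 : ψ (X 2) = X 0 * q0 + X 1 * q1 + X 2 := by rw [hψX, Fin.sum_univ_three]; simp [G]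
  refine ⟨ψ.symm, ?_⟩
  rw [AlgEquiv.symm_apply_eq]
  simp only [map_add ψ, map_mul ψ, map_pow ψ, hψ0, hψ1, hψ2]
  subst hw hq0 hq1
  simp only [map_mul, map_pow]
  simp only [CharTwo.add_sq, mul_pow]
  linear_combination (-(C l4 ^ 2 * X 0 ^ 4 + C l2 ^ 2 * X 0 ^ 2 : MvPowerSeries (Fin 3) R)) * hB +
    (-(C s4 ^ 2 * X 1 ^ 4 + C s2 ^ 2 * X 1 ^ 2 : MvPowerSeries (Fin 3) R)) * hA

end Groth.Agent.S13128
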