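import Groth.Statements.S13130
import Mathlib

set_option autoImplicit false
universe u v
open KumFam

namespace Groth.Agent.S13130

/-- Let R be a nontrivial commutative ring and M a commutative group, with group algebra R[M], the
coordinate ring of the diagonalizable group scheme D(M) over Spec R. Then D(M) is integral over Spec
R, i.e. R[M] is an integral R-algebra, if and only if M is a torsion group. (The published statement
is over an arbitrary base scheme; the question is local and this row is the affine form, with R
nontrivial so that the elements of M are R-linearly independent.) -/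
theorem result (R : Type u) [CommRing R] [Nontrivial R]
    (M : Type v) [CommGroup M] :
    Algebra.IsIntegral R (MonoidAlgebra R M) ↔ IsMulTorsion M := by
  classical
  constructor
  · intro hint m
    by_contra hm
    have hinj : Function.Injective (fun n : ℕ => m ^ n) := injective_pow_iff_not_isOfFinOrder.mpr hm
    obtain ⟨p, hp, hp0⟩ := hint.isIntegral (MonoidAlgebra.single m (1 : R))
    rw [← Polynomial.aeval_def, Polynomial.aeval_eq_sum_range] at hp0
    have h1 : ∀ i : ℕ, p.coeff i • (MonoidAlgebra.single m (1 : R)) ^ i
        = MonoidAlgebra.single (m ^ i) (p.coeff i) := by
      intro i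
      rw [MonoidAlgebra.single_pow, one_pow, MonoidAlgebra.smul_single, smul_eq_mul, mul_one]
    simp only [h1] at hp0
    have h2 := congrArg (fun f : MonoidAlgebra R M => f.coeff (m ^ p.natDegree)) hp0
    simp only [MonoidAlgebra.coeff_zero, Finsupp.zero_apply, MonoidAlgebra.coeff_sum,
      Finsupp.finsetSum_apply] at h2
    have h3 : ∀ i ∈ Finset.range (p.natDegree + 1),
        (MonoidAlgebra.single (m ^ i) (p.coeff i)).coeff (m ^ p.natDegree)
          = if i = p.natDegree then p.coeff i else 0 := by
      intro i _
      rw [MonoidAlgebra.coeff_single, Finsupp.single_apply]
      by_cases hi : i = p.natDegree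
      · simp [hi]
      · have : m ^ i ≠ m ^ p.natDegree := fun h => hi (hinj h)
        simp [hi, this]
    rw [Finset.sum_congr rfl h3, Finset.sum_ite_eq' ] at h2
    simp only [Finset.mem_range, Nat.lt_succ_self, if_true] at h2
    rw [Polynomial.coeff_natDegree, hp.leadingCoeff] at h2
    exact one_ne_zero h2
  · intro htors
    constructor
    intro f
    induction f using MonoidAlgebra.induction_on with
    | of g =>
      obtain ⟨n, hn, hgn⟩ := (htors g).exists_pow_eq_one
      apply IsIntegral.of_pow hn
      rw [← map_pow, hgn, map_one]
      exact isIntegral_one
    | add f g hf hg => exact hf.add hg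
    | smul r f hf => exact hf.smul r

end Groth.Agent.S13130
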