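import Groth.Statements.S13131
import Mathlib

set_option autoImplicit false
universe u
open CategoryTheory CategoryTheory.Limits AlgebraicGeometry
open KumFam

namespace Groth.Agent.S13131

section Helpers

open CategoryTheory CategoryTheory.Limits AlgebraicGeometry TopologicalSpace

section
variable (S : Scheme.{u}) (M : Type u)

/-- index of the component containing a point of `∐_M S` -/
noncomputable def idx (z : ↥(∐ (fun _ : M => S))) : M := ((sigmaMk (fun _ : M => S)).symm z).1

theorem idx_ι (m : M) (s : S) : idx S M ((Sigma.ι (fun _ : M => S) m).base s) = m := by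
  unfold idx
  rw [← sigmaMk_mk (fun _ : M => S) m s, Homeomorph.symm_apply_apply]

theorem exists_of_idx (z : ↥(∐ (fun _ : M => S))) :
    ∃ s : S, (Sigma.ι (fun _ : M => S) (idx S M z)).base s = z := by
  refine ⟨((sigmaMk (fun _ : M => S)).symm z).2, ?_⟩
  rw [← sigmaMk_mk]
  exact (sigmaMk (fun _ : M => S)).apply_symm_apply z

theorem isLocallyConstant_idx : IsLocallyConstant (idx S M) := by
  rw [IsLocallyConstant.iff_isOpen_fiber]
  intro m
  have : idx S M ⁻¹' {m} = Set.range (Sigma.ι (fun _ : M => S) m).base := by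
    ext z
    constructor
    · intro hz
      obtain ⟨s, hs⟩ := exists_of_idx S M z
      rw [show idx S M z = m from hz] at hs
      exact ⟨s, hs⟩
    · rintro ⟨s, rfl⟩
      exact idx_ι S M m s
  rw [this]
  exact (Sigma.ι (fun _ : M => S) m).isOpenEmbedding.isOpen_range

end

section
variable {S : Scheme.{u}} {M : Type u} {T : Scheme.{u}} (p : T ⟶ S) (c : LocallyConstant T M)

/-- the open subscheme where `c = m` -/
def Tm (m : M) : T.Opens := ⟨c ⁻¹' {m}, c.isLocallyConstant.isOpen_fiber m⟩

theorem isColimit_Tm : Nonempty (IsColimit (Cofan.mk T fun m : M => (Tm c m).ι)) := by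
  apply nonempty_isColimit_cofanMk_of
  · rw [eq_top_iff]
    intro t _
    simp only [Scheme.Opens.opensRange_ι, Opens.mem_iSup]
    exact ⟨c t, rfl⟩
  · intro m m' hmm'
    simp only [Function.onFun, Scheme.Opens.opensRange_ι]
    rw [disjoint_iff]
    ext t
    simp only [Opens.coe_inf, Set.mem_inter_iff, SetLike.mem_coe, Opens.coe_bot,
      Set.mem_empty_iff_false, iff_false, not_and]
    intro h1 h2
    exact hmm' ((show c t = m from h1).symm.trans (show c t = m' from h2))

noncomputable def fc : T ⟶ ∐ (fun _ : M => S) :=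
  Cofan.IsColimit.desc (isColimit_Tm c).some
    (fun m => (Tm c m).ι ≫ p ≫ Sigma.ι (fun _ : M => S) m)

theorem ι_fc (m : M) : (Tm c m).ι ≫ fc p c = (Tm c m).ι ≫ p ≫ Sigma.ι (fun _ : M => S) m :=
  Cofan.IsColimit.fac (isColimit_Tm c).some _ m

theorem fc_codiag : fc p c ≫ Sigma.desc (fun _ : M => 𝟙 S) = p := by
  apply Cofan.IsColimit.hom_ext (isColimit_Tm c).some
  intro m
  change (Tm c m).ι ≫ fc p c ≫ _ = (Tm c m).ι ≫ p
  rw [← Category.assoc, ι_fc]
  simp

theorem idx_fc (t : T) : idx S M ((fc p c).base t) = c t := by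
  have ht : t ∈ Tm c (c t) := rfl
  have h1 : (fc p c).base t = ((Tm c (c t)).ι ≫ fc p c).base ⟨t, ht⟩ := rfl
  rw [h1, ι_fc]
  exact idx_ι S M (c t) _

end

theorem main (S : Scheme.{u}) (M : Type u) (T : Scheme.{u}) (p : T ⟶ S) :
    ∃ e : {f : T ⟶ ∐ (fun _ : M => S) // f ≫ Sigma.desc (fun _ : M => 𝟙 S) = p} ≃
        LocallyConstant T M,
      ∀ (f : {f : T ⟶ ∐ (fun _ : M => S) // f ≫ Sigma.desc (fun _ : M => 𝟙 S) = p}) (t : T),
        e f t = ((sigmaMk (fun _ : M => S)).symm (f.1.base t)).1 := by
  let toLC : {f : T ⟶ ∐ (fun _ : M => S) // f ≫ Sigma.desc (fun _ : M => 𝟙 S) = p} →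
      LocallyConstant T M := fun f =>
    ⟨fun t => idx S M (f.1.base t), (isLocallyConstant_idx S M).comp_continuous f.1.continuous⟩
  refine ⟨⟨toLC, fun c => ⟨fc p c, fc_codiag p c⟩, ?_, ?_⟩, fun f t => rfl⟩
  · rintro ⟨f, hf⟩
    apply Subtype.ext
    set c := toLC ⟨f, hf⟩ with hc
    change fc p c = f
    apply Cofan.IsColimit.hom_ext (isColimit_Tm c).some
    intro m
    change (Tm c m).ι ≫ fc p c = (Tm c m).ι ≫ f
    rw [ι_fc]
    have hrange : Set.range ((Tm c m).ι ≫ f).base ⊆
        Set.range (Sigma.ι (fun _ : M => S) m).base := by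
      rintro _ ⟨t, rfl⟩
      have hidx : idx S M (f.base t.1) = m := t.2
      obtain ⟨s, hs⟩ := exists_of_idx S M (f.base t.1)
      rw [hidx] at hs
      exact ⟨s, hs⟩
    let g := IsOpenImmersion.lift (Sigma.ι (fun _ : M => S) m) ((Tm c m).ι ≫ f) hrange
    have hg : g ≫ Sigma.ι (fun _ : M => S) m = (Tm c m).ι ≫ f :=
      IsOpenImmersion.lift_fac _ _ _
    have hg2 : g = (Tm c m).ι ≫ p := by
      have : g ≫ Sigma.ι (fun _ : M => S) m ≫ Sigma.desc (fun _ : M => 𝟙 S) = g := by simp
      rw [← this, ← Category.assoc, hg, Category.assoc, hf]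
    rw [← hg, hg2, Category.assoc]
  · intro c
    ext t
    exact idx_fc p c t

end Helpers

/-- Let S be a scheme, M a set and p : T → S a scheme over S. The S-morphisms T → ∐_{m ∈ M} S (the
constant S-scheme on M, with its structure map the codiagonal) are in bijection with the locally
constant maps T → M, a morphism f corresponding to the function sending t to the index of the copy
of S containing f(t). (In the published statement M is a group and ∐_M S the constant group scheme;
the group structures play no role in this description of T-points.) -/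
theorem result (S : Scheme.{u}) (M : Type u)
    (T : Scheme.{u}) (p : T ⟶ S) :
    ∃ e : {f : T ⟶ ∐ (fun _ : M => S) // f ≫ Sigma.desc (fun _ : M => 𝟙 S) = p} ≃
        LocallyConstant T M,
      ∀ (f : {f : T ⟶ ∐ (fun _ : M => S) // f ≫ Sigma.desc (fun _ : M => 𝟙 S) = p}) (t : T),
        e f t = ((sigmaMk (fun _ : M => S)).symm (f.1.base t)).1 := by
  exact main S M T p

end Groth.Agent.S13131
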