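import Groth.Statements.S13132
import Mathlib
import Groth.Agent.Lib.helper28.ArtFlat

set_option autoImplicit false
universe u v
open CAlg

namespace Groth.Agent.S13132

open Groth.Agent.Lib.helper28.ArtFlat

theorem nzd_iff_injective {A' : Type u} [CommRing A'] {S' : Type v} [CommRing S'] [Algebra A' S']
    (f' : S') : f' ∈ nonZeroDivisors S' ↔ Function.Injective (LinearMap.mulLeft A' f') := by
  rw [mem_nonZeroDivisors_iff_left, injective_iff_map_eq_zero]
  rfl

theorem nzd_quot_iff_injMod {A' : Type u} [CommRing A'] (I : Ideal A')
    {S' : Type v} [CommRing S'] [Algebra A' S'] (f' : S') :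
    Ideal.Quotient.mk (I.map (algebraMap A' S')) f' ∈ nonZeroDivisors (S' ⧸ I.map (algebraMap A' S')) ↔
      InjMod (LinearMap.mulLeft A' f') I := by
  rw [mem_nonZeroDivisors_iff_left]
  unfold InjMod
  constructor
  · intro h x hx
    rw [Ideal.smul_top_eq_map, Submodule.restrictScalars_mem] at hx ⊢
    have := h (Ideal.Quotient.mk _ x) (by
      rw [← map_mul]
      exact Ideal.Quotient.eq_zero_iff_mem.mpr hx)
    exact Ideal.Quotient.eq_zero_iff_mem.mp this
  · intro h x hx
    obtain ⟨x, rfl⟩ := Ideal.Quotient.mk_surjective x
    rw [← map_mul, Ideal.Quotient.eq_zero_iff_mem] at hx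
    rw [Ideal.Quotient.eq_zero_iff_mem]
    have := h x (by
      rw [Ideal.smul_top_eq_map, Submodule.restrictScalars_mem]
      exact hx)
    rw [Ideal.smul_top_eq_map, Submodule.restrictScalars_mem] at this
    exact this

theorem flat_quot_span {A' : Type u} [CommRing A']
    {S' : Type v} [CommRing S'] [Algebra A' S'] (f' : S')
    (h : Module.Flat A' (S' ⧸ LinearMap.range (LinearMap.mulLeft A' f'))) :
    Module.Flat A' (S' ⧸ Ideal.span {f'}) := by
  have heq : LinearMap.range (LinearMap.mulLeft A' f') =
      (Ideal.span ({f'} : Set S')).restrictScalars A' := by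
    ext x
    rw [Submodule.restrictScalars_mem, Ideal.mem_span_singleton', LinearMap.mem_range]
    constructor
    · rintro ⟨y, rfl⟩
      exact ⟨y, mul_comm _ _⟩
    · rintro ⟨y, rfl⟩
      exact ⟨y, mul_comm _ _⟩
  exact Module.Flat.of_linearEquiv
    ((Submodule.quotEquivOfEq _ _ heq).trans
      (Submodule.Quotient.restrictScalarsEquiv A' (Ideal.span ({f'} : Set S')))).symm

/-- Let A' be an Artinian local ring, I a proper ideal of A' and S' a flat A'-algebra. An element f' of
S' is a non-zero-divisor exactly when its image in S'/IS' is one; and when f' is a non-zero-divisor,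
the quotient S'/(f') is flat over A'. (The published statement is for local Artinian algebras with a
fixed residue field over a ring of Witt vectors and a surjection between two of them; the argument
uses only that A' is Artinian local and I is a proper ideal, which is the form taken here.) -/
theorem result
    {A' : Type u} [CommRing A'] [IsArtinianRing A'] [IsLocalRing A'] (I : Ideal A') (hI : I ≠ ⊤)
    {S' : Type v} [CommRing S'] [Algebra A' S'] [Module.Flat A' S'] (f' : S') :
    (f' ∈ nonZeroDivisors S' ↔
      Ideal.Quotient.mk (I.map (algebraMap A' S')) f' ∈ nonZeroDivisors (S' ⧸ I.map (algebraMap A' S'))) ∧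
    (f' ∈ nonZeroDivisors S' → Module.Flat A' (S' ⧸ Ideal.span {f'})) := by
  refine ⟨?_, ?_⟩
  · rw [nzd_iff_injective (A' := A'), nzd_quot_iff_injMod]
    exact injective_iff_injMod _ I hI
  · intro hf
    apply flat_quot_span
    rw [nzd_iff_injective (A' := A'), injective_iff_injMod _ I hI] at hf
    exact flat_quotient_range' _ I hI hf

end Groth.Agent.S13132
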