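import Groth.Statements.S13133
import Mathlib
import Groth.Agent.Lib.helper28.ArtReg

set_option autoImplicit false
universe u v
open CAlg

namespace Groth.Agent.S13133

open Groth.Agent.Lib.helper28.ArtReg RingTheory.Sequence

/-- Regularity on a module over a quotient algebra can be tested over the base ring. -/
theorem isRegular_map_algebraMap_iff {R : Type*} {S : Type*} [CommRing R] [CommRing S]
    [Algebra R S] {M : Type*} [AddCommGroup M] [Module R M] [Module S M] [IsScalarTower R S M]
    (rs : List R) :
    IsRegular M (rs.map (algebraMap R S)) ↔ IsRegular M rs := by
  rw [isRegular_iff, isRegular_iff, isWeaklyRegular_map_algebraMap_iff S M rs, ne_eq, ne_eq,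
    ← Submodule.restrictScalars_inj R S, ← Ideal.map_ofList, Ideal.smul_restrictScalars,
    Submodule.restrictScalars_top]

/-- Let A' be an Artinian local ring, I a proper ideal of A', S' a flat A'-algebra and f'_1, …, f'_n
elements of S' with n ≥ 1. A family f'_1, …, f'_n in S' is a regular sequence exactly when its
reduction modulo I·S' is a regular sequence of S'/IS'. (Regular sequences are defined in the
published text over Noetherian rings; this row does not assume S' Noetherian, which the argument
does not use. The published statement is for a surjection of local Artinian algebras with a fixed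
residue field over a ring of Witt vectors; only the Artinian local base and the proper ideal are
used, which is the form taken here.) -/
theorem result
    {A' : Type u} [CommRing A'] [IsArtinianRing A'] [IsLocalRing A'] (I : Ideal A') (hI : I ≠ ⊤)
    {S' : Type v} [CommRing S'] [Algebra A' S'] [Module.Flat A' S'] {n : ℕ} (hn : 1 ≤ n)
    (f' : Fin n → S') :
    RingTheory.Sequence.IsRegular S' (List.ofFn f') ↔
      RingTheory.Sequence.IsRegular (S' ⧸ I.map (algebraMap A' S'))
        (List.ofFn fun i => Ideal.Quotient.mk (I.map (algebraMap A' S')) (f' i)) := by
  rw [isRegular_iff_Mbar (R := A') I hI (List.ofFn f') S']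
  have hJ : ISub (S := S') I S' = I.map (algebraMap A' S') := by
    unfold ISub
    rw [Ideal.smul_eq_mul, Ideal.mul_top]
  rw [(Submodule.quotEquivOfEq _ _ hJ).isRegular_congr]
  rw [← isRegular_map_algebraMap_iff (S := S' ⧸ I.map (algebraMap A' S'))
    (M := S' ⧸ I.map (algebraMap A' S')), List.map_ofFn]
  rfl

end Groth.Agent.S13133
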