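import Groth.Statements.S13134
import Mathlib
import Groth.Agent.Lib.helper5.NilLift

set_option autoImplicit false
universe u v
open CAlg

namespace Groth.Agent.S13134

open Groth.Agent.H5.NilLift

/-- nilpotent Nakayama for ideals -/
lemma le_of_le_sup_mul {P : Type*} [CommRing P] (K J' L : Ideal P) (n : ℕ) (hL : L ^ n = ⊥)
    (h : K ≤ J' ⊔ L * K) : K ≤ J' := by
  have key : ∀ k : ℕ, K ≤ J' ⊔ L ^ k * K := by
    intro k
    induction k with
    | zero => rw [pow_zero, one_mul]; exact le_sup_right
    | succ k ih =>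
      calc K ≤ J' ⊔ L * K := h
        _ ≤ J' ⊔ L * (J' ⊔ L ^ k * K) := sup_le_sup_left (Ideal.mul_mono_right ih) _
        _ ≤ J' ⊔ L ^ (k + 1) * K := by
          rw [Ideal.mul_sup, ← mul_assoc, ← pow_succ']
          exact sup_le le_sup_left (sup_le (Ideal.mul_le_right.trans le_sup_left) le_sup_right)
  have := key n
  rwa [hL, Ideal.bot_mul, sup_bot_eq] at this

/-- Let A' be an Artinian local ring, I a proper ideal, A = A'/I and f_1, …, f_m ∈ A[x_1, …, x_n]. Every
flat A'-algebra B' equipped with a surjection π onto A[x]/(f_1, …, f_m) with kernel I·B', compatible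
with A' → A, is a quotient of A'[x_1, …, x_n] by the ideal generated by some lifts f'_1, …, f'_m of
the f_i, compatibly with π and with reduction of polynomials modulo I. (The published statement is
for a surjection of local Artinian algebras with a fixed residue field over a ring of Witt vectors;
only the Artinian local base and the proper ideal are used, which is the form taken here.) -/
theorem result
    {A' : Type u} [CommRing A'] [IsArtinianRing A'] [IsLocalRing A'] (I : Ideal A') (hI : I ≠ ⊤)
    {n m : ℕ} (f : Fin m → MvPolynomial (Fin n) (A' ⧸ I))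
    {B' : Type v} [CommRing B'] [Algebra A' B'] [Module.Flat A' B']
    (π : B' →+* MvPolynomial (Fin n) (A' ⧸ I) ⧸ Ideal.span (Set.range f))
    (hπ : Function.Surjective π) (hker : RingHom.ker π = I.map (algebraMap A' B'))
    (hcomp : π.comp (algebraMap A' B') =
      ((Ideal.Quotient.mk (Ideal.span (Set.range f))).comp MvPolynomial.C).comp (Ideal.Quotient.mk I)) :
    ∃ (f' : Fin m → MvPolynomial (Fin n) A') (ψ : MvPolynomial (Fin n) A' →ₐ[A'] B'),
      (∀ i, MvPolynomial.map (Ideal.Quotient.mk I) (f' i) = f i) ∧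
      Function.Surjective ψ ∧ RingHom.ker ψ.toRingHom = Ideal.span (Set.range f') ∧
      ∀ q, π (ψ q) = Ideal.Quotient.mk (Ideal.span (Set.range f)) (MvPolynomial.map (Ideal.Quotient.mk I) q) := by
  classical
  have hρsurj : Function.Surjective (MvPolynomial.map (σ := Fin n) (Ideal.Quotient.mk I)) :=
    MvPolynomial.map_surjective _ Ideal.Quotient.mk_surjective
  have hρker : RingHom.ker (MvPolynomial.map (σ := Fin n) (Ideal.Quotient.mk I)) =
      I.map MvPolynomial.C := by
    rw [MvPolynomial.ker_map, Ideal.mk_ker]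
  have hnil : IsNilpotent I := by
    have h1 : IsNilpotent (IsLocalRing.maximalIdeal A') := by
      have := IsArtinianRing.isNilpotent_jacobson_bot (R := A')
      rwa [IsLocalRing.jacobson_eq_maximalIdeal ⊥ bot_ne_top] at this
    obtain ⟨N, hN⟩ := h1
    refine ⟨N, ?_⟩
    rw [Ideal.zero_eq_bot, eq_bot_iff]
    calc I ^ N ≤ IsLocalRing.maximalIdeal A' ^ N :=
          Ideal.pow_right_mono (IsLocalRing.le_maximalIdeal hI) N
      _ = ⊥ := hN
  obtain ⟨N, hN⟩ := hnil
  rw [Ideal.zero_eq_bot] at hN
  choose b hb using fun j : Fin n =>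
    hπ (Ideal.Quotient.mk (Ideal.span (Set.range f)) (MvPolynomial.X j))
  let ψ : MvPolynomial (Fin n) A' →ₐ[A'] B' := MvPolynomial.aeval b
  have hπψ : ∀ q, π (ψ q) = Ideal.Quotient.mk (Ideal.span (Set.range f))
      (MvPolynomial.map (Ideal.Quotient.mk I) q) := by
    intro q
    have : π.comp (ψ : MvPolynomial (Fin n) A' →+* B') =
        (Ideal.Quotient.mk (Ideal.span (Set.range f))).comp
          (MvPolynomial.map (Ideal.Quotient.mk I)) := by
      apply MvPolynomial.ringHom_ext
      · intro a
        have := RingHom.congr_fun hcomp a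
        simpa [ψ] using this
      · intro j
        simp [ψ, hb]
    exact RingHom.congr_fun this q
  -- surjectivity
  have hψsurj : Function.Surjective ψ := by
    have : LinearMap.range ψ.toLinearMap = ⊤ := by
      apply eq_top_of_sup_smul_top I ⟨N, hN⟩
      rw [eq_top_iff]
      intro b' _
      obtain ⟨q0, hq0⟩ := Ideal.Quotient.mk_surjective (π b')
      obtain ⟨q, rfl⟩ := hρsurj q0
      have h1 : b' - ψ q ∈ I • (⊤ : Submodule A' B') := by
        rw [Ideal.smul_top_eq_map, Submodule.restrictScalars_mem, ← hker, RingHom.mem_ker,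
          map_sub, hπψ, hq0, sub_self]
      have h2 : b' = ψ q + (b' - ψ q) := by ring
      rw [h2]
      exact Submodule.add_mem_sup ⟨q, rfl⟩ h1
    exact LinearMap.range_eq_top.mp this
  -- lifts
  have hlift : ∀ i, ∃ g : MvPolynomial (Fin n) A',
      MvPolynomial.map (Ideal.Quotient.mk I) g = f i ∧ ψ g = 0 := by
    intro i
    obtain ⟨g, hg⟩ := hρsurj (f i)
    have h1 : ψ g ∈ I • (⊤ : Submodule A' B') := by
      rw [Ideal.smul_top_eq_map, Submodule.restrictScalars_mem, ← hker, RingHom.mem_ker, hπψ, hg]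
      exact Ideal.Quotient.eq_zero_iff_mem.mpr (Ideal.subset_span ⟨i, rfl⟩)
    have h2 : (I • (⊤ : Submodule A' B')) =
        (I • (⊤ : Submodule A' (MvPolynomial (Fin n) A'))).map ψ.toLinearMap := by
      rw [Submodule.map_smul'', Submodule.map_top, LinearMap.range_eq_top.mpr hψsurj]
    rw [h2] at h1
    obtain ⟨e, he, hee⟩ := h1
    refine ⟨g - e, ?_, ?_⟩
    · rw [map_sub, hg]
      have : MvPolynomial.map (Ideal.Quotient.mk I) e = 0 := by
        rw [← RingHom.mem_ker, hρker]
        rw [SetLike.mem_coe, Ideal.smul_top_eq_map, Submodule.restrictScalars_mem,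
          MvPolynomial.algebraMap_eq] at he
        exact he
      rw [this, sub_zero]
    · rw [map_sub]
      have : ψ e = ψ g := hee
      rw [this, sub_self]
  choose f' hf'ρ hf'ψ using hlift
  refine ⟨f', ψ, hf'ρ, hψsurj, ?_, hπψ⟩
  apply le_antisymm
  · apply le_of_le_sup_mul _ _ (I.map MvPolynomial.C) N (by rw [← Ideal.map_pow, hN, Ideal.map_bot])
    intro q hq
    have hq0 : ψ q = 0 := hq
    have h1 : MvPolynomial.map (Ideal.Quotient.mk I) q ∈ Ideal.span (Set.range f) := by
      rw [← Ideal.Quotient.eq_zero_iff_mem, ← hπψ, hq0, map_zero]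
    obtain ⟨c, hc⟩ := (Ideal.mem_span_range_iff_exists_fun).mp h1
    choose g hg using fun i => hρsurj (c i)
    have hdK : ψ (q - ∑ i, g i * f' i) = 0 := by
      simp [hq0, hf'ψ]
    have hdρ : MvPolynomial.map (Ideal.Quotient.mk I) (q - ∑ i, g i * f' i) = 0 := by
      simp [hg, hf'ρ, hc]
    have hdI : q - ∑ i, g i * f' i ∈ I • (⊤ : Submodule A' (MvPolynomial (Fin n) A')) := by
      rw [Ideal.smul_top_eq_map, Submodule.restrictScalars_mem, MvPolynomial.algebraMap_eq,
        ← hρker]
      exact hdρ
    have hd : q - ∑ i, g i * f' i ∈ I • LinearMap.ker ψ.toLinearMap :=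
      inf_smul_top_le I ψ.toLinearMap hψsurj ⟨hdK, hdI⟩
    have hd' : q - ∑ i, g i * f' i ∈ I.map MvPolynomial.C * RingHom.ker ψ.toRingHom := by
      refine Submodule.smul_induction_on hd ?_ ?_
      · intro a ha x hx
        rw [Algebra.smul_def, MvPolynomial.algebraMap_eq]
        exact Ideal.mul_mem_mul (Ideal.mem_map_of_mem _ ha) hx
      · intro x y hx hy
        exact Ideal.add_mem _ hx hy
    have : q = ∑ i, g i * f' i + (q - ∑ i, g i * f' i) := by ring
    rw [this]
    exact Ideal.add_mem _
      (Ideal.mem_sup_left (Ideal.sum_mem _ fun i _ =>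
        Ideal.mul_mem_left _ _ (Ideal.subset_span ⟨i, rfl⟩)))
      (Ideal.mem_sup_right hd')
  · rw [Ideal.span_le]
    rintro _ ⟨i, rfl⟩
    exact hf'ψ i

end Groth.Agent.S13134
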