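import Groth.Statements.S13135
import Mathlib
import Groth.Agent.Lib.helper28.ArtReg

set_option autoImplicit false
universe u
open CAlg

namespace Groth.Agent.S13135

open Groth.Agent.Lib.helper28.ArtReg RingTheory.Sequence

/-- Let A' be an Artinian local ring, I a proper ideal, A = A'/I and f_1, …, f_m a regular sequence in
A[x_1, …, x_n]. For every choice of lifts f'_1, …, f'_m in A'[x_1, …, x_n] the quotient A'[x]/(f'_1,
…, f'_m) is flat over A' (so it is a flat lifting of A[x]/(f_1, …, f_m)). (The published statement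
is for a surjection of local Artinian algebras with a fixed residue field over a ring of Witt
vectors; only the Artinian local base and the proper ideal are used, which is the form taken here.) -/
theorem result
    {A' : Type u} [CommRing A'] [IsArtinianRing A'] [IsLocalRing A'] (I : Ideal A') (hI : I ≠ ⊤)
    {n m : ℕ} (f : Fin m → MvPolynomial (Fin n) (A' ⧸ I))
    (hreg : RingTheory.Sequence.IsRegular (MvPolynomial (Fin n) (A' ⧸ I)) (List.ofFn f))
    (f' : Fin m → MvPolynomial (Fin n) A') (hf' : ∀ i, MvPolynomial.map (Ideal.Quotient.mk I) (f' i) = f i) :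
    Module.Flat A' (MvPolynomial (Fin n) A' ⧸ Ideal.span (Set.range f')) := by
  classical
  let ψ : MvPolynomial (Fin n) A' →+* MvPolynomial (Fin n) (A' ⧸ I) :=
    MvPolynomial.map (Ideal.Quotient.mk I)
  have hψsurj : Function.Surjective ψ := MvPolynomial.map_surjective _ Ideal.Quotient.mk_surjective
  let _ : Algebra (MvPolynomial (Fin n) A') (MvPolynomial (Fin n) (A' ⧸ I)) := ψ.toAlgebra
  have halg : ∀ p : MvPolynomial (Fin n) A',
      algebraMap (MvPolynomial (Fin n) A') (MvPolynomial (Fin n) (A' ⧸ I)) p = ψ p := fun _ => rfl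
  -- `M / I M ≃ (A'/I)[x]` as `A'[x]`-modules
  have hker : LinearMap.ker (Algebra.linearMap (MvPolynomial (Fin n) A')
      (MvPolynomial (Fin n) (A' ⧸ I))) = ISub (S := MvPolynomial (Fin n) A') I
        (MvPolynomial (Fin n) A') := by
    unfold ISub
    rw [Ideal.smul_eq_mul, Ideal.mul_top]
    have h1 := MvPolynomial.ker_map (σ := Fin n) (Ideal.Quotient.mk I)
    rw [Ideal.mk_ker] at h1
    ext p
    rw [LinearMap.mem_ker, Algebra.linearMap_apply, halg, MvPolynomial.algebraMap_eq, ← h1,
      RingHom.mem_ker]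
  let e : Mbar (S := MvPolynomial (Fin n) A') I (MvPolynomial (Fin n) A') ≃ₗ[MvPolynomial (Fin n) A']
      MvPolynomial (Fin n) (A' ⧸ I) :=
    (Submodule.quotEquivOfEq _ _ hker.symm).trans
      ((Algebra.linearMap (MvPolynomial (Fin n) A')
        (MvPolynomial (Fin n) (A' ⧸ I))).quotKerEquivOfSurjective hψsurj)
  have hT := isWeaklyRegular_iff_Mbar (R := A') (S := MvPolynomial (Fin n) A') I hI (List.ofFn f')
    (MvPolynomial (Fin n) A')
  have hw : IsWeaklyRegular (MvPolynomial (Fin n) A') (List.ofFn f') := by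
    rw [hT.1, e.isWeaklyRegular_congr,
      ← isWeaklyRegular_map_algebraMap_iff (MvPolynomial (Fin n) (A' ⧸ I)), List.map_ofFn]
    have : (⇑(algebraMap (MvPolynomial (Fin n) A') (MvPolynomial (Fin n) (A' ⧸ I))) ∘ f') = f := by
      funext i
      exact hf' i
    rw [this]
    exact hreg.toIsWeaklyRegular
  have hflat := hT.2 hw
  have hJ : (Ideal.ofList (List.ofFn f') • (⊤ : Submodule (MvPolynomial (Fin n) A')
      (MvPolynomial (Fin n) A'))) = Ideal.span (Set.range f') := by
    rw [Ideal.smul_eq_mul, Ideal.mul_top]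
    unfold Ideal.ofList
    congr 1
    ext r
    simp [List.mem_ofFn]
  exact Module.Flat.of_linearEquiv ((Submodule.quotEquivOfEq _ _ hJ).restrictScalars A').symm

end Groth.Agent.S13135
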