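import Groth.Statements.S13138
import Mathlib
import Groth.Agent.Lib.helper29.PolyFrob
import Groth.Agent.S13137

set_option autoImplicit false
universe u
open scoped BigOperators
open FrobAlg

namespace Groth.Agent.S13138

open MvPolynomial Groth.Agent.H29.PolyFrob

section
variable (p : ℕ) [hp : Fact p.Prime] (k : Type u) [Field k] [CharP k p] [PerfectRing k p] {n : ℕ}

theorem res_surjective : Function.Surjective (FrobAlg.res p k) := by
  intro a
  refine ⟨WittVector.truncate 2 (WittVector.teichmuller p a), ?_⟩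
  rw [FrobAlg.res_truncate, WittVector.teichmuller_coeff_zero]

theorem map_res_p :
    MvPolynomial.map (FrobAlg.res p k) (p : MvPolynomial (Fin n) (FrobAlg.W2 p k)) = 0 := by
  rw [map_natCast]
  have : ((p : ℕ) : MvPolynomial (Fin n) k) = C ((p : ℕ) : k) := by rw [map_natCast]
  rw [this, CharP.cast_eq_zero, map_zero]

theorem ker_map_res :
    RingHom.ker (MvPolynomial.map (σ := Fin n) (FrobAlg.res p k)) =
      Ideal.span {(p : MvPolynomial (Fin n) (FrobAlg.W2 p k))} := by
  rw [MvPolynomial.ker_map, Groth.Agent.H29.W2Split.ker_res_eq, Ideal.map_span, Set.image_singleton,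
    map_natCast]

theorem map_res_pert (h : Fin n → MvPolynomial (Fin n) (FrobAlg.W2 p k))
    (g : MvPolynomial (Fin n) (FrobAlg.W2 p k)) :
    MvPolynomial.map (FrobAlg.res p k) (pert p k (Fin n) h g) =
      (MvPolynomial.map (FrobAlg.res p k) g) ^ p := by
  rw [pert_eq, map_add, map_mul, map_res_p, zero_mul, add_zero]
  obtain ⟨d, hd⟩ := polyFrob_sub_pow p k (Fin n) g
  have : FrobAlg.polyFrob p k (Fin n) g = g ^ p + (p : MvPolynomial (Fin n) (FrobAlg.W2 p k)) * d := by
    rw [← hd]; ring
  rw [this, map_add, map_mul, map_res_p, zero_mul, add_zero, map_pow]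

end

/-- Let k be a perfect field of characteristic p, R' = W₂(k)[x_1, …, x_n], f'_1, …, f'_m ∈ R' with
reductions f_1, …, f_m ∈ R = k[x_1, …, x_n], J' = (f'_1, …, f'_m), J = (f_1, …, f_m), and assume B'
= R'/J' is flat over W₂(k), so that it is a flat lifting of B = R/J. The Frobenius of B lifts to B'
— there is a ring endomorphism of B' semilinear for the Witt-vector Frobenius σ₂ of W₂(k) and
reducing to the p-th power map of B — if and only if there are h_1, …, h_n ∈ R' with F'(f'_i) −
f'_i^p − p·Σ_j (∂f'_i/∂x_j)^p h_j ∈ pJ' for every i, where F' is the standard Frobenius lift of R'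
(σ₂ on coefficients, x_j ↦ x_j^p). Since multiplication by p identifies R with pR', this is the
congruence P(f'_i) ≡ Σ_j (∂f_i/∂x_j)^p h_j modulo J for the Frobenius residues P(f'_i) = (F'(f'_i) −
f'_i^p)/p. -/
theorem result
    (p : ℕ) [Fact p.Prime] (k : Type u) [Field k] [CharP k p] [PerfectRing k p]
    {n m : ℕ} (f' : Fin m → MvPolynomial (Fin n) (FrobAlg.W2 p k))
    (hflat : ((Ideal.Quotient.mk (Ideal.span (Set.range f'))).comp
      (MvPolynomial.C : FrobAlg.W2 p k →+* MvPolynomial (Fin n) (FrobAlg.W2 p k))).Flat) :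
    (∃ Φ : (MvPolynomial (Fin n) (FrobAlg.W2 p k) ⧸ Ideal.span (Set.range f')) →+*
        (MvPolynomial (Fin n) (FrobAlg.W2 p k) ⧸ Ideal.span (Set.range f')),
      Φ.comp ((Ideal.Quotient.mk (Ideal.span (Set.range f'))).comp MvPolynomial.C) =
        ((Ideal.Quotient.mk (Ideal.span (Set.range f'))).comp MvPolynomial.C).comp (FrobAlg.sigma p k) ∧
      ∀ b, Ideal.quotientMap ((Ideal.span (Set.range f')).map (MvPolynomial.map (FrobAlg.res p k)))
          (MvPolynomial.map (FrobAlg.res p k)) Ideal.le_comap_map (Φ b) =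
        (Ideal.quotientMap ((Ideal.span (Set.range f')).map (MvPolynomial.map (FrobAlg.res p k)))
          (MvPolynomial.map (FrobAlg.res p k)) Ideal.le_comap_map b) ^ p) ↔
    ∃ h : Fin n → MvPolynomial (Fin n) (FrobAlg.W2 p k), ∀ i,
      FrobAlg.polyFrob p k (Fin n) (f' i) - f' i ^ p
        - (p : MvPolynomial (Fin n) (FrobAlg.W2 p k)) * ∑ j, MvPolynomial.pderiv j (f' i) ^ p * h j
        ∈ Ideal.span {(p : MvPolynomial (Fin n) (FrobAlg.W2 p k))} * Ideal.span (Set.range f') := by
  classical
  set J' := Ideal.span (Set.range f') with hJ'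
  have hp0 : 0 < p := (Fact.out : p.Prime).pos
  have hmem : ∀ i, f' i ∈ J' := fun i => Ideal.subset_span (Set.mem_range_self i)
  constructor
  · rintro ⟨Φ, hsemi, hred⟩
    -- Step 1
    have step1 : ∀ j : Fin n, ∃ e : MvPolynomial (Fin n) (FrobAlg.W2 p k),
        Φ (Ideal.Quotient.mk J' (X j)) =
          Ideal.Quotient.mk J' (X j ^ p + (p : MvPolynomial (Fin n) (FrobAlg.W2 p k)) * e) := by
      intro j
      obtain ⟨y, hy⟩ := Ideal.Quotient.mk_surjective (Φ (Ideal.Quotient.mk J' (X j)))
      have h1 := hred (Ideal.Quotient.mk J' (X j))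
      rw [← hy, Ideal.quotientMap_mk, Ideal.quotientMap_mk, ← map_pow, Ideal.Quotient.eq] at h1
      rw [Ideal.mem_map_iff_of_surjective _
        (MvPolynomial.map_surjective _ (res_surjective p k))] at h1
      obtain ⟨z, hz, hzy⟩ := h1
      have h2 : y - z - X j ^ p ∈ RingHom.ker (MvPolynomial.map (σ := Fin n) (FrobAlg.res p k)) := by
        rw [RingHom.mem_ker, map_sub, map_sub, hzy]
        simp
      rw [ker_map_res, Ideal.mem_span_singleton'] at h2
      obtain ⟨e, he⟩ := h2
      refine ⟨e, ?_⟩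
      rw [← hy, Ideal.Quotient.eq]
      have : y - (X j ^ p + (p : MvPolynomial (Fin n) (FrobAlg.W2 p k)) * e) = z := by
        rw [mul_comm, he]; ring
      rw [this]
      exact hz
    choose e he using step1
    have hcomm : (Ideal.Quotient.mk J').comp (pert p k (Fin n) e) = Φ.comp (Ideal.Quotient.mk J') := by
      apply MvPolynomial.ringHom_ext
      · intro w
        have := RingHom.congr_fun hsemi w
        simp only [RingHom.comp_apply] at this ⊢
        rw [pert_C, this]
      · intro j
        simp only [RingHom.comp_apply]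
        rw [pert_X, he]
    have step3 : ∀ i, pert p k (Fin n) e (f' i) ∈ J' := by
      intro i
      rw [← Ideal.Quotient.eq_zero_iff_mem]
      have := RingHom.congr_fun hcomm (f' i)
      simp only [RingHom.comp_apply] at this
      rw [this, Ideal.Quotient.eq_zero_iff_mem.mpr (hmem i), map_zero]
    refine ⟨fun j => -e j, fun i => ?_⟩
    have hE : FrobAlg.polyFrob p k (Fin n) (f' i) - f' i ^ p
        - (p : MvPolynomial (Fin n) (FrobAlg.W2 p k)) * ∑ j, MvPolynomial.pderiv j (f' i) ^ p * (-e j) =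
        pert p k (Fin n) e (f' i) - f' i ^ p := by
      rw [pert_eq]
      simp only [mul_neg, Finset.sum_neg_distrib]
      ring
    rw [hE]
    have hflat' : Module.Flat (FrobAlg.W2 p k) (MvPolynomial (Fin n) (FrobAlg.W2 p k) ⧸ J') :=
      RingHom.flat_algebraMap_iff.mp hflat
    have key := (Groth.Agent.S13137.result p k (MvPolynomial (Fin n) (FrobAlg.W2 p k)) J').mp hflat'
    rw [← key]
    refine ⟨?_, Ideal.sub_mem _ (step3 i) (Ideal.pow_mem_of_mem _ (hmem i) p hp0)⟩
    rw [pert_eq]
    obtain ⟨d, hd⟩ := polyFrob_sub_pow p k (Fin n) (f' i)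
    have : FrobAlg.polyFrob p k (Fin n) (f' i) +
        (p : MvPolynomial (Fin n) (FrobAlg.W2 p k)) * ∑ j, MvPolynomial.pderiv j (f' i) ^ p * e j - f' i ^ p =
        (p : MvPolynomial (Fin n) (FrobAlg.W2 p k)) * (d + ∑ j, MvPolynomial.pderiv j (f' i) ^ p * e j) := by
      rw [mul_add, ← hd]; ring
    rw [this]
    exact Ideal.mul_mem_right _ _ (Ideal.subset_span rfl)
  · rintro ⟨h, hh⟩
    set Fh := pert p k (Fin n) (fun j => -h j) with hFh
    have hFh_eq : ∀ g, Fh g = FrobAlg.polyFrob p k (Fin n) g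
        - (p : MvPolynomial (Fin n) (FrobAlg.W2 p k)) * ∑ j, MvPolynomial.pderiv j g ^ p * h j := by
      intro g
      rw [hFh, pert_eq]
      simp only [mul_neg, Finset.sum_neg_distrib]
      ring
    have hJ : J' ≤ J'.comap Fh := by
      rw [hJ', Ideal.span_le]
      rintro _ ⟨i, rfl⟩
      rw [SetLike.mem_coe, Ideal.mem_comap, hFh_eq]
      have h1 := (Ideal.mul_le_inf (hh i)).2
      have h2 : f' i ^ p ∈ J' := Ideal.pow_mem_of_mem _ (hmem i) p hp0
      have := Ideal.add_mem _ h1 h2
      convert this using 1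
      ring
    refine ⟨Ideal.quotientMap J' Fh hJ, ?_, ?_⟩
    · ext w
      simp only [RingHom.comp_apply]
      rw [Ideal.quotientMap_mk, hFh, pert_C]
    · intro b
      obtain ⟨g, rfl⟩ := Ideal.Quotient.mk_surjective b
      rw [Ideal.quotientMap_mk, Ideal.quotientMap_mk, Ideal.quotientMap_mk, hFh, map_res_pert, map_pow]

end Groth.Agent.S13138
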