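import Groth.Statements.S13139
import Mathlib
import Groth.Agent.Lib.helper29.PolyFrob
import Groth.Agent.Lib.helper29.W2Art
import Groth.Agent.S13134
import Groth.Agent.S13135
import Groth.Agent.S13138

set_option autoImplicit false
universe u
open scoped BigOperators
open FrobAlg

namespace Groth.Agent.S13139

open MvPolynomial Groth.Agent.H29.PolyFrob Groth.Agent.H29.W2Art

section
variable (p : ℕ) [hp : Fact p.Prime] (k : Type u) [Field k] [CharP k p] [PerfectRing k p] {n m : ℕ}

/-- `(W₂/(p))[x] ≃ k[x]` -/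
noncomputable def mapE : MvPolynomial (Fin n) (FrobAlg.W2 p k ⧸ Ideal.span {(p : FrobAlg.W2 p k)}) ≃+*
    MvPolynomial (Fin n) k := MvPolynomial.mapEquiv (Fin n) (eK p k)

theorem mapE_map_mk (g : MvPolynomial (Fin n) (FrobAlg.W2 p k)) :
    mapE p k (MvPolynomial.map (Ideal.Quotient.mk (Ideal.span {(p : FrobAlg.W2 p k)})) g) =
      MvPolynomial.map (FrobAlg.res p k) g := by
  rw [mapE, MvPolynomial.mapEquiv_apply, MvPolynomial.map_map]
  have : ((eK p k : _ →+* k)).comp (Ideal.Quotient.mk (Ideal.span {(p : FrobAlg.W2 p k)})) =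
      FrobAlg.res p k := eK_comp_mk p k
  rw [this]

theorem mapE_C (c : FrobAlg.W2 p k ⧸ Ideal.span {(p : FrobAlg.W2 p k)}) :
    mapE p k (C c : MvPolynomial (Fin n) _) = C (eK p k c) := by
  rw [mapE, MvPolynomial.mapEquiv_apply, MvPolynomial.map_C]
  rfl

theorem map_span_eq (f : Fin m → MvPolynomial (Fin n) k)
    (f' : Fin m → MvPolynomial (Fin n) (FrobAlg.W2 p k))
    (hf' : ∀ i, MvPolynomial.map (FrobAlg.res p k) (f' i) = f i) :
    (Ideal.span (Set.range f')).map (MvPolynomial.map (FrobAlg.res p k)) = Ideal.span (Set.range f) := by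
  rw [Ideal.map_span, ← Set.range_comp]
  congr 2
  funext i
  exact hf' i

theorem map_res_p' :
    MvPolynomial.map (FrobAlg.res p k) (p : MvPolynomial (Fin n) (FrobAlg.W2 p k)) = 0 := by
  rw [map_natCast]
  have : ((p : ℕ) : MvPolynomial (Fin n) k) = C ((p : ℕ) : k) := by rw [map_natCast]
  rw [this, CharP.cast_eq_zero, map_zero]

theorem ker_map_res' :
    RingHom.ker (MvPolynomial.map (σ := Fin n) (FrobAlg.res p k)) =
      Ideal.span {(p : MvPolynomial (Fin n) (FrobAlg.W2 p k))} := by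
  rw [MvPolynomial.ker_map, Groth.Agent.H29.W2Split.ker_res_eq, Ideal.map_span, Set.image_singleton,
    map_natCast]

theorem isFLiftable_of_cond (f : Fin m → MvPolynomial (Fin n) k)
    (hreg : RingTheory.Sequence.IsRegular (MvPolynomial (Fin n) k) (List.ofFn f))
    (f' : Fin m → MvPolynomial (Fin n) (FrobAlg.W2 p k))
    (h : Fin n → MvPolynomial (Fin n) (FrobAlg.W2 p k))
    (hf' : ∀ i, MvPolynomial.map (FrobAlg.res p k) (f' i) = f i)
    (hcond : ∀ i, FrobAlg.polyFrob p k (Fin n) (f' i) - f' i ^ p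
        - (p : MvPolynomial (Fin n) (FrobAlg.W2 p k)) * ∑ j, MvPolynomial.pderiv j (f' i) ^ p * h j
        ∈ Ideal.span {(p : MvPolynomial (Fin n) (FrobAlg.W2 p k))} * Ideal.span (Set.range f')) :
    FrobAlg.IsFLiftable p k (MvPolynomial (Fin n) k ⧸ Ideal.span (Set.range f)) := by
  classical
  -- regularity of the reductions in (W/(p))[x]
  have hregK : RingTheory.Sequence.IsRegular
      (MvPolynomial (Fin n) (FrobAlg.W2 p k ⧸ Ideal.span {(p : FrobAlg.W2 p k)}))
      (List.ofFn fun i => MvPolynomial.map (Ideal.Quotient.mk (Ideal.span {(p : FrobAlg.W2 p k)})) (f' i)) := by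
    have hbs : List.ofFn f = (List.ofFn fun i => MvPolynomial.map
        (Ideal.Quotient.mk (Ideal.span {(p : FrobAlg.W2 p k)})) (f' i)).map (mapE p k) := by
      rw [List.map_ofFn]
      congr 1
      funext i
      simp only [Function.comp_apply]
      rw [mapE_map_mk, hf']
    refine (AddEquiv.isRegular_congr (e := (mapE p k).toAddEquiv) ?_).mpr hreg
    rw [hbs]
    apply List.forall₂_map_right_iff.mpr
    apply List.forall₂_same.mpr
    intro r _ x
    simp [smul_eq_mul]
  have hflatM : Module.Flat (FrobAlg.W2 p k)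
      (MvPolynomial (Fin n) (FrobAlg.W2 p k) ⧸ Ideal.span (Set.range f')) :=
    Groth.Agent.S13135.result (Ideal.span {(p : FrobAlg.W2 p k)}) (span_p_ne_top p k) _ hregK f'
      (fun i => rfl)
  have hflat : ((Ideal.Quotient.mk (Ideal.span (Set.range f'))).comp
      (MvPolynomial.C : FrobAlg.W2 p k →+* MvPolynomial (Fin n) (FrobAlg.W2 p k))).Flat :=
    RingHom.flat_algebraMap_iff.mpr hflatM
  obtain ⟨Φ, hsemi, hred⟩ := (Groth.Agent.S13138.result p k f' hflat).mpr ⟨h, hcond⟩
  have hmapspan := map_span_eq p k f f' hf'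
  have hle : Ideal.span (Set.range f') ≤
      (Ideal.span (Set.range f)).comap (MvPolynomial.map (FrobAlg.res p k)) := by
    rw [← Ideal.map_le_iff_le_comap, hmapspan]
  have hressurj : Function.Surjective (MvPolynomial.map (σ := Fin n) (FrobAlg.res p k)) :=
    MvPolynomial.map_surjective _ (res_surjective p k)
  refine ⟨MvPolynomial (Fin n) (FrobAlg.W2 p k) ⧸ Ideal.span (Set.range f'), inferInstance,
    (Ideal.Quotient.mk (Ideal.span (Set.range f'))).comp MvPolynomial.C,
    Ideal.quotientMap (Ideal.span (Set.range f)) (MvPolynomial.map (FrobAlg.res p k)) hle, Φ,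
    ⟨⟨hflat, Ideal.quotientMap_surjective hressurj, ?_, ?_⟩, hsemi, ?_⟩⟩
  · -- kernel
    apply le_antisymm
    · intro b hb
      obtain ⟨g, rfl⟩ := Ideal.Quotient.mk_surjective b
      rw [RingHom.mem_ker, Ideal.quotientMap_mk, Ideal.Quotient.eq_zero_iff_mem, ← hmapspan,
        Ideal.mem_map_iff_of_surjective _ hressurj] at hb
      obtain ⟨z, hz, hzg⟩ := hb
      have h2 : g - z ∈ RingHom.ker (MvPolynomial.map (σ := Fin n) (FrobAlg.res p k)) := by
        rw [RingHom.mem_ker, map_sub, hzg, sub_self]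
      rw [ker_map_res', Ideal.mem_span_singleton'] at h2
      obtain ⟨d, hd⟩ := h2
      have h3 : Ideal.Quotient.mk (Ideal.span (Set.range f')) g =
          ((Ideal.Quotient.mk (Ideal.span (Set.range f'))).comp MvPolynomial.C) (p : FrobAlg.W2 p k) *
            Ideal.Quotient.mk (Ideal.span (Set.range f')) d := by
        rw [RingHom.comp_apply, map_natCast, ← map_mul, mul_comm, hd, eq_comm, Ideal.Quotient.eq]
        simpa using hz
      rw [h3]
      apply Ideal.mul_mem_right
      apply Ideal.mem_map_of_mem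
      rw [Groth.Agent.H29.W2Split.ker_res_eq]
      exact Ideal.subset_span rfl
    · rw [Ideal.map_le_iff_le_comap]
      intro w hw
      rw [RingHom.mem_ker] at hw
      rw [Ideal.mem_comap, RingHom.mem_ker, RingHom.comp_apply, Ideal.quotientMap_mk,
        MvPolynomial.map_C, hw, map_zero, map_zero]
  · -- comm
    ext w
    simp only [RingHom.comp_apply]
    rw [Ideal.quotientMap_mk, MvPolynomial.map_C]
    rfl
  · -- reduction
    have hπ : ∀ b, Ideal.quotientMap (Ideal.span (Set.range f)) (MvPolynomial.map (FrobAlg.res p k)) hle b =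
        Ideal.quotEquivOfEq hmapspan
          (Ideal.quotientMap ((Ideal.span (Set.range f')).map (MvPolynomial.map (FrobAlg.res p k)))
            (MvPolynomial.map (FrobAlg.res p k)) Ideal.le_comap_map b) := by
      intro b
      obtain ⟨g, rfl⟩ := Ideal.Quotient.mk_surjective b
      rw [Ideal.quotientMap_mk, Ideal.quotientMap_mk, Ideal.quotEquivOfEq_mk]
    intro b
    rw [hπ, hπ, hred, map_pow]

theorem cond_of_isFLiftable (f : Fin m → MvPolynomial (Fin n) k)
    (hF : FrobAlg.IsFLiftable p k (MvPolynomial (Fin n) k ⧸ Ideal.span (Set.range f))) :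
    ∃ (f' : Fin m → MvPolynomial (Fin n) (FrobAlg.W2 p k)) (h : Fin n → MvPolynomial (Fin n) (FrobAlg.W2 p k)),
      (∀ i, MvPolynomial.map (FrobAlg.res p k) (f' i) = f i) ∧
      ∀ i, FrobAlg.polyFrob p k (Fin n) (f' i) - f' i ^ p
        - (p : MvPolynomial (Fin n) (FrobAlg.W2 p k)) * ∑ j, MvPolynomial.pderiv j (f' i) ^ p * h j
        ∈ Ideal.span {(p : MvPolynomial (Fin n) (FrobAlg.W2 p k))} * Ideal.span (Set.range f') := by
  classical
  obtain ⟨B, _, ι, π, Φ, hFL⟩ := hF
  letI : Algebra (FrobAlg.W2 p k) B := ι.toAlgebra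
  haveI : Module.Flat (FrobAlg.W2 p k) B := hFL.flat
  set Ip : Ideal (FrobAlg.W2 p k) := Ideal.span {(p : FrobAlg.W2 p k)} with hIp
  let f0 : Fin m → MvPolynomial (Fin n) (FrobAlg.W2 p k ⧸ Ip) := fun i => (mapE p k).symm (f i)
  have hQ : Ideal.span (Set.range f) =
      (Ideal.span (Set.range f0)).map ((mapE p k : _ ≃+* MvPolynomial (Fin n) k) : _ →+* _) := by
    rw [Ideal.map_span, ← Set.range_comp]
    congr 2
    funext i
    simp [f0]
  let Q := Ideal.quotientEquiv (Ideal.span (Set.range f0)) (Ideal.span (Set.range f)) (mapE p k) hQ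
  let πt : B →+* MvPolynomial (Fin n) (FrobAlg.W2 p k ⧸ Ip) ⧸ Ideal.span (Set.range f0) :=
    (Q.symm : _ →+* _).comp π
  have hπt : Function.Surjective πt := Q.symm.surjective.comp hFL.surj
  have hkert : RingHom.ker πt = Ip.map (algebraMap (FrobAlg.W2 p k) B) := by
    have h1 : RingHom.ker πt = RingHom.ker π := by
      ext x
      simp only [RingHom.mem_ker, πt, RingHom.comp_apply]
      exact map_eq_zero_iff _ Q.symm.injective
    rw [h1, hFL.ker_eq, Groth.Agent.H29.W2Split.ker_res_eq]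
    rfl
  have hcompt : πt.comp (algebraMap (FrobAlg.W2 p k) B) =
      ((Ideal.Quotient.mk (Ideal.span (Set.range f0))).comp MvPolynomial.C).comp (Ideal.Quotient.mk Ip) := by
    ext w
    simp only [RingHom.comp_apply, πt]
    change Q.symm (π (ι w)) = _
    rw [RingEquiv.symm_apply_eq]
    have h1 := RingHom.congr_fun hFL.comm w
    simp only [RingHom.comp_apply] at h1
    rw [h1, Ideal.quotientEquiv_mk, mapE_C, eK_mk]
    rfl
  obtain ⟨f', ψ, hlift, hψsurj, hψker, hπψ⟩ :=
    Groth.Agent.S13134.result Ip (span_p_ne_top p k) f0 πt hπt hkert hcompt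
  have hf' : ∀ i, MvPolynomial.map (FrobAlg.res p k) (f' i) = f i := by
    intro i
    rw [← mapE_map_mk, hlift]
    simp [f0]
  set J' := Ideal.span (Set.range f') with hJ'
  have hkerJ : J' = RingHom.ker ψ := by rw [← hψker]; rfl
  let E : (MvPolynomial (Fin n) (FrobAlg.W2 p k) ⧸ J') ≃ₐ[FrobAlg.W2 p k] B :=
    (Ideal.quotientEquivAlgOfEq (FrobAlg.W2 p k) hkerJ).trans
      (Ideal.quotientKerAlgEquivOfSurjective hψsurj)
  have hE_mk : ∀ g, E (Ideal.Quotient.mk J' g) = ψ g := fun g => rfl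
  haveI hflatM : Module.Flat (FrobAlg.W2 p k) (MvPolynomial (Fin n) (FrobAlg.W2 p k) ⧸ J') :=
    Module.Flat.of_linearEquiv E.toLinearEquiv
  have hflat : ((Ideal.Quotient.mk J').comp
      (MvPolynomial.C : FrobAlg.W2 p k →+* MvPolynomial (Fin n) (FrobAlg.W2 p k))).Flat :=
    RingHom.flat_algebraMap_iff.mpr hflatM
  let Φ' : (MvPolynomial (Fin n) (FrobAlg.W2 p k) ⧸ J') →+*
      (MvPolynomial (Fin n) (FrobAlg.W2 p k) ⧸ J') :=
    ((E.symm : B ≃ₐ[FrobAlg.W2 p k] _) : B →+* _).comp (Φ.comp ((E : _ ≃ₐ[FrobAlg.W2 p k] B) : _ →+* B))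
  have hΦ' : ∀ b, E (Φ' b) = Φ (E b) := by
    intro b
    simp [Φ']
  have hιE : ∀ w : FrobAlg.W2 p k, E (Ideal.Quotient.mk J' (C w)) = ι w := by
    intro w
    rw [hE_mk]
    exact ψ.commutes w
  have hsemi' : Φ'.comp ((Ideal.Quotient.mk J').comp MvPolynomial.C) =
      ((Ideal.Quotient.mk J').comp MvPolynomial.C).comp (FrobAlg.sigma p k) := by
    ext w
    simp only [RingHom.comp_apply]
    apply E.injective
    rw [hΦ', hιE, hιE]
    have := RingHom.congr_fun hFL.semi w
    simpa using this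
  have hmapspan := map_span_eq p k f f' hf'
  -- comparison of the two reductions
  have hπE : ∀ b, π (E b) = Ideal.quotEquivOfEq hmapspan
      (Ideal.quotientMap (J'.map (MvPolynomial.map (FrobAlg.res p k)))
        (MvPolynomial.map (FrobAlg.res p k)) Ideal.le_comap_map b) := by
    intro b
    obtain ⟨g, rfl⟩ := Ideal.Quotient.mk_surjective b
    rw [hE_mk, Ideal.quotientMap_mk, Ideal.quotEquivOfEq_mk]
    have h1 := hπψ g
    simp only [πt, RingHom.comp_apply] at h1
    have h2 : π (ψ g) = Q (Ideal.Quotient.mk _ (MvPolynomial.map (Ideal.Quotient.mk Ip) g)) := by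
      rw [← h1]
      simp
    rw [h2, Ideal.quotientEquiv_mk, mapE_map_mk]
  have hred' : ∀ b, Ideal.quotientMap (J'.map (MvPolynomial.map (FrobAlg.res p k)))
      (MvPolynomial.map (FrobAlg.res p k)) Ideal.le_comap_map (Φ' b) =
      (Ideal.quotientMap (J'.map (MvPolynomial.map (FrobAlg.res p k)))
        (MvPolynomial.map (FrobAlg.res p k)) Ideal.le_comap_map b) ^ p := by
    intro b
    apply (Ideal.quotEquivOfEq hmapspan).injective
    rw [map_pow, ← hπE, ← hπE, hΦ', hFL.red]
  obtain ⟨h, hh⟩ := (Groth.Agent.S13138.result p k f' hflat).mp ⟨Φ', hsemi', hred'⟩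
  exact ⟨f', h, hf', hh⟩

end

/-- Let k be a perfect field of characteristic p and f_1, …, f_m a regular sequence in R = k[x_1, …,
x_n]. The complete intersection A = R/(f_1, …, f_m) lifts to W₂(k) compatibly with Frobenius if and
only if for some lifts f'_1, …, f'_m ∈ R' = W₂(k)[x_1, …, x_n] of the f_i and some h_1, …, h_n ∈ R'
one has F'(f'_i) − f'_i^p − p·Σ_j (∂f'_i/∂x_j)^p h_j ∈ p·(f'_1, …, f'_m) for every i, F' being the
standard Frobenius lift of R'. In terms of Frobenius residues P(f') = (F'(f') − f'^p)/p ∈ R, which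
change by g^p when f' changes by pg, this is the congruence P_{f_i} + g_i^p ≡ Σ_j (∂f_i/∂x_j)^p h_j
modulo (f_1, …, f_m) for some g_i, h_j. -/
theorem result
    (p : ℕ) [Fact p.Prime] (k : Type u) [Field k] [CharP k p] [PerfectRing k p]
    {n m : ℕ} (f : Fin m → MvPolynomial (Fin n) k)
    (hreg : RingTheory.Sequence.IsRegular (MvPolynomial (Fin n) k) (List.ofFn f)) :
    FrobAlg.IsFLiftable p k (MvPolynomial (Fin n) k ⧸ Ideal.span (Set.range f)) ↔
    ∃ (f' : Fin m → MvPolynomial (Fin n) (FrobAlg.W2 p k)) (h : Fin n → MvPolynomial (Fin n) (FrobAlg.W2 p k)),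
      (∀ i, MvPolynomial.map (FrobAlg.res p k) (f' i) = f i) ∧
      ∀ i, FrobAlg.polyFrob p k (Fin n) (f' i) - f' i ^ p
        - (p : MvPolynomial (Fin n) (FrobAlg.W2 p k)) * ∑ j, MvPolynomial.pderiv j (f' i) ^ p * h j
        ∈ Ideal.span {(p : MvPolynomial (Fin n) (FrobAlg.W2 p k))} * Ideal.span (Set.range f') := by
  constructor
  · exact cond_of_isFLiftable p k f
  · rintro ⟨f', h, hf', hcond⟩
    exact isFLiftable_of_cond p k f hreg f' h hf' hcond

end Groth.Agent.S13139
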