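import Groth.Statements.S13141
import Mathlib

set_option autoImplicit false
universe u v w w'
open scoped TensorProduct
open GrpAlg

namespace Groth.Agent.S13141

/-- Let G be a finite group, R a commutative ring with |G| invertible in R, M a projective R-module with
an R-linear G-action and S an R-algebra. The natural map M^G ⊗_R S → M ⊗_R S is injective and its
image is the submodule of G-invariants of M ⊗_R S (G acting on the first factor); that is, M^G ⊗_R S
→ (M ⊗_R S)^G is bijective. -/
theorem result
    (R : Type u) [CommRing R] (G : Type v) [Group G] [Finite G] (hG : IsUnit ((Nat.card G : ℕ) : R))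
    (M : Type w) [AddCommGroup M] [Module R M] [Module.Projective R M] (ρ : Representation R G M)
    (S : Type w') [CommRing S] [Algebra R S] :
    Function.Injective (TensorProduct.map ρ.invariants.subtype (LinearMap.id : S →ₗ[R] S)) ∧
    LinearMap.range (TensorProduct.map ρ.invariants.subtype (LinearMap.id : S →ₗ[R] S)) =
      ⨅ g : G, LinearMap.eqLocus (LinearMap.rTensor S (ρ g)) LinearMap.id := by
  classical
  have _ : Fintype G := Fintype.ofFinite G
  set c : R := Ring.inverse ((Nat.card G : ℕ) : R) with hc
  have hcard : c * ((Fintype.card G : ℕ) : R) = 1 := by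
    rw [Fintype.card_eq_nat_card]; exact Ring.inverse_mul_cancel _ hG
  let avg : M →ₗ[R] M := c • ∑ g : G, ρ g
  have havg_apply : ∀ v, avg v = c • ∑ g : G, ρ g v := fun v => by
    simp [avg, LinearMap.sum_apply]
  have L1 : ∀ (h : G) (v : M), ρ h (avg v) = avg v := by
    intro h v
    rw [havg_apply, map_smul, map_sum]
    congr 1
    have : ∀ g : G, ρ h (ρ g v) = ρ (h * g) v := fun g => by rw [map_mul]; rfl
    simp only [this]
    exact Function.Bijective.sum_comp (Group.mulLeft_bijective h) (fun g => ρ g v)
  have L2 : ∀ v ∈ ρ.invariants, avg v = v := by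
    intro v hv
    rw [havg_apply]
    have : ∀ g : G, ρ g v = v := hv
    simp only [this]
    rw [Finset.sum_const, Finset.card_univ, ← Nat.cast_smul_eq_nsmul R, smul_smul, hcard, one_smul]
  let π : M →ₗ[R] ρ.invariants := avg.codRestrict ρ.invariants (fun v g => L1 g v)
  have hπ : π ∘ₗ ρ.invariants.subtype = LinearMap.id := by
    ext ⟨v, hv⟩
    exact L2 v hv
  have hπ' : ρ.invariants.subtype ∘ₗ π = avg := by
    ext v
    rfl
  constructor
  · apply Function.LeftInverse.injective (g := TensorProduct.map π (LinearMap.id : S →ₗ[R] S))
    intro x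
    rw [← LinearMap.comp_apply, ← TensorProduct.map_comp, hπ]
    simp
  · apply le_antisymm
    · rintro x ⟨y, rfl⟩
      rw [Submodule.mem_iInf]
      intro g
      rw [LinearMap.mem_eqLocus, LinearMap.id_apply, LinearMap.rTensor, ← LinearMap.comp_apply,
        ← TensorProduct.map_comp]
      congr 2
      ext ⟨v, hv⟩
      exact hv g
    · intro x hx
      rw [Submodule.mem_iInf] at hx
      have hx' : ∀ g : G, LinearMap.rTensor S (ρ g) x = x := fun g => by
        have := hx g
        rwa [LinearMap.mem_eqLocus, LinearMap.id_apply] at this
      have h1 : LinearMap.rTensor S avg x = x := by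
        have : LinearMap.rTensor S avg = c • ∑ g : G, LinearMap.rTensor S (ρ g) := by
          simp only [avg]
          rw [LinearMap.rTensor_smul, ← LinearMap.coe_rTensorHom, map_sum]
        rw [this, LinearMap.smul_apply, LinearMap.sum_apply]
        simp only [hx']
        rw [Finset.sum_const, Finset.card_univ, ← Nat.cast_smul_eq_nsmul R, smul_smul, hcard,
          one_smul]
      refine ⟨TensorProduct.map π (LinearMap.id : S →ₗ[R] S) x, ?_⟩
      rw [← LinearMap.comp_apply, ← TensorProduct.map_comp, hπ']
      exact h1

end Groth.Agent.S13141
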