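import Groth.Statements.S13142
import Mathlib

set_option autoImplicit false
universe u v
open GrpAlg

namespace Groth.Agent.S13142

/-- Let G be a finite group and R a commutative ring with |G| invertible in R, acting on R[x_1, …, x_n]
by R-algebra automorphisms. The invariant subring R[x_1, …, x_n]^G is a flat R-module (so the
quotient of affine n-space over R by G is flat over R). -/
theorem result
    (R : Type u) [CommRing R] (G : Type v) [Group G] [Finite G] (hG : IsUnit ((Nat.card G : ℕ) : R))
    (n : ℕ) (ρ : G →* (MvPolynomial (Fin n) R ≃ₐ[R] MvPolynomial (Fin n) R)) :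
    Module.Flat R ↥(⨅ g : G, LinearMap.eqLocus (ρ g).toLinearMap (LinearMap.id : MvPolynomial (Fin n) R →ₗ[R] MvPolynomial (Fin n) R)) := by
  classical
  have _ : Fintype G := Fintype.ofFinite G
  set P := MvPolynomial (Fin n) R
  set I : Submodule R P := ⨅ g : G, LinearMap.eqLocus (ρ g).toLinearMap (LinearMap.id : P →ₗ[R] P) with hI
  have hmemI : ∀ v : P, v ∈ I ↔ ∀ g : G, ρ g v = v := by
    intro v
    rw [hI, Submodule.mem_iInf]
    simp [LinearMap.mem_eqLocus]
  set c : R := Ring.inverse ((Nat.card G : ℕ) : R) with hc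
  have hcard : c * ((Fintype.card G : ℕ) : R) = 1 := by
    rw [Fintype.card_eq_nat_card]; exact Ring.inverse_mul_cancel _ hG
  let avg : P →ₗ[R] P := c • ∑ g : G, (ρ g).toLinearMap
  have havg_apply : ∀ v, avg v = c • ∑ g : G, ρ g v := fun v => by
    simp [avg, LinearMap.sum_apply]
  have L1 : ∀ (h : G) (v : P), ρ h (avg v) = avg v := by
    intro h v
    rw [havg_apply, map_smul, map_sum]
    congr 1
    have : ∀ g : G, ρ h (ρ g v) = ρ (h * g) v := fun g => by rw [map_mul]; rfl
    simp only [this]
    exact Function.Bijective.sum_comp (Group.mulLeft_bijective h) (fun g => ρ g v)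
  have L2 : ∀ v ∈ I, avg v = v := by
    intro v hv
    rw [havg_apply]
    have : ∀ g : G, ρ g v = v := (hmemI v).mp hv
    simp only [this]
    rw [Finset.sum_const, Finset.card_univ, ← Nat.cast_smul_eq_nsmul R, smul_smul, hcard, one_smul]
  let π : P →ₗ[R] I := avg.codRestrict I (fun v => (hmemI _).mpr (fun g => L1 g v))
  have hπ : π ∘ₗ I.subtype = LinearMap.id := by
    apply LinearMap.ext
    rintro ⟨v, hv⟩
    apply Subtype.ext
    exact L2 v hv
  exact Module.Flat.of_retract I.subtype π hπ

end Groth.Agent.S13142
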