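import Groth.Statements.S13143
import Groth.Agent.Lib.helper29.W2Frob
import Mathlib

set_option autoImplicit false
universe u
open FrobAlg

namespace Groth.Agent.S13143

open Groth.Agent.H29

section aux

variable (p : ℕ) [hp : Fact p.Prime] (k : Type u) [Field k] [CharP k p] [PerfectRing k p]
  (A B : Type u) [CommRing A] [CommRing B] [Algebra k A] [Algebra k B]
  [Algebra A B] [IsScalarTower k A B]
  (r : B →ₗ[A] A) (hr : ∀ a : A, r (algebraMap A B a) = a)
  (B' : Type u) [CommRing B'] (ιB : FrobAlg.W2 p k →+* B') (πB : B' →+* B)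
  (hB : FrobAlg.IsLift p k B B' ιB πB)

/-- the subring of `B'` of elements reducing into `A` -/
def S : Subring B' := (algebraMap A B).range.comap πB

lemma mem_S (b' : B') : b' ∈ S A B B' πB ↔ ∃ a : A, algebraMap A B a = πB b' := Iff.rfl

include hr in
lemma phi_r_of_mem (b' : B') (h : b' ∈ S A B B' πB) : algebraMap A B (r (πB b')) = πB b' := by
  obtain ⟨a, ha⟩ := h
  rw [← ha, hr]

include hB in
lemma pi_p' : πB (p : B') = 0 := W2Frob.pi_p p k B B' ιB πB hB

/-- the ideal `{p b' : r (π b') = 0}` of `S` -/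
def I : Ideal (S A B B' πB) where
  carrier := {s | ∃ b' : B', (s : B') = (p : B') * b' ∧ r (πB b') = 0}
  add_mem' := by
    rintro s t ⟨b1, hs, h1⟩ ⟨b2, ht, h2⟩
    refine ⟨b1 + b2, ?_, ?_⟩
    · rw [Subring.coe_add, hs, ht, mul_add]
    · rw [map_add, map_add, h1, h2, add_zero]
  zero_mem' := ⟨0, by simp, by simp⟩
  smul_mem' := by
    rintro c s ⟨b1, hs, h1⟩
    refine ⟨(c : B') * b1, ?_, ?_⟩
    · rw [smul_eq_mul, Subring.coe_mul, hs]; ring
    · obtain ⟨a, ha⟩ := c.2
      rw [map_mul, ← ha, ← Algebra.smul_def, map_smul, h1, smul_zero]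

lemma mem_I (s : S A B B' πB) : s ∈ I p A B r B' πB ↔
    ∃ b' : B', (s : B') = (p : B') * b' ∧ r (πB b') = 0 := Iff.rfl

/-- reduction `S → A` -/
def piS : S A B B' πB →+* A where
  toFun s := r (πB s)
  map_one' := by
    rw [Subring.coe_one, map_one, ← map_one (algebraMap A B), hr]
  map_mul' := by
    intro s t
    obtain ⟨a, ha⟩ := s.2
    obtain ⟨b, hb⟩ := t.2
    rw [Subring.coe_mul, map_mul, ← ha, ← hb, ← map_mul, hr, hr, hr]
  map_zero' := by
    rw [Subring.coe_zero, map_zero, map_zero]
  map_add' := by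
    intro s t
    rw [Subring.coe_add, map_add, map_add]

lemma piS_apply (s : S A B B' πB) : piS A B r hr B' πB s = r (πB s) := rfl

include hB in
lemma piS_I (s : S A B B' πB) (hs : s ∈ I p A B r B' πB) : piS A B r hr B' πB s = 0 := by
  obtain ⟨b', hs, -⟩ := hs
  rw [piS_apply, hs, map_mul, pi_p' p k B B' ιB πB hB, zero_mul, map_zero]

/-- the lift `A' = S / I` -/
abbrev A' : Type u := S A B B' πB ⧸ I p A B r B' πB

/-- the reduction `A' → A` -/
def piA : A' p A B r B' πB →+* A :=
  Ideal.Quotient.lift (I p A B r B' πB) (piS A B r hr B' πB)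
    (fun s hs => piS_I p k A B r hr B' ιB πB hB s hs)

include hB in
lemma iota_mem (w : FrobAlg.W2 p k) : ιB w ∈ S A B B' πB := by
  refine ⟨algebraMap k A (FrobAlg.res p k w), ?_⟩
  have := RingHom.congr_fun hB.comm w
  rw [RingHom.comp_apply, RingHom.comp_apply] at this
  rw [this, ← IsScalarTower.algebraMap_apply]

/-- the structure map `W₂(k) → A'` -/
noncomputable def iotaA : FrobAlg.W2 p k →+* A' p A B r B' πB :=
  (Ideal.Quotient.mk (I p A B r B' πB)).comp
    (ιB.codRestrict (S A B B' πB) (fun w => iota_mem p k A B B' ιB πB hB w))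

include hB hr in
/-- key: an element of `S` killed by `π` is `p s'` modulo `I` -/
lemma key (s : S A B B' πB) (hs : πB (s : B') = 0) :
    ∃ s' : S A B B' πB, s - (p : S A B B' πB) * s' ∈ I p A B r B' πB := by
  have h1 : (s : B') ∈ RingHom.ker πB := hs
  rw [W2Frob.ker_eq_span p k B B' ιB πB hB, Ideal.mem_span_singleton'] at h1
  obtain ⟨c', hc'⟩ := h1
  obtain ⟨s0, hs0⟩ := hB.surj (algebraMap A B (r (πB c')))
  have hs0S : s0 ∈ S A B B' πB := ⟨r (πB c'), hs0.symm⟩
  refine ⟨⟨s0, hs0S⟩, c' - s0, ?_, ?_⟩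
  · rw [AddSubgroupClass.coe_sub, Subring.coe_mul, Subring.coe_natCast, ← hc']
    show c' * (p : B') - (p : B') * s0 = (p : B') * (c' - s0)
    ring
  · rw [map_sub, hs0, map_sub, hr, sub_self]

lemma piA_mk (s : S A B B' πB) :
    piA p k A B r hr B' ιB πB hB (Ideal.Quotient.mk _ s) = r (πB s) := rfl

lemma iotaA_apply (w : FrobAlg.W2 p k) :
    iotaA p k A B r B' ιB πB hB w =
      Ideal.Quotient.mk _ (⟨ιB w, iota_mem p k A B B' ιB πB hB w⟩ : S A B B' πB) := rfl

lemma iotaA_p : iotaA p k A B r B' ιB πB hB (p : FrobAlg.W2 p k) =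
    Ideal.Quotient.mk _ (p : S A B B' πB) := by
  rw [map_natCast, map_natCast]

include hr in
lemma pi_eq_zero_of_mem (s : S A B B' πB) (h : r (πB s) = 0) : πB (s : B') = 0 := by
  rw [← phi_r_of_mem A B r hr B' πB s s.2, h, map_zero]

theorem isLift : FrobAlg.IsLift p k A (A' p A B r B' πB) (iotaA p k A B r B' ιB πB hB)
    (piA p k A B r hr B' ιB πB hB) where
  flat := by
    letI := (iotaA p k A B r B' ιB πB hB).toAlgebra
    show Module.Flat (FrobAlg.W2 p k) (A' p A B r B' πB)
    rw [W2Flat.flat_iff]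
    intro m hm
    obtain ⟨s, rfl⟩ := Ideal.Quotient.mk_surjective m
    rw [Algebra.smul_def] at hm
    change iotaA p k A B r B' ιB πB hB (p : FrobAlg.W2 p k) * _ = 0 at hm
    rw [iotaA_p, ← map_mul, Ideal.Quotient.eq_zero_iff_mem] at hm
    obtain ⟨b', hb', hrb'⟩ := hm
    rw [Subring.coe_mul, Subring.coe_natCast] at hb'
    -- p (s - b') = 0 in B'
    letI := ιB.toAlgebra
    have hflatB : Module.Flat (FrobAlg.W2 p k) B' := hB.flat
    have h1 : (p : FrobAlg.W2 p k) • ((s : B') - b') = 0 := by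
      rw [Algebra.smul_def]
      show ιB (p : FrobAlg.W2 p k) * _ = 0
      rw [map_natCast, mul_sub, hb', sub_self]
    obtain ⟨c, hc⟩ := (W2Flat.flat_iff p k B').mp hflatB _ h1
    rw [Algebra.smul_def] at hc
    change (s : B') - b' = ιB (p : FrobAlg.W2 p k) * c at hc
    rw [map_natCast] at hc
    have h2 : πB (s : B') = πB b' := by
      have := congrArg πB hc
      rw [map_sub, map_mul, pi_p' p k B B' ιB πB hB, zero_mul, sub_eq_zero] at this
      exact this
    have h3 : πB (s : B') = 0 := by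
      apply pi_eq_zero_of_mem A B r hr B' πB s
      rw [h2, hrb']
    obtain ⟨s', hs'⟩ := key p k A B r hr B' ιB πB hB s h3
    refine ⟨Ideal.Quotient.mk _ s', ?_⟩
    rw [Algebra.smul_def]
    change _ = iotaA p k A B r B' ιB πB hB (p : FrobAlg.W2 p k) * _
    rw [iotaA_p, ← map_mul]
    exact (Ideal.Quotient.eq).mpr hs'
  surj := by
    intro a
    obtain ⟨b', hb'⟩ := hB.surj (algebraMap A B a)
    refine ⟨Ideal.Quotient.mk _ (⟨b', ⟨a, hb'.symm⟩⟩ : S A B B' πB), ?_⟩
    rw [piA_mk]
    show r (πB b') = a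
    rw [hb', hr]
  ker_eq := by
    apply le_antisymm
    · intro x hx
      obtain ⟨s, rfl⟩ := Ideal.Quotient.mk_surjective x
      rw [RingHom.mem_ker, piA_mk] at hx
      have h3 := pi_eq_zero_of_mem A B r hr B' πB s hx
      obtain ⟨s', hs'⟩ := key p k A B r hr B' ιB πB hB s h3
      have h4 : (Ideal.Quotient.mk (I p A B r B' πB)) s =
          iotaA p k A B r B' ιB πB hB (p : FrobAlg.W2 p k) * Ideal.Quotient.mk _ s' := by
        rw [iotaA_p, ← map_mul]
        exact (Ideal.Quotient.eq).mpr hs'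
      rw [h4]
      apply Ideal.mul_mem_right
      apply Ideal.mem_map_of_mem
      rw [RingHom.mem_ker, map_natCast]
      exact CharP.cast_eq_zero k p
    · rw [Ideal.map_le_iff_le_comap]
      intro w hw
      rw [RingHom.mem_ker] at hw
      rw [Ideal.mem_comap, RingHom.mem_ker, iotaA_apply, piA_mk]
      show r (πB (ιB w)) = 0
      have := RingHom.congr_fun hB.comm w
      rw [RingHom.comp_apply, RingHom.comp_apply, hw, map_zero] at this
      rw [this, map_zero]
  comm := by
    ext w
    rw [RingHom.comp_apply, RingHom.comp_apply, iotaA_apply, piA_mk]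
    show r (πB (ιB w)) = _
    have := RingHom.congr_fun hB.comm w
    rw [RingHom.comp_apply, RingHom.comp_apply] at this
    rw [this, IsScalarTower.algebraMap_apply k A B, hr]

end aux

theorem result'
    (p : ℕ) [Fact p.Prime] (k : Type u) [Field k] [CharP k p] [PerfectRing k p]
    (A B : Type u) [CommRing A] [CommRing B] [Algebra k A] [Algebra k B]
    [IsNoetherianRing A] [IsNoetherianRing B] [Algebra A B] [IsScalarTower k A B]
    (r : B →ₗ[A] A) (hr : ∀ a : A, r (algebraMap A B a) = a)
    (hB : FrobAlg.IsW2Liftable p k B) : FrobAlg.IsW2Liftable p k A := by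
  obtain ⟨B', _, ιB, πB, hB'⟩ := hB
  exact ⟨A' p A B r B' πB, inferInstance, iotaA p k A B r B' ιB πB hB',
    piA p k A B r hr B' ιB πB hB', isLift p k A B r hr B' ιB πB hB'⟩

/-- Let k be a perfect field of characteristic p and A → B a homomorphism of Noetherian k-algebras with
an A-linear retraction B → A. If B lifts flatly to W₂(k), so does A. (The published statement
phrases the descent for finite surjective morphisms of degree prime to p, via a trace splitting; the
argument uses exactly an A-linear splitting of A → B for an affine morphism, which is the hypothesis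
taken here.) -/
theorem result
    (p : ℕ) [Fact p.Prime] (k : Type u) [Field k] [CharP k p] [PerfectRing k p]
    (A B : Type u) [CommRing A] [CommRing B] [Algebra k A] [Algebra k B]
    [IsNoetherianRing A] [IsNoetherianRing B] [Algebra A B] [IsScalarTower k A B]
    (r : B →ₗ[A] A) (hr : ∀ a : A, r (algebraMap A B a) = a)
    (hB : FrobAlg.IsW2Liftable p k B) : FrobAlg.IsW2Liftable p k A := by
  exact result' p k A B r hr hB

end Groth.Agent.S13143
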