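import Groth.Statements.S13144
import Groth.Agent.S13150
import Groth.Agent.Lib.helper29.W2Frob
import Mathlib

set_option autoImplicit false
universe u
open FrobAlg

namespace Groth.Agent.S13144

open WittVector Groth.Agent.H29.W2Split Groth.Agent.H29.W2Ghost

section aux

variable (p : ℕ) [hp : Fact p.Prime] (A B : Type u) [CommRing A] [CommRing B] [Algebra A B]
  [CharP A p] [CharP B p] (r : B →ₗ[A] A) (hr : ∀ a : A, r (algebraMap A B a) = a)

/-- the map `W₂(A) → W₂(B)` -/
noncomputable abbrev Wφ : TruncatedWittVector p 2 A →+* TruncatedWittVector p 2 B :=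
  WittGrp.truncMap p 2 (algebraMap A B)

lemma Wφ_vv (a : A) : Wφ p A B (vv p A a) = vv p B (algebraMap A B a) :=
  ext2 (by rw [WittGrp.coeff_truncMap, coeff_zero_vv, coeff_zero_vv, map_zero])
    (by rw [WittGrp.coeff_truncMap, coeff_one_vv, coeff_one_vv])

/-- the relation "`u = ρ(w)`" -/
def Rel (w : TruncatedWittVector p 2 B) (u : TruncatedWittVector p 2 A) : Prop :=
  ∃ (u₁ : TruncatedWittVector p 2 A) (b : B), w = Wφ p A B u₁ + vv p B b ∧ u = u₁ + vv p A (r b)

include hr in
lemma inj : Function.Injective (algebraMap A B) := by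
  intro x y hxy
  rw [← hr x, ← hr y, hxy]

include hr in
lemma Rel_unique (w : TruncatedWittVector p 2 B) (u u' : TruncatedWittVector p 2 A)
    (h : Rel p A B r w u) (h' : Rel p A B r w u') : u = u' := by
  obtain ⟨u₁, b, hw, hu⟩ := h
  obtain ⟨u₁', b', hw', hu'⟩ := h'
  have h1 : Wφ p A B (u₁ - u₁') = vv p B (b' - b) := by
    rw [map_sub, ← vv_sub, sub_eq_sub_iff_add_eq_add, ← hw, add_comm, ← hw']
  have h0 : (u₁ - u₁').coeff 0 = 0 := by
    have := congrArg (fun x => x.coeff 0) h1
    simp only [WittGrp.coeff_truncMap, coeff_zero_vv] at this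
    exact inj A B r hr (by rw [this, map_zero])
  have h2 := eq_vv_of_coeff_zero _ h0
  set c := (u₁ - u₁').coeff 1 with hc
  rw [h2, Wφ_vv] at h1
  have h3 : algebraMap A B c = b' - b := by
    have := congrArg (fun x => x.coeff 1) h1
    simpa only [coeff_one_vv] using this
  have h4 : c = r b' - r b := by
    rw [← map_sub, ← h3, hr]
  rw [hu, hu']
  have h5 : u₁ = u₁' + vv p A c := by rw [← h2]; ring
  rw [h5, h4, ← vv_sub]
  ring

lemma Rel_add (w w' : TruncatedWittVector p 2 B) (u u' : TruncatedWittVector p 2 A)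
    (h : Rel p A B r w u) (h' : Rel p A B r w' u') : Rel p A B r (w + w') (u + u') := by
  obtain ⟨u₁, b, hw, hu⟩ := h
  obtain ⟨u₁', b', hw', hu'⟩ := h'
  refine ⟨u₁ + u₁', b + b', ?_, ?_⟩
  · rw [hw, hw', map_add, ← vv_add]; ring
  · rw [hu, hu', map_add, ← vv_add]; ring

lemma vv_mul_vv (R : Type u) [CommRing R] [CharP R p] (a b : R) : vv p R a * vv p R b = 0 := by
  rw [mul_vv, coeff_zero_vv, zero_pow hp.out.ne_zero, zero_mul, vv_zero]

lemma Rel_mul (w w' : TruncatedWittVector p 2 B) (u u' : TruncatedWittVector p 2 A)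
    (h : Rel p A B r w u) (h' : Rel p A B r w' u') : Rel p A B r (w * w') (u * u') := by
  obtain ⟨u₁, b, hw, hu⟩ := h
  obtain ⟨u₁', b', hw', hu'⟩ := h'
  refine ⟨u₁ * u₁', algebraMap A B (u₁.coeff 0 ^ p) * b' + algebraMap A B (u₁'.coeff 0 ^ p) * b,
    ?_, ?_⟩
  · rw [hw, hw', map_mul, add_mul, mul_add, mul_add, vv_mul_vv, add_zero, mul_vv,
      mul_comm (vv p B b), mul_vv, WittGrp.coeff_truncMap, WittGrp.coeff_truncMap, ← vv_add,
      map_pow, map_pow]
    ring
  · rw [hu, hu', add_mul, mul_add, mul_add, vv_mul_vv, add_zero, mul_vv,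
      mul_comm (vv p A (r b)), mul_vv, map_add, ← vv_add, ← Algebra.smul_def, ← Algebra.smul_def,
      map_smul, map_smul, smul_eq_mul, smul_eq_mul]
    ring

lemma Rel_of_W (u : TruncatedWittVector p 2 A) : Rel p A B r (Wφ p A B u) u :=
  ⟨u, 0, by rw [vv_zero, add_zero], by rw [map_zero, vv_zero, add_zero]⟩

end aux

theorem result'
    (p : ℕ) [Fact p.Prime] (k : Type u) [Field k] [CharP k p] [PerfectRing k p]
    (A B : Type u) [CommRing A] [CommRing B] [Algebra k A] [Algebra k B]
    [IsNoetherianRing A] [IsNoetherianRing B] [Algebra A B] [IsScalarTower k A B]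
    (r : B →ₗ[A] A) (hr : ∀ a : A, r (algebraMap A B a) = a)
    (A' B' : Type u) [CommRing A'] [CommRing B']
    (ιA : FrobAlg.W2 p k →+* A') (πA : A' →+* A) (hA : FrobAlg.IsLift p k A A' ιA πA)
    (ιB : FrobAlg.W2 p k →+* B') (πB : B' →+* B) (hB : FrobAlg.IsLift p k B B' ιB πB)
    (φ' : A' →+* B') (hφι : φ'.comp ιA = ιB) (hφπ : πB.comp φ' = (algebraMap A B).comp πA)
    (ΦB : B' →+* B') (hΦB : FrobAlg.IsFrobLift p k B B' ιB πB ΦB) :
    ∃ ΦA : A' →+* A', FrobAlg.IsFrobLift p k A A' ιA πA ΦA := by
  rcases subsingleton_or_nontrivial A with hsub | hnt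
  · -- trivial case
    have hker : RingHom.ker πA = ⊤ := by
      rw [Ideal.eq_top_iff_one, RingHom.mem_ker]
      exact Subsingleton.elim _ _
    have h1 : (1 : A') ∈ Ideal.span {(p : A')} := by
      rw [← Groth.Agent.H29.W2Frob.ker_eq_span p k A A' ιA πA hA, hker]; trivial
    obtain ⟨c, hc⟩ := Ideal.mem_span_singleton'.mp h1
    have hpp := Groth.Agent.H29.W2Frob.p_mul_p p k A A' ιA πA hA
    have h10 : (1 : A') = 0 := by
      have : (p : A') = 0 := by
        calc (p : A') = (p : A') * 1 := (mul_one _).symm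
          _ = (p : A') * (c * p) := by rw [hc]
          _ = c * ((p : A') * p) := by ring
          _ = 0 := by rw [hpp, mul_zero]
      rw [← hc, this, mul_zero]
    haveI : Subsingleton A' := subsingleton_of_zero_eq_one h10.symm
    refine ⟨RingHom.id A', { toIsLift := hA, semi := ?_, red := fun b => Subsingleton.elim _ _ }⟩
    ext x
    exact Subsingleton.elim _ _
  · haveI : CharP A p := charP_of_injective_algebraMap (algebraMap k A).injective p
    haveI : Nontrivial B := (inj A B r hr).nontrivial
    haveI : CharP B p := charP_of_injective_algebraMap (algebraMap k B).injective p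
    obtain ⟨θB, h1B, h2B⟩ := (Groth.Agent.S13150.result p k B B' ιB πB hB).mp ⟨ΦB, hΦB⟩
    have hθB0 : ∀ x : B', (θB x).coeff 0 = πB x := by
      intro x
      rw [← FrobAlg.res_apply, ← RingHom.comp_apply, h1B]
    have hπφ : ∀ a' : A', πB (φ' a') = algebraMap A B (πA a') := fun a' =>
      RingHom.congr_fun hφπ a'
    -- δ and θA
    set δ : A' → B := fun a' => (θB (φ' a') - Wφ p A B (tt p A (πA a'))).coeff 1 with hδ
    set θA : A' → TruncatedWittVector p 2 A := fun a' => tt p A (πA a') + vv p A (r (δ a'))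
      with hθA
    have hRel : ∀ a' : A', Rel p A B r (θB (φ' a')) (θA a') := by
      intro a'
      refine ⟨tt p A (πA a'), δ a', ?_, rfl⟩
      have h0 : (θB (φ' a') - Wφ p A B (tt p A (πA a'))).coeff 0 = 0 := by
        rw [coeff_zero_sub, hθB0, WittGrp.coeff_truncMap, coeff_zero_tt, hπφ, sub_self]
      have := eq_vv_of_coeff_zero _ h0
      rw [sub_eq_iff_eq_add] at this
      rw [this, add_comm]
    have huniq := Rel_unique p A B r hr
    let θ : A' →+* FrobAlg.W2 p A :=
      { toFun := θA
        map_one' := by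
          refine huniq _ _ _ (hRel 1) ?_
          have h := Rel_of_W p A B r (1 : TruncatedWittVector p 2 A)
          rw [map_one] at h
          rw [map_one, map_one]
          exact h
        map_mul' := by
          intro x y
          refine huniq _ _ _ (hRel (x * y)) ?_
          rw [map_mul, map_mul]
          exact Rel_mul p A B r _ _ _ _ (hRel x) (hRel y)
        map_zero' := by
          refine huniq _ _ _ (hRel 0) ?_
          have h := Rel_of_W p A B r (0 : TruncatedWittVector p 2 A)
          rw [map_zero] at h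
          rw [map_zero, map_zero]
          exact h
        map_add' := by
          intro x y
          refine huniq _ _ _ (hRel (x + y)) ?_
          rw [map_add, map_add]
          exact Rel_add p A B r _ _ _ _ (hRel x) (hRel y) }
    refine (Groth.Agent.S13150.result p k A A' ιA πA hA).mpr ⟨θ, ?_, ?_⟩
    · ext a'
      rw [RingHom.comp_apply, FrobAlg.res_apply]
      show (tt p A (πA a') + vv p A (r (δ a'))).coeff 0 = πA a'
      rw [coeff_zero_add, coeff_zero_tt, coeff_zero_vv, add_zero]
    · ext1 w
      rw [RingHom.comp_apply]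
      refine huniq _ _ _ (hRel (ιA w)) ?_
      have h1 : φ' (ιA w) = ιB w := RingHom.congr_fun hφι w
      have h2 : θB (ιB w) = WittGrp.truncMap p 2 (algebraMap k B) w := RingHom.congr_fun h2B w
      rw [h1, h2, IsScalarTower.algebraMap_eq k A B, WittGrp.truncMap_comp, RingHom.comp_apply]
      exact Rel_of_W p A B r _

/-- Let k be a perfect field of characteristic p, A → B a homomorphism of Noetherian k-algebras with an
A-linear retraction B → A, and A' → B' a homomorphism over W₂(k) between flat liftings of A and B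
which reduces to A → B. If the Frobenius of B lifts to B' (a σ₂-semilinear ring endomorphism
reducing to the p-th power map), then the Frobenius of A lifts to A'. (The published statement is
for an affine morphism whose map on structure sheaves splits linearly; the affine case with an
A-linear splitting is taken here.) -/
theorem result
    (p : ℕ) [Fact p.Prime] (k : Type u) [Field k] [CharP k p] [PerfectRing k p]
    (A B : Type u) [CommRing A] [CommRing B] [Algebra k A] [Algebra k B]
    [IsNoetherianRing A] [IsNoetherianRing B] [Algebra A B] [IsScalarTower k A B]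
    (r : B →ₗ[A] A) (hr : ∀ a : A, r (algebraMap A B a) = a)
    (A' B' : Type u) [CommRing A'] [CommRing B']
    (ιA : FrobAlg.W2 p k →+* A') (πA : A' →+* A) (hA : FrobAlg.IsLift p k A A' ιA πA)
    (ιB : FrobAlg.W2 p k →+* B') (πB : B' →+* B) (hB : FrobAlg.IsLift p k B B' ιB πB)
    (φ' : A' →+* B') (hφι : φ'.comp ιA = ιB) (hφπ : πB.comp φ' = (algebraMap A B).comp πA)
    (ΦB : B' →+* B') (hΦB : FrobAlg.IsFrobLift p k B B' ιB πB ΦB) :
    ∃ ΦA : A' →+* A', FrobAlg.IsFrobLift p k A A' ιA πA ΦA := by
  exact result' p k A B r hr A' B' ιA πA hA ιB πB hB φ' hφι hφπ ΦB hΦB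

end Groth.Agent.S13144
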