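import Groth.Statements.S18155
import Groth.Agent.Lib.helper3.EtaleLiftQuot
import Groth.Agent.Lib.helper29.W2Split
import Mathlib

set_option autoImplicit false
universe u v
open FrobAlg

namespace Groth.Agent.S18155

section twist

variable {A' : Type v} [CommRing A'] (R : Type v) [CommRing R] (Φ : A' →+* A')

/-- `R` with the `A'`-algebra structure twisted by `Φ`. -/
def Twist (_ : A' →+* A') : Type v := R

instance : CommRing (Twist R Φ) := inferInstanceAs (CommRing R)

instance [Algebra A' R] : Algebra A' (Twist R Φ) := ((algebraMap A' R).comp Φ).toAlgebra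

lemma twist_algebraMap [Algebra A' R] (a : A') :
    algebraMap A' (Twist R Φ) a = (algebraMap A' R (Φ a) : R) := rfl

/-- lifting a ring map along a square-zero ideal, semilinearly -/
theorem exists_semilinear_lift [Algebra A' R] [Algebra.FormallySmooth A' R]
    (J : Ideal R) (hJ : J ^ 2 = ⊥) (g : R →+* R ⧸ J)
    (hg : ∀ a : A', g (algebraMap A' R a) = Ideal.Quotient.mk J (algebraMap A' R (Φ a))) :
    ∃ Ψ : R →+* R, (∀ a : A', Ψ (algebraMap A' R a) = algebraMap A' R (Φ a)) ∧
      ∀ r : R, Ideal.Quotient.mk J (Ψ r) = g r := by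
  let J' : Ideal (Twist R Φ) := J
  let g' : R →ₐ[A'] (Twist R Φ ⧸ J') :=
    { g with
      commutes' := fun a => hg a }
  have hnil : IsNilpotent J' := ⟨2, hJ⟩
  let L := Algebra.FormallySmooth.lift J' hnil g'
  refine ⟨L.toRingHom, fun a => L.commutes a, fun r => ?_⟩
  exact Algebra.FormallySmooth.mk_lift J' hnil g' r

end twist

open Groth.Agent.H29

theorem result'
    (p : ℕ) [Fact p.Prime] (k : Type u) [Field k] [IsAlgClosed k] [CharP k p]
    (A C : Type v) [CommRing A] [CommRing C] [Algebra k A] [Algebra k C]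
    [Algebra A C] [IsScalarTower k A C] [Algebra.Etale A C]
    (hA : FrobAlg.IsFLiftable p k A) : FrobAlg.IsFLiftable p k C := by
  obtain ⟨A', _, ιA, πA, ΦA, hΦ⟩ := hA
  have hLA : FrobAlg.IsLift p k A A' ιA πA := hΦ.toIsLift
  -- the ideal and the identification A'/I ≃ A
  set I : Ideal A' := RingHom.ker πA with hI
  let e : A' ⧸ I ≃+* A := RingHom.quotientKerEquivOfSurjective hLA.surj
  have he : ∀ a : A', e (Ideal.Quotient.mk I a) = πA a := fun a => rfl
  letI algQA : Algebra (A' ⧸ I) A := e.toRingHom.toAlgebra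
  letI algQC : Algebra (A' ⧸ I) C := ((algebraMap A C).comp e.toRingHom).toAlgebra
  letI algAC : Algebra A' C := ((algebraMap A C).comp πA).toAlgebra
  haveI tower1 : IsScalarTower (A' ⧸ I) A C := IsScalarTower.of_algebraMap_eq (fun x => rfl)
  haveI tower2 : IsScalarTower A' (A' ⧸ I) C := IsScalarTower.of_algebraMap_eq (fun x => rfl)
  haveI etQA : Algebra.Etale (A' ⧸ I) A := by
    let e' : (A' ⧸ I) ≃ₐ[A' ⧸ I] A := AlgEquiv.ofRingEquiv (f := e) (fun x => rfl)
    exact Algebra.Etale.of_equiv e'
  haveI etQC : Algebra.Etale (A' ⧸ I) C := Algebra.Etale.comp (A' ⧸ I) A C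
  obtain ⟨R, _, _, hRet, ψ, hψsurj, hψker⟩ :=
    Groth.Agent.Lib.helper3.EtaleLiftQuot.exists_etale_lift A' I C
  have hψalg : ∀ a : A', ψ (algebraMap A' R a) = algebraMap A C (πA a) := fun a => ψ.commutes a
  -- the lift data
  let ιC : FrobAlg.W2 p k →+* R := (algebraMap A' R).comp ιA
  let πC : R →+* C := ψ.toRingHom
  have hcommA : ∀ w, πA (ιA w) = algebraMap k A (FrobAlg.res p k w) := fun w =>
    RingHom.congr_fun hLA.comm w
  have hπι : ∀ w, πC (ιC w) = algebraMap k C (FrobAlg.res p k w) := by
    intro w
    show ψ (algebraMap A' R (ιA w)) = _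
    rw [hψalg, hcommA, ← IsScalarTower.algebraMap_apply]
  have hker : RingHom.ker πC = Ideal.map ιC (RingHom.ker (FrobAlg.res p k)) := by
    apply le_antisymm
    · have h1 : Ideal.map ιC (RingHom.ker (FrobAlg.res p k)) = I.map (algebraMap A' R) := by
        rw [hI, hLA.ker_eq, Ideal.map_map]
      rw [h1]
      exact hψker
    · rw [Ideal.map_le_iff_le_comap]
      intro w hw
      rw [RingHom.mem_ker] at hw
      rw [Ideal.mem_comap, RingHom.mem_ker, hπι, hw, map_zero]
  have hLC : FrobAlg.IsLift p k C R ιC πC :=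
    { flat := RingHom.Flat.comp hLA.flat ((RingHom.flat_algebraMap_iff).mpr inferInstance)
      surj := hψsurj
      ker_eq := hker
      comm := RingHom.ext hπι }
  -- J = ker πC is square zero
  haveI : PerfectRing k p := inferInstance
  have hJ2 : (RingHom.ker πC) ^ 2 = ⊥ := by
    rw [hker, ← Ideal.map_pow, W2Split.ker_res_eq, Ideal.span_singleton_pow, sq,
      W2Flat.p_mul_p, Ideal.span_singleton_eq_bot.mpr rfl, Ideal.map_bot]
  rcases subsingleton_or_nontrivial C with hsub | hnt
  · -- trivial case: R is trivial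
    have h1 : (1 : R) ∈ RingHom.ker πC := by
      rw [RingHom.mem_ker]; exact Subsingleton.elim _ _
    have h2 : (1 : R) ∈ (RingHom.ker πC) ^ 2 := by
      rw [sq]
      have := Ideal.mul_mem_mul h1 h1
      rwa [one_mul] at this
    rw [hJ2, Ideal.mem_bot] at h2
    haveI : Subsingleton R := subsingleton_of_zero_eq_one h2.symm
    refine ⟨R, inferInstance, ιC, πC, RingHom.id R,
      { toIsLift := hLC, semi := ?_, red := fun b => Subsingleton.elim _ _ }⟩
    ext x
    exact Subsingleton.elim _ _
  · haveI : CharP C p := charP_of_injective_algebraMap (algebraMap k C).injective p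
    let eC : R ⧸ RingHom.ker πC ≃+* C := RingHom.quotientKerEquivOfSurjective hψsurj
    have heC : ∀ r : R, eC (Ideal.Quotient.mk _ r) = πC r := fun r => rfl
    let g : R →+* R ⧸ RingHom.ker πC := (eC.symm.toRingHom.comp (frobenius C p)).comp πC
    have hg : ∀ r : R, eC (g r) = πC r ^ p := by
      intro r
      show eC (eC.symm (frobenius C p (πC r))) = _
      rw [RingEquiv.apply_symm_apply, frobenius_def]
    have hgalg : ∀ a : A', g (algebraMap A' R a) =
        Ideal.Quotient.mk _ (algebraMap A' R (ΦA a)) := by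
      intro a
      apply eC.injective
      rw [hg, heC]
      show ψ (algebraMap A' R a) ^ p = ψ (algebraMap A' R (ΦA a))
      rw [hψalg, hψalg, hΦ.red, map_pow]
    obtain ⟨Ψ, hΨ1, hΨ2⟩ := exists_semilinear_lift R ΦA (RingHom.ker πC) hJ2 g hgalg
    refine ⟨R, inferInstance, ιC, πC, Ψ, { toIsLift := hLC, semi := ?_, red := ?_ }⟩
    · ext w
      show Ψ (algebraMap A' R (ιA w)) = algebraMap A' R (ιA (FrobAlg.sigma p k w))
      rw [hΨ1]
      congr 1
      exact RingHom.congr_fun hΦ.semi w
    · intro r
      rw [← heC, hΨ2, hg]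

/-- Let k be an algebraically closed field of characteristic p, A a commutative k-algebra and C an étale
A-algebra. If A admits a flat lifting over W_2(k) together with a lift of Frobenius, then so does C.
(The source states this for an étale cover Y → X of smooth varieties over k; its argument uses only
that Y is étale over X, and the affine case is stated here with no smoothness or finiteness
hypothesis on A over k.) -/
theorem result
    (p : ℕ) [Fact p.Prime] (k : Type u) [Field k] [IsAlgClosed k] [CharP k p]
    (A C : Type v) [CommRing A] [CommRing C] [Algebra k A] [Algebra k C]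
    [Algebra A C] [IsScalarTower k A C] [Algebra.Etale A C]
    (hA : FrobAlg.IsFLiftable p k A) : FrobAlg.IsFLiftable p k C := by
  exact result' p k A C hA

end Groth.Agent.S18155
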