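import Groth.Statements.S13148
import Groth.Agent.S13143
import Groth.Agent.S18155
import Groth.Agent.Lib.helper3.SmoothRetract
import Groth.Agent.Lib.helper3.StdSmoothLift
import Groth.Agent.Lib.helper29.W2Art
import Mathlib

set_option autoImplicit false
universe u
open FrobAlg

namespace Groth.Agent.S13148

open Groth.Agent.H29 Groth.Agent.S13143

section retract

variable (p : ℕ) [hp : Fact p.Prime] (k : Type u) [Field k] [CharP k p] [PerfectRing k p]
  (A B : Type u) [CommRing A] [CommRing B] [Algebra k A] [Algebra k B]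
  [Algebra A B] [IsScalarTower k A B]
  (r : B →ₐ[A] A)
  (B' : Type u) [CommRing B'] (ιB : FrobAlg.W2 p k →+* B') (πB : B' →+* B)
  (hB : FrobAlg.IsLift p k B B' ιB πB) (ΦB : B' →+* B') (hΦ : FrobAlg.IsFrobLift p k B B' ιB πB ΦB)

include hΦ in
lemma Phi_mem_S (x : B') (hx : x ∈ S A B B' πB) : ΦB x ∈ S A B B' πB := by
  obtain ⟨a, ha⟩ := hx
  exact ⟨a ^ p, by rw [hΦ.red, ← ha, map_pow]⟩

/-- Frobenius lift restricted to `S` -/
def PhiS : S A B B' πB →+* S A B B' πB :=
  ΦB.restrict (S A B B' πB) (S A B B' πB) (Phi_mem_S p k A B B' ιB πB ΦB hΦ)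

lemma PhiS_coe (s : S A B B' πB) : ((PhiS p k A B B' ιB πB ΦB hΦ s : S A B B' πB) : B') = ΦB s := rfl

lemma PhiS_I (s : S A B B' πB) (hs : s ∈ I p A B r.toLinearMap B' πB) :
    PhiS p k A B B' ιB πB ΦB hΦ s ∈ I p A B r.toLinearMap B' πB := by
  obtain ⟨b', hs, hb'⟩ := hs
  refine ⟨ΦB b', ?_, ?_⟩
  · rw [PhiS_coe, hs, map_mul, map_natCast]
  · rw [hΦ.red]
    show r (πB b' ^ p) = 0
    have : r (πB b') = 0 := hb'
    rw [map_pow, this, zero_pow hp.out.ne_zero]

/-- the induced Frobenius lift on `A' = S / I` -/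
def PhiA : A' p A B r.toLinearMap B' πB →+* A' p A B r.toLinearMap B' πB :=
  Ideal.Quotient.lift (I p A B r.toLinearMap B' πB)
    ((Ideal.Quotient.mk (I p A B r.toLinearMap B' πB)).comp (PhiS p k A B B' ιB πB ΦB hΦ))
    (fun s hs => by
      rw [RingHom.comp_apply, Ideal.Quotient.eq_zero_iff_mem]
      exact PhiS_I p k A B r B' ιB πB ΦB hΦ s hs)

lemma PhiA_mk (s : S A B B' πB) :
    PhiA p k A B r B' ιB πB ΦB hΦ (Ideal.Quotient.mk _ s) =
      Ideal.Quotient.mk _ (PhiS p k A B B' ιB πB ΦB hΦ s) := rfl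

include r hB hΦ in
theorem isFLiftable_of_retract : FrobAlg.IsFLiftable p k A := by
  have hr : ∀ a : A, r.toLinearMap (algebraMap A B a) = a := fun a => r.commutes a
  refine ⟨A' p A B r.toLinearMap B' πB, inferInstance, iotaA p k A B r.toLinearMap B' ιB πB hB,
    piA p k A B r.toLinearMap hr B' ιB πB hB, PhiA p k A B r B' ιB πB ΦB hΦ,
    { toIsLift := isLift p k A B r.toLinearMap hr B' ιB πB hB, semi := ?_, red := ?_ }⟩
  · ext w
    rw [RingHom.comp_apply, RingHom.comp_apply, iotaA_apply, iotaA_apply, PhiA_mk]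
    congr 1
    apply Subtype.ext
    rw [PhiS_coe]
    exact RingHom.congr_fun hΦ.semi w
  · intro b
    obtain ⟨s, rfl⟩ := Ideal.Quotient.mk_surjective b
    rw [PhiA_mk, piA_mk, piA_mk, PhiS_coe, hΦ.red]
    show r (πB s ^ p) = r (πB s) ^ p
    rw [map_pow]

end retract

/-- a standard smooth `k`-algebra is F-liftable, with explicit data -/
theorem exists_frobLift_of_stdSmooth
    (p : ℕ) [Fact p.Prime] (k : Type u) [Field k] [CharP k p] [PerfectRing k p]
    (B : Type u) [CommRing B] [Algebra k B] [Algebra.IsStandardSmooth k B] :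
    ∃ (B' : Type u) (_ : CommRing B') (ιB : FrobAlg.W2 p k →+* B') (πB : B' →+* B)
      (ΦB : B' →+* B'), FrobAlg.IsFrobLift p k B B' ιB πB ΦB := by
  set W := FrobAlg.W2 p k with hW
  set I : Ideal W := RingHom.ker (FrobAlg.res p k) with hI
  have hsurj : Function.Surjective (FrobAlg.res p k) := W2Art.res_surjective p k
  let e : W ⧸ I ≃+* k := RingHom.quotientKerEquivOfSurjective hsurj
  have he : ∀ w : W, e (Ideal.Quotient.mk I w) = FrobAlg.res p k w := fun w => rfl
  letI algQk : Algebra (W ⧸ I) k := e.toRingHom.toAlgebra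
  letI algQB : Algebra (W ⧸ I) B := ((algebraMap k B).comp e.toRingHom).toAlgebra
  letI algWB : Algebra W B := ((algebraMap k B).comp (FrobAlg.res p k)).toAlgebra
  haveI tower1 : IsScalarTower (W ⧸ I) k B := IsScalarTower.of_algebraMap_eq (fun x => rfl)
  haveI tower2 : IsScalarTower W (W ⧸ I) B := IsScalarTower.of_algebraMap_eq (fun x => rfl)
  haveI ssQk : Algebra.IsStandardSmooth (W ⧸ I) k :=
    (Algebra.IsStandardSmoothOfRelativeDimension.of_algebraMap_bijective
      (R := W ⧸ I) (S := k) e.bijective).isStandardSmooth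
  haveI ssQB : Algebra.IsStandardSmooth (W ⧸ I) B := Algebra.IsStandardSmooth.trans (W ⧸ I) k B
  obtain ⟨R, _, _, hRss, ψ, hψsurj, hψker⟩ :=
    Groth.Agent.Lib.helper3.StdSmoothLift.exists_stdSmooth_lift W I B
  have hψalg : ∀ w : W, ψ (algebraMap W R w) = algebraMap k B (FrobAlg.res p k w) :=
    fun w => ψ.commutes w
  let ιC : W →+* R := algebraMap W R
  let πC : R →+* B := ψ.toRingHom
  have hker : RingHom.ker πC = Ideal.map ιC (RingHom.ker (FrobAlg.res p k)) := by
    apply le_antisymm
    · exact hψker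
    · rw [Ideal.map_le_iff_le_comap]
      intro w hw
      rw [RingHom.mem_ker] at hw
      rw [Ideal.mem_comap, RingHom.mem_ker]
      show ψ (algebraMap W R w) = 0
      rw [hψalg, hw, map_zero]
  have hLC : FrobAlg.IsLift p k B R ιC πC :=
    { flat := (RingHom.flat_algebraMap_iff).mpr inferInstance
      surj := hψsurj
      ker_eq := hker
      comm := RingHom.ext hψalg }
  have hJ2 : (RingHom.ker πC) ^ 2 = ⊥ := by
    rw [hker, ← Ideal.map_pow, W2Split.ker_res_eq, Ideal.span_singleton_pow, sq,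
      W2Flat.p_mul_p, Ideal.span_singleton_eq_bot.mpr rfl, Ideal.map_bot]
  rcases subsingleton_or_nontrivial B with hsub | hnt
  · have h1 : (1 : R) ∈ RingHom.ker πC := by
      rw [RingHom.mem_ker]; exact Subsingleton.elim _ _
    have h2 : (1 : R) ∈ (RingHom.ker πC) ^ 2 := by
      rw [sq]
      have := Ideal.mul_mem_mul h1 h1
      rwa [one_mul] at this
    rw [hJ2, Ideal.mem_bot] at h2
    haveI : Subsingleton R := subsingleton_of_zero_eq_one h2.symm
    refine ⟨R, inferInstance, ιC, πC, RingHom.id R,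
      { toIsLift := hLC, semi := ?_, red := fun b => Subsingleton.elim _ _ }⟩
    ext x
    exact Subsingleton.elim _ _
  · haveI : CharP B p := charP_of_injective_algebraMap (algebraMap k B).injective p
    let eC : R ⧸ RingHom.ker πC ≃+* B := RingHom.quotientKerEquivOfSurjective hψsurj
    have heC : ∀ r : R, eC (Ideal.Quotient.mk _ r) = πC r := fun r => rfl
    let g : R →+* R ⧸ RingHom.ker πC := (eC.symm.toRingHom.comp (frobenius B p)).comp πC
    have hg : ∀ r : R, eC (g r) = πC r ^ p := by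
      intro r
      show eC (eC.symm (frobenius B p (πC r))) = _
      rw [RingEquiv.apply_symm_apply, frobenius_def]
    have hgalg : ∀ w : W, g (algebraMap W R w) =
        Ideal.Quotient.mk _ (algebraMap W R (FrobAlg.sigma p k w)) := by
      intro w
      apply eC.injective
      rw [hg, heC]
      show ψ (algebraMap W R w) ^ p = ψ (algebraMap W R (FrobAlg.sigma p k w))
      rw [hψalg, hψalg, ← map_pow, FrobAlg.res_apply, FrobAlg.res_apply, WittGrp.coeff_frob]
    obtain ⟨Ψ, hΨ1, hΨ2⟩ := Groth.Agent.S18155.exists_semilinear_lift R (FrobAlg.sigma p k)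
      (RingHom.ker πC) hJ2 g hgalg
    refine ⟨R, inferInstance, ιC, πC, Ψ, { toIsLift := hLC, semi := ?_, red := ?_ }⟩
    · ext w
      exact hΨ1 w
    · intro r
      rw [← heC, hΨ2, hg]

theorem result'
    (p : ℕ) [Fact p.Prime] (k : Type u) [Field k] [CharP k p] [PerfectRing k p]
    (A : Type u) [CommRing A] [Algebra k A] [Algebra.Smooth k A] :
    FrobAlg.IsFLiftable p k A := by
  obtain ⟨B, _, _, _, _, hsm, ⟨r⟩, hss⟩ :=
    Groth.Agent.Lib.helper3.SmoothRetract.main (R := k) (A := A)
  obtain ⟨B', _, ιB, πB, ΦB, hΦ⟩ := exists_frobLift_of_stdSmooth p k B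
  exact isFLiftable_of_retract p k A B r B' ιB πB hΦ.toIsLift ΦB hΦ

/-- Over a perfect field k of characteristic p, every smooth affine scheme Spec A admits a flat lifting
over W₂(k) together with a lifting of Frobenius (not necessarily unique). -/
theorem result
    (p : ℕ) [Fact p.Prime] (k : Type u) [Field k] [CharP k p] [PerfectRing k p]
    (A : Type u) [CommRing A] [Algebra k A] [Algebra.Smooth k A] :
    FrobAlg.IsFLiftable p k A := by
  exact result' p k A

end Groth.Agent.S13148
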