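import Groth.Statements.S1315
import Mathlib
import Groth.Agent.S0117
import Groth.Agent.Lib.helper22.UnramFibre

set_option autoImplicit false
universe u
open FlatMor

namespace Groth.Agent.S1315

section Helpers

open CategoryTheory CategoryTheory.Limits AlgebraicGeometry

open Groth.Agent.H22.UnramFibre in
theorem forward {X X' Y Y' : Scheme.{u}} (iX : X ⟶ X') (iY : Y ⟶ Y') (f : X ⟶ Y) (f' : X' ⟶ Y')
    (hY : MoreMor.IsThickening iY) (hc : IsPullback iX f f' iY) [LocallyOfFiniteType f']
    [Mono f] : Mono f' := by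
  haveI : Surjective iY := hY.2
  haveI : IsIso (pullback.diagonal f) := inferInstance
  haveI : IsOpenImmersion (pullback.diagonal f) := inferInstance
  haveI : FormallyUnramified f := inferInstance
  haveI : Surjective iX := MorphismProperty.of_isPullback (P := @Surjective) hc.flip inferInstance
  haveI : FormallyUnramified f' :=
    formallyUnramified_of_isPullback_of_surjective iX iY f f' hc iX.surjective
  refine ⟨fun {T} a b hab => ?_⟩
  let t : pullback (a ≫ f') iY ⟶ T := pullback.fst _ _
  let τ : pullback (a ≫ f') iY ⟶ Y := pullback.snd _ _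
  haveI : Surjective t := inferInstanceAs (Surjective (pullback.fst _ _))
  have hta : (t ≫ a) ≫ f' = τ ≫ iY := by
    rw [Category.assoc]; exact pullback.condition
  have htb : (t ≫ b) ≫ f' = τ ≫ iY := by
    rw [Category.assoc, ← hab]; exact pullback.condition
  let a₀ : pullback (a ≫ f') iY ⟶ X := hc.lift (t ≫ a) τ hta
  let b₀ : pullback (a ≫ f') iY ⟶ X := hc.lift (t ≫ b) τ htb
  have hab₀ : a₀ = b₀ := by
    rw [← cancel_mono f]
    exact (hc.lift_snd _ _ _).trans (hc.lift_snd _ _ _).symm
  have htab : t ≫ a = t ≫ b := by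
    rw [← hc.lift_fst (t ≫ a) τ hta, ← hc.lift_fst (t ≫ b) τ htb]
    change a₀ ≫ iX = b₀ ≫ iX
    rw [hab₀]
  exact Groth.Agent.S0117.eq_of_surjective_comp f' t a b hab htab

theorem main {X X' Y Y' : Scheme.{u}} (iX : X ⟶ X') (iY : Y ⟶ Y') (f : X ⟶ Y) (f' : X' ⟶ Y')
    (hY : MoreMor.IsThickening iY) (hc : IsPullback iX f f' iY) [LocallyOfFiniteType f]
    [LocallyOfFiniteType f'] : Mono f ↔ Mono f' :=
  ⟨fun _ => forward iX iY f f' hY hc, fun _ => hc.mono_snd_of_mono⟩

end Helpers

open AlgebraicGeometry CategoryTheory Limits in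
/-- Let Y ⟶ Y' be a thickening, let X be the base change to Y of a scheme X' over Y', and assume both X
⟶ Y and X' ⟶ Y' are locally of finite type. Then X ⟶ Y is a monomorphism if and only if X' ⟶ Y' is. -/
theorem result {X X' Y Y' : Scheme.{u}} (iX : X ⟶ X') (iY : Y ⟶ Y') (f : X ⟶ Y) (f' : X' ⟶ Y')
    (hY : MoreMor.IsThickening iY) (hc : IsPullback iX f f' iY) [LocallyOfFiniteType f] [LocallyOfFiniteType f'] :
    Mono f ↔ Mono f' := by
  exact main iX iY f f' hY hc

end Groth.Agent.S1315
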