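import Groth.Statements.S13151
import Mathlib

set_option autoImplicit false
universe u
open CAlg

namespace Groth.Agent.S13151

/-- Let A → B be an injective ring homomorphism of integral domains which is integral, with A integrally
closed, and let π be an element of A. Then the contraction to A of the ideal πB is πA, i.e. an
element of A which is a multiple of π in B is already a multiple of π in A; in particular if B/πB is
an integral domain then A/πA is an integral domain. (The published statement is for an integral
dominant morphism of integral schemes flat over a discrete valuation ring, with normal target and π
a uniformizer; flatness and the valuation ring play no role, so π is an arbitrary element here.) -/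
theorem result {A B : Type u} [CommRing A] [CommRing B]
    [IsDomain A] [IsDomain B] [IsIntegrallyClosed A] [Algebra A B] [Algebra.IsIntegral A B]
    (hinj : Function.Injective (algebraMap A B)) (π : A) :
    (Ideal.span {algebraMap A B π}).comap (algebraMap A B) = Ideal.span {π} ∧
      (IsDomain (B ⧸ Ideal.span {algebraMap A B π}) → IsDomain (A ⧸ Ideal.span {π})) := by
  have key : (Ideal.span {algebraMap A B π}).comap (algebraMap A B) = Ideal.span {π} := by
    apply le_antisymm
    · intro a ha
      rw [Ideal.mem_comap, Ideal.mem_span_singleton'] at ha
      obtain ⟨b, hb⟩ := ha
      rw [Ideal.mem_span_singleton']
      by_cases hπ : π = 0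
      · subst hπ
        refine ⟨0, ?_⟩
        rw [map_zero, mul_zero] at hb
        have : a = 0 := hinj (by rw [← hb, map_zero])
        simp [this]
      · let K := FractionRing A
        let L := FractionRing B
        have hinjL : Function.Injective (algebraMap A L) := by
          rw [IsScalarTower.algebraMap_eq A B L]
          exact (IsFractionRing.injective B L).comp hinj
        haveI : FaithfulSMul A L := (faithfulSMul_iff_algebraMap_injective A L).mpr hinjL
        letI : Algebra K L := FractionRing.liftAlgebra A L
        haveI : IsScalarTower A K L := FractionRing.isScalarTower_liftAlgebra A L
        have hπK : algebraMap A K π ≠ 0 := by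
          intro h
          apply hπ
          exact (IsFractionRing.injective A K) (by rw [h, map_zero])
        set x : K := algebraMap A K a / algebraMap A K π with hx
        have hxL : algebraMap K L x = algebraMap B L b := by
          have hπL : algebraMap A L π ≠ 0 := by
            intro h
            apply hπ
            exact hinjL (by rw [h, map_zero])
          rw [hx, map_div₀, ← IsScalarTower.algebraMap_apply, ← IsScalarTower.algebraMap_apply,
            div_eq_iff hπL]
          rw [IsScalarTower.algebraMap_apply A B L, IsScalarTower.algebraMap_apply A B L, ← hb,
            map_mul]
        have hbint : IsIntegral A b := Algebra.IsIntegral.isIntegral b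
        have hbL : IsIntegral A (algebraMap B L b) := hbint.map (IsScalarTower.toAlgHom A B L)
        have hxint : IsIntegral A x := by
          rw [← isIntegral_algHom_iff (IsScalarTower.toAlgHom A K L) (algebraMap K L).injective]
          simpa [hxL] using hbL
        obtain ⟨c, hc⟩ := IsIntegrallyClosed.isIntegral_iff.mp hxint
        refine ⟨c, ?_⟩
        apply IsFractionRing.injective A K
        rw [map_mul, hc, hx, div_mul_cancel₀ _ hπK]
    · rw [Ideal.span_singleton_le_iff_mem, Ideal.mem_comap]
      exact Ideal.subset_span (Set.mem_singleton _)
  refine ⟨key, ?_⟩
  intro hdom
  have H : Ideal.span {π} ≤ (Ideal.span {algebraMap A B π}).comap (algebraMap A B) := key.ge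
  have hinj' : Function.Injective (Ideal.quotientMap (Ideal.span {algebraMap A B π}) (algebraMap A B) H) :=
    Ideal.quotientMap_injective' key.le
  exact hinj'.isDomain _

end Groth.Agent.S13151
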