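import Groth.Statements.S13153
import Mathlib
import Groth.Agent.Lib.helper24.FunFieldOmega

set_option autoImplicit false
universe u
open CAlg

namespace Groth.Agent.S13153

namespace S13153aux

/-- in characteristic zero, an element of a field extension with vanishing differential is
algebraic. -/
theorem isAlgebraic_of_D_eq_zero {K L : Type u} [Field K] [Field L] [Algebra K L] [CharZero K]
    (x : L) (hx : KaehlerDifferential.D K L x = 0) : IsAlgebraic K x := by
  by_contra hna
  have htr : Transcendental K x := hna
  have hs : AlgebraicIndepOn K id ({x} : Set L) :=
    algebraicIndependent_unique_type_iff.mpr htr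
  obtain ⟨t, hst, ht⟩ := exists_isTranscendenceBasis_superset hs
  have hxt : x ∈ t := hst rfl
  haveI : Algebra.IsAlgebraic (IntermediateField.adjoin K (Set.range ((↑) : t → L))) L :=
    ht.isAlgebraic_field
  haveI : CharZero (IntermediateField.adjoin K (Set.range ((↑) : t → L))) :=
    charZero_of_injective_algebraMap (algebraMap K _).injective
  haveI : Algebra.IsSeparable (IntermediateField.adjoin K (Set.range ((↑) : t → L))) L :=
    Algebra.IsAlgebraic.isSeparable_of_perfectField
  obtain ⟨b, hb⟩ := Groth.Agent.Lib.helper24.FunFieldOmega.basis_D (k := K) (F := L)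
    ((↑) : t → L) ht.1
  have := b.ne_zero ⟨x, hxt⟩
  rw [hb] at this
  exact this hx

end S13153aux

/-- Let R be a discrete valuation ring whose fraction field K has characteristic zero, A an integral
domain which is a faithfully flat R-algebra, with fraction field L, such that K is algebraically
closed in L (every element of L algebraic over K is in the image of K). If f ∈ A has vanishing
differential, df = 0 in Ω_{A/R}, then f is the image of an element of R. (The published statement is
the sheaf form: for a faithfully flat morphism X → Spec R with geometrically integral generic fibre,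
the kernel of d : O_X → Ω¹_{X/R} is the inverse image of O_{Spec R}; for integral X, geometric
integrality of the generic fibre in characteristic zero amounts to K being algebraically closed in
the function field, which is the form used here, and this row is the case of global sections over an
affine X = Spec A.) -/
theorem result (R : Type u) [CommRing R] [IsDomain R]
    [IsDiscreteValuationRing R] [CharZero R] (K : Type u) [Field K] [Algebra R K] [IsFractionRing R K]
    (A : Type u) [CommRing A] [IsDomain A] [Algebra R A] [Module.FaithfullyFlat R A]
    (L : Type u) [Field L] [Algebra A L] [IsFractionRing A L] [Algebra R L] [Algebra K L]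
    [IsScalarTower R A L] [IsScalarTower R K L]
    (hac : ∀ x : L, IsAlgebraic K x → x ∈ (algebraMap K L).range)
    (f : A) (hf : KaehlerDifferential.D R A f = 0) : f ∈ (algebraMap R A).range := by
  haveI : CharZero K := charZero_of_injective_algebraMap (IsFractionRing.injective R K)
  haveI : SMulCommClass K A L := ⟨fun c a l => by
    simp only [Algebra.smul_def]; ring⟩
  have hD : KaehlerDifferential.D K L (algebraMap A L f) = 0 := by
    rw [← KaehlerDifferential.map_D R K A L, hf, map_zero]
  have halg := S13153aux.isAlgebraic_of_D_eq_zero _ hD
  obtain ⟨c, hc⟩ := hac _ halg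
  have hinjL : Function.Injective (algebraMap A L) := IsFractionRing.injective A L
  have hRL : ∀ r : R, algebraMap K L (algebraMap R K r) = algebraMap A L (algebraMap R A r) := by
    intro r
    rw [← IsScalarTower.algebraMap_apply R K L, ← IsScalarTower.algebraMap_apply R A L]
  rcases ValuationRing.isInteger_or_isInteger R c with ⟨r, hr⟩ | ⟨r, hr⟩
  · refine ⟨r, hinjL ?_⟩
    rw [← hRL, hr, hc]
  · by_cases hc0 : c = 0
    · refine ⟨0, hinjL ?_⟩
      rw [map_zero, map_zero, ← hc, hc0, map_zero]
    have hrf : algebraMap R A r * f = 1 := by
      apply hinjL
      rw [map_mul, map_one, ← hRL, hr, ← hc, ← map_mul, inv_mul_cancel₀ hc0, map_one]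
    by_cases hru : IsUnit r
    · obtain ⟨u, rfl⟩ := hru
      refine ⟨((u⁻¹ : Rˣ) : R), ?_⟩
      have h1 : algebraMap R A (u : R) * algebraMap R A ((u⁻¹ : Rˣ) : R) = 1 := by
        rw [← map_mul, Units.mul_inv, map_one]
      calc algebraMap R A ((u⁻¹ : Rˣ) : R)
          = (algebraMap R A (u : R) * f) * algebraMap R A ((u⁻¹ : Rˣ) : R) := by
            rw [hrf, one_mul]
        _ = f * (algebraMap R A (u : R) * algebraMap R A ((u⁻¹ : Rˣ) : R)) := by ring
        _ = f := by rw [h1, mul_one]
    · exfalso
      have hrm : r ∈ IsLocalRing.maximalIdeal R := (IsLocalRing.mem_maximalIdeal r).2 hru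
      have hne := Module.FaithfullyFlat.submodule_ne_top (R := R) (M := A)
        (IsLocalRing.maximalIdeal.isMaximal R)
      apply hne
      rw [eq_top_iff]
      intro a _
      have : a = r • (f * a) := by
        rw [Algebra.smul_def, ← mul_assoc, hrf, one_mul]
      rw [this]
      exact Submodule.smul_mem_smul hrm Submodule.mem_top

end Groth.Agent.S13153
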