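import Groth.Statements.S13154
import Mathlib

set_option autoImplicit false
universe u
open scoped TensorProduct
open CAlg

namespace Groth.Agent.S13154

section
variable (R : Type u) [CommRing R] (K : Type u) [Field K] [Algebra R K] [FaithfulSMul R K]
    (A : Type u) [CommRing A] [Algebra R A] [Module.FaithfullyFlat R A]
    (B₁ : Type u) [CommRing B₁] [Algebra R B₁] [Module.Flat R B₁]

lemma map_eq_rTensor {S T : Type u} [CommRing S] [CommRing T] [Algebra R S] [Algebra R T]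
    (f : S →ₐ[R] T) (X : S ⊗[R] B₁) :
    Algebra.TensorProduct.map f (AlgHom.id R B₁) X = LinearMap.rTensor B₁ f.toLinearMap X := by
  induction X using TensorProduct.induction_on with
  | zero => simp
  | tmul x y => simp
  | add x y hx hy => rw [map_add, map_add, hx, hy]

lemma key (X : K ⊗[R] B₁) (Z : A ⊗[R] B₁)
    (h : Algebra.TensorProduct.map (Algebra.TensorProduct.includeLeft : K →ₐ[R] K ⊗[R] A)
        (AlgHom.id R B₁) X =
      Algebra.TensorProduct.map (Algebra.TensorProduct.includeRight : A →ₐ[R] K ⊗[R] A)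
        (AlgHom.id R B₁) Z) :
    ∃ y : B₁, X = 1 ⊗ₜ y ∧ Z = 1 ⊗ₜ y := by
  rw [map_eq_rTensor, map_eq_rTensor] at h
  set iL : K →ₗ[R] K ⊗[R] A :=
    (Algebra.TensorProduct.includeLeft : K →ₐ[R] K ⊗[R] A).toLinearMap with hiL
  set iR : A →ₗ[R] K ⊗[R] A :=
    (Algebra.TensorProduct.includeRight : A →ₐ[R] K ⊗[R] A).toLinearMap with hiR
  let N : Submodule R K := LinearMap.range (Algebra.linearMap R K)
  let qK : K →ₗ[R] (K ⧸ N) := N.mkQ
  have hex : Function.Exact (Algebra.linearMap R K) qK := LinearMap.exact_map_mkQ_range _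
  have hqs : Function.Surjective qK := N.mkQ_surjective
  let ρ : K ⊗[R] A →ₗ[R] A ⊗[R] (K ⧸ N) :=
    (TensorProduct.comm R (K ⧸ N) A).toLinearMap ∘ₗ LinearMap.rTensor A qK
  let j : (K ⧸ N) →ₗ[R] A ⊗[R] (K ⧸ N) := TensorProduct.mk R A (K ⧸ N) 1
  have hj : Function.Injective j := Module.FaithfullyFlat.tensorProduct_mk_injective (K ⧸ N)
  have hρR : ρ ∘ₗ iR = 0 := by
    ext a
    have h1 : qK 1 = 0 := by
      rw [Submodule.mkQ_apply, Submodule.Quotient.mk_eq_zero]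
      exact ⟨1, by simp⟩
    simp [ρ, iR, h1]
  have hρL : ρ ∘ₗ iL = j ∘ₗ qK := by
    ext x
    simp [ρ, iL, j]
  have h2 := congrArg (LinearMap.rTensor B₁ ρ) h
  rw [← LinearMap.rTensor_comp_apply, ← LinearMap.rTensor_comp_apply, hρR, hρL,
    LinearMap.rTensor_zero, LinearMap.zero_apply, LinearMap.rTensor_comp_apply] at h2
  have h3 : LinearMap.rTensor B₁ qK X = 0 := by
    apply Module.Flat.rTensor_preserves_injective_linearMap j hj
    rw [h2, map_zero]
  obtain ⟨w, hw⟩ := (rTensor_exact B₁ hex hqs X).1 h3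
  have hw' : w = (1 : R) ⊗ₜ[R] (TensorProduct.lid R B₁ w) := by
    rw [← TensorProduct.lid_symm_apply, LinearEquiv.symm_apply_apply]
  have hX : X = 1 ⊗ₜ (TensorProduct.lid R B₁ w) := by
    rw [← hw]
    conv_lhs => rw [hw']
    simp
  refine ⟨TensorProduct.lid R B₁ w, hX, ?_⟩
  have hiRinj : Function.Injective iR := by
    have : (iR : A → K ⊗[R] A) = TensorProduct.mk R K A 1 := by
      ext a; simp [iR]
    rw [this]
    exact Module.Flat.tensorProduct_mk_injective (R := R) (S := K) (M := A)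
  apply Module.Flat.rTensor_preserves_injective_linearMap iR hiRinj
  rw [← h, hX]
  simp [iL, iR]

end

theorem result' (R : Type u) [CommRing R] [IsDomain R]
    [IsDiscreteValuationRing R] (K : Type u) [Field K] [Algebra R K] [IsFractionRing R K]
    (A : Type u) [CommRing A] [Algebra R A] [Module.FaithfullyFlat R A]
    (B₁ B₂ : Type u) [CommRing B₁] [CommRing B₂] [Algebra R B₁] [Algebra R B₂]
    [Module.Flat R B₁] [Module.Flat R B₂]
    (φK : K ⊗[R] B₂ →ₐ[K] K ⊗[R] B₁) (φA : A ⊗[R] B₂ →ₐ[A] A ⊗[R] B₁)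
    (hcomp : ∀ b : B₂,
      Algebra.TensorProduct.map (Algebra.TensorProduct.includeLeft : K →ₐ[R] K ⊗[R] A) (AlgHom.id R B₁)
          (φK (1 ⊗ₜ b)) =
        Algebra.TensorProduct.map (Algebra.TensorProduct.includeRight : A →ₐ[R] K ⊗[R] A) (AlgHom.id R B₁)
          (φA (1 ⊗ₜ b))) :
    ∃! φ : B₂ →ₐ[R] B₁, (∀ b : B₂, φK (1 ⊗ₜ b) = 1 ⊗ₜ φ b) ∧ (∀ b : B₂, φA (1 ⊗ₜ b) = 1 ⊗ₜ φ b) := by
  haveI : FaithfulSMul R K := (faithfulSMul_iff_algebraMap_injective R K).2 (IsFractionRing.injective R K)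
  let iK : B₁ →ₐ[R] K ⊗[R] B₁ := Algebra.TensorProduct.includeRight
  have hiK : Function.Injective iK := by
    have : (iK : B₁ → K ⊗[R] B₁) = TensorProduct.mk R K B₁ 1 := by
      ext a; simp [iK]
    rw [this]
    exact Module.Flat.tensorProduct_mk_injective (R := R) (S := K) (M := B₁)
  let ψ : B₂ →ₐ[R] K ⊗[R] B₁ :=
    (φK.restrictScalars R).comp (Algebra.TensorProduct.includeRight : B₂ →ₐ[R] K ⊗[R] B₂)
  have hψ : ∀ b, ψ b ∈ iK.range := by
    intro b
    obtain ⟨y, hy, -⟩ := key R K A B₁ (φK (1 ⊗ₜ b)) (φA (1 ⊗ₜ b)) (hcomp b)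
    exact ⟨y, by simp [iK, ψ, hy]⟩
  let φ : B₂ →ₐ[R] B₁ :=
    ((AlgEquiv.ofInjective iK hiK).symm : iK.range →ₐ[R] B₁).comp (ψ.codRestrict iK.range hψ)
  have hφ : ∀ b, iK (φ b) = ψ b := by
    intro b
    have h1 : ((AlgEquiv.ofInjective iK hiK) ((AlgEquiv.ofInjective iK hiK).symm
        (ψ.codRestrict iK.range hψ b)) : K ⊗[R] B₁) = ψ b := by
      rw [AlgEquiv.apply_symm_apply]; rfl
    rw [AlgEquiv.ofInjective_apply] at h1
    exact h1
  have hφK : ∀ b : B₂, φK (1 ⊗ₜ b) = 1 ⊗ₜ φ b := by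
    intro b
    have := hφ b
    simpa [iK, ψ] using this.symm
  refine ⟨φ, ⟨hφK, ?_⟩, ?_⟩
  · intro b
    obtain ⟨y, hy, hz⟩ := key R K A B₁ (φK (1 ⊗ₜ b)) (φA (1 ⊗ₜ b)) (hcomp b)
    rw [hz]
    have : y = φ b := by
      apply hiK
      show (1 : K) ⊗ₜ[R] y = 1 ⊗ₜ φ b
      rw [← hy, hφK]
    rw [this]
  · rintro φ' ⟨h1, -⟩
    ext b
    apply hiK
    show (1 : K) ⊗ₜ[R] φ' b = 1 ⊗ₜ φ b
    rw [← h1, hφK]

/-- Let R be a discrete valuation ring with fraction field K, A a faithfully flat R-algebra (an affine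
faithfully flat base change S' → S = Spec R) and B₁, B₂ flat R-algebras (two affine S-schemes X₁ =
Spec B₁, X₂ = Spec B₂, flat over S). Suppose given a K-algebra homomorphism φ_K : K ⊗ B₂ → K ⊗ B₁ (a
morphism of the generic fibres X₁,K → X₂,K) and an A-algebra homomorphism φ_A : A ⊗ B₂ → A ⊗ B₁ (a
morphism X₁ ×_S S' → X₂ ×_S S' over S') which coincide after base change to K ⊗ A, in the sense that
for every b ∈ B₂ the images of φ_K(1 ⊗ b) and φ_A(1 ⊗ b) in (K ⊗ A) ⊗ B₁ agree. Then there is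
exactly one R-algebra homomorphism φ : B₂ → B₁ (a morphism X₁ → X₂) whose base changes to K and to A
are φ_K and φ_A. (The published statement assumes only X₂ flat over S; flatness of X₁ is also
needed: with B₂ = R[t], B₁ = R[e]/(e², πe) for a uniformizer π and A = R[x], the maps t ↦ 0 over K
and t ↦ e x over A agree over K ⊗ A = K[x] but come from no map over R.) -/
theorem result (R : Type u) [CommRing R] [IsDomain R]
    [IsDiscreteValuationRing R] (K : Type u) [Field K] [Algebra R K] [IsFractionRing R K]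
    (A : Type u) [CommRing A] [Algebra R A] [Module.FaithfullyFlat R A]
    (B₁ B₂ : Type u) [CommRing B₁] [CommRing B₂] [Algebra R B₁] [Algebra R B₂]
    [Module.Flat R B₁] [Module.Flat R B₂]
    (φK : K ⊗[R] B₂ →ₐ[K] K ⊗[R] B₁) (φA : A ⊗[R] B₂ →ₐ[A] A ⊗[R] B₁)
    (hcomp : ∀ b : B₂,
      Algebra.TensorProduct.map (Algebra.TensorProduct.includeLeft : K →ₐ[R] K ⊗[R] A) (AlgHom.id R B₁)
          (φK (1 ⊗ₜ b)) =
        Algebra.TensorProduct.map (Algebra.TensorProduct.includeRight : A →ₐ[R] K ⊗[R] A) (AlgHom.id R B₁)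
          (φA (1 ⊗ₜ b))) :
    ∃! φ : B₂ →ₐ[R] B₁, (∀ b : B₂, φK (1 ⊗ₜ b) = 1 ⊗ₜ φ b) ∧ (∀ b : B₂, φA (1 ⊗ₜ b) = 1 ⊗ₜ φ b) := by
  exact result' R K A B₁ B₂ φK φA hcomp

end Groth.Agent.S13154
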