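import Groth.Statements.S13156
import Mathlib

set_option autoImplicit false
universe u
open scoped Polynomial
open CAlg

namespace Groth.Agent.S13156aux
open Polynomial

variable {B : Type*} [CommRing B]

theorem coeff_rhs (μ : B) (F : B[X]) (n : ℕ) :
    (derivative F * (1 + C μ * X)).coeff n = F.coeff (n + 1) * ((n : B) + 1) + μ * (F.coeff n * (n : B)) := by
  rw [mul_add, mul_one, coeff_add, coeff_derivative, ← mul_assoc, mul_comm (derivative F) (C μ), mul_assoc]
  congr 1
  rw [coeff_C_mul]
  cases n with
  | zero => simp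
  | succ m =>
    rw [coeff_mul_X, coeff_derivative]
    push_cast
    ring

theorem unit_of_lt (p : ℕ) (hu : IsUnit ((Nat.factorial (p - 1) : ℕ) : B)) (n : ℕ) (hn0 : 0 < n) (hn : n < p) :
    IsUnit ((n : ℕ) : B) := by
  have hd : n ∣ (p - 1).factorial := Nat.dvd_factorial hn0 (by omega)
  obtain ⟨c, hc⟩ := hd
  rw [hc] at hu
  push_cast at hu
  exact isUnit_of_mul_isUnit_left hu

/-- uniqueness for the linear ODE `(1 + μ T) Y' = c Y` in degree `< p` -/
theorem ode_unique (p : ℕ) (hu : IsUnit ((Nat.factorial (p - 1) : ℕ) : B)) (μ c : B) (Y : B[X])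
    (hY : Y.natDegree < p) (h : derivative Y * (1 + C μ * X) = C c * Y) (h1 : Y.coeff 1 = 0) :
    Y = C (Y.coeff 0) := by
  have hc : ∀ n : ℕ, Y.coeff (n + 1) * ((n : B) + 1) + μ * (Y.coeff n * (n : B)) = c * Y.coeff n := by
    intro n
    have := congrArg (fun q => Polynomial.coeff q n) h
    simp only [coeff_rhs, coeff_C_mul] at this
    exact this
  have hz : ∀ n : ℕ, 1 ≤ n → Y.coeff n = 0 := by
    intro n hn
    induction n, hn using Nat.le_induction with
    | base => exact h1
    | succ n hn ih =>
      by_cases hlt : n + 1 < p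
      · have hun := unit_of_lt p hu (n + 1) (by omega) hlt
        have := hc n
        rw [ih, zero_mul, mul_zero, mul_zero, add_zero] at this
        push_cast at hun
        exact (hun.mul_left_eq_zero).1 this
      · exact coeff_eq_zero_of_natDegree_lt (by omega)
  ext n
  rw [coeff_C]
  rcases Nat.eq_zero_or_pos n with rfl | hn
  · simp
  · rw [if_neg (by omega), hz n hn]

theorem func_eq (p : ℕ) (hu : IsUnit ((Nat.factorial (p - 1) : ℕ) : B)) (μ : B) (F : B[X])
    (hF : F.natDegree < p)
    (ode : F * C (F.coeff 1) = derivative F * (1 + C μ * X)) (s : B) :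
    F.comp (X + C s + C μ * X * C s) - F * C (F.eval s) = C (F.coeff 0 - F.coeff 0 ^ 2) := by
  set U : B[X] := C (1 + μ * s) * X + C s with hU
  have hUeq : X + C s + C μ * X * C s = U := by
    rw [hU, C_add, C_mul, C_1]; ring
  rw [hUeq]
  have hUdeg : U.natDegree ≤ 1 := natDegree_linear_le
  have hUder : derivative U = C (1 + μ * s) := by
    rw [hU]; simp
  have hfac : (1 + C μ * X) * C (1 + μ * s) = 1 + C μ * U := by
    rw [hU, C_add, C_mul, C_1]; ring
  -- a_1 a_0 = a_1
  have h10 : F.coeff 1 * F.coeff 0 = F.coeff 1 := by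
    have := congrArg (fun q => Polynomial.coeff q 0) ode
    simp only [coeff_rhs, coeff_mul_C] at this
    simp only [Nat.cast_zero, zero_add, mul_one, mul_zero, add_zero] at this
    rw [mul_comm]; exact this
  -- (1 - a_0)(F - a_0) = 0
  have hW : C (1 - F.coeff 0) * (F - C (F.coeff 0)) = 0 := by
    set W := C (1 - F.coeff 0) * (F - C (F.coeff 0)) with hWdef
    have hWdeg : W.natDegree < p := by
      refine lt_of_le_of_lt (natDegree_C_mul_le _ _) ?_
      refine lt_of_le_of_lt (natDegree_sub_le _ _) ?_
      rw [natDegree_C]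
      exact max_lt hF (lt_of_le_of_lt (Nat.zero_le _) hF)
    have hWder : derivative W * (1 + C μ * X) = C 0 * W := by
      rw [hWdef, derivative_C_mul, derivative_sub, derivative_C, sub_zero, mul_assoc, ← ode, C_0, zero_mul,
        ← mul_assoc, mul_comm (C _) F, mul_assoc, ← C_mul]
      have : (1 - F.coeff 0) * F.coeff 1 = 0 := by linear_combination -h10
      rw [this, C_0, mul_zero]
    have hW1 : W.coeff 1 = 0 := by
      rw [hWdef, coeff_C_mul, coeff_sub, coeff_C]
      simp only [one_ne_zero, if_false, sub_zero]
      linear_combination -h10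
    have := ode_unique p hu μ 0 W hWdeg hWder hW1
    rw [this, hWdef, coeff_C_mul, coeff_sub, coeff_C_zero, sub_self, mul_zero, C_0]
  set Y := F.comp U - F * C (F.eval s) with hYdef
  have hYdeg : Y.natDegree < p := by
    refine lt_of_le_of_lt (natDegree_sub_le _ _) (max_lt ?_ ?_)
    · refine lt_of_le_of_lt natDegree_comp_le ?_
      calc F.natDegree * U.natDegree ≤ F.natDegree * 1 := Nat.mul_le_mul_left _ hUdeg
        _ = F.natDegree := mul_one _
        _ < p := hF
    · exact lt_of_le_of_lt (natDegree_mul_C_le _ _) hF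
  have odeU : F.comp U * C (F.coeff 1) = (derivative F).comp U * (1 + C μ * U) := by
    have := congrArg (fun q => q.comp U) ode
    simpa only [mul_comp, C_comp, add_comp, one_comp, X_comp] using this
  have hYder : derivative Y * (1 + C μ * X) = C (F.coeff 1) * Y := by
    rw [hYdef, derivative_sub, derivative_comp, hUder, derivative_mul, derivative_C, mul_zero, add_zero]
    have e1 : (C (1 + μ * s) * (derivative F).comp U - derivative F * C (eval s F)) * (1 + C μ * X) =
        (derivative F).comp U * ((1 + C μ * X) * C (1 + μ * s)) -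
          (derivative F * (1 + C μ * X)) * C (eval s F) := by ring
    rw [e1, hfac, ← odeU, ← ode]; ring
  have hY0 : Y.coeff 0 = (1 - F.coeff 0) * F.eval s := by
    rw [hYdef, coeff_sub, coeff_zero_eq_eval_zero, eval_comp, coeff_mul_C, hU]
    simp only [eval_add, eval_mul, eval_C, eval_X, mul_zero, zero_add]
    rw [coeff_zero_eq_eval_zero]; ring
  have hY1 : Y.coeff 1 = 0 := by
    have := congrArg (fun q => Polynomial.coeff q 0) hYder
    simp only [coeff_rhs, coeff_C_mul] at this
    simp only [Nat.cast_zero, zero_add, mul_one, mul_zero, add_zero] at this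
    rw [this, hY0]
    linear_combination (-(eval s F)) * h10
  have hYC := ode_unique p hu μ (F.coeff 1) Y hYdeg hYder hY1
  rw [hYC, hY0]
  congr 1
  have := congrArg (eval s) hW
  simp only [eval_mul, eval_C, eval_sub, eval_zero] at this
  linear_combination this


section Main
open MvPolynomial

variable {A : Type u} [CommRing A]

/-- evaluation `S ↦ X`, `T ↦ 0` -/
noncomputable def ev (A : Type u) [CommRing A] : MvPolynomial (Fin 2) A →ₐ[A] A[X] :=
  MvPolynomial.aeval ![Polynomial.X, 0]

theorem ev_X0 : ev A (MvPolynomial.X 0) = Polynomial.X := by simp [ev]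
theorem ev_X1 : ev A (MvPolynomial.X 1) = 0 := by simp [ev]

theorem ev_aeval (g : MvPolynomial (Fin 2) A) (F : A[X]) :
    ev A (Polynomial.aeval g F) = Polynomial.aeval (ev A g) F :=
  (Polynomial.aeval_algHom_apply (ev A) g F).symm

theorem forward (μ : A) (F : A[X])
    (h : Polynomial.aeval (MvPolynomial.X 0 : MvPolynomial (Fin 2) A) F *
          Polynomial.aeval (MvPolynomial.X 1 : MvPolynomial (Fin 2) A) F - MvPolynomial.C (F.coeff 0 ^ 2) =
        Polynomial.aeval (MvPolynomial.X 0 + MvPolynomial.X 1 +
            MvPolynomial.C μ * MvPolynomial.X 0 * MvPolynomial.X 1 : MvPolynomial (Fin 2) A) F -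
          MvPolynomial.C (F.coeff 0)) :
    F * Polynomial.C (F.coeff 1) = Polynomial.derivative F * (1 + Polynomial.C μ * Polynomial.X) := by
  have h1 := congrArg (MvPolynomial.pderiv (1 : Fin 2)) h
  simp only [map_sub, Derivation.leibniz, Derivation.map_aeval, MvPolynomial.pderiv_C, sub_zero, map_add,
    MvPolynomial.pderiv_X_self, smul_eq_mul] at h1
  rw [MvPolynomial.pderiv_X_of_ne (by decide : (0 : Fin 2) ≠ 1)] at h1
  have h2 := congrArg (ev A) h1
  simp only [map_add, map_mul, ev_aeval, ev_X0, ev_X1, map_zero, mul_zero, zero_mul, add_zero, zero_add,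
    mul_one, map_one] at h2
  rw [Polynomial.aeval_X_left_apply, Polynomial.aeval_X_left_apply] at h2
  have h3 : ev A (MvPolynomial.C μ) = Polynomial.C μ := by
    rw [← MvPolynomial.algebraMap_eq, AlgHom.commutes]; rfl
  have h4 : Polynomial.aeval (0 : A[X]) (Polynomial.derivative F) = Polynomial.C (F.coeff 1) := by
    rw [Polynomial.aeval_def, Polynomial.eval₂_at_zero]
    simp [Polynomial.coeff_derivative]
  rw [h3, h4] at h2
  rw [h2]

theorem backward (p : ℕ) (hu : IsUnit ((Nat.factorial (p - 1) : ℕ) : A)) (μ : A) (F : A[X])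
    (hF : F.natDegree < p)
    (ode : F * Polynomial.C (F.coeff 1) = Polynomial.derivative F * (1 + Polynomial.C μ * Polynomial.X)) :
    Polynomial.aeval (MvPolynomial.X 0 : MvPolynomial (Fin 2) A) F *
          Polynomial.aeval (MvPolynomial.X 1 : MvPolynomial (Fin 2) A) F - MvPolynomial.C (F.coeff 0 ^ 2) =
        Polynomial.aeval (MvPolynomial.X 0 + MvPolynomial.X 1 +
            MvPolynomial.C μ * MvPolynomial.X 0 * MvPolynomial.X 1 : MvPolynomial (Fin 2) A) F -
          MvPolynomial.C (F.coeff 0) := by
  have huB : IsUnit ((Nat.factorial (p - 1) : ℕ) : MvPolynomial (Fin 2) A) := by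
    have := hu.map (algebraMap A (MvPolynomial (Fin 2) A))
    rwa [map_natCast] at this
  have hFB : (F.map (algebraMap A (MvPolynomial (Fin 2) A))).natDegree < p := lt_of_le_of_lt Polynomial.natDegree_map_le hF
  have odeB : F.map (algebraMap A (MvPolynomial (Fin 2) A)) * Polynomial.C ((F.map (algebraMap A (MvPolynomial (Fin 2) A))).coeff 1) =
      Polynomial.derivative (F.map (algebraMap A (MvPolynomial (Fin 2) A))) * (1 + Polynomial.C ((algebraMap A (MvPolynomial (Fin 2) A)) μ) * Polynomial.X) := by
    have := congrArg (Polynomial.map (algebraMap A (MvPolynomial (Fin 2) A))) ode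
    simpa only [Polynomial.map_mul, Polynomial.map_C, Polynomial.derivative_map, Polynomial.coeff_map,
      Polynomial.map_add, Polynomial.map_one, Polynomial.map_X] using this
  have key := func_eq p huB ((algebraMap A (MvPolynomial (Fin 2) A)) μ) (F.map (algebraMap A (MvPolynomial (Fin 2) A))) hFB odeB (MvPolynomial.X 1)
  have key2 := congrArg (Polynomial.eval (MvPolynomial.X 0 : MvPolynomial (Fin 2) A)) key
  simp only [Polynomial.eval_sub, Polynomial.eval_comp, Polynomial.eval_mul, Polynomial.eval_C,
    Polynomial.eval_add, Polynomial.eval_X, Polynomial.eval_map_algebraMap, Polynomial.coeff_map] at key2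
  have hC : ∀ a : A, (algebraMap A (MvPolynomial (Fin 2) A)) a = MvPolynomial.C a := fun a => rfl
  simp only [hC] at key2
  rw [MvPolynomial.C_pow]
  linear_combination -key2

end Main

end Groth.Agent.S13156aux

namespace Groth.Agent.S13156

/-- Let p be a prime number, A a commutative ring in which (p−1)! is invertible, μ an element of A, and
F ∈ A[X] a polynomial of degree at most p − 1 with coefficients a_0, a_1, …. Then the identity
F(S)·F(T) − a_0² = F(S + T + μST) − a_0 holds in the polynomial ring A[S, T] if and only if a_1·F(S)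
= F′(S)·(1 + μS) holds in A[S], F′ the formal derivative. (The published statement is over the
quotient of a discrete valuation ring of residue characteristic p by a nonzero element of its
maximal ideal; only the invertibility of 1, …, p − 1 is used, so an arbitrary such ring A is allowed
here.) -/
theorem result (A : Type u) [CommRing A] (p : ℕ) [Fact p.Prime]
    (hu : IsUnit ((Nat.factorial (p - 1) : ℕ) : A)) (μ : A) (F : A[X]) (hF : F.natDegree < p) :
    (Polynomial.aeval (MvPolynomial.X 0 : MvPolynomial (Fin 2) A) F *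
          Polynomial.aeval (MvPolynomial.X 1 : MvPolynomial (Fin 2) A) F - MvPolynomial.C (F.coeff 0 ^ 2) =
        Polynomial.aeval (MvPolynomial.X 0 + MvPolynomial.X 1 +
            MvPolynomial.C μ * MvPolynomial.X 0 * MvPolynomial.X 1 : MvPolynomial (Fin 2) A) F -
          MvPolynomial.C (F.coeff 0)) ↔
      F * Polynomial.C (F.coeff 1) = Polynomial.derivative F * (1 + Polynomial.C μ * Polynomial.X) := by
  constructor
  · exact Groth.Agent.S13156aux.forward μ F
  · exact Groth.Agent.S13156aux.backward p hu μ F hF

end Groth.Agent.S13156
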