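import Groth.Statements.S13157
import Mathlib

set_option autoImplicit false
universe u
open scoped Polynomial
open CAlg

namespace Groth.Agent.S13157aux
open Polynomial


variable {A : Type*} [CommRing A]

theorem coeff_rhs (μ : A) (F : A[X]) (n : ℕ) :
    (derivative F * (1 + C μ * X)).coeff n = F.coeff (n + 1) * ((n : A) + 1) + μ * (F.coeff n * (n : A)) := by
  rw [mul_add, mul_one, coeff_add, coeff_derivative, ← mul_assoc, mul_comm (derivative F) (C μ), mul_assoc]
  congr 1
  rw [coeff_C_mul]
  cases n with
  | zero => simp
  | succ m =>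
    rw [coeff_mul_X, coeff_derivative]
    push_cast
    ring

theorem identity_iff (μ : A) (F : A[X]) :
    F * C (F.coeff 1) = derivative F * (1 + C μ * X) ↔
      ∀ n : ℕ, ((n : A) + 1) * F.coeff (n + 1) = (F.coeff 1 - (n : A) * μ) * F.coeff n := by
  rw [Polynomial.ext_iff]
  refine forall_congr' fun n => ?_
  rw [coeff_mul_C, coeff_rhs]
  constructor
  · intro h; linear_combination -h
  · intro h; linear_combination -h


theorem main (p : ℕ) [Fact p.Prime]
    (hu : IsUnit ((Nat.factorial (p - 1) : ℕ) : A)) (μ : A) (F : A[X]) (hF : F.natDegree < p)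
    (h0 : F.coeff 0 = 1) :
    (∀ n : ℕ, ((n : A) + 1) * F.coeff (n + 1) = (F.coeff 1 - (n : A) * μ) * F.coeff n) ↔
      ((∀ r : ℕ, 1 ≤ r → r < p →
          (r.factorial : A) * F.coeff r = ∏ k ∈ Finset.range r, (F.coeff 1 - (k : A) * μ)) ∧
        ∏ k ∈ Finset.range p, (F.coeff 1 - (k : A) * μ) = 0) := by
  have hp : 2 ≤ p := (Fact.out : p.Prime).two_le
  have hzero : ∀ n, p ≤ n → F.coeff n = 0 := fun n hn =>
    coeff_eq_zero_of_natDegree_lt (lt_of_lt_of_le hF hn)
  have hunit : ∀ n, n ≤ p - 1 → IsUnit ((n.factorial : ℕ) : A) := by
    intro n hn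
    obtain ⟨c, hc⟩ := Nat.factorial_dvd_factorial hn
    rw [hc] at hu
    push_cast at hu
    exact isUnit_of_mul_isUnit_left hu
  constructor
  · intro E
    have hform : ∀ r : ℕ, 1 ≤ r → r < p →
        (r.factorial : A) * F.coeff r = ∏ k ∈ Finset.range r, (F.coeff 1 - (k : A) * μ) := by
      intro r hr
      induction r, hr using Nat.le_induction with
      | base => intro _; simp
      | succ r hr ih =>
        intro hrp
        have ih' := ih (by omega)
        rw [Finset.prod_range_succ, ← ih', Nat.factorial_succ]
        push_cast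
        linear_combination (r.factorial : A) * E r
    refine ⟨hform, ?_⟩
    obtain ⟨q, rfl⟩ : ∃ q, p = q + 1 := ⟨p - 1, by omega⟩
    rw [Finset.prod_range_succ, ← hform q (by omega) (by omega)]
    have := E q
    rw [hzero (q + 1) le_rfl, mul_zero] at this
    linear_combination -(q.factorial : A) * this
  · rintro ⟨hform, hprod⟩ n
    rcases lt_trichotomy (n + 1) p with hlt | heq | hgt
    · -- n + 1 < p
      rcases Nat.eq_zero_or_pos n with rfl | hn
      · simp [h0]
      · have h1 := hform (n + 1) (by omega) hlt
        have h2 := hform n hn (by omega)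
        rw [Finset.prod_range_succ, ← h2, Nat.factorial_succ] at h1
        push_cast at h1
        have hu' := hunit n (by omega)
        have : (n.factorial : A) * (((n : A) + 1) * F.coeff (n + 1)) =
            (n.factorial : A) * ((F.coeff 1 - (n : A) * μ) * F.coeff n) := by
          linear_combination h1
        exact hu'.mul_left_cancel this
    · -- n + 1 = p
      subst heq
      rw [hzero (n + 1) le_rfl, mul_zero]
      rw [Finset.prod_range_succ, ← hform n (by omega) (by omega)] at hprod
      have hu' := hunit n (by simp)
      have : (n.factorial : A) * ((F.coeff 1 - (n : A) * μ) * F.coeff n) = (n.factorial : A) * 0 := by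
        linear_combination hprod
      exact (hu'.mul_left_cancel this).symm
    · rw [hzero (n + 1) (by omega), hzero n (by omega)]; simp


end Groth.Agent.S13157aux

open Groth.Agent.S13157aux

namespace Groth.Agent.S13157

/-- (i) ⇔ (ii): let p be a prime number, A a commutative ring in which (p−1)! is invertible, μ ∈ A, and
F ∈ A[X] a polynomial of degree at most p − 1 with constant term a_0 = 1 and coefficients a_1, a_2,
…. Then the relations a_{r−1}·a_1 = (r − 1)μ·a_{r−1} + r·a_r for 1 ≤ r ≤ p (with a_p = 0), written
here as the single identity a_1·F = F′·(1 + μX), hold if and only if r!·a_r = ∏_{k=0}^{r−1} (a_1 −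
kμ) for every 1 ≤ r ≤ p − 1 and ∏_{k=0}^{p−1} (a_1 − kμ) = 0. (The published statement lists the
relations only for 1 ≤ r ≤ p − 1, while its proof uses and derives the relation for r = p as well,
which is needed for the vanishing of the last product; it is included here. The published setting is
the quotient of a discrete valuation ring of residue characteristic p by a nonzero non-unit; only
the invertibility of 1, …, p − 1 is used.) -/
theorem result (A : Type u) [CommRing A] (p : ℕ) [Fact p.Prime]
    (hu : IsUnit ((Nat.factorial (p - 1) : ℕ) : A)) (μ : A) (F : A[X]) (hF : F.natDegree < p)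
    (h0 : F.coeff 0 = 1) :
    F * Polynomial.C (F.coeff 1) = Polynomial.derivative F * (1 + Polynomial.C μ * Polynomial.X) ↔
      ((∀ r : ℕ, 1 ≤ r → r < p →
          (r.factorial : A) * F.coeff r = ∏ k ∈ Finset.range r, (F.coeff 1 - (k : A) * μ)) ∧
        ∏ k ∈ Finset.range p, (F.coeff 1 - (k : A) * μ) = 0) := by
  rw [identity_iff]
  exact main p hu μ F hF h0

end Groth.Agent.S13157
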