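import Groth.Statements.S13159
import Mathlib

set_option autoImplicit false
universe u
open CAlg

namespace Groth.Agent.S13159

/-- Let R be a discrete valuation ring with fraction field K, C an R-algebra which is finitely generated
as an R-module (the coordinate ring of a finite R-scheme G), and A an integral domain which is an
R-algebra with injective structure map and fraction field L, K → L being compatible, such that every
element of L algebraic over K lies in the image of K (the condition satisfied by the rings of
nonempty opens of an R-scheme with geometrically integral fibres). Then every R-algebra homomorphism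
C → A factors uniquely through the structure map R → A: the points of G with values in A are the
R-points of G. (The published statement is that for Y → Spec R with geometrically integral fibres
and G finite flat, the map H¹(Y, G) → H⁰(Y_Zar, R¹f_*G) from the Leray spectral sequence of Y_fl →
Y_Zar is bijective; this row is the step asserting that G restricted to the Zariski site of Y is the
constant sheaf G(R), for an affine open with function ring A.) -/
theorem result (R : Type u) [CommRing R]
    [IsDomain R] [IsDiscreteValuationRing R] (K : Type u) [Field K] [Algebra R K] [IsFractionRing R K]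
    (C : Type u) [CommRing C] [Algebra R C] [Module.Finite R C]
    (A : Type u) [CommRing A] [IsDomain A] [Algebra R A] (hinj : Function.Injective (algebraMap R A))
    (L : Type u) [Field L] [Algebra A L] [IsFractionRing A L] [Algebra R L] [Algebra K L]
    [IsScalarTower R A L] [IsScalarTower R K L]
    (hac : ∀ x : L, IsAlgebraic K x → x ∈ (algebraMap K L).range)
    (φ : C →ₐ[R] A) : ∃! ψ : C →ₐ[R] R, φ = (Algebra.ofId R A).comp ψ := by
  have hmem : ∀ c : C, φ c ∈ (Algebra.ofId R A).range := by
    intro c
    have h1 : IsIntegral R (φ c) := (Algebra.IsIntegral.isIntegral (R := R) c).map φ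
    have h2 : IsIntegral R (algebraMap A L (φ c)) := h1.map (IsScalarTower.toAlgHom R A L)
    have h3 : IsAlgebraic K (algebraMap A L (φ c)) := (h2.tower_top (A := K)).isAlgebraic
    obtain ⟨y, hy⟩ := hac _ h3
    have h4 : IsIntegral R y := by
      have hinjKL : Function.Injective (IsScalarTower.toAlgHom R K L) :=
        (algebraMap K L).injective
      rw [← isIntegral_algHom_iff (IsScalarTower.toAlgHom R K L) hinjKL]
      show IsIntegral R (algebraMap K L y)
      rw [hy]; exact h2
    obtain ⟨r, hr⟩ := (IsIntegrallyClosed.isIntegral_iff (R := R) (K := K)).1 h4
    refine ⟨r, ?_⟩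
    apply IsFractionRing.injective A L
    show algebraMap A L (algebraMap R A r) = _
    rw [← hy, ← hr, ← IsScalarTower.algebraMap_apply, ← IsScalarTower.algebraMap_apply]
  let e : R ≃ₐ[R] (Algebra.ofId R A).range := AlgEquiv.ofInjective (Algebra.ofId R A) hinj
  let ψ : C →ₐ[R] R := (e.symm : (Algebra.ofId R A).range →ₐ[R] R).comp
    (φ.codRestrict (Algebra.ofId R A).range hmem)
  have hψ : ∀ c, Algebra.ofId R A (ψ c) = φ c := by
    intro c
    have : (e (ψ c) : A) = φ c := by
      simp only [ψ, AlgHom.comp_apply, AlgEquiv.coe_toAlgHom, AlgEquiv.apply_symm_apply]
      rfl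
    rw [← this]
    rfl
  refine ⟨ψ, ?_, ?_⟩
  · ext c
    exact (hψ c).symm
  · intro ψ' hψ'
    ext c
    apply hinj
    have h1 : φ c = Algebra.ofId R A (ψ' c) := by rw [hψ']; rfl
    show Algebra.ofId R A (ψ' c) = Algebra.ofId R A (ψ c)
    rw [hψ c, h1]

end Groth.Agent.S13159
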