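import Groth.Statements.S1316
import Mathlib
import Groth.Agent.Lib.helper22.ThickCI

set_option autoImplicit false
universe u
open FlatMor

namespace Groth.Agent.S1316

section Helpers

open AlgebraicGeometry CategoryTheory Limits MorphismProperty

lemma isPullback_of_comp_mono {C : Type*} [Category C] {P X Y Z W : C} {fst : P ⟶ X}
    {snd : P ⟶ Y} {f : X ⟶ Z} {g : Y ⟶ Z} (i : Z ⟶ W) [Mono i]
    (h : IsPullback fst snd (f ≫ i) (g ≫ i)) : IsPullback fst snd f g :=
  ⟨⟨by rw [← cancel_mono i]; simpa using h.w⟩,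
    ⟨PullbackCone.IsLimit.mk _
      (fun s => h.lift s.fst s.snd (by simp [reassoc_of% s.condition]))
      (fun s => h.lift_fst _ _ _) (fun s => h.lift_snd _ _ _)
      (fun s m h1 h2 => h.hom_ext (by simp [h1]) (by simp [h2]))⟩⟩

theorem forward {X X' Y Y' : Scheme.{u}} (iX : X ⟶ X') (iY : Y ⟶ Y') (f : X ⟶ Y) (f' : X' ⟶ Y')
    [IsClosedImmersion iY] [Surjective iY] (hc : IsPullback iX f f' iY)
    [LocallyOfFiniteType f'] [IsImmersion f] : IsImmersion f' := by
  haveI : Surjective iX := MorphismProperty.of_isPullback (P := @Surjective) hc.flip inferInstance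
  -- range f' = iY '' range f
  have hrange : Set.range f' = iY '' Set.range f := by
    ext y'
    constructor
    · rintro ⟨x', rfl⟩
      obtain ⟨x, rfl⟩ := iX.surjective x'
      refine ⟨f x, ⟨x, rfl⟩, ?_⟩
      rw [← Scheme.Hom.comp_apply, ← hc.w, Scheme.Hom.comp_apply]
    · rintro ⟨_, ⟨x, rfl⟩, rfl⟩
      refine ⟨iX x, ?_⟩
      rw [← Scheme.Hom.comp_apply, hc.w, Scheme.Hom.comp_apply]
  have hlc : IsLocallyClosed (Set.range f') := by
    rw [hrange]
    exact f.isLocallyClosed_range.image iY.isClosedEmbedding.isInducing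
      iY.isClosedEmbedding.isClosed_range.isLocallyClosed
  let U' : Y'.Opens := ⟨coborder (Set.range f'), hlc.isOpen_coborder⟩
  let c' : X' ⟶ U' := IsOpenImmersion.lift U'.ι f' (by simpa [U'] using subset_coborder)
  have hc' : c' ≫ U'.ι = f' := IsOpenImmersion.lift_fac _ _ _
  have hfU : Set.range f ⊆ Set.range (iY ⁻¹ᵁ U').ι := by
    rintro _ ⟨x, rfl⟩
    rw [Scheme.Opens.range_ι]
    change iY (f x) ∈ coborder (Set.range f')
    apply subset_coborder
    exact ⟨iX x, by rw [← Scheme.Hom.comp_apply, hc.w, Scheme.Hom.comp_apply]⟩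
  let c : X ⟶ (iY ⁻¹ᵁ U') := IsOpenImmersion.lift (iY ⁻¹ᵁ U').ι f hfU
  have hcf : c ≫ (iY ⁻¹ᵁ U').ι = f := IsOpenImmersion.lift_fac _ _ _
  -- the restricted square is a pullback
  have sq1 : IsPullback (𝟙 X) c f (iY ⁻¹ᵁ U').ι :=
    IsPullback.of_horiz_isIso_mono ⟨by rw [Category.id_comp, hcf]⟩
  have sq2 : IsPullback iX c f' ((iY ⁻¹ᵁ U').ι ≫ iY) := by
    have := sq1.paste_horiz hc
    rwa [Category.id_comp] at this
  have sq3 : IsPullback iX c c' (iY ∣_ U') := by
    apply isPullback_of_comp_mono U'.ι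
    rw [hc', morphismRestrict_ι]
    exact sq2
  -- c is a closed immersion
  haveI : IsImmersion (c ≫ (iY ⁻¹ᵁ U').ι) := by rw [hcf]; infer_instance
  haveI : IsPreimmersion c := by
    haveI : IsImmersion c := IsImmersion.of_comp c (iY ⁻¹ᵁ U').ι
    infer_instance
  haveI : IsClosedImmersion c := by
    refine .of_isPreimmersion _ ?_
    have h1 : IsClosed ((Subtype.val : coborder (Set.range f') → Y') ⁻¹' Set.range f') :=
      isClosed_preimage_val_coborder
    have h2 : Set.range c = (iY ∣_ U') ⁻¹'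
        ((Subtype.val : coborder (Set.range f') → Y') ⁻¹' Set.range f') := by
      ext u
      constructor
      · rintro ⟨x, rfl⟩
        change ((iY ∣_ U') (c x)).1 ∈ Set.range f'
        refine ⟨iX x, ?_⟩
        have : U'.ι ((iY ∣_ U') (c x)) = iY (f x) := by
          rw [← Scheme.Hom.comp_apply, morphismRestrict_ι, Scheme.Hom.comp_apply,
            ← Scheme.Hom.comp_apply c, hcf]
        rw [← Scheme.Hom.comp_apply, hc.w, Scheme.Hom.comp_apply]
        exact this.symm
      · intro hu
        change ((iY ∣_ U') u).1 ∈ Set.range f' at hu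
        rw [hrange] at hu
        obtain ⟨_, ⟨x, rfl⟩, hx⟩ := hu
        refine ⟨x, ?_⟩
        apply (iY ⁻¹ᵁ U').ι.injective
        rw [← Scheme.Hom.comp_apply, hcf]
        apply iY.injective
        rw [hx]
        change U'.ι ((iY ∣_ U') u) = _
        rw [← Scheme.Hom.comp_apply, morphismRestrict_ι, Scheme.Hom.comp_apply]
    rw [h2]
    exact h1.preimage (iY ∣_ U').continuous
  haveI : LocallyOfFiniteType (c' ≫ U'.ι) := by rw [hc']; infer_instance
  haveI : LocallyOfFiniteType c' := locallyOfFiniteType_of_comp c' U'.ι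
  haveI : IsClosedImmersion (iY ∣_ U') := IsZariskiLocalAtTarget.restrict ‹_› U'
  haveI : Surjective (iY ∣_ U') := IsZariskiLocalAtTarget.restrict ‹_› U'
  haveI : IsClosedImmersion c' :=
    Groth.Agent.H22.ThickCI.isClosedImmersion_of_isPullback iX c c' (iY ∣_ U') sq3
  rw [← hc']
  infer_instance

theorem main {X X' Y Y' : Scheme.{u}} (iX : X ⟶ X') (iY : Y ⟶ Y') (f : X ⟶ Y) (f' : X' ⟶ Y')
    (hY : MoreMor.IsThickening iY) (hc : IsPullback iX f f' iY) [LocallyOfFiniteType f]
    [LocallyOfFiniteType f'] : IsImmersion f ↔ IsImmersion f' := by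
  haveI := hY.1
  haveI := hY.2
  constructor
  · intro h
    exact forward iX iY f f' hc
  · intro h
    exact MorphismProperty.of_isPullback (P := @IsImmersion) hc h

end Helpers

open AlgebraicGeometry CategoryTheory Limits in
/-- Let Y ⟶ Y' be a thickening, let X be the base change to Y of a scheme X' over Y', and assume both X
⟶ Y and X' ⟶ Y' are locally of finite type. Then X ⟶ Y is an immersion if and only if X' ⟶ Y' is. -/
theorem result {X X' Y Y' : Scheme.{u}} (iX : X ⟶ X') (iY : Y ⟶ Y') (f : X ⟶ Y) (f' : X' ⟶ Y')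
    (hY : MoreMor.IsThickening iY) (hc : IsPullback iX f f' iY) [LocallyOfFiniteType f] [LocallyOfFiniteType f'] :
    IsImmersion f ↔ IsImmersion f' := by
  exact main iX iY f f' hY hc

end Groth.Agent.S1316
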