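import Groth.Statements.S13160
import Mathlib

set_option autoImplicit false
universe u
open CAlg

namespace Groth.Agent.S13160

open MvPolynomial WittVector

section Poly
variable {σ : Type*}

/-- weight function of a set of variables -/
noncomputable def wf (L : σ → Prop) [DecidablePred L] : σ → ℕ := fun v => if L v then 1 else 0

/-- all monomials have weight at least `k` -/
def HasWt (w : σ → ℕ) (k : ℕ) (f : MvPolynomial σ ℤ) : Prop :=
  ∀ d ∈ f.support, k ≤ Finsupp.weight w d

lemma hasWt_mono {w : σ → ℕ} {k k' : ℕ} (h : k' ≤ k) {f : MvPolynomial σ ℤ} (hf : HasWt w k f) :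
    HasWt w k' f := fun d hd => h.trans (hf d hd)

lemma hasWt_zero (w : σ → ℕ) (f : MvPolynomial σ ℤ) : HasWt w 0 f := fun _ _ => Nat.zero_le _

lemma hasWt_add {w : σ → ℕ} {k : ℕ} {f g : MvPolynomial σ ℤ} (hf : HasWt w k f)
    (hg : HasWt w k g) : HasWt w k (f + g) := by
  classical
  intro d hd
  rcases Finset.mem_union.1 (support_add hd) with h | h
  · exact hf d h
  · exact hg d h

lemma hasWt_neg {w : σ → ℕ} {k : ℕ} {f : MvPolynomial σ ℤ} (hf : HasWt w k f) :
    HasWt w k (-f) := by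
  intro d hd
  rw [support_neg] at hd
  exact hf d hd

lemma hasWt_sub {w : σ → ℕ} {k : ℕ} {f g : MvPolynomial σ ℤ} (hf : HasWt w k f)
    (hg : HasWt w k g) : HasWt w k (f - g) := by
  rw [sub_eq_add_neg]; exact hasWt_add hf (hasWt_neg hg)

lemma hasWt_mul {w : σ → ℕ} {a b : ℕ} {f g : MvPolynomial σ ℤ} (hf : HasWt w a f)
    (hg : HasWt w b g) : HasWt w (a + b) (f * g) := by
  classical
  intro d hd
  have := support_mul f g hd
  rw [Finset.mem_add] at this
  obtain ⟨d1, h1, d2, h2, rfl⟩ := this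
  rw [map_add]
  exact add_le_add (hf d1 h1) (hg d2 h2)

lemma hasWt_C_mul {w : σ → ℕ} {k : ℕ} (c : ℤ) {f : MvPolynomial σ ℤ} (hf : HasWt w k f) :
    HasWt w k (C c * f) := by
  have := hasWt_mul (hasWt_zero w (C c)) hf
  rwa [zero_add] at this

lemma hasWt_pow {w : σ → ℕ} {f : MvPolynomial σ ℤ} (hf : HasWt w 1 f) (k : ℕ) :
    HasWt w k (f ^ k) := by
  induction k with
  | zero => exact hasWt_zero w _
  | succ k ih => rw [pow_succ]; exact hasWt_mul ih hf

lemma hasWt_sum {w : σ → ℕ} {k : ℕ} {ι : Type*} (s : Finset ι) (f : ι → MvPolynomial σ ℤ)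
    (hf : ∀ i ∈ s, HasWt w k (f i)) : HasWt w k (∑ i ∈ s, f i) := by
  classical
  induction s using Finset.induction_on with
  | empty => intro d hd; simp at hd
  | insert a s ha ih =>
    rw [Finset.sum_insert ha]
    exact hasWt_add (hf a (Finset.mem_insert_self a s))
      (ih (fun i hi => hf i (Finset.mem_insert_of_mem hi)))

lemma hasWt_X_pow {w : σ → ℕ} (v : σ) (hv : w v = 1) (k : ℕ) :
    HasWt w k ((X v : MvPolynomial σ ℤ) ^ k) := by
  intro d hd
  rw [X_pow_eq_monomial] at hd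
  have := support_monomial_subset hd
  rw [Finset.mem_singleton] at this
  rw [this, Finsupp.weight_single, hv, smul_eq_mul, mul_one]

lemma hasWt_of_C_mul {w : σ → ℕ} {k : ℕ} {c : ℤ} (hc : c ≠ 0) {f : MvPolynomial σ ℤ}
    (hf : HasWt w k (C c * f)) : HasWt w k f := by
  intro d hd
  apply hf d
  rw [mem_support_iff, coeff_C_mul]
  exact mul_ne_zero hc (mem_support_iff.1 hd)

end Poly

section Witt
variable (p : ℕ) [hp : Fact p.Prime]

lemma hasWt_wittAdd_one (n i : ℕ) (hi : i < n) :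
    HasWt (wf (fun v : Fin 2 × ℕ => v.2 < n)) 1 (wittAdd p i) := by
  intro d hd
  have hd0 : d ≠ 0 := by
    rintro rfl
    have := mem_support_iff.1 hd
    rw [← constantCoeff_eq, WittVector.constantCoeff_wittAdd] at this
    exact this rfl
  obtain ⟨v, hv⟩ : ∃ v, d v ≠ 0 := by
    by_contra h
    push_neg at h
    exact hd0 (Finsupp.ext h)
  have hv' : v ∈ d.support := Finsupp.mem_support_iff.2 hv
  have hvars : v ∈ (wittAdd p i).vars := (mem_vars_iff_mem_support v).2 ⟨d, hd, hv'⟩
  have h2 := WittVector.wittAdd_vars p i hvars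
  rw [Finset.mem_product, Finset.mem_range] at h2
  have hw : wf (fun v : Fin 2 × ℕ => v.2 < n) v = 1 := by
    rw [wf, if_pos]; omega
  rw [Finsupp.weight_apply, Finsupp.sum]
  calc 1 ≤ d v • wf (fun v : Fin 2 × ℕ => v.2 < n) v := by
        rw [hw, smul_eq_mul, mul_one]; exact Nat.one_le_iff_ne_zero.2 hv
    _ ≤ _ := Finset.single_le_sum (f := fun a => d a • wf (fun v : Fin 2 × ℕ => v.2 < n) a)
        (fun _ _ => Nat.zero_le _) hv'

lemma wittAdd_identity (n : ℕ) :
    ∑ i ∈ Finset.range (n + 1), C ((p : ℤ) ^ i) * wittAdd p i ^ p ^ (n - i) =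
      ∑ i ∈ Finset.range (n + 1), C ((p : ℤ) ^ i) * (X (0, i) : MvPolynomial (Fin 2 × ℕ) ℤ) ^ p ^ (n - i) +
      ∑ i ∈ Finset.range (n + 1), C ((p : ℤ) ^ i) * (X (1, i) : MvPolynomial (Fin 2 × ℕ) ℤ) ^ p ^ (n - i) := by
  have key := wittStructureInt_prop p (X 0 + X 1 : MvPolynomial (Fin 2) ℤ) n
  rw [wittPolynomial_eq_sum_C_mul_X_pow] at key
  simpa [wittAdd, map_sum, map_mul, map_pow, bind₁_X_right, rename_X, bind₁_C_right,
    rename_C, map_add] using key

lemma hasWt_wittAdd (n : ℕ) :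
    HasWt (wf (fun v : Fin 2 × ℕ => v.2 < n)) p (wittAdd p n - X (0, n) - X (1, n)) := by
  have hp0 : ((p : ℤ) ^ n) ≠ 0 := pow_ne_zero _ (by exact_mod_cast hp.1.ne_zero)
  apply hasWt_of_C_mul hp0
  have key := wittAdd_identity p n
  rw [Finset.sum_range_succ, Finset.sum_range_succ (fun i => C ((p : ℤ) ^ i) * (X (0, i) : MvPolynomial (Fin 2 × ℕ) ℤ) ^ p ^ (n - i)),
    Finset.sum_range_succ (fun i => C ((p : ℤ) ^ i) * (X (1, i) : MvPolynomial (Fin 2 × ℕ) ℤ) ^ p ^ (n - i)),
    Nat.sub_self, pow_zero, pow_one, pow_one, pow_one] at key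
  have h2 : C ((p : ℤ) ^ n) * (wittAdd p n - X (0, n) - X (1, n)) =
      ∑ i ∈ Finset.range n, (C ((p : ℤ) ^ i) * (X (0, i) : MvPolynomial (Fin 2 × ℕ) ℤ) ^ p ^ (n - i) +
        C ((p : ℤ) ^ i) * (X (1, i) : MvPolynomial (Fin 2 × ℕ) ℤ) ^ p ^ (n - i) -
        C ((p : ℤ) ^ i) * wittAdd p i ^ p ^ (n - i)) := by
    rw [Finset.sum_sub_distrib, Finset.sum_add_distrib]
    linear_combination key
  rw [h2]
  apply hasWt_sum
  intro i hi
  rw [Finset.mem_range] at hi
  have hpow : p ≤ p ^ (n - i) := by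
    calc p = p ^ 1 := (pow_one p).symm
      _ ≤ p ^ (n - i) := Nat.pow_le_pow_right hp.1.pos (by omega)
  apply hasWt_sub
  · apply hasWt_add
    · apply hasWt_C_mul
      exact hasWt_mono hpow (hasWt_X_pow _ (by rw [wf, if_pos]; exact hi) _)
    · apply hasWt_C_mul
      exact hasWt_mono hpow (hasWt_X_pow _ (by rw [wf, if_pos]; exact hi) _)
  · apply hasWt_C_mul
    exact hasWt_mono hpow (hasWt_pow (hasWt_wittAdd_one p n i hi) _)

end Witt


section Eval
variable {K : Type*} [CommRing K]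

lemma chain_dvd (hdvd : ∀ x y : K, x ∣ y ∨ y ∣ x) {ι : Type*} (z : ι → K) (k : ι → ℕ)
    (T : Finset ι) (hT : T.Nonempty) :
    ∃ i ∈ T, z i ^ (∑ j ∈ T, k j) ∣ ∏ j ∈ T, z j ^ k j := by
  induction hT using Finset.Nonempty.cons_induction with
  | singleton a => exact ⟨a, Finset.mem_singleton_self a, by simp⟩
  | cons a s ha hs ih =>
    obtain ⟨i, hi, hdiv⟩ := ih
    rw [Finset.sum_cons, Finset.prod_cons]
    rcases hdvd (z i) (z a) with h | h
    · refine ⟨i, Finset.mem_cons.2 (Or.inr hi), ?_⟩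
      rw [pow_add]; exact mul_dvd_mul (pow_dvd_pow_of_dvd h _) hdiv
    · refine ⟨a, Finset.mem_cons_self a s, ?_⟩
      rw [pow_add]; exact mul_dvd_mul dvd_rfl ((pow_dvd_pow_of_dvd h _).trans hdiv)

lemma prod_eq_zero_of_wt (hdvd : ∀ x y : K, x ∣ y ∨ y ∣ x) {σ : Type*} (L : σ → Prop)
    [DecidablePred L] (val : σ → K) (p : ℕ) (hp : 0 < p)
    (hval : ∀ v, L v → val v ^ p = 0) (d : σ →₀ ℕ) (hd : p ≤ Finsupp.weight (wf L) d) :
    ∏ v ∈ d.support, val v ^ d v = 0 := by
  classical
  have hsum : Finsupp.weight (wf L) d = ∑ v ∈ d.support.filter L, d v := by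
    rw [Finsupp.weight_apply, Finsupp.sum, Finset.sum_filter]
    apply Finset.sum_congr rfl
    intro v _
    rw [wf]; split_ifs <;> simp
  rw [hsum] at hd
  have hT : (d.support.filter L).Nonempty := by
    rw [Finset.nonempty_iff_ne_empty]
    intro h
    rw [h, Finset.sum_empty] at hd
    omega
  obtain ⟨i, hi, hdiv⟩ := chain_dvd hdvd val d (d.support.filter L) hT
  have hiL : L i := (Finset.mem_filter.1 hi).2
  have h0 : ∏ v ∈ d.support.filter L, val v ^ d v = 0 := by
    have h1 : val i ^ (∑ j ∈ d.support.filter L, d j) = 0 := by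
      obtain ⟨c, hc⟩ := Nat.exists_eq_add_of_le hd
      rw [hc, pow_add, hval i hiL, zero_mul]
    rw [h1] at hdiv
    exact zero_dvd_iff.1 hdiv
  rw [← Finset.prod_filter_mul_prod_filter_not d.support L, h0, zero_mul]

lemma aeval_eq_zero_of_hasWt (hdvd : ∀ x y : K, x ∣ y ∨ y ∣ x) {σ : Type*} (L : σ → Prop)
    [DecidablePred L] (val : σ → K) (p : ℕ) (hp : 0 < p)
    (hval : ∀ v, L v → val v ^ p = 0) (f : MvPolynomial σ ℤ) (hf : HasWt (wf L) p f) :
    aeval val f = 0 := by
  rw [aeval_def, eval₂_eq]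
  apply Finset.sum_eq_zero
  intro d hd
  rw [prod_eq_zero_of_wt hdvd L val p hp hval d (hf d hd), mul_zero]

end Eval

lemma dvd_total_quot (R : Type u) [CommRing R] [IsDomain R] [IsDiscreteValuationRing R] (lam : R)
    (x y : R ⧸ Ideal.span {lam}) : x ∣ y ∨ y ∣ x := by
  obtain ⟨x, rfl⟩ := Ideal.Quotient.mk_surjective x
  obtain ⟨y, rfl⟩ := Ideal.Quotient.mk_surjective y
  rcases ValuationRing.dvd_total x y with h | h
  · left; exact map_dvd _ h
  · right; exact map_dvd _ h

theorem result' (R : Type u) [CommRing R] [IsDomain R]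
    [IsDiscreteValuationRing R] (p : ℕ) [Fact p.Prime] (lam : R) (hlam : lam ∣ (p : R))
    (a b : WittVector p (R ⧸ Ideal.span {lam})) (ha : WittVector.frobenius a = 0)
    (hb : WittVector.frobenius b = 0) (n : ℕ) : (a + b).coeff n = a.coeff n + b.coeff n := by
  rcases subsingleton_or_nontrivial (R ⧸ Ideal.span {lam}) with hs | hnt
  · exact Subsingleton.elim _ _
  have hp0 : ((p : ℕ) : R ⧸ Ideal.span {lam}) = 0 := by
    obtain ⟨c, hc⟩ := hlam
    have : ((p : ℕ) : R ⧸ Ideal.span {lam}) = Ideal.Quotient.mk _ ((p : ℕ) : R) :=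
      (map_natCast _ p).symm
    rw [this, Ideal.Quotient.eq_zero_iff_mem, hc]
    exact Ideal.mul_mem_right _ _ (Ideal.subset_span rfl)
  haveI : CharP (R ⧸ Ideal.span {lam}) p := by
    have h := CharP.ringChar_of_prime_eq_zero (Fact.out : p.Prime) hp0
    have := ringChar.charP (R ⧸ Ideal.span {lam})
    rwa [h] at this
  have hval : ∀ v : Fin 2 × ℕ, (Function.uncurry ![a.coeff, b.coeff] v) ^ p = 0 := by
    rintro ⟨i, j⟩
    fin_cases i
    · show a.coeff j ^ p = 0
      rw [← WittVector.coeff_frobenius_charP, ha, WittVector.zero_coeff]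
    · show b.coeff j ^ p = 0
      rw [← WittVector.coeff_frobenius_charP, hb, WittVector.zero_coeff]
  rw [WittVector.add_coeff, WittVector.peval]
  have hdecomp : wittAdd p n = (wittAdd p n - X (0, n) - X (1, n)) + X (0, n) + X (1, n) := by ring
  rw [hdecomp, map_add, map_add, aeval_X, aeval_X,
    aeval_eq_zero_of_hasWt (dvd_total_quot R lam) (fun v : Fin 2 × ℕ => v.2 < n) _ p
      (Fact.out : p.Prime).pos (fun v _ => hval v) _ (hasWt_wittAdd p n), zero_add]
  rfl

/-- Let R be a discrete valuation ring, p a prime number and λ an element of R dividing p (so that R/λR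
is an 𝔽_p-algebra), and let a and b be p-typical Witt vectors with coefficients in R/λR which are
killed by the Frobenius endomorphism. Then the Witt sum a + b has components a_n + b_n for every n.
(The published statement allows an arbitrary λ ∈ R and is stated for Witt vectors with finitely many
nonzero components; this row assumes that λ divides p, so that p = 0 in R/λR, and allows all Witt
vectors.) -/
theorem result (R : Type u) [CommRing R] [IsDomain R]
    [IsDiscreteValuationRing R] (p : ℕ) [Fact p.Prime] (lam : R) (hlam : lam ∣ (p : R))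
    (a b : WittVector p (R ⧸ Ideal.span {lam})) (ha : WittVector.frobenius a = 0)
    (hb : WittVector.frobenius b = 0) (n : ℕ) : (a + b).coeff n = a.coeff n + b.coeff n := by
  exact result' R p lam hlam a b ha hb n

end Groth.Agent.S13160
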