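import Groth.Statements.S13161
import Mathlib

set_option autoImplicit false
universe u
open scoped TensorProduct
open CAlg

namespace Groth.Agent.S13161

section helpers

open TensorProduct

variable (R : Type u) [CommRing R] [IsDomain R] (K : Type u) [Field K] [Algebra R K] [IsFractionRing R K]
    (A : Type u) [CommRing A] [Algebra R A]

/-- the `A`-submodule `A ⊗ 1` of `A ⊗ K` -/
noncomputable def N : Submodule A (A ⊗[R] K) := Submodule.span A {(1 : A) ⊗ₜ[R] (1 : K)}

omit [IsDomain R] [IsFractionRing R K] in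
lemma mem_N (z : A ⊗[R] K) : z ∈ N R K A ↔ ∃ a : A, a ⊗ₜ[R] (1 : K) = z := by
  rw [N, Submodule.mem_span_singleton]
  constructor
  · rintro ⟨a, rfl⟩
    exact ⟨a, by rw [TensorProduct.smul_tmul', smul_eq_mul, mul_one]⟩
  · rintro ⟨a, rfl⟩
    exact ⟨a, by rw [TensorProduct.smul_tmul', smul_eq_mul, mul_one]⟩

omit [IsDomain R] [IsFractionRing R K] in
lemma smul_mem_N (d : R) (z : A ⊗[R] K) (hz : z ∈ N R K A) : d • z ∈ N R K A := by
  rw [← algebraMap_smul A d z]
  exact Submodule.smul_mem _ _ hz

lemma exists_smul_mem_N (z : A ⊗[R] K) : ∃ d : R, d ≠ 0 ∧ d • z ∈ N R K A := by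
  induction z using TensorProduct.induction_on with
  | zero => exact ⟨1, one_ne_zero, by simp⟩
  | tmul a k =>
    obtain ⟨r, s, hs, rfl⟩ := IsFractionRing.div_surjective (A := R) k
    refine ⟨s, nonZeroDivisors.ne_zero hs, ?_⟩
    rw [mem_N]
    refine ⟨r • a, ?_⟩
    rw [TensorProduct.smul_tmul', TensorProduct.smul_tmul, TensorProduct.smul_tmul]
    congr 1
    rw [Algebra.smul_def, Algebra.smul_def, mul_one]
    have : algebraMap R K s ≠ 0 := by
      intro h
      exact nonZeroDivisors.ne_zero hs ((IsFractionRing.injective R K) (by rw [h, map_zero]))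
    field_simp
  | add x y hx hy =>
    obtain ⟨d1, hd1, h1⟩ := hx
    obtain ⟨d2, hd2, h2⟩ := hy
    refine ⟨d1 * d2, mul_ne_zero hd1 hd2, ?_⟩
    rw [smul_add]
    refine Submodule.add_mem _ ?_ ?_
    · rw [mul_comm, mul_smul]
      exact smul_mem_N R K A _ _ h1
    · rw [mul_smul]
      exact smul_mem_N R K A _ _ h2


theorem main (B : Type u) [CommRing B] [Algebra R B] [Algebra A B] [IsScalarTower R A B]
    [Module.Finite A B]
    (hA : ∀ a : A, a ≠ 0 → ∃ f : A →ₗ[R] R, f a ≠ 0)
    (hBK : ∀ b : B, b ≠ 0 → ∃ g : B →ₗ[A] A ⊗[R] K, g b ≠ 0) :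
    ∀ b : B, b ≠ 0 → ∃ h : B →ₗ[R] R, h b ≠ 0 := by
  intro b hb
  obtain ⟨g, hg⟩ := hBK b hb
  -- common denominator
  obtain ⟨S, hS⟩ := (Module.finite_def.mp (inferInstance : Module.Finite A B))
  choose dS hdS0 hdS using fun s : B => exists_smul_mem_N R K A (g s)
  let d : R := ∏ s ∈ S, dS s
  have hd0 : d ≠ 0 := Finset.prod_ne_zero_iff.mpr fun s _ => hdS0 s
  have hdN : ∀ x : B, d • g x ∈ N R K A := by
    intro x
    have hx : x ∈ Submodule.span A (S : Set B) := by rw [hS]; trivial
    induction hx using Submodule.span_induction with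
    | mem s hs =>
      obtain ⟨c, hc⟩ : dS s ∣ d := Finset.dvd_prod_of_mem _ hs
      rw [hc, mul_comm, mul_smul]
      exact smul_mem_N R K A _ _ (hdS s)
    | zero => simp
    | add x y _ _ hx hy => rw [map_add, smul_add]; exact Submodule.add_mem _ hx hy
    | smul a x _ hx => rw [map_smul, smul_comm]; exact Submodule.smul_mem _ _ hx
  -- `d • g b ≠ 0`
  have hdK : algebraMap R K d ≠ 0 := by
    intro h
    exact hd0 ((IsFractionRing.injective R K) (by rw [h, map_zero]))
  have hdg : d • g b ≠ 0 := by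
    intro h0
    apply hg
    have h1 : ((1 : A) ⊗ₜ[R] (algebraMap R K d)⁻¹) * (d • g b) = g b := by
      rw [Algebra.smul_def, ← mul_assoc, Algebra.TensorProduct.algebraMap_apply,
        Algebra.TensorProduct.tmul_mul_tmul, one_mul, mul_one, Algebra.algebraMap_eq_smul_one,
        TensorProduct.smul_tmul, Algebra.smul_def, mul_inv_cancel₀ hdK]
      exact one_mul _
    rw [← h1, h0, mul_zero]
  obtain ⟨a, ha⟩ := (mem_N R K A _).mp (hdN b)
  have ha0 : a ≠ 0 := by
    rintro rfl
    rw [TensorProduct.zero_tmul] at ha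
    exact hdg ha.symm
  obtain ⟨f, hf⟩ := hA a ha0
  let Tm : A ⊗[R] K →ₗ[R] K := TensorProduct.lift ((LinearMap.lsmul R K).comp f)
  have hTm : ∀ a' : A, Tm (a' ⊗ₜ[R] (1 : K)) = algebraMap R K (f a') := by
    intro a'
    simp [Tm, Algebra.algebraMap_eq_smul_one]
  let G : B →ₗ[R] K := Tm ∘ₗ (d • (g.restrictScalars R))
  have hG : ∀ x : B, G x ∈ LinearMap.range (Algebra.linearMap R K) := by
    intro x
    obtain ⟨a', ha'⟩ := (mem_N R K A _).mp (hdN x)
    refine ⟨f a', ?_⟩
    show algebraMap R K (f a') = Tm (d • g x)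
    rw [← ha', hTm]
  have hinj : Function.Injective (Algebra.linearMap R K) := IsFractionRing.injective R K
  let h : B →ₗ[R] R := (LinearEquiv.ofInjective (Algebra.linearMap R K) hinj).symm.toLinearMap ∘ₗ
    G.codRestrict _ hG
  refine ⟨h, ?_⟩
  intro h0
  have h1 : G.codRestrict _ hG b = 0 := by
    have := (LinearEquiv.ofInjective (Algebra.linearMap R K) hinj).symm.injective
      (a₁ := G.codRestrict _ hG b) (a₂ := 0) (by rw [map_zero]; exact h0)
    exact this
  have h2 : G b = 0 := congrArg Subtype.val h1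
  have h3 : G b = algebraMap R K (f a) := by
    show Tm (d • g b) = _
    rw [← ha, hTm]
  rw [h3] at h2
  exact hf (hinj (by rw [Algebra.linearMap_apply, h2, map_zero]))


end helpers

/-- Let R be a discrete valuation ring with fraction field K, A an R-algebra which is semireflexive as
an R-module (the map to its double dual is injective: every nonzero a ∈ A has an R-linear form f : A
→ R with f(a) ≠ 0), and B an A-algebra which is finitely generated as an A-module and flat over R.
Suppose B ⊗ K is semireflexive as a module over A ⊗ K, which for such B amounts to: every nonzero b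
∈ B has an A-linear map g : B → A ⊗_R K with g(b) ≠ 0. Then B is semireflexive as an R-module: every
nonzero b ∈ B has an R-linear form h : B → R with h(b) ≠ 0. (The published statement phrases the
hypothesis on B_K as an A_K-module; for B flat over R and finite over A this is the elementwise
condition used here.) -/
theorem result (R : Type u) [CommRing R] [IsDomain R]
    [IsDiscreteValuationRing R] (K : Type u) [Field K] [Algebra R K] [IsFractionRing R K]
    (A B : Type u) [CommRing A] [CommRing B] [Algebra R A] [Algebra R B] [Algebra A B] [IsScalarTower R A B]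
    [Module.Finite A B] [Module.Flat R B]
    (hA : ∀ a : A, a ≠ 0 → ∃ f : A →ₗ[R] R, f a ≠ 0)
    (hBK : ∀ b : B, b ≠ 0 → ∃ g : B →ₗ[A] A ⊗[R] K, g b ≠ 0) :
    ∀ b : B, b ≠ 0 → ∃ h : B →ₗ[R] R, h b ≠ 0 := by
  exact main R K A B hA hBK

end Groth.Agent.S13161
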