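import Groth.Statements.S13162
import Mathlib

set_option autoImplicit false
universe u v
open ZeroCyc

namespace Groth.Agent.S13162

theorem choose_pow_mul_modEq (p : ℕ) [Fact p.Prime] (k m : ℕ) :
    Nat.choose (p ^ k * m) (p ^ k) ≡ m [MOD p] := by
  induction k with
  | zero => simp [Nat.ModEq.refl]
  | succ k ih =>
    have h1 : Nat.choose (p * (p ^ k * m)) (p * p ^ k) ≡ Nat.choose (p ^ k * m) (p ^ k) [MOD p] :=
      Choose.choose_mul_mul_modEq_choose_nat
    have h2 : p ^ (k + 1) * m = p * (p ^ k * m) := by ring
    have h3 : p ^ (k + 1) = p * p ^ k := by ring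
    rw [h2, h3]
    exact h1.trans ih

theorem not_dvd_choose (p : ℕ) [Fact p.Prime] (n : ℕ) (hn : n ≠ 0) :
    ¬ p ∣ Nat.choose n (p ^ n.factorization p) := by
  have hp : p.Prime := Fact.out
  have h1 : p ^ n.factorization p * (n / p ^ n.factorization p) = n :=
    Nat.ordProj_mul_ordCompl_eq_self n p
  have h2 : ¬ p ∣ n / p ^ n.factorization p := Nat.not_dvd_ordCompl hp hn
  have h3 := choose_pow_mul_modEq p (n.factorization p) (n / p ^ n.factorization p)
  rw [h1] at h3
  intro hdvd
  apply h2
  rw [Nat.dvd_iff_mod_eq_zero] at hdvd ⊢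
  rw [← h3, hdvd]

/-- Let a finite group G act on a commutative ring A by ring automorphisms and let p be a prime such
that every integer prime to p is a unit in A. If I is an ideal of A and f ∈ A has G-invariant class
modulo I, then f^(p^k) is congruent modulo I to a G-invariant element of A, where p^k is the exact
power of p dividing the order of G. (The published statement assumes I stable under G, so that G
acts on A/I and the claim reads: the p^k-th power of an invariant of A/I lies in the image of the
invariants of A; the form here asks only that the class of f be invariant.) -/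
theorem result {A : Type u} [CommRing A] {G : Type v} [Group G] [Fintype G]
    [MulSemiringAction G A] (p : ℕ) [Fact p.Prime]
    (hA : ∀ m : ℕ, ¬ p ∣ m → IsUnit (m : A))
    (I : Ideal A) (f : A) (hf : ∀ g : G, g • f - f ∈ I) :
    ∃ a : A, (∀ g : G, g • a = a) ∧ a - f ^ (p ^ (Fintype.card G).factorization p) ∈ I := by
  classical
  set N := p ^ (Fintype.card G).factorization p with hN
  set c := Nat.choose (Fintype.card G) N with hc
  have hcu : IsUnit (c : A) := hA c (not_dvd_choose p (Fintype.card G) Fintype.card_ne_zero)
  obtain ⟨v, hv⟩ := isUnit_iff_exists_inv'.mp hcu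
  let s : A := MvPolynomial.aeval (fun g : G => g • f) (MvPolynomial.esymm G ℤ N)
  have hs_inv : ∀ h : G, h • s = s := by
    intro h
    have h1 : h • s = MvPolynomial.aeval (fun g : G => h • g • f) (MvPolynomial.esymm G ℤ N) := by
      have := MvPolynomial.comp_aeval (R := ℤ) (fun g : G => g • f)
        ((MulSemiringAction.toRingHom G A h).toIntAlgHom)
      have h2 := AlgHom.congr_fun this (MvPolynomial.esymm G ℤ N)
      exact h2
    rw [h1]
    have h2 : (fun g : G => h • g • f) = (fun g : G => g • f) ∘ (Equiv.mulLeft h) := by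
      funext g
      simp [mul_smul]
    rw [h2, ← MvPolynomial.aeval_rename, MvPolynomial.rename_esymm]
  have hcg : ∀ h : G, h • (c : A) = c := fun h => by
    rw [← MulSemiringAction.toRingHom_apply G A h, map_natCast]
  have hv_inv : ∀ h : G, h • v = v := by
    intro h
    calc h • v = (h • v) * ((c : A) * v) := by rw [mul_comm (c : A), hv, mul_one]
      _ = ((h • v) * (h • (c : A))) * v := by rw [hcg h, mul_assoc]
      _ = (h • (v * c)) * v := by rw [smul_mul']
      _ = v := by rw [hv, smul_one, one_mul]
  refine ⟨v * s, fun g => by rw [smul_mul', hv_inv, hs_inv], ?_⟩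
  rw [← Ideal.Quotient.eq, map_mul]
  have hs_mk : Ideal.Quotient.mk I s = (c : A ⧸ I) * Ideal.Quotient.mk I f ^ N := by
    have := MvPolynomial.comp_aeval (R := ℤ) (fun g : G => g • f)
      ((Ideal.Quotient.mk I).toIntAlgHom)
    have h2 := AlgHom.congr_fun this (MvPolynomial.esymm G ℤ N)
    have h3 : Ideal.Quotient.mk I s = MvPolynomial.aeval
        (fun g : G => (Ideal.Quotient.mk I).toIntAlgHom (g • f)) (MvPolynomial.esymm G ℤ N) := h2
    rw [h3]
    have h4 : (fun g : G => (Ideal.Quotient.mk I).toIntAlgHom (g • f)) =
        fun _ : G => Ideal.Quotient.mk I f := by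
      funext g
      exact (Ideal.Quotient.eq.mpr (hf g))
    rw [h4, MvPolynomial.esymm, map_sum]
    simp only [map_prod, MvPolynomial.aeval_X, Finset.prod_const]
    rw [Finset.sum_congr rfl (fun t ht => by rw [(Finset.mem_powersetCard.mp ht).2])]
    rw [Finset.sum_const, Finset.card_powersetCard, Finset.card_univ, nsmul_eq_mul]
  rw [hs_mk, ← mul_assoc, ← map_natCast (Ideal.Quotient.mk I), ← map_mul, hv, map_one, one_mul,
    map_pow]

end Groth.Agent.S13162
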