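import Groth.Statements.S13163
-- import your own Groth.Agent.* helpers here

set_option autoImplicit false
universe u
open ZeroCyc

namespace Groth.Agent.S13163

open Polynomial in
/-- Let P_d(T) = ∏_{0 ≤ i < j ≤ d} (T^i − T^j) − 1 ∈ ℤ[T]. Every residue field of ℤ[T]/(P_d), i.e. every
field receiving a ring homomorphism from it, has at least d + 1 elements. -/
theorem result (d : ℕ) (k : Type u) [Field k]
    (φ : (ℤ[X] ⧸ Ideal.span {(∏ j ∈ Finset.range (d + 1), ∏ i ∈ Finset.range j,
        ((X : ℤ[X]) ^ i - X ^ j)) - 1}) →+* k) :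
    ((d + 1 : ℕ) : Cardinal) ≤ Cardinal.mk k := by
  classical
  set P : ℤ[X] := (∏ j ∈ Finset.range (d + 1), ∏ i ∈ Finset.range j,
        ((X : ℤ[X]) ^ i - X ^ j)) - 1 with hP
  set ψ : ℤ[X] →+* k := φ.comp (Ideal.Quotient.mk (Ideal.span {P})) with hψ
  set t : k := ψ X with ht
  have h0 : ψ P = 0 := by
    have : Ideal.Quotient.mk (Ideal.span {P}) P = 0 :=
      Ideal.Quotient.eq_zero_iff_mem.mpr (Ideal.subset_span (Set.mem_singleton _))
    simp [hψ, this]
  have h1 : ∏ j ∈ Finset.range (d + 1), ∏ i ∈ Finset.range j, (t ^ i - t ^ j) = 1 := by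
    have : ψ P = (∏ j ∈ Finset.range (d + 1), ∏ i ∈ Finset.range j, (t ^ i - t ^ j)) - 1 := by
      simp [hP, ht, map_prod]
    rw [this] at h0
    exact sub_eq_zero.mp h0
  have hne : ∀ j, j < d + 1 → ∀ i, i < j → t ^ i ≠ t ^ j := by
    intro j hj i hi h
    have : ∏ j ∈ Finset.range (d + 1), ∏ i ∈ Finset.range j, (t ^ i - t ^ j) = 0 := by
      apply Finset.prod_eq_zero (Finset.mem_range.mpr hj)
      apply Finset.prod_eq_zero (Finset.mem_range.mpr hi)
      exact sub_eq_zero.mpr h
    rw [this] at h1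
    exact zero_ne_one h1
  have hinj : Function.Injective (fun i : ULift.{u} (Fin (d + 1)) => t ^ (i.down : ℕ)) := by
    intro a b hab
    simp only at hab
    by_contra hne'
    have hne'' : (a.down : ℕ) ≠ (b.down : ℕ) := by
      intro h
      apply hne'
      exact ULift.ext _ _ (Fin.ext h)
    rcases lt_or_gt_of_ne hne'' with h | h
    · exact hne _ b.down.isLt _ h hab
    · exact hne _ a.down.isLt _ h hab.symm
  have := Cardinal.mk_le_of_injective hinj
  simpa using this

end Groth.Agent.S13163
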