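import Groth.Statements.S13166
import Mathlib
import Groth.Agent.Lib.helper5.Avoid

set_option autoImplicit false
universe u
open ZeroCyc

namespace Groth.Agent.S13166

/-- Let k be a field, B a k-algebra generated as an algebra by a k-subspace V, k'/k a field extension
and x_1, …, x_d pairwise distinct k'-points of B ⊗_k k' (equivalently, distinct k-algebra
homomorphisms B → k'). If k has at least d(d − 1)/2 elements, then there is b ∈ V whose values at
x_1, …, x_d are pairwise distinct. -/
theorem result {k : Type u} [Field k] {B : Type u} [CommRing B] [Algebra k B] (V : Submodule k B)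
    (hV : Algebra.adjoin k (V : Set B) = ⊤) {k' : Type u} [Field k'] [Algebra k k']
    {d : ℕ} (x : Fin d → (B →ₐ[k] k')) (hx : Function.Injective x)
    (hk : ((d.choose 2 : ℕ) : Cardinal) ≤ Cardinal.mk k) :
    ∃ b ∈ V, Function.Injective fun i => x i b := by
  classical
  -- the subspace of `V` where `x i` and `x j` agree
  let W : Fin d → Fin d → Submodule k V := fun i j =>
    LinearMap.ker (((x i).toLinearMap - (x j).toLinearMap) ∘ₗ V.subtype)
  have hWmem : ∀ i j (b : V), b ∈ W i j ↔ x i (b : B) = x j (b : B) := by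
    intro i j b
    simp only [W, LinearMap.mem_ker, LinearMap.comp_apply, LinearMap.sub_apply,
      Submodule.subtype_apply, AlgHom.toLinearMap_apply, sub_eq_zero]
  have hWtop : ∀ i j, i ≠ j → W i j ≠ ⊤ := by
    intro i j hij htop
    refine hij (hx ?_)
    refine AlgHom.ext_of_adjoin_eq_top hV ?_
    intro b hb
    have : (⟨b, hb⟩ : V) ∈ W i j := by rw [htop]; trivial
    exact (hWmem i j ⟨b, hb⟩).mp this
  let p : Sym2 (Fin d) → Submodule k V := fun z =>
    ⨅ (i : Fin d) (j : Fin d) (_ : z = s(i, j)), W i j
  let S : Finset (Sym2 (Fin d)) := Finset.univ.filter fun z => ¬ z.IsDiag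
  have hScard : S.card = d.choose 2 := by
    have := Sym2.card_subtype_not_diag (α := Fin d)
    rw [Fintype.card_subtype, Fintype.card_fin] at this
    exact this
  have hp : ∀ z ∈ S, p z ≠ ⊤ := by
    intro z hz
    have hz' : ¬ z.IsDiag := (Finset.mem_filter.mp hz).2
    induction z using Sym2.ind with
    | _ i j =>
      have hij : i ≠ j := fun h => hz' (by rw [h]; exact Sym2.mk_isDiag_iff.mpr rfl)
      intro htop
      refine hWtop i j hij (eq_top_iff.mpr ?_)
      rw [← htop]
      exact iInf_le_of_le i (iInf_le_of_le j (iInf_le _ rfl))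
  obtain ⟨b, hb⟩ := Groth.Agent.H5.Avoid.exists_forall_notMem_of_card_le S p hp
    (by rw [hScard]; exact hk)
  refine ⟨(b : B), b.2, ?_⟩
  intro i j hij
  by_contra hne
  have hz : s(i, j) ∈ S := by
    refine Finset.mem_filter.mpr ⟨Finset.mem_univ _, ?_⟩
    rw [Sym2.mk_isDiag_iff]; exact hne
  refine hb _ hz ?_
  simp only [p, Submodule.mem_iInf]
  intro i' j' h
  rw [hWmem]
  rcases Sym2.eq_iff.mp h with ⟨rfl, rfl⟩ | ⟨rfl, rfl⟩
  · exact hij
  · exact hij.symm

end Groth.Agent.S13166
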