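import Groth.Statements.S13167
import Mathlib
import Groth.Agent.Lib.helper5.Avoid

set_option autoImplicit false
universe u
open AlgebraicGeometry
open ZeroCyc

namespace Groth.Agent.S13167

/-- Let B be a graded R-algebra generated by its degree-one part B_1, with B_1 a finitely generated
R-module, and let x_1, …, x_d be points of X = Proj B lying over one and the same prime p of R. If
the residue field of p has at least d elements, then some f ∈ B_1 ⊆ Γ(X, O_X(1)) has all the x_i in
D_+(f). (Without the hypothesis on the residue field such an f exists in some B_n with n ≥ 1; that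
first assertion is a known property of ample sheaves and is not restated here.) -/
theorem result {R A : Type u} [CommRing R] [CommRing A] [Algebra R A] (𝒜 : ℕ → Submodule R A) [GradedAlgebra 𝒜]
    (hgen : Algebra.adjoin R (𝒜 1 : Set A) = ⊤) (hfg : (𝒜 1).FG)
    (p : Ideal R) [p.IsPrime] {d : ℕ} (x : Fin d → Proj 𝒜)
    (hx : ∀ i, ((x i).asHomogeneousIdeal.toIdeal).comap (algebraMap R A) = p)
    (hcard : (d : Cardinal) ≤ Cardinal.mk p.ResidueField) :
    ∃ g ∈ 𝒜 1, ∀ i, x i ∈ Proj.basicOpen 𝒜 g := by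
  classical
  -- `D₊(g)`, `g ∈ B₁`, cover `Proj B`
  have hadj : Algebra.adjoin (𝒜 0) (Set.range (fun g : 𝒜 1 => (g : A))) = ⊤ := by
    rw [eq_top_iff]
    intro y hytop
    clear hytop
    have hy : y ∈ Algebra.adjoin R (𝒜 1 : Set A) := by rw [hgen]; trivial
    induction hy using Algebra.adjoin_induction with
    | mem y hy => exact Algebra.subset_adjoin ⟨⟨y, hy⟩, rfl⟩
    | algebraMap r =>
      exact Subalgebra.algebraMap_mem _
        (⟨algebraMap R A r, SetLike.algebraMap_mem_graded 𝒜 r⟩ : 𝒜 0)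
    | add y z _ _ hy hz => exact add_mem hy hz
    | mul y z _ _ hy hz => exact mul_mem hy hz
  have hcover := Proj.iSup_basicOpen_eq_top' 𝒜 (fun g : 𝒜 1 => (g : A)) (fun g => ⟨1, g.2⟩) hadj
  let q : Fin d → Submodule R (𝒜 1) := fun i =>
    Submodule.comap (𝒜 1).subtype ((x i).asHomogeneousIdeal.toIdeal.restrictScalars R)
  have hqmem : ∀ i (g : 𝒜 1), g ∈ q i ↔ (g : A) ∈ (x i).asHomogeneousIdeal := fun i g => Iff.rfl
  have h₁ : ∀ i ∈ (Finset.univ : Finset (Fin d)), q i ≠ ⊤ := by
    intro i _ htop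
    have hxi : x i ∈ (⨆ g : 𝒜 1, Proj.basicOpen 𝒜 (g : A)) := by rw [hcover]; trivial
    obtain ⟨g, hg⟩ := TopologicalSpace.Opens.mem_iSup.mp hxi
    rw [Proj.mem_basicOpen] at hg
    refine hg ((hqmem i g).mp ?_)
    rw [htop]; trivial
  have hprime : ∀ i ∈ (Finset.univ : Finset (Fin d)), ∀ (r : R) (m : 𝒜 1),
      r • m ∈ q i → r ∈ p ∨ m ∈ q i := by
    intro i _ r m hrm
    rw [hqmem] at hrm
    have hrm' : algebraMap R A r * (m : A) ∈ (x i).asHomogeneousIdeal.toIdeal := by
      rw [← Algebra.smul_def]; exact hrm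
    rcases (x i).isPrime.mem_or_mem hrm' with h | h
    · left
      rw [← hx i]; exact h
    · right; exact h
  obtain ⟨g, hg⟩ := Groth.Agent.H5.Avoid.exists_forall_notMem_of_card_le_residueField p
    Finset.univ q h₁ hprime (by rw [Finset.card_univ, Fintype.card_fin]; exact hcard)
  refine ⟨(g : A), g.2, fun i => ?_⟩
  rw [Proj.mem_basicOpen]
  exact fun h => hg i (Finset.mem_univ i) ((hqmem i g).mpr h)

end Groth.Agent.S13167
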