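import Groth.Statements.S13168
import Mathlib
import Groth.Agent.Lib.helper5.GradedGen

set_option autoImplicit false
universe u
open AlgebraicGeometry
open ZeroCyc

namespace Groth.Agent.S13168

/-- Let B be a graded R-algebra generated by homogeneous elements f_1, …, f_s of positive degrees d_1,
…, d_s, let l be the least common multiple of the d_i and X = Proj B. For n = a l with a ≥ 1, X is
the union of the opens D_+(g), g ∈ B_n. -/
theorem result {R A : Type u} [CommRing R] [CommRing A] [Algebra R A] (𝒜 : ℕ → Submodule R A) [GradedAlgebra 𝒜]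
    {s : ℕ} (f : Fin s → A) (deg : Fin s → ℕ) (hdeg : ∀ i, 0 < deg i) (hf : ∀ i, f i ∈ 𝒜 (deg i))
    (hgen : Algebra.adjoin R (Set.range f) = ⊤) (a : ℕ) (ha : 0 < a) :
    (⨆ g : 𝒜 (a * Finset.univ.lcm deg), Proj.basicOpen 𝒜 (g : A)) = ⊤ := by
  classical
  set l := Finset.univ.lcm deg with hl
  have hlpos : 0 < l := Groth.Agent.H5.GradedGen.lcm_pos deg hdeg
  refine top_le_iff.mp fun x _ => TopologicalSpace.Opens.mem_iSup.mpr ?_
  -- some generator is not in `x`
  obtain ⟨i, hi⟩ : ∃ i, f i ∉ x.asHomogeneousIdeal := by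
    by_contra H
    push Not at H
    refine x.not_irrelevant_le ?_
    intro y hy
    have hy0 : GradedRing.proj 𝒜 0 y = 0 := (HomogeneousIdeal.mem_irrelevant_iff _ _).mp hy
    change y ∈ x.asHomogeneousIdeal.toIdeal
    rw [← DirectSum.sum_support_decompose 𝒜 y]
    refine Ideal.sum_mem _ fun m _ => ?_
    rcases Nat.eq_zero_or_pos m with hm | hm
    · subst hm
      rw [GradedRing.proj_apply] at hy0
      rw [hy0]; exact Ideal.zero_mem _
    · have h1 : ((DirectSum.decompose 𝒜 y m : 𝒜 m) : A) ∈ 𝒜 m := Subtype.mem _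
      have h2 := Groth.Agent.H5.GradedGen.mem_span_monomials 𝒜 f deg hf hgen m h1
      have h3 : Submodule.span R
          {z | ∃ a : Fin s → ℕ, ∑ i, a i * deg i = m ∧ z = ∏ i, f i ^ a i} ≤
          x.asHomogeneousIdeal.toIdeal.restrictScalars R := by
        rw [Submodule.span_le]
        rintro _ ⟨a, ha, rfl⟩
        obtain ⟨i, hi⟩ : ∃ i, a i ≠ 0 := by
          by_contra hcon
          push Not at hcon
          have : ∑ i, a i * deg i = 0 := Finset.sum_eq_zero fun i _ => by rw [hcon i, zero_mul]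
          omega
        change (∏ i, f i ^ a i) ∈ x.asHomogeneousIdeal.toIdeal
        refine Ideal.mem_of_dvd _
          (Finset.dvd_prod_of_mem (fun i => f i ^ a i) (Finset.mem_univ i)) ?_
        exact Ideal.pow_mem_of_mem _ (H i) _ (Nat.pos_of_ne_zero hi)
      exact h3 h2
  obtain ⟨q, hq⟩ : deg i ∣ l := Finset.dvd_lcm (Finset.mem_univ i)
  have hqpos : 0 < q := by
    rcases Nat.eq_zero_or_pos q with h | h
    · rw [h, mul_zero] at hq; omega
    · exact h
  have hmem : f i ^ (a * q) ∈ 𝒜 (a * l) := by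
    have := SetLike.pow_mem_graded (a * q) (hf i)
    rw [smul_eq_mul] at this
    have e : a * q * deg i = a * l := by rw [hq]; ring
    rwa [e] at this
  refine ⟨⟨f i ^ (a * q), hmem⟩, ?_⟩
  change x ∈ Proj.basicOpen 𝒜 (f i ^ (a * q))
  rw [Proj.basicOpen_pow 𝒜 _ _ (Nat.mul_pos ha hqpos), Proj.mem_basicOpen]
  exact hi

end Groth.Agent.S13168
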