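import Groth.Statements.S13174
import Mathlib

set_option autoImplicit false
universe u v w
open scoped TensorProduct
open ZeroCyc

namespace Groth.Agent.S13174

section Helpers

open LinearMap TensorProduct MvPolynomial

section
variable {A : Type u} [CommRing A] {M : Type v} [AddCommGroup M] [Module A M]
  {N : Type w} [AddCommGroup N] [Module A N]

theorem rTensor_smul' {R R' : Type*} [CommSemiring R] [Algebra A R] [CommSemiring R'] [Algebra A R']
    (φ : R →ₐ[A] R') (z : R) (x : R ⊗[A] M) :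
    φ.toLinearMap.rTensor M (z • x) = φ z • φ.toLinearMap.rTensor M x := by
  induction x using TensorProduct.induction_on with
  | zero => simp
  | tmul g m =>
    simp only [TensorProduct.smul_tmul', rTensor_tmul, AlgHom.toLinearMap_apply, smul_eq_mul,
      map_mul]
  | add x y hx hy => simp only [smul_add, map_add, hx, hy]

variable (T : ∀ n : ℕ, MvPolynomial (Fin n) A ⊗[A] M → MvPolynomial (Fin n) A ⊗[A] N)
  (hT : ∀ (n m : ℕ) (φ : MvPolynomial (Fin n) A →ₐ[A] MvPolynomial (Fin m) A),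
    φ.toLinearMap.rTensor N ∘ T n = T m ∘ φ.toLinearMap.rTensor M)

include hT in
theorem compat_apply {n m : ℕ} (φ : MvPolynomial (Fin n) A →ₐ[A] MvPolynomial (Fin m) A)
    (p : MvPolynomial (Fin n) A ⊗[A] M) :
    φ.toLinearMap.rTensor N (T n p) = T m (φ.toLinearMap.rTensor M p) :=
  congrFun (hT n m φ) p

include hT in
/-- Roby's trick. -/
theorem roby {S : Type*} [CommSemiring S] [Algebra A S] {k : ℕ}
    (Ψ : MvPolynomial (Fin k) A →ₐ[A] S) (f : MvPolynomial (Fin k) A) (hf : Ψ f = 0)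
    (u P' : MvPolynomial (Fin k) A ⊗[A] M) :
    Ψ.toLinearMap.rTensor N (T k (P' + f • u)) = Ψ.toLinearMap.rTensor N (T k P') := by
  let ι : MvPolynomial (Fin k) A →ₐ[A] MvPolynomial (Fin (k + 1)) A := rename (Fin.castAdd 1)
  let α : MvPolynomial (Fin (k + 1)) A →ₐ[A] MvPolynomial (Fin k) A :=
    aeval (Fin.addCases X (fun _ => f))
  let β : MvPolynomial (Fin (k + 1)) A →ₐ[A] MvPolynomial (Fin k) A :=
    aeval (Fin.addCases X (fun _ => 0))
  let Z : MvPolynomial (Fin (k + 1)) A := X (Fin.natAdd k 0)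
  have hαι : α.comp ι = AlgHom.id A _ := by
    apply MvPolynomial.algHom_ext
    intro i
    simp [α, ι]
  have hβι : β.comp ι = AlgHom.id A _ := by
    apply MvPolynomial.algHom_ext
    intro i
    simp [β, ι]
  have hαZ : α Z = f := by simp [α, Z]
  have hβZ : β Z = 0 := by simp [β, Z]
  have hΨ : Ψ.comp α = Ψ.comp β := by
    apply MvPolynomial.algHom_ext
    intro i
    refine Fin.addCases (fun i => ?_) (fun j => ?_) i
    · simp [α, β]
    · simp [α, β, hf]
  let r0 : MvPolynomial (Fin (k + 1)) A ⊗[A] M :=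
    ι.toLinearMap.rTensor M P' + Z • ι.toLinearMap.rTensor M u
  have hcomp : ∀ (γ : MvPolynomial (Fin (k + 1)) A →ₐ[A] MvPolynomial (Fin k) A),
      γ.comp ι = AlgHom.id A _ → ∀ x, γ.toLinearMap.rTensor M (ι.toLinearMap.rTensor M x) = x := by
    intro γ hγ x
    rw [← LinearMap.comp_apply, ← rTensor_comp, ← AlgHom.comp_toLinearMap, hγ]
    simp
  have hα0 : α.toLinearMap.rTensor M r0 = P' + f • u := by
    simp only [r0, map_add, rTensor_smul', hcomp α hαι, hαZ]
  have hβ0 : β.toLinearMap.rTensor M r0 = P' := by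
    simp only [r0, map_add, rTensor_smul', hcomp β hβι, hβZ, zero_smul, add_zero]
  rw [← hα0, ← compat_apply T hT α r0, ← LinearMap.comp_apply, ← rTensor_comp,
    ← AlgHom.comp_toLinearMap, hΨ, AlgHom.comp_toLinearMap, rTensor_comp, LinearMap.comp_apply,
    compat_apply T hT β r0, hβ0]

end


section
variable {A : Type u} [CommRing A] {M : Type v} [AddCommGroup M] [Module A M]
  {N : Type w} [AddCommGroup N] [Module A N]
variable (T : ∀ n : ℕ, MvPolynomial (Fin n) A ⊗[A] M → MvPolynomial (Fin n) A ⊗[A] N)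
  (hT : ∀ (n m : ℕ) (φ : MvPolynomial (Fin n) A →ₐ[A] MvPolynomial (Fin m) A),
    φ.toLinearMap.rTensor N ∘ T n = T m ∘ φ.toLinearMap.rTensor M)

include hT in
theorem ker_step {S : Type*} [CommSemiring S] [Algebra A S] {k : ℕ}
    (Ψ : MvPolynomial (Fin k) A →ₐ[A] S)
    (d : (LinearMap.ker Ψ.toLinearMap) ⊗[A] M) :
    ∀ P' : MvPolynomial (Fin k) A ⊗[A] M,
    Ψ.toLinearMap.rTensor N (T k (P' + (LinearMap.ker Ψ.toLinearMap).subtype.rTensor M d)) =
      Ψ.toLinearMap.rTensor N (T k P') := by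
  induction d using TensorProduct.induction_on with
  | zero => intro P'; simp
  | tmul f m =>
    intro P'
    have hf : Ψ f.1 = 0 := f.2
    have : (LinearMap.ker Ψ.toLinearMap).subtype.rTensor M (f ⊗ₜ[A] m) =
        f.1 • ((1 : MvPolynomial (Fin k) A) ⊗ₜ[A] m) := by
      simp [TensorProduct.smul_tmul']
    rw [this]
    exact roby T hT Ψ f.1 hf _ P'
  | add x y hx hy =>
    intro P'
    rw [map_add, ← add_assoc, hy, hx]

include hT in
/-- surjective case, target a ring -/
theorem wd_quot {k : ℕ} (J : Ideal (MvPolynomial (Fin k) A))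
    (P P' : MvPolynomial (Fin k) A ⊗[A] M)
    (h : (Ideal.Quotient.mkₐ A J).toLinearMap.rTensor M P =
      (Ideal.Quotient.mkₐ A J).toLinearMap.rTensor M P')
    {S : Type*} [CommSemiring S] [Algebra A S]
    (Ψ : MvPolynomial (Fin k) A →ₐ[A] S) (hJ : ∀ f ∈ J, Ψ f = 0) :
    Ψ.toLinearMap.rTensor N (T k P) = Ψ.toLinearMap.rTensor N (T k P') := by
  set g := (Ideal.Quotient.mkₐ A J).toLinearMap with hg
  have hex : Function.Exact (LinearMap.ker g).subtype g := LinearMap.exact_subtype_ker_map g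
  have hsurj : Function.Surjective g := Ideal.Quotient.mkₐ_surjective A J
  have hex' := rTensor_exact M hex hsurj
  have hD : g.rTensor M (P - P') = 0 := by rw [map_sub, h, sub_self]
  obtain ⟨d, hd⟩ := (hex' (P - P')).1 hD
  -- transport d to ker Ψ
  have hle : LinearMap.ker g ≤ LinearMap.ker Ψ.toLinearMap := by
    intro f hf
    have : f ∈ J := by
      have h1 : (Ideal.Quotient.mkₐ A J) f = 0 := hf
      rwa [Ideal.Quotient.mkₐ_eq_mk, Ideal.Quotient.eq_zero_iff_mem] at h1
    exact hJ f this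
  let incl := Submodule.inclusion hle
  have hd' : (LinearMap.ker Ψ.toLinearMap).subtype.rTensor M (incl.rTensor M d) = P - P' := by
    rw [← LinearMap.comp_apply, ← rTensor_comp]
    have : (LinearMap.ker Ψ.toLinearMap).subtype ∘ₗ incl = (LinearMap.ker g).subtype := by
      ext x; rfl
    rw [this, hd]
  have := ker_step T hT Ψ (incl.rTensor M d) P'
  rw [hd'] at this
  rw [← this]
  congr 2
  abel

end

section
variable {A : Type u} [CommRing A] {M : Type v} [AddCommGroup M] [Module A M]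
  {N : Type w} [AddCommGroup N] [Module A N]
variable (T : ∀ n : ℕ, MvPolynomial (Fin n) A ⊗[A] M → MvPolynomial (Fin n) A ⊗[A] N)
  (hT : ∀ (n m : ℕ) (φ : MvPolynomial (Fin n) A →ₐ[A] MvPolynomial (Fin m) A),
    φ.toLinearMap.rTensor N ∘ T n = T m ∘ φ.toLinearMap.rTensor M)

theorem rTensor_algHom_comp {R₁ R₂ R₃ : Type*} [CommSemiring R₁] [Algebra A R₁] [CommSemiring R₂]
    [Algebra A R₂] [CommSemiring R₃] [Algebra A R₃] (g : R₂ →ₐ[A] R₃) (f : R₁ →ₐ[A] R₂)
    (L : Type*) [AddCommMonoid L] [Module A L] (x : R₁ ⊗[A] L) :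
    (g.comp f).toLinearMap.rTensor L x = g.toLinearMap.rTensor L (f.toLinearMap.rTensor L x) := by
  rw [AlgHom.comp_toLinearMap, rTensor_comp, LinearMap.comp_apply]

include hT in
/-- well-definedness for a single polynomial ring and arbitrary target -/
theorem wd_single {S : Type*} [CommSemiring S] [Algebra A S] {k : ℕ}
    (Ψ : MvPolynomial (Fin k) A →ₐ[A] S) (P P' : MvPolynomial (Fin k) A ⊗[A] M)
    (h : Ψ.toLinearMap.rTensor M P = Ψ.toLinearMap.rTensor M P') :
    Ψ.toLinearMap.rTensor N (T k P) = Ψ.toLinearMap.rTensor N (T k P') := by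
  classical
  have hA₀ : Subalgebra.FG (R := A) Ψ.range := by
    rw [← Algebra.map_top]
    exact Subalgebra.FG.map _ Algebra.FiniteType.out
  have hval : Ψ.range.val.comp Ψ.rangeRestrict = Ψ := AlgHom.val_comp_rangeRestrict Ψ
  have h0 : Ψ.range.val.toLinearMap.rTensor M (Ψ.rangeRestrict.toLinearMap.rTensor M P) =
      Ψ.range.val.toLinearMap.rTensor M (Ψ.rangeRestrict.toLinearMap.rTensor M P') := by
    rw [← rTensor_algHom_comp, ← rTensor_algHom_comp, hval, h]
  obtain ⟨B, hAB, hB, hBeq⟩ := TensorProduct.Algebra.eq_of_fg_of_subtype_eq hA₀ h0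
  obtain ⟨s, hs⟩ := PolynomialLaw.exists_range_φ_eq_of_fg hB
  set l := s.card with hl
  let ι₁ : MvPolynomial (Fin k) A →ₐ[A] MvPolynomial (Fin (k + l)) A := rename (Fin.castAdd l)
  let ι₂ : MvPolynomial (Fin l) A →ₐ[A] MvPolynomial (Fin (k + l)) A := rename (Fin.natAdd k)
  let Φ : MvPolynomial (Fin (k + l)) A →ₐ[A] S :=
    aeval (Fin.addCases (fun i => Ψ (X i)) (fun j => PolynomialLaw.φ A s (X j)))
  have hΦ₁ : Φ.comp ι₁ = Ψ := by
    apply MvPolynomial.algHom_ext
    intro i
    simp [Φ, ι₁]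
  have hΦ₂ : Φ.comp ι₂ = PolynomialLaw.φ A s := by
    apply MvPolynomial.algHom_ext
    intro i
    simp [Φ, ι₂]
  have hBΦ : B ≤ Φ.range := by
    rw [← hs, ← hΦ₂]
    rintro _ ⟨x, rfl⟩
    exact ⟨ι₂ x, rfl⟩
  let J : Ideal (MvPolynomial (Fin (k + l)) A) := RingHom.ker Φ
  let e : (MvPolynomial (Fin (k + l)) A ⧸ J) ≃ₐ[A] Φ.range := Ideal.quotientKerEquivRange Φ
  let θ : B →ₐ[A] (MvPolynomial (Fin (k + l)) A ⧸ J) :=
    (e.symm : Φ.range →ₐ[A] _).comp (Subalgebra.inclusion hBΦ)
  let ΨB : MvPolynomial (Fin k) A →ₐ[A] B := (Subalgebra.inclusion hAB).comp Ψ.rangeRestrict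
  have hθ : θ.comp ΨB = (Ideal.Quotient.mkₐ A J).comp ι₁ := by
    apply MvPolynomial.algHom_ext
    intro i
    simp only [AlgHom.comp_apply, θ, ΨB, AlgEquiv.coe_algHom]
    rw [AlgEquiv.symm_apply_eq]
    apply Subtype.ext
    have h1 : ((e ((Ideal.Quotient.mkₐ A J) (ι₁ (X i)))) : S) = Φ (ι₁ (X i)) := by
      simp only [e, Ideal.Quotient.mkₐ_eq_mk]
      rfl
    rw [h1]
    change Ψ (X i) = Φ (ι₁ (X i))
    rw [← hΦ₁]
    rfl
  have hkey : (Ideal.Quotient.mkₐ A J).toLinearMap.rTensor M (ι₁.toLinearMap.rTensor M P) =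
      (Ideal.Quotient.mkₐ A J).toLinearMap.rTensor M (ι₁.toLinearMap.rTensor M P') := by
    have hΨB : ΨB.toLinearMap.rTensor M P = ΨB.toLinearMap.rTensor M P' := by
      simp only [ΨB, rTensor_algHom_comp]
      exact hBeq
    have e1 : ∀ x, (Ideal.Quotient.mkₐ A J).toLinearMap.rTensor M (ι₁.toLinearMap.rTensor M x) =
        θ.toLinearMap.rTensor M (ΨB.toLinearMap.rTensor M x) := by
      intro x
      rw [← rTensor_algHom_comp, ← rTensor_algHom_comp, hθ]
    rw [e1, e1, hΨB]
  have := wd_quot T hT J _ _ hkey Φ (fun f hf => hf)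
  rw [← compat_apply T hT ι₁ P, ← compat_apply T hT ι₁ P', ← rTensor_algHom_comp,
    ← rTensor_algHom_comp, hΦ₁] at this
  exact this

include hT in
/-- well-definedness: two polynomial rings -/
theorem wd {S : Type*} [CommSemiring S] [Algebra A S] {n m : ℕ}
    (ψ : MvPolynomial (Fin n) A →ₐ[A] S) (ψ' : MvPolynomial (Fin m) A →ₐ[A] S)
    (p : MvPolynomial (Fin n) A ⊗[A] M) (p' : MvPolynomial (Fin m) A ⊗[A] M)
    (h : ψ.toLinearMap.rTensor M p = ψ'.toLinearMap.rTensor M p') :
    ψ.toLinearMap.rTensor N (T n p) = ψ'.toLinearMap.rTensor N (T m p') := by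
  let ι₁ : MvPolynomial (Fin n) A →ₐ[A] MvPolynomial (Fin (n + m)) A := rename (Fin.castAdd m)
  let ι₂ : MvPolynomial (Fin m) A →ₐ[A] MvPolynomial (Fin (n + m)) A := rename (Fin.natAdd n)
  let Ψ : MvPolynomial (Fin (n + m)) A →ₐ[A] S :=
    aeval (Fin.addCases (fun i => ψ (X i)) (fun j => ψ' (X j)))
  have hΨ₁ : Ψ.comp ι₁ = ψ := by
    apply MvPolynomial.algHom_ext
    intro i
    simp [Ψ, ι₁]
  have hΨ₂ : Ψ.comp ι₂ = ψ' := by
    apply MvPolynomial.algHom_ext
    intro i
    simp [Ψ, ι₂]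
  have h' : Ψ.toLinearMap.rTensor M (ι₁.toLinearMap.rTensor M p) =
      Ψ.toLinearMap.rTensor M (ι₂.toLinearMap.rTensor M p') := by
    rw [← rTensor_algHom_comp, ← rTensor_algHom_comp, hΨ₁, hΨ₂, h]
  have := wd_single T hT Ψ _ _ h'
  rw [← compat_apply T hT ι₁ p, ← compat_apply T hT ι₂ p', ← rTensor_algHom_comp,
    ← rTensor_algHom_comp, hΨ₁, hΨ₂] at this
  exact this

end

section
variable {A : Type u} [CommRing A] {M : Type v} [AddCommGroup M] [Module A M]
  {N : Type w} [AddCommGroup N] [Module A N]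
variable (T : ∀ n : ℕ, MvPolynomial (Fin n) A ⊗[A] M → MvPolynomial (Fin n) A ⊗[A] N)
  (hT : ∀ (n m : ℕ) (φ : MvPolynomial (Fin n) A →ₐ[A] MvPolynomial (Fin m) A),
    φ.toLinearMap.rTensor N ∘ T n = T m ∘ φ.toLinearMap.rTensor M)

noncomputable def toFunAux (S : Type u) [CommSemiring S] [Algebra A S] : S ⊗[A] M → S ⊗[A] N :=
  Function.extend (PolynomialLaw.π A M S)
    (fun sp => (PolynomialLaw.φ A sp.1).toLinearMap.rTensor N (T sp.1.card sp.2)) (fun _ => 0)

include hT in
theorem toFunAux_apply (S : Type u) [CommSemiring S] [Algebra A S] {n : ℕ}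
    (ψ : MvPolynomial (Fin n) A →ₐ[A] S) (p : MvPolynomial (Fin n) A ⊗[A] M) :
    toFunAux T S (ψ.toLinearMap.rTensor M p) = ψ.toLinearMap.rTensor N (T n p) := by
  obtain ⟨⟨s, q⟩, hq⟩ := PolynomialLaw.π_surjective (R := A) (ψ.toLinearMap.rTensor M p)
  have hfac : Function.FactorsThrough
      (fun sp : PolynomialLaw.lifts A M S =>
        (PolynomialLaw.φ A sp.1).toLinearMap.rTensor N (T sp.1.card sp.2))
      (PolynomialLaw.π A M S) := by
    rintro ⟨s₁, p₁⟩ ⟨s₂, p₂⟩ h
    exact wd T hT _ _ p₁ p₂ h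
  rw [← hq, toFunAux, hfac.extend_apply]
  exact wd T hT _ _ q p hq

include hT in
noncomputable def lawOf : M →ₚₗ[A] N where
  toFun' S _ _ := toFunAux T S
  isCompat' := by
    intro S _ _ S' _ _ φ
    funext z
    obtain ⟨n, ψ, p, rfl⟩ := PolynomialLaw.exists_lift (R := A) z
    simp only [Function.comp_apply]
    rw [toFunAux_apply T hT S ψ p, ← rTensor_algHom_comp, ← rTensor_algHom_comp,
      toFunAux_apply T hT S' (φ.comp ψ) p]

theorem main : Function.Bijective (fun F : M →ₚₗ[A] N =>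
      (⟨fun n => F.toFun' (MvPolynomial (Fin n) A), fun n m φ => F.isCompat' φ⟩ :
        {T : ∀ n : ℕ, MvPolynomial (Fin n) A ⊗[A] M → MvPolynomial (Fin n) A ⊗[A] N //
          ∀ (n m : ℕ) (φ : MvPolynomial (Fin n) A →ₐ[A] MvPolynomial (Fin m) A),
            φ.toLinearMap.rTensor N ∘ T n = T m ∘ φ.toLinearMap.rTensor M})) := by
  constructor
  · intro F G hFG
    have h : ∀ n, F.toFun' (MvPolynomial (Fin n) A) = G.toFun' (MvPolynomial (Fin n) A) :=
      fun n => congrFun (congrArg Subtype.val hFG) n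
    apply PolynomialLaw.ext
    funext S _ _
    funext z
    obtain ⟨n, ψ, p, rfl⟩ := PolynomialLaw.exists_lift (R := A) z
    rw [← PolynomialLaw.isCompat_apply', ← PolynomialLaw.isCompat_apply', h n]
  · rintro ⟨T, hT⟩
    refine ⟨lawOf T hT, ?_⟩
    apply Subtype.ext
    funext n z
    change toFunAux T (MvPolynomial (Fin n) A) z = T n z
    have := toFunAux_apply T hT (MvPolynomial (Fin n) A) (AlgHom.id A _) z
    simpa using this

end

end Helpers

/-- Let M and N be A-modules. Polynomial laws M → N correspond one-to-one, by restriction, to families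
of maps T_n : M[t_1, …, t_n] → N[t_1, …, t_n], n ≥ 0, compatible with all A-algebra homomorphisms
A[t_1, …, t_n] → A[t_1, …, t_m]: in the definition of a polynomial law the category of A-algebras
may be replaced by the polynomial rings in finitely many variables. (Here a polynomial law is given
on all commutative A-algebra semirings of the universe of A.) -/
theorem result {A : Type u} [CommRing A] {M : Type v} [AddCommGroup M] [Module A M] {N : Type w} [AddCommGroup N] [Module A N] :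
    Function.Bijective (fun F : M →ₚₗ[A] N =>
      (⟨fun n => F.toFun' (MvPolynomial (Fin n) A), fun n m φ => F.isCompat' φ⟩ :
        {T : ∀ n : ℕ, MvPolynomial (Fin n) A ⊗[A] M → MvPolynomial (Fin n) A ⊗[A] N //
          ∀ (n m : ℕ) (φ : MvPolynomial (Fin n) A →ₐ[A] MvPolynomial (Fin m) A),
            φ.toLinearMap.rTensor N ∘ T n = T m ∘ φ.toLinearMap.rTensor M})) := by
  exact main

end Groth.Agent.S13174
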