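import Groth.Statements.S8257
import Mathlib
import Groth.Agent.Lib.helper22.ThickAffine

set_option autoImplicit false
universe u
open CategoryTheory CategoryTheory.Limits AlgebraicGeometry Opposite TopologicalSpace
open EGA2

namespace Groth.Agent.S8257

section Helpers

open CategoryTheory CategoryTheory.Limits AlgebraicGeometry

open Groth.Agent.H22.ThickAffine in
/-- A surjective closed immersion into a Noetherian scheme has nilpotent kernel. -/
theorem exists_ker_pow_eq_bot {Z₀ Z : Scheme.{u}} [IsLocallyNoetherian Z] [CompactSpace Z]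
    (i : Z₀ ⟶ Z) [IsClosedImmersion i] [Surjective i] : ∃ n : ℕ, i.ker ^ n = ⊥ := by
  have hnil : ∀ V : Z.affineOpens, ∃ n : ℕ, (i.ker.ideal V) ^ n = ⊥ := by
    intro V
    haveI : IsNoetherianRing Γ(Z, V) := IsLocallyNoetherian.component_noetherian V
    have hle : i.ker.ideal V ≤ nilradical Γ(Z, V) := by
      intro a ha
      rw [Scheme.Hom.ker_apply, RingHom.mem_ker] at ha
      rw [mem_nilradical, Scheme.isNilpotent_iff_basicOpen_eq_bot_of_isCompact V.2.isCompact]
      apply preimage_injective i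
      rw [Scheme.preimage_basicOpen]
      have ha' : i.app V.1 a = 0 := ha
      rw [ha', Scheme.basicOpen_zero]
      rfl
    obtain ⟨n, hn⟩ := IsNoetherianRing.isNilpotent_nilradical Γ(Z, V)
    refine ⟨n, le_bot_iff.mp ?_⟩
    calc (i.ker.ideal V) ^ n ≤ (nilradical Γ(Z, V)) ^ n := Ideal.pow_right_mono hle n
      _ = ⊥ := hn
  choose N hN using hnil
  obtain ⟨s, hs, e⟩ := isCompact_iff_finite_and_eq_biUnion_affineOpens.mp
    (show IsCompact ((⊤ : Z.Opens) : Set Z) from isCompact_univ)
  refine ⟨hs.toFinset.sup N, le_bot_iff.mp ?_⟩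
  refine Scheme.IdealSheafData.le_of_iSup_eq_top (fun V : s => V.1) ?_ ?_
  · rw [e, iSup_subtype]
  · intro V
    rw [Scheme.IdealSheafData.ideal_pow, Pi.pow_apply, Scheme.IdealSheafData.ideal_bot,
      Pi.bot_apply, ← hN V.1]
    exact Ideal.pow_le_pow_right (Finset.le_sup (f := N) (hs.mem_toFinset.mpr V.2))

open Groth.Agent.H22.ThickAffine in
theorem main {X X₀ Y : Scheme.{u}}
    [IsLocallyNoetherian Y] (f : X ⟶ Y) [LocallyOfFiniteType f] [QuasiCompact f]
    (j : X₀ ⟶ X) [IsClosedImmersion j] [Surjective j] [IsAffineHom (j ≫ f)] :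
    IsAffineHom f := by
  refine ⟨fun U hU => ?_⟩
  haveI : IsLocallyNoetherian X := LocallyOfFiniteType.isLocallyNoetherian f
  set W : X.Opens := f ⁻¹ᵁ U with hW
  haveI : IsLocallyNoetherian (W : Scheme.{u}) := LocallyOfFiniteType.isLocallyNoetherian W.ι
  haveI : CompactSpace (W : Scheme.{u}) :=
    isCompact_iff_compactSpace.mp (QuasiCompact.isCompact_preimage (f := f) _ U.2 hU.isCompact)
  haveI : IsClosedImmersion (j ∣_ W) := IsZariskiLocalAtTarget.restrict ‹_› W
  haveI : Surjective (j ∣_ W) := IsZariskiLocalAtTarget.restrict ‹_› W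
  haveI : IsAffine ((j ⁻¹ᵁ W : X₀.Opens) : Scheme.{u}) := by
    have h1 : j ⁻¹ᵁ W = (j ≫ f) ⁻¹ᵁ U := by rw [hW, ← Scheme.Hom.comp_preimage]
    have h2 : IsAffineOpen ((j ≫ f) ⁻¹ᵁ U) := hU.preimage (j ≫ f)
    rw [← h1] at h2
    exact h2
  obtain ⟨n, hn⟩ := exists_ker_pow_eq_bot (j ∣_ W)
  exact isAffine_of_idealSheaf_pow_eq_bot (j ∣_ W) n hn

end Helpers

/-- Let Y be a locally Noetherian scheme and f : X → Y a morphism of finite type; let j : X₀ → X be a
surjective closed immersion with X₀ reduced (the reduced subscheme underlying X). If X₀ → X → Y is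
affine, then f is affine. (So f is affine if and only if f_red is.) -/
theorem result {X X₀ Y : Scheme.{u}}
    [IsLocallyNoetherian Y] (f : X ⟶ Y) [LocallyOfFiniteType f] [QuasiCompact f]
    (j : X₀ ⟶ X) [IsClosedImmersion j] [Surjective j] [IsReduced X₀] [IsAffineHom (j ≫ f)] :
    IsAffineHom f := by
  exact main f j

end Groth.Agent.S8257
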