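import Groth.Statements.S5346
import Mathlib
import Groth.Agent.Lib.helper22.ThickBC
import Groth.Agent.Lib.helper22.NilFT
import Groth.Agent.Lib.helper22.ThickCI
import Groth.Agent.S8257
import Groth.Agent.S1316

set_option autoImplicit false
universe u
open CategoryTheory CategoryTheory.Limits MonoidalCategory CartesianMonoidalCategory MonObj GrpObj AlgebraicGeometry
open SGA3

namespace Groth.Agent.S5346

section Helpers

open CategoryTheory CategoryTheory.Limits AlgebraicGeometry MorphismProperty

/-- `f` is locally of finite type if its base change along a nilpotent closed immersion is. -/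
theorem lft_of_isPullback_of_ker_pow {X₀ X Y Y₀ : Scheme.{u}} (i' : X₀ ⟶ X) (s' : X₀ ⟶ Y₀)
    (f : X ⟶ Y) (i : Y₀ ⟶ Y) (hc : IsPullback i' s' f i)
    [IsClosedImmersion i] (n : ℕ) (hn : i.ker ^ n = ⊥) [LocallyOfFiniteType s'] :
    LocallyOfFiniteType f := by
  refine ⟨fun {U} hU {V} hV e => ?_⟩
  haveI : IsClosedImmersion i' :=
    MorphismProperty.of_isPullback (P := @IsClosedImmersion) hc.flip inferInstance
  haveI : LocallyOfFiniteType (i' ≫ f) := by
    rw [hc.w]; infer_instance
  have hW : IsAffineOpen (i' ⁻¹ᵁ V) := hV.preimage i'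
  have hWU : i' ⁻¹ᵁ V ≤ (i' ≫ f) ⁻¹ᵁ U := fun y hy => e hy
  have h1 := (i' ≫ f).finiteType_appLE hU hW hWU
  have hcomp : (i' ≫ f).appLE U (i' ⁻¹ᵁ V) hWU = f.appLE U V e ≫ i'.app V := by
    rw [Scheme.Hom.app_eq_appLE, Scheme.Hom.appLE_comp_appLE]
  have hsurj : Function.Surjective (i'.app V).hom := i'.app_surjective V hV
  set I : Ideal Γ(Y, U) := i.ker.ideal ⟨U, hU⟩ with hI
  have hIn : I ^ n = ⊥ := by
    have := congrArg (fun J : Y.IdealSheafData => J.ideal ⟨U, hU⟩) hn
    simpa [Scheme.IdealSheafData.ideal_pow, hI] using this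
  letI algRS : Algebra Γ(Y, U) Γ(X, V) := (f.appLE U V e).hom.toAlgebra
  set K' : Ideal Γ(X, V) := RingHom.ker (i'.app V).hom with hK'
  have hK'J : K' ≤ I.map (algebraMap Γ(Y, U) Γ(X, V)) := by
    have := Groth.Agent.H22.ThickBC.ker_ideal_le_map_of_isPullback i' s' f i hc V hV U hU e
    rwa [Scheme.Hom.ker_apply] at this
  let ε : (Γ(X, V) ⧸ K') ≃+* Γ(X₀, i' ⁻¹ᵁ V) :=
    RingHom.quotientKerEquivOfSurjective hsurj
  have hQ : (algebraMap Γ(Y, U) (Γ(X, V) ⧸ I.map (algebraMap Γ(Y, U) Γ(X, V)))).FiniteType := by
    have h2 : algebraMap Γ(Y, U) (Γ(X, V) ⧸ I.map (algebraMap Γ(Y, U) Γ(X, V))) =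
        (Ideal.Quotient.factor hK'J).comp ((ε.symm : _ →+* (Γ(X, V) ⧸ K')).comp
          ((i' ≫ f).appLE U (i' ⁻¹ᵁ V) hWU).hom) := by
      ext a
      rw [RingHom.comp_apply, RingHom.comp_apply, hcomp]
      have : (ε.symm : _ →+* (Γ(X, V) ⧸ K')) ((f.appLE U V e ≫ i'.app V).hom a) =
          Ideal.Quotient.mk K' ((f.appLE U V e).hom a) := by
        change ε.symm ((i'.app V).hom ((f.appLE U V e).hom a)) = _
        rw [RingEquiv.symm_apply_eq]
        rfl
      rw [this, Ideal.Quotient.factor_mk]
      rfl
    rw [h2]
    exact RingHom.FiniteType.comp (RingHom.FiniteType.of_surjective _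
      (Ideal.Quotient.factor_surjective hK'J))
      (RingHom.FiniteType.comp (RingHom.FiniteType.of_surjective _ ε.symm.surjective) h1)
  rw [RingHom.finiteType_algebraMap] at hQ
  haveI := hQ
  rw [RingHom.FiniteType]
  exact Groth.Agent.H22.NilFT.finiteType_of_quotient_map I n hIn

section Artin

variable (A : Type u) [CommRing A] [IsArtinianRing A] [IsLocalRing A]

/-- the closed point of `Spec A`. -/
noncomputable abbrev cp : Spec (CommRingCat.of (IsLocalRing.ResidueField A)) ⟶
    (Spec (CommRingCat.of A)) := Spec.map (CommRingCat.ofHom (IsLocalRing.residue A))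

instance : IsClosedImmersion (cp A) :=
  IsClosedImmersion.spec_of_surjective _ IsLocalRing.residue_surjective

instance : Surjective (cp A) := by
  constructor
  intro y
  haveI : Subsingleton (Spec (CommRingCat.of A)) :=
    inferInstanceAs (Subsingleton (PrimeSpectrum A))
  haveI : Nonempty (Spec (CommRingCat.of (IsLocalRing.ResidueField A))) :=
    inferInstanceAs (Nonempty (PrimeSpectrum (IsLocalRing.ResidueField A)))
  obtain ⟨x⟩ := ‹Nonempty (Spec (CommRingCat.of (IsLocalRing.ResidueField A)))›
  exact ⟨x, Subsingleton.elim _ _⟩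

lemma exists_pow : ∃ n : ℕ, (cp A).ker ^ n = ⊥ := by
  haveI : IsLocallyNoetherian (Spec (CommRingCat.of A)) := inferInstance
  exact Groth.Agent.S8257.exists_ker_pow_eq_bot (cp A)

end Artin

theorem main (A : Type u) [CommRing A] [IsArtinianRing A] [IsLocalRing A]
    (X Y : Over (Spec (CommRingCat.of A))) (u : X ⟶ Y) :
    letI i : Spec (CommRingCat.of (IsLocalRing.ResidueField A)) ⟶ (Spec (CommRingCat.of A)) :=
      Spec.map (CommRingCat.ofHom (IsLocalRing.residue A))
    (LocallyOfFiniteType (pullback.snd X.hom i) → LocallyOfFiniteType X.hom) ∧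
    (LocallyOfFiniteType (pullback.snd X.hom i) → QuasiCompact (pullback.snd X.hom i) →
      QuasiCompact X.hom) ∧
    (IsImmersion ((Over.pullback i).map u).left → IsImmersion u.left) ∧
    (IsClosedImmersion ((Over.pullback i).map u).left → IsClosedImmersion u.left) := by
  set i : Spec (CommRingCat.of (IsLocalRing.ResidueField A)) ⟶ (Spec (CommRingCat.of A)) :=
      Spec.map (CommRingCat.ofHom (IsLocalRing.residue A)) with hi0
  obtain ⟨n, hn⟩ := exists_pow A
  have hi : i = cp A := rfl
  haveI : IsClosedImmersion i := by rw [hi]; infer_instance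
  haveI : Surjective i := by rw [hi]; infer_instance
  -- the left pullback square
  have hsq : IsPullback (pullback.fst X.hom i) ((Over.pullback i).map u).left u.left
      (pullback.fst Y.hom i) := by
    have t : IsPullback (pullback.snd Y.hom i) (pullback.fst Y.hom i) i Y.hom :=
      (IsPullback.of_hasPullback Y.hom i).flip
    have s : IsPullback (((Over.pullback i).map u).left ≫ pullback.snd Y.hom i)
        (pullback.fst X.hom i) i (u.left ≫ Y.hom) := by
      have e1 : ((Over.pullback i).map u).left ≫ pullback.snd Y.hom i = pullback.snd X.hom i := by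
        simp only [CategoryTheory.Over.pullback_map_left]
        exact pullback.lift_snd _ _ _
      rw [e1, Over.w u]
      exact (IsPullback.of_hasPullback X.hom i).flip
    refine (IsPullback.of_right s ?_ t).flip
    simp only [CategoryTheory.Over.pullback_map_left]
    exact pullback.lift_fst _ _ _
  haveI : IsClosedImmersion (pullback.fst Y.hom i) := inferInstance
  haveI : Surjective (pullback.fst Y.hom i) := inferInstance
  have hnY : (pullback.fst Y.hom i).ker ^ n = ⊥ :=
    Groth.Agent.H22.ThickBC.ker_pow_eq_bot_of_isPullback _ _ _ _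
      (IsPullback.of_hasPullback Y.hom i) n hn
  refine ⟨fun h => ?_, fun h1 h2 => ?_, fun h => ?_, fun h => ?_⟩
  · exact lft_of_isPullback_of_ker_pow _ _ _ _ (IsPullback.of_hasPullback X.hom i) n hn
  · -- quasi-compactness
    haveI : CompactSpace ↑(pullback X.hom i) :=
      QuasiCompact.compactSpace_of_compactSpace (pullback.snd X.hom i)
    haveI : Surjective (pullback.fst X.hom i) := inferInstance
    haveI : CompactSpace X.left := by
      constructor
      rw [← Set.range_eq_univ.mpr (pullback.fst X.hom i).surjective]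
      exact isCompact_range (pullback.fst X.hom i).continuous
    exact (HasAffineProperty.iff_of_isAffine (P := @QuasiCompact)).mpr ‹_›
  · haveI : LocallyOfFiniteType u.left :=
      lft_of_isPullback_of_ker_pow _ _ _ _ hsq n hnY
    exact Groth.Agent.S1316.forward _ _ _ _ hsq
  · haveI : LocallyOfFiniteType u.left :=
      lft_of_isPullback_of_ker_pow _ _ _ _ hsq n hnY
    exact Groth.Agent.H22.ThickCI.isClosedImmersion_of_isPullback _ _ _ _ hsq

end Helpers

/-- Let A be a local artinian ring with residue field k and i : Spec k → Spec A the closed point. (i) If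
X is an A-scheme whose base change X ⊗_A k is locally of finite type (resp. of finite type) over k,
then X is locally of finite type (resp. of finite type) over A. (ii) If u : X → Y is a morphism of
A-schemes whose base change u ⊗_A k is an immersion (resp. a closed immersion), then u is an
immersion (resp. a closed immersion). -/
theorem result (A : Type u) [CommRing A] [IsArtinianRing A] [IsLocalRing A] (X Y : Over (Spec (CommRingCat.of A))) (u : X ⟶ Y) :
    letI i : Spec (CommRingCat.of (IsLocalRing.ResidueField A)) ⟶ (Spec (CommRingCat.of A)) := Spec.map (CommRingCat.ofHom (IsLocalRing.residue A))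
    (LocallyOfFiniteType (pullback.snd X.hom i) → LocallyOfFiniteType X.hom) ∧
    (LocallyOfFiniteType (pullback.snd X.hom i) → QuasiCompact (pullback.snd X.hom i) → QuasiCompact X.hom) ∧
    (IsImmersion ((Over.pullback i).map u).left → IsImmersion u.left) ∧
    (IsClosedImmersion ((Over.pullback i).map u).left → IsClosedImmersion u.left) := by
  exact main A X Y u

end Groth.Agent.S5346
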