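import Groth.Statements.S1318
import Mathlib
import Groth.Agent.Lib.helper22.Deform
import Groth.Agent.Lib.helper22.ThickCI
import Groth.Agent.S5346
import Groth.Agent.S1317

set_option autoImplicit false
universe u
open FlatMor

namespace Groth.Agent.S1318

section Helpers

open CategoryTheory CategoryTheory.Limits AlgebraicGeometry

theorem main {X X' Y Y' S S' : Scheme.{u}} (iX : X ⟶ X') (iY : Y ⟶ Y') (iS : S ⟶ S')
    (f : X ⟶ Y) (f' : X' ⟶ Y') (g : Y ⟶ S) (g' : Y' ⟶ S')
    (hS : MoreMor.IsFiniteOrderThickening iS) (hcX : IsPullback iX (f ≫ g) (f' ≫ g') iS)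
    (hcY : IsPullback iY g g' iS)
    (w : iX ≫ f' = f ≫ iY) [Flat (f' ≫ g')] :
    IsIso f ↔ IsIso f' := by
  have hsq := Groth.Agent.H22.Deform.isPullback_left iX iY iS f f' g g' hcX hcY w
  constructor
  · intro hf
    have hY := Groth.Agent.H22.ThickBC.finiteOrder_of_isPullback iY g g' iS hcY hS
    have hX := Groth.Agent.H22.ThickBC.finiteOrder_of_isPullback iX (f ≫ g) (f' ≫ g') iS hcX hS
    haveI : IsClosedImmersion iY := hY.1.1
    haveI : Surjective iY := hY.1.2
    haveI : IsClosedImmersion iX := hX.1.1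
    haveI : Surjective iX := hX.1.2
    obtain ⟨n, hn⟩ := hY.2
    haveI : LocallyOfFiniteType f' :=
      Groth.Agent.S5346.lft_of_isPullback_of_ker_pow iX f f' iY hsq n hn
    haveI : IsClosedImmersion f' :=
      Groth.Agent.H22.ThickCI.isClosedImmersion_of_isPullback iX f f' iY hsq
    haveI : Flat f' := (Groth.Agent.S1317.result iX iY iS f f' g g' hS hcX hcY w).mp inferInstance
    haveI : Surjective (iX ≫ f') := by rw [w]; infer_instance
    haveI : Surjective f' := Surjective.of_comp iX f'
    exact Flat.isIso_of_surjective_of_mono f'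
  · intro hf'
    exact MorphismProperty.of_isPullback (P := MorphismProperty.isomorphisms Scheme.{u}) hsq hf'

end Helpers

open AlgebraicGeometry CategoryTheory Limits in
/-- Let S ⟶ S' be a finite order thickening, let X' ⟶ Y' be a morphism of schemes over S' with X' flat
over S', and let X ⟶ Y be its base change to S. Then X ⟶ Y is an isomorphism if and only if X' ⟶ Y'
is. -/
theorem result {X X' Y Y' S S' : Scheme.{u}} (iX : X ⟶ X') (iY : Y ⟶ Y') (iS : S ⟶ S')
    (f : X ⟶ Y) (f' : X' ⟶ Y') (g : Y ⟶ S) (g' : Y' ⟶ S')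
    (hS : MoreMor.IsFiniteOrderThickening iS) (hcX : IsPullback iX (f ≫ g) (f' ≫ g') iS) (hcY : IsPullback iY g g' iS)
    (w : iX ≫ f' = f ≫ iY) [Flat (f' ≫ g')] :
    IsIso f ↔ IsIso f' := by
  exact main iX iY iS f f' g g' hS hcX hcY w

end Groth.Agent.S1318
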