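import Groth.Statements.S13184
import Mathlib

set_option autoImplicit false
universe u
open ZeroCyc

namespace Groth.Agent.S13184

/-- Let k ⊆ K be a finite extension of fields of characteristic p > 0, viewed inside an algebraically
closed field Ω, and for e ≥ 0 let k^{p^{-e}} ⊆ Ω be the field of elements whose p^e-th power lies in
k. Then the compositum k^{p^{-e}}K is separable over k^{p^{-e}} if and only if x^{p^e} is separable
over k for every x ∈ K; hence the exponent of K/k (the least n ≥ 1 with K^n separable over k, a
power of p) is the least p^e for which k^{p^{-e}} ⊆ k^{p^{-e}}K is separable. -/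
theorem result {k : Type u} [Field k] (p : ℕ) [Fact p.Prime] [CharP k p]
    {K : Type u} [Field K] [Algebra k K] [FiniteDimensional k K]
    {Ω : Type u} [Field Ω] [Algebra k Ω] [Algebra K Ω] [IsScalarTower k K Ω] [IsAlgClosed Ω] (e : ℕ) :
    (∀ x : Ω, x ∈ IntermediateField.adjoin k {y : Ω | y ^ (p ^ e) ∈ Set.range (algebraMap k Ω)} ⊔
        IntermediateField.adjoin k (Set.range (algebraMap K Ω)) →
      IsSeparable (IntermediateField.adjoin k {y : Ω | y ^ (p ^ e) ∈ Set.range (algebraMap k Ω)}) x) ↔
    ∀ x : K, x ^ (p ^ e) ∈ separableClosure k K := by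
  classical
  haveI : CharP Ω p := charP_of_injective_algebraMap (algebraMap k Ω).injective p
  haveI : ExpChar Ω p := ExpChar.prime Fact.out
  haveI : PerfectRing Ω p := PerfectField.toPerfectRing p
  have hp0 : p ≠ 0 := (Fact.out : p.Prime).ne_zero
  have hq0 : p ^ e ≠ 0 := pow_ne_zero _ hp0
  set L := IntermediateField.adjoin k {y : Ω | y ^ (p ^ e) ∈ Set.range (algebraMap k Ω)} with hL
  -- membership in `L`
  let L₀ : IntermediateField k Ω :=
    { carrier := {y | y ^ (p ^ e) ∈ Set.range (algebraMap k Ω)}
      mul_mem' := by
        rintro a b ⟨a', ha⟩ ⟨b', hb⟩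
        exact ⟨a' * b', by rw [map_mul, ha, hb, mul_pow]⟩
      one_mem' := ⟨1, by simp⟩
      add_mem' := by
        rintro a b ⟨a', ha⟩ ⟨b', hb⟩
        exact ⟨a' + b', by rw [map_add, ha, hb, add_pow_char_pow]⟩
      zero_mem' := ⟨0, by rw [map_zero, zero_pow hq0]⟩
      algebraMap_mem' := fun c => ⟨c ^ (p ^ e), by rw [map_pow]⟩
      inv_mem' := by
        rintro a ⟨a', ha⟩
        exact ⟨a'⁻¹, by rw [map_inv₀, ha, inv_pow]⟩ }
  have hLmem : ∀ y : Ω, y ∈ L ↔ y ^ (p ^ e) ∈ Set.range (algebraMap k Ω) := by
    intro y
    constructor
    · intro hy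
      have hle : L ≤ L₀ := IntermediateField.adjoin_le_iff.mpr (fun z hz => hz)
      exact hle hy
    · intro hy
      exact IntermediateField.subset_adjoin k _ hy
  have hinjK : Function.Injective (IsScalarTower.toAlgHom k K Ω) := (algebraMap K Ω).injective
  constructor
  · intro H x
    set x' : Ω := algebraMap K Ω x with hx'
    have hx'mem : x' ∈ L ⊔ IntermediateField.adjoin k (Set.range (algebraMap K Ω)) :=
      (le_sup_right : _ ≤ L ⊔ IntermediateField.adjoin k (Set.range (algebraMap K Ω)))
        (IntermediateField.subset_adjoin k _ ⟨x, rfl⟩)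
    have hs : (minpoly L x').Separable := H x' hx'mem
    set g := minpoly L x' with hg
    set G : Polynomial Ω := (g.map (algebraMap L Ω)).map (iterateFrobenius Ω p e) with hG
    have hGl : G ∈ Polynomial.lifts (algebraMap k Ω) := by
      rw [Polynomial.lifts_iff_coeff_lifts]
      intro n
      rw [hG, Polynomial.coeff_map, Polynomial.coeff_map, iterateFrobenius_def]
      exact (hLmem _).mp (g.coeff n).2
    obtain ⟨h, hh⟩ := (Polynomial.mem_lifts _).mp hGl
    have hGsep : G.Separable := (hs.map).map
    have hhsep : h.Separable := by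
      rw [← Polynomial.separable_map (algebraMap k Ω), hh]
      exact hGsep
    have hroot : Polynomial.aeval (x' ^ (p ^ e)) h = 0 := by
      rw [Polynomial.aeval_def, Polynomial.eval₂_eq_eval_map, hh, hG, ← iterateFrobenius_def,
        Polynomial.eval_map, Polynomial.eval₂_hom, Polynomial.eval_map, ← Polynomial.aeval_def,
        minpoly.aeval, map_zero]
    have hsepx : IsSeparable k (x' ^ (p ^ e)) :=
      Polynomial.Separable.of_dvd hhsep (minpoly.dvd k _ hroot)
    rw [mem_separableClosure_iff]
    have : x' ^ (p ^ e) = IsScalarTower.toAlgHom k K Ω (x ^ (p ^ e)) := by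
      rw [hx', map_pow]; rfl
    rw [this, isSeparable_map_iff _ hinjK] at hsepx
    exact hsepx
  · intro H
    have hle : L ⊔ IntermediateField.adjoin k (Set.range (algebraMap K Ω)) ≤
        (separableClosure L Ω).restrictScalars k := by
      apply sup_le
      · intro y hy
        exact (separableClosure L Ω).algebraMap_mem ⟨y, hy⟩
      · rw [IntermediateField.adjoin_le_iff]
        rintro _ ⟨x, rfl⟩
        show algebraMap K Ω x ∈ separableClosure L Ω
        rw [mem_separableClosure_iff]
        set x' : Ω := algebraMap K Ω x with hx'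
        have hs : (minpoly k (x ^ (p ^ e))).Separable := mem_separableClosure_iff.mp (H x)
        set f := minpoly k (x ^ (p ^ e)) with hf
        set F : Polynomial Ω := (f.map (algebraMap k Ω)).map
          ((iterateFrobeniusEquiv Ω p e).symm : Ω →+* Ω) with hF
        have hFl : F ∈ Polynomial.lifts (algebraMap L Ω) := by
          rw [Polynomial.lifts_iff_coeff_lifts]
          intro n
          rw [hF, Polynomial.coeff_map, Polynomial.coeff_map]
          refine ⟨⟨_, (hLmem _).mpr ⟨f.coeff n, ?_⟩⟩, rfl⟩
          rw [← iterateFrobeniusEquiv_def Ω p e]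
          simp
        obtain ⟨f', hf'⟩ := (Polynomial.mem_lifts _).mp hFl
        have hFsep : F.Separable := (hs.map).map
        have hf'sep : f'.Separable := by
          rw [← Polynomial.separable_map (algebraMap L Ω), hf']
          exact hFsep
        have hFmap : F.map (iterateFrobenius Ω p e) = f.map (algebraMap k Ω) := by
          rw [hF, Polynomial.map_map]
          have : (iterateFrobenius Ω p e).comp ((iterateFrobeniusEquiv Ω p e).symm : Ω →+* Ω)
              = RingHom.id Ω := by
            ext z
            simp [← coe_iterateFrobeniusEquiv]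
          rw [this, Polynomial.map_id]
        have h1 : iterateFrobenius Ω p e (Polynomial.eval x' F) = 0 := by
          rw [← Polynomial.eval₂_hom, ← Polynomial.eval_map, hFmap, iterateFrobenius_def,
            Polynomial.eval_map, ← Polynomial.aeval_def]
          have : x' ^ (p ^ e) = algebraMap K Ω (x ^ (p ^ e)) := by rw [hx', map_pow]
          rw [this, Polynomial.aeval_algebraMap_apply, minpoly.aeval, map_zero]
        have h2 : Polynomial.eval x' F = 0 := by
          rw [iterateFrobenius_def] at h1
          exact pow_eq_zero_iff hq0 |>.mp h1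
        have hroot : Polynomial.aeval x' f' = 0 := by
          rw [Polynomial.aeval_def, Polynomial.eval₂_eq_eval_map, hf', h2]
        exact Polynomial.Separable.of_dvd hf'sep (minpoly.dvd L _ hroot)
    intro x hx
    exact mem_separableClosure_iff.mp (hle hx)

end Groth.Agent.S13184
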