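import Groth.Statements.S13185
import Mathlib

set_option autoImplicit false
universe u v w x
open GalCoh

namespace Groth.Agent.S13185

theorem key {G : Type u} {A : Type v} {B : Type w} {C : Type x}
    [Group G] [Group A] [Group B] [Group C]
    [MulDistribMulAction G A] [MulDistribMulAction G B] [MulDistribMulAction G C]
    {ι : A →* B} {π : B →* C} (h : GpH1.IsGExt G ι π)
    (b₀ b₀' : B) (hb : π b₀ ∈ MulAction.fixedPoints G C) (hb' : π b₀' ∈ MulAction.fixedPoints G C) :
    GpH1.Cohomologous (h.cocycleOfLift b₀ hb) (h.cocycleOfLift b₀' hb') ↔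
      ∃ b : B, b ∈ MulAction.fixedPoints G B ∧ π b₀' = π b * π b₀ := by
  constructor
  · rintro ⟨e, he⟩
    refine ⟨b₀' * ι e * b₀⁻¹, ?_, ?_⟩
    · intro σ
      have h1 := congrArg ι (he σ)
      rw [map_mul, map_mul, map_inv, h.smul_ι, h.ι_cocycleOfLift, h.ι_cocycleOfLift] at h1
      -- h1 : b₀⁻¹ * σ • b₀ = (ι e)⁻¹ * (b₀'⁻¹ * σ • b₀') * σ • ι e
      rw [smul_mul', smul_mul', smul_inv']
      have h2 : σ • b₀ = b₀ * ((ι e)⁻¹ * (b₀'⁻¹ * σ • b₀') * σ • ι e) := by
        rw [← h1, mul_inv_cancel_left]
      rw [h2]
      group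
    · rw [map_mul, map_mul, map_inv, inv_mul_cancel_right]
      have : π (ι e) = 1 := (h.exact (ι e)).mpr ⟨e, rfl⟩
      rw [this, mul_one]
  · rintro ⟨b, hbfix, hbc⟩
    have hker : π (b₀'⁻¹ * b * b₀) = 1 := by
      rw [map_mul, map_mul, map_inv, mul_assoc, ← hbc, inv_mul_cancel]
    obtain ⟨e, he⟩ := (h.exact _).mp hker
    refine ⟨e, fun σ => ?_⟩
    apply h.injective
    rw [map_mul, map_mul, map_inv, h.smul_ι, h.ι_cocycleOfLift, h.ι_cocycleOfLift, he, smul_mul',
      smul_mul', smul_inv', hbfix σ]
    group

/-- Let a group G act by automorphisms on groups A, B, C and let 1 → A → B → C → 1 (maps ι, π) be a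
G-equivariant short exact sequence. For G-fixed elements c, c' of C, the connecting map to H¹(G, A)
takes equal values on c and c' if and only if c' = π(b) · c for some G-fixed b in B: the fibres of
the connecting map are the orbits of the fixed points of B acting on the fixed points of C by left
multiplication. (The published statement is for a Galois group acting on discrete modules; this row
takes an arbitrary group acting on groups, which is what the argument proves.) -/
theorem result {G : Type u} {A : Type v} {B : Type w} {C : Type x}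
    [Group G] [Group A] [Group B] [Group C]
    [MulDistribMulAction G A] [MulDistribMulAction G B] [MulDistribMulAction G C]
    {ι : A →* B} {π : B →* C} (h : GpH1.IsGExt G ι π)
    (c c' : MulAction.fixedPoints G C) :
    GpH1.delta0 h c = GpH1.delta0 h c' ↔
      ∃ b : B, b ∈ MulAction.fixedPoints G B ∧ (c' : C) = π b * (c : C) := by
  unfold GpH1.delta0
  rw [GpH1.OneCocycle.cl_eq_cl_iff, key h]
  rw [(h.surjective c.1).choose_spec, (h.surjective c'.1).choose_spec]

end Groth.Agent.S13185
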