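import Groth.Statements.S13186
import Mathlib
import Groth.Agent.S13298

set_option autoImplicit false
universe u
open GalCoh

namespace Groth.Agent.S13186

/-- Let L/K be a finite Galois extension of fields, n a natural number, and B a map from the Galois
group of L over K to the invertible n × n matrices over L such that B(σ) · σ(B(τ)) = B(στ) for all
σ, τ (σ acting on matrices entrywise, στ applying τ first) and det B(σ) = 1 for every σ. Then there
is an invertible matrix A over L of determinant 1 with B(σ) = A⁻¹ · σ(A) for every σ; that is, every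
1-cocycle of the Galois group with values in SL_n(L) is the coboundary of an element of SL_n(L), so
H¹ of the Galois group with values in SL_n(L) is a point. (The published statement says that every
torsor under the special linear group over K is trivial; this row is the finite-Galois-level cocycle
form that its proof establishes.) -/
theorem result (K L : Type u) [Field K] [Field L]
    [Algebra K L] [FiniteDimensional K L] [IsGalois K L] (n : ℕ)
    (B : (L ≃ₐ[K] L) → GL (Fin n) L)
    (hB : ∀ σ τ : L ≃ₐ[K] L,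
      (B σ : Matrix (Fin n) (Fin n) L) * (B τ : Matrix (Fin n) (Fin n) L).map σ =
        (B (σ * τ) : Matrix (Fin n) (Fin n) L))
    (hdet : ∀ σ : L ≃ₐ[K] L, Matrix.det (B σ : Matrix (Fin n) (Fin n) L) = 1) :
    ∃ A : GL (Fin n) L, Matrix.det (A : Matrix (Fin n) (Fin n) L) = 1 ∧ ∀ σ : L ≃ₐ[K] L,
      (B σ : Matrix (Fin n) (Fin n) L) =
        ((A⁻¹ : GL (Fin n) L) : Matrix (Fin n) (Fin n) L) * (A : Matrix (Fin n) (Fin n) L).map σ := by
  classical
  let _i1 : MulSemiringAction (L ≃ₐ[K] L) (Matrix (Fin n) (Fin n) L) :=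
    CSAGal.matrixAction (L ≃ₐ[K] L) L (Fin n)
  let _i2 : MulDistribMulAction (L ≃ₐ[K] L) (GL (Fin n) L) := GpH1.unitsAction
  have hcoc : GpH1.IsOneCocycle B := by
    intro σ τ
    apply Units.ext
    rw [← hB σ τ]
    rfl
  have htriv := Groth.Agent.S13298.result K L n (GpH1.OneCocycle.cl ⟨B, hcoc⟩)
  unfold GpH1.H1.pt at htriv
  rw [GpH1.OneCocycle.cl_eq_cl_iff] at htriv
  obtain ⟨c, hc⟩ := htriv
  have hc' : ∀ σ : L ≃ₐ[K] L, (B σ : Matrix (Fin n) (Fin n) L) =
      ((c⁻¹ : GL (Fin n) L) : Matrix (Fin n) (Fin n) L) * (c : Matrix (Fin n) (Fin n) L).map σ := by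
    intro σ
    have := congrArg (fun g : GL (Fin n) L => (g : Matrix (Fin n) (Fin n) L)) (hc σ)
    change (B σ : Matrix (Fin n) (Fin n) L) = ((c⁻¹ * 1 * σ • c : GL (Fin n) L) : Matrix (Fin n) (Fin n) L) at this
    rw [this, mul_one]
    rfl
  -- the determinant of c is Galois-fixed
  have hdetinv : Matrix.det ((c⁻¹ : GL (Fin n) L) : Matrix (Fin n) (Fin n) L) *
      Matrix.det (c : Matrix (Fin n) (Fin n) L) = 1 := by
    rw [← Matrix.det_mul, ← Units.val_mul, inv_mul_cancel, Units.val_one, Matrix.det_one]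
  have hdetne : Matrix.det (c : Matrix (Fin n) (Fin n) L) ≠ 0 := by
    intro h0
    rw [h0, mul_zero] at hdetinv
    exact zero_ne_one hdetinv
  have hmapdet : ∀ σ : L ≃ₐ[K] L, Matrix.det ((c : Matrix (Fin n) (Fin n) L).map σ) =
      σ (Matrix.det (c : Matrix (Fin n) (Fin n) L)) := by
    intro σ
    exact (RingHom.map_det (σ : L →+* L) (c : Matrix (Fin n) (Fin n) L)).symm
  have hfix : ∀ σ : L ≃ₐ[K] L, σ (Matrix.det (c : Matrix (Fin n) (Fin n) L)) =
      Matrix.det (c : Matrix (Fin n) (Fin n) L) := by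
    intro σ
    have h1 := hdet σ
    rw [hc' σ, Matrix.det_mul, hmapdet] at h1
    have h2 : Matrix.det ((c⁻¹ : GL (Fin n) L) : Matrix (Fin n) (Fin n) L) ≠ 0 := by
      intro h0
      rw [h0, zero_mul] at hdetinv
      exact zero_ne_one hdetinv
    exact mul_left_cancel₀ h2 (h1.trans hdetinv.symm)
  obtain ⟨d, hd⟩ := (IsGalois.mem_range_algebraMap_iff_fixed _).mpr hfix
  have hd0 : d ≠ 0 := by
    rintro rfl
    rw [map_zero] at hd
    exact hdetne hd.symm
  rcases Nat.eq_zero_or_pos n with hn | hn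
  · subst hn
    exact ⟨c, Matrix.det_isEmpty, hc'⟩
  · -- the diagonal correction
    let i0 : Fin n := ⟨0, hn⟩
    let D : Matrix (Fin n) (Fin n) L :=
      Matrix.diagonal (fun i => if i = i0 then algebraMap K L d⁻¹ else 1)
    have hDdet : D.det = algebraMap K L d⁻¹ := by
      rw [Matrix.det_diagonal, Finset.prod_ite_eq' Finset.univ i0]
      simp
    have hDmap : ∀ σ : L ≃ₐ[K] L, D.map σ = D := by
      intro σ
      ext i j
      simp only [D, Matrix.map_apply, Matrix.diagonal_apply]
      split_ifs <;> simp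
    have hDunit : IsUnit D := by
      rw [Matrix.isUnit_iff_isUnit_det, hDdet]
      exact isUnit_iff_ne_zero.mpr (by simpa using hd0)
    obtain ⟨Du, hDu⟩ := hDunit
    refine ⟨Du * c, ?_, fun σ => ?_⟩
    · rw [Units.val_mul, Matrix.det_mul, hDu, hDdet, ← hd, ← map_mul, inv_mul_cancel₀ hd0, map_one]
    · rw [mul_inv_rev, Units.val_mul, Units.val_mul, hc' σ]
      have : ((Du : Matrix (Fin n) (Fin n) L) * (c : Matrix (Fin n) (Fin n) L)).map σ =
          (Du : Matrix (Fin n) (Fin n) L) * (c : Matrix (Fin n) (Fin n) L).map σ := by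
        rw [Matrix.map_mul, hDu, hDmap]
      rw [this, mul_assoc, ← mul_assoc ((Du⁻¹ : GL (Fin n) L) : Matrix (Fin n) (Fin n) L),
        ← Units.val_mul, inv_mul_cancel, Units.val_one, one_mul]

end Groth.Agent.S13186
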