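import Groth.Statements.S13188
import Mathlib

set_option autoImplicit false
universe u v w
open Brauer

namespace Groth.Agent.S13188

theorem eval_smul_of_homog {σ : Type*} {K : Type*} [CommRing K] (F : MvPolynomial σ K) (d : ℕ)
    (hF : F.IsHomogeneous d) (s : K) (x : σ → K) :
    MvPolynomial.eval (s • x) F = s ^ d * MvPolynomial.eval x F := by
  rw [MvPolynomial.eval_eq, MvPolynomial.eval_eq, Finset.mul_sum]
  refine Finset.sum_congr rfl fun m hm => ?_
  have hdeg : d = ∑ i ∈ m.support, m i := hF.degree_eq_sum_deg_support hm
  simp only [Pi.smul_apply, smul_eq_mul, mul_pow, Finset.prod_mul_distrib]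
  rw [Finset.prod_pow_eq_pow_sum, ← hdeg]
  ring

/-- Let K be a field with property C_2 for systems of forms and D a finite-dimensional central division
algebra over K with dim_K D = d². Let N : D → K be multiplicative, a reduced norm of D over K, and
given in the coordinates of a K-basis b of D by a homogeneous polynomial F of degree d, i.e. N(Σ x_i
b_i) = F(x) for every coordinate vector x (the reduced norm of a central simple algebra of dimension
d² is such a polynomial map of degree d; these data record it). Then N : D → K is surjective. -/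
theorem result (K : Type u) [Field K] (hK : Curves.IsCi K 2)
    (D : Type v) [DivisionRing D] [Algebra K D] [Algebra.IsCentral K D] [FiniteDimensional K D]
    (d : ℕ) (hd : Module.finrank K D = d ^ 2)
    (N : D →* K) (hN : CSAGal.IsRedNorm K D N)
    {ι : Type w} [Fintype ι] (b : Module.Basis ι K D)
    (F : MvPolynomial ι K) (hF : F.IsHomogeneous d)
    (hNF : ∀ x : ι → K, N (∑ i, x i • b i) = MvPolynomial.eval x F) :
    Function.Surjective N := by
  classical
  have hcard : Fintype.card ι = d ^ 2 := by
    rw [← hd, Module.finrank_eq_card_basis b]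
  have hdpos : 0 < d := by
    rcases Nat.eq_zero_or_pos d with h0 | h
    · exfalso
      subst h0
      have : Module.finrank K D = 0 := by rw [hd]; rfl
      have hpos : 0 < Module.finrank K D := Module.finrank_pos
      omega
    · exact h
  -- N of a sum in coordinates
  have hN0 : ∀ y : D, y ≠ 0 → N y ≠ 0 := by
    intro y hy h0
    have h1 : N y * N y⁻¹ = 1 := by rw [← map_mul, mul_inv_cancel₀ hy, map_one]
    rw [h0, zero_mul] at h1
    exact zero_ne_one h1
  have hNzero : N 0 = 0 := by
    have := hNF 0
    simp only [Pi.zero_apply, zero_smul, Finset.sum_const_zero] at this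
    rw [this]
    have h2 := eval_smul_of_homog F d hF (0 : K) (0 : ι → K)
    rw [zero_smul, zero_pow hdpos.ne', zero_mul] at h2
    exact h2
  intro c
  by_cases hc0 : c = 0
  · exact ⟨0, by rw [hNzero, hc0]⟩
  let e : ι ≃ Fin (d ^ 2) := Fintype.equivFinOfCardEq hcard
  let j : ι → Fin (d ^ 2 + 1) := fun i => Fin.castSucc (e i)
  let G : MvPolynomial (Fin (d ^ 2 + 1)) K :=
    MvPolynomial.rename j F - MvPolynomial.C c * MvPolynomial.X (Fin.last _) ^ d
  have hG : G.IsHomogeneous d :=
    (hF.rename_isHomogeneous).sub (MvPolynomial.isHomogeneous_C_mul_X_pow c _ d)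
  obtain ⟨a, ha0, ha⟩ := hK 1 (d ^ 2 + 1) (fun _ => G) (fun _ => d) (fun _ => hG) (fun _ => hdpos)
    (by simp)
  have haG := ha 0
  simp only [G, map_sub, MvPolynomial.eval_rename, map_mul, MvPolynomial.eval_C, map_pow,
    MvPolynomial.eval_X] at haG
  set x : ι → K := a ∘ j with hx
  set t : K := a (Fin.last _) with ht
  have hFx : MvPolynomial.eval x F = c * t ^ d := sub_eq_zero.mp haG
  by_cases ht0 : t = 0
  · exfalso
    have hx0 : x ≠ 0 := by
      intro hx0
      apply ha0
      funext k
      refine Fin.lastCases ?_ (fun m => ?_) k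
      · exact ht0
      · have := congrFun hx0 (e.symm m)
        simpa [hx, j] using this
    have hy0 : (∑ i, x i • b i) ≠ 0 := by
      intro h0
      apply hx0
      funext i
      have := congrArg (fun y => b.repr y i) h0
      simpa [Finsupp.single_apply] using this
    apply hN0 _ hy0
    rw [hNF, hFx, ht0, zero_pow hdpos.ne', mul_zero]
  · refine ⟨∑ i, (t⁻¹ • x) i • b i, ?_⟩
    rw [hNF, eval_smul_of_homog F d hF, hFx, inv_pow, mul_comm c, ← mul_assoc,
      inv_mul_cancel₀ (pow_ne_zero d ht0), one_mul]

end Groth.Agent.S13188
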