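import Groth.Statements.S13189
import Mathlib

set_option autoImplicit false
universe u
open CAlg

namespace Groth.Agent.S13189

/-- For a finite field K of cardinality q and n ≥ 0, a polynomial p in n variables over K vanishes at
every point of K^n if and only if p belongs to the ideal generated by the X_i^q − X_i, i = 1, …, n;
in other words that ideal is the kernel of the evaluation homomorphism from K[X_1, …, X_n] to the
ring of K-valued functions on K^n. -/
theorem result (K : Type u) [Field K] [Fintype K]
    (n : ℕ) (p : MvPolynomial (Fin n) K) :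
    (∀ a : Fin n → K, MvPolynomial.eval a p = 0) ↔
      p ∈ Ideal.span (Set.range fun i : Fin n =>
        (MvPolynomial.X i ^ Fintype.card K - MvPolynomial.X i : MvPolynomial (Fin n) K)) := by
  classical
  obtain ⟨q, hq⟩ : ∃ q : ℕ, q = Fintype.card K := ⟨_, rfl⟩
  rw [← hq]
  have hq2 : 2 ≤ q := hq ▸ Fintype.one_lt_card
  obtain ⟨J, hJ⟩ : ∃ J : Ideal (MvPolynomial (Fin n) K), J = Ideal.span (Set.range fun i : Fin n =>
        (MvPolynomial.X i ^ q - MvPolynomial.X i : MvPolynomial (Fin n) K)) := ⟨_, rfl⟩
  rw [← hJ]
  have hJker : ∀ a : Fin n → K, J ≤ RingHom.ker (MvPolynomial.eval a) := by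
    intro a
    rw [hJ, Ideal.span_le]
    rintro _ ⟨i, rfl⟩
    simp only [SetLike.mem_coe, RingHom.mem_ker, map_sub, map_pow, MvPolynomial.eval_X]
    rw [hq, FiniteField.pow_card, sub_self]
  constructor
  · intro h
    have hred : ∀ m : ℕ, ∃ m' ≤ q - 1, ∀ i : Fin n,
        (MvPolynomial.X i : MvPolynomial (Fin n) K) ^ m - MvPolynomial.X i ^ m' ∈ J := by
      intro m
      induction m using Nat.strong_induction_on with
      | _ m ih =>
        by_cases hm : m ≤ q - 1
        · exact ⟨m, hm, fun i => by simp⟩
        · push Not at hm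
          obtain ⟨m', hm', h'⟩ := ih (m - (q - 1)) (by omega)
          refine ⟨m', hm', fun i => ?_⟩
          have e : (MvPolynomial.X i : MvPolynomial (Fin n) K) ^ m - MvPolynomial.X i ^ m' =
              MvPolynomial.X i ^ (m - q) * (MvPolynomial.X i ^ q - MvPolynomial.X i) +
                (MvPolynomial.X i ^ (m - (q - 1)) - MvPolynomial.X i ^ m') := by
            have h1 : m = (m - q) + q := by omega
            have h2 : m - (q - 1) = (m - q) + 1 := by omega
            rw [h2]
            conv_lhs => rw [h1]
            ring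
          rw [e]
          exact J.add_mem (J.mul_mem_left _ (hJ ▸ Ideal.subset_span ⟨i, rfl⟩)) (h' i)
    choose r hr1 hr2 using hred
    have hmono : ∀ (e : Fin n →₀ ℕ) (c : K),
        ∃ p' ∈ MvPolynomial.restrictDegree (Fin n) K (q - 1), MvPolynomial.monomial e c - p' ∈ J := by
      intro e c
      obtain ⟨e', he'⟩ : ∃ e' : Fin n →₀ ℕ, ∀ i, e' i = r (e i) :=
        ⟨Finsupp.equivFunOnFinite.symm (fun i => r (e i)), fun i => rfl⟩
      refine ⟨MvPolynomial.monomial e' c, ?_, ?_⟩
      · rw [MvPolynomial.mem_restrictDegree]
        intro s hs i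
        have := MvPolynomial.support_monomial_subset hs
        rw [Finset.mem_singleton] at this
        rw [this, he']
        exact hr1 _
      · rw [← Ideal.Quotient.eq, MvPolynomial.monomial_eq, MvPolynomial.monomial_eq,
          Finsupp.prod_fintype _ _ (fun i => pow_zero _),
          Finsupp.prod_fintype _ _ (fun i => pow_zero _), map_mul, map_mul, map_prod, map_prod]
        congr 1
        refine Finset.prod_congr rfl (fun i _ => ?_)
        rw [he', Ideal.Quotient.eq]
        exact hr2 _ i
    have hall : ∀ p : MvPolynomial (Fin n) K,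
        ∃ p' ∈ MvPolynomial.restrictDegree (Fin n) K (q - 1), p - p' ∈ J := by
      intro p
      induction p using MvPolynomial.induction_on' with
      | monomial e c => exact hmono e c
      | add p₁ p₂ h₁ h₂ =>
        obtain ⟨p₁', hp₁', hd₁⟩ := h₁
        obtain ⟨p₂', hp₂', hd₂⟩ := h₂
        refine ⟨p₁' + p₂', Submodule.add_mem _ hp₁' hp₂', ?_⟩
        have : p₁ + p₂ - (p₁' + p₂') = (p₁ - p₁') + (p₂ - p₂') := by ring
        rw [this]
        exact J.add_mem hd₁ hd₂
    obtain ⟨p', hp', hd⟩ := hall p
    have hp'0 : p' = 0 := by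
      have hfinj : Function.Injective (ULift.up.{u} : Fin n → ULift.{u} (Fin n)) :=
        ULift.up_injective
      have hvan : ∀ a : Fin n → K, MvPolynomial.eval a p' = 0 := by
        intro a
        have h1 := hJker a hd
        rw [RingHom.mem_ker, map_sub, h a, zero_sub, neg_eq_zero] at h1
        exact h1
      have h0 : MvPolynomial.rename (ULift.up.{u} : Fin n → ULift.{u} (Fin n)) p' = 0 := by
        refine MvPolynomial.eq_zero_of_eval_eq_zero (ULift.{u} (Fin n)) K _ ?_ ?_
        · intro v
          rw [MvPolynomial.eval_rename]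
          exact hvan _
        · rw [MvPolynomial.mem_restrictDegree]
          intro s hs i
          rw [MvPolynomial.support_rename_of_injective hfinj, Finset.mem_image] at hs
          obtain ⟨s', hs', rfl⟩ := hs
          obtain ⟨j⟩ := i
          rw [Finsupp.mapDomain_apply hfinj, ← hq]
          exact (MvPolynomial.mem_restrictDegree _ _ _).mp hp' s' hs' j
      exact MvPolynomial.rename_injective _ hfinj (by rw [h0, map_zero])
    rw [hp'0, sub_zero] at hd
    exact hd
  · intro hp a
    exact hJker a hp

end Groth.Agent.S13189
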