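import Groth.Statements.S13191
import Mathlib

set_option autoImplicit false
universe u v w x
open GalCoh

namespace Groth.Agent.S13191

/-- Let a group G act by automorphisms on a group A, and let E and E' each be a G-equivariant right
A-torsor (a set with a simply transitive right action of A, written m ↦ m·a, and a left action of G
with g(m·a) = (gm)·(ga)). Let m ∈ E and m' ∈ E' be points with attached maps a, a' : G → A (g·m =
m·a(g) and g·m' = m'·a'(g) for all g). Then there is a bijection E ≃ E' commuting with the actions
of G and of A if and only if a and a' are cohomologous. (The published statement is for a Galois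
group acting on discrete modules; this row takes an arbitrary group acting on a group.) -/
theorem result {G : Type u} {A : Type v} {E : Type w} {E' : Type x}
    [Group G] [Group A] [MulDistribMulAction G A]
    [MulAction G E] [MulAction Aᵐᵒᵖ E]
    (hfree : ∀ m₁ m₂ : E, ∃! a : A, m₂ = MulOpposite.op a • m₁)
    (hcompat : ∀ (g : G) (a : A) (m : E), g • (MulOpposite.op a • m) = MulOpposite.op (g • a) • g • m)
    [MulAction G E'] [MulAction Aᵐᵒᵖ E']
    (hfree' : ∀ m₁ m₂ : E', ∃! a : A, m₂ = MulOpposite.op a • m₁)
    (hcompat' : ∀ (g : G) (a : A) (m : E'), g • (MulOpposite.op a • m) = MulOpposite.op (g • a) • g • m)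
    (m : E) (a : G → A) (ha : ∀ g : G, g • m = MulOpposite.op (a g) • m)
    (m' : E') (a' : G → A) (ha' : ∀ g : G, g • m' = MulOpposite.op (a' g) • m') :
    (∃ f : E ≃ E', (∀ (g : G) (e : E), f (g • e) = g • f e) ∧
        ∀ (b : A) (e : E), f (MulOpposite.op b • e) = MulOpposite.op b • f e) ↔
      GpH1.Cohomologous a a' := by
  classical
  -- coordinates on E and E'
  have hβ : ∀ e : E, ∃ b : A, e = MulOpposite.op b • m := fun e => (hfree m e).exists
  have hβ' : ∀ e : E', ∃ b : A, e = MulOpposite.op b • m' := fun e => (hfree' m' e).exists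
  choose β hβs using hβ
  choose β' hβ's using hβ'
  have huniq : ∀ b₁ b₂ : A, MulOpposite.op b₁ • m = MulOpposite.op b₂ • m → b₁ = b₂ := by
    intro b₁ b₂ h
    exact (hfree m (MulOpposite.op b₁ • m)).unique rfl h
  have huniq' : ∀ b₁ b₂ : A, MulOpposite.op b₁ • m' = MulOpposite.op b₂ • m' → b₁ = b₂ := by
    intro b₁ b₂ h
    exact (hfree' m' (MulOpposite.op b₁ • m')).unique rfl h
  have hβop : ∀ b : A, β (MulOpposite.op b • m) = b := fun b =>
    huniq _ _ (hβs (MulOpposite.op b • m)).symm
  have hβ'op : ∀ b : A, β' (MulOpposite.op b • m') = b := fun b =>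
    huniq' _ _ (hβ's (MulOpposite.op b • m')).symm
  constructor
  · rintro ⟨f, hfG, hfA⟩
    refine ⟨β' (f m), fun σ => ?_⟩
    set c := β' (f m) with hc
    have hfm : f m = MulOpposite.op c • m' := hβ's (f m)
    have h1 : f (σ • m) = MulOpposite.op (a' σ * σ • c) • m' := by
      rw [hfG, hfm, hcompat', ha' σ, ← mul_smul, ← MulOpposite.op_mul]
    have h2 : f (σ • m) = MulOpposite.op (c * a σ) • m' := by
      rw [ha σ, hfA, hfm, ← mul_smul, ← MulOpposite.op_mul]
    have h3 : a' σ * σ • c = c * a σ := huniq' _ _ (h1.symm.trans h2)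
    rw [mul_assoc, h3, inv_mul_cancel_left]
  · rintro ⟨c, hc⟩
    have hc' : ∀ σ, c * a σ = a' σ * σ • c := by
      intro σ
      rw [hc σ, mul_assoc, mul_inv_cancel_left]
    let f : E → E' := fun e => MulOpposite.op (c * β e) • m'
    let finv : E' → E := fun e' => MulOpposite.op (c⁻¹ * β' e') • m
    have hleft : Function.LeftInverse finv f := by
      intro e
      show MulOpposite.op (c⁻¹ * β' (MulOpposite.op (c * β e) • m')) • m = e
      rw [hβ'op, inv_mul_cancel_left]
      exact (hβs e).symm
    have hright : Function.RightInverse finv f := by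
      intro e'
      show MulOpposite.op (c * β (MulOpposite.op (c⁻¹ * β' e') • m)) • m' = e'
      rw [hβop, mul_inv_cancel_left]
      exact (hβ's e').symm
    refine ⟨⟨f, finv, hleft, hright⟩, ?_, ?_⟩
    · intro g e
      show MulOpposite.op (c * β (g • e)) • m' = g • (MulOpposite.op (c * β e) • m')
      have he : g • e = MulOpposite.op (a g * g • β e) • m := by
        conv_lhs => rw [hβs e]
        rw [hcompat, ha g, ← mul_smul, ← MulOpposite.op_mul]
      rw [he, hβop, hcompat', ha' g, ← mul_smul, ← MulOpposite.op_mul, smul_mul', ← mul_assoc,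
        ← mul_assoc, hc' g]
    · intro b e
      show MulOpposite.op (c * β (MulOpposite.op b • e)) • m' =
        MulOpposite.op b • (MulOpposite.op (c * β e) • m')
      have he : MulOpposite.op b • e = MulOpposite.op (β e * b) • m := by
        conv_lhs => rw [hβs e]
        rw [← mul_smul, ← MulOpposite.op_mul]
      rw [he, hβop, ← mul_smul, ← MulOpposite.op_mul, mul_assoc]

end Groth.Agent.S13191
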