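import Groth.Statements.S13195
import Mathlib

set_option autoImplicit false
universe u
open GalCoh

namespace Groth.Agent.S13195

/-- reduction to a finite normal level -/
theorem exists_finite_level {K L : Type u} [Field K] [Field L] [Algebra K L] [Normal K L]
    {X : Type*} (a : (L ≃ₐ[K] L) → X) (hlc : IsLocallyConstant a)
    (h : ∀ σ u : L ≃ₐ[K] L, a u = a 1 → a (σ * u) = a σ) :
    ∃ E : IntermediateField K L, FiniteDimensional K E ∧ Normal K E ∧
      ∀ σ σ' : L ≃ₐ[K] L, (∀ x ∈ E, σ x = σ' x) → a σ = a σ' := by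
  have hU : a ⁻¹' {a 1} ∈ nhds (1 : L ≃ₐ[K] L) :=
    (hlc.isOpen_fiber (a 1)).mem_nhds rfl
  rw [krullTopology_mem_nhds_one_iff_of_normal] at hU
  obtain ⟨E, hfin, hnorm, hE⟩ := hU
  refine ⟨E, hfin, hnorm, fun σ σ' hσ => ?_⟩
  have hmem : σ⁻¹ * σ' ∈ E.fixingSubgroup := by
    rw [IntermediateField.mem_fixingSubgroup_iff]
    intro x hx
    rw [AlgEquiv.mul_apply, ← hσ x hx]
    exact σ.symm_apply_apply x
  have h1 : a (σ⁻¹ * σ') = a 1 := hE hmem
  have := h σ _ h1
  rw [mul_inv_cancel_left] at this
  exact this.symm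

/-- Let K be a field and L a separable closure of K. Every map a from the automorphism group of L over K
to the units of L which is locally constant for the Krull topology and satisfies the 1-cocycle
identity a(στ) = a(σ) · σ(a(τ)) for all σ, τ has the form a(σ) = c⁻¹ · σ(c) for a single unit c of
L; that is, the first cohomology set of the absolute Galois group of K with continuous cochains and
values in the multiplicative group of the separable closure is reduced to its base point. (The
finite-level statement for a finite Galois extension is the classical Hilbert 90; this row is the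
statement for the absolute Galois group.) -/
theorem result (K L : Type u) [Field K] [Field L]
    [Algebra K L] [IsSepClosure K L] (a : (L ≃ₐ[K] L) → Lˣ)
    (ha : ∀ σ τ : L ≃ₐ[K] L, a (σ * τ) = a σ * σ • a τ) (hlc : IsLocallyConstant a) :
    ∃ c : Lˣ, ∀ σ : L ≃ₐ[K] L, a σ = c⁻¹ * σ • c := by
  classical
  have ha1 : a 1 = 1 := by
    have := ha 1 1
    rw [one_smul, mul_one] at this
    exact mul_eq_left.mp this.symm
  obtain ⟨E, hfin, hnorm, hE⟩ := exists_finite_level a hlc (by
    intro σ u hu
    rw [ha, hu, ha1, smul_one, mul_one])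
  -- the finite Galois group
  let Γ := E ≃ₐ[K] E
  let res : (L ≃ₐ[K] L) →* Γ := AlgEquiv.restrictNormalHom E
  have hres : ∀ (σ : L ≃ₐ[K] L) (x : E), ((res σ x : E) : L) = σ (x : L) :=
    fun σ x => AlgEquiv.restrictNormalHom_apply E σ x
  have hsurj : Function.Surjective res := AlgEquiv.restrictNormalHom_surjective L
  choose s hs using hsurj
  have hEres : ∀ σ σ' : L ≃ₐ[K] L, res σ = res σ' → a σ = a σ' := by
    intro σ σ' h
    apply hE
    intro x hx
    have h1 := hres σ ⟨x, hx⟩
    have h2 := hres σ' ⟨x, hx⟩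
    rw [h] at h1
    exact h1.symm.trans h2
  -- Dedekind
  let φ : Γ → (E →* L) := fun γ => ((algebraMap E L : E →* L)).comp (γ : E →* E)
  have hφinj : Function.Injective φ := by
    intro γ γ' h
    ext x
    have := DFunLike.congr_fun h x
    exact this
  have hli : LinearIndependent L (fun γ : Γ => ((φ γ : E →* L) : E → L)) :=
    (linearIndependent_monoidHom E L).comp φ hφinj
  rw [Fintype.linearIndependent_iff] at hli
  have hex : ∃ c : E, ∑ γ : Γ, ((a (s γ) : Lˣ) : L) * ((γ c : E) : L) ≠ 0 := by
    by_contra hne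
    push Not at hne
    have h0 : ∑ γ : Γ, ((a (s γ) : Lˣ) : L) • ((φ γ : E →* L) : E → L) = 0 := by
      funext c
      rw [Finset.sum_apply, Pi.zero_apply, ← hne c]
      rfl
    have := hli _ h0 1
    exact (a (s 1)).ne_zero this
  obtain ⟨c, hc⟩ := hex
  set b : L := ∑ γ : Γ, ((a (s γ) : Lˣ) : L) * ((γ c : E) : L) with hb
  have hτ : ∀ τ : L ≃ₐ[K] L, ((a τ : Lˣ) : L) * τ b = b := by
    intro τ
    rw [hb, map_sum, Finset.mul_sum]
    refine Fintype.sum_equiv (Equiv.mulLeft (res τ)) _ _ fun γ => ?_
    rw [Equiv.coe_mulLeft, map_mul]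
    have h1 : a (s (res τ * γ)) = a τ * τ • a (s γ) := by
      rw [← ha]
      apply hEres
      rw [hs, map_mul, hs]
    have h2 : τ ((γ c : E) : L) = (((res τ * γ) c : E) : L) := by
      rw [AlgEquiv.mul_apply, hres]
    rw [h1, h2, ← mul_assoc]
    rfl
  refine ⟨(Units.mk0 b hc)⁻¹, fun τ => ?_⟩
  rw [inv_inv, smul_inv', eq_mul_inv_iff_mul_eq]
  apply Units.ext
  exact hτ τ

end Groth.Agent.S13195
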