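import Groth.Statements.S13196
import Mathlib
import Groth.Agent.S13195

set_option autoImplicit false
universe u
open GalCoh

namespace Groth.Agent.S13196

/-- Let K be a field and L a separable closure of K. Every map a from the automorphism group of L over K
to L which is locally constant for the Krull topology and satisfies a(στ) = a(σ) + σ(a(τ)) for all
σ, τ is of the form a(σ) = σ(y) − y for a single y in L. (The published statement asserts vanishing
in every positive degree; this row is the degree-one statement for the absolute Galois group with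
continuous cochains.) -/
theorem result (K L : Type u) [Field K] [Field L] [Algebra K L]
    [IsSepClosure K L] (a : (L ≃ₐ[K] L) → L)
    (ha : ∀ σ τ : L ≃ₐ[K] L, a (σ * τ) = a σ + σ (a τ)) (hlc : IsLocallyConstant a) :
    ∃ y : L, ∀ σ : L ≃ₐ[K] L, a σ = σ y - y := by
  classical
  have ha1 : a 1 = 0 := by
    have := ha 1 1
    rw [mul_one, AlgEquiv.one_apply] at this
    exact left_eq_add.mp this
  obtain ⟨E, hfin, hnorm, hE⟩ := Groth.Agent.S13195.exists_finite_level a hlc (by
    intro σ u hu
    rw [ha, hu, ha1, map_zero, add_zero])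
  let Γ := E ≃ₐ[K] E
  let res : (L ≃ₐ[K] L) →* Γ := AlgEquiv.restrictNormalHom E
  have hres : ∀ (σ : L ≃ₐ[K] L) (x : E), ((res σ x : E) : L) = σ (x : L) :=
    fun σ x => AlgEquiv.restrictNormalHom_apply E σ x
  have hsurj : Function.Surjective res := AlgEquiv.restrictNormalHom_surjective L
  choose s hs using hsurj
  have hEres : ∀ σ σ' : L ≃ₐ[K] L, res σ = res σ' → a σ = a σ' := by
    intro σ σ' h
    apply hE
    intro x hx
    have h1 := hres σ ⟨x, hx⟩
    have h2 := hres σ' ⟨x, hx⟩
    rw [h] at h1
    exact h1.symm.trans h2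
  let φ : Γ → (E →* L) := fun γ => ((algebraMap E L : E →* L)).comp (γ : E →* E)
  have hφinj : Function.Injective φ := by
    intro γ γ' h
    ext x
    have := DFunLike.congr_fun h x
    exact this
  have hli : LinearIndependent L (fun γ : Γ => ((φ γ : E →* L) : E → L)) :=
    (linearIndependent_monoidHom E L).comp φ hφinj
  rw [Fintype.linearIndependent_iff] at hli
  have hex : ∃ c : E, ∑ γ : Γ, ((γ c : E) : L) ≠ 0 := by
    by_contra hne
    push Not at hne
    have h0 : ∑ γ : Γ, (1 : L) • ((φ γ : E →* L) : E → L) = 0 := by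
      funext c
      rw [Finset.sum_apply, Pi.zero_apply, ← hne c]
      refine Finset.sum_congr rfl fun γ _ => ?_
      rw [one_smul]
      rfl
    have := hli _ h0 1
    exact one_ne_zero this
  obtain ⟨c, hc⟩ := hex
  set t : L := ∑ γ : Γ, ((γ c : E) : L) with ht
  set B : L := ∑ γ : Γ, a (s γ) * ((γ c : E) : L) with hB
  have h2 : ∀ (τ : L ≃ₐ[K] L) (γ : Γ), τ ((γ c : E) : L) = (((res τ * γ) c : E) : L) := by
    intro τ γ
    rw [AlgEquiv.mul_apply, hres]
  have htτ : ∀ τ : L ≃ₐ[K] L, τ t = t := by
    intro τ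
    rw [ht, map_sum]
    refine Fintype.sum_equiv (Equiv.mulLeft (res τ)) _ _ fun γ => ?_
    rw [Equiv.coe_mulLeft, h2]
  have hBτ : ∀ τ : L ≃ₐ[K] L, τ B = B - a τ * t := by
    intro τ
    have h3 : ∀ γ : Γ, τ (a (s γ) * ((γ c : E) : L)) =
        a (s (res τ * γ)) * (((res τ * γ) c : E) : L) - a τ * (((res τ * γ) c : E) : L) := by
      intro γ
      have h1 : a (s (res τ * γ)) = a τ + τ (a (s γ)) := by
        rw [← ha]
        apply hEres
        rw [hs, map_mul, hs]
      rw [map_mul, h2, h1]
      ring
    rw [hB, map_sum, Finset.sum_congr rfl (fun γ _ => h3 γ), Finset.sum_sub_distrib,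
      ← Finset.mul_sum]
    congr 1
    · exact Fintype.sum_equiv (Equiv.mulLeft (res τ)) _ _ fun γ => rfl
    · congr 1
      rw [ht]
      exact Fintype.sum_equiv (Equiv.mulLeft (res τ)) _ _ fun γ => rfl
  refine ⟨-(t⁻¹ * B), fun τ => ?_⟩
  rw [map_neg, map_mul, map_inv₀, htτ, hBτ]
  field_simp
  ring

end Groth.Agent.S13196
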