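import Groth.Statements.S13206
import Mathlib

set_option autoImplicit false
universe u
open CategoryTheory AlgebraicGeometry
open AlgGrp

namespace Groth.Agent.S13206
open CategoryTheory AlgebraicGeometry Limits

section helpers



theorem eqz {X S : Scheme.{u}} (p : X ⟶ S) [IsSeparated p] (a : X ⟶ X) (ha : a ≫ p = p) :
    ∃ (Z : Scheme.{u}) (i : Z ⟶ X), IsClosedImmersion i ∧
      ∀ (T : Scheme.{u}) (x : T ⟶ X), x ≫ a = x ↔ ∃ z : T ⟶ Z, z ≫ i = x := by
  let XS : Over S := Over.mk p
  let A : XS ⟶ XS := Over.homMk a ha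
  haveI : IsSeparated XS.hom := by dsimp [XS]; infer_instance
  refine ⟨(equalizer A (𝟙 XS)).left, (equalizer.ι A (𝟙 XS)).left, inferInstance, ?_⟩
  intro T x
  constructor
  · intro hx
    let TS : Over S := Over.mk (x ≫ p)
    let xs : TS ⟶ XS := Over.homMk x rfl
    have h : xs ≫ A = xs ≫ 𝟙 XS := by
      ext
      simpa [xs, A] using hx
    refine ⟨(equalizer.lift xs h).left, ?_⟩
    rw [← Over.comp_left, equalizer.lift_ι]
    rfl
  · rintro ⟨z, rfl⟩
    have := congrArg (fun t => t.left) (equalizer.condition A (𝟙 XS))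
    simp only [Over.comp_left, Category.comp_id] at this
    rw [Category.assoc]
    exact congrArg (fun t => z ≫ t) this

theorem fin {X S : Scheme.{u}} (p : X ⟶ S) [IsSeparated p] (L : List (X ⟶ X))
    (hL : ∀ a ∈ L, a ≫ p = p) :
    ∃ (Z : Scheme.{u}) (i : Z ⟶ X), IsClosedImmersion i ∧
      ∀ (T : Scheme.{u}) (x : T ⟶ X), (∀ a ∈ L, x ≫ a = x) ↔ ∃ z : T ⟶ Z, z ≫ i = x := by
  induction L with
  | nil =>
    refine ⟨X, 𝟙 X, inferInstance, fun T x => ⟨fun _ => ⟨x, Category.comp_id _⟩, fun _ a ha => by simp at ha⟩⟩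
  | cons a L ih =>
    obtain ⟨Z1, i1, h1, H1⟩ := eqz p a (hL a (by simp))
    obtain ⟨Z2, i2, h2, H2⟩ := ih (fun b hb => hL b (by simp [hb]))
    refine ⟨pullback i1 i2, pullback.fst i1 i2 ≫ i1, inferInstance, ?_⟩
    intro T x
    constructor
    · intro hx
      obtain ⟨z1, hz1⟩ := (H1 T x).1 (hx a (by simp))
      obtain ⟨z2, hz2⟩ := (H2 T x).1 (fun b hb => hx b (by simp [hb]))
      refine ⟨pullback.lift z1 z2 (hz1.trans hz2.symm), ?_⟩
      rw [pullback.lift_fst_assoc, hz1]
    · rintro ⟨z, rfl⟩ b hb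
      rcases List.mem_cons.1 hb with rfl | hb
      · exact (H1 _ _).2 ⟨z ≫ pullback.fst i1 i2, by rw [Category.assoc]⟩
      · exact (H2 _ _).2 ⟨z ≫ pullback.snd i1 i2, by rw [Category.assoc, ← pullback.condition]⟩ b hb



end helpers

/-- Let X → S be a separated morphism of schemes and let a finite group G act on X through
S-automorphisms. Then the functor of G-fixed points is represented by a closed subscheme of X: there
are a scheme Z and a closed immersion i : Z → X with i ∘ g = i for all g ∈ G such that every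
morphism x : T → X with g ∘ x = x for all g ∈ G factors uniquely through i. (The published statement
is for an algebraic space X over S, also treats the locally separated case and notes compatibility
with base change; this row is the separated case for schemes.) -/
theorem result
    {X S : Scheme.{u}} (p : X ⟶ S) [IsSeparated p]
    (G : Type u) [Group G] [Finite G] (ρ : G →* Aut X) (hρ : ∀ g : G, (ρ g).hom ≫ p = p) :
    ∃ (Z : Scheme.{u}) (i : Z ⟶ X), IsClosedImmersion i ∧ (∀ g : G, i ≫ (ρ g).hom = i) ∧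
      ∀ (T : Scheme.{u}) (x : T ⟶ X), (∀ g : G, x ≫ (ρ g).hom = x) → ∃! z : T ⟶ Z, z ≫ i = x := by
  classical
  haveI := Fintype.ofFinite G
  obtain ⟨Z, i, hi, H⟩ := fin p ((Finset.univ : Finset G).toList.map (fun g => (ρ g).hom))
    (by
      intro a ha
      obtain ⟨g, -, rfl⟩ := List.mem_map.1 ha
      exact hρ g)
  have key : ∀ (T : Scheme.{u}) (x : T ⟶ X), (∀ g : G, x ≫ (ρ g).hom = x) ↔ ∃ z : T ⟶ Z, z ≫ i = x := by
    intro T x
    rw [← H]
    constructor
    · intro h a ha
      obtain ⟨g, -, rfl⟩ := List.mem_map.1 ha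
      exact h g
    · intro h g
      exact h _ (List.mem_map.2 ⟨g, by simp, rfl⟩)
  refine ⟨Z, i, hi, (key Z i).2 ⟨𝟙 Z, Category.id_comp _⟩, ?_⟩
  intro T x hx
  obtain ⟨z, hz⟩ := (key T x).1 hx
  refine ⟨z, hz, fun z' hz' => ?_⟩
  haveI : Mono i := inferInstance
  exact (cancel_mono i).1 (hz'.trans hz.symm)

end Groth.Agent.S13206
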