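import Groth.Statements.S1323
import Mathlib
import Groth.Agent.Lib.helper22.Deform
import Groth.Agent.Lib.helper22.ThickAffine
import Groth.Agent.S5346
import Groth.Agent.S1317
import Groth.Agent.S1320

set_option autoImplicit false
universe u
open FlatMor

namespace Groth.Agent.S1323

section Helpers

open CategoryTheory CategoryTheory.Limits AlgebraicGeometry

theorem main (d : ℕ) {X X' Y Y' S S' : Scheme.{u}} (iX : X ⟶ X') (iY : Y ⟶ Y') (iS : S ⟶ S')
    (f : X ⟶ Y) (f' : X' ⟶ Y') (g : Y ⟶ S) (g' : Y' ⟶ S')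
    (hS : MoreMor.IsFiniteOrderThickening iS) (hcX : IsPullback iX (f ≫ g) (f' ≫ g') iS)
    (hcY : IsPullback iY g g' iS)
    (w : iX ≫ f' = f ≫ iY) [Flat (f' ≫ g')] :
    Mor2.IsFinLocFreeOfDeg d f ↔ Mor2.IsFinLocFreeOfDeg d f' := by
  have hsq := Groth.Agent.H22.Deform.isPullback_left iX iY iS f f' g g' hcX hcY w
  constructor
  · rintro ⟨⟨hfin, hflat, hfp⟩, hrank⟩
    have hY := Groth.Agent.H22.ThickBC.finiteOrder_of_isPullback iY g g' iS hcY hS
    have hX := Groth.Agent.H22.ThickBC.finiteOrder_of_isPullback iX (f ≫ g) (f' ≫ g') iS hcX hS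
    haveI : IsClosedImmersion iY := hY.1.1
    haveI : Surjective iY := hY.1.2
    haveI : IsClosedImmersion iX := hX.1.1
    haveI : Surjective iX := hX.1.2
    obtain ⟨n, hn⟩ := hY.2
    obtain ⟨m, hm⟩ := hX.2
    haveI : LocallyOfFiniteType f' :=
      Groth.Agent.S5346.lft_of_isPullback_of_ker_pow iX f f' iY hsq n hn
    haveI : UniversallyClosed (iX ≫ f') := by rw [w]; infer_instance
    haveI : UniversallyClosed f' := UniversallyClosed.of_comp_surjective iX f'
    haveI : IsAffineHom f' := ⟨fun U hU => by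
      apply Groth.Agent.H22.ThickAffine.isAffineOpen_of_isAffineOpen_preimage iX m (f' ⁻¹ᵁ U)
        (fun V _ hV => Groth.Agent.H22.ThickAffine.ker_pow_eq_bot_of_idealSheaf iX m hm V hV)
      have : iX ⁻¹ᵁ (f' ⁻¹ᵁ U) = f ⁻¹ᵁ (iY ⁻¹ᵁ U) := by
        change (iX ≫ f') ⁻¹ᵁ U = (f ≫ iY) ⁻¹ᵁ U
        rw [w]
      rw [this]
      exact (hU.preimage iY).preimage f⟩
    haveI : IsIntegralHom f' :=
      IsIntegralHom.iff_universallyClosed_and_isAffineHom.mpr ⟨inferInstance, inferInstance⟩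
    haveI : IsFinite f' :=
      (IsFinite.iff_isIntegralHom_and_locallyOfFiniteType f').mpr ⟨inferInstance, inferInstance⟩
    haveI : Flat f' := (Groth.Agent.S1317.result iX iY iS f f' g g' hS hcX hcY w).mp hflat
    refine ⟨⟨inferInstance, inferInstance,
      (Groth.Agent.S1320.result iX iY iS f f' g g' hS hcX hcY w).mp hfp⟩, fun y' => ?_⟩
    obtain ⟨y, rfl⟩ := iY.surjective y'
    rw [← Scheme.Hom.finrank_of_isPullback iX f f' iY hsq y]
    exact hrank y
  · rintro ⟨⟨hfin, hflat, hfp⟩, hrank⟩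
    refine ⟨⟨MorphismProperty.of_isPullback (P := @IsFinite) hsq hfin,
      MorphismProperty.of_isPullback (P := @Flat) hsq hflat,
      MorphismProperty.of_isPullback (P := @LocallyOfFinitePresentation) hsq hfp⟩, fun y => ?_⟩
    rw [Scheme.Hom.finrank_of_isPullback iX f f' iY hsq y]
    exact hrank _

end Helpers

open AlgebraicGeometry CategoryTheory Limits in
/-- Let S ⟶ S' be a finite order thickening, let X' ⟶ Y' be a morphism of schemes over S' with X' flat
over S', and let X ⟶ Y be its base change to S. Then X ⟶ Y is finite locally free of rank d if and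
only if X' ⟶ Y' is. -/
theorem result (d : ℕ) {X X' Y Y' S S' : Scheme.{u}} (iX : X ⟶ X') (iY : Y ⟶ Y') (iS : S ⟶ S')
    (f : X ⟶ Y) (f' : X' ⟶ Y') (g : Y ⟶ S) (g' : Y' ⟶ S')
    (hS : MoreMor.IsFiniteOrderThickening iS) (hcX : IsPullback iX (f ≫ g) (f' ≫ g') iS) (hcY : IsPullback iY g g' iS)
    (w : iX ≫ f' = f ≫ iY) [Flat (f' ≫ g')] :
    Mor2.IsFinLocFreeOfDeg d f ↔ Mor2.IsFinLocFreeOfDeg d f' := by
  exact main d iX iY iS f f' g g' hS hcX hcY w

end Groth.Agent.S1323
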