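import Groth.Statements.S4621
import Mathlib
import Groth.Agent.S2502
import Groth.Agent.Lib.helper7.RedSub

set_option autoImplicit false
open CategoryTheory AlgebraicGeometry
universe u
open FBase

namespace Groth.Agent.S4621

section Aux
open CategoryTheory CategoryTheory.Limits AlgebraicGeometry TensorProduct

theorem hpb {X Y S T : Scheme.{u}} (g : Y ⟶ X) (f : X ⟶ S) (b : T ⟶ S) :
    IsPullback (pullback.lift (pullback.fst (g ≫ f) b ≫ g) (pullback.snd (g ≫ f) b)
      (by rw [Category.assoc, pullback.condition])) (pullback.fst (g ≫ f) b) (pullback.fst f b) g := by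
  refine IsPullback.of_right (h₁₂ := pullback.snd f b) (h₂₂ := f) (v₁₃ := b) ?_ ?_
    (IsPullback.of_hasPullback f b).flip
  · rw [pullback.lift_snd]
    exact (IsPullback.of_hasPullback (g ≫ f) b).flip
  · exact pullback.lift_fst _ _ _

theorem geomConn_of_homeo {Y' Y S : Scheme.{u}} (i : Y' ⟶ Y) [IsClosedImmersion i] [Surjective i]
    (g : Y ⟶ S) [GeometricallyConnected g] : GeometricallyConnected (i ≫ g) := by
  refine ⟨geometrically_iff_of_isClosedUnderIsomorphisms.mpr fun K _ x ↦ ?_⟩
  show ConnectedSpace ↥(pullback (i ≫ g) x)
  rw [← (pullbackRightPullbackFstIso g x i).hom.homeomorph.connectedSpace_iff]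
  have hh : IsHomeomorph (pullback.snd i (pullback.fst g x)) := by
    rw [isHomeomorph_iff_isEmbedding_surjective]
    exact ⟨(pullback.snd i (pullback.fst g x)).isEmbedding, (pullback.snd i (pullback.fst g x)).surjective⟩
  rw [hh.homeomorph.connectedSpace_iff]
  exact GeometricallyConnected.geometrically_connectedSpace (f := g) x _ _
      (IsPullback.of_hasPullback g x)

theorem main {k K : Type u} [Field k] [Field K] [Algebra k K]
    {X Y : Scheme.{u}} (f : X ⟶ Spec (CommRingCat.of k)) (g : Y ⟶ Spec (CommRingCat.of k)) (h : Y ⟶ X) (w : h ≫ f = g)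
    [GeometricallyConnected g] (y : Y) :
    _root_.IsConnected (⇑(FBase.bcπ f K) ⁻¹' connectedComponent (h y)) := by
  set T : TopologicalSpace.Closeds X := ⟨connectedComponent (h y), isClosed_connectedComponent⟩ with hT
  set I := Scheme.IdealSheafData.vanishingIdeal T with hI
  set ι := I.subschemeι with hι
  have hrange : Set.range ι = connectedComponent (h y) :=
    Groth.Agent.Lib.helper7.RedSub.range_subschemeι_vanishingIdeal T
  -- Y is connected, so h maps it into the component
  haveI : ConnectedSpace Y := GeometricallyConnected.connectedSpace_of_subsingleton (f := g)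
  have hsub : Set.range h ⊆ Set.range ι := by
    rw [hrange]
    exact (isPreconnected_range h.continuous).subset_connectedComponent ⟨y, rfl⟩
  -- the pullback Y' → Y
  set p1 := pullback.fst h ι with hp1
  set h' := pullback.snd h ι with hh'
  haveI : Surjective p1 := by
    rw [surjective_iff, ← Set.range_eq_univ, hp1, Scheme.Pullback.range_fst]
    rw [Set.eq_univ_iff_forall]
    intro a
    exact hsub ⟨a, rfl⟩
  haveI : GeometricallyConnected (p1 ≫ g) := geomConn_of_homeo p1 g
  haveI : Nonempty ↥(pullback h ι) := by
    obtain ⟨a, ha⟩ := p1.surjective y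
    exact ⟨a⟩
  haveI : ConnectedSpace I.subscheme := by
    haveI : Nonempty I.subscheme := ⟨h' (Classical.arbitrary _)⟩
    rw [connectedSpace_iff_univ]
    refine ⟨Set.univ_nonempty, ?_⟩
    rw [← ι.isEmbedding.isInducing.isPreconnected_image, Set.image_univ, hrange]
    exact isPreconnected_connectedComponent
  have hcomp : h' ≫ (ι ≫ f) = p1 ≫ g := by
    rw [← w, ← Category.assoc, ← Category.assoc, pullback.condition]
  haveI : GeometricallyConnected (h' ≫ (ι ≫ f)) := by rw [hcomp]; infer_instance
  haveI : GeometricallyConnected (ι ≫ f) := Groth.Agent.S2502.result h' (ι ≫ f)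
  set bK := Spec.map (CommRingCat.ofHom (algebraMap k K)) with hbK
  haveI : ConnectedSpace ↥(pullback (ι ≫ f) bK) :=
    GeometricallyConnected.geometrically_connectedSpace (f := ι ≫ f) bK _ _
      (IsPullback.of_hasPullback (ι ≫ f) bK)
  have hP := hpb ι f bK
  have himg := Scheme.image_preimage_eq_of_isPullback hP.flip Set.univ
  rw [Set.preimage_univ, Set.image_univ, Set.image_univ, hrange] at himg
  show _root_.IsConnected (⇑(pullback.fst f bK) ⁻¹' connectedComponent (h y))
  rw [← himg]
  exact isConnected_range (Scheme.Hom.continuous _)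

end Aux

/-- Let h : Y → X be a morphism of schemes over a field k, with Y nonempty and geometrically connected
over k. Then the connected component of X containing the (connected) image h(Y) is geometrically
connected: for every extension field K of k, the inverse image in X ⊗_k K of the connected component
of h(y), for a point y of Y, is connected. -/
theorem result {k K : Type u} [Field k] [Field K] [Algebra k K]
    {X Y : Scheme.{u}} (f : X ⟶ Spec (CommRingCat.of k)) (g : Y ⟶ Spec (CommRingCat.of k)) (h : Y ⟶ X) (w : h ≫ f = g)
    [GeometricallyConnected g] (y : Y) :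
    _root_.IsConnected (⇑(FBase.bcπ f K) ⁻¹' connectedComponent (h y)) := by
  exact main f g h w y

end Groth.Agent.S4621
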