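import Groth.Statements.S1324
import Mathlib
import Groth.Agent.S4621
import Groth.Agent.S5342

set_option autoImplicit false
universe u
open FlatMor

namespace Groth.Agent.S1324

section Aux
open CategoryTheory CategoryTheory.Limits AlgebraicGeometry TensorProduct

theorem key {X Y X' Y' : Scheme.{u}} (f : X ⟶ Y) (s : Y ⟶ X) (hs : s ≫ f = 𝟙 Y)
    (f' : X' ⟶ Y') (g' : X' ⟶ X) (g : Y' ⟶ Y) (hc : IsPullback g' f' f g)
    (s' : Y' ⟶ X') (hs' : s' ≫ f' = 𝟙 Y') (hs'g : s' ≫ g' = g ≫ s) (y' : Y') (x' : X')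
    (hx' : f' x' = y')
    (hmem : g' x' ∈ connectedComponentIn (f ⁻¹' {g y'}) (s (g y'))) :
    x' ∈ connectedComponentIn (f' ⁻¹' {y'}) (s' y') := by
  set y := g y' with hy
  set ι := f.fiberι y with hι
  set ι' := f'.fiberι y' with hι'
  -- the section of the fibre
  set σ : Spec (Y.residueField y) ⟶ f.fiber y :=
    pullback.lift (Y.fromSpecResidueField y ≫ s) (𝟙 _) (by rw [Category.assoc, hs]; simp) with hσ
  have hσ1 : σ ≫ f.fiberToSpecResidueField y = 𝟙 _ := pullback.lift_snd _ _ _
  have hσ2 : σ ≫ ι = Y.fromSpecResidueField y ≫ s := pullback.lift_fst _ _ _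
  set pt : Spec (Y.residueField y) := IsLocalRing.closedPoint (Y.residueField y) with hpt
  set x₀ := σ pt with hx₀
  have hιx₀ : ι x₀ = s y := by
    rw [hx₀, ← Scheme.Hom.comp_apply, hσ2, Scheme.Hom.comp_apply, Scheme.fromSpecResidueField_apply]
  letI : Algebra (Y.residueField y) (Y'.residueField y') := (g.residueFieldMap y').hom.toAlgebra
  haveI : GeometricallyConnected (𝟙 (Spec (Y.residueField y))) :=
    Groth.Agent.S5342.geomConn_of_isIso _
  have hconn := Groth.Agent.S4621.main (k := Y.residueField y) (K := Y'.residueField y')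
    (f.fiberToSpecResidueField y) (𝟙 _) σ hσ1 pt
  -- the fibre square
  obtain ⟨m, hmι, hP⟩ : ∃ m : f'.fiber y' ⟶ f.fiber y, m ≫ ι = ι' ≫ g' ∧
      IsPullback m (f'.fiberToSpecResidueField y') (f.fiberToSpecResidueField y)
        (Spec.map (g.residueFieldMap y')) :=
    ⟨_, pullback.lift_fst _ _ _, isPullback_fiberToSpecResidueField_of_isPullback hc y'⟩
  set e := hP.isoPullback with he
  have he1 : e.hom ≫ pullback.fst _ _ = m := hP.isoPullback_hom_fst
  -- D' := m⁻¹ (component of x₀) is connected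
  have hD : _root_.IsConnected (m ⁻¹' connectedComponent x₀) := by
    have : (m ⁻¹' connectedComponent x₀ : Set ↥(f'.fiber y')) =
        e.hom ⁻¹' ((pullback.fst (f.fiberToSpecResidueField y)
          (Spec.map (g.residueFieldMap y'))) ⁻¹' connectedComponent x₀) := by
      ext a
      simp only [Set.mem_preimage, ← he1, Scheme.Hom.comp_apply]
    rw [this]
    exact (e.hom.homeomorph.isConnected_preimage).2 hconn
  have hF : Set.range ι = f ⁻¹' {y} := f.range_fiberι y
  have hF' : Set.range ι' = f' ⁻¹' {y'} := f'.range_fiberι y'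
  obtain ⟨a', ha'⟩ : x' ∈ Set.range ι' := by rw [hF']; exact hx'
  have hsy : s y ∈ f ⁻¹' {y} := by
    show f (s y) = y
    rw [← Scheme.Hom.comp_apply, hs]; rfl
  have hs'y : s' y' ∈ f' ⁻¹' {y'} := by
    show f' (s' y') = y'
    rw [← Scheme.Hom.comp_apply, hs']; rfl
  obtain ⟨b', hb'⟩ : s' y' ∈ Set.range ι' := by rw [hF']; exact hs'y
  have hιm : ∀ a, ι (m a) = g' (ι' a) := fun a => by
    rw [← Scheme.Hom.comp_apply, hmι, Scheme.Hom.comp_apply]
  -- ι⁻¹ C is preconnected and contains x₀
  set C := connectedComponentIn (f ⁻¹' {y}) (s y) with hC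
  have hCsub : C ⊆ Set.range ι := by rw [hF]; exact connectedComponentIn_subset _ _
  have hpre : _root_.IsPreconnected (ι ⁻¹' C) := by
    rw [← ι.isEmbedding.isInducing.isPreconnected_image, Set.image_preimage_eq_inter_range,
      Set.inter_eq_left.2 hCsub]
    exact isPreconnected_connectedComponentIn
  have hx₀C : x₀ ∈ ι ⁻¹' C := by
    show ι x₀ ∈ C
    rw [hιx₀]
    exact mem_connectedComponentIn hsy
  have hsubCC : ι ⁻¹' C ⊆ connectedComponent x₀ := hpre.subset_connectedComponent hx₀C
  have ha'D : a' ∈ m ⁻¹' connectedComponent x₀ := by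
    apply hsubCC
    show ι (m a') ∈ C
    rw [hιm, ha']
    exact hmem
  have hmb' : m b' = x₀ := by
    apply ι.isEmbedding.injective
    rw [hιm, hb', hιx₀, ← Scheme.Hom.comp_apply, hs'g, Scheme.Hom.comp_apply]
  have hb'D : b' ∈ m ⁻¹' connectedComponent x₀ := by
    show m b' ∈ connectedComponent x₀
    rw [hmb']
    exact mem_connectedComponent
  have himg : _root_.IsPreconnected (ι' '' (m ⁻¹' connectedComponent x₀)) :=
    hD.isPreconnected.image _ ι'.continuous.continuousOn
  have hsub := himg.subset_connectedComponentIn (x := s' y') (F := f' ⁻¹' {y'})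
    ⟨b', hb'D, hb'⟩ (by rw [← hF']; exact Set.image_subset_range _ _)
  exact hsub ⟨a', ha'D, ha'⟩

theorem main {X Y X' Y' : Scheme.{u}} (f : X ⟶ Y) (s : Y ⟶ X) (hs : s ≫ f = 𝟙 Y)
    (f' : X' ⟶ Y') (g' : X' ⟶ X) (g : Y' ⟶ Y) (hc : IsPullback g' f' f g)
    (s' : Y' ⟶ X') (hs' : s' ≫ f' = 𝟙 Y') (hs'g : s' ≫ g' = g ≫ s) :
    MoreMor.sectionComponents f' s' = g' ⁻¹' MoreMor.sectionComponents f s := by
  ext x'
  show x' ∈ connectedComponentIn (f' ⁻¹' {f' x'}) (s' (f' x')) ↔
    g' x' ∈ connectedComponentIn (f ⁻¹' {f (g' x')}) (s (f (g' x')))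
  have hcomm : ∀ a, f (g' a) = g (f' a) := fun a => by
    rw [← Scheme.Hom.comp_apply, hc.w, Scheme.Hom.comp_apply]
  rw [hcomm x']
  set y' := f' x' with hy'
  constructor
  · intro hx
    have hs'y : s' y' ∈ f' ⁻¹' {y'} := by
      show f' (s' y') = y'
      rw [← Scheme.Hom.comp_apply, hs']; rfl
    have himg : _root_.IsPreconnected (g' '' connectedComponentIn (f' ⁻¹' {y'}) (s' y')) :=
      isPreconnected_connectedComponentIn.image _ g'.continuous.continuousOn
    have hsub := himg.subset_connectedComponentIn (x := s (g y')) (F := f ⁻¹' {g y'})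
      ⟨s' y', mem_connectedComponentIn hs'y, by
        rw [← Scheme.Hom.comp_apply, hs'g, Scheme.Hom.comp_apply]⟩ (by
        rintro _ ⟨a, ha, rfl⟩
        have := connectedComponentIn_subset _ _ ha
        show f (g' a) = g y'
        rw [hcomm a, this])
    exact hsub ⟨x', hx, rfl⟩
  · intro hx
    exact key f s hs f' g' g hc s' hs' hs'g y' x' rfl hx

end Aux

open AlgebraicGeometry CategoryTheory Limits in
/-- Let f have a section s and form, for every point of the target, the connected component of the fibre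
containing the value of the section; call the union of these the section components of (f, s). For
any base change of f with the induced section, the section components upstairs are exactly the
preimage of the section components downstairs. -/
theorem result {X Y X' Y' : Scheme.{u}} (f : X ⟶ Y) (s : Y ⟶ X) (hs : s ≫ f = 𝟙 Y)
    (f' : X' ⟶ Y') (g' : X' ⟶ X) (g : Y' ⟶ Y) (hc : IsPullback g' f' f g)
    (s' : Y' ⟶ X') (hs' : s' ≫ f' = 𝟙 Y') (hs'g : s' ≫ g' = g ≫ s) :
    MoreMor.sectionComponents f' s' = g' ⁻¹' MoreMor.sectionComponents f s := by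
  exact main f s hs f' g' g hc s' hs' hs'g

end Groth.Agent.S1324
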