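import Groth.Statements.S19427
import Mathlib.Tactic

set_option autoImplicit false
universe u
open MilnorK

namespace Groth.Agent.S19427

open MilK

section
variable {F : Type u} [Field F]

/-- the symbol as a function of two additive units -/
noncomputable def f (x y : Additive Fˣ) : MilK.K F 2 := MilK.mk F 2 (PiTensorProduct.tprod ℤ ![x, y])

theorem symbol_eq (a b : Fˣ) : (MilK.symbol ![a, b] : MilK.K F 2) = f (Additive.ofMul a) (Additive.ofMul b) := by
  unfold f MilK.symbol
  have : (fun i => Additive.ofMul ((![a, b] : Fin 2 → Fˣ) i)) = ![Additive.ofMul a, Additive.ofMul b] := by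
    funext i
    fin_cases i <;> rfl
  rw [this]

theorem f_add_left (x x' y : Additive Fˣ) : f (x + x') y = f x y + f x' y := by
  unfold f
  have h1 : (![x + x', y] : Fin 2 → Additive Fˣ) = Function.update ![x, y] 0 (x + x') := by
    funext i; fin_cases i <;> simp
  have h2 : (![x, y] : Fin 2 → Additive Fˣ) = Function.update ![x, y] 0 x := by
    funext i; fin_cases i <;> simp
  have h3 : (![x', y] : Fin 2 → Additive Fˣ) = Function.update ![x, y] 0 x' := by
    funext i; fin_cases i <;> simp
  rw [h1, (PiTensorProduct.tprod ℤ).map_update_add, map_add, ← h2, ← h3]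

theorem f_add_right (x y y' : Additive Fˣ) : f x (y + y') = f x y + f x y' := by
  unfold f
  have h1 : (![x, y + y'] : Fin 2 → Additive Fˣ) = Function.update ![x, y] 1 (y + y') := by
    funext i; fin_cases i <;> simp
  have h2 : (![x, y] : Fin 2 → Additive Fˣ) = Function.update ![x, y] 1 y := by
    funext i; fin_cases i <;> simp
  have h3 : (![x, y'] : Fin 2 → Additive Fˣ) = Function.update ![x, y] 1 y' := by
    funext i; fin_cases i <;> simp
  rw [h1, (PiTensorProduct.tprod ℤ).map_update_add, map_add, ← h2, ← h3]

/-- the symbol {a,b} -/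
noncomputable def S (a b : Fˣ) : MilK.K F 2 := MilK.symbol ![a, b]

theorem S_mul_left (a a' b : Fˣ) : S (a * a') b = S a b + S a' b := by
  unfold S; rw [symbol_eq, symbol_eq, symbol_eq, ofMul_mul, f_add_left]

theorem S_mul_right (a b b' : Fˣ) : S a (b * b') = S a b + S a b' := by
  unfold S; rw [symbol_eq, symbol_eq, symbol_eq, ofMul_mul, f_add_right]

theorem S_one_left (b : Fˣ) : S (1 : Fˣ) b = 0 := by
  have := S_mul_left (1 : Fˣ) 1 b
  rw [mul_one] at this
  exact left_eq_add.mp this

theorem S_one_right (a : Fˣ) : S a (1 : Fˣ) = 0 := by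
  have := S_mul_right a (1 : Fˣ) 1
  rw [mul_one] at this
  exact left_eq_add.mp this

theorem S_inv_left (a b : Fˣ) : S a⁻¹ b = - S a b := by
  have := S_mul_left a a⁻¹ b
  rw [mul_inv_cancel, S_one_left] at this
  exact eq_neg_of_add_eq_zero_right this.symm

theorem S_inv_right (a b : Fˣ) : S a b⁻¹ = - S a b := by
  have := S_mul_right a b b⁻¹
  rw [mul_inv_cancel, S_one_right] at this
  exact eq_neg_of_add_eq_zero_right this.symm

theorem S_steinberg (a b : Fˣ) (h : (a : F) + (b : F) = 1) : S a b = 0 := by
  unfold S
  apply MilK.symbol_eq_zero_of_isSteinberg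
  exact ⟨0, 1, by decide, by simpa using h⟩

theorem S_neg_self (a : Fˣ) : S a (-a) = 0 := by
  by_cases h1 : a = 1
  · subst h1; exact S_one_left _
  · have hne : (1 : F) - (a : F) ≠ 0 := by
      intro h; apply h1; ext; push_cast; linear_combination -h
    have hne' : (1 : F) - ((a⁻¹ : Fˣ) : F) ≠ 0 := by
      intro h; apply h1
      have : (a⁻¹ : Fˣ) = 1 := by ext; rw [Units.val_one]; linear_combination -h
      simpa using this
    set u : Fˣ := Units.mk0 _ hne with hu
    set v : Fˣ := Units.mk0 _ hne' with hv
    have huv : -a = u * v⁻¹ := by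
      ext
      simp only [Units.val_neg, Units.val_mul, Units.val_inv_eq_inv_val, hu, hv, Units.val_mk0]
      have ha : (a : F) ≠ 0 := a.ne_zero
      have hv' : (1 : F) - (a : F)⁻¹ ≠ 0 := by simpa using hne'
      have hv2 : (a : F) - 1 ≠ 0 := by intro h; apply hne; linear_combination -h
      have : (1 : F) - (a : F)⁻¹ = ((a : F) - 1) / a := by field_simp
      rw [this]
      field_simp
      ring
    rw [huv, S_mul_right, S_inv_right]
    have e1 : S a u = 0 := S_steinberg a u (by simp [hu])
    have e2 : S a⁻¹ v = 0 := S_steinberg a⁻¹ v (by simp [hv])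
    rw [S_inv_left] at e2
    rw [e1, neg_eq_zero.mp e2]; simp

theorem S_antisymm (a b : Fˣ) : S a b + S b a = 0 := by
  have h := S_neg_self (a * b)
  have e : -(a * b) = (-a) * b := by simp
  have e' : -(a * b) = a * (-b) := by simp
  rw [S_mul_left] at h
  nth_rewrite 1 [e] at h
  rw [e', S_mul_right, S_mul_right, S_neg_self, S_neg_self] at h
  simpa using h

theorem S_self (a : Fˣ) : S a a = S a (-1) := by
  have h := S_neg_self a
  have e : -a = a * (-1) := by simp
  rw [e, S_mul_right] at h
  have h2 : S a (-1 : Fˣ) + S a (-1 : Fˣ) = 0 := by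
    have := S_mul_right a (-1) (-1)
    rw [show (-1 : Fˣ) * (-1) = 1 by simp, S_one_right] at this
    exact this.symm
  have : S a a = - S a (-1 : Fˣ) := eq_neg_of_add_eq_zero_left h
  rw [this]; exact (eq_neg_of_add_eq_zero_left h2).symm

end

/-- For a field F and nonzero b, c with b + c ≠ 0, in the Milnor K-group K_2(F) one has {b, c} + {b + c,
-b/c} = 0, that is {b, c} = -{b + c, -b/c} = {b + c, -c/b}. (The identity as displayed in the source
is {b, c} = {b + c, -b/c}, which differs from this by a sign and fails in general: for b = 3, c = 5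
over the rationals the tame symbol at 5 takes the values 3 and 1/3 on the two sides; the
accompanying derivation from the Steinberg relation b/(b+c) + c/(b+c) = 1 gives exactly the identity
stated here.) -/
theorem result (F : Type u) [Field F] (b c : Fˣ)
    (h : (b : F) + (c : F) ≠ 0) :
    (MilK.symbol ![b, c] : MilK.K F 2) + MilK.symbol ![Units.mk0 ((b : F) + (c : F)) h, -(b / c)] = 0 := by
  have hb : (b : F) ≠ 0 := b.ne_zero
  have hc : (c : F) ≠ 0 := c.ne_zero
  set s : Fˣ := Units.mk0 ((b : F) + (c : F)) h with hs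
  have hst : S (b * s⁻¹) (c * s⁻¹) = 0 := by
    apply S_steinberg
    simp only [Units.val_mul, Units.val_inv_eq_inv_val, hs, Units.val_mk0]
    field_simp
  rw [S_mul_left, S_mul_right, S_mul_right, S_inv_left, S_inv_left, S_inv_right, S_inv_right,
    S_self] at hst
  have e : -(b / c) = b * c⁻¹ * (-1) := by simp [div_eq_mul_inv]
  change S b c + S s (-(b / c)) = 0
  rw [e, S_mul_right, S_mul_right, S_inv_right]
  have h1 := S_antisymm b s
  have hbs : S b s = - S s b := eq_neg_of_add_eq_zero_left h1
  rw [hbs] at hst
  simp only [neg_neg] at hst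
  have h2 : S s (-1 : Fˣ) + S s (-1 : Fˣ) = 0 := by
    have := S_mul_right s (-1) (-1)
    rw [show (-1 : Fˣ) * (-1) = 1 by simp, S_one_right] at this
    exact this.symm
  -- hst : S b c + -(-S s b) ... let's finish by abel-like reasoning
  rw [← hst]; abel

end Groth.Agent.S19427
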