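import Groth.Statements.S13341
import Mathlib
open AlgebraicGeometry

set_option autoImplicit false
open CategoryTheory
universe u
open FCompl

namespace Groth.Agent.S13341

open CategoryTheory.Limits in
theorem graph_isPullback {C : Type*} [Category C] [HasPullbacks C] {Xn Xm Yn Ym Sn Sm : C}
    (a : Xn ⟶ Xm) (b : Yn ⟶ Ym) (c : Sn ⟶ Sm) [Mono b]
    (pn : Xn ⟶ Sn) (qn : Yn ⟶ Sn) (pm : Xm ⟶ Sm) (qm : Ym ⟶ Sm) (fn : Xn ⟶ Yn) (fm : Xm ⟶ Ym)
    (hp : pn ≫ c = a ≫ pm) (hq : qn ≫ c = b ≫ qm) (hf : fn ≫ b = a ≫ fm)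
    (wn : 𝟙 Xn ≫ pn = fn ≫ qn) (wm : 𝟙 Xm ≫ pm = fm ≫ qm) :
    IsPullback a (pullback.lift (𝟙 _) fn wn) (pullback.lift (𝟙 _) fm wm)
      (pullback.map pn qn pm qm a b c hp hq) := by
  refine ⟨⟨?_⟩, ⟨PullbackCone.IsLimit.mk _ (fun s => s.snd ≫ pullback.fst _ _) ?_ ?_ ?_⟩⟩
  · apply pullback.hom_ext
    · simp only [pullback.map, Category.assoc, pullback.lift_fst, pullback.lift_fst_assoc,
        Category.id_comp, Category.comp_id]
    · simp only [pullback.map, Category.assoc, pullback.lift_snd, pullback.lift_snd_assoc,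
        Category.id_comp, Category.comp_id, hf]
  · intro s
    have h1 := s.condition =≫ pullback.fst _ _
    simp only [pullback.map, Category.assoc, pullback.lift_fst, Category.comp_id] at h1
    rw [Category.assoc]
    exact h1.symm
  · intro s
    have h1 := s.condition =≫ pullback.fst _ _
    have h2 := s.condition =≫ pullback.snd _ _
    simp only [pullback.map, Category.assoc, pullback.lift_fst, pullback.lift_snd,
      Category.comp_id] at h1 h2
    apply pullback.hom_ext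
    · simp only [Category.assoc, pullback.lift_fst, Category.comp_id]
    · simp only [Category.assoc, pullback.lift_snd]
      rw [← cancel_mono b, Category.assoc, Category.assoc, hf, Category.assoc, ← h2, h1, Category.assoc, Category.assoc]
  · intro s m hm1 hm2
    have := hm2 =≫ pullback.fst _ _
    simp only [Category.assoc, pullback.lift_fst, Category.comp_id] at this
    exact this

open AlgebraicGeometry in
/-- Formal schemes are presented as locally Noetherian adic systems of thickenings and the fibre product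
is taken levelwise (it presents the fibre product of formal schemes since one factor is adic over
the base). Let 𝔖 be a locally Noetherian formal system, 𝔛 and 𝔜 locally Noetherian formal systems
over 𝔖 such that 𝔛 or 𝔜 is of finite type over 𝔖, and 𝔜 separated over 𝔖 at level 0. Then for every
𝔖-morphism f : 𝔛 → 𝔜 the graph morphism 𝔛 → 𝔛 ×_𝔖 𝔜 is a closed immersion: adic, with level 0 a
closed immersion. -/
theorem result {𝔛 𝔜 𝔖 : FSch.Sys.{u}} (h𝔖 : 𝔖.IsLocNoethFormal) (h𝔛 : 𝔛.IsLocNoethFormal)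
    (h𝔜 : 𝔜.IsLocNoethFormal) (p : 𝔛 ⟶ 𝔖) (q : 𝔜 ⟶ 𝔖) (hpq : FSch.IsFiniteTypeHom p ∨ FSch.IsFiniteTypeHom q)
    (hq : IsSeparated ((q : FSch.Hom 𝔜 𝔖).app 0)) (f : 𝔛 ⟶ 𝔜) (w : f ≫ q = p) :
    FSch.IsClosedImmHom (FSch.graph f p q w) := by
  refine ⟨?_, ?_⟩
  · intro n
    haveI : IsClosedImmersion (𝔜.ι n) := (h𝔜.1 n).1
    exact graph_isPullback (𝔛.ι n) (𝔜.ι n) (𝔖.ι n) _ _ _ _ _ _ ((p : FSch.Hom 𝔛 𝔖).comm n)
      ((q : FSch.Hom 𝔜 𝔖).comm n) ((f : FSch.Hom 𝔛 𝔜).comm n) _ _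
  · change IsClosedImmersion (Limits.pullback.lift (𝟙 _) ((f : FSch.Hom 𝔛 𝔜).app 0) _)
    haveI : IsSeparated ((q : FSch.Hom 𝔜 𝔖).app 0) := hq
    haveI : IsClosedImmersion (Limits.pullback.lift (𝟙 _) ((f : FSch.Hom 𝔛 𝔜).app 0)
        (by rw [Category.id_comp, ← FSch.comp_app, w]) ≫
        Limits.pullback.fst ((p : FSch.Hom 𝔛 𝔖).app 0) ((q : FSch.Hom 𝔜 𝔖).app 0)) := by
      rw [Limits.pullback.lift_fst]; infer_instance
    exact IsClosedImmersion.of_comp _ (Limits.pullback.fst ((p : FSch.Hom 𝔛 𝔖).app 0) ((q : FSch.Hom 𝔜 𝔖).app 0))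

end Groth.Agent.S13341
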