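import Groth.Statements.S13342
import Mathlib
open AlgebraicGeometry

set_option autoImplicit false
open CategoryTheory CategoryTheory.Limits
universe u
open FCompl

namespace Groth.Agent.S13342

open AlgebraicGeometry in
theorem resLE_ker_ideal {X Y : Scheme.{u}} (g : X ⟶ Y) [QuasiCompact g] (W : Y.Opens) (V : X.Opens)
    (hV : V = g ⁻¹ᵁ W) (O : W.toScheme.affineOpens) :
    (g.resLE W V hV.le).ker.ideal O = g.ker.ideal ⟨W.ι ''ᵁ O, O.2.image_of_isOpenImmersion _⟩ := by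
  subst hV
  rw [Scheme.Hom.resLE_eq_morphismRestrict]
  exact Scheme.ker_morphismRestrict_ideal g W O

open AlgebraicGeometry in
theorem resLE_isClosedImmersion {X Y : Scheme.{u}} (g : X ⟶ Y) [IsClosedImmersion g] (W : Y.Opens) (V : X.Opens)
    (hV : V = g ⁻¹ᵁ W) : IsClosedImmersion (g.resLE W V hV.le) := by
  subst hV
  rw [Scheme.Hom.resLE_eq_morphismRestrict]
  exact IsZariskiLocalAtTarget.restrict (P := @IsClosedImmersion) ‹_› _

open AlgebraicGeometry in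
theorem lvU_toX (𝔛 : FSch.Sys.{u}) (h : 𝔛.IsFormal) (U : (𝔛.X 0).Opens) (n : ℕ) :
    (𝔛.toX n) ⁻¹ᵁ (𝔛.lvU h n U) = U := by
  change (TopologicalSpace.Opens.map ((𝔛.toX n).base ≫ 𝔛.gInv h n)).obj U = U
  rw [𝔛.toX_base_gInv h n]
  rfl

open AlgebraicGeometry in
theorem lvU_zero (𝔛 : FSch.Sys.{u}) (h : 𝔛.IsFormal) (U : (𝔛.X 0).Opens) :
    𝔛.lvU h 0 U = U := by
  have := lvU_toX 𝔛 h U 0
  simpa [FSch.Sys.toX] using this

open AlgebraicGeometry in
theorem lvU_zero_eq (𝔛 : FSch.Sys.{u}) (h : 𝔛.IsFormal) (U : (𝔛.X 0).Opens) (n : ℕ) :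
    𝔛.lvU h 0 U = (𝔛.toX n) ⁻¹ᵁ (𝔛.lvU h n U) := by
  rw [lvU_toX, lvU_zero]

open AlgebraicGeometry in
theorem toX_restrict (𝔛 : FSch.Sys.{u}) (h : 𝔛.IsFormal) (U : (𝔛.X 0).Opens) (n : ℕ) :
    (𝔛.restrictOpen h U).toX n =
      (𝔛.toX n).resLE (𝔛.lvU h n U) (𝔛.lvU h 0 U) (lvU_zero_eq 𝔛 h U n).le := by
  induction n with
  | zero =>
    change 𝟙 _ = Scheme.Hom.resLE (𝟙 (𝔛.X 0)) _ _ _
    rw [Scheme.Hom.resLE_id]
    exact (Scheme.homOfLE_rfl _ _).symm
  | succ n ih =>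
    have key := Scheme.Hom.resLE_comp_resLE (𝔛.toX n) (lvU_zero_eq 𝔛 h U n).le (𝔛.ι n) (𝔛.lvU_le h n U)
    change (𝔛.restrictOpen h U).toX n ≫ (𝔛.ι n).resLE _ _ _ = (𝔛.toX n ≫ 𝔛.ι n).resLE _ _ _
    rw [ih]
    exact key


open AlgebraicGeometry in
theorem adic_aux (𝔛 : FSch.Sys.{u}) (h : 𝔛.IsFormal) (hadic : 𝔛.IsAdic) (U : (𝔛.X 0).Opens) (n : ℕ) :
    ((𝔛.restrictOpen h U).ι n).ker = ((𝔛.restrictOpen h U).toX (n + 1)).ker ^ (n + 1) := by
  haveI := (h n).1
  haveI := 𝔛.toX_isClosedImmersion h (n + 1)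
  rw [toX_restrict 𝔛 h U (n + 1)]
  change (Scheme.Hom.resLE (𝔛.ι n) (𝔛.lvU h (n + 1) U) (𝔛.lvU h n U) (𝔛.lvU_le h n U)).ker =
    (Scheme.Hom.resLE (𝔛.toX (n + 1)) (𝔛.lvU h (n + 1) U) (𝔛.lvU h 0 U) (lvU_zero_eq 𝔛 h U (n + 1)).le).ker ^ (n + 1)
  apply AlgebraicGeometry.Scheme.IdealSheafData.ext
  funext O
  rw [AlgebraicGeometry.Scheme.IdealSheafData.ideal_pow, Pi.pow_apply,
    resLE_ker_ideal (𝔛.ι n) _ _ (𝔛.lvU_succ h n U).symm O,
    resLE_ker_ideal (𝔛.toX (n + 1)) _ _ (lvU_zero_eq 𝔛 h U (n + 1)) O, hadic n,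
    AlgebraicGeometry.Scheme.IdealSheafData.ideal_pow, Pi.pow_apply]
  rfl


open AlgebraicGeometry in
/-- The formal prescheme induced on an open subset of a formal prescheme (resp. of a locally Noetherian
formal prescheme, resp. of a Noetherian formal prescheme) is a formal prescheme (resp. a locally
Noetherian formal prescheme, resp. a Noetherian formal prescheme). In the presentation by systems of
thickenings with common underlying space: for an open U, the induced system (the open subschemes of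
the levels over U with the restricted transition maps) is again a system of thickenings; it is adic
with locally Noetherian levels when the given system is; and if moreover the common underlying space
is quasi-compact (a Noetherian formal prescheme), so is that of the induced system. -/
theorem result (𝔛 : FSch.Sys.{u}) (h : 𝔛.IsFormal) (U : (𝔛.X 0).Opens) :
    (𝔛.restrictOpen h U).IsFormal ∧ (𝔛.IsLocNoethFormal → (𝔛.restrictOpen h U).IsLocNoethFormal) ∧
      (𝔛.IsLocNoethFormal → CompactSpace (𝔛.X 0) → CompactSpace ((𝔛.restrictOpen h U).X 0)) := by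
  have hF : (𝔛.restrictOpen h U).IsFormal := by
    intro n
    haveI := (h n).1
    refine ⟨resLE_isClosedImmersion (𝔛.ι n) _ _ (𝔛.lvU_succ h n U).symm, ?_⟩
    intro y
    obtain ⟨x, hx⟩ := (h n).2 y.1
    have hxU : x ∈ 𝔛.lvU h n U := by
      rw [← 𝔛.lvU_succ h n U]
      change (𝔛.ι n).base x ∈ 𝔛.lvU h (n + 1) U
      rw [hx]; exact y.2
    refine ⟨⟨x, hxU⟩, ?_⟩
    apply Subtype.ext
    change (((𝔛.ι n).resLE (𝔛.lvU h (n + 1) U) (𝔛.lvU h n U) (𝔛.lvU_le h n U)) ⟨x, hxU⟩).1 = y.1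
    rw [Scheme.Hom.coe_resLE_apply]
    exact hx
  refine ⟨hF, ?_, ?_⟩
  · rintro ⟨-, hadic, hN⟩
    refine ⟨hF, ?_, ?_⟩
    · intro n
      exact adic_aux 𝔛 h hadic U n
    · intro n
      haveI := hN n
      change IsLocallyNoetherian (𝔛.lvU h n U).toScheme
      infer_instance
  · rintro ⟨-, -, hN⟩ hc
    haveI := hN 0
    haveI : IsNoetherian (𝔛.X 0) := { }
    change CompactSpace (𝔛.lvU h 0 U).toScheme
    exact isCompact_iff_compactSpace.mp (TopologicalSpace.NoetherianSpace.isCompact _)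

end Groth.Agent.S13342
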