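import Groth.Statements.S13356
import Groth.Agent.Lib.helper13.GaChar

set_option autoImplicit false
universe u
open GaDual

namespace Groth.Agent.S13356

/-- Over a commutative algebra A over the rationals, the polynomials f with f(0) = 1 and f(X+Y) =
f(X)f(Y) (the characters of the additive group into the multiplicative group over A) are exactly the
polynomials exp(aX) with a in A nilpotent. -/
theorem result (A : Type u) [CommRing A] [Algebra ℚ A] (f : Polynomial A) :
    (f.eval 0 = 1 ∧
      Polynomial.aeval (MvPolynomial.X 0 + MvPolynomial.X 1 : MvPolynomial (Fin 2) A) f =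
        Polynomial.aeval (MvPolynomial.X 0 : MvPolynomial (Fin 2) A) f *
          Polynomial.aeval (MvPolynomial.X 1 : MvPolynomial (Fin 2) A) f) ↔
      ∃ a : A, IsNilpotent a ∧ (f : PowerSeries A) = PowerSeries.rescale a (PowerSeries.exp A) := by
  rw [Groth.Agent.Lib.helper13.GaChar.poly_mult_iff_coeff, ← Polynomial.coeff_zero_eq_eval_zero]
  rw [Groth.Agent.Lib.helper13.GaChar.seq_char0 (A := A) f.coeff]
  constructor
  · rintro ⟨a, ha⟩
    refine ⟨a, ?_, ?_⟩
    · refine ⟨f.natDegree + 1, ?_⟩
      have h0 : f.coeff (f.natDegree + 1) = 0 :=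
        Polynomial.coeff_eq_zero_of_natDegree_lt (Nat.lt_succ_self _)
      rw [ha] at h0
      have hne : (((f.natDegree + 1).factorial : ℕ) : ℚ) ≠ 0 := by positivity
      calc a ^ (f.natDegree + 1)
          = a ^ (f.natDegree + 1) * algebraMap ℚ A (1 / ((f.natDegree + 1).factorial : ℚ)) *
              algebraMap ℚ A ((f.natDegree + 1).factorial : ℚ) := by
            rw [mul_assoc, ← map_mul, one_div, inv_mul_cancel₀ hne, map_one, mul_one]
        _ = 0 := by rw [h0, zero_mul]
    · ext n
      rw [Polynomial.coeff_coe, ha, PowerSeries.coeff_rescale, PowerSeries.coeff_exp]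
  · rintro ⟨a, -, ha⟩
    refine ⟨a, fun n => ?_⟩
    rw [← Polynomial.coeff_coe, ha, PowerSeries.coeff_rescale, PowerSeries.coeff_exp]

end Groth.Agent.S13356
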