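import Groth.Statements.S13360
import Mathlib

set_option autoImplicit false
universe u
open UltraProd

namespace Groth.Agent.S13360

section
variable {ι : Type u} (R : ι → Type u) [∀ i, CommRing (R i)] [∀ i, IsDomain (R i)]
  (P : Ideal (∀ i, R i)) [P.IsPrime]

set_option linter.unusedSectionVars false

open Classical in
/-- The indicator idempotent of a predicate on the index set. -/
noncomputable def ind (p : ι → Prop) : ∀ i, R i := fun i => if p i then 1 else 0

theorem ind_apply_pos {p : ι → Prop} {i : ι} (h : p i) : ind R p i = 1 := by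
  simp [ind, h]

theorem ind_apply_neg {p : ι → Prop} {i : ι} (h : ¬ p i) : ind R p i = 0 := by
  simp [ind, h]

/-- If `e * f = 0` with `e ∉ P`, then `f` maps to zero in the localization. -/
theorem map_eq_zero_of_mul {e f : ∀ i, R i} (he : e ∉ P) (h : e * f = 0) :
    algebraMap (∀ i, R i) (Localization.AtPrime P) f = 0 := by
  rw [IsLocalization.map_eq_zero_iff P.primeCompl]
  exact ⟨⟨e, he⟩, h⟩

theorem ind_or (p : ι → Prop) : ind R p ∉ P ∨ ind R (fun i => ¬ p i) ∉ P := by
  by_contra hcon
  push Not at hcon
  have h1 : ind R p + ind R (fun i => ¬ p i) = 1 := by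
    funext i
    by_cases hp : p i
    · simp [ind, hp]
    · simp [ind, hp]
  have : (1 : ∀ i, R i) ∈ P := h1 ▸ P.add_mem hcon.1 hcon.2
  exact (Ideal.ne_top_iff_one P).mp (Ideal.IsPrime.ne_top ‹_›) this

theorem ind_mul_not (p : ι → Prop) : ind R p * ind R (fun i => ¬ p i) = 0 := by
  funext i
  by_cases hp : p i
  · simp [ind, hp]
  · simp [ind, hp]

/-- If the support idempotent of `z` lies in `P`, then `z` maps to zero. -/
theorem map_eq_zero_of_ind_mem (z : ∀ i, R i) (hz : ind R (fun i => z i ≠ 0) ∈ P) :
    algebraMap (∀ i, R i) (Localization.AtPrime P) z = 0 := by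
  have hnot : ind R (fun i => ¬ (z i ≠ 0)) ∉ P := by
    rcases ind_or R P (fun i => z i ≠ 0) with h1 | h1
    · exact absurd hz h1
    · exact h1
  apply map_eq_zero_of_mul R P hnot
  funext i
  by_cases hi : z i = 0
  · simp [hi]
  · simp [ind, hi]

/-- The key zero-divisor statement: if `u * (x * y) = 0` with `u ∉ P`, then `x` or `y` is killed
by an element outside `P`. -/
theorem key (u x y : ∀ i, R i) (hu : u ∉ P) (h : u * (x * y) = 0) :
    algebraMap (∀ i, R i) (Localization.AtPrime P) x = 0 ∨
      algebraMap (∀ i, R i) (Localization.AtPrime P) y = 0 := by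
  have hprod : ind R (fun i => u i ≠ 0) * (ind R (fun i => x i ≠ 0) * ind R (fun i => y i ≠ 0)) = 0 := by
    funext i
    have hi := congrFun h i
    simp only [Pi.mul_apply, Pi.zero_apply, mul_eq_zero] at hi
    rcases hi with hi | hi | hi
    · simp [ind, hi]
    · simp [ind, hi]
    · simp [ind, hi]
  have hmem : ind R (fun i => u i ≠ 0) * (ind R (fun i => x i ≠ 0) * ind R (fun i => y i ≠ 0)) ∈ P := by
    rw [hprod]; exact P.zero_mem
  have hu' : ind R (fun i => u i ≠ 0) ∉ P := by
    intro hmem'
    apply hu
    have : u = u * ind R (fun i => u i ≠ 0) := by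
      funext i
      by_cases hi : u i = 0
      · simp [ind, hi]
      · simp [ind, hi]
    rw [this]
    exact P.mul_mem_left _ hmem'
  rcases (Ideal.IsPrime.mem_or_mem ‹_› hmem) with h1 | h1
  · exact absurd h1 hu'
  · rcases (Ideal.IsPrime.mem_or_mem ‹_› h1) with h2 | h2
    · exact Or.inl (map_eq_zero_of_ind_mem R P x h2)
    · exact Or.inr (map_eq_zero_of_ind_mem R P y h2)

theorem isDomain_loc : IsDomain (Localization.AtPrime P) := by
  have : NoZeroDivisors (Localization.AtPrime P) := by
    constructor
    intro a b hab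
    obtain ⟨x, s, rfl⟩ := IsLocalization.exists_mk'_eq P.primeCompl a
    obtain ⟨y, t, rfl⟩ := IsLocalization.exists_mk'_eq P.primeCompl b
    rw [← IsLocalization.mk'_mul, IsLocalization.mk'_eq_zero_iff] at hab
    obtain ⟨m, hm⟩ := hab
    rcases key R P m x y m.2 hm with h | h
    · left
      rw [IsLocalization.mk'_eq_zero_iff]
      exact (IsLocalization.map_eq_zero_iff P.primeCompl _ x).mp h
    · right
      rw [IsLocalization.mk'_eq_zero_iff]
      exact (IsLocalization.map_eq_zero_iff P.primeCompl _ y).mp h
  exact NoZeroDivisors.to_isDomain _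

/-- if `e ∉ P` is the indicator of `p`, then it maps to `1`. -/
theorem map_ind_eq_one (p : ι → Prop) (h : ind R p ∉ P) :
    algebraMap (∀ i, R i) (Localization.AtPrime P) (ind R p) = 1 := by
  have h0 := map_eq_zero_of_mul R P h (ind_mul_not R p)
  have h1 : ind R p + ind R (fun i => ¬ p i) = 1 := by
    funext i
    by_cases hp : p i
    · simp [ind, hp]
    · simp [ind, hp]
  have := congrArg (algebraMap (∀ i, R i) (Localization.AtPrime P)) h1
  rw [map_add, h0, add_zero, map_one] at this
  exact this

end

/-- If (R_i) is a nonempty family of valuation rings, then the localization of the product ring ∏ R_i at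
any prime ideal is a valuation ring: a domain in which, of any two elements, one divides the other. -/
theorem result {ι : Type u} [Nonempty ι] (R : ι → Type u)
    [∀ i, CommRing (R i)] [∀ i, IsDomain (R i)] [∀ i, ValuationRing (R i)]
    (P : Ideal (∀ i, R i)) [P.IsPrime] :
    IsDomain (Localization.AtPrime P) ∧ PreValuationRing (Localization.AtPrime P) := by
  classical
  refine ⟨isDomain_loc R P, ⟨?_⟩⟩
  -- main divisibility claim for elements coming from the product
  have main : ∀ x y : ∀ i, R i, ind R (fun i => x i ∣ y i) ∉ P →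
      ∃ q : ∀ i, R i, algebraMap (∀ i, R i) (Localization.AtPrime P) y =
        algebraMap (∀ i, R i) (Localization.AtPrime P) x *
          algebraMap (∀ i, R i) (Localization.AtPrime P) q := by
    intro x y he
    let q : ∀ i, R i := fun i => if h : x i ∣ y i then h.choose else 0
    refine ⟨q, ?_⟩
    have h1 : ind R (fun i => x i ∣ y i) * y = x * q := by
      funext i
      by_cases hi : x i ∣ y i
      · have e1 : ind R (fun i => x i ∣ y i) i = 1 := ind_apply_pos R (p := fun i => x i ∣ y i) hi
        simp only [Pi.mul_apply, e1, one_mul, q, dif_pos hi]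
        exact hi.choose_spec
      · have e1 : ind R (fun i => x i ∣ y i) i = 0 := ind_apply_neg R (p := fun i => x i ∣ y i) hi
        simp only [Pi.mul_apply, e1, zero_mul, q, dif_neg hi, mul_zero]
    have := congrArg (algebraMap (∀ i, R i) (Localization.AtPrime P)) h1
    rw [map_mul, map_mul, map_ind_eq_one R P _ he, one_mul] at this
    exact this
  have hunit : ∀ s : P.primeCompl, IsUnit (algebraMap (∀ i, R i) (Localization.AtPrime P) s) :=
    fun s => IsLocalization.map_units _ s
  have step : ∀ (a b : Localization.AtPrime P) (x y : ∀ i, R i) (s t : P.primeCompl),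
      a * algebraMap (∀ i, R i) (Localization.AtPrime P) s = algebraMap _ _ x →
      b * algebraMap (∀ i, R i) (Localization.AtPrime P) t = algebraMap _ _ y →
      ind R (fun i => x i ∣ y i) ∉ P → ∃ c, a * c = b := by
    intro a b x y s t ha hb he
    obtain ⟨q, hq⟩ := main x y he
    obtain ⟨ut, hut⟩ := hunit t
    refine ⟨algebraMap _ _ (s : ∀ i, R i) * algebraMap _ _ q * ↑ut⁻¹, ?_⟩
    calc a * (algebraMap _ _ (s : ∀ i, R i) * algebraMap _ _ q * ↑ut⁻¹)
        = (a * algebraMap _ _ (s : ∀ i, R i)) * algebraMap _ _ q * ↑ut⁻¹ := by ring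
      _ = algebraMap _ _ y * ↑ut⁻¹ := by rw [ha, ← hq]
      _ = b * (↑ut * ↑ut⁻¹) := by rw [← hb, hut]; ring
      _ = b := by rw [Units.mul_inv, mul_one]
  intro a b
  obtain ⟨⟨x, s⟩, hxs⟩ := IsLocalization.surj P.primeCompl a
  obtain ⟨⟨y, t⟩, hyt⟩ := IsLocalization.surj P.primeCompl b
  rcases ind_or R P (fun i => x i ∣ y i) with he | he
  · obtain ⟨c, hc⟩ := step a b x y s t hxs hyt he
    exact ⟨c, Or.inl hc⟩
  · have he' : ind R (fun i => y i ∣ x i) ∉ P := by
      intro hmem
      apply he
      have : ind R (fun i => ¬ x i ∣ y i) = ind R (fun i => ¬ x i ∣ y i) * ind R (fun i => y i ∣ x i) := by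
        funext i
        by_cases hi : x i ∣ y i
        · simp [ind, hi]
        · have : y i ∣ x i := (ValuationRing.dvd_total (x i) (y i)).resolve_left hi
          simp [ind, hi, this]
      rw [this]
      exact P.mul_mem_left _ hmem
    obtain ⟨c, hc⟩ := step b a y x t s hyt hxs he'
    exact ⟨c, Or.inr hc⟩

end Groth.Agent.S13360
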