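import Groth.Statements.S13359
import Groth.Agent.S13360
import Mathlib

set_option autoImplicit false
universe u
open UltraProd

namespace Groth.Agent.S13359

open Polynomial in
theorem comp_lemma' {S : Type*} [CommRing S] [IsDomain S] [IsIntegrallyClosed S]
    (K : Type*) [Field K] [Algebra S K] [IsFractionRing S K]
    (G : Polynomial S) (n : ℕ) (hn : G.natDegree ≤ n) (x y : S) (hy : y ≠ 0)
    (h : ∑ j ∈ Finset.range (n + 1), G.coeff j * x ^ j * y ^ (n - j) = 0) :
    ∃ q : S, q * y = G.coeff n * x := by
  by_cases hg : G.coeff n = 0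
  · exact ⟨0, by simp [hg]⟩
  have hdeg : G.natDegree = n := le_antisymm hn (Polynomial.le_natDegree_of_ne_zero hg)
  have hlead : G.leadingCoeff = G.coeff n := by rw [Polynomial.leadingCoeff, hdeg]
  have hyK : algebraMap S K y ≠ 0 := by
    intro h0
    exact hy ((IsFractionRing.injective S K) (by rw [h0, map_zero]))
  set η : K := algebraMap S K x / algebraMap S K y with hη
  have haeval : Polynomial.aeval η G = 0 := by
    rw [Polynomial.aeval_eq_sum_range' (Nat.lt_succ_of_le hn)]
    have hpow : (algebraMap S K y) ^ n ≠ 0 := pow_ne_zero n hyK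
    apply mul_left_cancel₀ hpow
    rw [mul_zero, Finset.mul_sum]
    have := congrArg (algebraMap S K) h
    rw [map_zero, map_sum] at this
    rw [← this]
    apply Finset.sum_congr rfl
    intro j hj
    have hjn : j ≤ n := Nat.lt_succ_iff.mp (Finset.mem_range.mp hj)
    rw [map_mul, map_mul, map_pow, map_pow, Algebra.smul_def, hη, div_pow]
    have : (algebraMap S K y) ^ n = (algebraMap S K y) ^ j * (algebraMap S K y) ^ (n - j) := by
      rw [← pow_add, Nat.add_sub_cancel' hjn]
    rw [this]
    have hj0 : (algebraMap S K y) ^ j ≠ 0 := pow_ne_zero j hyK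
    field_simp
  have hint : IsIntegral S (G.leadingCoeff • η) := isIntegral_leadingCoeff_smul G η haeval
  obtain ⟨q, hq⟩ := IsIntegrallyClosed.algebraMap_eq_of_integral hint
  refine ⟨q, ?_⟩
  apply IsFractionRing.injective S K
  rw [map_mul, map_mul, hq, hlead, Algebra.smul_def, hη]
  field_simp


open Groth.Agent.S13360 in
theorem main_aux {ι : Type u} (R : ι → Type u)
    [∀ i, CommRing (R i)] [∀ i, IsDomain (R i)] [∀ i, IsIntegrallyClosed (R i)]
    (P : Ideal (∀ i, R i)) [P.IsPrime] [IsDomain (Localization.AtPrime P)]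
    (K : Type*) [Field K] [Algebra (Localization.AtPrime P) K]
    [IsFractionRing (Localization.AtPrime P) K] [Algebra (∀ i, R i) K]
    [IsScalarTower (∀ i, R i) (Localization.AtPrime P) K]
    (ξ : K) (hξ : IsIntegral (Localization.AtPrime P) ξ) :
    ∃ l : Localization.AtPrime P, algebraMap (Localization.AtPrime P) K l = ξ := by
  classical
  have hιK : Function.Injective (algebraMap (Localization.AtPrime P) K) :=
    IsFractionRing.injective _ _
  have hφ : ∀ z : ∀ i, R i, algebraMap (∀ i, R i) K z =
      algebraMap (Localization.AtPrime P) K (algebraMap (∀ i, R i) (Localization.AtPrime P) z) :=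
    fun z => IsScalarTower.algebraMap_apply _ _ _ z
  have hunit : ∀ s : P.primeCompl,
      IsUnit (algebraMap (∀ i, R i) (Localization.AtPrime P) s) :=
    fun s => IsLocalization.map_units _ s
  have hunitK : ∀ s : P.primeCompl, algebraMap (∀ i, R i) K s ≠ 0 := by
    intro s
    rw [hφ]
    intro h0
    have := hιK (by rw [h0, map_zero] :
      algebraMap (Localization.AtPrime P) K (algebraMap (∀ i, R i) (Localization.AtPrime P) s) =
        algebraMap (Localization.AtPrime P) K 0)
    exact (hunit s).ne_zero this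
  obtain ⟨p, hpmonic, hp0⟩ := hξ
  obtain ⟨α, β, hβ, hξeq⟩ := IsFractionRing.div_surjective (A := Localization.AtPrime P) ξ
  obtain ⟨⟨x₀, s⟩, hxs⟩ := IsLocalization.surj P.primeCompl α
  obtain ⟨⟨y₀, t⟩, hyt⟩ := IsLocalization.surj P.primeCompl β
  simp only at hxs hyt
  have hβ0 : β ≠ 0 := nonZeroDivisors.ne_zero hβ
  have hβK : algebraMap (Localization.AtPrime P) K β ≠ 0 := by
    intro h0
    exact hβ0 (hιK (by rw [h0, map_zero]))
  set x : ∀ i, R i := x₀ * t with hx
  set y₁ : ∀ i, R i := y₀ * s with hy₁
  have hy₁Λ : algebraMap (∀ i, R i) (Localization.AtPrime P) y₁ ≠ 0 := by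
    rw [hy₁, map_mul, ← hyt]
    exact mul_ne_zero (mul_ne_zero hβ0 (hunit t).ne_zero) (hunit s).ne_zero
  have hξy₁ : ξ * algebraMap (∀ i, R i) K y₁ = algebraMap (∀ i, R i) K x := by
    have e1 := congrArg (algebraMap (Localization.AtPrime P) K) hxs
    have e2 := congrArg (algebraMap (Localization.AtPrime P) K) hyt
    rw [map_mul, ← hφ, ← hφ] at e1 e2
    rw [hx, hy₁, map_mul, map_mul, ← e1, ← e2, ← hξeq]
    field_simp
  -- regularize y₁
  set y : ∀ i, R i := y₁ + ind R (fun i => y₁ i = 0) with hy
  have hyreg : ∀ i, y i ≠ 0 := by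
    intro i
    by_cases hi : y₁ i = 0
    · simp [hy, ind, hi]
    · simp [hy, ind, hi]
  have hindy : ind R (fun i => y₁ i ≠ 0) ∉ P := fun hmem =>
    hy₁Λ (map_eq_zero_of_ind_mem R P y₁ hmem)
  have hyΛ : algebraMap (∀ i, R i) (Localization.AtPrime P) y =
      algebraMap (∀ i, R i) (Localization.AtPrime P) y₁ := by
    rw [hy, map_add]
    have : algebraMap (∀ i, R i) (Localization.AtPrime P) (ind R (fun i => y₁ i = 0)) = 0 := by
      apply map_eq_zero_of_mul R P hindy
      funext i
      by_cases hi : y₁ i = 0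
      · simp [ind, hi]
      · simp [ind, hi]
    rw [this, add_zero]
  have hyK : algebraMap (∀ i, R i) K y = algebraMap (∀ i, R i) K y₁ := by
    rw [hφ, hφ, hyΛ]
  have hyK0 : algebraMap (∀ i, R i) K y ≠ 0 := by
    rw [hyK, hφ]
    intro h0
    exact hy₁Λ (hιK (by rw [h0, map_zero]))
  have hξy : ξ * algebraMap (∀ i, R i) K y = algebraMap (∀ i, R i) K x := by rw [hyK, hξy₁]
  -- the integer normalization
  set P' : Polynomial (∀ i, R i) := IsLocalization.integerNormalization P.primeCompl p with hP'
  have hp0' : Polynomial.aeval ξ p = 0 := by rw [Polynomial.aeval_def]; exact hp0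
  have hP'0 : Polynomial.aeval ξ P' = 0 :=
    IsLocalization.integerNormalization_aeval_eq_zero _ p hp0'
  obtain ⟨b, hbM, hb⟩ := IsLocalization.integerNormalization_spec P.primeCompl p
  set n := p.natDegree with hn
  have hdegP' : P'.natDegree ≤ n := by
    rw [Polynomial.natDegree_le_iff_coeff_eq_zero]
    intro N hN
    have h1 : p.coeff N = 0 := Polynomial.coeff_eq_zero_of_natDegree_lt hN
    have h2 : N ∉ p.support := Polynomial.notMem_support_iff.mpr h1
    have h3 : N ∉ P'.support := fun h => h2 (IsLocalization.integerNormalization_support _ p h)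
    exact Polynomial.notMem_support_iff.mp h3
  have hlead : algebraMap (∀ i, R i) (Localization.AtPrime P) (P'.coeff n) =
      algebraMap (∀ i, R i) (Localization.AtPrime P) b := by
    have := congrArg (fun q => Polynomial.coeff q n) hb
    simp only [Polynomial.coeff_map, Polynomial.coeff_smul] at this
    rw [this, hn, Polynomial.coeff_natDegree, hpmonic.leadingCoeff, Algebra.smul_def, mul_one]
  -- homogenized relation
  set H : ∀ i, R i := ∑ j ∈ Finset.range (n + 1), P'.coeff j * x ^ j * y ^ (n - j) with hH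
  have hHK : algebraMap (∀ i, R i) K H = 0 := by
    have e1 : algebraMap (∀ i, R i) K H =
        (algebraMap (∀ i, R i) K y) ^ n * Polynomial.aeval ξ P' := by
      rw [Polynomial.aeval_eq_sum_range' (Nat.lt_succ_of_le hdegP'), hH, map_sum, Finset.mul_sum]
      apply Finset.sum_congr rfl
      intro j hj
      have hjn : j ≤ n := Nat.lt_succ_iff.mp (Finset.mem_range.mp hj)
      rw [map_mul, map_mul, map_pow, map_pow, Algebra.smul_def, ← hξy]
      have : (algebraMap (∀ i, R i) K y) ^ n =
          (algebraMap (∀ i, R i) K y) ^ j * (algebraMap (∀ i, R i) K y) ^ (n - j) := by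
        rw [← pow_add, Nat.add_sub_cancel' hjn]
      rw [this]
      ring
    rw [e1, hP'0, mul_zero]
  have hHΛ : algebraMap (∀ i, R i) (Localization.AtPrime P) H = 0 := by
    apply hιK
    rw [← hφ, hHK, map_zero]
  obtain ⟨u, hu⟩ := (IsLocalization.map_eq_zero_iff P.primeCompl _ H).mp hHΛ
  -- componentwise
  have hcomp : ∀ i, ∃ q : R i, q * y i = (u : ∀ i, R i) i * (P'.coeff n) i * x i := by
    intro i
    let G : Polynomial (R i) := (Polynomial.C (u : ∀ i, R i) * P').map (Pi.evalRingHom R i)
    have hGcoeff : ∀ j, G.coeff j = (u : ∀ i, R i) i * (P'.coeff j) i := by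
      intro j
      simp only [G, Polynomial.coeff_map, Polynomial.coeff_C_mul, Pi.evalRingHom_apply,
        Pi.mul_apply]
    have hGdeg : G.natDegree ≤ n := by
      refine (Polynomial.natDegree_map_le).trans ?_
      refine (Polynomial.natDegree_C_mul_le _ _).trans hdegP'
    have hsum : ∑ j ∈ Finset.range (n + 1), G.coeff j * x i ^ j * y i ^ (n - j) = 0 := by
      have := congrFun hu i
      simp only [hH, Pi.mul_apply, Pi.zero_apply, Finset.sum_apply, Pi.pow_apply] at this
      rw [Finset.mul_sum] at this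
      rw [← this]
      apply Finset.sum_congr rfl
      intro j _
      rw [hGcoeff]
      ring
    obtain ⟨q, hq⟩ := comp_lemma' (FractionRing (R i)) G n hGdeg (x i) (y i) (hyreg i) hsum
    exact ⟨q, by rw [hq, hGcoeff]⟩
  choose q hq using hcomp
  set g : ∀ i, R i := (u : ∀ i, R i) * P'.coeff n with hg
  have hqy : q * y = g * x := by
    funext i
    simp only [Pi.mul_apply, hg]
    exact hq i
  have hgΛ : algebraMap (∀ i, R i) (Localization.AtPrime P) g =
      algebraMap (∀ i, R i) (Localization.AtPrime P) (u * ⟨b, hbM⟩ : P.primeCompl) := by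
    rw [hg, map_mul, hlead, Submonoid.coe_mul, map_mul]
  obtain ⟨ug, hug⟩ := hunit (u * ⟨b, hbM⟩)
  rw [← hgΛ] at hug
  have hgK0 : algebraMap (∀ i, R i) K g ≠ 0 := by
    rw [hφ, ← hug]
    intro h0
    exact ug.ne_zero (hιK (by rw [h0, map_zero]))
  refine ⟨algebraMap (∀ i, R i) (Localization.AtPrime P) q * ↑ug⁻¹, ?_⟩
  have e1 : algebraMap (∀ i, R i) K q * algebraMap (∀ i, R i) K y =
      algebraMap (∀ i, R i) K g * (ξ * algebraMap (∀ i, R i) K y) := by
    rw [hξy, ← map_mul, ← map_mul, hqy]
  have e2 : algebraMap (∀ i, R i) K q = algebraMap (∀ i, R i) K g * ξ := by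
    apply mul_right_cancel₀ hyK0
    rw [e1]; ring
  apply mul_left_cancel₀ hgK0
  rw [← e2, hφ g, ← hug, ← map_mul, hφ q]
  congr 1
  rw [mul_comm, mul_assoc, Units.inv_mul, mul_one]

/-- If (R_i) is a nonempty family of integrally closed domains, then the localization of the product
ring ∏ R_i at any prime ideal is an integrally closed domain. -/
theorem result {ι : Type u} [Nonempty ι] (R : ι → Type u)
    [∀ i, CommRing (R i)] [∀ i, IsDomain (R i)] [∀ i, IsIntegrallyClosed (R i)]
    (P : Ideal (∀ i, R i)) [P.IsPrime] :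
    IsDomain (Localization.AtPrime P) ∧ IsIntegrallyClosed (Localization.AtPrime P) := by
  have hdom : IsDomain (Localization.AtPrime P) := Groth.Agent.S13360.isDomain_loc R P
  refine ⟨hdom, ?_⟩
  rw [isIntegrallyClosed_iff (FractionRing (Localization.AtPrime P))]
  intro ξ hξ
  exact main_aux R P (FractionRing (Localization.AtPrime P)) ξ hξ

end Groth.Agent.S13359
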