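import Groth.Statements.S13361
import Mathlib

set_option autoImplicit false
universe u
open ProCompl

namespace Groth.Agent.S13361

theorem cocyclic_aux (n : ℕ) : ∀ (A : Type u) [AddCommGroup A], 0 < n → (∀ x : A, n • x = 0) →
    ∀ a : A, a ≠ 0 → (∀ B : AddSubgroup A, B ≠ ⊥ → a ∈ B) → IsAddCyclic A := by
  induction n using Nat.strong_induction_on with
  | _ n ih =>
  intro A _ hn hexp a ha h
  by_cases hn1 : n = 1
  · subst hn1
    exfalso
    apply ha
    simpa using hexp a
  obtain ⟨p, hp, hpn⟩ := Nat.exists_prime_and_dvd hn1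
  obtain ⟨m, rfl⟩ := hpn
  have hm : 0 < m := Nat.pos_of_mul_pos_left hn
  let φ : A →+ A := nsmulAddMonoidHom p
  have hφ : ∀ x, φ x = p • x := fun x => rfl
  -- kernel is contained in zmultiples a
  have hker : ∀ x ∈ φ.ker, x ∈ AddSubgroup.zmultiples a := by
    intro x hx
    rw [AddMonoidHom.mem_ker, hφ] at hx
    by_cases hx0 : x = 0
    · rw [hx0]; exact zero_mem _
    have hax : a ∈ AddSubgroup.zmultiples x :=
      h _ (by simpa [AddSubgroup.zmultiples_eq_bot] using hx0)
    obtain ⟨j, hj⟩ := AddSubgroup.mem_zmultiples_iff.mp hax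
    have hpj : ¬ (p : ℤ) ∣ j := by
      rintro ⟨j', rfl⟩
      apply ha
      rw [← hj, mul_zsmul', natCast_zsmul, hx, zsmul_zero]
    have hcop : IsCoprime j (p : ℤ) := by
      have := (Int.isCoprime_iff_gcd_eq_one).mpr
        (Int.gcd_comm _ _ ▸ (Nat.Prime.coprime_iff_not_dvd hp).mpr (by
          intro hd
          apply hpj
          exact Int.natCast_dvd.mpr hd) : Int.gcd j p = 1)
      exact this
    obtain ⟨u, v, huv⟩ := hcop
    refine AddSubgroup.mem_zmultiples_iff.mpr ⟨u, ?_⟩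
    have : x = (u * j + v * p) • x := by rw [huv, one_zsmul]
    rw [add_zsmul, mul_zsmul, mul_zsmul, natCast_zsmul, hx, zsmul_zero, add_zero, hj] at this
    exact this.symm
  by_cases hR : φ.range = ⊥
  · refine ⟨a, fun x => ?_⟩
    have : x ∈ φ.ker := by
      rw [AddMonoidHom.mem_ker]
      have : φ x ∈ φ.range := ⟨x, rfl⟩
      rw [hR] at this
      simpa using this
    exact hker x this
  have haR : a ∈ φ.range := h _ hR
  have hlt : m < p * m := by
    have := hp.one_lt
    nlinarith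
  have hcyc : IsAddCyclic φ.range := by
    refine ih m hlt φ.range hm ?_ ⟨a, haR⟩ ?_ ?_
    · rintro ⟨y, ⟨x, rfl⟩⟩
      apply Subtype.ext
      simp only [AddSubgroup.coe_nsmul, AddSubgroup.coe_zero, hφ]
      rw [← mul_nsmul]
      exact hexp x
    · intro h0
      apply ha
      simpa using congrArg Subtype.val h0
    · intro B hB
      have := h (B.map φ.range.subtype) (by
        intro hb
        apply hB
        rw [AddSubgroup.map_eq_bot_iff_of_injective _ (AddSubgroup.subtype_injective _)] at hb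
        exact hb)
      obtain ⟨b, hbB, hb⟩ := this
      have : b = ⟨a, haR⟩ := Subtype.ext hb
      rwa [← this]
  obtain ⟨⟨z, ⟨y, hy⟩⟩, hgen⟩ := hcyc
  refine ⟨y, fun x => ?_⟩
  -- a ∈ zmultiples y
  have hay : a ∈ AddSubgroup.zmultiples y := by
    obtain ⟨i, hi⟩ := AddSubgroup.mem_zmultiples_iff.mp (hgen ⟨a, haR⟩)
    have hi' : i • z = a := by simpa using congrArg Subtype.val hi
    rw [← hi', ← hy, hφ, ← natCast_zsmul, ← mul_zsmul]
    exact AddSubgroup.zsmul_mem_zmultiples _ _
  obtain ⟨j, hj⟩ := AddSubgroup.mem_zmultiples_iff.mp (hgen ⟨φ x, ⟨x, rfl⟩⟩)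
  have hj' : j • z = φ x := by simpa using congrArg Subtype.val hj
  have hxk : x - j • y ∈ φ.ker := by
    rw [AddMonoidHom.mem_ker, map_sub, map_zsmul, hy, hj', sub_self]
  have h1 : x - j • y ∈ AddSubgroup.zmultiples y :=
    (AddSubgroup.zmultiples_le_of_mem hay) (hker _ hxk)
  have h2 : j • y ∈ AddSubgroup.zmultiples y := AddSubgroup.zsmul_mem_zmultiples _ _
  have := add_mem h1 h2
  rw [sub_add_cancel] at this
  exact this

/-- A finite abelian group with a nonzero element contained in every nonzero subgroup is isomorphic to a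
cyclic group of prime-power order Z/p^n. -/
theorem result {A : Type u} [AddCommGroup A] [Finite A]
    (a : A) (ha : a ≠ 0) (h : ∀ B : AddSubgroup A, B ≠ ⊥ → a ∈ B) :
    ∃ p n : ℕ, p.Prime ∧ Nonempty (A ≃+ ZMod (p ^ n)) := by
  have hA : AddMonoid.exponent A ≠ 0 := AddMonoid.exponent_ne_zero_of_finite
  have hcyc : IsAddCyclic A :=
    cocyclic_aux (AddMonoid.exponent A) A (Nat.pos_of_ne_zero hA)
      (fun x => AddMonoid.exponent_nsmul_eq_zero x) a ha h
  have hnt : Nontrivial A := ⟨⟨a, 0, ha⟩⟩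
  have hcard : 1 < Nat.card A := Finite.one_lt_card
  obtain ⟨p, hp, hpd⟩ := Nat.exists_prime_and_dvd (ne_of_gt hcard)
  have key : ∀ q : ℕ, q.Prime → q ∣ Nat.card A → q • a = 0 := by
    intro q hq hqd
    have : Fact q.Prime := ⟨hq⟩
    obtain ⟨x, hx⟩ := exists_prime_addOrderOf_dvd_card' q hqd
    have hx0 : x ≠ 0 := by
      intro h0
      rw [h0, addOrderOf_zero] at hx
      exact hq.one_lt.ne hx
    have hax : a ∈ AddSubgroup.zmultiples x :=
      h _ (by simpa [AddSubgroup.zmultiples_eq_bot] using hx0)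
    obtain ⟨j, hj⟩ := AddSubgroup.mem_zmultiples_iff.mp hax
    rw [← hj, ← natCast_zsmul, smul_comm, natCast_zsmul, ← hx, addOrderOf_nsmul_eq_zero, zsmul_zero]
  have huniq : ∀ {d : ℕ}, d.Prime → d ∣ Nat.card A → d = p := by
    intro d hd hdd
    by_contra hne
    have hcop : Nat.Coprime d p := (Nat.coprime_primes hd hp).mpr hne
    have h1 := key d hd hdd
    have h2 := key p hp hpd
    apply ha
    have : (Nat.gcd d p) • a = 0 := by
      have hd' : addOrderOf a ∣ d := addOrderOf_dvd_of_nsmul_eq_zero h1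
      have hp' : addOrderOf a ∣ p := addOrderOf_dvd_of_nsmul_eq_zero h2
      exact addOrderOf_dvd_iff_nsmul_eq_zero.mp (Nat.dvd_gcd hd' hp')
    rw [hcop.gcd_eq_one, one_nsmul] at this
    exact this
  have hpow := Nat.eq_prime_pow_of_unique_prime_dvd (ne_of_gt (Nat.zero_lt_of_lt hcard)) huniq
  refine ⟨p, (Nat.card A).primeFactorsList.length, hp, ⟨?_⟩⟩
  rw [← hpow]
  exact (zmodAddCyclicAddEquiv hcyc).symm

end Groth.Agent.S13361
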