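import Groth.Statements.S13362
import Mathlib

set_option autoImplicit false
universe u
open ProCompl

namespace Groth.Agent.S13362

theorem aux (n : ℕ) : ∀ (A : Type u) [AddCommGroup A], 0 < n → (∀ x : A, n • x = 0) →
    ∀ a : A, a ≠ 0 → (∀ B : AddSubgroup A, B ≠ ⊥ → a ∈ B) → Finite A := by
  induction n using Nat.strong_induction_on with
  | _ n ih =>
  intro A _ hn hexp a ha h
  by_cases hn1 : n = 1
  · subst hn1
    exfalso
    apply ha
    simpa using hexp a
  obtain ⟨p, hp, hpn⟩ := Nat.exists_prime_and_dvd hn1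
  obtain ⟨m, rfl⟩ := hpn
  have hm : 0 < m := Nat.pos_of_mul_pos_left hn
  let φ : A →+ A := nsmulAddMonoidHom p
  have hφ : ∀ x, φ x = p • x := fun x => rfl
  -- kernel is contained in zmultiples a
  have hker : ∀ x ∈ φ.ker, x ∈ AddSubgroup.zmultiples a := by
    intro x hx
    rw [AddMonoidHom.mem_ker, hφ] at hx
    by_cases hx0 : x = 0
    · rw [hx0]; exact zero_mem _
    have hax : a ∈ AddSubgroup.zmultiples x :=
      h _ (by simpa [AddSubgroup.zmultiples_eq_bot] using hx0)
    obtain ⟨j, hj⟩ := AddSubgroup.mem_zmultiples_iff.mp hax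
    have hpj : ¬ (p : ℤ) ∣ j := by
      rintro ⟨j', rfl⟩
      apply ha
      rw [← hj, mul_zsmul', natCast_zsmul, hx, zsmul_zero]
    have hcop : IsCoprime j (p : ℤ) := by
      have := (Int.isCoprime_iff_gcd_eq_one).mpr
        (Int.gcd_comm _ _ ▸ (Nat.Prime.coprime_iff_not_dvd hp).mpr (by
          intro hd
          apply hpj
          exact Int.natCast_dvd.mpr hd) : Int.gcd j p = 1)
      exact this
    obtain ⟨u, v, huv⟩ := hcop
    refine AddSubgroup.mem_zmultiples_iff.mpr ⟨u, ?_⟩
    have : x = (u * j + v * p) • x := by rw [huv, one_zsmul]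
    rw [add_zsmul, mul_zsmul, mul_zsmul, natCast_zsmul, hx, zsmul_zero, add_zero, hj] at this
    exact this.symm
  have hfa : (AddSubgroup.zmultiples a : Set A).Finite := by
    rw [finite_zmultiples, isOfFinAddOrder_iff_nsmul_eq_zero] -- a has finite order
    exact ⟨p * m, hn, hexp a⟩
  have hKfin : Finite φ.ker := by
    have : (φ.ker : Set A) ⊆ (AddSubgroup.zmultiples a : Set A) := hker
    exact (Set.Finite.subset hfa this).to_subtype
  have hRfin : Finite φ.range := by
    by_cases hR : φ.range = ⊥
    · rw [hR]; infer_instance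
    have haR : a ∈ φ.range := h _ hR
    have hlt : m < p * m := by
      have := hp.one_lt
      nlinarith
    refine ih m hlt φ.range hm ?_ ⟨a, haR⟩ ?_ ?_
    · rintro ⟨y, ⟨x, rfl⟩⟩
      apply Subtype.ext
      simp only [AddSubgroup.coe_nsmul, AddSubgroup.coe_zero, hφ]
      rw [← mul_nsmul]
      exact hexp x
    · intro h0
      apply ha
      simpa using congrArg Subtype.val h0
    · intro B hB
      have := h (B.map φ.range.subtype) (by
        intro hb
        apply hB
        rw [AddSubgroup.map_eq_bot_iff_of_injective _ (AddSubgroup.subtype_injective _)] at hb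
        exact hb)
      obtain ⟨b, hbB, hb⟩ := this
      have : b = ⟨a, haR⟩ := Subtype.ext hb
      rwa [← this]
  have hQfin : Finite (A ⧸ φ.ker) :=
    Finite.of_equiv φ.range (QuotientAddGroup.quotientKerEquivRange φ).symm.toEquiv
  exact Finite.of_addSubgroup_quotient φ.ker

/-- An abelian group of finite exponent having a nonzero element contained in every nonzero subgroup is
finite. -/
theorem result {A : Type u} [AddCommGroup A]
    (hA : AddMonoid.exponent A ≠ 0) (a : A) (ha : a ≠ 0) (h : ∀ B : AddSubgroup A, B ≠ ⊥ → a ∈ B) :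
    Finite A :=
  aux (AddMonoid.exponent A) A (Nat.pos_of_ne_zero hA) (fun x => AddMonoid.exponent_nsmul_eq_zero x)
    a ha h

end Groth.Agent.S13362
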