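import Groth.Statements.S13363
import Groth.Agent.S13362
import Mathlib

set_option autoImplicit false
universe u
open ProCompl

namespace Groth.Agent.S13363

/-- Let A be a topological abelian group such that the subgroup n·A is open for each n > 0, and a ∈ A.
Then A has an open subgroup of finite index not containing a if and only if a does not lie in the
subgroup of divisible elements ∩_n nA. -/
theorem result {A : Type u} [AddCommGroup A]
    [TopologicalSpace A] [IsTopologicalAddGroup A]
    (hn : ∀ n : ℕ, 0 < n → IsOpen (Set.range (fun x : A => n • x))) (a : A) :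
    (∃ B : AddSubgroup A, IsOpen (B : Set A) ∧ B.FiniteIndex ∧ a ∉ B) ↔
      ¬ (∀ n : ℕ, 0 < n → ∃ b : A, n • b = a) := by
  constructor
  · rintro ⟨B, -, hfin, haB⟩ hdiv
    have hidx : B.index ≠ 0 := hfin.index_ne_zero
    obtain ⟨b, hb⟩ := hdiv B.index (Nat.pos_of_ne_zero hidx)
    apply haB
    rw [← hb]
    exact B.nsmul_index_mem b
  · intro hnd
    push Not at hnd
    obtain ⟨n, hnpos, hna⟩ := hnd
    let C : AddSubgroup A := (nsmulAddMonoidHom n : A →+ A).range
    have hCopen : IsOpen (C : Set A) := by
      have := hn n hnpos
      have hC : (C : Set A) = Set.range fun x : A => n • x := by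
        ext x
        simp [C, AddMonoidHom.mem_range]
      rw [hC]
      exact this
    have haC : a ∉ C := by
      rintro ⟨b, hb⟩
      exact hna b hb
    let S : Set (AddSubgroup A) := {B | C ≤ B ∧ a ∉ B}
    obtain ⟨B, hB⟩ := zorn_le₀ S (by
      intro c hcS hchain
      by_cases hne : c.Nonempty
      · refine ⟨sSup c, ⟨?_, ?_⟩, fun z hz => le_sSup hz⟩
        · obtain ⟨z, hz⟩ := hne
          exact (hcS hz).1.trans (le_sSup hz)
        · intro hmem
          rw [AddSubgroup.mem_sSup_of_directedOn hne hchain.directedOn] at hmem
          obtain ⟨s, hs, has⟩ := hmem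
          exact (hcS hs).2 has
      · rw [Set.not_nonempty_iff_eq_empty] at hne
        subst hne
        exact ⟨C, ⟨le_rfl, haC⟩, by simp⟩)
    have hBS : B ∈ S := hB.prop
    have hBopen : IsOpen (B : Set A) := AddSubgroup.isOpen_mono hBS.1 hCopen
    refine ⟨B, hBopen, ?_, hBS.2⟩
    -- the quotient A ⧸ B is finite
    have hexp : AddMonoid.exponent (A ⧸ B) ≠ 0 := by
      intro h0
      have : AddMonoid.exponent (A ⧸ B) ∣ n := by
        rw [AddMonoid.exponent_dvd_iff_forall_nsmul_eq_zero]
        intro x
        induction x using QuotientAddGroup.induction_on with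
        | H x =>
          rw [← QuotientAddGroup.mk_nsmul, QuotientAddGroup.eq_zero_iff]
          exact hBS.1 ⟨x, rfl⟩
      rw [h0, zero_dvd_iff] at this
      omega
    have hfin : Finite (A ⧸ B) := by
      refine Groth.Agent.S13362.result hexp (QuotientAddGroup.mk a) ?_ ?_
      · rw [Ne, QuotientAddGroup.eq_zero_iff]
        exact hBS.2
      · intro D hD
        by_contra haD
        have hle : B ≤ D.comap (QuotientAddGroup.mk' B) := by
          intro x hx
          rw [AddSubgroup.mem_comap]
          have : (QuotientAddGroup.mk' B) x = 0 := (QuotientAddGroup.eq_zero_iff x).mpr hx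
          rw [this]
          exact zero_mem _
        have hS' : D.comap (QuotientAddGroup.mk' B) ∈ S := ⟨hBS.1.trans hle, fun h => haD h⟩
        have heq : D.comap (QuotientAddGroup.mk' B) ≤ B := hB.le_of_ge hS' hle
        apply hD
        rw [eq_bot_iff]
        intro y hy
        induction y using QuotientAddGroup.induction_on with
        | H y =>
          have : y ∈ B := heq hy
          rw [AddSubgroup.mem_bot, QuotientAddGroup.eq_zero_iff]
          exact this
    exact AddSubgroup.finiteIndex_of_finite_quotient

end Groth.Agent.S13363
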