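import Groth.Statements.S13365
import Mathlib

set_option autoImplicit false
universe u
open ProCompl

namespace Groth.Agent.S13365

/-- The quotient of a profinite (compact, Hausdorff, totally disconnected) abelian topological group by
a compact subgroup is profinite. -/
theorem result {A : Type u} [AddCommGroup A] [TopologicalSpace A]
    [IsTopologicalAddGroup A] [CompactSpace A] [T2Space A] [TotallyDisconnectedSpace A]
    (B : AddSubgroup A) (hB : IsCompact (B : Set A)) :
    CompactSpace (A ⧸ B) ∧ T2Space (A ⧸ B) ∧ TotallyDisconnectedSpace (A ⧸ B) := by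
  have hBclosed : IsClosed (B : Set A) := hB.isClosed
  refine ⟨inferInstance, inferInstance, ?_⟩
  rw [totallyDisconnectedSpace_iff_connectedComponent_zero]
  apply Set.eq_singleton_iff_unique_mem.mpr
  refine ⟨mem_connectedComponent, ?_⟩
  intro x hx
  induction x using QuotientAddGroup.induction_on with
  | H a =>
  by_contra hne
  have haB : a ∉ B := fun h => hne ((QuotientAddGroup.eq_zero_iff a).mpr h)
  let Bc : ClosedAddSubgroup A := ⟨B, hBclosed⟩
  have hBeq := ProfiniteGrp.closedAddSubgroup_eq_sInf_open Bc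
  have haB' : a ∉ sInf {N : AddSubgroup A | IsOpen (N : Set A) ∧ (Bc : AddSubgroup A) ≤ N} := by
    rw [← hBeq]; exact haB
  rw [AddSubgroup.mem_sInf] at haB'
  push Not at haB'
  obtain ⟨N, ⟨hNopen, hBN⟩, haN⟩ := haB'
  let V : AddSubgroup (A ⧸ B) := N.map (QuotientAddGroup.mk' B)
  have hVopen : IsOpen (V : Set (A ⧸ B)) := by
    have : (V : Set (A ⧸ B)) = (QuotientAddGroup.mk : A → A ⧸ B) '' (N : Set A) := by
      ext y; simp [V]
    rw [this]
    exact QuotientAddGroup.isOpenMap_coe _ hNopen
  have hVclopen : IsClopen (V : Set (A ⧸ B)) := ⟨V.isClosed_of_isOpen hVopen, hVopen⟩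
  have hsub := hVclopen.connectedComponent_subset (x := (0 : A ⧸ B)) (zero_mem V)
  have haV : (QuotientAddGroup.mk a : A ⧸ B) ∈ V := hsub hx
  obtain ⟨n, hnN, hn⟩ := haV
  have : -n + a ∈ B := by
    have h1 : (QuotientAddGroup.mk n : A ⧸ B) = QuotientAddGroup.mk a := hn
    exact QuotientAddGroup.eq.mp h1
  have h2 : -n + a ∈ N := hBN this
  apply haN
  have := N.add_mem hnN h2
  simpa using this

end Groth.Agent.S13365
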