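import Groth.Statements.S13370
import Mathlib

set_option autoImplicit false
universe u
open GaDual

namespace Groth.Agent.S13370

section Helpers
open AlgebraicGeometry CategoryTheory Opposite TopologicalSpace Limits MvPolynomial
open AlgebraicGeometry.AffineSpace

variable (n : Type u)

/-- The zero section. -/
noncomputable def zs (S : Scheme.{u}) : S ⟶ 𝔸(n; S) := homOfVector (𝟙 S) (fun _ => 0)

@[reassoc (attr := simp)]
theorem zs_over (S : Scheme.{u}) : zs n S ≫ 𝔸(n; S) ↘ S = 𝟙 S := homOfVector_over _ _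

@[simp]
theorem zs_coord (S : Scheme.{u}) (i : n) : (zs n S).appTop (coord S i) = 0 :=
  homOfVector_appTop_coord _ _ _

theorem zs_nat {S T : Scheme.{u}} (f : S ⟶ T) : zs n S ≫ map n f = f ≫ zs n T := by
  ext1
  · simp
  · rename_i i
    have h1 : (map n f).appTop (coord T i) = coord S i := map_appTop_coord f i
    rw [Scheme.Hom.comp_appTop, Scheme.Hom.comp_appTop, CommRingCat.comp_apply,
      CommRingCat.comp_apply, h1, zs_coord, zs_coord, map_zero]

/-- The evaluation map is bijective over an affine base. -/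
theorem psi_bijective (S : Scheme.{u}) [IsAffine S] :
    Function.Bijective (eval₂Hom ((𝔸(n; S) ↘ S).appTop).hom (coord S)) := by
  have h := isoOfIsAffine_hom_appTop (n := n) (S := S)
  have h2 : CommRingCat.ofHom (eval₂Hom ((𝔸(n; S) ↘ S).appTop).hom (coord S)) =
      (Scheme.ΓSpecIso _).inv ≫ (isoOfIsAffine n S).hom.appTop := by
    rw [h, Iso.inv_hom_id_assoc]
  have : IsIso (CommRingCat.ofHom (eval₂Hom ((𝔸(n; S) ↘ S).appTop).hom (coord S))) := by
    rw [h2]
    have : IsIso (isoOfIsAffine n S).hom.appTop :=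
      (inferInstance : IsIso (Scheme.Γ.map (isoOfIsAffine n S).hom.op))
    infer_instance
  exact (ConcreteCategory.isIso_iff_bijective _).1 this

/-- Affine case. -/
theorem affine_case (S : Scheme.{u}) [IsAffine S] [IsReduced S]
    (w : Γ(𝔸(n; S), ⊤)) (hw : IsUnit w) :
    (𝔸(n; S) ↘ S).appTop ((zs n S).appTop w) = w := by
  set ψ := eval₂Hom ((𝔸(n; S) ↘ S).appTop).hom (coord S) with hψ
  have hbij := psi_bijective n S
  let e : MvPolynomial n Γ(S, ⊤) ≃+* Γ(𝔸(n; S), ⊤) := RingEquiv.ofBijective ψ hbij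
  obtain ⟨P, rfl⟩ := hbij.2 w
  have hP : IsUnit P := by
    have : IsUnit (e P) := hw
    exact (isUnit_map_iff e P).1 this
  have : IsReduced Γ(S, ⊤) := inferInstance
  obtain ⟨-, hdeg⟩ := MvPolynomial.isUnit_iff_totalDegree_of_isReduced.1 hP
  obtain ⟨c, rfl⟩ : ∃ c, P = C c := ⟨_, (totalDegree_eq_zero_iff_eq_C.1 hdeg)⟩
  have h1 : ψ (C c) = (𝔸(n; S) ↘ S).appTop c := by
    simp [ψ]
  rw [h1]
  congr 1
  rw [← CommRingCat.comp_apply, ← Scheme.Hom.comp_appTop, zs_over]
  simp

theorem isOpenImmersion_map {S T : Scheme.{u}} (f : S ⟶ T) [IsOpenImmersion f] :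
    IsOpenImmersion (map n f) :=
  MorphismProperty.of_isPullback (P := @IsOpenImmersion) (isPullback_map f).flip inferInstance

theorem exists_map_eq {S T : Scheme.{u}} (f : S ⟶ T) (y : 𝔸(n; T)) (x : S)
    (h : (𝔸(n; T) ↘ T) y = f x) : ∃ y' : 𝔸(n; S), map n f y' = y := by
  obtain ⟨z, hz1, -⟩ := Scheme.Pullback.exists_preimage_pullback y x h
  refine ⟨(isPullback_map (n := n) f).isoPullback.inv z, ?_⟩
  rw [← Scheme.Hom.comp_apply, IsPullback.isoPullback_inv_fst]
  exact hz1

theorem main [Finite n] (X : Scheme.{u}) [IsReduced X]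
    (w : Γ(𝔸(n; X), ⊤)) (hw : IsUnit w) :
    ∃ v : Γ(X, ⊤), IsUnit v ∧ (𝔸(n; X) ↘ X).appTop v = w := by
  refine ⟨(zs n X).appTop w, hw.map _, ?_⟩
  -- open cover of affine space
  let 𝒱 : (𝔸(n; X)).OpenCover := Scheme.Cover.mkOfCovers X.affineCover.I₀
    (fun i => 𝔸(n; X.affineCover.X i))
    (fun i => map n (X.affineCover.f i))
    (fun y => by
      obtain ⟨x, hx⟩ := X.affineCover.covers ((𝔸(n; X) ↘ X) y)
      obtain ⟨y', hy'⟩ := exists_map_eq n (X.affineCover.f _) y x hx.symm
      exact ⟨_, y', hy'⟩)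
    (fun i => isOpenImmersion_map n (X.affineCover.f i))
  refine 𝒱.ext_elem _ _ (fun (i : X.affineCover.I₀) => ?_)
  change (map n (X.affineCover.f i)).appTop ((𝔸(n; X) ↘ X).appTop ((zs n X).appTop w)) =
    (map n (X.affineCover.f i)).appTop w
  have hred : IsReduced (X.affineCover.X i) := isReduced_of_isOpenImmersion (X.affineCover.f i)
  have haff : IsAffine (X.affineCover.X i) := inferInstance
  have key := affine_case n (X.affineCover.X i) ((map n (X.affineCover.f i)).appTop w) (hw.map _)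
  rw [← key]
  simp only [← CommRingCat.comp_apply, ← Scheme.Hom.comp_appTop]
  have e : map n (X.affineCover.f i) ≫ 𝔸(n; X) ↘ X ≫ zs n X =
      𝔸(n; X.affineCover.X i) ↘ X.affineCover.X i ≫ zs n _ ≫ map n (X.affineCover.f i) := by
    rw [map_over_assoc, zs_nat]
  rw [e]

end Helpers


open AlgebraicGeometry in
/-- Over a reduced scheme X, each invertible global function on 𝔸ⁿ_X comes, by pullback along the
projection to X, from an invertible global function on X. -/
theorem result (n : Type u) [Finite n] (X : Scheme.{u}) [IsReduced X]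
    (w : Γ(𝔸(n; X), ⊤)) (hw : IsUnit w) :
    ∃ v : Γ(X, ⊤), IsUnit v ∧ (𝔸(n; X) ↘ X).appTop v = w := by
  exact main n X w hw

end Groth.Agent.S13370
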