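import Groth.Statements.S13386
import Mathlib

set_option autoImplicit false
universe u
open scoped TensorProduct
open ZeroCyc

namespace Groth.Agent.S13386

/-- Let A' = T⁻¹A be a localization of the ring A, M an A-module and M' = A' ⊗_A M. In the divided power
algebra Γ_{A'}(M') the A'-span of the d-th divided powers γ_d(1 ⊗ m), m ∈ M, is the A'-span of
γ_d(M'). (The published statement phrases this as the surjectivity of the natural map from (γ_d(M))
⊗_A A' onto (γ_d(M')); its further clause through the base-change isomorphism Γ_A(M) ⊗_A A' ≅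
Γ_{A'}(M') is not restated here.) -/
theorem result {A A' M : Type u} [CommRing A] [CommRing A']
    [Algebra A A'] (T : Submonoid A) [IsLocalization T A'] [AddCommGroup M] [Module A M] (d : ℕ) :
    Submodule.span A' (Set.range fun m : M => DividedPowerAlgebra.dp A' d ((1 : A') ⊗ₜ[A] m)) =
      Submodule.span A' (Set.range (DividedPowerAlgebra.dp A' d (M := A' ⊗[A] M))) := by
  apply le_antisymm
  · apply Submodule.span_mono
    rintro x ⟨m, rfl⟩
    exact ⟨(1 : A') ⊗ₜ[A] m, rfl⟩
  · rw [Submodule.span_le]
    rintro x ⟨y, rfl⟩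
    haveI : IsLocalizedModule T (TensorProduct.mk A A' M 1) :=
      (isLocalizedModule_iff_isBaseChange T A' _).mpr (TensorProduct.isBaseChange A M A')
    obtain ⟨⟨m, t⟩, ht⟩ := IsLocalizedModule.surj T (TensorProduct.mk A A' M 1) y
    have hy : y = (IsLocalization.mk' A' (1 : A) t) • ((1 : A') ⊗ₜ[A] m) := by
      have h1 : (1 : A') ⊗ₜ[A] m = algebraMap A A' (t : A) • y := by
        rw [algebraMap_smul]
        exact ht.symm
      rw [h1, ← mul_smul, IsLocalization.mk'_spec, map_one, one_smul]
    rw [hy, DividedPowerAlgebra.dp_smul]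
    exact Submodule.smul_mem _ _ (Submodule.subset_span ⟨m, rfl⟩)

end Groth.Agent.S13386
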