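import Groth.Statements.S13389
import Mathlib

set_option autoImplicit false
universe u
open ZeroCyc

namespace Groth.Agent.S13389

theorem vand_unit {A : Type u} [CommRing A] (d : ℕ) (t : A)
    (ht : ∏ j ∈ Finset.range (d + 1), ∏ i ∈ Finset.range j, (t ^ i - t ^ j) = 1) (e : ℕ)
    (he : e ≤ d) :
    IsUnit (Matrix.vandermonde (fun i : Fin (e + 1) => t ^ (i : ℕ))).det := by
  have hu : ∀ j ∈ Finset.range (d + 1), ∀ i ∈ Finset.range j, IsUnit (t ^ i - t ^ j) := by
    have h1 : IsUnit (∏ j ∈ Finset.range (d + 1), ∏ i ∈ Finset.range j, (t ^ i - t ^ j)) := by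
      rw [ht]; exact isUnit_one
    intro j hj i hi
    exact (IsUnit.prod_iff.mp ((IsUnit.prod_iff.mp h1) j hj)) i hi
  rw [Matrix.det_vandermonde, IsUnit.prod_univ_iff]
  intro i
  rw [IsUnit.prod_iff]
  intro j hj
  rw [Finset.mem_Ioi] at hj
  have hij : (i : ℕ) < (j : ℕ) := hj
  have hjd : (j : ℕ) < d + 1 := by have := j.2; omega
  have := hu j (Finset.mem_range.mpr hjd) i (Finset.mem_range.mpr hij)
  rw [← neg_sub]
  exact this.neg

theorem two_factor {A M : Type u} [CommRing A] [AddCommGroup M] [Module A M] (e : ℕ) (t : A)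
    (hV : IsUnit (Matrix.vandermonde (fun i : Fin (e + 1) => t ^ (i : ℕ))).det)
    (m m' : M) (b : Fin (e + 1)) :
    DividedPowerAlgebra.dp A (b : ℕ) m' * DividedPowerAlgebra.dp A (e - b) m ∈
      Submodule.span A
        (Set.range (DividedPowerAlgebra.dp A e : M → DividedPowerAlgebra A M)) := by
  classical
  let u : Fin (e + 1) → DividedPowerAlgebra A M := fun k =>
    DividedPowerAlgebra.dp A (k : ℕ) m' * DividedPowerAlgebra.dp A (e - k) m
  have hw : ∀ i : Fin (e + 1),
      ∑ k, (Matrix.vandermonde (fun i : Fin (e + 1) => t ^ (i : ℕ))) i k • u k ∈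
      Submodule.span A
        (Set.range (DividedPowerAlgebra.dp A e : M → DividedPowerAlgebra A M)) := by
    intro i
    have : DividedPowerAlgebra.dp A e (t ^ (i : ℕ) • m' + m) =
        ∑ k, (Matrix.vandermonde (fun i : Fin (e + 1) => t ^ (i : ℕ))) i k • u k := by
      rw [DividedPowerAlgebra.dp_add, Finset.Nat.sum_antidiagonal_eq_sum_range_succ_mk,
        Finset.sum_range]
      apply Finset.sum_congr rfl
      intro k _
      simp only [u, Matrix.vandermonde_apply]
      rw [DividedPowerAlgebra.dp_smul, smul_mul_assoc]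
    rw [← this]
    exact Submodule.subset_span ⟨_, rfl⟩
  have hinv := Matrix.nonsing_inv_mul _ hV
  have hub : u b = ∑ i, ((Matrix.vandermonde (fun i : Fin (e + 1) => t ^ (i : ℕ)))⁻¹) b i •
      ∑ k, (Matrix.vandermonde (fun i : Fin (e + 1) => t ^ (i : ℕ))) i k • u k := by
    simp_rw [Finset.smul_sum, smul_smul]
    rw [Finset.sum_comm]
    simp_rw [← Finset.sum_smul, ← Matrix.mul_apply, hinv, Matrix.one_apply, ite_smul, one_smul,
      zero_smul]
    rw [Finset.sum_ite_eq]
    simp
  change u b ∈ _
  rw [hub]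
  exact Submodule.sum_mem _ (fun i _ => Submodule.smul_mem _ _ (hw i))

theorem prod_mem {A M : Type u} [CommRing A] [AddCommGroup M] [Module A M] (d : ℕ) (t : A)
    (hV : ∀ e ≤ d, IsUnit (Matrix.vandermonde (fun i : Fin (e + 1) => t ^ (i : ℕ))).det) :
    ∀ (n : ℕ) (e : ℕ), e ≤ d → ∀ (k : Fin n → ℕ) (m : Fin n → M), (∑ i, k i) = e →
      ∏ i, DividedPowerAlgebra.dp A (k i) (m i) ∈ Submodule.span A
        (Set.range (DividedPowerAlgebra.dp A e : M → DividedPowerAlgebra A M)) := by
  intro n
  induction n with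
  | zero =>
    intro e he k m hk
    simp only [Finset.univ_eq_empty, Finset.sum_empty] at hk
    subst hk
    simp only [Finset.univ_eq_empty, Finset.prod_empty]
    exact Submodule.subset_span ⟨0, DividedPowerAlgebra.dp_zero⟩
  | succ n ih =>
    intro e he k m hk
    rw [Fin.sum_univ_succ] at hk
    rw [Fin.prod_univ_succ]
    have hy := ih (∑ i : Fin n, k i.succ) (by omega) (fun i => k i.succ) (fun i => m i.succ) rfl
    have key : ∀ y ∈ Submodule.span A (Set.range
        (DividedPowerAlgebra.dp A (∑ i : Fin n, k i.succ) : M → DividedPowerAlgebra A M)),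
        DividedPowerAlgebra.dp A (k 0) (m 0) * y ∈ Submodule.span A
          (Set.range (DividedPowerAlgebra.dp A e : M → DividedPowerAlgebra A M)) := by
      intro y hy
      induction hy using Submodule.span_induction with
      | mem y hy =>
        obtain ⟨m', rfl⟩ := hy
        have hb : k 0 < e + 1 := by omega
        have h2 := two_factor e t (hV e he) m' (m 0) ⟨k 0, hb⟩
        have he2 : e - k 0 = ∑ i : Fin n, k i.succ := by omega
        simp only [he2] at h2
        exact h2
      | zero => rw [mul_zero]; exact Submodule.zero_mem _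
      | add x y _ _ hx hy => rw [mul_add]; exact Submodule.add_mem _ hx hy
      | smul a x _ hx => rw [mul_smul_comm]; exact Submodule.smul_mem _ _ hx
    exact key _ hy

open Polynomial in
/-- Let P_d(T) = ∏_{0 ≤ i < j ≤ d} (T^i − T^j) − 1 ∈ ℤ[T]. If A is an algebra over ℤ[T]/(P_d), i.e.
receives a ring homomorphism from it, then for every A-module M the degree-d piece Γ^d_A(M) of the
divided power algebra Γ_A(M) is spanned over A by the d-th divided powers γ_d(m), m ∈ M. (The
published statement adds that consequently every ring has a finite faithfully flat extension,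
independent of M, over which this holds; that clause is not restated.) -/
theorem result {A M : Type u} [CommRing A] [AddCommGroup M]
    [Module A M] (d : ℕ)
    (φ : (ℤ[X] ⧸ Ideal.span {(∏ j ∈ Finset.range (d + 1), ∏ i ∈ Finset.range j,
        ((X : ℤ[X]) ^ i - X ^ j)) - 1}) →+* A) :
    Submodule.span A (Set.range (DividedPowerAlgebra.dp A d : M → DividedPowerAlgebra A M)) =
      PolLaw.gammaPiece A M d := by
  classical
  have hrel : ∏ j ∈ Finset.range (d + 1), ∏ i ∈ Finset.range j,
      ((φ (Ideal.Quotient.mk _ X)) ^ i - (φ (Ideal.Quotient.mk _ X)) ^ j) = 1 := by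
    have h0 : φ (Ideal.Quotient.mk (Ideal.span {(∏ j ∈ Finset.range (d + 1),
        ∏ i ∈ Finset.range j, ((X : ℤ[X]) ^ i - X ^ j)) - 1})
        ((∏ j ∈ Finset.range (d + 1), ∏ i ∈ Finset.range j, ((X : ℤ[X]) ^ i - X ^ j)) - 1)) = 0 := by
      rw [Ideal.Quotient.eq_zero_iff_mem.mpr (Ideal.mem_span_singleton_self _), map_zero]
    simp only [map_sub, map_prod, map_pow, map_one] at h0
    exact sub_eq_zero.mp h0
  have hV := fun e he => vand_unit d _ hrel e he
  apply le_antisymm
  · rw [Submodule.span_le]
    rintro x ⟨m, rfl⟩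
    apply Submodule.subset_span
    refine ⟨1, fun _ => d, fun _ => m, by simp, by simp⟩
  · unfold PolLaw.gammaPiece
    rw [Submodule.span_le]
    rintro x ⟨n, k, m, hk, rfl⟩
    exact prod_mem d _ hV n d le_rfl k m hk

end Groth.Agent.S13389
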