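import Groth.Statements.S1340
import Mathlib
-- import your own Groth.Agent.* helpers here

set_option autoImplicit false
universe u
open FlatMor

namespace Groth.Agent.S1340

section helpers
open CategoryTheory CategoryTheory.Limits AlgebraicGeometry Opposite

lemma bijective_of_localization_square {A B A' B' : Type*} [CommRing A] [CommRing B]
    [CommRing A'] [CommRing B'] [Algebra A A'] [Algebra B B'] (s : A)
    [IsLocalization.Away s A'] (φ : A →+* B) (hφ : Function.Bijective φ)
    [IsLocalization.Away (φ s) B'] (ψ : A' →+* B')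
    (hψ : ψ.comp (algebraMap A A') = (algebraMap B B').comp φ) : Function.Bijective ψ := by
  let e : A ≃+* B := RingEquiv.ofBijective φ hφ
  have H : (Submonoid.powers s).map e.toMonoidHom = Submonoid.powers (φ s) := by
    rw [Submonoid.map_powers]; rfl
  let E : A' ≃+* B' := IsLocalization.ringEquivOfRingEquiv (M := Submonoid.powers s) A' B' e H
  have : ψ = E.toRingHom := by
    apply IsLocalization.ringHom_ext (Submonoid.powers s)
    rw [hψ]
    ext x
    simp [E, e, IsLocalization.ringEquivOfRingEquiv_eq]
  rw [this]
  exact E.bijective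
lemma isIntegral_app_of_universallyClosed {X S : Scheme.{u}} (f : X ⟶ S) [UniversallyClosed f]
    (V : S.Opens) (hV : IsAffineOpen V) : (f.app V).hom.IsIntegral := by
  have key : ∀ W : S.Opens, W = V.ι ''ᵁ ⊤ → (f.app W).hom.IsIntegral := by
    rintro W rfl
    have : IsAffine V.toScheme := hV
    have h1 := isIntegral_appTop_of_universallyClosed (f ∣_ V)
    rw [morphismRestrict_appTop] at h1
    have h2 : f.app (V.ι ''ᵁ ⊤) = (f.app (V.ι ''ᵁ ⊤) ≫
        X.presheaf.map (eqToHom (image_morphismRestrict_preimage f V ⊤)).op) ≫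
        inv (X.presheaf.map (eqToHom (image_morphismRestrict_preimage f V ⊤)).op) := by
      simp
    rw [h2, CommRingCat.hom_comp]
    refine RingHom.IsIntegral.trans _ _ h1 ?_
    exact RingHom.isIntegral_of_surjective _
      ((ConcreteCategory.bijective_of_isIso
        (inv (X.presheaf.map (eqToHom (image_morphismRestrict_preimage f V ⊤)).op))).2)
  exact key V (by simp)

lemma step1 {X S : Scheme.{u}} (f : X ⟶ S) [UniversallyClosed f] [QuasiSeparated f]
    (V : S.affineOpens) : IsIso (f.toNormalization.app (f.fromNormalization ⁻¹ᵁ V.1)) := by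
  have h := f.toNormalization_app_preimage V
  rw [h]
  have hint := isIntegral_app_of_universallyClosed f V.1 V.2
  let _ := (f.app V.1).hom.toAlgebra
  refine @IsIso.comp_isIso _ _ _ _ _ _ _ inferInstance
    (@IsIso.comp_isIso _ _ _ _ _ _ _ ?_ inferInstance)
  rw [ConcreteCategory.isIso_iff_bijective]
  refine ⟨Subtype.val_injective, fun x => ⟨⟨x, hint x⟩, rfl⟩⟩

lemma step2 {X S : Scheme.{u}} (f : X ⟶ S) [UniversallyClosed f] [QuasiSeparated f]
    (V : S.affineOpens) (s : Γ(f.normalization, f.fromNormalization ⁻¹ᵁ V.1)) :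
    IsIso (f.toNormalization.app (f.normalization.basicOpen s)) := by
  have hW : IsAffineOpen (f.fromNormalization ⁻¹ᵁ V.1) := V.2.preimage f.fromNormalization
  have hpre : f.toNormalization ⁻¹ᵁ (f.fromNormalization ⁻¹ᵁ V.1) = f ⁻¹ᵁ V.1 := by
    rw [← Scheme.Hom.comp_preimage, f.toNormalization_fromNormalization]
  have hc : IsCompact (f.toNormalization ⁻¹ᵁ (f.fromNormalization ⁻¹ᵁ V.1) : Set X) := by
    rw [hpre]; exact f.isCompact_preimage V.2.isCompact
  have hqs : IsQuasiSeparated (f.toNormalization ⁻¹ᵁ (f.fromNormalization ⁻¹ᵁ V.1) : Set X) := by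
    rw [hpre]; exact f.isQuasiSeparated_preimage V.2.isQuasiSeparated
  have h1 : IsIso (f.toNormalization.app (f.fromNormalization ⁻¹ᵁ V.1)) := step1 f V
  have hloc1 : IsLocalization.Away s Γ(f.normalization, f.normalization.basicOpen s) :=
    hW.isLocalization_basicOpen s
  have hloc2 : IsLocalization.Away ((f.toNormalization.app (f.fromNormalization ⁻¹ᵁ V.1)).hom s) Γ(X, X.basicOpen ((f.toNormalization.app (f.fromNormalization ⁻¹ᵁ V.1)).hom s)) :=
    isLocalization_basicOpen_of_qcqs hc hqs _
  have hpb : f.toNormalization ⁻¹ᵁ f.normalization.basicOpen s = X.basicOpen ((f.toNormalization.app (f.fromNormalization ⁻¹ᵁ V.1)).hom s) :=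
    Scheme.preimage_basicOpen f.toNormalization s
  let ψ : Γ(f.normalization, f.normalization.basicOpen s) ⟶ Γ(X, X.basicOpen ((f.toNormalization.app (f.fromNormalization ⁻¹ᵁ V.1)).hom s)) :=
    f.toNormalization.app (f.normalization.basicOpen s) ≫ X.presheaf.map (eqToHom hpb.symm).op
  have hbij : Function.Bijective ψ.hom := by
    refine bijective_of_localization_square s (f.toNormalization.app (f.fromNormalization ⁻¹ᵁ V.1)).hom
      (ConcreteCategory.bijective_of_isIso (f.toNormalization.app (f.fromNormalization ⁻¹ᵁ V.1))) ψ.hom ?_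
    simp only [RingHom.algebraMap_toAlgebra, ← CommRingCat.hom_comp, ψ]
    congr 1
    rw [← Category.assoc, Scheme.Hom.naturality, Category.assoc, ← Functor.map_comp]
    rfl
  have hψ : IsIso ψ := (ConcreteCategory.isIso_iff_bijective ψ).mpr hbij
  have hcomp : IsIso (f.toNormalization.app (f.normalization.basicOpen s) ≫
      X.presheaf.map (eqToHom hpb.symm).op) := hψ
  exact IsIso.of_isIso_comp_right (f.toNormalization.app (f.normalization.basicOpen s))
    (X.presheaf.map (eqToHom hpb.symm).op)


end helpers

open AlgebraicGeometry CategoryTheory Limits in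
/-- Stein factorization, universally closed case: let f : X ⟶ S be universally closed and
quasi-separated, and let X ⟶ X' ⟶ S be its factorization through the normalization X' of S in X.
Then the canonical morphism X ⟶ X' identifies the structure sheaf of X' with the pushforward of the
structure sheaf of X: for every open U of X' the induced map from O_{X'}(U) to the sections of O_X
over the inverse image of U is an isomorphism. (That X ⟶ X' is surjective and universally closed and
that X' ⟶ S is integral are separate facts not restated here.) -/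
theorem result {X S : Scheme.{u}} (f : X ⟶ S) [UniversallyClosed f] [QuasiSeparated f]
    (U : f.normalization.Opens) : IsIso (f.toNormalization.app U) := by
  let φ : f.normalization.sheaf ⟶
      (TopCat.Sheaf.pushforward CommRingCat f.toNormalization.base).obj X.sheaf :=
    ⟨f.toNormalization.c⟩
  let B : (Σ V : S.affineOpens, Γ(f.normalization, f.fromNormalization ⁻¹ᵁ V.1)) →
      f.normalization.Opens := fun i => f.normalization.basicOpen i.2
  have hB : TopologicalSpace.Opens.IsBasis (Set.range B) := by
    rw [TopologicalSpace.Opens.isBasis_iff_nbhd]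
    intro U x hx
    obtain ⟨_, ⟨V, hV, rfl⟩, hxV, -⟩ := S.isBasis_affineOpens.exists_subset_of_mem_open
      (Set.mem_univ (f.fromNormalization x)) isOpen_univ
    have hW : IsAffineOpen (f.fromNormalization ⁻¹ᵁ V) := hV.preimage f.fromNormalization
    obtain ⟨s, hs1, hs2⟩ := hW.exists_basicOpen_le (V := U) ⟨x, hx⟩ hxV
    exact ⟨_, ⟨⟨⟨V, hV⟩, s⟩, rfl⟩, hs2, hs1⟩
  have hφ : IsIso φ := TopCat.Sheaf.isIso_iff_isIso_basis (B := B) hB
    (fun i => step2 f i.1 i.2)
  have h2 : IsIso ((sheafToPresheaf _ _).map φ) := Functor.map_isIso _ φ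
  exact NatIso.isIso_app_of_isIso ((sheafToPresheaf _ _).map φ) (Opposite.op U)

end Groth.Agent.S1340
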