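import Groth.Statements.S13402
import Mathlib
import Groth.Agent.Lib.helper29.GaloisMap

set_option autoImplicit false
universe u v w
open Hopf

namespace Groth.Agent.S13402

open TensorProduct Groth.Agent.Lib.helper29.GaloisMap

section
variable {k : Type u} [Field k] {A : Type v} {B : Type w}
    [CommRing A] [HopfAlgebra k A] [CommRing B] [HopfAlgebra k B]

lemma one_tmul_eq (f : B →ₐc[k] A)
    (hker : Ideal.map f (RingHom.ker (Bialgebra.counitAlgHom k B)) =
      RingHom.ker (Bialgebra.counitAlgHom k A))
    [Algebra B A] [IsScalarTower k B A] (hf : ∀ b : B, algebraMap B A b = f b) (a : A) :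
    (1 : A) ⊗ₜ[B] a = a ⊗ₜ[B] (1 : A) := by
  let κ : A ⊗[k] A →ₐ[k] A ⊗[B] A := Algebra.TensorProduct.mapOfCompatibleSMul B k k A A
  let Ψ₀ : A ⊗[k] A →ₐ[k] A ⊗[k] A := (E (g' (AlgHom.id k A))).restrictScalars k
  let β : A ⊗[k] A →ₐ[k] A ⊗[k] A := (E (g (AlgHom.id k A))).restrictScalars k
  let Ψ : A ⊗[k] A →ₐ[k] A ⊗[B] A := κ.comp Ψ₀
  let D : A →ₐ[k] A ⊗[B] A := Ψ.comp Algebra.TensorProduct.includeRight
  have hΨβ : ∀ t, Ψ₀ (β t) = t := fun t =>
    DFunLike.congr_fun (E_g'_comp_E_g (AlgHom.id k A)) t
  have hD_apply : ∀ y : A, D y = κ (g' (AlgHom.id k A) y) := by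
    intro y
    show κ (E (g' (AlgHom.id k A)) ((1 : A) ⊗ₜ[k] y)) = _
    rw [E_tmul]
    simp
  -- Claim 1
  have hκ : ∀ t : B ⊗[k] B,
      κ (TensorProduct.map ((HopfAlgebra.antipode k) ∘ₗ (f : B →ₗ[k] A)) (f : B →ₗ[k] A) t) =
      (LinearMap.mul' k A (TensorProduct.map ((HopfAlgebra.antipode k) ∘ₗ (f : B →ₗ[k] A))
        (f : B →ₗ[k] A) t)) ⊗ₜ[B] (1 : A) := by
    intro t
    induction t using TensorProduct.induction_on with
    | zero => simp
    | add x y hx hy => simp only [map_add, TensorProduct.add_tmul, hx, hy]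
    | tmul b₁ b₂ =>
      simp only [TensorProduct.map_tmul, LinearMap.comp_apply, LinearMap.mul'_apply]
      show (HopfAlgebra.antipode k (f b₁)) ⊗ₜ[B] (f b₂) = _
      rw [← hf b₂, Algebra.algebraMap_eq_smul_one, ← TensorProduct.smul_tmul, Algebra.smul_def,
        hf, mul_comm]
      rfl
  have h1 : ∀ b : B, D (f b) = algebraMap k (A ⊗[B] A) (CoalgebraStruct.counit (R := k) b) := by
    intro b
    rw [hD_apply, g'_apply]
    have hΔ : CoalgebraStruct.comul (R := k) (f b) =
        TensorProduct.map (f : B →ₗ[k] A) (f : B →ₗ[k] A) (CoalgebraStruct.comul (R := k) b) :=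
      (LinearMap.congr_fun (CoalgHomClass.map_comp_comul (R := k) f) b).symm
    have hmap : ∀ t : B ⊗[k] B,
        Algebra.TensorProduct.map ((AlgHom.id k A).comp (HopfAlgebra.antipodeAlgHom k A))
          (AlgHom.id k A) (TensorProduct.map (f : B →ₗ[k] A) (f : B →ₗ[k] A) t) =
        TensorProduct.map ((HopfAlgebra.antipode k) ∘ₗ (f : B →ₗ[k] A)) (f : B →ₗ[k] A) t := by
      intro t
      induction t using TensorProduct.induction_on with
      | zero => simp
      | add x y hx hy => simp only [map_add, hx, hy]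
      | tmul b₁ b₂ => simp
    have hmul : ∀ t : B ⊗[k] B,
        LinearMap.mul' k A (TensorProduct.map ((HopfAlgebra.antipode k) ∘ₗ (f : B →ₗ[k] A))
          (f : B →ₗ[k] A) t) =
        LinearMap.mul' k A ((HopfAlgebra.antipode k).rTensor A
          (TensorProduct.map (f : B →ₗ[k] A) (f : B →ₗ[k] A) t)) := by
      intro t
      induction t using TensorProduct.induction_on with
      | zero => simp
      | add x y hx hy => simp only [map_add, hx, hy]
      | tmul b₁ b₂ => simp
    rw [hΔ, hmap, hκ, hmul, ← hΔ, HopfAlgebra.mul_antipode_rTensor_comul_apply,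
      CoalgHomClass.counit_comp_apply, Algebra.TensorProduct.algebraMap_apply]
  -- Claim 2
  have h2 : ∀ y ∈ RingHom.ker (Bialgebra.counitAlgHom k A), D y = 0 := by
    intro y hy
    rw [← hker] at hy
    have hle : Ideal.map f (RingHom.ker (Bialgebra.counitAlgHom k B)) ≤ RingHom.ker D := by
      rw [Ideal.map_le_iff_le_comap]
      intro b hb
      rw [Ideal.mem_comap, RingHom.mem_ker]
      have hb' : CoalgebraStruct.counit (R := k) b = 0 := hb
      show D (f b) = 0
      rw [h1, hb', map_zero]
    exact hle hy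
  -- Claim 3
  have h3 : ∀ y : A, D y = algebraMap k (A ⊗[B] A) (CoalgebraStruct.counit (R := k) y) := by
    intro y
    have hmem : y - algebraMap k A (CoalgebraStruct.counit (R := k) y) ∈
        RingHom.ker (Bialgebra.counitAlgHom k A) := by
      rw [RingHom.mem_ker, map_sub, AlgHom.commutes]
      show CoalgebraStruct.counit (R := k) y - _ = 0
      simp
    have := h2 _ hmem
    rw [map_sub, sub_eq_zero, AlgHom.commutes] at this
    exact this
  -- Claim 4
  have h4 : ∀ t : A ⊗[k] A, Ψ t = κ ((Algebra.linearMap k A ∘ₗ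
      CoalgebraStruct.counit (R := k)).lTensor A t) := by
    intro t
    induction t using TensorProduct.induction_on with
    | zero => simp
    | add x y hx hy => simp only [map_add, hx, hy]
    | tmul x y =>
      have e1 : Ψ (x ⊗ₜ[k] y) = κ (x ⊗ₜ[k] (1 : A)) * D y := by
        show κ (E (g' (AlgHom.id k A)) (x ⊗ₜ[k] y)) = _
        rw [E_tmul, map_mul, hD_apply]
      rw [e1, h3, LinearMap.lTensor_tmul, LinearMap.comp_apply, Algebra.linearMap_apply]
      show (x ⊗ₜ[B] (1 : A)) * _ = x ⊗ₜ[B] _
      rw [Algebra.algebraMap_eq_smul_one (A := A ⊗[B] A), Algebra.algebraMap_eq_smul_one (A := A),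
        mul_smul_comm, mul_one, TensorProduct.tmul_smul]
  -- Claim 5
  have hβ : β ((1 : A) ⊗ₜ[k] a) = CoalgebraStruct.comul (R := k) a := by
    show E (g (AlgHom.id k A)) ((1 : A) ⊗ₜ[k] a) = _
    have : ∀ t : A ⊗[k] A, Algebra.TensorProduct.map (AlgHom.id k A) (AlgHom.id k A) t = t := by
      intro t
      induction t using TensorProduct.induction_on with
      | zero => simp
      | add x y hx hy => simp only [map_add, hx, hy]
      | tmul x y => simp
    rw [E_tmul, g_apply, one_tmul_one_mul]
    exact this _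
  have e5 : (1 : A) ⊗ₜ[B] a = Ψ (β ((1 : A) ⊗ₜ[k] a)) := by
    show _ = κ (Ψ₀ (β ((1 : A) ⊗ₜ[k] a)))
    rw [hΨβ]
    rfl
  rw [e5, hβ, h4, LinearMap.lTensor_comp, LinearMap.comp_apply, Coalgebra.lTensor_counit_comul,
    LinearMap.lTensor_tmul]
  simp
  rfl

end

/-- Let k be a field and let A and B be finite-dimensional commutative and cocommutative Hopf algebras
over k (finite commutative k-group schemes G = Spec A and H = Spec B). Let f : B → A be a bialgebra
map (a homomorphism G → H) which is injective and such that the ideal of A generated by the image of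
the augmentation ideal of B is the augmentation ideal of A (the homomorphism G → H has trivial
kernel). Then f is bijective, so G → H is an isomorphism; this is what makes the category of finite
commutative k-group schemes abelian. -/
theorem result (k : Type u) [Field k] (A : Type v) (B : Type w)
    [CommRing A] [HopfAlgebra k A] [Module.Finite k A] [Coalgebra.IsCocomm k A]
    [CommRing B] [HopfAlgebra k B] [Module.Finite k B] [Coalgebra.IsCocomm k B]
    (f : B →ₐc[k] A) (hinj : Function.Injective f)
    (hker : Ideal.map f (RingHom.ker (Bialgebra.counitAlgHom k B)) = RingHom.ker (Bialgebra.counitAlgHom k A)) :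
    Function.Bijective f := by
  refine ⟨hinj, ?_⟩
  letI : Algebra B A := (f : B →+* A).toAlgebra
  haveI : IsScalarTower k B A := IsScalarTower.of_algebraMap_eq (fun r => by
    show algebraMap k A r = f (algebraMap k B r)
    exact (AlgHomClass.commutes f r).symm)
  haveI : Module.Finite B A := Module.Finite.of_restrictScalars_finite k B A
  have hepi : Algebra.IsEpi B A := by
    rw [Algebra.isEpi_iff_forall_one_tmul_eq]
    intro a
    exact one_tmul_eq f hker (fun b => rfl) a
  exact (Algebra.isEpi_iff_surjective_algebraMap_of_finite).mp hepi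

end Groth.Agent.S13402
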