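import Groth.Statements.S13404
import Groth.Agent.Lib.lead.HenselIntegral2
import Groth.Agent.Lib.lead.HenselQuot


set_option autoImplicit false
universe u v
open Hopf

namespace H14S13404

open IsLocalRing TensorProduct

/-- a local ring integral over a henselian local ring is henselian (universe polymorphic) -/
theorem henselian_of_integral_local (S : Type u) (T : Type v) [CommRing S] [HenselianLocalRing S]
    [CommRing T] [IsLocalRing T] [Algebra S T] [Algebra.IsIntegral S T] :
    HenselianLocalRing T := by
  let eS : ULift.{max u v} S ≃+* S := ULift.ringEquiv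
  let eT : ULift.{max u v} T ≃+* T := ULift.ringEquiv
  haveI : IsLocalRing (ULift.{max u v} S) := eS.symm.isLocalRing
  haveI : IsLocalRing (ULift.{max u v} T) := eT.symm.isLocalRing
  haveI : HenselianLocalRing (ULift.{max u v} S) :=
    Groth.Agent.Lib.lead.HenselQuot.henselian_of_surjective eS.symm.toRingHom eS.symm.surjective
  letI : Algebra (ULift.{max u v} S) (ULift.{max u v} T) :=
    (eT.symm.toRingHom.comp ((algebraMap S T).comp eS.toRingHom)).toAlgebra
  haveI : Algebra.IsIntegral (ULift.{max u v} S) (ULift.{max u v} T) := by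
    rw [← algebraMap_isIntegral_iff]
    show (eT.symm.toRingHom.comp ((algebraMap S T).comp eS.toRingHom)).IsIntegral
    apply RingHom.IsIntegral.trans
    · apply RingHom.IsIntegral.trans
      · exact RingHom.isIntegral_of_surjective _ eS.surjective
      · exact algebraMap_isIntegral_iff.mpr inferInstance
    · exact RingHom.isIntegral_of_surjective _ eT.symm.surjective
  haveI : HenselianLocalRing (ULift.{max u v} T) :=
    Groth.Agent.Lib.lead.HenselLocal.henselian_of_integral_local (ULift.{max u v} S)
      (ULift.{max u v} T)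
  exact Groth.Agent.Lib.lead.HenselQuot.henselian_of_surjective eT.toRingHom eT.surjective

section

variable {R : Type u} [CommRing R] {A : Type v} [CommRing A] [HopfAlgebra R A] (e : A)

theorem counit_mem (hε : Bialgebra.counitAlgHom R A e = 1) {x : A}
    (hx : x ∈ Ideal.span ({1 - e} : Set A)) : Bialgebra.counitAlgHom R A x = 0 := by
  obtain ⟨a, rfl⟩ := Ideal.mem_span_singleton'.mp hx
  rw [map_mul, map_sub, map_one, hε, sub_self, mul_zero]

/-- the counit descends to the quotient -/
noncomputable def epsBar (hε : Bialgebra.counitAlgHom R A e = 1) :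
    (A ⧸ Ideal.span ({1 - e} : Set A)) →ₐ[R] R :=
  Ideal.Quotient.liftₐ _ (Bialgebra.counitAlgHom R A) (fun _ ha => counit_mem e hε ha)

@[simp] theorem epsBar_mk (hε : Bialgebra.counitAlgHom R A e = 1) (a : A) :
    epsBar e hε (Ideal.Quotient.mk _ a) = Bialgebra.counitAlgHom R A a := rfl

theorem ker_le [Nontrivial R] (hε : Bialgebra.counitAlgHom R A e = 1)
    [IsLocalRing (A ⧸ Ideal.span ({1 - e} : Set A))] {b : A ⧸ Ideal.span ({1 - e} : Set A)}
    (hb : epsBar e hε b = 0) : b ∈ maximalIdeal (A ⧸ Ideal.span ({1 - e} : Set A)) := by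
  have hker : RingHom.ker (epsBar e hε).toRingHom ≠ ⊤ := RingHom.ker_ne_top _
  exact IsLocalRing.le_maximalIdeal hker hb

theorem residue_surj [Nontrivial R] (hε : Bialgebra.counitAlgHom R A e = 1)
    [IsLocalRing (A ⧸ Ideal.span ({1 - e} : Set A))] :
    Function.Surjective (⇑(IsLocalRing.residue (A ⧸ Ideal.span ({1 - e} : Set A))) ∘
      ⇑(algebraMap R (A ⧸ Ideal.span ({1 - e} : Set A)))) := by
  intro y
  obtain ⟨b, rfl⟩ := residue_surjective y
  refine ⟨epsBar e hε b, ?_⟩
  show residue _ (algebraMap R _ (epsBar e hε b)) = residue _ b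
  rw [← sub_eq_zero, ← map_sub, residue_eq_zero_iff]
  apply ker_le e hε
  rw [map_sub, AlgHom.commutes, Algebra.algebraMap_self_apply, sub_self]

theorem flat_quot [Module.Flat R A] (he : IsIdempotentElem e) :
    Module.Flat R (A ⧸ Ideal.span ({1 - e} : Set A)) := by
  haveI : IsLocalization.Away e (A ⧸ Ideal.span ({1 - e} : Set A)) :=
    IsLocalization.Away.quotient_of_isIdempotentElem he
  haveI : Module.Flat A (A ⧸ Ideal.span ({1 - e} : Set A)) :=
    IsLocalization.flat _ (Submonoid.powers e)
  exact Module.Flat.trans R A _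

theorem idem_local {B : Type*} [CommRing B] [IsLocalRing B] {g : B} (hg : IsIdempotentElem g) :
    g = 0 ∨ g = 1 := by
  rcases IsLocalRing.isUnit_or_isUnit_one_sub_self g with h | h
  · right
    have : g * (g - 1) = 0 := by rw [mul_sub, hg.eq, mul_one, sub_self]
    have h2 := (h.mul_right_eq_zero).mp this
    exact sub_eq_zero.mp h2
  · left
    have : (1 - g) * g = 0 := by rw [sub_mul, hg.eq, one_mul, sub_self]
    exact (h.mul_right_eq_zero).mp this

end

section hopf

variable {R : Type u} [CommRing R] {A : Type v} [CommRing A] [HopfAlgebra R A] (e : A)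

/-- augmentation of `B ⊗ B` -/
noncomputable def aug (hε : Bialgebra.counitAlgHom R A e = 1) :
    ((A ⧸ Ideal.span ({1 - e} : Set A)) ⊗[R] (A ⧸ Ideal.span ({1 - e} : Set A))) →ₐ[R] R :=
  Algebra.TensorProduct.lift (epsBar e hε) (epsBar e hε) (fun _ _ => Commute.all _ _)

@[simp] theorem aug_tmul (hε : Bialgebra.counitAlgHom R A e = 1)
    (b c : A ⧸ Ideal.span ({1 - e} : Set A)) :
    aug e hε (b ⊗ₜ[R] c) = epsBar e hε b * epsBar e hε c := by
  simp [aug]

theorem sub_mem_max [Nontrivial R] [Module.Finite R A] (hε : Bialgebra.counitAlgHom R A e = 1)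
    [IsLocalRing (A ⧸ Ideal.span ({1 - e} : Set A))]
    (n : Ideal ((A ⧸ Ideal.span ({1 - e} : Set A)) ⊗[R] (A ⧸ Ideal.span ({1 - e} : Set A))))
    [n.IsMaximal]
    (d : (A ⧸ Ideal.span ({1 - e} : Set A)) ⊗[R] (A ⧸ Ideal.span ({1 - e} : Set A))) :
    d - algebraMap R _ (aug e hε d) ∈ n := by
  have key : ∀ (ι : (A ⧸ Ideal.span ({1 - e} : Set A)) →ₐ[R]
      ((A ⧸ Ideal.span ({1 - e} : Set A)) ⊗[R] (A ⧸ Ideal.span ({1 - e} : Set A))))
      (b : A ⧸ Ideal.span ({1 - e} : Set A)), epsBar e hε b = 0 → ι b ∈ n := by
    intro ι b hb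
    have hint : ι.toRingHom.IsIntegral := by
      apply RingHom.IsIntegral.tower_top (algebraMap R (A ⧸ Ideal.span ({1 - e} : Set A))) ι.toRingHom
      have h1 : ι.toRingHom.comp (algebraMap R (A ⧸ Ideal.span ({1 - e} : Set A))) =
          algebraMap R _ := by
        ext r
        simp
      rw [h1]
      exact algebraMap_isIntegral_iff.mpr inferInstance
    haveI hmax := Ideal.isMaximal_comap_of_isIntegral_of_isMaximal' ι.toRingHom hint n
    have h2 := IsLocalRing.eq_maximalIdeal hmax
    have hb' : b ∈ n.comap ι.toRingHom := by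
      rw [h2]
      exact ker_le e hε hb
    exact hb'
  induction d using TensorProduct.induction_on with
  | zero => simp
  | tmul b c =>
    have hβ : epsBar e hε (b - algebraMap R _ (epsBar e hε b)) = 0 := by
      rw [map_sub, AlgHom.commutes, Algebra.algebraMap_self_apply, sub_self]
    have hγ : epsBar e hε (c - algebraMap R _ (epsBar e hε c)) = 0 := by
      rw [map_sub, AlgHom.commutes, Algebra.algebraMap_self_apply, sub_self]
    have h1 := key Algebra.TensorProduct.includeLeft _ hβ
    have h2 := key Algebra.TensorProduct.includeRight _ hγ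
    have e1 : b ⊗ₜ[R] c - algebraMap R _ (aug e hε (b ⊗ₜ[R] c)) =
        Algebra.TensorProduct.includeLeft (R := R) (S := R)
          (B := A ⧸ Ideal.span ({1 - e} : Set A)) (b - algebraMap R _ (epsBar e hε b)) *
            ((1 : A ⧸ Ideal.span ({1 - e} : Set A)) ⊗ₜ[R] c) +
        Algebra.TensorProduct.includeRight (R := R)
          (A := A ⧸ Ideal.span ({1 - e} : Set A)) (c - algebraMap R _ (epsBar e hε c)) *
            ((algebraMap R (A ⧸ Ideal.span ({1 - e} : Set A)) (epsBar e hε b)) ⊗ₜ[R]
              (1 : A ⧸ Ideal.span ({1 - e} : Set A))) := by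
      rw [aug_tmul, map_mul, Algebra.TensorProduct.algebraMap_apply,
        Algebra.TensorProduct.algebraMap_apply', Algebra.TensorProduct.includeLeft_apply,
        Algebra.TensorProduct.includeRight_apply, Algebra.TensorProduct.tmul_mul_tmul,
        Algebra.TensorProduct.tmul_mul_tmul, Algebra.TensorProduct.tmul_mul_tmul]
      simp only [mul_one, one_mul, TensorProduct.sub_tmul, TensorProduct.tmul_sub]
      abel
    rw [e1]
    exact n.add_mem (n.mul_mem_right _ h1) (n.mul_mem_right _ h2)
  | add x y hx hy =>
    have : x + y - algebraMap R _ (aug e hε (x + y)) =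
        (x - algebraMap R _ (aug e hε x)) + (y - algebraMap R _ (aug e hε y)) := by
      rw [map_add, map_add]
      abel
    rw [this]
    exact n.add_mem hx hy

theorem idem_eq_one [Nontrivial R] [Module.Finite R A] (hε : Bialgebra.counitAlgHom R A e = 1)
    [IsLocalRing (A ⧸ Ideal.span ({1 - e} : Set A))]
    {f : (A ⧸ Ideal.span ({1 - e} : Set A)) ⊗[R] (A ⧸ Ideal.span ({1 - e} : Set A))}
    (hf : IsIdempotentElem f) (haug : aug e hε f = 1) : f = 1 := by
  by_contra hne
  have hu : IsUnit f := by
    by_contra hnu
    obtain ⟨n, hn, hfn⟩ := exists_max_ideal_of_mem_nonunits hnu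
    haveI := hn
    have h1 := sub_mem_max e hε n f
    rw [haug, map_one] at h1
    apply hn.ne_top
    rw [Ideal.eq_top_iff_one]
    have h2 := n.sub_mem hfn h1
    simpa using h2
  have h3 : f * (f - 1) = 0 := by rw [mul_sub, hf.eq, mul_one, sub_self]
  exact hne (sub_eq_zero.mp ((hu.mul_right_eq_zero).mp h3))

theorem lift_counit_comul (a : A) :
    Algebra.TensorProduct.lift (Bialgebra.counitAlgHom R A) (Bialgebra.counitAlgHom R A)
      (fun _ _ => Commute.all _ _) (Coalgebra.comul (R := R) a) = Coalgebra.counit (R := R) a := by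
  have h1 : ∀ x : A ⊗[R] A, Algebra.TensorProduct.lift (Bialgebra.counitAlgHom R A)
      (Bialgebra.counitAlgHom R A) (fun _ _ => Commute.all _ _) x =
      TensorProduct.lid R R ((Coalgebra.counit (R := R) (A := A)).lTensor R
        ((Coalgebra.counit (R := R) (A := A)).rTensor A x)) := by
    intro x
    induction x using TensorProduct.induction_on with
    | zero => simp
    | tmul a b => simp
    | add x y hx hy => simp only [map_add, hx, hy]
  rw [h1, Coalgebra.rTensor_counit_comul]
  simp

theorem aug_map_comul (hε : Bialgebra.counitAlgHom R A e = 1) (a : A) :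
    aug e hε (Algebra.TensorProduct.map (Ideal.Quotient.mkₐ R (Ideal.span ({1 - e} : Set A)))
      (Ideal.Quotient.mkₐ R (Ideal.span ({1 - e} : Set A))) (Bialgebra.comulAlgHom R A a)) =
      Coalgebra.counit (R := R) a := by
  have h1 : (aug e hε).comp (Algebra.TensorProduct.map
      (Ideal.Quotient.mkₐ R (Ideal.span ({1 - e} : Set A)))
      (Ideal.Quotient.mkₐ R (Ideal.span ({1 - e} : Set A)))) =
      Algebra.TensorProduct.lift (Bialgebra.counitAlgHom R A) (Bialgebra.counitAlgHom R A)
      (fun _ _ => Commute.all _ _) := by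
    apply Algebra.TensorProduct.ext'
    intro a b
    simp
  have h2 := lift_counit_comul (R := R) a
  rw [← h1] at h2
  exact h2

theorem isHopfIdeal [Nontrivial R] [Module.Finite R A] (he : IsIdempotentElem e)
    (hε : Bialgebra.counitAlgHom R A e = 1)
    [IsLocalRing (A ⧸ Ideal.span ({1 - e} : Set A))] :
    (Ideal.span ({1 - e} : Set A)).IsHopfIdeal R := by
  haveI : ((Ideal.span ({1 - e} : Set A)).restrictScalars R).IsCoideal := by
    refine Submodule.IsCoideal.mk ?_ ?_
    · intro x hx
      exact counit_mem e hε hx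
    · intro x hx
      obtain ⟨a, rfl⟩ := Ideal.mem_span_singleton'.mp hx
      have hmk : (Submodule.restrictScalars R (Ideal.span ({1 - e} : Set A))).mkQ =
          (Ideal.Quotient.mkₐ R (Ideal.span ({1 - e} : Set A))).toLinearMap := rfl
      rw [hmk]
      change Algebra.TensorProduct.map (Ideal.Quotient.mkₐ R (Ideal.span ({1 - e} : Set A)))
        (Ideal.Quotient.mkₐ R (Ideal.span ({1 - e} : Set A)))
          (Bialgebra.comulAlgHom R A (a * (1 - e))) = 0
      rw [map_mul, map_mul, map_sub, map_sub, map_one, map_one]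
      have hf : IsIdempotentElem (Algebra.TensorProduct.map
          (Ideal.Quotient.mkₐ R (Ideal.span ({1 - e} : Set A)))
          (Ideal.Quotient.mkₐ R (Ideal.span ({1 - e} : Set A)))
          (Bialgebra.comulAlgHom R A e)) := (he.map _).map _
      have h1 := idem_eq_one e hε hf (by rw [aug_map_comul]; exact hε)
      rw [h1, sub_self, mul_zero]
  refine Ideal.IsHopfIdeal.mk ?_
  intro x hx
  obtain ⟨a, rfl⟩ := Ideal.mem_span_singleton'.mp hx
  change HopfAlgebra.antipodeAlgHom R A (a * (1 - e)) ∈ Ideal.span ({1 - e} : Set A)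
  rw [map_mul, map_sub, map_one]
  apply Ideal.mul_mem_left
  rw [← Ideal.Quotient.eq]
  have hS : IsIdempotentElem (Ideal.Quotient.mk (Ideal.span ({1 - e} : Set A))
      (HopfAlgebra.antipodeAlgHom R A e)) := (he.map _).map _
  rcases idem_local hS with h | h
  · exfalso
    have h2 : epsBar e hε (Ideal.Quotient.mk (Ideal.span ({1 - e} : Set A))
      (HopfAlgebra.antipodeAlgHom R A e)) = 1 := by
      rw [epsBar_mk]
      change Coalgebra.counit (R := R) (HopfAlgebra.antipode R e) = 1
      rw [HopfAlgebra.counit_antipode]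
      exact hε
    rw [h, map_zero] at h2
    exact zero_ne_one h2
  · rw [h, map_one]

end hopf

end H14S13404

namespace Groth.Agent.S13404

/-- Let R be a henselian local ring and G = Spec A a finite flat group scheme over R (A a commutative
Hopf algebra over R, finite and flat as an R-module; G need not be commutative). Let e be an
idempotent of A on which the counit takes the value 1 and such that A/(1 - e) is a local ring, so
that Spec A/(1 - e) is the connected component G⁰ of G containing the unit section. Then the ideal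
(1 - e) is a Hopf ideal (G⁰ is a closed subgroup scheme of G), A/(1 - e) is a henselian local ring
with the same residue field as R (the composite R → A/(1 - e) → residue field is surjective), and
A/(1 - e) is flat over R. (The published statement also asserts that G⁰ is normal in G; this row
does not state normality.) -/
theorem result (R : Type u) [CommRing R] [HenselianLocalRing R]
    (A : Type v) [CommRing A] [HopfAlgebra R A] [Module.Finite R A] [Module.Flat R A]
    (e : A) (he : IsIdempotentElem e) (hε : Bialgebra.counitAlgHom R A e = 1)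
    [IsLocalRing (A ⧸ Ideal.span ({1 - e} : Set A))] :
    (Ideal.span ({1 - e} : Set A)).IsHopfIdeal R ∧ HenselianLocalRing (A ⧸ Ideal.span ({1 - e} : Set A)) ∧
      Function.Surjective (⇑(IsLocalRing.residue (A ⧸ Ideal.span ({1 - e} : Set A))) ∘ ⇑(algebraMap R (A ⧸ Ideal.span ({1 - e} : Set A)))) ∧
      Module.Flat R (A ⧸ Ideal.span ({1 - e} : Set A)) := by
  haveI : Algebra.IsIntegral R (A ⧸ Ideal.span ({1 - e} : Set A)) := inferInstance
  exact ⟨H14S13404.isHopfIdeal e he hε,
    H14S13404.henselian_of_integral_local R (A ⧸ Ideal.span ({1 - e} : Set A)),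
    H14S13404.residue_surj e hε, H14S13404.flat_quot e he⟩

end Groth.Agent.S13404
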