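import Groth.Statements.S13407
import Mathlib
import Groth.Agent.Lib.helper12.HopfIdealBC

set_option autoImplicit false
set_option linter.style.haveILetI false
universe u
open TensorProduct
open Hopf

namespace Groth.Agent.S13407

/-- Let R be a Dedekind domain with fraction field K and let G = Spec A be a finite flat group scheme
over R (A a commutative Hopf algebra over R, finite and flat as an R-module). Closed flat R-subgroup
schemes of G correspond one-to-one to closed K-subgroup schemes of the generic fibre G_K under H ↦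
H_K: the map sending a Hopf ideal J' of A with A/J' flat over R to the ideal it generates in K ⊗_R A
is a bijection onto the set of Hopf ideals of the Hopf algebra K ⊗_R A over K (its inverse takes a
Hopf ideal of K ⊗_R A to its preimage in A). -/
theorem result (R : Type u) [CommRing R] [IsDedekindDomain R]
    (K : Type u) [Field K] [Algebra R K] [IsFractionRing R K]
    (A : Type u) [CommRing A] [HopfAlgebra R A] [Module.Finite R A] [Module.Flat R A] :
    Set.BijOn (fun J' : Ideal A => Ideal.map (Algebra.TensorProduct.includeRight : A →ₐ[R] K ⊗[R] A) J')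
      {J' : Ideal A | J'.IsHopfIdeal R ∧ Module.Flat R (A ⧸ J')}
      {J : Ideal (K ⊗[R] A) | J.IsHopfIdeal K} := by
  refine ⟨?_, ?_, ?_⟩
  · rintro J' ⟨hJ', _⟩
    exact H12HIB.isHopfIdeal_map J' hJ'
  · have key : ∀ J₁ J₂ : Ideal A, Module.Flat R (A ⧸ J₂) →
        Ideal.map (Algebra.TensorProduct.includeRight : A →ₐ[R] K ⊗[R] A) J₁ =
          Ideal.map (Algebra.TensorProduct.includeRight : A →ₐ[R] K ⊗[R] A) J₂ → J₁ ≤ J₂ := by
      intro J₁ J₂ hf h a ha
      haveI : Module.Flat R (A ⧸ J₂.restrictScalars R) :=
        Module.Flat.of_linearEquiv (Submodule.Quotient.restrictScalarsEquiv R J₂)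
      apply H12HIB.mem_of_includeRight_mem_map (R := R) (K := K) J₂
      rw [← h]
      exact Ideal.mem_map_of_mem _ ha
    rintro J₁ ⟨_, hf₁⟩ J₂ ⟨_, hf₂⟩ h
    exact le_antisymm (key J₁ J₂ hf₂ h) (key J₂ J₁ hf₁ h.symm)
  · intro J hJ
    exact ⟨Ideal.comap (Algebra.TensorProduct.includeRight : A →ₐ[R] K ⊗[R] A) J,
      ⟨H12HIB.isHopfIdeal_comap J hJ, H12HIB.flat_quotient_comap J⟩, H12HIB.map_comap_eq J⟩

end Groth.Agent.S13407
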