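import Groth.Statements.S13409
import Groth.Agent.Lib.helper13.CombGraph

set_option autoImplicit false
universe u v
open CombGraph

namespace Groth.Agent.S13409

/-- Let `A` be an abelian group and `G` a finite connected simple graph on `V` that is bipartite for a
two-colouring `c : V → Bool` (adjacent vertices get different colours). If `a : V → A` has the same
sum over the vertices of each colour, then some labelling `x` of the edges by elements of `A` has,
at every vertex `v`, the sum of `x` over the edges incident to `v` equal to `a v`. (The published
statement concerns finite bipartite graphs in general; this row treats simple graphs.) -/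
theorem result {V : Type u} [Fintype V] [DecidableEq V]
    (G : SimpleGraph V) [DecidableRel G.Adj] (hconn : G.Connected) (c : V → Bool)
    (hbip : ∀ v w : V, G.Adj v w → c v ≠ c w) (A : Type v) [AddCommGroup A] (a : V → A)
    (hsum : ∑ v ∈ Finset.univ.filter (fun v => c v = true), a v =
      ∑ v ∈ Finset.univ.filter (fun v => c v = false), a v) :
    ∃ x : Sym2 V → A, ∀ v : V, ∑ e ∈ G.incidenceFinset v, x e = a v := by
  classical
  obtain ⟨r⟩ := hconn.nonempty
  have hp : ∀ v : V, Nonempty (G.Walk v r) := fun v => hconn.preconnected v r
  let p : ∀ v : V, G.Walk v r := fun v => (hp v).some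
  refine ⟨∑ v, Lib.helper13.CombGraph.lab (p v) (a v), fun t => ?_⟩
  have key := Lib.helper13.CombGraph.bd_sum G Finset.univ
    (fun v => Lib.helper13.CombGraph.lab (p v) (a v))
  have hT : ∑ v, (if c v = c r then -a v else a v) = 0 := by
    rw [Finset.sum_ite, Finset.sum_neg_distrib]
    cases hr : c r
    · have : (Finset.univ.filter (fun v => ¬ c v = false)) =
          (Finset.univ.filter (fun v => c v = true)) := by
        ext v; simp
      rw [this, hsum]; simp
    · have : (Finset.univ.filter (fun v => ¬ c v = true)) =
          (Finset.univ.filter (fun v => c v = false)) := by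
        ext v; simp
      rw [this, hsum]; simp
  have := congrFun key t
  simp only [Lib.helper13.CombGraph.bd] at this
  rw [this]
  simp only [Finset.sum_apply]
  simp_rw [Lib.helper13.CombGraph.bd_lab G c hbip]
  simp only [Pi.add_apply, Finset.sum_add_distrib]
  rw [Finset.sum_pi_single]
  have h2 : ∑ v, (Pi.single r (if c v = c r then -a v else a v) : V → A) t
      = (Pi.single r (∑ v, (if c v = c r then -a v else a v)) : V → A) t := by
    by_cases htr : t = r
    · subst htr; simp
    · simp [Pi.single_apply, htr]
  rw [h2, hT]
  simp

end Groth.Agent.S13409
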