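import Groth.Statements.S13410
import Groth.Agent.Lib.helper13.CombGraph

set_option autoImplicit false
universe u v
open CombGraph

namespace Groth.Agent.S13410

/-- Let `A` be an abelian group and `G` a finite connected simple graph on `V`, bipartite for a
two-colouring `c`. Consider the additive group of labellings `x : Sym2 V → A` vanishing off the edge
set and with `∑_{e ∋ v} x e = 0` at every vertex `v`. If `e₀` is an edge whose deletion leaves `G`
connected, then evaluation at `e₀` restricted to this group is surjective and split: there is an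
additive map `φ : A → (Sym2 V → A)` with values in this group and with `φ a e₀ = a` for all `a`.
(The published statement concerns finite bipartite graphs in general; this row treats simple
graphs.) -/
theorem result {V : Type u} [Fintype V]
    [DecidableEq V] (G : SimpleGraph V) [DecidableRel G.Adj] (hconn : G.Connected) (c : V → Bool)
    (hbip : ∀ v w : V, G.Adj v w → c v ≠ c w) (A : Type v) [AddCommGroup A] (e₀ : Sym2 V)
    (he₀ : e₀ ∈ G.edgeSet) (hdel : (G.deleteEdges {e₀}).Connected) :
    ∃ φ : A →+ (Sym2 V → A),
      (∀ a : A, (∀ e : Sym2 V, e ∉ G.edgeSet → φ a e = 0) ∧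
        ∀ v : V, ∑ e ∈ G.incidenceFinset v, φ a e = 0) ∧
      ∀ a : A, φ a e₀ = a := by
  classical
  induction e₀ using Sym2.ind with
  | h u₀ w₀ =>
  have hadj : G.Adj u₀ w₀ := by simpa using he₀
  obtain ⟨q⟩ := hdel.preconnected w₀ u₀
  set p' : G.Walk w₀ u₀ := q.mapLe (SimpleGraph.deleteEdges_le _) with hp'
  have hnot : s(u₀, w₀) ∉ p'.edges := by
    rw [hp', SimpleGraph.Walk.edges_mapLe_eq_edges]
    intro hmem
    have := q.edges_subset_edgeSet hmem
    rw [SimpleGraph.edgeSet_deleteEdges] at this
    exact this.2 rfl
  let P : G.Walk u₀ u₀ := SimpleGraph.Walk.cons hadj p'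
  refine ⟨⟨⟨fun a => Lib.helper13.CombGraph.lab P a, Lib.helper13.CombGraph.lab_zero P⟩,
    fun a b => Lib.helper13.CombGraph.lab_add P a b⟩, fun a => ⟨fun e he => ?_, fun v => ?_⟩,
    fun a => ?_⟩
  · exact Lib.helper13.CombGraph.lab_apply_of_notMem_edgeSet P a e he
  · have := congrFun (Lib.helper13.CombGraph.bd_lab G c hbip P a) v
    simp only [Lib.helper13.CombGraph.bd] at this
    show ∑ e ∈ G.incidenceFinset v, Lib.helper13.CombGraph.lab P a e = 0
    rw [this]
    simp only [if_true, Pi.add_apply]
    rw [← Pi.add_apply, ← Pi.single_add]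
    simp
  · show Lib.helper13.CombGraph.lab P a s(u₀, w₀) = a
    simp only [P, Lib.helper13.CombGraph.lab_cons, Pi.add_apply, Pi.single_eq_same]
    rw [Lib.helper13.CombGraph.lab_apply_of_notMem p' (-a) _ hnot, add_zero]

end Groth.Agent.S13410
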