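import Groth.Statements.S13411
import Groth.Agent.Lib.helper13.CombGraph2
import Groth.Agent.S13410

set_option autoImplicit false
universe u v
open CombGraph

namespace Groth.Agent.S13411aux

open SimpleGraph Groth.Agent.Lib.helper13.CombGraph

/-- the group of cycle labellings as a set -/
def Z {V : Type u} [Fintype V] [DecidableEq V] (A : Type v) [AddCommGroup A]
    (G : SimpleGraph V) [DecidableRel G.Adj] : Set (Sym2 V → A) :=
  {x : Sym2 V → A | (∀ e : Sym2 V, e ∉ G.edgeSet → x e = 0) ∧
        ∀ v : V, ∑ e ∈ G.incidenceFinset v, x e = 0}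

lemma sum_incidence_deleteEdges {V : Type u} [Fintype V] [DecidableEq V] {A : Type v}
    [AddCommGroup A] (G : SimpleGraph V) [DecidableRel G.Adj] (e₀ : Sym2 V)
    [DecidableRel (G.deleteEdges {e₀}).Adj] (y : Sym2 V → A) (hy : y e₀ = 0) (v : V) :
    ∑ e ∈ (G.deleteEdges {e₀}).incidenceFinset v, y e = ∑ e ∈ G.incidenceFinset v, y e := by
  apply Finset.sum_subset
  · intro e he
    rw [mem_incidenceFinset] at he ⊢
    exact ⟨(deleteEdges_le _ : G.deleteEdges {e₀} ≤ G) |> edgeSet_mono |> fun h => h he.1, he.2⟩
  · intro e he hne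
    rw [mem_incidenceFinset] at he hne
    by_cases h : e = e₀
    · rw [h, hy]
    · exfalso
      apply hne
      refine ⟨?_, he.2⟩
      rw [edgeSet_deleteEdges]
      exact ⟨he.1, by simpa using h⟩

theorem main {V : Type u} [Fintype V] [DecidableEq V] (c : V → Bool) (A : Type v)
    [AddCommGroup A] : ∀ (n : ℕ) (G : SimpleGraph V) [DecidableRel G.Adj], G.Connected →
    (∀ v w : V, G.Adj v w → c v ≠ c w) → G.edgeFinset.card + 1 = Fintype.card V + n →
    ∃ f : (Fin n → A) →+ (Sym2 V → A), Function.Injective f ∧ Set.range f = Z A G := by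
  intro n
  induction n with
  | zero =>
    intro G _ hconn hbip hn
    have htree : G.IsTree := by
      rw [isTree_iff_connected_and_card]
      refine ⟨hconn, ?_⟩
      rw [Nat.card_eq_fintype_card, Nat.card_eq_fintype_card, ← edgeFinset_card]
      simpa using hn
    refine ⟨0, fun a b _ => Subsingleton.elim _ _, ?_⟩
    ext x
    constructor
    · rintro ⟨a, rfl⟩
      refine ⟨fun e _ => rfl, fun v => by simp⟩
    · rintro ⟨hx0, hbd⟩
      have := eq_zero_of_isAcyclic G htree.isAcyclic c hbip x hx0 hbd
      exact ⟨0, by simp [this]⟩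
  | succ n ih =>
    intro G _ hconn hbip hn
    classical
    have hnot : ¬ G.IsAcyclic := by
      intro hac
      have htree : G.IsTree := ⟨hconn, hac⟩
      have := htree.card_edgeFinset
      omega
    rw [isAcyclic_iff_forall_adj_isBridge] at hnot
    push Not at hnot
    obtain ⟨u₀, w₀, hadj, hbr⟩ := hnot
    set e₀ : Sym2 V := s(u₀, w₀) with he₀def
    have he₀ : e₀ ∈ G.edgeSet := by simpa [e₀] using hadj
    have hdel : (G.deleteEdges {e₀}).Connected := hconn.connected_delete_edge_of_not_isBridge hbr
    obtain ⟨φ, hφ1, hφ2⟩ := Groth.Agent.S13410.result G hconn c hbip A e₀ he₀ hdel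
    have hbip' : ∀ v w : V, (G.deleteEdges {e₀}).Adj v w → c v ≠ c w := fun v w h =>
      hbip v w ((deleteEdges_le _ : G.deleteEdges {e₀} ≤ G) h)
    have hcard : (G.deleteEdges {e₀}).edgeFinset.card + 1 = Fintype.card V + n := by
      have h1 : (G.deleteEdges {e₀}).edgeFinset = G.edgeFinset \ {e₀} := by
        ext e
        simp [edgeSet_deleteEdges]
      rw [h1, Finset.card_sdiff_of_subset (by simpa using he₀)]
      have : 0 < G.edgeFinset.card := Finset.card_pos.mpr ⟨e₀, by simpa using he₀⟩
      simp only [Finset.card_singleton]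
      omega
    obtain ⟨f', hf'inj, hf'range⟩ := ih (G.deleteEdges {e₀}) hdel hbip' hcard
    -- f' values vanish at e₀ and lie in Z A G
    have hf'Z : ∀ b, f' b ∈ Z A (G.deleteEdges {e₀}) := fun b => hf'range ▸ ⟨b, rfl⟩
    have hf'e₀ : ∀ b, f' b e₀ = 0 := fun b => (hf'Z b).1 e₀ (by
      rw [edgeSet_deleteEdges]; exact fun h => h.2 rfl)
    have hf'G : ∀ b, f' b ∈ Z A G := fun b => by
      refine ⟨fun e he => (hf'Z b).1 e ?_, fun v => ?_⟩
      · rw [edgeSet_deleteEdges]; exact fun h => he h.1
      · rw [← sum_incidence_deleteEdges G e₀ (f' b) (hf'e₀ b) v]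
        exact (hf'Z b).2 v
    let tailHom : (Fin (n + 1) → A) →+ (Fin n → A) :=
      AddMonoidHom.pi (fun i => Pi.evalAddMonoidHom (fun _ : Fin (n + 1) => A) i.succ)
    let f : (Fin (n + 1) → A) →+ (Sym2 V → A) :=
      φ.comp (Pi.evalAddMonoidHom (fun _ : Fin (n + 1) => A) 0) + f'.comp tailHom
    have hf_apply : ∀ a, f a = φ (a 0) + f' (fun i => a i.succ) := fun a => rfl
    refine ⟨f, ?_, ?_⟩
    · rw [injective_iff_map_eq_zero]
      intro a ha
      rw [hf_apply] at ha
      have h0 : a 0 = 0 := by
        have := congrFun ha e₀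
        simpa [hφ2, hf'e₀] using this
      rw [h0, map_zero, zero_add] at ha
      have h1 : (fun i : Fin n => a i.succ) = 0 := hf'inj (by rw [ha, map_zero])
      funext i
      refine Fin.cases h0 (fun j => ?_) i
      exact congrFun h1 j
    · ext x
      constructor
      · rintro ⟨a, rfl⟩
        rw [hf_apply]
        have h1 := hφ1 (a 0)
        have h2 := hf'G (fun i => a i.succ)
        refine ⟨fun e he => ?_, fun v => ?_⟩
        · simp [h1.1 e he, h2.1 e he]
        · simp only [Pi.add_apply, Finset.sum_add_distrib, h1.2 v, h2.2 v, add_zero]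
      · rintro ⟨hx0, hbd⟩
        set y : Sym2 V → A := x - φ (x e₀) with hy
        have hye₀ : y e₀ = 0 := by simp [hy, hφ2]
        have hyZ : y ∈ Z A (G.deleteEdges {e₀}) := by
          refine ⟨fun e he => ?_, fun v => ?_⟩
          · by_cases h : e = e₀
            · rw [h, hye₀]
            · have : e ∉ G.edgeSet := fun h' => he (by
                rw [edgeSet_deleteEdges]; exact ⟨h', by simpa using h⟩)
              simp [hy, hx0 e this, (hφ1 (x e₀)).1 e this]
          · rw [sum_incidence_deleteEdges G e₀ y hye₀ v]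
            simp only [hy, Pi.sub_apply, Finset.sum_sub_distrib, hbd v, (hφ1 (x e₀)).2 v,
              sub_zero]
        rw [← hf'range] at hyZ
        obtain ⟨b, hb⟩ := hyZ
        refine ⟨Fin.cons (x e₀) b, ?_⟩
        rw [hf_apply]
        simp only [Fin.cons_zero, Fin.cons_succ]
        rw [show (fun i => b i) = b from rfl, hb, hy]
        abel

end Groth.Agent.S13411aux

namespace Groth.Agent.S13411

/-- Let `A` be an abelian group and `G` a finite connected simple graph on `V`, bipartite for a
two-colouring `c`, with cyclomatic number `n` (number of edges minus number of vertices plus one).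
Then the additive group of labellings `x : Sym2 V → A` vanishing off the edge set and with `∑_{e ∋
v} x e = 0` at every vertex `v` is isomorphic to `A^n`: it is the range of an injective additive map
`(Fin n → A) → (Sym2 V → A)`. (The published statement concerns finite bipartite graphs in general;
this row treats simple graphs.) -/
theorem result {V : Type u} [Fintype V]
    [DecidableEq V] (G : SimpleGraph V) [DecidableRel G.Adj] (hconn : G.Connected) (c : V → Bool)
    (hbip : ∀ v w : V, G.Adj v w → c v ≠ c w) (A : Type v) [AddCommGroup A] (n : ℕ)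
    (hn : G.edgeFinset.card + 1 = Fintype.card V + n) :
    ∃ f : (Fin n → A) →+ (Sym2 V → A), Function.Injective f ∧
      Set.range f = {x : Sym2 V → A | (∀ e : Sym2 V, e ∉ G.edgeSet → x e = 0) ∧
        ∀ v : V, ∑ e ∈ G.incidenceFinset v, x e = 0} := by
  exact Groth.Agent.S13411aux.main c A n G hconn hbip hn

end Groth.Agent.S13411
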