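import Groth.Statements.S13418
import Mathlib
-- import your own Groth.Agent.* helpers here

set_option autoImplicit false
universe u
open CategoryTheory AlgebraicGeometry
open NeronHD

namespace Groth.Agent.S13418

namespace H5S13418
open CategoryTheory CategoryTheory.Limits

universe v u'
variable {C : Type u'} [Category.{v} C] [HasPullbacks C]

theorem main {S S₀ : C} (j : S₀ ⟶ S) (N M Z : Over S)
    (hN : Function.Bijective (fun g : Z ⟶ N => (Over.pullback j).map g))
    (hM : Function.Bijective (fun g : Z ⟶ M => (Over.pullback j).map g)) :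
    Function.Bijective (fun g : Z ⟶ Over.mk (pullback.fst N.hom M.hom ≫ N.hom) =>
      (Over.pullback j).map g) := by
  let pN : Over.mk (pullback.fst N.hom M.hom ≫ N.hom) ⟶ N :=
    Over.homMk (pullback.fst N.hom M.hom) rfl
  let pM : Over.mk (pullback.fst N.hom M.hom ≫ N.hom) ⟶ M :=
    Over.homMk (pullback.snd N.hom M.hom) (by simp [pullback.condition])
  have hext : ∀ (g₁ g₂ : Z ⟶ Over.mk (pullback.fst N.hom M.hom ≫ N.hom)),
      g₁ ≫ pN = g₂ ≫ pN → g₁ ≫ pM = g₂ ≫ pM → g₁ = g₂ := by
    intro g₁ g₂ h1 h2
    ext
    apply pullback.hom_ext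
    · simpa [pN] using congrArg (fun t => t.left) h1
    · simpa [pM] using congrArg (fun t => t.left) h2
  have e1 : ((Over.pullback j).map pN).left ≫ pullback.fst _ _ =
      pullback.fst _ _ ≫ pullback.fst N.hom M.hom := by
    simp only [pN, Over.pullback_map_left, Over.homMk_left]
    exact pullback.lift_fst _ _ _
  have e2 : ((Over.pullback j).map pM).left ≫ pullback.fst _ _ =
      pullback.fst _ _ ≫ pullback.snd N.hom M.hom := by
    simp only [pM, Over.pullback_map_left, Over.homMk_left]
    exact pullback.lift_fst _ _ _
  have hext' : ∀ (W : Over S₀)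
      (x y : W ⟶ (Over.pullback j).obj (Over.mk (pullback.fst N.hom M.hom ≫ N.hom))),
      x ≫ (Over.pullback j).map pN = y ≫ (Over.pullback j).map pN →
      x ≫ (Over.pullback j).map pM = y ≫ (Over.pullback j).map pM → x = y := by
    intro W x y h1 h2
    ext
    apply pullback.hom_ext
    · apply pullback.hom_ext
      · have := congrArg (fun t => t.left ≫ pullback.fst _ _) h1
        simp only [Over.comp_left, Category.assoc, e1] at this
        simpa using this
      · have := congrArg (fun t => t.left ≫ pullback.fst _ _) h2
        simp only [Over.comp_left, Category.assoc, e2] at this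
        simpa using this
    · have hx := Over.w x
      have hy := Over.w y
      simp only [Over.pullback_obj_hom] at hx hy
      rw [hx, hy]
  constructor
  · intro g₁ g₂ h
    simp only at h
    apply hext
    · apply hN.1
      simp only [Functor.map_comp, h]
    · apply hM.1
      simp only [Functor.map_comp, h]
  · intro h
    obtain ⟨a, ha⟩ := hN.2 (h ≫ (Over.pullback j).map pN)
    obtain ⟨b, hb⟩ := hM.2 (h ≫ (Over.pullback j).map pM)
    simp only at ha hb
    let g : Z ⟶ Over.mk (pullback.fst N.hom M.hom ≫ N.hom) :=
      Over.homMk (pullback.lift a.left b.left (by rw [Over.w a, Over.w b]))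
        (by simp only [Over.mk_hom]; rw [pullback.lift_fst_assoc, Over.w])
    have hga : g ≫ pN = a := by
      ext
      simp only [g, pN, Over.comp_left, Over.homMk_left]
      exact pullback.lift_fst _ _ _
    have hgb : g ≫ pM = b := by
      ext
      simp only [g, pM, Over.comp_left, Over.homMk_left]
      exact pullback.lift_snd _ _ _
    refine ⟨g, ?_⟩
    apply hext'
    · rw [← Functor.map_comp, hga, ha]
    · rw [← Functor.map_comp, hgb, hb]

end H5S13418

/-- Let S be a locally Noetherian scheme over a field of characteristic 0 and S₀ ⊆ S a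
scheme-theoretically dense open. If N and M are smooth S-schemes having the Néron mapping property
for S₀ ⊆ S (for every smooth S-scheme Z, restriction to S₀ is a bijection from S-morphisms Z → N
onto S₀-morphisms Z|S₀ → N|S₀), then the fibre product N ×_S M has the Néron mapping property for S₀
⊆ S (its smoothness over S being automatic). (This row is the case of schemes, with smooth test
schemes, of a statement about algebraic spaces.) -/
theorem result {k : Type u} [Field k] [CharZero k] {S : Scheme.{u}} (σ : S ⟶ Spec (CommRingCat.of k)) [IsLocallyNoetherian S] (S₀ : S.Opens) (hS₀ : CInt.IsSchematicallyDense S₀)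
    (N M : Over S) [Smooth N.hom] [Smooth M.hom]
    (hN : ∀ Z : Over S, Smooth Z.hom → Function.Bijective (fun g : Z ⟶ N => (Over.pullback S₀.ι).map g))
    (hM : ∀ Z : Over S, Smooth Z.hom → Function.Bijective (fun g : Z ⟶ M => (Over.pullback S₀.ι).map g)) :
    ∀ Z : Over S, Smooth Z.hom → Function.Bijective (fun g : Z ⟶ Over.mk (Limits.pullback.fst N.hom M.hom ≫ N.hom) => (Over.pullback S₀.ι).map g) := by
  intro Z hZ
  exact H5S13418.main S₀.ι N M Z (hN Z hZ) (hM Z hZ)

end Groth.Agent.S13418
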