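import Groth.Statements.S13420
import Mathlib
-- import your own Groth.Agent.* helpers here

set_option autoImplicit false
universe u
open CategoryTheory AlgebraicGeometry
open NeronHD

namespace Groth.Agent.S13420

namespace H5S13420
open CategoryTheory CategoryTheory.Limits

universe v u'
variable {C : Type u'} [Category.{v} C] [HasPullbacks C]

theorem bij_of_natIso {D : Type*} {E : Type*} [Category D] [Category E] {F F' : D ⥤ E}
    (e : F ≅ F') (X Y : D) :
    Function.Bijective (fun g : X ⟶ Y => F.map g) ↔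
      Function.Bijective (fun g : X ⟶ Y => F'.map g) := by
  have : (fun g : X ⟶ Y => F'.map g) =
      (Iso.homCongr (e.app X) (e.app Y)) ∘ (fun g : X ⟶ Y => F.map g) := by
    funext g
    simp [Iso.homCongr]
  rw [this]
  exact (Equiv.comp_bijective _ _).symm

theorem bij_comp {S S₁ S₀₁ : C} (a : S₀₁ ⟶ S₁) (b : S₁ ⟶ S) (k : S₀₁ ⟶ S) (hk : k = a ≫ b)
    (Z N : Over S) :
    Function.Bijective (fun g : Z ⟶ N => (Over.pullback k).map g) ↔
    Function.Bijective (fun g : Z ⟶ N => (Over.pullback a).map ((Over.pullback b).map g)) := by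
  subst hk
  exact bij_of_natIso (Over.pullbackComp a b) Z N

theorem bij_iso {S S₀ S₀' : C} (θ : S₀' ≅ S₀) (j₀ : S₀ ⟶ S) (k : S₀' ⟶ S) (hk : k = θ.hom ≫ j₀)
    (Z N : Over S) :
    Function.Bijective (fun g : Z ⟶ N => (Over.pullback k).map g) ↔
    Function.Bijective (fun g : Z ⟶ N => (Over.pullback j₀).map g) := by
  rw [bij_comp θ.hom j₀ k hk]
  haveI : (Over.pullback θ.hom).IsEquivalence :=
    (Over.mapPullbackAdj θ.hom).isEquivalence_right_of_isEquivalence_left
  have hff : Function.Bijective (fun g : (Over.pullback j₀).obj Z ⟶ (Over.pullback j₀).obj N =>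
      (Over.pullback θ.hom).map g) :=
    (Functor.FullyFaithful.ofFullyFaithful (Over.pullback θ.hom)).map_bijective _ _
  exact Function.Bijective.of_comp_iff' hff _

theorem bij_restrict {S S₁ S₀ S₀₁ : C} (j₁ : S₁ ⟶ S) (j₀ : S₀ ⟶ S) (j₀₁ : S₀₁ ⟶ S₁)
    (θ : S₀₁ ≅ S₀) (h : θ.hom ≫ j₀ = j₀₁ ≫ j₁) (Z N : Over S) :
    Function.Bijective (fun g : Z ⟶ N => (Over.pullback j₀).map g) ↔
    Function.Bijective (fun g : Z ⟶ N =>
      (Over.pullback j₀₁).map ((Over.pullback j₁).map g)) := by
  rw [← bij_iso θ j₀ (j₀₁ ≫ j₁) h.symm, bij_comp j₀₁ j₁ _ rfl]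

end H5S13420

/-- Let S be a locally Noetherian scheme over a field of characteristic 0, S₀ ⊆ S₁ ⊆ S opens with S₀
scheme-theoretically dense in S, and N a smooth S-scheme. If N has the Néron mapping property for S₀
⊆ S and N|S₁ has the Néron mapping property for S₀ ⊆ S₁ (restriction of morphisms from smooth
schemes over the base is bijective), then N has the Néron mapping property for S₁ ⊆ S. (Case of
schemes, with smooth test schemes, of a statement about algebraic spaces.) -/
theorem result {k : Type u} [Field k] [CharZero k] {S : Scheme.{u}} (σ : S ⟶ Spec (CommRingCat.of k)) [IsLocallyNoetherian S] (S₀ S₁ : S.Opens) (h01 : S₀ ≤ S₁) (hS₀ : CInt.IsSchematicallyDense S₀)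
    (N : Over S) [Smooth N.hom]
    (hN0 : ∀ Z : Over S, Smooth Z.hom → Function.Bijective (fun g : Z ⟶ N => (Over.pullback S₀.ι).map g))
    (hN10 : ∀ Z : Over (S₁ : Scheme.{u}), Smooth Z.hom → Function.Bijective (fun g : Z ⟶ (Over.pullback S₁.ι).obj N => (Over.pullback (S₁.ι ⁻¹ᵁ S₀).ι).map g)) :
    ∀ Z : Over S, Smooth Z.hom → Function.Bijective (fun g : Z ⟶ N => (Over.pullback S₁.ι).map g) := by
  intro Z hZ
  haveI := hZ
  have h0 := hN0 Z hZ
  rw [H5S13420.bij_restrict S₁.ι S₀.ι (S₁.ι ⁻¹ᵁ S₀).ι (Scheme.Opens.isoOfLE h01)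
    (Scheme.Opens.isoOfLE_hom_ι h01) Z N] at h0
  have h2 := hN10 ((Over.pullback S₁.ι).obj Z) (by
    simp only [Over.pullback_obj_hom]; infer_instance)
  exact (Function.Bijective.of_comp_iff' h2 _).1 h0

end Groth.Agent.S13420
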