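import Groth.Statements.S13421
import Mathlib
-- import your own Groth.Agent.* helpers here

set_option autoImplicit false
universe u
open CategoryTheory AlgebraicGeometry
open NeronHD

namespace Groth.Agent.S13421

namespace H5S13421
open CategoryTheory CategoryTheory.Limits

universe v u'
variable {C : Type u'} [Category.{v} C] [HasPullbacks C]

theorem map_left_fst {S S₀ : C} (j : S₀ ⟶ S) {A B : Over S} (p : A ⟶ B) :
    ((Over.pullback j).map p).left ≫ pullback.fst B.hom j = pullback.fst A.hom j ≫ p.left := by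
  simp only [Over.pullback_map_left]
  exact pullback.lift_fst _ _ _

theorem map_left_snd {S S₀ : C} (j : S₀ ⟶ S) {A B : Over S} (p : A ⟶ B) :
    ((Over.pullback j).map p).left ≫ pullback.snd B.hom j = pullback.snd A.hom j := by
  simp only [Over.pullback_map_left]
  exact pullback.lift_snd _ _ _

section
variable {T T₀ S S₀ : C} (f : S ⟶ T) (j : T₀ ⟶ T) (j' : S₀ ⟶ S) (f₀ : S₀ ⟶ T₀)
  (sq : IsPullback f₀ j' j f) {A : C} (z : A ⟶ T) (s : A ⟶ S) (hs : s ≫ f = z)

noncomputable def κ : pullback s j' ⟶ pullback z j :=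
  pullback.lift (pullback.fst _ _) (pullback.snd _ _ ≫ f₀)
    (by rw [← hs, ← Category.assoc, pullback.condition, Category.assoc, Category.assoc, sq.w])

noncomputable def κ' : pullback z j ⟶ pullback s j' :=
  pullback.lift (pullback.fst _ _)
    (sq.lift (pullback.snd _ _) (pullback.fst _ _ ≫ s)
      (by rw [Category.assoc, hs, pullback.condition]))
    (by rw [sq.lift_snd])

theorem κ_fst : κ f j j' f₀ sq z s hs ≫ pullback.fst _ _ = pullback.fst _ _ :=
  pullback.lift_fst _ _ _

theorem κ_snd : κ f j j' f₀ sq z s hs ≫ pullback.snd _ _ = pullback.snd _ _ ≫ f₀ :=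
  pullback.lift_snd _ _ _

theorem κ'_fst : κ' f j j' f₀ sq z s hs ≫ pullback.fst _ _ = pullback.fst _ _ :=
  pullback.lift_fst _ _ _

theorem κ'_snd : κ' f j j' f₀ sq z s hs ≫ pullback.snd _ _ ≫ f₀ = pullback.snd _ _ := by
  unfold κ'
  rw [← Category.assoc, pullback.lift_snd, sq.lift_fst]

theorem κ'_κ : κ' f j j' f₀ sq z s hs ≫ κ f j j' f₀ sq z s hs = 𝟙 _ := by
  apply pullback.hom_ext
  · rw [Category.assoc, κ_fst, κ'_fst, Category.id_comp]
  · rw [Category.assoc, κ_snd, κ'_snd, Category.id_comp]

end

theorem main {T T₀ S S₀ N : C} (f : S ⟶ T) (j : T₀ ⟶ T) (j' : S₀ ⟶ S) (f₀ : S₀ ⟶ T₀)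
    (sq : IsPullback f₀ j' j f) (g : N ⟶ S) (Z : Over T)
    (ha : Function.Bijective (fun u : Z ⟶ Over.mk f => (Over.pullback j).map u))
    (hb : ∀ s : Z.left ⟶ S, s ≫ f = Z.hom →
      Function.Bijective (fun u : Over.mk s ⟶ Over.mk g => (Over.pullback j').map u)) :
    Function.Bijective (fun u : Z ⟶ Over.mk (g ≫ f) => (Over.pullback j).map u) := by
  let gS : Over.mk (g ≫ f) ⟶ Over.mk f := Over.homMk g rfl
  have hgS : gS.left = g := rfl
  constructor
  · intro u₁ u₂ h
    simp only at h
    have h0 : u₁ ≫ gS = u₂ ≫ gS := by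
      apply ha.1
      simp only [Functor.map_comp, h]
    have h0' : u₁.left ≫ g = u₂.left ≫ g := by
      have := congrArg (fun t => t.left) h0
      simpa [hgS] using this
    have hs : (u₁.left ≫ g) ≫ f = Z.hom := by
      have := Over.w u₁
      simpa using this
    have h1 : pullback.fst Z.hom j ≫ u₁.left = pullback.fst Z.hom j ≫ u₂.left := by
      have := congrArg (fun t => t.left ≫ pullback.fst _ _) h
      simp only [map_left_fst] at this
      exact this
    let ũ₁ : Over.mk (u₁.left ≫ g) ⟶ Over.mk g := Over.homMk u₁.left rfl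
    let ũ₂ : Over.mk (u₁.left ≫ g) ⟶ Over.mk g := Over.homMk u₂.left h0'.symm
    have h2 : ũ₁ = ũ₂ := by
      apply (hb _ hs).1
      simp only
      ext
      apply pullback.hom_ext
      · rw [map_left_fst, map_left_fst]
        have e : pullback.fst (Over.mk (u₁.left ≫ g)).hom j' =
            κ f j j' f₀ sq Z.hom (u₁.left ≫ g) hs ≫ pullback.fst Z.hom j :=
          (κ_fst f j j' f₀ sq Z.hom (u₁.left ≫ g) hs).symm
        rw [e]
        show _ ≫ u₁.left = _ ≫ u₂.left
        rw [Category.assoc, Category.assoc, h1]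
      · rw [map_left_snd, map_left_snd]
    ext
    exact congrArg (fun t => t.left) h2
  · intro h
    obtain ⟨σ, hσ⟩ := ha.2 (h ≫ (Over.pullback j).map gS)
    simp only at hσ
    have hs : σ.left ≫ f = Z.hom := by
      have := Over.w σ
      simpa using this
    have hh : h.left ≫ pullback.snd (g ≫ f) j = pullback.snd Z.hom j := Over.w h
    have h3 : h.left ≫ pullback.fst (g ≫ f) j ≫ g = pullback.fst Z.hom j ≫ σ.left := by
      have := congrArg (fun t => t.left ≫ pullback.fst _ _) hσ
      simp only [Over.comp_left, Category.assoc, map_left_fst, hgS] at this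
      exact this.symm
    have hcond : (κ f j j' f₀ sq Z.hom σ.left hs ≫ h.left ≫ pullback.fst (g ≫ f) j) ≫ g =
        pullback.snd σ.left j' ≫ j' := by
      simp only [Category.assoc]
      rw [h3, ← Category.assoc, κ_fst, pullback.condition]
    let h' : (Over.pullback j').obj (Over.mk σ.left) ⟶ (Over.pullback j').obj (Over.mk g) :=
      Over.homMk (pullback.lift (κ f j j' f₀ sq Z.hom σ.left hs ≫ h.left ≫
        pullback.fst (g ≫ f) j) (pullback.snd σ.left j') hcond) (by
          simp only [Over.pullback_obj_hom, Over.mk_hom]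
          exact pullback.lift_snd _ _ _)
    have hh' : h'.left ≫ pullback.fst g j' = κ f j j' f₀ sq Z.hom σ.left hs ≫ h.left ≫
        pullback.fst (g ≫ f) j := pullback.lift_fst _ _ _
    obtain ⟨ũ, hũ⟩ := (hb σ.left hs).2 h'
    simp only at hũ
    have hũ1 : pullback.fst σ.left j' ≫ ũ.left = κ f j j' f₀ sq Z.hom σ.left hs ≫ h.left ≫
        pullback.fst (g ≫ f) j := by
      rw [← hh', ← hũ]
      exact (map_left_fst j' ũ).symm
    have hũw : ũ.left ≫ g = σ.left := Over.w ũ
    let u : Z ⟶ Over.mk (g ≫ f) := Over.homMk ũ.left (by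
      simp only [Over.mk_hom]
      rw [← Category.assoc, hũw, hs])
    have hul : u.left = ũ.left := rfl
    refine ⟨u, ?_⟩
    simp only
    ext
    apply pullback.hom_ext
    · change ((Over.pullback j).map u).left ≫ pullback.fst (g ≫ f) j =
        h.left ≫ pullback.fst (g ≫ f) j
      have e1 := map_left_fst j u
      simp only [Over.mk_hom] at e1
      rw [e1, hul]
      have : pullback.fst Z.hom j =
          κ' f j j' f₀ sq Z.hom σ.left hs ≫ pullback.fst σ.left j' :=
        (κ'_fst f j j' f₀ sq Z.hom σ.left hs).symm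
      rw [this, Category.assoc, hũ1, ← Category.assoc, κ'_κ, Category.id_comp]
    · change ((Over.pullback j).map u).left ≫ pullback.snd (g ≫ f) j =
        h.left ≫ pullback.snd (g ≫ f) j
      have e2 := map_left_snd j u
      simp only [Over.mk_hom] at e2
      rw [e2, hh]


section Sch
open AlgebraicGeometry

theorem smooth_of_comp {X Y Z : Scheme.{u}} (s : X ⟶ Y) (f : Y ⟶ Z) [Etale f]
    (h : Smooth (s ≫ f)) : Smooth s := by
  haveI : MorphismProperty.IsMultiplicative (@Smooth : MorphismProperty Scheme.{u}) :=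
    { id_mem := fun X => inferInstanceAs (Smooth (𝟙 X)) }
  have : MorphismProperty.HasOfPostcompProperty @Smooth
      (@LocallyOfFiniteType ⊓ @FormallyUnramified : MorphismProperty Scheme.{u}) := by
    rw [MorphismProperty.hasOfPostcompProperty_iff_le_diagonal]
    intro X Y f ⟨hft, hfu⟩
    have : Etale (pullback.diagonal f) := inferInstance
    exact inferInstanceAs (Smooth (pullback.diagonal f))
  exact MorphismProperty.of_postcomp (W := @Smooth)
    (W' := (@LocallyOfFiniteType ⊓ @FormallyUnramified : MorphismProperty Scheme.{u})) s f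
    ⟨inferInstance, inferInstance⟩ h

end Sch

end H5S13421

/-- Let T be a locally Noetherian scheme over a field of characteristic 0 and T₀ ⊆ T a
scheme-theoretically dense open. Let f : S → T be étale and such that S, viewed as a T-scheme, has
the Néron mapping property for T₀ ⊆ T, and let g : N → S be smooth and such that N, viewed as an
S-scheme, has the Néron mapping property for f⁻¹(T₀) ⊆ S (restriction of morphisms from smooth
schemes over the base is bijective). Then N → T, the composite g ≫ f, has the Néron mapping property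
for T₀ ⊆ T. (Case of schemes, with smooth test schemes, of a statement about algebraic spaces.) -/
theorem result {k : Type u} [Field k] [CharZero k] {T : Scheme.{u}} (τ : T ⟶ Spec (CommRingCat.of k)) [IsLocallyNoetherian T] (T₀ : T.Opens) (hT₀ : CInt.IsSchematicallyDense T₀)
    {S N : Scheme.{u}} (f : S ⟶ T) [Etale f] (g : N ⟶ S) [Smooth g]
    (hS : ∀ Z : Over T, Smooth Z.hom → Function.Bijective (fun g : Z ⟶ Over.mk f => (Over.pullback T₀.ι).map g))
    (hN : ∀ Z : Over S, Smooth Z.hom → Function.Bijective (fun g : Z ⟶ Over.mk g => (Over.pullback (f ⁻¹ᵁ T₀).ι).map g)) :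
    ∀ Z : Over T, Smooth Z.hom → Function.Bijective (fun g : Z ⟶ Over.mk (g ≫ f) => (Over.pullback T₀.ι).map g) := by
  intro Z hZ
  refine H5S13421.main f T₀.ι (f ⁻¹ᵁ T₀).ι (f ∣_ T₀) (isPullback_morphismRestrict f T₀) g Z
    (hS Z hZ) ?_
  intro s hs
  apply hN (Over.mk s)
  show Smooth s
  exact H5S13421.smooth_of_comp s f (hs ▸ hZ)

end Groth.Agent.S13421
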