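import Groth.Statements.S13427
import Mathlib
-- import your own Groth.Agent.* helpers here

set_option autoImplicit false
universe u
open CategoryTheory AlgebraicGeometry
open NeronHD

namespace Groth.Agent.S13427

namespace H5S13427
open CategoryTheory CategoryTheory.Limits

universe v u'
variable {C : Type u'} [Category.{v} C] [HasPullbacks C]

theorem map_left_fst {S S₀ : C} (j : S₀ ⟶ S) {A B : Over S} (p : A ⟶ B) :
    ((Over.pullback j).map p).left ≫ pullback.fst B.hom j = pullback.fst A.hom j ≫ p.left := by
  simp only [Over.pullback_map_left]
  exact pullback.lift_fst _ _ _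

theorem main {S S₀ : C} (j : S₀ ⟶ S) (G H Z : Over S) (f : G ⟶ H) (e : S ⟶ H.left)
    (he : e ≫ H.hom = 𝟙 S)
    (hG : Function.Bijective (fun g : Z ⟶ G => (Over.pullback j).map g))
    (hH : Function.Injective (fun g : Z ⟶ H => (Over.pullback j).map g)) :
    Function.Bijective (fun g : Z ⟶ Over.mk (pullback.snd f.left e) =>
      (Over.pullback j).map g) := by
  have hKG : pullback.fst f.left e ≫ G.hom = pullback.snd f.left e := by
    rw [← Over.w f, ← Category.assoc, pullback.condition, Category.assoc, he, Category.comp_id]
  let pG : Over.mk (pullback.snd f.left e) ⟶ G := Over.homMk (pullback.fst f.left e) hKG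
  have hpG : pG.left = pullback.fst f.left e := rfl
  have hext : ∀ (g₁ g₂ : Z ⟶ Over.mk (pullback.snd f.left e)), g₁ ≫ pG = g₂ ≫ pG → g₁ = g₂ := by
    intro g₁ g₂ h1
    ext
    apply pullback.hom_ext
    · simpa [pG] using congrArg (fun t => t.left) h1
    · have h1 := Over.w g₁
      have h2 := Over.w g₂
      simp only [Over.mk_hom] at h1 h2
      rw [h1, h2]
  have c : pullback.fst (pullback.snd f.left e) j ≫ pullback.snd f.left e =
      pullback.snd (pullback.snd f.left e) j ≫ j := pullback.condition
  have hext' : ∀ (W : Over S₀)
      (x y : W ⟶ (Over.pullback j).obj (Over.mk (pullback.snd f.left e))),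
      x ≫ (Over.pullback j).map pG = y ≫ (Over.pullback j).map pG → x = y := by
    intro W x y h1
    have hx : x.left ≫ pullback.snd (pullback.snd f.left e) j = W.hom := Over.w x
    have hy : y.left ≫ pullback.snd (pullback.snd f.left e) j = W.hom := Over.w y
    ext
    apply pullback.hom_ext
    · apply pullback.hom_ext
      · have := congrArg (fun t => t.left ≫ pullback.fst _ _) h1
        simp only [Over.comp_left, Category.assoc, map_left_fst, hpG] at this
        simpa using this
      · simp only [Category.assoc, Over.mk_hom]
        rw [c, ← Category.assoc, ← Category.assoc, hx, hy]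
    · exact hx.trans hy.symm
  constructor
  · intro g₁ g₂ h
    simp only at h
    apply hext
    apply hG.1
    simp only [Functor.map_comp, h]
  · intro h
    obtain ⟨a, ha⟩ := hG.2 (h ≫ (Over.pullback j).map pG)
    simp only at ha
    let eZ : Z ⟶ H := Over.homMk (Z.hom ≫ e) (by rw [Category.assoc, he, Category.comp_id])
    have heZ : eZ.left = Z.hom ≫ e := rfl
    have hh : h.left ≫ pullback.snd (pullback.snd f.left e) j = pullback.snd Z.hom j := Over.w h
    have h2 : pullback.fst Z.hom j ≫ a.left =
        h.left ≫ pullback.fst (pullback.snd f.left e) j ≫ pullback.fst f.left e := by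
      have := congrArg (fun t => t.left ≫ pullback.fst _ _) ha
      simp only [Over.comp_left, Category.assoc, map_left_fst, hpG] at this
      exact this
    have hae : a ≫ f = eZ := by
      apply hH
      simp only
      ext
      apply pullback.hom_ext
      · rw [map_left_fst, map_left_fst, Over.comp_left, heZ, ← Category.assoc, h2]
        simp only [Category.assoc]
        rw [pullback.condition, ← Category.assoc (pullback.fst _ _), c]
        simp only [Category.assoc]
        rw [← Category.assoc h.left, hh, ← Category.assoc, ← pullback.condition, Category.assoc]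
      · simp only [Over.pullback_map_left]
        rw [pullback.lift_snd, pullback.lift_snd]
    have hcomm : a.left ≫ f.left = Z.hom ≫ e := by
      have := congrArg (fun t => t.left) hae
      simpa [eZ] using this
    let g : Z ⟶ Over.mk (pullback.snd f.left e) :=
      Over.homMk (pullback.lift a.left Z.hom hcomm)
        (by simp only [Over.mk_hom]; rw [pullback.lift_snd])
    have hga : g ≫ pG = a := by
      ext
      simp only [g, pG, Over.comp_left, Over.homMk_left]
      exact pullback.lift_fst _ _ _
    refine ⟨g, ?_⟩
    apply hext'
    rw [← Functor.map_comp, hga, ha]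

end H5S13427

/-- Let S be a locally Noetherian scheme over a field of characteristic 0, S₀ ⊆ S a scheme-theoretically
dense open, and G, H smooth S-schemes with the Néron mapping property for S₀ ⊆ S (restriction to S₀
of S-morphisms from smooth S-schemes is bijective). Let f : G → H be an S-morphism and e : S → H a
section of H → S, and let K = G ×_H S be the fibre of f over e (the case in view: f a homomorphism
of smooth group schemes, e the unit, K the kernel, so that 1 → K → G → H is left exact). If K → S is
smooth, then K has the Néron mapping property for S₀ ⊆ S. (Case of schemes, with smooth test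
schemes, of a statement about group algebraic spaces.) -/
theorem result {k : Type u} [Field k] [CharZero k] {S : Scheme.{u}} (σ : S ⟶ Spec (CommRingCat.of k)) [IsLocallyNoetherian S] (S₀ : S.Opens) (hS₀ : CInt.IsSchematicallyDense S₀)
    (G H : Over S) [Smooth G.hom] [Smooth H.hom]
    (hG : ∀ Z : Over S, Smooth Z.hom → Function.Bijective (fun g : Z ⟶ G => (Over.pullback S₀.ι).map g))
    (hH : ∀ Z : Over S, Smooth Z.hom → Function.Bijective (fun g : Z ⟶ H => (Over.pullback S₀.ι).map g))
    (f : G ⟶ H) (e : S ⟶ H.left) (he : e ≫ H.hom = 𝟙 S)
    [Smooth (Limits.pullback.snd f.left e)] :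
    ∀ Z : Over S, Smooth Z.hom → Function.Bijective (fun g : Z ⟶ Over.mk (Limits.pullback.snd f.left e) => (Over.pullback S₀.ι).map g) := by
  intro Z hZ
  exact H5S13427.main S₀.ι G H Z f e he (hG Z hZ) (hH Z hZ).1

end Groth.Agent.S13427
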