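import Groth.Statements.S13430
import Mathlib
-- import your own Groth.Agent.* helpers here

set_option autoImplicit false
universe u
open CategoryTheory MonoidalCategory CartesianMonoidalCategory MonObj GrpObj AlgebraicGeometry
open NeronHD

namespace Groth.Agent.S13430

namespace H5S13430

open CategoryTheory CategoryTheory.Limits MonoidalCategory CartesianMonoidalCategory

universe v₁ v₂ u₁ u₂

variable {C : Type u₁} [Category.{v₁} C] {D : Type u₂} [Category.{v₂} D]
  [CartesianMonoidalCategory C] (F : C ⥤ D) [PreservesLimitsOfShape (Discrete WalkingPair) F]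

lemma F_hom_ext {A B : C} {T : D} (f g : T ⟶ F.obj (A ⊗ B))
    (h1 : f ≫ F.map (fst A B) = g ≫ F.map (fst A B))
    (h2 : f ≫ F.map (snd A B) = g ≫ F.map (snd A B)) : f = g := by
  have hl := isLimitOfPreserves F (tensorProductIsBinaryProduct A B)
  apply hl.hom_ext
  rintro ⟨⟨⟩⟩
  · simpa using h1
  · simpa using h2

/-- mapping property -/
def NMP (P : C → Prop) (A : C) : Prop :=
  ∀ Z : C, P Z → Function.Bijective (fun g : Z ⟶ A => F.map g)

lemma nmp_prod (P : C → Prop) {A B : C} (hA : NMP F P A) (hB : NMP F P B) : NMP F P (A ⊗ B) := by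
  intro Z hZ
  constructor
  · intro f f' h
    simp only at h
    apply CartesianMonoidalCategory.hom_ext
    · apply (hA Z hZ).1
      simp only [Functor.map_comp, h]
    · apply (hB Z hZ).1
      simp only [Functor.map_comp, h]
  · intro h
    obtain ⟨a, ha⟩ := (hA Z hZ).2 (h ≫ F.map (fst A B))
    obtain ⟨b, hb⟩ := (hB Z hZ).2 (h ≫ F.map (snd A B))
    simp only at ha hb
    refine ⟨lift a b, ?_⟩
    simp only
    apply F_hom_ext F
    · rw [← Functor.map_comp, lift_fst, ha]
    · rw [← Functor.map_comp, lift_snd, hb]

lemma isIso_of_nmp (P : C → Prop) {X Y : C} (hX : NMP F P X) (hY : NMP F P Y)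
    (PX : P X) (PY : P Y) (τ : X ⟶ Y) [IsIso (F.map τ)] : IsIso τ := by
  obtain ⟨ρ, hρ⟩ := (hX Y PY).2 (inv (F.map τ))
  simp only at hρ
  refine ⟨ρ, ?_, ?_⟩
  · apply (hX X PX).1
    simp only [Functor.map_comp, hρ, IsIso.hom_inv_id]
    exact (F.map_id X).symm
  · apply (hY Y PY).1
    simp only [Functor.map_comp, hρ, IsIso.inv_hom_id]
    exact (F.map_id Y).symm

end H5S13430

namespace H5S13430

open CategoryTheory CategoryTheory.Limits MonoidalCategory CartesianMonoidalCategory AlgebraicGeometry


lemma smooth_tensor {S : Scheme.{u}} (A B : Over S) [Smooth A.hom] [Smooth B.hom] :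
    Smooth (A ⊗ B).hom := by
  rw [Over.tensorObj_hom]
  infer_instance

theorem main {S : Scheme.{u}} (S₀ : S.Opens)
    (G : Over S) [Smooth G.hom]
    (hG : ∀ Z : Over S, Smooth Z.hom → Function.Bijective (fun g : Z ⟶ G => (Over.pullback S₀.ι).map g))
    (N : Over S) [Smooth N.hom]
    (hN : ∀ Z : Over S, Smooth Z.hom → Function.Bijective (fun g : Z ⟶ N => (Over.pullback S₀.ι).map g))
    (τ : G ⊗ N ⟶ N ⊗ N)
    (h0 : IsIso ((Over.pullback S₀.ι).map τ)) : IsIso τ := by
  haveI : PreservesLimitsOfShape (Discrete WalkingPair) (Over.pullback S₀.ι) := inferInstance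
  have h1 : NMP (Over.pullback S₀.ι) (fun Z : Over S => Smooth Z.hom) (G ⊗ N) :=
    nmp_prod _ _ hG hN
  have h2 : NMP (Over.pullback S₀.ι) (fun Z : Over S => Smooth Z.hom) (N ⊗ N) :=
    nmp_prod _ _ hN hN
  exact isIso_of_nmp (Over.pullback S₀.ι) (fun Z : Over S => Smooth Z.hom) h1 h2
    (smooth_tensor G N) (smooth_tensor N N) τ

end H5S13430

/-- The implication ⇐: let S be a locally Noetherian scheme over a field of characteristic 0 and S₀ ⊆ S
a scheme-theoretically dense open. Let G be a smooth group scheme over S and N a smooth S-scheme,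
both with the Néron mapping property for S₀ ⊆ S (restriction to S₀ of S-morphisms from smooth
S-schemes is bijective), and let a be an action of G on N over S whose translation map G ×_S N → N
×_S N, (g, x) ↦ (g·x, x), restricts to an isomorphism over S₀, so that N|S₀ is a pseudo-torsor under
G|S₀ and a is the unique extension of that action. If N → S is surjective, then the translation map
is an isomorphism: N is a pseudo-torsor under G over all of S (and then a torsor for the étale
topology, N → S being smooth and surjective). (Case of schemes of a statement about group algebraic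
spaces; the converse 'torsor ⇒ surjective' presumes local triviality.) -/
theorem result {k : Type u} [Field k] [CharZero k] {S : Scheme.{u}} (σ : S ⟶ Spec (CommRingCat.of k)) [IsLocallyNoetherian S] (S₀ : S.Opens) (hS₀ : CInt.IsSchematicallyDense S₀)
    (G : Over S) [GrpObj G] [Smooth G.hom]
    (hG : ∀ Z : Over S, Smooth Z.hom → Function.Bijective (fun g : Z ⟶ G => (Over.pullback S₀.ι).map g))
    (N : Over S) [Smooth N.hom] [Surjective N.hom]
    (hN : ∀ Z : Over S, Smooth Z.hom → Function.Bijective (fun g : Z ⟶ N => (Over.pullback S₀.ι).map g))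
    (a : AlgGrp.Action G N)
    (h0 : IsIso ((Over.pullback S₀.ι).map (lift a.act (snd G N)))) :
    NonAbH1.IsPseudoTorsorSch a := by
  exact H5S13430.main S₀ G hG N hN _ h0

end Groth.Agent.S13430
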