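import Groth.Statements.S13441
import Mathlib

set_option autoImplicit false
universe u
open W4c1hilbpn

namespace Groth.Agent.S13441

open W4c1hilbpn MvPolynomial in
theorem finite_not_mem_exps {k : Type u} [Field k] {σ : Type} [Finite σ]
    (I : Ideal (MvPolynomial σ k)) (hI : IsMonomial I)
    [Module.Finite k (MvPolynomial σ k ⧸ I)] (β : ℕ → (σ →₀ ℕ)) (hβ : Function.Injective β) :
    {c : ℕ | β c ∉ exps I}.Finite := by
  classical
  set T := {c : ℕ | β c ∉ exps I} with hT
  have hli : LinearIndependent k (fun c : T => Ideal.Quotient.mk I (monomial (β c.1) (1 : k))) := by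
    rw [linearIndependent_iff']
    intro s g hsum c₀ hc₀
    by_contra hne
    have h1 : (∑ c ∈ s, g c • Ideal.Quotient.mk I (monomial (β c.1) (1 : k))) =
        Ideal.Quotient.mk I (∑ c ∈ s, monomial (β c.1) (g c)) := by
      rw [map_sum]
      refine Finset.sum_congr rfl fun c _ => ?_
      have : g c • Ideal.Quotient.mk I (monomial (β c.1) (1 : k)) =
          Ideal.Quotient.mk I (g c • monomial (β c.1) (1 : k)) := rfl
      rw [this, MvPolynomial.smul_monomial, smul_eq_mul, mul_one]
    rw [h1, Ideal.Quotient.eq_zero_iff_mem] at hsum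
    have hcoeff : MvPolynomial.coeff (β c₀.1) (∑ c ∈ s, monomial (β c.1) (g c)) = g c₀ := by
      rw [MvPolynomial.coeff_sum]
      rw [Finset.sum_eq_single c₀]
      · rw [MvPolynomial.coeff_monomial, if_pos rfl]
      · intro c _ hc
        rw [MvPolynomial.coeff_monomial, if_neg]
        intro h
        exact hc (Subtype.ext (hβ h))
      · intro h; exact absurd hc₀ h
    have hsupp : β c₀.1 ∈ (∑ c ∈ s, monomial (β c.1) (g c)).support := by
      rw [MvPolynomial.mem_support_iff, hcoeff]
      exact hne
    exact c₀.2 (hI _ hsum _ hsupp)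
  have := hli.finite
  exact Set.toFinite T

open W4c1hilbpn in
/-- Let k be an infinite field, S = k[x,y,z] with variables ordered x > y > z, and I a strongly stable
ideal of finite colength, with staircase numbers b^z_{i,j} = the number of c with x^i y^j z^c
outside I and b^y_{i,j} = the number of b with x^i y^b z^j outside I. Then b^z_{i+1,j} ≤ b^z_{i,j+1}
and b^y_{i+1,j} ≤ b^y_{i,j+1} for all i and j (equivalently the maximum of the two neighbouring
staircase numbers is the second one). -/
theorem result (k : Type u) [Field k] [Infinite k]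
    (I : Ideal (MvPolynomial (Fin 3) k)) (hI : IsStronglyStable I) [Module.Finite k (MvPolynomial (Fin 3) k ⧸ I)] (i j : ℕ) :
    stairZ I (i + 1) j ≤ stairZ I i (j + 1) ∧ stairY I (i + 1) j ≤ stairY I i (j + 1) := by
  classical
  obtain ⟨hmon, hss⟩ := hI
  have e3_inj : ∀ a b : ℕ, Function.Injective (fun c => e3 a b c) := by
    intro a b c c' h
    have := DFunLike.congr_fun h 2
    simpa [e3] using this
  have e3_inj' : ∀ a c : ℕ, Function.Injective (fun b => e3 a b c) := by
    intro a c b b' h
    have := DFunLike.congr_fun h 1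
    simpa [e3] using this
  constructor
  · unfold stairZ
    have hfin : Finite {c : ℕ // e3 i (j + 1) c ∉ exps I} :=
      (finite_not_mem_exps I hmon (fun c => e3 i (j + 1) c) (e3_inj _ _)).to_subtype
    refine Nat.card_le_card_of_injective
      (fun c : {c : ℕ // e3 (i + 1) j c ∉ exps I} => (⟨c.1, fun h => c.2 ?_⟩ : {c : ℕ // e3 i (j + 1) c ∉ exps I}))
      (fun c c' h => Subtype.ext (by simpa using h))
    have := hss _ h 0 1 (by decide) (by simp [e3])
    convert this using 1
    ext l
    fin_cases l <;> simp [e3, Finsupp.single_apply, Matrix.vecHead, Matrix.vecTail]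
  · unfold stairY
    have hfin : Finite {b : ℕ // e3 i b (j + 1) ∉ exps I} :=
      (finite_not_mem_exps I hmon (fun b => e3 i b (j + 1)) (e3_inj' _ _)).to_subtype
    refine Nat.card_le_card_of_injective
      (fun b : {b : ℕ // e3 (i + 1) b j ∉ exps I} => (⟨b.1, fun h => b.2 ?_⟩ : {b : ℕ // e3 i b (j + 1) ∉ exps I}))
      (fun c c' h => Subtype.ext (by simpa using h))
    have := hss _ h 0 2 (by decide) (by simp [e3])
    convert this using 1
    ext l
    fin_cases l <;> simp [e3, Finsupp.single_apply, Matrix.vecHead, Matrix.vecTail]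

end Groth.Agent.S13441
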