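import Groth.Statements.S13460
import Mathlib

set_option autoImplicit false
universe u
open CategoryTheory CategoryTheory.Limits AlgebraicGeometry TopologicalSpace
open WDiv

namespace Groth.Agent.S13460

section Helpers

open AlgebraicGeometry CategoryTheory Limits TopologicalSpace WithZero

/-- order of an element generating a maximal ideal. -/
lemma ord_eq_one_of_isMaximal {R : Type*} [CommRing R] (ϖ : R) (h : (Ideal.span {ϖ}).IsMaximal) :
    Ring.ord R ϖ = 1 := by
  rw [Ring.ord, Module.length_eq_one_iff]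
  rw [isSimpleModule_iff_isSimpleModule_of_algebraMap_surjective (S := R ⧸ Ideal.span {ϖ})
    Ideal.Quotient.mk_surjective]
  let := Ideal.Quotient.field (Ideal.span {ϖ})
  exact instIsSimpleModule _

section
variable (A : Type u) [CommRing A] [IsDomain A] [IsNoetherianRing A]

instance instNonemptyTop : Nonempty (⊤ : (Spec (CommRingCat.of A)).Opens) :=
  ⟨⟨genericPoint _, trivial⟩⟩

/-- the image of `a` in the function field. -/
noncomputable def F (a : A) : ↑(Spec (CommRingCat.of A)).functionField :=
  (Spec (CommRingCat.of A)).germToFunctionField ⊤ ((Scheme.ΓSpecIso (CommRingCat.of A)).inv a)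

lemma F_ne_zero (a : A) (ha : a ≠ 0) : F A a ≠ 0 := by
  intro h
  have h1 := (Spec (CommRingCat.of A)).germToFunctionField_injective ⊤
  have hinj : Function.Injective (Scheme.ΓSpecIso (CommRingCat.of A)).inv :=
    ((ConcreteCategory.isIso_iff_bijective (Scheme.ΓSpecIso (CommRingCat.of A)).inv).mp
      inferInstance).1
  rw [F, ← map_zero ((Spec (CommRingCat.of A)).germToFunctionField ⊤).hom] at h
  have h2 := h1 h
  rw [← map_zero (Scheme.ΓSpecIso (CommRingCat.of A)).inv.hom] at h2
  exact ha (hinj h2)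

/-- the germ of `a` at `x`. -/
noncomputable def G (x : ↥(Spec (CommRingCat.of A))) (a : A) :
    ↑((Spec (CommRingCat.of A)).presheaf.stalk x) :=
  (Spec (CommRingCat.of A)).presheaf.germ ⊤ x trivial ((Scheme.ΓSpecIso (CommRingCat.of A)).inv a)

lemma G_ne_zero (x : ↥(Spec (CommRingCat.of A))) (a : A) (ha : a ≠ 0) : G A x a ≠ 0 := by
  intro h
  have h1 := germ_injective_of_isIntegral (Spec (CommRingCat.of A)) (U := ⊤) x trivial
  have hinj : Function.Injective (Scheme.ΓSpecIso (CommRingCat.of A)).inv :=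
    ((ConcreteCategory.isIso_iff_bijective (Scheme.ΓSpecIso (CommRingCat.of A)).inv).mp
      inferInstance).1
  rw [G, ← map_zero ((Spec (CommRingCat.of A)).presheaf.germ ⊤ x trivial).hom] at h
  have h2 := h1 h
  rw [← map_zero (Scheme.ΓSpecIso (CommRingCat.of A)).inv.hom] at h2
  exact ha (hinj h2)

lemma ordHom_F (x : ↥(Spec (CommRingCat.of A))) (hx : Order.coheight x = 1) (a : A) (ha : a ≠ 0)
    (n : ℕ) (hn : Ring.ord ((Spec (CommRingCat.of A)).presheaf.stalk x) (G A x a) = n) :
    (Spec (CommRingCat.of A)).ordHom x hx (F A a) = ((Multiplicative.ofAdd (n : ℤ) : Multiplicative ℤ) : ℤᵐ⁰) := by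
  haveI : Ring.KrullDimLE 1 ((Spec (CommRingCat.of A)).presheaf.stalk x) :=
    krullDimLE_of_coheight_le hx.le
  have hne := G_ne_zero A x a ha
  rw [F, ← Scheme.algebraMap_germ_eq_germToFunctionField _ (U := ⊤) (x := x) trivial]
  change Ring.ordFrac _ (algebraMap _ _ (G A x a)) = _
  rw [Ring.ordFrac_eq_ord _ hne]
  exact Ring.ordMonoidWithZeroHom_eq_coe _ (mem_nonZeroDivisors_of_ne_zero hne) hn

lemma ord_G_unit (x : ↥(Spec (CommRingCat.of A))) (a : A) (ha : a ∉ x.asIdeal) :
    Ring.ord ((Spec (CommRingCat.of A)).presheaf.stalk x) (G A x a) = (0 : ℕ) := by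
  haveI : x.asIdeal.IsPrime := PrimeSpectrum.isPrime x
  letI k : Algebra A ↑((Spec (CommRingCat.of A)).presheaf.stalk x) :=
    StructureSheaf.stalkAlgebra A x
  haveI : IsLocalization.AtPrime (↑((Spec (CommRingCat.of A)).presheaf.stalk x)) x.asIdeal :=
    StructureSheaf.IsLocalization.to_stalk A x
  have hG : G A x a = algebraMap A ((Spec (CommRingCat.of A)).presheaf.stalk x) a := rfl
  rw [hG, Nat.cast_zero]
  apply Ring.ord_of_isUnit
  exact IsLocalization.map_units _ (⟨a, ha⟩ : x.asIdeal.primeCompl)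

lemma ord_G_unif (x : ↥(Spec (CommRingCat.of A))) (a : A) (ha : x.asIdeal = Ideal.span {a}) :
    Ring.ord ((Spec (CommRingCat.of A)).presheaf.stalk x) (G A x a) = (1 : ℕ) := by
  haveI : x.asIdeal.IsPrime := PrimeSpectrum.isPrime x
  letI k : Algebra A ↑((Spec (CommRingCat.of A)).presheaf.stalk x) :=
    StructureSheaf.stalkAlgebra A x
  haveI : IsLocalization.AtPrime (↑((Spec (CommRingCat.of A)).presheaf.stalk x)) x.asIdeal :=
    StructureSheaf.IsLocalization.to_stalk A x
  have hG : G A x a = algebraMap A ((Spec (CommRingCat.of A)).presheaf.stalk x) a := rfl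
  rw [Nat.cast_one]
  apply ord_eq_one_of_isMaximal
  have h1 := IsLocalization.AtPrime.map_eq_maximalIdeal x.asIdeal
    ((Spec (CommRingCat.of A)).presheaf.stalk x)
  rw [ha, Ideal.map_span, Set.image_singleton, ← hG] at h1
  rw [h1]
  exact IsLocalRing.maximalIdeal.isMaximal _

theorem main13460 [UniqueFactorizationMonoid A]
    (D : ↥(Spec (CommRingCat.of A)) → ℤ) (hD : ∀ x, Order.coheight x ≠ 1 → D x = 0)
    (hfin : {x | D x ≠ 0}.Finite) :
    ∃ f : ↑(Spec (CommRingCat.of A)).functionField, f ≠ 0 ∧
      ∀ x : ↥(Spec (CommRingCat.of A)), Order.coheight x = 1 → Scheme.ord f x = D x := by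
  classical
  have hht : ∀ x : ↥(Spec (CommRingCat.of A)), Order.coheight x = 1 → x.asIdeal.height = 1 := by
    intro x hx
    rw [idealHeight_eq_coheight (CommRingCat.of A) x, hx]
  have hgen : ∀ x : ↥(Spec (CommRingCat.of A)), Order.coheight x = 1 →
      ∃ p : A, Prime p ∧ x.asIdeal = Ideal.span {p} := by
    intro x hx
    haveI : x.asIdeal.IsPrime := PrimeSpectrum.isPrime x
    have hh := hht x hx
    have hne := x.asIdeal.ne_bot_of_height_eq_one hh
    obtain ⟨p, hp, hpp⟩ := Ideal.IsPrime.exists_mem_prime_of_ne_bot ‹_› hne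
    exact ⟨p, hpp, x.asIdeal.eq_span_singleton_of_height_eq_one hh hp hpp⟩
  choose! p hp using hgen
  have hT : ∀ y ∈ hfin.toFinset, Order.coheight y = 1 := by
    intro y hy
    by_contra h
    exact (hfin.mem_toFinset.mp hy) (hD y h)
  have hf : ∏ y ∈ hfin.toFinset, (F A (p y)) ^ (D y) ≠ 0 := by
    rw [Finset.prod_ne_zero_iff]
    intro y hy
    exact zpow_ne_zero _ (F_ne_zero A _ (hp y (hT y hy)).1.ne_zero)
  refine ⟨∏ y ∈ hfin.toFinset, (F A (p y)) ^ (D y), hf, ?_⟩
  intro x hx
  rw [Scheme.ord_eq_iff hx hf, map_prod]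
  simp_rw [map_zpow₀]
  have hxx : (Spec (CommRingCat.of A)).ordHom x hx (F A (p x)) =
      ((Multiplicative.ofAdd ((1 : ℕ) : ℤ) : Multiplicative ℤ) : ℤᵐ⁰) :=
    ordHom_F A x hx (p x) (hp x hx).1.ne_zero 1 (ord_G_unif A x (p x) (hp x hx).2)
  rw [Finset.prod_eq_single x]
  · rw [hxx, ← WithZero.coe_zpow, ← ofAdd_zsmul]
    simp
  · intro y hy hyx
    have hy1 := hT y hy
    have hnot : p y ∉ x.asIdeal := by
      intro hmem
      haveI : x.asIdeal.IsPrime := PrimeSpectrum.isPrime x
      have h1 := x.asIdeal.eq_span_singleton_of_height_eq_one (hht x hx) hmem (hp y hy1).1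
      apply hyx
      apply PrimeSpectrum.ext
      rw [(hp y hy1).2, h1]
    have h0 := ordHom_F A x hx (p y) (hp y hy1).1.ne_zero 0 (ord_G_unit A x (p y) hnot)
    rw [h0]
    simp
  · intro hxT
    have hDx : D x = 0 := by
      by_contra h
      exact hxT (hfin.mem_toFinset.mpr h)
    rw [hDx, zpow_zero]

end
end Helpers


/-- Let A be a Noetherian integral domain which is a unique factorization domain, and X = Spec A. Then
the divisor class group of X vanishes: every Weil divisor D on X, an integer-valued function on the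
points of X with finite support inside the points of coheight 1 (codimension one), is the divisor of
a nonzero rational function f on X, i.e. the order of vanishing of f at every point x of coheight 1
is D(x). (The published statement assumes only that A is a unique factorization domain; this row
also assumes A Noetherian.) -/
theorem result (A : Type u) [CommRing A] [IsDomain A] [IsNoetherianRing A]
    [UniqueFactorizationMonoid A]
    (D : ↥(Spec (CommRingCat.of A)) → ℤ) (hD : ∀ x, Order.coheight x ≠ 1 → D x = 0) (hfin : {x | D x ≠ 0}.Finite) :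
    ∃ f : ↑(Spec (CommRingCat.of A)).functionField, f ≠ 0 ∧
      ∀ x : ↥(Spec (CommRingCat.of A)), Order.coheight x = 1 → Scheme.ord f x = D x := by
  exact main13460 A D hD hfin

end Groth.Agent.S13460
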