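import Groth.Agent.Lib.helper10.TotExt
import Groth.Statements.S13514

set_option autoImplicit false
universe u
open CategoryTheory CategoryTheory.Limits Opposite Pseudofunctor.CoGrothendieck
open FibSite

namespace Groth.Agent.S13514
open Groth.Agent.Lib.helper10

/-- Let `F` be a fibred site over a small category `𝒮` with small fibres (every inverse-image functor is
a morphism of sites) and let `i` be a final object of `𝒮`. Then the left adjoint `α_{i!}` of the
restriction of sheaves of sets from the total site to the fibre over `i` is left exact (it preserves
finite limits), so that the pair (`α_{i!}`, restriction) is a morphism of topoi from the total topos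
to the topos of the fibre. The continuity of the fibre inclusion and the existence of the left
adjoint are carried as instance hypotheses. -/
theorem result {𝒮 : Type u} [SmallCategory 𝒮]
    (F : Pseudofunctor (LocallyDiscrete 𝒮ᵒᵖ) Cat.{u, u}) (J : FibSite.Topologies F)
    (hF : FibSite.IsFibSite F J) (i : 𝒮) (hi : IsTerminal i)
    [(ι F i).IsContinuous (J i) (FibSite.totalTopology F J)]
    [((ι F i).sheafPushforwardContinuous (Type u) (J i) (FibSite.totalTopology F J)).IsRightAdjoint] :
    PreservesFiniteLimits (FibSite.extend F J (Type u) i) := by
  have hpre := hF.isPreFibSite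
  haveI : ∀ S : 𝒮, (ι F S).IsContinuous (J S) (FibSite.totalTopology F J) :=
    fun S => TotSheaf.ι_isContinuous F J hpre S
  haveI : ∀ S : 𝒮, (ι F S).IsCocontinuous (J S) (FibSite.totalTopology F J) :=
    fun S => TotTop.isCocontinuous F J hpre S
  haveI : ∀ (R S : 𝒮) (f : R ⟶ S), (FibSite.invImage F f).IsContinuous (J S) (J R) :=
    fun R S f => (hF f).choose
  apply TotExt.preservesFiniteLimits_of_restr
  intro j
  haveI : Unique (j ⟶ i) := ⟨⟨hi.from j⟩, fun f => hi.hom_ext _ _⟩
  haveI : ((FibSite.invImage F (default : j ⟶ i)).sheafPushforwardContinuous (Type u) (J i)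
      (J j)).IsRightAdjoint := (hF default).choose_spec.choose
  haveI hpres : PreservesFiniteLimits
      ((FibSite.invImage F (default : j ⟶ i)).sheafPullback (Type u) (J i) (J j)) :=
    (hF default).choose_spec.choose_spec
  exact preservesFiniteLimits_of_natIso (TotExt.extendRestrIso F J j i)

end Groth.Agent.S13514
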