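import Groth.Statements.S1354
import Mathlib
import Groth.Agent.Lib.helper3.EtNbhd6
-- import your own Groth.Agent.* helpers here

set_option autoImplicit false
universe u
open FlatMor

namespace Groth.Agent.S1354

open AlgebraicGeometry CategoryTheory Limits in
/-- Let f be locally of finite type, s a point of the target, and x_1, ..., x_n points over s at each of
which f is quasi-finite. Then there are an elementary étale neighbourhood (U, u) of (S, s) and, for
each i, an open V_i of the base change of X to U which is finite over U, has exactly one point v_i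
over u, and v_i maps to x_i inducing a bijection of residue fields. -/
theorem result {X S : Scheme.{u}} (f : X ⟶ S) [LocallyOfFiniteType f] (s : S) {ι : Type} [Finite ι]
    (x : ι → ↑X) (hs : ∀ i, f (x i) = s) (hx : ∀ i, f.QuasiFiniteAt (x i)) :
    ∃ (U : Scheme.{u}) (g : U ⟶ S) (u : U), Hens2.IsEtaleNbhd g u s ∧
      ∃ (V : ι → (pullback f g).Opens) (v : ι → ↑(pullback f g)), ∀ i, v i ∈ V i ∧ IsFinite ((V i).ι ≫ pullback.snd f g) ∧
        pullback.snd f g (v i) = u ∧ (∀ w : ↑(pullback f g), w ∈ V i → pullback.snd f g w = u → w = v i) ∧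
        pullback.fst f g (v i) = x i ∧ Function.Bijective ((pullback.fst f g).residueFieldMap (v i)) := by
  obtain ⟨U, g, u, hg, hgu, hres, V, v, hV⟩ :=
    Groth.Agent.Lib.helper3.EtNbhd.mainQ (f := f) s (fun x₀ => f.QuasiFiniteAt x₀)
      (by
        intro x₀ hx₀ hq
        obtain ⟨U, g, u, hg, hgu, hres, V, v, hvV, hfin, hsnd, hfst, hresv, huniq, -, -⟩ :=
          Groth.Agent.Lib.helper3.QFLoc.chart f x₀ hq
        exact ⟨U, g, u, hg, hgu.trans hx₀, hres, fun _ => V, fun _ => v,
          fun _ => ⟨hvV, hfin, hsnd, huniq, hfst, hresv⟩⟩)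
      ι x hs hx
  refine ⟨U, g, u, ⟨hg, hgu, ⟨(g.residueFieldMap u).hom.injective, hres⟩⟩, V, v, fun i => ?_⟩
  obtain ⟨b1, b2, b3, b4, b5, b6⟩ := hV i
  exact ⟨b1, b2, b3, b4, b5, ⟨((pullback.fst f g).residueFieldMap (v i)).hom.injective, b6⟩⟩

end Groth.Agent.S1354
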