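import Groth.Agent.Lib.helper10.PointsFun
import Groth.Statements.S13567

set_option autoImplicit false
universe u
open CategoryTheory AlgebraicGeometry
open AlgSt

namespace Groth.Agent.S13567

/-- The base change of a universally injective morphism of algebraic stacks along any morphism of
algebraic stacks is universally injective: if every base change of `f : 𝒳 ⟶ 𝒴` to an algebraic stack
is injective on points, then the same holds for the projection `𝒵 ×_𝒴 𝒳 ⟶ 𝒵` for every morphism `g :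
𝒵 ⟶ 𝒴` of algebraic stacks. -/
theorem result {S : Scheme.{u}} {𝒳 𝒴 𝒵 : AlgSt.Cat S}
    (h𝒳 : AlgSt.IsAlgStack Scheme.fppfPrecoverage 𝒳) (h𝒴 : AlgSt.IsAlgStack Scheme.fppfPrecoverage 𝒴)
    (h𝒵 : AlgSt.IsAlgStack Scheme.fppfPrecoverage 𝒵)
    (f : 𝒳 ⥤ᵇ 𝒴) (g : 𝒵 ⥤ᵇ 𝒴) (hf : AlgSt.IsUnivInjective Scheme.fppfPrecoverage f) :
    AlgSt.IsUnivInjective Scheme.fppfPrecoverage (FibCat.fpFst g f) := by
  intro 𝒲 h𝒲 h
  have h1 := hf 𝒲 h𝒲 (BasedFunctor.comp h g)
  have h2 := Groth.Agent.Lib.helper10.PointsFun.map_injective_of_equiv _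
    (Groth.Agent.Lib.helper10.FpPaste.Ψ₁_isEquivOver h g f)
  intro x y hxy
  apply h2
  apply h1
  have e : BasedFunctor.comp (Groth.Agent.Lib.helper10.FpPaste.Ψ₁ h g f)
      (FibCat.fpFst (BasedFunctor.comp h g) f) = FibCat.fpFst h (FibCat.fpFst g f) := rfl
  rw [← Groth.Agent.Lib.helper10.PointsFun.map_comp, ← Groth.Agent.Lib.helper10.PointsFun.map_comp, e]
  exact hxy

end Groth.Agent.S13567
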