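import Groth.Statements.S13590
import Mathlib
import Groth.Agent.Lib.helper23.ClEmb3
import Groth.Agent.Lib.helper10.ExtZero

set_option autoImplicit false
universe u
open CategoryTheory TopologicalSpace
open SuppFam

namespace Groth.Agent.S13590

/-- For an abelian sheaf `F` on a topological space `X` and a locally closed `Z = V ∖ W` (`W ≤ V`
opens), if `F` is injective then the sheaf `Γ_Z(F) = i_* i^!(F)` of sections of `F` with supports in
`Z` is injective. -/
theorem result {X : TopCat.{u}} (F : CohTop.Ab X) {W V : Opens X} (h : W ≤ V)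
    (hF : Injective F) : Injective ((SuppFam.sectSuppLC h).obj F) := by
  have H : Topology.IsOpenEmbedding (TopCat.Hom.hom (TopCat.ofHom ⟨_, continuous_subtype_val⟩ :
      TopCat.of V ⟶ X)) := V.isOpenEmbedding
  have hfl : CategoryTheory.Limits.PreservesFiniteLimits (Groth.Agent.Lib.helper10.ExtZero.extZero H) :=
    Groth.Agent.Lib.helper10.ExtZero.extZero_preservesFiniteLimits H
  have hm : (Groth.Agent.Lib.helper10.ExtZero.extZero H).PreservesMonomorphisms := inferInstance
  have h1 : Injective ((CohTop.restrFunctor V).obj F) :=
    @Injective.injective_of_adjoint _ _ _ _ _ _ hm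
      (Groth.Agent.Lib.helper10.ExtZero.extZeroAdj H) F hF
  have h2 := ClEmb.injective_sectSupp (SuppFam.inOpen V W) _ h1
  exact ClEmb.injective_push (CohCx.incl V) _ h2

end Groth.Agent.S13590
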