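import Groth.Statements.S1360
import Mathlib
import Groth.Agent.S1359

set_option autoImplicit false
universe u
open FlatMor

namespace Groth.Agent.S1360

section Helpers

open AlgebraicGeometry CategoryTheory CategoryTheory.Limits TensorProduct IsLocalRing

section ring
open Algebra KaehlerDifferential

lemma subsingleton_tensor_kaehler {A B : Type u} [CommRing A] [CommRing B] [Algebra A B]
    (K : Ideal A) [Algebra.FormallyUnramified A (B ⧸ K.map (algebraMap A B))] :
    Subsingleton ((B ⧸ K.map (algebraMap A B)) ⊗[B] Ω[B⁄A]) := by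
  refine subsingleton_of_forall_eq 0 fun x ↦ ?_
  obtain ⟨x, rfl⟩ := (KaehlerDifferential.exact_kerCotangentToTensor_mapBaseChange A B
    (B ⧸ K.map (algebraMap A B)) Ideal.Quotient.mk_surjective x).mp (Subsingleton.elim _ _)
  obtain ⟨⟨x, hx⟩, rfl⟩ := Ideal.toCotangent_surjective _ x
  simp only [KaehlerDifferential.kerCotangentToTensor_toCotangent]
  replace hx : x ∈ Ideal.map (algebraMap A B) K := by simpa using hx
  induction hx using Submodule.span_induction with
  | zero => simp
  | mem x h => obtain ⟨x, hx, rfl⟩ := h; simp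
  | add x y hx hy _ _ => simp [*, TensorProduct.tmul_add]
  | smul a x hx ih =>
    have hx0 : (Ideal.Quotient.mk (K.map (algebraMap A B)) x) = 0 :=
      Ideal.Quotient.eq_zero_iff_mem.mpr hx
    rw [smul_eq_mul, Derivation.leibniz, TensorProduct.tmul_add, TensorProduct.tmul_smul, ih,
      smul_zero, zero_add]
    rw [← TensorProduct.smul_tmul, Algebra.smul_def, mul_one]
    change (Ideal.Quotient.mk _ x) ⊗ₜ[B] _ = 0
    rw [hx0, TensorProduct.zero_tmul]

end ring

section ring2
open Algebra KaehlerDifferential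

theorem isUnramifiedAt_of_quot {A B : Type u} [CommRing A] [CommRing B] [Algebra A B]
    [Algebra.FiniteType A B] (K : Ideal A) (q : Ideal B) [q.IsPrime]
    (hKq : K.map (algebraMap A B) ≤ q)
    [Algebra.FormallyUnramified A (B ⧸ K.map (algebraMap A B))] :
    Algebra.IsUnramifiedAt A q := by
  have hmem : (⟨q, inferInstance⟩ : PrimeSpectrum B) ∈ Algebra.unramifiedLocus A B := by
    rw [Algebra.unramifiedLocus_eq_compl_support, Set.mem_compl_iff, Module.notMem_support_iff']
    have hsub := subsingleton_tensor_kaehler (B := B) K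
    have htop : (K.map (algebraMap A B)) • (⊤ : Submodule B Ω[B⁄A]) = ⊤ := by
      have e := TensorProduct.quotTensorEquivQuotSMul Ω[B⁄A] (K.map (algebraMap A B))
      haveI : Subsingleton (Ω[B⁄A] ⧸ (K.map (algebraMap A B)) • (⊤ : Submodule B Ω[B⁄A])) :=
        e.symm.toEquiv.subsingleton
      exact Submodule.Quotient.subsingleton_iff.mp inferInstance
    have hfg : (⊤ : Submodule B Ω[B⁄A]).FG := Module.Finite.fg_top
    obtain ⟨r, hr1, hr⟩ := Submodule.exists_sub_one_mem_and_smul_eq_zero_of_fg_of_le_smul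
      (K.map (algebraMap A B)) (⊤ : Submodule B Ω[B⁄A]) hfg (by rw [htop])
    intro m
    refine ⟨r, fun hrq => ?_, hr m Submodule.mem_top⟩
    have h1 : r - 1 ∈ q := hKq hr1
    have : (1 : B) ∈ q := by
      have := q.sub_mem hrq h1
      simpa using this
    exact (inferInstance : q.IsPrime).ne_top ((Ideal.eq_top_iff_one q).mpr this)
  exact hmem

theorem isEtaleAt_of_quot {A B : Type u} [CommRing A] [CommRing B] [Algebra A B]
    [IsNoetherianRing A] [Algebra.FinitePresentation A B] (J : Ideal A) (p : Ideal A) [p.IsPrime]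
    (q : Ideal B) [q.IsPrime] [q.LiesOver p] (hJp : J ≤ p)
    (H : ∀ m : ℕ, 0 < m →
      (Ideal.quotientMap ((J ^ m).map (algebraMap A B)) (algebraMap A B) Ideal.le_comap_map :
        A ⧸ J ^ m →+* B ⧸ (J ^ m).map (algebraMap A B)).Etale) :
    Algebra.IsEtaleAt A q := by
  have hsm : Algebra.IsSmoothAt A q :=
    Groth.Agent.S1359.isSmoothAt_of_quot J p q hJp (fun m hm => by
      have hq : (algebraMap (A ⧸ J ^ m) (B ⧸ (J ^ m).map (algebraMap A B))).Etale := H m hm
      rw [RingHom.etale_algebraMap] at hq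
      have : (algebraMap (A ⧸ J ^ m) (B ⧸ (J ^ m).map (algebraMap A B))).Smooth := by
        rw [RingHom.smooth_algebraMap]
        infer_instance
      exact this)
  have hun : Algebra.IsUnramifiedAt A q := by
    have hq : (algebraMap (A ⧸ J ^ 1) (B ⧸ (J ^ 1).map (algebraMap A B))).Etale := H 1 one_pos
    rw [RingHom.etale_algebraMap] at hq
    haveI : Algebra.FormallyUnramified (A ⧸ J ^ 1) (B ⧸ (J ^ 1).map (algebraMap A B)) :=
      inferInstance
    haveI : Algebra.FormallyUnramified A (A ⧸ J ^ 1) :=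
      Algebra.FormallyUnramified.of_surjective (Algebra.ofId A (A ⧸ J ^ 1))
        Ideal.Quotient.mk_surjective
    haveI : Algebra.FormallyUnramified A (B ⧸ (J ^ 1).map (algebraMap A B)) :=
      Algebra.FormallyUnramified.comp A (A ⧸ J ^ 1) _
    refine isUnramifiedAt_of_quot (J ^ 1) q ?_
    rw [pow_one, Ideal.map_le_iff_le_comap]
    exact hJp.trans (q.over_def p).le
  exact Algebra.FormallyEtale.iff_formallyUnramified_and_formallySmooth.mpr ⟨hun, hsm⟩

end ring2

section geom

set_option backward.defeqAttrib.useBackward true in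
set_option backward.isDefEq.respectTransparency false in
theorem exists_etale_of_isEtaleAt {X S : Scheme.{u}} (f : X ⟶ S)
    [LocallyOfFinitePresentation f] {W : S.Opens}
    (hW : IsAffineOpen W) {V : X.Opens} (hV : IsAffineOpen V) (hVW : V ≤ f ⁻¹ᵁ W) (x : X)
    (hxV : x ∈ V)
    (H : letI := (f.appLE W V hVW).hom.toAlgebra
      Algebra.IsEtaleAt Γ(S, W) (hV.primeIdealOf ⟨x, hxV⟩).asIdeal) :
    ∃ (U : X.Opens) (_ : IsAffineOpen U) (hUW : U ≤ f ⁻¹ᵁ W), x ∈ U ∧ (f.appLE W U hUW).hom.Etale := by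
  have := f.finitePresentation_appLE hW hV hVW
  algebraize [(f.appLE W V hVW).hom]
  have : Algebra.IsEtaleAt Γ(S, W) (hV.primeIdealOf ⟨x, hxV⟩).asIdeal := H
  obtain ⟨r, hrx, hr⟩ := Algebra.exists_etale_of_isEtaleAt (R := Γ(S, W))
    (hV.primeIdealOf ⟨x, hxV⟩).asIdeal
  refine ⟨_, hV.basicOpen r, (X.basicOpen_le r).trans hVW, ?_, ?_⟩
  · rwa [← PrimeSpectrum.mem_basicOpen, IsAffineOpen.primeIdealOf,
      ← hV.fromSpec_preimage_basicOpen, Scheme.Hom.mem_preimage, ← Scheme.Hom.comp_apply,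
      IsAffineOpen.isoSpec_hom, IsAffineOpen.toSpecΓ_fromSpec] at hrx
  · have := hV.isLocalization_basicOpen r
    rw [← RingHom.etale_algebraMap] at hr
    convert!
      RingHom.Etale.propertyIsLocal.respectsIso.1 _
        (IsLocalization.algEquiv (.powers r) _ Γ(X, X.basicOpen r)).toRingEquiv hr
    ext
    dsimp
    simp only [IsScalarTower.algebraMap_apply Γ(S, W) Γ(X, V) (Localization _),
      IsLocalization.map_eq]
    simp only [RingHom.algebraMap_toAlgebra, RingHomCompTriple.comp_apply, ← ConcreteCategory.comp_apply,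
      Scheme.Hom.appLE_map]

theorem etale_of_appLE {X S : Scheme.{u}} (f : X ⟶ S) {W : S.Opens}
    (hW : IsAffineOpen W) {U : X.Opens} (hU : IsAffineOpen U) (hUW : U ≤ f ⁻¹ᵁ W)
    (H : (f.appLE W U hUW).hom.Etale) : Etale (U.ι ≫ f) := by
  have h1 : U.ι ≫ f = f.resLE W U hUW ≫ W.ι := (Scheme.Hom.resLE_comp_ι f hUW).symm
  rw [h1]
  haveI : IsAffine W.toScheme := hW
  haveI : IsAffine U.toScheme := hU
  haveI : Etale (f.resLE W U hUW) := by
    rw [HasRingHomProperty.iff_of_isAffine (P := @Etale)]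
    exact (RingHom.Etale.propertyIsLocal.respectsIso.arrow_mk_iso_iff
      (arrowResLEAppIso f W U hUW)).mpr H
  infer_instance

theorem main {X S : Scheme.{u}} (f : X ⟶ S) [IsLocallyNoetherian S]
    [LocallyOfFinitePresentation f] [QuasiCompact f]
    (I : S.IdealSheafData) (h : ∀ n : ℕ, Etale (pullback.snd f (I ^ (n + 1)).subschemeι))
    (x : X) (hx : f x ∈ I.support) : ∃ U : X.Opens, x ∈ U ∧ Etale (U.ι ≫ f) := by
  obtain ⟨_, ⟨W, hW, rfl⟩, hxW, -⟩ := S.isBasis_affineOpens.exists_subset_of_mem_open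
    (Set.mem_univ (f x)) isOpen_univ
  obtain ⟨_, ⟨V, hV, rfl⟩, hxV, hVW : V ≤ f ⁻¹ᵁ W⟩ :=
    X.isBasis_affineOpens.exists_subset_of_mem_open hxW (f ⁻¹ᵁ W).isOpen
  haveI : IsNoetherianRing Γ(S, W) := IsLocallyNoetherian.component_noetherian ⟨W, hW⟩
  have key : letI := (f.appLE W V hVW).hom.toAlgebra
      Algebra.IsEtaleAt Γ(S, W) (hV.primeIdealOf ⟨x, hxV⟩).asIdeal := by
    letI := (f.appLE W V hVW).hom.toAlgebra
    haveI : Algebra.FinitePresentation Γ(S, W) Γ(X, V) :=
      HasRingHomProperty.appLE @LocallyOfFinitePresentation f inferInstance ⟨W, hW⟩ ⟨V, hV⟩ hVW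
    haveI : (hV.primeIdealOf ⟨x, hxV⟩).asIdeal.LiesOver (hW.primeIdealOf ⟨f x, hVW hxV⟩).asIdeal :=
      ⟨congr($(IsAffineOpen.comap_primeIdealOf_appLE W hW V hV hVW hxV).1).symm⟩
    refine isEtaleAt_of_quot (I.ideal ⟨W, hW⟩) (hW.primeIdealOf ⟨f x, hVW hxV⟩).asIdeal
      (hV.primeIdealOf ⟨x, hxV⟩).asIdeal
      (Groth.Agent.S1359.ideal_le_primeIdealOf I hW (f x) hxW hx) ?_
    intro m hm
    obtain ⟨n, rfl⟩ : ∃ n, m = n + 1 := ⟨m - 1, by omega⟩
    exact Groth.Agent.S1359.quot_prop (P := @Etale) f (I ^ (n + 1)) (h n) hW hV hVW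
  obtain ⟨U, hU, hUW, hxU, hE⟩ := exists_etale_of_isEtaleAt f hW hV hVW x hxV key
  exact ⟨U, hxU, etale_of_appLE f hW hU hUW hE⟩

end geom

end Helpers

open AlgebraicGeometry CategoryTheory Limits in
/-- Let S be locally Noetherian, f : X → S of finite type, and Z the closed subscheme of S cut out by an
ideal sheaf I. If the base change of f to every infinitesimal neighbourhood of Z is étale, then
every point of X over Z has an open neighbourhood on which f is étale. -/
theorem result {X S : Scheme.{u}} (f : X ⟶ S) [IsLocallyNoetherian S] [LocallyOfFinitePresentation f] [QuasiCompact f]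
    (I : S.IdealSheafData) (h : ∀ n : ℕ, Etale (pullback.snd f (I ^ (n + 1)).subschemeι)) (x : X) (hx : f x ∈ I.support) :
    ∃ U : X.Opens, x ∈ U ∧ Etale (U.ι ≫ f) := by
  exact main f I h x hx

end Groth.Agent.S1360
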