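import Groth.Statements.S13603
import Mathlib

set_option autoImplicit false
universe u v
open CAlg

namespace Groth.Agent.S13603

/-- Let a group G act on a commutative ring B by ring automorphisms so that every element of B has a
finite orbit, and let S ⊆ B be a multiplicative set of G-fixed elements (so each g ∈ G induces an
endomorphism of the localization S⁻¹B; the hypothesis that g maps S into S is implied by the
previous one and is only carried to name that endomorphism). Then an element of S⁻¹B is fixed by all
of G if and only if it is a fraction b/s with b fixed by G and s ∈ S: the canonical map S⁻¹(B^G) →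
(S⁻¹B)^G is onto. -/
theorem result {B : Type u} [CommRing B]
    {G : Type v} [Group G] [MulSemiringAction G B] (hfin : ∀ b : B, (MulAction.orbit G b).Finite)
    (S : Submonoid B) (hS : ∀ (g : G) (s : B), s ∈ S → g • s = s)
    (hS' : ∀ g : G, S ≤ S.comap (MulSemiringAction.toRingHom G B g)) (x : Localization S) :
    (∀ g : G, IsLocalization.map (Localization S) (MulSemiringAction.toRingHom G B g) (hS' g) x = x) ↔
      ∃ (b : B) (s : S), (∀ g : G, g • b = b) ∧ x = IsLocalization.mk' (Localization S) b s := by
  classical
  have hmap : ∀ (g : G) (b : B) (s : S),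
      IsLocalization.map (Localization S) (MulSemiringAction.toRingHom G B g) (hS' g)
        (IsLocalization.mk' (Localization S) b s) = IsLocalization.mk' (Localization S) (g • b) s := by
    intro g b s
    rw [IsLocalization.map_mk']
    congr 1
    apply Subtype.ext
    exact hS g s s.2
  constructor
  · intro hx
    obtain ⟨b, s, rfl⟩ := IsLocalization.exists_mk'_eq S x
    have hex : ∀ c ∈ MulAction.orbit G b, ∃ t : S, (t : B) * c = (t : B) * b := by
      rintro c ⟨g, rfl⟩
      have h1 := hx g
      rw [hmap] at h1
      have h2 : algebraMap B (Localization S) (g • b) = algebraMap B (Localization S) b := by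
        have := (IsLocalization.mk'_eq_iff_eq_mul (S := Localization S)).mp h1
        rw [this, IsLocalization.mk'_spec]
      exact (IsLocalization.eq_iff_exists S (Localization S)).mp h2
    choose! τ hτ using hex
    let O : Finset B := (hfin b).toFinset
    let t : S := ∏ c ∈ O, τ c
    have ht : ∀ c ∈ MulAction.orbit G b, (t : B) * c = (t : B) * b := by
      intro c hc
      have hcO : c ∈ O := (hfin b).mem_toFinset.mpr hc
      have : t = τ c * ∏ c' ∈ O.erase c, τ c' := (Finset.mul_prod_erase O τ hcO).symm
      rw [this, Submonoid.coe_mul]
      have h := hτ c hc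
      calc (τ c : B) * ↑(∏ c' ∈ O.erase c, τ c') * c
          = ↑(∏ c' ∈ O.erase c, τ c') * ((τ c : B) * c) := by ring
        _ = ↑(∏ c' ∈ O.erase c, τ c') * ((τ c : B) * b) := by rw [h]
        _ = (τ c : B) * ↑(∏ c' ∈ O.erase c, τ c') * b := by ring
    refine ⟨(t : B) * b, t * s, ?_, ?_⟩
    · intro g
      rw [smul_mul', hS g t t.2]
      exact ht (g • b) ⟨g, rfl⟩
    · apply IsLocalization.mk'_eq_of_eq
      rw [Submonoid.coe_mul]
      ring
  · rintro ⟨b, s, hb, rfl⟩ g
    rw [hmap, hb]

end Groth.Agent.S13603
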