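import Groth.Statements.S13606
import Mathlib
import Groth.Agent.S13596
-- import your own Groth.Agent.* helpers here

set_option autoImplicit false
universe u
open CategoryTheory AlgebraicGeometry
open SGA1

namespace Groth.Agent.S13606

open CategoryTheory CategoryTheory.Limits AlgebraicGeometry Opposite TopologicalSpace
open Groth.Agent.S13596

namespace H5S13606

/-- `appLE` of an open immersion onto the image is an isomorphism. -/
lemma isIso_appLE_image {X' X : Scheme.{u}} (ι : X' ⟶ X) [IsOpenImmersion ι] (V' : X'.Opens)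
    (T : X.Opens) (hT : T = ι ''ᵁ V') (e : V' ≤ ι ⁻¹ᵁ T) : IsIso (ι.appLE T V' e) := by
  subst hT
  have h1 : IsIso (ι.app (ι ''ᵁ V')) := inferInstance
  have e' : ι ⁻¹ᵁ (ι ''ᵁ V') ≤ V' := (ι.preimage_image_eq V').le
  have h2 : IsIso (homOfLE e) := ⟨⟨homOfLE e', Subsingleton.elim _ _, Subsingleton.elim _ _⟩⟩
  have h3 : IsIso (X'.presheaf.map (homOfLE e).op) := inferInstance
  rw [Scheme.Hom.appLE]
  infer_instance

variable {X Y : Scheme.{u}} {G : Type u} [Group G] (ρ : G →* Aut X) (p : X ⟶ Y)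

theorem main (hp : SGA1.IsQuot ρ p) (U : Y.Opens)
    (ρU : G →* Aut (p ⁻¹ᵁ U).toScheme)
    (hρU : ∀ g : G, (ρU g).hom ≫ (p ⁻¹ᵁ U).ι = (p ⁻¹ᵁ U).ι ≫ (ρ g).hom) :
    SGA1.IsQuot ρU (p ∣_ U) := by
  have hpa : IsAffineHom p := hp.affine
  have hinv : ∀ g : G, (ρU g).hom ≫ (p ∣_ U) = p ∣_ U := by
    intro g
    rw [← cancel_mono U.ι, Category.assoc, morphismRestrict_ι, ← Category.assoc, hρU,
      Category.assoc, hp.inv g]
  refine ⟨IsZariskiLocalAtTarget.restrict hpa U, hinv, ?_, ?_⟩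
  · intro V
    rw [morphismRestrict_app]
    intro x y hxy
    apply hp.injective (U.ι ''ᵁ V)
    have hi : Function.Injective (X.presheaf.map (eqToHom (image_morphismRestrict_preimage p U V)).op).hom :=
      ((ConcreteCategory.isIso_iff_bijective _).mp inferInstance).1
    apply hi
    exact hxy
  · intro V s
    set V₀ : Y.Opens := U.ι ''ᵁ V with hV₀
    have hT : p ⁻¹ᵁ V₀ = (p ⁻¹ᵁ U).ι ''ᵁ ((p ∣_ U) ⁻¹ᵁ V) := (image_morphismRestrict_preimage p U V).symm
    have eT : ((p ∣_ U) ⁻¹ᵁ V) ≤ (p ⁻¹ᵁ U).ι ⁻¹ᵁ (p ⁻¹ᵁ V₀) := by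
      rw [hT, Scheme.Hom.preimage_image_eq]
    have eU : V ≤ U.ι ⁻¹ᵁ V₀ := by
      rw [hV₀, Scheme.Hom.preimage_image_eq]
    let θ := (p ⁻¹ᵁ U).ι.appLE (p ⁻¹ᵁ V₀) ((p ∣_ U) ⁻¹ᵁ V) eT
    let θU := U.ι.appLE V₀ V eU
    have hθ : IsIso θ := isIso_appLE_image _ ((p ∣_ U) ⁻¹ᵁ V) _ hT eT
    have hθU : IsIso θU := isIso_appLE_image _ V _ hV₀ eU
    have hbθ : Function.Bijective θ.hom := (ConcreteCategory.isIso_iff_bijective θ).mp hθ
    have hbθU : Function.Bijective θU.hom := (ConcreteCategory.isIso_iff_bijective θU).mp hθU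
    -- R1
    have R1 : ∀ g : G, H5S13596.σ ρ p hp.inv V₀ g ≫ θ =
        θ ≫ (ρU g).hom.appLE ((p ∣_ U) ⁻¹ᵁ V) ((p ∣_ U) ⁻¹ᵁ V) (SGA1.preimage_le_of_inv ρU (p ∣_ U) hinv g V) := by
      intro g
      rw [H5S13596.σ, Scheme.Hom.appLE_comp_appLE, Scheme.Hom.appLE_comp_appLE]
      simp only [hρU g]
    -- R2
    have R2 : p.app V₀ ≫ θ = θU ≫ (p ∣_ U).app V := by
      rw [Scheme.Hom.app_eq_appLE, Scheme.Hom.app_eq_appLE, Scheme.Hom.appLE_comp_appLE,
        Scheme.Hom.appLE_comp_appLE]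
      simp only [morphismRestrict_ι]
    obtain ⟨t, ht⟩ := hbθ.2 s
    rw [← ht]
    have hR1 : ∀ g : G, ((ρU g).hom.appLE ((p ∣_ U) ⁻¹ᵁ V) ((p ∣_ U) ⁻¹ᵁ V) (SGA1.preimage_le_of_inv ρU (p ∣_ U) hinv g V)).hom
        (θ.hom t) = θ.hom ((H5S13596.σ ρ p hp.inv V₀ g).hom t) := fun g =>
      (congrArg (fun f => f.hom t) (R1 g)).symm
    have hR2 : ∀ a, ((p ∣_ U).app V).hom (θU.hom a) = θ.hom ((p.app V₀).hom a) := fun a =>
      (congrArg (fun f => f.hom a) R2).symm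
    constructor
    · rintro ⟨a, ha⟩ g
      obtain ⟨a', rfl⟩ := hbθU.2 a
      rw [hR2] at ha
      have ht : t = (p.app V₀).hom a' := (hbθ.1 ha).symm
      rw [hR1]
      congr 1
      exact (hp.range_iff V₀ t).mp ⟨a', ht.symm⟩ g
    · intro h
      have : t ∈ Set.range (p.app V₀).hom := by
        rw [hp.range_iff V₀]
        intro g
        apply hbθ.1
        exact (hR1 g).symm.trans (h g)
      obtain ⟨a, rfl⟩ := this
      exact ⟨θU.hom a, hR2 a⟩

end H5S13606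

/-- Let a finite group G act on a scheme X and let p : X ⟶ Y be a quotient of X by G (affine,
G-invariant, sections of O_Y over every open = G-invariant sections of O_X over its preimage). Then
for every open U ⊆ Y, U is the quotient of p⁻¹U by G: the restriction p⁻¹U ⟶ U of p is again a
quotient in the same sense, for the action ρU of G on the G-stable open p⁻¹U induced by ρ (pinned by
compatibility with the inclusion p⁻¹U ⟶ X). -/
theorem result {X Y : Scheme.{u}} {G : Type u} [Group G] [Finite G]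
    (ρ : G →* Aut X) (p : X ⟶ Y) (hp : SGA1.IsQuot ρ p) (U : Y.Opens)
    (ρU : G →* Aut (p ⁻¹ᵁ U).toScheme)
    (hρU : ∀ g : G, (ρU g).hom ≫ (p ⁻¹ᵁ U).ι = (p ⁻¹ᵁ U).ι ≫ (ρ g).hom) :
    SGA1.IsQuot ρU (p ∣_ U) := by
  exact H5S13606.main ρ p hp U ρU hρU

end Groth.Agent.S13606
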