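import Groth.Statements.S13607
import Mathlib
import Groth.Agent.Lib.helper17.ARSysIso
import Groth.Agent.Lib.helper17.ARSysAdic
-- import your own Groth.Agent.* helpers here

set_option autoImplicit false
open CategoryTheory CategoryTheory.Limits Opposite
universe w v u
open ARSys

open Groth.Agent.Lib.helper17

namespace Groth.Agent.S13607

/-- In an abelian category linear over a commutative ring A with an ideal J, let X be a J-adic
projective system indexed by the natural numbers and Y a projective system whose n-th term is killed
by J^(n+1) for every n. Then for every r, every morphism from the translate X[r] to Y factors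
uniquely through the canonical translation map X[r] ⟶ X: there is exactly one morphism g : X ⟶ Y
whose n-th component, precomposed with the transition map X_(n+r) ⟶ X_n, is the n-th component of
the given morphism. In particular morphisms X ⟶ Y up to translation are the same as morphisms X ⟶ Y.
(The published statement is for systems of finitely generated modules over a Noetherian ring, and
for systems of sheaves of modules on the small etale site; this row states it in any linear abelian
category, which is all the argument uses.) -/
theorem result {C : Type u} [Category.{v} C] [Abelian C] {A : Type w} [CommRing A] [Linear A C]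
    (J : Ideal A) (X Y : ARSys.PS C) (hX : ARSys.IsAdic J X) (hY : ARSys.TermKilled J Y) (r : ℕ)
    (f : (ARSys.shift C r).obj X ⟶ Y) :
    ∃! g : X ⟶ Y, ∀ n : ℕ, f.app (op n) = ARSys.shiftMap X r n ≫ g.app (op n) := by
  have hq : ∀ n : ℕ, ARSys.IsQuot (J ^ (n + 1)) (ARSys.tr X (Nat.le_add_right n r)) :=
    fun n => hX.2 n (n + r) _
  have hepi : ∀ n : ℕ, Epi (ARSys.tr X (Nat.le_add_right n r)) :=
    fun n => ARSysAdic.IsQuot.epi (hq n)
  have hk : ∀ n : ℕ, ARSys.HomKilledBy (J ^ (n + 1)) (f.app (op n)) := by
    intro n a ha
    have : a • f.app (op n) = f.app (op n) ≫ (a • 𝟙 (Y.obj (op n))) := by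
      rw [Linear.comp_smul, Category.comp_id]
    rw [this, hY n a ha, comp_zero]
  have hg : ∀ n : ℕ, ∃ g : X.obj (op n) ⟶ Y.obj (op n),
      ARSys.tr X (Nat.le_add_right n r) ≫ g = f.app (op n) := by
    intro n
    obtain ⟨g, hg, _⟩ := (hq n).2 _ _ (hk n)
    exact ⟨g, hg⟩
  choose g hg using hg
  have hnat : ∀ (n m : ℕ) (h : n ≤ m), ARSys.tr X h ≫ g n = g m ≫ ARSys.tr Y h := by
    intro n m h
    have := hepi m
    rw [← cancel_epi (ARSys.tr X (Nat.le_add_right m r)), ← Category.assoc, ARSysBasic.tr_comp,
      ← Category.assoc, hg m]
    have h1 : ARSys.tr X (h.trans (Nat.le_add_right m r)) =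
        ARSys.tr X (show n + r ≤ m + r by omega) ≫ ARSys.tr X (Nat.le_add_right n r) :=
      (ARSysBasic.tr_comp _ _ _).symm
    rw [h1, Category.assoc, hg n]
    exact f.naturality (homOfLE h).op
  refine ⟨{ app := fun j => g j.unop, naturality := ?_ }, ?_, ?_⟩
  · intro j j' φ
    have h : j'.unop ≤ j.unop := leOfHom φ.unop
    have hX' : X.map φ = ARSys.tr X h := by unfold ARSys.tr; congr 1
    have hY' : Y.map φ = ARSys.tr Y h := by unfold ARSys.tr; congr 1
    rw [hX', hY']
    exact hnat _ _ h
  · intro n
    exact (hg n).symm
  · intro g' hg'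
    ext j
    obtain ⟨n⟩ := j
    have := hepi n
    change g'.app (op n) = g n
    rw [← cancel_epi (ARSys.tr X (Nat.le_add_right n r)), hg n]
    exact (hg' n).symm

end Groth.Agent.S13607
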