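import Groth.Statements.S13608
import Mathlib

set_option autoImplicit false
universe u v
open CAlg

namespace Groth.Agent.S13608

theorem smodEq_map {A : Type*} [CommRing A] (I : Ideal A) {M N : Type*} [AddCommGroup M] [Module A M]
    [AddCommGroup N] [Module A N] (f : M →ₗ[A] N) {x y : M} {n : ℕ}
    (h : x ≡ y [SMOD (I ^ n • ⊤ : Submodule A M)]) :
    f x ≡ f y [SMOD (I ^ n • ⊤ : Submodule A N)] := by
  have h1 := h.map f
  refine h1.mono ?_
  rw [Submodule.map_smul'']
  exact smul_mono_right _ le_top

theorem of_retract {A : Type*} [CommRing A] (I : Ideal A) {L N : Type*} [AddCommGroup L] [Module A L]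
    [AddCommGroup N] [Module A N] (i : L →ₗ[A] N) (r : N →ₗ[A] L) (h : ∀ x, r (i x) = x)
    [IsAdicComplete I N] : IsAdicComplete I L := by
  have hH : IsHausdorff I L := by
    constructor
    intro x hx
    have : i x = 0 := by
      apply IsHausdorff.haus (I := I) inferInstance
      intro n
      have := smodEq_map I i (hx n)
      rw [map_zero] at this
      exact this
    rw [← h x, this, map_zero]
  have hP : IsPrecomplete I L := by
    constructor
    intro f hf
    obtain ⟨z, hz⟩ := IsPrecomplete.prec (I := I) (M := N) inferInstance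
      (f := fun n => i (f n))
      (fun {m n} hmn => smodEq_map I i (hf hmn))
    refine ⟨r z, fun n => ?_⟩
    have := smodEq_map I r (hz n)
    rw [h] at this
    exact this
  exact ⟨⟩

/-- Let A be a commutative ring, I a finitely generated ideal of A and (M_n) an inverse system of
A-modules with transition maps f_n : M_(n+1) → M_n such that I^(n+1) M_n = 0 for every n. If L is an
inverse limit of the system (projections π_n compatible with the f_n, jointly injective, and such
that every compatible family of elements lifts to L), then L is complete and separated for the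
I-adic topology. No surjectivity of the transition maps is assumed. -/
theorem result
    (A : Type u) [CommRing A] (I : Ideal A) (hI : I.FG)
    (M : ℕ → Type v) [∀ n, AddCommGroup (M n)] [∀ n, Module A (M n)]
    (f : ∀ n, M (n + 1) →ₗ[A] M n)
    (hkill : ∀ n, I ^ (n + 1) • (⊤ : Submodule A (M n)) = ⊥)
    (L : Type v) [AddCommGroup L] [Module A L] (π : ∀ n, L →ₗ[A] M n)
    (hπ : ∀ n, f n ∘ₗ π (n + 1) = π n)
    (hinj : ∀ x : L, (∀ n, π n x = 0) → x = 0)
    (hlift : ∀ y : (∀ n, M n), (∀ n, f n (y (n + 1)) = y n) → ∃ x : L, ∀ n, π n x = y n) :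
    IsAdicComplete I L := by
  classical
  let Lim : Submodule A (∀ n, M n) :=
    { carrier := {y | ∀ n, f n (y (n + 1)) = y n}
      add_mem' := by
        intro a b ha hb n
        simp only [Pi.add_apply, map_add, ha n, hb n]
      zero_mem' := by
        intro n
        simp
      smul_mem' := by
        intro c a ha n
        simp only [Pi.smul_apply, map_smul, ha n] }
  have hπ' : ∀ n x, f n (π (n + 1) x) = π n x := fun n x => by
    rw [← LinearMap.comp_apply, hπ]
  let Φ : L →ₗ[A] Lim := LinearMap.codRestrict Lim (LinearMap.pi π) (fun x n => hπ' n x)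
  have hΦ : Function.Bijective Φ := by
    constructor
    · rw [injective_iff_map_eq_zero]
      intro x hx
      apply hinj
      intro n
      have := congrArg (fun y : Lim => (y : ∀ n, M n) n) hx
      simpa [Φ] using this
    · rintro ⟨y, hy⟩
      obtain ⟨x, hx⟩ := hlift y hy
      refine ⟨x, Subtype.ext (funext fun n => ?_)⟩
      simpa [Φ] using hx n
  let e : L ≃ₗ[A] Lim := LinearEquiv.ofBijective Φ hΦ
  have hker : ∀ n, (I ^ (n + 1) • ⊤ : Submodule A L) ≤ LinearMap.ker (π n) := by
    intro n
    rw [LinearMap.ker, ← Submodule.map_le_iff_le_comap, Submodule.map_smul'', ← hkill n]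
    exact smul_mono_right _ le_top
  let πbar : ∀ n, (L ⧸ (I ^ (n + 1) • ⊤ : Submodule A L)) →ₗ[A] M n :=
    fun n => Submodule.liftQ _ (π n) (hker n)
  let r' : AdicCompletion I L →ₗ[A] (∀ n, M n) :=
    LinearMap.pi (fun n => (πbar n) ∘ₗ AdicCompletion.eval I L (n + 1))
  have hr' : ∀ z, r' z ∈ Lim := by
    intro z n
    simp only [r', LinearMap.pi_apply, LinearMap.comp_apply, AdicCompletion.eval_apply]
    obtain ⟨w, hw⟩ := Submodule.mkQ_surjective _ (z.val (n + 1 + 1))
    have h2 : z.val (n + 1) = Submodule.mkQ _ w := by
      rw [← AdicCompletion.transitionMap_comp_eval_apply I L (Nat.le_succ (n + 1)) z, ← hw]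
      rfl
    rw [← hw, h2]
    simp only [πbar, Submodule.mkQ_apply, Submodule.liftQ_apply]
    exact hπ' n w
  let r'' : AdicCompletion I L →ₗ[A] Lim := LinearMap.codRestrict Lim r' hr'
  let r : AdicCompletion I L →ₗ[A] L := e.symm.toLinearMap ∘ₗ r''
  have hr : ∀ x, r (AdicCompletion.of I L x) = x := by
    intro x
    apply e.injective
    simp only [r, LinearMap.comp_apply, LinearEquiv.coe_coe, LinearEquiv.apply_symm_apply]
    apply Subtype.ext
    funext n
    simp [r'', r', e, Φ, πbar]
  have := AdicCompletion.isAdicComplete (M := L) hI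
  exact of_retract I (AdicCompletion.of I L) r hr

end Groth.Agent.S13608
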