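import Groth.Statements.S13609
import Mathlib

set_option autoImplicit false
universe u v
open CAlg

namespace Groth.Agent.S13609

theorem smodEq_map {A : Type*} [CommRing A] (I : Ideal A) {M N : Type*} [AddCommGroup M] [Module A M]
    [AddCommGroup N] [Module A N] (f : M →ₗ[A] N) {x y : M} {n : ℕ}
    (h : x ≡ y [SMOD (I ^ n • ⊤ : Submodule A M)]) :
    f x ≡ f y [SMOD (I ^ n • ⊤ : Submodule A N)] := by
  have h1 := h.map f
  refine h1.mono ?_
  rw [Submodule.map_smul'']
  exact smul_mono_right _ le_top

/-- A direct summand of a module that is complete and separated for the I-adic topology is again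
complete and separated: for a commutative ring A, an ideal I and A-modules M₁, M₂, if M₁ × M₂ is
I-adically complete then so is M₁. -/
theorem result (A : Type u) [CommRing A] (I : Ideal A)
    (M₁ M₂ : Type v) [AddCommGroup M₁] [Module A M₁] [AddCommGroup M₂] [Module A M₂]
    [IsAdicComplete I (M₁ × M₂)] : IsAdicComplete I M₁ := by
  have hH : IsHausdorff I M₁ := by
    constructor
    intro x hx
    have : (LinearMap.inl A M₁ M₂ x) = 0 := by
      apply IsHausdorff.haus (I := I) inferInstance
      intro n
      have := smodEq_map I (LinearMap.inl A M₁ M₂) (hx n)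
      rw [map_zero] at this
      exact this
    simpa using this
  have hP : IsPrecomplete I M₁ := by
    constructor
    intro f hf
    obtain ⟨L, hL⟩ := IsPrecomplete.prec (I := I) (M := M₁ × M₂) inferInstance
      (f := fun n => LinearMap.inl A M₁ M₂ (f n))
      (fun {m n} hmn => smodEq_map I (LinearMap.inl A M₁ M₂) (hf hmn))
    refine ⟨L.1, fun n => ?_⟩
    have := smodEq_map I (LinearMap.fst A M₁ M₂) (hL n)
    simpa using this
  exact ⟨⟩

end Groth.Agent.S13609
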