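import Groth.Statements.S13623
import Mathlib

set_option autoImplicit false
universe u
open TensorProduct
open CAlg

namespace Groth.Agent.S13623

section
variable {A : Type u} [CommRing A] {B : Type u} [CommRing B] [Algebra A B]
    (𝒜 : ℕ → Submodule A B) [GradedAlgebra 𝒜]

theorem pow_le_graded (j : ℕ) : (𝒜 1) ^ j ≤ 𝒜 j := by
  induction j with
  | zero => rw [pow_zero, Submodule.one_le]; exact SetLike.one_mem_graded 𝒜
  | succ j ih =>
    rw [pow_succ, Submodule.mul_le]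
    intro x hx y hy
    exact SetLike.mul_mem_graded (ih hx) hy

theorem pow_le_adjoin (j : ℕ) :
    (𝒜 1) ^ j ≤ Subalgebra.toSubmodule (Algebra.adjoin A (𝒜 1 : Set B)) := by
  induction j with
  | zero => rw [pow_zero, Submodule.one_le]; exact (Algebra.adjoin A (𝒜 1 : Set B)).one_mem
  | succ j ih =>
    rw [pow_succ, Submodule.mul_le]
    intro x hx y hy
    exact (Algebra.adjoin A (𝒜 1 : Set B)).mul_mem (ih hx) (Algebra.subset_adjoin hy)

theorem graded_le_pow (hfin : ∀ m : ℕ, Module.Finite A (𝒜 m))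
    (hgen : ∀ (k : Type u) [Field k] [IsAlgClosed k] [Algebra A k],
      Algebra.adjoin k ((Algebra.TensorProduct.includeRight : B →ₐ[A] k ⊗[A] B) '' (𝒜 1 : Set B)) = ⊤)
    (m : ℕ) : 𝒜 m ≤ (𝒜 1) ^ m := by
  by_contra hcon
  set P : Submodule A (𝒜 m) := Submodule.comap (𝒜 m).subtype ((𝒜 1) ^ m) with hP
  have hPne : P ≠ ⊤ := by
    intro h
    apply hcon
    intro x hx
    have : (⟨x, hx⟩ : 𝒜 m) ∈ P := by rw [h]; trivial
    exact this
  haveI := hfin m
  obtain ⟨P', hP', hPP'⟩ := (IsCoatomic.eq_top_or_exists_le_coatom P).resolve_left hPne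
  haveI hsimp : IsSimpleModule A (𝒜 m ⧸ P') := isSimpleModule_iff_isCoatom.2 hP'
  obtain ⟨𝔪, h𝔪, ⟨e⟩⟩ := isSimpleModule_iff_quot_maximal.1 hsimp
  haveI := h𝔪
  letI : Field (A ⧸ 𝔪) := Ideal.Quotient.field 𝔪
  let k := AlgebraicClosure (A ⧸ 𝔪)
  let ψ : 𝒜 m →ₗ[A] A ⧸ 𝔪 := e.toLinearMap ∘ₗ P'.mkQ
  let ι : (A ⧸ 𝔪) →ₗ[A] k := (IsScalarTower.toAlgHom A (A ⧸ 𝔪) k).toLinearMap
  let pr : B →ₗ[A] 𝒜 m := (DirectSum.component A ℕ (fun i => 𝒜 i) m) ∘ₗ
    (DirectSum.decomposeLinearEquiv 𝒜).toLinearMap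
  let Ψ : B →ₗ[A] k := ι ∘ₗ ψ ∘ₗ pr
  let Ψk : k ⊗[A] B →ₗ[k] k := Ψ.liftBaseChange k
  have hΨ : ∀ j, ∀ b ∈ (𝒜 1) ^ j, Ψ b = 0 := by
    intro j b hb
    have hbj : b ∈ 𝒜 j := pow_le_graded 𝒜 j hb
    by_cases hjm : j = m
    · subst hjm
      have h1 : pr b = ⟨b, hbj⟩ := by
        apply Subtype.ext
        show ((DirectSum.decompose 𝒜 b) j : B) = b
        exact DirectSum.decompose_of_mem_same 𝒜 hbj
      have h2 : (⟨b, hbj⟩ : 𝒜 j) ∈ P' := hPP' hb
      show ι (ψ (pr b)) = 0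
      rw [h1]
      have : ψ ⟨b, hbj⟩ = 0 := by
        show e (P'.mkQ _) = 0
        rw [Submodule.mkQ_apply, (Submodule.Quotient.mk_eq_zero P').2 h2, map_zero]
      rw [this, map_zero]
    · have h1 : pr b = 0 := by
        apply Subtype.ext
        show ((DirectSum.decompose 𝒜 b) m : B) = 0
        exact DirectSum.decompose_of_mem_ne 𝒜 hbj hjm
      show ι (ψ (pr b)) = 0
      rw [h1, map_zero, map_zero]
  have hcl : ∀ y ∈ Submonoid.closure
      ((Algebra.TensorProduct.includeRight : B →ₐ[A] k ⊗[A] B) '' (𝒜 1 : Set B)),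
      ∃ j, ∃ b ∈ (𝒜 1) ^ j, y = (1 : k) ⊗ₜ[A] b := by
    intro y hy
    induction hy using Submonoid.closure_induction with
    | mem y hy =>
      obtain ⟨b, hb, rfl⟩ := hy
      exact ⟨1, b, by rwa [pow_one], rfl⟩
    | one =>
      exact ⟨0, 1, by rw [pow_zero]; exact Submodule.one_le.1 le_rfl, rfl⟩
    | mul x y _ _ hx hy =>
      obtain ⟨j, b, hb, rfl⟩ := hx
      obtain ⟨j', b', hb', rfl⟩ := hy
      exact ⟨j + j', b * b', by rw [pow_add]; exact Submodule.mul_mem_mul hb hb',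
        by rw [Algebra.TensorProduct.tmul_mul_tmul, one_mul]⟩
  have hzero : ∀ y : k ⊗[A] B, Ψk y = 0 := by
    intro y
    have hy : y ∈ Subalgebra.toSubmodule (Algebra.adjoin k
        ((Algebra.TensorProduct.includeRight : B →ₐ[A] k ⊗[A] B) '' (𝒜 1 : Set B))) := by
      rw [hgen k]; trivial
    rw [Algebra.adjoin_eq_span] at hy
    refine Submodule.span_induction ?_ ?_ ?_ ?_ hy
    · intro z hz
      obtain ⟨j, b, hb, rfl⟩ := hcl z hz
      show Ψk (1 ⊗ₜ b) = 0
      rw [LinearMap.liftBaseChange_tmul, hΨ j b hb, smul_zero]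
    · exact map_zero _
    · intro x y _ _ hx hy
      rw [map_add, hx, hy, add_zero]
    · intro c x _ hx
      rw [map_smul, hx, smul_zero]
  obtain ⟨x, hx⟩ : ∃ x : 𝒜 m, ψ x = 1 := by
    obtain ⟨q, hq⟩ := e.surjective 1
    obtain ⟨x, rfl⟩ := Submodule.mkQ_surjective _ q
    exact ⟨x, hq⟩
  have h1 : pr x.1 = x := by
    apply Subtype.ext
    show ((DirectSum.decompose 𝒜 x.1) m : B) = x.1
    exact DirectSum.decompose_of_mem_same 𝒜 x.2
  have h2 : Ψ x.1 = 1 := by
    show ι (ψ (pr x.1)) = 1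
    rw [h1, hx]
    exact map_one (IsScalarTower.toAlgHom A (A ⧸ 𝔪) k)
  have h3 := hzero ((1 : k) ⊗ₜ[A] x.1)
  rw [LinearMap.liftBaseChange_tmul, h2, one_smul] at h3
  exact one_ne_zero h3

theorem result' (hfin : ∀ m : ℕ, Module.Finite A (𝒜 m))
    (hgen : ∀ (k : Type u) [Field k] [IsAlgClosed k] [Algebra A k],
      Algebra.adjoin k ((Algebra.TensorProduct.includeRight : B →ₐ[A] k ⊗[A] B) '' (𝒜 1 : Set B)) = ⊤) :
    Algebra.adjoin A (𝒜 1 : Set B) = ⊤ := by
  classical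
  rw [eq_top_iff]
  intro b _
  rw [← DirectSum.sum_support_decompose 𝒜 b]
  refine Subalgebra.sum_mem _ fun i _ => ?_
  exact pow_le_adjoin 𝒜 i (graded_le_pow 𝒜 hfin hgen i (Subtype.property _))
end

/-- Let A be a commutative ring and B a commutative A-algebra, graded by A-submodules B_m (m ≥ 0)
forming a graded-algebra structure, such that every B_m is a finitely generated A-module. If for
every algebraically closed field k and every A-algebra structure on k the k-algebra k ⊗_A B is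
generated by the image of B_1 under b ↦ 1 ⊗ b, then its degree-one part B_1 generates the A-algebra
B. (Algebraically closed fields are taken in the universe of A.) -/
theorem result
    (A : Type u) [CommRing A] (B : Type u) [CommRing B] [Algebra A B]
    (𝒜 : ℕ → Submodule A B) [GradedAlgebra 𝒜]
    (hfin : ∀ m : ℕ, Module.Finite A (𝒜 m))
    (hgen : ∀ (k : Type u) [Field k] [IsAlgClosed k] [Algebra A k],
      Algebra.adjoin k ((Algebra.TensorProduct.includeRight : B →ₐ[A] k ⊗[A] B) '' (𝒜 1 : Set B)) = ⊤) :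
    Algebra.adjoin A (𝒜 1 : Set B) = ⊤ := by
  exact result' 𝒜 hfin hgen

end Groth.Agent.S13623
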