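import Groth.Statements.S13628
import Mathlib

set_option autoImplicit false
universe u
open CategoryTheory CategoryTheory.Limits AlgebraicGeometry Opposite
open FBase

namespace Groth.Agent.S13628

/-- Let P be a property of schemes over fields, invariant under isomorphisms of schemes over the base
field and invariant in both directions under every field extension k → K (Z over k has P if and only
if Z ×_k Spec K over K has P). Let f : X → T be a morphism of schemes, h : T' → T a surjective
morphism of schemes and f' : X' → T' a base change of f along h. If for every algebraically closed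
field k and every Spec k → T' the fibre X' ×_{T'} Spec k has P, then for every algebraically closed
field k and every Spec k → T the fibre X ×_T Spec k has P. (Fields are taken in the universe of the
schemes. The published statement is that families of del Pezzo surfaces form a stack for the étale
topology; this row is the step of its proof that descends the condition on geometric fibres along a
surjective base change, stated for any fibre property with the invariance above.) -/
theorem result
    (P : ∀ (k : Type u) [Field k] (Z : Scheme.{u}), (Z ⟶ Spec (CommRingCat.of k)) → Prop)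
    (hiso : ∀ (k : Type u) [Field k] (Z Z' : Scheme.{u}) (e : Z ≅ Z') (g : Z' ⟶ Spec (CommRingCat.of k)),
      P k Z' g → P k Z (e.hom ≫ g))
    (hext : ∀ (k K : Type u) [Field k] [Field K] (i : k →+* K) (Z : Scheme.{u}) (g : Z ⟶ Spec (CommRingCat.of k)),
      P k Z g ↔ P K (pullback g (Spec.map (CommRingCat.ofHom i))) (pullback.snd g (Spec.map (CommRingCat.ofHom i))))
    {X T X' T' : Scheme.{u}} (f : X ⟶ T) (h : T' ⟶ T) [Surjective h] (f' : X' ⟶ T') (h' : X' ⟶ X)
    (sq : IsPullback h' f' f h)
    (H : ∀ (k : Type u) [Field k] [IsAlgClosed k] (σ' : Spec (CommRingCat.of k) ⟶ T'),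
        P k (pullback f' σ') (pullback.snd f' σ'))
    (k : Type u) [Field k] [IsAlgClosed k] (σ : Spec (CommRingCat.of k) ⟶ T) :
    P k (pullback f σ) (pullback.snd f σ) := by
  haveI : Surjective (pullback.fst σ h) := inferInstance
  obtain ⟨z, -⟩ := (pullback.fst σ h).surjective (default : Spec (CommRingCat.of k))
  set W := pullback σ h with hW
  let K := AlgebraicClosure (W.residueField z)
  let τ : Spec (CommRingCat.of K) ⟶ W :=
    Spec.map (CommRingCat.ofHom (algebraMap (W.residueField z) K)) ≫ W.fromSpecResidueField z
  set σ' := τ ≫ pullback.snd σ h with hσ'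
  obtain ⟨j, hj⟩ := Spec.map_surjective (τ ≫ pullback.fst σ h)
  have hcomm : σ' ≫ h = Spec.map (CommRingCat.ofHom j.hom) ≫ σ := by
    have e1 : CommRingCat.ofHom j.hom = j := rfl
    rw [e1, hj, hσ']
    simp only [Category.assoc]
    rw [pullback.condition]
  have h1 : P K (pullback f' σ') (pullback.snd f' σ') := H K σ'
  have hpaste : IsPullback (pullback.fst f' σ' ≫ h') (pullback.snd f' σ') f (σ' ≫ h) :=
    (IsPullback.of_hasPullback f' σ').paste_horiz sq
  have h2 : P K (pullback f (σ' ≫ h)) (pullback.snd f (σ' ≫ h)) := by
    have := hiso K _ _ hpaste.isoPullback.symm _ h1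
    simpa using this
  rw [hcomm] at h2
  have h3 := hiso K _ _ (pullbackLeftPullbackSndIso f σ (Spec.map (CommRingCat.ofHom j.hom))) _ h2
  rw [pullbackLeftPullbackSndIso_hom_snd] at h3
  exact (hext k K j.hom _ (pullback.snd f σ)).2 h3

end Groth.Agent.S13628
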