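import Groth.Statements.S13631
import Mathlib

set_option autoImplicit false
universe u v w
open CAlg

namespace Groth.Agent.S13631

/-- Let k be a field, R an integral domain which is a k-algebra of infinite dimension over k, M a finite
free R-module, σ a ring automorphism of R mapping the image of k onto itself, and φ : M → M a
σ-semilinear map. If the cokernel of φ is finite-dimensional over k, in the sense that some finitely
generated k-subspace N of M satisfies M = N + φ(M), then φ is injective. -/
theorem result
    {k : Type u} {R : Type v} {M : Type w} [Field k] [CommRing R] [IsDomain R] [Algebra k R]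
    (hR : ¬ Module.Finite k R)
    [AddCommGroup M] [Module R M] [Module k M] [IsScalarTower k R M]
    [Module.Finite R M] [Module.Free R M]
    (σ : R ≃+* R)
    (hσ : ∀ x : k, ∃ y : k, σ (algebraMap k R x) = algebraMap k R y)
    (hσ' : ∀ y : k, ∃ x : k, σ (algebraMap k R x) = algebraMap k R y)
    (φ : M →ₛₗ[(σ : R →+* R)] M)
    (hcoker : ∃ N : Submodule k M, N.FG ∧ ∀ m : M, ∃ n ∈ N, ∃ m' : M, m = n + φ m') :
    Function.Injective φ := by
  classical
  obtain ⟨N, hNfg, hN⟩ := hcoker
  let ι := Module.Free.ChooseBasisIndex R M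
  let b : Module.Basis ι R M := Module.Free.chooseBasis R M
  let M' : Submodule R M := Submodule.span R (Set.range fun j => φ (b j))
  have hφrepr : ∀ m : M, φ m = ∑ j, σ (b.repr m j) • φ (b j) := by
    intro m
    conv_lhs => rw [← b.sum_repr m]
    rw [map_sum]
    refine Finset.sum_congr rfl fun j _ => ?_
    rw [map_smulₛₗ]
    rfl
  have hφM' : ∀ m, φ m ∈ M' := by
    intro m
    rw [hφrepr]
    exact Submodule.sum_mem _ fun j _ => Submodule.smul_mem _ _ (Submodule.subset_span ⟨j, rfl⟩)
  -- finite-dimensionality of the quotient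
  let M'k : Submodule k M := M'.restrictScalars k
  have hfinQ : Module.Finite k (M ⧸ M'k) := by
    have : Module.Finite k N := Module.Finite.iff_fg.mpr hNfg
    refine Module.Finite.of_surjective (M'k.mkQ ∘ₗ N.subtype) ?_
    intro q
    obtain ⟨m, rfl⟩ := Submodule.Quotient.mk_surjective _ q
    obtain ⟨n, hn, m', rfl⟩ := hN m
    refine ⟨⟨n, hn⟩, ?_⟩
    simp only [LinearMap.coe_comp, Submodule.coe_subtype, Function.comp_apply, Submodule.mkQ_apply]
    rw [eq_comm, ← sub_eq_zero, ← Submodule.Quotient.mk_sub, Submodule.Quotient.mk_eq_zero]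
    have : n + φ m' - n = φ m' := by abel
    rw [this]
    exact hφM' m'
  -- each basis vector has a nonzero multiple in M'
  have hd : ∀ i, ∃ d : R, d ≠ 0 ∧ d • b i ∈ M' := by
    intro i
    let ρ : R →ₗ[k] (M ⧸ M'k) :=
      M'k.mkQ ∘ₗ ((LinearMap.toSpanSingleton R M (b i)).restrictScalars k)
    have hni : ¬ Function.Injective ρ := fun hinj => hR (Module.Finite.of_injective ρ hinj)
    rw [← LinearMap.ker_eq_bot, Submodule.eq_bot_iff] at hni
    push Not at hni
    obtain ⟨d, hdker, hd0⟩ := hni
    refine ⟨d, hd0, ?_⟩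
    rw [LinearMap.mem_ker] at hdker
    simp only [ρ, LinearMap.coe_comp, Function.comp_apply, Submodule.mkQ_apply,
      LinearMap.coe_restrictScalars, LinearMap.toSpanSingleton_apply,
      Submodule.Quotient.mk_eq_zero] at hdker
    exact hdker
  choose d hd0 hdM' using hd
  have hQ : ∀ i, ∃ c : ι → R, ∑ j, c j • φ (b j) = d i • b i := fun i =>
    (Submodule.mem_span_range_iff_exists_fun R).mp (hdM' i)
  choose Q hQ using hQ
  let P : Matrix ι ι R := fun i' j => b.repr (φ (b j)) i'
  have hφb : ∀ j, φ (b j) = ∑ i', P i' j • b i' := fun j => (b.sum_repr (φ (b j))).symm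
  have hPQ : P * (Matrix.of fun j i => Q i j) = Matrix.diagonal d := by
    ext i' i
    have h1 : d i • b i = ∑ i'', (∑ j, P i'' j * Q i j) • b i'' := by
      rw [← hQ i]
      simp_rw [hφb, Finset.smul_sum, smul_smul]
      rw [Finset.sum_comm]
      refine Finset.sum_congr rfl fun i'' _ => ?_
      rw [Finset.sum_smul]
      refine Finset.sum_congr rfl fun j _ => ?_
      rw [mul_comm]
    have h2 := congrArg (fun m => b.repr m i') h1
    simp only [map_smul, map_sum, Module.Basis.repr_self, Finsupp.smul_apply, Finsupp.coe_finsetSum,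
      Finset.sum_apply, smul_eq_mul, Finsupp.single_apply, mul_ite, mul_one, mul_zero,
      Finset.sum_ite_eq', Finset.mem_univ, if_true] at h2
    rw [Matrix.mul_apply, Matrix.diagonal_apply]
    simp only [Matrix.of_apply]
    rw [← h2]
    by_cases h : i = i'
    · subst h; simp
    · simp [h, Ne.symm h]
  have hdetP : P.det ≠ 0 := by
    have := congrArg Matrix.det hPQ
    rw [Matrix.det_mul, Matrix.det_diagonal] at this
    intro h0
    rw [h0, zero_mul] at this
    exact (Finset.prod_ne_zero_iff.mpr fun i _ => hd0 i) this.symm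
  -- injectivity
  rw [injective_iff_map_eq_zero]
  intro m hm
  have h3 : P.mulVec (fun j => σ (b.repr m j)) = 0 := by
    ext i'
    have h4 : φ m = ∑ i'', (∑ j, P i'' j * σ (b.repr m j)) • b i'' := by
      rw [hφrepr]
      simp_rw [hφb, Finset.smul_sum, smul_smul]
      rw [Finset.sum_comm]
      refine Finset.sum_congr rfl fun i'' _ => ?_
      rw [Finset.sum_smul]
      refine Finset.sum_congr rfl fun j _ => ?_
      rw [mul_comm]
    rw [hm] at h4
    have h5 := congrArg (fun m => b.repr m i') h4
    simp only [map_smul, map_sum, map_zero, Module.Basis.repr_self, Finsupp.smul_apply,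
      Finsupp.coe_finsetSum, Finset.sum_apply, smul_eq_mul, Finsupp.single_apply, mul_ite, mul_one,
      mul_zero, Finset.sum_ite_eq', Finset.mem_univ, if_true, Finsupp.coe_zero, Pi.zero_apply] at h5
    rw [Matrix.mulVec, dotProduct, Pi.zero_apply]
    exact h5.symm
  have h6 := Matrix.eq_zero_of_mulVec_eq_zero hdetP h3
  have h7 : ∀ j, b.repr m j = 0 := fun j => by
    have := congrFun h6 j
    simpa using this
  rw [← b.sum_repr m]
  exact Finset.sum_eq_zero fun j _ => by rw [h7 j, zero_smul]

end Groth.Agent.S13631
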