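import Groth.Statements.S13634
import Mathlib
import Groth.Agent.S12379

set_option autoImplicit false
universe u
open CategoryTheory CategoryTheory.Limits MonoidalCategory CartesianMonoidalCategory MonObj AlgebraicGeometry
open MultSch

namespace Groth.Agent.S13634

theorem precomp_tuple {C : Type*} [Category C] [CartesianMonoidalCategory C] {M T T' : C}
    (c : T' ⟶ T) : ∀ {n : ℕ} (y : Fin n → (T ⟶ M)),
    c ≫ MultSch.tuple y = MultSch.tuple (fun l => c ≫ y l)
  | 0, _ => toUnit_unique _ _
  | n + 1, y => by
      change c ≫ lift (y 0) (MultSch.tuple fun i => y i.succ) =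
        lift (c ≫ y 0) (MultSch.tuple fun i => c ≫ y i.succ)
      rw [comp_lift, precomp_tuple c (fun i => y i.succ)]

/-- Finite intersections of covering sieves are covering. -/
theorem finite_inter_mem {C : Type*} [Category C] (J : GrothendieckTopology C) {X : C} {r : ℕ}
    (Sv : Fin r → Sieve X) (h : ∀ l, Sv l ∈ J X) :
    ∃ A : Sieve X, A ∈ J X ∧ ∀ ⦃Y : C⦄ (f : Y ⟶ X), A f → ∀ l, Sv l f := by
  have key : ∀ k : ℕ, k ≤ r → ∃ A : Sieve X, A ∈ J X ∧
      ∀ ⦃Y : C⦄ (f : Y ⟶ X), A f → ∀ l : Fin r, l.val < k → Sv l f := by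
    intro k
    induction k with
    | zero => intro _; exact ⟨⊤, J.top_mem X, fun Y f _ l hl => absurd hl (Nat.not_lt_zero _)⟩
    | succ k ih =>
      intro hk
      obtain ⟨A, hA, hA'⟩ := ih (Nat.le_of_succ_le hk)
      refine ⟨A ⊓ Sv ⟨k, hk⟩, J.intersection_covering hA (h _), fun Y f hf l hl => ?_⟩
      rcases Nat.lt_succ_iff_lt_or_eq.1 hl with h1 | h1
      · exact hA' f hf.1 l h1
      · have : l = ⟨k, hk⟩ := Fin.ext h1
        rw [this]; exact hf.2
  obtain ⟨A, hA, hA'⟩ := key r le_rfl
  exact ⟨A, hA, fun Y f hf l => hA' f hf l l.isLt⟩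


/-- Let π : M → M'' be a homomorphism of commutative group schemes over a scheme S which is an
epimorphism of fppf sheaves, H a commutative group scheme over S and φ : (M'')^r → H a multilinear
morphism. If the composite of φ with π^r : M^r → (M'')^r is alternating, then φ is alternating. (The
published statement is for module schemes over a ring R and an R-multilinear φ; the ring action
plays no role, so this row states it for commutative group schemes, which contains that case.) -/
theorem result
    {S : Scheme.{u}} {M M'' H : Over S}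
    [GrpObj M] [IsCommMonObj M] [GrpObj M''] [IsCommMonObj M''] [GrpObj H] [IsCommMonObj H]
    (π : M ⟶ M'') [IsMonHom π] (hπ : Epi (CGrpSh.ptsMap Scheme.fppfPrecoverage π))
    {r : ℕ} (φ : MultSch.pow M'' r ⟶ H) (hφ : MultSch.IsMultilinear φ)
    (halt : ∀ (T : Over S) (x : Fin r → (T ⟶ M)) (i j : Fin r), i ≠ j → x i = x j →
      MultSch.tuple (fun l => x l ≫ π) ≫ φ = 1) :
    MultSch.IsAlternating φ := by
  intro T y i j hij hyij
  haveI : Sheaf.IsLocallySurjective (CGrpSh.ptsMap Scheme.fppfPrecoverage π) :=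
    (Sheaf.isLocallySurjective_iff_epi' _ _).2 hπ
  have hmem := fun l : Fin r => Presheaf.imageSieve_mem (QuotSh.J Scheme.fppfPrecoverage S)
      (CGrpSh.ptsMap Scheme.fppfPrecoverage π).hom (U := Opposite.op T)
      (ULift.up (Additive.ofMul (y l)))
  obtain ⟨A, hall, hA'⟩ := finite_inter_mem (QuotSh.J Scheme.fppfPrecoverage S) _ hmem
  have hsheaf : Presieve.IsSheaf (QuotSh.J Scheme.fppfPrecoverage S) (yoneda.obj H) :=
    GrothendieckTopology.Subcanonical.isSheaf_of_isRepresentable _
  have hsep := (hsheaf A hall).isSeparatedFor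
  have hloc : ∀ ⦃T' : Over S⦄ (c : T' ⟶ T), A c → c ≫ (MultSch.tuple y ≫ φ) = c ≫ 1 := by
    intro T' c hc
    rw [MonObj.comp_one]
    have hc' : ∀ l : Fin r, ∃ x : T' ⟶ M, x ≫ π = c ≫ y l := by
      intro l
      obtain ⟨t, ht⟩ := hA' c hc l
      have h2 : Additive.ofMul (t.down.toMul ≫ π) = Additive.ofMul (c ≫ y l) :=
        congrArg ULift.down ht
      exact ⟨t.down.toMul, Additive.ofMul.injective h2⟩
    choose x hx using hc'
    have hx' : ∀ l, Function.update x j (x i) l ≫ π = c ≫ y l := by
      intro l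
      by_cases hl : l = j
      · subst hl
        rw [Function.update_self, hx i, hyij]
      · rw [Function.update_of_ne hl, hx l]
    have h3 := halt T' (Function.update x j (x i)) i j hij
      (by rw [Function.update_self, Function.update_of_ne hij])
    rw [← Category.assoc, precomp_tuple]
    have h4 : (fun l => c ≫ y l) = fun l => Function.update x j (x i) l ≫ π :=
      funext fun l => (hx' l).symm
    rw [h4]
    exact h3
  exact hsep.ext (t₁ := MultSch.tuple y ≫ φ) (t₂ := (1 : T ⟶ H)) (fun T' c hc => hloc c hc)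

end Groth.Agent.S13634
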