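import Groth.Statements.S13664
import Mathlib

set_option autoImplicit false
universe u
open GrRing

namespace Groth.Agent.S13664

theorem pow_le_graded {R A : Type u} [CommRing R] [CommRing A] [Algebra R A]
    (𝒜 : ℤ → Submodule R A) [GradedAlgebra 𝒜] (d : ℤ) (n : ℕ) :
    (𝒜 d) ^ n ≤ 𝒜 ((n : ℤ) * d) := by
  induction n with
  | zero =>
    rw [pow_zero, Submodule.one_le]
    simpa using SetLike.GradedOne.one_mem (A := 𝒜)
  | succ n ih =>
    rw [pow_succ, Submodule.mul_le]
    intro a ha b hb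
    have := SetLike.GradedMul.mul_mem (A := 𝒜) (ih ha) hb
    have he : ((n : ℤ) * d + d) = ((n + 1 : ℕ) : ℤ) * d := by push_cast; ring
    rwa [he] at this

theorem graded_le_pow {R A : Type u} [CommRing R] [CommRing A] [Algebra R A]
    (𝒜 : ℤ → Submodule R A) [GradedAlgebra 𝒜]
    {p : ℕ} (f : Fin p → A) (deg : Fin p → ℤ) (hdeg : ∀ i, 0 < deg i) (hf : ∀ i, f i ∈ 𝒜 (deg i))
    (hgen : Ideal.span {a : A | ∃ n : ℤ, 0 < n ∧ a ∈ 𝒜 n} = Ideal.span (Set.range f))
    (D : ℤ) (hD : ∀ i, deg i ≤ D) (hD0 : 0 ≤ D) :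
    ∀ (N : ℕ) (n : ℤ), (N : ℤ) * D < n → ∀ a ∈ 𝒜 n, a ∈ (Ideal.span (Set.range f)) ^ (N + 1) := by
  classical
  intro N
  induction N with
  | zero =>
    intro n hn a ha
    rw [zero_add, pow_one, ← hgen]
    apply Ideal.subset_span
    refine ⟨n, ?_, ha⟩
    simpa using hn
  | succ N ih =>
    intro n hn a ha
    have hn0 : 0 < n := by
      have : (0 : ℤ) ≤ ((N + 1 : ℕ) : ℤ) * D := by positivity
      omega
    have haJ : a ∈ Ideal.span (Set.range f) := by
      rw [← hgen]
      exact Ideal.subset_span ⟨n, hn0, ha⟩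
    obtain ⟨c, hc⟩ := (Ideal.mem_span_range_iff_exists_fun).mp haJ
    have ha2 : a = ∑ i, (DirectSum.decompose 𝒜 (c i) (n - deg i) : A) * f i := by
      have h1 : (DirectSum.decompose 𝒜 a n : A) = a := DirectSum.decompose_of_mem_same 𝒜 ha
      rw [← h1, ← hc, DirectSum.decompose_sum, DFinsupp.finset_sum_apply,
        AddSubmonoidClass.coe_finset_sum]
      refine Finset.sum_congr rfl fun i _ => ?_
      have h2 := DirectSum.coe_decompose_mul_add_of_right_mem 𝒜 (i := n - deg i) (a := c i) (hf i)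
      rw [sub_add_cancel] at h2
      exact h2
    rw [ha2]
    refine Ideal.sum_mem _ fun i _ => ?_
    rw [pow_succ]
    refine Ideal.mul_mem_mul ?_ (Ideal.subset_span ⟨i, rfl⟩)
    refine ih (n - deg i) ?_ _ (DirectSum.decompose 𝒜 (c i) (n - deg i)).2
    have := hD i
    push_cast at hn
    nlinarith

/-- Let A be a commutative ring graded by the integers whose ideal I generated by the homogeneous
elements of positive degree has homogeneous generators f_1, …, f_p, of positive degrees d_1, …, d_p,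
let d be a positive integer divisible by each d_i, and let x be an element of an A-module M. The
following are equivalent: x is annihilated by some power of I; x is annihilated by (A_d)^n for all
sufficiently large n; there is an integer s such that A_n x = 0 for all n ≥ s. (The published
statement is for a homogeneous element of a graded module; this row drops both the grading of M and
the homogeneity of x, which play no role.) -/
theorem result {R A : Type u} [CommRing R] [CommRing A] [Algebra R A]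
    (𝒜 : ℤ → Submodule R A) [GradedAlgebra 𝒜]
    {p : ℕ} (f : Fin p → A) (deg : Fin p → ℤ) (hdeg : ∀ i, 0 < deg i) (hf : ∀ i, f i ∈ 𝒜 (deg i))
    (hgen : Ideal.span {a : A | ∃ n : ℤ, 0 < n ∧ a ∈ 𝒜 n} = Ideal.span (Set.range f))
    (d : ℤ) (hd : 0 < d) (hdvd : ∀ i, deg i ∣ d)
    {M : Type u} [AddCommGroup M] [Module A M] (x : M) :
    [x ∈ GrLC.gam (Ideal.span (Set.range f)) M,
     ∃ n₀ : ℕ, ∀ n : ℕ, n₀ ≤ n → ∀ r ∈ (𝒜 d) ^ n, r • x = 0,
     ∃ s : ℤ, ∀ n : ℤ, s ≤ n → ∀ r ∈ 𝒜 n, r • x = 0].TFAE := by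
  classical
  tfae_have 1 → 3 := by
    rintro ⟨N, hN⟩
    let D : ℤ := ∑ i, deg i
    have hD0 : 0 ≤ D := Finset.sum_nonneg fun i _ => (hdeg i).le
    have hD : ∀ i, deg i ≤ D := fun i =>
      Finset.single_le_sum (f := deg) (fun j _ => (hdeg j).le) (Finset.mem_univ i)
    refine ⟨(N : ℤ) * D + 1, fun n hn r hr => ?_⟩
    have h1 := graded_le_pow 𝒜 f deg hdeg hf hgen D hD hD0 N n (by omega) r hr
    exact hN r (Ideal.pow_le_pow_right (Nat.le_succ N) h1)
  tfae_have 3 → 2 := by
    rintro ⟨s, hs⟩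
    refine ⟨s.toNat, fun n hn r hr => ?_⟩
    refine hs ((n : ℤ) * d) ?_ r (pow_le_graded 𝒜 d n hr)
    have h1 : s ≤ (s.toNat : ℤ) := Int.self_le_toNat s
    have h2 : (s.toNat : ℤ) ≤ (n : ℤ) := by exact_mod_cast hn
    have h3 : (0 : ℤ) ≤ (n : ℤ) := by positivity
    nlinarith
  tfae_have 2 → 1 := by
    rintro ⟨n₀, hn₀⟩
    let K : Ideal A := (Submodule.span A {x}).annihilator
    have hrad : Ideal.span (Set.range f) ≤ K.radical := by
      rw [Ideal.span_le]
      rintro _ ⟨i, rfl⟩
      obtain ⟨e, he⟩ := hdvd i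
      have he0 : 0 < e := by
        by_contra hcon
        push Not at hcon
        have := hdeg i
        nlinarith
      have hmem : f i ^ e.toNat ∈ 𝒜 d := by
        have h1 := SetLike.pow_mem_graded (A := 𝒜) e.toNat (hf i)
        have h2 : e.toNat • deg i = d := by
          rw [he, nsmul_eq_mul, Int.toNat_of_nonneg he0.le, mul_comm]
        rwa [h2] at h1
      refine ⟨e.toNat * n₀, ?_⟩
      change f i ^ (e.toNat * n₀) ∈ K
      rw [Submodule.mem_annihilator_span_singleton, pow_mul]
      exact hn₀ n₀ le_rfl _ (Submodule.pow_mem_pow _ hmem n₀)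
    obtain ⟨N, hN⟩ := Ideal.exists_pow_le_of_le_radical_of_fg hrad
      (Submodule.fg_span (Set.finite_range f))
    exact ⟨N, fun r hr => (Submodule.mem_annihilator_span_singleton _ _).mp (hN hr)⟩
  tfae_finish

end Groth.Agent.S13664
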