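import Groth.Statements.S13682
import Mathlib

set_option autoImplicit false
universe u v w
open scoped BigOperators
open BTGrp

namespace Groth.Agent.S13682

open Fin

section
variable {A : Type u} [CommRing A] {N : Type w} [AddCommGroup N] [Module A N]

lemma vec_upd {r : ℕ} {M : Fin r → Type v} (i : Fin r) (a b c : ∀ k, M k) :
    (fun k => if k < i then a k else if k = i then b k else c k) =
      Function.update (fun k => if k < i then a k else c k) i (b i) := by
  funext k
  by_cases hk : k = i
  · subst hk; simp
  · simp [hk]

lemma slot_sum {r : ℕ} {M : Fin r → Type v} [∀ i, AddCommGroup (M i)] [∀ i, Module A (M i)]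
    (φ : MultilinearMap A M N) (i : Fin r) (a c : ∀ k, M k) {ι : Type*} (t : Finset ι)
    (g : ∀ k, ι → M k) :
    φ (fun k => if k < i then a k else if k = i then ∑ j ∈ t, g k j else c k) =
      ∑ j ∈ t, φ (fun k => if k < i then a k else if k = i then g k j else c k) := by
  rw [vec_upd i a (fun k => ∑ j ∈ t, g k j) c, φ.map_update_sum]
  refine Finset.sum_congr rfl fun j _ => ?_
  rw [vec_upd i a (fun k => g k j) c]

lemma slot_smul {r : ℕ} {M : Fin r → Type v} [∀ i, AddCommGroup (M i)] [∀ i, Module A (M i)]
    (φ : MultilinearMap A M N) (i : Fin r) (a b c : ∀ k, M k) (α : A) :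
    φ (fun k => if k < i then a k else if k = i then α • b k else c k) =
      α • φ (fun k => if k < i then a k else if k = i then b k else c k) := by
  rw [vec_upd i a (fun k => α • b k) c, φ.map_update_smul, vec_upd i a b c]

lemma vec_zero {r : ℕ} {M : Fin (r + 1) → Type v} (a b c : ∀ k, M k) :
    (fun k => if k < (0 : Fin (r + 1)) then a k else if k = 0 then b k else c k) =
      Fin.cons (b 0) (fun k => c k.succ) := by
  funext k
  refine Fin.cases ?_ (fun k => ?_) k
  · simp
  · simp [Fin.succ_ne_zero]

lemma vec_succ {r : ℕ} {M : Fin (r + 1) → Type v} (i : Fin r) (a b c : ∀ k, M k) :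
    (fun k => if k < i.succ then a k else if k = i.succ then b k else c k) =
      Fin.cons (a 0) (fun k => if k < i then a k.succ else if k = i then b k.succ else c k.succ) := by
  funext k
  refine Fin.cases ?_ (fun k => ?_) k
  · simp
  · simp

/-- telescoping -/
theorem tel : ∀ (r : ℕ) (M : Fin r → Type v) [∀ i, AddCommGroup (M i)] [∀ i, Module A (M i)]
    (φ : MultilinearMap A M N) (v u : ∀ k, M k),
    φ v - φ u = ∑ i : Fin r, φ (fun k => if k < i then v k else if k = i then v k - u k else u k) := by
  intro r
  induction r with
  | zero =>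
    intro M _ _ φ v u
    have : v = u := Subsingleton.elim _ _
    simp [this]
  | succ r ih =>
    intro M _ _ φ v u
    rw [Fin.sum_univ_succ, vec_zero v (fun k => v k - u k) u]
    simp_rw [vec_succ _ v (fun k => v k - u k) u]
    have h1 := ih (fun i => M i.succ) (φ.curryLeft (v 0)) (fun k => v k.succ) (fun k => u k.succ)
    simp only [MultilinearMap.curryLeft_apply] at h1
    rw [← h1]
    have hv : φ v = φ (Fin.cons (v 0) (fun k => v k.succ)) := by
      congr 1; exact (Fin.cons_self_tail v).symm
    have hu : φ u = φ (Fin.cons (u 0) (fun k => u k.succ)) := by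
      congr 1; exact (Fin.cons_self_tail u).symm
    have h2 : φ (Fin.cons (v 0 - u 0) (fun k => u k.succ)) =
        φ (Fin.cons (v 0) (fun k => u k.succ)) - φ (Fin.cons (u 0) (fun k => u k.succ)) := by
      rw [eq_sub_iff_add_eq, ← MultilinearMap.cons_add, sub_add_cancel]
    rw [hv, hu, h2]
    abel

/-- two-step identity -/
theorem two (α : A) : ∀ (r : ℕ) (M : Fin r → Type v) [∀ i, AddCommGroup (M i)] [∀ i, Module A (M i)]
    (φ : MultilinearMap A M N) (u s z v v' : ∀ k, M k) (hv : ∀ k, v k = u k + α • s k)
    (hv' : ∀ k, v' k = v k + α • z k),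
    ∑ i : Fin r, (φ (fun k => if k < i then v k else if k = i then s k else u k) +
        φ (fun k => if k < i then v' k else if k = i then z k else v k)) =
    ∑ i : Fin r, (φ (fun k => if k < i then v' k else if k = i then s k else u k) +
        φ (fun k => if k < i then v' k else if k = i then z k else u k)) := by
  intro r
  induction r with
  | zero =>
    intro M _ _ φ u s z v v' hv hv'
    simp
  | succ r ih =>
    intro M _ _ φ u s z v v' hv hv'
    rw [Fin.sum_univ_succ, Fin.sum_univ_succ]
    simp_rw [vec_zero, vec_succ]
    have h1 := ih (fun i => M i.succ) (φ.curryLeft (v' 0)) (fun k => u k.succ) (fun k => s k.succ)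
      (fun k => z k.succ) (fun k => v k.succ) (fun k => v' k.succ) (fun k => hv k.succ)
      (fun k => hv' k.succ)
    simp only [MultilinearMap.curryLeft_apply] at h1
    rw [← h1]
    have h2 := tel r (fun i => M i.succ) (φ.curryLeft (z 0)) (fun k => v k.succ) (fun k => u k.succ)
    simp only [MultilinearMap.curryLeft_apply] at h2
    have h3 : ∀ i : Fin r, φ (Fin.cons (v 0)
        (fun k => if k < i then v k.succ else if k = i then s k.succ else u k.succ)) =
        φ (Fin.cons (v' 0)
        (fun k => if k < i then v k.succ else if k = i then s k.succ else u k.succ)) -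
        α • φ (Fin.cons (z 0)
        (fun k => if k < i then v k.succ else if k = i then s k.succ else u k.succ)) := by
      intro i
      rw [hv' 0, MultilinearMap.cons_add, MultilinearMap.cons_smul]
      abel
    have h4 : ∀ i : Fin r, φ (Fin.cons (z 0)
        (fun k => if k < i then v k.succ else if k = i then v k.succ - u k.succ else u k.succ)) =
        α • φ (Fin.cons (z 0)
        (fun k => if k < i then v k.succ else if k = i then s k.succ else u k.succ)) := by
      intro i
      have : (fun k : Fin r => if k < i then v k.succ else if k = i then v k.succ - u k.succ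
          else u k.succ) = (fun k : Fin r => if k < i then v k.succ else if k = i then α • s k.succ
          else u k.succ) := by
        funext k
        rw [hv k.succ, add_sub_cancel_left]
      rw [this]
      have := slot_smul (φ.curryLeft (z 0)) i (fun k => v k.succ) (fun k => s k.succ)
        (fun k => u k.succ) α
      simpa only [MultilinearMap.curryLeft_apply] using this
    simp_rw [h4] at h2
    simp_rw [h3]
    rw [Finset.sum_add_distrib, Finset.sum_add_distrib, Finset.sum_sub_distrib,
      ← Finset.smul_sum] at *
    rw [sub_eq_iff_eq_add] at h2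
    rw [h2]
    abel

theorem main_aux (α : A) {r : ℕ} (M : Fin r → Type v) [∀ i, AddCommGroup (M i)] [∀ i, Module A (M i)]
    (φ : MultilinearMap A M N) (y w : ∀ i, ℕ → M i) : ∀ n : ℕ,
    (∀ i, ∀ j < n, w i (j + 1) = w i j + α • y i j) →
    (∑ i : Fin r, ∑ j ∈ Finset.range n,
        φ (fun k => if k < i then w k (j + 1) else if k = i then y k j else w k j)) =
      ∑ i : Fin r, ∑ j ∈ Finset.range n,
        φ (fun k => if k < i then w k n else if k = i then y k j else w k 0) := by
  intro n
  induction n with
  | zero => intro _; simp
  | succ n ih =>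
    intro hw
    have hW : ∀ n' ≤ n, ∀ i, w i n' = w i 0 + α • ∑ j ∈ Finset.range n', y i j := by
      intro n'
      induction n' with
      | zero => intro _ i; simp
      | succ n' ih' =>
        intro hn' i
        rw [hw i n' (by omega), ih' (by omega) i, Finset.sum_range_succ, smul_add, add_assoc]
    have ih' := ih (fun i j hj => hw i j (by omega))
    simp_rw [Finset.sum_range_succ, Finset.sum_add_distrib]
    rw [ih']
    have h2 := two α r M φ (fun k => w k 0) (fun k => ∑ j ∈ Finset.range n, y k j) (fun k => y k n)
      (fun k => w k n) (fun k => w k (n + 1)) (fun k => hW n le_rfl k) (fun k => hw k n (by omega))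
    simp_rw [Finset.sum_add_distrib, slot_sum] at h2
    exact h2

end

/-- Let A be a commutative ring, α ∈ A a non-zero-divisor, M_1, …, M_r and N modules over A and φ : M_1
× ⋯ × M_r → N an A-multilinear map. Let n be a natural number and let y_{i,j} (j < n) and w_{i,j} (j
≤ n) be elements of M_i with w_{i,j+1} = w_{i,j} + α y_{i,j} for all i and all j < n. Then Σ_i
Σ_{j<n} φ(w_{1,j+1}, …, w_{i-1,j+1}, y_{i,j}, w_{i+1,j}, …, w_{r,j}) = Σ_i Σ_{j<n} φ(w_{1,n}, …,
w_{i-1,n}, y_{i,j}, w_{i+1,0}, …, w_{r,0}). (The published statement takes n ≥ 1; for n = 0 both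
sides are empty sums. The families y, w are indexed by all natural numbers here and only the indices
named above enter.) -/
theorem result {A : Type u} [CommRing A] (α : A) (hα : α ∈ nonZeroDivisors A)
    {r : ℕ} (M : Fin r → Type v) (N : Type w) [∀ i, AddCommGroup (M i)] [∀ i, Module A (M i)]
    [AddCommGroup N] [Module A N] (φ : MultilinearMap A M N) (n : ℕ)
    (y w : ∀ i, ℕ → M i) (hw : ∀ i, ∀ j < n, w i (j + 1) = w i j + α • y i j) :
    (∑ i : Fin r, ∑ j ∈ Finset.range n,
        φ (fun k => if k < i then w k (j + 1) else if k = i then y k j else w k j)) =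
      ∑ i : Fin r, ∑ j ∈ Finset.range n,
        φ (fun k => if k < i then w k n else if k = i then y k j else w k 0) := by
  exact main_aux α M φ y w n hw

end Groth.Agent.S13682
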