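import Groth.Statements.S13702
import Mathlib

set_option autoImplicit false
universe u
open ZeroCyc

namespace Groth.Agent.S13702

open Polynomial

section field
variable {K : Type u} [Field K] (p : ℕ) [Fact p.Prime] [CharP K p]

theorem eq_zero_of_dvd_expand (g : K[X]) (hsep : g.Separable) (s : ℕ) (h : K[X])
    (hdeg : h.natDegree < g.natDegree) (hdvd : g ∣ expand K (p ^ s) h) : h = 0 := by
  classical
  let Kb := AlgebraicClosure K
  haveI : CharP Kb p := charP_of_injective_algebraMap (algebraMap K Kb).injective p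
  set g' := g.map (algebraMap K Kb) with hg'
  have hsep' : g'.Separable := hsep.map
  have hcard : g'.roots.toFinset.card = g.natDegree := by
    rw [Multiset.toFinset_card_of_nodup (nodup_roots hsep'), ← natDegree_map (algebraMap K Kb)]
    exact (IsAlgClosed.splits g').natDegree_eq_card_roots.symm
  have hmap : (h.map (algebraMap K Kb)) = 0 := by
    apply Polynomial.eq_zero_of_natDegree_lt_card_of_eval_eq_zero (h.map (algebraMap K Kb))
      (f := fun α : g'.roots.toFinset => (α : Kb) ^ (p ^ s))
    · intro α β hαβ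
      apply Subtype.ext
      have := (iterateFrobenius_inj Kb p s) (by simpa [iterateFrobenius_def] using hαβ)
      exact this
    · intro α
      have hα : g'.IsRoot (α : Kb) := by
        have := α.2
        rw [Multiset.mem_toFinset] at this
        exact isRoot_of_mem_roots this
      have hd : g' ∣ expand Kb (p ^ s) (h.map (algebraMap K Kb)) := by
        rw [← map_expand]
        exact Polynomial.map_dvd _ hdvd
      have := eval_eq_zero_of_dvd_of_eval_eq_zero hd hα
      rwa [expand_eval] at this
    · rw [Fintype.card_coe, hcard, natDegree_map]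
      exact hdeg
  exact (Polynomial.map_eq_zero _).1 hmap

/-- the linear combination map -/
noncomputable def comb (g : K[X]) (q : ℕ) : (Fin g.natDegree → K) →ₗ[K] AdjoinRoot g :=
  Fintype.linearCombination K (fun i : Fin g.natDegree => AdjoinRoot.root g ^ (q * (i : ℕ)))

theorem comb_eq (g : K[X]) (q : ℕ) (c : Fin g.natDegree → K) :
    comb g q c = AdjoinRoot.mk g (expand K q (∑ i : Fin g.natDegree, C (c i) * X ^ (i : ℕ))) := by
  rw [comb, Fintype.linearCombination_apply, map_sum, map_sum]
  refine Finset.sum_congr rfl fun i _ => ?_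
  rw [map_mul, map_pow, expand_C, expand_X, map_mul, map_pow, map_pow, AdjoinRoot.mk_X,
    AdjoinRoot.mk_C, ← pow_mul, Algebra.smul_def]
  rfl

theorem comb_injective (g : K[X]) (hsep : g.Separable) (s : ℕ) :
    Function.Injective (comb g (p ^ s)) := by
  rw [← LinearMap.ker_eq_bot, LinearMap.ker_eq_bot']
  intro c hc
  rw [comb_eq, AdjoinRoot.mk_eq_zero] at hc
  funext i
  have hn : 0 < g.natDegree := i.pos
  have hlt : (∑ i : Fin g.natDegree, C (c i) * X ^ (i : ℕ)).natDegree < g.natDegree := by
    by_cases hP : (∑ i : Fin g.natDegree, C (c i) * X ^ (i : ℕ)) = 0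
    · rw [hP, natDegree_zero]; exact hn
    · exact (natDegree_lt_iff_degree_lt hP).2 (degree_sum_fin_lt c)
  have h0 := eq_zero_of_dvd_expand p g hsep s _ hlt hc
  have := congrArg (fun P => P.coeff (i : ℕ)) h0
  simp only [finsetSum_coeff, coeff_C_mul, coeff_X_pow, coeff_zero] at this
  rw [Finset.sum_eq_single i] at this
  · simpa using this
  · intro j _ hji
    rw [if_neg, mul_zero]
    exact fun h => hji (Fin.ext h.symm)
  · intro h; exact absurd (Finset.mem_univ i) h

theorem comb_surjective (g : K[X]) (hg : g.Monic) (hsep : g.Separable) (s : ℕ) :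
    Function.Surjective (comb g (p ^ s)) := by
  haveI : Module.Finite K (AdjoinRoot g) := (AdjoinRoot.powerBasis' hg).finite
  apply (LinearMap.injective_iff_surjective_of_finrank_eq_finrank ?_).1 (comb_injective p g hsep s)
  rw [(AdjoinRoot.powerBasis' hg).finrank, Module.finrank_fin_fun]
  rfl

theorem field_case (g : K[X]) (hg : g.Monic) (hsep : g.Separable) (s : ℕ) (P : K[X])
    (n : ℕ) (hn : g.natDegree = n) :
    ∃ c : Fin n → K, g ∣ P - ∑ i : Fin n, C (c i) * X ^ (p ^ s * (i : ℕ)) := by
  subst hn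
  obtain ⟨c, hc⟩ := comb_surjective p g hg hsep s (AdjoinRoot.mk g P)
  refine ⟨c, ?_⟩
  rw [← AdjoinRoot.mk_eq_zero, map_sub, ← hc, comb_eq, sub_eq_zero]
  congr 1
  rw [map_sum]
  refine Finset.sum_congr rfl fun i _ => ?_
  rw [map_mul, map_pow, expand_C, expand_X, ← pow_mul]

end field

section loc
variable {A : Type u} [CommRing A] [IsLocalRing A] (p : ℕ) [Fact p.Prime]
  [CharP (IsLocalRing.ResidueField A) p]

theorem mk_mem_of_map_eq_zero (g : A[X]) (R : A[X]) (hR : R.map (IsLocalRing.residue A) = 0) :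
    AdjoinRoot.mk g R ∈ (IsLocalRing.maximalIdeal A) • (⊤ : Submodule A (AdjoinRoot g)) := by
  rw [R.as_sum_support_C_mul_X_pow, map_sum]
  refine Submodule.sum_mem _ fun i _ => ?_
  rw [map_mul, AdjoinRoot.mk_C]
  have : (AdjoinRoot.of g) (R.coeff i) * (AdjoinRoot.mk g) (X ^ i) =
      R.coeff i • (AdjoinRoot.mk g) (X ^ i) := by
    rw [Algebra.smul_def]; rfl
  rw [this]
  refine Submodule.smul_mem_smul ?_ trivial
  rw [← IsLocalRing.residue_eq_zero_iff, ← coeff_map, hR, coeff_zero]

theorem span_top (g : A[X]) (hg : g.Monic) (hsep : g.Separable) (s : ℕ) :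
    ⊤ ≤ Submodule.span A
      (Set.range fun i : Fin g.natDegree => AdjoinRoot.root g ^ (p ^ s * (i : ℕ))) := by
  haveI : Module.Finite A (AdjoinRoot g) := (AdjoinRoot.powerBasis' hg).finite
  apply Submodule.le_of_le_smul_of_le_jacobson_bot (I := IsLocalRing.maximalIdeal A)
    Module.Finite.fg_top (IsLocalRing.maximalIdeal_le_jacobson _)
  intro x _
  obtain ⟨P, rfl⟩ := AdjoinRoot.mk_surjective x
  obtain ⟨c', ⟨Q', hQ'⟩⟩ := field_case p (g.map (IsLocalRing.residue A)) (hg.map _) hsep.map s
    (P.map (IsLocalRing.residue A)) g.natDegree (hg.natDegree_map _)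
  obtain ⟨Q, hQ⟩ := Polynomial.map_surjective (IsLocalRing.residue A)
    IsLocalRing.residue_surjective Q'
  choose c hc using fun i => IsLocalRing.residue_surjective (c' i)
  set R := P - ∑ i : Fin g.natDegree, C (c i) * X ^ (p ^ s * (i : ℕ)) - g * Q with hR
  have hRmap : R.map (IsLocalRing.residue A) = 0 := by
    rw [hR, Polynomial.map_sub, Polynomial.map_sub, Polynomial.map_mul, hQ, ← hQ', sub_eq_zero,
      Polynomial.map_sum]
    congr 1
    refine Finset.sum_congr rfl fun i _ => ?_
    rw [Polynomial.map_mul, Polynomial.map_pow, map_C, map_X, hc]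
  have hx : AdjoinRoot.mk g P = (∑ i : Fin g.natDegree,
      c i • AdjoinRoot.root g ^ (p ^ s * (i : ℕ))) + AdjoinRoot.mk g R := by
    rw [hR, map_sub, map_sub, map_mul, AdjoinRoot.mk_self, zero_mul, sub_zero, map_sum]
    have : ∀ i : Fin g.natDegree, AdjoinRoot.mk g (C (c i) * X ^ (p ^ s * (i : ℕ))) =
        c i • AdjoinRoot.root g ^ (p ^ s * (i : ℕ)) := by
      intro i
      rw [map_mul, map_pow, AdjoinRoot.mk_C, AdjoinRoot.mk_X, Algebra.smul_def]
      rfl
    simp only [this]
    abel
  rw [hx]
  refine Submodule.add_mem_sup ?_ (mk_mem_of_map_eq_zero g R hRmap)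
  exact Submodule.sum_mem _ fun i _ => Submodule.smul_mem _ _ (Submodule.subset_span ⟨i, rfl⟩)

theorem result' (g : Polynomial A) (hg : g.Monic) (hsep : g.Separable) (s : ℕ) :
    ∃ b : Module.Basis (Fin g.natDegree) A (AdjoinRoot g),
      ∀ i : Fin g.natDegree, b i = AdjoinRoot.root g ^ (p ^ s * (i : ℕ)) := by
  refine ⟨basisOfTopLeSpanOfCardEqFinrank _ (span_top p g hg hsep s) ?_, fun i => ?_⟩
  · rw [(AdjoinRoot.powerBasis' hg).finrank, Fintype.card_fin]
    rfl
  · rw [coe_basisOfTopLeSpanOfCardEqFinrank]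

end loc

/-- Let A be a local ring with residue field of characteristic p > 0, let g ∈ A[X] be monic and
separable of degree n, so that A' = A[X]/(g) is an étale A-algebra, and let q = p^s with s ≥ 0. Then
the powers 1, t^q, t^{2q}, …, t^{(n-1)q} of the class t of X form a basis of A' as an A-module. -/
theorem result {A : Type u} [CommRing A] [IsLocalRing A] (p : ℕ) [Fact p.Prime]
    [CharP (IsLocalRing.ResidueField A) p] (g : Polynomial A) (hg : g.Monic) (hsep : g.Separable) (s : ℕ) :
    ∃ b : Module.Basis (Fin g.natDegree) A (AdjoinRoot g),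
      ∀ i : Fin g.natDegree, b i = AdjoinRoot.root g ^ (p ^ s * (i : ℕ)) := by
  exact result' p g hg hsep s

end Groth.Agent.S13702
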