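import Groth.Statements.S13708
import Mathlib

set_option autoImplicit false
universe u
open CategoryTheory CategoryTheory.Limits AlgebraicGeometry
open ZeroCyc

namespace Groth.Agent.S13708


set_option backward.defeqAttrib.useBackward true in
set_option backward.isDefEq.respectTransparency false in
open AlgebraicGeometry.Scheme AlgebraicGeometry.Scheme.Pullback in
theorem isSeparated_of_affine_base {X S : Scheme.{u}} [IsAffine S] (f : X ⟶ S)
    (h : ∀ x y : X, f x = f y → ∃ U : X.Opens, IsAffineOpen U ∧ x ∈ U ∧ y ∈ U) :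
    IsSeparated f := by
  constructor
  let 𝒰 : S.OpenCover := Scheme.coverOfIsIso (𝟙 S)
  let 𝒱 : ∀ i, (pullback f (𝒰.f i)).OpenCover := fun i =>
    (pullback f (𝒰.f i)).openCoverOfIsOpenCover
      (fun V : (pullback f (𝒰.f i)).affineOpens => V.1) (iSup_affineOpens_eq_top _)
  haveI : ∀ i, IsAffine (𝒰.X i) := fun _ => (inferInstance : IsAffine S)
  haveI : ∀ i j, IsAffine ((𝒱 i).X j) := fun i j => j.2
  have key : diagonalCoverDiagonalRange f 𝒰 𝒱 = ⊤ := by
    rw [← top_le_iff]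
    rintro z -
    have hxy : f (pullback.fst f f z) = f (pullback.snd f f z) := by
      rw [← Scheme.Hom.comp_apply, ← Scheme.Hom.comp_apply, pullback.condition]
    obtain ⟨U, hU, hxU, hyU⟩ := h _ _ hxy
    let i : 𝒰.I₀ := PUnit.unit
    haveI : IsIso (𝒰.f i) := (inferInstance : IsIso (𝟙 S))
    let V : (pullback f (𝒰.f i)).Opens := (pullback.fst f (𝒰.f i)) ⁻¹ᵁ U
    have hV : IsAffineOpen V := hU.preimage_of_isIso _
    let j : (𝒱 i).I₀ := ⟨V, hV⟩
    have hmem : ∀ x : X, x ∈ U → x ∈ Set.range ((𝒱 i).f j ≫ pullback.fst f (𝒰.f i)) := by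
      intro x hx
      obtain ⟨p, hp⟩ := (pullback.fst f (𝒰.f i)).surjective x
      have hpV : p ∈ V := by show pullback.fst f (𝒰.f i) p ∈ U; rw [hp]; exact hx
      refine ⟨⟨p, hpV⟩, ?_⟩
      rw [Scheme.Hom.comp_apply]
      exact hp
    refine TopologicalSpace.Opens.mem_iSup.mpr ⟨⟨i, j⟩, ?_⟩
    show z ∈ Set.range ((diagonalCover f 𝒰 𝒱).f ⟨i, j, j⟩)
    rw [diagonalCover_map]
    dsimp only
    refine (Set.ext_iff.mp (range_map ..) z).mpr ⟨hmem _ hxU, hmem _ hyU⟩
  refine IsZariskiLocalAtTarget.of_iSup_eq_top (fun i : PUnit.{0} ↦ ⊤) (by simp) fun _ ↦ ?_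
  rw [← key]
  exact isClosedImmersion_diagonal_restrict_diagonalCoverDiagonalRange f 𝒰 𝒱

theorem exists_basicOpen_pair {X : Scheme.{u}} {U : X.Opens} (hU : IsAffineOpen U) (W : X.Opens)
    (x y : X) (hxU : x ∈ U) (hyU : y ∈ U) (hxW : x ∈ W) (hyW : y ∈ W) :
    ∃ g : Γ(X, U), x ∈ X.basicOpen g ∧ y ∈ X.basicOpen g ∧ X.basicOpen g ≤ W := by
  let φ := hU.fromSpec
  let px := hU.primeIdealOf ⟨x, hxU⟩
  let py := hU.primeIdealOf ⟨y, hyU⟩
  have hφx : φ px = x := hU.fromSpec_primeIdealOf ⟨x, hxU⟩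
  have hφy : φ py = y := hU.fromSpec_primeIdealOf ⟨y, hyU⟩
  let C : Set (PrimeSpectrum Γ(X, U)) := (φ ⁻¹' (W : Set X))ᶜ
  have hC : IsClosed C := (W.2.preimage φ.continuous).isClosed_compl
  let I := PrimeSpectrum.vanishingIdeal C
  have hzI : PrimeSpectrum.zeroLocus (I : Set Γ(X, U)) = C := by
    rw [PrimeSpectrum.zeroLocus_vanishingIdeal_eq_closure, hC.closure_eq]
  have hx : ¬ I ≤ px.asIdeal := by
    intro hle
    have : px ∈ PrimeSpectrum.zeroLocus (I : Set Γ(X, U)) := hle
    rw [hzI] at this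
    exact this (by show φ px ∈ W; rw [hφx]; exact hxW)
  have hy : ¬ I ≤ py.asIdeal := by
    intro hle
    have : py ∈ PrimeSpectrum.zeroLocus (I : Set Γ(X, U)) := hle
    rw [hzI] at this
    exact this (by show φ py ∈ W; rw [hφy]; exact hyW)
  have hnot : ¬ ((I : Set Γ(X, U)) ⊆ (px.asIdeal : Set Γ(X, U)) ∪ py.asIdeal) := by
    rw [Ideal.subset_union]
    rintro (h | h)
    · exact hx h
    · exact hy h
  rw [Set.not_subset] at hnot
  obtain ⟨g, hgI, hg⟩ := hnot
  have hgx : g ∉ px.asIdeal := fun h => hg (Or.inl h)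
  have hgy : g ∉ py.asIdeal := fun h => hg (Or.inr h)
  refine ⟨g, ?_, ?_, ?_⟩
  · rw [← hU.fromSpec_image_basicOpen]
    exact ⟨px, hgx, hφx⟩
  · rw [← hU.fromSpec_image_basicOpen]
    exact ⟨py, hgy, hφy⟩
  · rw [← hU.fromSpec_image_basicOpen]
    rintro _ ⟨q, hq, rfl⟩
    by_contra hqW
    have hqC : q ∈ C := hqW
    rw [← hzI] at hqC
    exact hq (hqC hgI)

theorem isSeparated_of_pairs {X S : Scheme.{u}} (f : X ⟶ S)
    (h : ∀ x y : X, f x = f y → ∃ U : X.Opens, IsAffineOpen U ∧ x ∈ U ∧ y ∈ U) :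
    IsSeparated f := by
  refine IsZariskiLocalAtTarget.of_iSup_eq_top (P := @IsSeparated)
    (fun i : S.affineOpens => i.1) (iSup_affineOpens_eq_top S) fun i => ?_
  haveI : IsAffine (i.1 : Scheme.{u}) := i.2
  apply isSeparated_of_affine_base
  intro x y hxy
  have hxy' : f x.1 = f y.1 := by
    have := congrArg Subtype.val hxy
    rwa [morphismRestrict_base_coe, morphismRestrict_base_coe] at this
  obtain ⟨U, hU, hxU, hyU⟩ := h _ _ hxy'
  obtain ⟨g, hgx, hgy, hgW⟩ := exists_basicOpen_pair hU (f ⁻¹ᵁ i.1) x.1 y.1 hxU hyU x.2 y.2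
  refine ⟨(f ⁻¹ᵁ i.1).ι ⁻¹ᵁ (X.basicOpen g), ?_, hgx, hgy⟩
  apply (hU.basicOpen g).preimage_of_isOpenImmersion
  rw [Scheme.Opens.opensRange_ι]
  exact hgW

/-- Let X be a scheme over S such that every finite set of points of X over a common point of S lies in
some affine open subscheme of X (the condition (AF)). Then X is separated over S. (The published
condition (AF) asks for an open U with U → S quasi-affine rather than U affine; with U affine, as
here, the same argument applies verbatim, and the two conditions agree over a quasi-separated base.) -/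
theorem result {X S : Scheme.{u}} (f : X ⟶ S) (hX : SymProd.IsAF f) :
    IsSeparated f := by
  classical
  apply isSeparated_of_pairs
  intro x y hxy
  obtain ⟨U, hU, hT⟩ := hX (f.base x) {x, y} (by
    intro z hz
    rcases Finset.mem_insert.mp hz with rfl | hz
    · rfl
    · rw [Finset.mem_singleton.mp hz]; exact hxy.symm)
  exact ⟨U, hU, hT x (by simp), hT y (by simp)⟩

end Groth.Agent.S13708
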