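import Groth.Statements.S13709
import Mathlib

set_option autoImplicit false
universe u
open CategoryTheory CategoryTheory.Limits AlgebraicGeometry
open ZeroCyc

namespace Groth.Agent.S13709

section Helpers

theorem comm_pt {X Y Y' : Scheme.{u}} (f : X ⟶ Y) (g : Y' ⟶ Y) (z : ↑(pullback f g)) :
    f.base ((pullback.fst f g).base z) = g.base ((pullback.snd f g).base z) := by
  have := congrArg (fun φ : pullback f g ⟶ Y => φ.base z) (pullback.condition (f := f) (g := g))
  simpa using this

theorem injective_of {X Y Y' : Scheme.{u}} (f : X ⟶ Y) (g : Y' ⟶ Y) [Surjective g]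
    (h : Function.Injective (pullback.snd f g).base) : Function.Injective f.base := by
  intro x1 x2 hx
  obtain ⟨y', hy'⟩ := g.surjective (f.base x1)
  obtain ⟨z1, hz1, hz1'⟩ :=
    Scheme.Pullback.exists_preimage_pullback (f := f) (g := g) x1 y' hy'.symm
  obtain ⟨z2, hz2, hz2'⟩ :=
    Scheme.Pullback.exists_preimage_pullback (f := f) (g := g) x2 y' (hx ▸ hy'.symm)
  have : z1 = z2 := h (hz1'.trans hz2'.symm)
  rw [← hz1, ← hz2, this]

theorem surjective_of {X Y Y' : Scheme.{u}} (f : X ⟶ Y) (g : Y' ⟶ Y) [Surjective g]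
    (h : Function.Surjective (pullback.snd f g).base) : Function.Surjective f.base := by
  intro y
  obtain ⟨y', hy'⟩ := g.surjective y
  obtain ⟨z, hz⟩ := h y'
  exact ⟨(pullback.fst f g).base z, by rw [comm_pt, hz, hy']⟩

theorem specializing_of {X Y Y' : Scheme.{u}} (f : X ⟶ Y) (g : Y' ⟶ Y) [Flat g] [Surjective g]
    (h : IsHomeomorph (pullback.snd f g).base) : SpecializingMap f.base := by
  intro x y hxy
  change f.base x ⤳ y at hxy
  obtain ⟨y', hy'⟩ := g.surjective y
  obtain ⟨η', hη', hgη'⟩ := Flat.generalizingMap g (a := y') (b := f.base x)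
    (by rw [hy']; exact hxy)
  obtain ⟨z, hz1, hz2⟩ :=
    Scheme.Pullback.exists_preimage_pullback (f := f) (g := g) x η' hgη'.symm
  obtain ⟨z', hz'⟩ := h.surjective y'
  have hzz : z ⤳ z' := (h.isInducing.specializes_iff).1 (by rw [hz2, hz']; exact hη')
  refine ⟨(pullback.fst f g).base z', ?_, ?_⟩
  · change x ⤳ _
    rw [← hz1]; exact hzz.map (pullback.fst f g).continuous
  · rw [comm_pt, hz', hy']

theorem main {X Y Y' : Scheme.{u}} (f : X ⟶ Y) (g : Y' ⟶ Y)
    [Flat g] [Surjective g] [QuasiCompact f] (h : IsHomeomorph (pullback.snd f g).base) :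
    IsHomeomorph f.base := by
  have hclosed : IsClosedMap f.base := (isClosedMap_iff_specializingMap f).2 (specializing_of f g h)
  exact isHomeomorph_iff_continuous_isClosedMap_bijective.2
    ⟨f.continuous, hclosed, injective_of f g h.injective, surjective_of f g h.surjective⟩

end Helpers

/-- Let f : X → Y be a quasi-compact morphism of schemes and g : Y' → Y a faithfully flat morphism, i.e.
flat and surjective, with no quasi-compactness assumption on g. If the base change X ×_Y Y' → Y' of
f along g is a homeomorphism on underlying spaces, then so is f. -/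
theorem result {X Y Y' : Scheme.{u}} (f : X ⟶ Y) (g : Y' ⟶ Y)
    [Flat g] [Surjective g] [QuasiCompact f] (h : IsHomeomorph (pullback.snd f g).base) :
    IsHomeomorph f.base := by
  exact main f g h

end Groth.Agent.S13709
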