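import Groth.Statements.S1371
import Mathlib
import Groth.Agent.Lib.helper24.GenFreeI

set_option autoImplicit false
universe u
open FlatMor

namespace Groth.Agent.S1371

open Groth.Agent.Lib.helper24.GenFree in

/-- Let R be a Noetherian domain, R → A → B ring maps of finite type, M a finite A-module, N a finite
B-module and u : M → N an A-linear map. Then there is a nonzero f in R such that the cokernel of u,
localized at f, is a flat module over R[1/f]. -/
theorem result {R A B : Type u} [CommRing R] [IsDomain R] [IsNoetherianRing R] [CommRing A] [CommRing B]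
    [Algebra R A] [Algebra A B] [Algebra R B] [IsScalarTower R A B] [Algebra.FiniteType R A] [Algebra.FiniteType A B]
    {M N : Type u} [AddCommGroup M] [Module A M] [Module R M] [IsScalarTower R A M] [Module.Finite A M]
    [AddCommGroup N] [Module B N] [Module A N] [Module R N] [IsScalarTower A B N] [IsScalarTower R A N] [Module.Finite B N]
    (u : M →ₗ[A] N) :
    ∃ f : R, f ≠ 0 ∧ Module.Flat (Localization.Away f)
      (LocalizedModule (Submonoid.powers f) (N ⧸ (LinearMap.range u).restrictScalars R)) := by
  classical
  obtain ⟨m, π, hπ⟩ := Algebra.FiniteType.iff_quotient_mvPolynomial''.mp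
    (inferInstance : Algebra.FiniteType A B)
  letI : Algebra (MvPolynomial (Fin m) A) B := π.toRingHom.toAlgebra
  have hPB : ∀ p : MvPolynomial (Fin m) A, algebraMap (MvPolynomial (Fin m) A) B p = π p :=
    fun _ => rfl
  letI : Module (MvPolynomial (Fin m) A) N := Module.compHom N π.toRingHom
  have hPN : ∀ (p : MvPolynomial (Fin m) A) (x : N), p • x = π p • x := fun _ _ => rfl
  haveI : IsScalarTower (MvPolynomial (Fin m) A) B N := ⟨fun p b x => by
    rw [hPN, Algebra.smul_def, mul_smul]; rfl⟩
  haveI : IsScalarTower A (MvPolynomial (Fin m) A) N := ⟨fun a p x => by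
    rw [hPN, hPN, map_smul, smul_assoc]⟩
  haveI : IsScalarTower R (MvPolynomial (Fin m) A) N := ⟨fun r p x => by
    rw [hPN, hPN, ← algebraMap_smul A r p, map_smul, smul_assoc, algebraMap_smul]⟩
  haveI : Module.Finite (MvPolynomial (Fin m) A) B :=
    Module.Finite.of_surjective (Algebra.linearMap _ B) hπ
  haveI : Module.Finite (MvPolynomial (Fin m) A) N := Module.Finite.trans B N
  have hfg : (LinearMap.range u).FG := by
    rw [LinearMap.range_eq_map]
    exact Module.Finite.fg_top.map u
  obtain ⟨f, hf, hD⟩ := genBasis_quot_mvPolynomial (R := R) (A := A) m N (LinearMap.range u) hfg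
  refine ⟨f, hf, ?_⟩
  have hD' : GenBasis f (N ⧸ (LinearMap.range u).restrictScalars R) :=
    hD.of_equiv (Submodule.Quotient.restrictScalarsEquiv R (LinearMap.range u)).symm
  haveI : Module.Free (Localization.Away f)
      (LocalizedModule (Submonoid.powers f) (N ⧸ (LinearMap.range u).restrictScalars R)) :=
    hD'.free_of_isLocalizedModule (Localization.Away f)
      (LocalizedModule.mkLinearMap (Submonoid.powers f) _)
  infer_instance

end Groth.Agent.S1371
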