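import Groth.Statements.S13710
import Mathlib
import Groth.Agent.Lib.helper22.FlatCover
import Groth.Agent.S13709

set_option autoImplicit false
universe u
open CategoryTheory CategoryTheory.Limits AlgebraicGeometry
open ZeroCyc

namespace Groth.Agent.S13710

section Helpers

open CategoryTheory CategoryTheory.Limits AlgebraicGeometry TensorProduct

open Groth.Agent.H22.FlatCover

theorem isIso_app_of {X Y Y' : Scheme.{u}} (f : X ⟶ Y) (g : Y' ⟶ Y) [Flat g] [Surjective g]
    [IsAffineHom f] [IsIso (pullback.snd f g)] {V : Y.Opens} (hV : IsAffineOpen V) :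
    IsIso (f.app V) := by
  rw [ConcreteCategory.isIso_iff_bijective]
  apply bijective_of_flat_cover'
  intro p
  obtain ⟨y, hy⟩ : ∃ y : V, hV.primeIdealOf y = p :=
    ⟨hV.isoSpec.inv p, by simp [IsAffineOpen.primeIdealOf]⟩
  obtain ⟨y', hy'⟩ := g.surjective y.1
  have hy'V : y' ∈ g ⁻¹ᵁ V := by
    change g y' ∈ V
    rw [hy']; exact y.2
  obtain ⟨_, ⟨W', hW', rfl⟩, hy'W, hWV⟩ :=
    Y'.isBasis_affineOpens.exists_subset_of_mem_open hy'V (g ⁻¹ᵁ V).isOpen
  have hWV' : W' ≤ g ⁻¹ᵁ V := hWV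
  have hU : IsAffineOpen (f ⁻¹ᵁ V) := hV.preimage f
  have H : IsPullback (pullback.fst f g) (pullback.snd f g) f g := IsPullback.of_hasPullback f g
  have hpo := (isIso_pushoutSection_iff H hWV' (le_refl (f ⁻¹ᵁ V)) rfl).1
    (isIso_pushoutSection_of_isAffineOpen H hWV' (le_refl (f ⁻¹ᵁ V)) rfl hV hW' hU)
  refine ⟨Γ(Y', W'), Γ(pullback f g, pullback.fst f g ⁻¹ᵁ (f ⁻¹ᵁ V) ⊓ pullback.snd f g ⁻¹ᵁ W'),
    g.appLE V W' hWV',
    (pullback.fst f g).appLE (f ⁻¹ᵁ V) (pullback.fst f g ⁻¹ᵁ (f ⁻¹ᵁ V) ⊓ pullback.snd f g ⁻¹ᵁ W')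
      inf_le_left,
    (pullback.snd f g).appLE W' (pullback.fst f g ⁻¹ᵁ (f ⁻¹ᵁ V) ⊓ pullback.snd f g ⁻¹ᵁ W')
      inf_le_right, ?_, ?_, ?_, ?_⟩
  · rw [Scheme.Hom.app_eq_appLE]
    exact hpo
  · exact HasRingHomProperty.appLE (P := @Flat) g inferInstance ⟨V, hV⟩ ⟨W', hW'⟩ hWV'
  · refine ⟨hW'.primeIdealOf ⟨y', hy'W⟩, ?_⟩
    rw [IsAffineOpen.comap_primeIdealOf_appLE V hV W' hW' hWV' hy'W, ← hy]
    congr 1
    exact Subtype.ext hy'
  · rw [← ConcreteCategory.isIso_iff_bijective]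
    have heq : (pullback.fst f g ⁻¹ᵁ (f ⁻¹ᵁ V) ⊓ pullback.snd f g ⁻¹ᵁ W') =
        pullback.snd f g ⁻¹ᵁ W' := by
      apply le_antisymm inf_le_right
      refine le_inf ?_ le_rfl
      intro z hz
      change f ((pullback.fst f g) z) ∈ V
      have h1 : f ((pullback.fst f g) z) = g ((pullback.snd f g) z) := by
        have := congrArg (fun φ : pullback f g ⟶ Y => φ.base z)
          (pullback.condition (f := f) (g := g))
        simpa using this
      rw [h1]
      exact hWV' hz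
    rw [Scheme.Hom.appLE]
    have : IsIso (homOfLE (show (pullback.fst f g ⁻¹ᵁ (f ⁻¹ᵁ V) ⊓ pullback.snd f g ⁻¹ᵁ W') ≤
        pullback.snd f g ⁻¹ᵁ W' from inf_le_right)) := by
      rw [show homOfLE _ = eqToHom heq from Subsingleton.elim _ _]
      infer_instance
    infer_instance

theorem main {X Y Y' : Scheme.{u}} (f : X ⟶ Y) (g : Y' ⟶ Y) [Flat g] [Surjective g] :
    IsIso f ↔ QuasiCompact f ∧ IsIso (pullback.snd f g) := by
  constructor
  · intro h; exact ⟨inferInstance, inferInstance⟩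
  · rintro ⟨hqc, hiso⟩
    have hhomeo : IsHomeomorph f.base :=
      Groth.Agent.S13709.result f g (pullback.snd f g).homeomorph.isHomeomorph
    have : IsAffineHom f := isAffineHom_of_isInducing f hhomeo.isInducing
      (by rw [hhomeo.surjective.range_eq]; exact isClosed_univ)
    refine IsZariskiLocalAtTarget.of_iSup_eq_top (P := MorphismProperty.isomorphisms Scheme)
      (fun U : Y.affineOpens => U.1) (iSup_affineOpens_eq_top Y) (fun U => ?_)
    rw [MorphismProperty.isomorphisms.iff, isIso_morphismRestrict_iff_isIso_app f U.2]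
    exact isIso_app_of f g U.2

end Helpers

/-- Let f : X → Y be a morphism of schemes and g : Y' → Y a faithfully flat morphism (flat and
surjective, not assumed quasi-compact). Then f is an isomorphism exactly when it is quasi-compact
and its base change X ×_Y Y' → Y' along g is an isomorphism. -/
theorem result {X Y Y' : Scheme.{u}} (f : X ⟶ Y) (g : Y' ⟶ Y)
    [Flat g] [Surjective g] :
    IsIso f ↔ QuasiCompact f ∧ IsIso (pullback.snd f g) := by
  exact main f g

end Groth.Agent.S13710
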