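import Groth.Statements.S13711
import Mathlib
import Groth.Agent.Lib.helper22.AffineDescent

set_option autoImplicit false
universe u
open CategoryTheory CategoryTheory.Limits AlgebraicGeometry
open ZeroCyc

namespace Groth.Agent.S13711

section Helpers

open CategoryTheory CategoryTheory.Limits AlgebraicGeometry TensorProduct

open Groth.Agent.H22.FlatCover

theorem isAffineOpen_preimage_of {X Y Y' : Scheme.{u}} (f : X ⟶ Y) (g : Y' ⟶ Y) [Flat g]
    [Surjective g] [QuasiCompact f] [QuasiSeparated f] [IsAffineHom (pullback.snd f g)]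
    {V : Y.Opens} (hV : IsAffineOpen V) : IsAffineOpen (f ⁻¹ᵁ V) := by
  have hS : IsAffine V.toScheme := hV
  have hcpt : CompactSpace ↥(f ⁻¹ᵁ V) :=
    isCompact_iff_compactSpace.1 (QuasiCompact.isCompact_preimage (f := f) _ V.isOpen hV.isCompact)
  have hqs : QuasiSeparatedSpace ↥(f ⁻¹ᵁ V).toScheme :=
    quasiSeparatedSpace_of_quasiSeparated (f.resLE V (f ⁻¹ᵁ V) le_rfl)
  have hcpt' : CompactSpace ↥(f ⁻¹ᵁ V).toScheme := hcpt
  change IsAffine (f ⁻¹ᵁ V).toScheme
  let ι := {W' : Y'.Opens // IsAffineOpen W' ∧ W' ≤ g ⁻¹ᵁ V}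
  have hT : ∀ i : ι, IsAffine (i.1.toScheme) := fun i => i.2.1
  refine isAffine_of_flat_family (f.resLE V (f ⁻¹ᵁ V) le_rfl) (fun i : ι => i.1.toScheme)
    (fun i => g.resLE V i.1 i.2.2) ?_ ?_
  · intro v
    obtain ⟨y', hy'⟩ := g.surjective v.1
    have hy'V : y' ∈ g ⁻¹ᵁ V := by
      change g y' ∈ V
      rw [hy']; exact v.2
    obtain ⟨_, ⟨W', hW', rfl⟩, hy'W, hWV⟩ :=
      Y'.isBasis_affineOpens.exists_subset_of_mem_open hy'V (g ⁻¹ᵁ V).isOpen
    refine ⟨⟨W', hW', hWV⟩, ⟨y', hy'W⟩, ?_⟩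
    apply Subtype.ext
    have := congrArg (fun φ : Scheme.Opens.toScheme (X := Y') W' ⟶ Y => φ.base ⟨y', hy'W⟩)
      (Scheme.Hom.resLE_comp_ι g (U := V) (V := W') hWV)
    simp only [Scheme.Hom.comp_base, TopCat.hom_comp, ContinuousMap.comp_apply] at this
    exact this.trans hy'
  · intro i
    have H : IsPullback (pullback.fst f g) (pullback.snd f g) f g := IsPullback.of_hasPullback f g
    have hp := Scheme.Hom.isPullback_resLE H i.2.2 (le_refl (f ⁻¹ᵁ V)) rfl
    have heq : (pullback.fst f g ⁻¹ᵁ (f ⁻¹ᵁ V) ⊓ pullback.snd f g ⁻¹ᵁ i.1) =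
        pullback.snd f g ⁻¹ᵁ i.1 := by
      apply le_antisymm inf_le_right
      refine le_inf ?_ le_rfl
      intro z hz
      change f ((pullback.fst f g) z) ∈ V
      rw [show f ((pullback.fst f g) z) = g ((pullback.snd f g) z) from comm_pt f g z]
      exact i.2.2 hz
    have haff : IsAffineOpen (pullback.fst f g ⁻¹ᵁ (f ⁻¹ᵁ V) ⊓ pullback.snd f g ⁻¹ᵁ i.1) := by
      rw [heq]
      exact i.2.1.preimage (pullback.snd f g)
    have : IsAffine (pullback.fst f g ⁻¹ᵁ (f ⁻¹ᵁ V) ⊓ pullback.snd f g ⁻¹ᵁ i.1).toScheme := haff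
    exact .of_isIso hp.isoPullback.inv

theorem main {X Y Y' : Scheme.{u}} (f : X ⟶ Y) (g : Y' ⟶ Y) [Flat g] [Surjective g] :
    IsAffineHom f ↔ QuasiCompact f ∧ QuasiSeparated f ∧ IsAffineHom (pullback.snd f g) := by
  constructor
  · intro h; exact ⟨inferInstance, inferInstance, MorphismProperty.pullback_snd _ _ h⟩
  · rintro ⟨hqc, hqs, haff⟩
    have := haff
    exact ⟨fun V hV => isAffineOpen_preimage_of f g hV⟩

end Helpers

/-- Let f : X → Y be a morphism of schemes and g : Y' → Y a faithfully flat morphism (flat and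
surjective, not assumed quasi-compact). Then f is affine exactly when it is quasi-compact,
quasi-separated, and its base change X ×_Y Y' → Y' along g is affine. -/
theorem result {X Y Y' : Scheme.{u}} (f : X ⟶ Y) (g : Y' ⟶ Y)
    [Flat g] [Surjective g] :
    IsAffineHom f ↔ QuasiCompact f ∧ QuasiSeparated f ∧ IsAffineHom (pullback.snd f g) := by
  exact main f g

end Groth.Agent.S13711
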