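import Groth.Statements.S13720
import Groth.Agent.Lib.helper8.PolLaw2

set_option autoImplicit false
universe u
open scoped TensorProduct
open ZeroCyc

namespace Groth.Agent.S13720

/-- Let B be the filtered direct limit of a directed system (B_i, t_ij : B_i → B_j) of commutative
algebras over the commutative ring A, with structure maps φ_i : B_i → B (jointly surjective, and an
element of B_i vanishing in B already vanishes in some B_j), and let F : B → C be a multiplicative
polynomial law homogeneous of degree d, with restrictions F_i = F ∘ φ_i. Then an element b of B lies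
in the kernel of F if and only if it is the image of some x ∈ B_i whose images in B_j lie in the
kernel of F_j for every j ≥ i; that is, the kernel of F is the direct limit of the kernels of the
F_i. -/
theorem result {A : Type u} [CommRing A] {B : Type u} [CommRing B] [Algebra A B]
    {C : Type u} [CommRing C] [Algebra A C] {ι : Type u} [Preorder ι] [IsDirected ι (fun i j => i ≤ j)] [Nonempty ι]
    (Bi : ι → Type u) [∀ i, CommRing (Bi i)] [∀ i, Algebra A (Bi i)]
    (t : ∀ i j : ι, i ≤ j → (Bi i →ₐ[A] Bi j)) (φ : ∀ i : ι, Bi i →ₐ[A] B)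
    (hcomp : ∀ (i j : ι) (h : i ≤ j), (φ j).comp (t i j h) = φ i)
    (hsurj : ∀ b : B, ∃ (i : ι) (x : Bi i), φ i x = b)
    (hzero : ∀ (i : ι) (x : Bi i), φ i x = 0 → ∃ (j : ι) (h : i ≤ j), t i j h x = 0)
    {d : ℕ} (F : PolLaw.MulLaw A B C d) (b : B) :
    b ∈ PolLaw.ker F.law ↔ ∃ (i : ι) (x : Bi i), φ i x = b ∧
      ∀ (j : ι) (h : i ≤ j), t i j h x ∈ PolLaw.ker (F.precomp (φ j)).law := by
  classical
  -- transport of lifts
  have hφt : ∀ (i j : ι) (h : i ≤ j) (y : Bi i), φ j (t i j h y) = φ i y := fun i j h y => by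
    rw [← hcomp i j h]; rfl
  have key : ∀ (S : Type u) [CommSemiring S] [Algebra A S] (z : S ⊗[A] B) (i₀ : ι),
      ∃ (j : ι) (_ : i₀ ≤ j) (z' : S ⊗[A] Bi j), (φ j).toLinearMap.lTensor S z' = z := by
    intro S _ _ z
    induction z using TensorProduct.induction_on with
    | zero => exact fun i₀ => ⟨i₀, le_rfl, 0, by simp⟩
    | tmul s b' =>
      intro i₀
      obtain ⟨k, y, hy⟩ := hsurj b'
      obtain ⟨j, hkj, hij⟩ := exists_ge_ge k i₀
      refine ⟨j, hij, s ⊗ₜ[A] t k j hkj y, ?_⟩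
      rw [LinearMap.lTensor_tmul, AlgHom.toLinearMap_apply, hφt, hy]
    | add z₁ z₂ h₁ h₂ =>
      intro i₀
      obtain ⟨j₁, hj₁, z₁', hz₁⟩ := h₁ i₀
      obtain ⟨j₂, hj₂, z₂', hz₂⟩ := h₂ j₁
      refine ⟨j₂, hj₁.trans hj₂, (t j₁ j₂ hj₂).toLinearMap.lTensor S z₁' + z₂', ?_⟩
      rw [map_add, hz₂, ← LinearMap.comp_apply, ← LinearMap.lTensor_comp, ← AlgHom.comp_toLinearMap,
        hcomp, hz₁]
  constructor
  · intro hb
    obtain ⟨i, x, hx⟩ := hsurj b
    refine ⟨i, x, hx, fun j h => ?_⟩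
    rw [Groth.Agent.H8.PolLaw.mem_ker_iff]
    intro S _ _ x' w
    rw [Groth.Agent.H8.PolLaw.precomp_toFun', Groth.Agent.H8.PolLaw.precomp_toFun', map_add,
      Groth.Agent.H8.PolLaw.lTensor_mul', LinearMap.lTensor_tmul, AlgHom.toLinearMap_apply, hφt, hx]
    exact hb S _ _
  · rintro ⟨i, x, hx, hker⟩
    rw [Groth.Agent.H8.PolLaw.mem_ker_iff]
    intro S _ _ x' w
    obtain ⟨j₁, hj₁, x₁, hx₁⟩ := key S x' i
    obtain ⟨j, hj, w', hw'⟩ := key S w j₁
    have hij : i ≤ j := hj₁.trans hj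
    have hx'' : (φ j).toLinearMap.lTensor S ((t j₁ j hj).toLinearMap.lTensor S x₁) = x' := by
      rw [← LinearMap.comp_apply, ← LinearMap.lTensor_comp, ← AlgHom.comp_toLinearMap, hcomp, hx₁]
    have h := hker j hij
    rw [Groth.Agent.H8.PolLaw.mem_ker_iff] at h
    have h2 := h S ((t j₁ j hj).toLinearMap.lTensor S x₁) w'
    rw [Groth.Agent.H8.PolLaw.precomp_toFun', Groth.Agent.H8.PolLaw.precomp_toFun', map_add,
      Groth.Agent.H8.PolLaw.lTensor_mul', LinearMap.lTensor_tmul, AlgHom.toLinearMap_apply, hφt, hx,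
      hx'', hw'] at h2
    exact h2

end Groth.Agent.S13720
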