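import Groth.Statements.S13725
import Groth.Agent.Lib.helper8.PolLaw2

set_option autoImplicit false
universe u
open scoped TensorProduct
open ZeroCyc

namespace Groth.Agent.S13725

/-- Let k be a field of characteristic p > 0 and let F : k → k be the law x ↦ x^p, multiplicative and
homogeneous of degree p over k. The kernel of F is the zero ideal, but after the flat base change k
→ A' = k[X]/(X^p) the kernel of the base-changed law on A' ⊗_k k is not zero (the class of X lies in
it). So in characteristic p, forming the kernel of a multiplicative law is not compatible with flat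
base change. -/
theorem result {k : Type u} [Field k] (p : ℕ) [Fact p.Prime] [CharP k p] :
    PolLaw.ker (PolLaw.MulLaw.pow k k p).law = ⊥ ∧
      PolLaw.kerBC (PolLaw.MulLaw.pow k k p).law (AdjoinRoot ((Polynomial.X : Polynomial k) ^ p)) ≠ ⊥ := by
  have hp : p.Prime := Fact.out
  constructor
  · rw [eq_bot_iff]
    intro b hb
    rw [Groth.Agent.H8.PolLaw.mem_ker_iff] at hb
    have h := hb k 0 1
    have h' : ((0 : k ⊗[k] k) + 1 * (1 ⊗ₜ[k] b)) ^ p = (0 : k ⊗[k] k) ^ p := h
    rw [zero_add, one_mul, zero_pow hp.ne_zero, Algebra.TensorProduct.tmul_pow, one_pow] at h'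
    have h2 := congrArg (TensorProduct.lid k k) h'
    rw [TensorProduct.lid_tmul, map_zero, one_smul] at h2
    rw [Ideal.mem_bot]
    exact pow_eq_zero_iff hp.ne_zero |>.mp h2
  · intro hbot
    have hmem : (AdjoinRoot.root ((Polynomial.X : Polynomial k) ^ p)) ⊗ₜ[k] (1 : k) ∈
        PolLaw.kerBC (PolLaw.MulLaw.pow k k p).law (AdjoinRoot ((Polynomial.X : Polynomial k) ^ p)) := by
      rw [Groth.Agent.H8.PolLaw.mem_kerBC_iff]
      intro R _ _ _ _ x w
      show (x + w * _) ^ p = x ^ p
      rw [Algebra.TensorProduct.map_tmul]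
      obtain ⟨r, hr⟩ := exists_add_pow_prime_eq hp x
        (w * ((IsScalarTower.toAlgHom k (AdjoinRoot ((Polynomial.X : Polynomial k) ^ p)) R)
          (AdjoinRoot.root ((Polynomial.X : Polynomial k) ^ p)) ⊗ₜ[k] (AlgHom.id k k) 1))
      rw [hr, mul_pow, Algebra.TensorProduct.tmul_pow, ← map_pow]
      have h0 : (AdjoinRoot.root ((Polynomial.X : Polynomial k) ^ p)) ^ p = 0 := by
        rw [← AdjoinRoot.mk_X, ← map_pow, AdjoinRoot.mk_self]
      have hp0 : ((p : ℕ) : R ⊗[k] k) = 0 := by
        rw [← map_natCast (algebraMap k (R ⊗[k] k)), CharP.cast_eq_zero k p, map_zero]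
      rw [h0, map_zero, TensorProduct.zero_tmul, mul_zero, add_zero, hp0]
      simp
    rw [hbot, Ideal.mem_bot] at hmem
    have h2 := congrArg (TensorProduct.rid k (AdjoinRoot ((Polynomial.X : Polynomial k) ^ p))) hmem
    rw [TensorProduct.rid_tmul, map_zero, one_smul, ← AdjoinRoot.mk_X, AdjoinRoot.mk_eq_zero] at h2
    have h3 : (Polynomial.X : Polynomial k) ^ p ∣ Polynomial.X ^ 1 := by simpa using h2
    rw [pow_dvd_pow_iff Polynomial.X_ne_zero Polynomial.not_isUnit_X] at h3
    exact absurd h3 (by have := hp.two_le; omega)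

end Groth.Agent.S13725
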