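import Groth.Statements.S13726
import Mathlib

set_option autoImplicit false
universe u
open scoped TensorProduct
open ZeroCyc

namespace Groth.Agent.S13726
open scoped TensorProduct

section helpers



section
variable {R : Type*} [CommSemiring R]
theorem add_pow_prime_of_cast_zero {p : ℕ} (hp : p.Prime) (h0 : (p : R) = 0) (x y : R) :
    (x + y) ^ p = x ^ p + y ^ p := by
  obtain ⟨r, hr⟩ := exists_add_pow_prime_eq hp x y
  rw [hr, h0]
  simp
end

section
variable (Q : Type u) [CommRing Q] (p : ℕ) [Fact p.Prime]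
theorem mem_ker_iff_gen (h0Q : ((p : ℕ) : Q) = 0) (b : Q) :
    b ∈ PolLaw.ker (PolLaw.MulLaw.pow Q Q p).law ↔ b ^ p = 0 := by
  constructor
  · intro hb
    have h := hb Q 0 1
    change (0 + 1 * ((1 : Q) ⊗ₜ[Q] b)) ^ p = (0 : Q ⊗[Q] Q) ^ p at h
    rw [zero_add, one_mul, zero_pow (Fact.out : p.Prime).ne_zero,
      Algebra.TensorProduct.tmul_pow, one_pow] at h
    have := congrArg (Algebra.TensorProduct.lid Q Q) h
    simpa using this
  · intro hb S _ _ x w
    change (x + w * ((1 : S) ⊗ₜ[Q] b)) ^ p = x ^ p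
    have h0 : ((p : ℕ) : S ⊗[Q] Q) = 0 := by
      rw [Algebra.TensorProduct.natCast_def', h0Q, TensorProduct.tmul_zero]
    rw [add_pow_prime_of_cast_zero Fact.out h0, mul_pow, Algebra.TensorProduct.tmul_pow, hb,
      TensorProduct.tmul_zero, mul_zero, add_zero]
end

section
variable (k : Type u) [Field k] (p : ℕ) [Fact p.Prime] [CharP k p]

noncomputable abbrev II : Ideal (MvPolynomial ℕ k) :=
  Ideal.span (Set.range fun i : ℕ => (MvPolynomial.X i : MvPolynomial ℕ k) ^ p)
abbrev Q := MvPolynomial ℕ k ⧸ II k p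
noncomputable abbrev mm : Ideal (Q k p) :=
  (Ideal.span (Set.range fun i : ℕ => (MvPolynomial.X i : MvPolynomial ℕ k))).map
    (Ideal.Quotient.mk (II k p))

theorem cast_p_Q : ((p : ℕ) : Q k p) = 0 := by
  have : ((p : ℕ) : Q k p) = algebraMap k (Q k p) (p : k) := (map_natCast _ _).symm
  rw [this, CharP.cast_eq_zero, map_zero]

omit [CharP k p] in
theorem II_le_ker_eval : II k p ≤ RingHom.ker (MvPolynomial.eval (fun _ : ℕ => (0 : k))) := by
  rw [Ideal.span_le]
  rintro _ ⟨i, rfl⟩
  simp [RingHom.mem_ker, (Fact.out : p.Prime).ne_zero]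

/-- the augmentation `Q → k` -/
noncomputable def ev : Q k p →+* k :=
  Ideal.Quotient.lift (II k p) (MvPolynomial.eval (fun _ : ℕ => (0 : k)))
    (fun a ha => II_le_ker_eval k p ha)

theorem pow_eq_zero_of_mem_mm {b : Q k p} (hb : b ∈ mm k p) : b ^ p = 0 := by
  let J : Ideal (Q k p) :=
    { carrier := {b | b ^ p = 0}
      add_mem' := by
        intro a b ha hb
        show (a + b) ^ p = 0
        rw [add_pow_prime_of_cast_zero Fact.out (cast_p_Q k p), ha, hb, add_zero]
      zero_mem' := zero_pow (Fact.out : p.Prime).ne_zero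
      smul_mem' := by
        intro c a ha
        show (c • a) ^ p = 0
        rw [smul_eq_mul, mul_pow, ha, mul_zero] }
  have hle : mm k p ≤ J := by
    rw [Ideal.map_le_iff_le_comap, Ideal.span_le]
    rintro _ ⟨i, rfl⟩
    show (Ideal.Quotient.mk (II k p) (MvPolynomial.X i)) ^ p = 0
    rw [← map_pow, Ideal.Quotient.eq_zero_iff_mem]
    exact Ideal.subset_span ⟨i, rfl⟩
  exact hle hb

theorem mem_mm_of_pow_eq_zero {b : Q k p} (hb : b ^ p = 0) : b ∈ mm k p := by
  obtain ⟨f, rfl⟩ := Ideal.Quotient.mk_surjective b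
  have h1 : ev k p (Ideal.Quotient.mk (II k p) f) = MvPolynomial.eval (fun _ : ℕ => (0 : k)) f :=
    Ideal.Quotient.lift_mk _ _ _
  have h2 : MvPolynomial.eval (fun _ : ℕ => (0 : k)) f = 0 := by
    have := congrArg (ev k p) hb
    rw [map_pow, map_zero, h1] at this
    exact pow_eq_zero_iff (Fact.out : p.Prime).ne_zero |>.1 this
  apply Ideal.mem_map_of_mem
  rw [← Set.image_univ, MvPolynomial.mem_ideal_span_X_image]
  intro m hm
  have hm0 : m ≠ 0 := by
    rintro rfl
    rw [MvPolynomial.mem_support_iff] at hm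
    apply hm
    rw [← MvPolynomial.constantCoeff_eq, ← h2]
    exact (DFunLike.congr_fun MvPolynomial.eval_zero' f).symm
  obtain ⟨i, hi⟩ := DFunLike.ne_iff.1 hm0
  exact ⟨i, Set.mem_univ _, hi⟩

theorem mem_ker_iff (b : Q k p) :
    b ∈ PolLaw.ker (PolLaw.MulLaw.pow (Q k p) (Q k p) p).law ↔ b ^ p = 0 :=
  mem_ker_iff_gen (Q k p) p (cast_p_Q k p) b

theorem not_fg : ¬ (mm k p).FG := by
  intro hfg
  have hspan : mm k p = Ideal.span (Set.range fun i : ℕ =>
      (Ideal.Quotient.mk (II k p) (MvPolynomial.X i) : Q k p)) := by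
    rw [mm, Ideal.map_span, ← Set.range_comp]
    rfl
  rw [hspan] at hfg
  obtain ⟨s', hs's, hss'⟩ := (Submodule.fg_span_iff_fg_span_finset_subset _).1 hfg
  have hex : ∀ e : Q k p, e ∈ s' → ∃ i : ℕ, Ideal.Quotient.mk (II k p) (MvPolynomial.X i) = e :=
    fun e he => hs's he
  choose! idx hidx using hex
  let n := s'.sup idx + 1
  let g : ℕ → DualNumber k := fun i => if i = n then DualNumber.eps else 0
  have hp2 : 2 ≤ p := (Fact.out : p.Prime).two_le
  have hg : ∀ i, g i ^ p = 0 := by
    intro i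
    by_cases hi : i = n
    · simp only [g, hi, if_true]
      obtain ⟨q, rfl⟩ := Nat.exists_eq_add_of_le hp2
      rw [pow_add, pow_two, DualNumber.eps_mul_eps, zero_mul]
    · simp only [g, hi, if_false]
      exact zero_pow (Fact.out : p.Prime).ne_zero
  let ψ0 : MvPolynomial ℕ k →+* DualNumber k :=
    MvPolynomial.eval₂Hom (algebraMap k (DualNumber k)) g
  have hψ0 : II k p ≤ RingHom.ker ψ0 := by
    rw [Ideal.span_le]
    rintro _ ⟨i, rfl⟩
    simp [RingHom.mem_ker, ψ0, hg]
  let ψ : Q k p →+* DualNumber k := Ideal.Quotient.lift (II k p) ψ0 (fun a ha => hψ0 ha)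
  have hψX : ∀ i, ψ (Ideal.Quotient.mk (II k p) (MvPolynomial.X i)) = g i := by
    intro i
    show ψ0 (MvPolynomial.X i) = g i
    simp [ψ0]
  have h1 : Ideal.span (s' : Set (Q k p)) ≤ RingHom.ker ψ := by
    rw [Ideal.span_le]
    intro e he
    rw [SetLike.mem_coe, RingHom.mem_ker, ← hidx e he, hψX]
    have hlt : idx e < n := Nat.lt_succ_of_le (Finset.le_sup (f := idx) he)
    simp only [g, hlt.ne, if_false]
  have h2 : (Ideal.Quotient.mk (II k p) (MvPolynomial.X n) : Q k p) ∈
      Ideal.span (s' : Set (Q k p)) := by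
    have h3 : (Ideal.Quotient.mk (II k p) (MvPolynomial.X n) : Q k p) ∈
        Ideal.span (Set.range fun i : ℕ =>
          (Ideal.Quotient.mk (II k p) (MvPolynomial.X i) : Q k p)) := Ideal.subset_span ⟨n, rfl⟩
    change _ ∈ Submodule.span _ _ at h3
    rw [hss'] at h3
    exact h3
  have h4 := h1 h2
  rw [RingHom.mem_ker, hψX] at h4
  simp only [g, if_true] at h4
  have : (1 : k) = 0 := by
    have h5 := congrArg TrivSqZeroExt.snd h4
    simpa using h5
  exact one_ne_zero this

end



end helpers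

/-- Let k be a field of characteristic p > 0 and A = k[t_i : i ∈ ℕ]/(t_i^p : i ∈ ℕ). The law x ↦ x^p
from A to A is multiplicative and homogeneous of degree p over A; its kernel is the ideal generated
by the classes of the variables t_i, and this ideal is not finitely generated. Hence the image of a
family of zero-cycles need not be of finite presentation over the base even when X → S is. -/
theorem result {k : Type u} [Field k] (p : ℕ) [Fact p.Prime] [CharP k p] :
    PolLaw.ker (PolLaw.MulLaw.pow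
        (MvPolynomial ℕ k ⧸ Ideal.span (Set.range fun i : ℕ => (MvPolynomial.X i : MvPolynomial ℕ k) ^ p))
        (MvPolynomial ℕ k ⧸ Ideal.span (Set.range fun i : ℕ => (MvPolynomial.X i : MvPolynomial ℕ k) ^ p)) p).law =
      (Ideal.span (Set.range fun i : ℕ => (MvPolynomial.X i : MvPolynomial ℕ k))).map
        (Ideal.Quotient.mk (Ideal.span (Set.range fun i : ℕ => (MvPolynomial.X i : MvPolynomial ℕ k) ^ p))) ∧
    ¬ (PolLaw.ker (PolLaw.MulLaw.pow
        (MvPolynomial ℕ k ⧸ Ideal.span (Set.range fun i : ℕ => (MvPolynomial.X i : MvPolynomial ℕ k) ^ p))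
        (MvPolynomial ℕ k ⧸ Ideal.span (Set.range fun i : ℕ => (MvPolynomial.X i : MvPolynomial ℕ k) ^ p)) p).law).FG := by
  have hker : PolLaw.ker (PolLaw.MulLaw.pow (Q k p) (Q k p) p).law = mm k p := by
    ext b
    rw [mem_ker_iff]
    exact ⟨mem_mm_of_pow_eq_zero k p, pow_eq_zero_of_mem_mm k p⟩
  refine ⟨hker, ?_⟩
  rw [hker]
  exact not_fg k p

end Groth.Agent.S13726
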