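import Groth.Statements.S13757
import Mathlib

set_option autoImplicit false
universe u
open LabGraph

namespace Groth.Agent.S13757

lemma weighted_sum {V E : Type u} [Fintype V] [Fintype E] [DecidableEq V] [DecidableEq E]
    (ends : E → V × V) (a b : E → ℤ) (φ : V → ℤ) :
    ∑ v : V, φ v * ∑ e : E, ((if (ends e).1 = v then a e else 0) + (if (ends e).2 = v then b e else 0)) =
      ∑ e : E, (φ (ends e).1 * a e + φ (ends e).2 * b e) := by
  simp only [Finset.mul_sum]
  rw [Finset.sum_comm]
  refine Finset.sum_congr rfl fun e _ => ?_
  simp only [mul_add, mul_ite, mul_zero, Finset.sum_add_distrib, Finset.sum_ite_eq,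
    Finset.mem_univ, if_true]

/-- Let G be a finite connected multigraph (loops and multiple edges allowed) with vertex set V, edge
set E, endpoint map E → V × V and a labelling of the edges by positive integers l. A vertex
labelling φ : V → ℤ is Cartier when l(e) divides the difference of the values of φ at the two
endpoints of every edge e; its multidegree is the vertex labelling whose value at v is the sum, over
the edge-ends at v, of (value of φ at the other endpoint − φ(v)) / l(e). Then the Cartier vertex
labellings of multidegree zero are exactly the constant ones: the kernel of the multidegree operator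
on Cartier labellings is ℤ, embedded as the constants. -/
theorem result
    {V E : Type u} [Fintype V] [Fintype E] [DecidableEq V] [DecidableEq E]
    (ends : E → V × V) (l : E → ℕ) (hl : ∀ e, 0 < l e) (hconn : LabGraph.Connected ends)
    (φ : V → ℤ) (hφ : LabGraph.IsCartier ends l φ) :
    (∀ v : V, LabGraph.mdeg ends l φ v = 0) ↔ ∀ v w : V, φ v = φ w := by
  classical
  constructor
  · intro h0
    -- every edge has equal endpoint values
    have hsum : ∑ v : V, φ v * LabGraph.mdeg ends l φ v = 0 := by
      simp [h0]
    unfold LabGraph.mdeg at hsum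
    rw [weighted_sum ends (fun e => (φ (ends e).2 - φ (ends e).1) / (l e : ℤ))
      (fun e => (φ (ends e).1 - φ (ends e).2) / (l e : ℤ)) φ] at hsum
    have hterm : ∀ e : E, φ (ends e).1 * ((φ (ends e).2 - φ (ends e).1) / (l e : ℤ)) +
        φ (ends e).2 * ((φ (ends e).1 - φ (ends e).2) / (l e : ℤ)) =
        -((l e : ℤ) * ((φ (ends e).1 - φ (ends e).2) / (l e : ℤ)) ^ 2) := by
      intro e
      obtain ⟨q, hq⟩ := hφ e
      have hl : (l e : ℤ) ≠ 0 := by exact_mod_cast (hl e).ne'
      have h1 : (φ (ends e).1 - φ (ends e).2) / (l e : ℤ) = q := by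
        rw [hq, Int.mul_ediv_cancel_left _ hl]
      have h2 : (φ (ends e).2 - φ (ends e).1) / (l e : ℤ) = -q := by
        have : φ (ends e).2 - φ (ends e).1 = (l e : ℤ) * (-q) := by linarith
        rw [this, Int.mul_ediv_cancel_left _ hl]
      rw [h1, h2]
      have : φ (ends e).1 = φ (ends e).2 + (l e : ℤ) * q := by linarith
      rw [this]; ring
    rw [Finset.sum_congr rfl (fun e _ => hterm e), Finset.sum_neg_distrib, neg_eq_zero] at hsum
    have hnonneg : ∀ e ∈ (Finset.univ : Finset E),
        0 ≤ (l e : ℤ) * ((φ (ends e).1 - φ (ends e).2) / (l e : ℤ)) ^ 2 :=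
      fun e _ => mul_nonneg (by positivity) (sq_nonneg _)
    have hzero := (Finset.sum_eq_zero_iff_of_nonneg hnonneg).1 hsum
    have hedge : ∀ e : E, φ (ends e).1 = φ (ends e).2 := by
      intro e
      have h1 := hzero e (Finset.mem_univ e)
      have hl : (l e : ℤ) ≠ 0 := by exact_mod_cast (hl e).ne'
      have h2 : ((φ (ends e).1 - φ (ends e).2) / (l e : ℤ)) = 0 := by
        rcases mul_eq_zero.1 h1 with h | h
        · exact absurd h hl
        · exact pow_eq_zero_iff (by norm_num) |>.1 h
      obtain ⟨q, hq⟩ := hφ e
      rw [hq, Int.mul_ediv_cancel_left _ hl] at h2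
      rw [h2, mul_zero] at hq
      linarith
    have hadj : ∀ a b : V, LabGraph.Adj ends a b → φ a = φ b := by
      rintro a b ⟨e, he | he⟩
      · have := hedge e; rw [he] at this; exact this
      · have := hedge e; rw [he] at this; exact this.symm
    intro v w
    have := hconn.2 v w
    induction this with
    | refl => rfl
    | tail _ hbc ih => exact ih.trans (hadj _ _ hbc)
  · intro hconst v
    unfold LabGraph.mdeg
    refine Finset.sum_eq_zero fun e _ => ?_
    rw [hconst (ends e).2 (ends e).1]
    simp


end Groth.Agent.S13757
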