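import Groth.Statements.S13759
import Mathlib
import Groth.Agent.Lib.helper22.LabGraphBlowup

set_option autoImplicit false
universe u
open LabGraph

namespace Groth.Agent.S13759

section Helpers

open Groth.Agent.H22.Blowup

theorem main {V E : Type u} [Fintype V] [Fintype E] [DecidableEq V] [DecidableEq E]
    (ends : E → V × V) (l : E → ℕ) (hl : ∀ e, 0 < l e) (hconn : LabGraph.Connected ends)
    (α : V → ℤ) (ψ : LabGraph.BlVert V E l → ℤ)
    (hψ : ∀ w : LabGraph.BlVert V E l,
      LabGraph.mdeg (LabGraph.blEnds ends l) (fun _ => 1) ψ w = Sum.elim α (fun _ => (0 : ℤ)) w) :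
    ∃ φ : V → ℤ, LabGraph.IsCartier ends l φ ∧ ∀ v : V, LabGraph.mdeg ends l φ v = α v := by
  have hcond : ∀ e j, j + 1 < l e →
      av ends l ψ e j - 2 * av ends l ψ e (j + 1) + av ends l ψ e (j + 2) + (fun _ => (0 : ℤ)) (j + 1) = 0 := by
    intro e j hj
    have hj' : j < l e - 1 := by omega
    have := hψ (Sum.inr ⟨e, ⟨j, hj'⟩⟩)
    rw [mdeg_new] at this
    simpa using this
  have h0 : ∀ e, av ends l ψ e 0 = ψ (Sum.inl (ends e).1) := by
    intro e; simp [av, pathVert]
  have hle : ∀ e, av ends l ψ e (l e) = ψ (Sum.inl (ends e).2) := by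
    intro e
    have := hl e
    simp [av, pathVert, this.ne']
  have htot : ∀ e, ψ (Sum.inl (ends e).2) - ψ (Sum.inl (ends e).1) =
      (l e : ℤ) * (av ends l ψ e 1 - av ends l ψ e 0) := by
    intro e
    have := total_formula (av ends l ψ e) (fun _ => 0) (l e) (hcond e) (l e) le_rfl
    rw [hle, h0] at this
    simpa [h0] using this
  have hlast : ∀ e, av ends l ψ e (l e - 1) - av ends l ψ e (l e) =
      -(av ends l ψ e 1 - av ends l ψ e 0) := by
    intro e
    have h1 : l e - 1 < l e := by have := hl e; omega
    have := diff_formula (av ends l ψ e) (fun _ => 0) (l e) (hcond e) (l e - 1) h1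
    have h2 : l e - 1 + 1 = l e := by have := hl e; omega
    rw [h2] at this
    simp at this
    linarith
  refine ⟨fun v => ψ (Sum.inl v), ?_, ?_⟩
  · intro e
    refine ⟨-(av ends l ψ e 1 - av ends l ψ e 0), ?_⟩
    have := htot e
    simp only
    linarith
  · intro v
    have h1 := hψ (Sum.inl v)
    rw [mdeg_old ends l hl] at h1
    simp only [Sum.elim_inl] at h1
    rw [← h1]
    unfold mdeg
    refine Finset.sum_congr rfl fun e _ => ?_
    have hlne : (l e : ℤ) ≠ 0 := by have := hl e; exact_mod_cast this.ne'
    congr 1
    · refine if_congr Iff.rfl ?_ rfl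
      simp only
      rw [htot e, Int.mul_ediv_cancel_left _ hlne]
    · refine if_congr Iff.rfl ?_ rfl
      simp only
      rw [hlast e]
      have : ψ (Sum.inl (ends e).1) - ψ (Sum.inl (ends e).2) =
          (l e : ℤ) * (-(av ends l ψ e 1 - av ends l ψ e 0)) := by
        have := htot e; linarith
      rw [this, Int.mul_ediv_cancel_left _ hlne]

end Helpers

/-- Let G be a finite connected multigraph with vertex set V, edge set E, endpoint map E → V × V and
positive integer edge labels l, and let G̃ be its total blow-up graph: every edge e is replaced by a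
path of l(e) edges through l(e) − 1 new vertices, all new edges labelled 1 (so every vertex
labelling of G̃ is Cartier and its multidegree is the sum over edge-ends of the differences of
values). Let H, resp. H̃, be the cokernel of the multidegree operator from Cartier vertex labellings
of G to ℤ^V, resp. of G̃ to ℤ^Ṽ, and ε : H → H̃ the map induced by extending vertex labellings of G
by zero on the new vertices. Then ε is injective: if a vertex labelling α of G, extended by zero, is
the multidegree of some vertex labelling of G̃, then α is the multidegree of some Cartier vertex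
labelling of G. -/
theorem result
    {V E : Type u} [Fintype V] [Fintype E] [DecidableEq V] [DecidableEq E]
    (ends : E → V × V) (l : E → ℕ) (hl : ∀ e, 0 < l e) (hconn : LabGraph.Connected ends)
    (α : V → ℤ) (ψ : LabGraph.BlVert V E l → ℤ)
    (hψ : ∀ w : LabGraph.BlVert V E l,
      LabGraph.mdeg (LabGraph.blEnds ends l) (fun _ => 1) ψ w = Sum.elim α (fun _ => (0 : ℤ)) w) :
    ∃ φ : V → ℤ, LabGraph.IsCartier ends l φ ∧ ∀ v : V, LabGraph.mdeg ends l φ v = α v := by
  exact main ends l hl hconn α ψ hψ

end Groth.Agent.S13759
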