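import Groth.Statements.S13760
import Mathlib
import Groth.Agent.Lib.helper22.LabGraphBlowup
import Groth.Agent.Lib.helper22.LabGraphCirc

set_option autoImplicit false
universe u
open LabGraph

namespace Groth.Agent.S13760

section Helpers

open Groth.Agent.H22.Blowup Groth.Agent.H22.Circ

variable {V E : Type u} [Fintype V] [Fintype E] [DecidableEq V] [DecidableEq E]

omit [Fintype V] [Fintype E] [DecidableEq V] [DecidableEq E] in
theorem bv_succ (l : E → ℕ) (β : BlVert V E l → ℤ) (e : E) (j : ℕ) (hj : j < l e - 1) :
    bv l β e (j + 1) = β (Sum.inr ⟨e, ⟨j, hj⟩⟩) := by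
  unfold bv
  rw [dif_pos ⟨by omega, by omega⟩]
  rfl

theorem forward (ends : E → V × V) (l : E → ℕ) (hl : ∀ e, 0 < l e)
    (h : ∀ β : LabGraph.BlVert V E l → ℤ, ∃ (ψ : LabGraph.BlVert V E l → ℤ) (α : V → ℤ),
        ∀ w : LabGraph.BlVert V E l,
          LabGraph.mdeg (LabGraph.blEnds ends l) (fun _ => 1) ψ w + β w = Sum.elim α (fun _ => (0 : ℤ)) w) :
    LabGraph.IsCircuitCoprime ends l := by
  apply coprime_of_orth
  intro x
  set β : BlVert V E l → ℤ := fun w => match w with
    | Sum.inl _ => 0
    | Sum.inr ⟨e, j⟩ => if j.val = 0 then x e else 0 with hβ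
  obtain ⟨ψ, α, hψ⟩ := h β
  have hcond : ∀ e j, j + 1 < l e →
      av ends l ψ e j - 2 * av ends l ψ e (j + 1) + av ends l ψ e (j + 2) + bv l β e (j + 1) = 0 := by
    intro e j hj
    have hj' : j < l e - 1 := by omega
    have := hψ (Sum.inr ⟨e, ⟨j, hj'⟩⟩)
    rw [mdeg_new] at this
    rw [bv_succ l β e j hj']
    simpa using this
  have h0 : ∀ e, av ends l ψ e 0 = ψ (Sum.inl (ends e).1) := by
    intro e; simp [av, pathVert]
  have hle : ∀ e, av ends l ψ e (l e) = ψ (Sum.inl (ends e).2) := by
    intro e
    have := hl e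
    simp [av, pathVert, this.ne']
  have hbsum : ∀ e j, j < l e → ∑ t ∈ Finset.range j, bv l β e (t + 1) = if 0 < j then x e else 0 := by
    intro e j hj
    have : ∀ t ∈ Finset.range j, bv l β e (t + 1) = if t = 0 then x e else 0 := by
      intro t ht
      have ht' := Finset.mem_range.mp ht
      have : t < l e - 1 := by omega
      rw [bv_succ l β e t this]
    rw [Finset.sum_congr rfl this, Finset.sum_ite_eq' (Finset.range j) 0 (fun _ => x e)]
    simp
  have htot : ∀ e, ψ (Sum.inl (ends e).2) - ψ (Sum.inl (ends e).1) =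
      (l e : ℤ) * (av ends l ψ e 1 - av ends l ψ e 0) - ((l e : ℤ) - 1) * x e := by
    intro e
    have := total_formula (av ends l ψ e) (bv l β e) (l e) (hcond e) (l e) le_rfl
    rw [hle, h0] at this
    rw [this, h0]
    congr 1
    have h2 : ∑ j ∈ Finset.range (l e), ∑ t ∈ Finset.range j, bv l β e (t + 1) =
        ∑ j ∈ Finset.range (l e), if 0 < j then x e else 0 :=
      Finset.sum_congr rfl fun j hj => hbsum e j (Finset.mem_range.mp hj)
    rw [h2]
    obtain ⟨m, hm⟩ : ∃ m, l e = m + 1 := ⟨l e - 1, by have := hl e; omega⟩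
    rw [hm, Finset.sum_range_succ']
    simp
  refine ⟨fun e => x e - (av ends l ψ e 1 - av ends l ψ e 0), fun γ hγ => ?_⟩
  have : ∀ e, x e - (l e : ℤ) * (x e - (av ends l ψ e 1 - av ends l ψ e 0)) =
      (fun v => ψ (Sum.inl v)) (ends e).2 - (fun v => ψ (Sum.inl v)) (ends e).1 := by
    intro e
    have := htot e
    simp only
    linarith
  simp_rw [this]
  rw [sum_mul_cobd ends γ (fun v => ψ (Sum.inl v))]
  simp [hγ]

theorem backward (ends : E → V × V) (l : E → ℕ) (hl : ∀ e, 0 < l e)
    (hco : LabGraph.IsCircuitCoprime ends l) (β : LabGraph.BlVert V E l → ℤ) :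
    ∃ (ψ : LabGraph.BlVert V E l → ℤ) (α : V → ℤ),
        ∀ w : LabGraph.BlVert V E l,
          LabGraph.mdeg (LabGraph.blEnds ends l) (fun _ => 1) ψ w + β w = Sum.elim α (fun _ => (0 : ℤ)) w := by
  set X : E → ℤ := fun e => ∑ j ∈ Finset.range (l e), ∑ t ∈ Finset.range j, bv l β e (t + 1) with hX
  obtain ⟨φ, y, hφ⟩ := coprime_imp_decomp ends l hl hco (fun e => - X e)
  set A : E → ℕ → ℤ := fun e j => φ (ends e).1 + (j : ℤ) * (- y e) -
    ∑ i ∈ Finset.range j, ∑ t ∈ Finset.range i, bv l β e (t + 1) with hA
  set ψ : BlVert V E l → ℤ := fun w => match w with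
    | Sum.inl v => φ v
    | Sum.inr ⟨e, j⟩ => A e (j.val + 1) with hψ
  have hav : ∀ e j, j ≤ l e → av ends l ψ e j = A e j := by
    intro e j hj
    unfold av pathVert
    by_cases h0 : j = 0
    · subst h0
      simp [hψ, hA]
    · rw [dif_neg h0]
      by_cases h1 : j < l e
      · rw [dif_pos h1]
        simp only [hψ]
        have : j - 1 + 1 = j := by omega
        rw [this]
      · rw [dif_neg h1]
        have hjl : j = l e := by omega
        subst hjl
        simp only [hψ, hA]
        have := hφ e
        simp only [hX] at this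
        linarith
  refine ⟨ψ, fun v => mdeg (blEnds ends l) (fun _ => 1) ψ (Sum.inl v) + β (Sum.inl v), ?_⟩
  rintro (v | ⟨e, ⟨j, hj⟩⟩)
  · simp
  · rw [mdeg_new]
    simp only [Sum.elim_inr]
    rw [hav e j (by omega), hav e (j + 1) (by omega), hav e (j + 2) (by omega)]
    rw [← bv_succ l β e j hj]
    simp only [hA]
    rw [Finset.sum_range_succ (fun i => ∑ t ∈ Finset.range i, bv l β e (t + 1)) (j + 1),
      Finset.sum_range_succ (fun i => ∑ t ∈ Finset.range i, bv l β e (t + 1)) j,
      Finset.sum_range_succ (fun t => bv l β e (t + 1)) j]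
    push_cast
    ring

theorem main
    (ends : E → V × V) (l : E → ℕ) (hl : ∀ e, 0 < l e) (hconn : LabGraph.Connected ends) :
    (∀ β : LabGraph.BlVert V E l → ℤ, ∃ (ψ : LabGraph.BlVert V E l → ℤ) (α : V → ℤ),
        ∀ w : LabGraph.BlVert V E l,
          LabGraph.mdeg (LabGraph.blEnds ends l) (fun _ => 1) ψ w + β w = Sum.elim α (fun _ => (0 : ℤ)) w) ↔
      LabGraph.IsCircuitCoprime ends l :=
  ⟨forward ends l hl, fun hco β => backward ends l hl hco β⟩

end Helpers

/-- Let G be a finite connected multigraph with vertex set V, edge set E, endpoint map E → V × V and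
positive integer edge labels l, let G̃ be its total blow-up graph (every edge e replaced by a path
of l(e) edges through l(e) − 1 new vertices, all labelled 1), and let ε : H → H̃ be the map from the
cokernel of the multidegree operator on Cartier vertex labellings of G to the cokernel of the
multidegree operator on vertex labellings of G̃ induced by extension by zero. Then ε is surjective —
every vertex labelling β of G̃ can be corrected by the multidegree of a vertex labelling of G̃ so as
to vanish at all new vertices — if and only if G is circuit-coprime (the labels along every circuit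
have greatest common divisor 1). (The published statement is 'ε is an isomorphism if and only if the
labelled graph is circuit-coprime'; injectivity of ε holds for every labelled graph, so the content
is the equivalence for surjectivity, stated here with the cokernels unpacked.) -/
theorem result
    {V E : Type u} [Fintype V] [Fintype E] [DecidableEq V] [DecidableEq E]
    (ends : E → V × V) (l : E → ℕ) (hl : ∀ e, 0 < l e) (hconn : LabGraph.Connected ends) :
    (∀ β : LabGraph.BlVert V E l → ℤ, ∃ (ψ : LabGraph.BlVert V E l → ℤ) (α : V → ℤ),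
        ∀ w : LabGraph.BlVert V E l,
          LabGraph.mdeg (LabGraph.blEnds ends l) (fun _ => 1) ψ w + β w = Sum.elim α (fun _ => (0 : ℤ)) w) ↔
      LabGraph.IsCircuitCoprime ends l := by
  exact main ends l hl hconn

end Groth.Agent.S13760
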