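import Groth.Statements.S1377
import Mathlib
-- import your own Groth.Agent.* helpers here

set_option autoImplicit false
universe u
open FlatMor

namespace Groth.Agent.S1377

open AlgebraicGeometry CategoryTheory Limits


/-- the reduced closed complement of `U` -/
theorem exists_closed_complement {S : Scheme.{u}} (U : S.Opens) :
    ∃ (Z : Scheme.{u}) (z : Z ⟶ S), IsClosedImmersion z ∧ Set.range z = (U : Set S)ᶜ := by
  refine ⟨_, (Scheme.IdealSheafData.vanishingIdeal (X := S)
    ⟨(U : Set S)ᶜ, U.2.isClosed_compl⟩).subschemeι, inferInstance, ?_⟩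
  rw [Scheme.IdealSheafData.range_subschemeι, Scheme.IdealSheafData.coe_support_vanishingIdeal]
  simp

/-- key: normalization of `g` pulled back along an open immersion `j`, when the pullback of `g`
along `j` is integral. -/
theorem isPullback_normalization {W S U V : Scheme.{u}} (g : W ⟶ S) [QuasiCompact g]
    [QuasiSeparated g] (j : U ⟶ S) [IsOpenImmersion j] (a : V ⟶ W) (v : V ⟶ U)
    [IsIntegralHom v] (h : IsPullback a v g j) :
    IsPullback (a ≫ g.toNormalization) v g.fromNormalization j := by
  -- e₁ : V ≅ pullback g j
  let e₁ : V ≅ pullback g j := h.isoPullback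
  have he₁fst : e₁.hom ≫ pullback.fst g j = a := h.isoPullback_hom_fst
  have he₁snd : e₁.hom ≫ pullback.snd g j = v := h.isoPullback_hom_snd
  have hint : IsIntegralHom (pullback.snd g j) := by
    have : pullback.snd g j = e₁.inv ≫ v := by rw [← he₁snd]; simp
    rw [this]; infer_instance
  have : Smooth j := inferInstance
  let φ := g.normalizationPullback j
  have hφ : IsIso φ := inferInstance
  let t := (pullback.snd g j).toNormalization
  have ht : IsIso t := inferInstance
  let e : V ≅ pullback g.fromNormalization j := e₁ ≪≫ asIso t ≪≫ asIso φ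
  refine IsPullback.of_iso_pullback ⟨?_⟩ e ?_ ?_
  · rw [Category.assoc, Scheme.Hom.toNormalization_fromNormalization, h.w]
  · simp only [e, Iso.trans_hom, asIso_hom, Category.assoc, t, φ]
    rw [Scheme.Hom.toNormalization_normalizationPullback_fst, ← Category.assoc, he₁fst]
  · simp only [e, Iso.trans_hom, asIso_hom, Category.assoc, t, φ]
    rw [Scheme.Hom.normalizationPullback_snd, Scheme.Hom.toNormalization_fromNormalization, he₁snd]



theorem isPullback_id_of_mono {V U S : Scheme.{u}} (v : V ⟶ U) (j : U ⟶ S) [Mono j] :
    IsPullback (𝟙 V) v (v ≫ j) j := by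
  have h1 : IsPullback (𝟙 V) v v (𝟙 U) := IsPullback.of_horiz_isIso ⟨by simp⟩
  have h2 : IsPullback (𝟙 U) (𝟙 U) j j := IsKernelPair.id_of_mono j
  simpa using h1.paste_vert h2


open AlgebraicGeometry CategoryTheory Limits in
/-- Let S be a scheme, U ⊆ S an open subscheme whose inclusion U → S is quasi-compact (U retrocompact in
S), and V → U a surjective integral morphism. Then there are a scheme V' and a surjective integral
morphism V' → S whose base change to U is V → U. (The published statement puts no condition on U,
and in that generality it is false: e.g. S = Spec ∏_i ℤ/4^i with U = D(2) ∪ ⋃_i D(e_i), e_i the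
idempotents, and V equal to U except that over D(2) it is cut out by x = (2^i)_i. Stated here with U
→ S quasi-compact, under which hypothesis the published argument applies.) -/
theorem result {S V : Scheme.{u}} (U : S.Opens) [QuasiCompact U.ι]
    (v : V ⟶ (U : Scheme.{u})) [IsIntegralHom v] [Surjective v] :
    ∃ (V' : Scheme.{u}) (π : V' ⟶ S) (i : V ⟶ V'), Surjective π ∧ IsIntegralHom π ∧ IsPullback i v π U.ι := by
  obtain ⟨Z, z, hz, hrange⟩ := exists_closed_complement U
  have hpb0 := isPullback_id_of_mono v U.ι
  have hA := isPullback_normalization (v ≫ U.ι) U.ι (𝟙 V) v hpb0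
  rw [Category.id_comp] at hA
  set p := (v ≫ U.ι).fromNormalization with hp
  set t := (v ≫ U.ι).toNormalization with ht
  have htopen : IsOpenImmersion t := MorphismProperty.of_isPullback hA.flip inferInstance
  have hrt : Set.range t = p ⁻¹' (U : Set S) := by
    have h1 : t = hA.isoPullback.hom ≫ pullback.fst p U.ι := hA.isoPullback_hom_fst.symm
    rw [h1, Scheme.Hom.comp_base, TopCat.coe_comp, Set.range_comp,
      Set.range_eq_univ.mpr hA.isoPullback.hom.surjective, Set.image_univ,
      Scheme.Pullback.range_fst]
    simp
  refine ⟨_ ⨿ Z, coprod.desc p z, t ≫ coprod.inl, ?_, inferInstance, ?_⟩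
  · constructor
    intro s
    by_cases hs : s ∈ (U : Set S)
    · obtain ⟨x, hx⟩ := v.surjective ⟨s, hs⟩
      refine ⟨(t ≫ coprod.inl) x, ?_⟩
      rw [← Scheme.Hom.comp_apply, Category.assoc, coprod.inl_desc, hA.w, Scheme.Hom.comp_apply, hx]
      rfl
    · have : s ∈ Set.range z := by rw [hrange]; exact hs
      obtain ⟨y, rfl⟩ := this
      refine ⟨(coprod.inr : Z ⟶ _ ⨿ Z) y, ?_⟩
      rw [← Scheme.Hom.comp_apply, coprod.inr_desc]
  · refine (IsOpenImmersion.isPullback v (t ≫ coprod.inl) U.ι (coprod.desc p z) ?_ ?_).flip
    · rw [Category.assoc, coprod.inl_desc, hA.w]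
    · apply TopologicalSpace.Opens.ext
      ext x
      change (coprod.desc p z) x ∈ Set.range U.ι ↔ x ∈ Set.range (t ≫ coprod.inl)
      rw [Scheme.Opens.range_ι]
      obtain ⟨(n | y), rfl⟩ := (coprodMk _ Z).surjective x
      · rw [coprodMk_inl, ← Scheme.Hom.comp_apply, coprod.inl_desc, Scheme.Hom.comp_base,
          TopCat.coe_comp, Set.range_comp]
        constructor
        · intro hn
          have : n ∈ Set.range t := by rw [hrt]; exact hn
          exact ⟨n, this, rfl⟩
        · rintro ⟨n', hn', hnn'⟩
          have hinj : Function.Injective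
              (coprod.inl : (v ≫ U.ι).normalization ⟶ (v ≫ U.ι).normalization ⨿ Z) :=
            (Scheme.Hom.isOpenEmbedding _).injective
          have := hinj hnn'
          subst this
          rw [hrt] at hn'
          exact hn'
      · rw [coprodMk_inr, ← Scheme.Hom.comp_apply, coprod.inr_desc]
        constructor
        · intro hy
          have : z y ∈ (U : Set S)ᶜ := by rw [← hrange]; exact ⟨y, rfl⟩
          exact absurd hy this
        · rintro ⟨n, hn⟩
          rw [Scheme.Hom.comp_apply] at hn
          exact absurd hn (inl_ne_inr _ _ _ _)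

end Groth.Agent.S1377
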