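import Groth.Statements.S13771
import Mathlib

set_option autoImplicit false
universe u v w
open PLie

namespace Groth.Agent.S13771

section
variable {R : Type u} [CommRing R] {p : ℕ} [CharP R p]
  {L : Type v} [LieRing L] [LieAlgebra R L] {L' : Type w} [LieRing L'] [LieAlgebra R L']

theorem map_bracketWord (g : L →ₗ⁅R⁆ L') {ι : Type} (x : ι → L) (x₁ : L) (l : List ι) :
    g (PLie.bracketWord x x₁ l) = PLie.bracketWord (fun i => g (x i)) (g x₁) l := by
  induction l with
  | nil => rfl
  | cons i l ih => rw [PLie.bracketWord_cons, PLie.bracketWord_cons, LieHom.map_lie, ih]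

theorem map_pair (g : L →ₗ⁅R⁆ L') (x₀ x₁ : L) :
    (fun b => g (PLie.pair x₀ x₁ b)) = PLie.pair (g x₀) (g x₁) := by
  funext b
  cases b <;> rfl

theorem map_jacobson (g : L →ₗ⁅R⁆ L') (x₀ x₁ : L) :
    g (PLie.jacobson R p x₀ x₁) = PLie.jacobson R p (g x₀) (g x₁) := by
  unfold PLie.jacobson
  rw [map_sum]
  refine Finset.sum_congr rfl fun t _ => ?_
  rw [map_smul, map_bracketWord, map_pair]

theorem bracketWord_zero {ι : Type} (x : ι → L) (l : List ι) :
    PLie.bracketWord x (0 : L) l = 0 := by
  induction l with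
  | nil => rfl
  | cons i l ih => rw [PLie.bracketWord_cons, ih, lie_zero]

theorem jacobson_zero_right (x₀ : L) : PLie.jacobson R p x₀ (0 : L) = 0 := by
  unfold PLie.jacobson
  refine Finset.sum_eq_zero fun t _ => ?_
  rw [bracketWord_zero, smul_zero]

theorem map_ad_pow (g : L →ₗ⁅R⁆ L') (x : L) (n : ℕ) (y : L) :
    g ((LieAlgebra.ad R L x ^ n) y) = (LieAlgebra.ad R L' (g x) ^ n) (g y) := by
  induction n generalizing y with
  | zero => simp
  | succ n ih =>
    rw [pow_succ', pow_succ', Module.End.mul_apply, Module.End.mul_apply, LieAlgebra.ad_apply,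
      LieAlgebra.ad_apply, LieHom.map_lie, ih]

end

/-- Let R be a commutative ring of prime characteristic p, L₁ and L₂ Lie algebras over R, φ a p-mapping
on L₁ and f : L₁ → L₂ a morphism of Lie algebras whose kernel is stable under φ (a p-ideal). Then
the image f(L₁), a Lie subalgebra of L₂, carries exactly one p-mapping ψ for which the corestriction
of f to its image is a morphism of p-Lie algebras, i.e. ψ (f x) = f (φ x) for all x. -/
theorem result (R : Type u) [CommRing R] (p : ℕ) [Fact p.Prime] [CharP R p]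
    (L₁ : Type v) [LieRing L₁] [LieAlgebra R L₁] (L₂ : Type w) [LieRing L₂] [LieAlgebra R L₂]
    (φ : PLie.PMap R p L₁) (f : L₁ →ₗ⁅R⁆ L₂) (hker : ∀ x : L₁, f x = 0 → f (φ x) = 0) :
    ∃! ψ : PLie.PMap R p f.range, PLie.IsPHom φ ψ f.rangeRestrict := by
  set g := f.rangeRestrict with hg
  have hgsurj : Function.Surjective g := f.surjective_rangeRestrict
  have hg0 : ∀ x : L₁, g x = 0 ↔ f x = 0 := by
    intro x
    rw [Subtype.ext_iff]
    rfl
  have hkerg : ∀ x : L₁, g x = 0 → g (φ x) = 0 := fun x hx => (hg0 _).mpr (hker x ((hg0 x).mp hx))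
  -- well-definedness
  have W : ∀ x x' : L₁, g x = g x' → g (φ x) = g (φ x') := by
    intro x x' hxx'
    have hk : g (x' - x) = 0 := by rw [map_sub, hxx', sub_self]
    have e : x' = x + (x' - x) := by abel
    rw [e, φ.map_add, map_sub, map_add, hkerg _ hk, map_jacobson, hk, jacobson_zero_right]
    simp
  choose pre hpre using hgsurj
  have P : ∀ x : L₁, g (φ (pre (g x))) = g (φ x) := fun x => W _ _ (hpre (g x))
  let ψ : PLie.PMap R p f.range :=
    { toFun := fun y => g (φ (pre y))
      map_smul := by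
        intro c y
        show g (φ (pre (c • y))) = c ^ p • g (φ (pre y))
        have h1 : g (pre (c • y)) = g (c • pre y) := by rw [hpre, map_smul, hpre]
        rw [W _ _ h1, φ.map_smul, map_smul]
      ad_map := by
        intro y
        show LieAlgebra.ad R f.range (g (φ (pre y))) = LieAlgebra.ad R f.range y ^ p
        ext z
        obtain ⟨x', rfl⟩ : ∃ x', g x' = z := ⟨pre z, hpre z⟩
        have hy : g (pre y) = y := hpre y
        rw [LieAlgebra.ad_apply, ← LieHom.map_lie]
        have h1 : ⁅φ (pre y), x'⁆ = (LieAlgebra.ad R L₁ (pre y) ^ p) x' := by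
          rw [← φ.ad_map, LieAlgebra.ad_apply]
        rw [h1, map_ad_pow, hy]
      map_add := by
        intro y₀ y₁
        show g (φ (pre (y₀ + y₁))) = g (φ (pre y₀)) + g (φ (pre y₁)) - PLie.jacobson R p y₀ y₁
        have h1 : g (pre (y₀ + y₁)) = g (pre y₀ + pre y₁) := by rw [hpre, map_add, hpre, hpre]
        rw [W _ _ h1, φ.map_add, map_sub, map_add, map_jacobson, hpre, hpre] }
  refine ⟨ψ, fun x => ?_, fun ψ' hψ' => ?_⟩
  · show g (φ x) = g (φ (pre (g x)))
    exact (P x).symm
  · have : ψ'.toFun = ψ.toFun := by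
      funext y
      obtain ⟨x, rfl⟩ : ∃ x, g x = y := ⟨pre y, hpre y⟩
      show ψ' (g x) = g (φ (pre (g x)))
      rw [P x]
      exact (hψ' x).symm
    cases ψ'
    simp only at this
    subst this
    rfl

end Groth.Agent.S13771
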