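import Groth.Statements.S13772
import Mathlib

set_option autoImplicit false
universe u v
open PLie

namespace Groth.Agent.S13772

/-- Let R be a commutative ring of prime characteristic p and L a Lie algebra over R with a p-mapping γ.
For a map g : L → L, there is a p-mapping γ' on L with γ' x = γ x + g x for every x if and only if g
is additive, g (c • x) = c ^ p • g x for all scalars c, and every value g x lies in the centre of L.
(Both parts of the published statement at once: the difference of two p-mappings is a
Frobenius-semilinear map into the centre, and adding such a map to a p-mapping gives a p-mapping.) -/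
theorem result (R : Type u) [CommRing R] (p : ℕ) [Fact p.Prime] [CharP R p]
    (L : Type v) [LieRing L] [LieAlgebra R L] (γ : PLie.PMap R p L) (g : L → L) :
    (∃ γ' : PLie.PMap R p L, ∀ x : L, γ' x = γ x + g x) ↔
      ((∀ x y : L, g (x + y) = g x + g y) ∧ (∀ (c : R) (x : L), g (c • x) = c ^ p • g x) ∧
        ∀ x : L, g x ∈ LieAlgebra.center R L) := by
  constructor
  · rintro ⟨γ', hγ'⟩
    have hg : ∀ x, g x = γ' x - γ x := fun x => by rw [hγ' x]; abel
    refine ⟨fun x y => ?_, fun c x => ?_, fun x => ?_⟩
    · rw [hg, hg, hg, γ'.map_add, γ.map_add]; abel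
    · rw [hg, hg, γ'.map_smul, γ.map_smul, smul_sub]
    · rw [LieAlgebra.center, LieModule.mem_maxTrivSubmodule]
      intro y
      have h1 : LieAlgebra.ad R L (γ' x) = LieAlgebra.ad R L (γ x) := by
        rw [γ'.ad_map, γ.ad_map]
      have h2 := congrArg (fun F : Module.End R L => F y) h1
      simp only [LieAlgebra.ad_apply] at h2
      rw [hg, lie_sub, ← lie_skew y (γ' x), ← lie_skew y (γ x), h2]
      simp
  · rintro ⟨hadd, hsmul, hcen⟩
    refine ⟨⟨fun x => γ x + g x, fun c x => ?_, fun x => ?_, fun x₀ x₁ => ?_⟩, fun x => rfl⟩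
    · show γ (c • x) + g (c • x) = c ^ p • (γ x + g x)
      rw [γ.map_smul, hsmul, smul_add]
    · show LieAlgebra.ad R L (γ x + g x) = LieAlgebra.ad R L x ^ p
      have h0 : LieAlgebra.ad R L (g x) = 0 := by
        ext y
        have := hcen x
        rw [LieAlgebra.center, LieModule.mem_maxTrivSubmodule] at this
        rw [LieAlgebra.ad_apply, ← lie_skew (g x) y, this y]
        simp
      rw [map_add, h0, add_zero, γ.ad_map]
    · show γ (x₀ + x₁) + g (x₀ + x₁) = γ x₀ + g x₀ + (γ x₁ + g x₁) - PLie.jacobson R p x₀ x₁
      rw [γ.map_add, hadd]; abel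

end Groth.Agent.S13772
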