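import Groth.Statements.S13776
import Groth.Agent.Lib.helper1.PLie3

set_option autoImplicit false
universe u v
open PLie

namespace Groth.Agent.S13776

/-- Let R be a commutative ring of prime characteristic p, t ∈ R, and L a Lie algebra over R, free as a
module with basis x = bs 0, y = bs 1, z = bs 2 and brackets [x,y] = y, [x,z] = t • z, [y,z] = 0.
Then L carries a p-mapping if and only if t ^ p = t. (The published statement is the corresponding
entry of the classification table over an algebraically closed field of characteristic p, where the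
condition reads: t lies in the prime field; this row states it over every commutative ring of
characteristic p.) -/
theorem result (R : Type u) [CommRing R] (p : ℕ) [Fact p.Prime] [CharP R p] (t : R)
    (L : Type v) [LieRing L] [LieAlgebra R L] (bs : Module.Basis (Fin 3) R L)
    (hxy : ⁅bs 0, bs 1⁆ = bs 1) (hxz : ⁅bs 0, bs 2⁆ = t • bs 2) (hyz : ⁅bs 1, bs 2⁆ = 0) :
    Nonempty (PLie.PMap R p L) ↔ t ^ p = t := by
  have hpr := (Fact.out : p.Prime)
  have hpos := hpr.pos
  have h2 := hpr.two_le
  -- brackets on the basis
  have hyx : ⁅bs 1, bs 0⁆ = -bs 1 := by rw [← lie_skew, hxy]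
  have hzx : ⁅bs 2, bs 0⁆ = -(t • bs 2) := by rw [← lie_skew, hxz]
  have hzy : ⁅bs 2, bs 1⁆ = 0 := by rw [← lie_skew, hyz, neg_zero]
  constructor
  · rintro ⟨φ⟩
    have had := φ.ad_map (bs 0)
    -- powers of ad x
    have hpowz : ∀ n : ℕ, (LieAlgebra.ad R L (bs 0) ^ n) (bs 2) = t ^ n • bs 2 := by
      intro n
      induction n with
      | zero => simp
      | succ n ih =>
        rw [pow_succ', Module.End.mul_apply, ih, LieAlgebra.ad_apply, lie_smul, hxz, smul_smul,
          pow_succ]
    have hpowy : ∀ n : ℕ, (LieAlgebra.ad R L (bs 0) ^ n) (bs 1) = bs 1 := by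
      intro n
      induction n with
      | zero => simp
      | succ n ih =>
        rw [pow_succ', Module.End.mul_apply, ih, LieAlgebra.ad_apply, hxy]
    have hrep : φ.toFun (bs 0) = bs.repr (φ.toFun (bs 0)) 0 • bs 0
        + bs.repr (φ.toFun (bs 0)) 1 • bs 1 + bs.repr (φ.toFun (bs 0)) 2 • bs 2 := by
      conv_lhs => rw [← bs.sum_repr (φ.toFun (bs 0))]
      rw [Fin.sum_univ_three]
    set α := bs.repr (φ.toFun (bs 0)) 0
    set β := bs.repr (φ.toFun (bs 0)) 1
    set γ := bs.repr (φ.toFun (bs 0)) 2
    have e1 : ⁅φ.toFun (bs 0), bs 1⁆ = bs 1 := by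
      have := congrArg (fun T : Module.End R L => T (bs 1)) had
      simp only [LieAlgebra.ad_apply] at this
      rw [this, hpowy]
    have e2 : ⁅φ.toFun (bs 0), bs 2⁆ = t ^ p • bs 2 := by
      have := congrArg (fun T : Module.End R L => T (bs 2)) had
      simp only [LieAlgebra.ad_apply] at this
      rw [this, hpowz]
    rw [hrep] at e1 e2
    simp only [add_lie, smul_lie, hxy, hxz, hyz, hzy, lie_self, smul_zero, add_zero] at e1 e2
    have hα : α = 1 := by
      have := congrArg (fun w => bs.repr w 1) e1
      simpa using this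
    rw [hα, one_smul] at e2
    have := congrArg (fun w => bs.repr w 2) e2
    simpa using this.symm
  · intro ht
    have hsq : ∀ u : L, LieAlgebra.ad R L u * LieAlgebra.ad R L u = 0 →
        LieAlgebra.ad R L u ^ p = LieAlgebra.ad R L 0 := by
      intro u hu
      have hp2 : p = 2 + (p - 2) := by omega
      rw [hp2, pow_add, pow_two, hu, zero_mul, map_zero]
    have hy : ∀ i : Fin 3, LieAlgebra.ad R L (bs i) ^ p
        = LieAlgebra.ad R L ((![bs 0, 0, 0] : Fin 3 → L) i) := by
      intro i
      fin_cases i
      · -- ad x ^ p = ad x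
        show LieAlgebra.ad R L (bs 0) ^ p = LieAlgebra.ad R L (bs 0)
        have hpowz : ∀ n : ℕ, (LieAlgebra.ad R L (bs 0) ^ n) (bs 2) = t ^ n • bs 2 := by
          intro n
          induction n with
          | zero => simp
          | succ n ih =>
            rw [pow_succ', Module.End.mul_apply, ih, LieAlgebra.ad_apply, lie_smul, hxz, smul_smul,
              pow_succ]
        have hpowy : ∀ n : ℕ, (LieAlgebra.ad R L (bs 0) ^ n) (bs 1) = bs 1 := by
          intro n
          induction n with
          | zero => simp
          | succ n ih =>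
            rw [pow_succ', Module.End.mul_apply, ih, LieAlgebra.ad_apply, hxy]
        have hpowx : ∀ n : ℕ, (LieAlgebra.ad R L (bs 0) ^ (n + 1)) (bs 0) = 0 := by
          intro n
          rw [pow_succ, Module.End.mul_apply, LieAlgebra.ad_apply, lie_self, map_zero]
        apply bs.ext
        intro k
        fin_cases k
        · show (LieAlgebra.ad R L (bs 0) ^ p) (bs 0) = (LieAlgebra.ad R L (bs 0)) (bs 0)
          have hp1 : p = (p - 1) + 1 := by omega
          rw [hp1, hpowx, LieAlgebra.ad_apply, lie_self]
        · show (LieAlgebra.ad R L (bs 0) ^ p) (bs 1) = (LieAlgebra.ad R L (bs 0)) (bs 1)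
          rw [hpowy, LieAlgebra.ad_apply, hxy]
        · show (LieAlgebra.ad R L (bs 0) ^ p) (bs 2) = (LieAlgebra.ad R L (bs 0)) (bs 2)
          rw [hpowz, LieAlgebra.ad_apply, hxz, ht]
      · show LieAlgebra.ad R L (bs 1) ^ p = LieAlgebra.ad R L 0
        apply hsq
        apply bs.ext
        intro k
        fin_cases k
        · show (LieAlgebra.ad R L (bs 1) * LieAlgebra.ad R L (bs 1)) (bs 0) = (0 : Module.End R L) (bs 0)
          rw [Module.End.mul_apply, LieAlgebra.ad_apply, LieAlgebra.ad_apply, hyx, lie_neg, lie_self]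
          simp
        · show (LieAlgebra.ad R L (bs 1) * LieAlgebra.ad R L (bs 1)) (bs 1) = (0 : Module.End R L) (bs 1)
          rw [Module.End.mul_apply, LieAlgebra.ad_apply, LieAlgebra.ad_apply, lie_self, lie_zero]
          simp
        · show (LieAlgebra.ad R L (bs 1) * LieAlgebra.ad R L (bs 1)) (bs 2) = (0 : Module.End R L) (bs 2)
          rw [Module.End.mul_apply, LieAlgebra.ad_apply, LieAlgebra.ad_apply, hyz, lie_zero]
          simp
      · show LieAlgebra.ad R L (bs 2) ^ p = LieAlgebra.ad R L 0
        apply hsq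
        apply bs.ext
        intro k
        fin_cases k
        · show (LieAlgebra.ad R L (bs 2) * LieAlgebra.ad R L (bs 2)) (bs 0) = (0 : Module.End R L) (bs 0)
          rw [Module.End.mul_apply, LieAlgebra.ad_apply, LieAlgebra.ad_apply, hzx, lie_neg, lie_smul,
            lie_self]
          simp
        · show (LieAlgebra.ad R L (bs 2) * LieAlgebra.ad R L (bs 2)) (bs 1) = (0 : Module.End R L) (bs 1)
          rw [Module.End.mul_apply, LieAlgebra.ad_apply, LieAlgebra.ad_apply, hzy, lie_zero]
          simp
        · show (LieAlgebra.ad R L (bs 2) * LieAlgebra.ad R L (bs 2)) (bs 2) = (0 : Module.End R L) (bs 2)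
          rw [Module.End.mul_apply, LieAlgebra.ad_apply, LieAlgebra.ad_apply, lie_self, lie_zero]
          simp
    obtain ⟨φ, _⟩ := Groth.Agent.Lib.helper1.PLieLib.exists_pmap p bs _ hy
    exact ⟨φ⟩

end Groth.Agent.S13776
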