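import Groth.Statements.S13777
import Mathlib

set_option autoImplicit false
universe u v
open PLie

namespace Groth.Agent.S13777

/-- Let R be a commutative ring of characteristic 2 and L a Lie algebra over R, free as a module with
basis x = bs 0, y = bs 1, z = bs 2 and brackets [x,y] = z, [x,z] = −x, [y,z] = y. Then L carries no
2-mapping. (The published statement is the corresponding entry of the classification table over an
algebraically closed field of characteristic 2; this row states it over every commutative ring of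
characteristic 2.) -/
theorem result (R : Type u) [CommRing R] [CharP R 2]
    (L : Type v) [LieRing L] [LieAlgebra R L] (bs : Module.Basis (Fin 3) R L)
    (hxy : ⁅bs 0, bs 1⁆ = bs 2) (hxz : ⁅bs 0, bs 2⁆ = -bs 0) (hyz : ⁅bs 1, bs 2⁆ = bs 1) :
    IsEmpty (PLie.PMap R 2 L) := by
  refine ⟨fun φ => ?_⟩
  have : Nontrivial R := CharP.nontrivial_of_char_ne_one (R := R) (v := 2) (by norm_num)
  set w := φ (bs 0) with hw
  have h1 : ⁅w, bs 1⁆ = -bs 0 := by
    have := congrArg (fun F : Module.End R L => F (bs 1)) (φ.ad_map (bs 0))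
    simp only [LieAlgebra.ad_apply] at this
    rw [hw, this, pow_two, Module.End.mul_apply, LieAlgebra.ad_apply, LieAlgebra.ad_apply, hxy, hxz]
  have hyx : ⁅bs 1, bs 1⁆ = 0 := lie_self _
  have hzy : ⁅bs 2, bs 1⁆ = -bs 1 := by rw [← lie_skew, hyz]
  have h2 : ⁅w, bs 1⁆ = bs.repr w 0 • bs 2 - bs.repr w 2 • bs 1 := by
    conv_lhs => rw [← bs.sum_repr w]
    rw [Fin.sum_univ_three, add_lie, add_lie, smul_lie, smul_lie, smul_lie, hxy, hyx, hzy]
    simp [sub_eq_add_neg]
  rw [h2] at h1
  have e0 := congrArg (fun v => bs.repr v 0) h1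
  simp at e0

end Groth.Agent.S13777
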