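import Groth.Statements.S13778
import Groth.Agent.Lib.helper1.PLie3
import Groth.Agent.Lib.lead.Restore.H1DN3

set_option autoImplicit false
universe u v
open PLie

namespace Groth.Agent.S13778

section Helpers
open DualNumber Groth.Agent.Lib.helper1.DN3

theorem fstT (K : Type u) [Field K] (t : K) :
    TrivSqZeroExt.fst (algebraMap K (DualNumber K) t) = t := by
  simp [TrivSqZeroExt.algebraMap_eq_inl]

theorem sndT (K : Type u) [Field K] (t : K) :
    TrivSqZeroExt.snd (algebraMap K (DualNumber K) t) = 0 := by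
  simp [TrivSqZeroExt.algebraMap_eq_inl]

/-- geometric sum -/
def sg {K : Type u} [Field K] (t : K) (n : ℕ) : K := ∑ j ∈ Finset.range n, t ^ j

theorem sg_succ {K : Type u} [Field K] (t : K) (n : ℕ) : sg t (n + 1) = sg t n + t ^ n := by
  unfold sg; rw [Finset.sum_range_succ]

theorem sg_succ' {K : Type u} [Field K] (t : K) (n : ℕ) : sg t (n + 1) = 1 + t * sg t n := by
  unfold sg
  rw [Finset.sum_range_succ', Finset.mul_sum, add_comm]
  congr 1
  · simp
  · apply Finset.sum_congr rfl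
    intro j _
    rw [pow_succ']

theorem sg_mul {K : Type u} [Field K] (t : K) (n : ℕ) : sg t n * (t - 1) = t ^ n - 1 := by
  unfold sg; exact geom_sum_mul t n

section
variable (K : Type u) [Field K] (t a b c d e f g h i : K)
  (L : Type v) [LieRing L] [LieAlgebra (DualNumber K) L] (bs : Module.Basis (Fin 3) (DualNumber K) L)
  (hxy : ⁅bs 0, bs 1⁆ = (a • ε : DualNumber K) • bs 0 + (1 + b • ε : DualNumber K) • bs 1 + (c • ε : DualNumber K) • bs 2)
  (hxz : ⁅bs 0, bs 2⁆ = (d • ε : DualNumber K) • bs 0 + (e • ε : DualNumber K) • bs 1 +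
      (algebraMap K (DualNumber K) t + f • ε) • bs 2)
  (hyz : ⁅bs 1, bs 2⁆ = (g • ε : DualNumber K) • bs 0 + (h • ε : DualNumber K) • bs 1 + (i • ε : DualNumber K) • bs 2)

include hxy hxz hyz

theorem jacobi_rel : (t + 1) * g = 0 ∧ d = t * h ∧ i = - (a * t) := by
  have hl := lie_vec bs hxy hxz hyz
  have hJ := lie_jacobi (bs 0) (bs 1) (bs 2)
  have hzx : ⁅bs 2, bs 0⁆ = - ⁅bs 0, bs 2⁆ := (lie_skew _ _).symm
  rw [hzx, hyz, hxz, hxy] at hJ
  change ⁅bs 0, vec bs _ _ _⁆ + ⁅bs 1, - vec bs _ _ _⁆ + ⁅bs 2, vec bs _ _ _⁆ = 0 at hJ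
  rw [vec_neg] at hJ
  conv at hJ =>
    lhs
    rw [bs0 bs, bs1 bs, bs2 bs]
  rw [hl, hl, hl, vec_add, vec_add, ← vec_zero bs, vec_inj] at hJ
  obtain ⟨h0, h1, h2⟩ := hJ
  have h0' := congrArg TrivSqZeroExt.snd h0
  have h1' := congrArg TrivSqZeroExt.snd h1
  have h2' := congrArg TrivSqZeroExt.snd h2
  simp [fstT, sndT] at h0' h1' h2'
  exact ⟨by linear_combination -h0', by linear_combination h1', by linear_combination -h2'⟩

theorem adx (d₀ d₁ d₂ : DualNumber K) :
    ⁅bs 0, vec bs d₀ d₁ d₂⁆ = vec bs (d₁ * a • ε + d₂ * d • ε) (d₁ * (1 + b • ε) + d₂ * e • ε)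
      (d₁ * c • ε + d₂ * (algebraMap K (DualNumber K) t + f • ε)) := by
  have hl := lie_vec bs hxy hxz hyz
  conv_lhs => rw [bs0 bs]
  rw [hl, vec_inj]
  exact ⟨by ring, by ring, by ring⟩

theorem ady (d₀ d₁ d₂ : DualNumber K) :
    ⁅bs 1, vec bs d₀ d₁ d₂⁆ = vec bs (-d₀ * a • ε + d₂ * g • ε) (-d₀ * (1 + b • ε) + d₂ * h • ε)
      (-d₀ * c • ε + d₂ * i • ε) := by
  have hl := lie_vec bs hxy hxz hyz
  conv_lhs => rw [bs1 bs]
  rw [hl, vec_inj]
  exact ⟨by ring, by ring, by ring⟩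

theorem adz (d₀ d₁ d₂ : DualNumber K) :
    ⁅bs 2, vec bs d₀ d₁ d₂⁆ = vec bs (-d₀ * d • ε - d₁ * g • ε) (-d₀ * e • ε - d₁ * h • ε)
      (-d₀ * (algebraMap K (DualNumber K) t + f • ε) - d₁ * i • ε) := by
  have hl := lie_vec bs hxy hxz hyz
  conv_lhs => rw [bs2 bs]
  rw [hl, vec_inj]
  exact ⟨by ring, by ring, by ring⟩

theorem adx_pow_x (n : ℕ) : (LieAlgebra.ad (DualNumber K) L (bs 0) ^ (n + 1)) (bs 0) = 0 := by
  rw [pow_succ, Module.End.mul_apply, LieAlgebra.ad_apply, lie_self, map_zero]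

theorem adx_pow_y (n : ℕ) : (LieAlgebra.ad (DualNumber K) L (bs 0) ^ (n + 1)) (bs 1)
    = vec bs (a • ε) (1 + ((n : DualNumber K) + 1) * b • ε) ((c * sg t (n + 1)) • ε) := by
  induction n with
  | zero =>
    rw [zero_add, pow_one, LieAlgebra.ad_apply, hxy]
    show vec bs _ _ _ = _
    rw [vec_inj]
    refine ⟨rfl, ?_, ?_⟩
    · simp
    · simp [sg]
  | succ n ih =>
    rw [pow_succ', Module.End.mul_apply, ih, LieAlgebra.ad_apply, adx K t a b c d e f g h i L bs hxy hxz hyz,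
      vec_inj]
    refine ⟨?_, ?_, ?_⟩
    · apply TrivSqZeroExt.ext <;> simp [fstT, sndT]
    · apply TrivSqZeroExt.ext <;> simp [fstT, sndT]
      ring
    · apply TrivSqZeroExt.ext <;> simp [fstT, sndT]
      rw [sg_succ' t (n + 1)]
      ring

theorem adx_pow_z (n : ℕ) : (LieAlgebra.ad (DualNumber K) L (bs 0) ^ (n + 1)) (bs 2)
    = vec bs ((t ^ n * d) • ε) ((sg t (n + 1) * e) • ε)
        ((algebraMap K (DualNumber K) t) ^ (n + 1)
          + ((n : DualNumber K) + 1) * (algebraMap K (DualNumber K) t) ^ n * f • ε) := by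
  induction n with
  | zero =>
    rw [zero_add, pow_one, LieAlgebra.ad_apply, hxz]
    show vec bs _ _ _ = _
    rw [vec_inj]
    refine ⟨?_, ?_, ?_⟩
    · simp
    · simp [sg]
    · simp
  | succ n ih =>
    rw [pow_succ', Module.End.mul_apply, ih, LieAlgebra.ad_apply, adx K t a b c d e f g h i L bs hxy hxz hyz,
      vec_inj]
    refine ⟨?_, ?_, ?_⟩
    · apply TrivSqZeroExt.ext <;> simp [fstT, sndT]
      ring
    · apply TrivSqZeroExt.ext <;> simp [fstT, sndT]
      rw [sg_succ t (n + 1)]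
      ring
    · apply TrivSqZeroExt.ext <;> simp [fstT, sndT]
      · ring
      · ring


variable (p : ℕ) [hp : Fact p.Prime] [CharP K p] [CharP (DualNumber K) p]

omit hxy hxz hyz in
theorem sg_one_p : sg (1 : K) p = 0 := by
  unfold sg
  simp [CharP.cast_eq_zero K p]

omit hxy hxz hyz in
theorem natCast_p_S : ((p : ℕ) : DualNumber K) = 0 := CharP.cast_eq_zero _ p

theorem xp_y : (LieAlgebra.ad (DualNumber K) L (bs 0) ^ p) (bs 1)
    = vec bs (a • ε) 1 ((c * sg t p) • ε) := by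
  have hpos := hp.out.pos
  obtain ⟨n, hn⟩ : ∃ n, p = n + 1 := ⟨p - 1, by omega⟩
  have h0 : ((n : DualNumber K) + 1) = 0 := by
    have := natCast_p_S K p
    rw [hn] at this
    exact_mod_cast this
  rw [hn, adx_pow_y K t a b c d e f g h i L bs hxy hxz hyz, h0, zero_mul, add_zero]

theorem xp_z (ht : t ^ p = t) : (LieAlgebra.ad (DualNumber K) L (bs 0) ^ p) (bs 2)
    = vec bs ((t ^ (p - 1) * d) • ε) ((sg t p * e) • ε) (algebraMap K (DualNumber K) t) := by
  have hpos := hp.out.pos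
  obtain ⟨n, hn⟩ : ∃ n, p = n + 1 := ⟨p - 1, by omega⟩
  have h0 : ((n : DualNumber K) + 1) = 0 := by
    have := natCast_p_S K p
    rw [hn] at this
    exact_mod_cast this
  have hT : (algebraMap K (DualNumber K) t) ^ (n + 1) = algebraMap K (DualNumber K) t := by
    rw [← map_pow, ← hn, ht]
  rw [hn, adx_pow_z K t a b c d e f g h i L bs hxy hxz hyz, h0, zero_mul, zero_mul, add_zero, hT]
  simp

theorem forward (ht : t ^ p = t) (φ : PLie.PMap (DualNumber K) p L) :
    b * t = f ∧ (t = 1 → c = 0 ∧ e = 0) ∧ (p = 2 → g = 0) := by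
  have hl := lie_vec bs hxy hxz hyz
  obtain ⟨α, β, γ, hφx⟩ := exists_vec bs (φ.toFun (bs 0))
  have had := φ.ad_map (bs 0)
  have E0 := congrArg (fun T : Module.End (DualNumber K) L => T (bs 0)) had
  have E1 := congrArg (fun T : Module.End (DualNumber K) L => T (bs 1)) had
  have E2 := congrArg (fun T : Module.End (DualNumber K) L => T (bs 2)) had
  simp only [LieAlgebra.ad_apply] at E0 E1 E2
  have hpos := hp.out.pos
  have hp1 : p = (p - 1) + 1 := by omega
  rw [hφx, xp_y K t a b c d e f g h i L bs hxy hxz hyz p] at E1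
  rw [hφx, xp_z K t a b c d e f g h i L bs hxy hxz hyz p ht] at E2
  rw [hφx, hp1, adx_pow_x K t a b c d e f g h i L bs hxy hxz hyz, ← vec_zero bs] at E0
  conv at E0 => lhs; rw [bs0 bs]
  conv at E1 => lhs; rw [bs1 bs]
  conv at E2 => lhs; rw [bs2 bs]
  rw [hl, vec_inj] at E0 E1 E2
  obtain ⟨E00, E01, E02⟩ := E0
  obtain ⟨E10, E11, E12⟩ := E1
  obtain ⟨E20, E21, E22⟩ := E2
  have q01f := congrArg TrivSqZeroExt.fst E01
  have q01s := congrArg TrivSqZeroExt.snd E01
  have q02f := congrArg TrivSqZeroExt.fst E02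
  have q02s := congrArg TrivSqZeroExt.snd E02
  have q11f := congrArg TrivSqZeroExt.fst E11
  have q11s := congrArg TrivSqZeroExt.snd E11
  have q12s := congrArg TrivSqZeroExt.snd E12
  have q22f := congrArg TrivSqZeroExt.fst E22
  have q22s := congrArg TrivSqZeroExt.snd E22
  have q21s := congrArg TrivSqZeroExt.snd E21
  simp [fstT, sndT] at q01f q01s q02f q02s q11f q11s q12s q22f q22s q21s
  have q3 : TrivSqZeroExt.fst γ * t = 0 := by
    rcases q02f with h' | h' <;> simp [h']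
  simp only [q01f, q11f, mul_zero, add_zero, one_mul, mul_one] at q11s q12s q22s q21s
  refine ⟨?_, ?_, ?_⟩
  · linear_combination t * q11s - q22s + h * q3
  · intro ht1
    rw [ht1, mul_one] at q3
    rw [ht1, sg_one_p K p, q3] at q12s
    rw [ht1, sg_one_p K p] at q21s
    constructor
    · simpa using q12s
    · simpa using q21s
  · intro hp2
    obtain ⟨α', β', γ', hφy⟩ := exists_vec bs (φ.toFun (bs 1))
    have had' := φ.ad_map (bs 1)
    have h2 : LieAlgebra.ad (DualNumber K) L (bs 1) ^ p = LieAlgebra.ad (DualNumber K) L (bs 1) ^ 2 := by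
      rw [hp2]
    rw [h2] at had'
    have F0 := congrArg (fun T : Module.End (DualNumber K) L => T (bs 0)) had'
    have F1 := congrArg (fun T : Module.End (DualNumber K) L => T (bs 1)) had'
    have F2 := congrArg (fun T : Module.End (DualNumber K) L => T (bs 2)) had'
    simp only [LieAlgebra.ad_apply, pow_two, Module.End.mul_apply] at F0 F1 F2
    rw [hφy] at F0 F1 F2
    conv at F0 => rw [bs0 bs]
    conv at F1 => rw [bs1 bs]
    conv at F2 => rw [bs2 bs]
    rw [ady K t a b c d e f g h i L bs hxy hxz hyz, ady K t a b c d e f g h i L bs hxy hxz hyz, hl,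
      vec_inj] at F0 F2
    rw [hl, hl, hl, vec_inj] at F1
    have r0 := congrArg TrivSqZeroExt.fst F0.2.1
    have r1 := congrArg TrivSqZeroExt.fst F1.2.1
    have r2 := congrArg TrivSqZeroExt.snd F2.2.1
    simp [fstT, sndT] at r0 r1 r2
    rw [r0, r1] at r2
    linear_combination r2

omit hxy hxz hyz in
theorem sg_p_mul (ht : t ^ p = t) (x : K) (hx : t = 1 → x = 0) : x * sg t p = x := by
  by_cases h1 : t = 1
  · rw [hx h1, zero_mul]
  · have h2 := sg_mul t p
    rw [ht] at h2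
    have h3 : t - 1 ≠ 0 := sub_ne_zero.mpr h1
    have h4 : sg t p = 1 := by
      apply mul_right_cancel₀ h3
      rw [h2, one_mul]
    rw [h4, mul_one]

omit hxy hxz hyz in
theorem pow_zero_of_cube {M : Type*} [AddCommGroup M] [Module (DualNumber K) M]
    (T : Module.End (DualNumber K) M) (hT : T ^ 3 = 0) (hp3 : 3 ≤ p) : T ^ p = 0 := by
  have : p = 3 + (p - 3) := by omega
  rw [this, pow_add, hT, zero_mul]

theorem ady_cube : LieAlgebra.ad (DualNumber K) L (bs 1) ^ 3 = 0 := by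
  apply bs.ext
  intro k
  rw [pow_succ, pow_succ, pow_one, Module.End.mul_apply, Module.End.mul_apply,
    LieAlgebra.ad_apply, LieAlgebra.ad_apply, LieAlgebra.ad_apply, LinearMap.zero_apply]
  fin_cases k
  · show ⁅bs 1, ⁅bs 1, ⁅bs 1, bs 0⁆⁆⁆ = 0
    conv_lhs => rw [bs0 bs]
    rw [ady K t a b c d e f g h i L bs hxy hxz hyz, ady K t a b c d e f g h i L bs hxy hxz hyz,
      ady K t a b c d e f g h i L bs hxy hxz hyz, ← vec_zero bs, vec_inj]
    refine ⟨?_, ?_, ?_⟩ <;> (apply TrivSqZeroExt.ext <;> simp [fstT, sndT])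
  · show ⁅bs 1, ⁅bs 1, ⁅bs 1, bs 1⁆⁆⁆ = 0
    rw [lie_self, lie_zero, lie_zero]
  · show ⁅bs 1, ⁅bs 1, ⁅bs 1, bs 2⁆⁆⁆ = 0
    conv_lhs => rw [bs2 bs]
    rw [ady K t a b c d e f g h i L bs hxy hxz hyz, ady K t a b c d e f g h i L bs hxy hxz hyz,
      ady K t a b c d e f g h i L bs hxy hxz hyz, ← vec_zero bs, vec_inj]
    refine ⟨?_, ?_, ?_⟩ <;> (apply TrivSqZeroExt.ext <;> simp [fstT, sndT])

theorem adz_cube : LieAlgebra.ad (DualNumber K) L (bs 2) ^ 3 = 0 := by
  apply bs.ext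
  intro k
  rw [pow_succ, pow_succ, pow_one, Module.End.mul_apply, Module.End.mul_apply,
    LieAlgebra.ad_apply, LieAlgebra.ad_apply, LieAlgebra.ad_apply, LinearMap.zero_apply]
  fin_cases k
  · show ⁅bs 2, ⁅bs 2, ⁅bs 2, bs 0⁆⁆⁆ = 0
    conv_lhs => rw [bs0 bs]
    rw [adz K t a b c d e f g h i L bs hxy hxz hyz, adz K t a b c d e f g h i L bs hxy hxz hyz,
      adz K t a b c d e f g h i L bs hxy hxz hyz, ← vec_zero bs, vec_inj]
    refine ⟨?_, ?_, ?_⟩ <;> (apply TrivSqZeroExt.ext <;> simp [fstT, sndT])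
  · show ⁅bs 2, ⁅bs 2, ⁅bs 2, bs 1⁆⁆⁆ = 0
    conv_lhs => rw [bs1 bs]
    rw [adz K t a b c d e f g h i L bs hxy hxz hyz, adz K t a b c d e f g h i L bs hxy hxz hyz,
      adz K t a b c d e f g h i L bs hxy hxz hyz, ← vec_zero bs, vec_inj]
    refine ⟨?_, ?_, ?_⟩ <;> (apply TrivSqZeroExt.ext <;> simp [fstT, sndT])
  · show ⁅bs 2, ⁅bs 2, ⁅bs 2, bs 2⁆⁆⁆ = 0
    rw [lie_self, lie_zero, lie_zero]

theorem backward_x (ht : t ^ p = t) (h1 : b * t = f) (h2 : t = 1 → c = 0 ∧ e = 0) :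
    LieAlgebra.ad (DualNumber K) L (bs 0) ^ p
      = LieAlgebra.ad (DualNumber K) L (vec bs (1 - b • ε) 0 0) := by
  have hl := lie_vec bs hxy hxz hyz
  obtain ⟨_, hd, _⟩ := jacobi_rel K t a b c d e f g h i L bs hxy hxz hyz
  have hpos := hp.out.pos
  have hp1 : p = (p - 1) + 1 := by omega
  apply bs.ext
  intro k
  fin_cases k
  · show (LieAlgebra.ad (DualNumber K) L (bs 0) ^ p) (bs 0) = ⁅vec bs (1 - b • ε) 0 0, bs 0⁆
    conv_rhs => rw [bs0 bs]
    rw [hp1, adx_pow_x K t a b c d e f g h i L bs hxy hxz hyz, hl, ← vec_zero bs, vec_inj]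
    exact ⟨by ring, by ring, by ring⟩
  · show (LieAlgebra.ad (DualNumber K) L (bs 0) ^ p) (bs 1) = ⁅vec bs (1 - b • ε) 0 0, bs 1⁆
    conv_rhs => rw [bs1 bs]
    rw [xp_y K t a b c d e f g h i L bs hxy hxz hyz p, hl, vec_inj]
    have hc := sg_p_mul K t p ht c (fun h' => (h2 h').1)
    refine ⟨?_, ?_, ?_⟩
    · apply TrivSqZeroExt.ext <;> simp [fstT, sndT]
    · apply TrivSqZeroExt.ext <;> simp [fstT, sndT]
    · rw [hc]
      apply TrivSqZeroExt.ext <;> simp [fstT, sndT]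
  · show (LieAlgebra.ad (DualNumber K) L (bs 0) ^ p) (bs 2) = ⁅vec bs (1 - b • ε) 0 0, bs 2⁆
    conv_rhs => rw [bs2 bs]
    rw [xp_z K t a b c d e f g h i L bs hxy hxz hyz p ht, hl, vec_inj]
    have he := sg_p_mul K t p ht e (fun h' => (h2 h').2)
    have hd' : t ^ (p - 1) * d = d := by
      rw [hd, ← mul_assoc, ← pow_succ, ← hp1, ht]
    refine ⟨?_, ?_, ?_⟩
    · rw [hd']
      apply TrivSqZeroExt.ext <;> simp [fstT, sndT]
    · rw [mul_comm, he]
      apply TrivSqZeroExt.ext <;> simp [fstT, sndT]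
    · apply TrivSqZeroExt.ext <;> simp [fstT, sndT]
      linear_combination h1


theorem backward_y2 (hp2 : p = 2) (hg : g = 0) :
    LieAlgebra.ad (DualNumber K) L (bs 1) ^ p
      = LieAlgebra.ad (DualNumber K) L (vec bs 0 (a • ε) 0) := by
  have hl := lie_vec bs hxy hxz hyz
  have hK2 : (2 : K) = 0 := by
    have := CharP.cast_eq_zero K p
    rw [hp2] at this
    exact_mod_cast this
  rw [hp2]
  apply bs.ext
  intro k
  rw [pow_two, Module.End.mul_apply, LieAlgebra.ad_apply, LieAlgebra.ad_apply, LieAlgebra.ad_apply]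
  fin_cases k
  · show ⁅bs 1, ⁅bs 1, bs 0⁆⁆ = ⁅vec bs 0 (a • ε) 0, bs 0⁆
    conv_lhs => rw [bs0 bs]
    conv_rhs => rw [bs0 bs]
    rw [ady K t a b c d e f g h i L bs hxy hxz hyz, ady K t a b c d e f g h i L bs hxy hxz hyz, hl,
      vec_inj]
    refine ⟨?_, ?_, ?_⟩
    · apply TrivSqZeroExt.ext <;> simp [fstT, sndT]
    · apply TrivSqZeroExt.ext <;> simp [fstT, sndT]
      linear_combination a * hK2
    · apply TrivSqZeroExt.ext <;> simp [fstT, sndT]
  · show ⁅bs 1, ⁅bs 1, bs 1⁆⁆ = ⁅vec bs 0 (a • ε) 0, bs 1⁆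
    conv_rhs => rw [bs1 bs]
    rw [lie_self, lie_zero, hl, ← vec_zero bs, vec_inj]
    exact ⟨by ring, by ring, by ring⟩
  · show ⁅bs 1, ⁅bs 1, bs 2⁆⁆ = ⁅vec bs 0 (a • ε) 0, bs 2⁆
    conv_lhs => rw [bs2 bs]
    conv_rhs => rw [bs2 bs]
    rw [ady K t a b c d e f g h i L bs hxy hxz hyz, ady K t a b c d e f g h i L bs hxy hxz hyz, hl,
      vec_inj, hg]
    refine ⟨?_, ?_, ?_⟩
    · apply TrivSqZeroExt.ext <;> simp [fstT, sndT]
    · apply TrivSqZeroExt.ext <;> simp [fstT, sndT]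
    · apply TrivSqZeroExt.ext <;> simp [fstT, sndT]

theorem backward_z2 (hp2 : p = 2) (hg : g = 0) :
    LieAlgebra.ad (DualNumber K) L (bs 2) ^ p
      = LieAlgebra.ad (DualNumber K) L (vec bs 0 0 (d • ε)) := by
  have hl := lie_vec bs hxy hxz hyz
  have hK2 : (2 : K) = 0 := by
    have := CharP.cast_eq_zero K p
    rw [hp2] at this
    exact_mod_cast this
  rw [hp2]
  apply bs.ext
  intro k
  rw [pow_two, Module.End.mul_apply, LieAlgebra.ad_apply, LieAlgebra.ad_apply, LieAlgebra.ad_apply]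
  fin_cases k
  · show ⁅bs 2, ⁅bs 2, bs 0⁆⁆ = ⁅vec bs 0 0 (d • ε), bs 0⁆
    conv_lhs => rw [bs0 bs]
    conv_rhs => rw [bs0 bs]
    rw [adz K t a b c d e f g h i L bs hxy hxz hyz, adz K t a b c d e f g h i L bs hxy hxz hyz, hl,
      vec_inj]
    refine ⟨?_, ?_, ?_⟩
    · apply TrivSqZeroExt.ext <;> simp [fstT, sndT]
    · apply TrivSqZeroExt.ext <;> simp [fstT, sndT]
    · apply TrivSqZeroExt.ext <;> simp [fstT, sndT]
      linear_combination (d * t) * hK2
  · show ⁅bs 2, ⁅bs 2, bs 1⁆⁆ = ⁅vec bs 0 0 (d • ε), bs 1⁆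
    conv_lhs => rw [bs1 bs]
    conv_rhs => rw [bs1 bs]
    rw [adz K t a b c d e f g h i L bs hxy hxz hyz, adz K t a b c d e f g h i L bs hxy hxz hyz, hl,
      vec_inj, hg]
    refine ⟨?_, ?_, ?_⟩
    · apply TrivSqZeroExt.ext <;> simp [fstT, sndT]
    · apply TrivSqZeroExt.ext <;> simp [fstT, sndT]
    · apply TrivSqZeroExt.ext <;> simp [fstT, sndT]
  · show ⁅bs 2, ⁅bs 2, bs 2⁆⁆ = ⁅vec bs 0 0 (d • ε), bs 2⁆
    conv_rhs => rw [bs2 bs]
    rw [lie_self, lie_zero, hl, ← vec_zero bs, vec_inj]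
    exact ⟨by ring, by ring, by ring⟩

theorem backward (ht : t ^ p = t) (h1 : b * t = f) (h2 : t = 1 → c = 0 ∧ e = 0)
    (h3 : p = 2 → g = 0) : Nonempty (PLie.PMap (DualNumber K) p L) := by
  have hx := backward_x K t a b c d e f g h i L bs hxy hxz hyz p ht h1 h2
  by_cases hp2 : p = 2
  · have hy' := backward_y2 K t a b c d e f g h i L bs hxy hxz hyz p hp2 (h3 hp2)
    have hz' := backward_z2 K t a b c d e f g h i L bs hxy hxz hyz p hp2 (h3 hp2)
    have hy : ∀ k : Fin 3, LieAlgebra.ad (DualNumber K) L (bs k) ^ p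
        = LieAlgebra.ad (DualNumber K) L
            ((![vec bs (1 - b • ε) 0 0, vec bs 0 (a • ε) 0, vec bs 0 0 (d • ε)] : Fin 3 → L) k) := by
      intro k
      fin_cases k
      · exact hx
      · exact hy'
      · exact hz'
    obtain ⟨φ, _⟩ := Groth.Agent.Lib.helper1.PLieLib.exists_pmap p bs _ hy
    exact ⟨φ⟩
  · have hp3 : 3 ≤ p := by
      have := hp.out.two_le
      omega
    have hy' := pow_zero_of_cube K p _ (ady_cube K t a b c d e f g h i L bs hxy hxz hyz) hp3
    have hz' := pow_zero_of_cube K p _ (adz_cube K t a b c d e f g h i L bs hxy hxz hyz) hp3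
    have hy : ∀ k : Fin 3, LieAlgebra.ad (DualNumber K) L (bs k) ^ p
        = LieAlgebra.ad (DualNumber K) L
            ((![vec bs (1 - b • ε) 0 0, 0, 0] : Fin 3 → L) k) := by
      intro k
      fin_cases k
      · exact hx
      · show LieAlgebra.ad (DualNumber K) L (bs 1) ^ p = LieAlgebra.ad (DualNumber K) L 0
        rw [hy', map_zero]
      · show LieAlgebra.ad (DualNumber K) L (bs 2) ^ p = LieAlgebra.ad (DualNumber K) L 0
        rw [hz', map_zero]
    obtain ⟨φ, _⟩ := Groth.Agent.Lib.helper1.PLieLib.exists_pmap p bs _ hy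
    exact ⟨φ⟩

end

end Helpers


open DualNumber in
/-- Let K be a field of prime characteristic p, K[ε] the ring of dual numbers (taken with its
characteristic-p structure), t ∈ K with t ^ p = t (an element of the prime field), and a, …, i ∈ K.
Let L be a Lie algebra over K[ε], free as a module with basis x = bs 0, y = bs 1, z = bs 2 and
brackets [x,y] = aε x + (1 + bε) y + cε z, [x,z] = dε x + eε y + (t + fε) z, [y,z] = gε x + hε y +
iε z. Then L carries a p-mapping over K[ε] if and only if b t = f, c = e = 0 when t = 1, and g = 0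
when p = 2. (The published statement determines the singular locus of the restrictable locus in the
centreless stratum of the moduli scheme of based three-dimensional Lie algebras, for t non-zero, and
the rank-one-centre stratum treats t = 0; this row states the restrictability criterion for the
first-order deformations of l_t that the proofs compute, over any field of characteristic p in place
of the prime field and for every t in the prime field.) -/
theorem result (K : Type u) [Field K] (p : ℕ) [Fact p.Prime] [CharP K p]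
    [CharP (DualNumber K) p] (t a b c d e f g h i : K) (ht : t ^ p = t)
    (L : Type v) [LieRing L] [LieAlgebra (DualNumber K) L] (bs : Module.Basis (Fin 3) (DualNumber K) L)
    (hxy : ⁅bs 0, bs 1⁆ = (a • ε : DualNumber K) • bs 0 + (1 + b • ε : DualNumber K) • bs 1 + (c • ε : DualNumber K) • bs 2)
    (hxz : ⁅bs 0, bs 2⁆ = (d • ε : DualNumber K) • bs 0 + (e • ε : DualNumber K) • bs 1 +
      (algebraMap K (DualNumber K) t + f • ε) • bs 2)
    (hyz : ⁅bs 1, bs 2⁆ = (g • ε : DualNumber K) • bs 0 + (h • ε : DualNumber K) • bs 1 + (i • ε : DualNumber K) • bs 2) :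
    Nonempty (PLie.PMap (DualNumber K) p L) ↔ (b * t = f ∧ (t = 1 → c = 0 ∧ e = 0) ∧ (p = 2 → g = 0)) := by
  constructor
  · rintro ⟨φ⟩
    exact forward K t a b c d e f g h i L bs hxy hxz hyz p ht φ
  · rintro ⟨h1, h2, h3⟩
    exact backward K t a b c d e f g h i L bs hxy hxz hyz p ht h1 h2 h3

end Groth.Agent.S13778
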