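import Groth.Statements.S13779
import Groth.Agent.Lib.helper1.PLie3

set_option autoImplicit false
universe u v
open PLie

namespace Groth.Agent.S13779

/-- Let p be an odd prime, R a commutative ring of characteristic p, t ∈ R, and L a Lie algebra over R,
free as a module with basis x = bs 0, y = bs 1, z = bs 2 and brackets [x,y] = z, [x,z] = t • y,
[y,z] = 0. Then L carries a p-mapping φ with φ x = t ^ ((p - 1) / 2) • x, φ y = 0 and φ z = 0. (The
published statement concerns the Lie algebra with these brackets over a field of Laurent series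
k((t)), k algebraically closed of odd characteristic, t the variable; this row states its
restrictability over every commutative ring of odd prime characteristic and every t.) -/
theorem result (R : Type u) [CommRing R] (p : ℕ) [Fact p.Prime] [CharP R p] (hp : p ≠ 2)
    (t : R) (L : Type v) [LieRing L] [LieAlgebra R L] (bs : Module.Basis (Fin 3) R L)
    (hxy : ⁅bs 0, bs 1⁆ = bs 2) (hxz : ⁅bs 0, bs 2⁆ = t • bs 1) (hyz : ⁅bs 1, bs 2⁆ = 0) :
    ∃ φ : PLie.PMap R p L, φ (bs 0) = t ^ ((p - 1) / 2) • bs 0 ∧ φ (bs 1) = 0 ∧ φ (bs 2) = 0 := by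
  have hpr := (Fact.out : p.Prime)
  have hpos := hpr.pos
  have h2 := hpr.two_le
  have hodd : p = 2 * ((p - 1) / 2) + 1 := by
    rcases hpr.eq_two_or_odd with h | h
    · exact absurd h hp
    · omega
  have hyx : ⁅bs 1, bs 0⁆ = -bs 2 := by rw [← lie_skew, hxy]
  have hzx : ⁅bs 2, bs 0⁆ = -(t • bs 1) := by rw [← lie_skew, hxz]
  have hzy : ⁅bs 2, bs 1⁆ = 0 := by rw [← lie_skew, hyz, neg_zero]
  have hsq : ∀ u : L, LieAlgebra.ad R L u * LieAlgebra.ad R L u = 0 →
      LieAlgebra.ad R L u ^ p = LieAlgebra.ad R L 0 := by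
    intro u hu
    have hp2 : p = 2 + (p - 2) := by omega
    rw [hp2, pow_add, pow_two, hu, zero_mul, map_zero]
  have hcube : LieAlgebra.ad R L (bs 0) ^ 3 = t • LieAlgebra.ad R L (bs 0) := by
    apply bs.ext
    intro k
    fin_cases k
    · show (LieAlgebra.ad R L (bs 0) ^ 3) (bs 0) = (t • LieAlgebra.ad R L (bs 0)) (bs 0)
      rw [pow_succ, Module.End.mul_apply, LieAlgebra.ad_apply, lie_self, map_zero,
        LinearMap.smul_apply, LieAlgebra.ad_apply, lie_self, smul_zero]
    · show (LieAlgebra.ad R L (bs 0) ^ 3) (bs 1) = (t • LieAlgebra.ad R L (bs 0)) (bs 1)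
      rw [pow_succ, pow_two, Module.End.mul_apply, Module.End.mul_apply, LieAlgebra.ad_apply,
        LieAlgebra.ad_apply, LieAlgebra.ad_apply, hxy, hxz, lie_smul, hxy, LinearMap.smul_apply,
        LieAlgebra.ad_apply, hxy]
    · show (LieAlgebra.ad R L (bs 0) ^ 3) (bs 2) = (t • LieAlgebra.ad R L (bs 0)) (bs 2)
      rw [pow_succ, pow_two, Module.End.mul_apply, Module.End.mul_apply, LieAlgebra.ad_apply,
        LieAlgebra.ad_apply, LieAlgebra.ad_apply, hxz, lie_smul, hxy, lie_smul, hxz,
        LinearMap.smul_apply, LieAlgebra.ad_apply, hxz]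
  have hpowx : ∀ k : ℕ, LieAlgebra.ad R L (bs 0) ^ (2 * k + 1) = t ^ k • LieAlgebra.ad R L (bs 0) := by
    intro k
    induction k with
    | zero => simp
    | succ k ih =>
      have e1 : 2 * (k + 1) + 1 = (2 * k + 1) + 2 := by ring
      rw [e1, pow_add, ih, smul_mul_assoc, ← pow_succ', hcube, smul_smul, pow_succ]
  have hy : ∀ i : Fin 3, LieAlgebra.ad R L (bs i) ^ p
      = LieAlgebra.ad R L ((![t ^ ((p - 1) / 2) • bs 0, 0, 0] : Fin 3 → L) i) := by
    intro i
    fin_cases i
    · show LieAlgebra.ad R L (bs 0) ^ p = LieAlgebra.ad R L (t ^ ((p - 1) / 2) • bs 0)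
      rw [map_smul]
      conv_lhs => rw [hodd]
      exact hpowx _
    · show LieAlgebra.ad R L (bs 1) ^ p = LieAlgebra.ad R L 0
      apply hsq
      apply bs.ext
      intro k
      fin_cases k
      · show (LieAlgebra.ad R L (bs 1) * LieAlgebra.ad R L (bs 1)) (bs 0) = (0 : Module.End R L) (bs 0)
        rw [Module.End.mul_apply, LieAlgebra.ad_apply, LieAlgebra.ad_apply, hyx, lie_neg, hyz]
        simp
      · show (LieAlgebra.ad R L (bs 1) * LieAlgebra.ad R L (bs 1)) (bs 1) = (0 : Module.End R L) (bs 1)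
        rw [Module.End.mul_apply, LieAlgebra.ad_apply, LieAlgebra.ad_apply, lie_self, lie_zero]
        simp
      · show (LieAlgebra.ad R L (bs 1) * LieAlgebra.ad R L (bs 1)) (bs 2) = (0 : Module.End R L) (bs 2)
        rw [Module.End.mul_apply, LieAlgebra.ad_apply, LieAlgebra.ad_apply, hyz, lie_zero]
        simp
    · show LieAlgebra.ad R L (bs 2) ^ p = LieAlgebra.ad R L 0
      apply hsq
      apply bs.ext
      intro k
      fin_cases k
      · show (LieAlgebra.ad R L (bs 2) * LieAlgebra.ad R L (bs 2)) (bs 0) = (0 : Module.End R L) (bs 0)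
        rw [Module.End.mul_apply, LieAlgebra.ad_apply, LieAlgebra.ad_apply, hzx, lie_neg, lie_smul,
          hzy]
        simp
      · show (LieAlgebra.ad R L (bs 2) * LieAlgebra.ad R L (bs 2)) (bs 1) = (0 : Module.End R L) (bs 1)
        rw [Module.End.mul_apply, LieAlgebra.ad_apply, LieAlgebra.ad_apply, hzy, lie_zero]
        simp
      · show (LieAlgebra.ad R L (bs 2) * LieAlgebra.ad R L (bs 2)) (bs 2) = (0 : Module.End R L) (bs 2)
        rw [Module.End.mul_apply, LieAlgebra.ad_apply, LieAlgebra.ad_apply, lie_self, lie_zero]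
        simp
  obtain ⟨φ, hφ⟩ := Groth.Agent.Lib.helper1.PLieLib.exists_pmap p bs _ hy
  exact ⟨φ, hφ 0, hφ 1, hφ 2⟩

end Groth.Agent.S13779
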