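import Groth.Statements.S13784
import Mathlib

set_option autoImplicit false
universe u
open CAlg

namespace Groth.Agent.S13784

/-- Let A be a commutative local ring and G a finite subgroup of Aˣ. If the order of G is invertible in
A, then G is cyclic. -/
theorem result {A : Type u} [CommRing A] [IsLocalRing A]
    (G : Subgroup Aˣ) [Finite G] (hG : IsUnit ((Nat.card G : ℕ) : A)) : IsCyclic G := by
  classical
  let k := IsLocalRing.ResidueField A
  let f : G →* k := ((Units.coeHom k).comp (Units.map (IsLocalRing.residue A).toMonoidHom)).comp G.subtype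
  apply isCyclic_of_injective_ringHom f
  rw [injective_iff_map_eq_one]
  intro g hg
  have hg' : IsLocalRing.residue A ((g : Aˣ) : A) = 1 := hg
  set n := Nat.card G with hn
  have hgn : ((g : Aˣ) : A) ^ n = 1 := by
    have : g ^ n = 1 := by rw [hn]; exact pow_card_eq_one'
    have := congrArg (fun x : G => ((x : Aˣ) : A)) this
    simpa using this
  set S : A := ∑ i ∈ Finset.range n, ((g : Aˣ) : A) ^ i with hS
  have hSres : IsLocalRing.residue A S = IsLocalRing.residue A ((n : ℕ) : A) := by
    simp [hS, map_sum, hg']
  have hSunit : IsUnit S := by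
    have : IsUnit (IsLocalRing.residue A S) := by
      rw [hSres]; exact hG.map _
    exact isUnit_of_map_unit (IsLocalRing.residue A) S this
  have hmul : S * (((g : Aˣ) : A) - 1) = 0 := by
    rw [hS, geom_sum_mul, hgn, sub_self]
  have : ((g : Aˣ) : A) - 1 = 0 := by
    exact (hSunit.mul_right_eq_zero).mp hmul
  have h1 : ((g : Aˣ) : A) = 1 := sub_eq_zero.mp this
  ext
  simpa using h1

end Groth.Agent.S13784
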