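import Groth.Statements.S13785
import Mathlib

set_option autoImplicit false
universe u
open CAlg

namespace Groth.Agent.S13785

/-- For any commutative ring A, the determinant of the generic n × n matrix is a nonzerodivisor of the
polynomial ring over A in the n² matrix entries. -/
theorem result (A : Type u) [CommRing A] (n : ℕ) :
    (Matrix.mvPolynomialX (Fin n) (Fin n) A).det ∈ nonZeroDivisors (MvPolynomial (Fin n × Fin n) A) := by
  classical
  let ψ : MvPolynomial (Fin n × Fin n) A →ₐ[A] Polynomial (MvPolynomial (Fin n × Fin n) A) :=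
    MvPolynomial.aeval (fun ij => Matrix.charmatrix (Matrix.mvPolynomialX (Fin n) (Fin n) A) ij.1 ij.2)
  have hψX : ∀ ij, ψ (MvPolynomial.X ij) =
      Matrix.charmatrix (Matrix.mvPolynomialX (Fin n) (Fin n) A) ij.1 ij.2 := by
    intro ij
    exact MvPolynomial.aeval_X _ ij
  have hψM : ψ.mapMatrix (Matrix.mvPolynomialX (Fin n) (Fin n) A) =
      Matrix.charmatrix (Matrix.mvPolynomialX (Fin n) (Fin n) A) := by
    ext1 i j
    rw [AlgHom.mapMatrix_apply, Matrix.map_apply, Matrix.mvPolynomialX_apply, hψX]
  have hψdet : ψ (Matrix.mvPolynomialX (Fin n) (Fin n) A).det =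
      (Matrix.mvPolynomialX (Fin n) (Fin n) A).charpoly := by
    rw [AlgHom.map_det, hψM]; rfl
  let ν : MvPolynomial (Fin n × Fin n) A →ₐ[A] MvPolynomial (Fin n × Fin n) A :=
    MvPolynomial.aeval (fun ij => - MvPolynomial.X ij)
  have hνX : ∀ ij, ν (MvPolynomial.X ij) = - MvPolynomial.X ij := fun ij =>
    MvPolynomial.aeval_X _ ij
  have hνν : ∀ g, ν (ν g) = g := by
    intro g
    have : ν.comp ν = AlgHom.id A _ := by
      apply MvPolynomial.algHom_ext
      intro ij
      rw [AlgHom.comp_apply, hνX, map_neg, hνX, neg_neg]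
      rfl
    exact congrArg (fun f => f g) this
  have hev : ∀ g : MvPolynomial (Fin n × Fin n) A, Polynomial.eval 0 (ψ g) = ν g := by
    intro g
    have : ((Polynomial.evalRingHom (0 : MvPolynomial (Fin n × Fin n) A)).comp ψ.toRingHom) =
        ν.toRingHom := by
      apply MvPolynomial.ringHom_ext
      · intro a
        show Polynomial.eval 0 (ψ (MvPolynomial.C a)) = ν (MvPolynomial.C a)
        rw [← MvPolynomial.algebraMap_eq, AlgHom.commutes, AlgHom.commutes,
          Polynomial.algebraMap_apply, Polynomial.eval_C]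
      · intro ij
        show Polynomial.eval 0 (ψ (MvPolynomial.X ij)) = ν (MvPolynomial.X ij)
        rw [hψX, hνX, Matrix.charmatrix_apply, Polynomial.eval_sub, Polynomial.eval_C,
          Matrix.mvPolynomialX_apply]
        by_cases h : ij.1 = ij.2
        · obtain ⟨i, j⟩ := ij
          simp only at h
          subst h
          rw [Matrix.diagonal_apply_eq, Polynomial.eval_X, zero_sub]
        · rw [Matrix.diagonal_apply_ne _ h, Polynomial.eval_zero, zero_sub]
    exact congrArg (fun f => f g) this
  have hψinj : Function.Injective ψ := by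
    intro g₁ g₂ h
    have h1 : ν g₁ = ν g₂ := by rw [← hev, ← hev, h]
    have h2 := congrArg ν h1
    rwa [hνν, hνν] at h2
  rw [mem_nonZeroDivisors_iff_right]
  intro g hg
  apply hψinj
  rw [map_zero]
  have : ψ g * (Matrix.mvPolynomialX (Fin n) (Fin n) A).charpoly = 0 := by
    rw [← hψdet, ← map_mul, hg, map_zero]
  exact (Matrix.charpoly_monic _).mul_left_eq_zero_iff.mp this

end Groth.Agent.S13785
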