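import Groth.Statements.S13787
import Mathlib
import Groth.Agent.Lib.helper5.DetGeneric

set_option autoImplicit false
universe u
open CAlg

namespace Groth.Agent.S13787

/-- Let A be a nonzero commutative ring and n ≥ 1, let det be the determinant of the generic n × n
matrix in the polynomial ring A[X] in its n² entries, and let A[X, 1/det] be the localization at det
(the coordinate ring of GL_n over A). The homomorphism Aˣ × ℤ → (A[X, 1/det])ˣ sending (a, e) to a ·
det^e is injective. (The published statement takes the exponent in the group of locally constant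
ℤ-valued functions on Spec A, which also covers A = 0; with integer exponents as here, A must be
nonzero and n ≥ 1.) -/
theorem result (A : Type u) [CommRing A] [Nontrivial A] (n : ℕ) (hn : 0 < n) :
    Function.Injective (fun p : Aˣ × ℤ =>
        Units.map (algebraMap A (Localization.Away (Matrix.mvPolynomialX (Fin n) (Fin n) A).det)).toMonoidHom p.1 *
          (IsLocalization.Away.algebraMap_isUnit (S := Localization.Away (Matrix.mvPolynomialX (Fin n) (Fin n) A).det)
            (Matrix.mvPolynomialX (Fin n) (Fin n) A).det).unit ^ p.2) := by
  classical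
  set det := (Matrix.mvPolynomialX (Fin n) (Fin n) A).det with hdet
  set L := Localization.Away det with hL
  set d : Lˣ := (IsLocalization.Away.algebraMap_isUnit (S := L) det).unit with hd
  set ι : Aˣ →* Lˣ := Units.map (algebraMap A L).toMonoidHom with hι
  have hdval : (d : L) = algebraMap (MvPolynomial (Fin n × Fin n) A) L det := IsUnit.unit_spec _
  have hinjL : Function.Injective (algebraMap (MvPolynomial (Fin n × Fin n) A) L) := by
    apply IsLocalization.injective L (M := Submonoid.powers det)
    exact Submonoid.powers_le.mpr (Groth.Agent.H5.DetGeneric.det_mem_nonZeroDivisors A n)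
  -- key
  have key : ∀ (u : Aˣ) (m : ℕ), ι u = d ^ m → m = 0 ∧ u = 1 := by
    intro u m h
    have h1 : algebraMap A L (u : A) = (d : L) ^ m := by
      have := congrArg Units.val h
      rwa [Units.val_pow_eq_pow_val] at this
    rw [hdval, ← map_pow, IsScalarTower.algebraMap_apply A (MvPolynomial (Fin n × Fin n) A) L,
      MvPolynomial.algebraMap_eq] at h1
    have h2 : MvPolynomial.C (u : A) = det ^ m := hinjL h1
    have hm : m = 0 := Groth.Agent.H5.DetGeneric.eq_zero_of_C_eq_det_pow A n hn _ m h2
    refine ⟨hm, ?_⟩
    rw [hm, pow_zero] at h2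
    have h3 : (u : A) = 1 := MvPolynomial.C_injective _ _ (by rw [h2, MvPolynomial.C_1])
    exact Units.ext h3
  rintro ⟨a, e⟩ ⟨a', e'⟩ h
  have h' : ι a * d ^ e = ι a' * d ^ e' := h
  rcases le_total e e' with hle | hle
  · obtain ⟨m, rfl⟩ := Int.le.dest hle
    rw [zpow_add, zpow_natCast] at h'
    have h2 : ι (a'⁻¹ * a) = d ^ m := by
      rw [map_mul, map_inv, inv_mul_eq_iff_eq_mul]
      have : ι a * d ^ e = (ι a' * d ^ m) * d ^ e := by rw [h']; group
      exact mul_right_cancel this
    obtain ⟨hm, hu⟩ := key _ _ h2
    have : a = a' := by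
      have := congrArg (fun x => a' * x) hu
      simpa using this
    rw [this, hm]; simp
  · obtain ⟨m, rfl⟩ := Int.le.dest hle
    rw [zpow_add, zpow_natCast] at h'
    have h2 : ι (a⁻¹ * a') = d ^ m := by
      rw [map_mul, map_inv, inv_mul_eq_iff_eq_mul]
      have : ι a' * d ^ e' = (ι a * d ^ m) * d ^ e' := by rw [← h']; group
      exact mul_right_cancel this
    obtain ⟨hm, hu⟩ := key _ _ h2
    have : a' = a := by
      have := congrArg (fun x => a * x) hu
      simpa using this
    rw [this, hm]; simp

end Groth.Agent.S13787
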