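import Groth.Statements.S13788
import Mathlib
import Groth.Agent.Lib.helper5.DetIrred
import Groth.Agent.Lib.helper5.DetGeneric
-- import your own Groth.Agent.* helpers here

set_option autoImplicit false
universe u
open CAlg

namespace Groth.Agent.S13788

namespace H5S13788
open MvPolynomial

section general
variable (A : Type u) [CommRing A] (n : ℕ)

/-- the generic determinant -/
noncomputable abbrev Δ : MvPolynomial (Fin n × Fin n) A := (Matrix.mvPolynomialX (Fin n) (Fin n) A).det

/-- evaluation at the identity matrix -/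
noncomputable def ev1 : MvPolynomial (Fin n × Fin n) A →+* A :=
  MvPolynomial.eval (fun p : Fin n × Fin n => if p.1 = p.2 then (1 : A) else 0)

/-- evaluation at the zero matrix -/
noncomputable def ev0 : MvPolynomial (Fin n × Fin n) A →+* A :=
  MvPolynomial.eval (fun _ : Fin n × Fin n => (0 : A))

theorem ev1_det : ev1 A n (Δ A n) = 1 := by
  rw [ev1, Δ, Matrix.eval_det_mvPolynomialX]
  have : (Matrix.of fun i j : Fin n => if (i, j).1 = (i, j).2 then (1 : A) else 0) = 1 := by
    ext i j
    simp [Matrix.one_apply]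
  rw [this, Matrix.det_one]

theorem ev0_det (hn : 0 < n) : ev0 A n (Δ A n) = 0 := by
  rw [ev0, Δ, Matrix.eval_det_mvPolynomialX]
  haveI : Nonempty (Fin n) := ⟨⟨0, hn⟩⟩
  have : (Matrix.of fun i j : Fin n => (0 : A)) = 0 := by
    ext i j
    simp
  rw [this, Matrix.det_zero]

theorem ev1_C (a : A) : ev1 A n (C a) = a := by simp [ev1]
theorem ev0_C (a : A) : ev0 A n (C a) = a := by simp [ev0]

variable {A} {B : Type u} [CommRing B]

theorem map_det (φ : A →+* B) : MvPolynomial.map φ (Δ A n) = Δ B n := by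
  rw [Δ, Δ, RingHom.map_det]
  congr 1
  ext i j
  simp [Matrix.mvPolynomialX_apply]

theorem ev1_map (φ : A →+* B) (f : MvPolynomial (Fin n × Fin n) A) :
    ev1 B n (MvPolynomial.map φ f) = φ (ev1 A n f) := by
  have : (ev1 B n).comp (MvPolynomial.map φ) = φ.comp (ev1 A n) := by
    apply MvPolynomial.ringHom_ext
    · intro a; simp [ev1]
    · intro i; simp [ev1, apply_ite φ]
  exact congrArg (fun h => h f) this

end general

section field
variable (K : Type u) [Field K] (n : ℕ)

theorem field_key (hn : 0 < n) (f g : MvPolynomial (Fin n × Fin n) K) (N : ℕ)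
    (hfg : f * g = Δ K n ^ N) : ∃ e ≤ N, f = C (ev1 K n f) * Δ K n ^ e := by
  haveI : Nonempty (Fin n) := ⟨⟨0, hn⟩⟩
  have hirr : Irreducible (Δ K n) := Groth.Agent.H5.DetIrred.irreducible_det
  have hprime : Prime (Δ K n) := UniqueFactorizationMonoid.irreducible_iff_prime.mp hirr
  have hdvd : f ∣ Δ K n ^ N := ⟨g, hfg.symm⟩
  obtain ⟨e, he, hass⟩ := (dvd_prime_pow hprime N).mp hdvd
  obtain ⟨u, hu⟩ := hass
  obtain ⟨r, hr, hur⟩ := MvPolynomial.isUnit_iff_eq_C_of_isReduced.mp u.isUnit
  rw [hur] at hu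
  have h1 : ev1 K n f * r = 1 := by
    have := congrArg (ev1 K n) hu
    rwa [map_mul, ev1_C, map_pow, ev1_det, one_pow] at this
  refine ⟨e, he, ?_⟩
  have hr0 : r ≠ 0 := hr.ne_zero
  have h2 : ev1 K n f = r⁻¹ := eq_inv_of_mul_eq_one_left h1
  rw [h2, ← hu, mul_comm, mul_assoc, ← C_mul, mul_inv_cancel₀ hr0, C_1, mul_one]

end field


section reduced
variable (A : Type u) [CommRing A] (n : ℕ)

theorem prime_key (hn : 0 < n) (f g : MvPolynomial (Fin n × Fin n) A) (N : ℕ)
    (hfg : f * g = Δ A n ^ N) (p : Ideal A) [p.IsPrime] :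
    ∃ e ≤ N, MvPolynomial.map (Ideal.Quotient.mk p) (f - C (ev1 A n f) * Δ A n ^ e) = 0 := by
  let φ : A →+* FractionRing (A ⧸ p) := (algebraMap (A ⧸ p) (FractionRing (A ⧸ p))).comp (Ideal.Quotient.mk p)
  have h1 : MvPolynomial.map φ f * MvPolynomial.map φ g = Δ (FractionRing (A ⧸ p)) n ^ N := by
    rw [← map_mul, hfg, map_pow, map_det]
  obtain ⟨e, he, hfe⟩ := field_key (FractionRing (A ⧸ p)) n hn _ _ N h1
  refine ⟨e, he, ?_⟩
  have hinj : Function.Injective (MvPolynomial.map (σ := Fin n × Fin n)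
      (algebraMap (A ⧸ p) (FractionRing (A ⧸ p)))) :=
    MvPolynomial.map_injective _ (IsFractionRing.injective (A ⧸ p) (FractionRing (A ⧸ p)))
  apply hinj
  rw [map_zero, MvPolynomial.map_map]
  change MvPolynomial.map φ _ = 0
  rw [map_sub, map_mul, MvPolynomial.map_C, map_pow, map_det, ← ev1_map, ← hfe, sub_self]

theorem poly_key [IsReduced A] [Nontrivial A]
    (hconn : ∀ e : A, IsIdempotentElem e → e = 0 ∨ e = 1) (hn : 0 < n)
    (f g : MvPolynomial (Fin n × Fin n) A) (N : ℕ) (hfg : f * g = Δ A n ^ N) :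
    ∃ e ≤ N, f = C (ev1 A n f) * Δ A n ^ e := by
  have hc : ev1 A n f * ev1 A n g = 1 := by rw [← map_mul, hfg, map_pow, ev1_det, one_pow]
  let h : ℕ → MvPolynomial (Fin n × Fin n) A := fun e => f - C (ev1 A n f) * Δ A n ^ e
  let U : ℕ → Set (PrimeSpectrum A) := fun e =>
    {p | MvPolynomial.map (Ideal.Quotient.mk p.asIdeal) (h e) = 0}
  have hU : ∀ e, U e = PrimeSpectrum.zeroLocus (Set.range fun m => coeff m (h e)) := by
    intro e; ext p
    simp only [U, Set.mem_setOf_eq, PrimeSpectrum.mem_zeroLocus, Set.range_subset_iff]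
    rw [MvPolynomial.ext_iff]
    refine forall_congr' fun m => ?_
    rw [coeff_map, coeff_zero, Ideal.Quotient.eq_zero_iff_mem]; rfl
  have hclosed : ∀ e, IsClosed (U e) := fun e => by
    rw [hU]; exact PrimeSpectrum.isClosed_zeroLocus _
  have hcover : ∀ p : PrimeSpectrum A, ∃ e ≤ N, p ∈ U e := fun p =>
    prime_key A n hn f g N hfg p.asIdeal
  have hdisj' : ∀ e e', e < e' → ∀ p, p ∈ U e → p ∉ U e' := by
    intro e e' hlt p hp hp'
    simp only [U, h, Set.mem_setOf_eq, map_sub, sub_eq_zero] at hp hp'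
    have heq := hp.symm.trans hp'
    rw [map_mul, map_mul, MvPolynomial.map_C, map_pow, map_pow, map_det] at heq
    have hcu : Ideal.Quotient.mk p.asIdeal (ev1 A n g) * Ideal.Quotient.mk p.asIdeal (ev1 A n f) = 1 := by
      rw [← map_mul, mul_comm, hc, map_one]
    have heq2 := congrArg (fun z => C (Ideal.Quotient.mk p.asIdeal (ev1 A n g)) * z) heq
    simp only [← mul_assoc, ← C_mul, hcu, C_1, one_mul] at heq2
    obtain ⟨k, rfl⟩ := Nat.exists_eq_add_of_lt hlt
    have hnzd : Δ (A ⧸ p.asIdeal) n ^ e ∈ nonZeroDivisors (MvPolynomial (Fin n × Fin n) (A ⧸ p.asIdeal)) :=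
      pow_mem (Groth.Agent.H5.DetGeneric.det_mem_nonZeroDivisors _ n) e
    have h3 : Δ (A ⧸ p.asIdeal) n ^ e * (1 - Δ (A ⧸ p.asIdeal) n ^ (k + 1)) = 0 := by
      rw [mul_sub, mul_one, ← pow_add, ← add_assoc, ← heq2, sub_self]
    have h4 : (1 : MvPolynomial (Fin n × Fin n) (A ⧸ p.asIdeal)) - Δ (A ⧸ p.asIdeal) n ^ (k + 1) = 0 :=
      (mul_left_mem_nonZeroDivisors_eq_zero_iff hnzd).mp h3
    have h5 : C (1 : A ⧸ p.asIdeal) = Δ (A ⧸ p.asIdeal) n ^ (k + 1) := by
      rw [C_1]; exact sub_eq_zero.mp h4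
    have := Groth.Agent.H5.DetGeneric.eq_zero_of_C_eq_det_pow (A ⧸ p.asIdeal) n hn 1 (k + 1) h5
    omega
  have hdisj : ∀ e e', e ≠ e' → ∀ p, p ∈ U e → p ∉ U e' := by
    intro e e' hne p hp hp'
    rcases lt_or_gt_of_ne hne with hlt | hlt
    · exact hdisj' e e' hlt p hp hp'
    · exact hdisj' e' e hlt p hp' hp
  obtain ⟨p₀⟩ : Nonempty (PrimeSpectrum A) := inferInstance
  obtain ⟨e₀, he₀, hp₀⟩ := hcover p₀
  have hcompl : (U e₀)ᶜ = ⋃ e ∈ ((Finset.range (N + 1)).erase e₀), U e := by
    ext p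
    simp only [Set.mem_compl_iff, Finset.mem_erase, Finset.mem_range, Set.mem_iUnion, exists_prop]
    constructor
    · intro hp
      obtain ⟨e, he, hpe⟩ := hcover p
      exact ⟨e, ⟨fun h => hp (h ▸ hpe), Nat.lt_succ_of_le he⟩, hpe⟩
    · rintro ⟨e, ⟨hne, _⟩, hpe⟩ hp0
      exact hdisj e e₀ hne p hpe hp0
  have hclopen : IsClopen (U e₀) := by
    refine ⟨hclosed e₀, isClosed_compl_iff.mp ?_⟩
    rw [hcompl]
    exact isClosed_biUnion_finset fun e _ => hclosed e
  obtain ⟨i, hi, hUi⟩ := PrimeSpectrum.exists_idempotent_basicOpen_eq_of_isClopen hclopen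
  have hi1 : i = 1 := by
    rcases hconn i hi with rfl | rfl
    · exfalso
      have : p₀ ∈ (PrimeSpectrum.basicOpen (0 : A) : Set (PrimeSpectrum A)) := hUi ▸ hp₀
      simp at this
    · rfl
  have hall : ∀ p : PrimeSpectrum A, p ∈ U e₀ := by
    intro p
    rw [hUi, hi1]
    simp
  have hzero : h e₀ = 0 := by
    ext m
    rw [coeff_zero]
    apply IsNilpotent.eq_zero
    rw [nilpotent_iff_mem_prime]
    intro J hJ
    have := hall ⟨J, hJ⟩
    rw [hU] at this
    exact this ⟨m, rfl⟩
  exact ⟨e₀, he₀, sub_eq_zero.mp hzero⟩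

end reduced

section main
variable (A : Type u) [CommRing A] (n : ℕ)

/-- the unit `det` of the localization -/
noncomputable def δ : (Localization.Away (Δ A n))ˣ :=
  (IsLocalization.Away.algebraMap_isUnit (S := Localization.Away (Δ A n)) (Δ A n)).unit

theorem δ_coe : ((δ A n : (Localization.Away (Δ A n))ˣ) : Localization.Away (Δ A n)) =
    algebraMap (MvPolynomial (Fin n × Fin n) A) (Localization.Away (Δ A n)) (Δ A n) := rfl

theorem algebraMap_inj : Function.Injective
    (algebraMap (MvPolynomial (Fin n × Fin n) A) (Localization.Away (Δ A n))) :=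
  IsLocalization.injective (Localization.Away (Δ A n))
    (Submonoid.powers_le.mpr (Groth.Agent.H5.DetGeneric.det_mem_nonZeroDivisors A n))

theorem algebraMap_A (a : A) : algebraMap A (Localization.Away (Δ A n)) a =
    algebraMap (MvPolynomial (Fin n × Fin n) A) (Localization.Away (Δ A n)) (C a) := by
  rw [IsScalarTower.algebraMap_apply A (MvPolynomial (Fin n × Fin n) A) (Localization.Away (Δ A n)),
    MvPolynomial.algebraMap_eq]

/-- the map of the statement -/
noncomputable def Φ (p : Aˣ × ℤ) : (Localization.Away (Δ A n))ˣ :=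
  Units.map (algebraMap A (Localization.Away (Δ A n))).toMonoidHom p.1 * δ A n ^ p.2

theorem units_eq_iff (a a' : Aˣ) (k k' : ℕ) :
    Units.map (algebraMap A (Localization.Away (Δ A n))).toMonoidHom a * δ A n ^ k =
      Units.map (algebraMap A (Localization.Away (Δ A n))).toMonoidHom a' * δ A n ^ k' ↔
    C (a : A) * Δ A n ^ k = C (a' : A) * Δ A n ^ k' := by
  rw [← Units.val_inj, ← (algebraMap_inj A n).eq_iff]
  simp only [Units.val_mul, Units.coe_map, Units.val_pow_eq_pow_val, δ_coe, map_mul, map_pow,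
    RingHom.toMonoidHom_eq_coe, MonoidHom.coe_coe, algebraMap_A]

variable [Nontrivial A]

theorem poly_cancel (hn : 0 < n) (a a' : Aˣ) (k k' : ℕ) (hkk : k ≤ k')
    (h : C (a : A) * Δ A n ^ k = C (a' : A) * Δ A n ^ k') : k = k' ∧ a = a' := by
  obtain ⟨d, rfl⟩ := Nat.exists_eq_add_of_le hkk
  have hnzd : Δ A n ^ k ∈ nonZeroDivisors (MvPolynomial (Fin n × Fin n) A) :=
    pow_mem (Groth.Agent.H5.DetGeneric.det_mem_nonZeroDivisors _ n) k
  have h1 : Δ A n ^ k * (C (a : A) - C (a' : A) * Δ A n ^ d) = 0 := by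
    rw [mul_sub, mul_comm, h, pow_add]; ring
  have h2 := (mul_left_mem_nonZeroDivisors_eq_zero_iff hnzd).mp h1
  have h3 : C ((a'⁻¹ : Aˣ) * (a : A)) = Δ A n ^ d := by
    rw [C_mul, sub_eq_zero.mp h2, ← mul_assoc, ← C_mul, Units.inv_mul, C_1, one_mul]
  have hd : d = 0 := Groth.Agent.H5.DetGeneric.eq_zero_of_C_eq_det_pow A n hn _ d h3
  subst hd
  refine ⟨rfl, ?_⟩
  rw [pow_zero, mul_one] at h2
  exact Units.ext (MvPolynomial.C_injective _ _ (sub_eq_zero.mp h2))

theorem Φ_injective (hn : 0 < n) : Function.Injective (Φ A n) := by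
  rintro ⟨a, z⟩ ⟨a', z'⟩ h
  simp only [Φ] at h
  -- shift exponents to be natural
  obtain ⟨m, k, k', hk, hk'⟩ : ∃ m k k' : ℕ, z + m = k ∧ z' + m = k' := by
    refine ⟨(-z).toNat + (-z').toNat, (z + ((-z).toNat + (-z').toNat : ℕ)).toNat,
      (z' + ((-z).toNat + (-z').toNat : ℕ)).toNat, ?_, ?_⟩
    · rw [Int.toNat_of_nonneg]; omega
    · rw [Int.toNat_of_nonneg]; omega
  have h2 : Units.map (algebraMap A (Localization.Away (Δ A n))).toMonoidHom a * δ A n ^ k =
      Units.map (algebraMap A (Localization.Away (Δ A n))).toMonoidHom a' * δ A n ^ k' := by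
    rw [← zpow_natCast, ← zpow_natCast, ← hk, ← hk', zpow_add, zpow_add, ← mul_assoc, ← mul_assoc, h]
  rw [units_eq_iff] at h2
  rcases le_total k k' with hle | hle
  · obtain ⟨h3, h4⟩ := poly_cancel A n hn a a' k k' hle h2
    have : z = z' := by omega
    rw [h4, this]
  · obtain ⟨h3, h4⟩ := poly_cancel A n hn a' a k' k hle h2.symm
    have : z = z' := by omega
    rw [h4, this]

theorem Φ_surjective [IsReduced A] (hconn : ∀ e : A, IsIdempotentElem e → e = 0 ∨ e = 1)
    (hn : 0 < n) : Function.Surjective (Φ A n) := by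
  intro u
  obtain ⟨⟨f, ⟨_, k, rfl⟩⟩, hf⟩ := IsLocalization.surj (Submonoid.powers (Δ A n)) (u : Localization.Away (Δ A n))
  obtain ⟨⟨g, ⟨_, l, rfl⟩⟩, hg⟩ := IsLocalization.surj (Submonoid.powers (Δ A n))
    ((u⁻¹ : (Localization.Away (Δ A n))ˣ) : Localization.Away (Δ A n))
  simp only at hf hg
  have hfg : f * g = Δ A n ^ (k + l) := by
    apply algebraMap_inj A n
    rw [map_mul, ← hf, ← hg, pow_add, map_mul]
    have : (u : Localization.Away (Δ A n)) * ((u⁻¹ : (Localization.Away (Δ A n))ˣ) : Localization.Away (Δ A n)) = 1 :=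
      Units.mul_inv u
    linear_combination (algebraMap (MvPolynomial (Fin n × Fin n) A) (Localization.Away (Δ A n)) (Δ A n ^ k) *
      algebraMap (MvPolynomial (Fin n × Fin n) A) (Localization.Away (Δ A n)) (Δ A n ^ l)) * this
  obtain ⟨e, -, hfe⟩ := poly_key A n hconn hn f g (k + l) hfg
  have hc : ev1 A n f * ev1 A n g = 1 := by rw [← map_mul, hfg, map_pow, ev1_det, one_pow]
  let c : Aˣ := Units.mkOfMulEqOne _ _ hc
  have hcc : (c : A) = ev1 A n f := rfl
  refine ⟨(c, (e : ℤ) - (k : ℤ)), ?_⟩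
  simp only [Φ]
  have h1 : Units.map (algebraMap A (Localization.Away (Δ A n))).toMonoidHom c * δ A n ^ e = u * δ A n ^ k := by
    rw [← Units.val_inj]
    simp only [Units.val_mul, Units.coe_map, Units.val_pow_eq_pow_val, δ_coe,
      RingHom.toMonoidHom_eq_coe, MonoidHom.coe_coe, algebraMap_A]
    rw [← map_pow, ← map_pow, hf, ← map_mul, hcc, ← hfe]
  rw [zpow_sub, zpow_natCast, zpow_natCast, ← mul_assoc, h1, mul_assoc, mul_inv_cancel, mul_one]

end main

section converse
variable (A : Type u) [CommRing A] [Nontrivial A] (n : ℕ)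

theorem reduced_of_surjective (hn : 0 < n) (hsurj : Function.Surjective (Φ A n)) : IsReduced A := by
  rw [isReduced_iff_pow_one_lt 2 one_lt_two]
  intro ε hε
  by_contra hε0
  let i : Fin n × Fin n := (⟨0, hn⟩, ⟨0, hn⟩)
  let w : MvPolynomial (Fin n × Fin n) A := 1 + C ε * X i
  let w' : MvPolynomial (Fin n × Fin n) A := 1 - C ε * X i
  have hww' : w * w' = 1 := by
    have : w * w' = 1 - C (ε ^ 2) * X i ^ 2 := by simp only [w, w', C_pow]; ring
    rw [this, hε, C_0, zero_mul, sub_zero]
  have hev0 : ev0 A n w = 1 := by simp [w, ev0]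
  let u : (Localization.Away (Δ A n))ˣ :=
    Units.mkOfMulEqOne (algebraMap _ _ w) (algebraMap _ _ w') (by rw [← map_mul, hww', map_one])
  have hu : (u : Localization.Away (Δ A n)) = algebraMap _ _ w := rfl
  -- the two key polynomial identities are impossible
  have hcase0 : ∀ a : Aˣ, C (a : A) ≠ w := by
    intro a h
    have := congrArg (MvPolynomial.coeff (Finsupp.single i 1)) h
    simp only [w, coeff_add, coeff_C_mul, coeff_X] at this
    rw [MvPolynomial.coeff_C, MvPolynomial.coeff_one] at this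
    have hne : (0 : (Fin n × Fin n) →₀ ℕ) ≠ Finsupp.single i 1 := by
      intro h0
      have := congrArg (fun f => f i) h0
      simp at this
    rw [if_neg hne, if_neg hne, zero_add, if_pos trivial, mul_one] at this
    exact hε0 this.symm
  obtain ⟨⟨a, z⟩, haz⟩ := hsurj u
  simp only [Φ] at haz
  obtain ⟨k, rfl | rfl⟩ := Int.eq_nat_or_neg z
  · -- a δ^k = u
    have h1 : C (a : A) * Δ A n ^ k = w := by
      apply algebraMap_inj A n
      rw [← hu, ← haz]
      simp only [Units.val_mul, Units.coe_map, zpow_natCast, Units.val_pow_eq_pow_val, δ_coe,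
        map_mul, map_pow, RingHom.toMonoidHom_eq_coe, MonoidHom.coe_coe, algebraMap_A]
    rcases Nat.eq_zero_or_pos k with rfl | hk
    · rw [pow_zero, mul_one] at h1
      exact hcase0 a h1
    · have := congrArg (ev0 A n) h1
      rw [map_mul, map_pow, ev0_det A n hn, zero_pow hk.ne', mul_zero, hev0] at this
      exact zero_ne_one this
  · -- a δ^(-k) = u
    have h1 : C (a : A) = w * Δ A n ^ k := by
      apply algebraMap_inj A n
      have haz' : Units.map (algebraMap A (Localization.Away (Δ A n))).toMonoidHom a = u * δ A n ^ k := by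
        rw [← haz, zpow_neg, zpow_natCast, mul_assoc, inv_mul_cancel, mul_one]
      have := congrArg (fun v : (Localization.Away (Δ A n))ˣ => (v : Localization.Away (Δ A n))) haz'
      simp only [Units.val_mul, Units.coe_map, Units.val_pow_eq_pow_val, δ_coe,
        RingHom.toMonoidHom_eq_coe, MonoidHom.coe_coe, algebraMap_A, hu] at this
      rw [this, map_mul, map_pow]
    rcases Nat.eq_zero_or_pos k with rfl | hk
    · rw [pow_zero, mul_one] at h1
      exact hcase0 a h1
    · have := congrArg (ev0 A n) h1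
      rw [map_mul, map_pow, ev0_det A n hn, zero_pow hk.ne', mul_zero, ev0_C] at this
      exact a.ne_zero this

theorem main (hconn : ∀ e : A, IsIdempotentElem e → e = 0 ∨ e = 1) (hn : 0 < n) :
    Function.Bijective (Φ A n) ↔ IsReduced A := by
  constructor
  · intro h
    exact reduced_of_surjective A n hn h.2
  · intro h
    exact ⟨Φ_injective A n hn, Φ_surjective A n hconn hn⟩

end converse

end H5S13788

/-- Units of GL_n: let A be a nonzero commutative ring whose only idempotents are 0 and 1, let n ≥ 1,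
let det be the determinant of the generic n × n matrix in the polynomial ring A[X] in its n²
entries, and let A[X, 1/det] be the coordinate ring of GL_n over A. The homomorphism Aˣ × ℤ → (A[X,
1/det])ˣ, (a, e) ↦ a · det^e, is bijective if and only if A is reduced. (The published statement
allows Spec A disconnected, with exponents locally constant ℤ-valued functions on Spec A; this row
is the connected case, to which the published proof reduces.) -/
theorem result (A : Type u) [CommRing A] [Nontrivial A]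
    (hconn : ∀ e : A, IsIdempotentElem e → e = 0 ∨ e = 1) (n : ℕ) (hn : 0 < n) :
    Function.Bijective (fun p : Aˣ × ℤ =>
        Units.map (algebraMap A (Localization.Away (Matrix.mvPolynomialX (Fin n) (Fin n) A).det)).toMonoidHom p.1 *
          (IsLocalization.Away.algebraMap_isUnit (S := Localization.Away (Matrix.mvPolynomialX (Fin n) (Fin n) A).det)
            (Matrix.mvPolynomialX (Fin n) (Fin n) A).det).unit ^ p.2) ↔ IsReduced A := by
  exact H5S13788.main A n hconn hn

end Groth.Agent.S13788
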