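import Groth.Statements.S13792
import Mathlib
import Groth.Agent.Lib.helper4.Curve1

set_option autoImplicit false
universe u
open CategoryTheory AlgebraicGeometry
open Curves

namespace Groth.Agent.S13792

/-- Let k be a field and E an integral k-scheme of finite type whose underlying space has dimension 1,
and let ι : G → E be a closed immersion. Then either ι is an isomorphism or G is finite over k. (The
published statement is about a closed subgroup scheme of an elliptic curve and its proof states this
fact for E geometrically integral; this row assumes only that E is integral.) -/
theorem result {k : Type u} [Field k]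
    {E G : Scheme.{u}} (f : E ⟶ Spec (CommRingCat.of k)) [LocallyOfFiniteType f] [QuasiCompact f]
    [IsIntegral E] (hdim : topologicalKrullDim ↥E = 1) (ι : G ⟶ E) [IsClosedImmersion ι] :
    IsIso ι ∨ IsFinite (ι ≫ f) := by
  have hcl : IsClosed (Set.range ι) := ι.isClosedEmbedding.isClosed_range
  by_cases hξ : genericPoint E ∈ Set.range ι
  · left
    have : Surjective ι := by
      constructor
      rw [← Set.range_eq_univ, Set.eq_univ_iff_forall]
      intro e
      have h1 : closure {genericPoint E} ⊆ Set.range ι :=
        closure_minimal (Set.singleton_subset_iff.2 hξ) hcl
      apply h1
      rw [(genericPoint_spec E).def]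
      trivial
    exact isIso_of_isClosedImmersion_of_surjective ι
  · right
    have hLN : IsLocallyNoetherian E := LocallyOfFiniteType.isLocallyNoetherian f
    have hC : CompactSpace E := QuasiCompact.compactSpace_of_compactSpace f
    have hN : IsNoetherian E := { }
    have hNS : TopologicalSpace.NoetherianSpace E := inferInstance
    have hfinr : (Set.range ι).Finite := by
      apply Groth.Agent.H4Curve.finite_of_isClosed_of_forall_exists_generization hdim.le hcl
      intro z hz
      refine ⟨genericPoint E, genericPoint_specializes z, ?_⟩
      rintro rfl
      exact hξ hz
    have hGfin : Finite G := by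
      have : Finite (Set.range ι) := hfinr.to_subtype
      exact Finite.of_injective (Set.rangeFactorization ι)
        (fun a b hab => ι.isClosedEmbedding.injective (congrArg Subtype.val hab))
    have hqf : LocallyQuasiFinite (ι ≫ f) :=
      LocallyQuasiFinite.of_finite_preimage_singleton _ fun x => Set.toFinite _
    exact IsFinite.of_locallyQuasiFinite (ι ≫ f)

end Groth.Agent.S13792
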