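import Groth.Statements.S13794
import Mathlib

set_option autoImplicit false
universe u
open Polynomial
open Curves

namespace Groth.Agent.S13794

/-- Let k be a field of characteristic not 3 and β ∈ k. If a line ax + by + c = 0 with a³ ≠ b³ is the
tangent line at a flex point of the affine cubic x³ + y³ + β = 3xy, then β is a cube in k. Here the
line is normalised to b ≠ 0 (the roles of x and y are symmetric) and the flex-tangency is expressed
by the restriction of the cubic to the line being λ (x − x₀)³. -/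
theorem result {k : Type u} [Field k] (h3 : (3 : k) ≠ 0)
    (β a b c : k) (hb : b ≠ 0) (hab : a ^ 3 ≠ b ^ 3) (lam x₀ : k)
    (hflex : (X : k[X]) ^ 3 + (C (-a / b) * X + C (-c / b)) ^ 3 + C β - 3 * X * (C (-a / b) * X + C (-c / b)) =
      C lam * (X - C x₀) ^ 3) :
    ∃ γ : k, β = γ ^ 3 := by
  set s : k := -a / b with hs
  set t : k := -c / b with ht
  have hL : (X : k[X]) ^ 3 + (C s * X + C t) ^ 3 + C β - 3 * X * (C s * X + C t) =
      C (1 + s ^ 3) * X ^ 3 + C (3 * s ^ 2 * t - 3 * s) * X ^ 2 + C (3 * s * t ^ 2 - 3 * t) * X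
        + C (t ^ 3 + β) := by
    simp only [map_add, map_sub, map_mul, map_pow, map_one, map_ofNat]
    ring
  have hR : C lam * (X - C x₀) ^ 3 =
      C lam * X ^ 3 + C (-3 * lam * x₀) * X ^ 2 + C (3 * lam * x₀ ^ 2) * X + C (-lam * x₀ ^ 3) := by
    simp only [map_mul, map_pow, map_neg, map_ofNat]
    ring
  rw [hL, hR] at hflex
  have E3 : 1 + s ^ 3 = lam := by
    have := congrArg (fun p : k[X] => p.coeff 3) hflex
    simp only [coeff_add, coeff_C_mul, coeff_X_pow, coeff_X, coeff_C] at this
    norm_num at this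
    linear_combination this
  have E2 : 3 * s ^ 2 * t - 3 * s = -3 * lam * x₀ := by
    have := congrArg (fun p : k[X] => p.coeff 2) hflex
    simp only [coeff_add, coeff_C_mul, coeff_X_pow, coeff_X, coeff_C] at this
    norm_num at this
    linear_combination this
  have E1 : 3 * s * t ^ 2 - 3 * t = 3 * lam * x₀ ^ 2 := by
    have := congrArg (fun p : k[X] => p.coeff 1) hflex
    simp only [coeff_add, coeff_C_mul, coeff_X_pow, coeff_X, coeff_C] at this
    norm_num at this
    linear_combination this
  have E0 : t ^ 3 + β = -lam * x₀ ^ 3 := by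
    have := congrArg (fun p : k[X] => p.coeff 0) hflex
    simp only [coeff_add, coeff_C_mul, coeff_X_pow, coeff_X, coeff_C] at this
    norm_num at this
    linear_combination this
  have E2a : s ^ 2 * t - s = - lam * x₀ := by
    apply mul_left_cancel₀ h3
    linear_combination E2
  have E1a : s * t ^ 2 - t = lam * x₀ ^ 2 := by
    apply mul_left_cancel₀ h3
    linear_combination E1
  set y₀ : k := s * x₀ + t with hy
  have hlam : lam ≠ 0 := by
    rw [← E3, hs]
    intro h
    apply hab
    have hb3 : b ^ 3 ≠ 0 := pow_ne_zero 3 hb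
    field_simp at h
    linear_combination (-1 : k) * h
  have E2' : x₀ = s - s ^ 2 * y₀ := by
    rw [hy]; linear_combination E2a + x₀ * E3
  have E1' : x₀ ^ 2 + s * y₀ ^ 2 - y₀ - s * x₀ = 0 := by
    rw [hy]; linear_combination x₀ ^ 2 * E3 + 2 * x₀ * E2a + E1a
  have hprod : y₀ * (s * y₀ - 1 - s ^ 2 * x₀) = 0 := by
    linear_combination E1' - x₀ * E2'
  have F0 : x₀ ^ 3 + y₀ ^ 3 + β - 3 * x₀ * y₀ = 0 := by
    rw [hy]; linear_combination x₀ ^ 3 * E3 + 3 * x₀ ^ 2 * E2a + 3 * x₀ * E1a + E0
  rcases mul_eq_zero.mp hprod with h0 | h0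
  · refine ⟨-x₀, ?_⟩
    rw [h0] at F0
    linear_combination F0
  · have hx0 : x₀ = 0 := by
      have : lam * x₀ = 0 := by
        rw [← E3]
        linear_combination E2' - s * h0
      exact (mul_eq_zero.mp this).resolve_left hlam
    refine ⟨-y₀, ?_⟩
    rw [hx0] at F0
    linear_combination F0

end Groth.Agent.S13794
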