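import Groth.Statements.S13801
import Mathlib

set_option autoImplicit false

open ChowMon

namespace Groth.Agent.S13801

theorem lemA (p : ℕ) [Fact p.Prime] (x y : ℕ) :
    padicValNat p x.factorial + padicValNat p y.factorial ≤ padicValNat p (x + y).factorial := by
  have h := Nat.add_choose_mul_factorial_mul_factorial x y
  have hC : (x + y).choose y ≠ 0 := (Nat.choose_pos (Nat.le_add_left _ _)).ne'
  rw [← h, padicValNat.mul (mul_ne_zero hC (Nat.factorial_ne_zero _)) (Nat.factorial_ne_zero _),
    padicValNat.mul hC (Nat.factorial_ne_zero _)]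
  omega

theorem lemB (p : ℕ) [Fact p.Prime] {ι : Type*} (s : Finset ι) (a : ι → ℕ) :
    ∑ i ∈ s, padicValNat p (a i).factorial ≤ padicValNat p (∑ i ∈ s, a i).factorial := by
  classical
  induction s using Finset.induction_on with
  | empty => simp
  | insert i s hi ih =>
    rw [Finset.sum_insert hi, Finset.sum_insert hi]
    exact (Nat.add_le_add_left ih _).trans (lemA p _ _)

theorem lemC (p : ℕ) [hp : Fact p.Prime] (x y : ℕ) (hx : 0 < x)
    (hnd : ¬ p ^ padicValNat p (x + y) ∣ x) :
    padicValNat p x.factorial + padicValNat p y.factorial < padicValNat p (x + y).factorial := by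
  have h := Nat.add_choose_mul_factorial_mul_factorial y x
  have hC : (y + x).choose x ≠ 0 := (Nat.choose_pos (Nat.le_add_left _ _)).ne'
  have hpC : p ∣ (y + x).choose x := by
    by_contra hnot
    apply hnd
    obtain ⟨k, rfl⟩ : ∃ k, x = k + 1 := ⟨x - 1, by omega⟩
    have h2 := Nat.add_one_mul_choose_eq (y + k) k
    have hdvd : p ^ padicValNat p (k + 1 + y) ∣ (y + (k + 1)).choose (k + 1) * (k + 1) := by
      have : p ^ padicValNat p (k + 1 + y) ∣ (k + 1 + y) := pow_padicValNat_dvd
      have h3 : (k + 1 + y) ∣ (y + (k + 1)).choose (k + 1) * (k + 1) := by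
        have : (y + k + 1) * (y + k).choose k = (y + (k + 1)).choose (k + 1) * (k + 1) := h2
        rw [← this]
        have : y + k + 1 = k + 1 + y := by omega
        rw [this]
        exact dvd_mul_right _ _
      exact this.trans h3
    have hcop : Nat.Coprime (p ^ padicValNat p (k + 1 + y)) ((y + (k + 1)).choose (k + 1)) :=
      Nat.Coprime.pow_left _ ((Nat.Prime.coprime_iff_not_dvd hp.out).mpr hnot)
    exact hcop.dvd_of_dvd_mul_left hdvd
  have h1 : 1 ≤ padicValNat p ((y + x).choose x) := one_le_padicValNat_of_dvd hC hpC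
  have hxy : x + y = y + x := add_comm _ _
  rw [hxy, ← h, padicValNat.mul (mul_ne_zero hC (Nat.factorial_ne_zero _)) (Nat.factorial_ne_zero _),
    padicValNat.mul hC (Nat.factorial_ne_zero _)]
  omega

/-- For a prime p and positive natural numbers a_1, ..., a_k with sum n one has v_p(a_1!) + ... +
v_p(a_k!) ≤ v_p(n!), and the inequality is strict whenever some a_i is not divisible by p^(v_p(n)). -/
theorem result {k : ℕ} (p : ℕ) [Fact p.Prime]
    (a : Fin k → ℕ) (ha : ∀ i, 0 < a i) :
    (∑ i, padicValNat p (a i).factorial ≤ padicValNat p (∑ i, a i).factorial) ∧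
      ((∃ i, ¬ p ^ padicValNat p (∑ j, a j) ∣ a i) →
        ∑ i, padicValNat p (a i).factorial < padicValNat p (∑ i, a i).factorial) := by
  classical
  refine ⟨lemB p Finset.univ a, ?_⟩
  rintro ⟨i, hi⟩
  have hsum : ∑ j, a j = a i + ∑ j ∈ Finset.univ.erase i, a j :=
    (Finset.add_sum_erase Finset.univ a (Finset.mem_univ i)).symm
  have hsum2 : ∑ j, padicValNat p (a j).factorial =
      padicValNat p (a i).factorial + ∑ j ∈ Finset.univ.erase i, padicValNat p (a j).factorial :=
    (Finset.add_sum_erase Finset.univ (fun j => padicValNat p (a j).factorial) (Finset.mem_univ i)).symm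
  rw [hsum] at hi ⊢
  rw [hsum2]
  have h1 := lemC p (a i) (∑ j ∈ Finset.univ.erase i, a j) (ha i) hi
  have h2 := lemB p (Finset.univ.erase i) a
  omega

end Groth.Agent.S13801
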