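import Groth.Statements.S13806
import Mathlib
import Groth.Agent.Lib.helper20.EtaPt

set_option autoImplicit false
universe u
open EtaPt Groth.Agent.Lib.helper20.EtaPt

namespace Groth.Agent.S13806

/-- For a commutative ring A with finitely many minimal prime ideals and an integral ring map g : A → B
with N_η(g) bijective, there is exactly one ring map g' : B → M_η(A) with g' ∘ g = q_A. Here η is a
natural transformation from the identity of the category of fields to an endofunctor F with F(η_K)
bijective and η_K purely inseparable for every field K, N_η(A) is the product of the F(k(p)) over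
the primes p of A with diagonal map t_A, and M_η(A) ⊆ N_η(A) is the subring of elements sent into
the range of t_R by every ring map from A to a valuation ring R at whose fraction field η is
bijective; q_A : A → M_η(A) is the corestriction of t_A. -/
theorem result (η : EtaPt.FieldEndo.{u}) (A : Type u) [CommRing A]
    (hA : (minimalPrimes A).Finite) (B : Type u) [CommRing B] (g : A →+* B)
    (hg : g.IsIntegral) (hN : Function.Bijective (η.Nmap g)) :
    ∃! g' : B →+* η.M A, g'.comp g = η.q A := by
  have hmaps : ∀ x ∈ η.M A, η.Nmap g x ∈ η.M B := fun x hx => Nmap_mem_M η g hx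
  let φ : η.M A →+* η.M B := (η.Nmap g).restrict (η.M A) (η.M B) hmaps
  have hφ : Function.Bijective φ := by
    constructor
    · intro x y hxy
      apply Subtype.ext
      apply hN.1
      exact congrArg Subtype.val hxy
    · rintro ⟨y, hy⟩
      obtain ⟨x, rfl⟩ := hN.2 y
      have hx : x ∈ η.M A := by
        intro R _ _ _ hR h
        obtain ⟨h', rfl⟩ := exists_lift_valuationRing η g hg hN R hR h
        rw [Nmap_comp]
        exact hy R hR h'
      exact ⟨⟨x, hx⟩, Subtype.ext rfl⟩
  let e : η.M A ≃+* η.M B := RingEquiv.ofBijective φ hφ
  have heq : ∀ a : A, e (η.q A a) = η.q B (g a) := by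
    intro a
    apply Subtype.ext
    exact η.Nmap_t_apply g a
  refine ⟨(e.symm : η.M B →+* η.M A).comp (η.q B), ?_, ?_⟩
  · ext a : 1
    show e.symm (η.q B (g a)) = η.q A a
    rw [← heq, e.symm_apply_apply]
  · intro g'' hg''
    have key : ∀ (g₁ g₂ : B →+* η.M A), g₁.comp g = η.q A → g₂.comp g = η.q A → g₁ = g₂ := by
      intro g₁ g₂ h₁ h₂
      ext b : 1
      apply Subtype.ext
      funext P
      let ev : η.M A →+* η.obj P.asIdeal.ResidueField :=
        (Pi.evalRingHom (fun p : PrimeSpectrum A => η.obj p.asIdeal.ResidueField) P).comp
          (η.M A).subtype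
      have hcomp : (ev.comp g₁).comp g = (ev.comp g₂).comp g := by
        ext a : 1
        have e1 : g₁ (g a) = η.q A a := congrArg (fun k => k a) (congrArg DFunLike.coe h₁)
        have e2 : g₂ (g a) = η.q A a := congrArg (fun k => k a) (congrArg DFunLike.coe h₂)
        show ev (g₁ (g a)) = ev (g₂ (g a))
        rw [e1, e2]
      have := hom_ext_of_Nmap_bijective η g hN.2 (ev.comp g₁) (ev.comp g₂) hcomp
      exact congrArg (fun k => k b) (congrArg DFunLike.coe this)
    apply key _ _ hg''
    ext a : 1
    show e.symm (η.q B (g a)) = η.q A a
    rw [← heq, e.symm_apply_apply]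

end Groth.Agent.S13806
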