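import Groth.Statements.S13805
import Mathlib
import Groth.Agent.Lib.helper20.EtaPt5
import Groth.Agent.S13806
import Groth.Agent.S13802

set_option autoImplicit false
universe u
open EtaPt Groth.Agent.Lib.helper20.EtaPt

namespace Groth.Agent.S13805

/-- For a commutative ring A with finitely many minimal prime ideals, every integral ring map f from
M_η(A) to a reduced ring B with N_η(f) bijective is itself bijective. Here η is a natural
transformation from the identity of the category of fields to an endofunctor F with F(η_K) bijective
and η_K purely inseparable for every field K, N_η(A) is the product of the F(k(p)) over the primes p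
of A with diagonal map t_A, and M_η(A) ⊆ N_η(A) is the subring of elements sent into the range of
t_R by every ring map from A to a valuation ring R at whose fraction field η is bijective; q_A : A →
M_η(A) is the corestriction of t_A. -/
theorem result (η : EtaPt.FieldEndo.{u}) (A : Type u) [CommRing A]
    (hA : (minimalPrimes A).Finite) (B : Type u) [CommRing B] [IsReduced B] (f : η.M A →+* B)
    (hf : f.IsIntegral) (hN : Function.Bijective (η.Nmap f)) : Function.Bijective f := by
  have hqint : (η.q A).IsIntegral := Groth.Agent.S13802.result η A hA
  have hqN : Function.Bijective (η.Nmap (η.q A)) := Nmap_q_bijective η hA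
  have hgint : (f.comp (η.q A)).IsIntegral := RingHom.IsIntegral.trans _ _ hqint hf
  have hgN : Function.Bijective (η.Nmap (f.comp (η.q A))) := by
    have h0 : (η.Nmap (f.comp (η.q A)) : η.N A → η.N B) = η.Nmap f ∘ η.Nmap (η.q A) := by
      funext x
      exact Nmap_comp η (η.q A) f x
    rw [h0]
    exact hN.comp hqN
  obtain ⟨g', hg', -⟩ := Groth.Agent.S13806.result η A hA B (f.comp (η.q A)) hgint hgN
  have hg'a : ∀ a : A, g' (f (η.q A a)) = η.q A a := fun a =>
    congrArg (fun k => k a) (congrArg DFunLike.coe hg')
  have h1 : ∀ x : η.M A, g' (f x) = x := by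
    obtain ⟨u, -, huniq⟩ := Groth.Agent.S13806.result η A hA (η.M A) (η.q A) hqint hqN
    have e1 : (g'.comp f) = u := huniq _ (by
      show (g'.comp f).comp (η.q A) = η.q A
      rw [RingHom.comp_assoc]; exact hg')
    have e2 : RingHom.id (η.M A) = u := huniq _ (by
      show (RingHom.id _).comp (η.q A) = η.q A
      exact RingHom.id_comp _)
    intro x
    exact congrArg (fun k => k x) (congrArg DFunLike.coe (e1.trans e2.symm))
  have h2 : ∀ b : B, f (g' b) = b := by
    intro b
    have hnil : f (g' b) - b ∈ nilradical B := by
      rw [nilradical_eq_sInf, Ideal.mem_sInf]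
      intro J hJ
      haveI : J.IsPrime := hJ
      let π : B →+* J.ResidueField := algebraMap B J.ResidueField
      have hcomp : ((π.comp f).comp g').comp (f.comp (η.q A)) = π.comp (f.comp (η.q A)) := by
        ext a : 1
        show π (f (g' (f (η.q A a)))) = π (f (η.q A a))
        rw [hg'a]
      have h3 := hom_ext_of_Nmap_bijective η (f.comp (η.q A)) hgN.2 ((π.comp f).comp g') π hcomp
      have hb : π (f (g' b)) = π b := congrArg (fun k => k b) (congrArg DFunLike.coe h3)
      have h4 : π (f (g' b) - b) = 0 := by
        rw [map_sub]
        exact sub_eq_zero.mpr hb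
      exact (Ideal.algebraMap_residueField_eq_zero).mp h4
    exact sub_eq_zero.mp (IsReduced.eq_zero _ (mem_nilradical.mp hnil))
  exact ⟨fun x y hxy => by rw [← h1 x, ← h1 y, hxy], fun b => ⟨g' b, h2 b⟩⟩

end Groth.Agent.S13805
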