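import Groth.Statements.S13807
import Mathlib
import Groth.Agent.Lib.helper20.EtaPt

set_option autoImplicit false
universe u
open EtaPt

namespace Groth.Agent.S13807

/-- For a field K the pointwise ring M_η(K) is all of N_η(K) = F(k((0))). Here η is a natural
transformation from the identity of the category of fields to an endofunctor F with F(η_K) bijective
and η_K purely inseparable for every field K, N_η(A) is the product of the F(k(p)) over the primes p
of A with diagonal map t_A, and M_η(A) ⊆ N_η(A) is the subring of elements sent into the range of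
t_R by every ring map from A to a valuation ring R at whose fraction field η is bijective; q_A : A →
M_η(A) is the corestriction of t_A. -/
theorem result (η : EtaPt.FieldEndo.{u}) (K : Type u) [Field K] : η.M K = ⊤ := by
  classical
  rw [Subring.eq_top_iff']
  intro x R _ _ _ hR g
  -- the unique point of Spec K
  let P₀ : PrimeSpectrum K := ⟨⊥, Ideal.isPrime_bot⟩
  let κ := (⊥ : Ideal K).ResidueField
  have hq : ∀ q : PrimeSpectrum R, (⊥ : Ideal K) = q.asIdeal.comap g := by
    intro q
    have hne : q.asIdeal.comap g ≠ ⊤ := (Ideal.IsPrime.comap g).ne_top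
    exact ((Ideal.eq_bot_or_top _).resolve_right hne).symm
  set x₀ : η.obj κ := x P₀ with hx₀
  have hN : ∀ q : PrimeSpectrum R, η.Nmap g x q =
      η.map (Ideal.ResidueField.map (⊥ : Ideal K) q.asIdeal g (hq q)) x₀ := by
    intro q
    exact Groth.Agent.Lib.helper20.EtaPt.Nmap_apply' η g x q P₀ (hq q)
  obtain ⟨n, y₀, hy₀⟩ := η.exists_pow_mem_range_eta κ x₀
  obtain ⟨y, rfl⟩ := Ideal.algebraMap_residueField_surjective (⊥ : Ideal K) y₀
  -- generic point of R
  let q₀ : PrimeSpectrum R := ⟨⊥, Ideal.isPrime_bot⟩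
  let κR := (⊥ : Ideal R).ResidueField
  have hbij : Function.Bijective (η.eta κR) :=
    Groth.Agent.Lib.helper20.EtaPt.eta_bijective_residueField_bot η hR
  have hcompat : ∀ q : PrimeSpectrum R,
      (η.map (Ideal.ResidueField.map (⊥ : Ideal K) q.asIdeal g (hq q)) x₀) ^ ringExpChar κ ^ n =
        η.eta q.asIdeal.ResidueField (algebraMap R q.asIdeal.ResidueField (g y)) := by
    intro q
    rw [← map_pow, ← hy₀, Groth.Agent.Lib.helper20.EtaPt.eta_natural_apply,
      Ideal.ResidueField.map_algebraMap]
  obtain ⟨ℓ, hℓ⟩ := hbij.2 (η.map (Ideal.ResidueField.map (⊥ : Ideal K) q₀.asIdeal g (hq q₀)) x₀)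
  have hℓpow : ℓ ^ ringExpChar κ ^ n = algebraMap R κR (g y) := by
    apply hbij.1
    rw [map_pow, hℓ]
    exact hcompat q₀
  have hpos : 0 < ringExpChar κ ^ n :=
    pow_pos (Groth.Agent.Lib.helper20.EtaPt.ringExpChar_pos κ) n
  have hint : IsIntegral R ℓ := by
    refine ⟨Polynomial.X ^ (ringExpChar κ ^ n) - Polynomial.C (g y),
      Polynomial.monic_X_pow_sub_C _ hpos.ne', ?_⟩
    simp [hℓpow]
  obtain ⟨r, hr⟩ := IsIntegrallyClosed.algebraMap_eq_of_integral hint
  have hrpow : r ^ ringExpChar κ ^ n = g y := by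
    apply IsFractionRing.injective R κR
    rw [map_pow, hr, hℓpow]
  refine ⟨r, ?_⟩
  funext q
  rw [hN q, Groth.Agent.Lib.helper20.EtaPt.t_apply]
  apply Groth.Agent.Lib.helper20.EtaPt.pow_expChar_pow_inj
    ((η.map (Ideal.ResidueField.map (⊥ : Ideal K) q.asIdeal g (hq q))).comp (η.eta κ)) n
  rw [hcompat q, ← map_pow, ← map_pow, hrpow]

end Groth.Agent.S13807
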