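import Groth.Statements.S13808
import Mathlib
import Groth.Agent.Lib.helper20.EtaPt

set_option autoImplicit false
universe u
open EtaPt Groth.Agent.Lib.helper20.EtaPt

namespace Groth.Agent.S13808

/-- For an integral domain A such that η is bijective at the fraction field of A, the projection of
N_η(A) onto its factor F(k((0))) at the generic point is injective on M_η(A). Here η is a natural
transformation from the identity of the category of fields to an endofunctor F with F(η_K) bijective
and η_K purely inseparable for every field K, N_η(A) is the product of the F(k(p)) over the primes p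
of A with diagonal map t_A, and M_η(A) ⊆ N_η(A) is the subring of elements sent into the range of
t_R by every ring map from A to a valuation ring R at whose fraction field η is bijective; q_A : A →
M_η(A) is the corestriction of t_A. -/
theorem result (η : EtaPt.FieldEndo.{u}) (A : Type u) [CommRing A] [IsDomain A] (hA : η.InV A) :
    Set.InjOn (fun x : η.N A => x ⟨⊥, Ideal.isPrime_bot⟩) (η.M A) := by
  intro x hx x' hx' hxx'
  have hd : x - x' ∈ η.M A := Subring.sub_mem _ hx hx'
  have hd0 : (x - x') (gen A) = 0 := by
    show x (gen A) - x' (gen A) = 0
    exact sub_eq_zero.mpr hxx'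
  suffices h : x - x' = 0 from sub_eq_zero.mp h
  funext p
  have hbij := eta_bijective_residueField_bot η hA
  obtain ⟨V, hV, hc⟩ := exists_valuationSubring_center p
  obtain ⟨r, hr⟩ := hd V (InV_of_valuationSubring η hbij V) (gV V hV)
  have hr0 : r = 0 := by
    have := generic_eval η V hV (x - x') r hr 0 (by rw [map_zero, hd0])
    exact Subtype.ext this.symm
  let mV : PrimeSpectrum V := ⟨IsLocalRing.maximalIdeal V, inferInstance⟩
  have h1 := congrFun hr mV
  rw [Nmap_apply' η (gV V hV) (x - x') mV p hc.symm, hr0, map_zero] at h1
  exact (map_eq_zero_iff _ (η.map _).injective).mp h1.symm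

end Groth.Agent.S13808
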