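import Groth.Statements.S13809
import Mathlib
import Groth.Agent.Lib.helper20.EtaPt
import Groth.Agent.S13808

set_option autoImplicit false
universe u
open EtaPt Groth.Agent.Lib.helper20.EtaPt

namespace Groth.Agent.S13809

/-- For an integrally closed domain A such that η is bijective at the fraction field of A, the map q_A :
A → M_η(A) is bijective. Here η is a natural transformation from the identity of the category of
fields to an endofunctor F with F(η_K) bijective and η_K purely inseparable for every field K,
N_η(A) is the product of the F(k(p)) over the primes p of A with diagonal map t_A, and M_η(A) ⊆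
N_η(A) is the subring of elements sent into the range of t_R by every ring map from A to a valuation
ring R at whose fraction field η is bijective; q_A : A → M_η(A) is the corestriction of t_A. -/
theorem result (η : EtaPt.FieldEndo.{u}) (A : Type u) [CommRing A] [IsDomain A] [IsIntegrallyClosed A]
    (hA : η.InV A) : Function.Bijective (η.q A) := by
  have hbij := eta_bijective_residueField_bot η hA
  constructor
  · intro a b hab
    have h1 := congrArg (fun z : η.M A => (z : η.N A) (gen A)) hab
    have h2 : η.eta (Kf A) (algebraMap A (Kf A) a) = η.eta (Kf A) (algebraMap A (Kf A) b) := h1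
    exact IsFractionRing.injective A (Kf A) ((η.eta (Kf A)).injective h2)
  · rintro ⟨x, hx⟩
    obtain ⟨ℓ, hℓ⟩ := hbij.2 (x (gen A))
    have hmem : ℓ ∈ (algebraMap A (Kf A)).range := by
      apply mem_range_of_forall_valuationSubring A (Kf A)
      intro V hV
      obtain ⟨r, hr⟩ := hx V (InV_of_valuationSubring η hbij V) (gV V hV)
      rw [generic_eval η V hV x r hr ℓ hℓ]
      exact r.2
    obtain ⟨a, ha⟩ := hmem
    refine ⟨a, Subtype.ext ?_⟩
    show η.t A a = x
    apply Groth.Agent.S13808.result η A hA (η.t_mem_M A a) hx
    show η.t A a (gen A) = x (gen A)
    rw [t_apply, ← hℓ, ← ha]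

end Groth.Agent.S13809
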