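import Groth.Statements.S13810
import Mathlib
import Groth.Agent.Lib.helper20.EtaPt

set_option autoImplicit false
universe u
open EtaPt Groth.Agent.Lib.helper20.EtaPt

namespace Groth.Agent.S13810

theorem exists_comap_fst_or_snd {A B : Type u} [CommRing A] [CommRing B]
    (r : PrimeSpectrum (A × B)) :
    (∃ p : PrimeSpectrum A, r = PrimeSpectrum.comap (RingHom.fst A B) p) ∨
      (∃ q : PrimeSpectrum B, r = PrimeSpectrum.comap (RingHom.snd A B) q) := by
  obtain ⟨s, rfl⟩ := (PrimeSpectrum.primeSpectrumProd A B).symm.surjective r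
  rcases s with p | q
  · exact Or.inl ⟨p, PrimeSpectrum.primeSpectrumProd_symm_inl p⟩
  · exact Or.inr ⟨q, PrimeSpectrum.primeSpectrumProd_symm_inr q⟩

theorem exists_factor_fst_or_snd {A B : Type u} [CommRing A] [CommRing B] {R : Type*} [CommRing R]
    [IsDomain R] (g : A × B →+* R) :
    (∃ g₁ : A →+* R, g = g₁.comp (RingHom.fst A B)) ∨
      (∃ g₂ : B →+* R, g = g₂.comp (RingHom.snd A B)) := by
  have hid : g (1, 0) * g (0, 1) = 0 := by
    rw [← map_mul]
    have h00 : ((1, 0) : A × B) * (0, 1) = 0 := by
      ext <;> simp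
    rw [h00, map_zero]
  rcases mul_eq_zero.mp hid with h | h
  · right
    have hker : RingHom.ker (RingHom.snd A B) ≤ RingHom.ker g := by
      rintro ⟨a, b⟩ hab
      have hb : b = 0 := hab
      rw [RingHom.mem_ker]
      have h1 : ((a, b) : A × B) = (1, 0) * (a, 0) := by simp [hb]
      rw [h1, map_mul, h, zero_mul]
    exact ⟨(RingHom.snd A B).liftOfRightInverse (fun b => (0, b)) (fun b => rfl) ⟨g, hker⟩,
      ((RingHom.snd A B).liftOfRightInverse_comp _ _ ⟨g, hker⟩).symm⟩
  · left
    have hker : RingHom.ker (RingHom.fst A B) ≤ RingHom.ker g := by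
      rintro ⟨a, b⟩ hab
      have ha : a = 0 := hab
      rw [RingHom.mem_ker]
      have h1 : ((a, b) : A × B) = (0, 1) * (0, b) := by simp [ha]
      rw [h1, map_mul, h, zero_mul]
    exact ⟨(RingHom.fst A B).liftOfRightInverse (fun a => (a, 0)) (fun a => rfl) ⟨g, hker⟩,
      ((RingHom.fst A B).liftOfRightInverse_comp _ _ ⟨g, hker⟩).symm⟩

/-- For commutative rings A and B, the pair of maps N_η of the two projections restricts to a bijection
from M_η(A × B) onto M_η(A) × M_η(B). Here η is a natural transformation from the identity of the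
category of fields to an endofunctor F with F(η_K) bijective and η_K purely inseparable for every
field K, N_η(A) is the product of the F(k(p)) over the primes p of A with diagonal map t_A, and
M_η(A) ⊆ N_η(A) is the subring of elements sent into the range of t_R by every ring map from A to a
valuation ring R at whose fraction field η is bijective; q_A : A → M_η(A) is the corestriction of
t_A. -/
theorem result (η : EtaPt.FieldEndo.{u}) (A B : Type u) [CommRing A] [CommRing B] :
    Set.BijOn (fun x : η.N (A × B) => (η.Nmap (RingHom.fst A B) x, η.Nmap (RingHom.snd A B) x))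
      (η.M (A × B)) ((η.M A : Set (η.N A)) ×ˢ (η.M B : Set (η.N B))) := by
  refine ⟨fun x hx => ⟨Nmap_mem_M η _ hx, Nmap_mem_M η _ hx⟩, ?_, ?_⟩
  · intro x _ y _ hxy
    obtain ⟨h1, h2⟩ := Prod.mk.inj hxy
    funext r
    rcases exists_comap_fst_or_snd r with ⟨p, rfl⟩ | ⟨q, rfl⟩
    · have h3 := congrFun h1 p
      rw [Nmap_apply, Nmap_apply] at h3
      exact (η.map _).injective h3
    · have h3 := congrFun h2 q
      rw [Nmap_apply, Nmap_apply] at h3
      exact (η.map _).injective h3
  · rintro ⟨x₁, x₂⟩ ⟨hx₁, hx₂⟩
    have hex : ∀ r : PrimeSpectrum (A × B), ∃ w : η.obj r.asIdeal.ResidueField,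
        (∀ (p : PrimeSpectrum A) (h : r.asIdeal = p.asIdeal.comap (RingHom.fst A B)),
          η.map (Ideal.ResidueField.map r.asIdeal p.asIdeal (RingHom.fst A B) h) w = x₁ p) ∧
        (∀ (q : PrimeSpectrum B) (h : r.asIdeal = q.asIdeal.comap (RingHom.snd A B)),
          η.map (Ideal.ResidueField.map r.asIdeal q.asIdeal (RingHom.snd A B) h) w = x₂ q) := by
      intro r
      rcases exists_comap_fst_or_snd r with ⟨p₀, rfl⟩ | ⟨q₀, rfl⟩
      · have hb := map_bijective_of_bijective η _
          ((RingHom.surjectiveOnStalks_of_surjective (f := RingHom.fst A B)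
            Prod.fst_surjective).residueFieldMap_bijective
            (PrimeSpectrum.comap (RingHom.fst A B) p₀).asIdeal p₀.asIdeal rfl)
        obtain ⟨w, hw⟩ := hb.2 (x₁ p₀)
        refine ⟨w, fun p h => ?_, fun q h => ?_⟩
        · have hp : p₀ = p := PrimeSpectrum.comap_injective_of_surjective _ Prod.fst_surjective
            (PrimeSpectrum.ext h)
          subst hp
          exact hw
        · exfalso
          have h1 : ((0, 1) : A × B) ∈ (PrimeSpectrum.comap (RingHom.fst A B) p₀).asIdeal := by
            show (0 : A) ∈ p₀.asIdeal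
            exact p₀.asIdeal.zero_mem
          rw [h] at h1
          have h2 : (1 : B) ∈ q.asIdeal := h1
          exact q.2.ne_top ((Ideal.eq_top_iff_one _).mpr h2)
      · have hb := map_bijective_of_bijective η _
          ((RingHom.surjectiveOnStalks_of_surjective (f := RingHom.snd A B)
            Prod.snd_surjective).residueFieldMap_bijective
            (PrimeSpectrum.comap (RingHom.snd A B) q₀).asIdeal q₀.asIdeal rfl)
        obtain ⟨w, hw⟩ := hb.2 (x₂ q₀)
        refine ⟨w, fun p h => ?_, fun q h => ?_⟩
        · exfalso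
          have h1 : ((1, 0) : A × B) ∈ (PrimeSpectrum.comap (RingHom.snd A B) q₀).asIdeal := by
            show (0 : B) ∈ q₀.asIdeal
            exact q₀.asIdeal.zero_mem
          rw [h] at h1
          have h2 : (1 : A) ∈ p.asIdeal := h1
          exact p.2.ne_top ((Ideal.eq_top_iff_one _).mpr h2)
        · have hq : q₀ = q := PrimeSpectrum.comap_injective_of_surjective _ Prod.snd_surjective
            (PrimeSpectrum.ext h)
          subst hq
          exact hw
    choose x hx using hex
    have e1 : η.Nmap (RingHom.fst A B) x = x₁ := by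
      funext p
      rw [Nmap_apply]
      exact (hx _).1 p rfl
    have e2 : η.Nmap (RingHom.snd A B) x = x₂ := by
      funext q
      rw [Nmap_apply]
      exact (hx _).2 q rfl
    refine ⟨x, ?_, ?_⟩
    · intro R _ _ _ hR g
      rcases exists_factor_fst_or_snd g with ⟨g₁, rfl⟩ | ⟨g₂, rfl⟩
      · rw [Nmap_comp, e1]
        exact hx₁ R hR g₁
      · rw [Nmap_comp, e2]
        exact hx₂ R hR g₂
    · show (η.Nmap (RingHom.fst A B) x, η.Nmap (RingHom.snd A B) x) = (x₁, x₂)
      rw [e1, e2]

end Groth.Agent.S13810
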