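import Groth.Statements.S13814
import Mathlib
import Groth.Agent.Lib.helper20.EtaPt3

set_option autoImplicit false
universe u
open EtaPt Groth.Agent.Lib.helper20.EtaPt

namespace Groth.Agent.S13814

/-- Let R be a valuation ring with fraction field K = k((0)) such that η is bijective at K, or such that
every field of the same characteristic as R at which η is bijective is perfect. Then the ring M_η(R)
is again a valuation ring, every element of F(K) is a quotient of generic components of elements of
M_η(R), and an element of F(K) that is both the generic component of an element of M_η(R) and in the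
image of K comes from R. (The published statement assumes nothing about η beyond the standing
conditions, and then fails: for the endofunctor equal to the perfect closure on the fields of
characteristic 2 and transcendence degree at least 2 over the prime field and to the identity on
every other field, and R = F_2(s)[t] localised at (t), neither of the elements (s^(1/2) t, 0) and
(t, 0) of M_η(R) ⊆ F(K) × F_2(s) divides the other, so M_η(R) is not a valuation ring. This row
assumes that η is bijective at Frac R, or that every field of the same characteristic as R at which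
η is bijective is perfect; both the identity and the perfect closure satisfy this.) Here η is a
natural transformation from the identity of the category of fields to an endofunctor F with F(η_K)
bijective and η_K purely inseparable for every field K, N_η(A) is the product of the F(k(p)) over
the primes p of A with diagonal map t_A, and M_η(A) ⊆ N_η(A) is the subring of elements sent into
the range of t_R by every ring map from A to a valuation ring R at whose fraction field η is
bijective; q_A : A → M_η(A) is the corestriction of t_A. -/
theorem result (η : EtaPt.FieldEndo.{u}) (R : Type u) [CommRing R] [IsDomain R] [ValuationRing R]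
    (hη : η.InV R ∨ ∀ (k : Type u) [Field k], ringChar k = ringChar R →
      Function.Bijective (η.eta k) → PerfectField k) :
    IsDomain (η.M R) ∧ PreValuationRing (η.M R) ∧
      (∀ y : η.obj (⊥ : Ideal R).ResidueField, ∃ a b : η.M R,
        (b : η.N R) ⟨⊥, Ideal.isPrime_bot⟩ ≠ 0 ∧
          y * (b : η.N R) ⟨⊥, Ideal.isPrime_bot⟩ = (a : η.N R) ⟨⊥, Ideal.isPrime_bot⟩) ∧
      (fun x : η.N R => x ⟨⊥, Ideal.isPrime_bot⟩) '' (η.M R : Set (η.N R)) ∩
          Set.range (η.eta (⊥ : Ideal R).ResidueField) =
        Set.range ((η.eta (⊥ : Ideal R).ResidueField).comp (algebraMap R (⊥ : Ideal R).ResidueField)) := by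
  have hinj := evGen_injective η R
  have hex : ∀ z : η.obj (Kf R), (iot η (gen R)).IsIntegralElem z → ∃ c : η.M R, evGen η R c = z := by
    intro z hz
    obtain ⟨x, hx, hxz⟩ := exists_mem_M_gen_eq η R hη z hz
    exact ⟨⟨x, hx⟩, hxz⟩
  refine ⟨Function.Injective.isDomain (evGen η R) hinj, ⟨?_⟩, ?_, ?_⟩
  · intro a b
    rcases isIntegralElem_or_inv η R (evGen η R b / evGen η R a) with hz | hz
    · by_cases ha : evGen η R a = 0
      · have ha0 : a = 0 := hinj (by rw [ha, map_zero])
        exact ⟨0, Or.inr (by rw [ha0, mul_zero])⟩
      · obtain ⟨c, hc⟩ := hex _ hz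
        refine ⟨c, Or.inl (hinj ?_)⟩
        rw [map_mul, hc, mul_div_cancel₀ _ ha]
    · by_cases hb : evGen η R b = 0
      · have hb0 : b = 0 := hinj (by rw [hb, map_zero])
        exact ⟨0, Or.inl (by rw [hb0, mul_zero])⟩
      · obtain ⟨c, hc⟩ := hex _ hz
        refine ⟨c, Or.inr (hinj ?_)⟩
        rw [map_mul, hc, inv_div, mul_div_cancel₀ _ hb]
  · intro y
    rcases isIntegralElem_or_inv η R y with hz | hz
    · obtain ⟨a, ha⟩ := hex _ hz
      refine ⟨a, 1, ?_, ?_⟩
      · change evGen η R 1 ≠ 0
        rw [map_one]; exact one_ne_zero
      · change y * evGen η R 1 = evGen η R a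
        rw [map_one, mul_one, ha]
    · by_cases hy : y = 0
      · refine ⟨0, 1, ?_, ?_⟩
        · change evGen η R 1 ≠ 0
          rw [map_one]; exact one_ne_zero
        · change y * evGen η R 1 = evGen η R 0
          rw [map_one, mul_one, map_zero, hy]
      · obtain ⟨b, hb⟩ := hex _ hz
        refine ⟨1, b, ?_, ?_⟩
        · change evGen η R b ≠ 0
          rw [hb]; exact inv_ne_zero hy
        · change y * evGen η R b = evGen η R 1
          rw [hb, map_one, mul_inv_cancel₀ hy]
  · ext y
    constructor
    · rintro ⟨⟨x, hx, rfl⟩, ⟨ℓ, hℓ⟩⟩
      have hint := isIntegralElem_eval η (gen R) hx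
      change (iot η (gen R)).IsIntegralElem (x (gen R)) at hint
      have hℓ' : η.eta (Kf R) ℓ = x (gen R) := hℓ
      rw [← hℓ'] at hint
      obtain ⟨r, hr⟩ := mem_range_of_isIntegralElem_eta η R ℓ hint
      refine ⟨r, ?_⟩
      change η.eta (Kf R) (algebraMap R (Kf R) r) = x (gen R)
      rw [hr, hℓ']
    · rintro ⟨r, rfl⟩
      exact ⟨⟨η.t R r, η.t_mem_M R r, rfl⟩, ⟨algebraMap R _ r, rfl⟩⟩

end Groth.Agent.S13814
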