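import Groth.Statements.S13815
import Mathlib
import Groth.Agent.Lib.helper20.EtaPt5
import Groth.Agent.S13812
import Groth.Agent.S13802

set_option autoImplicit false
universe u
open EtaPt Groth.Agent.Lib.helper20.EtaPt

namespace Groth.Agent.S13815

/-- For a commutative ring A with finitely many minimal prime ideals, the two maps M_η(A) → M_η(M_η(A)),
namely q at the ring M_η(A) and the restriction of N_η(q_A), coincide, and this map is bijective.
Here η is a natural transformation from the identity of the category of fields to an endofunctor F
with F(η_K) bijective and η_K purely inseparable for every field K, N_η(A) is the product of the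
F(k(p)) over the primes p of A with diagonal map t_A, and M_η(A) ⊆ N_η(A) is the subring of elements
sent into the range of t_R by every ring map from A to a valuation ring R at whose fraction field η
is bijective; q_A : A → M_η(A) is the corestriction of t_A. -/
theorem result (η : EtaPt.FieldEndo.{u}) (A : Type u) [CommRing A] (hA : (minimalPrimes A).Finite) :
    (∀ x : η.M A, η.Nmap (η.q A) (x : η.N A) = η.t (η.M A) x) ∧ Function.Bijective (η.q (η.M A)) := by
  refine ⟨fun x => Nmap_q_eq_t η hA x, ?_, ?_⟩
  · intro x y hxy
    have h1 : η.t (η.M A) x = η.t (η.M A) y := congrArg Subtype.val hxy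
    rw [← Nmap_q_eq_t η hA x, ← Nmap_q_eq_t η hA y] at h1
    exact Subtype.ext ((Nmap_q_bijective η hA).1 h1)
  · intro y
    have hbij := Groth.Agent.S13812.result η (η.q A) (Groth.Agent.S13802.result η A hA)
      (Nmap_q_bijective η hA)
    obtain ⟨x, hx, hxy⟩ := hbij.surjOn y.2
    refine ⟨⟨x, hx⟩, Subtype.ext ?_⟩
    change η.t (η.M A) ⟨x, hx⟩ = y.1
    rw [← Nmap_q_eq_t η hA ⟨x, hx⟩]
    exact hxy

end Groth.Agent.S13815
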