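import Groth.Statements.S1382
import Mathlib
import Groth.Agent.Lib.helper22.Deform2

set_option autoImplicit false
universe u
open FlatMor

namespace Groth.Agent.S1382

section Helpers

open CategoryTheory CategoryTheory.Limits AlgebraicGeometry

theorem main {X X' Y Y' S S' : Scheme.{u}} (iX : X ⟶ X') (iY : Y ⟶ Y') (iS : S ⟶ S')
    (f : X ⟶ Y) (f' : X' ⟶ Y') (g : Y ⟶ S) (g' : Y' ⟶ S')
    (hS : MoreMor.IsThickening iS) (hcX : IsPullback iX (f ≫ g) (f' ≫ g') iS)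
    (hcY : IsPullback iY g g' iS)
    (w : iX ≫ f' = f ≫ iY) [Flat (f' ≫ g')] [LocallyOfFinitePresentation (f' ≫ g')]
    [LocallyOfFiniteType g'] :
    IsIso f ↔ IsIso f' := by
  have hsq := Groth.Agent.H22.Deform.isPullback_left iX iY iS f f' g g' hcX hcY w
  constructor
  · intro hf
    have hY := Groth.Agent.H22.ThickBC.isThickening_of_isPullback iY g g' iS hcY hS
    have hX := Groth.Agent.H22.ThickBC.isThickening_of_isPullback iX (f ≫ g) (f' ≫ g') iS hcX hS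
    haveI : IsClosedImmersion iY := hY.1
    haveI : Surjective iY := hY.2
    haveI : IsClosedImmersion iX := hX.1
    haveI : Surjective iX := hX.2
    haveI : LocallyOfFiniteType (f' ≫ g') := inferInstance
    haveI : LocallyOfFiniteType f' := locallyOfFiniteType_of_comp f' g'
    haveI : IsClosedImmersion f' :=
      Groth.Agent.H22.ThickCI.isClosedImmersion_of_isPullback iX f f' iY hsq
    rw [IsClosedImmersion.isIso_iff_ker_eq_bot]
    refine le_bot_iff.mp ?_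
    have hcov : ∀ y' : Y', ∃ (U : Y'.affineOpens), y' ∈ U.1 ∧
        ∃ (W : S'.Opens) (_ : IsAffineOpen W), U.1 ≤ g' ⁻¹ᵁ W := by
      intro y'
      obtain ⟨_, ⟨W : S'.Opens, hW, rfl⟩, hpW, -⟩ :=
        S'.isBasis_affineOpens.exists_subset_of_mem_open (Set.mem_univ (g' y')) isOpen_univ
      obtain ⟨_, ⟨U : Y'.Opens, hU, rfl⟩, hpU, hUW : U ≤ g' ⁻¹ᵁ W⟩ :=
        Y'.isBasis_affineOpens.exists_subset_of_mem_open hpW (g' ⁻¹ᵁ W).isOpen
      exact ⟨⟨U, hU⟩, hpU, W, hW, hUW⟩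
    choose U hpU W hW hUW using hcov
    refine Scheme.IdealSheafData.le_of_iSup_eq_top U
      (top_le_iff.mp fun p _ => TopologicalSpace.Opens.mem_iSup.mpr ⟨p, hpU p⟩) (fun p => ?_)
    rw [Scheme.IdealSheafData.ideal_bot, Pi.bot_apply, Scheme.Hom.ker_apply]
    have hV : IsAffineOpen (f' ⁻¹ᵁ (U p).1) := (U p).2.preimage f'
    have hpre : iX ⁻¹ᵁ (f' ⁻¹ᵁ (U p).1) = f ⁻¹ᵁ (iY ⁻¹ᵁ (U p).1) := by
      change (iX ≫ f') ⁻¹ᵁ (U p).1 = (f ≫ iY) ⁻¹ᵁ (U p).1
      rw [w]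
    have e' : iX ⁻¹ᵁ (f' ⁻¹ᵁ (U p).1) ≤ f ⁻¹ᵁ (iY ⁻¹ᵁ (U p).1) := hpre.le
    have hdata := Groth.Agent.H22.Deform.thickData hS hcX hcY w (hW p) (U p).2 hV (hUW p)
      le_rfl e'
    have hφ : Function.Injective (f.appLE (iY ⁻¹ᵁ (U p).1) (iX ⁻¹ᵁ (f' ⁻¹ᵁ (U p).1)) e').hom := by
      haveI : IsIso (homOfLE e') := ⟨homOfLE hpre.ge, Subsingleton.elim _ _, Subsingleton.elim _ _⟩
      haveI : IsIso (f.appLE (iY ⁻¹ᵁ (U p).1) (iX ⁻¹ᵁ (f' ⁻¹ᵁ (U p).1)) e') := by
        rw [Scheme.Hom.appLE]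
        infer_instance
      exact (ConcreteCategory.bijective_of_isIso _).1
    have happ : f'.appLE (U p).1 (f' ⁻¹ᵁ (U p).1) le_rfl = f'.app (U p).1 :=
      (Scheme.Hom.app_eq_appLE f').symm
    have hφ' : Function.Surjective (f'.appLE (U p).1 (f' ⁻¹ᵁ (U p).1) le_rfl).hom := by
      rw [happ]
      exact f'.app_surjective _ (U p).2
    have eW : f' ⁻¹ᵁ (U p).1 ≤ (f' ≫ g') ⁻¹ᵁ (W p) := fun y hy => hUW p hy
    have hfp : ((f'.appLE (U p).1 (f' ⁻¹ᵁ (U p).1) le_rfl).hom.comp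
        (g'.appLE (W p) (U p).1 (hUW p)).hom).FinitePresentation := by
      have := HasRingHomProperty.appLE @LocallyOfFinitePresentation (f' ≫ g') inferInstance
        ⟨W p, hW p⟩ ⟨_, hV⟩ eW
      rw [← Scheme.Hom.appLE_comp_appLE _ _ _ _ _ (hUW p) le_rfl] at this
      exact this
    have hft : (g'.appLE (W p) (U p).1 (hUW p)).hom.FiniteType :=
      g'.finiteType_appLE (hW p) (U p).2 (hUW p)
    have hinj := hdata.injective hφ hφ' hfp hft
    rw [happ] at hinj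
    exact le_of_eq ((RingHom.injective_iff_ker_eq_bot _).mp hinj)
  · intro hf'
    exact MorphismProperty.of_isPullback (P := MorphismProperty.isomorphisms Scheme.{u}) hsq hf'

end Helpers

open AlgebraicGeometry CategoryTheory Limits in
/-- Let S ⟶ S' be an arbitrary thickening, let X' ⟶ Y' be a morphism of schemes over S' with X' flat and
locally of finite presentation over S' and Y' locally of finite type over S', and let X ⟶ Y be its
base change to S. Then X ⟶ Y is an isomorphism if and only if X' ⟶ Y' is. -/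
theorem result {X X' Y Y' S S' : Scheme.{u}} (iX : X ⟶ X') (iY : Y ⟶ Y') (iS : S ⟶ S')
    (f : X ⟶ Y) (f' : X' ⟶ Y') (g : Y ⟶ S) (g' : Y' ⟶ S')
    (hS : MoreMor.IsThickening iS) (hcX : IsPullback iX (f ≫ g) (f' ≫ g') iS) (hcY : IsPullback iY g g' iS)
    (w : iX ≫ f' = f ≫ iY) [Flat (f' ≫ g')] [LocallyOfFinitePresentation (f' ≫ g')] [LocallyOfFiniteType g'] :
    IsIso f ↔ IsIso f' := by
  exact main iX iY iS f f' g g' hS hcX hcY w

end Groth.Agent.S1382
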