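import Groth.Statements.S13820
import Mathlib
import Groth.Agent.Lib.helper20.EtaPt7

set_option autoImplicit false
universe u
open EtaPt Groth.Agent.Lib.helper20.EtaPt

namespace Groth.Agent.S13820

/-- Let A have finitely many minimal prime ideals and let B be an A-algebra with Spec B → Spec A
surjective, C the integral closure of A in B; then the inclusion C ⊆ B carries (C/A)_η onto (B/A)_η.
Here η is a natural transformation from the identity of the category of fields to an endofunctor F
with F(η_K) bijective and η_K purely inseparable for every field K, N_η(A) is the product of the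
F(k(p)) over the primes p of A with diagonal map t_A, and M_η(A) ⊆ N_η(A) is the subring of elements
sent into the range of t_R by every ring map from A to a valuation ring R at whose fraction field η
is bijective; q_A : A → M_η(A) is the corestriction of t_A. For a ring map f : A → B, (B/A)_η ⊆ B
denotes the subring of elements b with t_B(b) in N_η(f)(M_η(A)) (the image in B of the fibre product
of M_η(A) and B over M_η(B)), and q_{B/A} : A → (B/A)_η the corestriction of f. -/
theorem result (η : EtaPt.FieldEndo.{u}) (A B : Type u) [CommRing A] [CommRing B] [Algebra A B]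
    (hA : (minimalPrimes A).Finite) (hs : Function.Surjective (PrimeSpectrum.comap (algebraMap A B))) :
    (η.rel (algebraMap A (integralClosure A B))).map (integralClosure A B).val.toRingHom =
      η.rel (algebraMap A B) := by
  have hcomp : algebraMap A B =
      ((integralClosure A B).val.toRingHom).comp (algebraMap A (integralClosure A B)) :=
    RingHom.ext fun a => rfl
  ext b
  rw [Subring.mem_map]
  constructor
  · rintro ⟨c, ⟨x, hx, hxc⟩, rfl⟩
    refine ⟨x, hx, ?_⟩
    rw [hcomp, Nmap_comp, hxc, η.Nmap_t_apply]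
  · rintro ⟨x, hx, hxb⟩
    have hint : IsIntegral A b := isIntegralElem_of_mem_rel η (algebraMap A B) hA b ⟨x, hx, hxb⟩
    refine ⟨⟨b, hint⟩, ?_, rfl⟩
    refine ⟨x, hx, ?_⟩
    have hy : η.Nmap (algebraMap A (integralClosure A B)) x -
        η.t (integralClosure A B) ⟨b, hint⟩ ∈ η.M (integralClosure A B) :=
      Subring.sub_mem _ (Nmap_mem_M η _ hx) (η.t_mem_M _ _)
    have hy0 : η.Nmap (integralClosure A B).val.toRingHom
        (η.Nmap (algebraMap A (integralClosure A B)) x -
          η.t (integralClosure A B) ⟨b, hint⟩) = 0 := by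
      rw [map_sub, ← Nmap_comp, ← hcomp, hxb, η.Nmap_t_apply]
      exact sub_self _
    have h0 : η.Nmap (algebraMap A (integralClosure A B)) x -
        η.t (integralClosure A B) ⟨b, hint⟩ = 0 := by
      funext 𝔮
      obtain ⟨𝔮₀, h𝔮₀min, h𝔮₀le⟩ := Ideal.exists_minimalPrimes_le
        (bot_le : (⊥ : Ideal (integralClosure A B)) ≤ 𝔮.asIdeal)
      obtain ⟨𝔔, h𝔔prime, h𝔔c⟩ := Ideal.exists_comap_eq_of_mem_minimalPrimes_of_injective
        (f := (integralClosure A B).val.toRingHom) Subtype.val_injective 𝔮₀ h𝔮₀min
      have h1 := congrFun hy0 ⟨𝔔, h𝔔prime⟩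
      rw [Nmap_apply' η _ _ ⟨𝔔, h𝔔prime⟩ ⟨𝔮₀, h𝔮₀min.1.1⟩ h𝔔c.symm] at h1
      have h2 : (η.Nmap (algebraMap A (integralClosure A B)) x -
          η.t (integralClosure A B) ⟨b, hint⟩) ⟨𝔮₀, h𝔮₀min.1.1⟩ = 0 :=
        (map_eq_zero_iff _ (η.map _).injective).mp h1
      exact eq_zero_of_le η ⟨𝔮₀, h𝔮₀min.1.1⟩ hy h2 𝔮 h𝔮₀le
    exact sub_eq_zero.mp h0

end Groth.Agent.S13820
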