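import Groth.Statements.S13822
import Mathlib
import Groth.Agent.Lib.helper20.EtaPt

set_option autoImplicit false
universe u
open scoped TensorProduct
open EtaPt Groth.Agent.Lib.helper20.EtaPt

namespace Groth.Agent.S13822

/-- Let A → A' be faithfully flat with A and A' having finitely many minimal prime ideals, and B an
A-algebra with Spec B → Spec A surjective; if q_{(A' ⊗ B)/A'} is bijective then q_{B/A} is
bijective. Here η is a natural transformation from the identity of the category of fields to an
endofunctor F with F(η_K) bijective and η_K purely inseparable for every field K, N_η(A) is the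
product of the F(k(p)) over the primes p of A with diagonal map t_A, and M_η(A) ⊆ N_η(A) is the
subring of elements sent into the range of t_R by every ring map from A to a valuation ring R at
whose fraction field η is bijective; q_A : A → M_η(A) is the corestriction of t_A. For a ring map f
: A → B, (B/A)_η ⊆ B denotes the subring of elements b with t_B(b) in N_η(f)(M_η(A)) (the image in B
of the fibre product of M_η(A) and B over M_η(B)), and q_{B/A} : A → (B/A)_η the corestriction of f. -/
theorem result (η : EtaPt.FieldEndo.{u}) (A A' B : Type u) [CommRing A] [CommRing A'] [CommRing B]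
    [Algebra A A'] [Algebra A B] [Module.FaithfullyFlat A A']
    (hA : (minimalPrimes A).Finite) (hA' : (minimalPrimes A').Finite)
    (hs : Function.Surjective (PrimeSpectrum.comap (algebraMap A B)))
    (h : Function.Bijective (η.qRel (Algebra.TensorProduct.includeLeftRingHom : A' →+* A' ⊗[A] B))) :
    Function.Bijective (η.qRel (algebraMap A B)) := by
  have hsq : (Algebra.TensorProduct.includeLeftRingHom : A' →+* A' ⊗[A] B).comp (algebraMap A A') =
      (Algebra.TensorProduct.includeRight : B →ₐ[A] A' ⊗[A] B).toRingHom.comp (algebraMap A B) :=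
    Algebra.TensorProduct.includeLeftRingHom_comp_algebraMap
  have hsq' : ∀ a : A, (algebraMap A A' a) ⊗ₜ[A] (1 : B) = (1 : A') ⊗ₜ[A] (algebraMap A B a) :=
    fun a => congrArg (fun k => k a) (congrArg DFunLike.coe hsq)
  have hiLinj : Function.Injective
      (Algebra.TensorProduct.includeLeftRingHom : A' →+* A' ⊗[A] B) := by
    intro a₁ a₂ h12
    exact h.1 (Subtype.ext h12)
  have hAinj : Function.Injective (algebraMap A A') := FaithfulSMul.algebraMap_injective A A'
  constructor
  · intro a₁ a₂ h12
    have h1 : algebraMap A B a₁ = algebraMap A B a₂ := congrArg Subtype.val h12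
    apply hAinj
    apply hiLinj
    show (algebraMap A A' a₁) ⊗ₜ[A] (1 : B) = (algebraMap A A' a₂) ⊗ₜ[A] (1 : B)
    rw [hsq', hsq', h1]
  · rintro ⟨c, x, hx, hxc⟩
    have hc : (1 : A') ⊗ₜ[A] c ∈ η.rel
        (Algebra.TensorProduct.includeLeftRingHom : A' →+* A' ⊗[A] B) := by
      refine ⟨η.Nmap (algebraMap A A') x, Nmap_mem_M η _ hx, ?_⟩
      rw [← Nmap_comp, hsq, Nmap_comp, hxc, η.Nmap_t_apply]
      rfl
    obtain ⟨a', ha'⟩ := h.2 ⟨_, hc⟩
    have ha'c : a' ⊗ₜ[A] (1 : B) = (1 : A') ⊗ₜ[A] c := congrArg Subtype.val ha'
    have hex := lTensor_exact A' (LinearMap.exact_map_mkQ_range (Algebra.linearMap A B))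
      (Submodule.mkQ_surjective _)
    have h2 : (LinearMap.lTensor A' (LinearMap.range (Algebra.linearMap A B)).mkQ)
        ((1 : A') ⊗ₜ[A] c) = 0 := by
      apply (hex _).mpr
      refine ⟨a' ⊗ₜ[A] (1 : A), ?_⟩
      rw [LinearMap.lTensor_tmul, Algebra.linearMap_apply, map_one, ha'c]
    rw [LinearMap.lTensor_tmul] at h2
    have h3 : (LinearMap.range (Algebra.linearMap A B)).mkQ c = 0 := by
      apply Module.FaithfullyFlat.tensorProduct_mk_injective (A := A) (B := A')
      rw [map_zero]
      exact h2
    rw [Submodule.mkQ_apply, Submodule.Quotient.mk_eq_zero] at h3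
    obtain ⟨a, ha⟩ := h3
    exact ⟨a, Subtype.ext ha⟩

end Groth.Agent.S13822
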