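import Groth.Statements.S13823
import Mathlib
import Groth.Agent.Lib.helper20.EtaPt

set_option autoImplicit false
universe u
open EtaPt Groth.Agent.Lib.helper20.EtaPt

namespace Groth.Agent.S13823

/-- Let A → A' be faithfully flat with A and A' having finitely many minimal prime ideals, and let Ā, Ā'
be the integral closures of A, A' in their total rings of fractions; if q_{Ā'/A'} is bijective then
q_{Ā/A} is bijective. Here η is a natural transformation from the identity of the category of fields
to an endofunctor F with F(η_K) bijective and η_K purely inseparable for every field K, N_η(A) is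
the product of the F(k(p)) over the primes p of A with diagonal map t_A, and M_η(A) ⊆ N_η(A) is the
subring of elements sent into the range of t_R by every ring map from A to a valuation ring R at
whose fraction field η is bijective; q_A : A → M_η(A) is the corestriction of t_A. For a ring map f
: A → B, (B/A)_η ⊆ B denotes the subring of elements b with t_B(b) in N_η(f)(M_η(A)) (the image in B
of the fibre product of M_η(A) and B over M_η(B)), and q_{B/A} : A → (B/A)_η the corestriction of f. -/
theorem result (η : EtaPt.FieldEndo.{u}) (A A' : Type u) [CommRing A] [CommRing A'] [Algebra A A'] [Module.FaithfullyFlat A A']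
    (hA : (minimalPrimes A).Finite) (hA' : (minimalPrimes A').Finite)
    (h : Function.Bijective (η.qRel (algebraMap A' (integralClosure A' (FractionRing A'))))) :
    Function.Bijective (η.qRel (algebraMap A (integralClosure A (FractionRing A)))) := by
  have hy : nonZeroDivisors A ≤ (nonZeroDivisors A').comap (algebraMap A A') := by
    intro s hs
    rw [Submonoid.mem_comap, mem_nonZeroDivisors_iff_right]
    intro z hz
    have hreg : IsSMulRegular A' s :=
      Module.Flat.isSMulRegular_of_nonZeroDivisors hs
    apply hreg
    show s • z = s • (0 : A')
    rw [smul_zero, Algebra.smul_def, mul_comm]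
    exact hz
  let Ψ : FractionRing A →+* FractionRing A' :=
    IsLocalization.map (FractionRing A') (algebraMap A A') hy
  have hΨ : ∀ a : A, Ψ (algebraMap A (FractionRing A) a) =
      algebraMap A' (FractionRing A') (algebraMap A A' a) := fun a => IsLocalization.map_eq hy a
  have hΨc : Ψ.comp (algebraMap A (FractionRing A)) =
      (algebraMap A' (FractionRing A')).comp (algebraMap A A') := RingHom.ext hΨ
  have hint : ∀ c : integralClosure A (FractionRing A),
      Ψ c.1 ∈ integralClosure A' (FractionRing A') := by
    intro c
    have h1 : (algebraMap A (FractionRing A)).IsIntegralElem c.1 := c.2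
    have h2 := h1.map Ψ
    rw [hΨc] at h2
    exact RingHom.isIntegralElem.of_comp (f := algebraMap A A') (g := algebraMap A' (FractionRing A')) h2
  let ψ : integralClosure A (FractionRing A) →+* integralClosure A' (FractionRing A') :=
    (Ψ.comp (integralClosure A (FractionRing A)).val.toRingHom).codRestrict _ hint
  have hψ : ψ.comp (algebraMap A (integralClosure A (FractionRing A))) =
      (algebraMap A' (integralClosure A' (FractionRing A'))).comp (algebraMap A A') := by
    ext a : 1
    apply Subtype.ext
    exact hΨ a
  have hinjA : Function.Injective (algebraMap A (FractionRing A)) :=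
    IsLocalization.injective (FractionRing A) (le_refl (nonZeroDivisors A))
  have hinjA' : Function.Injective (algebraMap A' (FractionRing A')) :=
    IsLocalization.injective (FractionRing A') (le_refl (nonZeroDivisors A'))
  constructor
  · intro a₁ a₂ h12
    apply hinjA
    have h1 : algebraMap A (integralClosure A (FractionRing A)) a₁ =
        algebraMap A (integralClosure A (FractionRing A)) a₂ := congrArg Subtype.val h12
    exact congrArg Subtype.val h1
  · rintro ⟨c, x, hx, hxc⟩
    have hc : ψ c ∈ η.rel (algebraMap A' (integralClosure A' (FractionRing A'))) := by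
      refine ⟨η.Nmap (algebraMap A A') x, Nmap_mem_M η _ hx, ?_⟩
      rw [← Nmap_comp, ← hψ, Nmap_comp, hxc, η.Nmap_t_apply]
    obtain ⟨a', ha'⟩ := h.2 ⟨_, hc⟩
    have ha'c : algebraMap A' (FractionRing A') a' = Ψ c.1 :=
      congrArg Subtype.val (congrArg Subtype.val ha')
    obtain ⟨a, s, hcs⟩ := IsLocalization.exists_mk'_eq (nonZeroDivisors A) c.1
    have h1 : c.1 * algebraMap A (FractionRing A) s = algebraMap A (FractionRing A) a := by
      rw [← hcs]
      exact IsLocalization.mk'_spec _ a s
    have h2 : a' * algebraMap A A' s = algebraMap A A' a := by
      apply hinjA'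
      rw [map_mul, ha'c, ← hΨ, ← hΨ, ← map_mul, h1]
    have h3 : a ∈ Ideal.span {(s : A)} := by
      rw [← Ideal.comap_map_eq_self_of_faithfullyFlat (B := A') (Ideal.span {(s : A)}),
        Ideal.mem_comap, Ideal.map_span, Set.image_singleton, Ideal.mem_span_singleton']
      exact ⟨a', h2⟩
    obtain ⟨a₀, ha₀⟩ := Ideal.mem_span_singleton'.mp h3
    refine ⟨a₀, Subtype.ext (Subtype.ext ?_)⟩
    show algebraMap A (FractionRing A) a₀ = c.1
    have hu : IsUnit (algebraMap A (FractionRing A) s) := IsLocalization.map_units _ s
    apply hu.mul_left_injective
    show _ * _ = c.1 * _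
    rw [h1, ← map_mul, ha₀]

end Groth.Agent.S13823
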