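import Groth.Statements.S13826
import Mathlib
import Groth.Agent.Lib.helper20.EtaPt5
import Groth.Agent.Lib.helper20.SpecBridge
import Groth.Agent.S13806
import Groth.Agent.S13802

set_option autoImplicit false
universe u
open EtaPt Groth.Agent.Lib.helper20.EtaPt Groth.Agent.Lib.helper20.SpecBridge

namespace Groth.Agent.S13826

/-- For the identity endofunctor and a commutative ring A with finitely many minimal prime ideals, q_A :
A → M(A) is a seminormalization of A: Spec(q_A) is a universal homeomorphism with trivial residue
field extensions, final among ring maps out of A with these properties. Here M(A) ⊆ ∏_p k(p) is the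
subring of families whose image in ∏_q k(q), for every ring map from A to a valuation ring R, is the
diagonal image of an element of R. -/
theorem result (A : Type u) [CommRing A] (hA : (minimalPrimes A).Finite) :
    HTop.IsRingSN (EtaPt.FieldEndo.ident.{u}.q A) := by
  have hη : ∀ {K L : Type u} [Field K] [Field L] (ρ : K →+* L),
      EtaPt.FieldEndo.ident.{u}.map ρ = ρ := fun ρ => rfl
  refine ⟨?_, ?_⟩
  · rw [univHomeo_and_residueFieldsIso_iff]
    refine ⟨Groth.Agent.S13802.result _ A hA, comap_q_bijective _ hA, fun Q => ?_⟩
    exact map_rho_bijective EtaPt.FieldEndo.ident.{u} hA Q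
  · intro C _ ψ h1 h2
    obtain ⟨hint, hbij, hres⟩ := (univHomeo_and_residueFieldsIso_iff ψ).mp ⟨h1, h2⟩
    have hN : Function.Bijective (EtaPt.FieldEndo.ident.{u}.Nmap ψ) :=
      Nmap_bijective_of _ ψ hbij hres
    exact Groth.Agent.S13806.result _ A hA C ψ hint hN

end Groth.Agent.S13826
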