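import Groth.Statements.S13827
import Mathlib
import Groth.Agent.Lib.helper20.EtaPtLoc
import Groth.Agent.Lib.helper20.EtaPt6
import Groth.Agent.S13809

set_option autoImplicit false
universe u
open EtaPt Groth.Agent.Lib.helper20.EtaPt

namespace Groth.Agent.S13827

theorem exists_mul_eq_t (η : EtaPt.FieldEndo.{u}) (A : Type u) [CommRing A]
    (hn : EGA4.IsNormalRing A) (hA : (minimalPrimes A).Finite)
    (hη : ∀ p : PrimeSpectrum A, p.asIdeal ∈ minimalPrimes A →
      Function.Bijective (η.eta p.asIdeal.ResidueField))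
    {x : η.N A} (hx : x ∈ η.M A) (P : PrimeSpectrum A) :
    ∃ s, s ∉ P.asIdeal ∧ ∃ b : A, η.t A s * x = η.t A b := by
  classical
  obtain ⟨hdom, hic⟩ := hn P.asIdeal
  haveI : IsDomain (Localization.AtPrime P.asIdeal) := hdom
  haveI : IsIntegrallyClosed (Localization.AtPrime P.asIdeal) := hic
  let p0 : PrimeSpectrum A :=
    PrimeSpectrum.comap (algebraMap A (Localization.AtPrime P.asIdeal))
      (gen (Localization.AtPrime P.asIdeal))
  have hp0d : Disjoint (P.asIdeal.primeCompl : Set A) p0.asIdeal :=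
    disjoint_of_eq_comap P.asIdeal.primeCompl (Localization.AtPrime P.asIdeal)
      (gen (Localization.AtPrime P.asIdeal)) p0 rfl
  have hp0le : p0.asIdeal ≤ P.asIdeal := by
    intro a ha
    by_contra haP
    exact Set.disjoint_left.mp hp0d haP ha
  have hp0min : p0.asIdeal ∈ minimalPrimes A := by
    obtain ⟨𝔮, h𝔮min, h𝔮le⟩ := Ideal.exists_minimalPrimes_le (bot_le : (⊥ : Ideal A) ≤ p0.asIdeal)
    have hle : p0.asIdeal ≤ 𝔮 := by
      intro a ha
      have ha0 : algebraMap A (Localization.AtPrime P.asIdeal) a = 0 := ha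
      obtain ⟨u, hu⟩ := (IsLocalization.map_eq_zero_iff P.asIdeal.primeCompl
        (Localization.AtPrime P.asIdeal) a).mp ha0
      have h1 : (u : A) * a ∈ 𝔮 := by rw [hu]; exact 𝔮.zero_mem
      rcases h𝔮min.1.1.mem_or_mem h1 with h | h
      · exact absurd (hp0le (h𝔮le h)) u.2
      · exact h
    have heq : p0.asIdeal = 𝔮 := le_antisymm hle h𝔮le
    rw [heq]
    exact h𝔮min
  have hbij0 : Function.Bijective (η.eta p0.asIdeal.ResidueField) := hη p0 hp0min
  have hKf : Function.Bijective (η.eta (Kf (Localization.AtPrime P.asIdeal))) :=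
    eta_bijective_of_bijective η
      (Ideal.ResidueField.map p0.asIdeal (⊥ : Ideal (Localization.AtPrime P.asIdeal))
        (algebraMap A (Localization.AtPrime P.asIdeal)) rfl)
      ((RingHom.surjectiveOnStalks_of_isLocalization P.asIdeal.primeCompl
        (Localization.AtPrime P.asIdeal)).residueFieldMap_bijective _ _ rfl) hbij0
  have hInV : η.InV (Localization.AtPrime P.asIdeal) :=
    eta_bijective_of_bijective η
      (((FractionRing.algEquiv (Localization.AtPrime P.asIdeal)
        (Kf (Localization.AtPrime P.asIdeal))).symm : Kf (Localization.AtPrime P.asIdeal) ≃ₐ[_] _) :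
        Kf (Localization.AtPrime P.asIdeal) →+* FractionRing (Localization.AtPrime P.asIdeal))
      (AlgEquiv.bijective _) hKf
  obtain ⟨c, hc⟩ := (Groth.Agent.S13809.result η (Localization.AtPrime P.asIdeal) hInV).2
    ⟨η.Nmap (algebraMap A (Localization.AtPrime P.asIdeal)) x, Nmap_mem_M η _ hx⟩
  have hc' : η.t (Localization.AtPrime P.asIdeal) c =
      η.Nmap (algebraMap A (Localization.AtPrime P.asIdeal)) x := congrArg Subtype.val hc
  obtain ⟨b, s, rfl⟩ := IsLocalization.exists_mk'_eq P.asIdeal.primeCompl c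
  have hz : η.Nmap (algebraMap A (Localization.AtPrime P.asIdeal)) (η.t A s * x - η.t A b) = 0 := by
    rw [map_sub, map_mul, η.Nmap_t_apply, η.Nmap_t_apply, ← hc', ← map_mul, mul_comm,
      IsLocalization.mk'_spec, sub_self]
  letI : Fintype (minimalPrimes A) := hA.fintype
  have hex : ∀ 𝔭 : minimalPrimes A, ∃ e : A, e ∉ P.asIdeal ∧
      (¬ (𝔭 : Ideal A) ≤ P.asIdeal → e ∈ (𝔭 : Ideal A)) := by
    intro 𝔭
    by_cases h : (𝔭 : Ideal A) ≤ P.asIdeal
    · exact ⟨1, fun h1 => P.2.ne_top ((Ideal.eq_top_iff_one _).mpr h1), fun h' => absurd h h'⟩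
    · obtain ⟨e, he𝔭, heP⟩ := SetLike.not_le_iff_exists.mp h
      exact ⟨e, heP, fun _ => he𝔭⟩
  choose e heP he𝔭 using hex
  refine ⟨(∏ 𝔭, e 𝔭) * s, ?_, (∏ 𝔭, e 𝔭) * b, ?_⟩
  · intro hmem
    rcases P.2.mem_or_mem hmem with h | h
    · obtain ⟨𝔭, -, h𝔭⟩ := (Ideal.IsPrime.prod_mem_iff).mp h
      exact heP 𝔭 h𝔭
    · exact s.2 h
  · have hzM : η.t A s * x - η.t A b ∈ η.M A :=
      Subring.sub_mem _ (Subring.mul_mem _ (η.t_mem_M A s) hx) (η.t_mem_M A b)
    have hEz : η.t A (∏ 𝔭, e 𝔭) * (η.t A s * x - η.t A b) = 0 := by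
      have hM : η.t A (∏ 𝔭, e 𝔭) * (η.t A s * x - η.t A b) ∈ η.M A :=
        Subring.mul_mem _ (η.t_mem_M A _) hzM
      funext Q
      obtain ⟨𝔮, h𝔮min, h𝔮le⟩ := Ideal.exists_minimalPrimes_le (bot_le : (⊥ : Ideal A) ≤ Q.asIdeal)
      haveI : 𝔮.IsPrime := h𝔮min.1.1
      apply eq_zero_of_le η ⟨𝔮, h𝔮min.1.1⟩ hM ?_ Q h𝔮le
      rw [Pi.mul_apply]
      by_cases h : 𝔮 ≤ P.asIdeal
      · have hd : Disjoint (P.asIdeal.primeCompl : Set A) (⟨𝔮, h𝔮min.1.1⟩ : PrimeSpectrum A).asIdeal := by
          rw [Set.disjoint_left]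
          intro a haP ha𝔮
          exact haP (h ha𝔮)
        rw [eq_zero_of_Nmap_eq_zero_of_disjoint η P.asIdeal.primeCompl
          (Localization.AtPrime P.asIdeal) _ hz ⟨𝔮, h𝔮min.1.1⟩ hd, mul_zero]
      · have h1 : ∏ 𝔭, e 𝔭 ∈ 𝔮 :=
          Ideal.IsPrime.prod_mem_iff.mpr ⟨⟨𝔮, h𝔮min⟩, Finset.mem_univ _, he𝔭 ⟨𝔮, h𝔮min⟩ h⟩
        have h2 : η.t A (∏ 𝔭, e 𝔭) ⟨𝔮, h𝔮min.1.1⟩ = 0 :=
          (iot_eq_zero_iff η ⟨𝔮, h𝔮min.1.1⟩ _).mpr h1
        rw [h2, zero_mul]
    rw [map_mul, map_mul, mul_assoc, ← sub_eq_zero, ← mul_sub]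
    exact hEz

/-- For a normal ring A (every localization at a prime is an integrally closed domain) with finitely
many minimal prime ideals such that η is bijective at the residue field of every minimal prime, q_A
: A → M_η(A) is bijective. Here η is a natural transformation from the identity of the category of
fields to an endofunctor F with F(η_K) bijective and η_K purely inseparable for every field K,
N_η(A) is the product of the F(k(p)) over the primes p of A with diagonal map t_A, and M_η(A) ⊆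
N_η(A) is the subring of elements sent into the range of t_R by every ring map from A to a valuation
ring R at whose fraction field η is bijective; q_A : A → M_η(A) is the corestriction of t_A. -/
theorem result (η : EtaPt.FieldEndo.{u}) (A : Type u) [CommRing A] (hn : EGA4.IsNormalRing A)
    (hA : (minimalPrimes A).Finite)
    (hη : ∀ p : PrimeSpectrum A, p.asIdeal ∈ minimalPrimes A → Function.Bijective (η.eta p.asIdeal.ResidueField)) :
    Function.Bijective (η.q A) := by
  have hred : IsReduced A := isReduced_ofLocalizationMaximal A (fun J hJ => by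
    haveI := (hn J).1
    infer_instance)
  constructor
  · intro a a' haa'
    have h1 : η.t A (a - a') = 0 := by
      rw [map_sub]
      exact sub_eq_zero.mpr (congrArg Subtype.val haa')
    have h2 := isNilpotent_of_t_eq_zero η _ h1
    exact sub_eq_zero.mp (IsReduced.eq_zero _ h2)
  · rintro ⟨x, hx⟩
    let I : Ideal A :=
      { carrier := {s | ∃ b, η.t A s * x = η.t A b}
        add_mem' := by
          rintro s₁ s₂ ⟨b₁, h₁⟩ ⟨b₂, h₂⟩
          exact ⟨b₁ + b₂, by rw [map_add, add_mul, h₁, h₂, map_add]⟩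
        zero_mem' := ⟨0, by rw [map_zero, zero_mul]⟩
        smul_mem' := by
          rintro r s ⟨b, h⟩
          exact ⟨r * b, by rw [smul_eq_mul, map_mul, mul_assoc, h, map_mul]⟩ }
    have hI : I = ⊤ := by
      by_contra hne
      obtain ⟨P, hPmax, hIP⟩ := Ideal.exists_le_maximal I hne
      obtain ⟨s, hsP, b, hb⟩ := exists_mul_eq_t η A hn hA hη hx ⟨P, hPmax.isPrime⟩
      exact hsP (hIP ⟨b, hb⟩)
    have h1 : (1 : A) ∈ I := by
      rw [hI]
      exact Submodule.mem_top
    obtain ⟨b, hb⟩ := h1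
    refine ⟨b, Subtype.ext ?_⟩
    rw [map_one, one_mul] at hb
    exact hb.symm

end Groth.Agent.S13827
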