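import Groth.Statements.S13829
import Mathlib
import Groth.Agent.Lib.helper20.EtaPtLoc3
import Groth.Agent.S13824

set_option autoImplicit false
universe u
open EtaPt Groth.Agent.Lib.helper20.EtaPt

namespace Groth.Agent.S13829

theorem awayMap_comp_algebraMap {A B : Type u} [CommRing A] [CommRing B] (φ : A →+* B) (f : A) :
    (Localization.awayMap φ f).comp (algebraMap A (Localization.Away f)) =
      (algebraMap B (Localization.Away (φ f))).comp φ :=
  RingHom.ext fun a => by
    show IsLocalization.Away.map (Localization.Away f) (Localization.Away (φ f)) φ f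
      (algebraMap A (Localization.Away f) a) = _
    unfold IsLocalization.Away.map
    rw [IsLocalization.map_eq]
    rfl

/-- For A with finitely many minimal prime ideals, f ∈ A and a ring map φ : A → B with Spec(φ)
surjective, the localization of (B/A)_η at f is (B_f/A_f)_η: the image of (B/A)_η in B_f lies in
(B_f/A_f)_η, and every element of (B_f/A_f)_η times a power of the image of f is the image of an
element of (B/A)_η. Here η is a natural transformation from the identity of the category of fields
to an endofunctor F with F(η_K) bijective and η_K purely inseparable for every field K, N_η(A) is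
the product of the F(k(p)) over the primes p of A with diagonal map t_A, and M_η(A) ⊆ N_η(A) is the
subring of elements sent into the range of t_R by every ring map from A to a valuation ring R at
whose fraction field η is bijective; q_A : A → M_η(A) is the corestriction of t_A. For a ring map f
: A → B, (B/A)_η ⊆ B denotes the subring of elements b with t_B(b) in N_η(f)(M_η(A)) (the image in B
of the fibre product of M_η(A) and B over M_η(B)), and q_{B/A} : A → (B/A)_η the corestriction of f. -/
theorem result (η : EtaPt.FieldEndo.{u}) {A B : Type u} [CommRing A] [CommRing B] (hA : (minimalPrimes A).Finite)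
    (φ : A →+* B) (hs : Function.Surjective (PrimeSpectrum.comap φ)) (f : A) :
    (η.rel φ).map (algebraMap B (Localization.Away (φ f))) ≤ η.rel (Localization.awayMap φ f) ∧
      ∀ y ∈ η.rel (Localization.awayMap φ f), ∃ x ∈ η.rel φ, ∃ n : ℕ,
        y * algebraMap B (Localization.Away (φ f)) (φ f) ^ n = algebraMap B (Localization.Away (φ f)) x := by
  have hsq := awayMap_comp_algebraMap φ f
  have hsqf : Localization.awayMap φ f (algebraMap A (Localization.Away f) f) =
      algebraMap B (Localization.Away (φ f)) (φ f) :=
    congrArg (fun k => k f) (congrArg DFunLike.coe hsq)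
  constructor
  · rintro _ ⟨b, ⟨x, hx, hxb⟩, rfl⟩
    refine ⟨η.Nmap (algebraMap A (Localization.Away f)) x, Nmap_mem_M η _ hx, ?_⟩
    rw [← Nmap_comp, hsq, Nmap_comp, hxb, η.Nmap_t_apply]
  · rintro y ⟨u, hu, huy⟩
    obtain ⟨x, hx, n, hn⟩ := exists_mem_M_away η hA f u hu
    obtain ⟨k, b, hb⟩ := IsLocalization.Away.surj (φ f) y
    have e1 : η.Nmap (algebraMap B (Localization.Away (φ f))) (η.t B (b * φ f ^ n)) =
        η.t _ (algebraMap B (Localization.Away (φ f)) b) *
          η.t _ (algebraMap B (Localization.Away (φ f)) (φ f)) ^ n := by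
      rw [η.Nmap_t_apply, map_mul, map_pow, map_mul, map_pow]
    have e2 : η.Nmap (algebraMap B (Localization.Away (φ f))) (η.Nmap φ (x * η.t A f ^ k)) =
        η.Nmap (Localization.awayMap φ f)
          (η.Nmap (algebraMap A (Localization.Away f)) (x * η.t A f ^ k)) := by
      rw [← Nmap_comp, ← hsq, Nmap_comp]
    have e3 : η.Nmap (algebraMap A (Localization.Away f)) (x * η.t A f ^ k) =
        u * η.t _ (algebraMap A (Localization.Away f) f) ^ n *
          η.t _ (algebraMap A (Localization.Away f) f) ^ k := by
      rw [map_mul, map_pow, η.Nmap_t_apply, ← hn]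
    have e4 : η.Nmap (Localization.awayMap φ f)
        (u * η.t _ (algebraMap A (Localization.Away f) f) ^ n *
          η.t _ (algebraMap A (Localization.Away f) f) ^ k) =
        η.t _ y * η.t _ (algebraMap B (Localization.Away (φ f)) (φ f)) ^ n *
          η.t _ (algebraMap B (Localization.Away (φ f)) (φ f)) ^ k := by
      rw [map_mul, map_mul, map_pow, map_pow, η.Nmap_t_apply, hsqf, huy]
    have e5 : η.t _ (algebraMap B (Localization.Away (φ f)) b) =
        η.t _ y * η.t _ (algebraMap B (Localization.Away (φ f)) (φ f)) ^ k := by
      rw [← hb, map_mul, map_pow]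
    have hz : η.Nmap (algebraMap B (Localization.Away (φ f)))
        (η.t B (b * φ f ^ n) - η.Nmap φ (x * η.t A f ^ k)) = 0 := by
      rw [map_sub, e1, e2, e3, e4, e5]
      ring
    obtain ⟨m, hm⟩ := (Groth.Agent.S13824.result η B (φ f)).2 _ hz
    refine ⟨b * φ f ^ n * φ f ^ m, ⟨x * η.t A f ^ k * η.t A f ^ m, ?_, ?_⟩, k + n + m, ?_⟩
    · exact Subring.mul_mem _ (Subring.mul_mem _ hx (Subring.pow_mem _ (η.t_mem_M A f) k))
        (Subring.pow_mem _ (η.t_mem_M A f) m)
    · rw [mul_sub] at hm
      have hm' := sub_eq_zero.mp hm
      rw [map_mul (η.Nmap φ) _ (η.t A f ^ m), map_pow, η.Nmap_t_apply, map_mul (η.t B) _ (φ f ^ m),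
        map_pow, mul_comm _ (η.t B (φ f) ^ m), mul_comm _ (η.t B (φ f) ^ m)]
      exact hm'.symm
    · rw [map_mul, map_mul, map_pow, map_pow, ← hb, pow_add, pow_add]
      ring

end Groth.Agent.S13829
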