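import Groth.Statements.S1383
import Mathlib
import Groth.Agent.Lib.helper22.Deform2
import Groth.Agent.S1382

set_option autoImplicit false
universe u
open FlatMor

namespace Groth.Agent.S1383

section Helpers

open CategoryTheory CategoryTheory.Limits AlgebraicGeometry

theorem main {X X' Y Y' S S' : Scheme.{u}} (iX : X ⟶ X') (iY : Y ⟶ Y') (iS : S ⟶ S')
    (f : X ⟶ Y) (f' : X' ⟶ Y') (g : Y ⟶ S) (g' : Y' ⟶ S')
    (hS : MoreMor.IsThickening iS) (hcX : IsPullback iX (f ≫ g) (f' ≫ g') iS)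
    (hcY : IsPullback iY g g' iS)
    (w : iX ≫ f' = f ≫ iY) [Flat (f' ≫ g')] [LocallyOfFinitePresentation (f' ≫ g')]
    [LocallyOfFiniteType g'] :
    IsOpenImmersion f ↔ IsOpenImmersion f' := by
  have hsq := Groth.Agent.H22.Deform.isPullback_left iX iY iS f f' g g' hcX hcY w
  constructor
  · intro hf
    have hY := Groth.Agent.H22.ThickBC.isThickening_of_isPullback iY g g' iS hcY hS
    have hX := Groth.Agent.H22.ThickBC.isThickening_of_isPullback iX (f ≫ g) (f' ≫ g') iS hcX hS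
    haveI : IsClosedImmersion iY := hY.1
    haveI : Surjective iY := hY.2
    haveI : IsClosedImmersion iX := hX.1
    haveI : Surjective iX := hX.2
    have hopen : IsOpenMap iY :=
      (iY.isClosedEmbedding.isEmbedding.toHomeomorphOfSurjective iY.surjective).isOpenMap
    let U' : Y'.Opens := ⟨iY '' Set.range f, hopen _ f.isOpenEmbedding.isOpen_range⟩
    have hpre : iY ⁻¹ᵁ U' = f.opensRange := by
      ext y
      change iY y ∈ iY '' Set.range f ↔ y ∈ Set.range f
      exact iY.isClosedEmbedding.injective.mem_set_image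
    have hr' : Set.range f' ⊆ Set.range U'.ι := by
      rw [Scheme.Opens.range_ι]
      rintro _ ⟨x', rfl⟩
      obtain ⟨x, rfl⟩ := iX.surjective x'
      refine ⟨f x, ⟨x, rfl⟩, ?_⟩
      rw [← Scheme.Hom.comp_apply, ← Scheme.Hom.comp_apply, w]
    let f'' : X' ⟶ U'.toScheme := IsOpenImmersion.lift U'.ι f' hr'
    have hf'' : f'' ≫ U'.ι = f' := IsOpenImmersion.lift_fac _ _ _
    have hr : Set.range f ⊆ Set.range (iY ⁻¹ᵁ U').ι := by
      rw [Scheme.Opens.range_ι, hpre]
      rfl
    let f₁ : X ⟶ (iY ⁻¹ᵁ U').toScheme := IsOpenImmersion.lift (iY ⁻¹ᵁ U').ι f hr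
    have hf₁ : f₁ ≫ (iY ⁻¹ᵁ U').ι = f := IsOpenImmersion.lift_fac _ _ _
    have hiso : IsIso f₁ := by
      have hrange : Set.range f = Set.range (iY ⁻¹ᵁ U').ι := by
        rw [Scheme.Opens.range_ι, hpre]
        rfl
      have : f₁ = (IsOpenImmersion.isoOfRangeEq f (iY ⁻¹ᵁ U').ι hrange).hom := by
        rw [← cancel_mono (iY ⁻¹ᵁ U').ι, hf₁, IsOpenImmersion.isoOfRangeEq_hom_fac]
      rw [this]
      infer_instance
    have hcY₁ : IsPullback (iY ∣_ U') ((iY ⁻¹ᵁ U').ι ≫ g) (U'.ι ≫ g') iS :=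
      (isPullback_morphismRestrict iY U').paste_vert hcY
    have hcX₁ : IsPullback iX (f₁ ≫ (iY ⁻¹ᵁ U').ι ≫ g) (f'' ≫ U'.ι ≫ g') iS := by
      rw [← Category.assoc, ← Category.assoc, hf₁, hf'']
      exact hcX
    have w₁ : iX ≫ f'' = f₁ ≫ (iY ∣_ U') := by
      rw [← cancel_mono U'.ι, Category.assoc, Category.assoc, hf'', morphismRestrict_ι,
        ← Category.assoc, hf₁, w]
    haveI : Flat (f'' ≫ U'.ι ≫ g') := by
      rw [← Category.assoc, hf'']
      infer_instance
    haveI : LocallyOfFinitePresentation (f'' ≫ U'.ι ≫ g') := by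
      rw [← Category.assoc, hf'']
      infer_instance
    have hiso' : IsIso f'' :=
      (Groth.Agent.S1382.result iX (iY ∣_ U') iS f₁ f'' ((iY ⁻¹ᵁ U').ι ≫ g) (U'.ι ≫ g') hS
        hcX₁ hcY₁ w₁).mp hiso
    rw [← hf'']
    infer_instance
  · intro hf'
    exact MorphismProperty.of_isPullback (P := @IsOpenImmersion) hsq hf'

end Helpers

open AlgebraicGeometry CategoryTheory Limits in
/-- Let S ⟶ S' be an arbitrary thickening, let X' ⟶ Y' be a morphism of schemes over S' with X' flat and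
locally of finite presentation over S' and Y' locally of finite type over S', and let X ⟶ Y be its
base change to S. Then X' ⟶ Y' is an open immersion exactly when X ⟶ Y is one. -/
theorem result {X X' Y Y' S S' : Scheme.{u}} (iX : X ⟶ X') (iY : Y ⟶ Y') (iS : S ⟶ S')
    (f : X ⟶ Y) (f' : X' ⟶ Y') (g : Y ⟶ S) (g' : Y' ⟶ S')
    (hS : MoreMor.IsThickening iS) (hcX : IsPullback iX (f ≫ g) (f' ≫ g') iS) (hcY : IsPullback iY g g' iS)
    (w : iX ≫ f' = f ≫ iY) [Flat (f' ≫ g')] [LocallyOfFinitePresentation (f' ≫ g')] [LocallyOfFiniteType g'] :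
    IsOpenImmersion f ↔ IsOpenImmersion f' := by
  exact main iX iY iS f f' g g' hS hcX hcY w

end Groth.Agent.S1383
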