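import Groth.Statements.S13830
import Mathlib
import Groth.Agent.Lib.helper20.EtaPt7
import Groth.Agent.Lib.helper20.SpecBridge
import Groth.Agent.S13819

set_option autoImplicit false
universe u
open AlgebraicGeometry
open EtaPt Groth.Agent.Lib.helper20.EtaPt Groth.Agent.Lib.helper20.SpecBridge

namespace Groth.Agent.S13830

/-- For the identity endofunctor, a commutative ring A with finitely many minimal prime ideals and an
A-algebra B with Spec B → Spec A surjective, the subring (B/A) ⊆ B (elements b whose residue classes
(b mod q)_q come from a family in M(A) ⊆ ∏_p k(p), M(A) being the families that come from an element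
of R after any base change to a valuation ring R) is the seminormalization of A in B: Spec (B/A) →
Spec A is a universal homeomorphism with trivial residue field extensions, and every A-subalgebra C
of B with these two properties is contained in (B/A). -/
theorem result (A B : Type u) [CommRing A] [CommRing B] [Algebra A B] (hA : (minimalPrimes A).Finite)
    (hs : Function.Surjective (PrimeSpectrum.comap (algebraMap A B))) :
    (FlatMor.IsUnivHomeo (Spec.map (CommRingCat.ofHom (EtaPt.FieldEndo.ident.{u}.qRel (algebraMap A B)))) ∧
      HTop.ResidueFieldsIso (Spec.map (CommRingCat.ofHom (EtaPt.FieldEndo.ident.{u}.qRel (algebraMap A B))))) ∧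
    ∀ C : Subalgebra A B,
      FlatMor.IsUnivHomeo (Spec.map (CommRingCat.ofHom (algebraMap A C))) →
      HTop.ResidueFieldsIso (Spec.map (CommRingCat.ofHom (algebraMap A C))) →
      C.toSubring ≤ EtaPt.FieldEndo.ident.{u}.rel (algebraMap A B) := by
  refine ⟨?_, ?_⟩
  · rw [univHomeo_and_residueFieldsIso_iff]
    refine ⟨qRel_isIntegral _ _ hA, comap_qRel_bijective _ _ hA hs, fun Q => ?_⟩
    obtain ⟨φ, hφ⟩ := exists_phi_rel EtaPt.FieldEndo.ident.{u} (algebraMap A B) hA hs Q
    exact map_bijective_of_comp_eq_eta EtaPt.FieldEndo.ident.{u} _ φ hφ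
  · intro C h1 h2
    obtain ⟨hint, hbij, hres⟩ := (univHomeo_and_residueFieldsIso_iff (algebraMap A C)).mp ⟨h1, h2⟩
    have hN : Function.Bijective (EtaPt.FieldEndo.ident.{u}.Nmap (algebraMap A C)) :=
      Nmap_bijective_of _ _ hbij hres
    have hcomp : (C.val.toRingHom).comp (algebraMap A C) = algebraMap A B := RingHom.ext fun a => rfl
    have hs' : Function.Surjective (PrimeSpectrum.comap ((C.val.toRingHom).comp (algebraMap A C))) := by
      rw [hcomp]
      exact hs
    have h3 := Groth.Agent.S13819.result EtaPt.FieldEndo.ident.{u} hA (algebraMap A C) C.val.toRingHom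
      hs' hint hN
    rw [hcomp] at h3
    intro c hc
    exact h3 ⟨⟨c, hc⟩, rfl⟩

end Groth.Agent.S13830
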