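import Groth.Statements.S13834
import Groth.Agent.Lib.helper11.IrrComp

set_option autoImplicit false
universe u
open AlgebraicGeometry
open EtaPt

namespace Groth.Agent.S13834

/-- If f : Y → X is faithfully flat and locally of finite presentation and each quasi-compact open
subset of X has only finitely many irreducible components, the same is true of each quasi-compact
open subset of Y. -/
theorem result {Y X : Scheme.{u}} (f : Y ⟶ X) [Flat f] [LocallyOfFinitePresentation f] [Surjective f]
    (hX : ∀ U : X.Opens, IsCompact (U : Set X) → (irreducibleComponents (U : Type u)).Finite)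
    (V : Y.Opens) (hV : IsCompact (V : Set Y)) : (irreducibleComponents (V : Type u)).Finite := by
  classical
  have key : ∀ y : Y, y ∈ V → ∃ W : Y.Opens, y ∈ W ∧ W ≤ V ∧
      (irreducibleComponents (W : Type u)).Finite := by
    intro y hy
    obtain ⟨_, ⟨U, hU, rfl⟩, hyU, -⟩ :=
      X.isBasis_affineOpens.exists_subset_of_mem_open (Set.mem_univ (f y)) isOpen_univ
    obtain ⟨_, ⟨W, hW, rfl⟩, hyW, hWle⟩ :=
      Y.isBasis_affineOpens.exists_subset_of_mem_open (show y ∈ ((V ⊓ f ⁻¹ᵁ U : Y.Opens) : Set Y) from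
        ⟨hy, hyU⟩) (V ⊓ f ⁻¹ᵁ U).2
    have hWV : W ≤ V := fun z hz => (hWle hz).1
    have hWU : W ≤ f ⁻¹ᵁ U := fun z hz => (hWle hz).2
    refine ⟨W, hyW, hWV, ?_⟩
    rw [Groth.Agent.Lib.helper11.IrrComp.finite_irreducibleComponents_affineOpen_iff hW]
    have hA : (minimalPrimes Γ(X, U)).Finite :=
      (Groth.Agent.Lib.helper11.IrrComp.finite_irreducibleComponents_affineOpen_iff hU).mp
        (hX U hU.isCompact)
    letI : Algebra Γ(X, U) Γ(Y, W) := (f.appLE U W hWU).hom.toAlgebra
    haveI : Module.Flat Γ(X, U) Γ(Y, W) := f.flat_appLE hU hW hWU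
    haveI : Algebra.FiniteType Γ(X, U) Γ(Y, W) :=
      RingHom.FiniteType.of_finitePresentation (f.finitePresentation_appLE hU hW hWU)
    exact Groth.Agent.Lib.helper11.IrrComp.finite_minimalPrimes_of_flat_finiteType hA
  choose! W hyW hWV hWfin using key
  obtain ⟨t, ht⟩ := hV.elim_nhds_subcover (fun y => (W y : Set Y))
    (fun y hy => (W y).isOpen.mem_nhds (hyW y hy))
  refine Groth.Agent.Lib.helper11.IrrComp.finite_irreducibleComponents_of_openEmbeddings
    (ι := {y // y ∈ t}) (fun i => (W i.1 : Type u))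
    (fun i => Set.inclusion (SetLike.coe_subset_coe.2 (hWV i.1 (ht.1 i.1 i.2))))
    (fun i => TopologicalSpace.Opens.isOpenEmbedding_of_le (hWV i.1 (ht.1 i.1 i.2))) ?_
    (fun i => hWfin i.1 (ht.1 i.1 i.2))
  rintro ⟨x, hx⟩
  have := ht.2 hx
  simp only [Set.mem_iUnion] at this
  obtain ⟨y, hyt, hxy⟩ := this
  exact ⟨⟨y, hyt⟩, ⟨x, hxy⟩, rfl⟩

end Groth.Agent.S13834
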