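import Groth.Statements.S13835
import Groth.Agent.Lib.helper11.UnivHomeo
import Mathlib.AlgebraicGeometry.Morphisms.Separated

set_option autoImplicit false
universe u
open AlgebraicGeometry CategoryTheory
open ChowMon

namespace Groth.Agent.S13835


open CategoryTheory CategoryTheory.Limits AlgebraicGeometry

theorem key {T' T Y : Scheme.{u}} (p : T' ⟶ T) [Surjective p] (f' : T' ⟶ Y)
    (V : T.Opens) (fV : (V : Scheme.{u}) ⟶ Y) (hV : (p ⁻¹ᵁ V).ι ≫ f' = (p ∣_ V) ≫ fV)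
    {X : Scheme.{u}} (a : X ⟶ V) :
    pullback.fst p (a ≫ V.ι) ≫ f' = pullback.snd p (a ≫ V.ι) ≫ a ≫ fV := by
  have hrange : Set.range (pullback.fst p (a ≫ V.ι)) ⊆ Set.range (p ⁻¹ᵁ V).ι := by
    rw [Scheme.Opens.range_ι]
    rintro _ ⟨w, rfl⟩
    show p (pullback.fst p (a ≫ V.ι) w) ∈ V
    rw [← Scheme.Hom.comp_apply, pullback.condition, Scheme.Hom.comp_apply,
      Scheme.Hom.comp_apply]
    exact (a (pullback.snd p (a ≫ V.ι) w)).2
  let k := IsOpenImmersion.lift (p ⁻¹ᵁ V).ι (pullback.fst p (a ≫ V.ι)) hrange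
  have hk : k ≫ (p ⁻¹ᵁ V).ι = pullback.fst p (a ≫ V.ι) := IsOpenImmersion.lift_fac _ _ _
  have hk2 : k ≫ (p ∣_ V) = pullback.snd p (a ≫ V.ι) ≫ a := by
    rw [← cancel_mono V.ι, Category.assoc, morphismRestrict_ι, ← Category.assoc, hk,
      pullback.condition, Category.assoc]
  rw [← hk, Category.assoc, hV, ← Category.assoc, hk2, Category.assoc]

theorem key' {T' T Y : Scheme.{u}} (p : T' ⟶ T) [Surjective p] (f' : T' ⟶ Y)
    (V : T.Opens) (fV : (V : Scheme.{u}) ⟶ Y) (hV : (p ⁻¹ᵁ V).ι ≫ f' = (p ∣_ V) ≫ fV)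
    {X : Scheme.{u}} (a : X ⟶ V) (b : X ⟶ T) (hb : b = a ≫ V.ι) :
    pullback.fst p b ≫ f' = pullback.snd p b ≫ a ≫ fV := by
  subst hb
  exact key p f' V fV hV a

/-- Let p : T' → T be a universal homeomorphism of separated schemes with T reduced and f' : T' → Y a
morphism (Y separated); if T has an open cover by affine opens U_i such that each restriction of f'
to p⁻¹(U_i) factors through p⁻¹(U_i) → U_i, then f' factors through p. -/
theorem result {T' T Y : Scheme.{u}} (p : T' ⟶ T) (hp : FlatMor.IsUnivHomeo p) [IsReduced T]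
    [T.IsSeparated] [T'.IsSeparated] [Y.IsSeparated] (f' : T' ⟶ Y)
    {ι : Type u} (U : ι → T.affineOpens) (hU : ⨆ i, (U i : T.Opens) = ⊤)
    (hloc : ∀ i, ∃ fi : ((U i : T.Opens) : Scheme.{u}) ⟶ Y, (p ⁻¹ᵁ (U i : T.Opens)).ι ≫ f' = (p ∣_ (U i : T.Opens)) ≫ fi) :
    ∃ f : T ⟶ Y, p ≫ f = f' := by

  have hp' := (Groth.Agent.Lib.helper11.UnivHomeo.isUnivHomeo_iff p).mp hp
  haveI : Surjective p := hp'.2.2
  choose fi hfi using hloc
  have hcov : TopologicalSpace.IsOpenCover (fun i => ((U i : T.affineOpens) : T.Opens)) := hU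
  let 𝒰 : T.OpenCover := T.openCoverOfIsOpenCover (fun i => ((U i : T.affineOpens) : T.Opens)) hcov
  have compat : ∀ i j, pullback.fst (𝒰.f i) (𝒰.f j) ≫ fi i = pullback.snd (𝒰.f i) (𝒰.f j) ≫ fi j := by
    intro i j
    haveI : IsReduced (pullback (𝒰.f i) (𝒰.f j)) :=
      isReduced_of_isOpenImmersion (pullback.fst (𝒰.f i) (𝒰.f j) ≫ 𝒰.f i)
    have h1 := key p f' (U i : T.Opens) (fi i) (hfi i) (pullback.fst (𝒰.f i) (𝒰.f j))
    have hcond : pullback.fst (𝒰.f i) (𝒰.f j) ≫ (U i : T.Opens).ι =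
        pullback.snd (𝒰.f i) (𝒰.f j) ≫ (U j : T.Opens).ι := pullback.condition
    have h2 := key' p f' (U j : T.Opens) (fi j) (hfi j) (pullback.snd (𝒰.f i) (𝒰.f j)) _ hcond
    refine ext_of_isDominant (pullback.snd p (pullback.fst (𝒰.f i) (𝒰.f j) ≫ (U i : T.Opens).ι)) ?_
    exact h1.symm.trans h2
  refine ⟨𝒰.glueMorphisms fi compat, ?_⟩
  have hcov' : TopologicalSpace.IsOpenCover (fun i => p ⁻¹ᵁ ((U i : T.affineOpens) : T.Opens)) :=
    hcov.comap p.base.hom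
  refine Scheme.Cover.hom_ext (T'.openCoverOfIsOpenCover _ hcov') _ _ (fun i => ?_)
  show (p ⁻¹ᵁ (U i : T.Opens)).ι ≫ p ≫ 𝒰.glueMorphisms fi compat = (p ⁻¹ᵁ (U i : T.Opens)).ι ≫ f'
  rw [← Category.assoc, ← morphismRestrict_ι, Category.assoc, hfi i]
  congr 1
  exact 𝒰.ι_glueMorphisms fi compat i

end Groth.Agent.S13835
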