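import Groth.Statements.S13837
import Groth.Agent.Lib.helper11.GeomLift
import Groth.Agent.Lib.helper11.FPColim

set_option autoImplicit false
universe u
open AlgebraicGeometry
open scoped TensorProduct
open HTop

namespace Groth.Agent.S13837


open Groth.Agent.Lib.helper11.UnivHomeo Groth.Agent.Lib.helper11.UHRing
open Groth.Agent.Lib.helper11.GeomLift Groth.Agent.Lib.helper11.FPColim

section
variable (A B : Type u) [CommRing A] [CommRing B] [Algebra A B]

/-- the two maps `B ⇉ (B ⊗ B)_red`. -/
noncomputable def i₁ : B →ₐ[A] (B ⊗[A] B) ⧸ nilradical (B ⊗[A] B) :=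
  (Ideal.Quotient.mkₐ A (nilradical (B ⊗[A] B))).comp Algebra.TensorProduct.includeLeft

noncomputable def i₂ : B →ₐ[A] (B ⊗[A] B) ⧸ nilradical (B ⊗[A] B) :=
  (Ideal.Quotient.mkₐ A (nilradical (B ⊗[A] B))).comp Algebra.TensorProduct.includeRight

/-- the equaliser. -/
noncomputable def EE : Subalgebra A B := AlgHom.equalizer (i₁ A B) (i₂ A B)

theorem mem_EE (b : B) : b ∈ EE A B ↔ IsNilpotent (b ⊗ₜ[A] (1 : B) - (1 : B) ⊗ₜ[A] b) := by
  rw [EE, AlgHom.mem_equalizer, ← mem_nilradical, ← Ideal.Quotient.eq_zero_iff_mem, map_sub,
    sub_eq_zero]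
  rfl

variable {A B}

theorem uh_EE (hinj : Function.Injective (algebraMap A B)) [Algebra.IsIntegral A B] :
    UH (algebraMap A (EE A B)) := by
  rw [uh_iff]
  refine ⟨?_, ?_, ?_⟩
  · intro e
    exact (isIntegral_algHom_iff (EE A B).val Subtype.val_injective).mp
      (Algebra.IsIntegral.isIntegral (e : B))
  · intro K _ σ τ h
    -- extend to B with values in the algebraic closure
    have hint : ((EE A B).val : EE A B →+* B).IsIntegral := fun b =>
      IsIntegral.tower_top (R := A) (Algebra.IsIntegral.isIntegral b)
    have hnil : ∀ a, ((EE A B).val : EE A B →+* B) a = 0 → IsNilpotent a := by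
      intro a ha
      have : a = 0 := Subtype.val_injective (by rw [ZeroMemClass.coe_zero]; exact ha)
      rw [this]
      exact IsNilpotent.zero
    obtain ⟨σ', hσ'⟩ := exists_lift_algClosed ((EE A B).val : EE A B →+* B) hint hnil
      ((algebraMap K (AlgebraicClosure K)).comp σ)
    obtain ⟨τ', hτ'⟩ := exists_lift_algClosed ((EE A B).val : EE A B →+* B) hint hnil
      ((algebraMap K (AlgebraicClosure K)).comp τ)
    letI : Algebra A (AlgebraicClosure K) :=
      (((algebraMap K (AlgebraicClosure K)).comp σ).comp (algebraMap A (EE A B))).toAlgebra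
    let σa : B →ₐ[A] AlgebraicClosure K :=
      { σ' with
        commutes' := fun a => by
          have := congrArg (fun f : EE A B →+* AlgebraicClosure K => f (algebraMap A (EE A B) a)) hσ'
          exact this }
    let τa : B →ₐ[A] AlgebraicClosure K :=
      { τ' with
        commutes' := fun a => by
          have := congrArg (fun f : EE A B →+* AlgebraicClosure K => f (algebraMap A (EE A B) a)) hτ'
          have h2 := congrArg (fun f : A →+* K => f a) h
          simp only [RingHom.comp_apply] at this h2
          change τ' (algebraMap A B a) = algebraMap K (AlgebraicClosure K) (σ (algebraMap A (EE A B) a))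
          rw [h2]
          exact this }
    ext e
    have hnilp : IsNilpotent ((e : B) ⊗ₜ[A] (1 : B) - (1 : B) ⊗ₜ[A] (e : B)) :=
      (mem_EE A B e).mp e.2
    have h1 := hnilp.map (Algebra.TensorProduct.productMap σa τa)
    rw [map_sub, Algebra.TensorProduct.productMap_apply_tmul,
      Algebra.TensorProduct.productMap_apply_tmul, map_one, map_one, mul_one, one_mul] at h1
    have h2 : σa (e : B) - τa (e : B) = 0 := IsReduced.eq_zero _ h1
    have h3 : σ' (e : B) = τ' (e : B) := sub_eq_zero.mp h2
    have h4 := congrArg (fun f : EE A B →+* AlgebraicClosure K => f e) hσ'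
    have h5 := congrArg (fun f : EE A B →+* AlgebraicClosure K => f e) hτ'
    simp only [RingHom.comp_apply] at h4 h5
    apply (algebraMap K (AlgebraicClosure K)).injective
    rw [← h4, ← h5]
    exact h3
  · intro a ha
    have : a = 0 := hinj (by
      have := congrArg Subtype.val ha
      rw [map_zero]
      exact this)
    rw [this]
    exact IsNilpotent.zero

theorem le_EE (C : Subalgebra A B) (hC : UH (algebraMap A C)) : C ≤ EE A B := by
  intro c hc
  rw [mem_EE]
  have := nilpotent_sub_of_uh (algebraMap A C) hC
    ((Algebra.TensorProduct.includeLeft (R := A) (S := A) (A := B) (B := B) : B →+* B ⊗[A] B).comp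
      (C.val : C →+* B))
    ((Algebra.TensorProduct.includeRight (R := A) (A := B) (B := B) : B →+* B ⊗[A] B).comp
      (C.val : C →+* B)) (by
      ext a
      simp only [RingHom.comp_apply]
      have e1 : (C.val : C →+* B) (algebraMap A C a) = algebraMap A B a := rfl
      rw [e1]
      change (Algebra.TensorProduct.includeLeft (R := A) (S := A) (A := B) (B := B))
        (algebraMap A B a) = (Algebra.TensorProduct.includeRight (R := A) (A := B) (B := B))
        (algebraMap A B a)
      rw [AlgHom.commutes, AlgHom.commutes]) ⟨c, hc⟩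
  exact this

end

/-- Let A ⊆ B be an integral ring extension where A and B have finitely many minimal prime ideals; then
the weak normalization of A in B is the equaliser of the two maps B ⇉ (B ⊗_A B)_red: the
A-subalgebra E of elements b with b ⊗ 1 − 1 ⊗ b nilpotent in B ⊗_A B has Spec E → Spec A a universal
homeomorphism, and every A-subalgebra C of B with Spec C → Spec A a universal homeomorphism is
contained in E. -/
theorem result (A B : Type u) [CommRing A] [CommRing B] [Algebra A B] (hinj : Function.Injective (algebraMap A B))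
    [Algebra.IsIntegral A B] (hA : (minimalPrimes A).Finite) (hB : (minimalPrimes B).Finite) :
    ∃ E : Subalgebra A B, (∀ b : B, b ∈ E ↔ IsNilpotent (b ⊗ₜ[A] (1 : B) - (1 : B) ⊗ₜ[A] b)) ∧
      FlatMor.IsUnivHomeo (Spec.map (CommRingCat.ofHom (algebraMap A E))) ∧
      ∀ C : Subalgebra A B, FlatMor.IsUnivHomeo (Spec.map (CommRingCat.ofHom (algebraMap A C))) → C ≤ E := by

  exact ⟨EE A B, mem_EE A B, uh_EE hinj, fun C hC => le_EE C hC⟩

end Groth.Agent.S13837
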