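import Groth.Statements.S13838
import Groth.Agent.Lib.helper11.SqCube3
import Groth.Agent.Lib.helper11.UHRing
import Mathlib.CategoryTheory.ConcreteCategory.EpiMono

set_option autoImplicit false
universe u
open AlgebraicGeometry
open HTop

namespace Groth.Agent.S13838


open Groth.Agent.Lib.helper11.UnivHomeo Groth.Agent.Lib.helper11.UHRing
open Groth.Agent.Lib.helper11.TrivRes Groth.Agent.Lib.helper11.SqCube

section
variable {A C : Type u} [CommRing A] [CommRing C]

/-- the residue field extensions of a universal homeomorphism of spectra are purely
inseparable. -/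
theorem pow_mem_range (α : A →+* C) (hα : UH α) (r : Ideal C) [r.IsPrime]
    (x : r.ResidueField) :
    ∃ n : ℕ, x ^ ringExpChar (r.comap α).ResidueField ^ n ∈
      (Ideal.ResidueField.map (r.comap α) r α rfl).range := by
  set ρ := Ideal.ResidueField.map (r.comap α) r α rfl with hρdef
  have hρ' : ∀ a : A, ρ (algebraMap A _ a) = algebraMap C r.ResidueField (α a) :=
    fun a => Ideal.ResidueField.map_algebraMap _ _ _ _ a
  letI : Algebra (r.comap α).ResidueField r.ResidueField := ρ.toAlgebra
  have hrange : (algebraMap (r.comap α).ResidueField r.ResidueField).range = ρ.range := rfl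
  haveI : Nonempty (r.ResidueField →+* AlgebraicClosure r.ResidueField) := ⟨algebraMap _ _⟩
  haveI : IsPurelyInseparable (r.comap α).ResidueField r.ResidueField := by
    refine IsPurelyInseparable.of_injective_comp_algebraMap _ _
      (AlgebraicClosure r.ResidueField) ?_
    intro f g hfg
    apply Ideal.ResidueField.ringHom_ext
    apply ((uh_iff α).mp hα).2.1
    ext a
    have := congrArg (fun k : (r.comap α).ResidueField →+* AlgebraicClosure r.ResidueField =>
      k (algebraMap A _ a)) hfg
    simp only [RingHom.comp_apply] at this ⊢
    have e : algebraMap (r.comap α).ResidueField r.ResidueField (algebraMap A _ a) =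
        algebraMap C r.ResidueField (α a) := hρ' a
    rw [e] at this
    exact this
  have := IsPurelyInseparable.pow_mem (r.comap α).ResidueField
    (ringExpChar (r.comap α).ResidueField) x
  rw [hrange] at this
  exact this

end

/-- Let A ⊆ B be an integral ring extension where A and B have finitely many minimal prime ideals, such
that every prime p of A has a prime q of B above it for which k(p) is closed under extracting
p-power roots inside k(q) (the purely inseparable closure of k(p) in k(q) is k(p)); then the semi-
and weak normalizations of A in B coincide: every A-subalgebra C of B with Spec C → Spec A a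
universal homeomorphism already induces isomorphisms on residue fields. -/
theorem result (A B : Type u) [CommRing A] [CommRing B] [Algebra A B] (hinj : Function.Injective (algebraMap A B))
    [Algebra.IsIntegral A B] (hA : (minimalPrimes A).Finite) (hB : (minimalPrimes B).Finite)
    (hpi : ∀ p : PrimeSpectrum A, ∃ q : PrimeSpectrum B, ∃ hq : p.asIdeal = Ideal.comap (algebraMap A B) q.asIdeal,
      ∀ x : q.asIdeal.ResidueField,
        (∃ n : ℕ, x ^ ringExpChar p.asIdeal.ResidueField ^ n ∈
            Set.range (Ideal.ResidueField.map p.asIdeal q.asIdeal (algebraMap A B) hq)) →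
        x ∈ Set.range (Ideal.ResidueField.map p.asIdeal q.asIdeal (algebraMap A B) hq)) :
    ∀ C : Subalgebra A B, FlatMor.IsUnivHomeo (Spec.map (CommRingCat.ofHom (algebraMap A C))) →
      HTop.ResidueFieldsIso (Spec.map (CommRingCat.ofHom (algebraMap A C))) := by

  intro C hC
  have hC' := (uh_iff (algebraMap A C)).mp hC
  have htr : TrivRes (algebraMap A C) := by
    intro r _ c
    rw [trivAt_iff_mem_range]
    obtain ⟨q, hq, hclosed⟩ := hpi ⟨r.comap (algebraMap A C), inferInstance⟩
    have hq' : r.comap (algebraMap A C) = Ideal.comap (algebraMap A B) q.asIdeal := hq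
    have hr : r = q.asIdeal.comap (C.val : C →+* B) := by
      refine spec_inj_of_epi (algebraMap A C) hC'.2.1 _ _ inferInstance
        (Ideal.comap_isPrime _ _) ?_
      rw [Ideal.comap_comap]
      exact hq'
    have hcomp : (Ideal.ResidueField.map r q.asIdeal (C.val : C →+* B) hr).comp
        (Ideal.ResidueField.map (r.comap (algebraMap A C)) r (algebraMap A C) rfl) =
        Ideal.ResidueField.map (r.comap (algebraMap A C)) q.asIdeal (algebraMap A B) hq' := by
      apply Ideal.ResidueField.ringHom_ext
      ext a
      simp only [RingHom.comp_apply]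
      rw [Ideal.ResidueField.map_algebraMap, Ideal.ResidueField.map_algebraMap,
        Ideal.ResidueField.map_algebraMap]
      rfl
    obtain ⟨n, z, hz⟩ := pow_mem_range (algebraMap A C) hC r (algebraMap C _ c)
    have h1 : (Ideal.ResidueField.map r q.asIdeal (C.val : C →+* B) hr
        (algebraMap C _ c)) ^ ringExpChar (r.comap (algebraMap A C)).ResidueField ^ n ∈
        Set.range (Ideal.ResidueField.map (r.comap (algebraMap A C)) q.asIdeal
          (algebraMap A B) hq') := by
      refine ⟨z, ?_⟩
      rw [← hcomp, RingHom.comp_apply, hz, map_pow]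
    obtain ⟨z', hz'⟩ := hclosed _ ⟨n, h1⟩
    refine ⟨z', (Ideal.ResidueField.map r q.asIdeal (C.val : C →+* B) hr).injective ?_⟩
    rw [← hz', ← hcomp]
    rfl
  intro y
  rw [CategoryTheory.ConcreteCategory.isIso_iff_bijective]
  exact ⟨RingHom.injective _, (trivRes_iff _).mp htr y⟩

end Groth.Agent.S13838
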