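import Groth.Statements.S13841
import Groth.Agent.Lib.helper1.PerInd3

set_option autoImplicit false
universe u v
open scoped TensorProduct
open Brauer

namespace Groth.Agent.S13841

/-- Let k be a field and A a finite-dimensional central simple k-algebra of period n. Then A has index n
if and only if there is a finite field extension k' of k of degree coprime to n such that the index
of the k'-algebra k' ⊗_k A divides n. (The published statement is for a class of period n in H²(X,
G_m) on a scheme X over k; this row is the case where X is the spectrum of k.) -/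
theorem result (k : Type u) [Field k] (A : Type v) [Ring A] [Algebra k A]
    [Algebra.IsCentral k A] [IsSimpleRing A] [FiniteDimensional k A] (n : ℕ) (hper : CSAGal.IsPeriod k A n) :
    CSAGal.IsIndex k A n ↔
      ∃ (k' : Type u) (_ : Field k') (_ : Algebra k k') (_ : FiniteDimensional k k'),
        Nat.Coprime n (Module.finrank k k') ∧ ∃ d' : ℕ, CSAGal.IsIndex k' (k' ⊗[k] A) d' ∧ d' ∣ n := by
  constructor
  · intro hn
    obtain ⟨c1, c2, c3⟩ := Groth.Agent.Lib.helper1.PerInd.csa_baseChange k A k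
    refine ⟨k, inferInstance, inferInstance, inferInstance, by simp, ?_⟩
    obtain ⟨d₁, hd₁⟩ := Groth.Agent.Lib.helper1.PerInd.exists_isIndex k (k ⊗[k] A)
    obtain ⟨D, _, _, _, _, hD, hAD⟩ := Groth.Agent.Lib.helper1.PerInd.exists_of_isIndex k A hn
    obtain ⟨D₁, _, _, _, _, hD₁, hAD₁⟩ :=
      Groth.Agent.Lib.helper1.PerInd.exists_of_isIndex k (k ⊗[k] A) hd₁
    exact ⟨d₁, hd₁, Groth.Agent.Lib.helper1.PerInd.index_baseChange_dvd k A D hAD n hD k D₁ hAD₁
      d₁ hD₁⟩
  · rintro ⟨k₁, _, _, _, hcop, d₁, hd₁, hdn⟩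
    obtain ⟨c1, c2, c3⟩ := Groth.Agent.Lib.helper1.PerInd.csa_baseChange k A k₁
    obtain ⟨d, hd⟩ := Groth.Agent.Lib.helper1.PerInd.exists_isIndex k A
    obtain ⟨D, _, _, _, _, hD, hAD⟩ := Groth.Agent.Lib.helper1.PerInd.exists_of_isIndex k A hd
    obtain ⟨D₁, _, _, _, _, hD₁, hAD₁⟩ :=
      Groth.Agent.Lib.helper1.PerInd.exists_of_isIndex k₁ (k₁ ⊗[k] A) hd₁
    have h1 : d ∣ n := Groth.Agent.Lib.helper1.PerInd.index_dvd_of_coprime k A D hAD d hD k₁ D₁ hAD₁
      d₁ hD₁ n hcop hper.2.1 hdn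
    have h2 : n ∣ d := (Groth.Agent.Lib.helper1.Tpow.splits_tpow_iff_dvd k A n hper d).1
      (Groth.Agent.Lib.helper1.PerInd.splits_tpow_of_brEq k A D hAD d hD)
    have h3 : d = n := Nat.dvd_antisymm h1 h2
    exact h3 ▸ hd

end Groth.Agent.S13841
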