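import Groth.Statements.S13846
import Mathlib

set_option autoImplicit false
universe u v
open TwSh

namespace Groth.Agent.S13846

section Aux
open DirectSum

section
variable {k : Type u} [Field k] {V W : Type v} [AddCommGroup V] [Module k V] [AddCommGroup W]
  [Module k W]

section Proj
variable (𝒱 : ℤ → Submodule k V) [DirectSum.Decomposition 𝒱]

/-- projection onto the `i`-th component. -/
noncomputable def proj (i : ℤ) : Module.End k V :=
  (𝒱 i).subtype ∘ₗ DirectSum.component k ℤ (fun i => 𝒱 i) i ∘ₗ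
    (DirectSum.decomposeLinearEquiv 𝒱).toLinearMap

theorem proj_apply (i : ℤ) (x : V) : proj 𝒱 i x = (DirectSum.decompose 𝒱 x i : V) := rfl

theorem proj_same {i : ℤ} {x : V} (hx : x ∈ 𝒱 i) : proj 𝒱 i x = x := by
  rw [proj_apply, DirectSum.decompose_of_mem_same 𝒱 hx]

theorem proj_ne {i j : ℤ} {x : V} (hx : x ∈ 𝒱 j) (h : j ≠ i) : proj 𝒱 i x = 0 := by
  rw [proj_apply, DirectSum.decompose_of_mem_ne 𝒱 hx h]

theorem proj_mem (i : ℤ) (x : V) : proj 𝒱 i x ∈ 𝒱 i := (DirectSum.decompose 𝒱 x i).2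

theorem exists_homog_ne_zero [Nontrivial V] : ∃ (i : ℤ) (v : V), v ∈ 𝒱 i ∧ v ≠ 0 := by
  obtain ⟨x, hx⟩ := exists_ne (0 : V)
  by_contra hcon
  push_neg at hcon
  apply hx
  have h0 : DirectSum.decompose 𝒱 x = 0 := by
    ext i
    rw [DirectSum.zero_apply, ZeroMemClass.coe_zero]
    exact hcon i _ (DirectSum.decompose 𝒱 x i).2
  have := congrArg (DirectSum.decompose 𝒱).symm h0
  rwa [Equiv.symm_apply_apply, DirectSum.decompose_symm_zero] at this

/-- an element all of whose components off `i` vanish lies in the `i`-th piece. -/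
theorem mem_of_components {x : V} {i : ℤ} (h : ∀ j, j ≠ i → (DirectSum.decompose 𝒱 x j : V) = 0) :
    x ∈ 𝒱 i := by
  have h1 : DirectSum.decompose 𝒱 x = DirectSum.of (fun i => 𝒱 i) i (DirectSum.decompose 𝒱 x i) := by
    ext j
    by_cases hj : j = i
    · subst hj
      rw [DirectSum.of_eq_same]
    · rw [DirectSum.of_eq_of_ne _ _ _ hj, h j hj, ZeroMemClass.coe_zero]
  have h2 := congrArg (DirectSum.decompose 𝒱).symm h1
  rw [Equiv.symm_apply_apply, DirectSum.decompose_symm_of] at h2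
  rw [h2]
  exact (DirectSum.decompose 𝒱 x i).2

/-- degree zero endomorphisms commute with taking components -/
theorem deg0_comm (q : Module.End k V) (hq : ∀ (a : ℤ) (y : V), y ∈ 𝒱 a → q y ∈ 𝒱 a) (y : V) (j : ℤ) :
    q (DirectSum.decompose 𝒱 y j : V) = (DirectSum.decompose 𝒱 (q y) j : V) := by
  induction y using DirectSum.Decomposition.inductionOn 𝒱 with
  | zero => simp
  | @homogeneous a m =>
    by_cases h : a = j
    · subst h
      rw [DirectSum.decompose_of_mem_same 𝒱 m.2, DirectSum.decompose_of_mem_same 𝒱 (hq _ _ m.2)]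
    · rw [DirectSum.decompose_of_mem_ne 𝒱 m.2 h, DirectSum.decompose_of_mem_ne 𝒱 (hq _ _ m.2) h,
        map_zero]
  | add m m' hm hm' =>
    rw [DirectSum.decompose_add, map_add, DirectSum.decompose_add, DirectSum.add_apply,
      DirectSum.add_apply, Submodule.coe_add, Submodule.coe_add, map_add, hm, hm']

end Proj

end

section Main
variable {k : Type u} [Field k] {V W : Type v} [AddCommGroup V] [Module k V] [AddCommGroup W]
  [Module k W]
  (𝒱 : ℤ → Submodule k V) [DirectSum.Decomposition 𝒱] (𝒲 : ℤ → Submodule k W)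
  [DirectSum.Decomposition 𝒲]

theorem main_exists [Nontrivial V] (g : V ≃ₗ[k] W)
    (hdeg : ∀ (d : ℤ) (f : Module.End k V), (∀ (i : ℤ) (x : V), x ∈ 𝒱 i → f x ∈ 𝒱 (i + d)) →
      ∀ (i : ℤ) (y : W), y ∈ 𝒲 i → g (f (g.symm y)) ∈ 𝒲 (i + d)) :
    ∃ n : ℤ, ∀ i, Submodule.map (g : V →ₗ[k] W) (𝒱 i) = 𝒲 (i + n) := by
  classical
  -- Claim A
  have claimA : ∀ (i : ℤ) (v : V), v ∈ 𝒱 i → ∀ j : ℤ,
      ∃ u ∈ 𝒱 i, g u = (DirectSum.decompose 𝒲 (g v) j : W) := by
    intro i v hv j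
    let q : Module.End k W := (g : V →ₗ[k] W) ∘ₗ proj 𝒱 i ∘ₗ (g.symm : W →ₗ[k] V)
    have hq : ∀ (a : ℤ) (y : W), y ∈ 𝒲 a → q y ∈ 𝒲 a := by
      intro a y hy
      have h := hdeg 0 (proj 𝒱 i) (fun b x hx => by
        rw [add_zero]
        by_cases hb : b = i
        · subst hb
          rw [proj_same 𝒱 hx]; exact hx
        · rw [proj_ne 𝒱 hx hb]; exact Submodule.zero_mem _) a y hy
      rw [add_zero] at h
      exact h
    have hqv : q (g v) = g v := by
      show g (proj 𝒱 i (g.symm (g v))) = g v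
      rw [LinearEquiv.symm_apply_apply, proj_same 𝒱 hv]
    have h1 := deg0_comm 𝒲 q hq (g v) j
    rw [hqv] at h1
    refine ⟨proj 𝒱 i (g.symm (DirectSum.decompose 𝒲 (g v) j : W)), proj_mem 𝒱 _ _, ?_⟩
    exact h1
  -- Claim B
  have claimB : ∀ (i i' j j' : ℤ) (u u' : V), u ∈ 𝒱 i → u' ∈ 𝒱 i' → g u ∈ 𝒲 j → g u' ∈ 𝒲 j' →
      u ≠ 0 → u' ≠ 0 → j + (i' - i) = j' := by
    intro i i' j j' u u' hu hu' hgu hgu' hu0 hu'0
    obtain ⟨l, hl⟩ := Module.Projective.exists_dual_eq_one k hu0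
    let f : Module.End k V := (l.smulRight u') ∘ₗ proj 𝒱 i
    have hf : ∀ (a : ℤ) (x : V), x ∈ 𝒱 a → f x ∈ 𝒱 (a + (i' - i)) := by
      intro a x hx
      show l (proj 𝒱 i x) • u' ∈ _
      by_cases ha : a = i
      · subst ha
        have : a + (i' - a) = i' := by ring
        rw [this]
        exact Submodule.smul_mem _ _ hu'
      · rw [proj_ne 𝒱 hx ha, map_zero, zero_smul]
        exact Submodule.zero_mem _
    have h1 := hdeg (i' - i) f hf j (g u) hgu
    have h2 : g (f (g.symm (g u))) = g u' := by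
      rw [LinearEquiv.symm_apply_apply]
      show g (l (proj 𝒱 i u) • u') = g u'
      rw [proj_same 𝒱 hu, hl, one_smul]
    rw [h2] at h1
    have hgu'0 : g u' ≠ 0 := fun h => hu'0 (g.injective (by rw [h, map_zero]))
    exact DirectSum.degree_eq_of_mem_mem 𝒲 h1 hgu' hgu'0
  -- the shift
  obtain ⟨i0, v0, hv0, hv00⟩ := exists_homog_ne_zero 𝒱
  have hgv0 : g v0 ≠ 0 := fun h => hv00 (g.injective (by rw [h, map_zero]))
  obtain ⟨j0, hj0⟩ : ∃ j0, (DirectSum.decompose 𝒲 (g v0) j0 : W) ≠ 0 := by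
    by_contra hcon
    push_neg at hcon
    apply hgv0
    have h0 : DirectSum.decompose 𝒲 (g v0) = 0 := by
      ext i
      rw [DirectSum.zero_apply, ZeroMemClass.coe_zero]
      exact hcon i
    have := congrArg (DirectSum.decompose 𝒲).symm h0
    rwa [Equiv.symm_apply_apply, DirectSum.decompose_symm_zero] at this
  obtain ⟨u0, hu0, hgu0⟩ := claimA i0 v0 hv0 j0
  have hu00 : u0 ≠ 0 := fun h => hj0 (by rw [← hgu0, h, map_zero])
  have hgu0mem : g u0 ∈ 𝒲 j0 := by rw [hgu0]; exact (DirectSum.decompose 𝒲 (g v0) j0).2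
  refine ⟨j0 - i0, ?_⟩
  -- forward inclusion
  have hfwd : ∀ (i : ℤ) (v : V), v ∈ 𝒱 i → g v ∈ 𝒲 (i + (j0 - i0)) := by
    intro i v hv
    apply mem_of_components 𝒲
    intro j hj
    by_contra hne
    obtain ⟨u, hu, hgu⟩ := claimA i v hv j
    have hu0' : u ≠ 0 := fun h => hne (by rw [← hgu, h, map_zero])
    have hgumem : g u ∈ 𝒲 j := by rw [hgu]; exact (DirectSum.decompose 𝒲 (g v) j).2
    have := claimB i0 i j0 j u0 u hu0 hu hgu0mem hgumem hu00 hu0'
    apply hj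
    rw [← this]; ring
  -- components
  have hC : ∀ (x : V) (a : ℤ), g (DirectSum.decompose 𝒱 x a : V) =
      (DirectSum.decompose 𝒲 (g x) (a + (j0 - i0)) : W) := by
    intro x a
    induction x using DirectSum.Decomposition.inductionOn 𝒱 with
    | zero => simp
    | @homogeneous b m =>
      by_cases hb : b = a
      · subst hb
        rw [DirectSum.decompose_of_mem_same 𝒱 m.2,
          DirectSum.decompose_of_mem_same 𝒲 (hfwd _ _ m.2)]
      · have hb' : b + (j0 - i0) ≠ a + (j0 - i0) := fun h => hb (by linarith)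
        rw [DirectSum.decompose_of_mem_ne 𝒱 m.2 hb,
          DirectSum.decompose_of_mem_ne 𝒲 (hfwd _ _ m.2) hb', map_zero]
    | add m m' hm hm' =>
      rw [DirectSum.decompose_add, DirectSum.add_apply, Submodule.coe_add, map_add, hm, hm',
        map_add, DirectSum.decompose_add, DirectSum.add_apply, Submodule.coe_add]
  intro i
  apply le_antisymm
  · rintro _ ⟨v, hv, rfl⟩
    exact hfwd i v hv
  · intro y hy
    refine ⟨(DirectSum.decompose 𝒱 (g.symm y) i : V), (DirectSum.decompose 𝒱 (g.symm y) i).2, ?_⟩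
    show g (DirectSum.decompose 𝒱 (g.symm y) i : V) = y
    rw [hC, LinearEquiv.apply_symm_apply, DirectSum.decompose_of_mem_same 𝒲 hy]

end Main

theorem main (k : Type u) [Field k] (V W : Type v) [AddCommGroup V] [Module k V]
    [FiniteDimensional k V] [Nontrivial V] [AddCommGroup W] [Module k W] [FiniteDimensional k W]
    (𝒱 : ℤ → Submodule k V) (h𝒱 : DirectSum.IsInternal 𝒱) (𝒲 : ℤ → Submodule k W)
    (h𝒲 : DirectSum.IsInternal 𝒲) (φ : Module.End k V ≃ₐ[k] Module.End k W)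
    (hφ : ∀ (d : ℤ) (f : Module.End k V), (∀ (i : ℤ) (x : V), x ∈ 𝒱 i → f x ∈ 𝒱 (i + d)) →
      ∀ (i : ℤ) (y : W), y ∈ 𝒲 i → φ f y ∈ 𝒲 (i + d)) :
    ∃ (n : ℤ) (g : V ≃ₗ[k] W), (∀ i : ℤ, Submodule.map (g : V →ₗ[k] W) (𝒱 i) = 𝒲 (i + n)) ∧
      (∀ f : Module.End k V, φ f = (g : V →ₗ[k] W) ∘ₗ f ∘ₗ (g.symm : W →ₗ[k] V)) ∧
      ∀ (n' : ℤ) (g' : V ≃ₗ[k] W),
        (∀ i : ℤ, Submodule.map (g' : V →ₗ[k] W) (𝒱 i) = 𝒲 (i + n')) →
        (∀ f : Module.End k V, φ f = (g' : V →ₗ[k] W) ∘ₗ f ∘ₗ (g'.symm : W →ₗ[k] V)) →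
        n' = n ∧ ∃ c : kˣ, ∀ x : V, g' x = c • g x := by
  classical
  letI := h𝒱.chooseDecomposition
  letI := h𝒲.chooseDecomposition
  obtain ⟨T, hT⟩ := AlgEquiv.eq_linearEquivConjAlgEquiv φ
  have hφT : ∀ f : Module.End k V, φ f = (T : V →ₗ[k] W) ∘ₗ f ∘ₗ (T.symm : W →ₗ[k] V) := by
    intro f
    rw [hT, LinearEquiv.conjAlgEquiv_apply]
  have hdeg : ∀ (d : ℤ) (f : Module.End k V), (∀ (i : ℤ) (x : V), x ∈ 𝒱 i → f x ∈ 𝒱 (i + d)) →
      ∀ (i : ℤ) (y : W), y ∈ 𝒲 i → T (f (T.symm y)) ∈ 𝒲 (i + d) := by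
    intro d f hf i y hy
    have := hφ d f hf i y hy
    rw [hφT] at this
    exact this
  obtain ⟨n, hn⟩ := main_exists 𝒱 𝒲 T hdeg
  refine ⟨n, T, hn, hφT, ?_⟩
  intro n' g' hn' hg'
  have heq : g'.conjAlgEquiv k = T.conjAlgEquiv k := by
    apply AlgEquiv.ext
    intro f
    rw [LinearEquiv.conjAlgEquiv_apply, LinearEquiv.conjAlgEquiv_apply, ← hg', ← hφT]
  obtain ⟨c, hc⟩ := (LinearEquiv.conjAlgEquiv_ext_iff' g' T).mp heq
  obtain ⟨i0, v0, hv0, hv00⟩ := exists_homog_ne_zero 𝒱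
  have hcx : ∀ x : V, g' x = c • T x := fun x => by rw [hc]; rfl
  refine ⟨?_, c, hcx⟩
  have h1 : g' v0 ∈ 𝒲 (i0 + n') := by
    rw [← hn']
    exact ⟨v0, hv0, rfl⟩
  have h2 : T v0 ∈ 𝒲 (i0 + n) := by
    rw [← hn]
    exact ⟨v0, hv0, rfl⟩
  have h4 : g' v0 ∈ 𝒲 (i0 + n) := by
    rw [hcx]
    exact Submodule.smul_mem _ _ h2
  have h5 : g' v0 ≠ 0 := fun h => hv00 (g'.injective (by rw [h, map_zero]))
  have := DirectSum.degree_eq_of_mem_mem 𝒲 h1 h4 h5
  linarith


end Aux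

/-- Let k be a field and V, W finite-dimensional ℤ-graded k-vector spaces, V = ⊕ V_i with V ≠ 0 and W =
⊕ W_i. Let φ : End_k(V) ≃ End_k(W) be a k-algebra isomorphism which sends every endomorphism
homogeneous of degree d (one mapping V_i into V_{i+d} for all i) to an endomorphism homogeneous of
degree d. Then there are an integer n and a k-linear isomorphism g : V ≅ W with g(V_i) = W_{i+n} for
every i such that φ(f) = g ∘ f ∘ g⁻¹ for all f; moreover n is unique and g is unique up to a nonzero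
scalar: if g' : V ≅ W satisfies g'(V_i) = W_{i+n'} for all i and φ(f) = g' ∘ f ∘ g'⁻¹ for all f,
then n' = n and g' = c·g for some c ∈ kˣ. (The published statement is about non-zero perfect
complexes over k: an isomorphism of their derived endomorphism algebras, as algebra objects of the
derived category, is induced by an isomorphism from the first complex to a shift of the second, for
a unique shift and up to a unit; this row is its form for finite-dimensional ℤ-graded vector spaces,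
to which the bounded derived category of a field is equivalent by taking cohomology.) -/
theorem result (k : Type u) [Field k] (V W : Type v) [AddCommGroup V] [Module k V] [FiniteDimensional k V] [Nontrivial V] [AddCommGroup W] [Module k W] [FiniteDimensional k W] (𝒱 : ℤ → Submodule k V) (h𝒱 : DirectSum.IsInternal 𝒱) (𝒲 : ℤ → Submodule k W) (h𝒲 : DirectSum.IsInternal 𝒲) (φ : Module.End k V ≃ₐ[k] Module.End k W) (hφ : ∀ (d : ℤ) (f : Module.End k V), (∀ (i : ℤ) (x : V), x ∈ 𝒱 i → f x ∈ 𝒱 (i + d)) → ∀ (i : ℤ) (y : W), y ∈ 𝒲 i → φ f y ∈ 𝒲 (i + d)) : ∃ (n : ℤ) (g : V ≃ₗ[k] W), (∀ i : ℤ, Submodule.map (g : V →ₗ[k] W) (𝒱 i) = 𝒲 (i + n)) ∧ (∀ f : Module.End k V, φ f = (g : V →ₗ[k] W) ∘ₗ f ∘ₗ (g.symm : W →ₗ[k] V)) ∧ ∀ (n' : ℤ) (g' : V ≃ₗ[k] W), (∀ i : ℤ, Submodule.map (g' : V →ₗ[k] W) (𝒱 i) = 𝒲 (i + n')) → (∀ f : Module.End k V, φ f = (g' : V →ₗ[k] W) ∘ₗ f ∘ₗ (g'.symm : W →ₗ[k] V)) → n' = n ∧ ∃ c : kˣ, ∀ x : V, g' x = c • g x := by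
  exact main k V W 𝒱 h𝒱 𝒲 h𝒲 φ hφ

end Groth.Agent.S13846
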