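import Groth.Statements.S13848
import Mathlib

set_option autoImplicit false
universe u v
open TwSh

namespace Groth.Agent.S13848aux

variable {A : Type u} [Ring A] {P : Type v} [AddCommGroup P] [Module A P]

variable (A P) in
/-- the trace ideal -/
def T : Ideal A := Submodule.span A {a | ∃ (f : P →ₗ[A] A) (p : P), f p = a}

lemma T_twoSided : (T A P).IsTwoSided := by
  constructor
  intro a b ha
  unfold T at ha ⊢
  induction ha using Submodule.span_induction with
  | mem x hx =>
    obtain ⟨f, p, rfl⟩ := hx
    apply Submodule.subset_span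
    exact ⟨(LinearMap.toSpanSingleton A A b) ∘ₗ f, p, by
      simp [LinearMap.toSpanSingleton_apply]⟩
  | zero => simp
  | add x y _ _ hx hy => rw [add_mul]; exact Submodule.add_mem _ hx hy
  | smul r x _ hx => rw [smul_eq_mul, mul_assoc]; exact Submodule.smul_mem _ r hx

lemma exists_dual_basis [Module.Finite A P] [Module.Projective A P] :
    ∃ (n : ℕ) (p : Fin n → P) (φ : Fin n → (P →ₗ[A] A)), ∀ x : P, x = ∑ i, φ i x • p i := by
  obtain ⟨n, p, hp⟩ := Module.Finite.exists_fin (R := A) (M := P)
  have hπ : Function.Surjective (Fintype.linearCombination A p) := by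
    rw [← LinearMap.range_eq_top, Fintype.range_linearCombination, hp]
  obtain ⟨s, hs⟩ := Module.projective_lifting_property (Fintype.linearCombination A p)
    LinearMap.id hπ
  refine ⟨n, p, fun i => (LinearMap.proj i) ∘ₗ s, fun x => ?_⟩
  have := LinearMap.congr_fun hs x
  simp only [LinearMap.comp_apply, LinearMap.id_apply, Fintype.linearCombination_apply] at this
  exact this.symm

lemma exists_left_inv (j : A) (hj : j ∈ Ring.jacobson A) : ∃ z : A, z * (1 - j) = 1 := by
  rw [← Ideal.jacobson_bot, Ideal.mem_jacobson_iff] at hj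
  obtain ⟨z, hz⟩ := hj (-1)
  rw [Submodule.mem_bot] at hz
  refine ⟨z, ?_⟩
  have : z * (1 - j) = z * -1 * j + z - 1 + 1 := by noncomm_ring
  rw [this, hz, zero_add]

lemma T_eq_top [IsSimpleRing (A ⧸ Ring.jacobson A)] [Module.Finite A P] [Module.Projective A P]
    [Nontrivial P] : (1 : A) ∈ T A P := by
  haveI := T_twoSided (A := A) (P := P)
  haveI : (T A P ⊔ Ring.jacobson A).IsTwoSided := by
    constructor
    intro a b ha
    obtain ⟨t, ht, j, hj, rfl⟩ := Submodule.mem_sup.mp ha
    rw [add_mul]
    exact Submodule.add_mem _ (Submodule.mem_sup_left (Ideal.mul_mem_right b _ ht))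
      (Submodule.mem_sup_right (Ideal.mul_mem_right b _ hj))
  by_cases hI : T A P ⊔ Ring.jacobson A = ⊤
  · have h1 : (1 : A) ∈ T A P ⊔ Ring.jacobson A := by rw [hI]; trivial
    obtain ⟨t, ht, j, hj, htj⟩ := Submodule.mem_sup.mp h1
    obtain ⟨z, hz⟩ := exists_left_inv j hj
    have : t = 1 - j := by rw [← htj]; abel
    rw [← this] at hz
    rw [← hz]
    exact (T A P).mul_mem_left z ht
  · exfalso
    haveI : Nontrivial (A ⧸ (T A P ⊔ Ring.jacobson A)) := Ideal.Quotient.nontrivial_iff.mpr hI
    have hle : Ring.jacobson A ≤ T A P ⊔ Ring.jacobson A := le_sup_right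
    have hinj : Function.Injective (Ideal.Quotient.factor hle) :=
      RingHom.injective (Ideal.Quotient.factor hle)
    have hTJ : T A P ≤ Ring.jacobson A := by
      intro t ht
      have h0 : Ideal.Quotient.factor hle (Ideal.Quotient.mk _ t) = 0 := by
        rw [Ideal.Quotient.factor_mk, Ideal.Quotient.eq_zero_iff_mem]
        exact Submodule.mem_sup_left ht
      have := hinj (h0.trans (map_zero _).symm)
      rwa [Ideal.Quotient.eq_zero_iff_mem] at this
    obtain ⟨n, p, φ, hφ⟩ := exists_dual_basis (A := A) (P := P)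
    have htop : (⊤ : Submodule A P) ≤ Ring.jacobson A • (⊤ : Submodule A P) := by
      intro x _
      rw [hφ x]
      refine Submodule.sum_mem _ (fun i _ => ?_)
      refine Submodule.smul_mem_smul (hTJ ?_) Submodule.mem_top
      exact Submodule.subset_span ⟨φ i, x, rfl⟩
    have hfg : (⊤ : Submodule A P).FG := Module.Finite.fg_top
    have hbot := Submodule.FG.eq_bot_of_le_jacobson_smul hfg htop
    obtain ⟨x, hx⟩ := exists_ne (0 : P)
    have : x ∈ (⊤ : Submodule A P) := trivial
    rw [hbot, Submodule.mem_bot] at this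
    exact hx this

theorem main (A : Type u) [Ring A] [IsSimpleRing (A ⧸ Ring.jacobson A)]
    (P : Type v) [AddCommGroup P] [Module A P] [Module.Finite A P] [Module.Projective A P]
    [Nontrivial P] (u : P ≃ₗ[A] P)
    (hu : ∀ f : Module.End A P, (u : P →ₗ[A] P) ∘ₗ f = f ∘ₗ (u : P →ₗ[A] P)) :
    ∃! a : A, (∀ b : A, a * b = b * a) ∧ ∀ x : P, u x = a • x := by
  have h1 : (1 : A) ∈ T A P := T_eq_top
  -- key identity
  have key : ∀ (f : P →ₗ[A] A) (y x : P), u (f y • x) = f (u y) • x := by
    intro f y x
    have := LinearMap.congr_fun (hu ((LinearMap.toSpanSingleton A P x) ∘ₗ f)) y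
    simpa [LinearMap.toSpanSingleton_apply] using this
  have hQ : ∀ t ∈ T A P, ∃ a : A, ∀ x : P, u (t • x) = a • x := by
    intro t ht
    unfold T at ht
    induction ht using Submodule.span_induction with
    | mem t ht =>
      obtain ⟨f, y, rfl⟩ := ht
      exact ⟨f (u y), fun x => key f y x⟩
    | zero => exact ⟨0, fun x => by simp⟩
    | add s t _ _ hs ht =>
      obtain ⟨a, ha⟩ := hs
      obtain ⟨b, hb⟩ := ht
      exact ⟨a + b, fun x => by rw [add_smul, map_add, ha, hb, add_smul]⟩
    | smul r t _ ht =>
      obtain ⟨a, ha⟩ := ht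
      exact ⟨r * a, fun x => by rw [smul_eq_mul, mul_smul, map_smul, ha, mul_smul]⟩
  have hF : ∀ t ∈ T A P, ∀ c : A, (∀ x : P, c • x = 0) → c * t = 0 := by
    intro t ht
    unfold T at ht
    induction ht using Submodule.span_induction with
    | mem t ht =>
      obtain ⟨f, y, rfl⟩ := ht
      intro c hc
      rw [← smul_eq_mul, ← map_smul, hc, map_zero]
    | zero => intro c _; simp
    | add s t _ _ hs ht =>
      intro c hc
      rw [mul_add, hs c hc, ht c hc, add_zero]
    | smul r t _ ht =>
      intro c hc
      rw [smul_eq_mul, ← mul_assoc]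
      apply ht
      intro x
      rw [mul_smul, hc]
  have hfaith : ∀ c : A, (∀ x : P, c • x = 0) → c = 0 := by
    intro c hc
    have := hF 1 h1 c hc
    rwa [mul_one] at this
  obtain ⟨a, ha⟩ := hQ 1 h1
  simp only [one_smul] at ha
  refine ⟨a, ⟨?_, ha⟩, ?_⟩
  · intro b
    rw [← sub_eq_zero]
    apply hfaith
    intro x
    rw [sub_smul, mul_smul, mul_smul, ← ha, ← ha, map_smul, sub_self]
  · rintro a' ⟨_, ha'⟩
    rw [← sub_eq_zero]
    apply hfaith
    intro x
    rw [sub_smul, ← ha, ← ha', sub_self]

end Groth.Agent.S13848aux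

namespace Groth.Agent.S13848

/-- Let A be a ring with A/J a simple left-Artinian ring, J the Jacobson radical, and let P be a
non-zero finitely generated projective left A-module. An A-linear automorphism u of P which commutes
with every A-linear endomorphism of P (equivalently, induces the identity on End_A(P) by
conjugation) is scalar multiplication by a unique central element a of A: u(x) = a·x for all x ∈ P,
and a is determined by u. (So the automorphisms of P acting trivially on End_A(P) are exactly the
central units of A acting by scalars; the published assertion does not exclude P = 0, where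
uniqueness fails.) -/
theorem result (A : Type u) [Ring A] [IsSimpleRing (A ⧸ Ring.jacobson A)] [IsArtinianRing (A ⧸ Ring.jacobson A)] (P : Type v) [AddCommGroup P] [Module A P] [Module.Finite A P] [Module.Projective A P] [Nontrivial P] (u : P ≃ₗ[A] P) (hu : ∀ f : Module.End A P, (u : P →ₗ[A] P) ∘ₗ f = f ∘ₗ (u : P →ₗ[A] P)) : ∃! a : A, (∀ b : A, a * b = b * a) ∧ ∀ x : P, u x = a • x := by
  exact Groth.Agent.S13848aux.main A P u hu

end Groth.Agent.S13848
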