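import Groth.Statements.S13860
import Mathlib.Tactic

set_option autoImplicit false
universe u v w
open ModRep

namespace Groth.Agent.S13860

/-- For k a field of characteristic p > 0, G a finite group and P a Sylow p-subgroup of G, a short exact
sequence of k[G]-modules has a k[G]-linear splitting exactly when it has a k[P]-linear one. Stated
here for the surjection of the sequence: a G-equivariant k-linear map g : B → C between k-linear
representations of G admits a G-equivariant k-linear section if and only if it admits a
P-equivariant k-linear section. -/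
theorem result {k : Type u} [Field k] (p : ℕ) [Fact p.Prime]
    [CharP k p] {G : Type v} [Group G] [Finite G] (P : Sylow p G)
    {B C : Type w} [AddCommGroup B] [Module k B] [AddCommGroup C] [Module k C]
    (ρB : Representation k G B) (ρC : Representation k G C)
    (g : B →ₗ[k] C) (hg : ∀ x : G, g ∘ₗ ρB x = ρC x ∘ₗ g) :
    (∃ s : C →ₗ[k] B, g ∘ₗ s = LinearMap.id ∧ ∀ x : G, s ∘ₗ ρC x = ρB x ∘ₗ s) ↔
      (∃ s : C →ₗ[k] B, g ∘ₗ s = LinearMap.id ∧ ∀ x : G, x ∈ P → s ∘ₗ ρC x = ρB x ∘ₗ s) := by
  classical
  constructor
  · rintro ⟨s, hs, hs'⟩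
    exact ⟨s, hs, fun x _ => hs' x⟩
  · rintro ⟨s, hs, hs'⟩
    have hfin : Fintype (G ⧸ (P : Subgroup G)) := Fintype.ofFinite _
    let T : G → (C →ₗ[k] B) := fun x => ρB x ∘ₗ s ∘ₗ ρC x⁻¹
    have hTP : ∀ (x h : G), h ∈ P → T (x * h) = T x := by
      intro x h hh
      simp only [T]
      rw [mul_inv_rev, map_mul, map_mul]
      have h1 : s ∘ₗ ρC h⁻¹ = ρB h⁻¹ ∘ₗ s := hs' h⁻¹ (inv_mem hh)
      ext c
      simp only [LinearMap.comp_apply, Module.End.mul_apply]
      have h2 := congrArg (fun φ => φ (ρC x⁻¹ c)) h1
      simp only [LinearMap.comp_apply] at h2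
      rw [h2, ← Module.End.mul_apply (ρB h), ← map_mul, mul_inv_cancel, map_one,
        Module.End.one_apply]
    let T' : G ⧸ (P : Subgroup G) → (C →ₗ[k] B) := fun q => T q.out
    have hT' : ∀ x : G, T' (QuotientGroup.mk x) = T x := by
      intro x
      obtain ⟨h, hh⟩ := QuotientGroup.mk_out_eq_mul (P : Subgroup G) x
      simp only [T']
      rw [hh]
      exact hTP x h h.2
    set c : k := (Fintype.card (G ⧸ (P : Subgroup G)) : k) with hc
    have hc0 : c ≠ 0 := by
      rw [hc, Ne, CharP.cast_eq_zero_iff k p]
      have := P.not_dvd_index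
      rwa [Subgroup.index_eq_card, Nat.card_eq_fintype_card] at this
    have hg' : ∀ (x : G) (b : B), g (ρB x b) = ρC x (g b) := by
      intro x b
      have := congrArg (fun φ => φ b) (hg x)
      simpa using this
    have hs1 : ∀ v : C, g (s v) = v := by
      intro v
      have := congrArg (fun φ => φ v) hs
      simpa using this
    have hgT : ∀ (x : G) (v : C), g (T x v) = v := by
      intro x v
      simp only [T, LinearMap.comp_apply]
      rw [hg', hs1, ← Module.End.mul_apply, ← map_mul, mul_inv_cancel, map_one, Module.End.one_apply]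
    have hyT : ∀ y x : G, ρB y ∘ₗ T x = T (y * x) ∘ₗ ρC y := by
      intro y x
      simp only [T]
      ext c
      simp only [LinearMap.comp_apply]
      rw [← Module.End.mul_apply (ρC (y * x)⁻¹), ← map_mul, mul_inv_rev, inv_mul_cancel_right,
        map_mul, Module.End.mul_apply]
    refine ⟨c⁻¹ • ∑ q, T' q, ?_, ?_⟩
    · ext v
      simp only [LinearMap.comp_apply, LinearMap.smul_apply, LinearMap.sum_apply, map_smul, map_sum,
        LinearMap.id_apply]
      have : ∀ q, g (T' q v) = v := fun q => hgT _ v
      simp only [this, Finset.sum_const, Finset.card_univ]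
      rw [← Nat.cast_smul_eq_nsmul k, smul_smul, ← hc, inv_mul_cancel₀ hc0, one_smul]
    · intro y
      ext v
      simp only [LinearMap.comp_apply, LinearMap.smul_apply, LinearMap.sum_apply, map_smul, map_sum]
      congr 1
      have h1 : ∀ q : G ⧸ (P : Subgroup G), ρB y (T' q v) = T' (y • q) (ρC y v) := by
        intro q
        have hq : y • q = QuotientGroup.mk (y * q.out) := by
          conv_lhs => rw [← QuotientGroup.out_eq' q]
          rfl
        rw [hq, hT']
        have := congrArg (fun φ => φ v) (hyT y q.out)
        simpa using this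
      simp only [h1]
      exact (Equiv.sum_comp (MulAction.toPerm y) (fun q => T' q (ρC y v))).symm

end Groth.Agent.S13860
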