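import Groth.Statements.S13861
import Groth.Agent.Lib.helper13.ASCov1
import Groth.Agent.Lib.helper13.ASCov4

set_option autoImplicit false
universe u
open ASCover

namespace Groth.Agent.S13861

section aux
open PowerSeries Groth.Agent.Lib.helper13.ASCov

/-- counting the indices -/
lemma card_Mset (p n : ℕ) (hp : 0 < p) (a : ℤ) :
    ((Mset p n a).card : ℤ) = n - (a - 1) / (p : ℤ) + (a - 1 - n) / (p : ℤ) := by
  classical
  have h1 := Finset.card_filter_add_card_filter_not (s := Finset.Icc 1 n)
    (fun m : ℕ => (p : ℤ) ∣ a - (m : ℤ))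
  rw [Nat.card_Icc, Nat.add_sub_cancel] at h1
  have h2 : ((Finset.Icc 1 n).filter (fun m : ℕ => (p : ℤ) ∣ a - (m : ℤ))).card
      = ((Finset.Ioc (a - 1 - n) (a - 1)).filter (fun x : ℤ => (p : ℤ) ∣ x)).card := by
    apply Finset.card_bij (fun (m : ℕ) _ => a - (m : ℤ))
    · intro m hm
      rw [Finset.mem_filter, Finset.mem_Icc] at hm
      rw [Finset.mem_filter, Finset.mem_Ioc]
      refine ⟨⟨by omega, by omega⟩, hm.2⟩
    · intro m _ m' _ h
      have : (m : ℤ) = m' := by linarith
      exact_mod_cast this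
    · intro x hx
      rw [Finset.mem_filter, Finset.mem_Ioc] at hx
      refine ⟨(a - x).toNat, ?_, ?_⟩
      · rw [Finset.mem_filter, Finset.mem_Icc]
        refine ⟨⟨by omega, by omega⟩, ?_⟩
        rw [Int.toNat_of_nonneg (by omega)]
        simpa using hx.2
      · rw [Int.toNat_of_nonneg (by omega)]; ring
  have h3 := Int.Ioc_filter_dvd_card (a - 1 - n) (a - 1) (r := (p : ℤ)) (by exact_mod_cast hp)
  have e1 : ⌊((a - 1 : ℤ) : ℚ) / ((p : ℤ) : ℚ)⌋ = (a - 1) / (p : ℤ) := by
    rw [Int.cast_natCast]; exact Rat.floor_intCast_div_natCast _ _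
  have e2 : ⌊((a - 1 - n : ℤ) : ℚ) / ((p : ℤ) : ℚ)⌋ = (a - 1 - n) / (p : ℤ) := by
    rw [Int.cast_natCast]; exact Rat.floor_intCast_div_natCast _ _
  rw [e1, e2] at h3
  have hmono : (a - 1 - n) / (p : ℤ) ≤ (a - 1) / (p : ℤ) :=
    Int.ediv_le_ediv (by exact_mod_cast hp) (by omega)
  rw [max_eq_left (by omega)] at h3
  have hM : (Mset p n a).card
      = ((Finset.Icc 1 n).filter (fun m : ℕ => ¬ (p : ℤ) ∣ a - (m : ℤ))).card := rfl
  omega

end aux


/-- Let k be an algebraically closed field of characteristic p > 0 and n ≥ 1 an integer prime to p; let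
u ∈ k[[t]] be the power series with constant term 1 and u^n · (1 + t^n) = 1, so that t ↦ t·u = t(1 +
t^n)^(-1/n) defines a k-automorphism σ of k((t)) of order p (the action at a totally ramified point
of a ℤ/p-cover of curves with break n). For an integer a, the fractional ideal t^a·k[[t]] is stable
under σ; transported to B = k[[t]] along h ↦ t^a·h the action of σ reads h ↦ u^a · h(t·u). For a
group G of order p generated by g acting on B through this map, the first group cohomology H^1(G, B)
is finite-dimensional over k, of dimension n − ⌊(a−1)/p⌋ + ⌊(a−1−n)/p⌋. (The published lemma also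
identifies this H^1 with the cokernel of k((t))^G → (k((t))/t^a k[[t]])^G and names explicit
representatives t^i, a − n ≤ i ≤ a − 1 with p ∤ i, of a basis; those parts are not restated here.) -/
theorem result {k : Type u} [Field k] [IsAlgClosed k] (p : ℕ)
    [Fact p.Prime] [CharP k p] (n : ℕ) (hn : 0 < n) (hpn : ¬ p ∣ n)
    (u : PowerSeries k) (hu1 : PowerSeries.constantCoeff u = 1)
    (hun : u ^ n * (1 + PowerSeries.X ^ n) = 1) (hu : IsUnit u) (a : ℤ)
    {G : Type u} [Group G] [Finite G] (g : G) (hG : Nat.card G = p)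
    (hg : ∀ x : G, x ∈ Subgroup.zpowers g)
    (ρ : Representation k G (PowerSeries k))
    (hρ : ∀ h : PowerSeries k, ρ g h =
      ((hu.unit ^ a : (PowerSeries k)ˣ) : PowerSeries k) * PowerSeries.subst (PowerSeries.X * u) h) :
    Module.Finite k (groupCohomology.H1 (Rep.of ρ)) ∧
      (Module.finrank k (groupCohomology.H1 (Rep.of ρ)) : ℤ) =
        n - (a - 1) / (p : ℤ) + (a - 1 - n) / (p : ℤ) := by
  classical
  have hs : PowerSeries.HasSubst (PowerSeries.X * u : PowerSeries k) :=
    PowerSeries.HasSubst.of_constantCoeff_zero' (by simp)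
  let σ : PowerSeries k →ₐ[k] PowerSeries k := PowerSeries.substAlgHom hs
  have hσX : σ PowerSeries.X = PowerSeries.X * u := PowerSeries.substAlgHom_X hs
  have hσapp : ∀ f, σ f = PowerSeries.subst (PowerSeries.X * u) f := fun f => by
    show PowerSeries.substAlgHom hs f = _
    rw [PowerSeries.coe_substAlgHom]
  have hσC : ∀ r : k, σ (PowerSeries.C r) = PowerSeries.C r := by
    intro r
    rw [PowerSeries.C_eq_algebraMap]
    exact σ.commutes _
  have S : Groth.Agent.Lib.helper13.ASCov.Setup p n u hu.unit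
      (σ : PowerSeries k →+* PowerSeries k) :=
    ⟨Fact.out, inferInstance, hn, hpn, hu1, hun, hu.unit_spec, hσX, hσC⟩
  open Groth.Agent.Lib.helper13.ASCov in
  -- ρ g is the twisted operator
  have hT : ∀ h, ρ g h = Tw hu.unit (σ : PowerSeries k →+* PowerSeries k) a h := by
    intro h
    rw [hρ, ← hσapp]
    rfl
  have hTl : ∀ (l : ℕ) (h : PowerSeries k),
      (ρ g ^ l) h = (Tw hu.unit (σ : PowerSeries k →+* PowerSeries k) a)^[l] h := by
    intro l h
    rw [Module.End.pow_apply]
    congr 1
    funext x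
    exact hT x
  -- σ^p = id
  have hgp : g ^ p = 1 := by rw [← hG]; exact pow_card_eq_one'
  have hσp : ∀ h : PowerSeries k, (σ : PowerSeries k →+* PowerSeries k)^[p] h = h := by
    intro h
    have h1 : (ρ g ^ p) h = h := by rw [← map_pow, hgp, map_one]; rfl
    rw [hTl, S.iterate_Tw_p] at h1
    exact h1
  -- the elements c m
  have hex : ∀ m : ℕ, ∃ cm : PowerSeries k, 1 ≤ m → m ≤ n →
      PowerSeries.X ^ m * cm = ((hu.unit ^ (a - m) : (PowerSeries k)ˣ) : PowerSeries k) - 1 := by
    intro m
    by_cases hm : m ≤ n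
    · obtain ⟨cm, hcm⟩ := (pow_dvd_pow (PowerSeries.X : PowerSeries k) hm).trans
        (S.dvd_zpow (a - m))
      exact ⟨cm, fun _ _ => hcm.symm⟩
    · exact ⟨0, fun _ h => absurd h hm⟩
  choose c hc using hex
  -- apply the abstract lemma
  have key := cyclic_H1_basis g hg ρ (ι := {m // m ∈ Mset p n a}) (fun i => c i.1)
    (by
      intro i
      rw [hG]
      simp only [hTl]
      have hi := i.2
      simp only [Mset, Finset.mem_filter, Finset.mem_Icc] at hi
      exact S.c_mem_ker a i.1 (c i.1) (hc i.1 hi.1.1 hi.1.2))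
    (by
      intro v hv
      rw [hG] at hv
      simp only [hTl] at hv
      obtain ⟨j, f, hf⟩ := S.h90 a hσp v hv
      obtain ⟨h, coef, hw⟩ := S.reduce a c hc j f v hf
      refine ⟨h, fun i => coef i.1, ?_⟩
      rw [hT, hw]
      congr 1
      exact (Finset.sum_coe_sort (Mset p n a) (fun m => coef m • c m)).symm)
    (by
      intro lam w hw i
      have := S.indep a c hc (fun m => if hm : m ∈ Mset p n a then lam ⟨m, hm⟩ else 0) w (by
        rw [← hT, hw, ← Finset.sum_coe_sort (Mset p n a)]
        apply Finset.sum_congr rfl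
        intro x _
        simp [x.2]) i.1 i.2
      simpa [i.2] using this)
  refine ⟨key.1, ?_⟩
  rw [key.2, Fintype.card_coe]
  exact card_Mset p n (Fact.out : p.Prime).pos a

end Groth.Agent.S13861
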