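import Groth.Statements.S13862
import Groth.Agent.Lib.helper13.ASCov5
import Groth.Agent.Lib.helper13.ASCov6

set_option autoImplicit false
universe u
open ASCover

namespace Groth.Agent.S13862

section aux
open PowerSeries Groth.Agent.Lib.helper13.ASCov

/-- counting the indices -/
lemma card_Mset (p n : ℕ) (hp : 0 < p) (a : ℤ) :
    ((Mset p n a).card : ℤ) = n - (a - 1) / (p : ℤ) + (a - 1 - n) / (p : ℤ) := by
  classical
  have h1 := Finset.card_filter_add_card_filter_not (s := Finset.Icc 1 n)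
    (fun m : ℕ => (p : ℤ) ∣ a - (m : ℤ))
  rw [Nat.card_Icc, Nat.add_sub_cancel] at h1
  have h2 : ((Finset.Icc 1 n).filter (fun m : ℕ => (p : ℤ) ∣ a - (m : ℤ))).card
      = ((Finset.Ioc (a - 1 - n) (a - 1)).filter (fun x : ℤ => (p : ℤ) ∣ x)).card := by
    apply Finset.card_bij (fun (m : ℕ) _ => a - (m : ℤ))
    · intro m hm
      rw [Finset.mem_filter, Finset.mem_Icc] at hm
      rw [Finset.mem_filter, Finset.mem_Ioc]
      refine ⟨⟨by omega, by omega⟩, hm.2⟩
    · intro m _ m' _ h
      have : (m : ℤ) = m' := by linarith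
      exact_mod_cast this
    · intro x hx
      rw [Finset.mem_filter, Finset.mem_Ioc] at hx
      refine ⟨(a - x).toNat, ?_, ?_⟩
      · rw [Finset.mem_filter, Finset.mem_Icc]
        refine ⟨⟨by omega, by omega⟩, ?_⟩
        rw [Int.toNat_of_nonneg (by omega)]
        simpa using hx.2
      · rw [Int.toNat_of_nonneg (by omega)]; ring
  have h3 := Int.Ioc_filter_dvd_card (a - 1 - n) (a - 1) (r := (p : ℤ)) (by exact_mod_cast hp)
  have e1 : ⌊((a - 1 : ℤ) : ℚ) / ((p : ℤ) : ℚ)⌋ = (a - 1) / (p : ℤ) := by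
    rw [Int.cast_natCast]; exact Rat.floor_intCast_div_natCast _ _
  have e2 : ⌊((a - 1 - n : ℤ) : ℚ) / ((p : ℤ) : ℚ)⌋ = (a - 1 - n) / (p : ℤ) := by
    rw [Int.cast_natCast]; exact Rat.floor_intCast_div_natCast _ _
  rw [e1, e2] at h3
  have hmono : (a - 1 - n) / (p : ℤ) ≤ (a - 1) / (p : ℤ) :=
    Int.ediv_le_ediv (by exact_mod_cast hp) (by omega)
  rw [max_eq_left (by omega)] at h3
  have hM : (Mset p n a).card
      = ((Finset.Icc 1 n).filter (fun m : ℕ => ¬ (p : ℤ) ∣ a - (m : ℤ))).card := rfl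
  omega

/-- the number of `m' ∈ [1,n]` with `p ∣ m' - 1` -/
lemma card_A (p n : ℕ) (hp : 0 < p) (hn : 0 < n) :
    (((Finset.Icc 1 n).filter (fun m : ℕ => (p : ℤ) ∣ (m : ℤ) - 1)).card : ℤ)
      = (n - 1 : ℤ) / (p : ℤ) + 1 := by
  classical
  have h2 : ((Finset.Icc 1 n).filter (fun m : ℕ => (p : ℤ) ∣ (m : ℤ) - 1)).card
      = ((Finset.Ioc (-1 : ℤ) (n - 1)).filter (fun x : ℤ => (p : ℤ) ∣ x)).card := by
    apply Finset.card_bij (fun (m : ℕ) _ => (m : ℤ) - 1)
    · intro m hm
      rw [Finset.mem_filter, Finset.mem_Icc] at hm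
      rw [Finset.mem_filter, Finset.mem_Ioc]
      refine ⟨⟨by omega, by omega⟩, hm.2⟩
    · intro m _ m' _ h
      have : (m : ℤ) = m' := by linarith
      exact_mod_cast this
    · intro x hx
      rw [Finset.mem_filter, Finset.mem_Ioc] at hx
      refine ⟨(x + 1).toNat, ?_, ?_⟩
      · rw [Finset.mem_filter, Finset.mem_Icc]
        refine ⟨⟨by omega, by omega⟩, ?_⟩
        rw [Int.toNat_of_nonneg (by omega)]
        simpa using hx.2
      · rw [Int.toNat_of_nonneg (by omega)]; ring
  have h3 := Int.Ioc_filter_dvd_card (-1 : ℤ) (n - 1) (r := (p : ℤ)) (by exact_mod_cast hp)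
  have e1 : ⌊((n - 1 : ℤ) : ℚ) / ((p : ℤ) : ℚ)⌋ = (n - 1) / (p : ℤ) := by
    rw [Int.cast_natCast]; exact Rat.floor_intCast_div_natCast _ _
  have e2 : ⌊((-1 : ℤ) : ℚ) / ((p : ℤ) : ℚ)⌋ = (-1) / (p : ℤ) := by
    rw [Int.cast_natCast]; exact Rat.floor_intCast_div_natCast _ _
  rw [e1, e2] at h3
  have hneg : (-1 : ℤ) / (p : ℤ) = -1 := by
    have hp' : (0 : ℤ) < p := by exact_mod_cast hp
    exact ((Int.ediv_emod_unique hp' (r := p - 1)).mpr ⟨by ring, by omega, by omega⟩).1
  have hq : (0 : ℤ) ≤ (n - 1 : ℤ) / (p : ℤ) := Int.ediv_nonneg (by omega) (by omega)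
  rw [hneg, max_eq_left (by omega)] at h3
  omega

/-- integer division facts -/
lemma arith (p n : ℕ) (hp : 0 < p) (hpn : ¬ p ∣ n) :
    (n : ℤ) / p = (n - 1 : ℤ) / p ∧ ((n + 1) * (p - 1) : ℤ) / p = n - (n - 1 : ℤ) / p := by
  have hp' : (0 : ℤ) < p := by exact_mod_cast hp
  set q := (n - 1 : ℤ) / p with hq
  set r := (n - 1 : ℤ) % p with hr
  have h1 : (p : ℤ) * q + r = n - 1 := Int.mul_ediv_add_emod _ _
  have h2 : 0 ≤ r := Int.emod_nonneg _ hp'.ne'
  have h3 : r < p := Int.emod_lt_of_pos _ hp'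
  have h4 : r + 1 ≠ p := by
    intro h
    apply hpn
    have : (p : ℤ) ∣ (n : ℤ) := ⟨q + 1, by linarith⟩
    exact_mod_cast this
  constructor
  · exact ((Int.ediv_emod_unique hp' (r := r + 1)).mpr ⟨by linarith, by omega, by omega⟩).1
  · have : ((n + 1) * (p - 1) : ℤ) / p = q * (p - 1) + r + 1 := by
      refine ((Int.ediv_emod_unique hp' (r := p - r - 2)).mpr ⟨?_, by omega, by omega⟩).1
      have hn' : (n : ℤ) = p * q + r + 1 := by linarith
      rw [hn']; ring
    rw [this]
    nlinarith [h1]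

end aux


/-- For k an algebraically closed field of characteristic p > 0, n ≥ 1 an integer prime to p, u ∈ k[[t]]
the power series with constant term 1 and u^n · (1 + t^n) = 1, and G a group of order p generated by
g, consider two k-linear actions of G on B = k[[t]]: ρ₀(g) h = h(t·u), i.e. B with its order-p
automorphism σ(t) = t·u, and ρ₁(g) h = u^(n+1) · h(t·u), which is the σ-module B·dt identified with
B through h·dt ↦ h (because d(σ t) = u^(n+1) dt). The derivative d/dt : (B, ρ₀) → (B, ρ₁) is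
G-equivariant, and the image of the map it induces on first group cohomology, H^1(G, (B, ρ₀)) →
H^1(G, (B, ρ₁)), is finite-dimensional over k of dimension ⌊(n+1)(p−1)/p⌋ − 1 − ⌊(n−1)/p⌋. This is
the dimension of the image of H^1(G, O) → H^1(G, Ω) at a ramified point with break n of a ℤ/p-cover
of smooth curves, computed in the completed local ring; the published statement is phrased for the
stalks, at a point of the quotient curve, of the direct images of the structure sheaf and of the
sheaf of differentials, and its proof passes to this completed form. -/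
theorem result {k : Type u} [Field k] [IsAlgClosed k] (p : ℕ)
    [Fact p.Prime] [CharP k p] (n : ℕ) (hn : 0 < n) (hpn : ¬ p ∣ n)
    (u : PowerSeries k) (hu1 : PowerSeries.constantCoeff u = 1)
    (hun : u ^ n * (1 + PowerSeries.X ^ n) = 1)
    {G : Type u} [Group G] [Finite G] (g : G) (hG : Nat.card G = p)
    (hg : ∀ x : G, x ∈ Subgroup.zpowers g)
    (ρ₀ ρ₁ : Representation k G (PowerSeries k))
    (hρ₀ : ∀ h : PowerSeries k, ρ₀ g h = PowerSeries.subst (PowerSeries.X * u) h)
    (hρ₁ : ∀ h : PowerSeries k, ρ₁ g h = u ^ (n + 1) * PowerSeries.subst (PowerSeries.X * u) h)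
    (φ : Rep.of ρ₀ ⟶ Rep.of ρ₁) (hφ : ∀ h : PowerSeries k, φ.hom h = PowerSeries.derivative k h) :
    Module.Finite k (LinearMap.range ((groupCohomology.functor k G 1).map φ).hom) ∧
      (Module.finrank k (LinearMap.range ((groupCohomology.functor k G 1).map φ).hom) : ℤ) =
        ((n + 1) * (p - 1) : ℤ) / p - 1 - (n - 1 : ℤ) / p := by
  classical
  open Groth.Agent.Lib.helper13.ASCov in
  have hp : p.Prime := Fact.out
  have hu : IsUnit u := by
    rw [PowerSeries.isUnit_iff_constantCoeff, hu1]; exact isUnit_one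
  set uU : (PowerSeries k)ˣ := hu.unit with huU
  have hs : PowerSeries.HasSubst (PowerSeries.X * u : PowerSeries k) :=
    PowerSeries.HasSubst.of_constantCoeff_zero' (by simp)
  let σ : PowerSeries k →ₐ[k] PowerSeries k := PowerSeries.substAlgHom hs
  have hσX : σ PowerSeries.X = PowerSeries.X * u := PowerSeries.substAlgHom_X hs
  have hσapp : ∀ f, σ f = PowerSeries.subst (PowerSeries.X * u) f := fun f => by
    show PowerSeries.substAlgHom hs f = _
    rw [PowerSeries.coe_substAlgHom]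
  have hσC : ∀ r : k, σ (PowerSeries.C r) = PowerSeries.C r := by
    intro r
    rw [PowerSeries.C_eq_algebraMap]
    exact σ.commutes _
  have S : Setup p n u uU (σ : PowerSeries k →+* PowerSeries k) :=
    ⟨hp, inferInstance, hn, hpn, hu1, hun, hu.unit_spec, hσX, hσC⟩
  set a1 : ℤ := ((n + 1 : ℕ) : ℤ) with ha1
  -- the actions
  have hT0 : ∀ h, ρ₀ g h = Tw uU (σ : PowerSeries k →+* PowerSeries k) 0 h := by
    intro h
    rw [hρ₀, ← hσapp, Tw_zero_exp]
    rfl
  have hT1 : ∀ h, ρ₁ g h = Tw uU (σ : PowerSeries k →+* PowerSeries k) a1 h := by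
    intro h
    rw [hρ₁, ← hσapp]
    simp only [Tw]
    rw [ha1, zpow_natCast, Units.val_pow_eq_pow_val, hu.unit_spec]
    rfl
  have hTl0 : ∀ (l : ℕ) (h : PowerSeries k),
      (ρ₀ g ^ l) h = (Tw uU (σ : PowerSeries k →+* PowerSeries k) 0)^[l] h := by
    intro l h
    rw [Module.End.pow_apply]
    congr 1
    funext x
    exact hT0 x
  have hgp : g ^ p = 1 := by rw [← hG]; exact pow_card_eq_one'
  have hσp : ∀ h : PowerSeries k, (σ : PowerSeries k →+* PowerSeries k)^[p] h = h := by
    intro h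
    have h1 : (ρ₀ g ^ p) h = h := by rw [← map_pow, hgp, map_one]; rfl
    rw [hTl0, S.iterate_Tw_p] at h1
    exact h1
  -- the derivative is equivariant
  have hD : ∀ h : PowerSeries k, PowerSeries.derivative k
      (Tw uU (σ : PowerSeries k →+* PowerSeries k) 0 h)
      = Tw uU (σ : PowerSeries k →+* PowerSeries k) a1 (PowerSeries.derivative k h) := by
    intro h
    have := Rep.hom_comm_apply φ g h
    rw [← hT0, ← hT1, ← hφ, ← hφ]
    exact this
  -- the elements c0, c1
  have hex0 : ∀ m : ℕ, ∃ cm : PowerSeries k, 1 ≤ m → m ≤ n →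
      PowerSeries.X ^ m * cm = ((uU ^ ((0 : ℤ) - m) : (PowerSeries k)ˣ) : PowerSeries k) - 1 := by
    intro m
    by_cases hm : m ≤ n
    · obtain ⟨cm, hcm⟩ := (pow_dvd_pow (PowerSeries.X : PowerSeries k) hm).trans
        (S.dvd_zpow ((0 : ℤ) - m))
      exact ⟨cm, fun _ _ => hcm.symm⟩
    · exact ⟨0, fun _ h => absurd h hm⟩
  choose c0 hc0 using hex0
  have hex1 : ∀ m : ℕ, ∃ cm : PowerSeries k, 1 ≤ m → m ≤ n + 1 →
      PowerSeries.X ^ m * cm = ((uU ^ (a1 - m) : (PowerSeries k)ˣ) : PowerSeries k) - 1 := by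
    intro m
    by_cases hm : m ≤ n
    · obtain ⟨cm, hcm⟩ := (pow_dvd_pow (PowerSeries.X : PowerSeries k) hm).trans
        (S.dvd_zpow (a1 - m))
      exact ⟨cm, fun _ _ => hcm.symm⟩
    · refine ⟨0, fun _ h => ?_⟩
      have : m = n + 1 := by omega
      subst this
      rw [ha1, sub_self, zpow_zero, Units.val_one, sub_self, mul_zero]
  choose c1 hc1 using hex1
  have hc1' : ∀ m : ℕ, 1 ≤ m → m ≤ n →
      PowerSeries.X ^ m * c1 m = ((uU ^ (a1 - m) : (PowerSeries k)ˣ) : PowerSeries k) - 1 :=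
    fun m h1 h2 => hc1 m h1 (by omega)
  have hc1n : c1 (n + 1) = 0 := by
    have := hc1 (n + 1) (by omega) le_rfl
    rw [ha1, sub_self, zpow_zero, Units.val_one, sub_self] at this
    rcases mul_eq_zero.mp this with h | h
    · exact absurd h (pow_ne_zero _ PowerSeries.X_ne_zero)
    · exact h
  have hdc : ∀ m : ℕ, 1 ≤ m → m ≤ n →
      PowerSeries.derivative k (c0 m) = - (m : PowerSeries k) * c1 (m + 1) :=
    fun m h1 h2 => S.dC m (c0 m) (c1 (m + 1)) (hc0 m h1 h2) (hc1 (m + 1) (by omega) (by omega))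
  -- the index set
  set M0 := Mset p n 0 with hM0
  set M1 := Mset p n a1 with hM1
  set J := M1.filter (fun m' : ℕ => 2 ≤ m' ∧ (m' - 1) ∈ M0) with hJ
  have hM0mem : ∀ m, m ∈ M0 ↔ (1 ≤ m ∧ m ≤ n) ∧ ¬ (p : ℤ) ∣ (0 : ℤ) - (m : ℤ) := by
    intro m; simp only [hM0, Mset, Finset.mem_filter, Finset.mem_Icc]
  have hM1mem : ∀ m, m ∈ M1 ↔ (1 ≤ m ∧ m ≤ n) ∧ ¬ (p : ℤ) ∣ a1 - (m : ℤ) := by
    intro m; simp only [hM1, Mset, Finset.mem_filter, Finset.mem_Icc]
  have hJmem : ∀ i, i ∈ J ↔ i ∈ M1 ∧ 2 ≤ i ∧ (i - 1) ∈ M0 := by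
    intro i; simp only [hJ, Finset.mem_filter]
  have hcast : ∀ m, m ∈ M0 → ((m : ℕ) : k) ≠ 0 := by
    intro m hm h0
    have h1 := ((hM0mem m).mp hm).2
    apply h1
    rw [zero_sub, dvd_neg]
    exact_mod_cast (CharP.cast_eq_zero_iff k p m).mp h0
  -- the key abstract lemma
  have key := cyclic_range_basis g hg ρ₀ ρ₁ φ (ι := {i // i ∈ J}) (fun i => c0 (i.1 - 1))
    (by
      intro i
      obtain ⟨_, hi2, hi0⟩ := (hJmem i.1).mp i.2
      obtain ⟨⟨h1, h2⟩, _⟩ := (hM0mem _).mp hi0
      simp only [pS]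
      rw [hG]
      simp only [hTl0]
      exact S.c_mem_ker 0 (i.1 - 1) (c0 (i.1 - 1)) (hc0 _ h1 h2))
    (by
      intro lam v hv i
      -- coefficients
      let coef : ℕ → k := fun m' => if h : m' ∈ J then - ((m' - 1 : ℕ) : k) * lam ⟨m', h⟩ else 0
      have hsum : Tw uU (σ : PowerSeries k →+* PowerSeries k) a1 v - v
          = ∑ m' ∈ M1, coef m' • c1 m' := by
        rw [← hT1, hv]
        have hsub : J ⊆ M1 := Finset.filter_subset _ _
        rw [← Finset.sum_subset hsub (by
          intro m' _ hm'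
          simp only [coef, dif_neg hm', zero_smul]), ← Finset.sum_coe_sort J]
        apply Finset.sum_congr rfl
        intro x _
        obtain ⟨_, hx2, hx0⟩ := (hJmem x.1).mp x.2
        obtain ⟨⟨h1, h2⟩, _⟩ := (hM0mem _).mp hx0
        simp only [coef, dif_pos x.2]
        rw [hφ, hdc _ h1 h2, Nat.sub_add_cancel (by omega : 1 ≤ x.1), PowerSeries.smul_eq_C_mul,
          PowerSeries.smul_eq_C_mul, map_mul, map_neg, map_natCast]
        ring
      have hz := S.indep a1 c1 hc1' coef v hsum i.1 ((hJmem i.1).mp i.2).1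
      simp only [coef, dif_pos i.2] at hz
      obtain ⟨_, hi2, hi0⟩ := (hJmem i.1).mp i.2
      rcases mul_eq_zero.mp hz with h | h
      · exact absurd (neg_eq_zero.mp h) (hcast _ hi0)
      · exact h)
    (by
      intro v hv
      simp only [pS] at hv
      rw [hG] at hv
      simp only [hTl0] at hv
      obtain ⟨j, f, hf⟩ := S.h90 0 hσp v hv
      obtain ⟨h, coef, hw⟩ := S.reduce 0 c0 hc0 j f v hf
      -- the submodule of coboundary values
      let R : Submodule k (PowerSeries k) := LinearMap.range (ρ₁ g - 1)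
      have hR : ∀ y : PowerSeries k, y ∈ R ↔ ∃ v', ρ₁ g v' - v' = y := by
        intro y
        simp only [R, LinearMap.mem_range, LinearMap.sub_apply, Module.End.one_apply]
      set F : ℕ → PowerSeries k := fun m => coef m • PowerSeries.derivative k (c0 m) with hF
      have hφv : φ.hom v = (ρ₁ g (PowerSeries.derivative k h) - PowerSeries.derivative k h)
          + ∑ m ∈ M0, F m := by
        rw [hφ, hw, map_add, map_sub, hD, map_sum, hT1]
        congr 1
        apply Finset.sum_congr rfl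
        intro m _
        exact Derivation.map_smul _ _ _
      -- split the sum
      have hsplit := Finset.sum_filter_add_sum_filter_not M0 (fun m => m + 1 ∈ J) F
      have hgood : ∑ m ∈ M0.filter (fun m => m + 1 ∈ J), F m
          = ∑ i : {i // i ∈ J}, coef (i.1 - 1) • φ.hom (c0 (i.1 - 1)) := by
        rw [Finset.sum_coe_sort J (fun i => coef (i - 1) • φ.hom (c0 (i - 1)))]
        apply Finset.sum_nbij' (fun m => m + 1) (fun i => i - 1)
        · intro m hm
          exact (Finset.mem_filter.mp hm).2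
        · intro i hi
          obtain ⟨_, hi2, hi0⟩ := (hJmem i).mp hi
          rw [Finset.mem_filter]
          refine ⟨hi0, ?_⟩
          rw [Nat.sub_add_cancel (by omega)]
          exact hi
        · intro m _
          simp
        · intro i hi
          obtain ⟨_, hi2, _⟩ := (hJmem i).mp hi
          exact Nat.sub_add_cancel (by omega)
        · intro m _
          simp only [Nat.add_sub_cancel, hF, hφ]
      have hbad : ∑ m ∈ M0.filter (fun m => ¬ (m + 1 ∈ J)), F m ∈ R := by
        apply Submodule.sum_mem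
        intro m hm
        obtain ⟨hm0, hmJ⟩ := Finset.mem_filter.mp hm
        obtain ⟨⟨h1, h2⟩, h3⟩ := (hM0mem m).mp hm0
        have hnotM1 : ¬ (m + 1 ∈ M1) := by
          intro hM
          apply hmJ
          rw [hJmem]
          refine ⟨hM, by omega, ?_⟩
          rw [Nat.add_sub_cancel]
          exact hm0
        simp only [hF]
        rw [hdc m h1 h2]
        by_cases hmn : m = n
        · rw [hmn, hc1n, mul_zero, smul_zero]
          exact zero_mem _
        · have hlt : m + 1 ≤ n := by omega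
          have hdvd : (p : ℤ) ∣ a1 - ((m + 1 : ℕ) : ℤ) := by
            by_contra hnd
            exact hnotM1 ((hM1mem _).mpr ⟨⟨by omega, hlt⟩, hnd⟩)
          obtain ⟨h', hh'⟩ := S.exists_coboundary a1 (m + 1) hlt hdvd (c1 (m + 1))
            (hc1' _ (by omega) hlt)
          have hc1R : c1 (m + 1) ∈ R := (hR _).mpr ⟨h', by rw [hT1]; exact hh'⟩
          have : - (m : PowerSeries k) * c1 (m + 1) = (-(m : k)) • c1 (m + 1) := by
            rw [PowerSeries.smul_eq_C_mul, map_neg, map_natCast]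
          rw [this]
          exact Submodule.smul_mem _ _ (Submodule.smul_mem _ _ hc1R)
      obtain ⟨v'', hv''⟩ := (hR _).mp hbad
      refine ⟨PowerSeries.derivative k h + v'', fun i => coef (i.1 - 1), ?_⟩
      rw [hφv, ← hsplit, hgood, map_add, ← hv'']
      abel)
  refine ⟨key.1, ?_⟩
  rw [key.2, Fintype.card_coe]
  -- counting
  have hJ' : J = M1.filter (fun m' : ℕ => ¬ (p : ℤ) ∣ (m' : ℤ) - 1) := by
    ext i
    rw [hJmem, Finset.mem_filter]
    constructor
    · rintro ⟨h1, h2, h3⟩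
      refine ⟨h1, ?_⟩
      have := ((hM0mem _).mp h3).2
      rw [zero_sub, dvd_neg, Nat.cast_sub (by omega)] at this
      simpa using this
    · rintro ⟨h1, h2⟩
      obtain ⟨⟨h3, h4⟩, _⟩ := (hM1mem i).mp h1
      have hi2 : 2 ≤ i := by
        by_contra hlt
        have : i = 1 := by omega
        subst this
        simp at h2
      refine ⟨h1, hi2, (hM0mem _).mpr ⟨⟨by omega, by omega⟩, ?_⟩⟩
      rw [zero_sub, dvd_neg, Nat.cast_sub (by omega)]
      simpa using h2
  have hcount := Finset.card_filter_add_card_filter_not (s := M1)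
    (fun m' : ℕ => (p : ℤ) ∣ (m' : ℤ) - 1)
  have hA : M1.filter (fun m' : ℕ => (p : ℤ) ∣ (m' : ℤ) - 1)
      = (Finset.Icc 1 n).filter (fun m : ℕ => (p : ℤ) ∣ (m : ℤ) - 1) := by
    ext i
    rw [Finset.mem_filter, Finset.mem_filter, hM1mem, Finset.mem_Icc]
    constructor
    · rintro ⟨⟨h1, _⟩, h2⟩
      exact ⟨h1, h2⟩
    · rintro ⟨h1, h2⟩
      refine ⟨⟨h1, ?_⟩, h2⟩
      intro h3
      apply hpn
      have : (p : ℤ) ∣ (n : ℤ) := by
        have := dvd_add h3 h2
        rw [ha1] at this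
        push_cast at this
        have e : ((n : ℤ) + 1 - i + (i - 1)) = n := by ring
        rwa [e] at this
      exact_mod_cast this
  have hM1card := card_Mset p n hp.pos a1
  have hAcard := card_A p n hp.pos hn
  obtain ⟨har1, har2⟩ := arith p n hp.pos hpn
  rw [hA] at hcount
  rw [← hJ'] at hcount
  have e1 : (a1 - 1) / (p : ℤ) = (n : ℤ) / p := by rw [ha1]; push_cast; ring_nf
  have e2 : (a1 - 1 - n) / (p : ℤ) = 0 := by rw [ha1]; push_cast; ring_nf; simp
  rw [e1, e2, har1] at hM1card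
  rw [har2]
  have hc : ((J.card : ℕ) : ℤ) + ((Finset.Icc 1 n).filter
      (fun m : ℕ => (p : ℤ) ∣ (m : ℤ) - 1)).card = M1.card := by
    rw [add_comm]; exact_mod_cast hcount
  linarith

end Groth.Agent.S13862
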