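import Groth.Statements.S13863
import Mathlib

set_option autoImplicit false
universe u
open ASCover

namespace Groth.Agent.S13863

section aux
open PowerSeries

variable {k : Type u} [Field k]

lemma root_unique {n : ℕ} (hn : (n : k) ≠ 0) {a b : PowerSeries k}
    (ha : constantCoeff a = 1) (hb : constantCoeff b = 1) (h : a ^ n = b ^ n) : a = b := by
  have key := Commute.geom_sum₂_mul (Commute.all a b) n
  rw [h, sub_self] at key
  have hS : IsUnit (∑ i ∈ Finset.range n, a ^ i * b ^ (n - 1 - i)) := by
    rw [PowerSeries.isUnit_iff_constantCoeff]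
    simp [map_sum, ha, hb, hn]
  exact sub_eq_zero.mp ((hS.mul_right_eq_zero).mp key)

/-- the abstract core: everything phrased with a ring endomorphism `σ` of `k⟦X⟧` -/
lemma core (p : ℕ) [Fact p.Prime] [CharP k p] (n : ℕ) (hpn : ¬ p ∣ n)
    (u : PowerSeries k) (hu1 : constantCoeff u = 1)
    (hun : u ^ n * (1 + X ^ n) = 1) (uU : (PowerSeries k)ˣ) (huU : (uU : PowerSeries k) = u)
    (σ : PowerSeries k →+* PowerSeries k) (hσX : σ X = X * u)
    (hσc : ∀ f, constantCoeff (σ f) = constantCoeff f)
    (a : ℤ) (m : ℕ) (hmn : m ≤ n) (hdvd : (p : ℤ) ∣ a - m) (c : PowerSeries k)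
    (hc : X ^ m * c = ((uU ^ (a - m) : (PowerSeries k)ˣ) : PowerSeries k) - 1) :
    ∃ h : PowerSeries k, ((uU ^ a : (PowerSeries k)ˣ) : PowerSeries k) * σ h - h = c := by
  have hnk : (n : k) ≠ 0 := by
    intro h0
    exact hpn ((CharP.cast_eq_zero_iff k p n).mp h0)
  have hp0 : ((p : ℕ) : PowerSeries k) = 0 := by
    rw [← map_natCast (C : k →+* PowerSeries k), CharP.cast_eq_zero, map_zero]
  -- the sequence U
  let U : ℕ → PowerSeries k := fun l => (fun x => u * σ x)^[l] 1
  have hU0 : U 0 = 1 := rfl
  have hUs : ∀ l, U (l + 1) = u * σ (U l) := fun l => Function.iterate_succ_apply' _ _ _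
  have hUc : ∀ l, constantCoeff (U l) = 1 := by
    intro l
    induction l with
    | zero => simp [hU0]
    | succ l ih => rw [hUs, map_mul, hσc, ih, hu1, mul_one]
  -- Claim A
  have hA : ∀ l : ℕ, (X * U l) ^ n * (1 + (l : PowerSeries k) * X ^ n) = X ^ n := by
    intro l
    induction l with
    | zero => simp [hU0]
    | succ l ih =>
      have e1 : X * U (l + 1) = σ (X * U l) := by rw [hUs, map_mul, hσX]; ring
      have e2 : σ ((X * U l) ^ n) * σ (1 + (l : PowerSeries k) * X ^ n) = σ (X ^ n) := by
        rw [← map_mul, ih]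
      have e3 : σ (1 + (l : PowerSeries k) * X ^ n) = 1 + (l : PowerSeries k) * (X ^ n * u ^ n) := by
        rw [map_add, map_one, map_mul, map_natCast, map_pow, hσX, mul_pow]
      have e4 : σ (X ^ n) = X ^ n * u ^ n := by rw [map_pow, hσX, mul_pow]
      rw [e3, e4] at e2
      rw [e1, ← map_pow, Nat.cast_succ]
      linear_combination (1 + X ^ n) * e2 +
        (X ^ n - σ ((X * U l) ^ n) * (l : PowerSeries k) * X ^ n) * hun
  -- Claim B
  have hB : U p = 1 := by
    have h := hA p
    rw [hp0, zero_mul, add_zero, mul_one, mul_pow] at h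
    have h' : (U p) ^ n = 1 := by
      have hX : (X : PowerSeries k) ^ n ≠ 0 := pow_ne_zero n X_ne_zero
      apply mul_left_cancel₀ hX
      rw [h, mul_one]
    apply root_unique hnk (hUc p) (by simp)
    rw [h', one_pow]
  -- v
  set v : PowerSeries k := ∏ l ∈ Finset.range p, U l with hv
  have hC : u ^ p * σ v = v := by
    have h1 : u ^ p * σ v = ∏ l ∈ Finset.range p, U (l + 1) := by
      rw [hv, map_prod]
      have : u ^ p = ∏ _l ∈ Finset.range p, u := by
        rw [Finset.prod_const, Finset.card_range]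
      rw [this, ← Finset.prod_mul_distrib]
      exact Finset.prod_congr rfl (fun l _ => (hUs l).symm)
    have h2 := Finset.prod_range_succ' U p
    have h3 := Finset.prod_range_succ U p
    rw [h2, hU0, hB, mul_one, mul_one] at h3
    rw [h1, h3]
  -- the congruence predicate
  have Qu : X ^ n ∣ u - 1 := by
    have hgeo := geom_sum_mul u n
    have hS : IsUnit (∑ i ∈ Finset.range n, u ^ i) := by
      rw [PowerSeries.isUnit_iff_constantCoeff]
      simp [map_sum, hu1, hnk]
    obtain ⟨S', hS'⟩ := hS.exists_left_inv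
    refine ⟨-(S' * u ^ n), ?_⟩
    linear_combination (-(u - 1)) * hS' + S' * hgeo + S' * hun
  have Qσ : ∀ f : PowerSeries k, X ^ n ∣ f - 1 → X ^ n ∣ σ f - 1 := by
    rintro f ⟨c', hc'⟩
    refine ⟨u ^ n * σ c', ?_⟩
    have : σ f - 1 = σ (f - 1) := by rw [map_sub, map_one]
    rw [this, hc', map_mul, map_pow, hσX, mul_pow]
    ring
  have Qmul : ∀ f g : PowerSeries k, X ^ n ∣ f - 1 → X ^ n ∣ g - 1 → X ^ n ∣ f * g - 1 := by
    intro f g hf hg
    have : f * g - 1 = (f - 1) * g + (g - 1) := by ring
    rw [this]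
    exact dvd_add (Dvd.dvd.mul_right hf g) hg
  have QU : ∀ l, X ^ n ∣ U l - 1 := by
    intro l
    induction l with
    | zero => rw [hU0, sub_self]; exact dvd_zero _
    | succ l ih => rw [hUs]; exact Qmul _ _ Qu (Qσ _ ih)
  have Qv : X ^ n ∣ v - 1 := by
    rw [hv]
    refine Finset.prod_induction (s := Finset.range p) U (fun f : PowerSeries k => X ^ n ∣ f - 1) Qmul ?_ (fun l _ => QU l)
    rw [sub_self]; exact dvd_zero _
  have hvc : constantCoeff v = 1 := by
    rw [hv, map_prod]
    exact Finset.prod_eq_one (fun l _ => hUc l)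
  have hvu : IsUnit v := by
    rw [PowerSeries.isUnit_iff_constantCoeff, hvc]
    exact isUnit_one
  set vU : (PowerSeries k)ˣ := hvu.unit with hvU
  have hvUv : (vU : PowerSeries k) = v := hvu.unit_spec
  have Qinv : ∀ w : (PowerSeries k)ˣ, X ^ n ∣ (w : PowerSeries k) - 1 →
      X ^ n ∣ ((w⁻¹ : (PowerSeries k)ˣ) : PowerSeries k) - 1 := by
    intro w hw
    have : ((w⁻¹ : (PowerSeries k)ˣ) : PowerSeries k) - 1
        = -((w⁻¹ : (PowerSeries k)ˣ) : PowerSeries k) * ((w : PowerSeries k) - 1) := by
      have := w.inv_mul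
      linear_combination this
    rw [this]
    exact Dvd.dvd.mul_left hw _
  have Qnpow : ∀ (w : (PowerSeries k)ˣ) (r : ℕ), X ^ n ∣ (w : PowerSeries k) - 1 →
      X ^ n ∣ ((w ^ r : (PowerSeries k)ˣ) : PowerSeries k) - 1 := by
    intro w r hw
    induction r with
    | zero => simp
    | succ r ih =>
      rw [pow_succ, Units.val_mul]
      exact Qmul _ _ ih hw
  have Qzpow : ∀ (w : (PowerSeries k)ˣ) (j : ℤ), X ^ n ∣ (w : PowerSeries k) - 1 →
      X ^ n ∣ ((w ^ j : (PowerSeries k)ˣ) : PowerSeries k) - 1 := by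
    intro w j hw
    obtain ⟨r, rfl | rfl⟩ := Int.eq_nat_or_neg j
    · rw [zpow_natCast]; exact Qnpow w r hw
    · rw [zpow_neg, zpow_natCast, ← inv_pow]; exact Qnpow _ r (Qinv w hw)
  -- the unit version of claim C
  have hCU : uU ^ p * Units.map (σ : PowerSeries k →* PowerSeries k) vU = vU := by
    apply Units.ext
    rw [Units.val_mul, Units.val_pow_eq_pow_val, Units.coe_map, huU, hvUv]
    exact hC
  obtain ⟨j, hj⟩ := hdvd
  set wU : (PowerSeries k)ˣ := vU ^ j with hwU
  have hW : uU ^ (a - m) * Units.map (σ : PowerSeries k →* PowerSeries k) wU = wU := by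
    rw [hj, zpow_mul, zpow_natCast, hwU, map_zpow, ← mul_zpow, hCU]
  have hWv : ((uU ^ (a - m) : (PowerSeries k)ˣ) : PowerSeries k) * σ (wU : PowerSeries k)
      = (wU : PowerSeries k) := by
    have := congrArg Units.val hW
    rwa [Units.val_mul, Units.coe_map] at this
  have hq : X ^ m ∣ (wU : PowerSeries k) - 1 :=
    (pow_dvd_pow X hmn).trans (Qzpow vU j (by rw [hvUv]; exact Qv))
  obtain ⟨h0, hh0⟩ := hq
  refine ⟨-h0, ?_⟩
  have hX : (X : PowerSeries k) ^ m ≠ 0 := pow_ne_zero m X_ne_zero
  apply mul_left_cancel₀ hX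
  rw [hc]
  have hsplit : ((uU ^ a : (PowerSeries k)ˣ) : PowerSeries k)
      = ((uU ^ (a - m) : (PowerSeries k)ˣ) : PowerSeries k) * u ^ m := by
    have : uU ^ a = uU ^ (a - m) * uU ^ (m : ℤ) := by
      rw [← zpow_add]; congr 1; ring
    rw [this, Units.val_mul, zpow_natCast, Units.val_pow_eq_pow_val, huU]
  have hσh : X ^ m * u ^ m * σ (-h0) = 1 - σ (wU : PowerSeries k) := by
    have : X ^ m * u ^ m * σ (-h0) = σ (X ^ m * (-h0)) := by
      rw [map_mul, map_pow, hσX, mul_pow]
    rw [this, mul_neg, ← hh0, neg_sub, map_sub, map_one]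
  rw [hsplit]
  linear_combination ((uU ^ (a - m) : (PowerSeries k)ˣ) : PowerSeries k) * hσh - hWv - hh0

end aux


/-- For k an algebraically closed field of characteristic p > 0, n ≥ 1 an integer prime to p, and u ∈
k[[t]] the power series with constant term 1 and u^n · (1 + t^n) = 1, the substitution σ(t) = t·u is
a k-automorphism of k((t)) of order p and, for an integer a, σ acts on the fractional ideal I =
t^a·k[[t]]; transported to B = k[[t]] along h ↦ t^a·h this action is h ↦ u^a · h(t·u). For an
integer i with a − n ≤ i ≤ a − 1 the element σ(t^i) − t^i lies in I, so t^i defines a class in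
H^1(⟨σ⟩, I); the classes with p ∤ i form a basis of this H^1, and when p divides i the class
vanishes, i.e. σ(t^i) − t^i = σ(w) − w for some w ∈ I. (The published statement of this vanishing is
printed with the condition p ∤ i, which contradicts the basis assertion of the same lemma; its proof
treats p | i, and this row states that case.) In transported form, with m = a − i ∈ [1, n] and c ∈
k[[t]] defined by t^m · c = u^i − 1: there is h ∈ k[[t]] with u^a · h(t·u) − h = c. -/
theorem result {k : Type u} [Field k] [IsAlgClosed k] (p : ℕ)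
    [Fact p.Prime] [CharP k p] (n : ℕ) (hn : 0 < n) (hpn : ¬ p ∣ n)
    (u : PowerSeries k) (hu1 : PowerSeries.constantCoeff u = 1)
    (hun : u ^ n * (1 + PowerSeries.X ^ n) = 1) (hu : IsUnit u) (a : ℤ) (m : ℕ)
    (hm1 : 1 ≤ m) (hmn : m ≤ n) (hdvd : (p : ℤ) ∣ a - m) (c : PowerSeries k)
    (hc : PowerSeries.X ^ m * c = ((hu.unit ^ (a - m) : (PowerSeries k)ˣ) : PowerSeries k) - 1) :
    ∃ h : PowerSeries k,
      ((hu.unit ^ a : (PowerSeries k)ˣ) : PowerSeries k) * PowerSeries.subst (PowerSeries.X * u) h - h = c := by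
  have hs : PowerSeries.HasSubst (PowerSeries.X * u : PowerSeries k) :=
    PowerSeries.HasSubst.of_constantCoeff_zero' (by simp)
  let σ : PowerSeries k →ₐ[k] PowerSeries k := PowerSeries.substAlgHom hs
  have hσX : σ PowerSeries.X = PowerSeries.X * u := PowerSeries.substAlgHom_X hs
  have hσapp : ∀ f, σ f = PowerSeries.subst (PowerSeries.X * u) f := fun f => by
    show PowerSeries.substAlgHom hs f = _
    rw [PowerSeries.coe_substAlgHom]
  have hσc : ∀ f : PowerSeries k, PowerSeries.constantCoeff (σ f) = PowerSeries.constantCoeff f := by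
    intro f
    set g := f - PowerSeries.C (PowerSeries.constantCoeff f) with hg
    have hf : f = PowerSeries.C (PowerSeries.constantCoeff f) + g := by rw [hg]; ring
    have h0 : PowerSeries.constantCoeff g = 0 := by simp [hg]
    have h1 : PowerSeries.constantCoeff (σ g) = 0 := by
      rw [hσapp]
      exact PowerSeries.constantCoeff_subst_eq_zero
        (show PowerSeries.constantCoeff (PowerSeries.X * u) = 0 by simp) g h0
    have h2 : σ (PowerSeries.C (PowerSeries.constantCoeff f))
        = PowerSeries.C (PowerSeries.constantCoeff f) := by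
      rw [PowerSeries.C_eq_algebraMap]
      exact σ.commutes _
    calc PowerSeries.constantCoeff (σ f)
        = PowerSeries.constantCoeff (σ (PowerSeries.C (PowerSeries.constantCoeff f)) + σ g) := by
          rw [← map_add, ← hf]
      _ = PowerSeries.constantCoeff f := by
          rw [map_add, h1, add_zero, h2]; simp
  obtain ⟨h, hh⟩ := core p n hpn u hu1 hun hu.unit hu.unit_spec (σ : PowerSeries k →+* PowerSeries k)
    hσX hσc a m hmn hdvd c hc
  refine ⟨h, ?_⟩
  rw [← hσapp]
  exact hh

end Groth.Agent.S13863
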