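import Groth.Statements.S13864
import Mathlib

set_option autoImplicit false
universe u
open ASCover

namespace Groth.Agent.S13864

section aux
open PowerSeries

variable {k : Type u} [Field k]

lemma coeff_X_mul_of_pos {n : ℕ} (hn : 0 < n) (Y : PowerSeries k) :
    coeff n (X * Y) = coeff (n - 1) Y := by
  obtain ⟨n', rfl⟩ := Nat.exists_eq_succ_of_ne_zero hn.ne'
  simpa using coeff_succ_X_mul n' Y

/-- the abstract core: everything phrased with a ring endomorphism `σ` of `k⟦X⟧` -/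
lemma core2 (p : ℕ) [Fact p.Prime] [CharP k p] (n : ℕ) (hn : 0 < n) (hpn : ¬ p ∣ n)
    (u : PowerSeries k) (hu1 : constantCoeff u = 1)
    (hun : u ^ n * (1 + X ^ n) = 1) (uU : (PowerSeries k)ˣ) (huU : (uU : PowerSeries k) = u)
    (σ : PowerSeries k →+* PowerSeries k) (hσX : σ X = X * u) (hσC : ∀ r, σ (C r) = C r)
    (a : ℤ) (c : ℕ → PowerSeries k)
    (hc : ∀ m : ℕ, 1 ≤ m → m ≤ n →
      X ^ m * c m = ((uU ^ (a - m) : (PowerSeries k)ˣ) : PowerSeries k) - 1)
    (coef : ℕ → k) (h : PowerSeries k)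
    (hh : ((uU ^ a : (PowerSeries k)ˣ) : PowerSeries k) * σ h - h =
      ∑ m ∈ (Finset.Icc 1 n).filter (fun m : ℕ => ¬ (p : ℤ) ∣ a - (m : ℤ)), coef m • c m) :
    ∀ m ∈ (Finset.Icc 1 n).filter (fun m : ℕ => ¬ (p : ℤ) ∣ a - (m : ℤ)), coef m = 0 := by
  classical
  have hnk : (n : k) ≠ 0 := by
    intro h0
    exact hpn ((CharP.cast_eq_zero_iff k p n).mp h0)
  have Qu : X ^ n ∣ u - 1 := by
    have hgeo := geom_sum_mul u n
    have hS : IsUnit (∑ i ∈ Finset.range n, u ^ i) := by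
      rw [PowerSeries.isUnit_iff_constantCoeff]
      simp [map_sum, hu1, hnk]
    obtain ⟨S', hS'⟩ := hS.exists_left_inv
    refine ⟨-(S' * u ^ n), ?_⟩
    linear_combination (-(u - 1)) * hS' + S' * hgeo + S' * hun
  have QuU : X ^ n ∣ (uU : PowerSeries k) - 1 := by rw [huU]; exact Qu
  have Qmul : ∀ f g : PowerSeries k, X ^ n ∣ f - 1 → X ^ n ∣ g - 1 → X ^ n ∣ f * g - 1 := by
    intro f g hf hg
    have : f * g - 1 = (f - 1) * g + (g - 1) := by ring
    rw [this]
    exact dvd_add (Dvd.dvd.mul_right hf g) hg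
  have Qinv : ∀ w : (PowerSeries k)ˣ, X ^ n ∣ (w : PowerSeries k) - 1 →
      X ^ n ∣ ((w⁻¹ : (PowerSeries k)ˣ) : PowerSeries k) - 1 := by
    intro w hw
    have : ((w⁻¹ : (PowerSeries k)ˣ) : PowerSeries k) - 1
        = -((w⁻¹ : (PowerSeries k)ˣ) : PowerSeries k) * ((w : PowerSeries k) - 1) := by
      have := w.inv_mul
      linear_combination this
    rw [this]
    exact Dvd.dvd.mul_left hw _
  have Qnpow : ∀ (w : (PowerSeries k)ˣ) (r : ℕ), X ^ n ∣ (w : PowerSeries k) - 1 →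
      X ^ n ∣ ((w ^ r : (PowerSeries k)ˣ) : PowerSeries k) - 1 := by
    intro w r hw
    induction r with
    | zero => simp
    | succ r ih =>
      rw [pow_succ, Units.val_mul]
      exact Qmul _ _ ih hw
  have Qzpow : ∀ (w : (PowerSeries k)ˣ) (j : ℤ), X ^ n ∣ (w : PowerSeries k) - 1 →
      X ^ n ∣ ((w ^ j : (PowerSeries k)ˣ) : PowerSeries k) - 1 := by
    intro w j hw
    obtain ⟨r, rfl | rfl⟩ := Int.eq_nat_or_neg j
    · rw [zpow_natCast]; exact Qnpow w r hw
    · rw [zpow_neg, zpow_natCast, ← inv_pow]; exact Qnpow _ r (Qinv w hw)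
  -- additivity of the n-th coefficient
  have hcoeff1 : coeff n (1 : PowerSeries k) = 0 := by
    rw [coeff_one]; simp [hn.ne']
  have Ladd : ∀ w w' : PowerSeries k, X ^ n ∣ w - 1 → X ^ n ∣ w' - 1 →
      coeff n (w * w') = coeff n w + coeff n w' := by
    intro w w' hw hw'
    have e : w * w' = (w - 1) * (w' - 1) + w + w' - 1 := by ring
    have hd : X ^ (n + n) ∣ (w - 1) * (w' - 1) := by rw [pow_add]; exact mul_dvd_mul hw hw'
    have h0 : coeff n ((w - 1) * (w' - 1)) = 0 := (X_pow_dvd_iff.mp hd) n (by omega)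
    rw [e, map_sub, map_add, map_add, h0, hcoeff1]; ring
  have Lnpow : ∀ (w : (PowerSeries k)ˣ) (r : ℕ), X ^ n ∣ (w : PowerSeries k) - 1 →
      coeff n ((w ^ r : (PowerSeries k)ˣ) : PowerSeries k)
        = (r : k) * coeff n (w : PowerSeries k) := by
    intro w r hw
    induction r with
    | zero => simp [hcoeff1]
    | succ r ih =>
      rw [pow_succ, Units.val_mul, Ladd _ _ (Qnpow w r hw) hw, ih]; push_cast; ring
  have Linv : ∀ w : (PowerSeries k)ˣ, X ^ n ∣ (w : PowerSeries k) - 1 →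
      coeff n ((w⁻¹ : (PowerSeries k)ˣ) : PowerSeries k) = - coeff n (w : PowerSeries k) := by
    intro w hw
    have := Ladd _ _ hw (Qinv w hw)
    rw [w.mul_inv, hcoeff1] at this
    linear_combination -this
  have Lzpow : ∀ (w : (PowerSeries k)ˣ) (j : ℤ), X ^ n ∣ (w : PowerSeries k) - 1 →
      coeff n ((w ^ j : (PowerSeries k)ˣ) : PowerSeries k)
        = (j : k) * coeff n (w : PowerSeries k) := by
    intro w j hw
    obtain ⟨r, rfl | rfl⟩ := Int.eq_nat_or_neg j
    · rw [zpow_natCast, Lnpow w r hw]; simp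
    · rw [zpow_neg, zpow_natCast, ← inv_pow, Lnpow _ r (Qinv w hw), Linv w hw]; simp
  set lam := coeff n u with hlam
  have hlam1 : (n : k) * lam = -1 := by
    have hq1 : X ^ n ∣ u ^ n - 1 := by
      have := Qnpow uU n QuU
      rwa [Units.val_pow_eq_pow_val, huU] at this
    have h1 := Ladd (u ^ n) (1 + X ^ n) hq1 (by simp)
    rw [hun, hcoeff1] at h1
    have h2 := Lnpow uU n QuU
    rw [Units.val_pow_eq_pow_val, huU] at h2
    rw [h2, map_add, hcoeff1, coeff_X_pow_self, zero_add] at h1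
    linear_combination -h1
  have hlam0 : lam ≠ 0 := by
    intro h0
    rw [h0, mul_zero] at hlam1
    exact absurd hlam1 (by norm_num)
  -- the basic identity
  have E : ∀ (i : ℤ) (G1 : PowerSeries k) (g0 : k),
      ((uU ^ i : (PowerSeries k)ˣ) : PowerSeries k) * σ (X * G1 + C g0) - (X * G1 + C g0)
        = X * (((uU ^ (i + 1) : (PowerSeries k)ˣ) : PowerSeries k) * σ G1 - G1)
          + C g0 * (((uU ^ i : (PowerSeries k)ˣ) : PowerSeries k) - 1) := by
    intro i G1 g0
    have e1 : ((uU ^ (i + 1) : (PowerSeries k)ˣ) : PowerSeries k)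
        = ((uU ^ i : (PowerSeries k)ˣ) : PowerSeries k) * u := by
      rw [zpow_add_one, Units.val_mul, huU]
    rw [e1, map_add, map_mul, hσX, hσC]
    ring
  have P : ∀ r : ℕ, r ≤ n → ∀ (i : ℤ) (G : PowerSeries k),
      X ^ r ∣ ((uU ^ i : (PowerSeries k)ˣ) : PowerSeries k) * σ G - G := by
    intro r
    induction r with
    | zero => intro _ i G; rw [pow_zero]; exact one_dvd _
    | succ r ih =>
      intro hr i G
      obtain ⟨G1, g0, rfl⟩ : ∃ G1 g0, G = X * G1 + C g0 :=
        ⟨_, _, eq_X_mul_shift_add_const G⟩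
      rw [E]
      apply dvd_add
      · rw [pow_succ']; exact mul_dvd_mul_left X (ih (by omega) (i + 1) G1)
      · exact Dvd.dvd.mul_left ((pow_dvd_pow X hr).trans (Qzpow uU i QuU)) _
  have K : ∀ (i : ℤ) (G : PowerSeries k),
      coeff n (((uU ^ i : (PowerSeries k)ˣ) : PowerSeries k) * σ G - G)
        = constantCoeff G * ((i : k) * lam) := by
    intro i G
    obtain ⟨G1, g0, rfl⟩ : ∃ G1 g0, G = X * G1 + C g0 :=
      ⟨_, _, eq_X_mul_shift_add_const G⟩
    have h0 : coeff (n - 1) (((uU ^ (i + 1) : (PowerSeries k)ˣ) : PowerSeries k) * σ G1 - G1) = 0 :=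
      (X_pow_dvd_iff.mp (P n le_rfl (i + 1) G1)) (n - 1) (by omega)
    rw [E, map_add, coeff_X_mul_of_pos hn, h0, coeff_C_mul, map_sub, hcoeff1,
      Lzpow uU i QuU, huU, sub_zero]
    simp [hlam]
  -- main argument
  intro m hm
  by_contra hne
  set M := (Finset.Icc 1 n).filter (fun m : ℕ => ¬ (p : ℤ) ∣ a - (m : ℤ)) with hM
  set S := M.filter (fun m => coef m ≠ 0) with hS
  have hSne : S.Nonempty := ⟨m, Finset.mem_filter.mpr ⟨hm, hne⟩⟩
  set m₀ := S.max' hSne with hm₀
  have hm₀S : m₀ ∈ S := Finset.max'_mem S hSne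
  have hm₀M : m₀ ∈ M := (Finset.mem_filter.mp hm₀S).1
  have hm₀c : coef m₀ ≠ 0 := (Finset.mem_filter.mp hm₀S).2
  obtain ⟨hm₀I, hm₀p⟩ := Finset.mem_filter.mp hm₀M
  obtain ⟨hm₀1, hm₀n⟩ := Finset.mem_Icc.mp hm₀I
  have hle : ∀ m ∈ S, m ≤ m₀ := fun m hm => Finset.le_max' S m hm
  have hsum : ∑ m ∈ M, coef m • c m = ∑ m ∈ S, C (coef m) * c m := by
    rw [hS, Finset.sum_filter (fun m => coef m ≠ 0) (fun m => C (coef m) * c m)]
    apply Finset.sum_congr rfl
    intro m _
    by_cases h0 : coef m = 0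
    · simp [h0]
    · simp [h0, smul_eq_C_mul]
  set G : PowerSeries k := ∑ m ∈ S, C (coef m) * X ^ (m₀ - m) - X ^ m₀ * h with hG
  have hGeq : ((uU ^ (a - m₀) : (PowerSeries k)ˣ) : PowerSeries k) * σ G - G = 0 := by
    have hσG : σ G = ∑ m ∈ S, C (coef m) * (X * u) ^ (m₀ - m) - (X * u) ^ m₀ * σ h := by
      rw [hG, map_sub, map_sum, map_mul, map_pow, hσX]
      congr 1
      apply Finset.sum_congr rfl
      intro m _
      rw [map_mul, hσC, map_pow, hσX]
    have t1 : ∀ m ∈ S, ((uU ^ (a - m₀) : (PowerSeries k)ˣ) : PowerSeries k)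
          * (C (coef m) * (X * u) ^ (m₀ - m)) - C (coef m) * X ^ (m₀ - m)
        = C (coef m) * X ^ (m₀ - m)
          * (((uU ^ (a - m) : (PowerSeries k)ˣ) : PowerSeries k) - 1) := by
      intro m hmS
      have hmle := hle m hmS
      have : uU ^ (a - m) = uU ^ (a - m₀) * uU ^ (m₀ - m) := by
        rw [← zpow_natCast, ← zpow_add]; congr 1; push_cast [Nat.cast_sub hmle]; ring
      rw [this, Units.val_mul, Units.val_pow_eq_pow_val, huU, mul_pow]; ring
    have t2 : ((uU ^ (a - m₀) : (PowerSeries k)ˣ) : PowerSeries k) * ((X * u) ^ m₀ * σ h)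
        = X ^ m₀ * (((uU ^ a : (PowerSeries k)ˣ) : PowerSeries k) * σ h) := by
      have : uU ^ a = uU ^ (a - m₀) * uU ^ m₀ := by
        rw [← zpow_natCast, ← zpow_add]; congr 1; ring
      rw [this, Units.val_mul, Units.val_pow_eq_pow_val, huU, mul_pow]; ring
    have e3 : ((uU ^ (a - m₀) : (PowerSeries k)ˣ) : PowerSeries k) * σ G - G
        = ∑ m ∈ S, (((uU ^ (a - m₀) : (PowerSeries k)ˣ) : PowerSeries k)
            * (C (coef m) * (X * u) ^ (m₀ - m)) - C (coef m) * X ^ (m₀ - m))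
          - X ^ m₀ * (((uU ^ a : (PowerSeries k)ˣ) : PowerSeries k) * σ h - h) := by
      rw [hσG, Finset.sum_sub_distrib, mul_sub, Finset.mul_sum, t2, hG]; ring
    rw [e3, hh, hsum, Finset.sum_congr rfl t1, Finset.mul_sum, sub_eq_zero]
    apply Finset.sum_congr rfl
    intro m hmS
    have hmM := (Finset.mem_filter.mp hmS).1
    obtain ⟨hmI, _⟩ := Finset.mem_filter.mp hmM
    obtain ⟨hm1, hmn⟩ := Finset.mem_Icc.mp hmI
    rw [← hc m hm1 hmn]
    have : (X : PowerSeries k) ^ m₀ = X ^ (m₀ - m) * X ^ m := by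
      rw [← pow_add]; congr 1; have := hle m hmS; omega
    rw [this]; ring
  have hK := K (a - m₀) G
  rw [hGeq, map_zero] at hK
  have hG0 : constantCoeff G = coef m₀ := by
    rw [hG, map_sub, map_sum, map_mul, map_pow, constantCoeff_X, zero_pow (by omega), zero_mul,
      sub_zero]
    rw [Finset.sum_eq_single m₀]
    · simp
    · intro m hmS hmne
      have : m₀ - m ≠ 0 := by have := hle m hmS; omega
      simp [this]
    · intro h; exact absurd hm₀S h
  rw [hG0] at hK
  have hcast : ((a - m₀ : ℤ) : k) ≠ 0 := by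
    intro h0
    exact hm₀p ((CharP.intCast_eq_zero_iff k p _).mp h0)
  exact (mul_ne_zero hm₀c (mul_ne_zero hcast hlam0)) hK.symm

end aux


/-- Let k be an algebraically closed field of characteristic p > 0, n ≥ 1 an integer prime to p, u ∈
k[[t]] the power series with constant term 1 and u^n · (1 + t^n) = 1 (so σ(t) = t·u is a
k-automorphism of k((t)) of order p), and a an integer; σ acts on I = t^a·k[[t]], and transported to
B = k[[t]] along h ↦ t^a·h the action is h ↦ u^a · h(t·u). For 1 ≤ m ≤ n let c_m ∈ B be determined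
by t^m · c_m = u^(a−m) − 1; this is the cocycle value σ(t^i) − t^i ∈ I of the element t^i, i = a −
m, divided by t^a. The published lemma says that the classes of the t^i with a − n ≤ i ≤ a − 1 and p
∤ i form a basis of H^1(⟨σ⟩, I); this row states their linear independence: if Σ λ_m c_m, summed
over 1 ≤ m ≤ n with p ∤ a − m, equals u^a · h(t·u) − h for some h ∈ B, then every such λ_m is 0.
(Together with the dimension of this H^1, namely n − ⌊(a−1)/p⌋ + ⌊(a−1−n)/p⌋, this gives the basis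
statement.) -/
theorem result {k : Type u} [Field k] [IsAlgClosed k] (p : ℕ)
    [Fact p.Prime] [CharP k p] (n : ℕ) (hn : 0 < n) (hpn : ¬ p ∣ n)
    (u : PowerSeries k) (hu1 : PowerSeries.constantCoeff u = 1)
    (hun : u ^ n * (1 + PowerSeries.X ^ n) = 1) (hu : IsUnit u) (a : ℤ)
    (c : ℕ → PowerSeries k)
    (hc : ∀ m : ℕ, 1 ≤ m → m ≤ n →
      PowerSeries.X ^ m * c m = ((hu.unit ^ (a - m) : (PowerSeries k)ˣ) : PowerSeries k) - 1)
    (coef : ℕ → k) (h : PowerSeries k)
    (hh : ((hu.unit ^ a : (PowerSeries k)ˣ) : PowerSeries k) * PowerSeries.subst (PowerSeries.X * u) h - h =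
      ∑ m ∈ (Finset.Icc 1 n).filter (fun m : ℕ => ¬ (p : ℤ) ∣ a - (m : ℤ)), coef m • c m) :
    ∀ m ∈ (Finset.Icc 1 n).filter (fun m : ℕ => ¬ (p : ℤ) ∣ a - (m : ℤ)), coef m = 0 := by
  have hs : PowerSeries.HasSubst (PowerSeries.X * u : PowerSeries k) :=
    PowerSeries.HasSubst.of_constantCoeff_zero' (by simp)
  let σ : PowerSeries k →ₐ[k] PowerSeries k := PowerSeries.substAlgHom hs
  have hσX : σ PowerSeries.X = PowerSeries.X * u := PowerSeries.substAlgHom_X hs
  have hσapp : ∀ f, σ f = PowerSeries.subst (PowerSeries.X * u) f := fun f => by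
    show PowerSeries.substAlgHom hs f = _
    rw [PowerSeries.coe_substAlgHom]
  have hσC : ∀ r : k, σ (PowerSeries.C r) = PowerSeries.C r := by
    intro r
    rw [PowerSeries.C_eq_algebraMap]
    exact σ.commutes _
  rw [← hσapp] at hh
  exact core2 p n hn hpn u hu1 hun hu.unit hu.unit_spec (σ : PowerSeries k →+* PowerSeries k)
    hσX hσC a c hc coef h hh

end Groth.Agent.S13864
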