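import Groth.Statements.S13877
import Mathlib
import Groth.Agent.Lib.helper27.LengthDet

set_option autoImplicit false
universe u v
open Crimp

namespace Groth.Agent.S13877aux
open Module

variable {R : Type*} [CommRing R] [IsDomain R] {St : Type*} [CommRing St] [Algebra R St] {d : ℕ}
  (bt : Basis (Fin d) R St) (S : Subalgebra R St) (bS : Basis (Fin d) R S)

/-- coordinate matrix of the inclusion -/
noncomputable def Pm : Matrix (Fin d) (Fin d) R := LinearMap.toMatrix bS bt S.val.toLinearMap

lemma Pm_apply (i j : Fin d) : Pm bt S bS i j = bt.repr (bS j : St) i := by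
  simp [Pm, LinearMap.toMatrix_apply]

lemma Pm_det_ne_zero : (Pm bt S bS).det ≠ 0 := by
  intro h
  obtain ⟨w, hw0, hw⟩ := Matrix.exists_mulVec_eq_zero_iff.2 h
  apply hw0
  have h1 := LinearMap.toMatrix_mulVec_repr bS bt S.val.toLinearMap (bS.equivFun.symm w)
  have h2 : (⇑(bS.repr (bS.equivFun.symm w)) : Fin d → R) = w := by
    have := bS.equivFun.apply_symm_apply w
    rwa [Basis.equivFun_apply] at this
  rw [h2] at h1
  change (Pm bt S bS).mulVec w = _ at h1
  rw [hw] at h1
  have h3 : bt.repr (S.val.toLinearMap (bS.equivFun.symm w)) = 0 := by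
    ext i; exact (congrFun h1 i).symm
  have h4 : S.val.toLinearMap (bS.equivFun.symm w) = 0 := bt.repr.map_eq_zero_iff.1 h3
  have h5 : bS.equivFun.symm w = 0 := by
    apply Subtype.ext
    simpa using h4
  rw [← bS.equivFun.apply_symm_apply w, h5, map_zero]

include bt bS in
lemma trace_eq (s : S) : Algebra.trace R S s = Algebra.trace R St (s : St) := by
  have hdet := Pm_det_ne_zero bt S bS
  set P := Pm bt S bS with hP
  set A := LinearMap.toMatrix bS bS (Algebra.lmul R S s) with hA
  set B := LinearMap.toMatrix bt bt (Algebra.lmul R St (s : St)) with hB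
  have hcomm : S.val.toLinearMap ∘ₗ (Algebra.lmul R S s) =
      (Algebra.lmul R St (s : St)) ∘ₗ S.val.toLinearMap := by
    ext x; simp
  have hmat : P * A = B * P := by
    rw [hP, hA, hB, Pm, ← LinearMap.toMatrix_comp, ← LinearMap.toMatrix_comp, hcomm]
  have h1 : P.det * A.trace = P.det * B.trace := by
    calc P.det * A.trace = ((P.det • (1 : Matrix (Fin d) (Fin d) R)) * A).trace := by
          simp [Matrix.trace_smul]
      _ = (P.adjugate * P * A).trace := by rw [Matrix.adjugate_mul]
      _ = (P.adjugate * (B * P)).trace := by rw [Matrix.mul_assoc, hmat]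
      _ = (B * P * P.adjugate).trace := by rw [Matrix.trace_mul_comm]
      _ = (B * (P.det • (1 : Matrix (Fin d) (Fin d) R))).trace := by
          rw [Matrix.mul_assoc, Matrix.mul_adjugate]
      _ = P.det * B.trace := by simp [Matrix.trace_smul]
  have h2 := mul_left_cancel₀ hdet h1
  rw [Algebra.trace_apply, Algebra.trace_apply, LinearMap.trace_eq_matrix_trace R bS,
    LinearMap.trace_eq_matrix_trace R bt]
  exact h2

lemma discr_eq : Algebra.discr R bS = (Pm bt S bS).det ^ 2 * Algebra.discr R bt := by
  have e1 : Algebra.discr R bS = Algebra.discr R (fun i => (bS i : St)) := by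
    rw [Algebra.discr_def, Algebra.discr_def]
    congr 1
    ext i j
    rw [Algebra.traceMatrix_apply, Algebra.traceMatrix_apply, Algebra.traceForm_apply,
      Algebra.traceForm_apply, trace_eq bt S bS]
    rfl
  have e2 : (fun i => (bS i : St)) =
      Matrix.vecMul (⇑bt) ((Pm bt S bS).map (algebraMap R St)) := by
    funext j
    simp only [Matrix.vecMul, dotProduct, Matrix.map_apply, Pm_apply]
    conv_lhs => rw [← bt.sum_repr (bS j : St)]
    refine Finset.sum_congr rfl fun i _ => ?_
    rw [Algebra.smul_def, mul_comm]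
  rw [e1, e2, Algebra.discr_of_matrix_vecMul]

lemma det_smul_mem (x : St) : (Pm bt S bS).det • x ∈ Subalgebra.toSubmodule S := by
  have hl : ∀ l, (Pm bt S bS).det • bt l ∈ Subalgebra.toSubmodule S := by
    intro l
    have : (Pm bt S bS).det • bt l = ∑ j, (Pm bt S bS).adjugate j l • (bS j : St) := by
      have hv : ∀ j, (bS j : St) = ∑ i, Pm bt S bS i j • bt i := by
        intro j
        conv_lhs => rw [← bt.sum_repr (bS j : St)]
        refine Finset.sum_congr rfl fun i _ => ?_
        rw [Pm_apply]
      simp_rw [hv, Finset.smul_sum, smul_smul]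
      rw [Finset.sum_comm]
      simp_rw [← Finset.sum_smul]
      have hmul : ∀ i, ∑ j, (Pm bt S bS).adjugate j l * Pm bt S bS i j =
          ((Pm bt S bS) * (Pm bt S bS).adjugate) i l := by
        intro i
        rw [Matrix.mul_apply]
        exact Finset.sum_congr rfl fun j _ => mul_comm _ _
      simp_rw [hmul, Matrix.mul_adjugate, Matrix.smul_apply, Matrix.one_apply, smul_eq_mul,
        mul_ite, mul_one, mul_zero, ite_smul, zero_smul]
      simp
    rw [this]
    exact Submodule.sum_mem _ fun j _ => Submodule.smul_mem _ _ (bS j).2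
  rw [← bt.sum_repr x, Finset.smul_sum]
  refine Submodule.sum_mem _ fun l _ => ?_
  rw [smul_comm]
  exact Submodule.smul_mem _ _ (hl l)

lemma det_eq : bt.det (fun i => (bS i : St)) = (Pm bt S bS).det := by
  rw [Basis.det_apply]
  congr 1
  ext i j
  rw [Basis.toMatrix_apply, Pm_apply]

end Groth.Agent.S13877aux

namespace Groth.Agent.S13877

/-- Over R = k⟦t⟧ with k an algebraically closed field of characteristic zero, let S' be a commutative
R-algebra with an R-basis of size d whose discriminant generates the ideal (t ^ a) (a finite cover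
of the formal disk of degree d, unramified over the punctured disk, with branch divisor (t ^ a)),
and let S be an R-subalgebra of S' with an R-basis of size d whose discriminant generates (t ^ b) (a
crimp with branch divisor (t ^ b)). Then t ^ b annihilates S' / S and twice the R-length of S' / S
plus a equals b. (The published statement is for a family of such subalgebras over a k-scheme T and
also asserts T-flatness of the quotient; this row is its restriction to T a point.) -/
theorem result {k : Type u} [Field k] [IsAlgClosed k] [CharZero k]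
    {St : Type v} [CommRing St] [Algebra (PowerSeries k) St] (d a b : ℕ)
    (bt : Module.Basis (Fin d) (PowerSeries k) St)
    (ha : Ideal.span {Algebra.discr (PowerSeries k) ⇑bt} = Ideal.span {(PowerSeries.X : PowerSeries k) ^ a})
    (S : Subalgebra (PowerSeries k) St) (bS : Module.Basis (Fin d) (PowerSeries k) S)
    (hb : Ideal.span {Algebra.discr (PowerSeries k) ⇑bS} = Ideal.span {(PowerSeries.X : PowerSeries k) ^ b}) :
    (∀ q : St ⧸ Subalgebra.toSubmodule S, ((PowerSeries.X : PowerSeries k) ^ b) • q = 0) ∧
    2 * Module.length (PowerSeries k) (St ⧸ Subalgebra.toSubmodule S) + (a : ℕ∞) = (b : ℕ∞) := by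
  have hδ0 : (Groth.Agent.S13877aux.Pm bt S bS).det ≠ 0 := Groth.Agent.S13877aux.Pm_det_ne_zero bt S bS
  have hdisc := Groth.Agent.S13877aux.discr_eq bt S bS
  have ha' : Associated (Algebra.discr (PowerSeries k) ⇑bt) ((PowerSeries.X : PowerSeries k) ^ a) :=
    Ideal.span_singleton_eq_span_singleton.1 ha
  have hb' : Associated (Algebra.discr (PowerSeries k) ⇑bS) ((PowerSeries.X : PowerSeries k) ^ b) :=
    Ideal.span_singleton_eq_span_singleton.1 hb
  have hassoc : Associated ((Groth.Agent.S13877aux.Pm bt S bS).det ^ 2 * (PowerSeries.X : PowerSeries k) ^ a)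
      ((PowerSeries.X : PowerSeries k) ^ b) := by
    rw [hdisc] at hb'
    exact ((Associated.refl ((Groth.Agent.S13877aux.Pm bt S bS).det ^ 2)).mul_mul ha').symm.trans hb'
  have hlen : Module.length (PowerSeries k) (St ⧸ Subalgebra.toSubmodule S) =
      Ring.ord (PowerSeries k) (Groth.Agent.S13877aux.Pm bt S bS).det := by
    rw [Groth.Agent.Lib.helper27.LengthDet.length_quotient_eq_ord_det bt (Subalgebra.toSubmodule S)
      (bS.map (Subalgebra.toSubmoduleEquiv S).symm)]
    congr 1
    rw [← Groth.Agent.S13877aux.det_eq bt S bS]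
    rfl
  have hX : (PowerSeries.X : PowerSeries k) ∈ nonZeroDivisors (PowerSeries k) :=
    mem_nonZeroDivisors_of_ne_zero PowerSeries.X_ne_zero
  have hordX : Ring.ord (PowerSeries k) (PowerSeries.X : PowerSeries k) = 1 :=
    Ring.ord_of_irreducible PowerSeries.X_prime.irreducible
  have hord : 2 • Ring.ord (PowerSeries k) (Groth.Agent.S13877aux.Pm bt S bS).det + (a : ℕ∞) = (b : ℕ∞) := by
    have h := Ring.ord_eq_of_associated hassoc
    rw [Ring.ord_mul (PowerSeries k) (pow_mem hX a), Ring.ord_pow (mem_nonZeroDivisors_of_ne_zero hδ0),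
      Ring.ord_pow hX, Ring.ord_pow hX, hordX] at h
    simpa using h
  constructor
  · intro q
    obtain ⟨x, rfl⟩ := Submodule.Quotient.mk_surjective _ q
    rw [← Submodule.Quotient.mk_smul, Submodule.Quotient.mk_eq_zero]
    have hdvd : (Groth.Agent.S13877aux.Pm bt S bS).det ∣ (PowerSeries.X : PowerSeries k) ^ b := by
      have h1 : (Groth.Agent.S13877aux.Pm bt S bS).det ^ 2 * (PowerSeries.X : PowerSeries k) ^ a ∣
          (PowerSeries.X : PowerSeries k) ^ b := hassoc.dvd
      refine dvd_trans (Dvd.intro ((Groth.Agent.S13877aux.Pm bt S bS).det * (PowerSeries.X : PowerSeries k) ^ a) ?_) h1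
      ring
    obtain ⟨c, hc⟩ := hdvd
    rw [hc, mul_comm, mul_smul]
    exact Submodule.smul_mem _ _ (Groth.Agent.S13877aux.det_smul_mem bt S bS x)
  · rw [hlen, ← hord, two_nsmul, two_mul]

end Groth.Agent.S13877
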