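import Groth.Statements.S13878
import Mathlib
import Groth.Agent.Lib.helper27.Crimp

set_option autoImplicit false
universe u
open Crimp

namespace Groth.Agent.S13878aux
open PowerSeries Groth.Agent.Lib.helper27.Crimp

variable {k : Type*} [Field k]
local notation "R" => PowerSeries k
local notation "V" => (Fin 3 → PowerSeries k)

lemma smul_mk (I : Ideal R) (r a : R) :
    r • (Ideal.Quotient.mk I a) = Ideal.Quotient.mk I (r * a) := by
  show r • (Submodule.Quotient.mk a : R ⧸ I) = Submodule.Quotient.mk (r • a)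
  exact (Submodule.Quotient.mk_smul I r a).symm

lemma smul_one_quot (I : Ideal R) (b : R) : b • (1 : R ⧸ I) = Ideal.Quotient.mk I b := by
  rw [← map_one (Ideal.Quotient.mk I), smul_mk, mul_one]

lemma mk_eq_zero_iff_dvd (n : ℕ) (b : R) :
    Ideal.Quotient.mk (Ideal.span {(X:R)^n}) b = 0 ↔ (X:R)^n ∣ b := by
  rw [Ideal.Quotient.eq_zero_iff_mem, Ideal.mem_span_singleton]

lemma part1 (m n : ℕ) (hmn : m ≤ n) (S : Submodule R V)
    (e : (V ⧸ S) ≃ₗ[R] ((R ⧸ Ideal.span {(X:R)^m}) × (R ⧸ Ideal.span {(X:R)^n}))) :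
    Ideal.span {(X:R)^n} • (⊤ : Submodule R V) ≤ S := by
  intro x hx
  rw [mem_span_X_smul_top] at hx
  obtain ⟨w, rfl⟩ := hx
  rw [← Submodule.Quotient.mk_eq_zero, ← e.map_eq_zero_iff, Submodule.Quotient.mk_smul, map_smul]
  have key : ∀ pq : (R ⧸ Ideal.span {(X:R)^m}) × (R ⧸ Ideal.span {(X:R)^n}), (X:R)^n • pq = 0 := by
    rintro ⟨p, q⟩
    obtain ⟨p', rfl⟩ := Ideal.Quotient.mk_surjective p
    obtain ⟨q', rfl⟩ := Ideal.Quotient.mk_surjective q
    rw [Prod.smul_mk, smul_mk, smul_mk, Prod.mk_eq_zero, mk_eq_zero_iff_dvd, mk_eq_zero_iff_dvd]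
    exact ⟨Dvd.dvd.mul_right (pow_dvd_pow _ hmn) _, Dvd.intro _ rfl⟩
  exact key _

lemma caseA (m n : ℕ) (hm : 1 ≤ m) (hmn : m ≤ n) (S : Submodule R V) (h1 : (1 : V) ∈ S)
    (e : (V ⧸ S) ≃ₗ[R] ((R ⧸ Ideal.span {(X:R)^m}) × (R ⧸ Ideal.span {(X:R)^n}))) :
    ∃ v2 v3 : V, IsUnit (rows 1 v2 v3).det ∧
      ∀ a b c : R, a • (1 : V) + b • v2 + c • v3 ∈ S ↔ (X:R)^m ∣ b ∧ (X:R)^n ∣ c := by
  let φ : V →ₗ[R] ((R ⧸ Ideal.span {(X:R)^m}) × (R ⧸ Ideal.span {(X:R)^n})) :=
    e.toLinearMap ∘ₗ S.mkQ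
  have hφS : ∀ v, φ v = 0 ↔ v ∈ S := fun v => by
    show e (S.mkQ v) = 0 ↔ _
    rw [e.map_eq_zero_iff, Submodule.mkQ_apply, Submodule.Quotient.mk_eq_zero]
  have hsurj : Function.Surjective φ := e.surjective.comp (Submodule.mkQ_surjective S)
  obtain ⟨v2, hv2⟩ := hsurj (1, 0)
  obtain ⟨v3, hv3⟩ := hsurj (0, 1)
  have hφ1 : φ 1 = 0 := (hφS 1).2 h1
  have hcomb : ∀ a b c : R, φ (a • 1 + b • v2 + c • v3) =
      (Ideal.Quotient.mk _ b, Ideal.Quotient.mk _ c) := by
    intro a b c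
    rw [map_add, map_add, map_smul, map_smul, map_smul, hφ1, hv2, hv3]
    simp [Prod.smul_mk, smul_one_quot]
  have hS : ∀ a b c : R, a • (1 : V) + b • v2 + c • v3 ∈ S ↔ (X:R)^m ∣ b ∧ (X:R)^n ∣ c := by
    intro a b c
    rw [← hφS, hcomb, Prod.mk_eq_zero, mk_eq_zero_iff_dvd, mk_eq_zero_iff_dvd]
  refine ⟨v2, v3, ?_, hS⟩
  by_contra hdet
  rw [isUnit_iff_constantCoeff, isUnit_iff_ne_zero, not_not] at hdet
  have hdet' : ((rows 1 v2 v3).map (constantCoeff : R →+* k)).det = 0 := by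
    rw [← hdet]
    exact (RingHom.map_det (constantCoeff : R →+* k) (rows 1 v2 v3)).symm
  obtain ⟨u, hu0, hu⟩ := Matrix.exists_vecMul_eq_zero_iff.2 hdet'
  -- the combination
  have hw : ∀ j, constantCoeff ((C (u 0) • (1 : V) + C (u 1) • v2 + C (u 2) • v3) j) = 0 := by
    intro j
    have := congrFun hu j
    simp only [Matrix.vecMul, dotProduct, Fin.sum_univ_three, Matrix.map_apply, rows,
      Matrix.of_apply, Matrix.cons_val_zero, Matrix.cons_val_one, Matrix.cons_val,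
      Pi.zero_apply] at this
    simp only [Pi.add_apply, Pi.smul_apply, smul_eq_mul, map_add, map_mul, constantCoeff_C,
      Pi.one_apply, map_one]
    simpa using this
  have hw' : ∀ j, ∃ y : R, (C (u 0) • (1 : V) + C (u 1) • v2 + C (u 2) • v3) j = X * y := fun j =>
    X_dvd_iff.2 (hw j)
  choose w' hw' using hw'
  have hww : C (u 0) • (1 : V) + C (u 1) • v2 + C (u 2) • v3 = (X:R) • w' := by
    funext j; rw [hw' j]; rfl
  have hφw := hcomb (C (u 0)) (C (u 1)) (C (u 2))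
  rw [hww, map_smul] at hφw
  obtain ⟨p', hp'⟩ := Ideal.Quotient.mk_surjective (φ w').1
  obtain ⟨q', hq'⟩ := Ideal.Quotient.mk_surjective (φ w').2
  have hpq : φ w' = (Ideal.Quotient.mk _ p', Ideal.Quotient.mk _ q') := by
    rw [hp', hq']
  rw [hpq, Prod.smul_mk, smul_mk, smul_mk, Prod.mk.injEq] at hφw
  have hX : ∀ (r : ℕ) (hr : 1 ≤ r) (c : k) (y : R),
      Ideal.Quotient.mk (Ideal.span {(X:R)^r}) (X * y) = Ideal.Quotient.mk _ (C c) → c = 0 := by
    intro r hr c y h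
    rw [eq_comm, ← sub_eq_zero, ← map_sub, mk_eq_zero_iff_dvd] at h
    have h2 : (X:R) ∣ C c - X * y := dvd_trans (dvd_pow_self _ (by omega)) h
    rw [X_dvd_iff] at h2
    simpa using h2
  have hu1 : u 1 = 0 := hX m hm _ _ hφw.1
  have hu2 : u 2 = 0 := hX n (le_trans hm hmn) _ _ hφw.2
  have hu0' : u 0 = 0 := by
    have := hw 0
    simpa [hu1, hu2] using this
  apply hu0
  funext j
  fin_cases j
  · exact hu0'
  · exact hu1
  · exact hu2

lemma det_unit_single (i j : Fin 3) (hij : i ≠ j) (d : R) :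
    IsUnit (rows 1 (Pi.single i 1 - d • Pi.single j 1) (Pi.single j 1)).det := by
  fin_cases i <;> fin_cases j <;>
    first
    | exact absurd rfl hij
    | (simp [rows, Matrix.det_fin_three])

lemma caseB (n : ℕ) (S : Submodule R V) (h1 : (1 : V) ∈ S)
    (e : (V ⧸ S) ≃ₗ[R] ((R ⧸ Ideal.span {(X:R)^0}) × (R ⧸ Ideal.span {(X:R)^n}))) :
    ∃ v2 v3 : V, IsUnit (rows 1 v2 v3).det ∧
      ∀ a b c : R, a • (1 : V) + b • v2 + c • v3 ∈ S ↔ (X:R)^0 ∣ b ∧ (X:R)^n ∣ c := by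
  have : Subsingleton (R ⧸ Ideal.span {(X:R)^0}) := by
    rw [Ideal.Quotient.subsingleton_iff, pow_zero, Ideal.span_singleton_one]
  let φ : V →ₗ[R] ((R ⧸ Ideal.span {(X:R)^0}) × (R ⧸ Ideal.span {(X:R)^n})) :=
    e.toLinearMap ∘ₗ S.mkQ
  have hφS : ∀ v, φ v = 0 ↔ v ∈ S := fun v => by
    show e (S.mkQ v) = 0 ↔ _
    rw [e.map_eq_zero_iff, Submodule.mkQ_apply, Submodule.Quotient.mk_eq_zero]
  have hsurj : Function.Surjective φ := e.surjective.comp (Submodule.mkQ_surjective S)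
  let ψ : V →ₗ[R] (R ⧸ Ideal.span {(X:R)^n}) := (LinearMap.snd R _ _) ∘ₗ φ
  have hψS : ∀ v, ψ v = 0 ↔ v ∈ S := fun v => by
    rw [← hφS]
    constructor
    · intro h
      exact Prod.ext (Subsingleton.elim _ _) h
    · intro h
      show (φ v).2 = 0
      rw [h]; rfl
  have hψsurj : Function.Surjective ψ := fun q => by
    obtain ⟨v, hv⟩ := hsurj (0, q)
    exact ⟨v, by show (φ v).2 = q; rw [hv]⟩
  have hc : ∀ j : Fin 3, ∃ c : R, ψ (Pi.single j 1) = Ideal.Quotient.mk _ c := fun j =>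
    (Ideal.Quotient.mk_surjective _).imp fun c hc => hc.symm
  choose c hc using hc
  -- find a unit
  have hunit : ∃ j : Fin 3, ∃ u : R, IsUnit u ∧ ψ (Pi.single j 1) = Ideal.Quotient.mk _ u := by
    by_cases hn : n = 0
    · subst hn
      have : Subsingleton (R ⧸ Ideal.span {(X:R)^0}) := by
        rw [Ideal.Quotient.subsingleton_iff, pow_zero, Ideal.span_singleton_one]
      exact ⟨0, 1, isUnit_one, Subsingleton.elim _ _⟩
    · obtain ⟨v, hv⟩ := hψsurj 1
      have hvsum : v = v 0 • Pi.single 0 1 + v 1 • Pi.single 1 1 + v 2 • Pi.single 2 1 := by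
        funext j; fin_cases j <;> simp
      rw [hvsum, map_add, map_add, map_smul, map_smul, map_smul, hc, hc, hc, smul_mk, smul_mk,
        smul_mk, ← map_add, ← map_add, ← map_one (Ideal.Quotient.mk _), ← sub_eq_zero, ← map_sub,
        mk_eq_zero_iff_dvd] at hv
      have h2 : (X:R) ∣ v 0 * c 0 + v 1 * c 1 + v 2 * c 2 - 1 :=
        dvd_trans (dvd_pow_self _ hn) hv
      rw [X_dvd_iff] at h2
      by_contra hcon
      push Not at hcon
      have hz : ∀ j, constantCoeff (c j) = 0 := by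
        intro j
        by_contra hj
        exact hcon j (c j) (isUnit_iff_constantCoeff.2 (isUnit_iff_ne_zero.2 hj)) (hc j)
      simp [hz] at h2
  obtain ⟨j, u, hu, hju⟩ := hunit
  obtain ⟨i, hij⟩ := exists_ne j
  obtain ⟨u', huu'⟩ := hu.exists_right_inv
  refine ⟨Pi.single i 1 - (c i * u') • Pi.single j 1, Pi.single j 1, det_unit_single i j hij _, ?_⟩
  intro a b c'
  have hψ1 : ψ 1 = 0 := (hψS 1).2 h1
  have hψv2 : ψ (Pi.single i 1 - (c i * u') • Pi.single j 1) = 0 := by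
    rw [map_sub, map_smul, hc, hju, smul_mk, ← map_sub, mul_assoc, mul_comm u' u, huu', mul_one,
      sub_self, map_zero]
  rw [← hψS, map_add, map_add, map_smul, map_smul, map_smul, hψ1, hψv2, hju, smul_mk, smul_zero,
    smul_zero, zero_add, zero_add, mk_eq_zero_iff_dvd, hu.dvd_mul_right, pow_zero]
  exact ⟨fun h => ⟨one_dvd _, h⟩, fun h => h.2⟩

end Groth.Agent.S13878aux

namespace Groth.Agent.S13878

/-- Over R = k⟦t⟧ with k an algebraically closed field of characteristic zero, let S' = R × R × R (the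
unramified triple cover of the formal disk) and let S be an R-submodule of S' containing 1 such that
S' / S is isomorphic to R / (t ^ m) ⊕ R / (t ^ n) with m ≤ n. Then t ^ n S' is contained in S, and
there is f in S', not lying in R·1 + t S', such that S = R·1 + R·(t ^ m f) + t ^ n S'. -/
theorem result {k : Type u} [Field k] [IsAlgClosed k] [CharZero k] (m n : ℕ) (hmn : m ≤ n)
    (S : Submodule (PowerSeries k) (Fin 3 → PowerSeries k))
    (h1 : (1 : (Fin 3 → PowerSeries k)) ∈ S)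
    (e : ((Fin 3 → PowerSeries k) ⧸ S) ≃ₗ[PowerSeries k]
      ((PowerSeries k ⧸ Ideal.span {(PowerSeries.X : PowerSeries k) ^ m}) × (PowerSeries k ⧸ Ideal.span {(PowerSeries.X : PowerSeries k) ^ n}))) :
    Ideal.span {(PowerSeries.X : PowerSeries k) ^ n} • (⊤ : Submodule (PowerSeries k) (Fin 3 → PowerSeries k)) ≤ S ∧
    ∃ f : (Fin 3 → PowerSeries k),
      f ∉ Submodule.span (PowerSeries k) {(1 : (Fin 3 → PowerSeries k))} ⊔ Ideal.span {(PowerSeries.X : PowerSeries k)} • (⊤ : Submodule (PowerSeries k) (Fin 3 → PowerSeries k)) ∧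
      S = Submodule.span (PowerSeries k) {(1 : (Fin 3 → PowerSeries k)), ((PowerSeries.X : PowerSeries k) ^ m) • f} ⊔
        Ideal.span {(PowerSeries.X : PowerSeries k) ^ n} • (⊤ : Submodule (PowerSeries k) (Fin 3 → PowerSeries k)) := by
  refine ⟨Groth.Agent.S13878aux.part1 m n hmn S e, ?_⟩
  by_cases hm : m = 0
  · subst hm
    obtain ⟨v2, v3, hdet, hS⟩ := Groth.Agent.S13878aux.caseB n S h1 e
    exact ⟨v2, Groth.Agent.Lib.helper27.Crimp.structure_of_basis S v2 v3 0 n hmn hdet hS⟩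
  · obtain ⟨v2, v3, hdet, hS⟩ := Groth.Agent.S13878aux.caseA m n (by omega) hmn S h1 e
    exact ⟨v2, Groth.Agent.Lib.helper27.Crimp.structure_of_basis S v2 v3 m n hmn hdet hS⟩

end Groth.Agent.S13878
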