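import Groth.Statements.S13879
import Mathlib

set_option autoImplicit false
universe u
open Crimp

namespace Groth.Agent.S13879

section helpers


lemma closed_iff {R S' : Type*} [CommRing R] [CommRing S'] [Algebra R S'] (a : R) (g : S')
    (S : Submodule R S')
    (hS : S = Submodule.span R {(1 : S'), g} ⊔ Ideal.span {a} • (⊤ : Submodule R S')) :
    (∀ x ∈ S, ∀ y ∈ S, x * y ∈ S) ↔ g * g ∈ S := by
  have hgS : g ∈ S := by
    rw [hS]
    exact Submodule.mem_sup_left (Submodule.subset_span (by simp))
  have h1S : (1 : S') ∈ S := by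
    rw [hS]
    exact Submodule.mem_sup_left (Submodule.subset_span (by simp))
  constructor
  · intro h
    exact h g hgS g hgS
  · intro hgg
    have hT : ∀ x ∈ Ideal.span {a} • (⊤ : Submodule R S'), ∀ y : S',
        x * y ∈ Ideal.span {a} • (⊤ : Submodule R S') := by
      intro x hx y
      induction hx using Submodule.smul_induction_on' with
      | smul r hr s _ =>
        rw [smul_mul_assoc]
        exact Submodule.smul_mem_smul hr trivial
      | add x₁ _ x₂ _ h₁ h₂ =>
        rw [add_mul]
        exact Submodule.add_mem _ h₁ h₂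
    have hTS : Ideal.span {a} • (⊤ : Submodule R S') ≤ S := by
      rw [hS]; exact le_sup_right
    have hpair : ∀ x ∈ Submodule.span R {(1 : S'), g}, ∀ y ∈ Submodule.span R {(1 : S'), g},
        x * y ∈ S := by
      intro x hx y hy
      rw [Submodule.mem_span_pair] at hx hy
      obtain ⟨α, β, rfl⟩ := hx
      obtain ⟨γ, δ, rfl⟩ := hy
      have : (α • (1 : S') + β • g) * (γ • 1 + δ • g) =
          (α * γ) • (1 : S') + (α * δ + β * γ) • g + (β * δ) • (g * g) := by
        simp only [Algebra.smul_def, map_mul, map_add]
        ring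
      rw [this]
      exact Submodule.add_mem _ (Submodule.add_mem _ (Submodule.smul_mem _ _ h1S)
        (Submodule.smul_mem _ _ hgS)) (Submodule.smul_mem _ _ hgg)
    intro x hx y hy
    have hx' := hx
    have hy' := hy
    rw [hS, Submodule.mem_sup] at hx' hy'
    obtain ⟨x1, hx1, x2, hx2, rfl⟩ := hx'
    obtain ⟨y1, hy1, y2, hy2, rfl⟩ := hy'
    have : (x1 + x2) * (y1 + y2) = x1 * y1 + y2 * x1 + x2 * (y1 + y2) := by ring
    rw [this]
    exact Submodule.add_mem _ (Submodule.add_mem _ (hpair x1 hx1 y1 hy1) (hTS (hT y2 hy2 x1)))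
      (hTS (hT x2 hx2 _))


end helpers

/-- Over R = k⟦t⟧ with k an algebraically closed field of characteristic zero, let S' = R × R × R and
let S be the R-submodule R·1 + R·(t ^ m f) + t ^ n S' of S' for some f in S' and natural numbers m,
n. Then S is closed under multiplication (equivalently, is an R-subalgebra of S') if and only if t ^
(2m) f ^ 2 lies in S. (The published statement has m ≤ n and S' / S isomorphic to R / (t ^ m) ⊕ R /
(t ^ n), under which S has this shape; this row states the criterion for every submodule of this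
shape.) -/
theorem result {k : Type u} [Field k] [IsAlgClosed k] [CharZero k] (m n : ℕ) (f : (Fin 3 → PowerSeries k))
    (S : Submodule (PowerSeries k) (Fin 3 → PowerSeries k))
    (hS : S = Submodule.span (PowerSeries k) {(1 : (Fin 3 → PowerSeries k)), ((PowerSeries.X : PowerSeries k) ^ m) • f} ⊔
        Ideal.span {(PowerSeries.X : PowerSeries k) ^ n} • (⊤ : Submodule (PowerSeries k) (Fin 3 → PowerSeries k))) :
    (∀ x ∈ S, ∀ y ∈ S, x * y ∈ S) ↔ ((PowerSeries.X : PowerSeries k) ^ (2 * m)) • (f * f) ∈ S := by
  have h := closed_iff (R := PowerSeries k) (S' := Fin 3 → PowerSeries k)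
    ((PowerSeries.X : PowerSeries k) ^ n) (((PowerSeries.X : PowerSeries k) ^ m) • f) S hS
  rw [h, smul_mul_smul_comm, ← pow_add, two_mul]

end Groth.Agent.S13879
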