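import Groth.Statements.S13882
import Mathlib

set_option autoImplicit false
universe u
open FinCov

namespace Groth.Agent.S13882aux
open W4c1hurwitzcpt MvPolynomial

variable (K : Type u) [Field K] (d : ℕ)

abbrev Idx (d : ℕ) : Type := (Fin d × Fin d × Fin d) ⊕ Fin d

noncomputable abbrev P : Type u := MvPolynomial (Idx d) K

noncomputable abbrev cc (i j k : Fin d) : P K d := X (Sum.inl (i, j, k))
noncomputable abbrev uu (i : Fin d) : P K d := X (Sum.inr i)

noncomputable def relComm (t : Fin d × Fin d × Fin d) : P K d :=
  cc K d t.1 t.2.1 t.2.2 - cc K d t.2.1 t.1 t.2.2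

noncomputable def relAssoc (t : Fin d × Fin d × Fin d × Fin d) : P K d :=
  (∑ k, cc K d t.1 t.2.1 k * cc K d k t.2.2.1 t.2.2.2) -
    ∑ k, cc K d t.2.1 t.2.2.1 k * cc K d t.1 k t.2.2.2

noncomputable def relUnit (t : Fin d × Fin d) : P K d :=
  (∑ i, uu K d i * cc K d i t.1 t.2) - (if t.1 = t.2 then 1 else 0)

noncomputable def I : Ideal (P K d) :=
  Ideal.span (Set.range (relComm K d) ∪ Set.range (relAssoc K d) ∪ Set.range (relUnit K d))

noncomputable abbrev B : Type u := P K d ⧸ I K d

variable {K d}

/-- evaluation at a based algebra -/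
noncomputable def evalAt {A : Type u} [CommRing A] [Algebra K A] (s : BasedAlg d A) : P K d →ₐ[K] A :=
  aeval (Sum.elim (fun t : Fin d × Fin d × Fin d => s.c t.1 t.2.1 t.2.2) s.u)

lemma evalAt_I {A : Type u} [CommRing A] [Algebra K A] (s : BasedAlg d A) :
    ∀ a ∈ I K d, evalAt s a = 0 := by
  intro a ha
  have : I K d ≤ RingHom.ker (evalAt (K := K) s).toRingHom := by
    unfold I
    rw [Ideal.span_le]
    rintro x ((⟨t, rfl⟩ | ⟨t, rfl⟩) | ⟨t, rfl⟩)
    · simp only [SetLike.mem_coe, RingHom.mem_ker, relComm, evalAt]
      simp [s.comm t.1 t.2.1 t.2.2]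
    · simp only [SetLike.mem_coe, RingHom.mem_ker, relAssoc, evalAt]
      simp [s.assoc t.1 t.2.1 t.2.2.1 t.2.2.2]
    · simp only [SetLike.mem_coe, RingHom.mem_ker, relUnit, evalAt]
      simp only [AlgHom.toRingHom_eq_coe, RingHom.coe_coe, map_sub, map_sum, map_mul, aeval_X,
        Sum.elim_inl, Sum.elim_inr]
      rw [s.unit t.1 t.2]
      split_ifs <;> simp
  exact this ha

noncomputable def toHom {A : Type u} [CommRing A] [Algebra K A] (s : BasedAlg d A) : B K d →ₐ[K] A :=
  Ideal.Quotient.liftₐ (I K d) (evalAt s) (evalAt_I s)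

lemma mk_mem_zero (x : P K d) (hx : x ∈ I K d) : (Ideal.Quotient.mk (I K d) x) = 0 :=
  Ideal.Quotient.eq_zero_iff_mem.2 hx

noncomputable def ofHom {A : Type u} [CommRing A] [Algebra K A] (g : B K d →ₐ[K] A) : BasedAlg d A where
  c i j k := g (Ideal.Quotient.mk _ (cc K d i j k))
  u i := g (Ideal.Quotient.mk _ (uu K d i))
  comm i j k := by
    have h : relComm K d (i, j, k) ∈ I K d :=
      Ideal.subset_span (Or.inl (Or.inl ⟨_, rfl⟩))
    have := congrArg g (mk_mem_zero _ h)
    simp only [relComm, map_sub, map_zero] at this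
    exact sub_eq_zero.1 this
  assoc i j l m := by
    have h : relAssoc K d (i, j, l, m) ∈ I K d :=
      Ideal.subset_span (Or.inl (Or.inr ⟨_, rfl⟩))
    have := congrArg g (mk_mem_zero _ h)
    simp only [relAssoc, map_sub, map_zero, map_sum, map_mul] at this
    exact sub_eq_zero.1 this
  unit j m := by
    have h : relUnit K d (j, m) ∈ I K d :=
      Ideal.subset_span (Or.inr ⟨_, rfl⟩)
    have := congrArg g (mk_mem_zero _ h)
    simp only [relUnit, map_sub, map_zero, map_sum, map_mul] at this
    rw [sub_eq_zero] at this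
    rw [this]
    split_ifs <;> simp

noncomputable def eta (A : Type u) [CommRing A] [Algebra K A] : (B K d →ₐ[K] A) ≃ BasedAlg d A where
  toFun := ofHom
  invFun := toHom
  left_inv g := by
    apply Ideal.Quotient.algHom_ext
    apply MvPolynomial.algHom_ext
    rintro (⟨i, j, k⟩ | i)
    · simp [toHom, ofHom, evalAt]
    · simp [toHom, ofHom, evalAt]
  right_inv s := by
    ext
    · simp [toHom, ofHom, evalAt]
    · simp [toHom, ofHom, evalAt]

end Groth.Agent.S13882aux

namespace Groth.Agent.S13882

/-- Over a field K of characteristic zero, the functor that sends a K-scheme S to the set of isomorphism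
classes of pairs (A, τ) of an O_S-algebra A and an O_S-module isomorphism τ from A to the free
module of rank d, equivalently to the set of commutative unital algebra structures on the rank-d
free module with its standard basis, is represented by an affine K-scheme of finite type. Stated on
affine K-schemes in one universe: there is a finitely generated commutative K-algebra B with
bijections between K-algebra maps B → A and based algebra structures of rank d over A, natural in
the commutative K-algebra A. -/
theorem result (K : Type u) [Field K] [CharZero K] (d : ℕ) :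
    ∃ (B : Type u) (_ : CommRing B) (_ : Algebra K B) (_ : Algebra.FiniteType K B)
      (η : ∀ (A : Type u) [CommRing A] [Algebra K A], (B →ₐ[K] A) ≃ W4c1hurwitzcpt.BasedAlg d A),
      ∀ (A A' : Type u) [CommRing A] [Algebra K A] [CommRing A'] [Algebra K A']
        (f : A →ₐ[K] A') (g : B →ₐ[K] A),
        η A' (f.comp g) = (η A g).map f.toRingHom := by
  refine ⟨Groth.Agent.S13882aux.B K d, inferInstance, inferInstance, ?_,
    fun A _ _ => Groth.Agent.S13882aux.eta A, ?_⟩
  · exact Algebra.FiniteType.of_surjective (Ideal.Quotient.mkₐ K (Groth.Agent.S13882aux.I K d))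
      Ideal.Quotient.mk_surjective
  · intro A A' _ _ _ _ f g
    ext <;> simp [Groth.Agent.S13882aux.eta, Groth.Agent.S13882aux.ofHom, W4c1hurwitzcpt.BasedAlg.map]

end Groth.Agent.S13882
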