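import Groth.Statements.S13886
import Mathlib
import Groth.Agent.Lib.helper27.Crimp
import Groth.Agent.S13879

set_option autoImplicit false
universe u
open Crimp

namespace Groth.Agent.S13886aux
end Groth.Agent.S13886aux

namespace Groth.Agent.S13886

/-- Over R = k⟦t⟧ with k an algebraically closed field of characteristic zero, let S' = R × R × R be the
unramified triple cover of the formal disk and let m ≤ n ≤ 2m be natural numbers. For every f in S'
not lying in R·1 + t S', the R-submodule S = R·1 + R·(t ^ m f) + t ^ n S' is closed under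
multiplication, hence an R-subalgebra (a crimp), and S' / S is isomorphic to R / (t ^ m) ⊕ R / (t ^
n) (so the crimp has μ-invariant n - m and branch divisor (t ^ (2(m+n)))). Together with the
structure result for submodules with this quotient, this identifies the k-points of the space of
crimps of splitting type (m, n), 2m ≥ n, with the submodules of this shape. (The published statement
moreover asserts that this stratum is an irreducible variety of dimension n - m; that part is not
restated.) -/
theorem result {k : Type u} [Field k] [IsAlgClosed k] [CharZero k]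
    (m n : ℕ) (hmn : m ≤ n) (hn : n ≤ 2 * m)
    (f : (Fin 3 → PowerSeries k)) (hf : f ∉ Submodule.span (PowerSeries k) {(1 : (Fin 3 → PowerSeries k))} ⊔ Ideal.span {(PowerSeries.X : PowerSeries k)} • (⊤ : Submodule (PowerSeries k) (Fin 3 → PowerSeries k)))
    (S : Submodule (PowerSeries k) (Fin 3 → PowerSeries k))
    (hS : S = Submodule.span (PowerSeries k) {(1 : (Fin 3 → PowerSeries k)), ((PowerSeries.X : PowerSeries k) ^ m) • f} ⊔
        Ideal.span {(PowerSeries.X : PowerSeries k) ^ n} • (⊤ : Submodule (PowerSeries k) (Fin 3 → PowerSeries k))) :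
    (∀ x ∈ S, ∀ y ∈ S, x * y ∈ S) ∧
    Nonempty (((Fin 3 → PowerSeries k) ⧸ S) ≃ₗ[PowerSeries k]
      ((PowerSeries k ⧸ Ideal.span {(PowerSeries.X : PowerSeries k) ^ m}) × (PowerSeries k ⧸ Ideal.span {(PowerSeries.X : PowerSeries k) ^ n}))) := by
  obtain ⟨j, hdet⟩ := Groth.Agent.Lib.helper27.Crimp.exists_single_det_unit f hf
  have hmem := Groth.Agent.Lib.helper27.Crimp.mem_iff_of_span f (Pi.single j 1) m n hmn hdet S hS
  refine ⟨?_, Groth.Agent.Lib.helper27.Crimp.quotient_equiv_of_basis S f (Pi.single j 1) m n hdet hmem⟩
  rw [Groth.Agent.S13879.result m n f S hS]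
  rw [hS]
  apply Submodule.mem_sup_right
  rw [Groth.Agent.Lib.helper27.Crimp.mem_span_X_smul_top]
  refine ⟨(PowerSeries.X : PowerSeries k) ^ (2 * m - n) • (f * f), ?_⟩
  rw [smul_smul, ← pow_add]
  congr 2
  omega

end Groth.Agent.S13886
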