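import Groth.Statements.S13888
import Mathlib
-- import your own Groth.Agent.* helpers here

set_option autoImplicit false
universe u
open CategoryTheory CategoryTheory.Limits MonoidalCategory
attribute [local instance] HasDerivedCategory.standard
open DTen

namespace Groth.Agent.S13888

variable {A : Type u} [CommRing A] [DTen.HasLTen A] [DTen.HasLTen₃ A]
  [DTen.IsSymMonoidal A] [DTen.HasRHom A]

/-- the associator as a natural isomorphism -/
noncomputable def assocIso : LTenL A ≅ LTenR A := asIso (assocL A) ≪≫ (asIso (assocR A)).symm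

lemma associator_eq (a b c : Dual.D A) : associator a b c = (assocIso (A := A)).app (a, (b, c)) :=
  Iso.ext rfl

/-- naturality of the associator in the first variable -/
lemma associator_naturality₁ {a a' : Dual.D A} (f : a ⟶ a') (b c : Dual.D A) :
    (LTen₂ A).map (Prod.mkHom ((LTen₂ A).map (Prod.mkHom f (𝟙 b))) (𝟙 c)) ≫ (associator a' b c).hom =
      (associator a b c).hom ≫ (LTen₂ A).map (Prod.mkHom f ((LTen₂ A).map (Prod.mkHom (𝟙 b) (𝟙 c)))) := by
  rw [associator_eq, associator_eq]
  exact (assocIso (A := A)).hom.naturality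
    (show (a, (b, c)) ⟶ (a', (b, c)) from Prod.mkHom f (Prod.mkHom (𝟙 b) (𝟙 c)))

lemma associator_naturality₁' {a a' : Dual.D A} (f : a ⟶ a') (b c : Dual.D A) :
    (LTen₂ A).map (Prod.mkHom ((LTen₂ A).map (Prod.mkHom f (𝟙 b))) (𝟙 c)) ≫ (associator a' b c).hom =
      (associator a b c).hom ≫ (LTen₂ A).map (Prod.mkHom f (𝟙 ((LTen₂ A).obj (b, c)))) := by
  rw [associator_naturality₁]
  congr 3
  exact (LTen₂ A).map_id (b, c)

/-- For a commutative ring `A` (assuming the derived tensor product on `D(A)` with its triple version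
exists, that its symmetry, unit and associativity maps are isomorphisms, and that every `- ⊗^L L`
has a right adjoint `RHom(L, -)`) and objects `K`, `L`, `M` of `D(A)`, the canonical morphism
`RHom(K ⊗^L L, M) ⟶ RHom(K, RHom(L, M))`, namely the double adjunct of the associativity isomorphism
followed by evaluation at `K ⊗^L L`, is an isomorphism. (Functoriality in the three objects is built
into the construction; the identification on `H^0` with the hom bijection of the adjunction is not
part of this row.) -/
theorem result (A : Type u) [CommRing A] [DTen.HasLTen A] [DTen.HasLTen₃ A]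
    [DTen.IsSymMonoidal A] [DTen.HasRHom A] (K L M : Dual.D A) :
    IsIso (DTen.curryHom K L M) := by
  apply isIso_of_yoneda_map_bijective
  intro T
  let R := (RHomR A ((LTen₂ A).obj (K, L))).obj M
  -- the bijection
  let e1 : (T ⟶ R) ≃ ((LTen₂ A).obj (T, (LTen₂ A).obj (K, L)) ⟶ M) := (rhomHomEquiv T _ M).symm
  let e2 : ((LTen₂ A).obj (T, (LTen₂ A).obj (K, L)) ⟶ M) ≃
      ((LTen₂ A).obj ((LTen₂ A).obj (T, K), L) ⟶ M) :=
    (associator T K L).homFromEquiv.symm
  let e3 := rhomHomEquiv ((LTen₂ A).obj (T, K)) L M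
  let e4 := rhomHomEquiv T K ((RHomR A L).obj M)
  have key : ∀ x : T ⟶ R, x ≫ curryHom K L M = e4 (e3 (e2 (e1 x))) := by
    intro x
    have h1 : e1 x = (LTen₂ A).map (Prod.mkHom x (𝟙 _)) ≫ ev ((LTen₂ A).obj (K, L)) M :=
      (rhomAdj A ((LTen₂ A).obj (K, L))).homEquiv_counit T M x
    have h2 : e2 (e1 x) = (LTen₂ A).map (Prod.mkHom ((LTen₂ A).map (Prod.mkHom x (𝟙 K))) (𝟙 L)) ≫
        curryHomAux K L M := by
      change (associator T K L).hom ≫ e1 x = _
      rw [h1, ← Category.assoc, ← associator_naturality₁', Category.assoc]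
      rfl
    have h3 : e3 (e2 (e1 x)) = (LTen₂ A).map (Prod.mkHom x (𝟙 K)) ≫
        rhomHomEquiv _ _ _ (curryHomAux K L M) := by
      rw [h2]
      exact (rhomAdj A L).homEquiv_naturality_left _ _
    rw [h3]
    exact ((rhomAdj A K).homEquiv_naturality_left x _).symm
  have hb : Function.Bijective (fun x : T ⟶ R => e4 (e3 (e2 (e1 x)))) :=
    (e1.trans (e2.trans (e3.trans e4))).bijective
  have : (fun x : T ⟶ R => x ≫ curryHom K L M) = (fun x : T ⟶ R => e4 (e3 (e2 (e1 x)))) :=
    funext key
  rw [this]
  exact hb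

end Groth.Agent.S13888
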