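import Groth.Statements.S1389
import Mathlib
import Groth.Agent.Lib.helper22.UnramEq

set_option autoImplicit false
universe u
open FlatMor

namespace Groth.Agent.S1389

section Helpers

open CategoryTheory CategoryTheory.Limits AlgebraicGeometry

theorem pt_eq {U U' : Scheme.{u}} (h₁ : U ⟶ U') (u : U) (u' : U') (e₁ : h₁ u = u') :
    U.fromSpecResidueField u ≫ h₁ =
      Spec.map ((U'.residueFieldCongr e₁).inv ≫ h₁.residueFieldMap u) ≫
        U'.fromSpecResidueField u' := by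
  rw [← Scheme.Hom.SpecMap_residueFieldMap_fromSpecResidueField, Spec.map_comp, Category.assoc,
    Scheme.residueFieldCongr_inv, Scheme.residueFieldCongr_fromSpecResidueField]

theorem main {S U U' : Scheme.{u}} (s : S) (g : U ⟶ S) (g' : U' ⟶ S) [Etale g] [Etale g']
    (u : U) (u' : U') (hu : g u = s) (hu' : g' u' = s) (h₁ h₂ : U ⟶ U') (w₁ : h₁ ≫ g' = g)
    (w₂ : h₂ ≫ g' = g) (e₁ : h₁ u = u') (e₂ : h₂ u = u')
    (hres : (U'.residueFieldCongr e₁).inv ≫ h₁.residueFieldMap u =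
      (U'.residueFieldCongr e₂).inv ≫ h₂.residueFieldMap u) :
    ∃ (U'' : Scheme.{u}) (g'' : U'' ⟶ S) (u'' : U'') (h : U'' ⟶ U),
      Etale g'' ∧ g'' u'' = s ∧ h ≫ g = g'' ∧ h u'' = u ∧ h ≫ h₁ = h ≫ h₂ := by
  obtain ⟨W, hW, huniv, -⟩ :=
    Groth.Agent.H22.UnramEq.exists_agreement_open g' h₁ h₂ (w₁.trans w₂.symm)
  have hpt : U.fromSpecResidueField u ≫ h₁ = U.fromSpecResidueField u ≫ h₂ := by
    rw [pt_eq h₁ u u' e₁, pt_eq h₂ u u' e₂, hres]
  have huW : u ∈ W := by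
    have := huniv _ hpt
    rw [Scheme.range_fromSpecResidueField] at this
    exact this rfl
  refine ⟨W.toScheme, W.ι ≫ g, ⟨u, huW⟩, W.ι, inferInstance, ?_, rfl, rfl, hW⟩
  rw [Scheme.Hom.comp_apply]
  exact hu

end Helpers

open AlgebraicGeometry CategoryTheory Limits in
/-- Let (U, u) and (U', u') be étale neighbourhoods of a point s of S and h₁, h₂ two S-morphisms U → U'
sending u to u' which induce the same map of residue fields κ(u') → κ(u). Then there is an étale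
neighbourhood (U'', u'') of s with an S-morphism h : U'' → U sending u'' to u and with h followed by
h₁ equal to h followed by h₂. -/
theorem result {S U U' : Scheme.{u}} (s : S) (g : U ⟶ S) (g' : U' ⟶ S) [Etale g] [Etale g'] (u : U) (u' : U')
    (hu : g u = s) (hu' : g' u' = s) (h₁ h₂ : U ⟶ U') (w₁ : h₁ ≫ g' = g) (w₂ : h₂ ≫ g' = g) (e₁ : h₁ u = u') (e₂ : h₂ u = u')
    (hres : (U'.residueFieldCongr e₁).inv ≫ h₁.residueFieldMap u = (U'.residueFieldCongr e₂).inv ≫ h₂.residueFieldMap u) :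
    ∃ (U'' : Scheme.{u}) (g'' : U'' ⟶ S) (u'' : U'') (h : U'' ⟶ U), Etale g'' ∧ g'' u'' = s ∧ h ≫ g = g'' ∧ h u'' = u ∧ h ≫ h₁ = h ≫ h₂ := by
  exact main s g g' u u' hu hu' h₁ h₂ w₁ w₂ e₁ e₂ hres

end Groth.Agent.S1389
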