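import Groth.Statements.S13893
import Mathlib
import Groth.Agent.Lib.helper2.TwoVar
import Groth.Agent.Lib.helper2.KProjRes
-- import your own Groth.Agent.* helpers here

set_option autoImplicit false
universe u
open CategoryTheory CategoryTheory.Limits MonoidalCategory
attribute [local instance] HasDerivedCategory.standard
open DTen

namespace Groth.Agent.S13893

/-- For a map of commutative rings `φ : R → A`, an object `E` of `D(R)` and an object `N` of `D(A)`, the
canonical comparison morphism `(E ⊗^L_R A) ⊗^L_A N ⟶ E ⊗^L_R N` — from derived base change followed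
by the derived tensor product over `A` to the mixed derived tensor product, the unique morphism of
functors compatible with the counits — is an isomorphism. (The existence of the three derived
functors, which the published statement also asserts, is assumed here as hypotheses; exactness of
the mixed functor is not part of this row.) -/
theorem result (R A : Type u) [CommRing R] [CommRing A] (φ : R →+* A) [DTen.HasLTen A]
    [DTen.HasLBase φ] [DTen.HasLTenMix φ] (E : Dual.D R) (N : Dual.D A) :
    IsIso ((DTen.split φ).app (E, N)) := by
  open Groth.Agent.Lib.helper2 in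
  obtain ⟨P, hP, ⟨eP⟩⟩ := KProjRes.exists_kprojective R E
  obtain ⟨F, hF, ⟨eF⟩⟩ := KProjRes.exists_kprojective A N
  have hK : ((extCx φ).obj P).IsKProjective := NilDev.isKProjective_bcCx φ P
  rw [← NatTrans.isIso_app_iff_of_iso (split φ) (Iso.prod eP eF)]
  have h1 : IsIso ((splitβ φ).app (P, F)) := by
    change IsIso ((LTen₂ A).map (Prod.mkHom ((baseCmp φ).app P) (𝟙 (DerivedCategory.Q.obj F))) ≫
      (ε A).app ((extCx φ).obj P, F))
    have i0 := TwoVar.isIso_baseCmp φ P
    have i1 : IsIso ((LTen₂ A).map
        (Prod.mkHom ((baseCmp φ).app P) (𝟙 (DerivedCategory.Q.obj F)))) :=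
      ((LTen₂ A).mapIso (Iso.prod (asIso ((baseCmp φ).app P))
        (Iso.refl (DerivedCategory.Q.obj F)))).isIso_hom
    have i2 := TwoVar.isIso_ε ((extCx φ).obj P) F
    infer_instance
  have h2 := TwoVar.isIso_εMix φ P F
  have h3 := split_fac φ (P, F)
  rw [← h3] at h1
  exact IsIso.of_isIso_comp_right ((split φ).app ((QMix R A).obj (P, F))) ((εMix φ).app (P, F))

end Groth.Agent.S13893
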