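import Groth.Statements.S1390
import Mathlib
import Groth.Agent.Lib.helper3.SplitCover

set_option autoImplicit false
universe u
open FlatMor

namespace Groth.Agent.S1390

open AlgebraicGeometry CategoryTheory Limits in
/-- Let (U, u) be an étale neighbourhood of (S, s), i.e. U → S étale with u over s. Then there are an
affine open neighbourhood V of s and a surjective, finite, flat morphism of finite presentation π :
T → V such that every point t of T over s has an open neighbourhood W_t with an S-morphism W_t → U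
sending t to u. -/
theorem result {U S : Scheme.{u}} (e : U ⟶ S) [Etale e] (u : U) (s : S) (hu : e u = s) :
    ∃ (V : S.Opens) (T : Scheme.{u}) (π : T ⟶ (V : Scheme.{u})), s ∈ V ∧ IsAffineOpen V ∧ Surjective π ∧ IsFinite π ∧ Flat π ∧ LocallyOfFinitePresentation π ∧
      ∀ t : T, V.ι (π t) = s → ∃ (W : T.Opens) (h : (W : Scheme.{u}) ⟶ U), t ∈ W ∧ h ≫ e = W.ι ≫ π ≫ V.ι ∧ ∀ ht : t ∈ W, h ⟨t, ht⟩ = u := by
  classical
  subst hu
  obtain ⟨V, hV, hsV, -⟩ := exists_isAffineOpen_mem_and_subset (x := e u) (U := ⊤) trivial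
  have hu' : u ∈ e ⁻¹ᵁ V := hsV
  obtain ⟨U₀, hU₀, huU₀, hle⟩ := exists_isAffineOpen_mem_and_subset (x := u) (U := e ⁻¹ᵁ V) hu'
  let ρ : Γ(S, V) →+* Γ(U, U₀) := (e.appLE V U₀ hle).hom
  have hρ : ρ.Etale := Etale.etale_appLE e hV hU₀ hle
  letI : Algebra Γ(S, V) Γ(U, U₀) := ρ.toAlgebra
  haveI : Algebra.Etale Γ(S, V) Γ(U, U₀) := hρ
  let qpt : PrimeSpectrum Γ(U, U₀) := hU₀.primeIdealOf ⟨u, huU₀⟩
  let ppt : PrimeSpectrum Γ(S, V) := hV.primeIdealOf ⟨e u, hsV⟩
  have hqp : qpt.asIdeal.comap ρ = ppt.asIdeal :=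
    congrArg PrimeSpectrum.asIdeal (IsAffineOpen.comap_primeIdealOf_appLE V hV U₀ hU₀ hle huU₀)
  obtain ⟨f, hfq, hstd⟩ := Algebra.IsEtaleAt.exists_isStandardEtale (R := Γ(S, V)) qpt.asIdeal
  obtain ⟨S', _, _, hfin, hfp, hff, H⟩ :=
    Groth.Agent.Lib.helper3.SplitCover.main Γ(S, V) (Localization.Away f)
  let φ₀ : Γ(S, V) ⟶ CommRingCat.of S' := CommRingCat.ofHom (algebraMap Γ(S, V) S')
  haveI h1 : Surjective (Spec.map φ₀) :=
    ⟨PrimeSpectrum.comap_surjective_of_faithfullyFlat (A := Γ(S, V)) (B := S')⟩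
  haveI h2 : IsFinite (Spec.map φ₀) :=
    (IsFinite.SpecMap_iff φ₀).mpr (RingHom.finite_algebraMap.mpr hfin)
  haveI h3 : Flat (Spec.map φ₀) :=
    Flat.SpecMap_iff.mpr ((RingHom.flat_algebraMap_iff).mpr inferInstance)
  haveI h4 : LocallyOfFinitePresentation (Spec.map φ₀) :=
    (LocallyOfFinitePresentation.SpecMap_iff φ₀).mpr
      ((RingHom.finitePresentation_algebraMap).mpr hfp)
  refine ⟨V, Spec (CommRingCat.of S'), Spec.map φ₀ ≫ hV.isoSpec.inv, hsV, hV,
    inferInstance, inferInstance, inferInstance, inferInstance, ?_⟩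
  intro t ht
  -- the prime of `S'` attached to `t`
  let tp : PrimeSpectrum S' := t
  have hinj : Function.Injective hV.fromSpec := hV.fromSpec.isOpenEmbedding.injective
  have htp : Spec.map φ₀ t = ppt := by
    apply hinj
    rw [hV.fromSpec_primeIdealOf ⟨e u, hsV⟩]
    exact ht
  have htp' : tp.asIdeal.under Γ(S, V) = ppt.asIdeal := congrArg PrimeSpectrum.asIdeal htp
  have hdisj : Disjoint (Submonoid.powers f : Set Γ(U, U₀)) (qpt.asIdeal : Set Γ(U, U₀)) :=
    (Ideal.disjoint_powers_iff_notMem_of_isPrime _).mpr hfq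
  haveI : (qpt.asIdeal.map (algebraMap Γ(U, U₀) (Localization.Away f))).IsPrime :=
    IsLocalization.isPrime_of_isPrime_disjoint (Submonoid.powers f) _ _ qpt.isPrime hdisj
  have hcm : (qpt.asIdeal.map (algebraMap Γ(U, U₀) (Localization.Away f))).comap
      (algebraMap Γ(U, U₀) (Localization.Away f)) = qpt.asIdeal :=
    IsLocalization.comap_map_of_isPrime_disjoint (Submonoid.powers f) _ qpt.isPrime hdisj
  have h' : tp.asIdeal.under Γ(S, V) =
      (qpt.asIdeal.map (algebraMap Γ(U, U₀) (Localization.Away f))).under Γ(S, V) := by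
    rw [htp', ← hqp]
    conv_lhs => rw [← hcm]
    rw [Ideal.under_def, Ideal.comap_comap]
    rfl
  obtain ⟨g', hg', φ, hφ⟩ :=
    H (qpt.asIdeal.map (algebraMap Γ(U, U₀) (Localization.Away f))) tp.asIdeal h'
  let j : Spec (CommRingCat.of (Localization.Away g')) ⟶ Spec (CommRingCat.of S') :=
    Spec.map (CommRingCat.ofHom (algebraMap S' (Localization.Away g')))
  have hdisj' : Disjoint (Submonoid.powers g' : Set S') (tp.asIdeal : Set S') :=
    (Ideal.disjoint_powers_iff_notMem_of_isPrime _).mpr hg'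
  haveI : (tp.asIdeal.map (algebraMap S' (Localization.Away g'))).IsPrime :=
    IsLocalization.isPrime_of_isPrime_disjoint (Submonoid.powers g') _ _ tp.isPrime hdisj'
  have hcm' : (tp.asIdeal.map (algebraMap S' (Localization.Away g'))).comap
      (algebraMap S' (Localization.Away g')) = tp.asIdeal :=
    IsLocalization.comap_map_of_isPrime_disjoint (Submonoid.powers g') _ tp.isPrime hdisj'
  let t' : Spec (CommRingCat.of (Localization.Away g')) :=
    (⟨tp.asIdeal.map (algebraMap S' (Localization.Away g')), inferInstance⟩ :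
      PrimeSpectrum (Localization.Away g'))
  have hjt : j t' = t := PrimeSpectrum.ext hcm'
  let h : (j.opensRange : Scheme.{u}) ⟶ U :=
    j.isoOpensRange.inv ≫ Spec.map (CommRingCat.ofHom φ.toRingHom) ≫
      Spec.map (CommRingCat.ofHom (algebraMap Γ(U, U₀) (Localization.Away f))) ≫ hU₀.fromSpec
  have hiso : j.isoOpensRange.hom ≫ h = Spec.map (CommRingCat.ofHom φ.toRingHom) ≫
      Spec.map (CommRingCat.ofHom (algebraMap Γ(U, U₀) (Localization.Away f))) ≫ hU₀.fromSpec := by
    simp only [h, Iso.hom_inv_id_assoc]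
  refine ⟨j.opensRange, h, ⟨t', hjt⟩, ?_, ?_⟩
  · rw [← cancel_epi j.isoOpensRange.hom, ← Category.assoc, hiso]
    rw [← Category.assoc (j.isoOpensRange.hom), Scheme.Hom.isoOpensRange_hom_ι]
    simp only [Category.assoc]
    rw [hV.isoSpec_inv_ι, ← IsAffineOpen.SpecMap_appLE_fromSpec e hV hU₀ hle]
    have hring : e.appLE V U₀ hle ≫
        CommRingCat.ofHom (algebraMap Γ(U, U₀) (Localization.Away f)) ≫
          CommRingCat.ofHom φ.toRingHom =
        φ₀ ≫ CommRingCat.ofHom (algebraMap S' (Localization.Away g')) := by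
      ext r
      change φ (algebraMap Γ(U, U₀) (Localization.Away f) (ρ r)) =
        algebraMap S' (Localization.Away g') (algebraMap Γ(S, V) S' r)
      rw [← IsScalarTower.algebraMap_apply Γ(S, V) S' (Localization.Away g')]
      rw [← φ.commutes r]
      congr 1
    have hspec := congrArg Spec.map hring
    rw [Spec.map_comp, Spec.map_comp, Spec.map_comp] at hspec
    have := congrArg (· ≫ hV.fromSpec) hspec
    simpa only [Category.assoc] using this
  · intro ht'
    have hpt : (⟨t, ht'⟩ : j.opensRange) = j.isoOpensRange.hom t' := by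
      apply Subtype.ext
      change t = (j.isoOpensRange.hom ≫ j.opensRange.ι) t'
      rw [Scheme.Hom.isoOpensRange_hom_ι, hjt]
    rw [hpt, ← Scheme.Hom.comp_apply, hiso]
    simp only [Scheme.Hom.comp_apply]
    have e1 : Spec.map (CommRingCat.ofHom φ.toRingHom) t' =
        (⟨qpt.asIdeal.map (algebraMap Γ(U, U₀) (Localization.Away f)), inferInstance⟩ :
          PrimeSpectrum (Localization.Away f)) := PrimeSpectrum.ext hφ
    rw [e1]
    have e2 : Spec.map (CommRingCat.ofHom (algebraMap Γ(U, U₀) (Localization.Away f)))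
        (⟨qpt.asIdeal.map (algebraMap Γ(U, U₀) (Localization.Away f)), inferInstance⟩ :
          PrimeSpectrum (Localization.Away f)) = qpt := PrimeSpectrum.ext hcm
    rw [e2]
    exact hU₀.fromSpec_primeIdealOf ⟨u, huU₀⟩

end Groth.Agent.S1390
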