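import Groth.Statements.S13904
import Mathlib

set_option autoImplicit false
universe u
open CAlg

namespace Groth.Agent.S13904

/-- For an integral extension `R → A'` of a domain `R` whose kernel contains a nonzero element,
`dim A' + 1 ≤ dim R`. -/
lemma dim_succ_le {R A' : Type u} [CommRing R] [IsDomain R] [CommRing A'] [Algebra R A']
    [Algebra.IsIntegral R A'] (f : R) (hf : f ≠ 0) (hker : algebraMap R A' f = 0)
    (n : ℕ) (hn : (n : WithBot ℕ∞) ≤ ringKrullDim A') :
    ((n + 1 : ℕ) : WithBot ℕ∞) ≤ ringKrullDim R := by
  obtain ⟨l, hl⟩ := Order.le_krullDim_iff.mp hn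
  let g : PrimeSpectrum A' → PrimeSpectrum R := PrimeSpectrum.comap (algebraMap R A')
  have hg : StrictMono g := by
    intro I J hIJ
    exact Ideal.IsIntegral.comap_lt_comap (R := R) (I := I.asIdeal) (J := J.asIdeal) hIJ
  let l' := l.map g hg
  have hbot : (⟨⊥, Ideal.isPrime_bot⟩ : PrimeSpectrum R) < l'.head := by
    rw [lt_iff_le_and_ne]
    refine ⟨bot_le (a := l'.head.asIdeal), ?_⟩
    intro h
    have hmem : f ∈ l'.head.asIdeal := by
      change f ∈ (g l.head).asIdeal
      change algebraMap R A' f ∈ l.head.asIdeal
      rw [hker]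
      exact Ideal.zero_mem _
    rw [← h] at hmem
    exact hf hmem
  let l'' := l'.cons _ hbot
  have : l''.length = n + 1 := by simp [l'', l', hl]
  rw [← this]
  exact Order.LTSeries.length_le_krullDim l''

/-- Let k be a field, A a commutative k-algebra and φ : k[x_1, …, x_r] → A a finite k-algebra map such
that A/p has Krull dimension r for every minimal prime p of A (an equidimensional affine scheme of
dimension r, finite over affine r-space). Then for every minimal prime p of A and every prime q of
k[x_1, …, x_r] there is a prime P ⊇ p of A with φ⁻¹(P) = q: the finite map restricted to each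
irreducible component of Spec A is surjective onto affine r-space. (The published statement is over
an algebraically closed field with φ a Noether normalisation; this row allows any field and any
finite k-algebra map φ.) -/
theorem result (k : Type u) [Field k] (r : ℕ)
    (A : Type u) [CommRing A] [Algebra k A] (φ : MvPolynomial (Fin r) k →ₐ[k] A)
    (hφ : φ.toRingHom.Finite)
    (hdim : ∀ p ∈ minimalPrimes A, ringKrullDim (A ⧸ p) = r)
    (p : Ideal A) (hp : p ∈ minimalPrimes A)
    (q : Ideal (MvPolynomial (Fin r) k)) [q.IsPrime] :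
    ∃ P : Ideal A, P.IsPrime ∧ p ≤ P ∧ P.comap φ.toRingHom = q := by
  letI : Algebra (MvPolynomial (Fin r) k) A := φ.toRingHom.toAlgebra
  haveI : Module.Finite (MvPolynomial (Fin r) k) A := hφ
  haveI : Algebra.IsIntegral (MvPolynomial (Fin r) k) A := Algebra.IsIntegral.of_finite _ _
  haveI hpp : p.IsPrime := hp.1.1
  have hdimR : ringKrullDim (MvPolynomial (Fin r) k) = r := by
    rw [MvPolynomial.ringKrullDim_of_isNoetherianRing]
    simp
  -- the contraction of `p` is zero
  have h0 : p.comap (algebraMap (MvPolynomial (Fin r) k) A) = ⊥ := by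
    rw [eq_bot_iff]
    intro f hf
    rw [Ideal.mem_bot]
    by_contra hne
    have hker : algebraMap (MvPolynomial (Fin r) k) (A ⧸ p) f = 0 := by
      rw [IsScalarTower.algebraMap_apply (MvPolynomial (Fin r) k) A (A ⧸ p)]
      exact Ideal.Quotient.eq_zero_iff_mem.mpr hf
    have := dim_succ_le (A' := A ⧸ p) f hne hker r (by rw [hdim p hp])
    rw [hdimR] at this
    have h' : (r + 1 : ℕ) ≤ r := by exact_mod_cast this
    omega
  obtain ⟨Q, hQ, hQ', hQ''⟩ := Ideal.exists_ideal_over_prime_of_isIntegral q p (by rw [h0]; exact bot_le)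
  exact ⟨Q, hQ', hQ, hQ''⟩

end Groth.Agent.S13904
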