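import Groth.Statements.S13905
import Mathlib

set_option autoImplicit false
universe u
open ProjGeom

namespace Groth.Agent.S13905aux
end Groth.Agent.S13905aux

namespace Groth.Agent.S13905

open W4c1etcurveeff3b in
/-- Hyperplanes of projective n-space in general position, in linear-algebra form (V of dimension n + 1
over a field k, hyperplanes as n-dimensional subspaces, points as nonzero vectors): if S is a finite
set of hyperplanes in general position with at least n members and H is a hyperplane containing none
of the lines cut out by n members of S, then S with H added is again in general position. (The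
published statement is for hyperplanes of P^n_k and closed points; a closed point lying on n + 1
members is automatically one of the rational points cut out by n of them, so the condition on
nonzero vectors of V is the same condition.) -/
theorem result (k V : Type u) [Field k]
    [AddCommGroup V] [Module k V] [DecidableEq (Submodule k V)] (n : ℕ) (S : Finset (Submodule k V))
    (hS : InGeneralPosition k V n S) (hn : n ≤ S.card) (H : Submodule k V)
    (hH : Module.finrank k H = n)
    (havoid : ∀ T ⊆ S, T.card = n → ¬ (T.inf id ≤ H)) :
    InGeneralPosition k V n (insert H S) := by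
  classical
  obtain ⟨hV, hdim, hint, hpt⟩ := hS
  haveI : FiniteDimensional k V := Module.finite_of_finrank_pos (by omega)
  by_cases hHS : H ∈ S
  · rw [Finset.insert_eq_of_mem hHS]; exact ⟨hV, hdim, hint, hpt⟩
  -- key: small intersections are not contained in H
  have K : ∀ T' ⊆ S, T'.card ≤ n → ¬ (T'.inf id ≤ H) := by
    intro T' hT' hc hle
    obtain ⟨T'', h1, h2, h3⟩ := Finset.exists_subsuperset_card_eq hT' hc hn
    exact havoid T'' h2 h3 (le_trans (Finset.inf_mono h1) hle)
  -- hyperplane lemma
  have HL : ∀ W : Submodule k V, ¬ W ≤ H → Module.finrank k ↥(W ⊓ H) + 1 = Module.finrank k ↥W := by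
    intro W hW
    have e := Submodule.finrank_sup_add_finrank_inf_eq W H
    have hlt : H < W ⊔ H := by
      refine lt_of_le_of_ne le_sup_right ?_
      intro h
      apply hW
      rw [h]; exact le_sup_left
    have h1 := Submodule.finrank_lt_finrank_of_lt hlt
    have h2 : Module.finrank k ↥(W ⊔ H) ≤ Module.finrank k V := Submodule.finrank_le _
    omega
  -- erase facts
  have E : ∀ T : Finset (Submodule k V), T ⊆ insert H S → H ∈ T →
      T.erase H ⊆ S ∧ (T.erase H).card + 1 = T.card ∧ T.inf id = H ⊓ (T.erase H).inf id := by
    intro T hT hHT
    refine ⟨?_, ?_, ?_⟩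
    · intro x hx
      rcases Finset.mem_insert.1 (hT (Finset.mem_of_mem_erase hx)) with h | h
      · exact absurd h (Finset.ne_of_mem_erase hx)
      · exact h
    · rw [Finset.card_erase_of_mem hHT]
      have : 0 < T.card := Finset.card_pos.2 ⟨H, hHT⟩
      omega
    · conv_lhs => rw [← Finset.insert_erase hHT]
      rw [Finset.inf_insert]; rfl
  refine ⟨hV, ?_, ?_, ?_⟩
  · intro H' hH'
    rcases Finset.mem_insert.1 hH' with rfl | h
    · exact hH
    · exact hdim H' h
  · intro T hT hc
    by_cases hHT : H ∈ T
    · obtain ⟨e1, e2, e3⟩ := E T hT hHT
      have h1 := hint (T.erase H) e1 (by omega)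
      have h2 := HL _ (K (T.erase H) e1 (by omega))
      rw [e3, inf_comm]
      omega
    · exact hint T ((Finset.subset_insert_iff_of_notMem hHT).1 hT) hc
  · intro v hv T hT hmem
    by_cases hHT : H ∈ T
    · obtain ⟨e1, e2, e3⟩ := E T hT hHT
      have hmem' : ∀ H' ∈ T.erase H, v ∈ H' := fun H' h => hmem H' (Finset.mem_of_mem_erase h)
      have h1 := hpt v hv (T.erase H) e1 hmem'
      by_contra hcon
      have hcard : (T.erase H).card = n := by omega
      have h2 := hint (T.erase H) e1 (by omega)
      rw [hcard] at h2
      have h3 : Module.finrank k ↥((T.erase H).inf id) = 1 := by omega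
      have hvW : v ∈ (T.erase H).inf id := by
        rw [Submodule.mem_finsetInf]
        intro i hi; exact hmem' i hi
      apply havoid (T.erase H) e1 hcard
      intro w hw
      have hv' : (⟨v, hvW⟩ : ↥((T.erase H).inf id)) ≠ 0 := by
        intro h; apply hv; exact congrArg Subtype.val h
      obtain ⟨c, hc⟩ := (finrank_eq_one_iff_of_nonzero' _ hv').1 h3 ⟨w, hw⟩
      have : w = c • v := by
        have := congrArg Subtype.val hc
        simpa using this.symm
      rw [this]
      exact H.smul_mem c (hmem H hHT)
    · exact hpt v hv T ((Finset.subset_insert_iff_of_notMem hHT).1 hT) hmem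

end Groth.Agent.S13905
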