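import Groth.Statements.S13907
import Mathlib
import Groth.Agent.S10821
import Groth.Agent.S10829
import Groth.Agent.S10840

set_option autoImplicit false
universe u
open ProjGeom

namespace Groth.Agent.S13907

section Helpers

open AlgebraicGeometry TopologicalSpace

section
variable (k : Type u) [Field k] (n : ℕ)

local notation "𝒜" => CohB1.polyGrading n k
local notation "A" => MvPolynomial (Fin (n + 1)) k

open Groth.Agent.S10821 Groth.Agent.S10829

lemma spec_iff (x y : ProjectiveSpectrum 𝒜) : x ⤳ y ↔ x ≤ y := by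
  rw [ProjectiveSpectrum.le_iff_mem_closure, specializes_iff_mem_closure]

/-- a positive-dimensional irreducible closed subset meets every hypersurface. -/
lemma meet (x y : ProjectiveSpectrum 𝒜) (hxy : x < y) (l : A) (i : ℕ) (hi : 0 < i)
    (hl : l.IsHomogeneous i) :
    ∃ z : ProjectiveSpectrum 𝒜, x ≤ z ∧ l ∈ z.asHomogeneousIdeal.toIdeal := by
  haveI := irrelevant_isPrime k n
  set m := (HomogeneousIdeal.irrelevant 𝒜).toIdeal with hm
  set P := x.asHomogeneousIdeal.toIdeal with hP
  haveI hPp : P.IsPrime := x.isPrime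
  have hxm : P ≤ m := le_irrelevant k n _ x.isPrime.ne_top
  have hlm : l ∈ m := HomogeneousIdeal.mem_irrelevant_of_mem 𝒜 hi hl
  have hIm : P ⊔ Ideal.span {l} ≤ m := sup_le hxm ((Ideal.span_singleton_le_iff_mem _).mpr hlm)
  obtain ⟨Q, hQmin, hQle⟩ := Ideal.exists_minimalPrimes_le hIm
  haveI hQp : Q.IsPrime := hQmin.1.1
  have hIQ : P ⊔ Ideal.span {l} ≤ Q := hQmin.1.2
  have hPQ : P ≤ Q := le_sup_left.trans hIQ
  have hlQ : l ∈ Q := hIQ (Ideal.mem_sup_right (Ideal.mem_span_singleton_self l))
  -- Q is homogeneous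
  have hcore : (Q.homogeneousCore 𝒜).toIdeal = Q := by
    apply le_antisymm (Ideal.toIdeal_homogeneousCore_le 𝒜 Q)
    apply hQmin.2 ⟨hQp.homogeneousCore, ?_⟩ (Ideal.toIdeal_homogeneousCore_le 𝒜 Q)
    apply sup_le
    · have h1 : (x.asHomogeneousIdeal.toIdeal.homogeneousCore 𝒜).toIdeal ≤
          (Q.homogeneousCore 𝒜).toIdeal := Ideal.homogeneousCore_mono 𝒜 hPQ
      rwa [x.asHomogeneousIdeal.toIdeal_homogeneousCore_eq_self] at h1
    · rw [Ideal.span_singleton_le_iff_mem]
      exact Ideal.mem_homogeneousCore_of_homogeneous_of_mem ⟨i, hl⟩ hlQ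
  by_cases hrel : m ≤ Q
  · exfalso
    have hQm : Q = m := le_antisymm hQle hrel
    let π := Ideal.Quotient.mk P
    have hπ : Function.Surjective π := Ideal.Quotient.mk_surjective
    have hker : RingHom.ker π = P := Ideal.mk_ker
    have hcm : ∀ J : Ideal A, P ≤ J → (J.map π).comap π = J := by
      intro J hJ
      rw [Ideal.comap_map_of_surjective π hπ, ← RingHom.ker_eq_comap_bot, hker, sup_eq_left.mpr hJ]
    haveI hM'p : (m.map π).IsPrime :=
      Ideal.map_isPrime_of_surjective hπ (by rw [hker]; exact hxm)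
    have hM'min : m.map π ∈ (Ideal.span {π l}).minimalPrimes := by
      refine ⟨⟨hM'p, ?_⟩, ?_⟩
      · rw [Ideal.span_singleton_le_iff_mem]; exact Ideal.mem_map_of_mem π hlm
      · rintro P' ⟨hP'p, hP'l⟩ hP'le
        have h1 : P ⊔ Ideal.span {l} ≤ P'.comap π := by
          apply sup_le
          · intro a ha
            rw [Ideal.mem_comap]
            have : π a = 0 := Ideal.Quotient.eq_zero_iff_mem.mpr ha
            rw [this]; exact zero_mem _
          · rw [Ideal.span_singleton_le_iff_mem, Ideal.mem_comap]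
            exact hP'l (Ideal.mem_span_singleton_self _)
        have h2 : P'.comap π ≤ m := by
          rw [← hcm m hxm]
          exact Ideal.comap_mono hP'le
        have h3 : m ≤ P'.comap π := by
          have := hQmin.2 ⟨Ideal.comap_isPrime π P', h1⟩ (by rw [hQm]; exact h2)
          rwa [hQm] at this
        calc m.map π ≤ (P'.comap π).map π := Ideal.map_mono h3
          _ = P' := Ideal.map_comap_of_surjective π hπ P'
    have hht1 : (m.map π).height ≤ 1 :=
      Ideal.height_le_one_of_isPrincipal_of_mem_minimalPrimes _ _ hM'min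
    -- the chain
    set Y := y.asHomogeneousIdeal.toIdeal with hY
    haveI hYp : Y.IsPrime := y.isPrime
    have hPY : P < Y := hxy
    have hYm : Y ≤ m := le_irrelevant k n _ y.isPrime.ne_top
    haveI hY'p : (Y.map π).IsPrime :=
      Ideal.map_isPrime_of_surjective hπ (by rw [hker]; exact hPY.le)
    have hlt1 : (⊥ : Ideal (A ⧸ P)) < Y.map π := by
      refine lt_of_le_of_ne bot_le ?_
      intro hbot
      have h1 := hcm Y hPY.le
      rw [← hbot, ← RingHom.ker_eq_comap_bot, hker] at h1
      exact hPY.ne h1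
    have hlt2 : Y.map π < m.map π := by
      refine lt_of_le_of_ne (Ideal.map_mono hYm) ?_
      intro heq
      have h1 := hcm Y hPY.le
      rw [heq, hcm m hxm] at h1
      apply y.not_irrelevant_le
      intro a ha
      change a ∈ Y
      rw [← h1]
      exact ha
    haveI : (⊥ : Ideal (A ⧸ P)).IsPrime := Ideal.isPrime_bot
    have hh1 := Ideal.height_strict_mono_of_isPrime_of_isPrime hlt1
    have hh2 := Ideal.height_strict_mono_of_isPrime_of_isPrime hlt2
    have hh3 : (1 : ℕ∞) ≤ (Y.map π).height := Order.one_le_iff_pos.mpr (pos_of_gt hh1)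
    have hh4 : (Y.map π).height < 1 := lt_of_lt_of_le hh2 hht1
    exact absurd hh3 (not_le.mpr hh4)
  · refine ⟨⟨Q.homogeneousCore 𝒜, hQp.homogeneousCore, fun h =>
      hrel (fun a ha => Ideal.toIdeal_homogeneousCore_le 𝒜 Q (h ha))⟩, ?_, ?_⟩
    · have h1 : P ≤ (Q.homogeneousCore 𝒜).toIdeal := by rw [hcore]; exact hPQ
      exact fun a ha => h1 ha
    · change l ∈ (Q.homogeneousCore 𝒜).toIdeal
      rw [hcore]; exact hlQ

/-- the linear subspace `L_i`. -/
def Lset (i : ℕ) : Set A :=
  (fun j : Fin (n + 1) => (MvPolynomial.X j : A)) '' {j : Fin (n + 1) | 1 ≤ j.val ∧ j.val ≤ i}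

lemma mem_L (i : ℕ) (x : ProjectiveSpectrum 𝒜) :
    x ∈ ProjectiveSpectrum.zeroLocus 𝒜 (Lset k n i) ↔
      ∀ j : Fin (n + 1), 1 ≤ j.val → j.val ≤ i →
        (MvPolynomial.X j : A) ∈ x.asHomogeneousIdeal.toIdeal := by
  rw [ProjectiveSpectrum.mem_zeroLocus]
  constructor
  · intro h j h1 h2
    exact h ⟨j, ⟨h1, h2⟩, rfl⟩
  · rintro h _ ⟨j, ⟨h1, h2⟩, rfl⟩
    exact h j h1 h2

lemma irr_le_of_X_mem (z : ProjectiveSpectrum 𝒜)
    (h : ∀ j : Fin (n + 1), (MvPolynomial.X j : A) ∈ z.asHomogeneousIdeal.toIdeal) : False := by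
  apply z.not_irrelevant_le
  intro a ha
  change a ∈ z.asHomogeneousIdeal.toIdeal
  have h0 : MvPolynomial.coeff 0 a = 0 := by
    have h1 := (HomogeneousIdeal.mem_irrelevant_iff 𝒜 a).mp ha
    have hdec : (DirectSum.decompose 𝒜 a 0 : A) = MvPolynomial.homogeneousComponent 0 a :=
      MvPolynomial.decomposition.decompose'_apply a 0
    rw [GradedRing.proj_apply, hdec, MvPolynomial.homogeneousComponent_zero] at h1
    exact MvPolynomial.C_injective _ _ (by rw [h1, map_zero])
  have hspan : a ∈ Ideal.span ((MvPolynomial.X : Fin (n + 1) → A) '' Set.univ) := by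
    rw [MvPolynomial.mem_ideal_span_X_image]
    intro m hm
    by_contra hcon
    push Not at hcon
    have hm0 : m = 0 := by
      ext j
      exact hcon j (Set.mem_univ j)
    rw [hm0, MvPolynomial.mem_support_iff] at hm
    exact hm h0
  have hle : Ideal.span ((MvPolynomial.X : Fin (n + 1) → A) '' Set.univ) ≤
      z.asHomogeneousIdeal.toIdeal := by
    rw [Ideal.span_le]
    rintro _ ⟨j, -, rfl⟩
    exact h j
  exact hle hspan

theorem main13907 (C : Set (ProjectiveSpectrum 𝒜)) (hC : IsClosed C) (hirr : IsIrreducible C) :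
    ∃ i : ℕ, i ≤ n ∧ (C ∩ ProjectiveSpectrum.zeroLocus 𝒜 (Lset k n i)).Nonempty ∧
      topologicalKrullDim ↥(C ∩ ProjectiveSpectrum.zeroLocus 𝒜 (Lset k n i)) = 0 := by
  classical
  -- the set of good indices
  let S : Finset ℕ := (Finset.range (n + 1)).filter
    (fun i => (C ∩ ProjectiveSpectrum.zeroLocus 𝒜 (Lset k n i)).Nonempty)
  have h0S : 0 ∈ S := by
    rw [Finset.mem_filter]
    refine ⟨Finset.mem_range.mpr (Nat.succ_pos n), ?_⟩
    obtain ⟨c, hc⟩ := hirr.nonempty
    refine ⟨c, hc, ?_⟩
    rw [mem_L]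
    intro j h1 h2
    omega
  have hSne : S.Nonempty := ⟨0, h0S⟩
  set i := S.max' hSne with hi
  have hiS : i ∈ S := Finset.max'_mem S hSne
  rw [Finset.mem_filter, Finset.mem_range] at hiS
  obtain ⟨hin, hine⟩ := hiS
  refine ⟨i, Nat.lt_succ_iff.mp hin, hine, ?_⟩
  have hVc : IsClosed (C ∩ ProjectiveSpectrum.zeroLocus 𝒜 (Lset k n i)) :=
    hC.inter (ProjectiveSpectrum.isClosed_zeroLocus 𝒜 _)
  refine le_antisymm ?_ ?_
  · apply Groth.Agent.S10840.dim_le_zero _ hVc
    intro x hx y hy hxy
    by_contra hne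
    have hlt : x < y := lt_of_le_of_ne ((spec_iff k n x y).mp hxy) hne
    have hxL := (mem_L k n i x).mp hx.2
    by_cases hcase : i < n
    · -- use X_{i+1}
      let j0 : Fin (n + 1) := ⟨i + 1, Nat.succ_lt_succ hcase⟩
      obtain ⟨z, hxz, hlz⟩ := meet k n x y hlt (MvPolynomial.X j0) 1 one_pos
        (MvPolynomial.isHomogeneous_X _ _)
      have hzC : z ∈ C := by
        have : z ∈ closure {x} := by
          rw [← ProjectiveSpectrum.le_iff_mem_closure]; exact hxz
        exact (hC.closure_subset_iff.mpr (Set.singleton_subset_iff.mpr hx.1)) this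
      have hzL : z ∈ ProjectiveSpectrum.zeroLocus 𝒜 (Lset k n (i + 1)) := by
        rw [mem_L]
        intro j h1 h2
        by_cases hj : j.val ≤ i
        · exact hxz (hxL j h1 hj)
        · have hj' : j = j0 := by
            apply Fin.ext
            change j.val = i + 1
            omega
          rw [hj']; exact hlz
      have hmem : i + 1 ∈ S := by
        rw [Finset.mem_filter, Finset.mem_range]
        exact ⟨Nat.succ_lt_succ hcase, ⟨z, hzC, hzL⟩⟩
      have := Finset.le_max' S (i + 1) hmem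
      omega
    · -- i = n : use X_0
      have hin' : i = n := by omega
      obtain ⟨z, hxz, hlz⟩ := meet k n x y hlt (MvPolynomial.X 0) 1 one_pos
        (MvPolynomial.isHomogeneous_X _ _)
      apply irr_le_of_X_mem k n z
      intro j
      by_cases hj : j.val = 0
      · have : j = 0 := Fin.ext hj
        rw [this]; exact hlz
      · exact hxz (hxL j (Nat.one_le_iff_ne_zero.mpr hj) (by have := j.2; omega))
  · unfold topologicalKrullDim
    rw [Order.krullDim_nonneg_iff]
    obtain ⟨x, hx⟩ := hine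
    let x' : ↥(C ∩ ProjectiveSpectrum.zeroLocus 𝒜 (Lset k n i)) := ⟨x, hx⟩
    exact ⟨⟨closure {x'}, isIrreducible_singleton.closure, isClosed_closure⟩⟩

end
end Helpers


/-- Over an algebraically closed field k, let C be a nonempty irreducible closed subset of the
underlying space of projective n-space with homogeneous coordinates x_0, …, x_n, and for i ≤ n let
L_i be the linear subspace where x_1, …, x_i vanish. Then there is an index i ≤ n with C ∩ L_i
nonempty and of topological Krull dimension zero. -/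
theorem result (k : Type u) [Field k]
    [IsAlgClosed k] (n : ℕ) (C : Set (ProjectiveSpectrum (CohB1.polyGrading n k)))
    (hC : IsClosed C) (hirr : IsIrreducible C) :
    ∃ i : ℕ, i ≤ n ∧
      (C ∩ ProjectiveSpectrum.zeroLocus (CohB1.polyGrading n k)
          ((fun j : Fin (n + 1) => (MvPolynomial.X j : MvPolynomial (Fin (n + 1)) k)) ''
            {j : Fin (n + 1) | 1 ≤ j.val ∧ j.val ≤ i})).Nonempty ∧
      topologicalKrullDim ↥(C ∩ ProjectiveSpectrum.zeroLocus (CohB1.polyGrading n k)
          ((fun j : Fin (n + 1) => (MvPolynomial.X j : MvPolynomial (Fin (n + 1)) k)) ''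
            {j : Fin (n + 1) | 1 ≤ j.val ∧ j.val ≤ i})) = 0 := by
  exact main13907 k n C hC hirr

end Groth.Agent.S13907
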