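import Groth.Statements.S13911
import Groth.Agent.Lib.helper13.ConicRank3

set_option autoImplicit false
universe u
open PlaneConic

namespace Groth.Agent.S13911

/-- For an algebraically closed field k of characteristic zero, a nonzero symmetric 3 × 3 matrix Q over
k and the ternary quadratic form f = Σ Q_ij X_i X_j in k[X_0, X_1, X_2] (the equation of a plane
conic): (1) f is irreducible iff det Q ≠ 0; (2) the conic has a singular point, that is a nonzero
vector at which all partial derivatives of f vanish, iff det Q = 0 (so smooth conics are exactly the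
irreducible ones); (3) f is the product of two linearly independent linear forms (two distinct
lines) iff rank Q = 2; (4) f is the square of a linear form (a double line) iff rank Q = 1. -/
theorem result (k : Type u) [Field k] [IsAlgClosed k] [CharZero k]
    (Q : Matrix (Fin 3) (Fin 3) k) (hQ : Q.IsSymm) (hQ0 : Q ≠ 0) (f : MvPolynomial (Fin 3) k)
    (hf : f = ∑ i : Fin 3, ∑ j : Fin 3, Q i j • (MvPolynomial.X i * MvPolynomial.X j)) :
    (Irreducible f ↔ Q.det ≠ 0) ∧
    ((∃ u : Fin 3 → k, u ≠ 0 ∧ ∀ i : Fin 3, MvPolynomial.eval u (MvPolynomial.pderiv i f) = 0) ↔ Q.det = 0) ∧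
    ((∃ a b : Fin 3 → k, LinearIndependent k ![a, b] ∧
        f = (∑ i : Fin 3, a i • MvPolynomial.X i) * (∑ i : Fin 3, b i • MvPolynomial.X i)) ↔ Q.rank = 2) ∧
    ((∃ a : Fin 3 → k, f = (∑ i : Fin 3, a i • MvPolynomial.X i) ^ 2) ↔ Q.rank = 1) := by
  have hfq : f = Groth.Agent.Lib.helper13.ConicRank.quad Q := hf
  have hne : Groth.Agent.Lib.helper13.ConicRank.quad Q ≠ 0 := by
    intro h0
    have hp : Groth.Agent.Lib.helper13.ConicRank.IsProd Q 0 0 :=
      Groth.Agent.Lib.helper13.ConicRank.isProd_of_quad_eq hQ (by
        rw [h0]; simp [Groth.Agent.Lib.helper13.ConicRank.lin])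
    apply hQ0
    ext i j
    have := hp.eq i j
    simpa using this
  refine ⟨?_, ?_, ?_, ?_⟩
  · -- (1)
    rw [hfq]
    constructor
    · intro hirr hd
      obtain ⟨a, b, hp⟩ := Groth.Agent.Lib.helper13.ConicRank.exists_isProd_of_det_eq_zero hQ hd
      have hab := Groth.Agent.Lib.helper13.ConicRank.quad_eq_of_isProd hp
      rcases hirr.isUnit_or_isUnit hab with h | h
      · exact Groth.Agent.Lib.helper13.ConicRank.not_isUnit_lin a h
      · exact Groth.Agent.Lib.helper13.ConicRank.not_isUnit_lin b h
    · intro hd
      rw [irreducible_iff]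
      refine ⟨Groth.Agent.Lib.helper13.ConicRank.not_isUnit_quad Q, fun g h hgh => ?_⟩
      by_contra hc
      push Not at hc
      obtain ⟨a, b, hab⟩ :=
        Groth.Agent.Lib.helper13.ConicRank.exists_lin_of_factor hne hgh hc.1 hc.2
      exact hd (Groth.Agent.Lib.helper13.ConicRank.det_eq_zero_of_isProd
        (Groth.Agent.Lib.helper13.ConicRank.isProd_of_quad_eq hQ hab))
  · -- (2)
    rw [hfq, ← Matrix.exists_mulVec_eq_zero_iff]
    have key : ∀ u : Fin 3 → k, (∀ i, MvPolynomial.eval u (MvPolynomial.pderiv i
        (Groth.Agent.Lib.helper13.ConicRank.quad Q)) = 0) ↔ Q.mulVec u = 0 := by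
      intro u
      have e : ∀ i, MvPolynomial.eval u (MvPolynomial.pderiv i
          (Groth.Agent.Lib.helper13.ConicRank.quad Q)) = 2 * (Q.mulVec u) i := by
        intro i
        rw [Groth.Agent.Lib.helper13.ConicRank.eval_pderiv_quad]
        simp only [Matrix.mulVec, dotProduct, Finset.mul_sum]
        refine Finset.sum_congr rfl fun j _ => ?_
        rw [hQ.apply i j]
        ring
      constructor
      · intro h
        funext i
        have := h i
        rw [e i] at this
        simpa using this
      · intro h i
        rw [e i, h]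
        simp
    constructor
    · rintro ⟨u, hu, h⟩
      exact ⟨u, hu, (key u).mp h⟩
    · rintro ⟨u, hu, h⟩
      exact ⟨u, hu, (key u).mpr h⟩
  · -- (3)
    rw [hfq]
    constructor
    · rintro ⟨a, b, hab, hf'⟩
      have hp : Groth.Agent.Lib.helper13.ConicRank.IsProd Q a b :=
        Groth.Agent.Lib.helper13.ConicRank.isProd_of_quad_eq hQ hf'
      have h2 := Groth.Agent.Lib.helper13.ConicRank.rank_le_two_of_det_eq_zero
        (Groth.Agent.Lib.helper13.ConicRank.det_eq_zero_of_isProd hp)
      have h1 := Groth.Agent.Lib.helper13.ConicRank.not_rank_le_one_of_isProd hp hab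
      omega
    · intro hr
      have hd : Q.det = 0 := by
        by_contra hd
        have := Groth.Agent.Lib.helper13.ConicRank.rank_eq_three_of_det_ne_zero hd
        omega
      obtain ⟨a, b, hp⟩ := Groth.Agent.Lib.helper13.ConicRank.exists_isProd_of_det_eq_zero hQ hd
      refine ⟨a, b, ?_, Groth.Agent.Lib.helper13.ConicRank.quad_eq_of_isProd hp⟩
      by_contra hdep
      have := Groth.Agent.Lib.helper13.ConicRank.rank_le_one_of_isProd_of_dep hp hdep
      omega
  · -- (4)
    rw [hfq]
    constructor
    · rintro ⟨a, hf'⟩
      have hp : Groth.Agent.Lib.helper13.ConicRank.IsProd Q a a :=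
        Groth.Agent.Lib.helper13.ConicRank.isProd_of_quad_eq hQ (by rw [hf', sq]; rfl)
      have h1 : Q.rank ≤ 1 :=
        Groth.Agent.Lib.helper13.ConicRank.rank_le_one_of_outer (u := a) (v := a)
          (fun i j => by rw [hp.eq i j]; ring)
      have := Groth.Agent.Lib.helper13.ConicRank.rank_pos_of_ne_zero hQ0
      omega
    · intro hr
      obtain ⟨u, v, huv⟩ :=
        Groth.Agent.Lib.helper13.ConicRank.exists_outer_of_rank_le_one (le_of_eq hr)
      obtain ⟨i, j, hij⟩ : ∃ i j, Q i j ≠ 0 := by
        by_contra hc
        push Not at hc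
        apply hQ0
        ext i j
        exact hc i j
      have hui : u i ≠ 0 := by
        intro h
        apply hij
        rw [huv, h, zero_mul]
      have hsym : ∀ m n, u m * v n = u n * v m := fun m n => by
        rw [← huv m n, ← huv n m]
        exact (hQ.apply m n).symm
      obtain ⟨s, hs⟩ := IsAlgClosed.exists_eq_mul_self (v i / u i)
      have hp : Groth.Agent.Lib.helper13.ConicRank.IsProd Q (fun m => s * u m)
          (fun m => s * u m) := by
        intro m n
        rw [huv m n]
        have hvn : v n = s * s * u n := by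
          rw [← hs]
          field_simp
          linear_combination hsym i n
        rw [hvn]
        ring
      refine ⟨fun m => s * u m, ?_⟩
      have := Groth.Agent.Lib.helper13.ConicRank.quad_eq_of_isProd hp
      rw [this, sq]
      rfl

end Groth.Agent.S13911
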