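import Groth.Statements.S13912
import Groth.Agent.Lib.helper13.ConicSplit

set_option autoImplicit false
universe u
open PlaneConic

namespace Groth.Agent.S13912

/-- Over an algebraically closed field k of characteristic zero, for a 2 × 2 matrix M of linear forms in
k[X_0, X_1, X_2] (entries homogeneous of degree 1, zero allowed), det M is a product of two linear
forms if and only if M can be brought by invertible scalar row and column operations g M h, with g,
h in GL_2(k), to a matrix with zero upper-right entry. (The published statement concerns matrices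
with nonzero determinant; this row also allows determinant zero, where both sides hold.) -/
theorem result (k : Type u) [Field k] [IsAlgClosed k] [CharZero k]
    (M : Matrix (Fin 2) (Fin 2) (MvPolynomial (Fin 3) k)) (hM : ∀ a b : Fin 2, (M a b).IsHomogeneous 1) :
    (∃ l₁ l₂ : MvPolynomial (Fin 3) k, l₁.IsHomogeneous 1 ∧ l₂.IsHomogeneous 1 ∧ M.det = l₁ * l₂) ↔
    ∃ g h : GL (Fin 2) k,
      ((MvPolynomial.C : k →+* MvPolynomial (Fin 3) k).mapMatrix g.val * M *
        (MvPolynomial.C : k →+* MvPolynomial (Fin 3) k).mapMatrix h.val) 0 1 = 0 := by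
  constructor
  · rintro ⟨l₁, l₂, hl₁, hl₂, hdet⟩
    have hc : ∀ a b, ∃ c : Fin 3 → k, M a b = ∑ i, MvPolynomial.C (c i) * MvPolynomial.X i :=
      fun a b => Groth.Agent.Lib.helper13.ConicSplit.exists_coeffs _ (hM a b)
    choose c hc using hc
    obtain ⟨α, hα⟩ := Groth.Agent.Lib.helper13.ConicSplit.exists_coeffs l₁ hl₁
    obtain ⟨β, hβ⟩ := Groth.Agent.Lib.helper13.ConicSplit.exists_coeffs l₂ hl₂
    have hev : ∀ x : Fin 3 → k,
        (∑ i, c 0 0 i * x i) * (∑ i, c 1 1 i * x i) - (∑ i, c 0 1 i * x i) * (∑ i, c 1 0 i * x i) =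
          (∑ i, α i * x i) * (∑ i, β i * x i) := by
      intro x
      have := congrArg (MvPolynomial.eval x) hdet
      rw [Matrix.det_fin_two, hc 0 0, hc 0 1, hc 1 0, hc 1 1, hα, hβ] at this
      simpa using this
    obtain ⟨u0, u1, v0, v1, hu, hv, huv⟩ :=
      Groth.Agent.Lib.helper13.ConicSplit.exists_isotropic c α β hev
    obtain ⟨g, hg0, hg1⟩ := Groth.Agent.Lib.helper13.ConicSplit.exists_GL_row u0 u1 hu
    obtain ⟨h, hh0, hh1⟩ := Groth.Agent.Lib.helper13.ConicSplit.exists_GL_col v0 v1 hv
    refine ⟨g, h, ?_⟩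
    rw [Matrix.mul_apply]
    simp only [Fin.sum_univ_two, Matrix.mul_apply, RingHom.mapMatrix_apply, Matrix.map_apply,
      hg0, hg1, hh0, hh1]
    rw [hc 0 0, hc 0 1, hc 1 0, hc 1 1]
    have : ∀ i, MvPolynomial.C (u0 * c 0 0 i * v0 + u0 * c 0 1 i * v1 + u1 * c 1 0 i * v0
        + u1 * c 1 1 i * v1) = (0 : MvPolynomial (Fin 3) k) := by
      intro i
      rw [huv i, map_zero]
    have h0 := this 0
    have h1 := this 1
    have h2 := this 2
    simp only [map_add, map_mul] at h0 h1 h2
    simp only [Fin.sum_univ_three]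
    linear_combination (MvPolynomial.X 0) * h0 + (MvPolynomial.X 1) * h1 + (MvPolynomial.X 2) * h2
  · rintro ⟨g, h, hgh⟩
    set M' := (MvPolynomial.C : k →+* MvPolynomial (Fin 3) k).mapMatrix g.val * M *
        (MvPolynomial.C : k →+* MvPolynomial (Fin 3) k).mapMatrix h.val with hM'
    have hdet' : M'.det = MvPolynomial.C g.val.det * M.det * MvPolynomial.C h.val.det := by
      rw [hM', Matrix.det_mul, Matrix.det_mul, ← RingHom.map_det, ← RingHom.map_det]
    have hdet2 : M'.det = M' 0 0 * M' 1 1 := by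
      rw [Matrix.det_fin_two, hgh, zero_mul, sub_zero]
    have hg : g.val.det ≠ 0 := (Matrix.isUnits_det_units g).ne_zero
    have hh : h.val.det ≠ 0 := (Matrix.isUnits_det_units h).ne_zero
    have hhom : ∀ a b, (M' a b).IsHomogeneous 1 := by
      intro a b
      rw [hM', Matrix.mul_apply]
      refine MvPolynomial.IsHomogeneous.sum _ _ _ fun j _ => ?_
      have e1 : (MvPolynomial.C : k →+* MvPolynomial (Fin 3) k).mapMatrix h.val j b =
          MvPolynomial.C (h.val j b) := rfl
      rw [e1, mul_comm]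
      refine MvPolynomial.IsHomogeneous.C_mul ?_ _
      rw [Matrix.mul_apply]
      refine MvPolynomial.IsHomogeneous.sum _ _ _ fun i _ => ?_
      have e2 : (MvPolynomial.C : k →+* MvPolynomial (Fin 3) k).mapMatrix g.val a i =
          MvPolynomial.C (g.val a i) := rfl
      rw [e2]
      exact MvPolynomial.IsHomogeneous.C_mul (hM i j) _
    refine ⟨MvPolynomial.C ((g.val.det)⁻¹ * (h.val.det)⁻¹) * M' 0 0, M' 1 1,
      MvPolynomial.IsHomogeneous.C_mul (hhom 0 0) _, hhom 1 1, ?_⟩
    have e1 : MvPolynomial.C ((g.val.det)⁻¹ * (h.val.det)⁻¹) * (MvPolynomial.C g.val.det *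
        M.det * MvPolynomial.C h.val.det) = M.det := by
      have : (MvPolynomial.C ((g.val.det)⁻¹ * (h.val.det)⁻¹) : MvPolynomial (Fin 3) k) *
          MvPolynomial.C g.val.det * MvPolynomial.C h.val.det = 1 := by
        rw [← map_mul, ← map_mul]
        have : (g.val.det)⁻¹ * (h.val.det)⁻¹ * g.val.det * h.val.det = 1 := by
          field_simp
        rw [this, map_one]
      linear_combination M.det * this
    rw [← e1, ← hdet', hdet2]
    ring

end Groth.Agent.S13912
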