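import Groth.Statements.S13913
import Mathlib

set_option autoImplicit false
universe u
open PlaneCubic

namespace Groth.Agent.S13913

/-- a linear form whose partial derivatives all vanish at a point is zero -/
lemma eq_zero_of_pderiv {k : Type u} [Field k] (w : MvPolynomial (Fin 3) k)
    (hw : w.IsHomogeneous 1) (p : Fin 3 → k)
    (h : ∀ i, MvPolynomial.eval p (MvPolynomial.pderiv i w) = 0) : w = 0 := by
  have hC : ∀ i, MvPolynomial.pderiv i w = 0 := by
    intro i
    have h0 : (MvPolynomial.pderiv i w).IsHomogeneous 0 := hw.pderiv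
    rw [← MvPolynomial.totalDegree_zero_iff_isHomogeneous,
      MvPolynomial.totalDegree_eq_zero_iff_eq_C] at h0
    have := h i
    rw [h0, MvPolynomial.eval_C] at this
    rw [h0, this, map_zero]
  have := hw.sum_X_mul_pderiv
  simp only [hC, mul_zero, Finset.sum_const_zero, one_smul] at this
  exact this.symm

/-- Over an algebraically closed field of characteristic zero, for linearly independent linear forms z₁,
z₂ and quadratic forms q₁, q₂ in three variables and a nonzero common zero p of z₁ and z₂, the point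
p is a singular point of the plane cubic z₁q₂ − z₂q₁ = 0 (all three partial derivatives vanish at p)
if and only if q₁ and q₂ both vanish at p. -/
theorem result (k : Type u) [Field k] [IsAlgClosed k] [CharZero k]
    (z₁ z₂ q₁ q₂ : MvPolynomial (Fin 3) k) (hz₁ : z₁.IsHomogeneous 1) (hz₂ : z₂.IsHomogeneous 1)
    (hq₁ : q₁.IsHomogeneous 2) (hq₂ : q₂.IsHomogeneous 2) (hind : LinearIndependent k ![z₁, z₂])
    (p : Fin 3 → k) (hp : p ≠ 0) (hp₁ : MvPolynomial.eval p z₁ = 0) (hp₂ : MvPolynomial.eval p z₂ = 0) :
    (∀ i : Fin 3, MvPolynomial.eval p (MvPolynomial.pderiv i (z₁ * q₂ - z₂ * q₁)) = 0) ↔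
      (MvPolynomial.eval p q₁ = 0 ∧ MvPolynomial.eval p q₂ = 0) := by
  have key : ∀ i : Fin 3, MvPolynomial.eval p (MvPolynomial.pderiv i (z₁ * q₂ - z₂ * q₁)) =
      MvPolynomial.eval p (MvPolynomial.pderiv i
        (MvPolynomial.eval p q₂ • z₁ - MvPolynomial.eval p q₁ • z₂)) := by
    intro i
    simp only [map_sub, Derivation.leibniz, map_add, smul_eq_mul, map_mul, hp₁, hp₂, zero_mul,
      zero_add, Derivation.map_smul, MvPolynomial.smul_eval]
  constructor
  · intro h
    have hw : (MvPolynomial.eval p q₂ • z₁ - MvPolynomial.eval p q₁ • z₂) = 0 := by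
      apply eq_zero_of_pderiv _ _ p
      · intro i
        rw [← key]
        exact h i
      · exact ((MvPolynomial.homogeneousSubmodule (Fin 3) k 1).sub_mem
          ((MvPolynomial.homogeneousSubmodule (Fin 3) k 1).smul_mem _ hz₁)
          ((MvPolynomial.homogeneousSubmodule (Fin 3) k 1).smul_mem _ hz₂))
    rw [LinearIndependent.pair_iff] at hind
    have := hind (MvPolynomial.eval p q₂) (- MvPolynomial.eval p q₁) (by
      rw [neg_smul, ← sub_eq_add_neg]; exact hw)
    exact ⟨neg_eq_zero.mp this.2, this.1⟩
  · rintro ⟨h1, h2⟩ i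
    rw [key, h1, h2]
    simp

end Groth.Agent.S13913
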