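import Groth.Statements.S13914
import Mathlib

set_option autoImplicit false
universe u
open PlaneConic

namespace Groth.Agent.S13914

/-- Over an algebraically closed field of characteristic zero, an invertible 3 × 3 matrix g, acting on
row vectors and so on the projective plane, fixes every point of the line u_0 = 0 if and only if g
is a nonzero scalar multiple of a matrix with rows (α, β, γ), (0, 1, 0), (0, 0, 1). -/
theorem result (k : Type u) [Field k] [IsAlgClosed k] [CharZero k]
    (g : Matrix (Fin 3) (Fin 3) k) (hg : IsUnit g.det) :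
    (∀ v : Fin 3 → k, v 0 = 0 → ∃ c : k, Matrix.vecMul v g = c • v) ↔
      ∃ c α β γ : k, c ≠ 0 ∧ g = c • !![α, β, γ; 0, 1, 0; 0, 0, 1] := by
  constructor
  · intro h
    obtain ⟨c1, h1⟩ := h ![0, 1, 0] rfl
    obtain ⟨c2, h2⟩ := h ![0, 0, 1] rfl
    obtain ⟨c3, h3⟩ := h ![0, 1, 1] rfl
    have e1 := fun j => congrFun h1 j
    have e2 := fun j => congrFun h2 j
    have e3 := fun j => congrFun h3 j
    have a10 := e1 0
    have a11 := e1 1
    have a12 := e1 2
    have a20 := e2 0
    have a21 := e2 1
    have a22 := e2 2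
    have a31 := e3 1
    have a32 := e3 2
    simp [Matrix.vecMul, dotProduct, Fin.sum_univ_three] at a10 a11 a12 a20 a21 a22 a31 a32
    have hc12 : c1 = c2 := by
      rw [a11, a21] at a31
      rw [a12, a22] at a32
      simp at a31 a32
      rw [a31, a32]
    have hc : c1 ≠ 0 := by
      intro hc0
      apply hg.ne_zero
      apply Matrix.det_eq_zero_of_row_eq_zero 1
      intro j
      fin_cases j
      · simpa using a10
      · simpa [hc0] using a11
      · simpa using a12
    refine ⟨c1, g 0 0 / c1, g 0 1 / c1, g 0 2 / c1, hc, ?_⟩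
    ext i j
    fin_cases i <;> fin_cases j <;> simp [a10, a11, a12, a20, a21, a22, hc12]
    all_goals
      have hc2 : c2 ≠ 0 := hc12 ▸ hc
      field_simp
  · rintro ⟨c, α, β, γ, hc, rfl⟩ v hv
    refine ⟨c, ?_⟩
    ext j
    fin_cases j <;> simp [Matrix.vecMul, dotProduct, Fin.sum_univ_three, hv] <;> ring

end Groth.Agent.S13914
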