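import Groth.Statements.S13916
import Mathlib

set_option autoImplicit false
universe u
open PlaneConic

namespace Groth.Agent.S13916

open MvPolynomial in
theorem evalMat {k : Type u} [Field k] (g h : Matrix (Fin 2) (Fin 2) k)
    (M N : Matrix (Fin 2) (Fin 2) (MvPolynomial (Fin 3) k))
    (H : (MvPolynomial.C : k →+* MvPolynomial (Fin 3) k).mapMatrix g * M *
        (MvPolynomial.C : k →+* MvPolynomial (Fin 3) k).mapMatrix h = N) (p : Fin 3 → k) :
    g * (M.map (MvPolynomial.eval p)) * h = N.map (MvPolynomial.eval p) := by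
  have := congrArg (fun A : Matrix (Fin 2) (Fin 2) (MvPolynomial (Fin 3) k) =>
    (MvPolynomial.eval p).mapMatrix A) H
  simp only [map_mul, RingHom.mapMatrix_apply] at this
  rw [← this]
  congr 2
  · ext i j; simp
  · ext i j; simp

/-- Over an algebraically closed field k of characteristic zero, with u_0, u_1, u_2 the coordinate
linear forms of k[X_0, X_1, X_2] and 2 × 2 matrices of linear forms compared up to M ↦ g M h with g,
h invertible scalar matrices: (1) the matrices with rows (u_1, 0), (u_0, u_2) and (u_2, 0), (u_0,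
u_1) are not equivalent; (2) for α ≠ 0 the matrix with rows (u_1, 0), (αu_0 + βu_1 + γu_2, u_2) is
equivalent to the one with rows (u_1, 0), (u_0, u_2). -/
theorem result (k : Type u) [Field k] [IsAlgClosed k] [CharZero k] :
    (¬ ∃ g h : GL (Fin 2) k,
      (MvPolynomial.C : k →+* MvPolynomial (Fin 3) k).mapMatrix g.val *
          !![MvPolynomial.X 1, 0; MvPolynomial.X 0, MvPolynomial.X 2] *
        (MvPolynomial.C : k →+* MvPolynomial (Fin 3) k).mapMatrix h.val =
      !![MvPolynomial.X 2, 0; MvPolynomial.X 0, MvPolynomial.X 1]) ∧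
    (∀ α β γ : k, α ≠ 0 → ∃ g h : GL (Fin 2) k,
      (MvPolynomial.C : k →+* MvPolynomial (Fin 3) k).mapMatrix g.val *
          !![MvPolynomial.X 1, 0;
             MvPolynomial.C α * MvPolynomial.X 0 + MvPolynomial.C β * MvPolynomial.X 1 + MvPolynomial.C γ * MvPolynomial.X 2,
             MvPolynomial.X 2] *
        (MvPolynomial.C : k →+* MvPolynomial (Fin 3) k).mapMatrix h.val =
      !![MvPolynomial.X 1, 0; MvPolynomial.X 0, MvPolynomial.X 2]) := by
  refine ⟨?_, ?_⟩
  · rintro ⟨g, h, H⟩
    have e0 := evalMat g.val h.val _ _ H ![1, 0, 0]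
    have e1 := evalMat g.val h.val _ _ H ![0, 1, 0]
    have e2 := evalMat g.val h.val _ _ H ![0, 0, 1]
    have a00 := congrFun (congrFun e2 0) 0
    have a01 := congrFun (congrFun e2 0) 1
    have b11 := congrFun (congrFun e1 1) 1
    have b01 := congrFun (congrFun e1 0) 1
    have c01 := congrFun (congrFun e0 0) 1
    simp [Matrix.mul_apply, Fin.sum_univ_two] at a00 a01 b11 b01 c01
    have h1 : (g.val 0 1) ≠ 0 := by
      intro h0; rw [h0, zero_mul] at a00; exact zero_ne_one a00
    have h2 : (h.val 0 1) ≠ 0 := by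
      intro h0; rw [h0, mul_zero] at b11; exact zero_ne_one b11
    rcases c01 with c | c
    · exact h1 c
    · exact h2 c
  · intro α β γ hα
    refine ⟨Matrix.GeneralLinearGroup.mkOfDetNeZero !![1, 0; -β / α, 1 / α] ?_,
      Matrix.GeneralLinearGroup.mkOfDetNeZero !![1, 0; -γ, α] ?_, ?_⟩
    · simp [Matrix.det_fin_two, hα]
    · simp [Matrix.det_fin_two, hα]
    · have hC : (MvPolynomial.C α⁻¹ : MvPolynomial (Fin 3) k) * MvPolynomial.C α = 1 := by
        rw [← MvPolynomial.C_mul, inv_mul_cancel₀ hα, MvPolynomial.C_1]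
      refine Matrix.ext fun i j => ?_
      fin_cases i <;> fin_cases j <;>
        simp [Matrix.mul_apply, Fin.sum_univ_two, Matrix.GeneralLinearGroup.mkOfDetNeZero,
          div_eq_mul_inv]
      · linear_combination (MvPolynomial.X 0) * hC
      · linear_combination (MvPolynomial.X 2) * hC

end Groth.Agent.S13916
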