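import Groth.Statements.S13925
import Mathlib.Tactic

set_option autoImplicit false
universe u v w x
open W4c1limliniiii

namespace Groth.Agent.S13925

/-- Let k be a field and U, E, W vector spaces over k with linear maps f : U → E, g' : E → U, f₂ : E → W
and g : W → E such that g' ∘ f = 0, the kernel of f₂ is contained in the image of g, and the image
of g meets the kernel of g' only in 0 — the conditions holding at a point of a linked Grassmannian
at which the linking scalar vanishes. Let V₁ ≤ U and V₂ ≤ E be subspaces and let C' ≤ V₂ be a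
subspace contained in the kernel of g' and meeting f(V₁) only in 0. Then the subspaces f(V₁), ker f₂
∩ V₂ and C' of E are independent: their sum is direct. (The published statement is for two
consecutive members V_{i-1}, V_i of a point of a linked Grassmannian at which the linking scalar
vanishes and adds the decomposition V_i = f(V_{i-1}) ⊕ (ker f_i ∩ V_i) ⊕ C with C ⊇ C'; this row
states the independence, with only the three conditions the argument uses.) -/
theorem result (k : Type u) [Field k]
    (U : Type v) (E : Type w) (W : Type x) [AddCommGroup U] [Module k U] [AddCommGroup E]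
    [Module k E] [AddCommGroup W] [Module k W]
    (f : U →ₗ[k] E) (g' : E →ₗ[k] U) (f₂ : E →ₗ[k] W) (g : W →ₗ[k] E)
    (hgf : g'.comp f = 0) (hII : LinearMap.ker f₂ ≤ LinearMap.range g)
    (hIII : LinearMap.range g ⊓ LinearMap.ker g' = ⊥)
    (V₁ : Submodule k U) (V₂ : Submodule k E) (C' : Submodule k E) (hC : C' ≤ V₂)
    (hCg : C' ≤ LinearMap.ker g') (hCf : Submodule.map f V₁ ⊓ C' = ⊥) :
    iSupIndep ![Submodule.map f V₁, LinearMap.ker f₂ ⊓ V₂, C'] := by
  set A := Submodule.map f V₁ with hA
  set B := LinearMap.ker f₂ ⊓ V₂ with hB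
  have hAk : A ≤ LinearMap.ker g' := by
    rintro _ ⟨v, _, rfl⟩
    rw [LinearMap.mem_ker]
    have := congrArg (fun φ => φ v) hgf
    simpa using this
  have hBr : B ≤ LinearMap.range g := inf_le_left.trans hII
  have key : ∀ a ∈ A, ∀ b ∈ B, ∀ c ∈ C', a + b + c = 0 → a = 0 ∧ b = 0 ∧ c = 0 := by
    intro a ha b hb c hc h
    have hb' : b = -(a + c) := by
      have : b = (a + b + c) - (a + c) := by abel
      rw [this, h, zero_sub]
    have hbk : b ∈ LinearMap.ker g' := by
      rw [hb']
      exact (LinearMap.ker g').neg_mem ((LinearMap.ker g').add_mem (hAk ha) (hCg hc))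
    have hb0 : b = 0 := by
      have : b ∈ LinearMap.range g ⊓ LinearMap.ker g' := ⟨hBr hb, hbk⟩
      rw [hIII] at this
      exact (Submodule.mem_bot k).mp this
    have hac : a = -c := by
      rw [hb0, add_zero] at h
      exact eq_neg_of_add_eq_zero_left h
    have ha0 : a = 0 := by
      have : a ∈ A ⊓ C' := ⟨ha, by rw [hac]; exact C'.neg_mem hc⟩
      rw [hCf] at this
      exact (Submodule.mem_bot k).mp this
    refine ⟨ha0, hb0, ?_⟩
    rw [ha0] at hac
    exact neg_eq_zero.mp hac.symm
  rw [iSupIndep_def]
  intro i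
  rw [Submodule.disjoint_def]
  intro x hx hx'
  fin_cases i
  · have hle : (⨆ j, ⨆ (_ : j ≠ (0 : Fin 3)), ![A, B, C'] j) ≤ B ⊔ C' := by
      refine iSup₂_le fun j hj => ?_
      fin_cases j
      · exact absurd rfl hj
      · exact le_sup_left
      · exact le_sup_right
    obtain ⟨b, hb, c, hc, hbc⟩ := Submodule.mem_sup.mp (hle hx')
    have hxA : x ∈ A := hx
    have := key x hxA (-b) (B.neg_mem hb) (-c) (C'.neg_mem hc) (by rw [← hbc]; abel)
    exact this.1
  · have hle : (⨆ j, ⨆ (_ : j ≠ (1 : Fin 3)), ![A, B, C'] j) ≤ A ⊔ C' := by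
      refine iSup₂_le fun j hj => ?_
      fin_cases j
      · exact le_sup_left
      · exact absurd rfl hj
      · exact le_sup_right
    obtain ⟨a, ha, c, hc, hac⟩ := Submodule.mem_sup.mp (hle hx')
    have hxB : x ∈ B := hx
    have := key (-a) (A.neg_mem ha) x hxB (-c) (C'.neg_mem hc) (by rw [← hac]; abel)
    exact this.2.1
  · have hle : (⨆ j, ⨆ (_ : j ≠ (2 : Fin 3)), ![A, B, C'] j) ≤ A ⊔ B := by
      refine iSup₂_le fun j hj => ?_
      fin_cases j
      · exact le_sup_left
      · exact le_sup_right
      · exact absurd rfl hj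
    obtain ⟨a, ha, b, hb, hab⟩ := Submodule.mem_sup.mp (hle hx')
    have hxC : x ∈ C' := hx
    have := key (-a) (A.neg_mem ha) (-b) (B.neg_mem hb) x hxC (by rw [← hab]; abel)
    exact this.2.2

end Groth.Agent.S13925
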