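import Groth.Statements.S13926
import Mathlib.LinearAlgebra.FiniteDimensional.Lemmas
import Mathlib.Tactic
-- import your own Groth.Agent.* helpers here

set_option autoImplicit false
universe u v w
open W4c1limliniiii

namespace Groth.Agent.S13926

/-- Between two nested subspaces there is a subspace of any intermediate dimension. -/
theorem exists_between {k : Type u} [Field k] {E : Type v} [AddCommGroup E] [Module k E]
    [FiniteDimensional k E] (T : Submodule k E) (d : ℕ) (hT : d ≤ Module.finrank k T) :
    ∀ (m : ℕ) (S : Submodule k E), S ≤ T → Module.finrank k S + m = d →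
      ∃ V : Submodule k E, S ≤ V ∧ V ≤ T ∧ Module.finrank k V = d := by
  intro m
  induction m with
  | zero =>
    intro S hST hS
    exact ⟨S, le_rfl, hST, by omega⟩
  | succ m ih =>
    intro S hST hS
    have hlt : S < T := by
      refine lt_of_le_of_ne hST ?_
      rintro rfl
      omega
    obtain ⟨x, hxT, hxS⟩ := SetLike.exists_of_lt hlt
    have h1 := Submodule.finrank_sup_span_singleton (K := k) hxS
    obtain ⟨V, hV1, hV2, hV3⟩ := ih (S ⊔ Submodule.span k {x})
      (sup_le hST ((Submodule.span_singleton_le_iff_mem x T).mpr hxT)) (by omega)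
    exact ⟨V, le_trans le_sup_left hV1, hV2, hV3⟩

/-- Let k be a field, E₁ and E₂ finite-dimensional vector spaces over k of the same dimension, f : E₁ →
E₂ and g : E₂ → E₁ linear maps whose composite g ∘ f is multiplication by a scalar s, and V₁ a
subspace of E₁. Then there is a subspace V₂ of E₂ of the same dimension as V₁ with f(V₁) ≤ V₂ and
g(V₂) ≤ V₁. (The published statement is the surjectivity of the truncation morphisms of a linked
Grassmannian of length n ≥ 2 onto the linked Grassmannian of length two, for a chain of maps with
f_i ∘ g_i = g_i ∘ f_i = s; this row states the one-step extension on which the induction on n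
rests.) -/
theorem result (k : Type u) [Field k]
    (E₁ : Type v) (E₂ : Type w) [AddCommGroup E₁] [Module k E₁] [FiniteDimensional k E₁]
    [AddCommGroup E₂] [Module k E₂] [FiniteDimensional k E₂]
    (hdim : Module.finrank k E₁ = Module.finrank k E₂)
    (f : E₁ →ₗ[k] E₂) (g : E₂ →ₗ[k] E₁) (s : k) (hgf : g.comp f = s • LinearMap.id)
    (V₁ : Submodule k E₁) :
    ∃ V₂ : Submodule k E₂, Module.finrank k V₂ = Module.finrank k V₁ ∧
      Submodule.map f V₁ ≤ V₂ ∧ Submodule.map g V₂ ≤ V₁ := by
  set W : Submodule k E₂ := Submodule.comap g V₁ with hW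
  have hfW : Submodule.map f V₁ ≤ W := by
    rintro _ ⟨v, hv, rfl⟩
    rw [hW, Submodule.mem_comap]
    have : g (f v) = s • v := by
      have := congrArg (fun φ => φ v) hgf
      simpa using this
    rw [this]
    exact V₁.smul_mem s hv
  have hdimW : Module.finrank k V₁ ≤ Module.finrank k W := by
    have h1 := LinearMap.finrank_range_add_finrank_ker (g.domRestrict W)
    rw [LinearMap.range_domRestrict, LinearMap.ker_domRestrict] at h1
    have hker : LinearMap.ker g ≤ W := by
      intro x hx
      rw [hW, Submodule.mem_comap, LinearMap.mem_ker.mp hx]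
      exact V₁.zero_mem
    have h2 : Module.finrank k (Submodule.comap W.subtype (LinearMap.ker g)) =
        Module.finrank k (LinearMap.ker g) :=
      (Submodule.comapSubtypeEquivOfLe hker).finrank_eq
    have hmap : Submodule.map g W = LinearMap.range g ⊓ V₁ := Submodule.map_comap_eq g V₁
    rw [h2, hmap] at h1
    have h3 := Submodule.finrank_sup_add_finrank_inf_eq (LinearMap.range g) V₁
    have h4 := LinearMap.finrank_range_add_finrank_ker g
    have h5 : Module.finrank k ↥(LinearMap.range g ⊔ V₁) ≤ Module.finrank k E₁ :=
      Submodule.finrank_le _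
    omega
  have hdimf : Module.finrank k (Submodule.map f V₁) ≤ Module.finrank k V₁ :=
    Submodule.finrank_map_le f V₁
  obtain ⟨V₂, h1, h2, h3⟩ := exists_between W (Module.finrank k V₁) hdimW
    (Module.finrank k V₁ - Module.finrank k (Submodule.map f V₁)) (Submodule.map f V₁) hfW
    (by omega)
  refine ⟨V₂, h3, h1, ?_⟩
  rw [Submodule.map_le_iff_le_comap]
  exact h2

end Groth.Agent.S13926
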