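import Groth.Statements.S13953
import Mathlib.Tactic
import Mathlib.LinearAlgebra.Finsupp.LinearCombination

set_option autoImplicit false
universe u
open TateLoc

namespace Groth.Agent.S13953

/-- Let (R_i) be a family of local commutative rings and R = ∏ R_i. Any open cover of Spec R can be
refined by one coming from a finite partition of the index set: there is a map c from the index set
to a finite set such that, for each value m, the basic open subset of Spec R defined by the
idempotent which is 1 at the indices with c i = m and 0 elsewhere (this open is the spectrum of the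
product of the R_i over that class) is contained in some member of the cover. -/
theorem result {ι : Type u} (R : ι → Type u)
    [∀ i, CommRing (R i)] [∀ i, IsLocalRing (R i)] {J : Type u}
    (U : J → TopologicalSpace.Opens (PrimeSpectrum (∀ i, R i))) (hU : ⨆ j, U j = ⊤) :
    ∃ (n : ℕ) (c : ι → Fin n), ∀ m : Fin n, ∃ j : J,
      PrimeSpectrum.basicOpen (fun i => if c i = m then (1 : R i) else 0) ≤ U j := by
  classical
  let S : Set (∀ i, R i) := {f | ∃ j, PrimeSpectrum.basicOpen f ≤ U j}
  have hS : Ideal.span S = ⊤ := by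
    rw [← PrimeSpectrum.iSup_basicOpen_eq_top_iff', eq_top_iff]
    intro x _
    have hx : x ∈ (⨆ j, U j) := by rw [hU]; trivial
    obtain ⟨j, hj⟩ := TopologicalSpace.Opens.mem_iSup.mp hx
    obtain ⟨_, ⟨f, rfl⟩, hxf, hfU⟩ :=
      PrimeSpectrum.isTopologicalBasis_basic_opens.exists_subset_of_mem_open hj (U j).isOpen
    exact TopologicalSpace.Opens.mem_iSup.mpr ⟨f, TopologicalSpace.Opens.mem_iSup.mpr ⟨⟨j, hfU⟩, hxf⟩⟩
  have h1 : (1 : ∀ i, R i) ∈ Ideal.span S := by rw [hS]; trivial
  obtain ⟨T, hTS, hT1⟩ := Submodule.mem_span_finite_of_mem_span h1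
  obtain ⟨g, -, hg⟩ := Submodule.mem_span_finset.mp hT1
  have hex : ∀ i : ι, ∃ f ∈ T, IsUnit (f i) := by
    intro i
    by_contra hcon
    push Not at hcon
    have h2 : (∑ a ∈ T, g a • a) i ∈ IsLocalRing.maximalIdeal (R i) := by
      rw [Finset.sum_apply]
      refine Ideal.sum_mem _ (fun a ha => ?_)
      simp only [Pi.smul_apply, smul_eq_mul]
      exact Ideal.mul_mem_left _ _ (hcon a ha)
    rw [hg] at h2
    exact (IsLocalRing.maximalIdeal (R i)).ne_top_iff_one.mp (IsLocalRing.maximalIdeal.isMaximal _).ne_top h2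
  choose F hFT hFu using hex
  refine ⟨T.card, fun i => T.equivFin ⟨F i, hFT i⟩, ?_⟩
  intro m
  obtain ⟨j, hj⟩ := hTS (T.equivFin.symm m).2
  refine ⟨j, le_trans ?_ hj⟩
  set fm : ∀ i, R i := (T.equivFin.symm m).1 with hfm
  have hdec : (fun i => if T.equivFin ⟨F i, hFT i⟩ = m then (1 : R i) else 0) =
      fm * (fun i => if T.equivFin ⟨F i, hFT i⟩ = m then Ring.inverse (fm i) else 0) := by
    funext i
    simp only [Pi.mul_apply]
    split_ifs with h
    · have h3 : fm = F i := by
        rw [hfm, ← h]; simp
      rw [h3, Ring.mul_inverse_cancel _ (hFu i)]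
    · simp
  rw [hdec, PrimeSpectrum.basicOpen_mul]
  exact inf_le_left

end Groth.Agent.S13953
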