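import Groth.Statements.S18861
import Mathlib
import Groth.Prelude.Def_ChGrp

set_option autoImplicit false
universe u
open CategoryTheory MonoidalCategory CartesianMonoidalCategory MonObj GrpObj AlgebraicGeometry
open AlgGrp

namespace Groth.Agent.S18861
open CategoryTheory MonoidalCategory CartesianMonoidalCategory MonObj GrpObj AlgebraicGeometry
open AlgGrp

section helpers



section
variable {S : Scheme.{u}} {G X : Over S} [GrpObj G]

lemma act_inv_act (a : AlgGrp.Action G X) {T : Over S} (g : T ⟶ G) (x : T ⟶ X) :
    lift g⁻¹ (lift g x ≫ a.act) ≫ a.act = x := by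
  rw [← AlgGrp.Action.lift_mul_act, inv_mul_cancel, AlgGrp.Action.lift_one_act]

lemma act_act_inv (a : AlgGrp.Action G X) {T : Over S} (g : T ⟶ G) (x : T ⟶ X) :
    lift g (lift g⁻¹ x ≫ a.act) ≫ a.act = x := by
  rw [← AlgGrp.Action.lift_mul_act, mul_inv_cancel, AlgGrp.Action.lift_one_act]

/-- the shear automorphism `(g, x) ↦ (g, g x)` -/
noncomputable def shear (a : AlgGrp.Action G X) : G ⊗ X ≅ G ⊗ X where
  hom := lift (fst G X) a.act
  inv := lift (fst G X) (lift ((fst G X)⁻¹) (snd G X) ≫ a.act)
  hom_inv_id := by
    apply CartesianMonoidalCategory.hom_ext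
    · simp
    · rw [Category.assoc, lift_snd, ← Category.assoc, comp_lift, GrpObj.comp_inv, lift_fst, lift_snd,
        Category.id_comp]
      have := act_inv_act a (fst G X) (snd G X)
      rwa [lift_fst_snd, Category.id_comp] at this
  inv_hom_id := by
    apply CartesianMonoidalCategory.hom_ext
    · simp
    · rw [Category.assoc, lift_snd, Category.id_comp]
      exact act_act_inv a (fst G X) (snd G X)

lemma act_eq (a : AlgGrp.Action G X) : a.act = (shear a).hom ≫ snd G X := by
  simp [shear]

lemma main (P : MorphismProperty Scheme.{u}) [P.IsStableUnderBaseChange]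
    (a : AlgGrp.Action G X) (hG : P G.hom) : P a.act.left := by
  have h1 : P (Limits.pullback.snd G.hom X.hom) := P.pullback_snd _ _ hG
  have h2 : a.act.left = (shear a).hom.left ≫ Limits.pullback.snd G.hom X.hom := by
    conv_lhs => rw [act_eq a]
    rfl
  rw [h2]
  haveI : IsIso (shear a).hom.left := (Over.forget S).map_isIso (shear a).hom
  exact (P.cancel_left_of_respectsIso _ _).2 h1

end



end helpers

/-- Let S be a scheme and G a group scheme over S acting on an S-scheme X, with action morphism G ×_S X
→ X. If G → S is surjective, resp. flat, resp. affine, resp. proper, resp. finite, resp. smooth,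
then so is the action morphism. (The source works over a field, where G → S is automatically
faithfully flat, with G and X of finite type, and concludes that the action morphism is faithfully
flat, and smooth, affine, proper or finite when G is; the base and the finiteness conditions play no
role.) -/
theorem result {S : Scheme.{u}} {G X : Over S} [GrpObj G]
    (a : AlgGrp.Action G X) :
    (Surjective G.hom → Surjective a.act.left) ∧ (Flat G.hom → Flat a.act.left) ∧
      (IsAffineHom G.hom → IsAffineHom a.act.left) ∧ (IsProper G.hom → IsProper a.act.left) ∧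
      (IsFinite G.hom → IsFinite a.act.left) ∧ (Smooth G.hom → Smooth a.act.left) := by
  refine ⟨main @Surjective a, main @Flat a, main @IsAffineHom a, main @IsProper a,
    main @IsFinite a, main @Smooth a⟩

end Groth.Agent.S18861
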