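import Groth.Statements.S18763
import Mathlib
import Groth.Agent.S18861

set_option autoImplicit false
universe u
open CategoryTheory CategoryTheory.Limits MonoidalCategory CartesianMonoidalCategory MonObj GrpObj AlgebraicGeometry
open AlgGrp

namespace Groth.Agent.S18763
open CategoryTheory CategoryTheory.Limits MonoidalCategory CartesianMonoidalCategory MonObj GrpObj AlgebraicGeometry
open AlgGrp

section helpers



section
variable {S : Scheme.{u}} {G H Q N : Over S} [GrpObj G] [GrpObj H] [GrpObj N]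

/-- the "core" lemma, categorical part -/
lemma core (i : H ⟶ G) (aQ : AlgGrp.Action G Q) (q₀ : 𝟙_ (Over S) ⟶ Q)
    (hsq : IsPullback (fst G H) ((G ◁ i) ≫ μ[G]) (aQ.orbitMap q₀) (aQ.orbitMap q₀))
    (hlift : ∀ (T' : Over S) (q p p' : T' ⟶ Q),
      (∀ (U : Over S) (e : U ⟶ T') (c : U ⟶ G), c ≫ aQ.orbitMap q₀ = e ≫ q → e ≫ p = e ≫ p') →
        p = p')
    (n : N ⟶ G) [IsMonHom n]
    (hN : ∀ (T : Over S) (g : T ⟶ G),
      (∃ g' : T ⟶ N, g' ≫ n = g) ↔
        ∀ (T' : Over S) (v : T' ⟶ T) (q : T' ⟶ Q), lift (v ≫ g) q ≫ aQ.act = q) :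
    AlgGrp.IsNormalHom n ∧ (∃ m : N ⟶ H, m ≫ i = n) ∧
      ∀ (N' : Over S) [GrpObj N'] (n' : N' ⟶ G) [IsMonHom n'],
        AlgGrp.IsNormalHom n' → (∃ m' : N' ⟶ H, m' ≫ i = n') → ∃ r : N' ⟶ N, r ≫ n = n' := by
  -- points of N act trivially
  have htriv : ∀ (T : Over S) (m : T ⟶ N) (y : T ⟶ Q), lift (m ≫ n) y ≫ aQ.act = y := by
    intro T m y
    have := (hN T (m ≫ n)).mp ⟨m, rfl⟩ T (𝟙 T) y
    rwa [Category.id_comp] at this
  -- H fixes q₀
  have hfix : ∀ (T : Over S) (h : T ⟶ H),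
      lift (h ≫ i) (toUnit T ≫ q₀) ≫ aQ.act = toUnit T ≫ q₀ := by
    intro T h
    have h1 := congrArg (fun w => lift (1 : T ⟶ G) h ≫ w) hsq.w
    simp only [← Category.assoc, lift_fst] at h1
    have h2 : (lift (1 : T ⟶ G) h ≫ (G ◁ i)) ≫ μ[G] = h ≫ i := by
      rw [lift_whiskerLeft, ← Hom.mul_def, _root_.one_mul]
    rw [h2, AlgGrp.Action.comp_orbitMap, AlgGrp.Action.comp_orbitMap,
      AlgGrp.Action.lift_one_act] at h1
    exact h1.symm
  refine ⟨?_, ?_, ?_⟩
  · intro T g m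
    suffices hs : ∃ g', g' ≫ n = g * (m ≫ n) * g⁻¹ by
      obtain ⟨g', hg'⟩ := hs
      exact ⟨g', hg'.symm⟩
    refine (hN T (g * (m ≫ n) * g⁻¹)).mpr ?_
    intro T' v q
    rw [MonObj.comp_mul, MonObj.comp_mul, GrpObj.comp_inv, AlgGrp.Action.lift_mul_act,
      AlgGrp.Action.lift_mul_act, ← Category.assoc, htriv]
    exact Groth.Agent.S18861.act_act_inv aQ _ _
  · have hc : (1 : N ⟶ G) ≫ aQ.orbitMap q₀ = n ≫ aQ.orbitMap q₀ := by
      rw [AlgGrp.Action.comp_orbitMap, AlgGrp.Action.comp_orbitMap, AlgGrp.Action.lift_one_act]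
      have := htriv N (𝟙 N) (toUnit N ≫ q₀)
      rw [Category.id_comp] at this
      exact this.symm
    refine ⟨hsq.lift (1 : N ⟶ G) n hc ≫ snd G H, ?_⟩
    have h1 := hsq.lift_snd (1 : N ⟶ G) n hc
    have h0 := hsq.lift_fst (1 : N ⟶ G) n hc
    set w := hsq.lift (1 : N ⟶ G) n hc with hw
    have h2 : w = lift (1 : N ⟶ G) (w ≫ snd G H) := by
      apply CartesianMonoidalCategory.hom_ext
      · rw [lift_fst, h0]
      · rw [lift_snd]
    rw [h2, ← Category.assoc, lift_whiskerLeft, ← Hom.mul_def, _root_.one_mul] at h1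
    exact h1
  · intro N' _ n' _ hnorm ⟨m', hm'⟩
    refine (hN N' n').mpr ?_
    intro T' v q
    refine hlift T' q _ _ ?_
    intro U e c hc
    rw [← Category.assoc, comp_lift, ← hc, AlgGrp.Action.comp_orbitMap,
      ← AlgGrp.Action.lift_mul_act]
    obtain ⟨n'', hn''⟩ := hnorm U c⁻¹ (e ≫ v)
    rw [_root_.inv_inv] at hn''
    have h3 : (e ≫ v ≫ n') * c = c * ((n'' ≫ m') ≫ i) := by
      rw [Category.assoc, hm', ← hn'']
      simp only [Category.assoc]
      group
    rw [h3, AlgGrp.Action.lift_mul_act, hfix]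

end

lemma hom_ext_fpqc {X Y : Scheme.{u}} (p q : X ⟶ Y) (R : Presieve X)
    (hR : R ∈ Scheme.fpqcPrecoverage X)
    (h : ∀ ⦃U : Scheme.{u}⦄ (e : U ⟶ X), R e → e ≫ p = e ≫ q) : p = q := by
  have hsh : Presieve.IsSheaf Scheme.fpqcTopology (yoneda.obj Y) :=
    GrothendieckTopology.Subcanonical.isSheaf_of_isRepresentable _
  have hmem : Sieve.generate R ∈ Scheme.fpqcTopology X :=
    Precoverage.generate_mem_toGrothendieck hR
  refine (hsh _ hmem).isSeparatedFor.ext (fun V f hf => ?_)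
  obtain ⟨W, a, e, he, rfl⟩ := hf
  show (a ≫ e) ≫ p = (a ≫ e) ≫ q
  rw [Category.assoc, h e he, Category.assoc]

lemma hlift_of_cover {S : Scheme.{u}} {G Q : Over S} (π : G ⟶ Q)
    (R : Presieve Q.left) (hR : R ∈ Scheme.fpqcPrecoverage Q.left)
    (hsec : ∀ ⦃U : Scheme.{u}⦄ (g : U ⟶ Q.left), R g → ∃ s : U ⟶ G.left, s ≫ π.left = g)
    (T' : Over S) (q p p' : T' ⟶ Q)
    (h : ∀ (U : Over S) (e : U ⟶ T') (c : U ⟶ G), c ≫ π = e ≫ q → e ≫ p = e ≫ p') : p = p' := by
  apply Over.OverMorphism.ext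
  have hR' : R.pullbackArrows q.left ∈ Scheme.fpqcPrecoverage T'.left :=
    Precoverage.pullbackArrows_mem q.left hR
  refine hom_ext_fpqc _ _ _ hR' ?_
  rintro _ _ ⟨U, g, hg⟩
  obtain ⟨s, hs⟩ := hsec g hg
  let e₀ := pullback.snd g q.left
  let Uo : Over S := Over.mk (e₀ ≫ T'.hom)
  let e : Uo ⟶ T' := Over.homMk e₀ rfl
  have hπ : π.left ≫ Q.hom = G.hom := Over.w π
  have hq : q.left ≫ Q.hom = T'.hom := Over.w q
  let c : Uo ⟶ G := Over.homMk (pullback.fst g q.left ≫ s) (by
    show (pullback.fst g q.left ≫ s) ≫ G.hom = e₀ ≫ T'.hom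
    rw [← hπ, ← hq, Category.assoc, ← Category.assoc s, hs, ← Category.assoc, pullback.condition,
      Category.assoc])
  have hc : c ≫ π = e ≫ q := by
    apply Over.OverMorphism.ext
    show (pullback.fst g q.left ≫ s) ≫ π.left = e₀ ≫ q.left
    rw [Category.assoc, hs, pullback.condition]
  have := h Uo e c hc
  exact congrArg (fun w => w.left) this



end helpers

/-- Let G be a finite group scheme over a field k and H a closed subgroup scheme of G, and let (Q, q₀)
with its G-action be the homogeneous space G/H for the fppf topology (the orbit map of q₀ is an fppf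
H-torsor onto Q). Let N be a closed subgroup scheme of G which is the kernel of the action of G on
Q: a point g of G with values in a k-scheme T factors through N exactly when g acts as the identity
on all points of Q with values in T-schemes. Then N (the core of H in G) is normal in G, is
contained in H, and contains every closed normal subgroup scheme of G which is contained in H. (The
published definition takes the core to be the kernel of the linear representation of G on the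
coordinate ring of G/H; this is the same subgroup as the kernel of the action on G/H used here.) -/
theorem result
    (k : Type u) [Field k]
    (G : Over (Spec (CommRingCat.of k))) [GrpObj G] [IsFinite G.hom]
    (H : Over (Spec (CommRingCat.of k))) [GrpObj H] (i : H ⟶ G) [IsMonHom i] [IsClosedImmersion i.left]
    (Q : Over (Spec (CommRingCat.of k))) (aQ : AlgGrp.Action G Q) (q₀ : 𝟙_ (Over (Spec (CommRingCat.of k))) ⟶ Q)
    (hQ : ChGrp.IsHomog Scheme.fppfPrecoverage i aQ q₀)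
    (N : Over (Spec (CommRingCat.of k))) [GrpObj N] (n : N ⟶ G) [IsMonHom n] [IsClosedImmersion n.left]
    (hN : ∀ (T : Over (Spec (CommRingCat.of k))) (g : T ⟶ G),
      (∃ g' : T ⟶ N, g' ≫ n = g) ↔
        ∀ (T' : Over (Spec (CommRingCat.of k))) (v : T' ⟶ T) (q : T' ⟶ Q), lift (v ≫ g) q ≫ aQ.act = q) :
    AlgGrp.IsNormalHom n ∧ (∃ m : N ⟶ H, m ≫ i = n) ∧
      ∀ (N' : Over (Spec (CommRingCat.of k))) [GrpObj N'] (n' : N' ⟶ G) [IsMonHom n'] [IsClosedImmersion n'.left],
        AlgGrp.IsNormalHom n' → (∃ m' : N' ⟶ H, m' ≫ i = n') → ∃ r : N' ⟶ N, r ≫ n = n' := by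
  obtain ⟨_, hsq, R, hR, hsec⟩ := hQ
  have hR' : R ∈ Scheme.fpqcPrecoverage Q.left := Scheme.fppfPrecoverage_le_fpqcPrecoverage _ hR
  obtain ⟨h1, h2, h3⟩ := core i aQ q₀ hsq
    (hlift_of_cover (aQ.orbitMap q₀) R hR' hsec) n hN
  exact ⟨h1, h2, fun N' _ n' _ _ hn hm => h3 N' n' hn hm⟩

end Groth.Agent.S18763
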