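import Groth.Statements.S13959
import Mathlib
import Groth.Agent.S8021
import Groth.Agent.S8006
import Groth.Agent.S18763

set_option autoImplicit false
universe u
open TateLoc

namespace Groth.Agent.S13959
open CategoryTheory CategoryTheory.Limits AlgebraicGeometry Opposite MonoidalCategory CartesianMonoidalCategory MonObj
open NonAbH1

section helpers



/-- descent of a point of a pseudo-torsor under a one-point group along an fpqc cover `f` of the
spectrum of a field with `U ×_K U` reduced -/
lemma descend_point (K : Type u) [Field K]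
    (G X : Over (Spec (CommRingCat.of K))) [GrpObj G] [Subsingleton G.left]
    (a : AlgGrp.Action G X) (hps : IsPseudoTorsorSch a)
    {U : Scheme.{u}} (f : U ⟶ Spec (CommRingCat.of K)) (x : U ⟶ X.left) (hx : x ≫ X.hom = f)
    [Flat f] [QuasiCompact f] (hne : Nonempty U) [IsReduced (pullback f f)] :
    NonAbH1.HasSectionOver X (𝟙 (Spec (CommRingCat.of K))) := by
  haveI : Subsingleton (Spec (CommRingCat.of K)) :=
    (inferInstance : Subsingleton (PrimeSpectrum K))
  haveI : Surjective f := ⟨fun s => by
    obtain ⟨u⟩ := hne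
    exact ⟨u, Subsingleton.elim _ _⟩⟩
  let Po : Over (Spec (CommRingCat.of K)) := Over.mk (pullback.fst f f ≫ f)
  let x₁ : Po ⟶ X := Over.homMk (pullback.fst f f ≫ x) (by simp [Po, hx])
  let x₂ : Po ⟶ X := Over.homMk (pullback.snd f f ≫ x) (by simp [Po, hx, pullback.condition])
  haveI : IsIso (lift a.act (snd G X)) := hps
  let w : Po ⟶ G ⊗ X := lift x₁ x₂ ≫ inv (lift a.act (snd G X))
  have hw : w ≫ lift a.act (snd G X) = lift x₁ x₂ := by
    simp only [w, Category.assoc, IsIso.inv_hom_id, Category.comp_id]
  have hw1 : w ≫ a.act = x₁ := by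
    have := congrArg (· ≫ fst X X) hw
    simpa using this
  have hw2 : w ≫ snd G X = x₂ := by
    have := congrArg (· ≫ snd X X) hw
    simpa using this
  -- the difference element is trivial
  have hg : w ≫ fst G X = toUnit Po ≫ η[G] := by
    haveI : IsClosedImmersion (η[G]).left := Groth.Agent.S8006.rational_closed K G η[G]
    obtain ⟨u⟩ := hne
    haveI : IsReduced Po.left := ‹IsReduced (pullback f f)›
    obtain ⟨n, hn⟩ := Groth.Agent.S8021.factor_closed (w ≫ fst G X).left (η[G]).left (by
      rintro _ ⟨p, rfl⟩
      exact ⟨f u, Subsingleton.elim _ _⟩)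
    apply Over.OverMorphism.ext
    rw [← hn, Over.comp_left]
    congr 1
    have h1 : (η[G]).left ≫ G.hom = 𝟙 _ := Over.w η[G]
    have h2 : (w ≫ fst G X).left ≫ G.hom = Po.hom := Over.w (w ≫ fst G X)
    have h3 : (toUnit Po).left = Po.hom := by
      have := Over.w (toUnit Po)
      simpa using this
    rw [h3, ← h2, ← hn, Category.assoc, h1, Category.comp_id]
  have hx12 : x₁ = x₂ := by
    have hw' : w = lift (toUnit Po) x₂ ≫ (η[G] ▷ X) := by
      apply CartesianMonoidalCategory.hom_ext
      · simp [hg]
      · simp [hw2]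
    rw [← hw1, hw', Category.assoc, a.one_act]
    simp
  -- descent along the fpqc cover f
  have compat : ∀ {Z : Scheme.{u}} (p₁ p₂ : Z ⟶ U), p₁ ≫ f = p₂ ≫ f →
      (yoneda.obj X.left).map p₁.op x = (yoneda.obj X.left).map p₂.op x := by
    intro Z p₁ p₂ hp
    show p₁ ≫ x = p₂ ≫ x
    have e1 : pullback.lift p₁ p₂ hp ≫ x₁.left = p₁ ≫ x := by
      show pullback.lift p₁ p₂ hp ≫ pullback.fst f f ≫ x = _
      rw [← Category.assoc, pullback.lift_fst]
    have e2 : pullback.lift p₁ p₂ hp ≫ x₂.left = p₂ ≫ x := by
      show pullback.lift p₁ p₂ hp ≫ pullback.snd f f ≫ x = _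
      rw [← Category.assoc, pullback.lift_snd]
    rw [← e1, ← e2, hx12]
  have hsh : Presieve.IsSheaf Scheme.fpqcTopology (yoneda.obj X.left) :=
    GrothendieckTopology.Subcanonical.isSheaf_of_isRepresentable _
  have hR : Presieve.singleton f ∈ Scheme.fpqcPrecoverage (Spec (CommRingCat.of K)) :=
    Scheme.Hom.singleton_mem_propQCPrecoverage (P := @Flat) inferInstance
  have hmem : Sieve.generate (Presieve.singleton f) ∈
      Scheme.fpqcTopology (Spec (CommRingCat.of K)) :=
    Precoverage.generate_mem_toGrothendieck hR
  have h2 : Presieve.IsSheafFor (yoneda.obj X.left) (Presieve.singleton f) :=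
    (Presieve.isSheafFor_iff_generate _).mpr (hsh _ hmem)
  rw [Presieve.isSheafFor_singleton] at h2
  obtain ⟨s, hs, -⟩ := h2 x compat
  have hs' : f ≫ s = x := hs
  refine ⟨s, ?_⟩
  refine Groth.Agent.S18763.hom_ext_fpqc _ _ _ hR ?_
  rintro _ _ ⟨⟩
  rw [← Category.assoc, hs', hx, Category.comp_id]




end helpers

open CategoryTheory AlgebraicGeometry in
/-- Let k be a field, L an extension field of k which is separable over k in the sense that L ⊗_k L is
reduced (not necessarily algebraic), and I an infinitesimal k-group scheme (finite over k with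
one-point underlying space). If a k-scheme E with an action of I is an fppf torsor under I and
acquires a point over L, then E already has a k-point. (The published statement is the injectivity
of H^1(k, I) → H^1(L, I); this row is its torsor form.) -/
theorem result (k : Type u) [Field k] (L : Type u) [Field L] [Algebra k L]
    [IsReduced (TensorProduct k L L)]
    (I E : Over (Spec (CommRingCat.of k))) [GrpObj I] [IsFinite I.hom] [Subsingleton ↥(I.left)]
    (a : AlgGrp.Action I E) (hE : NonAbH1.IsTorsorFor Scheme.fppfPrecoverage a)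
    (hL : NonAbH1.HasSectionOver E (Spec.map (CommRingCat.ofHom (algebraMap k L)))) :
    NonAbH1.HasSectionOver E (𝟙 (Spec (CommRingCat.of k))) := by
  obtain ⟨x, hx⟩ := hL
  haveI : Flat (Spec.map (CommRingCat.ofHom (algebraMap k L))) := by
    rw [HasRingHomProperty.Spec_iff (P := @Flat)]
    exact (RingHom.flat_algebraMap_iff).mpr inferInstance
  haveI : IsReduced (pullback (Spec.map (CommRingCat.ofHom (algebraMap k L)))
      (Spec.map (CommRingCat.ofHom (algebraMap k L)))) :=
    isReduced_of_isOpenImmersion (pullbackSpecIso k L L).hom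
  exact descend_point k I E a hE.1 _ x hx inferInstance

end Groth.Agent.S13959
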