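import Groth.Statements.S13963
import Mathlib.Tactic
import Mathlib.Topology.Algebra.Group.OpenMapping
import Mathlib.Topology.Algebra.Group.Pointwise
import Mathlib.Topology.Baire.LocallyCompactRegular

set_option autoImplicit false
universe u
open TateLoc

namespace Groth.Agent.S13963

open scoped Pointwise in
/-- Let A' → A → A'' be continuous homomorphisms of locally compact, second-countable, Hausdorff abelian
topological groups which form a short exact sequence of abstract groups (the first injective, the
second surjective, image equal to kernel). If A' and A'' are compact, then A is compact. -/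
theorem result (A' A A'' : Type u)
    [AddCommGroup A'] [TopologicalSpace A'] [IsTopologicalAddGroup A'] [SecondCountableTopology A'] [T2Space A']
    [CompactSpace A']
    [AddCommGroup A] [TopologicalSpace A] [IsTopologicalAddGroup A] [LocallyCompactSpace A]
    [SecondCountableTopology A] [T2Space A]
    [AddCommGroup A''] [TopologicalSpace A''] [IsTopologicalAddGroup A''] [SecondCountableTopology A''] [T2Space A'']
    [CompactSpace A'']
    (f : A' →+ A) (g : A →+ A'') (hf : Continuous f) (hg : Continuous g)
    (hinj : Function.Injective f) (hsurj : Function.Surjective g) (hex : g.ker = f.range) :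
    CompactSpace A := by
  classical
  have hopen : IsOpenMap g := AddMonoidHom.isOpenMap_of_sigmaCompact g hsurj hg
  obtain ⟨K, hKc, hK0⟩ := exists_compact_mem_nhds (0 : A)
  have hker : IsCompact (Set.range f) := isCompact_range hf
  have hcov : ∀ y : A'', ∃ a : A, y ∈ g '' ((fun x => a + x) '' interior K) := by
    intro y
    obtain ⟨a, rfl⟩ := hsurj y
    exact ⟨a, a, ⟨0, mem_interior_iff_mem_nhds.mpr hK0, add_zero a⟩, rfl⟩
  have hopen' : ∀ a : A, IsOpen (g '' ((fun x => a + x) '' interior K)) := fun a =>
    hopen _ ((isOpenMap_add_left a) _ isOpen_interior)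
  obtain ⟨t, ht⟩ := isCompact_univ.elim_finite_subcover
    (fun a : A => g '' ((fun x => a + x) '' interior K)) hopen'
    (fun y _ => Set.mem_iUnion.mpr (hcov y))
  have hsub : (Set.univ : Set A) ⊆ ⋃ a ∈ t, ((({a} : Set A) + K) + Set.range f) := by
    intro x _
    have h1 := ht (Set.mem_univ (g x))
    simp only [Set.mem_iUnion] at h1
    obtain ⟨a, hat, z, ⟨k, hk, rfl⟩, hz⟩ := h1
    have h2 : x - (a + k) ∈ g.ker := by
      rw [AddMonoidHom.mem_ker, map_sub, hz, sub_self]
    rw [hex] at h2
    obtain ⟨w, hw⟩ := h2
    refine Set.mem_iUnion₂.mpr ⟨a, hat, ?_⟩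
    refine ⟨a + k, ⟨a, rfl, k, interior_subset hk, rfl⟩, f w, ⟨w, rfl⟩, ?_⟩
    rw [hw]; exact add_sub_cancel (a + k) x
  have hcpt : IsCompact (⋃ a ∈ t, ((({a} : Set A) + K) + Set.range f)) :=
    t.isCompact_biUnion (fun a _ => (isCompact_singleton.add hKc).add hker)
  exact isCompact_univ_iff.mp (hcpt.of_isClosed_subset isClosed_univ hsub)

end Groth.Agent.S13963
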