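import Groth.Statements.S13985
import Mathlib.Tactic

set_option autoImplicit false
universe u
open CategoryTheory
open CohGab

namespace Groth.Agent.S13985

/-- For a ring A, the canonical map from the centre of A to the centre of the category of finitely
generated left A-modules (the endomorphism ring of its identity functor), sending a to
multiplication by a, is bijective: every natural endomorphism of the identity functor acts on each
finitely generated module as multiplication by a unique element of A, and that element is central.
(The published statement calls this map an isomorphism of commutative rings; this row states its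
bijectivity.) -/
theorem result (A : Type u) [Ring A]
    (φ : 𝟭 (FGModuleCat.{u} A) ⟶ 𝟭 (FGModuleCat.{u} A)) :
    ∃! a : A, a ∈ Subring.center A ∧
      ∀ (M : FGModuleCat.{u} A) (x : M), (φ.app M).hom.hom x = a • x := by
  -- the module `A` over itself
  let M₀ : FGModuleCat.{u} A := FGModuleCat.of A A
  -- the element
  let a : A := (φ.app M₀).hom.hom (1 : A)
  -- morphisms `A → M`, `r ↦ r • x`
  let f : ∀ (M : FGModuleCat.{u} A) (x : M), M₀ ⟶ M := fun M x =>
    ObjectProperty.homMk (ModuleCat.ofHom (LinearMap.toSpanSingleton A M x))
  have hf : ∀ (M : FGModuleCat.{u} A) (x : M) (r : A), (f M x).hom.hom r = r • x := by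
    intro M x r
    rfl
  have key : ∀ (M : FGModuleCat.{u} A) (x : M), (φ.app M).hom.hom x = a • x := by
    intro M x
    have hnat := φ.naturality (f M x)
    have h2 := congrArg (fun ψ : M₀ ⟶ M => ψ.hom.hom (1 : A)) hnat
    simp only [Functor.id_map, FGModuleCat.hom_hom_comp, LinearMap.comp_apply] at h2
    rw [hf, hf, one_smul] at h2
    exact h2
  have hcenter : a ∈ Subring.center A := by
    rw [Subring.mem_center_iff]
    intro b
    have h1 : (φ.app M₀).hom.hom (b : A) = a • (b : A) := key M₀ b
    have h2 : (φ.app M₀).hom.hom (b • (1 : A)) = b • (φ.app M₀).hom.hom (1 : A) :=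
      map_smul _ _ _
    rw [smul_eq_mul, mul_one] at h2
    rw [h2] at h1
    exact h1
  refine ⟨a, ⟨hcenter, key⟩, ?_⟩
  rintro a' ⟨_, ha'⟩
  have := ha' M₀ (1 : A)
  rw [smul_eq_mul, mul_one] at this
  exact this.symm

end Groth.Agent.S13985
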