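import Groth.Statements.S13989
import Mathlib

set_option autoImplicit false
universe v u v' u' v'' u''
open CategoryTheory CategoryTheory.Limits
open CohGab

namespace Groth.Agent.S13989

set_option linter.unusedSectionVars false

section
variable {A A' : Type u} [Category.{v} A] [Abelian A] [Category.{v} A'] [Abelian A']
  (i : A' ⥤ A) [i.Full] [i.Faithful] [PreservesFiniteLimits i] [PreservesFiniteColimits i]

lemma essImage_obj (M : A') : i.essImage (i.obj M) := ⟨M, ⟨Iso.refl _⟩⟩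

lemma essImage_kernel {X Y : A} (hX : i.essImage X) (hY : i.essImage Y) (u : X ⟶ Y) :
    i.essImage (kernel u) := by
  obtain ⟨X', ⟨a⟩⟩ := hX
  obtain ⟨Y', ⟨b⟩⟩ := hY
  have hu' : i.map (i.preimage (a.hom ≫ u ≫ b.inv)) = a.hom ≫ u ≫ b.inv := i.map_preimage _
  refine ⟨kernel (i.preimage (a.hom ≫ u ≫ b.inv)), ⟨PreservesKernel.iso i _ ≪≫
    kernel.mapIso (i.map (i.preimage (a.hom ≫ u ≫ b.inv))) u a b (by rw [hu']; simp)⟩⟩

lemma essImage_cokernel {X Y : A} (hX : i.essImage X) (hY : i.essImage Y) (u : X ⟶ Y) :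
    i.essImage (cokernel u) := by
  obtain ⟨X', ⟨a⟩⟩ := hX
  obtain ⟨Y', ⟨b⟩⟩ := hY
  have hu' : i.map (i.preimage (a.hom ≫ u ≫ b.inv)) = a.hom ≫ u ≫ b.inv := i.map_preimage _
  refine ⟨cokernel (i.preimage (a.hom ≫ u ≫ b.inv)), ⟨PreservesCokernel.iso i _ ≪≫
    cokernel.mapIso (i.map (i.preimage (a.hom ≫ u ≫ b.inv))) u a b (by rw [hu']; simp)⟩⟩

variable (J : ObjectProperty A) [J.IsSerreClass] [(J.inverseImage i).IsSerreClass]

lemma isoModSerre_inverseImage_iff {M N : A'} (t : M ⟶ N) :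
    (J.inverseImage i).isoModSerre t ↔ J.isoModSerre (i.map t) := by
  constructor
  · rintro ⟨h1, h2⟩
    exact ⟨J.prop_of_iso (PreservesKernel.iso i t) h1, J.prop_of_iso (PreservesCokernel.iso i t) h2⟩
  · rintro ⟨h1, h2⟩
    exact ⟨J.prop_of_iso (PreservesKernel.iso i t).symm h1,
      J.prop_of_iso (PreservesCokernel.iso i t).symm h2⟩

lemma hnat {Q : Type u'} [Category.{v'} Q] (L : A ⥤ Q)
    {Q' : Type u''} [Category.{v''} Q'] (L' : A' ⥤ Q')
    (Φ : Q' ⥤ Q) (e : L' ⋙ Φ ≅ i ⋙ L) {M N : A'} (x : M ⟶ N) :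
    Φ.map (L'.map x) = e.hom.app M ≫ L.map (i.map x) ≫ e.inv.app N := by
  have h := e.hom.naturality x
  simp only [Functor.comp_map] at h
  rw [← Category.assoc, ← h, Category.assoc, Iso.hom_inv_id_app, Category.comp_id]

theorem faithful_part {Q : Type u'} [Category.{v'} Q] (L : A ⥤ Q) [L.IsLocalization J.isoModSerre]
    {Q' : Type u''} [Category.{v''} Q'] (L' : A' ⥤ Q') [L'.IsLocalization (J.inverseImage i).isoModSerre]
    (Φ : Q' ⥤ Q) (e : L' ⋙ Φ ≅ i ⋙ L) : Φ.Faithful := by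
  haveI : i.Additive := Functor.additive_of_preserves_binary_products i
  refine Functor.faithful_of_comp_of_hasLeftCalculusOfFractions L' (J.inverseImage i).isoModSerre Φ ?_
  intro M N f g hfg
  have h1 : L.map (i.map f) = L.map (i.map g) := by
    rw [hnat i L L' Φ e f, hnat i L L' Φ e g] at hfg
    have h2 := (cancel_epi (e.hom.app M)).1 hfg
    exact (cancel_mono (e.inv.app N)).1 h2
  rw [MorphismProperty.map_eq_iff_postcomp L J.isoModSerre] at h1
  obtain ⟨Z, s, hs, hfs⟩ := h1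
  rw [MorphismProperty.map_eq_iff_postcomp L' (J.inverseImage i).isoModSerre]
  refine ⟨_, cokernel.π (f - g), ?_, ?_⟩
  · rw [ObjectProperty.isoModSerre_iff_of_epi]
    show J (i.obj (kernel (cokernel.π (f - g))))
    have hd : i.map (Abelian.image.ι (f - g)) ≫ s = 0 := by
      rw [← cancel_epi (i.map (Abelian.factorThruImage (f - g))), ← Category.assoc, ← i.map_comp,
        Abelian.image.fac, comp_zero, i.map_sub, Preadditive.sub_comp, hfs, sub_self]
    haveI : Mono (kernel.lift s (i.map (Abelian.image.ι (f - g))) hd) :=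
      mono_of_mono_fac (kernel.lift_ι _ _ _)
    exact J.prop_of_mono (kernel.lift s (i.map (Abelian.image.ι (f - g))) hd) hs.1
  · rw [← sub_eq_zero, ← Preadditive.sub_comp, cokernel.condition]

lemma step1 (hquot : ∀ (M : A') (N : A) (p : i.obj M ⟶ N), Epi p → J N → i.essImage N)
    {M : A'} {Z : A} (s : Z ⟶ i.obj M) (hsW : J.isoModSerre s) :
    ∃ (I : A) (ee : Z ⟶ I) (ι : I ⟶ i.obj M), ee ≫ ι = s ∧ J.isoModSerre ee ∧ J.isoModSerre ι ∧
      i.essImage I ∧ Epi ee :=
  ⟨Abelian.image s, Abelian.factorThruImage s, Abelian.image.ι s, Abelian.image.fac s,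
    hsW.1.isoModSerre_factorThruImage, hsW.2.isoModSerre_image_ι,
    essImage_kernel i (essImage_obj i M)
      (hquot M (cokernel s) (cokernel.π s) inferInstance hsW.2) (cokernel.π s), inferInstance⟩

lemma comp_cokernel_image_zero {X Y : A} (g : X ⟶ Y) :
    g ≫ cokernel.π (Abelian.image.ι g) = 0 := by
  calc g ≫ cokernel.π (Abelian.image.ι g)
      = (Abelian.factorThruImage g ≫ Abelian.image.ι g) ≫ cokernel.π (Abelian.image.ι g) := by
        rw [Abelian.image.fac]
    _ = 0 := by rw [Category.assoc, cokernel.condition, comp_zero]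

lemma step2 (hsub : ∀ (M : A') (N : A) (f : N ⟶ i.obj M), Mono f → J N → i.essImage N)
    {N : A'} {Z I : A} (ee : Z ⟶ I) [Epi ee] (hWe : J.isoModSerre ee) (f : Z ⟶ i.obj N) :
    ∃ (Q₀ : A) (q : i.obj N ⟶ Q₀) (ft : I ⟶ Q₀), J.isoModSerre q ∧ i.essImage Q₀ ∧
      ee ≫ ft = f ≫ q := by
  have hJI₀ : J (Abelian.image (kernel.ι ee ≫ f)) :=
    J.prop_of_epi (Abelian.factorThruImage (kernel.ι ee ≫ f)) hWe.1
  have hI₀ : i.essImage (Abelian.image (kernel.ι ee ≫ f)) :=
    hsub N _ (Abelian.image.ι (kernel.ι ee ≫ f)) inferInstance hJI₀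
  have hkill : kernel.ι ee ≫ (f ≫ cokernel.π (Abelian.image.ι (kernel.ι ee ≫ f))) = 0 := by
    rw [← Category.assoc]; exact comp_cokernel_image_zero _
  refine ⟨cokernel (Abelian.image.ι (kernel.ι ee ≫ f)), cokernel.π _,
    Abelian.epiDesc ee _ hkill, ?_, essImage_cokernel i hI₀ (essImage_obj i N) _,
    Abelian.comp_epiDesc ee _ hkill⟩
  rw [ObjectProperty.isoModSerre_iff_of_epi]
  have hm : Mono (Abelian.factorThruImage (Abelian.image.ι (kernel.ι ee ≫ f))) :=
    mono_of_mono_fac (Abelian.image.fac _)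
  have hiso : IsIso (Abelian.factorThruImage (Abelian.image.ι (kernel.ι ee ≫ f))) :=
    isIso_of_mono_of_epi _
  exact J.prop_of_iso (asIso (Abelian.factorThruImage (Abelian.image.ι (kernel.ι ee ≫ f)))) hJI₀

theorem full_core {Q : Type u'} [Category.{v'} Q] (L : A ⥤ Q) [L.IsLocalization J.isoModSerre]
    {Q' : Type u''} [Category.{v''} Q'] (L' : A' ⥤ Q') [L'.IsLocalization (J.inverseImage i).isoModSerre]
    (Φ : Q' ⥤ Q) (e : L' ⋙ Φ ≅ i ⋙ L)
    (hsub : ∀ (M : A') (N : A) (f : N ⟶ i.obj M), Mono f → J N → i.essImage N)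
    (hquot : ∀ (M : A') (N : A) (p : i.obj M ⟶ N), Epi p → J N → i.essImage N)
    {M N : A'} (h : L.obj (i.obj M) ⟶ L.obj (i.obj N)) :
    ∃ h' : L'.obj M ⟶ L'.obj N, e.inv.app M ≫ Φ.map h' ≫ e.hom.app N = h := by
  obtain ⟨φ, hφ⟩ := Localization.exists_rightFraction L J.isoModSerre h
  obtain ⟨I, ee, ι, hfac, hWe, hWι, hI, hepi⟩ := step1 i J hquot φ.s φ.hs
  obtain ⟨Q₀, q, ft, hWq, hQ₀, hft⟩ := step2 i J hsub ee hWe φ.f
  have hisoe : IsIso (L.map ee) := Localization.inverts L J.isoModSerre _ hWe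
  have key : L.map ι ≫ h ≫ L.map q = L.map ft := by
    rw [← cancel_epi (L.map ee)]
    have h3 : L.map φ.s ≫ h = L.map φ.f := by rw [hφ]; exact φ.map_s_comp_map L _
    rw [← L.map_comp, hft, L.map_comp, ← h3, ← hfac, L.map_comp]
    simp only [Category.assoc]
  -- transfer
  obtain ⟨K, ⟨a⟩⟩ := hI
  obtain ⟨N', ⟨b⟩⟩ := hQ₀
  have hk : i.map (i.preimage (a.hom ≫ ι)) = a.hom ≫ ι := i.map_preimage _
  have hf' : i.map (i.preimage (a.hom ≫ ft ≫ b.inv)) = a.hom ≫ ft ≫ b.inv := i.map_preimage _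
  have ht : i.map (i.preimage (q ≫ b.inv)) = q ≫ b.inv := i.map_preimage _
  generalize i.preimage (a.hom ≫ ι) = k at hk
  generalize i.preimage (a.hom ≫ ft ≫ b.inv) = f' at hf'
  generalize i.preimage (q ≫ b.inv) = t at ht
  have hWik : J.isoModSerre (i.map k) := by
    rw [hk]; exact J.isoModSerre.comp_mem _ _ (J.isoModSerre_of_isIso a.hom) hWι
  have hWit : J.isoModSerre (i.map t) := by
    rw [ht]; exact J.isoModSerre.comp_mem _ _ hWq (J.isoModSerre_of_isIso b.inv)
  have hWk : (J.inverseImage i).isoModSerre k := (isoModSerre_inverseImage_iff i J k).2 hWik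
  have hWt : (J.inverseImage i).isoModSerre t := (isoModSerre_inverseImage_iff i J t).2 hWit
  have hik : IsIso (L'.map k) := Localization.inverts L' _ k hWk
  have hit : IsIso (L'.map t) := Localization.inverts L' _ t hWt
  have hiLk : IsIso (L.map (i.map k)) := Localization.inverts L J.isoModSerre _ hWik
  have hiLt : IsIso (L.map (i.map t)) := Localization.inverts L J.isoModSerre _ hWit
  refine ⟨inv (L'.map k) ≫ L'.map f' ≫ inv (L'.map t), ?_⟩
  rw [← cancel_epi (L.map (i.map k)), ← cancel_mono (L.map (i.map t))]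
  have e1 : L.map (i.map k) ≫ h ≫ L.map (i.map t) = L.map (i.map f') := by
    rw [hk, ht, hf', L.map_comp, L.map_comp, L.map_comp, L.map_comp, ← key]
    simp only [Category.assoc]
  have n1 : L.map (i.map k) ≫ e.inv.app M = e.inv.app K ≫ Φ.map (L'.map k) := e.inv.naturality k
  have n2 : Φ.map (L'.map t) ≫ e.hom.app N' = e.hom.app N ≫ L.map (i.map t) := e.hom.naturality t
  have n3 : L.map (i.map f') ≫ e.inv.app N' = e.inv.app K ≫ Φ.map (L'.map f') := e.inv.naturality f'
  have e2 : L.map (i.map k) ≫ (e.inv.app M ≫ Φ.map (inv (L'.map k) ≫ L'.map f' ≫ inv (L'.map t)) ≫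
      e.hom.app N) ≫ L.map (i.map t) = L.map (i.map f') := by
    have : L.map (i.map k) ≫ (e.inv.app M ≫ Φ.map (inv (L'.map k) ≫ L'.map f' ≫ inv (L'.map t)) ≫
        e.hom.app N) ≫ L.map (i.map t) =
        (L.map (i.map k) ≫ e.inv.app M) ≫ Φ.map (inv (L'.map k) ≫ L'.map f' ≫ inv (L'.map t)) ≫
        (e.hom.app N ≫ L.map (i.map t)) := by simp only [Category.assoc]
    rw [this, n1, ← n2]
    have : (e.inv.app K ≫ Φ.map (L'.map k)) ≫ Φ.map (inv (L'.map k) ≫ L'.map f' ≫ inv (L'.map t)) ≫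
        Φ.map (L'.map t) ≫ e.hom.app N' =
        e.inv.app K ≫ Φ.map (L'.map k ≫ (inv (L'.map k) ≫ L'.map f' ≫ inv (L'.map t)) ≫ L'.map t) ≫
        e.hom.app N' := by simp only [Functor.map_comp, Category.assoc]
    rw [this]
    have : L'.map k ≫ (inv (L'.map k) ≫ L'.map f' ≫ inv (L'.map t)) ≫ L'.map t = L'.map f' := by
      simp only [Category.assoc, IsIso.inv_hom_id, Category.comp_id, IsIso.hom_inv_id_assoc]
    rw [this, ← Category.assoc, ← n3, Category.assoc, Iso.inv_hom_id_app]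
    exact Category.comp_id _
  simp only [Category.assoc] at e1 e2 ⊢
  rw [e2, e1]

theorem full_part {Q : Type u'} [Category.{v'} Q] (L : A ⥤ Q) [L.IsLocalization J.isoModSerre]
    {Q' : Type u''} [Category.{v''} Q'] (L' : A' ⥤ Q') [L'.IsLocalization (J.inverseImage i).isoModSerre]
    (Φ : Q' ⥤ Q) (e : L' ⋙ Φ ≅ i ⋙ L)
    (hsub : ∀ (M : A') (N : A) (f : N ⟶ i.obj M), Mono f → J N → i.essImage N)
    (hquot : ∀ (M : A') (N : A) (p : i.obj M ⟶ N), Epi p → J N → i.essImage N) : Φ.Full := by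
  have hes : L'.EssSurj := Localization.essSurj L' (J.inverseImage i).isoModSerre
  constructor
  intro X' Y' g
  let α : L'.obj (L'.objPreimage X') ≅ X' := L'.objObjPreimageIso X'
  let β : L'.obj (L'.objPreimage Y') ≅ Y' := L'.objObjPreimageIso Y'
  obtain ⟨h', hh'⟩ := full_core i J L L' Φ e hsub hquot
    (e.inv.app _ ≫ Φ.map α.hom ≫ g ≫ Φ.map β.inv ≫ e.hom.app _)
  refine ⟨α.inv ≫ h' ≫ β.hom, ?_⟩
  have h2 : Φ.map h' = Φ.map α.hom ≫ g ≫ Φ.map β.inv := by
    have := congrArg (fun x => e.hom.app _ ≫ x ≫ e.inv.app _) hh'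
    simpa using this
  rw [Φ.map_comp, Φ.map_comp, h2]
  simp only [Category.assoc, ← Φ.map_comp, Iso.inv_hom_id, Φ.map_id, Category.comp_id]
  rw [← Category.assoc, ← Φ.map_comp, Iso.inv_hom_id, Φ.map_id, Category.id_comp]

end

/-- Let A be an abelian category, A' a full abelian subcategory (given as a fully faithful exact functor
i : A' ⥤ A) and J a Serre subcategory of A, with J' = J ∩ A' (the preimage of J under i, a Serre
subcategory of A'). Assume that every subobject and every quotient object, in A, of an object of A'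
which belongs to J belongs to A' (lies in the essential image of i). Then the functor A'/J' ⥤ A/J
induced between the quotient categories is fully faithful: for L : A ⥤ Q and L' : A' ⥤ Q'
localization functors at the morphisms whose kernel and cokernel lie in J, resp. J', every functor Φ
: Q' ⥤ Q with L' ⋙ Φ ≅ i ⋙ L is full and faithful. -/
theorem result
    {A A' : Type u} [Category.{v} A] [Abelian A] [Category.{v} A'] [Abelian A']
    (i : A' ⥤ A) [i.Full] [i.Faithful] [PreservesFiniteLimits i] [PreservesFiniteColimits i]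
    (J : ObjectProperty A) [J.IsSerreClass] [(J.inverseImage i).IsSerreClass]
    (hsub : ∀ (M : A') (N : A) (f : N ⟶ i.obj M), Mono f → J N → i.essImage N)
    (hquot : ∀ (M : A') (N : A) (p : i.obj M ⟶ N), Epi p → J N → i.essImage N)
    {Q : Type u'} [Category.{v'} Q] (L : A ⥤ Q) [L.IsLocalization J.isoModSerre]
    {Q' : Type u''} [Category.{v''} Q'] (L' : A' ⥤ Q') [L'.IsLocalization (J.inverseImage i).isoModSerre]
    (Φ : Q' ⥤ Q) (e : L' ⋙ Φ ≅ i ⋙ L) : Φ.Full ∧ Φ.Faithful := by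
  exact ⟨full_part i J L L' Φ e hsub hquot, faithful_part i J L L' Φ e⟩

end Groth.Agent.S13989
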