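import Groth.Statements.S13995
import Mathlib

set_option autoImplicit false
universe u
open CAlg

namespace Groth.Agent.S13995

/-- over a field, a surjection from a one-dimensional space onto a nontrivial space is injective -/
theorem inj_of_finrank_one {K V W : Type*} [Field K] [AddCommGroup V] [Module K V]
    [AddCommGroup W] [Module K W] [Nontrivial W] (h1 : Module.finrank K V = 1)
    (f : V →ₗ[K] W) (hf : Function.Surjective f) (v : V) (hv : f v = 0) : v = 0 := by
  by_contra hv0
  have := (finrank_eq_one_iff_of_nonzero' v hv0).mp h1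
  obtain ⟨w, hw⟩ := exists_ne (0 : W)
  obtain ⟨u, rfl⟩ := hf w
  obtain ⟨c, rfl⟩ := this u
  apply hw
  rw [map_smul, hv, smul_zero]

theorem result (R : Type u) [CommRing R] [IsNoetherianRing R] [IsReduced R] (M : Type u) [AddCommGroup M] [Module R M] [Module.Finite R M] (hM : associatedPrimes R M ⊆ minimalPrimes R) (hrk : ∀ p : PrimeSpectrum R, p.asIdeal ∈ minimalPrimes R → Module.finrank (Localization.AtPrime p.asIdeal) (LocalizedModule p.asIdeal.primeCompl M) = 1) (Q : Type u) [AddCommGroup Q] [Module R Q] [Module.Finite R Q] (hQ : associatedPrimes R Q ⊆ minimalPrimes R) (g : M →ₗ[R] Q) (hg : Function.Surjective g) : LinearMap.ker g = ⨅ p ∈ {p : PrimeSpectrum R | p.asIdeal ∈ minimalPrimes R ∧ p ∈ Module.support R Q}, LinearMap.ker (LocalizedModule.mkLinearMap p.asIdeal.primeCompl M) := by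
  ext m
  simp only [LinearMap.mem_ker, Submodule.mem_iInf, Set.mem_setOf_eq, and_imp]
  constructor
  · intro hm p hp hsupp
    have hdim : Ring.KrullDimLE 0 (Localization.AtPrime p.asIdeal) :=
      Ring.KrullDimLE.of_isLocalization p.asIdeal hp _
    have hfield : IsField (Localization.AtPrime p.asIdeal) := Ring.KrullDimLE.isField_of_isReduced
    letI : Field (Localization.AtPrime p.asIdeal) := hfield.toField
    haveI : Nontrivial (LocalizedModule p.asIdeal.primeCompl Q) := Module.mem_support_iff.mp hsupp
    refine inj_of_finrank_one (K := Localization.AtPrime p.asIdeal) (hrk p hp)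
      (LocalizedModule.map p.asIdeal.primeCompl g)
      (LocalizedModule.map_surjective _ g hg) _ ?_
    rw [LocalizedModule.mkLinearMap_apply, LocalizedModule.map_mk, hm, LocalizedModule.zero_mk]
  · intro H
    by_contra hne
    obtain ⟨P, hP, hle⟩ := exists_le_isAssociatedPrime_of_isNoetherianRing R (g m) hne
    have hPmin : P ∈ minimalPrimes R := hQ hP
    have hPp : P.IsPrime := hP.isPrime
    have hsupp : (⟨P, hPp⟩ : PrimeSpectrum R) ∈ Module.support R Q := by
      rw [Module.mem_support_iff']
      refine ⟨g m, fun r hr h0 => hr (hle ?_)⟩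
      rw [Submodule.mem_colon_singleton]
      simpa using h0
    have := H ⟨P, hPp⟩ hPmin hsupp
    rw [IsLocalizedModule.eq_zero_iff P.primeCompl] at this
    obtain ⟨s, hs⟩ := this
    apply s.2
    apply hle
    rw [Submodule.mem_colon_singleton]
    have : (s : R) • g m = 0 := by
      rw [← map_smul]
      have : (s : R) • m = 0 := hs
      rw [this, map_zero]
    simpa using this

end Groth.Agent.S13995
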