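import Groth.Statements.S13996
import Mathlib

set_option autoImplicit false
universe u
open CAlg

namespace Groth.Agent.S13996

/-- in a local ring of dimension one, a prime different from the maximal ideal is minimal -/
theorem minimal_of_ne {R : Type u} [CommRing R] [IsLocalRing R]
    (hdim : ringKrullDim R = 1) (P : Ideal R) [hP : P.IsPrime]
    (hne : P ≠ IsLocalRing.maximalIdeal R) : P ∈ minimalPrimes R := by
  have hlt : P < IsLocalRing.maximalIdeal R :=
    lt_of_le_of_ne (IsLocalRing.le_maximalIdeal hP.ne_top) hne
  have h1 := Ideal.height_add_one_le_of_lt_of_isPrime hlt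
  have h2 : ((IsLocalRing.maximalIdeal R).height : WithBot ℕ∞) = 1 := by
    rw [IsLocalRing.maximalIdeal_height_eq_ringKrullDim, hdim]
  have h3 : (IsLocalRing.maximalIdeal R).height = 1 := by exact_mod_cast h2
  rw [h3] at h1
  rw [← Ideal.height_eq_zero_iff]
  have : P.height + 1 ≤ 0 + 1 := by simpa using h1
  have h4 := (ENat.add_le_add_iff_right (by simp : (1 : ℕ∞) ≠ ⊤)).mp this
  exact le_antisymm h4 bot_le

/-- the maximal ideal is not minimal in dimension one -/
theorem max_not_minimal {R : Type u} [CommRing R] [IsLocalRing R]
    (hdim : ringKrullDim R = 1) : IsLocalRing.maximalIdeal R ∉ minimalPrimes R := by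
  intro h
  rw [← Ideal.height_eq_zero_iff] at h
  have h2 : ((IsLocalRing.maximalIdeal R).height : WithBot ℕ∞) = 1 := by
    rw [IsLocalRing.maximalIdeal_height_eq_ringKrullDim, hdim]
  rw [h] at h2
  exact absurd h2 (by norm_cast)

theorem result (R : Type u) [CommRing R] [IsLocalRing R] [IsNoetherianRing R] [IsReduced R] (hdim : ringKrullDim R = 1) (M : Type u) [AddCommGroup M] [Module R M] [Module.Finite R M] [Nontrivial M] : (∀ r : R, r ∈ IsLocalRing.maximalIdeal R → IsSMulRegular R r → IsSMulRegular M r) ↔ (∃ x : R, x ∈ IsLocalRing.maximalIdeal R ∧ IsSMulRegular M x) := by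
  constructor
  · intro H
    -- find x ∈ m outside all minimal primes
    have hfin : (minimalPrimes R).Finite := minimalPrimes.finite_of_isNoetherianRing R
    have hnot : ¬ ((IsLocalRing.maximalIdeal R : Set R) ⊆ ⋃ p ∈ (hfin.toFinset : Set (Ideal R)), (id p : Ideal R)) := by
      rw [Ideal.subset_union_prime (R := R) (f := id) ⊥ ⊥]
      · rintro ⟨p, hp, hle⟩
        have hp' : p ∈ minimalPrimes R := by simpa using hp
        have hpp : p.IsPrime := hp'.1.1
        have : p = IsLocalRing.maximalIdeal R :=
          le_antisymm (IsLocalRing.le_maximalIdeal hpp.ne_top) hle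
        exact max_not_minimal hdim (this ▸ hp')
      · intro p hp _ _
        have hp' : p ∈ minimalPrimes R := by simpa using hp
        exact hp'.1.1
    rw [Set.not_subset] at hnot
    obtain ⟨x, hxm, hx⟩ := hnot
    refine ⟨x, hxm, H x hxm ?_⟩
    -- x is regular on R
    intro a b hab
    have hab' : x * (a - b) = 0 := by
      have : x • a = x • b := hab
      simp only [smul_eq_mul] at this
      rw [mul_sub, this, sub_self]
    have hmem : a - b ∈ sInf (minimalPrimes R) := by
      rw [Ideal.mem_sInf]
      intro p hp
      have hpp : p.IsPrime := hp.1.1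
      have : x * (a - b) ∈ p := by rw [hab']; exact p.zero_mem
      rcases hpp.mem_or_mem this with h | h
      · exfalso
        apply hx
        simp only [Set.mem_iUnion]
        exact ⟨p, by simpa using hp, h⟩
      · exact h
    have h0 : sInf (minimalPrimes R) = ⊥ := by
      have := Ideal.sInf_minimalPrimes (I := (⊥ : Ideal R))
      rw [show (⊥ : Ideal R).radical = ⊥ from nilradical_eq_zero R] at this
      exact this
    rw [h0, Ideal.mem_bot, sub_eq_zero] at hmem
    exact hmem
  · rintro ⟨x, hxm, hx⟩ r hrm hr
    rw [isSMulRegular_iff_right_eq_zero_of_smul]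
    intro z hz
    by_contra hz0
    obtain ⟨P, hP, hle⟩ := exists_le_isAssociatedPrime_of_isNoetherianRing R z hz0
    have hPp : P.IsPrime := hP.isPrime
    have hrP : r ∈ P := hle (by
      rw [Submodule.mem_colon_singleton]; simpa using hz)
    rw [isAssociatedPrime_iff] at hP
    obtain ⟨_, w, hw⟩ := hP
    by_cases hPm : P = IsLocalRing.maximalIdeal R
    · have : x ∈ (⊥ : Submodule R M).colon {w} := by rw [← hw, hPm]; exact hxm
      rw [Submodule.mem_colon_singleton] at this
      have hw0 : w = 0 := by
        rw [isSMulRegular_iff_right_eq_zero_of_smul] at hx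
        exact hx w (by simpa using this)
      have : P = ⊤ := by
        rw [hw, hw0]
        ext y
        simp [Submodule.mem_colon_singleton]
      exact hPp.ne_top this
    · have hmin := minimal_of_ne hdim P hPm
      have := notMem_nonZeroDivisors_of_mem_mem_minimalPrimes hrP hmin
      apply this
      rw [mem_nonZeroDivisors_iff_right]
      intro y hy
      rw [isSMulRegular_iff_right_eq_zero_of_smul] at hr
      exact hr y (by simpa [mul_comm] using hy)

end Groth.Agent.S13996
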