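import Groth.Statements.S13997
import Mathlib
import Groth.Agent.Lib.helper22.NilFT

set_option autoImplicit false
universe u
open FlatMor

namespace Groth.Agent.S13997

section Helpers

open CategoryTheory CategoryTheory.Limits AlgebraicGeometry

open Groth.Agent.H22.NilFT in
theorem lft_of_comp_thickening {Y₀ Y X : Scheme.{u}} (i : Y₀ ⟶ Y) (F : Y ⟶ X)
    (hi : MoreMor.IsThickening i)
    (hinil : ∀ U : Y.affineOpens, IsNilpotent (i.ker.ideal U))
    (hfg : ∀ U : Y.affineOpens, (i.ker.ideal U).FG) [LocallyOfFiniteType (i ≫ F)] :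
    LocallyOfFiniteType F := by
  haveI : IsClosedImmersion i := hi.1
  refine ⟨fun {U} hU {V} hV e => ?_⟩
  have hV₀ : IsAffineOpen (i ⁻¹ᵁ V) := hV.preimage i
  have hV₀U : i ⁻¹ᵁ V ≤ (i ≫ F) ⁻¹ᵁ U := fun y hy => e hy
  have h1 := (i ≫ F).finiteType_appLE hU hV₀ hV₀U
  have hcomp : (i ≫ F).appLE U (i ⁻¹ᵁ V) hV₀U = F.appLE U V e ≫ i.app V := by
    rw [Scheme.Hom.app_eq_appLE, Scheme.Hom.appLE_comp_appLE]
  have hsurj : Function.Surjective (i.app V).hom := i.app_surjective V hV
  obtain ⟨n, hn⟩ := hinil ⟨V, hV⟩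
  have hfgV := hfg ⟨V, hV⟩
  rw [Scheme.Hom.ker_apply] at hn hfgV
  set K : Ideal Γ(Y, V) := RingHom.ker (i.app V).hom with hK
  letI algAB : Algebra Γ(X, U) Γ(Y, V) := (F.appLE U V e).hom.toAlgebra
  -- `B ⧸ K ≃ Γ(Y₀, i⁻¹V)`
  let ε : (Γ(Y, V) ⧸ K) ≃+* Γ(Y₀, i ⁻¹ᵁ V) :=
    RingHom.quotientKerEquivOfSurjective hsurj
  have hQ : (algebraMap Γ(X, U) (Γ(Y, V) ⧸ K)).FiniteType := by
    have h2 : algebraMap Γ(X, U) (Γ(Y, V) ⧸ K) =
        (ε.symm : Γ(Y₀, i ⁻¹ᵁ V) →+* (Γ(Y, V) ⧸ K)).comp
          ((i ≫ F).appLE U (i ⁻¹ᵁ V) hV₀U).hom := by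
      ext a
      rw [RingHom.comp_apply, hcomp]
      change _ = ε.symm ((i.app V).hom ((F.appLE U V e).hom a))
      rw [RingEquiv.eq_symm_apply]
      rfl
    rw [h2]
    exact RingHom.FiniteType.comp (RingHom.FiniteType.of_surjective _ ε.symm.surjective) h1
  rw [RingHom.finiteType_algebraMap] at hQ
  haveI := hQ
  rw [RingHom.FiniteType]
  exact finiteType_of_quotient_fg_nilpotent K hfgV n hn

theorem main {X X₀ Y Y₀ : Scheme.{u}} (F : Y ⟶ X) (F₀ : Y₀ ⟶ X₀) (i : Y₀ ⟶ Y) (j : X₀ ⟶ X)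
    (hi : MoreMor.IsThickening i) (hj : MoreMor.IsThickening j)
    (hinil : ∀ U : Y.affineOpens, IsNilpotent (i.ker.ideal U))
    (hfg : ∀ U : Y.affineOpens, (i.ker.ideal U).FG) (w : F₀ ≫ j = i ≫ F) :
    LocallyOfFiniteType F ↔ LocallyOfFiniteType F₀ := by
  haveI : IsClosedImmersion i := hi.1
  haveI : IsClosedImmersion j := hj.1
  constructor
  · intro h
    haveI : LocallyOfFiniteType (F₀ ≫ j) := by rw [w]; infer_instance
    exact locallyOfFiniteType_of_comp F₀ j
  · intro h
    haveI : LocallyOfFiniteType (i ≫ F) := by rw [← w]; infer_instance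
    exact lft_of_comp_thickening i F hi hinil hfg

end Helpers

open AlgebraicGeometry CategoryTheory in
/-- Consider a commutative square of schemes F₀ ≫ j = i ≫ F in which i : Y₀ ⟶ Y and j : X₀ ⟶ X are
closed immersions surjective on points whose ideals are locally nilpotent (nilpotent on every affine
open), and suppose moreover that the ideal of i is of finite type (finitely generated on every
affine open of Y). Then F : Y ⟶ X is locally of finite type if and only if F₀ : Y₀ ⟶ X₀ is. The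
square is not assumed cartesian and the ideal of j need not be of finite type. (The published
statement also asserts the version for morphisms of finite type; that version follows from this one,
because quasi-compactness of a morphism transfers along closed immersions surjective on points, and
it is not restated here.) -/
theorem result {X X₀ Y Y₀ : Scheme.{u}}
    (F : Y ⟶ X) (F₀ : Y₀ ⟶ X₀) (i : Y₀ ⟶ Y) (j : X₀ ⟶ X)
    (hi : MoreMor.IsThickening i) (hj : MoreMor.IsThickening j)
    (hinil : ∀ U : Y.affineOpens, IsNilpotent (i.ker.ideal U))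
    (hjnil : ∀ U : X.affineOpens, IsNilpotent (j.ker.ideal U))
    (hfg : ∀ U : Y.affineOpens, (i.ker.ideal U).FG)
    (w : F₀ ≫ j = i ≫ F) :
    LocallyOfFiniteType F ↔ LocallyOfFiniteType F₀ := by
  exact main F F₀ i j hi hj hinil hfg w

end Groth.Agent.S13997
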