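import Groth.Statements.S13998
import Mathlib
import Groth.Agent.Lib.helper22.ThickAffine
import Groth.Agent.Lib.helper22.ThickBC
import Groth.Agent.Lib.helper22.NilFT

set_option autoImplicit false
universe u
open FlatMor

namespace Groth.Agent.S13998

section Helpers

open CategoryTheory CategoryTheory.Limits AlgebraicGeometry

theorem appLE_congr_hom {X Y : Scheme.{u}} (φ ψ : X ⟶ Y) (h : φ = ψ) (V : Y.Opens) (W : X.Opens)
    (h1 : W ≤ φ ⁻¹ᵁ V) (h2 : W ≤ ψ ⁻¹ᵁ V) : φ.appLE V W h1 = ψ.appLE V W h2 := by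
  subst h
  rfl

open Groth.Agent.H22.ThickBC Groth.Agent.H22.ThickAffine Groth.Agent.H22.NilFT in
theorem backward {X X₀ Y Y₀ : Scheme.{u}}
    (F : Y ⟶ X) (F₀ : Y₀ ⟶ X₀) (i : Y₀ ⟶ Y) (j : X₀ ⟶ X)
    (hi : MoreMor.IsThickening i) (hj : MoreMor.IsThickening j)
    (hjnil : ∀ U : X.affineOpens, IsNilpotent (j.ker.ideal U))
    (hc : IsPullback F₀ i j F) [IsFinite F₀] : IsFinite F := by
  haveI : IsClosedImmersion i := hi.1
  haveI : Surjective i := hi.2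
  haveI : IsClosedImmersion j := hj.1
  have hc' : IsPullback i F₀ F j := hc.flip
  have hpow : ∀ (U : X.Opens) (hU : IsAffineOpen U) (n : ℕ), (j.ker.ideal ⟨U, hU⟩) ^ n = ⊥ →
      ∀ V : Y.Opens, V ≤ F ⁻¹ᵁ U → IsAffineOpen V → (RingHom.ker (i.app V).hom) ^ n = ⊥ := by
    intro U hU n hn V hVU hV
    have h1 := ker_ideal_le_map_of_isPullback i F₀ F j hc' V hV U hU hVU
    rw [Scheme.Hom.ker_apply] at h1
    refine le_bot_iff.mp ?_
    calc (RingHom.ker (i.app V).hom) ^ n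
        ≤ (Ideal.map (F.appLE U V hVU).hom (j.ker.ideal ⟨U, hU⟩)) ^ n :=
          Ideal.pow_right_mono h1 n
      _ = ⊥ := by rw [← Ideal.map_pow, hn, Ideal.map_bot]
  have hpre : ∀ U : X.Opens, i ⁻¹ᵁ (F ⁻¹ᵁ U) = F₀ ⁻¹ᵁ (j ⁻¹ᵁ U) := by
    intro U
    rw [← Scheme.Hom.comp_preimage, ← Scheme.Hom.comp_preimage, hc.w]
  have haff : ∀ U : X.Opens, IsAffineOpen U → IsAffineOpen (F ⁻¹ᵁ U) := by
    intro U hU
    obtain ⟨n, hn⟩ := hjnil ⟨U, hU⟩
    refine isAffineOpen_of_isAffineOpen_preimage i n (F ⁻¹ᵁ U) (hpow U hU n hn) ?_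
    rw [hpre]
    exact (hU.preimage j).preimage F₀
  haveI : IsAffineHom F := ⟨haff⟩
  refine ⟨fun U hU => ?_⟩
  obtain ⟨n, hn⟩ := hjnil ⟨U, hU⟩
  have hW : IsAffineOpen (F ⁻¹ᵁ U) := haff U hU
  set B := Γ(Y, F ⁻¹ᵁ U)
  set φ : Γ(X, U) →+* B := (F.app U).hom with hφ
  set J : Ideal Γ(X, U) := j.ker.ideal ⟨U, hU⟩ with hJ
  -- kernel of `B → B₀` is contained in `J B`
  have hK : RingHom.ker (i.app (F ⁻¹ᵁ U)).hom ≤ J.map φ := by
    have h1 := ker_ideal_le_map_of_isPullback i F₀ F j hc' (F ⁻¹ᵁ U) hW U hU le_rfl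
    rw [Scheme.Hom.ker_apply] at h1
    have h2 : F.appLE U (F ⁻¹ᵁ U) le_rfl = F.app U := (Scheme.Hom.app_eq_appLE F).symm
    rw [h2] at h1
    exact h1
  have hsurj : Function.Surjective (i.app (F ⁻¹ᵁ U)).hom := i.app_surjective _ hW
  -- `ψ : Γ(X, U) → B₀` is finite
  have hle₀ : i ⁻¹ᵁ (F ⁻¹ᵁ U) ≤ F₀ ⁻¹ᵁ (j ⁻¹ᵁ U) := (hpre U).le
  have hψ : ((i.app (F ⁻¹ᵁ U)).hom.comp φ).Finite := by
    have e1 : (i.app (F ⁻¹ᵁ U)).hom.comp φ =
        ((i ≫ F).appLE U (i ⁻¹ᵁ (F ⁻¹ᵁ U)) le_rfl).hom := by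
      rw [← CommRingCat.hom_comp]
      congr 1
      rw [Scheme.Hom.app_eq_appLE, Scheme.Hom.app_eq_appLE, Scheme.Hom.appLE_comp_appLE]
    have e2 : (i ≫ F).appLE U (i ⁻¹ᵁ (F ⁻¹ᵁ U)) le_rfl =
        (F₀ ≫ j).appLE U (i ⁻¹ᵁ (F ⁻¹ᵁ U)) hle₀ :=
      appLE_congr_hom _ _ hc.w.symm _ _ _ _
    have e3 : (F₀ ≫ j).appLE U (i ⁻¹ᵁ (F ⁻¹ᵁ U)) hle₀ =
        j.app U ≫ F₀.app (j ⁻¹ᵁ U) ≫ Y₀.presheaf.map (homOfLE hle₀).op := by
      rw [Scheme.Hom.appLE, Scheme.Hom.comp_app]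
      exact Category.assoc _ _ _
    rw [e1, e2, e3, CommRingCat.hom_comp, CommRingCat.hom_comp]
    refine RingHom.Finite.comp (RingHom.Finite.comp ?_ ?_) ?_
    · refine RingHom.Finite.of_surjective _ ?_
      have : IsIso (Y₀.presheaf.map (homOfLE hle₀).op) := by
        have : homOfLE hle₀ = eqToHom (hpre U) := Subsingleton.elim _ _
        rw [this]
        infer_instance
      exact ((ConcreteCategory.isIso_iff_bijective _).mp this).2
    · exact F₀.finite_app _ (hU.preimage j)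
    · exact RingHom.Finite.of_surjective _ (j.app_surjective U hU)
  -- descend to the quotient
  let q : Γ(Y₀, i ⁻¹ᵁ (F ⁻¹ᵁ U)) →+* (B ⧸ J.map φ) :=
    RingHom.liftOfSurjective (i.app (F ⁻¹ᵁ U)).hom hsurj
      ⟨Ideal.Quotient.mk (J.map φ), fun x hx => by
        rw [RingHom.mem_ker, Ideal.Quotient.eq_zero_iff_mem]; exact hK hx⟩
  have hq : q.comp (i.app (F ⁻¹ᵁ U)).hom = Ideal.Quotient.mk (J.map φ) :=
    RingHom.liftOfRightInverse_comp _ _ _ _
  have hqsurj : Function.Surjective q := by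
    intro y
    obtain ⟨b, rfl⟩ := Ideal.Quotient.mk_surjective y
    exact ⟨(i.app (F ⁻¹ᵁ U)).hom b, by rw [← RingHom.comp_apply, hq]⟩
  have hfin : (q.comp ((i.app (F ⁻¹ᵁ U)).hom.comp φ)).Finite :=
    RingHom.Finite.comp (RingHom.Finite.of_surjective _ hqsurj) hψ
  letI : Algebra Γ(X, U) B := φ.toAlgebra
  have halg : q.comp ((i.app (F ⁻¹ᵁ U)).hom.comp φ) = algebraMap Γ(X, U) (B ⧸ J.map φ) := by
    rw [← RingHom.comp_assoc, hq]
    rfl
  rw [halg, RingHom.finite_algebraMap] at hfin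
  haveI : Module.Finite Γ(X, U) (B ⧸ J.map (algebraMap Γ(X, U) B)) := hfin
  have := finite_of_quotient_map (R := Γ(X, U)) (S := B) J n hn
  exact RingHom.finite_algebraMap.mpr this

theorem main {X X₀ Y Y₀ : Scheme.{u}}
    (F : Y ⟶ X) (F₀ : Y₀ ⟶ X₀) (i : Y₀ ⟶ Y) (j : X₀ ⟶ X)
    (hi : MoreMor.IsThickening i) (hj : MoreMor.IsThickening j)
    (hjnil : ∀ U : X.affineOpens, IsNilpotent (j.ker.ideal U))
    (hc : IsPullback F₀ i j F) : IsFinite F ↔ IsFinite F₀ := by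
  constructor
  · intro h
    exact MorphismProperty.of_isPullback (P := @IsFinite) hc.flip h
  · intro h
    exact backward F F₀ i j hi hj hjnil hc

end Helpers

open AlgebraicGeometry CategoryTheory in
/-- Consider a cartesian square of schemes F₀ ≫ j = i ≫ F (so Y₀ = Y ×_X X₀) in which i : Y₀ ⟶ Y and j :
X₀ ⟶ X are closed immersions surjective on points whose ideals are locally nilpotent (nilpotent on
every affine open), and suppose moreover that the ideal of j is of finite type (finitely generated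
on every affine open of X). Then F : Y ⟶ X is finite if and only if F₀ : Y₀ ⟶ X₀ is finite. -/
theorem result {X X₀ Y Y₀ : Scheme.{u}}
    (F : Y ⟶ X) (F₀ : Y₀ ⟶ X₀) (i : Y₀ ⟶ Y) (j : X₀ ⟶ X)
    (hi : MoreMor.IsThickening i) (hj : MoreMor.IsThickening j)
    (hinil : ∀ U : Y.affineOpens, IsNilpotent (i.ker.ideal U))
    (hjnil : ∀ U : X.affineOpens, IsNilpotent (j.ker.ideal U))
    (hfg : ∀ U : X.affineOpens, (j.ker.ideal U).FG)
    (hc : IsPullback F₀ i j F) :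
    IsFinite F ↔ IsFinite F₀ := by
  exact main F F₀ i j hi hj hjnil hc

end Groth.Agent.S13998
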