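import Groth.Statements.S13999
import Mathlib
import Groth.Agent.Lib.helper25.FrobC

set_option autoImplicit false
universe u
open FrobAlg

namespace Groth.Agent.S13999

open Groth.Agent.Lib.helper25.FrobA Groth.Agent.Lib.helper25.FrobB Groth.Agent.Lib.helper25.FrobC

/-- Let p be a prime, A a commutative ring of characteristic p and B a smooth A-algebra (of
characteristic p) such that the Kähler differentials Ω_{B/A} have rank r at every prime of B, i.e. B
is smooth of relative dimension r over A. Regard B as an algebra over its Frobenius twist B^{(p)} =
B ⊗_{A,Frob} A through the relative Frobenius b ⊗ a ↦ b^p a. Then B is a finite projective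
B^{(p)}-module whose rank at every prime of B^{(p)} is p^r: the relative Frobenius is finite and
locally free of rank p^r. -/
theorem result (p : ℕ) [Fact p.Prime]
    (A : Type u) [CommRing A] [CharP A p] (B : Type u) [CommRing B] [Algebra A B] [CharP B p]
    [Algebra.Smooth A B] (r : ℕ)
    (hr : ∀ q : PrimeSpectrum B, Module.rankAtStalk (R := B) (KaehlerDifferential A B) q = r) :
    letI := (FrobAlg.relFrob p A B).toAlgebra
    Module.Finite (FrobAlg.BaseChange p A B) B ∧ Module.Projective (FrobAlg.BaseChange p A B) B ∧
      ∀ q : PrimeSpectrum (FrobAlg.BaseChange p A B),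
        Module.rankAtStalk (R := FrobAlg.BaseChange p A B) B q = p ^ r := by
  have h := relFrob_eq_relFrob' p A B
  rw [h]
  exact ⟨finite_relFrob' p A B, projective_relFrob' p A B, rankAtStalk_relFrob' p A B r hr⟩


end Groth.Agent.S13999
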