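import Groth.Statements.S14000
-- import your own Groth.Agent.* helpers here
import Mathlib
import Groth.Agent.Lib.helper6.EulerPerf

set_option autoImplicit false
universe u
open Perf

namespace Groth.Agent.S14000

open CategoryTheory CategoryTheory.Limits in
/-- Let A be a commutative ring and P a strictly perfect complex over A, that is a cochain complex of
finitely generated projective A-modules which is zero outside a finite set s of degrees. Suppose the
cohomological support of P has positive codimension: for every minimal prime q of A and every degree
i the localization at q of the cohomology module H^i(P) is zero. Then the Euler characteristic of P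
vanishes identically: at every prime of A the alternating sum over i ∈ s of the ranks of the P^i is
zero. -/
theorem result {A : Type u} [CommRing A]
    (P : CochainComplex (ModuleCat.{u} A) ℤ) (s : Finset ℤ)
    (hP : ∀ i : ℤ, Module.Finite A (P.X i) ∧ Module.Projective A (P.X i))
    (hs : ∀ i : ℤ, i ∉ s → IsZero (P.X i))
    (hsupp : ∀ q : PrimeSpectrum A, q.asIdeal ∈ minimalPrimes A →
      ∀ i : ℤ, Subsingleton (LocalizedModule q.asIdeal.primeCompl (P.homology i))) :
    ∀ x : PrimeSpectrum A,
      (s.sum fun i => ((i.negOnePow : ℤˣ) : ℤ) * (Module.rankAtStalk (R := A) (P.X i) x : ℤ)) = 0 := by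
  intro x
  obtain ⟨q, hqmin, hqx⟩ := Ideal.exists_minimalPrimes_le (I := (⊥ : Ideal A)) (J := x.asIdeal) bot_le
  have : q.IsPrime := hqmin.1.1
  let y : PrimeSpectrum A := ⟨q, inferInstance⟩
  have hspec : y ⤳ x := (PrimeSpectrum.le_iff_specializes y x).mp hqx
  have hrk : ∀ i : ℤ, Module.rankAtStalk (R := A) (P.X i) x =
      Module.rankAtStalk (R := A) (P.X i) y := by
    intro i
    have := (hP i).1
    have := (hP i).2
    have : Module.FinitePresentation A (P.X i) := Module.finitePresentation_of_projective A _
    have hlc := Module.isLocallyConstant_rankAtStalk (R := A) (M := P.X i)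
    have hopen := hlc.isOpen_fiber (Module.rankAtStalk (R := A) (P.X i) x)
    have hmem : y ∈ {z | Module.rankAtStalk (R := A) (P.X i) z =
        Module.rankAtStalk (R := A) (P.X i) x} := hspec.mem_open hopen rfl
    exact hmem.symm
  have h0 := Groth.Agent.Lib.helper6.EulerPerf.euler_zero P q hP (hsupp y hqmin) s hs
  rw [← h0]
  refine Finset.sum_congr rfl fun i _ => ?_
  rw [hrk i]
  rfl

end Groth.Agent.S14000
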