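import Groth.Statements.S14002
import Mathlib

set_option autoImplicit false
universe u
open CAlg

namespace Groth.Agent.S14002

open TensorProduct

/-- If `(B/K) ⊗ A` is flat over `B/K`, then tensoring (over `B`) the inclusion of an ideal of `B/K`
with `A` is injective. -/
theorem rTensor_inj_of_flat_quot {B A : Type u} [CommRing B] [CommRing A] [Algebra B A]
    (K : Ideal B) [Module.Flat (B ⧸ K) ((B ⧸ K) ⊗[B] A)] (Q : Ideal (B ⧸ K)) :
    Function.Injective (LinearMap.rTensor A ((Q.subtype).restrictScalars B)) := by
  let e₁ := AlgebraTensorModule.cancelBaseChange B (B ⧸ K) (B ⧸ K) Q A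
  let e₂ := AlgebraTensorModule.cancelBaseChange B (B ⧸ K) (B ⧸ K) (B ⧸ K) A
  have nat : ∀ z, e₂ (LinearMap.rTensor ((B ⧸ K) ⊗[B] A) Q.subtype z) =
      LinearMap.rTensor A ((Q.subtype).restrictScalars B) (e₁ z) := by
    intro z
    induction z using TensorProduct.induction_on with
    | zero => simp
    | add x y hx hy => simp only [map_add, hx, hy]
    | tmul q w =>
      induction w using TensorProduct.induction_on with
      | zero => simp
      | add x y hx hy => simp only [tmul_add, map_add, hx, hy]
      | tmul b a => simp [e₁, e₂]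
  have hflat : Function.Injective (LinearMap.rTensor ((B ⧸ K) ⊗[B] A) Q.subtype) :=
    Module.Flat.rTensor_preserves_injective_linearMap _ Subtype.val_injective
  intro x y hxy
  obtain ⟨x', rfl⟩ := e₁.surjective x
  obtain ⟨y', rfl⟩ := e₁.surjective y
  rw [← nat, ← nat] at hxy
  rw [hflat (e₂.injective hxy)]

theorem result (B A : Type u) [CommRing B] [CommRing A]
    [IsNoetherianRing B] [IsNoetherianRing A] [Algebra B A] (J : Ideal B)
    [IsAdicComplete (J.map (algebraMap B A)) A] :
    Module.Flat B A ↔ ∀ n : ℕ, 0 < n → Module.Flat (B ⧸ J ^ n) ((B ⧸ J ^ n) ⊗[B] A) := by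
  constructor
  · intro h n _
    infer_instance
  · intro H
    rw [Module.Flat.iff_rTensor_injective]
    intro I hI
    rw [injective_iff_map_eq_zero]
    intro x hx
    have hfinI : Module.Finite B I := Module.Finite.iff_fg.mpr hI
    have key : ∀ n : ℕ, TensorProduct.comm B I A x ∈
        ((J.map (algebraMap B A)) ^ n • ⊤ : Submodule A (A ⊗[B] I)) := by
      intro n
      obtain ⟨k, hk⟩ := Ideal.exists_pow_inf_eq_pow_smul J (M := B) (I : Submodule B B)
      have hAR : (J ^ (n + k + 1) • ⊤ ⊓ I : Submodule B B) ≤ J ^ n • (I : Submodule B B) := by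
        rw [hk (n + k + 1) (by omega)]
        exact Submodule.smul_mono (Ideal.pow_le_pow_right (by omega)) inf_le_right
      have := H (n + k + 1) (by omega)
      generalize n + k + 1 = m at hAR this
      let Q : Ideal (B ⧸ J ^ m) := I.map (Ideal.Quotient.mk (J ^ m))
      let q₁ : I →ₗ[B] Q :=
        { toFun := fun i => ⟨Ideal.Quotient.mk (J ^ m) i, Ideal.mem_map_of_mem _ i.2⟩
          map_add' := fun a b => by ext; simp
          map_smul' := fun b a => by ext; simp [Algebra.smul_def] }
      have hcomp : ((Q.subtype).restrictScalars B) ∘ₗ q₁ =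
          (Ideal.Quotient.mkₐ B (J ^ m)).toLinearMap ∘ₗ I.subtype := by
        ext i; rfl
      have h1 : LinearMap.rTensor A ((Q.subtype).restrictScalars B) (LinearMap.rTensor A q₁ x) = 0 := by
        rw [← LinearMap.comp_apply, ← LinearMap.rTensor_comp, hcomp, LinearMap.rTensor_comp,
          LinearMap.comp_apply, hx, map_zero]
      have h2 : LinearMap.rTensor A q₁ x = 0 := by
        apply rTensor_inj_of_flat_quot (J ^ m) Q
        rw [h1, map_zero]
      have hsurj : Function.Surjective q₁ := by
        rintro ⟨y, hy⟩
        obtain ⟨i, hi, rfl⟩ := (Ideal.mem_map_iff_of_surjective _ Ideal.Quotient.mk_surjective).mp hy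
        exact ⟨⟨i, hi⟩, rfl⟩
      have hex := rTensor_exact A (LinearMap.exact_subtype_ker_map q₁) hsurj
      obtain ⟨y, rfl⟩ := (hex x).mp h2
      clear h2 h1 hx
      induction y using TensorProduct.induction_on with
      | zero => simp
      | add y z hy hz =>
        rw [map_add, map_add]
        exact Submodule.add_mem _ hy hz
      | tmul i a =>
        obtain ⟨⟨i, hiI⟩, hi⟩ := i
        have hiJ : i ∈ J ^ m := by
          have : q₁ ⟨i, hiI⟩ = 0 := hi
          have h3 := congrArg Subtype.val this
          simpa [q₁, Ideal.Quotient.eq_zero_iff_mem] using h3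
        have hmem : i ∈ (J ^ n • (I : Submodule B B) : Submodule B B) := by
          apply hAR
          refine ⟨?_, hiI⟩
          simpa using hiJ
        have hmem' : (⟨i, hiI⟩ : I) ∈ (J ^ n • (⊤ : Submodule B I)) := by
          have : (J ^ n • (I : Submodule B B) : Submodule B B) =
              Submodule.map I.subtype (J ^ n • (⊤ : Submodule B I)) := by
            rw [Submodule.map_smul'', Submodule.map_subtype_top]
          rw [this] at hmem
          obtain ⟨z, hz, hzi⟩ := hmem
          have : z = ⟨i, hiI⟩ := Subtype.ext hzi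
          rwa [← this]
        simp only [LinearMap.rTensor_tmul, Submodule.subtype_apply, TensorProduct.comm_tmul]
        refine Submodule.smul_induction_on
          (p := fun z : I => a ⊗ₜ[B] z ∈
            ((J.map (algebraMap B A)) ^ n • ⊤ : Submodule A (A ⊗[B] I))) hmem' ?_ ?_
        · intro j hj i' _
          have : a ⊗ₜ[B] (j • i') = (algebraMap B A j) • (a ⊗ₜ[B] i') := by
            rw [TensorProduct.smul_tmul', smul_eq_mul, ← Algebra.smul_def, TensorProduct.smul_tmul]
          show a ⊗ₜ[B] (j • i') ∈ _
          rw [this]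
          refine Submodule.smul_mem_smul ?_ Submodule.mem_top
          rw [← Ideal.map_pow]
          exact Ideal.mem_map_of_mem _ hj
        · intro y z hy hz
          show a ⊗ₜ[B] (y + z) ∈ _
          rw [TensorProduct.tmul_add]
          exact Submodule.add_mem _ hy hz
    have hbot := Ideal.iInf_pow_smul_eq_bot_of_le_jacobson (M := A ⊗[B] I)
      (J.map (algebraMap B A)) (IsAdicComplete.le_jacobson_bot _)
    have hx' : TensorProduct.comm B I A x ∈
        (⨅ i : ℕ, (J.map (algebraMap B A)) ^ i • ⊤ : Submodule A (A ⊗[B] I)) := by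
      rw [Submodule.mem_iInf]
      exact key
    rw [hbot, Submodule.mem_bot] at hx'
    exact (TensorProduct.comm B I A).injective (by rw [hx', map_zero])

end Groth.Agent.S14002
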