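import Groth.Statements.S1402
import Mathlib

set_option autoImplicit false
universe u
open FlatMor

namespace Groth.Agent.S1402

section Helpers

open CategoryTheory CategoryTheory.Limits AlgebraicGeometry

theorem main {X Y : Scheme.{u}} (f : X ⟶ Y) [IsSeparated f] [LocallyQuasiFinite f]
    [LocallyOfFiniteType f] : MoreMor.IsIndQuasiAffineHom f := by
  intro V hV U hU
  haveI : IsAffine (V : Scheme.{u}) := hV
  haveI : CompactSpace (U : Scheme.{u}) := isCompact_iff_compactSpace.mp hU
  let h : (U : Scheme.{u}) ⟶ (V : Scheme.{u}) := U.ι ≫ (f ∣_ V)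
  haveI : IsSeparated (f ∣_ V) := IsZariskiLocalAtTarget.restrict ‹_› V
  haveI : LocallyQuasiFinite (f ∣_ V) := IsZariskiLocalAtTarget.restrict ‹_› V
  haveI : LocallyOfFiniteType (f ∣_ V) := IsZariskiLocalAtTarget.restrict ‹_› V
  haveI : IsSeparated h := inferInstanceAs (IsSeparated (U.ι ≫ (f ∣_ V)))
  haveI : LocallyQuasiFinite h := inferInstanceAs (LocallyQuasiFinite (U.ι ≫ (f ∣_ V)))
  haveI : LocallyOfFiniteType h := inferInstanceAs (LocallyOfFiniteType (U.ι ≫ (f ∣_ V)))
  haveI : QuasiCompact h := (HasAffineProperty.iff_of_isAffine (P := @QuasiCompact)).mpr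
    (inferInstanceAs (CompactSpace (U : Scheme.{u})))
  haveI : IsAffineHom h.fromNormalization := inferInstance
  haveI : IsAffine h.normalization := isAffine_of_isAffineHom h.fromNormalization
  haveI : IsOpenImmersion h.toNormalization := inferInstance
  exact Scheme.IsQuasiAffine.of_isImmersion h.toNormalization

end Helpers

open AlgebraicGeometry CategoryTheory Limits in
/-- A separated, locally quasi-finite morphism is ind-quasi-affine. -/
theorem result {X Y : Scheme.{u}} (f : X ⟶ Y) [IsSeparated f] [LocallyQuasiFinite f] [LocallyOfFiniteType f] :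
    MoreMor.IsIndQuasiAffineHom f := by
  exact main f

end Groth.Agent.S1402
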