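import Groth.Statements.S14020
import Mathlib.RingTheory.Artinian.Module
import Mathlib.RingTheory.Finiteness.Ideal
-- import your own Groth.Agent.* helpers here

set_option autoImplicit false
universe u
open CAlg

namespace Groth.Agent.S14020

/-- `R ⧸ I ^ n` is artinian as an `R`-module. -/
theorem isArtinian_quot_pow
    (R : Type u) [CommRing R] (I : Ideal R) (hI : I.FG) [IsArtinianRing (R ⧸ I)] (n : ℕ) :
    IsArtinian R (R ⧸ I ^ n) := by
  have hRI : IsArtinian R (R ⧸ I) :=
    isArtinian_of_surjective_algebraMap (R := R ⧸ I) (S := R) (M := R ⧸ I)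
      Ideal.Quotient.mk_surjective
  classical
  induction n with
  | zero =>
    have : Subsingleton (R ⧸ I ^ 0) := by
      rw [pow_zero, Ideal.one_eq_top]
      exact Submodule.Quotient.subsingleton_iff.mpr rfl
    exact isArtinian_of_finite
  | succ n ih =>
    -- generators of `I ^ n`
    obtain ⟨s, hs⟩ : (I ^ n).FG := Ideal.FG.pow hI
    -- the map `(s → R ⧸ I) → R ⧸ I ^ (n+1)`
    have hmem : ∀ x : s, I ≤ LinearMap.ker
        (LinearMap.toSpanSingleton R (R ⧸ I ^ (n + 1)) (Ideal.Quotient.mk _ (x : R))) := by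
      intro x r hr
      rw [LinearMap.mem_ker, LinearMap.toSpanSingleton_apply]
      have hx : (x : R) ∈ I ^ n := by rw [← hs]; exact Ideal.subset_span x.2
      have : r * (x : R) ∈ I ^ (n + 1) := by
        rw [pow_succ']; exact Ideal.mul_mem_mul hr hx
      rw [← Ideal.Quotient.eq_zero_iff_mem] at this
      rw [← this]; rfl
    let φ : (s → R ⧸ I) →ₗ[R] R ⧸ I ^ (n + 1) :=
      LinearMap.lsum R (fun _ : s => R ⧸ I) R
        (fun x => Submodule.liftQ I
          (LinearMap.toSpanSingleton R (R ⧸ I ^ (n + 1)) (Ideal.Quotient.mk _ (x : R))) (hmem x))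
    let g : R ⧸ I ^ (n + 1) →ₗ[R] R ⧸ I ^ n :=
      Submodule.mapQ (I ^ (n + 1)) (I ^ n) LinearMap.id
        (by
          intro x hx
          exact Ideal.pow_le_pow_right (Nat.le_succ n) hx)
    have hg : ∀ r : R, g (Ideal.Quotient.mk _ r) = Ideal.Quotient.mk _ r := fun r => rfl
    have hφ : ∀ c : s → R ⧸ I, φ c = ∑ x : s,
        Submodule.liftQ I
          (LinearMap.toSpanSingleton R (R ⧸ I ^ (n + 1)) (Ideal.Quotient.mk _ (x : R))) (hmem x)
          (c x) := by
      intro c
      simp [φ, LinearMap.lsum_apply]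
    refine isArtinian_of_range_eq_ker φ g ?_
    apply le_antisymm
    · rintro _ ⟨c, rfl⟩
      rw [LinearMap.mem_ker, hφ, map_sum]
      refine Finset.sum_eq_zero fun x _ => ?_
      obtain ⟨r, hr⟩ := Ideal.Quotient.mk_surjective (c x)
      rw [← hr]
      change g (Submodule.liftQ I _ (hmem x) (Submodule.Quotient.mk r)) = 0
      rw [Submodule.liftQ_apply, LinearMap.toSpanSingleton_apply]
      have hx : (x : R) ∈ I ^ n := by rw [← hs]; exact Ideal.subset_span x.2
      have : r • (Ideal.Quotient.mk (I ^ (n + 1)) (x : R)) = Ideal.Quotient.mk _ (r * x) := rfl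
      rw [this, hg, Ideal.Quotient.eq_zero_iff_mem]
      exact Ideal.mul_mem_left _ _ hx
    · intro y hy
      obtain ⟨r, rfl⟩ := Ideal.Quotient.mk_surjective y
      rw [LinearMap.mem_ker, hg, Ideal.Quotient.eq_zero_iff_mem, ← hs] at hy
      -- write r as a combination of the generators
      rw [← Subtype.range_coe (s := (s : Set R)), Ideal.span, Submodule.mem_span_range_iff_exists_fun] at hy
      obtain ⟨c, hc⟩ := hy
      refine ⟨fun x => Ideal.Quotient.mk I (c x), ?_⟩
      rw [hφ, ← hc, map_sum]
      refine Finset.sum_congr rfl fun x _ => ?_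
      change Submodule.liftQ I _ (hmem x) (Submodule.Quotient.mk (c x)) = _
      rw [Submodule.liftQ_apply, LinearMap.toSpanSingleton_apply]
      rfl

/-- Let R be a commutative ring and I a finitely generated ideal such that the quotient ring R/I is
artinian. Then R/I^n is artinian for every n. -/
theorem result
    (R : Type u) [CommRing R] (I : Ideal R) (hI : I.FG) [IsArtinianRing (R ⧸ I)] (n : ℕ) :
    IsArtinianRing (R ⧸ I ^ n) := by
  have h := isArtinian_quot_pow R I hI n
  exact isArtinian_of_tower R h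

end Groth.Agent.S14020
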