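import Groth.Statements.S14029
import Mathlib
import Groth.Agent.Lib.helper23.SC22

set_option autoImplicit false
open CategoryTheory CategoryTheory.Limits Opposite
universe v u
open CohSite

namespace Groth.Agent.S14029

/-- Let (C, J) be a site and U an object such that every object has at most one morphism to U; assume
extension by the empty set j_! from sheaves of sets on the localized site C/U to sheaves of sets on
C exists (through sheafification on C and left Kan extensions along C/U → C). If V is weakly
contractible in C — every epimorphism of sheaves of sets on C is surjective on sections over V —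
then for any morphism a : V ⟶ U the object V → U of C/U is weakly contractible in C/U: every
epimorphism of sheaves of sets on C/U is surjective on sections over it. Hence C/U has enough weakly
contractible objects when C does. -/
theorem result
    {C : Type u} [Category.{v} C] (J : GrothendieckTopology C) (U : C)
    (hU : ∀ W : C, Subsingleton (W ⟶ U))
    [HasWeakSheafify J (Type (max u v))]
    [∀ (P : (Over U)ᵒᵖ ⥤ Type (max u v)), (Over.forget U).op.HasLeftKanExtension P]
    (V : C) (hV : (∀ (A B : Sheaf J (Type (max u v))) (ψ : A ⟶ B), Epi ψ → Function.Surjective (ψ.hom.app (op V)))) (a : V ⟶ U) :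
    ∀ (A B : Sheaf (J.over U) (Type (max u v))) (ψ : A ⟶ B), Epi ψ →
      Function.Surjective (ψ.hom.app (op (Over.mk a))) := by
  intro A B ψ hψ b
  let adj := (Over.forget U).sheafAdjunctionContinuous (Type (max u v)) (J.over U) J
  haveI := adj.isLeftAdjoint
  have hepi : Epi (((Over.forget U).sheafPullback (Type (max u v)) (J.over U) J).map ψ) :=
    inferInstance
  have hsurj := hV _ _ _ hepi
  have hA : IsIso (adj.unit.app A) := Groth.Agent.Lib.helper23.SubT.isIso_unit J U _ hU A
  have hB : IsIso (adj.unit.app B) := Groth.Agent.Lib.helper23.SubT.isIso_unit J U _ hU B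
  obtain ⟨a', ha'⟩ := hsurj ((adj.unit.app B).hom.app (op (Over.mk a)) b)
  let a₀ : A.obj.obj (op (Over.mk a)) := (inv (adj.unit.app A)).hom.app (op (Over.mk a)) a'
  have h1 : (adj.unit.app A).hom.app (op (Over.mk a)) a₀ = a' := by
    have := congrArg (fun (t : ((Over.forget U).sheafPullback (Type (max u v)) (J.over U) J ⋙
        (Over.forget U).sheafPushforwardContinuous (Type (max u v)) (J.over U) J).obj A ⟶ _) =>
        t.hom.app (op (Over.mk a)) a')
      (IsIso.inv_hom_id (adj.unit.app A))
    exact this
  refine ⟨a₀, ?_⟩
  have hnat := adj.unit.naturality ψ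
  have h2 := congrArg (fun (t : A ⟶ _) => t.hom.app (op (Over.mk a)) a₀) hnat
  have h3 : (adj.unit.app B).hom.app (op (Over.mk a)) (ψ.hom.app (op (Over.mk a)) a₀) =
      (adj.unit.app B).hom.app (op (Over.mk a)) b := by
    refine h2.trans ?_
    show (((Over.forget U).sheafPullback (Type (max u v)) (J.over U) J).map ψ).hom.app (op V)
      ((adj.unit.app A).hom.app (op (Over.mk a)) a₀) = _
    rw [h1]
    exact ha'
  have h4 := congrArg ((inv (adj.unit.app B)).hom.app (op (Over.mk a))) h3
  have h5 : ∀ x : B.obj.obj (op (Over.mk a)),
      (inv (adj.unit.app B)).hom.app (op (Over.mk a))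
        ((adj.unit.app B).hom.app (op (Over.mk a)) x) = x := by
    intro x
    have := congrArg (fun (t : B ⟶ B) => t.hom.app (op (Over.mk a)) x)
      (IsIso.hom_inv_id (adj.unit.app B))
    exact this
  rw [h5, h5] at h4
  exact h4

end Groth.Agent.S14029
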