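import Groth.Statements.S14032
import Mathlib

set_option autoImplicit false
universe u v
open W4c1frobunstiva

namespace Groth.Agent.S14032

section
open TensorProduct
variable {R : Type u} [CommRing R] (I : Ideal R) {M : Type v} [AddCommGroup M] [Module R M]

lemma one_tmul_eq_zero_iff (x : M) : (1 : R ⧸ I) ⊗ₜ[R] x = 0 ↔ x ∈ I • (⊤ : Submodule R M) := by
  rw [← (TensorProduct.quotTensorEquivQuotSMul M I).map_eq_zero_iff,
    TensorProduct.quotTensorEquivQuotSMul_mk_one_tmul, Submodule.Quotient.mk_eq_zero]

lemma exists_one_tmul (t : (R ⧸ I) ⊗[R] M) : ∃ x : M, (1 : R ⧸ I) ⊗ₜ[R] x = t := by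
  obtain ⟨x, hx⟩ := Submodule.Quotient.mk_surjective _ (TensorProduct.quotTensorEquivQuotSMul M I t)
  refine ⟨x, ?_⟩
  rw [← TensorProduct.quotTensorEquivQuotSMul_symm_mk, hx, LinearEquiv.symm_apply_apply]

lemma sum_mk_smul {r : ℕ} (g : Fin r → R) (m : Fin r → M) :
    ∑ i, (Ideal.Quotient.mk I (g i)) • ((1 : R ⧸ I) ⊗ₜ[R] m i) =
      (1 : R ⧸ I) ⊗ₜ[R] (∑ i, g i • m i) := by
  rw [TensorProduct.tmul_sum]
  apply Finset.sum_congr rfl
  intro i _
  rw [TensorProduct.smul_tmul', smul_eq_mul, mul_one, ← TensorProduct.smul_tmul]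
  congr 1
  rw [Algebra.smul_def, mul_one]
  rfl

lemma nak (N : Submodule R M) (h : ⊤ ≤ N ⊔ I • (⊤ : Submodule R M)) (k : ℕ) :
    ⊤ ≤ N ⊔ I ^ k • (⊤ : Submodule R M) := by
  induction k with
  | zero =>
    rw [pow_zero, Ideal.one_eq_top, Submodule.top_smul]
    exact le_sup_right
  | succ k ih =>
    calc (⊤ : Submodule R M) ≤ N ⊔ I • (⊤ : Submodule R M) := h
      _ ≤ N ⊔ I • (N ⊔ I ^ k • (⊤ : Submodule R M)) :=
        sup_le_sup_left (Submodule.smul_mono le_rfl ih) _
      _ = N ⊔ (I • N ⊔ I • (I ^ k • (⊤ : Submodule R M))) := by rw [Submodule.smul_sup]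
      _ ≤ N ⊔ I ^ (k + 1) • (⊤ : Submodule R M) := by
        rw [← Submodule.mul_smul, ← pow_succ']
        exact sup_le le_sup_left (sup_le (Submodule.smul_le_right.trans le_sup_left) le_sup_right)

end

open TensorProduct in
/-- Let R be a commutative Noetherian ring with nilradical n, M an R-module and r a natural number. Then
M is NR-free of rank r — generated by r elements such that every linear relation among them has
nilpotent coefficients — if and only if (R/n) ⊗_R M is free of rank r over R/n, in the sense of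
admitting a basis indexed by r elements. (The published statement assumes M finitely generated and
also gives the converse when R is local; over a Noetherian ring the nilradical is nilpotent, the
case used here, and finite generation is not needed.) -/
theorem result (R : Type u) [CommRing R]
    [IsNoetherianRing R] (M : Type v) [AddCommGroup M] [Module R M] (r : ℕ) :
    W4c1frobunstiva.IsNRFree R M r ↔
      Nonempty (Module.Basis (Fin r) (R ⧸ nilradical R) ((R ⧸ nilradical R) ⊗[R] M)) := by
  classical
  set n : Ideal R := nilradical R with hn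
  constructor
  · rintro ⟨m, hspan, hrel⟩
    have li : LinearIndependent (R ⧸ n) (fun i => (1 : R ⧸ n) ⊗ₜ[R] m i) := by
      rw [Fintype.linearIndependent_iff]
      intro g hg i
      have : ∀ j, ∃ a : R, Ideal.Quotient.mk n a = g j := fun j => Ideal.Quotient.mk_surjective (g j)
      choose a ha using this
      simp only [← ha] at hg ⊢
      rw [sum_mk_smul, one_tmul_eq_zero_iff, ← hspan,
        Submodule.mem_ideal_smul_span_iff_exists_sum] at hg
      obtain ⟨c, hc, hsum⟩ := hg
      rw [Finsupp.sum_fintype _ _ (fun i => zero_smul R (m i))] at hsum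
      have h0 : ∑ j, (a j - c j) • m j = 0 := by
        simp only [sub_smul, Finset.sum_sub_distrib, hsum, sub_self]
      have h1 := hrel (fun j => a j - c j) h0 i
      rw [Ideal.Quotient.eq_zero_iff_mem]
      have h2 : a i - c i ∈ n := mem_nilradical.mpr h1
      have := n.add_mem h2 (hc i)
      rwa [sub_add_cancel] at this
    have sp : ⊤ ≤ Submodule.span (R ⧸ n) (Set.range fun i => (1 : R ⧸ n) ⊗ₜ[R] m i) := by
      intro t _
      obtain ⟨x, rfl⟩ := exists_one_tmul n t
      have hx : x ∈ Submodule.span R (Set.range m) := by rw [hspan]; trivial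
      obtain ⟨c, rfl⟩ := (Submodule.mem_span_range_iff_exists_fun R).mp hx
      rw [← sum_mk_smul]
      exact Submodule.sum_mem _ fun i _ =>
        Submodule.smul_mem _ _ (Submodule.subset_span ⟨i, rfl⟩)
    exact ⟨Module.Basis.mk li sp⟩
  · rintro ⟨b⟩
    have : ∀ i, ∃ x : M, (1 : R ⧸ n) ⊗ₜ[R] x = b i := fun i => exists_one_tmul n (b i)
    choose m hm using this
    refine ⟨m, ?_, ?_⟩
    · -- generation, by Nakayama for the nilpotent ideal `n`
      have h1 : ⊤ ≤ Submodule.span R (Set.range m) ⊔ n • (⊤ : Submodule R M) := by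
        intro x _
        have : ∀ j, ∃ a : R, Ideal.Quotient.mk n a = b.repr ((1 : R ⧸ n) ⊗ₜ[R] x) j :=
          fun j => Ideal.Quotient.mk_surjective _
        choose g hg using this
        have h2 : (1 : R ⧸ n) ⊗ₜ[R] x = (1 : R ⧸ n) ⊗ₜ[R] (∑ i, g i • m i) := by
          rw [← sum_mk_smul]
          simp only [hg, hm]
          exact (b.sum_repr _).symm
        have h3 : x - ∑ i, g i • m i ∈ n • (⊤ : Submodule R M) := by
          rw [← one_tmul_eq_zero_iff, TensorProduct.tmul_sub, h2, sub_self]
        have h4 : x = ∑ i, g i • m i + (x - ∑ i, g i • m i) := by abel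
        rw [h4]
        exact Submodule.add_mem_sup (Submodule.sum_mem _ fun i _ =>
          Submodule.smul_mem _ _ (Submodule.subset_span ⟨i, rfl⟩)) h3
      obtain ⟨k, hk⟩ := IsNoetherianRing.isNilpotent_nilradical R
      have h5 := nak n _ h1 k
      rw [← hn] at hk
      rw [hk, Ideal.zero_eq_bot, Submodule.bot_smul, sup_bot_eq] at h5
      exact top_le_iff.mp h5
    · intro a ha i
      have h1 : ∑ j, (Ideal.Quotient.mk n (a j)) • b j = 0 := by
        simp only [← hm]
        rw [sum_mk_smul, ha, TensorProduct.tmul_zero]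
      have h2 := Fintype.linearIndependent_iff.mp b.linearIndependent _ h1 i
      exact mem_nilradical.mp (Ideal.Quotient.eq_zero_iff_mem.mp h2)

end Groth.Agent.S14032
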