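import Groth.Statements.S14033
import Mathlib

set_option autoImplicit false
universe u v
open W4c1frobunstiva

namespace Groth.Agent.S14033

section helpers
open DualNumber Pointwise TrivSqZeroExt

variable {R : Type u} [CommRing R] {M : Type v} [AddCommGroup M] [Module R[ε] M] [Module R M]
  [IsScalarTower R R[ε] M]

omit [Module R M] [IsScalarTower R R[ε] M] in
lemma eps_eps (m : M) : (ε : R[ε]) • (ε : R[ε]) • m = 0 := by
  rw [smul_smul, DualNumber.eps_mul_eps, zero_smul]

lemma inl_smul (a : R) (m : M) : (inl a : R[ε]) • m = a • m := by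
  rw [← TrivSqZeroExt.algebraMap_eq_inl, algebraMap_smul]

lemma decomp (c : R[ε]) (m : M) : c • m = c.fst • m + c.snd • (ε : R[ε]) • m := by
  conv_lhs => rw [← TrivSqZeroExt.inl_fst_add_inr_snd_eq c]
  rw [add_smul, DualNumber.inr_eq_smul_eps, smul_assoc, inl_smul]

lemma eps_smul_comm (a : R) (m : M) : (ε : R[ε]) • a • m = a • (ε : R[ε]) • m := by
  rw [← inl_smul a m, ← inl_smul a ((ε : R[ε]) • m), smul_smul, smul_smul, mul_comm]

lemma eps_decomp (c : R[ε]) (m : M) : (ε : R[ε]) • c • m = c.fst • (ε : R[ε]) • m := by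
  rw [decomp c m, smul_add, eps_smul_comm, eps_smul_comm, eps_eps, smul_zero, add_zero]

omit [Module R M] [IsScalarTower R R[ε] M] in
lemma mk_sum {ι : Type*} (s : Finset ι) (P : Submodule R[ε] M) (f : ι → M) :
    (Submodule.Quotient.mk (∑ i ∈ s, f i) : M ⧸ P) = ∑ i ∈ s, Submodule.Quotient.mk (f i) :=
  map_sum (Submodule.mkQ P) f s

omit [Module R M] [IsScalarTower R R[ε] M] in
lemma mem_eps_iff (x : M) : x ∈ (ε : R[ε]) • (⊤ : Submodule R[ε] M) ↔ ∃ m : M, (ε : R[ε]) • m = x := by
  rw [Submodule.mem_smul_pointwise_iff_exists]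
  simp

theorem fwd (r : ℕ) (b : Module.Basis (Fin r) R[ε] M) :
    (Nonempty (Module.Basis (Fin r) R (M ⧸ ((ε : R[ε]) • (⊤ : Submodule R[ε] M)))) ∧
        Nonempty (Module.Basis (Fin r) R (((ε : R[ε]) • (⊤ : Submodule R[ε] M)).restrictScalars R))) := by
  -- coordinates
  have hcoord : ∀ (g : Fin r → R[ε]), ∑ i, g i • b i = 0 → ∀ i, g i = 0 := by
    intro g hg
    exact Fintype.linearIndependent_iff.mp b.linearIndependent g hg
  have hsum : ∀ m : M, m = ∑ i, (b.repr m i) • b i := fun m => (b.sum_repr m).symm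
  constructor
  · refine ⟨Module.Basis.mk (v := fun i => Submodule.Quotient.mk (b i)) ?_ ?_⟩
    · rw [Fintype.linearIndependent_iff]
      intro g hg
      have h1 : (Submodule.Quotient.mk (∑ i, g i • b i) :
          M ⧸ ((ε : R[ε]) • (⊤ : Submodule R[ε] M))) = 0 := by
        rw [← hg, mk_sum]
        rfl
      rw [Submodule.Quotient.mk_eq_zero, mem_eps_iff] at h1
      obtain ⟨m, hm⟩ := h1
      have h2 : ∑ i, ((ε : R[ε]) * b.repr m i - inl (g i)) • b i = 0 := by
        simp_rw [sub_smul, Finset.sum_sub_distrib, inl_smul, ← hm, mul_smul, ← Finset.smul_sum,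
          ← hsum m, sub_self]
      intro i
      have h3 := hcoord _ h2 i
      have h4 := congrArg TrivSqZeroExt.fst h3
      simp only [TrivSqZeroExt.fst_sub, TrivSqZeroExt.fst_mul, DualNumber.fst_eps, zero_mul,
        TrivSqZeroExt.fst_inl, TrivSqZeroExt.fst_zero, zero_sub, neg_eq_zero] at h4
      exact h4
    · rintro x -
      obtain ⟨m, rfl⟩ := Submodule.Quotient.mk_surjective _ x
      rw [hsum m, mk_sum]
      refine Submodule.sum_mem _ fun i _ => ?_
      rw [decomp, Submodule.Quotient.mk_add]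
      have : (Submodule.Quotient.mk ((b.repr m i).snd • (ε : R[ε]) • b i) :
          M ⧸ ((ε : R[ε]) • (⊤ : Submodule R[ε] M))) = 0 := by
        rw [Submodule.Quotient.mk_eq_zero, mem_eps_iff]
        exact ⟨(b.repr m i).snd • b i, eps_smul_comm _ _⟩
      rw [this, add_zero, Submodule.Quotient.mk_smul]
      exact Submodule.smul_mem _ _ (Submodule.subset_span (Set.mem_range_self i))
  · have hmem : ∀ i, (ε : R[ε]) • b i ∈ ((ε : R[ε]) • (⊤ : Submodule R[ε] M)).restrictScalars R :=
      fun i => (mem_eps_iff _).mpr ⟨b i, rfl⟩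
    refine ⟨Module.Basis.mk (v := fun i => (⟨(ε : R[ε]) • b i, hmem i⟩ :
      ((ε : R[ε]) • (⊤ : Submodule R[ε] M)).restrictScalars R)) ?_ ?_⟩
    · rw [Fintype.linearIndependent_iff]
      intro g hg
      have h1 := congrArg Subtype.val hg
      simp only [Submodule.coe_sum, Submodule.coe_smul, Submodule.coe_zero] at h1
      have h2 : ∑ i, (inr (g i) : R[ε]) • b i = 0 := by
        rw [← h1]
        refine Finset.sum_congr rfl fun i _ => ?_
        rw [DualNumber.inr_eq_smul_eps, smul_assoc]
      intro i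
      have h3 := hcoord _ h2 i
      simpa using congrArg TrivSqZeroExt.snd h3
    · rintro ⟨x, hx⟩ -
      obtain ⟨m, rfl⟩ := (mem_eps_iff x).mp hx
      have : (⟨(ε : R[ε]) • m, hx⟩ : ((ε : R[ε]) • (⊤ : Submodule R[ε] M)).restrictScalars R) =
          ∑ i, (b.repr m i).fst • ⟨(ε : R[ε]) • b i, hmem i⟩ := by
        apply Subtype.ext
        simp only [Submodule.coe_sum, Submodule.coe_smul]
        conv_lhs => rw [hsum m, Finset.smul_sum]
        exact Finset.sum_congr rfl fun i _ => eps_decomp _ _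
      rw [this]
      exact Submodule.sum_mem _ fun i _ => Submodule.smul_mem _ _
        (Submodule.subset_span (Set.mem_range_self i))


theorem bwd (r : ℕ) (u : Module.Basis (Fin r) R (M ⧸ ((ε : R[ε]) • (⊤ : Submodule R[ε] M))))
    (v : Module.Basis (Fin r) R (((ε : R[ε]) • (⊤ : Submodule R[ε] M)).restrictScalars R)) :
    Nonempty (Module.Basis (Fin r) R[ε] M) := by
  obtain ⟨P, hP⟩ : ∃ P : Submodule R[ε] M, P = (ε : R[ε]) • (⊤ : Submodule R[ε] M) := ⟨_, rfl⟩
  rw [← hP] at u v
  have hmemP : ∀ x : M, x ∈ P ↔ ∃ m : M, (ε : R[ε]) • m = x := by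
    intro x; rw [hP]; exact mem_eps_iff x
  choose m hm using fun i => Submodule.Quotient.mk_surjective P (u i)
  -- every element is an R-combination of the `m i` modulo `P`
  have hrep : ∀ x : M, ∃ (a : Fin r → R) (y : M), x = ∑ i, a i • m i + (ε : R[ε]) • y := by
    intro x
    have h1 : (Submodule.Quotient.mk (x - ∑ i, (u.repr (Submodule.Quotient.mk x) i) • m i) :
        M ⧸ P) = 0 := by
      rw [Submodule.Quotient.mk_sub, mk_sum]
      simp_rw [Submodule.Quotient.mk_smul, hm]
      rw [u.sum_repr, sub_self]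
    rw [Submodule.Quotient.mk_eq_zero, hmemP] at h1
    obtain ⟨y, hy⟩ := h1
    exact ⟨fun i => u.repr (Submodule.Quotient.mk x) i, y, by rw [hy]; abel⟩
  -- the map `M/εM → εM`
  let φ0 : M ⧸ P →ₗ[R[ε]] M := P.liftQ (LinearMap.lsmul R[ε] M ε) (by
    intro x hx
    obtain ⟨y, rfl⟩ := (hmemP x).mp hx
    simp [eps_eps])
  have hφ0 : ∀ x : M, φ0 (Submodule.Quotient.mk x) = (ε : R[ε]) • x := fun x => rfl
  let φ : M ⧸ P →ₗ[R] P.restrictScalars R := (φ0.restrictScalars R).codRestrict _ (by
    intro x
    obtain ⟨y, rfl⟩ := Submodule.Quotient.mk_surjective _ x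
    exact (hmemP _).mpr ⟨y, rfl⟩)
  have hφ : ∀ x : M, ((φ (Submodule.Quotient.mk x) : P.restrictScalars R) : M) = (ε : R[ε]) • x :=
    fun x => rfl
  have hφsurj : Function.Surjective φ := by
    rintro ⟨x, hx⟩
    obtain ⟨y, rfl⟩ := (hmemP x).mp hx
    exact ⟨Submodule.Quotient.mk y, Subtype.ext (hφ y)⟩
  have hφinj : Function.Injective φ := by
    let T : M ⧸ P →ₗ[R] M ⧸ P :=
      (u.equivFun.symm.toLinearMap ∘ₗ v.equivFun.toLinearMap) ∘ₗ φ
    have : Module.Finite R (M ⧸ P) := Module.Finite.of_basis u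
    have hT : Function.Surjective T :=
      ((u.equivFun.symm.surjective).comp v.equivFun.surjective).comp hφsurj
    have hTi := OrzechProperty.injective_of_surjective_endomorphism T hT
    intro x y hxy
    apply hTi
    simp only [T, LinearMap.comp_apply, hxy]
  refine ⟨Module.Basis.mk (v := m) ?_ ?_⟩
  · rw [Fintype.linearIndependent_iff]
    intro g hg
    have h1 : ∑ i, (g i).fst • u i = 0 := by
      have h := congrArg (Submodule.Quotient.mk : M → M ⧸ P) hg
      rw [mk_sum, Submodule.Quotient.mk_zero] at h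
      rw [← h]
      refine Finset.sum_congr rfl fun i _ => ?_
      rw [decomp, Submodule.Quotient.mk_add, Submodule.Quotient.mk_smul, hm]
      have : (Submodule.Quotient.mk ((g i).snd • (ε : R[ε]) • m i) : M ⧸ P) = 0 := by
        rw [Submodule.Quotient.mk_eq_zero, hmemP]
        exact ⟨(g i).snd • m i, eps_smul_comm _ _⟩
      rw [this, add_zero]
    have h2 : ∀ i, (g i).fst = 0 := Fintype.linearIndependent_iff.mp u.linearIndependent _ h1
    have h3 : φ (∑ i, (g i).snd • u i) = 0 := by
      apply Subtype.ext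
      rw [map_sum, Submodule.coe_sum, Submodule.coe_zero, ← hg]
      refine Finset.sum_congr rfl fun i _ => ?_
      rw [map_smul, Submodule.coe_smul, ← hm i, hφ, decomp (g i) (m i), h2 i, zero_smul, zero_add]
    have h4 : ∑ i, (g i).snd • u i = 0 := hφinj (by rw [h3, map_zero])
    have h5 : ∀ i, (g i).snd = 0 := Fintype.linearIndependent_iff.mp u.linearIndependent _ h4
    intro i
    exact TrivSqZeroExt.ext (h2 i) (h5 i)
  · rintro x -
    obtain ⟨a, y, rfl⟩ := hrep x
    obtain ⟨a', y', rfl⟩ := hrep y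
    rw [smul_add, eps_eps, add_zero]
    refine Submodule.add_mem _ (Submodule.sum_mem _ fun i _ => ?_)
      (Submodule.smul_mem _ _ (Submodule.sum_mem _ fun i _ => ?_))
    · rw [← inl_smul]
      exact Submodule.smul_mem _ _ (Submodule.subset_span (Set.mem_range_self i))
    · rw [← inl_smul]
      exact Submodule.smul_mem _ _ (Submodule.subset_span (Set.mem_range_self i))


end helpers

open DualNumber Pointwise in
/-- Let R be a commutative ring, R[ε] its ring of dual numbers (ε² = 0), M an R[ε]-module and r a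
natural number. Then M is free of rank r over R[ε] (admits a basis of r elements) if and only if the
R-modules M/εM and εM are both free of rank r. (The published statement concerns a coherent sheaf on
the product of a scheme S with Spec ℤ[ε] and local freeness of rank r; that assertion is local, and
this row is its form over one ring, with no finiteness assumption on M and no hypothesis on R.) -/
theorem result (R : Type u) [CommRing R] (M : Type v)
    [AddCommGroup M] [Module R[ε] M] [Module R M] [IsScalarTower R R[ε] M] (r : ℕ) :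
    Nonempty (Module.Basis (Fin r) R[ε] M) ↔
      (Nonempty (Module.Basis (Fin r) R (M ⧸ ((ε : R[ε]) • (⊤ : Submodule R[ε] M)))) ∧
        Nonempty (Module.Basis (Fin r) R (((ε : R[ε]) • (⊤ : Submodule R[ε] M)).restrictScalars R))) := by
  exact ⟨fun ⟨b⟩ => fwd r b, fun ⟨⟨u⟩, ⟨v⟩⟩ => bwd r u v⟩

end Groth.Agent.S14033
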