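import Groth.Statements.S14034
import Mathlib

set_option autoImplicit false
universe u
open W4c1frobunstiva

namespace Groth.Agent.S14034

section Aux

/-- Over a local ring, the kernel of a surjection of finite free modules is free of the expected
rank and is a retract. -/
theorem exists_basis_ker {R : Type u} [CommRing R] [IsLocalRing R] {D P : Type u}
    [AddCommGroup D] [Module R D] [Module.Free R D] [Module.Finite R D]
    [AddCommGroup P] [Module R P] [Module.Free R P] [Module.Finite R P]
    (φ : D →ₗ[R] P) (hφ : Function.Surjective φ) :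
    ∃ (_ : Module.Basis (Fin (Module.finrank R D - Module.finrank R P)) R (LinearMap.ker φ))
      (p : D →ₗ[R] LinearMap.ker φ), ∀ k : LinearMap.ker φ, p k = k := by
  obtain ⟨σ, hσ⟩ := Module.projective_lifting_property φ LinearMap.id hφ
  have hσ' : ∀ y, φ (σ y) = y := fun y => LinearMap.congr_fun hσ y
  let p : D →ₗ[R] LinearMap.ker φ :=
    (LinearMap.id - σ ∘ₗ φ).codRestrict (LinearMap.ker φ) (fun x => by
      simp [hσ'])
  have hp : ∀ k : LinearMap.ker φ, p k = k := by
    intro k
    apply Subtype.ext
    simp [p, LinearMap.mem_ker.mp k.2]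
  haveI : Module.Finite R (LinearMap.ker φ) :=
    Module.Finite.of_surjective p (fun k => ⟨k, hp k⟩)
  haveI : Module.Projective R (LinearMap.ker φ) :=
    Module.Projective.of_split (LinearMap.ker φ).subtype p (by ext k; simp [hp])
  haveI : Module.Free R (LinearMap.ker φ) := Module.free_of_flat_of_isLocalRing
  let e : D ≃ₗ[R] (LinearMap.ker φ × P) := LinearEquiv.ofBijective (p.prod φ) (by
    constructor
    · rw [← LinearMap.ker_eq_bot, LinearMap.ker_eq_bot']
      intro x hx
      have h1 : p x = 0 := congrArg Prod.fst hx
      have h2 : φ x = 0 := congrArg Prod.snd hx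
      have h3 := congrArg Subtype.val h1
      simp [p, h2] at h3
      exact h3
    · rintro ⟨k, y⟩
      refine ⟨k + σ y, ?_⟩
      have hk : φ k = 0 := LinearMap.mem_ker.mp k.2
      apply Prod.ext
      · apply Subtype.ext
        simp [p, hσ', hk]
      · simp [hσ', hk])
  have hrank : Module.finrank R D = Module.finrank R (LinearMap.ker φ) + Module.finrank R P := by
    rw [e.finrank_eq, Module.finrank_prod]
  have hk : Module.finrank R (LinearMap.ker φ) = Module.finrank R D - Module.finrank R P := by
    omega
  exact ⟨Module.finBasisOfFinrankEq R _ hk, p, hp⟩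

theorem nrfree_ker {R : Type u} [CommRing R] [IsLocalRing R] (r s l : ℕ)
    (u : Fin l → (Fin s → R))
    (hu : ∀ d : Fin l → R, (∑ i, d i • u i) = 0 → ∀ i, IsNilpotent (d i))
    (φ : (Fin r → R) →ₗ[R] ((Fin s → R) ⧸ Submodule.span R (Set.range u)))
    (hφ : Function.Surjective φ) :
    W4c1frobunstiva.IsNRFree R (LinearMap.ker φ) (r + l - s) := by
  classical
  obtain ⟨ψ, hψ⟩ := Module.projective_lifting_property (Submodule.span R (Set.range u)).mkQ φ
    (Submodule.mkQ_surjective _)
  have hψ' : ∀ x, (Submodule.span R (Set.range u)).mkQ (ψ x) = φ x :=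
    fun x => LinearMap.congr_fun hψ x
  let U : (Fin l → R) →ₗ[R] (Fin s → R) := Fintype.linearCombination R u
  have hU : LinearMap.range U = Submodule.span R (Set.range u) :=
    Fintype.range_linearCombination R u
  let Φ : ((Fin r → R) × (Fin l → R)) →ₗ[R] (Fin s → R) := ψ.coprod U
  have hΦ : Function.Surjective Φ := by
    intro y
    obtain ⟨x, hx⟩ := hφ ((Submodule.span R (Set.range u)).mkQ y)
    have h1 : y - ψ x ∈ Submodule.span R (Set.range u) := by
      rw [← Submodule.ker_mkQ (Submodule.span R (Set.range u)), LinearMap.mem_ker, map_sub, hψ',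
        hx, sub_self]
    rw [← hU] at h1
    obtain ⟨c, hc⟩ := h1
    refine ⟨(x, c), ?_⟩
    simp only [Φ, LinearMap.coprod_apply, hc]
    abel
  obtain ⟨b0, p, hp⟩ := exists_basis_ker Φ hΦ
  have hidx : Module.finrank R ((Fin r → R) × (Fin l → R)) - Module.finrank R (Fin s → R) =
      r + l - s := by
    rw [Module.finrank_prod, Module.finrank_fin_fun, Module.finrank_fin_fun,
      Module.finrank_fin_fun]
  let b : Module.Basis (Fin (r + l - s)) R (LinearMap.ker Φ) := b0.reindex (finCongr hidx)
  have hΦz : ∀ z : LinearMap.ker Φ, ψ z.1.1 + U z.1.2 = 0 := by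
    intro z
    have := LinearMap.mem_ker.mp z.2
    rwa [LinearMap.coprod_apply] at this
  have hmem : ∀ z : LinearMap.ker Φ, (z.1.1 : Fin r → R) ∈ LinearMap.ker φ := by
    intro z
    have hz := hΦz z
    rw [LinearMap.mem_ker, ← hψ']
    have h2 : ψ z.1.1 = -U z.1.2 := eq_neg_of_add_eq_zero_left hz
    rw [h2, map_neg, neg_eq_zero]
    rw [← LinearMap.mem_ker, Submodule.ker_mkQ, ← hU]
    exact ⟨_, rfl⟩
  refine ⟨fun j => ⟨(b j).1.1, hmem (b j)⟩, ?_, ?_⟩
  · -- spanning
    rw [eq_top_iff]
    rintro ⟨x, hx⟩ -
    have h1 : ψ x ∈ Submodule.span R (Set.range u) := by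
      rw [← Submodule.ker_mkQ (Submodule.span R (Set.range u)), LinearMap.mem_ker, hψ']
      exact LinearMap.mem_ker.mp hx
    rw [← hU] at h1
    obtain ⟨c, hc⟩ := h1
    have hz : ((x, -c) : (Fin r → R) × (Fin l → R)) ∈ LinearMap.ker Φ := by
      rw [LinearMap.mem_ker]
      simp only [Φ, LinearMap.coprod_apply, map_neg, hc]
      abel
    have h2 := b.sum_repr ⟨(x, -c), hz⟩
    have h3 : (⟨x, hx⟩ : LinearMap.ker φ) =
        ∑ j, (b.repr ⟨(x, -c), hz⟩ j) • (⟨(b j).1.1, hmem (b j)⟩ : LinearMap.ker φ) := by
      apply Subtype.ext
      have h4 := congrArg (fun z : LinearMap.ker Φ => (z.1.1 : Fin r → R)) h2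
      simp only [Submodule.coe_sum, Submodule.coe_smul, Prod.fst_sum, Prod.smul_fst] at h4
      simp only [Submodule.coe_sum, Submodule.coe_smul]
      exact h4.symm
    rw [h3]
    exact Submodule.sum_mem _ (fun j _ =>
      Submodule.smul_mem _ _ (Submodule.subset_span ⟨j, rfl⟩))
  · -- nilpotent relations
    intro a ha j
    set z : LinearMap.ker Φ := ∑ j, a j • b j with hz
    have hz1 : (z.1.1 : Fin r → R) = 0 := by
      have := congrArg (fun k : LinearMap.ker φ => (k.1 : Fin r → R)) ha
      simp only [Submodule.coe_sum, Submodule.coe_smul, Submodule.coe_zero] at this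
      rw [hz]
      simp only [Submodule.coe_sum, Submodule.coe_smul, Prod.fst_sum, Prod.smul_fst]
      exact this
    set d : Fin l → R := z.1.2 with hd
    have hz2 : (z.1 : (Fin r → R) × (Fin l → R)) = (0, d) := Prod.ext hz1 rfl
    have hUd : U d = 0 := by
      have := hΦz z
      rw [hz1, map_zero, zero_add] at this
      exact this
    have hdnil : ∀ i, IsNilpotent (d i) := by
      apply hu
      have := hUd
      rwa [Fintype.linearCombination_apply] at this
    -- `a j` is a linear functional of `(0, d)`
    have haj : a j = b.repr z j := by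
      rw [hz, map_sum]
      simp only [map_smul, Module.Basis.repr_self, Finsupp.coe_finsetSum, Finsupp.coe_smul,
        Finset.sum_apply, Pi.smul_apply, smul_eq_mul]
      rw [Finset.sum_eq_single j]
      · simp
      · intro j' _ hne
        simp [hne]
      · intro hni; exact absurd (Finset.mem_univ j) hni
    let lam : ((Fin r → R) × (Fin l → R)) →ₗ[R] R := (b.coord j) ∘ₗ p
    have hlam : a j = lam (0, d) := by
      rw [haj, ← hz2]
      simp only [lam, LinearMap.comp_apply, hp, Module.Basis.coord_apply]
    have hd0 : ((0, d) : (Fin r → R) × (Fin l → R)) =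
        ∑ i, d i • ((0, Pi.single i 1) : (Fin r → R) × (Fin l → R)) := by
      apply Prod.ext
      · simp [Prod.fst_sum]
      · simp only [Prod.snd_sum, Prod.smul_snd]
        exact pi_eq_sum_univ' d
    rw [hlam, hd0, map_sum]
    rw [← mem_nilradical]
    refine Ideal.sum_mem _ (fun i _ => ?_)
    rw [map_smul, smul_eq_mul]
    exact Ideal.mul_mem_right _ _ (mem_nilradical.mpr (hdnil i))

end Aux

/-- Let R be a Noetherian local ring and f an element of R whose annihilator consists of nilpotent
elements (a f = 0 forces a nilpotent), r, s and l ≤ s natural numbers, N the quotient of the free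
module R^s by the submodule spanned by f e_1, …, f e_l (e_i the standard basis vectors), and φ : R^r
→ N a surjective linear map. Then the kernel of φ is NR-free of rank r + l − s: it is generated by r
+ l − s elements every linear relation among which has nilpotent coefficients; and when l = 0 the
kernel is free of rank r − s. (The published statement takes R Noetherian with irreducible spectrum
and R_red a domain, not necessarily local, and f arbitrary. Over the coordinate ring of the real
2-sphere the kernel of (x, y, z) : R³ → R is not free, and over k[x, y]/(y², xy) localised at (x, y)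
with f = y the kernel of R → R/(y) is spanned by y with the non-nilpotent relation x·y = 0. The
published argument uses that the kernel of a surjection of free modules is free, true over a local
ring, and that a f = 0 forces a nilpotent, which is the hypothesis taken here; it holds when R_red
is a domain and f is not nilpotent, and also for f = ε in A[ε] with A a domain, so primality of the
nilradical is not assumed.) -/
theorem result (R : Type u)
    [CommRing R] [IsNoetherianRing R] [IsLocalRing R] (f : R)
    (hann : ∀ a : R, a * f = 0 → IsNilpotent a) (r s l : ℕ) (hls : l ≤ s)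
    (φ : (Fin r → R) →ₗ[R]
      ((Fin s → R) ⧸ Submodule.span R (Set.range fun i : Fin l => (Pi.single (Fin.castLE hls i) f : Fin s → R))))
    (hφ : Function.Surjective φ) :
    W4c1frobunstiva.IsNRFree R (LinearMap.ker φ) (r + l - s) ∧
      (l = 0 → Nonempty (Module.Basis (Fin (r - s)) R (LinearMap.ker φ))) := by
  classical
  constructor
  · apply nrfree_ker r s l _ _ φ hφ
    intro d hd i
    apply hann
    have h1 := congrFun hd (Fin.castLE hls i)
    simp only [Finset.sum_apply, Pi.smul_apply, Pi.zero_apply, smul_eq_mul] at h1
    rw [Finset.sum_eq_single i] at h1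
    · simpa using h1
    · intro i' _ hne
      rw [Pi.single_eq_of_ne, mul_zero]
      intro heq
      exact hne ((Fin.castLE_injective hls heq).symm)
    · intro hni; exact absurd (Finset.mem_univ i) hni
  · intro hl0
    subst hl0
    have hEbot : Submodule.span R (Set.range fun i : Fin 0 =>
        (Pi.single (Fin.castLE hls i) f : Fin s → R)) = ⊥ := by
      rw [Submodule.span_eq_bot]
      rintro _ ⟨i, -⟩
      exact i.elim0
    let eN := Submodule.quotEquivOfEqBot _ hEbot
    let φ' : (Fin r → R) →ₗ[R] (Fin s → R) := eN.toLinearMap ∘ₗ φ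
    have hφ' : Function.Surjective φ' := eN.surjective.comp hφ
    obtain ⟨b0, -, -⟩ := exists_basis_ker φ' hφ'
    have hker : LinearMap.ker φ' = LinearMap.ker φ := LinearEquiv.ker_comp eN φ
    have hidx : Module.finrank R (Fin r → R) - Module.finrank R (Fin s → R) = r - s := by
      rw [Module.finrank_fin_fun, Module.finrank_fin_fun]
    exact ⟨(b0.reindex (finCongr hidx)).map (LinearEquiv.ofEq _ _ hker)⟩

end Groth.Agent.S14034
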