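import Groth.Statements.S14035
import Mathlib

set_option autoImplicit false
universe u v
open W4c1frobunstiva

namespace Groth.Agent.S14035

open TensorProduct in
/-- Let A → B be a ring homomorphism with B Noetherian. If B modulo its nilradical is flat over A and
every fibre ring κ(p) ⊗_A B, p a prime of A, is reduced, then B is reduced. (This is the affine form
of the statement for a morphism of schemes X → Y all of whose fibres are reduced and whose
restriction to the reduced closed subscheme X_red is flat. The published statement does not say X is
locally Noetherian, but its proof applies Nakayama's lemma to the nilradical as a finitely generated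
ideal; without it the square-zero extension of a discrete valuation ring A by Frac(A)/A is a
counterexample.) -/
theorem result (A : Type u) (B : Type v)
    [CommRing A] [CommRing B] [Algebra A B] [IsNoetherianRing B]
    [Module.Flat A (B ⧸ nilradical B)]
    (hfib : ∀ p : PrimeSpectrum A, IsReduced (p.asIdeal.ResidueField ⊗[A] B)) :
    IsReduced B := by
  classical
  set N : Ideal B := nilradical B with hN
  -- Step 1: the fibres of `N` vanish
  have step1 : ∀ p : PrimeSpectrum A, Subsingleton (p.asIdeal.ResidueField ⊗[A] N) := by
    intro p
    have hinj : Function.Injective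
        ((N.subtype.restrictScalars A).lTensor p.asIdeal.ResidueField) :=
      LinearMap.lTensor_injective_of_exact_of_flat (Ideal.Quotient.mkₐ A N).toLinearMap
        (Ideal.Quotient.mkₐ_surjective A N) (N.subtype.restrictScalars A) Subtype.val_injective
        (by
          intro y
          constructor
          · intro h
            exact ⟨⟨y, Ideal.Quotient.eq_zero_iff_mem.mp h⟩, rfl⟩
          · rintro ⟨⟨x, hx⟩, rfl⟩
            exact Ideal.Quotient.eq_zero_iff_mem.mpr hx) _
    haveI := hfib p
    have hnil : ∀ z : p.asIdeal.ResidueField ⊗[A] N,
        IsNilpotent ((N.subtype.restrictScalars A).lTensor p.asIdeal.ResidueField z) := by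
      intro z
      induction z using TensorProduct.induction_on with
      | zero => rw [map_zero]; exact IsNilpotent.zero
      | tmul c n =>
        obtain ⟨k, hk⟩ := (mem_nilradical.mp n.2)
        refine ⟨k, ?_⟩
        rw [LinearMap.lTensor_tmul]
        change (c ⊗ₜ[A] (n : B)) ^ k = 0
        rw [Algebra.TensorProduct.tmul_pow, hk, TensorProduct.tmul_zero]
      | add x y hx hy => rw [map_add]; exact (Commute.all _ _).isNilpotent_add hx hy
    refine ⟨fun x y => ?_⟩
    apply hinj
    rw [IsReduced.eq_zero _ (hnil x), IsReduced.eq_zero _ (hnil y)]
  -- Step 2: the support of `N` is empty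
  have hsub : Subsingleton N := by
    rw [← Module.support_eq_empty_iff (R := B), Set.eq_empty_iff_forall_notMem]
    intro q hq
    rw [Module.mem_support_iff_nontrivial_residueField_tensorProduct] at hq
    rw [← not_subsingleton_iff_nontrivial] at hq
    apply hq
    let p : PrimeSpectrum A := PrimeSpectrum.comap (algebraMap A B) q
    haveI := step1 p
    let ι : p.asIdeal.ResidueField →+* q.asIdeal.ResidueField :=
      Ideal.ResidueField.map p.asIdeal q.asIdeal (algebraMap A B) rfl
    let f : p.asIdeal.ResidueField →+ N →+ (q.asIdeal.ResidueField ⊗[B] N) :=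
      { toFun := fun c =>
          { toFun := fun n => ι c ⊗ₜ[B] n
            map_zero' := by simp
            map_add' := by intros; simp [TensorProduct.tmul_add] }
        map_zero' := by ext n; simp
        map_add' := by intros; ext n; simp [TensorProduct.add_tmul] }
    have hf : ∀ (a : A) (c : p.asIdeal.ResidueField) (n : N), f (a • c) n = f c (a • n) := by
      intro a c n
      change ι (a • c) ⊗ₜ[B] n = ι c ⊗ₜ[B] (a • n)
      rw [Algebra.smul_def, map_mul, Ideal.ResidueField.map_algebraMap, ← Algebra.smul_def,
        ← algebraMap_smul B a n, TensorProduct.smul_tmul]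
    let T := TensorProduct.liftAddHom f hf
    have h1 : ∀ n : N, (1 : q.asIdeal.ResidueField) ⊗ₜ[B] n = 0 := by
      intro n
      have : T ((1 : p.asIdeal.ResidueField) ⊗ₜ[A] n) = (1 : q.asIdeal.ResidueField) ⊗ₜ[B] n := by
        change ι 1 ⊗ₜ[B] n = _
        rw [map_one]
      rw [← this, Subsingleton.elim ((1 : p.asIdeal.ResidueField) ⊗ₜ[A] n) 0, map_zero]
    have h2 : ∀ z : q.asIdeal.ResidueField ⊗[B] N, z = 0 := by
      intro z
      induction z using TensorProduct.induction_on with
      | zero => rfl
      | tmul x n =>
        have : x ⊗ₜ[B] n = x • ((1 : q.asIdeal.ResidueField) ⊗ₜ[B] n) := by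
          rw [TensorProduct.smul_tmul', smul_eq_mul, mul_one]
        rw [this, h1, smul_zero]
      | add x y hx hy => rw [hx, hy, add_zero]
    exact ⟨fun x y => (h2 x).trans (h2 y).symm⟩
  refine ⟨fun x hx => ?_⟩
  have hxN : x ∈ N := mem_nilradical.mpr hx
  have := Subsingleton.elim (⟨x, hxN⟩ : N) 0
  exact congrArg Subtype.val this

end Groth.Agent.S14035
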