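import Groth.Statements.S14039
import Mathlib

set_option autoImplicit false
open W4c1frobunstiva

namespace Groth.Agent.S14039aux
open PowerSeries

/-- the generating series of one exponent -/
noncomputable def G (p : ℕ) : PowerSeries ℤ :=
  ∑ j : Fin p, (if 1 ≤ (j : ℕ) then (X : PowerSeries ℤ) ^ (j : ℕ) else 0)

theorem G_mul (p : ℕ) (hp : 1 ≤ p) : G p * (1 - X) = X - X ^ p := by
  unfold G
  induction p, hp using Nat.le_induction with
  | base => simp
  | succ p hp ih =>
    rw [Fin.sum_univ_castSucc, add_mul]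
    simp only [Fin.val_castSucc, Fin.val_last]
    rw [ih, if_pos hp]
    ring

theorem coeff_G_pow (p n s : ℕ) :
    coeff s ((G p) ^ n) =
      (Fintype.card {e : Fin n → Fin p // (∀ i, 1 ≤ (e i : ℕ)) ∧ ∑ i, (e i : ℕ) = s} : ℤ) := by
  classical
  have h1 : (G p) ^ n = ∏ _i : Fin n, G p := by simp
  rw [h1]
  unfold G
  rw [Finset.prod_univ_sum, Fintype.piFinset_univ, map_sum]
  rw [Fintype.card_subtype, Finset.card_filter]
  push_cast
  refine Finset.sum_congr rfl fun e _ => ?_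
  rw [Finset.prod_ite_zero]
  by_cases h : ∀ i, 1 ≤ (e i : ℕ)
  · rw [if_pos (fun i _ => h i), Finset.prod_pow_eq_pow_sum, coeff_X_pow]
    by_cases hs : ∑ i, (e i : ℕ) = s
    · rw [if_pos hs.symm, if_pos ⟨h, hs⟩]
    · rw [if_neg (fun h' => hs h'.symm), if_neg (fun h' => hs h'.2)]
  · rw [if_neg (fun h' => h (fun i => h' i (Finset.mem_univ i))), map_zero,
      if_neg (fun h' => h h'.1)]

theorem main_pos (p d s : ℕ) (hp : 1 ≤ p) :
    (Fintype.card {e : Fin (d + 1) → Fin p // (∀ i, 1 ≤ (e i : ℕ)) ∧ ∑ i, (e i : ℕ) = s} : ℤ) =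
      ∑ i ∈ Finset.range (d + 1 + 1),
        (-1 : ℤ) ^ i * ((d + 1).choose i : ℤ) *
          (if i * (p - 1) + (d + 1) ≤ s then
            (((s - i * (p - 1) - 1).choose (d + 1 - 1) : ℕ) : ℤ) else 0) := by
  rw [← coeff_G_pow]
  set M : PowerSeries ℤ := mk fun k => ((Nat.choose (d + k) d : ℕ) : ℤ) with hM
  have hMinv : M * (1 - X) ^ (d + 1) = 1 := mk_add_choose_mul_one_sub_pow_eq_one (S := ℤ) (d := d)
  have hB : (G p) ^ (d + 1) * (1 - X) ^ (d + 1) =
      X ^ (d + 1) * (1 - X ^ (p - 1)) ^ (d + 1) := by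
    rw [← mul_pow, G_mul p hp, ← mul_pow]
    congr 1
    obtain ⟨p', rfl⟩ : ∃ p', p = p' + 1 := ⟨p - 1, by omega⟩
    simp only [Nat.add_sub_cancel]
    ring
  have hC : (G p) ^ (d + 1) = X ^ (d + 1) * (1 - X ^ (p - 1)) ^ (d + 1) * M := by
    rw [← hB]
    rw [mul_assoc, mul_comm ((1 - X) ^ (d + 1)) M, hMinv, mul_one]
  have hD : (1 - (X : PowerSeries ℤ) ^ (p - 1)) ^ (d + 1) =
      ∑ i ∈ Finset.range (d + 1 + 1),
        C ((-1 : ℤ) ^ i * ((d + 1).choose i : ℤ)) * X ^ (i * (p - 1)) := by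
    have := add_pow (-(X : PowerSeries ℤ) ^ (p - 1)) 1 (d + 1)
    rw [show -(X : PowerSeries ℤ) ^ (p - 1) + 1 = 1 - X ^ (p - 1) by ring] at this
    rw [this]
    refine Finset.sum_congr rfl fun i _ => ?_
    rw [one_pow, mul_one, neg_pow, ← pow_mul, mul_comm (p - 1) i]
    simp only [map_mul, map_pow, map_neg, map_one, map_natCast]
    ring
  rw [hC, hD, mul_assoc, Finset.sum_mul, Finset.mul_sum, map_sum]
  refine Finset.sum_congr rfl fun i _ => ?_
  have hterm : (X : PowerSeries ℤ) ^ (d + 1) *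
      (C ((-1 : ℤ) ^ i * ((d + 1).choose i : ℤ)) * X ^ (i * (p - 1)) * M) =
      C ((-1 : ℤ) ^ i * ((d + 1).choose i : ℤ)) * (X ^ (d + 1 + i * (p - 1)) * M) := by
    rw [pow_add]; ring
  rw [hterm, coeff_C_mul, coeff_X_pow_mul']
  congr 1
  have hcond : (d + 1 + i * (p - 1) ≤ s) ↔ (i * (p - 1) + (d + 1) ≤ s) := by omega
  by_cases h : i * (p - 1) + (d + 1) ≤ s
  · rw [if_pos h, if_pos (hcond.mpr h), hM, coeff_mk]
    have : d + (s - (d + 1 + i * (p - 1))) = s - i * (p - 1) - 1 := by omega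
    rw [this, Nat.add_sub_cancel]
  · rw [if_neg h, if_neg (fun h' => h (hcond.mp h'))]

theorem main (p n s : ℕ) (hn : 1 ≤ n) :
    (Fintype.card {e : Fin n → Fin p // (∀ i, 1 ≤ (e i : ℕ)) ∧ ∑ i, (e i : ℕ) = s} : ℤ) =
      ∑ i ∈ Finset.range (n + 1),
        (-1 : ℤ) ^ i * (n.choose i : ℤ) *
          (if i * (p - 1) + n ≤ s then (((s - i * (p - 1) - 1).choose (n - 1) : ℕ) : ℤ) else 0) := by
  obtain ⟨d, rfl⟩ : ∃ d, n = d + 1 := ⟨n - 1, by omega⟩
  by_cases hp : 1 ≤ p
  · exact main_pos p d s hp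
  · have hp0 : p = 0 := by omega
    subst hp0
    have hempty : IsEmpty {e : Fin (d + 1) → Fin 0 // (∀ i, 1 ≤ (e i : ℕ)) ∧ ∑ i, (e i : ℕ) = s} :=
      ⟨fun e => (e.1 0).elim0⟩
    rw [Fintype.card_eq_zero]
    simp only [Nat.zero_sub, mul_zero, zero_add, Nat.sub_zero, Nat.cast_zero]
    rw [← Finset.sum_mul, Int.alternating_sum_range_choose_of_ne (by omega), zero_mul]

end Groth.Agent.S14039aux

namespace Groth.Agent.S14039

/-- For natural numbers p, n ≥ 1 and s, the number of monomials of degree s in n variables in which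
every variable occurs with a positive exponent strictly less than p — that is, of exponent vectors
(e_1, …, e_n) with sum s and 1 ≤ e_i ≤ p − 1 — equals the inclusion–exclusion sum over i from 0 to n
of (−1)^i · C(n, i) · C(s − i(p − 1) − 1, n − 1), the last factor counting monomials of degree s −
i(p − 1) − n in n variables and read as 0 when s < i(p − 1) + n. (A companion count, by how many
exponents lie below p/2, and a remark on polynomiality in s and p are not part of this row.) -/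
theorem result (p n s : ℕ)
    (hn : 1 ≤ n) :
    (Fintype.card {e : Fin n → Fin p // (∀ i, 1 ≤ (e i : ℕ)) ∧ ∑ i, (e i : ℕ) = s} : ℤ) =
      ∑ i ∈ Finset.range (n + 1),
        (-1 : ℤ) ^ i * (n.choose i : ℤ) *
          (if i * (p - 1) + n ≤ s then (((s - i * (p - 1) - 1).choose (n - 1) : ℕ) : ℤ) else 0) := by
  exact Groth.Agent.S14039aux.main p n s hn

end Groth.Agent.S14039
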