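import Groth.Statements.S14043
import Mathlib

set_option autoImplicit false
universe u v
open W4c1frobunstiva

namespace Groth.Agent.S14043

section
variable {R : Type u} [CommRing R] {M : Type v} [AddCommGroup M] [Module R M] {r : ℕ}

/-- action of a matrix on a vector of module elements -/
def act (P : Matrix (Fin r) (Fin r) R) (v : Fin r → M) : Fin r → M :=
  fun j => ∑ i, P j i • v i

lemma act_one (v : Fin r → M) : act (1 : Matrix (Fin r) (Fin r) R) v = v := by
  funext j
  simp [act, Matrix.one_apply, ite_smul]

lemma act_mul (Q P : Matrix (Fin r) (Fin r) R) (v : Fin r → M) :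
    act (Q * P) v = act Q (act P v) := by
  funext k
  simp only [act, Matrix.mul_apply, Finset.sum_smul, Finset.smul_sum, smul_smul]
  rw [Finset.sum_comm]

lemma exists_act (v w : Fin r → M) (hv : Submodule.span R (Set.range v) = ⊤) :
    ∃ P : Matrix (Fin r) (Fin r) R, w = act P v := by
  have : ∀ j, ∃ c : Fin r → R, ∑ i, c i • v i = w j := by
    intro j
    have hw : w j ∈ Submodule.span R (Set.range v) := by rw [hv]; trivial
    exact (Submodule.mem_span_range_iff_exists_fun R).mp hw
  choose c hc using this
  exact ⟨Matrix.of c, funext fun j => (hc j).symm⟩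

/-- a generating family of size `r` is obtained from an NR-basis by an invertible matrix -/
lemma exists_unit_act (m₀ m : Fin r → M) (h₀ : W4c1frobunstiva.IsNRBasis R M m₀)
    (hm : Submodule.span R (Set.range m) = ⊤) :
    ∃ P : Matrix (Fin r) (Fin r) R, IsUnit P ∧ m = act P m₀ := by
  obtain ⟨P, hP⟩ := exists_act m₀ m h₀.1
  obtain ⟨Q, hQ⟩ := exists_act m m₀ hm
  refine ⟨P, ?_, hP⟩
  have h1 : act (Q * P - 1) m₀ = 0 := by
    funext k
    have : act (Q * P) m₀ k = m₀ k := by rw [act_mul, ← hP, ← hQ]
    simp only [act, Matrix.sub_apply, sub_smul, Finset.sum_sub_distrib, Pi.zero_apply]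
    have h2 := congrFun (act_one (R := R) m₀) k
    simp only [act] at this h2
    rw [this, h2, sub_self]
  have hnil : ∀ k i, IsNilpotent ((Q * P - 1) k i) := by
    intro k i
    exact h₀.2 (fun i => (Q * P - 1) k i) (congrFun h1 k) i
  -- the determinant of `Q * P` is `1` modulo the nilradical
  have hdet : IsUnit (Q * P).det := by
    have hmap : (Ideal.Quotient.mk (nilradical R)).mapMatrix (Q * P) = 1 := by
      ext k i
      have := hnil k i
      rw [← mem_nilradical, ← Ideal.Quotient.eq_zero_iff_mem] at this
      simp only [Matrix.sub_apply, map_sub] at this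
      simp only [RingHom.mapMatrix_apply, Matrix.map_apply]
      rw [sub_eq_zero.mp this]
      simp [Matrix.one_apply]
    have h3 : Ideal.Quotient.mk (nilradical R) ((Q * P).det - 1) = 0 := by
      rw [map_sub, RingHom.map_det, hmap, Matrix.det_one, map_one, sub_self]
    rw [Ideal.Quotient.eq_zero_iff_mem, mem_nilradical] at h3
    have := h3.isUnit_add_one
    rwa [sub_add_cancel] at this
  rw [Matrix.det_mul] at hdet
  rw [Matrix.isUnit_iff_isUnit_det]
  exact isUnit_of_mul_isUnit_right hdet

end

/-- Let R be a commutative Noetherian ring, M an R-module that is NR-free of rank r — generated by some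
r elements all of whose linear relations have nilpotent coefficients — and m, m' two generating
families of M, each indexed by the same finite set of size r. Then some invertible r × r matrix T
over R expresses m' in terms of m, m'_j = Σ_i T_{ji} m_i; reducing modulo the nilradical n, such a T
induces the change-of-basis matrix between the bases of M/nM given by the images of m and m' (an
r-element generating family of M is itself an NR-basis), so only the existence of an invertible T is
asserted here. (T is not unique.) -/
theorem result (R : Type u) [CommRing R]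
    [IsNoetherianRing R] (M : Type v) [AddCommGroup M] [Module R M] (r : ℕ)
    (hM : W4c1frobunstiva.IsNRFree R M r) (m m' : Fin r → M)
    (hm : Submodule.span R (Set.range m) = ⊤) (hm' : Submodule.span R (Set.range m') = ⊤) :
    ∃ T : Matrix (Fin r) (Fin r) R, IsUnit T ∧ ∀ j, m' j = ∑ i, T j i • m i := by
  obtain ⟨m₀, h₀⟩ := hM
  obtain ⟨P, hPu, hP⟩ := exists_unit_act m₀ m h₀ hm
  obtain ⟨P', hP'u, hP'⟩ := exists_unit_act m₀ m' h₀ hm'
  obtain ⟨Pi, hPi1⟩ := hPu.exists_left_inv
  have hm₀ : m₀ = act Pi m := by
    rw [hP, ← act_mul, hPi1, act_one]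
  refine ⟨P' * Pi, ?_, ?_⟩
  · refine hP'u.mul ?_
    rw [Matrix.isUnit_iff_isUnit_det] at hPu ⊢
    have : Pi.det * P.det = 1 := by rw [← Matrix.det_mul, hPi1, Matrix.det_one]
    exact IsUnit.of_mul_eq_one _ this
  · intro j
    have : m' = act (P' * Pi) m := by rw [act_mul, ← hm₀, ← hP']
    exact congrFun this j

end Groth.Agent.S14043
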