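import Groth.Statements.S14046
import Mathlib.Tactic
import Mathlib.RingTheory.Flat.Equalizer
import Mathlib.LinearAlgebra.TensorProduct.Prod

set_option autoImplicit false
universe u v w
open W4c1frobunstiva

namespace Groth.Agent.S14046

open TensorProduct in
/-- Let R → A be a homomorphism of commutative rings and I, J ideals of A with I ∩ J = 0 — so that A is
the fibre product of A/I and A/J over A/(I + J), i.e. Spec A is the union of the two closed
subschemes in the strong sense — and suppose A/(I + J) is flat over R. Then this persists under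
every base change: for every commutative R-algebra R', the ideals generated by I and J in R' ⊗_R A
again meet in 0. (This is the ideal-theoretic, affine form of the base-change step; the exact
sequence of unit sheaves deduced from it in the published statement — restriction of units to a
closed subscheme being surjective locally — is not restated. Without flatness of A/(I + J) the
conclusion fails: for A = k[x, y]/(xy) over R = k[u] with u ↦ x + y, I = (x) and J = (y), the base
change to R/(u) gives k[x]/(x²), in which both ideals become (x).) -/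
theorem result (R : Type u) (A : Type v)
    [CommRing R] [CommRing A] [Algebra R A] (I J : Ideal A) (hIJ : I ⊓ J = ⊥)
    [Module.Flat R (A ⧸ (I ⊔ J))] (R' : Type w) [CommRing R'] [Algebra R R'] :
    I.map (Algebra.TensorProduct.includeRight : A →ₐ[R] R' ⊗[R] A) ⊓
      J.map (Algebra.TensorProduct.includeRight : A →ₐ[R] R' ⊗[R] A) = ⊥ := by
  classical
  let qI : A →ₗ[R] A ⧸ I := (Ideal.Quotient.mkₐ R I).toLinearMap
  let qJ : A →ₗ[R] A ⧸ J := (Ideal.Quotient.mkₐ R J).toLinearMap
  let g : A →ₗ[R] (A ⧸ I) × (A ⧸ J) := qI.prod qJ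
  let pI : A ⧸ I →ₗ[R] A ⧸ (I ⊔ J) :=
    (Ideal.Quotient.factorₐ R (le_sup_left : I ≤ I ⊔ J)).toLinearMap
  let pJ : A ⧸ J →ₗ[R] A ⧸ (I ⊔ J) :=
    (Ideal.Quotient.factorₐ R (le_sup_right : J ≤ I ⊔ J)).toLinearMap
  let f : (A ⧸ I) × (A ⧸ J) →ₗ[R] A ⧸ (I ⊔ J) := pI.coprod (-pJ)
  have hpI : ∀ a : A, pI (Ideal.Quotient.mk I a) = Ideal.Quotient.mk (I ⊔ J) a := fun a => rfl
  have hpJ : ∀ a : A, pJ (Ideal.Quotient.mk J a) = Ideal.Quotient.mk (I ⊔ J) a := fun a => rfl
  have hf : Function.Surjective f := by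
    intro x
    obtain ⟨a, rfl⟩ := Ideal.Quotient.mk_surjective x
    refine ⟨(Ideal.Quotient.mk I a, 0), ?_⟩
    simp [f, hpI]
  have hg : Function.Injective g := by
    rw [← LinearMap.ker_eq_bot, LinearMap.ker_eq_bot']
    intro a ha
    have h1 : a ∈ I := Ideal.Quotient.eq_zero_iff_mem.mp (congrArg Prod.fst ha)
    have h2 : a ∈ J := Ideal.Quotient.eq_zero_iff_mem.mp (congrArg Prod.snd ha)
    have h3 : a ∈ I ⊓ J := ⟨h1, h2⟩
    rw [hIJ] at h3
    exact h3
  have H : Function.Exact g f := by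
    intro y
    constructor
    · intro hy
      obtain ⟨y1, y2⟩ := y
      obtain ⟨a, rfl⟩ := Ideal.Quotient.mk_surjective y1
      obtain ⟨b, rfl⟩ := Ideal.Quotient.mk_surjective y2
      have h1 : Ideal.Quotient.mk (I ⊔ J) (a - b) = 0 := by
        have : f (Ideal.Quotient.mk I a, Ideal.Quotient.mk J b) =
            Ideal.Quotient.mk (I ⊔ J) a - Ideal.Quotient.mk (I ⊔ J) b := by
          simp [f, hpI, hpJ, sub_eq_add_neg]
        rw [map_sub, ← this, hy]
      have h2 : a - b ∈ I ⊔ J := Ideal.Quotient.eq_zero_iff_mem.mp h1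
      obtain ⟨i, hi, j, hj, hij⟩ := Submodule.mem_sup.mp h2
      refine ⟨a - i, ?_⟩
      refine Prod.ext ?_ ?_
      · show Ideal.Quotient.mk I (a - i) = Ideal.Quotient.mk I a
        rw [map_sub, Ideal.Quotient.eq_zero_iff_mem.mpr hi, sub_zero]
      · show Ideal.Quotient.mk J (a - i) = Ideal.Quotient.mk J b
        have : a - i = b + j := by linear_combination hij.symm
        rw [this, map_add, Ideal.Quotient.eq_zero_iff_mem.mpr hj, add_zero]
    · rintro ⟨a, rfl⟩
      show f (Ideal.Quotient.mk I a, Ideal.Quotient.mk J a) = 0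
      simp [f, hpI, hpJ]
  have key := LinearMap.lTensor_injective_of_exact_of_flat f hf g hg H R'
  let ψI : R' ⊗[R] A →ₐ[R] R' ⊗[R] (A ⧸ I) :=
    Algebra.TensorProduct.map (AlgHom.id R R') (Ideal.Quotient.mkₐ R I)
  let ψJ : R' ⊗[R] A →ₐ[R] R' ⊗[R] (A ⧸ J) :=
    Algebra.TensorProduct.map (AlgHom.id R R') (Ideal.Quotient.mkₐ R J)
  have hI : I.map (Algebra.TensorProduct.includeRight : A →ₐ[R] R' ⊗[R] A) ≤ RingHom.ker ψI := by
    rw [Ideal.map_le_iff_le_comap]
    intro i hi
    rw [Ideal.mem_comap, RingHom.mem_ker]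
    show ψI ((1 : R') ⊗ₜ[R] i) = 0
    simp [ψI, Ideal.Quotient.eq_zero_iff_mem.mpr hi]
  have hJ : J.map (Algebra.TensorProduct.includeRight : A →ₐ[R] R' ⊗[R] A) ≤ RingHom.ker ψJ := by
    rw [Ideal.map_le_iff_le_comap]
    intro i hi
    rw [Ideal.mem_comap, RingHom.mem_ker]
    show ψJ ((1 : R') ⊗ₜ[R] i) = 0
    simp [ψJ, Ideal.Quotient.eq_zero_iff_mem.mpr hi]
  have c1 : ∀ w : R' ⊗[R] A,
      ((TensorProduct.prodRight R R R' (A ⧸ I) (A ⧸ J)) (g.lTensor R' w)).1 = ψI w := by
    intro w
    induction w using TensorProduct.induction_on with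
    | zero => simp
    | tmul x y => simp [g, qI, ψI]
    | add x y hx hy => simp only [map_add, Prod.fst_add, hx, hy]
  have c2 : ∀ w : R' ⊗[R] A,
      ((TensorProduct.prodRight R R R' (A ⧸ I) (A ⧸ J)) (g.lTensor R' w)).2 = ψJ w := by
    intro w
    induction w using TensorProduct.induction_on with
    | zero => simp
    | tmul x y => simp [g, qJ, ψJ]
    | add x y hx hy => simp only [map_add, Prod.snd_add, hx, hy]
  rw [eq_bot_iff]
  rintro z ⟨hzI, hzJ⟩
  have h1 : ψI z = 0 := hI hzI
  have h2 : ψJ z = 0 := hJ hzJ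
  have h3 : g.lTensor R' z = 0 := by
    apply (TensorProduct.prodRight R R R' (A ⧸ I) (A ⧸ J)).injective
    rw [map_zero]
    refine Prod.ext ?_ ?_
    · rw [c1, h1]; rfl
    · rw [c2, h2]; rfl
  exact key (h3.trans (map_zero _).symm)

end Groth.Agent.S14046
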