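import Groth.Statements.S14048
import Mathlib

set_option autoImplicit false
universe u
open CAlg

namespace Groth.Agent.S14048

open TensorProduct Polynomial

/-- `ℤ[1/2] → ℚ` -/
noncomputable def j : Localization.Away (2 : ℤ) →+* ℚ :=
  IsLocalization.Away.lift (2 : ℤ) (g := Int.castRingHom ℚ)
    (by rw [map_ofNat]; exact isUnit_iff_ne_zero.mpr (by norm_num))

theorem j_int (c : ℤ) : j (algebraMap ℤ (Localization.Away (2 : ℤ)) c) = (c : ℚ) := by
  simp [j, IsLocalization.Away.lift]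

section
variable {A : Type u} [CommRing A] (t : A)
  (h1 : Function.Bijective (Polynomial.aeval (R := ℚ) ((1 : ℚ) ⊗ₜ[ℤ] t : ℚ ⊗[ℤ] A)))
  (s : A →+* Localization.Away (2 : ℤ))

noncomputable def e : ℚ[X] ≃ₐ[ℚ] ℚ ⊗[ℤ] A := AlgEquiv.ofBijective _ h1

noncomputable def ι : A →+* ℚ[X] :=
  (e t h1).symm.toRingEquiv.toRingHom.comp
    (Algebra.TensorProduct.includeRight : A →ₐ[ℤ] ℚ ⊗[ℤ] A).toRingHom

theorem ι_apply (x : A) : ι t h1 x = (e t h1).symm ((1 : ℚ) ⊗ₜ[ℤ] x) := rfl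

theorem e_ι (x : A) : e t h1 (ι t h1 x) = (1 : ℚ) ⊗ₜ[ℤ] x := by
  rw [ι_apply, AlgEquiv.apply_symm_apply]

theorem ι_t : ι t h1 t = X := by
  rw [ι_apply, AlgEquiv.symm_apply_eq]
  simp [e]

/-- evaluation at the section -/
noncomputable def ev : ℚ ⊗[ℤ] A →ₐ[ℚ] ℚ :=
  Algebra.TensorProduct.lift (AlgHom.id ℚ ℚ) ((j.comp s).toIntAlgHom) (fun _ _ => Commute.all _ _)

theorem ev_tmul (q : ℚ) (x : A) : ev s (q ⊗ₜ[ℤ] x) = q * j (s x) := by
  simp [ev]

theorem eval_ι (hs : s t = 1) (x : A) : eval 1 (ι t h1 x) = j (s x) := by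
  have key : (ev s).comp (e t h1).toAlgHom = Polynomial.aeval (1 : ℚ) := by
    apply Polynomial.algHom_ext
    simp [e, ev_tmul, hs]
  have h2 : ev s (e t h1 (ι t h1 x)) = Polynomial.aeval (1 : ℚ) (ι t h1 x) :=
    congrArg (fun φ => φ (ι t h1 x)) key
  rw [e_ι, ev_tmul, one_mul, Polynomial.coe_aeval_eq_eval] at h2
  exact h2.symm

theorem exists_mul (f : ℚ[X]) : ∃ n : ℕ, 0 < n ∧ ∃ y : A, ι t h1 y = (n : ℚ[X]) * f := by
  have key : ∀ z : ℚ ⊗[ℤ] A, ∃ n : ℕ, 0 < n ∧ ∃ y : A, (1 : ℚ) ⊗ₜ[ℤ] y = (n : ℚ) • z := by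
    intro z
    induction z using TensorProduct.induction_on with
    | zero => exact ⟨1, one_pos, 0, by simp⟩
    | tmul q a =>
      refine ⟨q.den, q.den_pos, q.num • a, ?_⟩
      rw [TensorProduct.smul_tmul', smul_eq_mul, ← TensorProduct.smul_tmul]
      congr 1
      rw [Rat.den_mul_eq_num]
      simp
    | add z w hz hw =>
      obtain ⟨n, hn, y, hy⟩ := hz
      obtain ⟨k, hk, y', hy'⟩ := hw
      refine ⟨n * k, Nat.mul_pos hn hk, k • y + n • y', ?_⟩
      rw [TensorProduct.tmul_add, TensorProduct.tmul_smul, TensorProduct.tmul_smul, hy, hy',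
        smul_add]
      push_cast
      congr 1
      · rw [← Nat.cast_smul_eq_nsmul ℚ, smul_smul, mul_comm]
      · rw [← Nat.cast_smul_eq_nsmul ℚ, smul_smul]
  obtain ⟨n, hn, y, hy⟩ := key (e t h1 f)
  refine ⟨n, hn, y, ?_⟩
  rw [ι_apply, AlgEquiv.symm_apply_eq, hy, map_mul, map_natCast, Nat.cast_smul_eq_nsmul,
    nsmul_eq_mul]

theorem algebraMap_int_injective (A : Type u) [CommRing A]
    (s : A →+* Localization.Away (2 : ℤ)) : Function.Injective (algebraMap ℤ A) := by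
  intro n m h
  have h2 := congrArg (fun x => j (s x)) h
  simp only [eq_intCast, map_intCast] at h2
  exact_mod_cast h2

include s in
theorem ι_injective [IsDomain A] : Function.Injective (ι t h1) := by
  have hinj := algebraMap_int_injective A s
  have : Module.IsTorsionFree ℤ A := (Module.isTorsionFree_iff_algebraMap_injective).mpr hinj
  have hflat : Module.Flat ℤ A := inferInstance
  have h3 : Function.Injective (Algebra.TensorProduct.includeRight : A →ₐ[ℤ] ℚ ⊗[ℤ] A) :=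
    Algebra.TensorProduct.includeRight_injective (algebraMap ℤ ℚ).injective_int
  intro x y hxy
  apply h3
  exact (e t h1).symm.injective hxy

include h1 in
/-- elements of the kernel of the section become divisible by `t - 1` after multiplication by an
integer -/
theorem ker_mul [IsDomain A] (hs : s t = 1) (g : A) (hg : s g = 0) :
    ∃ n : ℕ, 0 < n ∧ ∃ y : A, (n : A) * g = (t - 1) * y := by
  have hroot : (ι t h1 g).IsRoot 1 := by
    rw [Polynomial.IsRoot, eval_ι t h1 s hs, hg, map_zero]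
  obtain ⟨h, hh⟩ := Polynomial.dvd_iff_isRoot.mpr hroot
  obtain ⟨n, hn, y, hy⟩ := exists_mul t h1 h
  refine ⟨n, hn, y, ι_injective t h1 s ?_⟩
  rw [map_mul, map_natCast, map_mul, map_sub, map_one, ι_t, hy, hh, Polynomial.C_1]
  ring

end

/-- polynomials with integer coefficients -/
def IsInt (f : ℚ[X]) : Prop := ∃ P : ℤ[X], P.map (Int.castRingHom ℚ) = f

theorem IsInt.add {f g : ℚ[X]} (hf : IsInt f) (hg : IsInt g) : IsInt (f + g) := by
  obtain ⟨P, rfl⟩ := hf; obtain ⟨Q, rfl⟩ := hg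
  exact ⟨P + Q, by simp⟩

theorem IsInt.mul {f g : ℚ[X]} (hf : IsInt f) (hg : IsInt g) : IsInt (f * g) := by
  obtain ⟨P, rfl⟩ := hf; obtain ⟨Q, rfl⟩ := hg
  exact ⟨P * Q, by simp⟩

theorem isInt_intCast (c : ℤ) : IsInt (c : ℚ[X]) := ⟨(c : ℤ[X]), by simp⟩
theorem isInt_natCast (c : ℕ) : IsInt (c : ℚ[X]) := ⟨(c : ℤ[X]), by simp⟩
theorem isInt_X_sub_one : IsInt (X - 1 : ℚ[X]) := ⟨X - 1, by simp⟩

theorem IsInt.natCast_mul {f : ℚ[X]} (c : ℕ) (hf : IsInt f) : IsInt ((c : ℚ[X]) * f) :=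
  (isInt_natCast c).mul hf

theorem IsInt.pow_natCast_mul {f : ℚ[X]} (c m : ℕ) (hf : IsInt f) : IsInt ((c : ℚ[X]) ^ m * f) := by
  have : IsInt ((c : ℚ[X]) ^ m) := ⟨(c : ℤ[X]) ^ m, by simp⟩
  exact this.mul hf

section
variable {A : Type u} [CommRing A] [IsDomain A] (t : A)
  (h1 : Function.Bijective (Polynomial.aeval (R := ℚ) ((1 : ℚ) ⊗ₜ[ℤ] t : ℚ ⊗[ℤ] A)))
  (s : A →+* Localization.Away (2 : ℤ))

include h1 in
theorem exists_N_finset (hs : s t = 1) (S : Finset A) (hS : ∀ g ∈ S, s g = 0) :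
    ∃ N : ℕ, 0 < N ∧ ∀ g ∈ S, (N : A) * g ∈ Ideal.span ({t - 1} : Set A) := by
  classical
  induction S using Finset.induction_on with
  | empty => exact ⟨1, one_pos, by simp⟩
  | insert a S ha ih =>
    obtain ⟨N, hN, hNS⟩ := ih (fun g hg => hS g (Finset.mem_insert_of_mem hg))
    obtain ⟨n, hn, y, hy⟩ := ker_mul t h1 s hs a (hS a (Finset.mem_insert_self a S))
    refine ⟨n * N, Nat.mul_pos hn hN, ?_⟩
    intro g hg
    rcases Finset.mem_insert.mp hg with rfl | hg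
    · rw [Nat.cast_mul, mul_comm (n : A), mul_assoc, hy]
      exact Ideal.mul_mem_left _ _ (Ideal.mul_mem_right _ _ (Ideal.mem_span_singleton_self _))
    · rw [Nat.cast_mul, mul_assoc]
      exact Ideal.mul_mem_left _ _ (hNS g hg)

include h1 in
theorem exists_N [IsNoetherianRing A] (hs : s t = 1) :
    ∃ N : ℕ, 0 < N ∧ ∀ g : A, s g = 0 → ∃ y : A, (N : A) * g = (t - 1) * y := by
  obtain ⟨S, hS⟩ := (isNoetherianRing_iff_ideal_fg A).mp inferInstance (RingHom.ker s)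
  have hSker : ∀ g ∈ S, s g = 0 := by
    intro g hg
    have : g ∈ RingHom.ker s := hS ▸ Ideal.subset_span hg
    exact this
  obtain ⟨N, hN, hNS⟩ := exists_N_finset t h1 s hs S hSker
  refine ⟨N, hN, ?_⟩
  intro g hg
  have hle : RingHom.ker s ≤
      Submodule.comap (LinearMap.mulLeft A (N : A)) (Ideal.span ({t - 1} : Set A)) := by
    rw [← hS, Ideal.span_le]
    intro g hg
    exact hNS g hg
  have := hle (show g ∈ RingHom.ker s from hg)
  rw [Submodule.mem_comap, LinearMap.mulLeft_apply, Ideal.mem_span_singleton'] at this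
  obtain ⟨y, hy⟩ := this
  exact ⟨y, by rw [← hy, mul_comm]⟩

include h1 in
omit [IsDomain A] in
theorem isInt_pow_mul (N : ℕ) (hN : 0 < N)
    (hker : ∀ g : A, s g = 0 → ∃ y : A, (N : A) * g = (t - 1) * y) (x : A) :
    ∃ m : ℕ, IsInt (((2 * N : ℕ) : ℚ[X]) ^ m * ι t h1 x) := by
  induction' h : (ι t h1 x).natDegree using Nat.strong_induction_on with d ih generalizing x
  obtain ⟨⟨c, ⟨_, k, rfl⟩⟩, hc⟩ := IsLocalization.surj (Submonoid.powers (2 : ℤ)) (s x)
  simp only at hc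
  set x' : A := (2 : A) ^ k * x - (c : A) with hx'
  have hsx' : s x' = 0 := by
    rw [hx', map_sub, map_mul, map_pow, map_ofNat, map_intCast, mul_comm]
    rw [map_pow, map_ofNat, eq_intCast] at hc
    rw [hc, sub_self]
  obtain ⟨y, hy⟩ := hker x' hsx'
  have hy' : (N : ℚ[X]) * ((2 : ℚ[X]) ^ k * ι t h1 x - (c : ℚ[X])) = (X - 1) * ι t h1 y := by
    have := congrArg (ι t h1) hy
    rw [hx'] at this
    simpa only [map_mul, map_sub, map_one, ι_t, map_pow, map_ofNat, map_natCast, map_intCast]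
      using this
  have hN0 : (N : ℚ[X]) ≠ 0 := by
    exact_mod_cast hN.ne'
  by_cases hy0 : ι t h1 y = 0
  · rw [hy0, mul_zero, mul_eq_zero] at hy'
    have h3 : (2 : ℚ[X]) ^ k * ι t h1 x = (c : ℚ[X]) := by
      rcases hy' with h | h
      · exact absurd h hN0
      · exact sub_eq_zero.mp h
    refine ⟨k, ?_⟩
    have : ((2 * N : ℕ) : ℚ[X]) ^ k * ι t h1 x = (N : ℚ[X]) ^ k * ((2 : ℚ[X]) ^ k * ι t h1 x) := by
      push_cast; ring
    rw [this, h3]
    exact IsInt.pow_natCast_mul N k (isInt_intCast c)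
  · have hdeg : (ι t h1 y).natDegree < d := by
      have hX1 : (X - 1 : ℚ[X]) ≠ 0 := by
        have := Polynomial.X_sub_C_ne_zero (1 : ℚ)
        simpa using this
      have e1 : ((X - 1 : ℚ[X]) * ι t h1 y).natDegree = 1 + (ι t h1 y).natDegree := by
        rw [Polynomial.natDegree_mul hX1 hy0]
        congr 1
        have := Polynomial.natDegree_X_sub_C (1 : ℚ)
        simpa using this
      have e2 : ((N : ℚ[X]) * ((2 : ℚ[X]) ^ k * ι t h1 x - (c : ℚ[X]))).natDegree ≤ d := by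
        refine (Polynomial.natDegree_mul_le).trans ?_
        rw [Polynomial.natDegree_natCast, zero_add]
        refine (Polynomial.natDegree_sub_le _ _).trans ?_
        rw [Polynomial.natDegree_intCast, max_eq_left (Nat.zero_le _)]
        refine (Polynomial.natDegree_mul_le).trans ?_
        have : ((2 : ℚ[X]) ^ k).natDegree = 0 := by
          have : ((2 : ℚ[X]) ^ k) = C ((2 : ℚ) ^ k) := by
            rw [map_pow]; rfl
          rw [this, Polynomial.natDegree_C]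
        rw [this, zero_add, h]
      rw [hy', e1] at e2
      omega
    obtain ⟨m, hm⟩ := ih _ hdeg y rfl
    refine ⟨m + k + 1, ?_⟩
    have : ((2 * N : ℕ) : ℚ[X]) ^ (m + k + 1) * ι t h1 x =
        ((2 * N ^ k : ℕ) : ℚ[X]) * (((2 * N : ℕ) : ℚ[X]) ^ m *
          ((N : ℚ[X]) * ((2 : ℚ[X]) ^ k * ι t h1 x - (c : ℚ[X])) + (N : ℚ[X]) * (c : ℚ[X]))) := by
      push_cast; ring
    rw [this, hy']
    apply IsInt.natCast_mul
    have : ((2 * N : ℕ) : ℚ[X]) ^ m * ((X - 1) * ι t h1 y + (N : ℚ[X]) * (c : ℚ[X])) =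
        (X - 1) * (((2 * N : ℕ) : ℚ[X]) ^ m * ι t h1 y) +
          ((2 * N : ℕ) : ℚ[X]) ^ m * ((N : ℚ[X]) * (c : ℚ[X])) := by ring
    rw [this]
    exact (isInt_X_sub_one.mul hm).add
      (IsInt.pow_natCast_mul _ _ ((isInt_natCast N).mul (isInt_intCast c)))

end

theorem result (A : Type u) [CommRing A]
    [IsDomain A] (h2 : IsUnit (2 : A)) (t : A)
    (h1 : Function.Bijective (Polynomial.aeval (R := ℚ) ((1 : ℚ) ⊗ₜ[ℤ] t : ℚ ⊗[ℤ] A)))
    (h0 : ∀ p : ℕ, p.Prime → IsUnit ((p : ℕ) : A ⧸ Ideal.span ({t} : Set A)))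
    (s : A →+* Localization.Away (2 : ℤ)) (hs : s t = 1) :
    ¬ IsNoetherianRing A := by
  intro hnoeth
  obtain ⟨N, hN, hker⟩ := exists_N t h1 s hs
  obtain ⟨p, hpN, hp⟩ := Nat.exists_infinite_primes (2 * N + 1)
  obtain ⟨a', ha'⟩ := (h0 p hp).exists_right_inv
  obtain ⟨a, rfl⟩ := Ideal.Quotient.mk_surjective a'
  have hmem : (p : A) * a - 1 ∈ Ideal.span ({t} : Set A) := by
    rw [← Ideal.Quotient.eq_zero_iff_mem, map_sub, map_mul, map_natCast, map_one, ha', sub_self]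
  obtain ⟨b, hb⟩ := Ideal.mem_span_singleton'.mp hmem
  have hι := congrArg (ι t h1) hb
  rw [map_mul, ι_t, map_sub, map_mul, map_natCast, map_one] at hι
  have hcoeff := congrArg (fun f => Polynomial.coeff f 0) hι
  simp only [Polynomial.mul_coeff_zero, Polynomial.coeff_X_zero, mul_zero, Polynomial.coeff_sub,
    Polynomial.coeff_one_zero] at hcoeff
  have hc0 : (p : ℚ) * (ι t h1 a).coeff 0 = 1 := by
    have : ((p : ℚ[X])).coeff 0 = (p : ℚ) := by
      simp
    rw [this] at hcoeff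
    linarith
  obtain ⟨m, P, hP⟩ := isInt_pow_mul t h1 s N hN hker a
  have hP0 := congrArg (fun f => Polynomial.coeff f 0) hP
  simp only [Polynomial.coeff_map, Polynomial.mul_coeff_zero] at hP0
  have h5 : (((2 * N : ℕ) : ℚ[X]) ^ m).coeff 0 = ((2 * N : ℕ) : ℚ) ^ m := by
    have : (((2 * N : ℕ) : ℚ[X]) ^ m) = C (((2 * N : ℕ) : ℚ) ^ m) := by
      rw [map_pow, map_natCast]
    rw [this, Polynomial.coeff_C_zero]
  rw [h5] at hP0
  -- (2N)^m = p * P.coeff 0
  have h6 : ((2 * N : ℕ) : ℚ) ^ m = (p : ℚ) * ((P.coeff 0 : ℤ) : ℚ) := by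
    have hpne : (p : ℚ) ≠ 0 := by exact_mod_cast hp.ne_zero
    have : (ι t h1 a).coeff 0 = 1 / (p : ℚ) := by
      field_simp
      linarith
    rw [this] at hP0
    simp only [eq_intCast] at hP0
    rw [hP0]
    field_simp
  have h7 : ((2 * N : ℕ) : ℤ) ^ m = (p : ℤ) * P.coeff 0 := by
    exact_mod_cast h6
  have h8 : (p : ℤ) ∣ ((2 * N : ℕ) : ℤ) ^ m := ⟨_, h7⟩
  have h9 : (p : ℤ) ∣ ((2 * N : ℕ) : ℤ) := (Nat.prime_iff_prime_int.mp hp).dvd_of_dvd_pow h8
  have h10 : p ∣ 2 * N := by exact_mod_cast h9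
  have := Nat.le_of_dvd (by omega) h10
  omega

end Groth.Agent.S14048
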