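import Groth.Statements.S14049
import Mathlib
import Groth.Agent.Lib.helper22.ThickCI

set_option autoImplicit false
universe u
open CategoryTheory AlgebraicGeometry
open LocStr

namespace Groth.Agent.S14049

section Helpers

open AlgebraicGeometry CategoryTheory Limits MorphismProperty

theorem main (X Y : Scheme.{u}) (f : X ⟶ Y) (I : X.IdealSheafData) (hI : IsNilpotent I)
    (h : IsClosedImmersion ((I ^ 2).subschemeι ≫ f)) : IsClosedImmersion f := by
  obtain ⟨n, hn⟩ := hI
  have h0 : ∀ U : X.affineOpens, (I.ideal U) ^ n = ⊥ := by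
    intro U
    have := congr(($hn).ideal U)
    rwa [Scheme.IdealSheafData.ideal_pow, Pi.pow_apply] at this
  haveI : Surjective (I ^ 2).subschemeι := by
    refine ⟨fun x => ?_⟩
    have : x ∈ (I ^ 2).support := by
      obtain ⟨_, ⟨U, hU, rfl⟩, hxU, -⟩ := X.isBasis_affineOpens.exists_subset_of_mem_open
        (Set.mem_univ x) isOpen_univ
      rw [Scheme.IdealSheafData.mem_support_iff_of_mem (U := ⟨U, hU⟩) hxU,
        Scheme.mem_zeroLocus_iff]
      intro s hs
      have hs' : IsNilpotent s := by
        have h1 : s ∈ I.ideal ⟨U, hU⟩ := by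
          rw [Scheme.IdealSheafData.ideal_pow, Pi.pow_apply] at hs
          exact Ideal.pow_le_self two_ne_zero hs
        refine ⟨n, ?_⟩
        have : s ^ n ∈ (I.ideal ⟨U, hU⟩) ^ n := Ideal.pow_mem_pow h1 n
        rw [h0] at this
        exact this
      rw [Scheme.isNilpotent_iff_basicOpen_eq_bot_of_isCompact hU.isCompact] at hs'
      rw [hs']
      exact fun h => h
    rw [← SetLike.mem_coe, ← Scheme.IdealSheafData.range_subschemeι] at this
    exact this
  haveI := h
  haveI := Groth.Agent.H22.ThickCI.isAffineHom_of_comp (I ^ 2).subschemeι f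
  rw [isClosedImmersion_iff_isAffineHom]
  refine ⟨inferInstance, fun U hU => ?_⟩
  have hV : IsAffineOpen (f ⁻¹ᵁ U) := hU.preimage f
  have hsurj := ((I ^ 2).subschemeι ≫ f).app_surjective U hU
  have hker : RingHom.ker ((I ^ 2).subschemeι.app (f ⁻¹ᵁ U)).hom = (I.ideal ⟨_, hV⟩) ^ 2 := by
    rw [Scheme.IdealSheafData.ker_subschemeι_app (I ^ 2) ⟨_, hV⟩,
      Scheme.IdealSheafData.ideal_pow, Pi.pow_apply]
  refine Groth.Agent.H22.NilSurj.surjective_of_sq (f.app U).hom (I.ideal ⟨_, hV⟩) n (h0 _)
    fun a => ?_
  obtain ⟨r, hr⟩ := hsurj (((I ^ 2).subschemeι.app (f ⁻¹ᵁ U)).hom a)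
  refine ⟨r, ?_⟩
  rw [← hker, RingHom.mem_ker, map_sub, sub_eq_zero]
  rw [Scheme.Hom.comp_app] at hr
  exact hr.symm

end Helpers

/-- For schemes. Let f : X → Y be a morphism of schemes and let I be a quasi-coherent sheaf of ideals on
X which is nilpotent (some power of I is zero). Let X₁ ⊆ X be the closed subscheme defined by I².
Then f is a closed immersion as soon as the composite X₁ → X → Y is one. (The published statement is
the same assertion for a morphism of algebraic stacks; it is stated here for schemes.) -/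
theorem result (X Y : Scheme.{u}) (f : X ⟶ Y)
    (I : X.IdealSheafData) (hI : IsNilpotent I)
    (h : IsClosedImmersion ((I ^ 2).subschemeι ≫ f)) :
    IsClosedImmersion f := by
  exact main X Y f I hI h

end Groth.Agent.S14049
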