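import Groth.Statements.S7605
import Mathlib
import Groth.Agent.Lib.helper7.TensorDim3
import Groth.Agent.Lib.helper15.NoethDescent

set_option autoImplicit false
universe u
open CategoryTheory CategoryTheory.Limits AlgebraicGeometry
open Variety

namespace Groth.Agent.S7605

section Aux
open AlgebraicGeometry CategoryTheory Limits

open TensorProduct in
theorem noeth_pullback_Spec (k k' : Type u) [Field k] [Field k'] [Algebra k k']
    [Algebra.EssFiniteType k k'] (A : CommRingCat.{u}) [IsNoetherianRing A]
    (u : Spec A ⟶ Spec (CommRingCat.of k)) :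
    IsLocallyNoetherian (pullback u (Spec.map (CommRingCat.ofHom (algebraMap k k')))) := by
  obtain ⟨φ, rfl⟩ := Spec.map_surjective u
  algebraize [φ.hom]
  haveI : IsNoetherianRing (A ⊗[k] k') := Algebra.EssFiniteType.isNoetherianRing A (A ⊗[k] k')
  have e : pullback (Spec.map φ) (Spec.map (CommRingCat.ofHom (algebraMap k k'))) ≅
      Spec (CommRingCat.of (A ⊗[k] k')) := pullbackSpecIso k A k'
  exact isLocallyNoetherian_of_isOpenImmersion e.hom

theorem noeth_pullback_affine (k k' : Type u) [Field k] [Field k'] [Algebra k k']
    [Algebra.EssFiniteType k k'] (T : Scheme.{u}) [IsAffine T] [IsLocallyNoetherian T]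
    (u : T ⟶ Spec (CommRingCat.of k)) :
    IsLocallyNoetherian (pullback u (Spec.map (CommRingCat.ofHom (algebraMap k k')))) := by
  haveI : IsNoetherianRing Γ(T, ⊤) :=
    IsLocallyNoetherian.component_noetherian ⟨⊤, isAffineOpen_top T⟩
  haveI := noeth_pullback_Spec k k' Γ(T, ⊤) (T.isoSpec.inv ≫ u)
  exact isLocallyNoetherian_of_isOpenImmersion
    (pullback.map u (Spec.map (CommRingCat.ofHom (algebraMap k k'))) (T.isoSpec.inv ≫ u)
      (Spec.map (CommRingCat.ofHom (algebraMap k k'))) T.isoSpec.hom (𝟙 _) (𝟙 _)
      (by simp) (by simp))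

theorem main (k : Type u) [Field k] (X : Scheme.{u}) [X.Over (Spec (CommRingCat.of k))]
    (k' : Type u) [Field k'] [Algebra k k'] (hfg : (⊤ : IntermediateField k k').FG) :
    IsLocallyNoetherian X ↔ IsLocallyNoetherian (Curv2.bc k X k') := by
  haveI : Algebra.EssFiniteType k k' := IntermediateField.fg_top_iff.mp hfg
  constructor
  · intro hX
    rw [isLocallyNoetherian_iff_openCover (Scheme.Pullback.openCoverOfLeft X.affineCover
      (X ↘ Spec (CommRingCat.of k)) (Spec.map (CommRingCat.ofHom (algebraMap k k'))))]
    intro i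
    exact noeth_pullback_affine k k' (X.affineCover.X i)
      (X.affineCover.f i ≫ (X ↘ Spec (CommRingCat.of k)))
  · intro h
    haveI := Groth.Agent.Lib.helper7.TensorDim.surjective_SpecMap_algebraMap_field k k'
    haveI := Groth.Agent.Lib.helper7.TensorDim.flat_SpecMap_algebraMap_field k k'
    exact Groth.Agent.Lib.H15.ND.isLocallyNoetherian_of_flat_surjective_quasiCompact
      (Curv2.bcFst k X k')

end Aux

/-- For a scheme X over a field k and a finitely generated field extension k' of k, local Noetherianity
of X is equivalent to local Noetherianity of its base change X_{k'}. -/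
theorem result (k : Type u) [Field k] (X : Scheme.{u}) [X.Over (Spec (CommRingCat.of k))] (k' : Type u) [Field k'] [Algebra k k']
    (hfg : (⊤ : IntermediateField k k').FG) :
    IsLocallyNoetherian X ↔ IsLocallyNoetherian (Curv2.bc k X k') := by
  exact main k X k' hfg
end Groth.Agent.S7605
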