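import Groth.Statements.S1405
import Mathlib
import Groth.Agent.S7605
import Groth.Agent.Lib.helper15.NoethDescent

set_option autoImplicit false
universe u
open FlatMor

namespace Groth.Agent.S1405

section Aux
open AlgebraicGeometry CategoryTheory Limits

theorem eft_residue {Y' Y : Scheme.{u}} (g : Y' ⟶ Y) [LocallyOfFiniteType g] (y' : Y') :
    (g.residueFieldMap y').hom.EssFiniteType :=
  RingHom.EssFiniteType.residueFieldMap (LocallyOfFiniteType.stalkMap g y')

theorem noeth_pullback_field (k k' : Type u) [Field k] [Field k'] (φ : k →+* k')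
    (hφ : φ.EssFiniteType) (T : Scheme.{u}) [IsLocallyNoetherian T]
    (u : T ⟶ Spec (CommRingCat.of k)) :
    IsLocallyNoetherian (pullback u (Spec.map (CommRingCat.ofHom φ))) := by
  algebraize [φ]
  rw [isLocallyNoetherian_iff_openCover (Scheme.Pullback.openCoverOfLeft T.affineCover
      u (Spec.map (CommRingCat.ofHom φ)))]
  intro i
  exact Groth.Agent.S7605.noeth_pullback_affine k k' (T.affineCover.X i)
      (T.affineCover.f i ≫ u)

theorem noeth_of_pullback_field (k k' : Type u) [Field k] [Field k'] (φ : k →+* k')
    (T : Scheme.{u}) (u : T ⟶ Spec (CommRingCat.of k))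
    [IsLocallyNoetherian (pullback u (Spec.map (CommRingCat.ofHom φ)))] :
    IsLocallyNoetherian T := by
  algebraize [φ]
  haveI : Surjective (Spec.map (CommRingCat.ofHom φ)) :=
    Groth.Agent.Lib.helper7.TensorDim.surjective_SpecMap_algebraMap_field k k'
  haveI : Flat (Spec.map (CommRingCat.ofHom φ)) :=
    Groth.Agent.Lib.helper7.TensorDim.flat_SpecMap_algebraMap_field k k'
  exact Groth.Agent.Lib.H15.ND.isLocallyNoetherian_of_flat_surjective_quasiCompact
      (pullback.fst u (Spec.map (CommRingCat.ofHom φ)))

theorem main {X Y X' Y' : Scheme.{u}} (f : X ⟶ Y) (f' : X' ⟶ Y') (g' : X' ⟶ X) (g : Y' ⟶ Y) [Flat g] [LocallyOfFinitePresentation g] [Surjective g]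
    (hc : IsPullback g' f' f g) :
    (∀ y : Y, IsLocallyNoetherian (f.fiber y)) ↔ ∀ y' : Y', IsLocallyNoetherian (f'.fiber y') := by
  have key : ∀ y' : Y', f'.fiber y' ≅ pullback (f.fiberToSpecResidueField (g y'))
      (Spec.map (g.residueFieldMap y')) := fun y' =>
    (isPullback_fiberToSpecResidueField_of_isPullback hc y').isoPullback
  constructor
  · intro h y'
    haveI := h (g y')
    haveI : IsLocallyNoetherian (pullback (f.fiberToSpecResidueField (g y'))
      (Spec.map (g.residueFieldMap y'))) :=
      noeth_pullback_field (Y.residueField (g y')) (Y'.residueField y')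
      (g.residueFieldMap y').hom (eft_residue g y') (f.fiber (g y'))
      (f.fiberToSpecResidueField (g y'))
    exact isLocallyNoetherian_of_isOpenImmersion (key y').hom
  · intro h y
    obtain ⟨y', rfl⟩ := (inferInstance : Surjective g).surj y
    haveI := h y'
    haveI : IsLocallyNoetherian (pullback (f.fiberToSpecResidueField (g y'))
      (Spec.map (g.residueFieldMap y'))) := isLocallyNoetherian_of_isOpenImmersion (key y').inv
    exact noeth_of_pullback_field (Y.residueField (g y')) (Y'.residueField y')
      (g.residueFieldMap y').hom (f.fiber (g y'))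
      (f.fiberToSpecResidueField (g y'))

end Aux

open AlgebraicGeometry CategoryTheory Limits in
/-- Let Y' → Y be flat, locally of finite presentation and surjective and f' the base change of f : X →
Y. Then all fibres of f are locally Noetherian if and only if all fibres of f' are. -/
theorem result {X Y X' Y' : Scheme.{u}} (f : X ⟶ Y) (f' : X' ⟶ Y') (g' : X' ⟶ X) (g : Y' ⟶ Y) [Flat g] [LocallyOfFinitePresentation g] [Surjective g]
    (hc : IsPullback g' f' f g) :
    (∀ y : Y, IsLocallyNoetherian (f.fiber y)) ↔ ∀ y' : Y', IsLocallyNoetherian (f'.fiber y') := by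
  exact main f f' g' g hc

end Groth.Agent.S1405
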