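import Groth.Statements.S14051
import Mathlib.Tactic

set_option autoImplicit false
universe u
open CAlg

namespace Groth.Agent.S14051

theorem grade_add_le (R : Type u) [CommRing R] (A : Type u) [CommRing A] [Algebra R A]
    (𝒜 : ℕ → Submodule R A) [GradedAlgebra 𝒜]
    (hA : ∀ n : ℕ, 𝒜 (n + 1) = 𝒜 1 * 𝒜 n) (k m : ℕ) : 𝒜 (k + m) ≤ 𝒜 k * 𝒜 m := by
  induction k with
  | zero =>
    intro x hx
    rw [zero_add] at hx
    have h1 : (1 : A) ∈ 𝒜 0 := SetLike.GradedOne.one_mem
    have := Submodule.mul_mem_mul h1 hx
    rwa [one_mul] at this
  | succ k ih =>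
    have e : k + 1 + m = (k + m) + 1 := by ring
    rw [e, hA (k + m), hA k, mul_assoc]
    exact mul_le_mul_right ih _

/-- Let A be a commutative ℕ-graded algebra over a base ring R which is generated by A_1 as an
A_0-algebra, written as A_{n+1} = A_1 · A_n for every n, and let M be a graded A-module: an A-module
with R-submodules M_n giving a direct-sum decomposition and A_i · M_j ⊆ M_{i+j}. If M is spanned
over A by a set of homogeneous elements all of degree at most n₀, then for every n ≥ n₀ and every k
≥ 0 the degree-(n+k) part of M is A_k · M_n. -/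
theorem result
    (R : Type u) [CommRing R] (A : Type u) [CommRing A] [Algebra R A]
    (𝒜 : ℕ → Submodule R A) [GradedAlgebra 𝒜]
    (hA : ∀ n : ℕ, 𝒜 (n + 1) = 𝒜 1 * 𝒜 n)
    (M : Type u) [AddCommGroup M] [Module R M] [Module A M] [IsScalarTower R A M]
    (ℳ : ℕ → Submodule R M) [DirectSum.Decomposition ℳ] [SetLike.GradedSMul 𝒜 ℳ]
    (s : Set M) (n₀ : ℕ) (hs : ∀ y ∈ s, ∃ d : ℕ, d ≤ n₀ ∧ y ∈ ℳ d)
    (hspan : Submodule.span A s = ⊤)
    (n k : ℕ) (hn : n₀ ≤ n) :
    ℳ (n + k) = 𝒜 k • ℳ n := by
  classical
  apply le_antisymm
  · -- ⊆
    -- predicate on all of M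
    have key : ∀ x : M, ∀ k' : ℕ, (DirectSum.decompose ℳ x (n + k') : M) ∈ 𝒜 k' • ℳ n := by
      intro x
      have hx : x ∈ Submodule.span A s := by rw [hspan]; trivial
      induction hx using Submodule.closure_induction with
      | zero => intro k'; simp
      | add x y _ _ hx hy =>
        intro k'
        rw [DirectSum.decompose_add, DirectSum.add_apply, Submodule.coe_add]
        exact Submodule.add_mem _ (hx k') (hy k')
      | smul_mem a y hy =>
        obtain ⟨d, hd, hyd⟩ := hs y hy
        induction a using DirectSum.Decomposition.inductionOn 𝒜 with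
        | zero => intro k'; simp
        | @homogeneous i ai =>
          intro k'
          have hmem : (ai : A) • y ∈ ℳ (i + d) := SetLike.GradedSMul.smul_mem ai.2 hyd
          by_cases hid : i + d = n + k'
          · have : (DirectSum.decompose ℳ ((ai : A) • y) (n + k') : M) = (ai : A) • y := by
              rw [← hid]; exact DirectSum.decompose_of_mem_same ℳ hmem
            rw [this]
            have hi : i = k' + (n - d) := by omega
            have hai : (ai : A) ∈ 𝒜 k' * 𝒜 (n - d) := by
              apply grade_add_le R A 𝒜 hA k' (n - d)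
              rw [← hi]; exact ai.2
            refine Submodule.mul_induction_on hai ?_ ?_
            · intro b hb c hc
              rw [mul_smul]
              refine Submodule.smul_mem_smul hb ?_
              have : c • y ∈ ℳ ((n - d) + d) := SetLike.GradedSMul.smul_mem hc hyd
              have e : (n - d) + d = n := by omega
              rwa [e] at this
            · intro x y hx hy
              rw [add_smul]
              exact Submodule.add_mem _ hx hy
          · rw [DirectSum.decompose_of_mem_ne ℳ hmem hid]
            exact Submodule.zero_mem _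
        | add a b ha hb =>
          intro k'
          rw [add_smul, DirectSum.decompose_add, DirectSum.add_apply, Submodule.coe_add]
          exact Submodule.add_mem _ (ha k') (hb k')
    intro x hx
    have := key x k
    rwa [DirectSum.decompose_of_mem_same ℳ hx] at this
  · rw [Submodule.smul_le]
    intro a ha m hm
    have : a • m ∈ ℳ (k + n) := SetLike.GradedSMul.smul_mem ha hm
    rwa [add_comm] at this

end Groth.Agent.S14051
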