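import Groth.Statements.S14053
import Mathlib

set_option autoImplicit false
universe u
open CAlg

namespace Groth.Agent.S14053

section
variable {k : Type u} [Field k] {R : Type u} [CommRing R] [Algebra k R]
  (ℛ : ℕ → Submodule k R) [GradedAlgebra ℛ]

lemma mul_le' (i j : ℕ) : ℛ i * ℛ j ≤ ℛ (i + j) :=
  Submodule.mul_le.mpr fun _ hx _ hy => SetLike.mul_mem_graded hx hy

lemma pow_le' (i a : ℕ) : ℛ i ^ a ≤ ℛ (a * i) := by
  induction a with
  | zero =>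
    rw [pow_zero, Nat.zero_mul, Submodule.one_le]
    exact SetLike.one_mem_graded ℛ
  | succ a ih =>
    rw [pow_succ, Nat.succ_mul]
    exact (mul_le_mul' ih le_rfl).trans (mul_le' ℛ _ _)

/-- `T a b c = ℛ₁^a ℛ₂^b ℛ₃^c` -/
def T (a b c : ℕ) : Submodule k R := ℛ 1 ^ a * ℛ 2 ^ b * ℛ 3 ^ c

lemma T_le (a b c : ℕ) : T ℛ a b c ≤ ℛ (a + 2 * b + 3 * c) := by
  unfold T
  have h1 := pow_le' ℛ 1 a
  have h2 := pow_le' ℛ 2 b
  have h3 := pow_le' ℛ 3 c
  have e : a + 2 * b + 3 * c = a * 1 + b * 2 + c * 3 := by ring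
  rw [e]
  exact (mul_le_mul' ((mul_le_mul' h1 h2).trans (mul_le' ℛ _ _)) h3).trans (mul_le' ℛ _ _)

lemma T_mul (a b c a' b' c' : ℕ) :
    T ℛ a b c * T ℛ a' b' c' = T ℛ (a + a') (b + b') (c + c') := by
  unfold T
  rw [pow_add, pow_add, pow_add]
  ring

lemma exists_block (n a b c : ℕ) (h : a + 2 * b + 3 * c = 6 * n + 6) :
    ∃ a' b' c', a' ≤ a ∧ b' ≤ b ∧ c' ≤ c ∧ a' + 2 * b' + 3 * c' = 6 := by
  by_cases ha : 6 ≤ a
  · exact ⟨6, 0, 0, ha, Nat.zero_le _, Nat.zero_le _, rfl⟩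
  by_cases hb : 3 ≤ b
  · exact ⟨0, 3, 0, Nat.zero_le _, hb, Nat.zero_le _, rfl⟩
  by_cases hc : 2 ≤ c
  · exact ⟨0, 0, 2, Nat.zero_le _, Nat.zero_le _, hc, rfl⟩
  by_cases hn : n = 0
  · exact ⟨a, b, c, le_rfl, le_rfl, le_rfl, by omega⟩
  · exact ⟨1, 1, 1, by omega, by omega, by omega, rfl⟩

lemma T_le_pow : ∀ (n a b c : ℕ), a + 2 * b + 3 * c = 6 * n → T ℛ a b c ≤ ℛ 6 ^ n := by
  intro n
  induction n with
  | zero =>
    intro a b c h
    have ha : a = 0 := by omega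
    have hb : b = 0 := by omega
    have hc : c = 0 := by omega
    subst ha hb hc
    simp [T]
  | succ n ih =>
    intro a b c h
    obtain ⟨a', b', c', ha, hb, hc, h6⟩ := exists_block n a b c (by omega)
    have e : T ℛ a b c = T ℛ (a - a') (b - b') (c - c') * T ℛ a' b' c' := by
      rw [T_mul]
      congr 1 <;> omega
    rw [e, pow_succ]
    refine mul_le_mul' (ih _ _ _ (by omega)) ?_
    have := T_le ℛ a' b' c'
    rwa [h6] at this

/-- the sum of all `T a b c` of total degree `n` -/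
def S (n : ℕ) : Submodule k R :=
  ⨆ (p : ℕ × ℕ × ℕ) (_ : p.1 + 2 * p.2.1 + 3 * p.2.2 = n), T ℛ p.1 p.2.1 p.2.2

lemma T_le_S (a b c : ℕ) : T ℛ a b c ≤ S ℛ (a + 2 * b + 3 * c) :=
  le_iSup₂_of_le (a, b, c) rfl le_rfl

lemma closure_mem_T (y : R)
    (hy : y ∈ Submonoid.closure ((ℛ 1 : Set R) ∪ (ℛ 2 : Set R) ∪ (ℛ 3 : Set R))) :
    ∃ a b c, y ∈ T ℛ a b c := by
  induction hy using Submonoid.closure_induction with
  | mem x hx =>
    rcases hx with (hx | hx) | hx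
    · exact ⟨1, 0, 0, by simpa [T] using hx⟩
    · exact ⟨0, 1, 0, by simpa [T] using hx⟩
    · exact ⟨0, 0, 1, by simpa [T] using hx⟩
  | one => exact ⟨0, 0, 0, by simp only [T, pow_zero, mul_one]; exact Submodule.one_le.mp le_rfl⟩
  | mul x y _ _ hx hy =>
    obtain ⟨a, b, c, h⟩ := hx
    obtain ⟨a', b', c', h'⟩ := hy
    exact ⟨a + a', b + b', c + c', by rw [← T_mul]; exact Submodule.mul_mem_mul h h'⟩

lemma proj_mem_S (hgen : Algebra.adjoin k ((ℛ 1 : Set R) ∪ (ℛ 2 : Set R) ∪ (ℛ 3 : Set R)) = ⊤)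
    (y : R) (n : ℕ) : GradedAlgebra.proj ℛ n y ∈ S ℛ n := by
  have hy : y ∈ Submodule.span k
      (Submonoid.closure ((ℛ 1 : Set R) ∪ (ℛ 2 : Set R) ∪ (ℛ 3 : Set R)) : Set R) := by
    rw [← Algebra.adjoin_eq_span, hgen]
    trivial
  induction hy using Submodule.span_induction with
  | mem x hx =>
    obtain ⟨a, b, c, h⟩ := closure_mem_T ℛ x hx
    have hx' : x ∈ ℛ (a + 2 * b + 3 * c) := T_le ℛ a b c h
    rw [GradedAlgebra.proj_apply]
    by_cases hn : a + 2 * b + 3 * c = n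
    · subst hn
      rw [DirectSum.decompose_of_mem_same ℛ hx']
      exact T_le_S ℛ a b c h
    · rw [DirectSum.decompose_of_mem_ne ℛ hx' hn]
      exact Submodule.zero_mem _
  | zero => simp
  | add x y _ _ hx hy => rw [map_add]; exact Submodule.add_mem _ hx hy
  | smul c x _ hx => rw [map_smul]; exact Submodule.smul_mem _ _ hx

lemma deg_six (hgen : Algebra.adjoin k ((ℛ 1 : Set R) ∪ (ℛ 2 : Set R) ∪ (ℛ 3 : Set R)) = ⊤)
    (n : ℕ) : ℛ (6 * n) = ℛ 6 ^ n := by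
  apply le_antisymm
  · intro x hx
    have h1 := proj_mem_S ℛ hgen x (6 * n)
    rw [GradedAlgebra.proj_apply, DirectSum.decompose_of_mem_same ℛ hx] at h1
    have h2 : S ℛ (6 * n) ≤ ℛ 6 ^ n :=
      iSup₂_le fun p hp => T_le_pow ℛ n _ _ _ hp
    exact h2 h1
  · have := pow_le' ℛ 6 n
    rwa [Nat.mul_comm] at this

end

/-- Let k be a field and R a commutative ℕ-graded k-algebra with R_0 = k · 1 which is generated as a
k-algebra by R_1, R_2 and R_3, each a finite-dimensional k-vector space, of dimensions d_1, d_2,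
d_3. Then for every natural number e ≥ 5 d_1 + 4 d_2 + 3 d_3 the (6e)-th Veronese subring of R is
generated in degree one over k: R_{6em} = (R_{6e})^m for every m > 0. -/
theorem result
    (k : Type u) [Field k] (R : Type u) [CommRing R] [Algebra k R]
    (ℛ : ℕ → Submodule k R) [GradedAlgebra ℛ]
    (h0 : ℛ 0 = 1)
    (hgen : Algebra.adjoin k ((ℛ 1 : Set R) ∪ (ℛ 2 : Set R) ∪ (ℛ 3 : Set R)) = ⊤)
    [Module.Finite k (ℛ 1)] [Module.Finite k (ℛ 2)] [Module.Finite k (ℛ 3)]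
    (e : ℕ) (he : 5 * Module.finrank k (ℛ 1) + 4 * Module.finrank k (ℛ 2) + 3 * Module.finrank k (ℛ 3) ≤ e)
    (m : ℕ) (hm : 0 < m) :
    ℛ (m * (6 * e)) = ℛ (6 * e) ^ m := by
  have e1 : m * (6 * e) = 6 * (e * m) := by ring
  rw [e1, deg_six ℛ hgen, deg_six ℛ hgen, ← pow_mul]

end Groth.Agent.S14053
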