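import Groth.Statements.S1406
import Mathlib
import Groth.Agent.Lib.helper15.NoethDescent

set_option autoImplicit false
universe u
open FlatMor

namespace Groth.Agent.S1406

section Aux
open AlgebraicGeometry CategoryTheory Limits

open AlgebraicGeometry CategoryTheory Limits in
theorem main {X X' Y : Scheme.{u}} (f : X ⟶ Y) (a : X' ⟶ X) [Flat a]
    [LocallyOfFinitePresentation a] [Surjective a] (y : Y) :
    IsLocallyNoetherian (f.fiber y) ↔ IsLocallyNoetherian ((a ≫ f).fiber y) := by
  let e : pullback a (pullback.fst f (Y.fromSpecResidueField y)) ≅
      pullback (a ≫ f) (Y.fromSpecResidueField y) :=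
    pullbackRightPullbackFstIso f (Y.fromSpecResidueField y) a
  constructor
  · intro h
    haveI : IsLocallyNoetherian (pullback f (Y.fromSpecResidueField y)) := h
    haveI : IsLocallyNoetherian (pullback a (pullback.fst f (Y.fromSpecResidueField y))) :=
      LocallyOfFiniteType.isLocallyNoetherian
        (pullback.snd a (pullback.fst f (Y.fromSpecResidueField y)))
    exact isLocallyNoetherian_of_isOpenImmersion e.inv
  · intro h
    haveI : IsLocallyNoetherian (pullback (a ≫ f) (Y.fromSpecResidueField y)) := h
    haveI : IsLocallyNoetherian (pullback a (pullback.fst f (Y.fromSpecResidueField y))) :=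
      isLocallyNoetherian_of_isOpenImmersion e.hom
    show IsLocallyNoetherian (pullback f (Y.fromSpecResidueField y))
    exact Groth.Agent.Lib.H15.ND.isLocallyNoetherian_of_flat_surjective_lfp
      (pullback.snd a (pullback.fst f (Y.fromSpecResidueField y)))

end Aux

open AlgebraicGeometry CategoryTheory Limits in
/-- Let a : X' → X be flat, locally of finite presentation and surjective. Then all fibres of f : X → Y
are locally Noetherian if and only if all fibres of a ≫ f are. -/
theorem result {X X' Y : Scheme.{u}} (f : X ⟶ Y) (a : X' ⟶ X) [Flat a] [LocallyOfFinitePresentation a] [Surjective a] :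
    (∀ y : Y, IsLocallyNoetherian (f.fiber y)) ↔ ∀ y : Y, IsLocallyNoetherian ((a ≫ f).fiber y) := by
  exact forall_congr' fun y => main f a y
end Groth.Agent.S1406
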