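import Groth.Statements.S14078
import Mathlib
import Groth.Agent.Lib.helper3.QFLoc2
-- import your own Groth.Agent.* helpers here

set_option autoImplicit false
open CategoryTheory CategoryTheory.Limits AlgebraicGeometry
universe u
open FamCyc

namespace Groth.Agent.S14078

/-- Let f : X ⟶ S be a morphism of schemes locally of finite type, i : Z ⟶ X an immersion such that Z ⟶
S is locally quasi-finite, and z a point of Z. Then there are an étale morphism g : T ⟶ S and an
open subscheme U of X ×_S T such that the preimage U ×_X Z of Z in U is finite over T and contains a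
point u over z whose residue field extension κ(z) → κ(u) is an isomorphism, u being moreover the
only point of U ×_X Z in its fibre over T. (The published statement covers algebraic spaces X, with
U ⟶ X ×_S T étale in general and an open subspace when X is a scheme; this row is the scheme case.) -/
theorem result {Z X S : Scheme.{u}} (f : X ⟶ S)
    [LocallyOfFiniteType f] (i : Z ⟶ X) [IsImmersion i] [LocallyQuasiFinite (i ≫ f)] (z : Z) :
    ∃ (T : Scheme.{u}) (g : T ⟶ S) (U : (pullback f g).Opens)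
      (u : ↥(pullback (U.ι ≫ pullback.fst f g) i)),
      Etale g ∧
      IsFinite (pullback.fst (U.ι ≫ pullback.fst f g) i ≫ U.ι ≫ pullback.snd f g) ∧
      (pullback.snd (U.ι ≫ pullback.fst f g) i).base u = z ∧
      IsIso ((pullback.snd (U.ι ≫ pullback.fst f g) i).residueFieldMap u) ∧
      ∀ u' : ↥(pullback (U.ι ≫ pullback.fst f g) i),
        (pullback.fst (U.ι ≫ pullback.fst f g) i ≫ U.ι ≫ pullback.snd f g).base u' =
          (pullback.fst (U.ι ≫ pullback.fst f g) i ≫ U.ι ≫ pullback.snd f g).base u → u' = u := by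
  haveI hLoFT : LocallyOfFiniteType (i ≫ f) := inferInstance
  have hq : (i ≫ f).QuasiFiniteAt z := Scheme.Hom.quasiFiniteAt (i ≫ f) z
  obtain ⟨T, g, t, hg, hgt, hsurjt, V, v, hvV, hfin, hsnd, hfst, hsurjv, huniq, -, -⟩ :=
    Groth.Agent.Lib.helper3.QFLoc.chart (i ≫ f) z hq
  -- the base change of `i`
  let iT : pullback (i ≫ f) g ⟶ pullback f g :=
    pullback.map (i ≫ f) g f g i (𝟙 T) (𝟙 S) (by simp) (by simp)
  have hiT1 : iT ≫ pullback.fst f g = pullback.fst (i ≫ f) g ≫ i := by
    exact pullback.lift_fst _ _ _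
  have hiT2 : iT ≫ pullback.snd f g = pullback.snd (i ≫ f) g := by
    exact (pullback.lift_snd _ _ _).trans (Category.comp_id _)
  have hA : IsPullback iT (pullback.fst (i ≫ f) g) (pullback.fst f g) i := by
    refine IsPullback.of_right ?_ hiT1 (IsPullback.of_hasPullback f g).flip
    rw [hiT2]
    exact (IsPullback.of_hasPullback (i ≫ f) g).flip
  haveI : IsImmersion iT :=
    MorphismProperty.of_isPullback (P := @IsImmersion) hA.flip inferInstance
  -- choose an open `U` with preimage `V`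
  obtain ⟨U, rfl⟩ : ∃ U : (pullback f g).Opens, iT ⁻¹ᵁ U = V := by
    have hemb : Topology.IsInducing iT := iT.isEmbedding.isInducing
    obtain ⟨s, hs, hsV⟩ := hemb.isOpen_iff.mp V.2
    exact ⟨⟨s, hs⟩, TopologicalSpace.Opens.ext hsV⟩
  have hP : IsPullback (iT ∣_ U) ((iT ⁻¹ᵁ U).ι ≫ pullback.fst (i ≫ f) g)
      (U.ι ≫ pullback.fst f g) i :=
    (isPullback_morphismRestrict iT U).paste_vert hA
  let e : (iT ⁻¹ᵁ U).toScheme ≅ pullback (U.ι ≫ pullback.fst f g) i := hP.isoPullback
  have he1 : e.hom ≫ pullback.fst (U.ι ≫ pullback.fst f g) i = iT ∣_ U :=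
    hP.isoPullback_hom_fst
  have he2 : e.hom ≫ pullback.snd (U.ι ≫ pullback.fst f g) i =
      (iT ⁻¹ᵁ U).ι ≫ pullback.fst (i ≫ f) g := hP.isoPullback_hom_snd
  have heF : e.hom ≫ (pullback.fst (U.ι ≫ pullback.fst f g) i ≫ U.ι ≫ pullback.snd f g) =
      (iT ⁻¹ᵁ U).ι ≫ pullback.snd (i ≫ f) g := by
    rw [← Category.assoc, he1, ← Category.assoc, morphismRestrict_ι, Category.assoc, hiT2]
  let v' : (iT ⁻¹ᵁ U).toScheme := ⟨v, hvV⟩
  have hFpt : ∀ w : (iT ⁻¹ᵁ U).toScheme,
      (pullback.fst (U.ι ≫ pullback.fst f g) i ≫ U.ι ≫ pullback.snd f g) (e.hom w) =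
        pullback.snd (i ≫ f) g w.1 := by
    intro w
    rw [← Scheme.Hom.comp_apply, heF]
    rfl
  refine ⟨T, g, U, e.hom v', hg, ?_, ?_, ?_, ?_⟩
  · rw [← MorphismProperty.cancel_left_of_respectsIso @IsFinite e.hom, heF]
    exact hfin
  · rw [← Scheme.Hom.comp_apply, he2]
    exact hfst
  · have h1 : Function.Surjective
        (((iT ⁻¹ᵁ U).ι ≫ pullback.fst (i ≫ f) g).residueFieldMap v') :=
      Groth.Agent.Lib.helper3.QFLoc.surj_comp _ _ v'
        (Groth.Agent.Lib.helper3.QFLoc.surj_of_isIso _ _) hsurjv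
    have h2 : Function.Surjective
        ((e.hom ≫ pullback.snd (U.ι ≫ pullback.fst f g) i).residueFieldMap v') :=
      Groth.Agent.Lib.helper3.QFLoc.surj_congr he2.symm v' h1
    have h3 := Groth.Agent.Lib.helper3.QFLoc.surj_cancel e.hom _ v' h2
    exact (ConcreteCategory.isIso_iff_bijective _).mpr
      ⟨((pullback.snd (U.ι ≫ pullback.fst f g) i).residueFieldMap (e.hom v')).hom.injective, h3⟩
  · intro u' hu'
    obtain ⟨w, rfl⟩ : ∃ w, e.hom w = u' := ⟨e.inv u', by
      rw [← Scheme.Hom.comp_apply, Iso.inv_hom_id]; rfl⟩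
    rw [hFpt, hFpt] at hu'
    have hw : w.1 = v := huniq w.1 w.2 (hu'.trans hsnd)
    have : w = v' := Subtype.ext hw
    rw [this]

end Groth.Agent.S14078
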