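import Groth.Statements.S14080
import Mathlib
import Groth.Agent.Lib.helper20.FormalIFT3

set_option autoImplicit false
universe u
open ArSing

namespace Groth.Agent.S14080

/-- Let k be a field in which 2 is invertible and σ an involutive k-algebra automorphism of the power
series ring k[[t]], with ξ the coefficient of t in σ(t). Then ξ^2 = 1, the k-algebra endomorphism φ
with φ(t) = (t + ξ σ(t))/2 is an automorphism, and φ⁻¹ σ φ is the automorphism t ↦ ξ t. (The
published statement is over an algebraically closed field of characteristic prime to 2; only the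
invertibility of 2 is used, so any field with 2 ≠ 0 is allowed here.) -/
theorem result (k : Type u) [Field k] (h2 : (2 : k) ≠ 0)
    (σ : PowerSeries k ≃ₐ[k] PowerSeries k) (hσ : ∀ f, σ (σ f) = f) :
    (PowerSeries.coeff 1 (σ PowerSeries.X)) ^ 2 = 1 ∧
    ∃ φ : PowerSeries k ≃ₐ[k] PowerSeries k,
      φ PowerSeries.X = PowerSeries.C (2⁻¹ : k) *
        (PowerSeries.X + PowerSeries.C (PowerSeries.coeff 1 (σ PowerSeries.X)) * σ PowerSeries.X) ∧
      ∀ f, φ.symm (σ (φ f)) = PowerSeries.rescale (PowerSeries.coeff 1 (σ PowerSeries.X)) f := by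
  classical
  set s : MvPowerSeries Unit k →ₐ[k] MvPowerSeries Unit k :=
    (σ : PowerSeries k →ₐ[k] PowerSeries k) with hs
  have hss : ∀ f : MvPowerSeries Unit k, s (s f) = f := fun f => hσ f
  have hs0 : MvPowerSeries.constantCoeff (s (MvPowerSeries.X ())) = 0 := by
    by_contra hne
    have h1 : IsUnit (s (MvPowerSeries.X ())) :=
      MvPowerSeries.isUnit_iff_constantCoeff.mpr (isUnit_iff_ne_zero.mpr hne)
    have h2 : IsUnit (MvPowerSeries.X () : MvPowerSeries Unit k) := by
      have := h1.map s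
      rwa [hss] at this
    have h3 := MvPowerSeries.isUnit_iff_constantCoeff.mp h2
    rw [MvPowerSeries.constantCoeff_X] at h3
    exact not_isUnit_zero h3
  set ξ : k := MvPowerSeries.coeff (Finsupp.single () 1) (s (MvPowerSeries.X ())) with hξ
  have L : ∀ f : MvPowerSeries Unit k, MvPowerSeries.constantCoeff f = 0 →
      MvPowerSeries.coeff (Finsupp.single () 1) (s f) =
        ξ * MvPowerSeries.coeff (Finsupp.single () 1) f := by
    intro f hf0
    obtain ⟨g, -, hg⟩ := Groth.Agent.Lib.helper20.FormalIFT.exists_decomp (k := 0)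
      (Groth.Agent.Lib.helper20.FormalIFT.mem_I_one_iff.mpr hf0)
    rw [Fintype.sum_unique] at hg
    have hg' : f = MvPowerSeries.X () * g () := hg
    rw [hg', map_mul, mul_comm (s _) (s _),
      Groth.Agent.Lib.helper20.FormalIFT.coeff_single_mul _ _ hs0,
      Groth.Agent.Lib.helper20.FormalIFT.constantCoeff_map s (fun _ => hs0),
      Groth.Agent.Lib.helper20.FormalIFT.coeff_single_X_mul, if_pos rfl, mul_comm]
  have hξ2 : ξ * ξ = 1 := by
    have h1 := L (s (MvPowerSeries.X ())) hs0
    rw [hss, MvPowerSeries.coeff_X, if_pos rfl] at h1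
    exact h1.symm
  obtain ⟨y, hy⟩ : ∃ y : MvPowerSeries Unit k, y = MvPowerSeries.C (2⁻¹ : k) *
      (MvPowerSeries.X () + MvPowerSeries.C ξ * s (MvPowerSeries.X ())) := ⟨_, rfl⟩
  have hy0 : MvPowerSeries.constantCoeff y = 0 := by
    rw [hy, map_mul, map_add, map_mul, hs0, MvPowerSeries.constantCoeff_X, mul_zero, add_zero,
      mul_zero]
  have hy1 : MvPowerSeries.coeff (Finsupp.single () 1) y = 1 := by
    rw [hy, MvPowerSeries.coeff_C_mul, map_add, MvPowerSeries.coeff_C_mul, ← hξ, hξ2,
      MvPowerSeries.coeff_X, if_pos rfl, one_add_one_eq_two, inv_mul_cancel₀ h2]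
  have hJ : IsUnit (Matrix.det (Matrix.of fun i j : Unit =>
      MvPowerSeries.coeff (Finsupp.single j 1) ((fun _ : Unit => y) i))) := by
    rw [Matrix.det_unique]
    show IsUnit (MvPowerSeries.coeff (Finsupp.single () 1) y)
    rw [hy1]; exact isUnit_one
  obtain ⟨φ, hφ⟩ := Groth.Agent.Lib.helper20.FormalIFT.exists_algEquiv_of_jacobian
    (fun _ : Unit => y) (fun _ => hy0) hJ
  have hφ' : φ (MvPowerSeries.X ()) = y := hφ ()
  refine ⟨?_, φ, ?_, ?_⟩
  · show ξ ^ 2 = 1
    rw [pow_two]; exact hξ2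
  · show φ (MvPowerSeries.X ()) = MvPowerSeries.C (2⁻¹ : k) *
      (MvPowerSeries.X () + MvPowerSeries.C ξ * s (MvPowerSeries.X ()))
    rw [← hy]; exact hφ'
  · intro f
    let Ψ₂ : MvPowerSeries Unit k →ₐ[k] MvPowerSeries Unit k :=
      AlgHom.mk' (PowerSeries.rescale ξ) (fun c x => by
        refine PowerSeries.ext fun n => ?_
        rw [PowerSeries.coeff_rescale, map_smul, map_smul, PowerSeries.coeff_rescale, smul_eq_mul,
          smul_eq_mul, mul_left_comm])
    let Ψ₁ : MvPowerSeries Unit k →ₐ[k] MvPowerSeries Unit k :=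
      ((φ.symm : MvPowerSeries Unit k →ₐ[k] MvPowerSeries Unit k).comp s).comp
        (φ : MvPowerSeries Unit k →ₐ[k] MvPowerSeries Unit k)
    have hΨ₂X : Ψ₂ (MvPowerSeries.X ()) = MvPowerSeries.C ξ * MvPowerSeries.X () :=
      PowerSeries.rescale_X ξ
    have hσy : s y = MvPowerSeries.C ξ * y := by
      have hCC : (MvPowerSeries.C ξ * MvPowerSeries.C ξ : MvPowerSeries Unit k) = 1 := by
        rw [← map_mul, hξ2, map_one]
      rw [hy, map_mul, map_add, map_mul, Groth.Agent.Lib.helper20.FormalIFT.map_C,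
        Groth.Agent.Lib.helper20.FormalIFT.map_C, hss]
      linear_combination (-(MvPowerSeries.C (2⁻¹ : k)) * s (MvPowerSeries.X ())) * hCC
    have hΨ₁X : Ψ₁ (MvPowerSeries.X ()) = MvPowerSeries.C ξ * MvPowerSeries.X () := by
      show φ.symm (s (φ (MvPowerSeries.X ()))) = _
      rw [hφ', hσy, AlgEquiv.symm_apply_eq, map_mul, Groth.Agent.Lib.helper20.FormalIFT.map_C, hφ']
    have heq : Ψ₂ = Ψ₁ := Groth.Agent.Lib.helper20.FormalIFT.algHom_ext_of_X Ψ₂ Ψ₁
      (fun _ => by rw [hΨ₂X, map_mul, MvPowerSeries.constantCoeff_X, mul_zero])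
      (fun _ => by rw [hΨ₂X, hΨ₁X])
    have hfin := AlgHom.congr_fun heq f
    exact hfin.symm

end Groth.Agent.S14080
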