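import Groth.Statements.S14085
import Mathlib

set_option autoImplicit false
universe u
open FlatMor

namespace Groth.Agent.S14085

open TensorProduct in
/-- In a short exact sequence `0 → M → N → P → 0` with `N` and `P` flat, `M` is flat. -/
lemma flat_of_exact {R : Type u} [CommRing R] {M N P : Type u} [AddCommGroup M] [AddCommGroup N]
    [AddCommGroup P] [Module R M] [Module R N] [Module R P] [Module.Flat R N] [Module.Flat R P]
    (g : M →ₗ[R] N) (f : N →ₗ[R] P) (hg : Function.Injective g) (hf : Function.Surjective f)
    (H : Function.Exact g f) : Module.Flat R M := by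
  rw [Module.Flat.iff_rTensor_preserves_injective_linearMap]
  intro A' A _ _ _ _ u hu
  have h1 : Function.Injective (g.lTensor A') :=
    LinearMap.lTensor_injective_of_exact_of_flat f hf g hg H A'
  have h2 : Function.Injective (u.rTensor N) :=
    Module.Flat.rTensor_preserves_injective_linearMap u hu
  have h3 : (u.rTensor N).comp (g.lTensor A') = (g.lTensor A).comp (u.rTensor M) := by
    rw [LinearMap.rTensor_comp_lTensor, LinearMap.lTensor_comp_rTensor]
  have h4 : Function.Injective ((g.lTensor A).comp (u.rTensor M)) := by
    rw [← h3]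
    exact h2.comp h1
  rw [LinearMap.coe_comp] at h4
  exact Function.Injective.of_comp h4

open TensorProduct in
/-- a product of two flat modules is flat -/
lemma flat_prod {R : Type u} [CommRing R] {M N : Type u} [AddCommGroup M] [AddCommGroup N]
    [Module R M] [Module R N] [Module.Flat R M] [Module.Flat R N] : Module.Flat R (M × N) := by
  rw [Module.Flat.iff_rTensor_preserves_injective_linearMap]
  intro A' A _ _ _ _ u hu
  have h : (TensorProduct.prodRight R R A M N).toLinearMap ∘ₗ (u.rTensor (M × N)) =
      (LinearMap.prodMap (u.rTensor M) (u.rTensor N)) ∘ₗ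
        (TensorProduct.prodRight R R A' M N).toLinearMap := by
    apply TensorProduct.ext'
    intro x y
    simp
  have h1 : Function.Injective ((LinearMap.prodMap (u.rTensor M) (u.rTensor N)) ∘ₗ
        (TensorProduct.prodRight R R A' M N).toLinearMap) := by
    rw [LinearMap.coe_comp]
    refine Function.Injective.comp ?_ (LinearEquiv.injective _)
    rw [LinearMap.coe_prodMap]
    exact Function.Injective.prodMap
      (Module.Flat.rTensor_preserves_injective_linearMap u hu)
      (Module.Flat.rTensor_preserves_injective_linearMap u hu)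
  rw [← h, LinearMap.coe_comp] at h1
  exact Function.Injective.of_comp h1

section
variable (R A B : Type u) [CommRing R] [CommRing A] [CommRing B]
    [Algebra R A] [Algebra R B] (I : Ideal A)
    [Algebra B (A ⧸ I)] [IsScalarTower R B (A ⧸ I)]

/-- the fibre product ring -/
abbrev P : Subalgebra R (B × A) :=
  AlgHom.equalizer ((IsScalarTower.toAlgHom R B (A ⧸ I)).comp (AlgHom.fst R B A))
          ((Ideal.Quotient.mkₐ R I).comp (AlgHom.snd R B A))

/-- the difference map `B × A → A/I` -/
def δ : (B × A) →ₗ[R] (A ⧸ I) :=
  ((IsScalarTower.toAlgHom R B (A ⧸ I)).comp (AlgHom.fst R B A)).toLinearMap -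
    ((Ideal.Quotient.mkₐ R I).comp (AlgHom.snd R B A)).toLinearMap

lemma δ_apply (x : B × A) : δ R A B I x = algebraMap B (A ⧸ I) x.1 - Ideal.Quotient.mk I x.2 := rfl

lemma δ_surjective : Function.Surjective (δ R A B I) := by
  intro z
  obtain ⟨a, rfl⟩ := Ideal.Quotient.mk_surjective z
  exact ⟨(0, -a), by simp [δ_apply]⟩

lemma exact_P : Function.Exact (P R A B I).val.toLinearMap (δ R A B I) := by
  intro y
  constructor
  · intro h
    refine ⟨⟨y, ?_⟩, rfl⟩
    rw [δ_apply, sub_eq_zero] at h
    exact h
  · rintro ⟨⟨x, hx⟩, rfl⟩
    rw [δ_apply, sub_eq_zero]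
    exact hx

end

/-- Let R be a ring, A and B flat R-algebras, I an ideal of A and B → A/I an injective finite flat map
of R-algebras. Then the fibre product ring B ×_{A/I} A, realised as the subalgebra of B × A of pairs
with equal image in A/I, is flat over R. (This is the affine statement behind flatness over the base
of the pushout of a closed immersion along a finite flat morphism.) -/
theorem result (R A B : Type u) [CommRing R] [CommRing A] [CommRing B]
    [Algebra R A] [Algebra R B] [Module.Flat R A] [Module.Flat R B] (I : Ideal A)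
    [Algebra B (A ⧸ I)] [IsScalarTower R B (A ⧸ I)] [Module.Finite B (A ⧸ I)] [Module.Flat B (A ⧸ I)]
    (hinj : Function.Injective (algebraMap B (A ⧸ I))) :
    Module.Flat R ↥(AlgHom.equalizer ((IsScalarTower.toAlgHom R B (A ⧸ I)).comp (AlgHom.fst R B A))
          ((Ideal.Quotient.mkₐ R I).comp (AlgHom.snd R B A))) := by
  haveI : Module.Flat R (A ⧸ I) := Module.Flat.trans R B (A ⧸ I)
  haveI : Module.Flat R (B × A) := flat_prod
  exact flat_of_exact (P R A B I).val.toLinearMap (δ R A B I) Subtype.val_injective
    (δ_surjective R A B I) (exact_P R A B I)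

end Groth.Agent.S14085
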