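import Groth.Statements.S14086
import Groth.Agent.S14085
import Mathlib

set_option autoImplicit false
universe u
open FlatMor

namespace Groth.Agent.S14086

open Groth.Agent.S14085 TensorProduct

/-- a finite flat injective ring map is universally injective -/
lemma lTensor_injective_of_finite_flat {R B C : Type u} [CommRing R] [CommRing B] [CommRing C]
    [Algebra R B] [Algebra R C] [Algebra B C] [IsScalarTower R B C] [Module.Finite B C]
    [Module.Flat B C] (hinj : Function.Injective (algebraMap B C))
    (R' : Type u) [AddCommGroup R'] [Module R R'] :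
    Function.Injective ((IsScalarTower.toAlgHom R B C).toLinearMap.lTensor R') := by
  haveI : Algebra.IsIntegral B C := Algebra.IsIntegral.of_finite B C
  haveI : Module.FaithfullyFlat B C := by
    refine Module.FaithfullyFlat.of_comap_surjective fun P => ?_
    obtain ⟨Q, -, hQ₁, hQ₂⟩ := Ideal.exists_ideal_over_prime_of_isIntegral P.asIdeal (⊥ : Ideal C)
      (by
        intro x hx
        rw [Ideal.mem_comap, Ideal.mem_bot] at hx
        rw [hinj (hx.trans (map_zero _).symm)]
        exact Ideal.zero_mem _)
    exact ⟨⟨Q, hQ₁⟩, PrimeSpectrum.ext hQ₂⟩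
  rw [LinearMap.lTensor_inj_iff_rTensor_inj]
  have h1 := Module.FaithfullyFlat.tensorProduct_mk_injective (A := B) (B := C) (B ⊗[R] R')
  have h2 : (IsScalarTower.toAlgHom R B C).toLinearMap.rTensor R' =
      ((AlgebraTensorModule.cancelBaseChange R B C C R').toLinearMap.restrictScalars R) ∘ₗ
        ((TensorProduct.mk B C (B ⊗[R] R') 1).restrictScalars R) := by
    apply TensorProduct.ext'
    intro b r
    simp [Algebra.smul_def]
  rw [h2, LinearMap.coe_comp]
  exact ((AlgebraTensorModule.cancelBaseChange R B C C R').injective).comp h1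

section
variable (R A B R' : Type u) [CommRing R] [CommRing A]
    [CommRing B] [CommRing R'] [Algebra R A] [Algebra R B] [Algebra R R']
    (I : Ideal A) [Algebra B (A ⧸ I)] [IsScalarTower R B (A ⧸ I)]

lemma map_fst_eq :
    (Algebra.TensorProduct.map (AlgHom.id R' R')
      ((AlgHom.fst R B A).comp (P R A B I).val)).toLinearMap.restrictScalars R =
    (LinearMap.fst R _ _) ∘ₗ (TensorProduct.prodRight R R R' B A).toLinearMap ∘ₗ
      ((P R A B I).val.toLinearMap.lTensor R') := by
  apply TensorProduct.ext'
  intro r p
  simp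

lemma map_snd_eq :
    (Algebra.TensorProduct.map (AlgHom.id R' R')
      ((AlgHom.snd R B A).comp (P R A B I).val)).toLinearMap.restrictScalars R =
    (LinearMap.snd R _ _) ∘ₗ (TensorProduct.prodRight R R R' B A).toLinearMap ∘ₗ
      ((P R A B I).val.toLinearMap.lTensor R') := by
  apply TensorProduct.ext'
  intro r p
  simp

lemma δ_lTensor_eq :
    (δ R A B I).lTensor R' =
      ((IsScalarTower.toAlgHom R B (A ⧸ I)).toLinearMap.lTensor R') ∘ₗ (LinearMap.fst R _ _) ∘ₗ
          (TensorProduct.prodRight R R R' B A).toLinearMap -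
        ((Ideal.Quotient.mkₐ R I).toLinearMap.lTensor R') ∘ₗ (LinearMap.snd R _ _) ∘ₗ
          (TensorProduct.prodRight R R R' B A).toLinearMap := by
  apply TensorProduct.ext'
  intro r p
  simp [δ_apply, TensorProduct.tmul_sub]

end

/-- Let R be a ring, A and B flat R-algebras, I an ideal of A, B → A/I an injective finite flat map of
R-algebras and P = B ×_{A/I} A the fibre product ring (pairs in B × A with equal image in A/I). For
any R-algebra R' the base change R' ⊗_R P maps injectively to R' ⊗_R A, and any b' in R' ⊗_R B and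
a' in R' ⊗_R A with the same image in R' ⊗_R (A/I) are the two components of some element of R' ⊗_R
P; that is, R' ⊗_R P is the fibre product of R' ⊗_R B and R' ⊗_R A over R' ⊗_R (A/I). -/
theorem result (R A B R' : Type u) [CommRing R] [CommRing A]
    [CommRing B] [CommRing R'] [Algebra R A] [Algebra R B] [Algebra R R'] [Module.Flat R A] [Module.Flat R B]
    (I : Ideal A) [Algebra B (A ⧸ I)] [IsScalarTower R B (A ⧸ I)] [Module.Finite B (A ⧸ I)] [Module.Flat B (A ⧸ I)]
    (hinj : Function.Injective (algebraMap B (A ⧸ I))) :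
    Function.Injective (Algebra.TensorProduct.map (AlgHom.id R' R')
        ((AlgHom.snd R B A).comp (AlgHom.equalizer ((IsScalarTower.toAlgHom R B (A ⧸ I)).comp (AlgHom.fst R B A))
          ((Ideal.Quotient.mkₐ R I).comp (AlgHom.snd R B A))).val)) ∧
    ∀ (b : TensorProduct R R' B) (a : TensorProduct R R' A),
      Algebra.TensorProduct.map (AlgHom.id R' R') (IsScalarTower.toAlgHom R B (A ⧸ I)) b =
        Algebra.TensorProduct.map (AlgHom.id R' R') (Ideal.Quotient.mkₐ R I) a →
      ∃ x : TensorProduct R R' ↥(AlgHom.equalizer ((IsScalarTower.toAlgHom R B (A ⧸ I)).comp (AlgHom.fst R B A))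
          ((Ideal.Quotient.mkₐ R I).comp (AlgHom.snd R B A))),
        Algebra.TensorProduct.map (AlgHom.id R' R') ((AlgHom.fst R B A).comp (AlgHom.equalizer ((IsScalarTower.toAlgHom R B (A ⧸ I)).comp (AlgHom.fst R B A))
          ((Ideal.Quotient.mkₐ R I).comp (AlgHom.snd R B A))).val) x = b ∧
        Algebra.TensorProduct.map (AlgHom.id R' R') ((AlgHom.snd R B A).comp (AlgHom.equalizer ((IsScalarTower.toAlgHom R B (A ⧸ I)).comp (AlgHom.fst R B A))
          ((Ideal.Quotient.mkₐ R I).comp (AlgHom.snd R B A))).val) x = a := by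
  haveI : Module.Flat R (A ⧸ I) := Module.Flat.trans R B (A ⧸ I)
  have hex : Function.Exact ((P R A B I).val.toLinearMap.lTensor R') ((δ R A B I).lTensor R') :=
    lTensor_exact R' (exact_P R A B I) (δ_surjective R A B I)
  have hι : Function.Injective ((P R A B I).val.toLinearMap.lTensor R') :=
    LinearMap.lTensor_injective_of_exact_of_flat (δ R A B I) (δ_surjective R A B I)
      (P R A B I).val.toLinearMap Subtype.val_injective (exact_P R A B I) R'
  have hF₁ := lTensor_injective_of_finite_flat (R := R) (B := B) (C := A ⧸ I) hinj R'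
  have hfst := fun x => LinearMap.congr_fun (map_fst_eq R A B R' I) x
  have hsnd := fun x => LinearMap.congr_fun (map_snd_eq R A B R' I) x
  have hδ := fun y => LinearMap.congr_fun (δ_lTensor_eq R A B R' I) y
  simp only [LinearMap.restrictScalars_apply, AlgHom.toLinearMap_apply, LinearMap.comp_apply,
    LinearEquiv.coe_coe, LinearMap.fst_apply, LinearMap.snd_apply, LinearMap.sub_apply] at hfst hsnd hδ
  constructor
  · rw [injective_iff_map_eq_zero]
    intro x hx
    rw [hsnd] at hx
    apply hι
    rw [map_zero]
    apply (TensorProduct.prodRight R R R' B A).injective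
    rw [map_zero]
    have h0 := hex.apply_apply_eq_zero x
    rw [hδ, hx, map_zero, sub_zero] at h0
    have hb := hF₁ (h0.trans (map_zero _).symm)
    exact Prod.ext hb hx
  · intro b a hab
    have hy : (δ R A B I).lTensor R' ((TensorProduct.prodRight R R R' B A).symm (b, a)) = 0 := by
      rw [hδ, LinearEquiv.apply_symm_apply, sub_eq_zero]
      exact hab
    obtain ⟨x, hx⟩ := (hex _).mp hy
    refine ⟨x, ?_, ?_⟩
    · rw [hfst, hx, LinearEquiv.apply_symm_apply]
    · rw [hsnd, hx, LinearEquiv.apply_symm_apply]

end Groth.Agent.S14086
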