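import Groth.Statements.S14087
import Mathlib

set_option autoImplicit false
universe u
open ArSing

namespace Groth.Agent.S14087aux
open Polynomial

variable (k : Type u) [Field k] (n : ℕ)

/-- the truncated polynomial ring -/
abbrev B := Polynomial k ⧸ Ideal.span {(X : Polynomial k) ^ n}

/-- the class of X -/
noncomputable def t : B k n := Ideal.Quotient.mk _ X

/-- evaluation at 0 -/
noncomputable def ε (hn : 0 < n) : B k n →ₐ[k] k :=
  Ideal.Quotient.liftₐ _ (aeval (0 : k)) (by
    intro p hp
    rw [Ideal.mem_span_singleton] at hp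
    obtain ⟨c, rfl⟩ := hp
    simp [hn.ne'])

lemma ε_mk (hn : 0 < n) (p : Polynomial k) : ε k n hn (Ideal.Quotient.mk _ p) = p.coeff 0 := by
  unfold ε
  rw [Ideal.Quotient.liftₐ_apply, Ideal.Quotient.lift_mk]
  simp [coeff_zero_eq_aeval_zero]

lemma t_pow_eq_zero_iff (j : ℕ) : (t k n) ^ j = 0 ↔ n ≤ j := by
  unfold t
  rw [← map_pow, Ideal.Quotient.eq_zero_iff_mem, Ideal.mem_span_singleton,
    pow_dvd_pow_iff X_ne_zero not_isUnit_X]

lemma nilp (hn : 0 < n) (b : B k n) (hb : ε k n hn b = 0) : b ^ n = 0 := by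
  obtain ⟨p, rfl⟩ := Ideal.Quotient.mk_surjective b
  rw [ε_mk] at hb
  have hX : X ∣ p := X_dvd_iff.mpr hb
  obtain ⟨p', rfl⟩ := hX
  rw [← map_pow, Ideal.Quotient.eq_zero_iff_mem, Ideal.mem_span_singleton, mul_pow]
  exact Dvd.intro _ rfl

lemma unit_of_ε (hn : 0 < n) (b : B k n) (hb : ε k n hn b ≠ 0) : IsUnit b := by
  have h1 : IsUnit (algebraMap k (B k n) (ε k n hn b)) := (IsUnit.mk0 _ hb).map _
  have h2 : IsNilpotent (b - algebraMap k (B k n) (ε k n hn b)) :=
    ⟨n, nilp k n hn _ (by rw [map_sub, AlgHom.commutes]; simp)⟩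
  have := h2.isUnit_add_left_of_commute h1 (Commute.all _ _)
  simpa using this

lemma ideal_eq (I : Ideal (B k n)) : ∃ i ≤ n, I = Ideal.span {(t k n) ^ i} := by
  set J := I.comap (Ideal.Quotient.mk (Ideal.span {(X : Polynomial k) ^ n})) with hJ
  have hprin : J.IsPrincipal := IsPrincipalIdealRing.principal J
  obtain ⟨g, hg⟩ := hprin
  have hXn : (X : Polynomial k) ^ n ∈ J := by
    rw [hJ, Ideal.mem_comap]
    have : Ideal.Quotient.mk (Ideal.span {(X : Polynomial k) ^ n}) (X ^ n) = 0 := by
      rw [Ideal.Quotient.eq_zero_iff_mem]; exact Ideal.subset_span rfl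
    rw [this]; exact I.zero_mem
  have hg' : J = Ideal.span {g} := hg
  rw [hg', Ideal.mem_span_singleton] at hXn
  obtain ⟨i, hi, hassoc⟩ := (dvd_prime_pow prime_X n).mp hXn
  refine ⟨i, hi, ?_⟩
  have h1 : I = J.map (Ideal.Quotient.mk (Ideal.span {(X : Polynomial k) ^ n})) := by
    rw [hJ, Ideal.map_comap_of_surjective _ Ideal.Quotient.mk_surjective]
  rw [h1, hg', Ideal.span_singleton_eq_span_singleton.mpr hassoc, Ideal.map_span,
    Set.image_singleton, map_pow]
  rfl


attribute [local instance] Ideal.Quotient.field in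
lemma abstract_dim {k : Type*} {A : Type*} {B : Type*} [Field k] [CommRing A] [CommRing B]
    [Algebra k A] [Algebra A B]
    [Algebra k B] [IsScalarTower k A B] [IsLocalRing A] [Module.Finite A B] [Module.Free A B]
    (h1 : Module.finrank k (A ⧸ IsLocalRing.maximalIdeal A) = 1) :
    Module.finrank k A *
      Module.finrank k (B ⧸ Ideal.map (algebraMap A B) (IsLocalRing.maximalIdeal A)) =
      Module.finrank k B := by
  have h3 := IsLocalRing.finrank_quotient_map (R := A) (S := B)
  have : IsScalarTower k (A ⧸ IsLocalRing.maximalIdeal A)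
      (B ⧸ Ideal.map (algebraMap A B) (IsLocalRing.maximalIdeal A)) :=
    IsScalarTower.of_algebraMap_eq (R := k) (S := A ⧸ IsLocalRing.maximalIdeal A)
      (A := B ⧸ Ideal.map (algebraMap A B) (IsLocalRing.maximalIdeal A))
      (fun x => by
        change Ideal.Quotient.mk _ (algebraMap k B x) =
          Ideal.Quotient.mk _ (algebraMap A B (algebraMap k A x))
        rw [← IsScalarTower.algebraMap_apply])
  have h4 := Module.finrank_mul_finrank k (A ⧸ IsLocalRing.maximalIdeal A)
      (B ⧸ Ideal.map (algebraMap A B) (IsLocalRing.maximalIdeal A))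
  rw [h1, one_mul, h3] at h4
  rw [← h4]
  exact Module.finrank_mul_finrank k A B

section sub
variable {k n}
variable (A : Subalgebra k (B k n))

instance B_finite : Module.Finite k (B k n) := (monic_X_pow n).finite_quotient

lemma B_nontrivial (hn : 0 < n) : Nontrivial (B k n) :=
  (ε k n hn).toRingHom.domain_nontrivial

lemma A_nontrivial (hn : 0 < n) : Nontrivial A := by
  have := B_nontrivial (k := k) hn
  exact nontrivial_of_ne (0 : A) 1 (fun h => zero_ne_one (congrArg Subtype.val h))

instance A_finite : Module.Finite k A :=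
  Module.Finite.of_injective A.val.toLinearMap Subtype.val_injective

lemma A_unit (hn : 0 < n) (a : A) (ha : ε k n hn (a : B k n) ≠ 0) : IsUnit a := by
  have : IsArtinianRing A := IsArtinianRing.of_finite k A
  apply IsArtinianRing.isUnit_of_mem_nonZeroDivisors
  exact mem_nonZeroDivisors_of_injective (f := A.val) Subtype.val_injective
    (unit_of_ε k n hn _ ha).mem_nonZeroDivisors

lemma A_local (hn : 0 < n) : IsLocalRing A := by
  have := A_nontrivial A hn
  apply IsLocalRing.of_isUnit_or_isUnit_one_sub_self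
  intro a
  by_cases ha : ε k n hn (a : B k n) = 0
  · right
    apply A_unit A hn
    simp [ha]
  · left
    exact A_unit A hn a ha

lemma A_not_unit (hn : 0 < n) (a : A) (ha : ε k n hn (a : B k n) = 0) : ¬ IsUnit a := by
  have := A_nontrivial A hn
  intro hu
  have h1 : (a : B k n) ^ n = 0 := nilp k n hn _ ha
  have h2 : a ^ n = 0 := Subtype.ext (by simpa using h1)
  have : IsUnit (a ^ n) := hu.pow n
  rw [h2] at this
  exact not_isUnit_zero this

lemma mem_max_iff (hn : 0 < n) [IsLocalRing A] (a : A) :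
    a ∈ IsLocalRing.maximalIdeal A ↔ ε k n hn (a : B k n) = 0 := by
  rw [IsLocalRing.mem_maximalIdeal, mem_nonunits_iff]
  constructor
  · intro h
    by_contra hne
    exact h (A_unit A hn a hne)
  · exact A_not_unit A hn a


lemma ε_t (hn : 0 < n) : ε k n hn (t k n) = 0 := by
  unfold t
  rw [ε_mk]; simp

lemma exists_gen (hn : 0 < n) [IsLocalRing A] :
    ∃ e ≤ n, ∃ a ∈ IsLocalRing.maximalIdeal A,
      Ideal.map (algebraMap A (B k n)) (IsLocalRing.maximalIdeal A) = Ideal.span {(t k n) ^ e} ∧
      Ideal.span {(a : B k n)} = Ideal.span {(t k n) ^ e} := by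
  obtain ⟨e, he, hpS⟩ := ideal_eq k n
    (Ideal.map (algebraMap A (B k n)) (IsLocalRing.maximalIdeal A))
  by_cases hall : ∀ a ∈ IsLocalRing.maximalIdeal A, (a : B k n) ∈ Ideal.span {(t k n) ^ (e + 1)}
  · have hle : Ideal.map (algebraMap A (B k n)) (IsLocalRing.maximalIdeal A) ≤
        Ideal.span {(t k n) ^ (e + 1)} :=
      Ideal.map_le_iff_le_comap.mpr (fun a ha => hall a ha)
    rw [hpS, Ideal.span_singleton_le_span_singleton] at hle
    obtain ⟨c, hc⟩ := hle
    have h1 : (t k n) ^ e * (1 - t k n * c) = 0 := by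
      rw [mul_sub, mul_one, sub_eq_zero]
      conv_lhs => rw [hc]
      ring
    have hu : IsUnit (1 - t k n * c) := by
      apply unit_of_ε k n hn
      rw [map_sub, map_one, map_mul, ε_t, zero_mul, sub_zero]
      exact one_ne_zero
    have h2 : (t k n) ^ e = 0 := by
      rwa [hu.mul_left_eq_zero] at h1
    refine ⟨e, he, 0, Ideal.zero_mem _, hpS, ?_⟩
    rw [h2]
    simp
  · push Not at hall
    obtain ⟨a, ha, hnot⟩ := hall
    obtain ⟨i, hi, hai⟩ := ideal_eq k n (Ideal.span {(a : B k n)})
    have hale : Ideal.span {(a : B k n)} ≤ Ideal.span {(t k n) ^ e} := by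
      rw [← hpS, Ideal.span_singleton_le_iff_mem]
      exact Ideal.mem_map_of_mem _ ha
    have hie : i ≤ e := by
      by_contra hcon
      push Not at hcon
      apply hnot
      have : Ideal.span {(t k n) ^ i} ≤ Ideal.span {(t k n) ^ (e + 1)} :=
        Ideal.span_singleton_le_span_singleton.mpr (pow_dvd_pow _ hcon)
      apply this
      rw [← hai]
      exact Ideal.subset_span rfl
    refine ⟨e, he, a, ha, hpS, le_antisymm hale ?_⟩
    rw [hai]
    exact Ideal.span_singleton_le_span_singleton.mpr (pow_dvd_pow _ hie)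

lemma finrank_quot (e : ℕ) (he : e ≤ n) :
    Module.finrank k (B k n ⧸ Ideal.span {(t k n) ^ e}) = e := by
  have h1 : Ideal.map (Ideal.Quotient.mkₐ k (Ideal.span {(X : Polynomial k) ^ n}))
      (Ideal.span {(X : Polynomial k) ^ e}) = Ideal.span {(t k n) ^ e} := by
    rw [Ideal.map_span, Set.image_singleton, map_pow]
    rfl
  have h2 : Ideal.span {(X : Polynomial k) ^ n} ⊔ Ideal.span {(X : Polynomial k) ^ e} =
      Ideal.span {(X : Polynomial k) ^ e} :=
    sup_eq_right.mpr (Ideal.span_singleton_le_span_singleton.mpr (pow_dvd_pow _ he))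
  have e1 := DoubleQuot.quotQuotEquivQuotSupₐ k (Ideal.span {(X : Polynomial k) ^ n})
    (Ideal.span {(X : Polynomial k) ^ e})
  have e2 := Ideal.quotientEquivAlgOfEq k h2
  have e3 := Ideal.quotientEquivAlgOfEq k h1
  rw [← (e3.toLinearEquiv).finrank_eq, (e1.toLinearEquiv).finrank_eq,
    (e2.toLinearEquiv).finrank_eq, finrank_quotient_span_eq_natDegree, natDegree_X_pow]


attribute [local instance] Ideal.Quotient.field in
lemma finrank_res (hn : 0 < n) [IsLocalRing A] :
    Module.finrank k (A ⧸ IsLocalRing.maximalIdeal A) = 1 := by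
  rw [finrank_eq_one_iff_of_nonzero' (1 : A ⧸ IsLocalRing.maximalIdeal A) one_ne_zero]
  intro w
  obtain ⟨a, rfl⟩ := Ideal.Quotient.mk_surjective w
  refine ⟨ε k n hn (a : B k n), ?_⟩
  have h1 : (ε k n hn (a : B k n)) • (1 : A ⧸ IsLocalRing.maximalIdeal A) =
      Ideal.Quotient.mk _ (algebraMap k A (ε k n hn (a : B k n))) := by
    rw [Algebra.smul_def, mul_one]
    rfl
  rw [h1, eq_comm, Ideal.Quotient.eq, mem_max_iff A hn]
  simp

lemma dim_eq (hn : 0 < n) [IsLocalRing A] [Module.Flat A (B k n)] (e : ℕ) (he : e ≤ n)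
    (hpS : Ideal.map (algebraMap A (B k n)) (IsLocalRing.maximalIdeal A) =
      Ideal.span {(t k n) ^ e}) :
    Module.finrank k A * e = n := by
  have : Module.Finite A (B k n) := Module.Finite.of_restrictScalars_finite k A (B k n)
  have : Module.Free A (B k n) := Module.free_of_flat_of_isLocalRing
  have h1 := abstract_dim (k := k) (A := A) (B := B k n) (finrank_res A hn)
  have h2 : Module.finrank k (B k n) = n := by
    rw [finrank_quotient_span_eq_natDegree, natDegree_X_pow]
  have h5 : Module.finrank k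
      (B k n ⧸ Ideal.map (algebraMap A (B k n)) (IsLocalRing.maximalIdeal A)) = e := by
    rw [hpS]
    exact finrank_quot e he
  rw [h5, h2] at h1
  exact h1

end sub


theorem main (k : Type u) [Field k] (n : ℕ) (hn : 0 < n) (A : Subalgebra k (B k n))
    [Module.Flat A (B k n)] :
    ∃ m : ℕ, Nonempty (A ≃ₐ[k] (Polynomial k ⧸ Ideal.span {(X : Polynomial k) ^ m})) := by
  classical
  have := A_local A hn
  obtain ⟨e, he, a, ha, hpS, hspan⟩ := exists_gen A hn
  have hdim := dim_eq A hn e he hpS
  set m := Module.finrank k A with hm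
  have he0 : 0 < e := by
    rcases Nat.eq_zero_or_pos e with h | h
    · subst h; omega
    · exact h
  have hpow : ∀ i, (a : B k n) ^ i = 0 ↔ n ≤ e * i := by
    intro i
    have : Ideal.span {(a : B k n) ^ i} = Ideal.span {(t k n) ^ (e * i)} := by
      calc Ideal.span {(a : B k n) ^ i} = (Ideal.span {(a : B k n)}) ^ i :=
            (Ideal.span_singleton_pow _ _).symm
        _ = (Ideal.span {(t k n) ^ e}) ^ i := by rw [hspan]
        _ = Ideal.span {((t k n) ^ e) ^ i} := Ideal.span_singleton_pow _ _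
        _ = Ideal.span {(t k n) ^ (e * i)} := by rw [pow_mul]
    rw [← t_pow_eq_zero_iff k n, ← Ideal.span_singleton_eq_bot (x := (a : B k n) ^ i), this,
      Ideal.span_singleton_eq_bot]
  let φ : Polynomial k →ₐ[k] A := aeval a
  have ham : a ^ m = 0 := Subtype.ext (by
    push_cast
    rw [hpow, ← hdim]
    exact le_of_eq (mul_comm _ _))
  have hφ : ∀ p ∈ Ideal.span {(X : Polynomial k) ^ m}, φ p = 0 := by
    intro p hp
    rw [Ideal.mem_span_singleton] at hp
    obtain ⟨c, rfl⟩ := hp
    simp [φ, ham]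
  let ψ := Ideal.Quotient.liftₐ (Ideal.span {(X : Polynomial k) ^ m}) φ hφ
  have hinj : Function.Injective ψ := by
    rw [injective_iff_map_eq_zero]
    intro x hx
    obtain ⟨p, rfl⟩ := Ideal.Quotient.mk_surjective x
    have hx' : φ p = 0 := by simpa [ψ] using hx
    rw [Ideal.Quotient.eq_zero_iff_mem, Ideal.mem_span_singleton, X_pow_dvd_iff]
    by_contra hcon
    push Not at hcon
    have hP : ∃ d, d < m ∧ p.coeff d ≠ 0 := hcon
    obtain ⟨hdm, hdne⟩ := Nat.find_spec hP
    have hmin : ∀ d' < Nat.find hP, p.coeff d' = 0 := by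
      intro d' hd'
      by_contra h
      exact Nat.find_min hP hd' ⟨lt_trans hd' hdm, h⟩
    obtain ⟨p', hp'⟩ := X_pow_dvd_iff.mpr hmin
    have hc0 : p'.coeff 0 ≠ 0 := by
      have := coeff_X_pow_mul p' (Nat.find hP) 0
      rw [zero_add, ← hp'] at this
      rwa [← this]
    have h1 : (a : B k n) ^ (Nat.find hP) * ((φ p' : A) : B k n) = 0 := by
      have := congrArg (Subtype.val) hx'
      rw [hp', map_mul, map_pow] at this
      simpa [φ] using this
    have hu : IsUnit ((φ p' : A) : B k n) := by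
      apply unit_of_ε k n hn
      have h2 : ε k n hn ((φ p' : A) : B k n) = aeval (ε k n hn (a : B k n)) p' := by
        have := aeval_algHom_apply ((ε k n hn).comp A.val) a p'
        simpa [φ] using this.symm
      rw [h2, (mem_max_iff A hn a).mp ha, ← coeff_zero_eq_aeval_zero]
      exact hc0
    have h3 : (a : B k n) ^ (Nat.find hP) = 0 := by rwa [hu.mul_left_eq_zero] at h1
    rw [hpow] at h3
    nlinarith
  have hfin : Module.finrank k (Polynomial k ⧸ Ideal.span {(X : Polynomial k) ^ m}) =
      Module.finrank k A := by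
    rw [finrank_quotient_span_eq_natDegree, natDegree_X_pow]
  have : Module.Finite k (Polynomial k ⧸ Ideal.span {(X : Polynomial k) ^ m}) :=
    (monic_X_pow m).finite_quotient
  have hsurj : Function.Surjective ψ :=
    (LinearMap.injective_iff_surjective_of_finrank_eq_finrank hfin (f := ψ.toLinearMap)).mp hinj
  exact ⟨m, ⟨(AlgEquiv.ofBijective ψ ⟨hinj, hsurj⟩).symm⟩⟩

end Groth.Agent.S14087aux

namespace Groth.Agent.S14087

open Polynomial in
/-- Over an algebraically closed field k, if B = k[t]/(t^n) with n ≥ 1 is flat over a k-subalgebra A ⊆ B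
(a finite flat extension of pointed finite algebras with curvilinear top), then A is curvilinear
too: A is isomorphic as a k-algebra to k[t]/(t^m) for some m. -/
theorem result (k : Type u) [Field k] [IsAlgClosed k]
    (n : ℕ) (hn : 0 < n)
    (A : Subalgebra k (Polynomial k ⧸ Ideal.span {(X : Polynomial k) ^ n}))
    [Module.Flat A (Polynomial k ⧸ Ideal.span {(X : Polynomial k) ^ n})] :
    ∃ m : ℕ, Nonempty (A ≃ₐ[k] (Polynomial k ⧸ Ideal.span {(X : Polynomial k) ^ m})) := by
  exact Groth.Agent.S14087aux.main k n hn A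

end Groth.Agent.S14087
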