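import Groth.Statements.S1409
import Mathlib
-- import your own Groth.Agent.* helpers here

set_option autoImplicit false
universe u
open FlatMor

namespace Groth.Agent.S1409

/-- Elements of a minimal prime are nilpotent up to an element outside. -/
theorem exists_mul_pow_eq_zero_of_mem_minimalPrimes {R : Type u} [CommRing R] {q : Ideal R}
    (hq : q ∈ minimalPrimes R) {x : R} (hx : x ∈ q) : ∃ s ∉ q, ∃ n : ℕ, s * x ^ n = 0 := by
  have hqp : q.IsPrime := hq.1.1
  have h1 := IsLocalization.AtPrime.radical_map_of_mem_minimalPrimes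
    (A := Localization.AtPrime q) q ⊥ hq
  have h2 : algebraMap R (Localization.AtPrime q) x ∈
      ((⊥ : Ideal R).map (algebraMap R (Localization.AtPrime q))).radical := by
    rw [h1]; exact Ideal.mem_map_of_mem _ hx
  rw [Ideal.map_bot] at h2
  obtain ⟨n, hn⟩ := h2
  rw [Ideal.mem_bot, ← map_pow, IsLocalization.map_eq_zero_iff q.primeCompl] at hn
  obtain ⟨s, hs⟩ := hn
  exact ⟨s.1, s.2, n, hs⟩

theorem comap_of_mem_minimalPrimes {ι : Type u} [Preorder ι] [IsDirected ι (· ≤ ·)] [Nonempty ι]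
    (G : ι → Type u) [∀ i, CommRing (G i)]
    (f : ∀ i j, i ≤ j → G i →+* G j) [DirectedSystem G fun i j h => f i j h]
    (hf : ∀ i j (h : i ≤ j), letI := (f i j h).toAlgebra
      Module.FaithfullyFlat (G i) (G j))
    (q : Ideal (Ring.DirectLimit G fun i j h => ⇑(f i j h)))
    (hq : q ∈ minimalPrimes (Ring.DirectLimit G fun i j h => ⇑(f i j h))) (j : ι) :
    q.comap (Ring.DirectLimit.of G (fun i j h => ⇑(f i j h)) j) ∈ minimalPrimes (G j) := by
  have hqp : q.IsPrime := hq.1.1
  have hinj : ∀ i j hij, Function.Injective (f i j hij) := by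
    intro i j hij
    let _ := (f i j hij).toAlgebra
    have := hf i j hij
    exact FaithfulSMul.algebraMap_injective (G i) (G j)
  have hofinj := Ring.DirectLimit.of_injective (G := G) f hinj
  refine ⟨⟨Ideal.comap_isPrime _ q, bot_le⟩, ?_⟩
  rintro p' ⟨hp', -⟩ hle t ht
  -- t ∈ comap q, show t ∈ p'
  obtain ⟨s, hs, n, hsn⟩ := exists_mul_pow_eq_zero_of_mem_minimalPrimes hq ht
  obtain ⟨k₀, s₀, rfl⟩ := Ring.DirectLimit.exists_of s
  obtain ⟨k, hjk, hk₀k⟩ := exists_ge_ge j k₀
  set sk : G k := f k₀ k hk₀k s₀ with hsk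
  have hsk' : Ring.DirectLimit.of G (fun i j h => ⇑(f i j h)) k sk =
      Ring.DirectLimit.of G (fun i j h => ⇑(f i j h)) k₀ s₀ := Ring.DirectLimit.of_f _ _
  have hzero : sk * (f j k hjk t) ^ n = 0 := by
    apply hofinj k
    rw [map_mul, map_pow, map_zero, hsk', Ring.DirectLimit.of_f]
    exact hsn
  let _ := (f j k hjk).toAlgebra
  have hff := hf j k hjk
  have hgd : Algebra.HasGoingDown (G j) (G k) := inferInstance
  let pk : Ideal (G k) := q.comap (Ring.DirectLimit.of G (fun i j h => ⇑(f i j h)) k)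
  have hpk : pk.IsPrime := Ideal.comap_isPrime _ q
  have hover : pk.LiesOver (q.comap (Ring.DirectLimit.of G (fun i j h => ⇑(f i j h)) j)) := by
    constructor
    ext y
    simp only [Ideal.mem_comap, Ideal.under, pk]
    change _ ↔ Ring.DirectLimit.of G (fun i j h => ⇑(f i j h)) k (f j k hjk y) ∈ q
    rw [Ring.DirectLimit.of_f]
  have hqjp : (q.comap (Ring.DirectLimit.of G (fun i j h => ⇑(f i j h)) j)).IsPrime :=
    Ideal.comap_isPrime _ q
  obtain ⟨P, hPle, hPp, hPover⟩ := Ideal.exists_ideal_le_liesOver_of_le (p := p')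
    (q := q.comap (Ring.DirectLimit.of G (fun i j h => ⇑(f i j h)) j)) pk hle
  have hskP : sk ∉ P := by
    intro h
    have : sk ∈ pk := hPle h
    simp only [pk, Ideal.mem_comap, hsk'] at this
    exact hs this
  have h0 : sk * (f j k hjk t) ^ n ∈ P := by rw [hzero]; exact P.zero_mem
  have h1 : (f j k hjk t) ^ n ∈ P := (hPp.mem_or_mem h0).resolve_left hskP
  have h2 : f j k hjk t ∈ P := hPp.mem_of_pow_mem n h1
  rw [hPover.over]
  exact h2

section
variable {ι : Type u} [Preorder ι] [IsDirected ι (· ≤ ·)] [Nonempty ι]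
    (G : ι → Type u) [∀ i, CommRing (G i)]
    (f : ∀ i j, i ≤ j → G i →+* G j) [DirectedSystem G fun i j h => f i j h]

theorem comap_of_comap {k j : ι} (hkj : k ≤ j)
    (a : Ideal (Ring.DirectLimit G fun i j h => ⇑(f i j h))) :
    (a.comap (Ring.DirectLimit.of G (fun i j h => ⇑(f i j h)) j)).comap (f k j hkj) =
      a.comap (Ring.DirectLimit.of G (fun i j h => ⇑(f i j h)) k) := by
  ext y
  simp only [Ideal.mem_comap]
  rw [Ring.DirectLimit.of_f]

theorem sep_mono {k j : ι} (hkj : k ≤ j)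
    (a b : Ideal (Ring.DirectLimit G fun i j h => ⇑(f i j h)))
    (h : a.comap (Ring.DirectLimit.of G (fun i j h => ⇑(f i j h)) k) ≠
      b.comap (Ring.DirectLimit.of G (fun i j h => ⇑(f i j h)) k)) :
    a.comap (Ring.DirectLimit.of G (fun i j h => ⇑(f i j h)) j) ≠
      b.comap (Ring.DirectLimit.of G (fun i j h => ⇑(f i j h)) j) := by
  intro h'
  apply h
  rw [← comap_of_comap G f hkj a, ← comap_of_comap G f hkj b, h']

theorem sep_exists (a b : Ideal (Ring.DirectLimit G fun i j h => ⇑(f i j h)))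
    (ha : a ∈ minimalPrimes (Ring.DirectLimit G fun i j h => ⇑(f i j h)))
    (hb : b ∈ minimalPrimes (Ring.DirectLimit G fun i j h => ⇑(f i j h))) (hab : a ≠ b) :
    ∃ k, a.comap (Ring.DirectLimit.of G (fun i j h => ⇑(f i j h)) k) ≠
      b.comap (Ring.DirectLimit.of G (fun i j h => ⇑(f i j h)) k) := by
  have hnle : ¬ a ≤ b := by
    intro hle
    exact hab (le_antisymm hle (hb.2 ha.1 hle))
  obtain ⟨x, hxa, hxb⟩ := Set.not_subset.mp hnle
  obtain ⟨k, xk, rfl⟩ := Ring.DirectLimit.exists_of x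
  refine ⟨k, fun h ↦ hxb ?_⟩
  have : xk ∈ a.comap (Ring.DirectLimit.of G (fun i j h => ⇑(f i j h)) k) := hxa
  rw [h] at this
  exact this

theorem exists_injOn (T : Finset (Ideal (Ring.DirectLimit G fun i j h => ⇑(f i j h))))
    (hT : ∀ a ∈ T, a ∈ minimalPrimes (Ring.DirectLimit G fun i j h => ⇑(f i j h))) :
    ∃ j, Set.InjOn (fun a : Ideal (Ring.DirectLimit G fun i j h => ⇑(f i j h)) ↦
      a.comap (Ring.DirectLimit.of G (fun i j h => ⇑(f i j h)) j)) (T : Set _) := by
  classical
  let K : Ideal (Ring.DirectLimit G fun i j h => ⇑(f i j h)) ×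
      Ideal (Ring.DirectLimit G fun i j h => ⇑(f i j h)) → ι := fun ab ↦
    if h : ab.1 ∈ minimalPrimes (Ring.DirectLimit G fun i j h => ⇑(f i j h)) ∧
        ab.2 ∈ minimalPrimes (Ring.DirectLimit G fun i j h => ⇑(f i j h)) ∧ ab.1 ≠ ab.2 then
      (sep_exists G f ab.1 ab.2 h.1 h.2.1 h.2.2).choose
    else Classical.arbitrary ι
  obtain ⟨j, hj⟩ := Finset.exists_le ((T ×ˢ T).image K)
  refine ⟨j, fun a ha b hb hab ↦ ?_⟩
  by_contra hne
  have hcond : (a, b).1 ∈ minimalPrimes (Ring.DirectLimit G fun i j h => ⇑(f i j h)) ∧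
      (a, b).2 ∈ minimalPrimes (Ring.DirectLimit G fun i j h => ⇑(f i j h)) ∧ (a, b).1 ≠ (a, b).2 :=
    ⟨hT a ha, hT b hb, hne⟩
  have hK : K (a, b) = (sep_exists G f a b hcond.1 hcond.2.1 hcond.2.2).choose := by
    simp only [K]
    rw [dif_pos hcond]
  have hle : K (a, b) ≤ j := hj _ (Finset.mem_image_of_mem K (Finset.mk_mem_product ha hb))
  have hsep := (sep_exists G f a b hcond.1 hcond.2.1 hcond.2.2).choose_spec
  rw [← hK] at hsep
  exact sep_mono G f hle a b hsep hab
end

/-- Let (R_i) be a directed system of commutative rings whose transition maps are faithfully flat, with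
colimit R. Then, counting in the extended natural numbers, the minimal primes of R are exactly as
numerous as the supremum over i of the count of minimal primes of R_i. -/
theorem result {ι : Type u} [Preorder ι] [IsDirected ι (· ≤ ·)] [Nonempty ι] (G : ι → Type u) [∀ i, CommRing (G i)]
    (f : ∀ i j, i ≤ j → G i →+* G j) [DirectedSystem G fun i j h => f i j h]
    (hf : ∀ i j (h : i ≤ j), letI := (f i j h).toAlgebra
      Module.FaithfullyFlat (G i) (G j)) :
    (minimalPrimes (Ring.DirectLimit G fun i j h => ⇑(f i j h))).encard = ⨆ i, (minimalPrimes (G i)).encard := by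
  have hinj : ∀ i j hij, Function.Injective (f i j hij) := by
    intro i j hij
    let _ := (f i j hij).toAlgebra
    have := hf i j hij
    exact FaithfulSMul.algebraMap_injective (G i) (G j)
  have hofinj := Ring.DirectLimit.of_injective (G := G) f hinj
  apply le_antisymm
  · by_contra hlt
    rw [not_le] at hlt
    have hne : (⨆ i, (minimalPrimes (G i)).encard) ≠ ⊤ := ne_top_of_lt hlt
    obtain ⟨N, hN⟩ : ∃ N : ℕ, (⨆ i, (minimalPrimes (G i)).encard) = N :=
      ⟨_, (ENat.coe_toNat hne).symm⟩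
    have hle : ((N + 1 : ℕ) : ℕ∞) ≤
        (minimalPrimes (Ring.DirectLimit G fun i j h => ⇑(f i j h))).encard := by
      rw [hN] at hlt
      exact Order.add_one_le_of_lt hlt
    obtain ⟨t, hts, htc⟩ := Set.exists_subset_encard_eq hle
    have htf : t.Finite := Set.finite_of_encard_eq_coe htc
    obtain ⟨j, hj⟩ := exists_injOn G f htf.toFinset (fun a ha ↦ hts (htf.mem_toFinset.mp ha))
    rw [Set.Finite.coe_toFinset] at hj
    have h1 : t.encard ≤ (minimalPrimes (G j)).encard :=
      Set.encard_le_encard_of_injOn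
        (fun a ha ↦ comap_of_mem_minimalPrimes G f hf a (hts ha) j) hj
    have h2 : ((N + 1 : ℕ) : ℕ∞) ≤ (N : ℕ∞) := by
      rw [← htc, ← hN]
      exact h1.trans (le_iSup (fun i ↦ (minimalPrimes (G i)).encard) j)
    have h3 : N + 1 ≤ N := by exact_mod_cast h2
    omega
  · apply iSup_le
    intro i
    have hex : ∀ p ∈ minimalPrimes (G i),
        ∃ q ∈ minimalPrimes (Ring.DirectLimit G fun i j h => ⇑(f i j h)),
          q.comap (Ring.DirectLimit.of G (fun i j h => ⇑(f i j h)) i) = p := by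
      intro p hp
      obtain ⟨p', hp'prime, hp'⟩ :=
        Ideal.exists_comap_eq_of_mem_minimalPrimes_of_injective (hofinj i) p hp
      obtain ⟨q, hq, hqle⟩ := Ideal.exists_minimalPrimes_le (bot_le : ⊥ ≤ p')
      refine ⟨q, hq, ?_⟩
      have hqp : q.IsPrime := hq.1.1
      have h1 : q.comap (Ring.DirectLimit.of G (fun i j h => ⇑(f i j h)) i) ≤ p := by
        rw [← hp']; exact Ideal.comap_mono hqle
      exact le_antisymm h1 (hp.2 ⟨Ideal.comap_isPrime _ q, bot_le⟩ h1)
    choose! F hF1 hF2 using hex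
    refine Set.encard_le_encard_of_injOn (f := F) (fun p hp ↦ hF1 p hp) ?_
    intro p₁ hp₁ p₂ hp₂ h12
    rw [← hF2 p₁ hp₁, ← hF2 p₂ hp₂, h12]

end Groth.Agent.S1409
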