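import Groth.Statements.S14090
import Mathlib
import Groth.Agent.Lib.helper22.BlowUpU
import Groth.Agent.Lib.helper22.BlowUpAff

set_option autoImplicit false
universe u
open CategoryTheory AlgebraicGeometry
open BlowUp

namespace Groth.Agent.S14090

section Helpers

open Groth.Agent.H22.CartierFlat Groth.Agent.H22.BlowUpU TopologicalSpace

theorem main (A B : Type u) [CommRing A] [CommRing B] [Algebra A B]
    (hinj : Function.Injective (algebraMap A B)) (I : Ideal A)
    (hIB : (Ideal.map (algebraMap A B) I : Set B) ⊆ algebraMap A B '' (I : Set A)) (f : B)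
    (hf : f ∈ nonZeroDivisors B) (hgen : Ideal.map (algebraMap A B) I = Ideal.span {f}) :
    BlowUp.IsBlowUp (Spec.map (CommRingCat.ofHom (algebraMap A B))) (Curv2.idealSheaf A I) := by
  have hex : ∀ b : B, ∃ a : A, a ∈ I ∧ algebraMap A B a = f * b := by
    intro b
    have h1 : f * b ∈ Ideal.map (algebraMap A B) I := by
      rw [hgen]; exact Ideal.mem_span_singleton'.mpr ⟨b, mul_comm _ _⟩
    obtain ⟨a, ha, hab⟩ := hIB h1
    exact ⟨a, ha, hab⟩
  choose a_ ha_I ha_eq using hex
  have ha₁f : algebraMap A B (a_ 1) = f := by rw [ha_eq, mul_one]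
  have hsq : I * I ≤ Ideal.span {a_ 1} * I := by
    rw [Ideal.mul_le]
    intro r hr s hs
    have hr' : algebraMap A B r ∈ Ideal.span {f} := hgen ▸ Ideal.mem_map_of_mem _ hr
    have hs' : algebraMap A B s ∈ Ideal.span {f} := hgen ▸ Ideal.mem_map_of_mem _ hs
    obtain ⟨br, hbr⟩ := Ideal.mem_span_singleton'.mp hr'
    obtain ⟨bs, hbs⟩ := Ideal.mem_span_singleton'.mp hs'
    have h1 : r * s = a_ 1 * a_ (br * bs) := by
      apply hinj
      rw [map_mul, map_mul, ha₁f, ha_eq, ← hbr, ← hbs]; ring
    rw [h1]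
    exact Ideal.mul_mem_mul (Ideal.mem_span_singleton_self _) (ha_I _)
  refine ⟨?_, ?_⟩
  · intro x
    refine ⟨⟨⊤, isAffineOpen_top _⟩, trivial,
      (Scheme.ΓSpecIso (CommRingCat.of B)).inv.hom f, ?_, ?_⟩
    · exact nzd_map_of_bijective _
        (ConcreteCategory.bijective_of_isIso (Scheme.ΓSpecIso (CommRingCat.of B)).inv) f hf
    · rw [comap_idealSheaf_ideal]
      have h1 : (Scheme.ΓSpecIso (CommRingCat.of A)).inv ≫
          (Spec.map (CommRingCat.ofHom (algebraMap A B))).appTop ≫
          (Spec (CommRingCat.of B)).presheaf.map (homOfLE (le_top : (⊤ : (Spec (CommRingCat.of B)).Opens) ≤ ⊤)).op =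
          CommRingCat.ofHom (algebraMap A B) ≫ (Scheme.ΓSpecIso (CommRingCat.of B)).inv := by
        rw [Scheme.ΓSpecIso_inv_naturality]
        have : (Spec (CommRingCat.of B)).presheaf.map
            (homOfLE (le_top : (⊤ : (Spec (CommRingCat.of B)).Opens) ≤ ⊤)).op = 𝟙 _ :=
          (Spec (CommRingCat.of B)).presheaf.map_id _
        rw [this, Category.comp_id]
      rw [h1, CommRingCat.hom_comp, ← Ideal.map_map, CommRingCat.hom_ofHom, hgen, Ideal.map_span,
        Set.image_singleton]
  · intro Y g hg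
    -- global and local ring maps
    set γt : A →+* Γ(Y, ⊤) := ((Scheme.ΓSpecIso (CommRingCat.of A)).inv ≫ g.appTop).hom with hγt
    have hideal : ∀ W : Y.affineOpens, ((Curv2.idealSheaf A I).comap g).ideal W =
        I.map ((Y.presheaf.map (homOfLE (le_top : W.1 ≤ ⊤)).op).hom.comp γt) := by
      intro W
      rw [comap_idealSheaf_ideal]
      rfl
    set e : Γ(Y, ⊤) := γt (a_ 1) with he_def
    -- charts
    have hchart : ∀ y : Y, ∃ W : Y.affineOpens, y ∈ W.1 ∧
        (Y.presheaf.map (homOfLE (le_top : W.1 ≤ ⊤)).op).hom e ∈ nonZeroDivisors Γ(Y, W.1) ∧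
        ∀ a ∈ I, ∃ c : Γ(Y, W.1), (Y.presheaf.map (homOfLE (le_top : W.1 ≤ ⊤)).op).hom e * c =
          (Y.presheaf.map (homOfLE (le_top : W.1 ≤ ⊤)).op).hom (γt a) := by
      intro y
      obtain ⟨W, hyW, t, ht, hI⟩ := hg y
      rw [hideal W] at hI
      obtain ⟨h1, h2⟩ := map_eq_span_of_sq _ I (a_ 1) (ha_I 1) hsq t ht hI
      refine ⟨W, hyW, h1, fun a ha => ?_⟩
      have h3 : ((Y.presheaf.map (homOfLE (le_top : W.1 ≤ ⊤)).op).hom.comp γt) a ∈
          Ideal.span {((Y.presheaf.map (homOfLE (le_top : W.1 ≤ ⊤)).op).hom.comp γt) (a_ 1)} :=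
        h2 ▸ Ideal.mem_map_of_mem _ ha
      obtain ⟨c, hc⟩ := Ideal.mem_span_singleton'.mp h3
      exact ⟨c, by rw [mul_comm]; exact hc⟩
    have he : e ∈ Mero.regSub Y ⊤ := by
      rintro ⟨y, hy⟩
      obtain ⟨W, hyW, h1, -⟩ := hchart y
      have h2 := regSub_of_nzd_affine W.2 _ h1 ⟨y, hyW⟩
      have h3 := TopCat.Presheaf.germ_res_apply Y.presheaf (homOfLE (le_top : W.1 ≤ ⊤)) y hyW e
      rw [← h3]
      exact h2
    have enzd : e ∈ nonZeroDivisors Γ(Y, ⊤) := nzd_of_regSub e he
    have cancel : ∀ x z : Γ(Y, ⊤), e * x = e * z → x = z := by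
      intro x z hxz
      have : (x - z) * e = 0 := by rw [sub_mul, mul_comm, hxz, mul_comm, sub_self]
      exact sub_eq_zero.mp ((mem_nonZeroDivisors_iff_right.mp enzd) _ this)
    have hdiv : ∀ b : B, ∃ c : Γ(Y, ⊤), e * c = γt (a_ b) := by
      intro b
      apply exists_div_of_locally e he
      intro y
      obtain ⟨W, hyW, -, h2⟩ := hchart y
      obtain ⟨c, hc⟩ := h2 (a_ b) (ha_I b)
      exact ⟨W.1, hyW, c, hc⟩
    choose ψ₀ hψ₀ using hdiv
    have hinjA : ∀ x z : A, algebraMap A B x = algebraMap A B z → x = z := fun x z h => hinj h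
    let ψ : B →+* Γ(Y, ⊤) :=
      { toFun := ψ₀
        map_one' := by
          apply cancel
          rw [hψ₀, mul_one]
        map_mul' := by
          intro b b'
          apply cancel
          apply cancel
          have h1 : a_ b * a_ b' = a_ 1 * a_ (b * b') := by
            apply hinjA
            rw [map_mul, map_mul, ha_eq, ha_eq, ha_eq, ha_eq]; ring
          calc e * (e * ψ₀ (b * b')) = e * γt (a_ (b * b')) := by rw [hψ₀]
            _ = γt (a_ 1 * a_ (b * b')) := by rw [map_mul]
            _ = γt (a_ b) * γt (a_ b') := by rw [← h1, map_mul]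
            _ = (e * ψ₀ b) * (e * ψ₀ b') := by rw [hψ₀, hψ₀]
            _ = e * (e * (ψ₀ b * ψ₀ b')) := by ring
        map_zero' := by
          apply cancel
          have h1 : a_ 0 = 0 := by
            apply hinjA
            rw [ha_eq, mul_zero, map_zero]
          rw [hψ₀, h1, map_zero, mul_zero]
        map_add' := by
          intro b b'
          apply cancel
          have h1 : a_ (b + b') = a_ b + a_ b' := by
            apply hinjA
            rw [map_add, ha_eq, ha_eq, ha_eq]; ring
          rw [hψ₀, h1, map_add, mul_add, hψ₀, hψ₀] }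
    have hψι : ψ.comp (algebraMap A B) = γt := by
      ext a
      apply cancel
      show e * ψ₀ (algebraMap A B a) = e * γt a
      have h1 : a_ (algebraMap A B a) = a_ 1 * a := by
        apply hinjA
        rw [map_mul, ha_eq, ha_eq]; ring
      rw [hψ₀, h1, map_mul]
    refine ⟨Y.toSpecΓ ≫ Spec.map (CommRingCat.ofHom ψ), ?_, ?_⟩
    · show (Y.toSpecΓ ≫ Spec.map (CommRingCat.ofHom ψ)) ≫
        Spec.map (CommRingCat.ofHom (algebraMap A B)) = g
      rw [Category.assoc, ← Spec.map_comp, ← CommRingCat.ofHom_comp, hψι]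
      exact (eq_toSpecΓ_comp g).symm
    · intro h' hh'
      have hh'' : h' ≫ Spec.map (CommRingCat.ofHom (algebraMap A B)) = g := hh'
      set ψ' : B →+* Γ(Y, ⊤) := ((Scheme.ΓSpecIso (CommRingCat.of B)).inv ≫ h'.appTop).hom with hψ'
      have hψ'ι : ψ'.comp (algebraMap A B) = γt := by
        have h1 : CommRingCat.ofHom (algebraMap A B) ≫ (Scheme.ΓSpecIso (CommRingCat.of B)).inv ≫
            h'.appTop = (Scheme.ΓSpecIso (CommRingCat.of A)).inv ≫ g.appTop := by
          rw [← hh'', Scheme.Hom.comp_appTop, ← Category.assoc, ← Category.assoc,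
            Scheme.ΓSpecIso_inv_naturality]
        have h2 := congrArg CommRingCat.Hom.hom h1
        exact h2
      have hψψ' : ψ' = ψ := by
        ext b
        apply cancel
        show e * ψ' b = e * ψ₀ b
        rw [hψ₀]
        have h1 : e = ψ' (algebraMap A B (a_ 1)) := by
          rw [he_def, ← hψ'ι]; rfl
        have h2 : γt (a_ b) = ψ' (algebraMap A B (a_ b)) := by
          rw [← hψ'ι]; rfl
        rw [h1, h2, ← map_mul, ha_eq, ha_eq, mul_one]
      rw [eq_toSpecΓ_comp h']
      show Y.toSpecΓ ≫ Spec.map (CommRingCat.ofHom ψ') = _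
      rw [hψψ']

end Helpers

/-- Let A → B be an injective ring homomorphism and I an ideal of A such that the ideal I·B of B is
contained in the image of I (so I is an ideal of B as well) and I·B is generated by one
nonzerodivisor of B (I is free of rank one over B). Then Spec B → Spec A is a blowing up of Spec A
in I. (This is the affine statement behind recovering a pair (X̃, D̃), D̃ an effective Cartier
divisor finite flat over D, as the blow-up of the pushout X̃ ⨿_D̃ D along D.) -/
theorem result (A B : Type u) [CommRing A] [CommRing B] [Algebra A B]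
    (hinj : Function.Injective (algebraMap A B)) (I : Ideal A)
    (hIB : (Ideal.map (algebraMap A B) I : Set B) ⊆ algebraMap A B '' (I : Set A))
    (f : B) (hf : f ∈ nonZeroDivisors B) (hgen : Ideal.map (algebraMap A B) I = Ideal.span {f}) :
    BlowUp.IsBlowUp (Spec.map (CommRingCat.ofHom (algebraMap A B))) (Curv2.idealSheaf A I) := by
  exact main A B hinj I hIB f hf hgen

end Groth.Agent.S14090
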