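import Groth.Statements.S14091
import Mathlib

set_option autoImplicit false
universe u
open ArSing

namespace Groth.Agent.S14091aux
open Polynomial

variable (k B : Type u) [Field k] [IsAlgClosed k] [CommRing B] [IsLocalRing B] [Algebra k B]
  [Module.Finite k B]

theorem main
    (hcurv : Module.finrank (IsLocalRing.ResidueField B) (IsLocalRing.CotangentSpace B) ≤ 1) :
    Nonempty (B ≃ₐ[k] (Polynomial k ⧸ Ideal.span {(X : Polynomial k) ^ Module.finrank k B})) := by
  classical
  haveI : IsArtinianRing B := isArtinian_of_tower k (inferInstance : IsArtinian k B)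
  haveI : IsNoetherianRing B := inferInstance
  obtain ⟨t, ht⟩ := (IsLocalRing.finrank_cotangentSpace_le_one_iff.mp hcurv).principal
  have htm : t ∈ IsLocalRing.maximalIdeal B := by
    rw [ht]; exact Submodule.mem_span_singleton_self t
  -- t nilpotent
  have htn : IsNilpotent t := by
    have h1 : IsLocalRing.maximalIdeal B ≤ nilradical B := by
      rw [← IsLocalRing.jacobson_eq_maximalIdeal (⊥ : Ideal B) bot_ne_top]
      rw [IsArtinianRing.jacobson_eq_radical]
      exact le_rfl
    exact h1 htm
  obtain ⟨N, hN⟩ := htn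
  -- residue field
  haveI : Module.Finite k (IsLocalRing.ResidueField B) :=
    Module.Finite.of_surjective (IsScalarTower.toAlgHom k B (IsLocalRing.ResidueField B)).toLinearMap
      IsLocalRing.residue_surjective
  have hbij : Function.Bijective (algebraMap k (IsLocalRing.ResidueField B)) :=
    IsAlgClosed.algebraMap_bijective_of_isIntegral
  have hdecomp : ∀ b : B, ∃ (c : k) (b' : B), b = algebraMap k B c + t * b' := by
    intro b
    obtain ⟨c, hc⟩ := hbij.2 (IsLocalRing.residue B b)
    have h2 : b - algebraMap k B c ∈ IsLocalRing.maximalIdeal B := by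
      rw [← IsLocalRing.residue_eq_zero_iff, map_sub, ← hc]
      rw [IsScalarTower.algebraMap_apply k B (IsLocalRing.ResidueField B)]
      exact sub_self _
    rw [ht] at h2
    obtain ⟨b', hb'⟩ := Submodule.mem_span_singleton.mp h2
    refine ⟨c, b', ?_⟩
    rw [smul_eq_mul] at hb'
    rw [mul_comm, hb']; ring
  have hstep : ∀ j : ℕ, ∀ b : B, ∃ (p : k[X]) (b' : B), b = aeval t p + t ^ j * b' := by
    intro j
    induction j with
    | zero => intro b; exact ⟨0, b, by simp⟩
    | succ j ih =>
      intro b
      obtain ⟨p, b', hb⟩ := ih b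
      obtain ⟨c, b'', hb'⟩ := hdecomp b'
      refine ⟨p + C c * X ^ j, b'', ?_⟩
      rw [hb, hb']
      simp only [map_add, map_mul, aeval_C, map_pow, aeval_X]
      ring
  have hsurj : Function.Surjective (aeval (R := k) t) := by
    intro b
    obtain ⟨p, b', hb⟩ := hstep N b
    exact ⟨p, by rw [hb, hN, zero_mul, add_zero]⟩
  -- kernel
  set φ : k[X] →ₐ[k] B := aeval t with hφ
  have hXN : (X : k[X]) ^ N ∈ RingHom.ker (φ : k[X] →+* B) := by
    rw [RingHom.mem_ker]
    simp [hφ, hN]
  have hprin : (RingHom.ker (φ : k[X] →+* B)).IsPrincipal := inferInstance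
  obtain ⟨g, hg⟩ := hprin.principal
  have hg' : RingHom.ker (φ : k[X] →+* B) = Ideal.span {g} := hg
  have hdvd : g ∣ X ^ N := by
    rw [hg'] at hXN
    exact Ideal.mem_span_singleton.mp hXN
  obtain ⟨i, -, hi⟩ := (dvd_prime_pow Polynomial.prime_X N).mp hdvd
  have hker : RingHom.ker (φ : k[X] →+* B) = Ideal.span {(X : k[X]) ^ i} := by
    rw [hg']
    exact Ideal.span_singleton_eq_span_singleton.mpr hi
  let e1 : (k[X] ⧸ RingHom.ker (φ : k[X] →+* B)) ≃ₐ[k] B :=
    Ideal.quotientKerAlgEquivOfSurjective hsurj
  let e2 : (k[X] ⧸ RingHom.ker (φ : k[X] →+* B)) ≃ₐ[k] (k[X] ⧸ Ideal.span {(X : k[X]) ^ i}) :=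
    Ideal.quotientEquivAlgOfEq k hker
  let e3 : B ≃ₐ[k] (k[X] ⧸ Ideal.span {(X : k[X]) ^ i}) := e1.symm.trans e2
  have hfin : Module.finrank k B = i := by
    rw [e3.toLinearEquiv.finrank_eq, finrank_quotient_span_eq_natDegree' (monic_X_pow i),
      natDegree_X_pow]
  rw [hfin]
  exact ⟨e3⟩

end Groth.Agent.S14091aux

namespace Groth.Agent.S14091

open Polynomial in
/-- Over an algebraically closed field k, a finite local k-algebra B whose cotangent space m/m^2 has
dimension at most one over the residue field is isomorphic, as a k-algebra, to k[t]/(t^n) with n =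
dim_k B (curvilinear pointed algebras of degree n have a single isomorphism class). -/
theorem result (k B : Type u) [Field k] [IsAlgClosed k]
    [CommRing B] [IsLocalRing B] [Algebra k B] [Module.Finite k B]
    (hcurv : Module.finrank (IsLocalRing.ResidueField B) (IsLocalRing.CotangentSpace B) ≤ 1) :
    Nonempty (B ≃ₐ[k] (Polynomial k ⧸ Ideal.span {(X : Polynomial k) ^ Module.finrank k B})) := by
  exact Groth.Agent.S14091aux.main k B hcurv

end Groth.Agent.S14091
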