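import Groth.Statements.S14097
import Mathlib

set_option autoImplicit false
universe u
open ArSing

namespace Groth.Agent.S14097

/-- In any commutative ring, if h_0, …, h_(k-1) (k ≥ 2) and τ satisfy h_i^2 + τ h_i = 0, then ∏_(i ≤
k-2) (h_i + h_(i+1) + τ) = Σ_(j ≤ k-1) τ^(k-1-j) e_j(h), e_j the elementary symmetric functions.
(The published statement is the resulting formula for the class of the small diagonal in the Chow
ring of (P^1)^k, where the h_i are the hyperplane classes of the factors and satisfy these
relations; only the ring identity is asserted here.) -/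
theorem result (A : Type u) [CommRing A] (k : ℕ) (hk : 2 ≤ k) (τ : A)
    (h : ℕ → A) (hrel : ∀ i, i < k → h i ^ 2 + τ * h i = 0) :
    ∏ i ∈ Finset.range (k - 1), (h i + h (i + 1) + τ) =
      ∑ j ∈ Finset.range k, τ ^ (k - 1 - j) * (((Finset.range k).val.map h).esymm j) := by
  classical
  obtain ⟨e, he⟩ : ∃ e : ℕ → ℕ → A, ∀ m j, e m j = ((Finset.range m).val.map h).esymm j :=
    ⟨fun m j => ((Finset.range m).val.map h).esymm j, fun _ _ => rfl⟩
  have hE0 : ∀ m, e m 0 = 1 := by
    intro m
    rw [he]
    simp [Multiset.esymm, Multiset.powersetCard_zero_left]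
  have hE1 : ∀ m j, e (m + 1) (j + 1) = e m (j + 1) + h m * e m j := by
    intro m j
    rw [he, he, he]
    have h1 : (Finset.range (m + 1)).val.map h = h m ::ₘ (Finset.range m).val.map h := by
      rw [Finset.range_val, Finset.range_val, Multiset.range_succ, Multiset.map_cons]
    rw [h1]
    unfold Multiset.esymm
    rw [Multiset.powersetCard_cons, Multiset.map_add, Multiset.sum_add, Multiset.map_map]
    congr 1
    have h2 : (Multiset.prod ∘ Multiset.cons (h m)) = fun s : Multiset A => h m * s.prod := by
      funext s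
      simp
    rw [h2, Multiset.sum_map_mul_left]
  have hE2 : ∀ m j, m < j → e m j = 0 := by
    intro m j hmj
    rw [he]
    unfold Multiset.esymm
    rw [Multiset.powersetCard_eq_empty]
    · simp
    · simpa using hmj
  obtain ⟨S, hS⟩ : ∃ S : ℕ → A, ∀ m, S m = ∑ j ∈ Finset.range (m + 1), τ ^ (m - j) * e (m + 1) j :=
    ⟨fun m => ∑ j ∈ Finset.range (m + 1), τ ^ (m - j) * e (m + 1) j, fun _ => rfl⟩
  -- recursion
  have hR : ∀ m, S (m + 1) = (τ + h (m + 1)) * S m + e (m + 1) (m + 1) := by
    intro m
    have h1 : S (m + 1) = ∑ j ∈ Finset.range (m + 1),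
        τ ^ (m - j) * (e (m + 1) (j + 1) + h (m + 1) * e (m + 1) j) + τ ^ (m + 1) := by
      rw [hS, Finset.sum_range_succ']
      congr 1
      · refine Finset.sum_congr rfl (fun j hj => ?_)
        rw [hE1 (m + 1) j]
        congr 2
        omega
      · rw [hE0, mul_one, Nat.sub_zero]
    have h2 : τ * S m = ∑ j ∈ Finset.range m, τ ^ (m - j) * e (m + 1) (j + 1) + τ ^ (m + 1) := by
      rw [hS, Finset.mul_sum, Finset.sum_range_succ']
      congr 1
      · refine Finset.sum_congr rfl (fun j hj => ?_)
        have hj' := Finset.mem_range.mp hj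
        rw [← mul_assoc, ← pow_succ']
        congr 2
        omega
      · rw [hE0, mul_one, Nat.sub_zero, ← pow_succ']
    have h3 : ∑ j ∈ Finset.range (m + 1), τ ^ (m - j) * e (m + 1) (j + 1) =
        ∑ j ∈ Finset.range m, τ ^ (m - j) * e (m + 1) (j + 1) + e (m + 1) (m + 1) := by
      rw [Finset.sum_range_succ, Nat.sub_self, pow_zero, one_mul]
    have h4 : ∑ j ∈ Finset.range (m + 1), τ ^ (m - j) * (h (m + 1) * e (m + 1) j) =
        h (m + 1) * S m := by
      rw [hS, Finset.mul_sum]
      refine Finset.sum_congr rfl (fun j _ => ?_)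
      ring
    rw [h1]
    simp only [mul_add, Finset.sum_add_distrib]
    rw [h3, h4, add_mul, h2]
    ring
  -- joint induction
  have hT : ∀ m, m + 1 ≤ k →
      (∏ i ∈ Finset.range m, (h i + h (i + 1) + τ) = S m) ∧ S m * h m = e (m + 1) (m + 1) := by
    intro m
    induction m with
    | zero =>
      intro _
      have hS0 : S 0 = 1 := by
        rw [hS]
        simp [hE0]
      refine ⟨by rw [hS0]; simp, ?_⟩
      rw [hS0, one_mul, hE1, hE0, hE2 0 1 (by omega)]
      ring
    | succ m ih =>
      intro hm
      obtain ⟨ih1, ih2⟩ := ih (by omega)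
      have hrel' := hrel (m + 1) (by omega)
      constructor
      · rw [Finset.prod_range_succ, ih1, hR, ← ih2]
        ring
      · rw [hR, hE1 (m + 1) (m + 1), hE2 (m + 1) (m + 2) (by omega)]
        have : (τ + h (m + 1)) * S m * h (m + 1) = S m * (h (m + 1) ^ 2 + τ * h (m + 1)) := by ring
        rw [add_mul, this, hrel']
        ring
  obtain ⟨m, rfl⟩ : ∃ m, k = m + 1 := ⟨k - 1, by omega⟩
  have := (hT m le_rfl).1
  rw [Nat.add_sub_cancel]
  rw [this, hS]
  refine Finset.sum_congr rfl (fun j _ => ?_)
  rw [he]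

end Groth.Agent.S14097
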