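import Groth.Statements.S14100
import Mathlib.Tactic
import Mathlib.CategoryTheory.Triangulated.TStructure.TruncLTGE
import Mathlib.Algebra.Homology.DerivedCategory.FullyFaithful

set_option autoImplicit false
universe w v u
open DCoh

namespace Groth.Agent.S14100

open CategoryTheory Limits DerivedCategory Pretriangulated

section aux
variable {C : Type u} [Category.{v} C] [Abelian C] [HasDerivedCategory.{w} C]

lemma mono_H_truncLTι (X : DerivedCategory C) (n q : ℤ) :
    Mono ((homologyFunctor C q).map
      (((DerivedCategory.TStructure.t (C := C)).truncLTι n).app X)) := by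
  have hT := (DerivedCategory.TStructure.t (C := C)).triangleLTGE_distinguished n X
  refine (HomologySequence.mono_homologyMap_mor₁_iff _ hT (q - 1) q (by lia)).2 ?_
  by_cases h : q ≤ n
  · exact (isZero_of_isGE
      (((DerivedCategory.TStructure.t (C := C)).truncGE n).obj X) n (q - 1) (by lia)).eq_of_src _ _
  · exact (isZero_of_isLE
      (((DerivedCategory.TStructure.t (C := C)).truncLT n).obj X) (n - 1) q (by lia)).eq_of_tgt _ _

lemma epi_H_truncGEπ (X : DerivedCategory C) (n q : ℤ) :
    Epi ((homologyFunctor C q).map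
      (((DerivedCategory.TStructure.t (C := C)).truncGEπ n).app X)) := by
  have hT := (DerivedCategory.TStructure.t (C := C)).triangleLTGE_distinguished n X
  refine (HomologySequence.epi_homologyMap_mor₂_iff _ hT q (q + 1) rfl).2 ?_
  by_cases h : q < n
  · exact (isZero_of_isGE
      (((DerivedCategory.TStructure.t (C := C)).truncGE n).obj X) n q h).eq_of_src _ _
  · exact (isZero_of_isLE
      (((DerivedCategory.TStructure.t (C := C)).truncLT n).obj X) (n - 1) (q + 1)
        (by lia)).eq_of_tgt _ _

lemma heart_faithful (X Y : DerivedCategory C) (b : ℤ) [X.IsGE b] [X.IsLE b] [Y.IsGE b] [Y.IsLE b]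
    (g : X ⟶ Y) (hg : (homologyFunctor C b).map g = 0) : g = 0 := by
  obtain ⟨A, ⟨e⟩⟩ := exists_iso_singleFunctor_obj_of_isGE_of_isLE X b
  obtain ⟨B, ⟨e'⟩⟩ := exists_iso_singleFunctor_obj_of_isGE_of_isLE Y b
  obtain ⟨φ, hφ⟩ := (singleFunctor C b).map_surjective (e.inv ≫ g ≫ e'.hom)
  have h1 : (homologyFunctor C b).map ((singleFunctor C b).map φ) = 0 := by
    rw [hφ]; simp [hg]
  have h2 : φ = 0 := by
    have := NatIso.naturality_1 (singleFunctorCompHomologyFunctorIso C b) φ
    dsimp at this
    rw [← this, h1]; simp
  have h3 : e.inv ≫ g ≫ e'.hom = 0 := by rw [← hφ, h2]; simp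
  calc g = e.hom ≫ (e.inv ≫ g ≫ e'.hom) ≫ e'.inv := by simp
    _ = 0 := by rw [h3]; simp

theorem main (n : ℕ) : ∀ (a : ℤ) (K : ℕ ⥤ DerivedCategory C),
    (∀ i : ℕ, i ≤ n → (K.obj i).IsGE a) → (∀ i : ℕ, i ≤ n → (K.obj i).IsLE (a + n - 1)) →
    (∀ i : ℕ, i < n → ∀ q : ℤ,
      (homologyFunctor C q).map (K.map (homOfLE (Nat.le_succ i))) = 0) →
    K.map (homOfLE (Nat.zero_le n)) = 0 := by
  induction n with
  | zero =>
    intro a K hGE hLE _
    have := hGE 0 le_rfl
    have := hLE 0 le_rfl
    have hz : IsZero (K.obj 0) :=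
      (DerivedCategory.TStructure.t (C := C)).isZero (K.obj 0) (a + (0 : ℕ) - 1) a (by simp)
    exact hz.eq_of_src _ _
  | succ n ih =>
    intro a K hGE hLE hzero
    have hLE' : ∀ i : ℕ, i ≤ n + 1 → (K.obj i).IsLE (a + n) := by
      intro i hi
      have := hLE i hi
      have e : a + ((n + 1 : ℕ) : ℤ) - 1 = a + n := by push_cast; ring
      rw [e] at this
      exact this
    have hmono : Monotone (fun i : ℕ => i + 1) := fun _ _ h => Nat.succ_le_succ h
    let K' : ℕ ⥤ DerivedCategory C :=
      hmono.functor ⋙ K ⋙ (DerivedCategory.TStructure.t (C := C)).truncLT (a + n)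
    have key := ih a K' ?_ ?_ ?_
    · -- conclude
      have h0 : (0 : ℕ) ≤ 1 := Nat.zero_le 1
      have h1 : (1 : ℕ) ≤ n + 1 := Nat.succ_le_succ (Nat.zero_le n)
      have hcomp : K.map (homOfLE (Nat.zero_le (n + 1))) =
          K.map (homOfLE h0) ≫ K.map (homOfLE h1) := by
        rw [← K.map_comp]; rfl
      have := hGE 0 (Nat.zero_le _)
      have := hGE 1 h1
      have := hLE' 0 (Nat.zero_le _)
      have := hLE' 1 h1
      have hf0 : (homologyFunctor C (a + n)).map (K.map (homOfLE h0)) = 0 :=
        hzero 0 (Nat.succ_pos n) (a + n)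
      have htr : ((DerivedCategory.TStructure.t (C := C)).truncGE (a + n)).map (K.map (homOfLE h0)) = 0 := by
        apply heart_faithful _ _ (a + n)
        have hnat := ((DerivedCategory.TStructure.t (C := C)).truncGEπ (a + n)).naturality
          (K.map (homOfLE h0))
        have := epi_H_truncGEπ (K.obj 0) (a + n) (a + n)
        rw [← cancel_epi ((homologyFunctor C (a + n)).map
          (((DerivedCategory.TStructure.t (C := C)).truncGEπ (a + n)).app (K.obj 0)))]
        rw [← Functor.map_comp, comp_zero]
        dsimp at hnat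
        rw [← hnat, Functor.map_comp, hf0, zero_comp]
      have hfac : K.map (homOfLE h0) ≫
          ((DerivedCategory.TStructure.t (C := C)).truncGEπ (a + n)).app (K.obj 1) = 0 := by
        have hnat := ((DerivedCategory.TStructure.t (C := C)).truncGEπ (a + n)).naturality
          (K.map (homOfLE h0))
        dsimp at hnat
        rw [hnat, htr, comp_zero]
      obtain ⟨g₀, hg₀⟩ := Triangle.coyoneda_exact₂ _
        ((DerivedCategory.TStructure.t (C := C)).triangleLTGE_distinguished (a + n) (K.obj 1))
        (K.map (homOfLE h0)) hfac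
      have hnat := ((DerivedCategory.TStructure.t (C := C)).truncLTι (a + n)).naturality
          (K.map (homOfLE h1))
      dsimp at hnat
      have hK' : ((DerivedCategory.TStructure.t (C := C)).truncLT (a + n)).map (K.map (homOfLE h1)) = 0 :=
        key
      have hg₀' : K.map (homOfLE h0) =
          (show K.obj 0 ⟶ ((DerivedCategory.TStructure.t (C := C)).truncLT (a + n)).obj (K.obj 1) from g₀) ≫
            ((DerivedCategory.TStructure.t (C := C)).truncLTι (a + n)).app (K.obj 1) := hg₀
      rw [hcomp, hg₀', Category.assoc, ← hnat, hK', zero_comp, comp_zero]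
    · intro i hi
      have := hGE (i + 1) (Nat.succ_le_succ hi)
      dsimp [K']
      infer_instance
    · intro i hi
      dsimp [K']
      infer_instance
    · intro i hi q
      have hi1 : i + 1 ≤ i + 1 + 1 := Nat.le_succ _
      change (homologyFunctor C q).map
        (((DerivedCategory.TStructure.t (C := C)).truncLT (a + n)).map (K.map (homOfLE hi1))) = 0
      have hnat := ((DerivedCategory.TStructure.t (C := C)).truncLTι (a + n)).naturality
          (K.map (homOfLE hi1))
      dsimp at hnat
      have := mono_H_truncLTι (K.obj (i + 1 + 1)) (a + n) q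
      rw [← cancel_mono ((homologyFunctor C q).map
          (((DerivedCategory.TStructure.t (C := C)).truncLTι (a + n)).app (K.obj (i + 1 + 1))))]
      rw [← Functor.map_comp, zero_comp, hnat, Functor.map_comp,
        hzero (i + 1) (Nat.succ_lt_succ hi) q, comp_zero]

end aux

open CategoryTheory in
/-- Let C be an abelian category, a an integer and n a natural number, and let K_0 → K_1 → ⋯ → K_{n+1}
be composable morphisms in the derived category of C such that each K_i has cohomology concentrated
in degrees a, …, a+n and each map K_i → K_{i+1} induces zero on every cohomology object. Then the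
composite K_0 → K_{n+1} is zero. (The chain is given as a functor from the ordered set of natural
numbers; only its values on 0, …, n+1 matter.) -/
theorem result
    (C : Type u) [Category.{v} C] [Abelian C] [HasDerivedCategory.{w} C]
    (a : ℤ) (n : ℕ) (K : ℕ ⥤ DerivedCategory C)
    (hGE : ∀ i : ℕ, i ≤ n + 1 → (K.obj i).IsGE a)
    (hLE : ∀ i : ℕ, i ≤ n + 1 → (K.obj i).IsLE (a + n))
    (hzero : ∀ i : ℕ, i ≤ n → ∀ q : ℤ,
      (DerivedCategory.homologyFunctor C q).map (K.map (homOfLE (Nat.le_succ i))) = 0) :
    K.map (homOfLE (Nat.zero_le (n + 1))) = 0 := by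
  apply main (n + 1) a K hGE
  · intro i hi
    have := hLE i hi
    have e : a + ((n + 1 : ℕ) : ℤ) - 1 = a + n := by push_cast; ring
    rw [e]
    exact this
  · intro i hi q
    exact hzero i (Nat.lt_succ_iff.mp hi) q

end Groth.Agent.S14100
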