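import Groth.Statements.S14115
import Mathlib.Tactic
-- import your own Groth.Agent.* helpers here

set_option autoImplicit false
universe u v
open SuperComm

namespace Groth.Agent.S14115

theorem comm_sign {S : Type v} [Ring S] (k : ℕ) (a : S) : a * (-1 : S) ^ k = (-1 : S) ^ k * a :=
  ((Commute.neg_one_left a).pow_left k).eq.symm

/-- Let S be an associative unital algebra over a commutative ring R, x an element and y_0, …, y_n
elements such that the anticommutator x y_i + y_i x equals r_i · 1 for scalars r_i ∈ R. Then the
graded commutator of x with the ordered product y_0 ⋯ y_n, namely x (y_0 ⋯ y_n) + (-1)^n (y_0 ⋯ y_n)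
x, equals the sum over p of (-1)^p r_p times the ordered product of the y_q with q ≠ p. (The
published statement takes x homogeneous of degree 1 and the y_i homogeneous of degree -1 in a graded
algebra with unit in degree 0, the signs being those of the supercommutator; this row states the
identity for arbitrary elements satisfying the anticommutation relations, which is what the
computation proves.) -/
theorem result {R : Type u} {S : Type v} [CommRing R] [Ring S]
    [Algebra R S] (n : ℕ) (x : S) (y : Fin (n + 1) → S) (r : Fin (n + 1) → R)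
    (h : ∀ i : Fin (n + 1), x * y i + y i * x = algebraMap R S (r i)) :
    x * (List.ofFn y).prod + (-1 : S) ^ n * ((List.ofFn y).prod * x) =
      ∑ p : Fin (n + 1), (-1 : S) ^ (p : ℕ) * (r p • (List.ofFn (fun q : Fin n => y (p.succAbove q))).prod) := by
  induction n with
  | zero =>
    simp only [List.ofFn_succ, List.ofFn_zero, List.prod_cons, List.prod_nil, mul_one, pow_zero,
      one_mul]
    rw [h 0, Algebra.algebraMap_eq_smul_one, Fin.sum_univ_succ]
    simp
  | succ n ih =>
    have ih' := ih (fun i => y i.succ) (fun i => r i.succ) (fun i => h i.succ)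
    set Y' := (List.ofFn (fun i : Fin (n + 1) => y i.succ)).prod with hY'
    have hx : x * y 0 = algebraMap R S (r 0) - y 0 * x := eq_sub_of_add_eq (h 0)
    have hprod : (List.ofFn y).prod = y 0 * Y' := by
      rw [List.ofFn_succ, List.prod_cons]
    rw [hprod, Fin.sum_univ_succ]
    have hL : x * (y 0 * Y') + (-1 : S) ^ (n + 1) * (y 0 * Y' * x) =
        r 0 • Y' - y 0 * (x * Y' + (-1 : S) ^ n * (Y' * x)) := by
      rw [← mul_assoc x, hx, sub_mul, Algebra.smul_def, pow_succ, mul_add, mul_assoc (y 0) Y' x,
        ← mul_assoc (y 0) ((-1 : S) ^ n), comm_sign n (y 0)]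
      noncomm_ring
    rw [hL, ih', Finset.mul_sum]
    have h0 : (-1 : S) ^ ((0 : Fin (n + 1 + 1)) : ℕ) *
        (r 0 • (List.ofFn (fun q : Fin (n + 1) => y ((0 : Fin (n + 1 + 1)).succAbove q))).prod) =
        r 0 • Y' := by
      simp only [Fin.val_zero, pow_zero, one_mul, Fin.succAbove_zero]
      rfl
    rw [h0, sub_eq_add_neg, ← Finset.sum_neg_distrib]
    congr 1
    refine Finset.sum_congr rfl fun p _ => ?_
    have hlist : (List.ofFn (fun q : Fin (n + 1) => y (p.succ.succAbove q))).prod =
        y 0 * (List.ofFn (fun q : Fin n => y (p.succAbove q).succ)).prod := by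
      rw [List.ofFn_succ, List.prod_cons, Fin.succ_succAbove_zero]
      simp only [Fin.succ_succAbove_succ]
    rw [hlist, Fin.val_succ, pow_succ, ← mul_assoc (y 0), comm_sign p (y 0)]
    simp only [Algebra.smul_def]
    have hc : algebraMap R S (r p.succ) * (y 0 * (List.ofFn fun q : Fin n => y (p.succAbove q).succ).prod) =
        y 0 * (algebraMap R S (r p.succ) * (List.ofFn fun q : Fin n => y (p.succAbove q).succ).prod) := by
      rw [← mul_assoc, ← mul_assoc, Algebra.commutes (r p.succ) (y 0)]
    rw [hc]
    noncomm_ring

end Groth.Agent.S14115
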