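import Groth.Statements.S14118
import Mathlib

set_option autoImplicit false
universe u v w
open SuperComm

namespace Groth.Agent.S14118

section
variable {R : Type u} [CommRing R] {ι : Type v} [Fintype ι] [DecidableEq ι]
    (M : ι → Type w) [∀ i, AddCommGroup (M i)] [∀ i, Module R (M i)]
    [∀ i, Module.Free R (M i)] [∀ i, Module.Finite R (M i)]

lemma str_eq (s : ι → R) (χ : (Π k, M k) →ₗ[R] (Π k, M k)) :
    LinearMap.trace R (Π k, M k) ((∑ i : ι, (LinearMap.single R M i) ∘ₗ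
      ((s i) • (LinearMap.proj i : (Π k, M k) →ₗ[R] M i))) ∘ₗ χ) =
    ∑ i, s i * LinearMap.trace R (M i) ((LinearMap.proj i) ∘ₗ χ ∘ₗ (LinearMap.single R M i)) := by
  rw [← Module.End.mul_eq_comp, Finset.sum_mul, map_sum]
  apply Finset.sum_congr rfl
  intro i _
  rw [Module.End.mul_eq_comp, LinearMap.comp_assoc, LinearMap.trace_comp_comm', LinearMap.comp_assoc,
    LinearMap.smul_comp, map_smul, smul_eq_mul]

omit [∀ i, Module.Free R (M i)] [∀ i, Module.Finite R (M i)] in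
lemma block_comp (φ ψ : (Π k, M k) →ₗ[R] (Π k, M k)) (i : ι) :
    (LinearMap.proj i) ∘ₗ (φ ∘ₗ ψ) ∘ₗ (LinearMap.single R M i) =
      ∑ j, ((LinearMap.proj i) ∘ₗ φ ∘ₗ (LinearMap.single R M j)) ∘ₗ
        ((LinearMap.proj j) ∘ₗ ψ ∘ₗ (LinearMap.single R M i)) := by
  ext x
  simp only [LinearMap.comp_apply, LinearMap.sum_apply, LinearMap.proj_apply, LinearMap.single_apply]
  rw [← Finset.sum_apply, ← map_sum, Finset.univ_sum_single]

end

lemma sgn_add {R : Type u} [CommRing R] (m n : ℤ) :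
    (-1 : R) ^ (m + n).natAbs = (-1 : R) ^ m.natAbs * (-1 : R) ^ n.natAbs := by
  rw [← pow_add, neg_one_pow_eq_pow_mod_two, neg_one_pow_eq_pow_mod_two (n := m.natAbs + n.natAbs)]
  congr 1
  omega

lemma sgn_sq {R : Type u} [CommRing R] (a : ℤ) :
    (-1 : R) ^ (a * -a).natAbs = (-1 : R) ^ a.natAbs := by
  rw [Int.natAbs_mul, Int.natAbs_neg]
  rcases Nat.even_or_odd a.natAbs with h | h
  · rw [Even.neg_one_pow h, Even.neg_one_pow (h.mul_right _)]
  · rw [Odd.neg_one_pow h, Odd.neg_one_pow (h.mul h)]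

/-- If φ and ψ have degrees a and b, the supertrace of the supercommutator φψ -
(-1)^{ab} ψφ vanishes. -/
theorem result {R : Type u} [CommRing R] {ι : Type v} [Fintype ι] [DecidableEq ι]
    (deg : ι → ℤ) (M : ι → Type w) [∀ i, AddCommGroup (M i)] [∀ i, Module R (M i)]
    [∀ i, Module.Free R (M i)] [∀ i, Module.Finite R (M i)]
    (a b : ℤ) (φ ψ : (Π k, M k) →ₗ[R] (Π k, M k))
    (hφ : ∀ i j : ι, deg j ≠ deg i + a → (LinearMap.proj j) ∘ₗ φ ∘ₗ (LinearMap.single R M i) = 0)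
    (hψ : ∀ i j : ι, deg j ≠ deg i + b → (LinearMap.proj j) ∘ₗ ψ ∘ₗ (LinearMap.single R M i) = 0) :
    LinearMap.trace R (Π k, M k)
      ((∑ i : ι, (LinearMap.single R M i) ∘ₗ (((-1 : R) ^ (deg i).natAbs) • (LinearMap.proj i : (Π k, M k) →ₗ[R] M i))) ∘ₗ (φ ∘ₗ ψ - ((-1 : R) ^ (a * b).natAbs) • (ψ ∘ₗ φ))) = 0 := by
  rw [str_eq M (fun i => (-1 : R) ^ (deg i).natAbs)]
  set c : R := (-1 : R) ^ (a * b).natAbs with hc
  -- the traces of the products of blocks
  let T : ι → ι → R := fun i j => LinearMap.trace R (M i)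
    (((LinearMap.proj i) ∘ₗ φ ∘ₗ (LinearMap.single R M j)) ∘ₗ
        ((LinearMap.proj j) ∘ₗ ψ ∘ₗ (LinearMap.single R M i)))
  have h1 : ∀ i, LinearMap.trace R (M i) ((LinearMap.proj i) ∘ₗ
      (φ ∘ₗ ψ - c • (ψ ∘ₗ φ)) ∘ₗ (LinearMap.single R M i)) =
      ∑ j, T i j - c * ∑ j, T j i := by
    intro i
    rw [LinearMap.sub_comp, LinearMap.comp_sub, map_sub, LinearMap.smul_comp, LinearMap.comp_smul,
      map_smul, smul_eq_mul, block_comp, block_comp, map_sum, map_sum]
    congr 2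
    apply Finset.sum_congr rfl
    intro j _
    exact LinearMap.trace_comp_comm' _ _
  simp only [h1]
  simp only [mul_sub, Finset.sum_sub_distrib, Finset.mul_sum]
  rw [sub_eq_zero]
  rw [Finset.sum_comm (f := fun i j => (-1 : R) ^ (deg i).natAbs * (c * T j i))]
  apply Finset.sum_congr rfl
  intro i _
  apply Finset.sum_congr rfl
  intro j _
  by_cases h₁ : deg i = deg j + a
  · by_cases h₂ : deg j = deg i + b
    · have hb : b = -a := by omega
      have : (-1 : R) ^ (deg i).natAbs = (-1 : R) ^ (deg j).natAbs * c := by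
        rw [hc, hb, sgn_sq, h₁, sgn_add]
      rw [this]
      ring
    · have : T i j = 0 := by
        simp only [T]
        rw [hψ i j h₂, LinearMap.comp_zero, map_zero]
      rw [this]
      simp
  · have : T i j = 0 := by
      simp only [T]
      rw [hφ j i h₁, LinearMap.zero_comp, map_zero]
    rw [this]
    simp

end Groth.Agent.S14118
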