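import Groth.Statements.S1412
import Mathlib
import Groth.Agent.Lib.helper22.WELocal3
import Groth.Agent.Lib.helper11.WEtSch

set_option autoImplicit false
universe u
open FlatMor

namespace Groth.Agent.S1412

section Helpers

open CategoryTheory CategoryTheory.Limits AlgebraicGeometry TensorProduct

open Groth.Agent.H22.WELocal

/-- The ring hom property "weakly étale". -/
def WE {R S : Type u} [CommRing R] [CommRing S] (φ : R →+* S) : Prop :=
  letI := φ.toAlgebra
  Algebra.WeaklyEtale R S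

theorem WE_respectsIso : RingHom.RespectsIso @WE := by
  constructor
  · intro R S T _ _ _ f e hf
    refine weaklyEtale_of_ringEquiv f (e.toRingHom.comp f) (RingEquiv.refl R) e ?_ hf
    rfl
  · intro R S T _ _ _ f e hf
    refine weaklyEtale_of_ringEquiv f (f.comp e.toRingHom) e.symm (RingEquiv.refl T) ?_ hf
    ext x
    simp

theorem WE_iff {R S : Type u} [CommRing R] [CommRing S] (φ : R →+* S) :
    WE φ ↔ φ.Flat ∧ (letI := φ.toAlgebra
      (Algebra.TensorProduct.lmul' (S := S) R).toRingHom.Flat) := by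
  letI := φ.toAlgebra
  exact Algebra.weaklyEtale_iff R S

theorem exists_primeIdealOf_eq {X : Scheme.{u}} {U : X.Opens} (hU : IsAffineOpen U)
    (y : PrimeSpectrum Γ(X, U)) : ∃ x : U, hU.primeIdealOf x = y := by
  refine ⟨hU.isoSpec.inv y, ?_⟩
  show hU.isoSpec.hom (hU.isoSpec.inv y) = y
  rw [← Scheme.Hom.comp_apply, Iso.inv_hom_id]
  rfl

theorem WE_stalkMap_iff {X Y : Scheme.{u}} (f : X ⟶ Y) {V : Y.Opens} (hV : IsAffineOpen V)
    {U : X.Opens} (hU : IsAffineOpen U) (hUV : U ≤ f ⁻¹ᵁ V) (x : X) (hx : x ∈ U) :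
    WE (f.stalkMap x).hom ↔
      WE (Localization.localRingHom _ _ (f.appLE V U hUV).hom
        congr($(IsAffineOpen.comap_primeIdealOf_appLE V hV U hU hUV hx).1).symm) :=
  WE_respectsIso.arrow_mk_iso_iff (IsAffineOpen.arrowStalkMapIso f V hV U hU hUV hx)

theorem main {X Y : Scheme.{u}} (f : X ⟶ Y) :
    WeaklyEtale f ↔ ∀ x : X, WE (f.stalkMap x).hom := by
  rw [Groth.Agent.Lib.helper11.WEtSch.weaklyEtale_iff_affineOpens]
  constructor
  · intro h x
    obtain ⟨_, ⟨V, hV, rfl⟩, hxV, -⟩ :=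
      Y.isBasis_affineOpens.exists_subset_of_mem_open (Set.mem_univ (f x)) isOpen_univ
    obtain ⟨_, ⟨U, hU, rfl⟩, hxU, hUV : U ≤ f ⁻¹ᵁ V⟩ :=
      X.isBasis_affineOpens.exists_subset_of_mem_open hxV (f ⁻¹ᵁ V).isOpen
    rw [WE_stalkMap_iff f hV hU hUV x hxU]
    letI := (f.appLE V U hUV).hom.toAlgebra
    haveI : Algebra.WeaklyEtale Γ(Y, V) Γ(X, U) := h U V hU hV hUV
    have hpq : (hV.primeIdealOf ⟨f x, hUV hxU⟩).asIdeal =
        Ideal.comap (f.appLE V U hUV).hom (hU.primeIdealOf ⟨x, hxU⟩).asIdeal :=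
      congr($(IsAffineOpen.comap_primeIdealOf_appLE V hV U hU hUV hxU).1).symm
    haveI : (hU.primeIdealOf ⟨x, hxU⟩).asIdeal.LiesOver
        (hV.primeIdealOf ⟨f x, hUV hxU⟩).asIdeal := ⟨hpq⟩
    exact weaklyEtale_atPrime Γ(Y, V) Γ(X, U) (hV.primeIdealOf ⟨f x, hUV hxU⟩).asIdeal
      (hU.primeIdealOf ⟨x, hxU⟩).asIdeal
  · intro h U V hU hV hUV
    letI := (f.appLE V U hUV).hom.toAlgebra
    refine weaklyEtale_of_forall_atPrime Γ(Y, V) Γ(X, U) ?_
    intro q hq
    obtain ⟨⟨x, hxU⟩, hxq⟩ := exists_primeIdealOf_eq hU ⟨q, hq⟩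
    have hq' : (hU.primeIdealOf ⟨x, hxU⟩).asIdeal = q := congr($(hxq).1)
    subst hq'
    have h1 := (WE_stalkMap_iff f hV hU hUV x hxU).mp (h x)
    have hpq : (hV.primeIdealOf ⟨f x, hUV hxU⟩).asIdeal =
        Ideal.comap (f.appLE V U hUV).hom (hU.primeIdealOf ⟨x, hxU⟩).asIdeal :=
      congr($(IsAffineOpen.comap_primeIdealOf_appLE V hV U hU hUV hxU).1).symm
    haveI : (hU.primeIdealOf ⟨x, hxU⟩).asIdeal.LiesOver
        (hV.primeIdealOf ⟨f x, hUV hxU⟩).asIdeal := ⟨hpq⟩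
    letI := Localization.AtPrime.algebraOfLiesOver (hV.primeIdealOf ⟨f x, hUV hxU⟩).asIdeal
      (hU.primeIdealOf ⟨x, hxU⟩).asIdeal
    haveI : Algebra.WeaklyEtale (Localization.AtPrime (hV.primeIdealOf ⟨f x, hUV hxU⟩).asIdeal)
      (Localization.AtPrime (hU.primeIdealOf ⟨x, hxU⟩).asIdeal) := h1
    haveI : Algebra.WeaklyEtale Γ(Y, V)
        (Localization.AtPrime (hV.primeIdealOf ⟨f x, hUV hxU⟩).asIdeal) :=
      weaklyEtale_of_isLocalization (hV.primeIdealOf ⟨f x, hUV hxU⟩).asIdeal.primeCompl _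
    exact Algebra.WeaklyEtale.trans Γ(Y, V)
      (Localization.AtPrime (hV.primeIdealOf ⟨f x, hUV hxU⟩).asIdeal) _

end Helpers

open AlgebraicGeometry CategoryTheory Limits in
/-- A morphism of schemes f : X → Y is weakly étale (flat with flat diagonal) if and only if for every
point x of X the local ring map O_{Y, f(x)} → O_{X, x} is weakly étale, that is, flat and with flat
multiplication map O_{X,x} ⊗_{O_{Y, f(x)}} O_{X,x} → O_{X,x}. -/
theorem result {X Y : Scheme.{u}} (f : X ⟶ Y) :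
    WeaklyEtale f ↔ ∀ x : X, (f.stalkMap x).hom.Flat ∧
      (letI := (f.stalkMap x).hom.toAlgebra
       (Algebra.TensorProduct.lmul' (S := ↑(X.presheaf.stalk x)) (↑(Y.presheaf.stalk (f x)))).toRingHom.Flat) := by
  rw [main]
  exact forall_congr' fun x => WE_iff _

end Groth.Agent.S1412
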