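import Groth.Statements.S14122
import Mathlib

set_option autoImplicit false
universe u
open ValCrit

namespace Groth.Agent.S14122

section helpers

open Module

variable (R : Type u) [CommRing R] [IsDomain R] [IsPrincipalIdealRing R]
    (K : Type u) [Field K] [Algebra R K] [IsFractionRing R K]


theorem core (N : ℕ) (g : GL (Fin N) K) (hg : IsOfFinOrder g) :
    ∃ (h : GL (Fin N) K) (g' : GL (Fin N) R),
      h * g * h⁻¹ = Matrix.GeneralLinearGroup.map (algebraMap R K) g' := by
  classical
  obtain ⟨d, hd, hgd⟩ := isOfFinOrder_iff_pow_eq_one.mp hg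
  let G : (Fin N → K) →ₗ[K] (Fin N → K) := Matrix.toLin' (g : Matrix (Fin N) (Fin N) K)
  have hGd : G ^ d = 1 := by
    have h1 : ((g ^ d : GL (Fin N) K) : Matrix (Fin N) (Fin N) K) = 1 := by rw [hgd]; rfl
    rw [Units.val_pow_eq_pow_val] at h1
    show (Matrix.toLin' (g : Matrix (Fin N) (Fin N) K)) ^ d = 1
    rw [← Matrix.toLin'_pow, h1, Matrix.toLin'_one]
    rfl
  -- the lattice
  let S : Set (Fin N → K) :=
    (fun p : ℕ × Fin N => (G ^ p.1) (Pi.single p.2 1)) '' ((Finset.range d ×ˢ Finset.univ : Finset (ℕ × Fin N)) : Set (ℕ × Fin N))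
  let L : Submodule R (Fin N → K) := Submodule.span R S
  have hLfg : L.FG := Submodule.fg_span ((Finset.finite_toSet _).image _)
  have hsingle : ∀ j : Fin N, (Pi.single j 1 : Fin N → K) ∈ L := by
    intro j
    refine Submodule.subset_span ⟨(0, j), ?_, ?_⟩
    · simp [hd]
    · simp
  have hLspan : Submodule.span K (L : Set (Fin N → K)) = ⊤ := by
    rw [eq_top_iff, ← (Pi.basisFun K (Fin N)).span_eq]
    refine Submodule.span_mono ?_
    rintro _ ⟨j, rfl⟩
    rw [Pi.basisFun_apply]
    exact hsingle j
  have hlat : Submodule.IsLattice K L := ⟨hLfg, hLspan⟩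
  have hGL : ∀ v ∈ L, G v ∈ L := by
    intro v hv
    induction hv using Submodule.span_induction with
    | mem v hv =>
      obtain ⟨⟨i, j⟩, hij, rfl⟩ := hv
      simp only [Finset.coe_product, Finset.coe_range, Finset.coe_univ, Set.mem_prod, Set.mem_Iio,
        Set.mem_univ, and_true] at hij
      have h1 : G ((G ^ i) (Pi.single j 1)) = (G ^ (i + 1)) (Pi.single j 1) := by
        rw [pow_succ', Module.End.mul_apply]
      rw [h1]
      by_cases hi : i + 1 < d
      · exact Submodule.subset_span ⟨(i + 1, j), by simp [hi], rfl⟩
      · have : i + 1 = d := by omega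
        rw [this, hGd, Module.End.one_apply]
        exact hsingle j
    | zero => rw [map_zero]; exact L.zero_mem
    | add x y _ _ hx hy => rw [map_add]; exact L.add_mem hx hy
    | smul a x _ hx =>
      rw [← algebraMap_smul K a x, map_smul, algebraMap_smul]
      exact L.smul_mem a hx
  have hfree : Module.Free R L := inferInstance
  have hrank : Module.finrank R L = N := by
    rw [Submodule.IsLattice.finrank_of_pi K L, Fintype.card_fin]
  let b : Basis (Fin N) R L := Module.finBasisOfFinrankEq R L hrank
  let b' : Basis (Fin N) K (Fin N → K) := b.extendOfIsLattice K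
  have hb' : ∀ j, b' j = (b j : Fin N → K) := fun j => Basis.extendOfIsLattice_apply K b j
  let MR : Matrix (Fin N) (Fin N) R := fun i j => b.repr ⟨G (b j), hGL _ (b j).2⟩ i
  have hM : LinearMap.toMatrix b' b' G = MR.map (algebraMap R K) := by
    ext i j
    rw [LinearMap.toMatrix_apply, Matrix.map_apply, hb']
    have h1 : G (b j : Fin N → K) = ∑ l, (algebraMap R K (MR l j)) • b' l := by
      have h2 := b.sum_repr ⟨G (b j), hGL _ (b j).2⟩
      have h3 := congrArg Subtype.val h2
      simp only [Submodule.coe_sum, Submodule.coe_smul] at h3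
      rw [← h3]
      refine Finset.sum_congr rfl fun l _ => ?_
      rw [algebraMap_smul, hb']
    rw [h1, b'.repr_sum_self]
  have hMpow : (MR.map (algebraMap R K)) ^ d = 1 := by
    rw [← hM]
    have h1 : LinearMap.toMatrix b' b' G = LinearMap.toMatrixAlgEquiv b' G := rfl
    rw [h1, ← map_pow, hGd, map_one]
  have hdet : IsUnit MR.det := by
    have h1 : (algebraMap R K) (MR.det ^ d) = (algebraMap R K) 1 := by
      rw [map_pow, RingHom.map_det, RingHom.mapMatrix_apply, ← Matrix.det_pow, hMpow, Matrix.det_one,
        map_one]
    have h2 : MR.det ^ d = 1 := IsFractionRing.injective R K h1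
    exact IsUnit.of_pow_eq_one h2 hd.ne'
  let e : Basis (Fin N) K (Fin N → K) := Pi.basisFun K (Fin N)
  let h : GL (Fin N) K := ⟨b'.toMatrix e, e.toMatrix b', Basis.toMatrix_mul_toMatrix_flip _ _,
    Basis.toMatrix_mul_toMatrix_flip _ _⟩
  refine ⟨h, Matrix.GeneralLinearGroup.mk'' MR hdet, ?_⟩
  apply Units.ext
  show b'.toMatrix e * (g : Matrix (Fin N) (Fin N) K) * e.toMatrix b' = MR.map (algebraMap R K)
  have h1 : LinearMap.toMatrix e e G = (g : Matrix (Fin N) (Fin N) K) := by
    rw [LinearMap.toMatrix_eq_toMatrix', LinearMap.toMatrix'_toLin']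
  rw [← h1, basis_toMatrix_mul_linearMap_toMatrix_mul_basis_toMatrix, hM]


end helpers

/-- Let `R` be a discrete valuation ring with fraction field `K` and `g ∈ GL_N(K)` an element of finite
order. Then after passing to a finite extension `K'` of `K` and a discrete valuation ring `R'` of
`K'` dominating `R`, the element `g` becomes conjugate in `GL_N(K')` to an element of `GL_N(R')`.
(The published statement is that the classifying stack of `GL_N` over the integers satisfies a
valuative condition, for discrete valuation rings essentially of finite type over the integers, on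
extending finite-order generic automorphisms along nearby modifications; since vector bundles over a
discrete valuation ring are trivial, that condition is this conjugacy statement for such rings, and
this row states it for every discrete valuation ring, as the printed argument gives.) -/
theorem result
    (R : Type u) [CommRing R] [IsDomain R] [IsDiscreteValuationRing R]
    (K : Type u) [Field K] [Algebra R K] [IsFractionRing R K]
    (N : ℕ) (g : GL (Fin N) K) (hg : IsOfFinOrder g) :
    ∃ (R' : Type u) (_ : CommRing R') (_ : IsDomain R') (_ : IsDiscreteValuationRing R')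
      (K' : Type u) (_ : Field K') (_ : Algebra R' K') (_ : IsFractionRing R' K')
      (_ : Algebra R R') (_ : Algebra K K') (_ : Algebra R K')
      (_ : IsScalarTower R R' K') (_ : IsScalarTower R K K')
      (_ : Module.Finite K K') (_ : IsLocalHom (algebraMap R R'))
      (h : GL (Fin N) K') (g' : GL (Fin N) R'),
      h * Matrix.GeneralLinearGroup.map (algebraMap K K') g * h⁻¹ =
        Matrix.GeneralLinearGroup.map (algebraMap R' K') g' := by
  obtain ⟨h, g', hgg⟩ := core R K N g hg
  refine ⟨R, inferInstance, inferInstance, inferInstance, K, inferInstance, inferInstance,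
    inferInstance, Algebra.id R, Algebra.id K, inferInstance, inferInstance, inferInstance,
    inferInstance, ⟨fun a ha => ha⟩, h, g', ?_⟩
  have : Matrix.GeneralLinearGroup.map (algebraMap K K) g = g := by
    rw [Algebra.algebraMap_self, Matrix.GeneralLinearGroup.map_id]
    rfl
  rw [this]
  exact hgg

end Groth.Agent.S14122
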