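import Groth.Statements.S1996
import Mathlib
-- import your own Groth.Agent.* helpers here

set_option autoImplicit false
universe u
open EtAlg

namespace Groth.Agent.S1996

open TensorProduct in
lemma flat_of_faithfullyFlat_comp (A B C : Type u) [CommRing A] [CommRing B] [CommRing C]
    [Algebra A B] [Algebra B C] [Algebra A C] [IsScalarTower A B C] [Module.FaithfullyFlat B C]
    [Module.Flat A C] : Module.Flat A B := by
  rw [Module.Flat.iff_lTensor_preserves_injective_linearMap]
  intro N P _ _ _ _ f hf
  have h1 : Function.Injective (f.baseChange B) ↔ Function.Injective (f.lTensor B) := Iff.rfl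
  rw [← h1, ← Module.FaithfullyFlat.lTensor_injective_iff_injective B C]
  let eN := AlgebraTensorModule.cancelBaseChange A B C C N
  let eP := AlgebraTensorModule.cancelBaseChange A B C C P
  have key : ∀ x, eP ((f.baseChange B).lTensor C x) = (f.lTensor C) (eN x) := by
    intro x
    induction x using TensorProduct.induction_on with
    | zero => simp
    | add x y hx hy => simp [hx, hy]
    | tmul c y =>
      induction y using TensorProduct.induction_on with
      | zero => simp
      | add x y hx hy => simp only [tmul_add, map_add, hx, hy]
      | tmul b n => simp [eN, eP]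
  have hC : Function.Injective (f.lTensor C) := Module.Flat.lTensor_preserves_injective_linearMap f hf
  intro x y hxy
  apply eN.injective
  apply hC
  rw [← key, ← key, hxy]


lemma ringHom_flat_of_comp {R S T : Type u} [CommRing R] [CommRing S] [CommRing T] (f : R →+* S) (g : S →+* T)
    (hg : g.FaithfullyFlat) (hgf : (g.comp f).Flat) : f.Flat := by
  algebraize [f, g, g.comp f]
  exact flat_of_faithfullyFlat_comp R S T

/-- Let A -> B -> C be ring maps with B -> C faithfully flat. Weak etaleness of A -> C then implies weak
etaleness of A -> B. -/
theorem result (A B C : Type u) [CommRing A] [CommRing B] [CommRing C] [Algebra A B]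
    [Algebra B C] [Algebra A C] [IsScalarTower A B C] [Module.FaithfullyFlat B C] [Algebra.WeaklyEtale A C] :
    Algebra.WeaklyEtale A B := by
  have hflat : Module.Flat A B := flat_of_faithfullyFlat_comp A B C
  refine ⟨hflat, ?_⟩
  let ι : B →ₐ[A] C := IsScalarTower.toAlgHom A B C
  have hι : (ι : B →+* C).Flat := by
    change (algebraMap B C).Flat
    rw [RingHom.flat_algebraMap_iff]; infer_instance
  have hιff : (ι : B →+* C).FaithfullyFlat := by
    change (algebraMap B C).FaithfullyFlat
    rw [RingHom.faithfullyFlat_algebraMap_iff]; infer_instance
  have hcomm : (ι : B →+* C).comp (Algebra.TensorProduct.lmul' A (S := B) : TensorProduct A B B →+* B) =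
      (Algebra.TensorProduct.lmul' A (S := C) : TensorProduct A C C →+* C).comp
        (Algebra.TensorProduct.map ι ι : TensorProduct A B B →+* TensorProduct A C C) := by
    have : (ι.comp (Algebra.TensorProduct.lmul' A (S := B))) =
      (Algebra.TensorProduct.lmul' A (S := C)).comp (Algebra.TensorProduct.map ι ι) := by
      ext <;> simp
    exact congrArg (fun h : TensorProduct A B B →ₐ[A] C => (h : TensorProduct A B B →+* C)) this
  apply ringHom_flat_of_comp _ _ hιff
  change ((ι : B →+* C).comp (Algebra.TensorProduct.lmul' A (S := B) : TensorProduct A B B →+* B)).Flat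
  rw [hcomm]
  exact RingHom.Flat.comp (RingHom.Flat.tensorProductMap hι hι) (Algebra.WeaklyEtale.flat_lmul' A C)

end Groth.Agent.S1996
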