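import Groth.Statements.S14175
import Mathlib

set_option autoImplicit false
universe u v w
open GalCoh

namespace Groth.Agent.S14175

open Representation

/-- Let G be a finite cyclic group generated by t, let m be a natural number dividing the order of G,
and let ρ be a linear representation of G on a module V over a commutative ring k such that m·V = 0
and every element of G whose m-th power is the identity acts trivially on V. Then evaluating a
crossed homomorphism at t induces a bijection from the first cohomology of G with values in V
(crossed homomorphisms f, i.e. f(gh) = ρ(g)f(h) + f(g), modulo the principal ones g ↦ ρ(g)x − x)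
onto the coinvariants V_G (the quotient of V by the span of all ρ(g)v − v): the class of f(t) in V_G
vanishes exactly when f is principal, and every class of V_G is the class of f(t) for some crossed
homomorphism f. The bijection depends on the choice of the generator t. -/
theorem result
    {k : Type u} {G : Type v} {V : Type w} [CommRing k] [Group G] [Finite G]
    [AddCommGroup V] [Module k V] (ρ : Representation k G V)
    (t : G) (ht : ∀ g : G, g ∈ Subgroup.zpowers t)
    (m : ℕ) (hm : m ∣ Nat.card G) (htors : ∀ v : V, m • v = 0)
    (htriv : ∀ g : G, g ^ m = 1 → ∀ v : V, ρ g v = v) :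
    (∀ f : G → V, (∀ g h : G, f (g * h) = ρ g (f h) + f g) →
        (Representation.Coinvariants.mk ρ (f t) = 0 ↔ ∃ x : V, ∀ g : G, f g = ρ g x - x)) ∧
    (∀ v : V, ∃ f : G → V, (∀ g h : G, f (g * h) = ρ g (f h) + f g) ∧
        Representation.Coinvariants.mk ρ (f t) = Representation.Coinvariants.mk ρ v) := by
  classical
  have hpow : ∀ g : G, ∃ j : ℕ, t ^ j = g := by
    intro g
    have := mem_powers_iff_mem_zpowers.mpr (ht g)
    exact (Submonoid.mem_powers_iff _ _).mp this
  have hN : orderOf t = Nat.card G := orderOf_eq_card_of_forall_mem_zpowers ht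
  have hker : Coinvariants.ker ρ ≤ LinearMap.range (ρ t - 1) := by
    apply Submodule.span_le.mpr
    rintro _ ⟨⟨g, x⟩, rfl⟩
    obtain ⟨j, rfl⟩ := hpow g
    refine ⟨∑ i ∈ Finset.range j, (ρ t ^ i) x, ?_⟩
    have h1 := mul_geom_sum (ρ t) j
    have h2 := congrArg (fun φ : Module.End k V => φ x) h1
    simpa [LinearMap.sum_apply, map_pow] using h2
  refine ⟨fun f hf => ⟨fun h0 => ?_, fun ⟨x, hx⟩ => ?_⟩, fun v => ?_⟩
  · rw [Coinvariants.mk_eq_zero] at h0
    obtain ⟨x, hx⟩ := hker h0
    refine ⟨x, ?_⟩
    have hf1 : f 1 = 0 := by
      have := hf 1 1
      simpa using this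
    let H : Subgroup G :=
      { carrier := {g | f g = ρ g x - x}
        one_mem' := by simp [hf1]
        mul_mem' := by
          intro a b ha hb
          simp only [Set.mem_ofPred_eq] at ha hb ⊢
          rw [hf, ha, hb, map_mul]
          simp
        inv_mem' := by
          intro a ha
          simp only [Set.mem_ofPred_eq] at ha ⊢
          have h1 := hf a a⁻¹
          rw [mul_inv_cancel, hf1, ha] at h1
          have h2 : ρ a (f a⁻¹) = x - ρ a x := by
            have : ρ a (f a⁻¹) = -(ρ a x - x) := by
              rw [eq_neg_iff_add_eq_zero]; exact h1.symm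
            rw [this]; abel
          have h3 := congrArg (ρ a⁻¹) h2
          rw [map_sub] at h3
          simpa using h3 }
    have htH : t ∈ H := by
      change f t = ρ t x - x
      rw [← hx]; simp
    intro g
    exact (Subgroup.zpowers_le.mpr htH) (ht g)
  · rw [hx t, Coinvariants.mk_eq_zero]
    exact Coinvariants.sub_mem_ker t x
  · let S : ℕ → V := fun j => ∑ i ∈ Finset.range j, ρ (t ^ i) v
    have hS_add : ∀ a b, S (a + b) = ρ (t ^ a) (S b) + S a := by
      intro a b
      simp only [S]
      rw [Finset.sum_range_add, map_sum, add_comm]
      congr 1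
      apply Finset.sum_congr rfl
      intro i _
      rw [pow_add, map_mul]; rfl
    obtain ⟨d, hd⟩ := hm
    have htd : ∀ q : ℕ, ∀ x : V, ρ (t ^ (q * d)) x = x := by
      intro q x
      apply htriv
      rw [← pow_mul]
      have : q * d * m = (Nat.card G) * q := by rw [hd]; ring
      rw [this, pow_mul, ← hN, pow_orderOf_eq_one, one_pow]
    have hSqd : ∀ q, S (q * d) = q • S d := by
      intro q
      induction q with
      | zero => simp [S]
      | succ q ih =>
        rw [add_mul, one_mul, hS_add, htd, ih, add_smul, one_smul, add_comm]
    have hSN : S (Nat.card G) = 0 := by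
      rw [hd, hSqd, htors]
    have hSNj : ∀ j, S (Nat.card G * j) = 0 := by
      intro j
      induction j with
      | zero => simp [S]
      | succ j ih =>
        rw [mul_add, mul_one, hS_add, hSN, map_zero, ih, add_zero]
    have key : ∀ a b, a ≤ b → t ^ a = t ^ b → S a = S b := by
      intro a b hab h
      have h1 : t ^ (b - a) = 1 := by
        have : t ^ b = t ^ a * t ^ (b - a) := by rw [← pow_add]; congr 1; omega
        rw [this] at h
        exact left_eq_mul.mp h
      obtain ⟨j, hj⟩ := orderOf_dvd_iff_pow_eq_one.mpr h1
      have : b = a + Nat.card G * j := by rw [← hN, ← hj]; omega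
      rw [this, hS_add, hSNj, map_zero, zero_add]
    have hSper : ∀ a b, t ^ a = t ^ b → S a = S b := by
      intro a b h
      rcases le_total a b with hab | hab
      · exact key a b hab h
      · exact (key b a hab h.symm).symm
    choose e he using hpow
    refine ⟨fun g => S (e g), ?_, ?_⟩
    · intro g h
      have : t ^ (e (g * h)) = t ^ (e g + e h) := by rw [he, pow_add, he, he]
      simp only
      rw [hSper _ _ this, hS_add, he]
    · have : S (e t) = S 1 := hSper _ _ (by rw [he, pow_one])
      simp only
      rw [this]; simp [S]

end Groth.Agent.S14175
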