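import Groth.Statements.S14181
import Mathlib

set_option autoImplicit false
universe u
open CategoryTheory
open GalCoh

namespace Groth.Agent.S14181

section
variable {k G : Type u} [CommRing k] [Group G] (A : Rep.{u} k G) (P : Subgroup G) [P.Normal]
  [Fintype P]

/-- The norm map of `P`. -/
noncomputable def Nmap : A.V →ₗ[k] A.V := ∑ p : P, A.ρ (p : G)

theorem Nmap_apply (x : A.V) : Nmap A P x = ∑ p : P, A.ρ (p : G) x := by
  simp [Nmap, LinearMap.sum_apply]

theorem rho_Nmap (q : P) (x : A.V) : A.ρ (q : G) (Nmap A P x) = Nmap A P x := by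
  rw [Nmap_apply, map_sum]
  rw [← Equiv.sum_comp (Equiv.mulLeft q) (fun p : P => A.ρ (p : G) x)]
  apply Finset.sum_congr rfl
  intro p _
  simp only [Equiv.coe_mulLeft, Subgroup.coe_mul, map_mul, Module.End.mul_apply]

theorem rho_comm_Nmap (g : G) (x : A.V) : A.ρ g (Nmap A P x) = Nmap A P (A.ρ g x) := by
  rw [Nmap_apply, Nmap_apply, map_sum]
  rw [← Equiv.sum_comp (MulAut.conjNormal g : P ≃* P).toEquiv (fun p : P => A.ρ (p : G) (A.ρ g x))]
  apply Finset.sum_congr rfl
  intro p _
  simp only [MulEquiv.toEquiv_eq_coe, EquivLike.coe_coe, MulAut.conjNormal_apply]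
  rw [← Module.End.mul_apply, ← map_mul, ← Module.End.mul_apply, ← map_mul]
  congr 2
  group

theorem Nmap_cocycle (f : groupCohomology.cocycles₁ A) (p : P) : Nmap A P (f (p : G)) = 0 := by
  rw [Nmap_apply]
  have hcoc := (groupCohomology.mem_cocycles₁_iff (A := A) f).1 f.2
  have h1 : ∀ q : P, A.ρ (q : G) (f (p : G)) = f ((q : G) * (p : G)) - f (q : G) := by
    intro q
    rw [hcoc (q : G) (p : G)]
    abel
  rw [Finset.sum_congr rfl (fun q _ => h1 q), Finset.sum_sub_distrib, sub_eq_zero]
  rw [← Equiv.sum_comp (Equiv.mulRight p) (fun q : P => f (q : G))]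
  rfl

theorem Nmap_invariant (x : A.V) (hx : ∀ q : P, A.ρ (q : G) x = x) :
    Nmap A P x = (Nat.card P : k) • x := by
  rw [Nmap_apply, Finset.sum_congr rfl (fun q _ => hx q), Finset.sum_const, Finset.card_univ,
    Nat.card_eq_fintype_card, Nat.cast_smul_eq_nsmul]

end

/-- Let G be a group with a finite normal subgroup P, k a commutative ring and A a k-linear
representation of G such that multiplication by the order of P is a bijection of A. Then the
inflation map on 1-cocycles (crossed homomorphisms) Z¹(G/P, A^P) → Z¹(G, A) has a k-linear left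
inverse. (The published statement is for the inertia group of a Galois cover of smooth curves at a
point, its normal Sylow p-subgroup P and a module of n-torsion with n prime to p; the argument uses
only that the order of P acts invertibly, which is the hypothesis taken here.) -/
theorem result
    {k G : Type u} [CommRing k] [Group G] (A : Rep.{u} k G) (P : Subgroup G) [P.Normal] [Finite P]
    (hP : Function.Bijective fun a : A => (Nat.card P : k) • a) :
    ∃ r : ModuleCat.of k (groupCohomology.cocycles₁ A) ⟶
        ModuleCat.of k (groupCohomology.cocycles₁ (A.quotientToInvariants P)),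
      (groupCohomology.mapCocycles₁ (QuotientGroup.mk' P) (Rep.ofHom (A.ρ.quotientToInvariants_lift P)) :
          ModuleCat.of k (groupCohomology.cocycles₁ (A.quotientToInvariants P)) ⟶
            ModuleCat.of k (groupCohomology.cocycles₁ A)) ≫ r = 𝟙 _ := by
  classical
  haveI := Fintype.ofFinite P
  let c : k := (Nat.card P : k)
  let E : A.V ≃ₗ[k] A.V := LinearEquiv.ofBijective (c • (LinearMap.id : A.V →ₗ[k] A.V)) hP
  have hE : ∀ x : A.V, E x = c • x := fun x => rfl
  have hEsymm : ∀ x : A.V, E.symm (c • x) = x := fun x => by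
    rw [← hE, E.symm_apply_apply]
  -- averaging operator
  let e : A.V →ₗ[k] A.V := E.symm.toLinearMap ∘ₗ Nmap A P
  have he_apply : ∀ x, e x = E.symm (Nmap A P x) := fun x => rfl
  have hEsymm_rho : ∀ (g : G) (x : A.V), A.ρ g (E.symm x) = E.symm (A.ρ g x) := by
    intro g x
    apply E.injective
    rw [E.apply_symm_apply, hE, ← map_smul, ← hE, E.apply_symm_apply]
  have he_rho : ∀ (g : G) (x : A.V), A.ρ g (e x) = e (A.ρ g x) := by
    intro g x
    rw [he_apply, he_apply, hEsymm_rho, rho_comm_Nmap]
  have he_inv : ∀ (x : A.V) (q : P), A.ρ (q : G) (e x) = e x := by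
    intro x q
    rw [he_apply, hEsymm_rho, rho_Nmap]
  have he_coc : ∀ (f : groupCohomology.cocycles₁ A) (p : P), e (f (p : G)) = 0 := by
    intro f p
    rw [he_apply, Nmap_cocycle, map_zero]
  have he_id : ∀ x : A.V, (∀ q : P, A.ρ (q : G) x = x) → e x = x := by
    intro x hx
    rw [he_apply, Nmap_invariant A P x hx]
    exact hEsymm x
  have he_mem : ∀ x : A.V, e x ∈ Representation.invariants (A.ρ.comp P.subtype) := by
    intro x q
    exact he_inv x q
  have he_mul : ∀ (f : groupCohomology.cocycles₁ A) (g : G) (p : P),
      e (f (g * (p : G))) = e (f g) := by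
    intro f g p
    have hcoc := (groupCohomology.mem_cocycles₁_iff (A := A) f).1 f.2
    rw [hcoc g (p : G), map_add, ← he_rho, he_coc, map_zero, zero_add]
  have he_out : ∀ (f : groupCohomology.cocycles₁ A) (g : G),
      e (f ((QuotientGroup.mk g : G ⧸ P).out)) = e (f g) := by
    intro f g
    obtain ⟨p, hp⟩ := QuotientGroup.mk_out_eq_mul P g
    rw [hp, he_mul]
  -- the retraction as a function
  let rfun : groupCohomology.cocycles₁ A → ((G ⧸ P) → (A.quotientToInvariants P).V) :=
    fun f gbar => ⟨e (f gbar.out), he_mem _⟩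
  have rfun_mk : ∀ (f : groupCohomology.cocycles₁ A) (g : G),
      ((rfun f (QuotientGroup.mk g) : (A.quotientToInvariants P).V) : A.V) = e (f g) :=
    fun f g => he_out f g
  have rfun_mem : ∀ f, rfun f ∈ groupCohomology.cocycles₁ (A.quotientToInvariants P) := by
    intro f
    rw [groupCohomology.mem_cocycles₁_iff]
    intro gb hb
    induction gb using QuotientGroup.induction_on with
    | H g =>
    induction hb using QuotientGroup.induction_on with
    | H h =>
    apply Subtype.ext
    have hcoc := (groupCohomology.mem_cocycles₁_iff (A := A) f).1 f.2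
    rw [← QuotientGroup.mk_mul, rfun_mk]
    change e (f (g * h)) = A.ρ g ((rfun f (QuotientGroup.mk h) : (A.quotientToInvariants P).V) : A.V) +
      ((rfun f (QuotientGroup.mk g) : (A.quotientToInvariants P).V) : A.V)
    rw [rfun_mk, rfun_mk, hcoc g h, map_add, he_rho]
  let r : groupCohomology.cocycles₁ A →ₗ[k] groupCohomology.cocycles₁ (A.quotientToInvariants P) :=
    { toFun := fun f => ⟨rfun f, rfun_mem f⟩
      map_add' := fun f f' => by
        apply Subtype.ext
        funext gb
        apply Subtype.ext
        change e ((f + f') gb.out) = e (f gb.out) + e (f' gb.out)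
        rw [← map_add]
        rfl
      map_smul' := fun a f => by
        apply Subtype.ext
        funext gb
        apply Subtype.ext
        change e ((a • f) gb.out) = a • e (f gb.out)
        rw [← map_smul]
        rfl }
  refine ⟨ModuleCat.ofHom r, ?_⟩
  ext x : 2
  apply Subtype.ext
  funext gb
  induction gb using QuotientGroup.induction_on with
  | H g =>
  apply Subtype.ext
  change ((rfun _ (QuotientGroup.mk g) : (A.quotientToInvariants P).V) : A.V) = _
  rw [rfun_mk]
  apply he_id
  intro q
  exact (x.1 (QuotientGroup.mk g)).2 q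

end Groth.Agent.S14181
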