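import Groth.Statements.S14189
import Mathlib
import Groth.Agent.S13044

set_option autoImplicit false
universe u
open CategoryTheory CategoryTheory.Limits AlgebraicGeometry
open FlatMor

namespace Groth.Agent.S14189

section Helpers

open AlgebraicGeometry CategoryTheory Limits TopologicalSpace

lemma eq_of_generic (T W Z : Scheme.{u}) [IsIntegral T] (pW : W ⟶ T) [Flat pW] (pZ : Z ⟶ T)
    [IsSeparated pZ] (a b : W ⟶ Z) (ha : a ≫ pZ = pW) (hb : b ≫ pZ = pW)
    (hab : pullback.fst pW (T.fromSpecStalk (genericPoint T)) ≫ a =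
      pullback.fst pW (T.fromSpecStalk (genericPoint T)) ≫ b) : a = b := by
  obtain ⟨c, hc⟩ := Groth.Agent.S13044.exists_lift T W (pullback pZ pZ) Z pW (pullback.diagonal pZ)
    (pullback.lift a b (ha.trans hb.symm))
    (pullback.fst pW (T.fromSpecStalk (genericPoint T)) ≫ a) (by
      apply pullback.hom_ext
      · simp only [Category.assoc, pullback.diagonal_fst, pullback.lift_fst, Category.comp_id]
      · simp only [Category.assoc, pullback.diagonal_snd, pullback.lift_snd, Category.comp_id]
        exact hab)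
  have h1 := congr($hc ≫ pullback.fst pZ pZ)
  have h2 := congr($hc ≫ pullback.snd pZ pZ)
  simp only [Category.assoc, pullback.diagonal_fst, pullback.diagonal_snd, pullback.lift_fst,
    pullback.lift_snd, Category.comp_id] at h1 h2
  rw [← h1, ← h2]

theorem main' (T Y Z T' E : Scheme.{u}) (η : E ⟶ T)
    (pY : Y ⟶ T) (pZ : Z ⟶ T) [Flat pY]
    (hdense : ∀ (W : Scheme.{u}) (pW : W ⟶ T) [Flat pW] (a b : W ⟶ Z), a ≫ pZ = pW → b ≫ pZ = pW →
      pullback.fst pW η ≫ a = pullback.fst pW η ≫ b → a = b)
    (ψ : pullback pY η ⟶ Z)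
    (g : T' ⟶ T) [Flat g] [Surjective g] [QuasiCompact g]
    (φ' : pullback pY g ⟶ pullback pZ g) (hφ' : φ' ≫ pullback.snd pZ g = pullback.snd pY g)
    (hagree : pullback.fst (pullback.fst pY g) (pullback.fst pY η) ≫ φ' ≫ pullback.fst pZ g =
      pullback.snd (pullback.fst pY g) (pullback.fst pY η) ≫ ψ) :
    ∃ φ : Y ⟶ Z, φ ≫ pZ = pY ∧ pullback.fst pY η ≫ φ = ψ := by
  set q := pullback.fst pY g with hq
  set φ'' := φ' ≫ pullback.fst pZ g with hφ''
  have hφ''Z : φ'' ≫ pZ = q ≫ pY := by
    rw [hφ'', Category.assoc, pullback.condition, ← Category.assoc, hφ', hq, pullback.condition]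
  -- the two pullbacks agree
  have key : pullback.fst q q ≫ φ'' = pullback.snd q q ≫ φ'' := by
    set pW := pullback.fst q q ≫ q ≫ pY with hpW
    have hflat : Flat pW := inferInstance
    refine hdense (pullback q q) pW _ _ ?_ ?_ ?_
    · rw [Category.assoc, hφ''Z]
    · rw [Category.assoc, hφ''Z, hpW, pullback.condition_assoc]
    · let κ : pullback pW η ⟶ pullback pY η :=
        pullback.lift (pullback.fst pW η ≫ pullback.fst q q ≫ q) (pullback.snd pW η) (by
          rw [← pullback.condition, hpW]; simp only [Category.assoc])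
      have hκ : κ ≫ pullback.fst pY η = pullback.fst pW η ≫ pullback.fst q q ≫ q :=
        pullback.lift_fst _ _ _
      let l₁ : pullback pW η ⟶ pullback q (pullback.fst pY η) :=
        pullback.lift (pullback.fst pW η ≫ pullback.fst q q) κ (by rw [hκ, Category.assoc])
      let l₂ : pullback pW η ⟶ pullback q (pullback.fst pY η) :=
        pullback.lift (pullback.fst pW η ≫ pullback.snd q q) κ (by
          rw [hκ, Category.assoc, pullback.condition])
      have e1 := congr(l₁ ≫ $hagree)
      have e2 := congr(l₂ ≫ $hagree)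
      simp only [l₁, l₂, pullback.lift_fst_assoc, pullback.lift_snd_assoc] at e1 e2
      rw [Category.assoc] at e1 e2
      exact e1.trans e2.symm
  have hdesc : ∀ {W : Scheme.{u}} (g₁ g₂ : W ⟶ pullback pY g), g₁ ≫ q = g₂ ≫ q →
      g₁ ≫ φ'' = g₂ ≫ φ'' := by
    intro W g₁ g₂ h12
    have h1 : g₁ = pullback.lift g₁ g₂ h12 ≫ pullback.fst q q := (pullback.lift_fst _ _ _).symm
    have h2 : g₂ = pullback.lift g₁ g₂ h12 ≫ pullback.snd q q := (pullback.lift_snd _ _ _).symm
    rw [h1, Category.assoc, key, ← Category.assoc, ← h2]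
  have hqE : EffectiveEpi q := inferInstance
  refine ⟨EffectiveEpi.desc q φ'' hdesc, ?_, ?_⟩
  · rw [← cancel_epi q, EffectiveEpi.fac_assoc, hφ''Z]
  · have : Epi (pullback.snd q (pullback.fst pY η)) := inferInstance
    rw [← cancel_epi (pullback.snd q (pullback.fst pY η)), ← pullback.condition_assoc,
      EffectiveEpi.fac]
    exact hagree

theorem main (T Y Z T' : Scheme.{u}) [IsIntegral T]
    (pY : Y ⟶ T) (pZ : Z ⟶ T) [Flat pY] [Flat pZ] [IsSeparated pZ]
    (ψ : pullback pY (T.fromSpecStalk (genericPoint T)) ⟶ Z)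
    (hψ : ψ ≫ pZ = pullback.fst pY (T.fromSpecStalk (genericPoint T)) ≫ pY)
    (g : T' ⟶ T) [Flat g] [Surjective g] [QuasiCompact g]
    (φ' : pullback pY g ⟶ pullback pZ g) (hφ' : φ' ≫ pullback.snd pZ g = pullback.snd pY g)
    (hagree : pullback.fst (pullback.fst pY g) (pullback.fst pY (T.fromSpecStalk (genericPoint T))) ≫ φ' ≫ pullback.fst pZ g =
      pullback.snd (pullback.fst pY g) (pullback.fst pY (T.fromSpecStalk (genericPoint T))) ≫ ψ) :
    ∃ φ : Y ⟶ Z, φ ≫ pZ = pY ∧ pullback.fst pY (T.fromSpecStalk (genericPoint T)) ≫ φ = ψ :=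
  main' T Y Z T' _ (T.fromSpecStalk (genericPoint T)) pY pZ
    (fun W pW _ a b ha hb hab => eq_of_generic T W Z pW pZ a b ha hb hab) ψ g φ' hφ' hagree

end Helpers


/-- Let T be an integral scheme with generic point η, let Y and Z be schemes flat over T with Z
separated over T, and let ψ : Y_η → Z be a T-morphism from the generic fibre Y_η = Y ×_T Spec
O_{T,η}. Let g : T' → T be flat, surjective and quasi-compact, and let φ' : Y_{T'} → Z_{T'} be a
T'-morphism which agrees with ψ over T' ×_T η, in the sense that on Y_{T'} ×_Y Y_η = Y ×_T T' ×_T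
Spec O_{T,η} the composite of the first projection with φ' and with Z_{T'} → Z equals the composite
of the second projection with ψ. Then ψ extends to a T-morphism φ : Y → Z, one whose composite with
Y_η → Y is ψ. (The published statement is an equivalence and also records that an extension, when it
exists, is unique; the converse direction, that an extension over T base-changes to such a φ' over
any such T', is immediate, and this row states the existence direction only.) -/
theorem result (T Y Z T' : Scheme.{u}) [IsIntegral T]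
    (pY : Y ⟶ T) (pZ : Z ⟶ T) [Flat pY] [Flat pZ] [IsSeparated pZ]
    (ψ : pullback pY (T.fromSpecStalk (genericPoint T)) ⟶ Z)
    (hψ : ψ ≫ pZ = pullback.fst pY (T.fromSpecStalk (genericPoint T)) ≫ pY)
    (g : T' ⟶ T) [Flat g] [Surjective g] [QuasiCompact g]
    (φ' : pullback pY g ⟶ pullback pZ g) (hφ' : φ' ≫ pullback.snd pZ g = pullback.snd pY g)
    (hagree : pullback.fst (pullback.fst pY g) (pullback.fst pY (T.fromSpecStalk (genericPoint T))) ≫ φ' ≫ pullback.fst pZ g =
      pullback.snd (pullback.fst pY g) (pullback.fst pY (T.fromSpecStalk (genericPoint T))) ≫ ψ) :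
    ∃ φ : Y ⟶ Z, φ ≫ pZ = pY ∧ pullback.fst pY (T.fromSpecStalk (genericPoint T)) ≫ φ = ψ := by
  exact main T Y Z T' pY pZ ψ hψ g φ' hφ' hagree

end Groth.Agent.S14189
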