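import Groth.Statements.S14192
import Mathlib

set_option autoImplicit false
open PowerSeries
open StackCount

namespace Groth.Agent.S14192aux
open PowerSeries

/-- logarithmic derivative relation -/
def LD (F h : ℚ⟦X⟧) : Prop := d⁄dX ℚ F = h * F

lemma LD.mul {F G h k : ℚ⟦X⟧} (hF : LD F h) (hG : LD G k) : LD (F * G) (h + k) := by
  unfold LD at *
  rw [Derivation.leibniz, hF, hG]
  simp only [smul_eq_mul]
  ring

lemma LD.one : LD 1 0 := by
  unfold LD
  rw [derivative_one]; simp

lemma LD.pow {F h : ℚ⟦X⟧} (hF : LD F h) (m : ℕ) : LD (F ^ m) (m • h) := by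
  induction m with
  | zero => simpa using LD.one
  | succ m ih =>
    rw [pow_succ, succ_nsmul]
    exact ih.mul hF

lemma LD.prod {ι : Type*} (s : Finset ι) (F h : ι → ℚ⟦X⟧) (H : ∀ i ∈ s, LD (F i) (h i)) :
    LD (∏ i ∈ s, F i) (∑ i ∈ s, h i) := by
  classical
  induction s using Finset.induction_on with
  | empty => simpa using LD.one
  | insert a s ha ih =>
    rw [Finset.prod_insert ha, Finset.sum_insert ha]
    exact (H a (Finset.mem_insert_self a s)).mul
      (ih (fun i hi => H i (Finset.mem_insert_of_mem hi)))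

lemma LD.unique {F G h : ℚ⟦X⟧} (hF : LD F h) (hG : LD G h)
    (h0 : constantCoeff F = constantCoeff G) : F = G := by
  ext n
  induction n using Nat.strong_induction_on with
  | _ n ih =>
    cases n with
    | zero => simpa using h0
    | succ n =>
      have h1 := congrArg (coeff n) hF
      have h2 := congrArg (coeff n) hG
      rw [coeff_derivative, coeff_mul] at h1 h2
      have hne : ((n : ℚ) + 1) ≠ 0 := by positivity
      have hs : ∑ p ∈ Finset.HasAntidiagonal.antidiagonal n, coeff p.1 h * coeff p.2 F =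
          ∑ p ∈ Finset.HasAntidiagonal.antidiagonal n, coeff p.1 h * coeff p.2 G := by
        refine Finset.sum_congr rfl (fun p hp => ?_)
        have := Finset.HasAntidiagonal.mem_antidiagonal.mp hp
        rw [ih p.2 (by omega)]
      rw [hs, ← h2] at h1
      exact mul_right_cancel₀ hne h1

/-- geometric series -/
noncomputable def G (a : ℚ) : ℚ⟦X⟧ := PowerSeries.mk fun v => a ^ v

noncomputable def L (a : ℚ) : ℚ⟦X⟧ := 1 - PowerSeries.C a * PowerSeries.X

lemma G_mul_L (a : ℚ) : G a * L a = 1 := by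
  ext n
  unfold G L
  rw [mul_sub, mul_one, map_sub, ← mul_assoc]
  cases n with
  | zero => simp
  | succ n =>
    rw [coeff_succ_mul_X, coeff_mul_C, coeff_mk, coeff_mk, coeff_one, if_neg (by omega)]
    ring

lemma LD_L (a : ℚ) : LD (L a) (-(PowerSeries.C a * G a)) := by
  unfold LD
  have : d⁄dX ℚ (L a) = - PowerSeries.C a := by
    unfold L
    rw [map_sub, derivative_one, Derivation.leibniz, derivative_C, derivative_X]
    simp
  rw [this, neg_mul, mul_assoc, G_mul_L, mul_one]

lemma constantCoeff_L (a : ℚ) : constantCoeff (L a) = 1 := by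
  unfold L; simp

theorem main (R : LaurentPolynomial ℤ) (q : ℤ) :
    (PowerSeries.exp ℚ).subst
        (PowerSeries.mk fun v : ℕ => if v = 0 then (0 : ℚ)
          else (R.coeff.sum fun (n : ℤ) (r : ℤ) => (r : ℚ) * (q : ℚ) ^ (n * (v : ℤ))) / (v : ℚ))
      * ∏ n ∈ R.coeff.support, (1 - PowerSeries.C ((q : ℚ) ^ n) * PowerSeries.X) ^ (R.coeff n).toNat
    = ∏ n ∈ R.coeff.support, (1 - PowerSeries.C ((q : ℚ) ^ n) * PowerSeries.X) ^ (-(R.coeff n)).toNat := by
  set g : ℚ⟦X⟧ := PowerSeries.mk fun v : ℕ => if v = 0 then (0 : ℚ)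
          else (R.coeff.sum fun (n : ℤ) (r : ℤ) => (r : ℚ) * (q : ℚ) ^ (n * (v : ℤ))) / (v : ℚ) with hg
  have hg0 : constantCoeff g = 0 := by
    rw [hg, ← coeff_zero_eq_constantCoeff_apply, coeff_mk]; simp
  have hsub : HasSubst g := HasSubst.of_constantCoeff_zero' hg0
  -- derivative of g
  have hg' : d⁄dX ℚ g = ∑ n ∈ R.coeff.support,
      ((R.coeff n : ℚ) • (PowerSeries.C ((q : ℚ) ^ n) * G ((q : ℚ) ^ n))) := by
    ext v
    rw [coeff_derivative, hg, coeff_mk, if_neg (by omega), map_sum]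
    have hne : ((v : ℚ) + 1) ≠ 0 := by positivity
    push_cast
    rw [div_mul_cancel₀ _ hne, Finsupp.sum]
    refine Finset.sum_congr rfl (fun n _ => ?_)
    rw [PowerSeries.coeff_smul, coeff_C_mul, G, coeff_mk, smul_eq_mul]
    have : (q : ℚ) ^ (n * ((v : ℤ) + 1)) = (q : ℚ) ^ n * ((q : ℚ) ^ n) ^ v := by
      have e : ((v : ℤ) + 1) = ((v + 1 : ℕ) : ℤ) := by push_cast; ring
      rw [e, zpow_mul, zpow_natCast, pow_succ']
    rw [this]
  have hE : LD ((PowerSeries.exp ℚ).subst g) (d⁄dX ℚ g) := by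
    unfold LD
    rw [derivative_subst hsub, derivative_exp, mul_comm]
  have hE0 : constantCoeff ((PowerSeries.exp ℚ).subst g) = 1 := by
    have h1 : constantCoeff ((PowerSeries.exp ℚ).subst g) =
        finsum (fun d ↦ coeff d (PowerSeries.exp ℚ) • constantCoeff (g ^ d)) :=
      constantCoeff_subst hsub (PowerSeries.exp ℚ)
    rw [h1, finsum_eq_single _ 0]
    · simp
    · intro d hd
      rw [map_pow, hg0, zero_pow hd, smul_zero]
  set c : ℤ → ℚ⟦X⟧ := fun n => PowerSeries.C ((q : ℚ) ^ n) * G ((q : ℚ) ^ n) with hc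
  have hU : LD ((PowerSeries.exp ℚ).subst g *
      ∏ n ∈ R.coeff.support, (L ((q : ℚ) ^ n)) ^ (R.coeff n).toNat)
      (d⁄dX ℚ g + ∑ n ∈ R.coeff.support, (R.coeff n).toNat • (-(c n))) :=
    hE.mul (LD.prod _ _ _ (fun n _ => (LD_L _).pow _))
  have hV : LD (∏ n ∈ R.coeff.support, (L ((q : ℚ) ^ n)) ^ (-(R.coeff n)).toNat)
      (∑ n ∈ R.coeff.support, (-(R.coeff n)).toNat • (-(c n))) :=
    LD.prod _ _ _ (fun n _ => (LD_L _).pow _)
  have heq : d⁄dX ℚ g + ∑ n ∈ R.coeff.support, (R.coeff n).toNat • (-(c n)) =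
      ∑ n ∈ R.coeff.support, (-(R.coeff n)).toNat • (-(c n)) := by
    rw [hg', ← Finset.sum_add_distrib]
    refine Finset.sum_congr rfl (fun n _ => ?_)
    have hr : ((R.coeff n : ℤ) : ℚ) = ((R.coeff n).toNat : ℚ) - ((-(R.coeff n)).toNat : ℚ) := by
      have := Int.toNat_sub_toNat_neg (R.coeff n)
      exact_mod_cast this.symm
    rw [← Nat.cast_smul_eq_nsmul ℚ, ← Nat.cast_smul_eq_nsmul ℚ, hr]
    module
  rw [heq] at hU
  have key := LD.unique hU hV (by
    rw [map_mul, hE0, map_prod, map_prod]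
    simp [constantCoeff_L])
  simpa only [L] using key

end Groth.Agent.S14192aux

namespace Groth.Agent.S14192

/-- Let R = Σ_n r_n X^n be a Laurent polynomial with integer coefficients and q > 1 an integer. In the
ring of formal power series in t over ℚ, the exponential of Σ_{v ≥ 1} R(q^v) t^v / v equals the
finite product Π_n (1 - q^n t)^(-r_n). Stated here with denominators cleared: the exponential series
multiplied by Π_{n : r_n > 0} (1 - q^n t)^(r_n) equals Π_{n : r_n < 0} (1 - q^n t)^(-r_n) (each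
factor 1 - q^n t is a unit, so this is equivalent). -/
theorem result (R : LaurentPolynomial ℤ) (q : ℤ) (hq : 1 < q) :
    (PowerSeries.exp ℚ).subst
        (PowerSeries.mk fun v : ℕ => if v = 0 then (0 : ℚ)
          else (R.coeff.sum fun (n : ℤ) (r : ℤ) => (r : ℚ) * (q : ℚ) ^ (n * (v : ℤ))) / (v : ℚ))
      * ∏ n ∈ R.coeff.support, (1 - PowerSeries.C ((q : ℚ) ^ n) * PowerSeries.X) ^ (R.coeff n).toNat
    = ∏ n ∈ R.coeff.support, (1 - PowerSeries.C ((q : ℚ) ^ n) * PowerSeries.X) ^ (-(R.coeff n)).toNat := by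
  exact Groth.Agent.S14192aux.main R q

end Groth.Agent.S14192
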