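import Groth.Statements.S14211
import Groth.Agent.Lib.helper1.Quat1

set_option autoImplicit false
universe u v
open scoped TensorProduct
open Brauer

namespace Groth.Agent.S14211

open Groth.Agent.Lib.helper1.CSA Groth.Agent.Lib.helper1.BrEq Groth.Agent.Lib.helper1.Tpow
  Groth.Agent.Lib.helper1.Quat

/-- a ring in which every nonzero element is a unit is a division ring -/
@[reducible] noncomputable def divisionRingOf {R : Type*} [Ring R] [Nontrivial R]
    (h : ∀ x : R, x ≠ 0 → IsUnit x) : DivisionRing R :=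
  DivisionRing.ofIsUnitOrEqZero (fun a => by
    by_cases ha : a = 0
    · exact Or.inr ha
    · exact Or.inl (h a ha))

/-- Let k be a field in which 2 ≠ 0 and A a finite-dimensional central simple k-algebra. Then A has
period 2 and index 2 (its Severi–Brauer variety has type (2, 2, 2m)) if and only if A is isomorphic
over k to a matrix algebra M_m(Q), m ≥ 1, over a quaternion algebra Q = (a, b)_k (the k-algebra with
basis 1, i, j, ij, i² = a, j² = b, ij = −ji) which is a division ring; moreover such a quaternion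
algebra is unique up to k-isomorphism. -/
theorem result (k : Type u) [Field k] (h2 : (2 : k) ≠ 0)
    (A : Type v) [Ring A] [Algebra k A] [Algebra.IsCentral k A] [IsSimpleRing A]
    [FiniteDimensional k A] :
    ((CSAGal.IsPeriod k A 2 ∧ CSAGal.IsIndex k A 2) ↔
      ∃ (a b : k) (m : ℕ), 0 < m ∧ (∀ x : QuaternionAlgebra k a 0 b, x ≠ 0 → IsUnit x) ∧
        Nonempty (A ≃ₐ[k] Matrix (Fin m) (Fin m) (QuaternionAlgebra k a 0 b))) ∧
    (∀ (a b a' b' : k) (m m' : ℕ),
      (∀ x : QuaternionAlgebra k a 0 b, x ≠ 0 → IsUnit x) →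
      (∀ x : QuaternionAlgebra k a' 0 b', x ≠ 0 → IsUnit x) →
      Nonempty (A ≃ₐ[k] Matrix (Fin m) (Fin m) (QuaternionAlgebra k a 0 b)) →
      Nonempty (A ≃ₐ[k] Matrix (Fin m') (Fin m') (QuaternionAlgebra k a' 0 b')) →
      Nonempty (QuaternionAlgebra k a 0 b ≃ₐ[k] QuaternionAlgebra k a' 0 b')) := by
  classical
  have hne : ∀ (R : Type u) [Ring R] [Algebra k R] (m : ℕ), Nonempty (A ≃ₐ[k] Matrix (Fin m) (Fin m) R) →
      m ≠ 0 := by
    intro R _ _ m ⟨e⟩ hm
    subst hm
    exact not_subsingleton A e.toEquiv.subsingleton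
  refine ⟨⟨?_, ?_⟩, ?_⟩
  · rintro ⟨-, ⟨hd, m, D, _, _, hm, hdimD, ⟨eA⟩⟩⟩
    haveI : FiniteDimensional k D := Module.finite_of_finrank_pos (by rw [hdimD]; norm_num)
    haveI : Algebra.IsCentral k (Matrix (Fin m) (Fin m) D) := isCentral_of_algEquiv k A _ eA
    haveI : Algebra.IsCentral k D := isCentral_of_matrix k D m hm.ne'
    obtain ⟨a, b, ⟨eQ⟩⟩ := exists_quaternion_of_degree_two k h2 D (by rw [hdimD]; norm_num)
    refine ⟨a, b, m, hm, ?_, ⟨eA.trans eQ.symm.mapMatrix⟩⟩
    intro x hx
    have : IsUnit (eQ x) := isUnit_iff_ne_zero.2 (by simpa using hx)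
    exact (isUnit_map_iff eQ x).1 this
  · rintro ⟨a, b, m, hm, hQ, ⟨eA⟩⟩
    letI : DivisionRing (QuaternionAlgebra k a 0 b) := divisionRingOf hQ
    haveI : Algebra.IsCentral k (Matrix (Fin m) (Fin m) (QuaternionAlgebra k a 0 b)) :=
      isCentral_of_algEquiv k A _ eA
    haveI : Algebra.IsCentral k (QuaternionAlgebra k a 0 b) :=
      isCentral_of_matrix k _ m hm.ne'
    have hAQ : BrEq k A (QuaternionAlgebra k a 0 b) := brEq_of_algEquiv_matrix m hm.ne' eA
    have hnotsplit : ¬ Curves.Splits k A k := by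
      rintro ⟨n, hn, ⟨e⟩⟩
      let e1 : Matrix (Fin m) (Fin m) (QuaternionAlgebra k a 0 b) ≃ₐ[k] Matrix (Fin n) (Fin n) k :=
        eA.symm.trans ((Algebra.TensorProduct.lid k A).symm.trans e)
      obtain ⟨eQk⟩ := nonempty_algEquiv_of_matrix k (QuaternionAlgebra k a 0 b) k m n hm.ne' hn e1
      have := eQk.toLinearEquiv.finrank_eq
      rw [QuaternionAlgebra.finrank_eq_four, Module.finrank_self] at this
      omega
    constructor
    · refine ⟨by norm_num, ?_, ?_⟩
      · obtain ⟨h1, h2', h3⟩ := csa_tpow k A 2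
        have hQQ : Curves.Splits k (QuaternionAlgebra k a 0 b ⊗[k] QuaternionAlgebra k a 0 b) k :=
          splits_tensor_self_of_algEquiv_op k _ QuaternionAlgebra.starAe
        have b1 : BrEq k (CSAGal.tpow k A 2) (A ⊗[k] A) :=
          BrEq.of_algEquiv ((succAlgEquiv k A 1).symm.trans
            (Algebra.TensorProduct.congr AlgEquiv.refl (tpowOneAlgEquiv k A)))
        have b2 : BrEq k (A ⊗[k] A) (A ⊗[k] QuaternionAlgebra k a 0 b) := hAQ.tensor_left A
        have b3 : BrEq k (A ⊗[k] QuaternionAlgebra k a 0 b) (QuaternionAlgebra k a 0 b ⊗[k] A) :=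
          BrEq.of_algEquiv (Algebra.TensorProduct.comm k _ _)
        have b4 : BrEq k (QuaternionAlgebra k a 0 b ⊗[k] A)
            (QuaternionAlgebra k a 0 b ⊗[k] QuaternionAlgebra k a 0 b) := hAQ.tensor_left _
        exact (((b1.trans b2).trans b3).trans b4).splits k hQQ
      · intro e' he' hlt hs
        have : e' = 1 := by omega
        subst this
        exact hnotsplit ((BrEq.of_algEquiv (tpowOneAlgEquiv k A).symm).splits k hs)
    · haveI : IsArtinianRing A := IsArtinianRing.of_finite k A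
      obtain ⟨r, hr, D', _, _, _, ⟨eA'⟩⟩ :=
        IsSimpleRing.exists_algEquiv_matrix_divisionRing_finite k A
      obtain ⟨eD⟩ := nonempty_algEquiv_of_matrix k D' (QuaternionAlgebra k a 0 b) r m hr.out hm.ne'
        (eA'.symm.trans eA)
      refine ⟨by norm_num, r, D', inferInstance, inferInstance, Nat.pos_of_ne_zero hr.out, ?_, ⟨eA'⟩⟩
      rw [eD.toLinearEquiv.finrank_eq, QuaternionAlgebra.finrank_eq_four]; norm_num
  · intro a b a' b' m m' hQ hQ' he he'
    have hm := hne _ m he
    have hm' := hne _ m' he'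
    obtain ⟨e⟩ := he
    obtain ⟨e'⟩ := he'
    letI : DivisionRing (QuaternionAlgebra k a 0 b) := divisionRingOf hQ
    letI : DivisionRing (QuaternionAlgebra k a' 0 b') := divisionRingOf hQ'
    exact nonempty_algEquiv_of_matrix k _ _ m m' hm hm' (e.symm.trans e')

end Groth.Agent.S14211
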