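import Groth.Statements.S14253
import Groth.Agent.Lib.helper11.AWNSch2
import Groth.Agent.Lib.helper11.CharPUH

set_option autoImplicit false
universe u
open CategoryTheory AlgebraicGeometry
open PerfSch

namespace Groth.Agent.S14253


open CategoryTheory AlgebraicGeometry
open Groth.Agent.Lib.helper11.AWNSch Groth.Agent.Lib.helper11.UHRing Groth.Agent.Lib.helper11.CharPUH

theorem iterate_pow {R : Type u} [CommRing R] (p : ℕ) (n : ℕ) (x : R) :
    (fun s : R => s ^ p)^[n] x = x ^ p ^ n := by
  induction n generalizing x with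
  | zero => simp
  | succ n ih => rw [Function.iterate_succ_apply, ih, ← pow_mul, pow_succ']

theorem bij_of_perfect (p : ℕ) [Fact p.Prime] {A B : Type u} [CommRing A] [CommRing B]
    (φ : A →+* B) (hφ : UH φ)
    (hA : Function.Bijective fun s : A => s ^ p)
    (hB0 : (p : B) = 0) (hB : Function.Bijective fun s : B => s ^ p) :
    Function.Bijective φ := by
  have hp : Fact p.Prime := inferInstance
  have hAn : ∀ n, Function.Bijective fun s : A => s ^ p ^ n := fun n => by
    have := hA.iterate n
    convert this using 1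
    funext x
    exact (iterate_pow p n x).symm
  have hBn : ∀ n, Function.Bijective fun s : B => s ^ p ^ n := fun n => by
    have := hB.iterate n
    convert this using 1
    funext x
    exact (iterate_pow p n x).symm
  constructor
  · rw [injective_iff_map_eq_zero]
    intro a ha
    obtain ⟨N, hN⟩ := ((uh_iff φ).mp hφ).2.2 a ha
    have h1 : a ^ p ^ N = 0 := by
      have hle : N ≤ p ^ N := (Nat.lt_pow_self hp.out.one_lt).le
      obtain ⟨d, hd⟩ := Nat.exists_eq_add_of_le hle
      rw [hd, pow_add, hN, zero_mul]
    exact (hAn N).1 (by simpa [zero_pow (pow_ne_zero N hp.out.ne_zero)] using h1)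
  · intro b
    rcases subsingleton_or_nontrivial B with hs | hnt
    · exact ⟨0, Subsingleton.elim _ _⟩
    · haveI : CharP B p := (CharP.charP_iff_prime_eq_zero hp.out).mpr hB0
      obtain ⟨n, a, ha⟩ := pow_mem_of_uh p φ hφ b
      obtain ⟨a', ha'⟩ := (hAn n).2 a
      refine ⟨a', (hBn n).1 ?_⟩
      show φ a' ^ p ^ n = b ^ p ^ n
      rw [← map_pow, ← ha]
      exact congrArg φ ha'

/-- A universal homeomorphism f : X ⟶ Y between perfect schemes of prime characteristic p (on every open
of X and of Y, p = 0 in the ring of sections and the p-th power map is bijective) is an isomorphism. -/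
theorem result (p : ℕ) [Fact p.Prime] {X Y : Scheme.{u}} (f : X ⟶ Y)
    (hX : PerfSch.IsPerfect p X) (hY : PerfSch.IsPerfect p Y) (hf : FlatMor.IsUnivHomeo f) : IsIso f := by

  refine isIso_of_forall_app_bijective f hf (fun U => ?_)
  exact bij_of_perfect p (f.app U.1).hom (uh_app f hf U) (hY U.1).2 (hX (f ⁻¹ᵁ U.1)).1
    (hX (f ⁻¹ᵁ U.1)).2

end Groth.Agent.S14253
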