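import Groth.Statements.S14254
import Groth.Agent.Lib.helper11.CharPUH
import Mathlib.FieldTheory.IsPerfectClosure

set_option autoImplicit false
universe u
open CategoryTheory AlgebraicGeometry
open FrobAlg

namespace Groth.Agent.S14254


open Groth.Agent.Lib.helper11.UnivHomeo Groth.Agent.Lib.helper11.UHRing
open Groth.Agent.Lib.helper11.CharPUH

section
variable (p : ℕ) [hp : Fact p.Prime] {R : Type u} [CommRing R] [CharP R p] [PerfectRing R p]

theorem pow_inj {x y : R} (n : ℕ) (h : x ^ p ^ n = y ^ p ^ n) : x = y := by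
  have := (bijective_iterateFrobenius R p n).1
  apply this
  rw [iterateFrobenius_def, iterateFrobenius_def, h]

theorem exists_root (n : ℕ) (y : R) : ∃ x : R, x ^ p ^ n = y := by
  obtain ⟨x, hx⟩ := (bijective_iterateFrobenius R p n).2 y
  exact ⟨x, by rw [← iterateFrobenius_def, hx]⟩

include hp in
theorem eq_zero_of_nilpotent {x : R} (h : IsNilpotent x) : x = 0 := by
  obtain ⟨m, hm⟩ := h
  have hle : m ≤ p ^ m := (Nat.lt_pow_self hp.out.one_lt).le
  have : x ^ p ^ m = 0 := pow_eq_zero_of_le hle hm
  exact pow_inj p m (by rw [this, zero_pow (pow_ne_zero _ hp.out.ne_zero)])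

end

/-- Let p be a prime, φ : A → B a map of commutative rings of characteristic p, i : A → A' and j : B →
B' perfect closures (A' and B' are perfect rings of characteristic p, every element of A' resp. B'
has a p^n-th power in the image of i resp. j, and the kernels of i and j consist of nilpotent
elements), and φ' : A' → B' the induced map, φ' ∘ i = j ∘ φ. Then Spec φ : Spec B ⟶ Spec A is a
universal homeomorphism if and only if φ' is bijective. (The published statement is for an arbitrary
morphism of schemes over the prime field and its perfection; this row is the case of affine schemes,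
the perfection of Spec A being Spec of the perfect closure of A.) -/
theorem result (p : ℕ) [Fact p.Prime]
    {A B A' B' : Type u} [CommRing A] [CommRing B] [CommRing A'] [CommRing B']
    [CharP A p] [CharP B p] [CharP A' p] [CharP B' p] [PerfectRing A' p] [PerfectRing B' p]
    (φ : A →+* B) (i : A →+* A') (j : B →+* B') [IsPerfectClosure i p] [IsPerfectClosure j p]
    (φ' : A' →+* B') (hφ : φ'.comp i = j.comp φ) :
    FlatMor.IsUnivHomeo (Spec.map (CommRingCat.ofHom φ)) ↔ Function.Bijective φ' := by

  have hp : Fact p.Prime := inferInstance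
  have hker_i : ∀ a, i a = 0 → IsNilpotent a := fun a ha => by
    have := IsPRadical.ker_le i p (RingHom.mem_ker.mpr ha)
    rw [mem_pNilradical] at this
    obtain ⟨n, hn⟩ := this
    exact ⟨_, hn⟩
  have hker_j : ∀ b, j b = 0 → IsNilpotent b := fun b hb => by
    have := IsPRadical.ker_le j p (RingHom.mem_ker.mpr hb)
    rw [mem_pNilradical] at this
    obtain ⟨n, hn⟩ := this
    exact ⟨_, hn⟩
  have hcomm : ∀ a, φ' (i a) = j (φ a) := fun a => congrArg (fun f : A →+* B' => f a) hφ
  constructor
  · intro hU
    have hU' := (uh_iff φ).mp hU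
    have hpow := pow_mem_of_uh p φ hU
    constructor
    · rw [injective_iff_map_eq_zero]
      intro x' hx'
      obtain ⟨n, a, ha⟩ := IsPRadical.pow_mem i p x'
      have h1 : j (φ a) = 0 := by rw [← hcomm, ha, map_pow, hx', zero_pow (pow_ne_zero _ hp.out.ne_zero)]
      obtain ⟨m, hm⟩ := hker_j _ h1
      have h2 : IsNilpotent (a ^ m) := hU'.2.2 _ (by rw [map_pow, hm])
      have h3 : IsNilpotent a := by
        obtain ⟨k, hk⟩ := h2
        exact ⟨m * k, by rw [pow_mul, hk]⟩
      have h4 : IsNilpotent (x' ^ p ^ n) := by rw [← ha]; exact h3.map i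
      have h5 : x' ^ p ^ n = 0 := eq_zero_of_nilpotent p h4
      exact pow_inj p n (by rw [h5, zero_pow (pow_ne_zero _ hp.out.ne_zero)])
    · intro y'
      obtain ⟨n, b, hb⟩ := IsPRadical.pow_mem j p y'
      obtain ⟨m, a, ha⟩ := hpow b
      obtain ⟨x', hx'⟩ := exists_root p (n + m) (i a)
      refine ⟨x', pow_inj p (n + m) ?_⟩
      rw [← map_pow, hx', hcomm, ha, map_pow, hb, pow_add, pow_mul]
  · intro hbij
    refine uh_of_pow_mem p φ ?_ ?_
    · intro a ha
      apply hker_i
      apply hbij.1
      rw [hcomm, ha, map_zero, map_zero]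
    · intro b
      obtain ⟨x', hx'⟩ := hbij.2 (j b)
      obtain ⟨n, a, ha⟩ := IsPRadical.pow_mem i p x'
      have h1 : j (b ^ p ^ n - φ a) = 0 := by
        rw [map_sub, map_pow, ← hx', ← map_pow, ← ha, hcomm, sub_self]
      obtain ⟨m, hm⟩ := hker_j _ h1
      have hle : m ≤ p ^ m := (Nat.lt_pow_self hp.out.one_lt).le
      have h2 : (b ^ p ^ n - φ a) ^ p ^ m = 0 := pow_eq_zero_of_le hle hm
      rw [sub_pow_char_pow, sub_eq_zero] at h2
      refine ⟨n + m, a ^ p ^ m, ?_⟩
      rw [map_pow, ← h2, pow_add, pow_mul]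

end Groth.Agent.S14254
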