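import Groth.Statements.S14255
import Mathlib.Tactic
import Mathlib.RingTheory.Flat.EquationalCriterion

set_option autoImplicit false
universe u
open FrobAlg

namespace Groth.Agent.S14255


lemma exists_pow_mem_uniform {K L : Type*} [CommRing K] [CommRing L] (i : K →+* L) (p : ℕ)
    [IsPRadical i p] (x : L) : ∃ N, ∀ n, N ≤ n → ∃ y : K, i y = x ^ p ^ n := by
  obtain ⟨N, y, hy⟩ := IsPRadical.pow_mem i p x
  refine ⟨N, fun n hn => ⟨y ^ p ^ (n - N), ?_⟩⟩
  rw [map_pow, hy, ← pow_mul, ← pow_add, Nat.add_sub_cancel' hn]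

theorem flat_perfection (p : ℕ) [Fact p.Prime]
    {A B A' B' : Type*} [CommRing A] [CommRing B] [CommRing A'] [CommRing B']
    [CharP A p] [CharP B p] [CharP A' p] [CharP B' p] [PerfectRing A' p] [PerfectRing B' p]
    (φ : A →+* B) (hflat : φ.Flat) (i : A →+* A') (j : B →+* B') [IsPerfectClosure i p] [IsPerfectClosure j p]
    (φ' : A' →+* B') (hφ : φ'.comp i = j.comp φ) : φ'.Flat := by
  classical
  have hφ1 : ∀ a, φ' (i a) = j (φ a) := fun a => RingHom.congr_fun hφ a
  let algA : Algebra A B := φ.toAlgebra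
  let algA' : Algebra A' B' := φ'.toAlgebra
  have hfl : Module.Flat A B := hflat
  change Module.Flat A' B'
  apply Module.Flat.of_forall_isTrivialRelation
  intro l a' x' hrel
  have hrel' : ∑ k, φ' (a' k) * x' k = 0 := hrel
  -- uniform exponent
  choose Na hNa using fun k => exists_pow_mem_uniform i p (a' k)
  choose Nx hNx using fun k => exists_pow_mem_uniform j p (x' k)
  let N₀ := Finset.univ.sup Na ⊔ Finset.univ.sup Nx
  have hNa' : ∀ k, ∃ y, i y = a' k ^ p ^ N₀ := fun k =>
    hNa k N₀ (le_trans (Finset.le_sup (Finset.mem_univ k)) le_sup_left)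
  have hNx' : ∀ k, ∃ y, j y = x' k ^ p ^ N₀ := fun k =>
    hNx k N₀ (le_trans (Finset.le_sup (Finset.mem_univ k)) le_sup_right)
  choose a₀ ha₀ using hNa'
  choose x₀ hx₀ using hNx'
  have h3 : j (∑ k, φ (a₀ k) * x₀ k) = 0 := by
    have h4 : (∑ k, φ' (a' k) * x' k) ^ p ^ N₀ = 0 := by rw [hrel']; exact zero_pow (pow_ne_zero _ (Fact.out : p.Prime).ne_zero)
    rw [← h4, ← iterateFrobenius_def, map_sum, map_sum]
    refine Finset.sum_congr rfl (fun k _ => ?_)
    rw [map_mul, map_mul, ← hφ1, ha₀, hx₀, iterateFrobenius_def, iterateFrobenius_def, map_pow]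
  have h5 : (∑ k, φ (a₀ k) * x₀ k) ∈ pNilradical B p := IsPRadical.ker_le j p h3
  obtain ⟨m, hm⟩ := mem_pNilradical.mp h5
  let N := N₀ + m
  let a₁ : Fin l → A := fun k => a₀ k ^ p ^ m
  let x₁ : Fin l → B := fun k => x₀ k ^ p ^ m
  have ha₁ : ∀ k, i (a₁ k) = a' k ^ p ^ N := fun k => by
    simp only [a₁, N]; rw [map_pow, ha₀, ← pow_mul, ← pow_add]
  have hx₁ : ∀ k, j (x₁ k) = x' k ^ p ^ N := fun k => by
    simp only [x₁, N]; rw [map_pow, hx₀, ← pow_mul, ← pow_add]
  have hrel₁ : ∑ k, a₁ k • x₁ k = 0 := by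
    rw [← hm, ← iterateFrobenius_def, map_sum]
    refine Finset.sum_congr rfl (fun k _ => ?_)
    rw [map_mul, iterateFrobenius_def, iterateFrobenius_def, ← map_pow]
    rfl
  obtain ⟨κ, c, y, hxy, hac⟩ := Module.Flat.isTrivialRelation_of_sum_smul_eq_zero (R := A) (M := B) (f := a₁) (x := x₁) hrel₁
  let σA := iterateFrobeniusEquiv A' p N
  let σB := iterateFrobeniusEquiv B' p N
  have hσA : ∀ z, σA z = z ^ p ^ N := fun z => iterateFrobeniusEquiv_def A' p N z
  have hσB : ∀ z, σB z = z ^ p ^ N := fun z => iterateFrobeniusEquiv_def B' p N z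
  refine ⟨κ, fun k t => σA.symm (i (c k t)), fun t => σB.symm (j (y t)), ?_, ?_⟩
  · intro k
    apply σB.injective
    rw [hσB, ← hx₁, hxy k, map_sum, map_sum]
    refine Finset.sum_congr rfl (fun t _ => ?_)
    change j (φ (c k t) * y t) = σB (φ' (σA.symm (i (c k t))) * σB.symm (j (y t)))
    rw [map_mul, map_mul, σB.apply_symm_apply, hσB, ← map_pow, ← hσA, σA.apply_symm_apply, hφ1]
  · intro t
    apply σA.injective
    rw [map_sum, map_zero]
    have h6 : ∑ k, a₁ k * c k t = 0 := hac t
    have h7 := congrArg i h6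
    rw [map_sum, map_zero] at h7
    rw [← h7]
    refine Finset.sum_congr rfl (fun k _ => ?_)
    rw [map_mul, map_mul, σA.apply_symm_apply, hσA, ha₁]

/-- Let p be a prime, φ : A → B a flat map of commutative rings of characteristic p, i : A → A' and j :
B → B' perfect closures (A', B' perfect rings of characteristic p, every element of A' resp. B' has
a p^n-th power in the image of i resp. j, the kernels of i and j consist of nilpotent elements), and
φ' : A' → B' the induced map, φ' ∘ i = j ∘ φ. Then φ' is flat. (The published statement is that the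
perfection of a flat morphism of schemes over the prime field is flat; this row is its affine case,
to which the published proof reduces.) -/
theorem result (p : ℕ) [Fact p.Prime]
    {A B A' B' : Type u} [CommRing A] [CommRing B] [CommRing A'] [CommRing B']
    [CharP A p] [CharP B p] [CharP A' p] [CharP B' p] [PerfectRing A' p] [PerfectRing B' p]
    (φ : A →+* B) (hflat : φ.Flat) (i : A →+* A') (j : B →+* B') [IsPerfectClosure i p] [IsPerfectClosure j p]
    (φ' : A' →+* B') (hφ : φ'.comp i = j.comp φ) : φ'.Flat := by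
  exact flat_perfection p φ hflat i j φ' hφ

end Groth.Agent.S14255
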