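import Groth.Statements.S14260
import Groth.Agent.S14255
import Mathlib.Tactic
import Mathlib.RingTheory.Ideal.GoingUp

set_option autoImplicit false
universe u
open FrobAlg

namespace Groth.Agent.S14260


open Polynomial in
lemma isIntegral_of_isPRadical {K L : Type*} [CommRing K] [CommRing L] (i : K →+* L) (p : ℕ)
    (hp : p ≠ 0) [IsPRadical i p] : i.IsIntegral := by
  intro x
  obtain ⟨n, y, hy⟩ := IsPRadical.pow_mem i p x
  refine ⟨X ^ p ^ n - C y, monic_X_pow_sub_C y (pow_ne_zero n hp), ?_⟩
  simp [hy]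

lemma comap_surjective_of_isPRadical {K L : Type*} [CommRing K] [CommRing L] (i : K →+* L) (p : ℕ)
    (hp : p ≠ 0) [IsPRadical i p] : Function.Surjective (PrimeSpectrum.comap i) := by
  intro P
  let _ := i.toAlgebra
  have hint : Algebra.IsIntegral K L := ⟨isIntegral_of_isPRadical i p hp⟩
  have hker : (⊥ : Ideal L).comap (algebraMap K L) ≤ P.asIdeal := by
    intro x hx
    have h1 : x ∈ RingHom.ker i := by
      rw [RingHom.mem_ker]; exact hx
    obtain ⟨n, hn⟩ := mem_pNilradical.mp (IsPRadical.ker_le i p h1)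
    exact P.isPrime.mem_of_pow_mem _ (hn ▸ P.asIdeal.zero_mem)
  obtain ⟨Q, -, hQ, hQP⟩ := Ideal.exists_ideal_over_prime_of_isIntegral P.asIdeal (⊥ : Ideal L) hker
  exact ⟨⟨Q, hQ⟩, PrimeSpectrum.ext hQP⟩

lemma comap_injective_of_isPRadical {K L : Type*} [CommRing K] [CommRing L] (i : K →+* L) (p : ℕ)
    (hp : p ≠ 0) [IsPRadical i p] : Function.Injective (PrimeSpectrum.comap i) := by
  have key : ∀ q₁ q₂ : PrimeSpectrum L, PrimeSpectrum.comap i q₁ = PrimeSpectrum.comap i q₂ →
      q₁.asIdeal ≤ q₂.asIdeal := by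
    intro q₁ q₂ h x hx
    obtain ⟨n, y, hy⟩ := IsPRadical.pow_mem i p x
    have h1 : y ∈ (PrimeSpectrum.comap i q₁).asIdeal := by
      show i y ∈ q₁.asIdeal
      rw [hy]; exact Ideal.pow_mem_of_mem _ hx _ (pow_pos (Nat.pos_of_ne_zero hp) n)
    rw [h] at h1
    have h2 : i y ∈ q₂.asIdeal := h1
    rw [hy] at h2
    exact q₂.isPrime.mem_of_pow_mem _ h2
  intro q₁ q₂ h
  exact PrimeSpectrum.ext (le_antisymm (key q₁ q₂ h) (key q₂ q₁ h.symm))

/-- Let p be a prime, φ : A → B a faithfully flat map of commutative rings of characteristic p, i : A →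
A' and j : B → B' perfect closures (A', B' perfect rings of characteristic p, every element of A'
resp. B' has a p^n-th power in the image of i resp. j, the kernels of i and j consist of nilpotent
elements), and φ' : A' → B' the induced map, φ' ∘ i = j ∘ φ. Then φ' is faithfully flat. (The
published statement is that the perfection of a faithfully flat morphism of schemes over the prime
field is faithfully flat; this row is its affine case, to which the published proof reduces.) -/
theorem result (p : ℕ) [Fact p.Prime]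
    {A B A' B' : Type u} [CommRing A] [CommRing B] [CommRing A'] [CommRing B']
    [CharP A p] [CharP B p] [CharP A' p] [CharP B' p] [PerfectRing A' p] [PerfectRing B' p]
    (φ : A →+* B) (hflat : φ.FaithfullyFlat) (i : A →+* A') (j : B →+* B') [IsPerfectClosure i p]
    [IsPerfectClosure j p] (φ' : A' →+* B') (hφ : φ'.comp i = j.comp φ) : φ'.FaithfullyFlat := by
  have hp : p ≠ 0 := (Fact.out : p.Prime).ne_zero
  rw [RingHom.FaithfullyFlat.iff_flat_and_comap_surjective] at hflat ⊢
  refine ⟨Groth.Agent.S14255.flat_perfection p φ hflat.1 i j φ' hφ, ?_⟩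
  intro q'
  obtain ⟨P, hP⟩ := hflat.2 (PrimeSpectrum.comap i q')
  obtain ⟨P', hP'⟩ := comap_surjective_of_isPRadical j p hp P
  refine ⟨P', comap_injective_of_isPRadical i p hp ?_⟩
  rw [← hP, ← hP']
  apply PrimeSpectrum.ext
  show Ideal.comap i (Ideal.comap φ' P'.asIdeal) = Ideal.comap φ (Ideal.comap j P'.asIdeal)
  rw [Ideal.comap_comap, Ideal.comap_comap, hφ]

end Groth.Agent.S14260
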