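import Groth.Statements.S14262
import Mathlib.Tactic
import Mathlib.RingTheory.Flat.EquationalCriterion

set_option autoImplicit false
universe u
open FrobAlg

namespace Groth.Agent.S14262

/-- Let p be a prime, A a perfect ring of characteristic p and f ∈ A. The radical of the principal ideal
(f) — equivalently the ideal generated by all p^n-th roots of f, n ≥ 0 — is a flat A-module. -/
theorem result (p : ℕ) [Fact p.Prime] (A : Type u) [CommRing A]
    [CharP A p] [PerfectRing A p] (f : A) :
    Module.Flat A ((Ideal.span {f}).radical) := by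
  classical
  have hp : p.Prime := Fact.out
  have hp2 : 2 ≤ p := hp.two_le
  let r : ℕ → A := fun n => (iterateFrobeniusEquiv A p n).symm f
  have hr : ∀ n, r n ^ p ^ n = f := fun n => by
    have := (iterateFrobeniusEquiv A p n).apply_symm_apply f
    rwa [iterateFrobeniusEquiv_def] at this
  have hrmem : ∀ n, r n ∈ (Ideal.span {f}).radical := fun n =>
    ⟨p ^ n, by rw [hr]; exact Ideal.mem_span_singleton_self f⟩
  have hinj : ∀ (n : ℕ) (c d : A), c ^ p ^ n = d ^ p ^ n → c = d := by
    intro n c d h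
    apply (iterateFrobeniusEquiv A p n).injective
    rw [iterateFrobeniusEquiv_def, iterateFrobeniusEquiv_def]; exact h
  have hrsucc : ∀ n, r (n + 1) ^ p = r n := by
    intro n
    apply hinj n
    rw [hr, ← pow_mul, ← pow_succ', hr]
  have hdiv : ∀ x ∈ (Ideal.span {f}).radical, ∃ N, ∀ n, N ≤ n → ∃ b, x = b * r n := by
    intro x hx
    obtain ⟨m, hm⟩ := hx
    obtain ⟨c, hc⟩ := Ideal.mem_span_singleton'.mp hm
    refine ⟨m, fun n hn => ?_⟩
    have hmn : m ≤ p ^ n := le_trans (Nat.lt_pow_self hp.one_lt).le (Nat.pow_le_pow_right hp.pos hn)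
    refine ⟨(iterateFrobeniusEquiv A p n).symm (x ^ (p ^ n - m) * c), ?_⟩
    apply hinj n
    rw [mul_pow, hr]
    have h2 := (iterateFrobeniusEquiv A p n).apply_symm_apply (x ^ (p ^ n - m) * c)
    rw [iterateFrobeniusEquiv_def] at h2
    rw [h2, mul_assoc, hc, ← pow_add, Nat.sub_add_cancel hmn]
  apply Module.Flat.of_forall_isTrivialRelation
  intro l a x hrel
  have hdiv' : ∀ i : Fin l, ∃ N, ∀ n, N ≤ n → ∃ b, (x i : A) = b * r n := fun i => hdiv _ (x i).2
  choose Ni hNi using hdiv'
  let N := Finset.univ.sup Ni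
  have hN : ∀ i, ∃ b, (x i : A) = b * r N := fun i => hNi i N (Finset.le_sup (Finset.mem_univ i))
  choose b hb using hN
  set g := r N with hg
  set h := r (N + 1) with hh
  have hhg : h ^ p = g := hrsucc N
  have hS : (∑ i, a i * b i) * g = 0 := by
    have h1 := congrArg (Subtype.val) hrel
    simp only [Submodule.coe_sum, Submodule.coe_smul, smul_eq_mul, ZeroMemClass.coe_zero] at h1
    rw [Finset.sum_mul, ← h1]
    refine Finset.sum_congr rfl (fun i _ => ?_)
    rw [hb i, mul_assoc]
  have hSh : (∑ i, a i * b i) * h = 0 := by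
    apply hinj 1
    rw [pow_one, zero_pow hp.ne_zero, mul_pow, hhg]
    obtain ⟨q, rfl⟩ : ∃ q, p = q + 1 := ⟨p - 1, by omega⟩
    rw [pow_succ, mul_assoc, hS, mul_zero]
  refine ⟨1, fun i _ => b i * h ^ (p - 1), fun _ => ⟨h, hrmem (N + 1)⟩, ?_, ?_⟩
  · intro i
    apply Subtype.ext
    simp only [Finset.univ_unique, Finset.sum_singleton, Submodule.coe_smul, smul_eq_mul]
    rw [hb i, ← hhg, mul_assoc, ← pow_succ, Nat.sub_add_cancel hp.one_le]
  · intro _
    have : ∑ i, a i * (b i * h ^ (p - 1)) = ((∑ i, a i * b i) * h) * h ^ (p - 2) := by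
      rw [Finset.sum_mul, Finset.sum_mul]
      refine Finset.sum_congr rfl (fun i _ => ?_)
      have : p - 1 = (p - 2) + 1 := by omega
      rw [this, pow_succ]; ring
    rw [this, hSh, zero_mul]

end Groth.Agent.S14262
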