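import Groth.Statements.S14271
import Mathlib.Tactic
import Mathlib.AlgebraicGeometry.Morphisms.SchemeTheoreticallyDominant
import Mathlib.AlgebraicGeometry.Morphisms.ClosedImmersion
import Mathlib.RingTheory.Ideal.MinimalPrime.Localization

set_option autoImplicit false
universe u
open FlatPur

namespace Groth.Agent.S14271


open AlgebraicGeometry CategoryTheory CategoryTheory.Limits in
/-- key algebraic lemma: a section over an affine open which vanishes on `U` is zero. -/
lemma section_eq_zero (X : Scheme.{u}) (U : X.Opens)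
    (hZ : ∀ z : X, z ∉ U → ∃ a ∈ IsLocalRing.maximalIdeal (X.presheaf.stalk z),
      IsSMulRegular (X.presheaf.stalk z) a)
    (V : X.Opens) (hV : IsAffineOpen V) (x : Γ(X, V))
    (hx : ∀ (z : X) (hzV : z ∈ V), z ∈ U → X.presheaf.germ V z hzV x = 0) : x = 0 := by
  classical
  by_contra hx0
  -- the annihilator of x
  let I : Ideal Γ(X, V) := LinearMap.ker (LinearMap.toSpanSingleton Γ(X, V) Γ(X, V) x)
  have hI : ∀ r : Γ(X, V), r ∈ I ↔ r * x = 0 := by
    intro r
    simp [I, LinearMap.mem_ker, LinearMap.toSpanSingleton_apply]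
  have hItop : I ≠ ⊤ := by
    intro h
    have : (1 : Γ(X, V)) ∈ I := h ▸ Submodule.mem_top
    rw [hI, one_mul] at this
    exact hx0 this
  obtain ⟨⟨p, hp⟩⟩ := Ideal.nonempty_minimalPrimes hItop
  have hpprime : p.IsPrime := hp.1.1
  let y : PrimeSpectrum Γ(X, V) := ⟨p, hpprime⟩
  have hzV : hV.fromSpec y ∈ V := by
    have : hV.fromSpec y ∈ Set.range hV.fromSpec := ⟨y, rfl⟩
    rw [hV.range_fromSpec] at this
    exact this
  set z := hV.fromSpec y with hz
  let _ : Algebra Γ(X, V) (X.presheaf.stalk z) :=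
    TopCat.Presheaf.algebra_section_stalk X.presheaf ⟨z, hzV⟩
  have hloc : IsLocalization.AtPrime (X.presheaf.stalk z) p := hV.isLocalization_stalk' y hzV
  have halg : ∀ r : Γ(X, V), algebraMap Γ(X, V) (X.presheaf.stalk z) r = X.presheaf.germ V z hzV r :=
    fun r => rfl
  -- it suffices to show that the germ of x at z vanishes
  suffices hgerm : X.presheaf.germ V z hzV x = 0 by
    rw [← halg, IsLocalization.map_eq_zero_iff p.primeCompl] at hgerm
    obtain ⟨s, hs⟩ := hgerm
    have : (s : Γ(X, V)) ∈ I := (hI _).mpr hs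
    exact s.2 (hp.1.2 this)
  by_cases hzU : z ∈ U
  · exact hx z hzV hzU
  · obtain ⟨a, ha, hreg⟩ := hZ z hzU
    have hrad : (I.map (algebraMap Γ(X, V) (X.presheaf.stalk z))).radical =
        p.map (algebraMap Γ(X, V) (X.presheaf.stalk z)) :=
      IsLocalization.AtPrime.radical_map_of_mem_minimalPrimes (A := X.presheaf.stalk z) p I hp
    have hmax : p.map (algebraMap Γ(X, V) (X.presheaf.stalk z)) =
        IsLocalRing.maximalIdeal (X.presheaf.stalk z) :=
      IsLocalization.AtPrime.map_eq_maximalIdeal p (X.presheaf.stalk z)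
    have ha' : a ∈ (I.map (algebraMap Γ(X, V) (X.presheaf.stalk z))).radical := by
      rw [hrad, hmax]; exact ha
    obtain ⟨n, hn⟩ := ha'
    have hkill : ∀ e ∈ I.map (algebraMap Γ(X, V) (X.presheaf.stalk z)),
        e * X.presheaf.germ V z hzV x = 0 := by
      intro e he
      refine Submodule.span_induction ?_ ?_ ?_ ?_ he
      · rintro _ ⟨i, hi, rfl⟩
        rw [← halg, ← map_mul, (hI i).mp hi, map_zero]
      · simp
      · intro u v _ _ hu hv
        rw [add_mul, hu, hv, add_zero]
      · intro c u _ hu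
        rw [smul_eq_mul, mul_assoc, hu, mul_zero]
    have h1 : a ^ n • X.presheaf.germ V z hzV x = a ^ n • (0 : X.presheaf.stalk z) := by
      rw [smul_zero, smul_eq_mul]; exact hkill _ hn
    exact (hreg.pow n) h1

open AlgebraicGeometry CategoryTheory CategoryTheory.Limits in
/-- Let X be a scheme and U an open subscheme whose inclusion is quasi-compact, such that for every
point z of X outside U the maximal ideal of O_{X,z} contains an element that is regular (a
nonzerodivisor) on that local ring. Then for every separated X-scheme Y the restriction map from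
X-sections of Y to U-sections of Y is injective: two sections of Y -> X that agree on U are equal. -/
theorem result (X : Scheme.{u}) (U : X.Opens) [QuasiCompact U.ι]
    (hZ : ∀ z : X, z ∉ U → ∃ a ∈ IsLocalRing.maximalIdeal (X.presheaf.stalk z), IsSMulRegular (X.presheaf.stalk z) a)
    (Y : Scheme.{u}) (f : Y ⟶ X) [IsSeparated f] (s₁ s₂ : X ⟶ Y) (h₁ : s₁ ≫ f = 𝟙 X) (h₂ : s₂ ≫ f = 𝟙 X)
    (hU : U.ι ≫ s₁ = U.ι ≫ s₂) : s₁ = s₂ := by
  have hker : U.ι.ker = ⊥ := by
    apply Scheme.IdealSheafData.ext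
    funext V
    rw [Scheme.Hom.ker_apply, Scheme.IdealSheafData.ideal_bot]
    simp only [Pi.bot_apply]
    rw [eq_bot_iff]
    intro x hx
    rw [RingHom.mem_ker] at hx
    rw [Ideal.mem_bot]
    apply section_eq_zero X U hZ V.1 V.2 x
    intro z hzV hzU
    have hzW : z ∈ U.ι ''ᵁ U.ι ⁻¹ᵁ V.1 := ⟨⟨z, hzU⟩, hzV, rfl⟩
    have hle : U.ι ''ᵁ U.ι ⁻¹ᵁ V.1 ≤ V.1 := Set.image_preimage_subset _ _
    have h1 := X.presheaf.germ_res (homOfLE hle) z hzW
    have h2 : X.presheaf.germ V.1 z hzV x =
        X.presheaf.germ (U.ι ''ᵁ U.ι ⁻¹ᵁ V.1) z hzW ((X.presheaf.map (homOfLE hle).op).hom x) := by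
      rw [← h1]; rfl
    rw [h2]
    have h3 : (X.presheaf.map (homOfLE hle).op).hom x = 0 := hx
    rw [h3, map_zero]
  let X' : Over X := Over.mk (𝟙 X)
  let Y' : Over X := Over.mk f
  let U' : Over X := Over.mk U.ι
  let f' : X' ⟶ Y' := Over.homMk s₁ h₁
  let g' : X' ⟶ Y' := Over.homMk s₂ h₂
  let ι' : U' ⟶ X' := Over.homMk U.ι (by simp [X', U'])
  have : IsSeparated Y'.hom := ‹_›
  have hcond : ι' ≫ f' = ι' ≫ g' := by
    ext1; exact hU
  have hfac : (equalizer.lift ι' hcond).left ≫ (equalizer.ι f' g').left = U.ι := by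
    rw [← Over.comp_left, equalizer.lift_ι]; rfl
  have hkerE : (equalizer.ι f' g').left.ker = ⊥ := by
    rw [eq_bot_iff, ← hker, ← hfac]
    exact Scheme.Hom.le_ker_comp _ _
  have hiso : IsIso (equalizer.ι f' g').left := IsClosedImmersion.isIso_iff_ker_eq_bot.mpr hkerE
  rw [← cancel_epi (equalizer.ι f' g').left]
  exact congr($(equalizer.condition f' g').left)

end Groth.Agent.S14271
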