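import Groth.Statements.S14275
import Mathlib
import Groth.Agent.Lib.helper24.BddTors

set_option autoImplicit false
universe u
open CAlg

namespace Groth.Agent.S14275

open Groth.Agent.Lib.helper24.BddTors in
theorem map_mkQ_congr {A : Type u} [CommRing A] (I : Ideal A) {M : Type u} [AddCommGroup M] [Module A M]
    (p q : Submodule A M) (h : p = q) (x : AdicCompletion I M) :
    AdicCompletion.map I p.mkQ x = 0 ↔ AdicCompletion.map I q.mkQ x = 0 := by
  subst h
  rfl

open RingTheory.Sequence in
open Groth.Agent.Lib.helper24.BddTors in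

open RingTheory.Sequence in
/-- Let A be a commutative ring, a an element of A with a-adic completion A^, and a_1, ..., a_n a weakly
regular sequence on A such that for each i = 0, ..., n the quotient A/(a_1, ..., a_i) has bounded
a-power torsion (some fixed power of a kills every element killed by a power of a). Then the images
of a_1, ..., a_n form a weakly regular sequence on A^, and the canonical map from A^ to the a-adic
completion of A/(a_1, ..., a_n) is surjective with kernel the ideal generated by the images of a_1,
..., a_n. -/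
theorem result (A : Type u) [CommRing A] (a : A) (rs : List A)
    (hreg : IsWeaklyRegular A rs)
    (hbd : ∀ i ≤ rs.length, ∃ N : ℕ, ∀ x : A ⧸ Ideal.ofList (rs.take i), (∃ m : ℕ, a ^ m • x = 0) → a ^ N • x = 0) :
    IsWeaklyRegular (AdicCompletion (Ideal.span {a}) A)
        (rs.map (algebraMap A (AdicCompletion (Ideal.span {a}) A))) ∧
      Function.Surjective (AdicCompletion.map (Ideal.span {a}) (Ideal.ofList rs).mkQ) ∧
      LinearMap.ker (AdicCompletion.map (Ideal.span {a}) (Ideal.ofList rs).mkQ) =
        (Ideal.ofList rs).map (algebraMap A (AdicCompletion (Ideal.span {a}) A)) := by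
  have hJ : ∀ J : Ideal A, (J • ⊤ : Submodule A A) = J := fun J => by
    rw [smul_eq_mul, Ideal.mul_top]
  have hbd' : ∀ i ≤ rs.length, BT a (A ⧸ (Ideal.ofList (rs.take i) • ⊤ : Submodule A A)) := by
    intro i hi
    have h1 : BT a (A ⧸ Ideal.ofList (rs.take i)) := hbd i hi
    exact h1.congr a (Submodule.quotEquivOfEq _ _ (hJ _).symm)
  obtain ⟨m1, m2⟩ := main a rs A hreg hbd'
  refine ⟨(isWeaklyRegular_map_algebraMap_iff _ _ rs).2 m1,
    AdicCompletion.map_surjective _ (Submodule.mkQ_surjective _), ?_⟩
  apply le_antisymm
  · intro x hx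
    rw [LinearMap.mem_ker] at hx
    have h2 := m2 x ((map_mkQ_congr _ _ _ (hJ _) x).2 hx)
    refine Submodule.smul_induction_on
      (p := fun x => x ∈ (Ideal.ofList rs).map (algebraMap A (AdicCompletion (Ideal.span {a}) A)))
      h2 ?_ ?_
    · intro r hr y _
      rw [Algebra.smul_def]
      exact Ideal.mul_mem_right _ _ (Ideal.mem_map_of_mem _ hr)
    · intro x y hx hy
      exact Ideal.add_mem _ hx hy
  · intro x hx
    have hx' : x ∈ Ideal.map (algebraMap A (AdicCompletion (Ideal.span {a}) A)) (Ideal.ofList rs) := hx
    rw [LinearMap.mem_ker]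
    refine Submodule.span_induction
      (p := fun x _ => AdicCompletion.map (Ideal.span {a}) (Ideal.ofList rs).mkQ x = 0)
      ?_ ?_ ?_ ?_ hx'
    · rintro _ ⟨r, hr, rfl⟩
      rw [Algebra.algebraMap_eq_smul_one, ← map_mkQ_congr _ _ _ (hJ _)]
      exact map_mkQ_smul_eq_zero a _ _ (Submodule.smul_mem_smul hr Submodule.mem_top)
    · exact map_zero _
    · intro x y _ _ hx hy
      rw [map_add, hx, hy, add_zero]
    · intro c x _ hx
      rw [map_smul, hx, smul_zero]

end Groth.Agent.S14275
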