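import Groth.Statements.S14280
import Mathlib

set_option autoImplicit false
universe u
open SpSeq

namespace Groth.Agent.S14280

lemma norm_trace_le {E : Type u} [AddCommGroup E] [Module ℂ E] [FiniteDimensional ℂ E]
    (Φ : E →ₗ[ℂ] E) (B : ℝ) (hB : 0 ≤ B)
    (h : ∀ μ : ℂ, Module.End.HasEigenvalue Φ μ → ‖μ‖ ≤ B) :
    ‖LinearMap.trace ℂ E Φ‖ ≤ Module.finrank ℂ E * B := by
  have hs : Φ.charpoly.Splits := IsAlgClosed.splits _
  rw [Module.End.trace_eq_sum_roots_charpoly_of_splits hs]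
  refine (norm_multiset_sum_le _).trans ?_
  have h1 : ((Φ.charpoly.roots.map fun x => ‖x‖).sum) ≤ Multiset.card (Φ.charpoly.roots.map fun x => ‖x‖) • B := by
    apply Multiset.sum_le_card_nsmul
    intro x hx
    obtain ⟨μ, hμ, rfl⟩ := Multiset.mem_map.mp hx
    apply h
    rw [Module.End.hasEigenvalue_iff_isRoot_charpoly]
    exact (Polynomial.mem_roots'.mp hμ).2
  refine h1.trans ?_
  rw [Multiset.card_map, nsmul_eq_mul]
  apply mul_le_mul_of_nonneg_right _ hB
  have := Polynomial.card_roots' Φ.charpoly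
  rw [LinearMap.charpoly_natDegree] at this
  exact_mod_cast this

/-- summability of the traces -/
theorem result
    (E : ℕ → ℕ → Type u) [∀ p q, AddCommGroup (E p q)] [∀ p q, Module ℂ (E p q)]
    [∀ p q, FiniteDimensional ℂ (E p q)] (Φ : ∀ p q, E p q →ₗ[ℂ] E p q)
    (N : ℕ) (a c : ℕ → ℝ) (b d : ℕ → ℕ) (ha : ∀ q, 0 ≤ a q) (hc : ∀ p, 0 ≤ c p)
    (h1 : ∀ p q, N < q → Subsingleton (E p q))
    (h2 : ∀ p q (μ : ℂ), Module.End.HasEigenvalue (Φ p q) μ → ‖μ‖ ≤ a q * c p)
    (h3 : ∀ p q, Module.finrank ℂ (E p q) ≤ b q * d p)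
    (hsum : Summable fun p : ℕ => c p * (d p : ℝ)) :
    Summable fun pq : ℕ × ℕ => ‖LinearMap.trace ℂ (E pq.1 pq.2) (Φ pq.1 pq.2)‖ := by
  let u : ℕ → ℝ := fun q => if q ≤ N then a q * (b q : ℝ) else 0
  have hu : Summable u := by
    apply summable_of_ne_finset_zero (s := Finset.range (N + 1))
    intro q hq
    simp only [Finset.mem_range, not_lt] at hq
    simp only [u]
    rw [if_neg (by omega)]
  have hu0 : 0 ≤ u := by
    intro q
    simp only [u]
    split_ifs
    · exact mul_nonneg (ha q) (Nat.cast_nonneg _)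
    · exact le_rfl
  have hw0 : 0 ≤ fun p : ℕ => c p * (d p : ℝ) := fun p => mul_nonneg (hc p) (Nat.cast_nonneg _)
  have hg := Summable.mul_of_nonneg hsum hu hw0 hu0
  refine Summable.of_nonneg_of_le (fun _ => norm_nonneg _) ?_ hg
  rintro ⟨p, q⟩
  have hle := norm_trace_le (Φ p q) (a q * c p) (mul_nonneg (ha q) (hc p)) (h2 p q)
  refine hle.trans ?_
  simp only [u]
  by_cases hq : q ≤ N
  · rw [if_pos hq]
    have : (Module.finrank ℂ (E p q) : ℝ) ≤ (b q : ℝ) * (d p : ℝ) := by exact_mod_cast h3 p q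
    calc (Module.finrank ℂ (E p q) : ℝ) * (a q * c p)
        ≤ ((b q : ℝ) * (d p : ℝ)) * (a q * c p) :=
          mul_le_mul_of_nonneg_right this (mul_nonneg (ha q) (hc p))
      _ = c p * (d p : ℝ) * (a q * (b q : ℝ)) := by ring
  · rw [if_neg hq]
    haveI := h1 p q (by omega)
    rw [Module.finrank_zero_of_subsingleton]
    simp

end Groth.Agent.S14280
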