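import Groth.Statements.S14295
import Mathlib.Tactic
-- import your own Groth.Agent.* helpers here

set_option autoImplicit false
universe u v
open PtDeg

namespace Groth.Agent.S14295

theorem two_mul_tri (n : ℤ) : 2 * (n * (n + 1) / 2) = n * (n + 1) :=
  Int.mul_ediv_cancel' (Int.even_mul_succ_self n).two_dvd

theorem two_mul_tri' (n : ℤ) : 2 * (n * (n - 1) / 2) = n * (n - 1) := by
  have h := Int.even_mul_succ_self (n - 1)
  have h2 : (n - 1) * (n - 1 + 1) = n * (n - 1) := by ring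
  rw [h2] at h
  exact Int.mul_ediv_cancel' h.two_dvd

theorem nat_case {A : Type u} {G : Type v} [AddCommGroup A] [AddCommGroup G]
    (f : A → G) (hf : ∀ x y z : A, f (x + y + z) + f x + f y + f z = f (x + y) + f (x + z) + f (y + z))
    (m : ℕ) (x : A) :
    f ((m : ℤ) • x) = ((m : ℤ) * ((m : ℤ) + 1) / 2) • f x + ((m : ℤ) * ((m : ℤ) - 1) / 2) • f (-x) := by
  have f0 : f 0 = 0 := by
    have := hf 0 0 0
    simp only [add_zero] at this
    have h2 : f 0 + f 0 + f 0 + f 0 = (f 0 + f 0 + f 0) + f 0 := by abel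
    rw [h2] at this
    exact add_eq_left.mp this
  have hrec : ∀ y : A, f (y + x) = f y + f y + f x + f (-x) - f (y - x) := by
    intro y
    have := hf y x (-x)
    rw [add_neg_cancel_right, add_neg_cancel, f0, add_zero, ← sub_eq_add_neg] at this
    rw [eq_sub_iff_add_eq, ← this]
  have key : ∀ m : ℕ,
      (f ((m : ℤ) • x) = ((m : ℤ) * ((m : ℤ) + 1) / 2) • f x + ((m : ℤ) * ((m : ℤ) - 1) / 2) • f (-x)) ∧
      (f (((m + 1 : ℕ) : ℤ) • x) = (((m + 1 : ℕ) : ℤ) * (((m + 1 : ℕ) : ℤ) + 1) / 2) • f x +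
        (((m + 1 : ℕ) : ℤ) * (((m + 1 : ℕ) : ℤ) - 1) / 2) • f (-x)) := by
    intro m
    induction m with
    | zero =>
      refine ⟨by simp [f0], ?_⟩
      norm_num
    | succ m ih =>
      refine ⟨ih.2, ?_⟩
      obtain ⟨ih0, ih1⟩ := ih
      have e1 : ((m + 1 + 1 : ℕ) : ℤ) • x = ((m + 1 : ℕ) : ℤ) • x + x := by
        push_cast; rw [add_smul, one_smul]
      have e2 : ((m + 1 : ℕ) : ℤ) • x - x = (m : ℤ) • x := by
        push_cast; rw [add_smul, one_smul, add_sub_cancel_right]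
      rw [e1, hrec, e2, ih0, ih1]
      have a0 := two_mul_tri (m : ℤ)
      have a1 := two_mul_tri ((m + 1 : ℕ) : ℤ)
      have a2 := two_mul_tri ((m + 1 + 1 : ℕ) : ℤ)
      have b0 := two_mul_tri' (m : ℤ)
      have b1 := two_mul_tri' ((m + 1 : ℕ) : ℤ)
      have b2 := two_mul_tri' ((m + 1 + 1 : ℕ) : ℤ)
      set A0 := (m : ℤ) * ((m : ℤ) + 1) / 2
      set A1 := ((m + 1 : ℕ) : ℤ) * (((m + 1 : ℕ) : ℤ) + 1) / 2
      set A2 := ((m + 1 + 1 : ℕ) : ℤ) * (((m + 1 + 1 : ℕ) : ℤ) + 1) / 2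
      set B0 := (m : ℤ) * ((m : ℤ) - 1) / 2
      set B1 := ((m + 1 : ℕ) : ℤ) * (((m + 1 : ℕ) : ℤ) - 1) / 2
      set B2 := ((m + 1 + 1 : ℕ) : ℤ) * (((m + 1 + 1 : ℕ) : ℤ) - 1) / 2
      push_cast at a1 a2 b1 b2
      have hA : A2 = 2 * A1 + 1 - A0 := by linarith
      have hB : B2 = 2 * B1 + 1 - B0 := by linarith
      rw [hA, hB]
      module
  exact (key m).1

/-- Let A and G be abelian groups, written additively, and f : A → G a map which is pointed of degree 2,
that is f(x+y+z) + f(x) + f(y) + f(z) = f(x+y) + f(x+z) + f(y+z) for all x, y, z in A. Then for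
every integer n and every x in A one has f(n·x) = (n(n+1)/2)·f(x) + (n(n−1)/2)·f(−x) (the two
coefficients are the integers n(n+1)/2 and n(n−1)/2). -/
theorem result {A : Type u} {G : Type v} [AddCommGroup A] [AddCommGroup G]
    (f : A → G) (hf : ∀ x y z : A, f (x + y + z) + f x + f y + f z = f (x + y) + f (x + z) + f (y + z))
    (n : ℤ) (x : A) :
    f (n • x) = (n * (n + 1) / 2) • f x + (n * (n - 1) / 2) • f (-x) := by
  obtain ⟨m, rfl | rfl⟩ := Int.eq_nat_or_neg n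
  · exact nat_case f hf m x
  · have h := nat_case f hf m (-x)
    rw [neg_neg] at h
    have e : (-(m : ℤ)) • x = (m : ℤ) • (-x) := by rw [neg_smul, smul_neg]
    rw [e, h]
    have c1 : -(m : ℤ) * (-(m : ℤ) + 1) = (m : ℤ) * ((m : ℤ) - 1) := by ring
    have c2 : -(m : ℤ) * (-(m : ℤ) - 1) = (m : ℤ) * ((m : ℤ) + 1) := by ring
    rw [c1, c2, add_comm]

end Groth.Agent.S14295
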