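import Groth.Statements.S14294
import Groth.Agent.S14295
import Mathlib.Tactic
-- import your own Groth.Agent.* helpers here

set_option autoImplicit false
universe u v
open PtDeg

namespace Groth.Agent.S14294

/-- Let A and G be abelian groups, written additively, and f : A → G a map which is pointed of degree 2,
that is f(x+y+z) + f(x) + f(y) + f(z) = f(x+y) + f(x+z) + f(y+z) for all x, y, z in A. If an integer
n satisfies n·x = 0 for every x in A, then 2n·f(x) = 0 for every x in A, and if moreover n is odd
then n·f(x) = 0 for every x in A. -/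
theorem result {A : Type u} {G : Type v} [AddCommGroup A] [AddCommGroup G]
    (f : A → G) (hf : ∀ x y z : A, f (x + y + z) + f x + f y + f z = f (x + y) + f (x + z) + f (y + z))
    (n : ℤ) (hn : ∀ x : A, n • x = 0) :
    (∀ x : A, (2 * n) • f x = 0) ∧ (Odd n → ∀ x : A, n • f x = 0) := by
  have f0 : f 0 = 0 := by
    have := hf 0 0 0
    simp only [add_zero] at this
    have h2 : f 0 + f 0 + f 0 + f 0 = (f 0 + f 0 + f 0) + f 0 := by abel
    rw [h2] at this
    exact add_eq_left.mp this
  have a0 := Groth.Agent.S14295.two_mul_tri n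
  have b0 := Groth.Agent.S14295.two_mul_tri' n
  have a1 := Groth.Agent.S14295.two_mul_tri (n + 1)
  have b1 := Groth.Agent.S14295.two_mul_tri' (n + 1)
  have E2 : ∀ x : A, 0 = (n * (n + 1) / 2) • f x + (n * (n - 1) / 2) • f (-x) := by
    intro x
    have := Groth.Agent.S14295.result f hf n x
    rwa [hn, f0] at this
  have E5 : ∀ x : A, f x = ((n + 1) * (n + 1 + 1) / 2) • f x + ((n + 1) * (n + 1 - 1) / 2) • f (-x) := by
    intro x
    have := Groth.Agent.S14295.result f hf (n + 1) x
    rwa [add_smul, hn, one_smul, zero_add] at this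
  set a := n * (n + 1) / 2
  set b := n * (n - 1) / 2
  set a' := (n + 1) * (n + 1 + 1) / 2
  set b' := (n + 1) * (n + 1 - 1) / 2
  have ha : a = b + n := by linarith
  have ha' : a' = b + 2 * n + 1 := by linarith
  have hb' : b' = b + n := by linarith
  rw [ha] at E2
  rw [ha', hb'] at E5
  have E1 : ∀ x : A, n • f x + n • f (-x) = 0 := by
    intro x
    have h2 := E2 x
    have h5 := E5 x
    linear_combination (norm := module) h2 - h5
  have main : ∀ x : A, (2 * n) • f x = 0 := by
    intro x
    have h2 := E2 (-x)
    rw [neg_neg] at h2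
    have h5 := E5 x
    linear_combination (norm := module) h2 - h5
  refine ⟨main, ?_⟩
  rintro ⟨k, hk⟩ x
  have hbk : b = n * k := by
    rw [hk] at b0 ⊢
    linarith
  have h2 := E2 x
  have h1 := E1 x
  rw [hbk] at h2
  linear_combination (norm := module) (-1 : ℤ) • h2 - k • h1

end Groth.Agent.S14294
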