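import Groth.Statements.S14305
import Mathlib

set_option autoImplicit false
universe u v
open PtDeg

namespace Groth.Agent.S14305aux
open Finset

variable {A : Type u} {G : Type v} [AddCommGroup A] [AddCommGroup G] (f : A → G)

theorem powerset_map' {α β : Type*} (e : α ↪ β) (s : Finset α) :
    (s.map e).powerset = s.powerset.map (Finset.mapEmbedding e).toEmbedding := by
  ext I
  simp only [mem_powerset, mem_map, subset_map_iff, RelEmbedding.coe_toEmbedding,
    Finset.mapEmbedding_apply]
  constructor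
  · rintro ⟨u, hu, rfl⟩; exact ⟨u, hu, rfl⟩
  · rintro ⟨u, hu, rfl⟩; exact ⟨u, hu, rfl⟩

/-- signed sum over all subsets, with base point `c` -/
def Ec (n : ℕ) (y : Fin n → A) (c : A) : G :=
  ∑ J ∈ (Finset.univ : Finset (Fin n)).powerset, ((-1 : ℤ) ^ J.card) • f (c + ∑ i ∈ J, y i)

/-- same over subsets avoiding `j` -/
def P (n : ℕ) (y : Fin n → A) (j : Fin n) (c : A) : G :=
  ∑ J ∈ ((Finset.univ : Finset (Fin n)).erase j).powerset,
    ((-1 : ℤ) ^ J.card) • f (c + ∑ i ∈ J, y i)

theorem Ec_snoc (n : ℕ) (y : Fin n → A) (b c : A) :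
    Ec f (n + 1) (Fin.snoc y b) c = Ec f n y c - Ec f n y (c + b) := by
  classical
  unfold Ec
  rw [Fin.univ_castSuccEmb, Finset.cons_eq_insert, Finset.sum_powerset_insert (by simp),
    powerset_map', Finset.sum_map, Finset.sum_map, sub_eq_add_neg, ← Finset.sum_neg_distrib]
  congr 1
  · refine Finset.sum_congr rfl fun J _ => ?_
    simp only [RelEmbedding.coe_toEmbedding, Finset.mapEmbedding_apply, Finset.card_map,
      Finset.sum_map, Fin.coe_castSuccEmb, Fin.snoc_castSucc]
  · refine Finset.sum_congr rfl fun J _ => ?_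
    simp only [RelEmbedding.coe_toEmbedding, Finset.mapEmbedding_apply]
    have hnot : Fin.last n ∉ J.map Fin.castSuccEmb := by
      simp [Fin.castSucc_ne_last]
    rw [Finset.card_insert_of_notMem hnot, Finset.sum_insert hnot, Finset.card_map,
      Finset.sum_map, pow_succ, mul_neg_one, neg_smul]
    simp only [Fin.coe_castSuccEmb, Fin.snoc_castSucc, Fin.snoc_last, add_assoc]

theorem Ec_update (n : ℕ) (y : Fin n → A) (j : Fin n) (a c : A) :
    Ec f n (Function.update y j a) c = P f n y j c - P f n y j (c + a) := by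
  classical
  unfold Ec P
  conv_lhs => rw [← Finset.insert_erase (Finset.mem_univ j)]
  rw [Finset.sum_powerset_insert (Finset.notMem_erase j _), sub_eq_add_neg,
    ← Finset.sum_neg_distrib]
  congr 1
  · refine Finset.sum_congr rfl fun J hJ => ?_
    rw [Finset.mem_powerset] at hJ
    have hj : j ∉ J := fun h => Finset.notMem_erase j _ (hJ h)
    have hsum : ∑ i ∈ J, Function.update y j a i = ∑ i ∈ J, y i :=
      Finset.sum_congr rfl (fun i hi => Function.update_of_ne (by rintro rfl; exact hj hi) _ _)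
    rw [hsum]
  · refine Finset.sum_congr rfl fun J hJ => ?_
    rw [Finset.mem_powerset] at hJ
    have hj : j ∉ J := fun h => Finset.notMem_erase j _ (hJ h)
    have hsum : ∑ i ∈ J, Function.update y j a i = ∑ i ∈ J, y i :=
      Finset.sum_congr rfl (fun i hi => Function.update_of_ne (by rintro rfl; exact hj hi) _ _)
    rw [Finset.card_insert_of_notMem hj, Finset.sum_insert hj, pow_succ, mul_neg_one, neg_smul,
      Function.update_self, hsum, add_assoc]

/-- the statement's normalised deviation in terms of `Ec` -/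
theorem dev_eq (n : ℕ) (y : Fin n → A) :
    ∑ I ∈ ((Finset.univ : Finset (Fin n)).powerset.erase ∅),
        ((-1 : ℤ) ^ (n + I.card)) • f (∑ i ∈ I, y i) =
      ((-1 : ℤ) ^ n) • (Ec f n y 0 - f 0) := by
  classical
  unfold Ec
  rw [← Finset.sum_erase_add _ _ (Finset.empty_mem_powerset (Finset.univ : Finset (Fin n)))]
  simp only [Finset.card_empty, pow_zero, one_smul, Finset.sum_empty, add_zero,
    add_sub_cancel_right, zero_add]
  rw [Finset.smul_sum]
  refine Finset.sum_congr rfl fun I _ => ?_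
  rw [pow_add, mul_smul]

theorem neg_one_pow_smul_eq_zero (k : ℕ) (z : G) : ((-1 : ℤ) ^ k) • z = 0 ↔ z = 0 := by
  constructor
  · intro h
    have := congrArg (fun w => ((-1 : ℤ) ^ k) • w) h
    simp only [smul_zero, ← mul_smul, ← pow_add, ← two_mul] at this
    rw [pow_mul] at this
    simpa using this
  · rintro rfl; simp

theorem main (n : ℕ) (hn : 1 ≤ n) :
    (∀ x : Fin (n + 1) → A, ∑ I ∈ ((Finset.univ : Finset (Fin (n + 1))).powerset.erase ∅), ((-1 : ℤ) ^ (n + 1 + I.card)) • f (∑ i ∈ I, x i) = 0) ↔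
      (∀ (j : Fin n) (y : Fin n → A) (a b : A),
        ∑ I ∈ ((Finset.univ : Finset (Fin n)).powerset.erase ∅), ((-1 : ℤ) ^ (n + I.card)) • f (∑ i ∈ I, (Function.update y j (a + b)) i) =
          ∑ I ∈ ((Finset.univ : Finset (Fin n)).powerset.erase ∅), ((-1 : ℤ) ^ (n + I.card)) • f (∑ i ∈ I, (Function.update y j a) i) + ∑ I ∈ ((Finset.univ : Finset (Fin n)).powerset.erase ∅), ((-1 : ℤ) ^ (n + I.card)) • f (∑ i ∈ I, (Function.update y j b) i)) := by
  -- the key equivalence for fixed data
  have key : ∀ (j : Fin n) (y : Fin n → A) (a b : A),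
      (∑ I ∈ ((Finset.univ : Finset (Fin (n + 1))).powerset.erase ∅),
        ((-1 : ℤ) ^ (n + 1 + I.card)) • f (∑ i ∈ I, (Fin.snoc (Function.update y j a) b :
          Fin (n + 1) → A) i) = 0) ↔
      (∑ I ∈ ((Finset.univ : Finset (Fin n)).powerset.erase ∅), ((-1 : ℤ) ^ (n + I.card)) • f (∑ i ∈ I, (Function.update y j (a + b)) i) =
          ∑ I ∈ ((Finset.univ : Finset (Fin n)).powerset.erase ∅), ((-1 : ℤ) ^ (n + I.card)) • f (∑ i ∈ I, (Function.update y j a) i) + ∑ I ∈ ((Finset.univ : Finset (Fin n)).powerset.erase ∅), ((-1 : ℤ) ^ (n + I.card)) • f (∑ i ∈ I, (Function.update y j b) i)) := by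
    intro j y a b
    have h2 : ∀ u v : G, ((-1 : ℤ) ^ n) • u = ((-1 : ℤ) ^ n) • v ↔ u = v := by
      intro u v
      rw [← sub_eq_zero, ← smul_sub, neg_one_pow_smul_eq_zero, sub_eq_zero]
    rw [dev_eq f (n + 1), dev_eq f n, dev_eq f n, dev_eq f n, neg_one_pow_smul_eq_zero,
      ← smul_add, h2, Ec_snoc]
    simp only [Ec_update, zero_add]
    rw [add_comm b a]
    constructor
    · intro h
      rw [← sub_eq_zero, ← neg_eq_zero, ← h]
      abel
    · intro h
      rw [← sub_eq_zero] at h
      rw [← neg_eq_zero, ← h]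
      abel
  constructor
  · intro h j y a b
    exact (key j y a b).mp (h _)
  · intro h x
    have hn' : n - 1 < n := by omega
    set j : Fin n := ⟨n - 1, hn'⟩
    set y : Fin n → A := Fin.init x with hy
    have hx : x = Fin.snoc (Function.update y j (y j)) (x (Fin.last n)) := by
      rw [Function.update_eq_self, hy, Fin.snoc_init_self]
    rw [hx]
    exact (key j y (y j) (x (Fin.last n))).mpr (h j y (y j) (x (Fin.last n)))

end Groth.Agent.S14305aux

namespace Groth.Agent.S14305

/-- Let A and G be abelian groups, written additively, f : A → G a map and n ≥ 1. For k ≥ 0 the k-th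
deviation of f is the map A^k → G, (y_1, …, y_k) ↦ Σ_{∅ ≠ I ⊆ {1,…,k}} (−1)^{k+|I|} f(Σ_{i ∈ I}
y_i). Then f is pointed of degree n, meaning that its (n+1)-st deviation vanishes identically, if
and only if its n-th deviation is additive in each variable separately (with the other variables
fixed). -/
theorem result {A : Type u} {G : Type v} [AddCommGroup A] [AddCommGroup G]
    (f : A → G) (n : ℕ) (hn : 1 ≤ n) :
    (∀ x : Fin (n + 1) → A, ∑ I ∈ ((Finset.univ : Finset (Fin (n + 1))).powerset.erase ∅), ((-1 : ℤ) ^ (n + 1 + I.card)) • f (∑ i ∈ I, x i) = 0) ↔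
      (∀ (j : Fin n) (y : Fin n → A) (a b : A),
        ∑ I ∈ ((Finset.univ : Finset (Fin n)).powerset.erase ∅), ((-1 : ℤ) ^ (n + I.card)) • f (∑ i ∈ I, (Function.update y j (a + b)) i) =
          ∑ I ∈ ((Finset.univ : Finset (Fin n)).powerset.erase ∅), ((-1 : ℤ) ^ (n + I.card)) • f (∑ i ∈ I, (Function.update y j a) i) + ∑ I ∈ ((Finset.univ : Finset (Fin n)).powerset.erase ∅), ((-1 : ℤ) ^ (n + I.card)) • f (∑ i ∈ I, (Function.update y j b) i)) := by
  exact Groth.Agent.S14305aux.main f n hn

end Groth.Agent.S14305
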