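import Groth.Statements.S14307
import Mathlib.Tactic
-- import your own Groth.Agent.* helpers here

set_option autoImplicit false
universe u v
open PtDeg

namespace Groth.Agent.S14307

/-- The full alternating sum over all subsets vanishes when some coordinate is zero. -/
theorem full_sum_eq_zero {A : Type u} {G : Type v} [AddCommGroup A] [AddCommGroup G]
    (f : A → G) (n : ℕ) (x : Fin n → A) (i : Fin n) (hx : x i = 0) :
    ∑ I ∈ (Finset.univ : Finset (Fin n)).powerset, ((-1 : ℤ) ^ (n + I.card)) • f (∑ j ∈ I, x j) = 0 := by
  classical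
  refine Finset.sum_ninvolution (fun I => if i ∈ I then I.erase i else insert i I) ?_ ?_ ?_ ?_
  · intro I
    by_cases hi : i ∈ I
    · simp only [hi, if_true]
      have hcard : I.card = (I.erase i).card + 1 := (Finset.card_erase_add_one hi).symm
      have hsum : ∑ j ∈ I, x j = ∑ j ∈ I.erase i, x j := by
        rw [← Finset.add_sum_erase I x hi, hx, zero_add]
      rw [hsum, hcard, ← add_assoc, pow_succ]
      module
    · simp only [hi, if_false]
      have hcard : (insert i I).card = I.card + 1 := Finset.card_insert_of_notMem hi
      have hsum : ∑ j ∈ insert i I, x j = ∑ j ∈ I, x j := by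
        rw [Finset.sum_insert hi, hx, zero_add]
      rw [hsum, hcard, ← add_assoc, pow_succ]
      module
  · intro I _
    by_cases hi : i ∈ I
    · simp only [hi, if_true]
      intro h
      have : i ∈ I.erase i := by rw [h]; exact hi
      exact (Finset.notMem_erase i I) this
    · simp only [hi, if_false]
      intro h
      exact hi (by rw [← h]; exact Finset.mem_insert_self i I)
  · intro I
    exact Finset.mem_powerset.mpr (Finset.subset_univ _)
  · intro I
    by_cases hi : i ∈ I
    · simp [hi, Finset.insert_erase hi]
    · simp [hi, Finset.erase_insert hi]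

/-- Let A and G be abelian groups, written additively, f : A → G a map and n ≥ 1. If a tuple x ∈ A^n has
some coordinate equal to 0, then the n-th deviation of f at x, namely Σ_{∅ ≠ I ⊆ {1,…,n}}
(−1)^{n+|I|} f(Σ_{i ∈ I} x_i), equals (−1)^{n+1} f(0). -/
theorem result {A : Type u} {G : Type v} [AddCommGroup A] [AddCommGroup G]
    (f : A → G) (n : ℕ) (hn : 1 ≤ n) (x : Fin n → A) (i : Fin n) (hx : x i = 0) :
    ∑ I ∈ ((Finset.univ : Finset (Fin n)).powerset.erase ∅), ((-1 : ℤ) ^ (n + I.card)) • f (∑ j ∈ I, x j) =
      ((-1 : ℤ) ^ (n + 1)) • f 0 := by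
  classical
  have h := full_sum_eq_zero f n x i hx
  have hmem : (∅ : Finset (Fin n)) ∈ (Finset.univ : Finset (Fin n)).powerset := by simp
  rw [← Finset.add_sum_erase _ _ hmem] at h
  simp only [Finset.card_empty, add_zero, Finset.sum_empty] at h
  have h2 := eq_neg_of_add_eq_zero_right h
  rw [h2, pow_succ]
  module

end Groth.Agent.S14307
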