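import Groth.Statements.S14309
import Mathlib.Tactic

set_option autoImplicit false
universe u v w x y
open CAlg

namespace Groth.Agent.S14309

theorem exists_decomp {R : Type u} [CommRing R] {σ : Type y} (t : MvPolynomial (Option σ) R) :
    ∃ (t₀ : MvPolynomial σ R) (t₁ : MvPolynomial (Option σ) R),
      t = MvPolynomial.rename (Option.some : σ → Option σ) t₀ + MvPolynomial.X none * t₁ := by
  induction t using MvPolynomial.induction_on with
  | C r => exact ⟨MvPolynomial.C r, 0, by simp⟩
  | add p q hp hq =>
    obtain ⟨p₀, p₁, rfl⟩ := hp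
    obtain ⟨q₀, q₁, rfl⟩ := hq
    exact ⟨p₀ + q₀, p₁ + q₁, by rw [map_add]; ring⟩
  | mul_X p n hp =>
    obtain ⟨p₀, p₁, rfl⟩ := hp
    cases n with
    | none => exact ⟨0, MvPolynomial.rename (Option.some : σ → Option σ) p₀ + MvPolynomial.X none * p₁,
        by rw [map_zero]; ring⟩
    | some s => exact ⟨p₀ * MvPolynomial.X s, p₁ * MvPolynomial.X (some s),
        by rw [map_mul, MvPolynomial.rename_X]; ring⟩

/-- Let R be a commutative ring; A, B, C commutative R-algebras; i : A → B and j : A → C jointly
injective R-algebra maps; c a non-zero-divisor of B; u : C → B/(c) a ring map with u ∘ j equal to i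
followed by reduction modulo c; ζ in A with i ζ = c and j ζ = 0; η : R[X_σ, Z] → A an R-algebra map
with η(Z) = ζ; a : R[Y_τ] → B a surjective R-algebra map; η_Z : R[X_σ, Z] → R[Y_τ] a surjective
R-algebra map with a ∘ η_Z = i ∘ η. Fix c̃ in R[Y_τ] with a(c̃) = c, a family (p_h) generating the
kernel of the composite R[X_σ] → R[X_σ, Z] → A → C, a family (q'_h) generating the kernel of a
together with lifts q_h along η_Z, a family (v_h) generating the kernel of η_Z, and elements g'_h of
R[Y_τ] with η_Z(p_h) + g'_h c̃ in the ideal (q'_h), together with lifts g_h along η_Z. Then the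
kernel of η is the ideal generated by the elements Z q_h, Z v_h and p_h + Z g_h. (The published
statement is for the rings of cycle classes, with coefficients ℤ[1/6], of a smooth quotient stack, a
smooth closed substack whose normal bundle has top Chern class c a non-zero-divisor, and the open
complement; this row states the ring-theoretic content for any such square of commutative rings in
which A embeds in B × C.) -/
theorem result
    {R : Type u} [CommRing R] {A : Type v} {B : Type w} {C : Type x}
    [CommRing A] [CommRing B] [CommRing C] [Algebra R A] [Algebra R B] [Algebra R C]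
    (i : A →ₐ[R] B) (j : A →ₐ[R] C)
    (hinj : ∀ t : A, i t = 0 → j t = 0 → t = 0)
    (c : B) (hc : c ∈ nonZeroDivisors B) (u : C →+* B ⧸ Ideal.span ({c} : Set B))
    (hu : ∀ t : A, u (j t) = Ideal.Quotient.mk (Ideal.span ({c} : Set B)) (i t))
    (ζ : A) (hiζ : i ζ = c) (hjζ : j ζ = 0)
    {σ τ ιp ιq ιv : Type y}
    (η : MvPolynomial (Option σ) R →ₐ[R] A) (hη : η (MvPolynomial.X none) = ζ)
    (a : MvPolynomial τ R →ₐ[R] B) (ha : Function.Surjective a)
    (ηZ : MvPolynomial (Option σ) R →ₐ[R] MvPolynomial τ R)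
    (hcomm : ∀ t, a (ηZ t) = i (η t)) (hηZ : Function.Surjective ηZ)
    (cZ : MvPolynomial τ R) (hcZ : a cZ = c)
    (p : ιp → MvPolynomial σ R)
    (hp : Ideal.span (Set.range p) =
      RingHom.ker ((j.comp η).comp (MvPolynomial.rename (Option.some : σ → Option σ))))
    (q' : ιq → MvPolynomial τ R) (hq' : Ideal.span (Set.range q') = RingHom.ker a)
    (q : ιq → MvPolynomial (Option σ) R) (hq : ∀ h, ηZ (q h) = q' h)
    (v : ιv → MvPolynomial (Option σ) R) (hv : Ideal.span (Set.range v) = RingHom.ker ηZ)
    (g' : ιp → MvPolynomial τ R)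
    (hg' : ∀ h, ηZ (MvPolynomial.rename (Option.some : σ → Option σ) (p h)) + g' h * cZ ∈
      Ideal.span (Set.range q'))
    (g : ιp → MvPolynomial (Option σ) R) (hg : ∀ h, ηZ (g h) = g' h) :
    RingHom.ker η = Ideal.span
      (Set.range (fun h : ιq => MvPolynomial.X none * q h) ∪
        Set.range (fun h : ιv => MvPolynomial.X none * v h) ∪
        Set.range (fun h : ιp =>
          MvPolynomial.rename (Option.some : σ → Option σ) (p h) + MvPolynomial.X none * g h)) := by
  classical
  set ρ : MvPolynomial σ R →ₐ[R] C :=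
    (j.comp η).comp (MvPolynomial.rename (Option.some : σ → Option σ)) with hρ
  have hρ_apply : ∀ s, ρ s = j (η (MvPolynomial.rename (Option.some : σ → Option σ) s)) := fun s => rfl
  -- generators lie in the kernel
  have hgen1 : ∀ h : ιq, η (MvPolynomial.X none * q h) = 0 := by
    intro h
    apply hinj
    · rw [map_mul, map_mul, hη, hiζ, ← hcomm, hq]
      have : q' h ∈ RingHom.ker a := by rw [← hq']; exact Ideal.subset_span ⟨h, rfl⟩
      rw [RingHom.mem_ker.mp this, mul_zero]
    · rw [map_mul, map_mul, hη, hjζ, zero_mul]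
  have hgen2 : ∀ h : ιv, η (MvPolynomial.X none * v h) = 0 := by
    intro h
    apply hinj
    · rw [map_mul, map_mul, hη, hiζ, ← hcomm]
      have : v h ∈ RingHom.ker ηZ := by rw [← hv]; exact Ideal.subset_span ⟨h, rfl⟩
      rw [RingHom.mem_ker.mp this, map_zero, mul_zero]
    · rw [map_mul, map_mul, hη, hjζ, zero_mul]
  have hgen3 : ∀ h : ιp, η (MvPolynomial.rename (Option.some : σ → Option σ) (p h) +
      MvPolynomial.X none * g h) = 0 := by
    intro h
    apply hinj
    · rw [map_add, map_add, map_mul, map_mul, hη, hiζ, ← hcomm, ← hcomm, hg, ← hcZ, ← map_mul,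
        ← map_add, mul_comm]
      have := hg' h
      rw [hq'] at this
      exact RingHom.mem_ker.mp this
    · rw [map_add, map_add, map_mul, map_mul, hη, hjζ, zero_mul, add_zero]
      have : p h ∈ RingHom.ker ρ := by rw [← hp]; exact Ideal.subset_span ⟨h, rfl⟩
      exact RingHom.mem_ker.mp this
  set I : Ideal (MvPolynomial (Option σ) R) := Ideal.span
      (Set.range (fun h : ιq => MvPolynomial.X none * q h) ∪
        Set.range (fun h : ιv => MvPolynomial.X none * v h) ∪
        Set.range (fun h : ιp =>
          MvPolynomial.rename (Option.some : σ → Option σ) (p h) + MvPolynomial.X none * g h)) with hI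
  have hIle : I ≤ RingHom.ker η := by
    rw [hI, Ideal.span_le]
    rintro x ((⟨h, rfl⟩ | ⟨h, rfl⟩) | ⟨h, rfl⟩)
    · exact RingHom.mem_ker.mpr (hgen1 h)
    · exact RingHom.mem_ker.mpr (hgen2 h)
    · exact RingHom.mem_ker.mpr (hgen3 h)
  have hq_mem : ∀ h : ιq, MvPolynomial.X none * q h ∈ I :=
    fun h => Ideal.subset_span (Or.inl (Or.inl ⟨h, rfl⟩))
  have hv_mem : ∀ h : ιv, MvPolynomial.X none * v h ∈ I :=
    fun h => Ideal.subset_span (Or.inl (Or.inr ⟨h, rfl⟩))
  have hp_mem : ∀ h : ιp, MvPolynomial.rename (Option.some : σ → Option σ) (p h) +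
      MvPolynomial.X none * g h ∈ I :=
    fun h => Ideal.subset_span (Or.inr ⟨h, rfl⟩)
  apply le_antisymm _ hIle
  intro t ht
  rw [RingHom.mem_ker] at ht
  obtain ⟨t₀, t₁, rfl⟩ := exists_decomp t
  -- t₀ lies in the span of the p's
  have ht₀ : t₀ ∈ Ideal.span (Set.range p) := by
    rw [hp, RingHom.mem_ker, hρ_apply]
    have := congrArg j ht
    rw [map_add, map_add, map_mul, map_mul, hη, hjζ, zero_mul, add_zero, map_zero] at this
    exact this
  -- step: X none * s with η (X none * s) = 0 lies in I
  have step : ∀ s : MvPolynomial (Option σ) R, η (MvPolynomial.X none * s) = 0 →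
      MvPolynomial.X none * s ∈ I := by
    intro s hs
    have h1 : c * a (ηZ s) = 0 := by
      have := congrArg i hs
      rwa [map_mul, map_mul, hη, hiζ, ← hcomm, map_zero] at this
    have h2 : a (ηZ s) = 0 := by
      rw [mul_comm] at h1
      exact (mem_nonZeroDivisors_iff_right.mp hc) _ h1
    have h3 : ηZ s ∈ Ideal.span (Set.range q') := by rw [hq']; exact RingHom.mem_ker.mpr h2
    -- every element of span (range q') is ηZ of an element of span (range q)
    have h4 : ∀ z ∈ Ideal.span (Set.range q'), ∃ w, MvPolynomial.X none * w ∈ I ∧ ηZ w = z := by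
      intro z hz
      induction hz using Submodule.span_induction with
      | mem z hz =>
        obtain ⟨h, rfl⟩ := hz
        exact ⟨q h, hq_mem h, hq h⟩
      | zero => exact ⟨0, by simp, map_zero _⟩
      | add z₁ z₂ _ _ h₁ h₂ =>
        obtain ⟨w₁, hw₁, rfl⟩ := h₁
        obtain ⟨w₂, hw₂, rfl⟩ := h₂
        exact ⟨w₁ + w₂, by rw [mul_add]; exact I.add_mem hw₁ hw₂, map_add _ _ _⟩
      | smul r z _ h₁ =>
        obtain ⟨w, hw, rfl⟩ := h₁
        obtain ⟨r', rfl⟩ := hηZ r
        refine ⟨r' * w, ?_, by rw [map_mul, smul_eq_mul]⟩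
        rw [mul_left_comm]
        exact I.mul_mem_left _ hw
    obtain ⟨w, hw, hws⟩ := h4 _ h3
    have h5 : s - w ∈ Ideal.span (Set.range v) := by
      rw [hv, RingHom.mem_ker, map_sub, hws, sub_self]
    have h6 : ∀ z ∈ Ideal.span (Set.range v), MvPolynomial.X none * z ∈ I := by
      intro z hz
      induction hz using Submodule.span_induction with
      | mem z hz =>
        obtain ⟨h, rfl⟩ := hz
        exact hv_mem h
      | zero => simp
      | add z₁ z₂ _ _ h₁ h₂ => rw [mul_add]; exact I.add_mem h₁ h₂
      | smul r z _ h₁ =>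
        rw [smul_eq_mul, mul_left_comm]
        exact I.mul_mem_left _ h₁
    have : MvPolynomial.X none * s = MvPolynomial.X none * w + MvPolynomial.X none * (s - w) := by ring
    rw [this]
    exact I.add_mem hw (h6 _ h5)
  -- reduce t₀
  have h7 : ∀ z ∈ Ideal.span (Set.range p), ∃ w : MvPolynomial (Option σ) R,
      MvPolynomial.rename (Option.some : σ → Option σ) z + MvPolynomial.X none * w ∈ I := by
    intro z hz
    induction hz using Submodule.span_induction with
    | mem z hz =>
      obtain ⟨h, rfl⟩ := hz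
      exact ⟨g h, hp_mem h⟩
    | zero => exact ⟨0, by simp⟩
    | add z₁ z₂ _ _ h₁ h₂ =>
      obtain ⟨w₁, hw₁⟩ := h₁
      obtain ⟨w₂, hw₂⟩ := h₂
      refine ⟨w₁ + w₂, ?_⟩
      have := I.add_mem hw₁ hw₂
      rw [map_add]
      convert this using 1
      ring
    | smul r z _ h₁ =>
      obtain ⟨w, hw⟩ := h₁
      refine ⟨MvPolynomial.rename (Option.some : σ → Option σ) r * w, ?_⟩
      have := I.mul_mem_left (MvPolynomial.rename (Option.some : σ → Option σ) r) hw
      rw [smul_eq_mul, map_mul]
      convert this using 1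
      ring
  obtain ⟨w, hw⟩ := h7 t₀ ht₀
  have hw0 : η (MvPolynomial.rename (Option.some : σ → Option σ) t₀ + MvPolynomial.X none * w) = 0 :=
    RingHom.mem_ker.mp (hIle hw)
  have h8 : η (MvPolynomial.X none * (t₁ - w)) = 0 := by
    have : MvPolynomial.X none * (t₁ - w) =
        (MvPolynomial.rename (Option.some : σ → Option σ) t₀ + MvPolynomial.X none * t₁) -
        (MvPolynomial.rename (Option.some : σ → Option σ) t₀ + MvPolynomial.X none * w) := by ring
    rw [this, map_sub, ht, hw0, sub_self]
  have h9 := step _ h8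
  have : MvPolynomial.rename (Option.some : σ → Option σ) t₀ + MvPolynomial.X none * t₁ =
      (MvPolynomial.rename (Option.some : σ → Option σ) t₀ + MvPolynomial.X none * w) +
      MvPolynomial.X none * (t₁ - w) := by ring
  rw [this]
  exact I.add_mem hw h9

end Groth.Agent.S14309
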