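import Groth.Statements.S1432
import Mathlib
-- import your own Groth.Agent.* helpers here

set_option autoImplicit false
universe u
open FlatMor

namespace Groth.Agent.S1432

open AlgebraicGeometry CategoryTheory Limits in
theorem lifting_of_isClosedImmersion {X Y : Scheme.{u}} (f : X ⟶ Y) [IsClosedImmersion f]
    (A B : Type u) [CommRing A] [CommRing B] (φ : A →+* B) (hφ : Function.Injective φ)
    (a : Spec (CommRingCat.of B) ⟶ X) (b : Spec (CommRingCat.of A) ⟶ Y)
    (h : Spec.map (CommRingCat.ofHom φ) ≫ b = a ≫ f) :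
    ∃ l : Spec (CommRingCat.of A) ⟶ X, Spec.map (CommRingCat.ofHom φ) ≫ l = a ∧ l ≫ f = b := by
  let p := pullback.snd f b
  let a' : Spec (CommRingCat.of B) ⟶ pullback f b :=
    pullback.lift a (Spec.map (CommRingCat.ofHom φ)) h.symm
  have ha' : a' ≫ p = Spec.map (CommRingCat.ofHom φ) := pullback.lift_snd _ _ _
  have hinj : Function.Injective p.appTop := by
    have h1 : (Spec.map (CommRingCat.ofHom φ)).appTop = p.appTop ≫ a'.appTop := by
      rw [← Scheme.Hom.comp_appTop, ha']
    have h2 : Function.Injective (Spec.map (CommRingCat.ofHom φ)).appTop := by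
      have := Scheme.ΓSpecIso_naturality (CommRingCat.ofHom φ)
      have h3 : (Spec.map (CommRingCat.ofHom φ)).appTop =
          (Scheme.ΓSpecIso (CommRingCat.of A)).hom ≫ CommRingCat.ofHom φ ≫
            (Scheme.ΓSpecIso (CommRingCat.of B)).inv := by
        rw [← Category.assoc, ← this, Category.assoc, Iso.hom_inv_id, Category.comp_id]
      rw [h3]
      simp only [CommRingCat.hom_comp, RingHom.coe_comp]
      exact ((ConcreteCategory.bijective_of_isIso (Scheme.ΓSpecIso (CommRingCat.of B)).inv).1.comp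
        hφ).comp (ConcreteCategory.bijective_of_isIso (Scheme.ΓSpecIso (CommRingCat.of A)).hom).1
    rw [h1] at h2
    simp only [CommRingCat.hom_comp, RingHom.coe_comp] at h2
    exact h2.of_comp
  have : IsIso p := IsClosedImmersion.isIso_of_injective_of_isAffine hinj
  refine ⟨inv p ≫ pullback.fst f b, ?_, ?_⟩
  · rw [← ha', Category.assoc, IsIso.hom_inv_id_assoc]
    exact pullback.lift_fst _ _ _
  · rw [Category.assoc, pullback.condition, IsIso.inv_hom_id_assoc]

open AlgebraicGeometry CategoryTheory Limits in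
/-- The lifting property of the statement. -/
def LiftProp {X Y : Scheme.{u}} (f : X ⟶ Y) : Prop :=
  ∀ (A B : Type u) [CommRing A] [CommRing B] (φ : A →+* B), Function.Injective φ →
    ∀ (a : Spec (CommRingCat.of B) ⟶ X) (b : Spec (CommRingCat.of A) ⟶ Y),
      Spec.map (CommRingCat.ofHom φ) ≫ b = a ≫ f →
        ∃ l : Spec (CommRingCat.of A) ⟶ X, Spec.map (CommRingCat.ofHom φ) ≫ l = a ∧ l ≫ f = b

open AlgebraicGeometry CategoryTheory Limits in
theorem LiftProp.pullback_snd {X Y Z : Scheme.{u}} (f : X ⟶ Y) (g : Z ⟶ Y) (hf : LiftProp f) :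
    LiftProp (pullback.snd f g) := by
  intro A B _ _ φ hφ a b hab
  obtain ⟨l, hl1, hl2⟩ := hf A B φ hφ (a ≫ pullback.fst f g) (b ≫ g) (by
    rw [← Category.assoc, hab, Category.assoc, Category.assoc, pullback.condition])
  refine ⟨pullback.lift l b hl2, ?_, pullback.lift_snd _ _ _⟩
  apply pullback.hom_ext
  · rw [Category.assoc, pullback.lift_fst, hl1]
  · rw [Category.assoc, pullback.lift_snd, hab]

open AlgebraicGeometry CategoryTheory Limits in
theorem LiftProp.comp_iso {X Y Z : Scheme.{u}} (f : X ⟶ Y) (e : Y ≅ Z) (hf : LiftProp f) :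
    LiftProp (f ≫ e.hom) := by
  intro A B _ _ φ hφ a b hab
  obtain ⟨l, hl1, hl2⟩ := hf A B φ hφ a (b ≫ e.inv) (by
    rw [← Category.assoc, hab, Category.assoc, Category.assoc, Iso.hom_inv_id, Category.comp_id])
  exact ⟨l, hl1, by rw [← Category.assoc, hl2, Category.assoc, Iso.inv_hom_id, Category.comp_id]⟩

open AlgebraicGeometry CategoryTheory Limits in
theorem isClosedImmersion_of_liftProp_Spec {X : Scheme.{u}} {R : CommRingCat.{u}} (f : X ⟶ Spec R)
    [CompactSpace X] (hf : LiftProp f) : IsClosedImmersion f := by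
  let 𝒰 : X.OpenCover := X.affineCover.finiteSubcover
  have : ∀ i, IsAffine (𝒰.X i) := fun i ↦ by dsimp [𝒰]; infer_instance
  let W : Scheme.{u} := ∐ 𝒰.X
  let a₀ : W ⟶ X := Sigma.desc 𝒰.f
  let a : Spec (CommRingCat.of Γ(W, ⊤)) ⟶ X := W.isoSpec.inv ≫ a₀
  let ψ : R ⟶ CommRingCat.of Γ(W, ⊤) := Spec.preimage (a ≫ f)
  have hψ : Spec.map ψ = a ≫ f := Spec.map_preimage _
  let K := RingHom.ker ψ.hom
  let φ : R ⧸ K →+* Γ(W, ⊤) := RingHom.kerLift ψ.hom
  have hφ : Function.Injective φ := RingHom.kerLift_injective ψ.hom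
  let b : Spec (CommRingCat.of (R ⧸ K)) ⟶ Spec R :=
    Spec.map (CommRingCat.ofHom (Ideal.Quotient.mk K))
  have hcomm : Spec.map (CommRingCat.ofHom φ) ≫ b = a ≫ f := by
    rw [← hψ, ← Spec.map_comp]
    congr 1
  obtain ⟨l, hl1, hl2⟩ := hf _ _ φ hφ a b hcomm
  have hmono : Mono l := mono_of_mono_fac hl2
  have hiso : IsIso l := by
    change MorphismProperty.isomorphisms Scheme l
    rw [IsZariskiLocalAtTarget.iff_of_openCover (P := MorphismProperty.isomorphisms Scheme) 𝒰]
    intro i
    change IsIso (pullback.snd l (𝒰.f i))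
    have hc : (Sigma.ι 𝒰.X i ≫ W.isoSpec.hom ≫ Spec.map (CommRingCat.ofHom φ)) ≫ l =
        𝟙 _ ≫ 𝒰.f i := by
      simp only [Category.assoc, hl1, a, Iso.hom_inv_id_assoc, a₀, Sigma.ι_desc, Category.id_comp]
    have hsplit : IsSplitEpi (pullback.snd l (𝒰.f i)) :=
      IsSplitEpi.mk' ⟨pullback.lift _ _ hc, pullback.lift_snd _ _ _⟩
    exact isIso_of_mono_of_isSplitEpi _
  have : f = inv l ≫ b := by rw [← hl2, IsIso.inv_hom_id_assoc]
  rw [this]
  infer_instance

open AlgebraicGeometry CategoryTheory Limits in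
theorem isClosedImmersion_of_liftProp_of_isAffine {X Y : Scheme.{u}} (f : X ⟶ Y) [IsAffine Y]
    [CompactSpace X] (hf : LiftProp f) : IsClosedImmersion f := by
  have h1 := isClosedImmersion_of_liftProp_Spec (f ≫ Y.isoSpec.hom) (hf.comp_iso f Y.isoSpec)
  rwa [MorphismProperty.cancel_right_of_respectsIso @IsClosedImmersion] at h1

open AlgebraicGeometry CategoryTheory Limits in
/-- For a quasi-compact morphism f : X → Y, being a closed immersion is equivalent to the following
lifting property: for each injective ring map A → B and each commutative square with Spec B → X on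
top and Spec A → Y at the bottom there is a lift Spec A → X making both triangles commute. -/
theorem result {X Y : Scheme.{u}} (f : X ⟶ Y) [QuasiCompact f] :
    IsClosedImmersion f ↔ ∀ (A B : Type u) [CommRing A] [CommRing B] (φ : A →+* B), Function.Injective φ →
      ∀ (a : Spec (CommRingCat.of B) ⟶ X) (b : Spec (CommRingCat.of A) ⟶ Y), Spec.map (CommRingCat.ofHom φ) ≫ b = a ≫ f →
        ∃ l : Spec (CommRingCat.of A) ⟶ X, Spec.map (CommRingCat.ofHom φ) ≫ l = a ∧ l ≫ f = b := by
  constructor
  · intro hf A B _ _ φ hφ a b hab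
    exact lifting_of_isClosedImmersion f A B φ hφ a b hab
  · intro hf
    have hf' : LiftProp f := hf
    rw [IsZariskiLocalAtTarget.iff_of_openCover (P := @IsClosedImmersion) Y.affineCover]
    intro i
    change IsClosedImmersion (pullback.snd f (Y.affineCover.f i))
    have hqc : QuasiCompact (pullback.snd f (Y.affineCover.f i)) := inferInstance
    have hcpt : CompactSpace ↥(pullback f (Y.affineCover.f i)) :=
      (HasAffineProperty.iff_of_isAffine (P := @QuasiCompact)
        (f := pullback.snd f (Y.affineCover.f i))).mp hqc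
    exact isClosedImmersion_of_liftProp_of_isAffine _ (hf'.pullback_snd f _)

end Groth.Agent.S1432
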