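import Groth.Statements.S14330
import Groth.Agent.Lib.helper9.InvRes
import Groth.Agent.Lib.helper9.FlatDepth3
import Mathlib.AlgebraicGeometry.Morphisms.Flat

set_option autoImplicit false
universe u
open CategoryTheory CategoryTheory.Limits AlgebraicGeometry Opposite
open GrpSch

namespace Groth.Agent.S14330

/-- Let S be a locally Noetherian scheme, f : A → S a smooth morphism, L an invertible O_A-module and V
an open subscheme of S; for an open W of S consider the restriction of sections of L from f⁻¹(W) to
f⁻¹(W) ∩ f⁻¹(V), that is the component over W of the natural map f_*L → j_*j^*(f_*L), j : V → S the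
inclusion. If V is schematically dense in S, all these restrictions are injective. If V is a big
open of S, meaning that the local ring of S at every point outside V has depth at least 2, all these
restrictions are bijective. (The published statement is for a semi-stable group scheme A; its proof
uses only the smoothness of A over S and the local freeness of L, which are the hypotheses kept
here.) -/
theorem result {S A : Scheme.{u}} [IsLocallyNoetherian S]
    (f : A ⟶ S) [Smooth f] (L : A.Modules) (hL : PicF.IsInvertible L) (V : S.Opens) :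
    (CInt.IsSchematicallyDense V →
      ∀ W : S.Opens, Function.Injective (L.val.map (homOfLE (inf_le_left : f ⁻¹ᵁ W ⊓ f ⁻¹ᵁ V ≤ f ⁻¹ᵁ W)).op)) ∧
    ((∀ x : S, x ∉ V → 2 ≤ LocCoh.depth (S.presheaf.stalk x) (S.presheaf.stalk x)) →
      ∀ W : S.Opens, Function.Bijective (L.val.map (homOfLE (inf_le_left : f ⁻¹ᵁ W ⊓ f ⁻¹ᵁ V ≤ f ⁻¹ᵁ W)).op)) := by
  haveI : IsLocallyNoetherian A := LocallyOfFiniteType.isLocallyNoetherian f
  have hdepth : ∀ a : A, LocCoh.depth (S.presheaf.stalk (f a)) (S.presheaf.stalk (f a)) ≤
      LocCoh.depth (A.presheaf.stalk a) (A.presheaf.stalk a) := by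
    intro a
    algebraize [(f.stalkMap a).hom]
    haveI : Module.Flat (S.presheaf.stalk (f a)) (A.presheaf.stalk a) := Flat.stalkMap f a
    haveI : IsLocalHom (algebraMap (S.presheaf.stalk (f a)) (A.presheaf.stalk a)) :=
      f.toLRSHom.prop a
    exact Groth.Agent.Lib.helper9.FlatDepth.depth_le_of_flat_local
  have key := Groth.Agent.Lib.helper9.Glue.res_of_isInvertible L hL (f ⁻¹ᵁ V)
  refine ⟨fun hV W => ?_, fun hV W => ?_⟩
  · have h1 := (Groth.Agent.Lib.helper9.Glue.structureSheaf_res_injective_iff V).mp hV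
    have h2 : ∀ a : A, a ∉ f ⁻¹ᵁ V →
        1 ≤ LocCoh.depth (A.presheaf.stalk a) (A.presheaf.stalk a) :=
      fun a ha => (h1 (f a) ha).trans (hdepth a)
    have h3 := (Groth.Agent.Lib.helper9.Glue.structureSheaf_res_injective_iff (f ⁻¹ᵁ V)).mpr h2
    exact key.1 h3 (f ⁻¹ᵁ W)
  · have h2 : ∀ a : A, a ∉ f ⁻¹ᵁ V →
        2 ≤ LocCoh.depth (A.presheaf.stalk a) (A.presheaf.stalk a) :=
      fun a ha => (hV (f a) ha).trans (hdepth a)
    have h3 := Groth.Agent.Lib.helper9.Glue.structureSheaf_res_bijective (f ⁻¹ᵁ V) h2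
    exact key.2 h3 (f ⁻¹ᵁ W)

end Groth.Agent.S14330
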