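import Groth.Statements.S14345
import Mathlib
import Groth.Agent.Lib.helper27.Fitting

set_option autoImplicit false
universe u v
open TensorProduct
open QuotLF

namespace Groth.Agent.S14345aux
open Groth.Agent.Lib.helper27.Fitting TensorProduct


/-- Fitting ideals of a finite projective module of constant rank `k` vanish below `k`. -/
theorem ideal_eq_bot_of_rankAtStalk {A : Type u} [CommRing A] (Q : Type v) [AddCommGroup Q]
    [Module A Q] [Module.Finite A Q] [Module.Projective A Q] (k : ℕ)
    (hrk : ∀ p, Module.rankAtStalk (R := A) Q p = k) (j : ℕ) (hj : j < k) :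
    Fitt.ideal A Q j = ⊥ := by
  rw [eq_bot_iff]
  intro d hd
  rw [Ideal.mem_bot]
  apply eq_zero_of_localization
  intro J hJ
  have : J.IsPrime := hJ.isPrime
  have hfree : Module.Free (Localization.AtPrime J) (LocalizedModule J.primeCompl Q) :=
    Module.free_of_flat_of_isLocalRing
  have hrank : Module.finrank (Localization.AtPrime J) (LocalizedModule J.primeCompl Q) = k :=
    hrk ⟨J, inferInstance⟩
  let b := Module.finBasisOfFinrankEq (Localization.AtPrime J) (LocalizedModule J.primeCompl Q) hrank
  have h1 := ideal_eq_bot_of_basis b hj
  rw [ideal_localizedModule, eq_bot_iff] at h1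
  have := h1 (Ideal.mem_map_of_mem _ hd)
  simpa using this

theorem main (R : Type u) [CommRing R]
    (M : Type v) [AddCommGroup M] [Module R M] [Module.Finite R M] (k : ℕ)
    (A : Type u) [CommRing A] [Algebra R A] (N : Module.Grassmannian A (A ⊗[R] M) k)
    (j : ℕ) (hj : j < k) :
    (Fitt.ideal R M j).map (algebraMap R A) = ⊥ := by
  rw [← ideal_baseChange (R' := A) (M := M) j, eq_bot_iff]
  refine le_trans (ideal_le_of_surjective (N.toSubmodule.mkQ) (Submodule.mkQ_surjective _) j) ?_
  rw [ideal_eq_bot_of_rankAtStalk ((A ⊗[R] M) ⧸ N.toSubmodule) k N.rankAtStalk_eq j hj]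

end Groth.Agent.S14345aux

namespace Groth.Agent.S14345

/-- Let R be a commutative ring, M a finitely generated R-module and k ≥ 0. If for an R-algebra A the
module A ⊗_R M admits a quotient that is finite projective of constant rank k (an A-valued point of
the Quot scheme of rank-k locally free quotients of M), then every Fitting ideal Fit_j(M) with j < k
extends to the zero ideal of A; that is, the structure map of the Quot scheme of rank-k locally free
quotients factors through the closed subscheme cut out by Fit_{k-1}(M). -/
theorem result (R : Type u) [CommRing R]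
    (M : Type v) [AddCommGroup M] [Module R M] [Module.Finite R M] (k : ℕ)
    (A : Type u) [CommRing A] [Algebra R A] (N : Module.Grassmannian A (A ⊗[R] M) k)
    (j : ℕ) (hj : j < k) :
    (Fitt.ideal R M j).map (algebraMap R A) = ⊥ := by
  exact Groth.Agent.S14345aux.main R M k A N j hj

end Groth.Agent.S14345
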