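import Groth.Statements.S14347
import Mathlib
import Groth.Agent.Lib.helper27.Fitting

set_option autoImplicit false
universe u
open QuotLF

namespace Groth.Agent.S14347aux
open Groth.Agent.Lib.helper27.Fitting


/-- Fitting ideals of a quotient of a free module by the span of a family, via minors of the
coordinate matrix. -/
theorem ideal_quotient_eq {R : Type*} [CommRing R] {N : Type*} [AddCommGroup N] [Module R N]
    {n : ℕ} (b : Module.Basis (Fin n) R N) {ι : Type*} (w : ι → N) (q : ℕ) :
    Fitt.ideal R (N ⧸ Submodule.span R (Set.range w)) q =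
      Ideal.span {d | ∃ (s : Fin (n - q) → ι) (e : Fin (n - q) → Fin n),
        d = (Matrix.of fun a c => b.repr (w (s c)) (e a)).det} := by
  set W := Submodule.span R (Set.range w) with hW
  have hx : Submodule.span R (Set.range fun i => W.mkQ (b i)) = ⊤ := by
    have : Set.range (fun i => W.mkQ (b i)) = W.mkQ '' Set.range b := by
      rw [← Set.range_comp]; rfl
    rw [this, ← Submodule.map_span, b.span_eq, Submodule.map_top, Submodule.range_mkQ]
  have hker : Submodule.span R (Set.range fun l => b.equivFun (w l)) =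
      LinearMap.ker (Fintype.linearCombination R (fun i => W.mkQ (b i))) := by
    have h1 : ∀ z : Fin n → R, Fintype.linearCombination R (fun i => W.mkQ (b i)) z =
        W.mkQ (b.equivFun.symm z) := by
      intro z
      rw [Fintype.linearCombination_apply, Module.Basis.equivFun_symm_apply, map_sum]
      simp
    ext z
    rw [LinearMap.mem_ker, h1, Submodule.mkQ_apply, Submodule.Quotient.mk_eq_zero]
    have h2 : Set.range (fun l => b.equivFun (w l)) = b.equivFun '' Set.range w := by
      rw [← Set.range_comp]; rfl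
    have h3 : Submodule.span R (⇑b.equivFun '' Set.range w) =
        W.map (b.equivFun : N →ₗ[R] (Fin n → R)) := by
      rw [hW, Submodule.map_span]; rfl
    rw [h2, h3]
    constructor
    · rintro ⟨y, hy, rfl⟩
      simpa using hy
    · intro hz
      exact ⟨b.equivFun.symm z, hz, b.equivFun.apply_symm_apply z⟩
  rw [ideal_eq_minors _ hx q, minors_eq_span_of_span_eq _ _ _ hker]
  congr 1
  ext d
  constructor
  · rintro ⟨z, e, hz, rfl⟩
    choose s hs using hz
    refine ⟨s, e, ?_⟩
    congr 1
    ext a c
    simp [← hs c]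
  · rintro ⟨s, e, rfl⟩
    exact ⟨fun c => b.equivFun (w (s c)), e, fun c => ⟨s c, rfl⟩, rfl⟩

theorem ideal_quotient_eq' {R : Type*} [CommRing R] {N : Type*} [AddCommGroup N] [Module R N]
    {n : ℕ} (b : Module.Basis (Fin n) R N) {ι : Type*} (w : ι → N) (q : ℕ) (W : Submodule R N)
    (hW : W = Submodule.span R (Set.range w)) :
    Fitt.ideal R (N ⧸ W) q =
      Ideal.span {d | ∃ (s : Fin (n - q) → ι) (e : Fin (n - q) → Fin n),
        d = (Matrix.of fun a c => b.repr (w (s c)) (e a)).det} := by
  subst hW
  exact ideal_quotient_eq b w q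

section
variable (R : Type u) [CommRing R] (m n : ℕ) (σ : (Fin m → R) →ₗ[R] (Fin n → R))

/-- minors of the matrix of `σ` with `p` rows chosen by `e` and `p` columns chosen by `s`. -/
def GS (p : ℕ) : Set R := {d | ∃ (s : Fin p → Fin m) (e : Fin p → Fin n),
  d = (Matrix.of fun a c => σ (Pi.single (s c) 1) (e a)).det}

lemma fitt_coker (q : ℕ) :
    Fitt.ideal R ((Fin n → R) ⧸ LinearMap.range σ) q = Ideal.span (GS R m n σ (n - q)) := by
  have hW : LinearMap.range σ = Submodule.span R (Set.range fun l : Fin m => σ (Pi.single l 1)) := by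
    rw [LinearMap.range_eq_map, ← (Pi.basisFun R (Fin m)).span_eq, Submodule.map_span,
      ← Set.range_comp]
    congr 2
    ext l; simp
  rw [ideal_quotient_eq' (Pi.basisFun R (Fin n)) _ q _ hW]
  congr 1

lemma fitt_coker_dual (j : ℕ) :
    Fitt.ideal R (Module.Dual R (Fin m → R) ⧸ LinearMap.range σ.dualMap) j =
      Ideal.span (GS R m n σ (m - j)) := by
  have hW : LinearMap.range σ.dualMap = Submodule.span R (Set.range fun i : Fin n =>
      σ.dualMap ((Pi.basisFun R (Fin n)).dualBasis i)) := by
    rw [LinearMap.range_eq_map, ← ((Pi.basisFun R (Fin n)).dualBasis).span_eq, Submodule.map_span,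
      ← Set.range_comp]
    rfl
  rw [ideal_quotient_eq' ((Pi.basisFun R (Fin m)).dualBasis) _ j _ hW]
  congr 1
  ext d
  constructor
  · rintro ⟨s, e, rfl⟩
    refine ⟨e, s, ?_⟩
    rw [← Matrix.det_transpose]
    congr 1
    ext a c
    simp [Module.Basis.dualBasis_apply]
  · rintro ⟨s, e, rfl⟩
    refine ⟨e, s, ?_⟩
    rw [← Matrix.det_transpose]
    congr 1
    ext a c
    simp [Module.Basis.dualBasis_apply]

theorem main (hσ : Function.Injective σ) :
    (∀ j : ℕ, Fitt.ideal R ((Fin n → R) ⧸ LinearMap.range σ) (n - m + j) =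
        Fitt.ideal R (Module.Dual R (Fin m → R) ⧸ LinearMap.range σ.dualMap) j) ∧
      ∀ i : ℕ, i < n - m → Fitt.ideal R ((Fin n → R) ⧸ LinearMap.range σ) i = ⊥ := by
  rcases subsingleton_or_nontrivial R with hR | hR
  · exact ⟨fun j => Subsingleton.elim _ _, fun i _ => Subsingleton.elim _ _⟩
  have hmn : m ≤ n := by simpa using card_le_of_injective R σ hσ
  constructor
  · intro j
    rw [fitt_coker, fitt_coker_dual]
    have : n - (n - m + j) = m - j := by omega
    rw [this]
  · intro i hi
    rw [fitt_coker, eq_bot_iff]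
    apply Ideal.span_le.2
    rintro d ⟨s, e, rfl⟩
    have hcard : Fintype.card (Fin m) < Fintype.card (Fin (n - i)) := by
      simp; omega
    obtain ⟨c, c', hne, hcc⟩ := Fintype.exists_ne_map_eq_of_card_lt s hcard
    rw [Matrix.det_zero_of_column_eq hne]
    · simp
    · intro a; simp [hcc]

end

end Groth.Agent.S14347aux

namespace Groth.Agent.S14347

/-- Let R be a commutative ring and σ : R^m → R^n an injective linear map with cokernel M, so that M has
a length-one resolution by finite free modules and rank δ = n − m; let K be the cokernel of the dual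
map (R^n)^∨ → (R^m)^∨, which is the module Ext¹_R(M, R). Then the Fitting ideals satisfy Fit_{δ +
j}(M) = Fit_j(K) for all j ≥ 0, and Fit_i(M) = 0 for i < δ (the degeneracy loci of M and of K agree
after the shift by δ). -/
theorem result (R : Type u) [CommRing R] (m n : ℕ)
    (σ : (Fin m → R) →ₗ[R] (Fin n → R)) (hσ : Function.Injective σ) :
    (∀ j : ℕ, Fitt.ideal R ((Fin n → R) ⧸ LinearMap.range σ) (n - m + j) =
        Fitt.ideal R (Module.Dual R (Fin m → R) ⧸ LinearMap.range σ.dualMap) j) ∧
      ∀ i : ℕ, i < n - m → Fitt.ideal R ((Fin n → R) ⧸ LinearMap.range σ) i = ⊥ := by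
  exact Groth.Agent.S14347aux.main R m n σ hσ

end Groth.Agent.S14347
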