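import Groth.Statements.S14351
import Mathlib.RingTheory.Flat.FaithfullyFlat.Algebra
-- import your own Groth.Agent.* helpers here

set_option autoImplicit false
universe u
open CAlg

namespace Groth.Agent.S14351

open TensorProduct in
/-- For ring maps A → B → C with C faithfully flat over B and C faithfully flat over A, the ring B is
faithfully flat over A. -/
theorem result (A B C : Type u) [CommRing A] [CommRing B]
    [CommRing C] [Algebra A B] [Algebra B C] [Algebra A C] [IsScalarTower A B C]
    [Module.FaithfullyFlat B C] [Module.FaithfullyFlat A C] : Module.FaithfullyFlat A B := by
  have hflat : Module.Flat A B := by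
    rw [Module.Flat.iff_lTensor_preserves_injective_linearMap]
    intro N N' _ _ _ _ f hf
    -- reduce to injectivity after tensoring with `C` over `B`
    have key : Function.Injective
        ((TensorProduct.AlgebraTensorModule.lTensor B B f).lTensor C) := by
      have h1 := TensorProduct.AlgebraTensorModule.lTensor_comp_cancelBaseChange A B B (M := C) f
      have h2 : Function.Injective (TensorProduct.AlgebraTensorModule.lTensor B C f) := by
        have : Function.Injective (f.lTensor C) :=
          Module.Flat.lTensor_preserves_injective_linearMap f hf
        exact this
      have h3 : Function.Injective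
          ((TensorProduct.AlgebraTensorModule.lTensor B C f) ∘ₗ
            (TensorProduct.AlgebraTensorModule.cancelBaseChange A B B C N).toLinearMap) := by
        rw [LinearMap.coe_comp]
        exact h2.comp (LinearEquiv.injective _)
      rw [h1, LinearMap.coe_comp] at h3
      have h4 := Function.Injective.of_comp h3
      exact h4
    have := (Module.FaithfullyFlat.lTensor_injective_iff_injective B C
      (TensorProduct.AlgebraTensorModule.lTensor B B f)).mp key
    exact this
  refine Module.FaithfullyFlat.of_comap_surjective ?_
  intro p
  obtain ⟨q, hq⟩ := PrimeSpectrum.comap_surjective_of_faithfullyFlat (A := A) (B := C) p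
  refine ⟨PrimeSpectrum.comap (algebraMap B C) q, ?_⟩
  rw [← hq, IsScalarTower.algebraMap_eq A B C]
  rfl

end Groth.Agent.S14351
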