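import Groth.Statements.S14352
import Mathlib
import Groth.Agent.Lib.helper22.UnramFibre

set_option autoImplicit false
universe u
open Mor

namespace Groth.Agent.S14352

section Helpers

open CategoryTheory CategoryTheory.Limits AlgebraicGeometry

/-- sections over affine opens of a formally unramified lft scheme over a field are reduced & artinian -/
theorem key_fwd {P : Scheme.{u}} (K : Type u) [Field K] (h : P ⟶ Spec (CommRingCat.of K))
    [FormallyUnramified h] [LocallyOfFiniteType h] (W : P.affineOpens) :
    _root_.IsReduced Γ(P, W.1) ∧ IsArtinianRing Γ(P, W.1) := by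
  have h1 : RingHom.FormallyUnramified (h.appLE ⊤ W.1 le_top).hom :=
    HasRingHomProperty.appLE (P := @FormallyUnramified) h inferInstance
      ⟨⊤, isAffineOpen_top _⟩ W le_top
  have h2 : RingHom.FiniteType (h.appLE ⊤ W.1 le_top).hom :=
    h.finiteType_appLE (isAffineOpen_top _) W.2 le_top
  let ψ : CommRingCat.of K ⟶ Γ(P, W.1) :=
    (Scheme.ΓSpecIso (CommRingCat.of K)).inv ≫ h.appLE ⊤ W.1 le_top
  have h1' : RingHom.FormallyUnramified ψ.hom :=
    (RingHom.FormallyUnramified.respectsIso.cancel_left_isIso _ _).mpr h1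
  have h2' : RingHom.FiniteType ψ.hom :=
    (RingHom.finiteType_respectsIso.cancel_left_isIso _ _).mpr h2
  algebraize [ψ.hom]
  have h3 : Module.Finite K Γ(P, W.1) := Algebra.FormallyUnramified.finite_of_free K _
  exact ⟨Algebra.FormallyUnramified.isReduced_of_field K _, IsArtinianRing.of_finite K _⟩

theorem main_fwd {P : Scheme.{u}} (K : Type u) [Field K] (h : P ⟶ Spec (CommRingCat.of K))
    [FormallyUnramified h] [LocallyOfFiniteType h] :
    IsReduced P ∧ DiscreteTopology ↥P := by
  haveI : IsLocallyArtinian P := ⟨fun W => (key_fwd K h W).2⟩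
  refine ⟨?_, inferInstance⟩
  have hst : ∀ x : P, _root_.IsReduced (P.presheaf.stalk x) := by
    intro x
    obtain ⟨W, hW1, hxW, _⟩ := exists_isAffineOpen_mem_and_subset (TopologicalSpace.Opens.mem_top x)
    have h1 : _root_.IsReduced Γ(P, W) := (key_fwd K h ⟨W, hW1⟩).1
    letI := TopCat.Presheaf.algebra_section_stalk P.presheaf ⟨x, hxW⟩
    haveI := hW1.isLocalization_stalk ⟨x, hxW⟩
    exact isReduced_localizationPreserves (hW1.primeIdealOf ⟨x, hxW⟩).asIdeal.primeCompl
      (P.presheaf.stalk x) h1
  exact isReduced_of_isReduced_stalk P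

/-- a reduced ring with exactly one prime is a field -/
theorem isField_of_subsingleton_primeSpectrum (B : Type u) [CommRing B] [_root_.IsReduced B]
    [Nontrivial B] (h : Subsingleton (PrimeSpectrum B)) : IsField B := by
  obtain ⟨m, hm⟩ := Ideal.exists_maximal B
  rw [Ring.isField_iff_maximal_bot]
  have : m = ⊥ := by
    have h1 : nilradical B = m := by
      rw [nilradical_eq_sInf]
      apply le_antisymm
      · exact sInf_le hm.isPrime
      · apply le_sInf
        intro p hp
        have := h.elim ⟨p, hp⟩ ⟨m, hm.isPrime⟩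
        rw [PrimeSpectrum.ext_iff] at this
        exact this.ge
    rw [← h1, nilradical_eq_zero]
    rfl
  rw [← this]
  exact hm

theorem key_bwd {Z : Scheme.{u}} (K : Type u) [Field K] [IsAlgClosed K]
    (h : Z ⟶ Spec (CommRingCat.of K))
    [LocallyOfFiniteType h] [IsAffine Z] [IsReduced Z] [Subsingleton Z] [Nonempty Z] :
    FormallyUnramified h := by
  obtain ⟨z⟩ := ‹Nonempty Z›
  haveI : Nonempty (⊤ : Z.Opens) := ⟨⟨z, trivial⟩⟩
  haveI : Nontrivial Γ(Z, ⊤) := inferInstance
  haveI : Subsingleton (PrimeSpectrum Γ(Z, ⊤)) :=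
    (Z.isoSpec.inv.homeomorph).injective.subsingleton
  have hC : IsField Γ(Z, ⊤) := isField_of_subsingleton_primeSpectrum _ inferInstance
  rw [HasRingHomProperty.iff_of_isAffine (P := @FormallyUnramified)]
  have h2 : RingHom.FiniteType h.appTop.hom :=
    (HasRingHomProperty.iff_of_isAffine (P := @LocallyOfFiniteType)).mp inferInstance
  let ψ : CommRingCat.of K ⟶ Γ(Z, ⊤) :=
    (Scheme.ΓSpecIso (CommRingCat.of K)).inv ≫ h.appTop
  have h2' : RingHom.FiniteType ψ.hom :=
    (RingHom.finiteType_respectsIso.cancel_left_isIso _ _).mpr h2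
  apply RingHom.FormallyUnramified.of_surjective
  algebraize [ψ.hom]
  letI : Field Γ(Z, ⊤) := hC.toField
  have h3 : Module.Finite K Γ(Z, ⊤) := finite_of_finite_type_of_isJacobsonRing K _
  have h4 : Function.Bijective (algebraMap K Γ(Z, ⊤)) :=
    IsAlgClosed.algebraMap_bijective_of_isIntegral
  intro c
  obtain ⟨k, hk⟩ := h4.2 c
  exact ⟨(Scheme.ΓSpecIso (CommRingCat.of K)).inv.hom k, hk⟩

theorem main_bwd {X S : Scheme.{u}} (f : X ⟶ S) [LocallyOfFinitePresentation f]
    (H : ∀ (K : Type u) [Field K] [IsAlgClosed K] (s : Spec (CommRingCat.of K) ⟶ S),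
        IsReduced (pullback f s) ∧ DiscreteTopology ↥(pullback f s)) :
    FormallyUnramified f := by
  apply Groth.Agent.H22.UnramFibre.formallyUnramified_of_pullback_opens
  intro x
  let K := AlgebraicClosure (S.residueField (f x))
  let g : Spec (CommRingCat.of K) ⟶ S :=
    Spec.map (CommRingCat.ofHom (algebraMap (S.residueField (f x)) K)) ≫
      S.fromSpecResidueField (f x)
  obtain ⟨hred, hdisc⟩ := H K g
  let y : Spec (CommRingCat.of K) := ⟨⊥, Ideal.bot_prime⟩
  have hy : g y = f x := by
    simp only [g, Scheme.Hom.comp_apply]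
    exact Scheme.fromSpecResidueField_apply _ _
  obtain ⟨z, hz1, hz2⟩ := Scheme.Pullback.exists_preimage_pullback x y hy.symm
  have hopen : IsOpen ({z} : Set ↥(pullback f g)) := isOpen_discrete _
  obtain ⟨W, hW1, hzW, hWsub⟩ :=
    exists_isAffineOpen_mem_and_subset (U := ⟨{z}, hopen⟩) (x := z) rfl
  refine ⟨Spec (CommRingCat.of K), g, W, z, hzW, hz1, ?_⟩
  haveI : IsAffine W := hW1
  haveI : Subsingleton W := by
    change Subsingleton (W : Set ↥(pullback f g))
    exact ⟨fun a b => Subtype.ext ((hWsub a.2 : a.1 = z).trans (hWsub b.2 : b.1 = z).symm)⟩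
  haveI : Nonempty W := ⟨⟨z, hzW⟩⟩
  exact key_bwd K (W.ι ≫ pullback.snd f g)

theorem main {X S : Scheme.{u}} (f : X ⟶ S) [LocallyOfFinitePresentation f] :
    FormallyUnramified f ↔
      ∀ (K : Type u) [Field K] [IsAlgClosed K] (s : Spec (CommRingCat.of K) ⟶ S),
        IsReduced (pullback f s) ∧ DiscreteTopology ↥(pullback f s) := by
  constructor
  · intro hf K _ _ s
    haveI : FormallyUnramified (pullback.snd f s) :=
      MorphismProperty.pullback_snd (P := @FormallyUnramified) _ _ hf
    exact main_fwd K (pullback.snd f s)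
  · exact main_bwd f

end Helpers

open CategoryTheory CategoryTheory.Limits AlgebraicGeometry in
/-- A morphism of schemes f : X → S which is locally of finite presentation is unramified (formally
unramified) if and only if all its geometric fibres are reduced with discrete underlying space: for
every algebraically closed field K and every S-point Spec K → S, the fibre product X ×_S Spec K is a
reduced scheme whose topological space is discrete. -/
theorem result {X S : Scheme.{u}} (f : X ⟶ S)
    [LocallyOfFinitePresentation f] :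
    FormallyUnramified f ↔
      ∀ (K : Type u) [Field K] [IsAlgClosed K] (s : Spec (CommRingCat.of K) ⟶ S),
        IsReduced (pullback f s) ∧ DiscreteTopology ↥(pullback f s) := by
  exact main f

end Groth.Agent.S14352
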