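import Groth.Statements.S14355
import Groth.Agent.Lib.helper18.SSLine

set_option autoImplicit false
universe v u
open CategoryTheory CategoryTheory.Limits
open SpSeqMor

namespace Groth.Agent.S14355

section helpers

variable {C : Type u} [Category.{v} C] [Abelian C]

/-- a map of complexes with a zero component induces zero on homology there -/
lemma homologyMap_eq_zero {ι : Type*} {c : ComplexShape ι} {K L : HomologicalComplex C c}
    (φ : K ⟶ L) (i : ι) (h : φ.f i = 0) : HomologicalComplex.homologyMap φ i = 0 := by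
  have h1 : HomologicalComplex.cyclesMap φ i = 0 := by
    rw [← cancel_mono (L.iCycles i), HomologicalComplex.cyclesMap_i, h, comp_zero, zero_comp]
  rw [← cancel_epi (K.homologyπ i), HomologicalComplex.homologyπ_naturality, h1, zero_comp,
    comp_zero]

/-- a morphism of spectral sequences vanishing at a position on some page vanishes there on all
later pages -/
lemma hom_f_eq_zero {r₀ : ℤ} {E E' : CohomologicalSpectralSequence C r₀} (φ : E ⟶ E')
    (pq : ℤ × ℤ) (r : ℤ) (hr : r₀ ≤ r) (h : (φ.hom r hr).f pq = 0) (k : ℤ) (hk : r ≤ k) :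
    (φ.hom k (hr.trans hk)).f pq = 0 := by
  induction k, hk using Int.le_induction with
  | base => exact h
  | succ k hk ih =>
    have hc := φ.comm k (k + 1) pq rfl (hr.trans hk)
    rw [homologyMap_eq_zero _ _ ih, zero_comp] at hc
    exact (cancel_epi (E.iso k (k + 1) pq rfl (hr.trans hk)).hom).1 (hc.symm.trans comp_zero.symm)

end helpers

/-- Let φ : E ⟶ E' be a morphism of E_2-cohomological spectral sequences in an abelian category, with
abutments H and H' whose filtrations are finite in each degree, and f a morphism of abutment data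
over φ. Fix integers l and a₀. If E_2^{i, l-i} = 0 for i < a₀, E'_2^{i, l-i} = 0 for i > a₀ and
φ_2^{a₀, l-a₀} = 0, then f^l : H^l ⟶ H'^l is zero. (The published statement prints the two vanishing
hypotheses at positions (i, l); the argument works on the line of total degree l, at positions (i, l
- i), which is the form stated here.) -/
theorem result (C : Type u) [Category.{v} C] [Abelian C]
    (E E' : E₂CohomologicalSpectralSequence C) (φ : E ⟶ E') (H H' : ℤ → C)
    (a : SpSeq.Abutment E H) (a' : SpSeq.Abutment E' H')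
    (ha : ∀ n : ℤ, a.IsFinite n) (ha' : ∀ n : ℤ, a'.IsFinite n)
    (f : SpSeqMor.AbutHom φ a a') (l a₀ : ℤ)
    (hE : ∀ i : ℤ, i < a₀ → IsZero ((E.page 2 le_rfl).X (i, l - i)))
    (hE' : ∀ i : ℤ, a₀ < i → IsZero ((E'.page 2 le_rfl).X (i, l - i)))
    (hφ : (φ.hom 2 le_rfl).f (a₀, l - a₀) = 0) :
    f.hom l = 0 := by
  classical
  -- Step A: the filtration of `H l` is everything at `a₀`
  have hgr : ∀ p, p < a₀ → a.fil l (p + 1) = a.fil l p := by
    intro p hp
    refine Groth.Agent.S8347.eq_of_isZero_grPiece (a.fil l) (a.anti l) p ?_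
    have h1 := (Groth.Agent.S8355.result E 2 le_rfl (p, l - p) (hE p hp)).2 H a
    obtain ⟨e⟩ := Groth.Agent.S8347.grPiece_congr a.fil a.anti (p + (l - p)) l p (by omega)
    exact h1.of_iso e.symm
  have htop : a.fil l a₀ = ⊤ := by
    obtain ⟨⟨t, ht⟩, -⟩ := ha l
    have ht' : a.fil l t = ⊤ := ht
    rcases le_total a₀ t with hle | hle
    · have h := (a.anti l) hle
      rw [ht'] at h
      exact top_le_iff.mp h
    · have key : ∀ n : ℕ, t + n ≤ a₀ → a.fil l (t + n) = ⊤ := by
        intro n
        induction n with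
        | zero =>
          intro _
          simpa using ht'
        | succ n ih =>
          intro hn
          have h1 := hgr (t + n) (by push_cast at hn; omega)
          have h2 := ih (by push_cast at hn; omega)
          rw [← h2, ← h1]
          congr 1
          push_cast
          omega
      have h3 := key (a₀ - t).toNat (by omega)
      rw [← h3]
      congr 1
      omega
  -- Step B: the filtration of `H' l` vanishes at `a₀ + 1`
  have hgr' : ∀ p, a₀ < p → a'.fil l (p + 1) = a'.fil l p := by
    intro p hp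
    refine Groth.Agent.S8347.eq_of_isZero_grPiece (a'.fil l) (a'.anti l) p ?_
    have h1 := (Groth.Agent.S8355.result E' 2 le_rfl (p, l - p) (hE' p hp)).2 H' a'
    obtain ⟨e⟩ := Groth.Agent.S8347.grPiece_congr a'.fil a'.anti (p + (l - p)) l p (by omega)
    exact h1.of_iso e.symm
  have hbot : a'.fil l (a₀ + 1) = ⊥ := by
    obtain ⟨-, ⟨b, hb⟩⟩ := ha' l
    have hb' : a'.fil l b = ⊥ := hb
    rcases le_total b (a₀ + 1) with hle | hle
    · have h := (a'.anti l) hle
      rw [hb'] at h
      exact le_bot_iff.mp h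
    · have key : ∀ n : ℕ, a'.fil l (a₀ + 1 + n) = a'.fil l (a₀ + 1) := by
        intro n
        induction n with
        | zero => simp
        | succ n ih =>
          have h1 := hgr' (a₀ + 1 + n) (by omega)
          rw [← ih, ← h1]
          congr 1
          push_cast
          omega
      have h3 := key (b - (a₀ + 1)).toNat
      rw [← h3, ← hb']
      congr 1
      omega
  -- Step C: the map on `gr^{a₀}` vanishes
  obtain ⟨pq, hpq⟩ : ∃ pq : ℤ × ℤ, pq = (a₀, l - a₀) := ⟨_, rfl⟩
  obtain ⟨k, k', hkk⟩ : ∃ k k' : ℕ, a.rk pq + k = a'.rk pq + k' :=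
    ⟨(a'.rk pq - a.rk pq).toNat, (a.rk pq - a'.rk pq).toNat, by omega⟩
  have hφ' : (φ.hom (a'.rk pq + k') (SpSeqMor.page_le (a'.stat pq).1 k')).f pq = 0 := by
    apply hom_f_eq_zero φ pq 2 le_rfl _ (a'.rk pq + k') (SpSeqMor.page_le (a'.stat pq).1 k')
    rw [hpq]
    exact hφ
  have hgr1 : (f.fil (pq.1 + pq.2)).gr pq.1 = 0 := by
    have hcomm := f.comm pq k k' hkk
    rw [hφ'] at hcomm
    simp only [zero_comp, comp_zero] at hcomm
    exact (cancel_epi (a.β pq).hom).1 (hcomm.trans comp_zero.symm)
  have hgr0 : (f.fil l).gr a₀ = 0 := by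
    have transport : ∀ (n p : ℤ), n = l → p = a₀ → (f.fil n).gr p = 0 → (f.fil l).gr a₀ = 0 := by
      rintro n p rfl rfl h
      exact h
    refine transport _ _ ?_ ?_ hgr1
    · rw [hpq]
      change a₀ + (l - a₀) = l
      omega
    · rw [hpq]
  -- Step D: conclusion
  have hπ : cokernel.π ((a.filObj l).stepLE (Int.le_add_one (le_refl a₀))) ≫ (f.fil l).gr a₀ =
      (f.fil l).lift a₀ ≫ cokernel.π ((a'.filObj l).stepLE (Int.le_add_one (le_refl a₀))) := by
    unfold SpSeqMor.FilLift.gr
    exact cokernel.π_desc _ _ _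
  have hz : IsZero ((a'.filObj l).step (a₀ + 1)) :=
    (isZero_zero C).of_iso (Subobject.isoOfEq _ _ hbot ≪≫ Subobject.botCoeIsoZero)
  have hstep0 : (a'.filObj l).stepLE (Int.le_add_one (le_refl a₀)) = 0 := hz.eq_of_src _ _
  haveI : IsIso (cokernel.π ((a'.filObj l).stepLE (Int.le_add_one (le_refl a₀)))) :=
    Groth.Agent.S8347.isIso_cokernel_π_of_eq_zero _ hstep0
  have hlift : (f.fil l).lift a₀ = 0 := by
    have h0 : (f.fil l).lift a₀ ≫
        cokernel.π ((a'.filObj l).stepLE (Int.le_add_one (le_refl a₀))) = 0 := by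
      rw [← hπ, hgr0]
      exact comp_zero
    exact (cancel_mono (cokernel.π ((a'.filObj l).stepLE (Int.le_add_one (le_refl a₀))))).1
      (h0.trans zero_comp.symm)
  have harrow := (f.fil l).lift_arrow a₀
  rw [hlift, zero_comp] at harrow
  haveI : IsIso ((a.filObj l).fil a₀).arrow := (Subobject.isIso_arrow_iff_eq_top _).2 htop
  exact (cancel_epi ((a.filObj l).fil a₀).arrow).1 (harrow.symm.trans comp_zero.symm)

end Groth.Agent.S14355
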