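import Groth.Statements.S14357
import Mathlib

set_option autoImplicit false
universe u
open AlgebraicGeometry
open Proj

namespace Groth.Agent.S14357aux
open CategoryTheory CategoryTheory.Limits AlgebraicGeometry MvPolynomial

variable (k : Type u) [Field k]

/-- The generic point of `P^1`. -/
noncomputable def x₀ : ProjectiveSpectrum (CohB1.polyGrading 1 k) where
  asHomogeneousIdeal := ⊥
  isPrime := by
    change (⊥ : Ideal (MvPolynomial (Fin 2) k)).IsPrime
    exact Ideal.isPrime_bot
  not_irrelevant_le := by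
    intro h
    have h1 : (X 0 : MvPolynomial (Fin 2) k) ∈ HomogeneousIdeal.irrelevant (CohB1.polyGrading 1 k) := by
      rw [HomogeneousIdeal.mem_irrelevant_iff, GradedRing.proj_apply,
        DirectSum.decompose_of_mem_ne (CohB1.polyGrading 1 k) (isHomogeneous_X k 0) one_ne_zero]
    have h2 := h h1
    have h3 : (X 0 : MvPolynomial (Fin 2) k) = 0 := h2
    exact X_ne_zero 0 h3

/-- The point `X₁ = 0` of `P^1`. -/
noncomputable def x₁ : ProjectiveSpectrum (CohB1.polyGrading 1 k) where
  asHomogeneousIdeal := ⟨Ideal.span {(X 1 : MvPolynomial (Fin 2) k)},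
    Ideal.homogeneous_span _ _ (by
      rintro x hx
      rw [Set.mem_singleton_iff.mp hx]
      exact ⟨1, isHomogeneous_X k 1⟩)⟩
  isPrime := by
    change (Ideal.span {(X 1 : MvPolynomial (Fin 2) k)}).IsPrime
    rw [Ideal.span_singleton_prime (X_ne_zero 1)]
    exact X_prime
  not_irrelevant_le := by
    intro h
    have h1 : (X 0 : MvPolynomial (Fin 2) k) ∈ HomogeneousIdeal.irrelevant (CohB1.polyGrading 1 k) := by
      rw [HomogeneousIdeal.mem_irrelevant_iff, GradedRing.proj_apply,
        DirectSum.decompose_of_mem_ne (CohB1.polyGrading 1 k) (isHomogeneous_X k 0) one_ne_zero]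
    have h2 := h h1
    have h3 : (X 0 : MvPolynomial (Fin 2) k) ∈ Ideal.span {(X 1 : MvPolynomial (Fin 2) k)} := h2
    rw [Ideal.mem_span_singleton] at h3
    obtain ⟨q, hq⟩ := h3
    have := congrArg (MvPolynomial.eval (fun i : Fin 2 => if i = 0 then (1 : k) else 0)) hq
    simp at this

lemma x₀_le_x₁ : x₀ k ≤ x₁ k := by
  rw [← ProjectiveSpectrum.as_ideal_le_as_ideal]
  intro a ha
  have : a = 0 := ha
  rw [this]
  exact zero_mem _

lemma x₀_ne_x₁ : x₀ k ≠ x₁ k := by
  intro h
  have h1 : (X 1 : MvPolynomial (Fin 2) k) ∈ (x₁ k).asHomogeneousIdeal.toIdeal :=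
    Ideal.subset_span rfl
  rw [← h] at h1
  have h3 : (X 1 : MvPolynomial (Fin 2) k) = 0 := h1
  exact X_ne_zero 1 h3


lemma algebraMap_zero_surjective :
    Function.Surjective (algebraMap k (CohB1.polyGrading 1 k 0)) := by
  intro x
  have hx : x.1.IsHomogeneous 0 := x.2
  have h1 : x.1.totalDegree = 0 := Nat.le_zero.mp hx.totalDegree_le
  rw [totalDegree_eq_zero_iff_eq_C] at h1
  refine ⟨coeff 0 x.1, Subtype.ext ?_⟩
  rw [h1]
  simp

instance : Subsingleton (Spec (CommRingCat.of (CohB1.polyGrading 1 k 0))) := by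
  have h := PrimeSpectrum.comap_injective_of_surjective (algebraMap k (CohB1.polyGrading 1 k 0))
    (algebraMap_zero_surjective k)
  exact h.subsingleton

instance : IsScalarTower k (CohB1.polyGrading 1 k 0) (MvPolynomial (Fin 2) k) :=
  ⟨fun a b c => by
    change (a • b.1) * c = a • (b.1 * c)
    rw [smul_mul_assoc]⟩

instance : Algebra.FiniteType (CohB1.polyGrading 1 k 0) (MvPolynomial (Fin 2) k) :=
  Algebra.FiniteType.of_restrictScalars_finiteType k _ _

lemma main : ¬ IsAffine (CohB1.ProjSpace 1 k) := by
  intro hX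
  have hX' : IsAffine (Proj (CohB1.polyGrading 1 k)) := hX
  have hft : Algebra.FiniteType (CohB1.polyGrading 1 k 0) (MvPolynomial (Fin 2) k) :=
    Algebra.FiniteType.of_restrictScalars_finiteType k _ _
  have hproper : IsProper (Proj.toSpecZero (CohB1.polyGrading 1 k)) := inferInstance
  have haff : IsAffineHom (Proj.toSpecZero (CohB1.polyGrading 1 k)) := inferInstance
  have hfin : IsFinite (Proj.toSpecZero (CohB1.polyGrading 1 k)) :=
    IsFinite.iff_isProper_and_isAffineHom.mpr ⟨hproper, haff⟩
  have hdisc := Scheme.Hom.isDiscrete_preimage_singleton (Proj.toSpecZero (CohB1.polyGrading 1 k))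
    (Proj.toSpecZero (CohB1.polyGrading 1 k) (x₀ k))
  have huniv : (Proj.toSpecZero (CohB1.polyGrading 1 k)) ⁻¹'
      {Proj.toSpecZero (CohB1.polyGrading 1 k) (x₀ k)} = Set.univ := by
    ext y
    simp only [Set.mem_preimage, Set.mem_singleton_iff, Set.mem_univ, iff_true]
    exact Subsingleton.elim _ _
  rw [huniv] at hdisc
  have hD : DiscreteTopology (ProjectiveSpectrum (CohB1.polyGrading 1 k)) :=
    isDiscrete_univ_iff.mp hdisc
  have hcl : x₁ k ∈ closure {x₀ k} := (ProjectiveSpectrum.le_iff_mem_closure _ (x₀ k) (x₁ k)).mp (x₀_le_x₁ k)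
  rw [closure_discrete] at hcl
  exact x₀_ne_x₁ k (Set.mem_singleton_iff.mp hcl).symm

end Groth.Agent.S14357aux

namespace Groth.Agent.S14357

/-- For a field k the projective line over k is not an affine scheme. (The projective line is taken here
as Proj of the polynomial ring in two variables over k with its standard grading; the book builds it
by gluing two affine lines and identifies the two constructions later.) -/
theorem result (k : Type u) [Field k] :
    ¬ IsAffine (CohB1.ProjSpace 1 k) := by
  exact S14357aux.main k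

end Groth.Agent.S14357
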