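import Groth.Statements.S14359
import Mathlib

set_option autoImplicit false
universe u
open CAlg

namespace Groth.Agent.S14359

open IsLocalRing in
/-- the local statement: in a Noetherian integrally closed local domain, if `m x ⊆ (b)` and
`x ∉ (b)` then the maximal ideal is principal. -/
lemma local_key (R : Type u) [CommRing R] [IsDomain R] [IsNoetherianRing R] [IsIntegrallyClosed R]
    [IsLocalRing R] (b x : R) (hb : b ≠ 0) (hbm : b ∈ maximalIdeal R)
    (h1 : ∀ r ∈ maximalIdeal R, r * x ∈ Ideal.span {b}) (h2 : x ∉ Ideal.span {b}) :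
    ∃ r : R, maximalIdeal R = Ideal.span {r} := by
  have hx0 : x ≠ 0 := fun h => h2 (h ▸ Ideal.zero_mem _)
  by_cases hA : ∃ t ∈ maximalIdeal R, ∃ c : R, t * x = c * b ∧ c ∉ maximalIdeal R
  · obtain ⟨t, ht, c, hc, hcu⟩ := hA
    have hcu' : IsUnit c := by
      by_contra h
      exact hcu ((mem_maximalIdeal c).mpr h)
    obtain ⟨c', hc'⟩ := hcu'.exists_left_inv
    refine ⟨c' * t, le_antisymm ?_ ?_⟩
    · intro t' ht'
      obtain ⟨d, hd⟩ := Ideal.mem_span_singleton'.mp (h1 t' ht')
      rw [Ideal.mem_span_singleton']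
      refine ⟨d, ?_⟩
      have hb' : (c' * t) * x = b := by
        rw [mul_assoc, hc, ← mul_assoc, hc', one_mul]
      have : (d * (c' * t)) * x = t' * x := by
        rw [mul_assoc, hb', hd]
      exact mul_right_cancel₀ hx0 this
    · rw [Ideal.span_singleton_le_iff_mem]
      exact Ideal.mul_mem_left _ _ ht
  · exfalso
    push_neg at hA
    apply h2
    let K := FractionRing R
    let y : K := algebraMap R K x / algebraMap R K b
    have hbK : algebraMap R K b ≠ 0 := by
      rw [Ne, map_eq_zero_iff _ (IsFractionRing.injective R K)]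
      exact hb
    let N : Submodule R K := Submodule.map (Algebra.linearMap R K) (maximalIdeal R)
    have hN : N ≠ ⊥ := by
      intro h
      have : algebraMap R K b ∈ N := ⟨b, hbm, rfl⟩
      rw [h, Submodule.mem_bot] at this
      exact hbK this
    have hN' : N.FG := (IsNoetherian.noetherian (maximalIdeal R)).map _
    have hy : ∀ n ∈ N, y • n ∈ N := by
      rintro _ ⟨t, ht, rfl⟩
      obtain ⟨d, hd⟩ := Ideal.mem_span_singleton'.mp (h1 t ht)
      refine ⟨d, hA t ht d hd.symm, ?_⟩
      change algebraMap R K d = y * algebraMap R K t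
      simp only [y]
      rw [div_mul_eq_mul_div, eq_div_iff hbK, ← map_mul, ← map_mul, hd, mul_comm]
    have hint : IsIntegral R y := isIntegral_of_smul_mem_submodule N hN hN' y hy
    obtain ⟨c, hc⟩ := IsIntegrallyClosed.algebraMap_eq_of_integral hint
    rw [Ideal.mem_span_singleton']
    refine ⟨c, ?_⟩
    apply IsFractionRing.injective R K
    rw [map_mul, hc]
    simp only [y]
    rw [div_mul_cancel₀ _ hbK]

/-- Let A be a Noetherian integrally closed integral domain and b a nonzero element of A. Then every
associated prime of the A-module A/(b) has height one, so that A/(b) has no embedded associated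
primes. -/
theorem result
    (A : Type u) [CommRing A] [IsDomain A] [IsNoetherianRing A] [IsIntegrallyClosed A]
    (b : A) (hb : b ≠ 0) (p : Ideal A) (hp : p ∈ associatedPrimes A (A ⧸ Ideal.span {b})) :
    p.height = 1 := by
  obtain ⟨hpp, xbar, hxbar⟩ := isAssociatedPrime_iff.mp hp
  obtain ⟨x, rfl⟩ := Ideal.Quotient.mk_surjective xbar
  have hmem : ∀ a : A, a ∈ p ↔ a * x ∈ Ideal.span {b} := by
    intro a
    rw [hxbar, Submodule.mem_colon_singleton, Submodule.mem_bot, ← Ideal.Quotient.eq_zero_iff_mem,
      map_mul]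
    rfl
  have hbp : b ∈ p := (hmem b).mpr (Ideal.mul_mem_right x _ (Ideal.mem_span_singleton_self b))
  haveI := hpp
  let R := Localization.AtPrime p
  haveI : IsDomain R := IsLocalization.isDomain_localization p.primeCompl_le_nonZeroDivisors
  haveI : IsNoetherianRing R := IsLocalization.isNoetherianRing p.primeCompl _ inferInstance
  haveI : IsIntegrallyClosed R :=
    isIntegrallyClosed_of_isLocalization _ p.primeCompl p.primeCompl_le_nonZeroDivisors
  have hinj : Function.Injective (algebraMap A R) :=
    IsLocalization.injective R p.primeCompl_le_nonZeroDivisors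
  have hmax : p.map (algebraMap A R) = IsLocalRing.maximalIdeal R :=
    Localization.AtPrime.map_eq_maximalIdeal
  have hb' : algebraMap A R b ≠ 0 := by
    rw [Ne, map_eq_zero_iff _ hinj]; exact hb
  have hbm : algebraMap A R b ∈ IsLocalRing.maximalIdeal R := by
    rw [← hmax]; exact Ideal.mem_map_of_mem _ hbp
  have h1 : ∀ r ∈ IsLocalRing.maximalIdeal R,
      r * algebraMap A R x ∈ Ideal.span {algebraMap A R b} := by
    intro r hr
    rw [← hmax] at hr
    refine Submodule.span_induction ?_ ?_ ?_ ?_ hr
    · rintro _ ⟨a, ha, rfl⟩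
      obtain ⟨c, hc⟩ := Ideal.mem_span_singleton'.mp ((hmem a).mp ha)
      rw [Ideal.mem_span_singleton']
      exact ⟨algebraMap A R c, by rw [← map_mul, ← map_mul, hc]⟩
    · rw [zero_mul]; exact Ideal.zero_mem _
    · intro u v _ _ hu hv
      rw [add_mul]; exact Ideal.add_mem _ hu hv
    · intro c u _ hu
      rw [smul_eq_mul, mul_assoc]; exact Ideal.mul_mem_left _ _ hu
  have h2 : algebraMap A R x ∉ Ideal.span {algebraMap A R b} := by
    intro h
    obtain ⟨c, hc⟩ := Ideal.mem_span_singleton'.mp h
    obtain ⟨⟨a, s⟩, hs⟩ := IsLocalization.surj p.primeCompl c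
    have : algebraMap A R ((s : A) * x) = algebraMap A R (a * b) := by
      rw [map_mul, map_mul, ← hc, ← hs]; ring
    have hsx := hinj this
    have : (s : A) ∈ p := (hmem s).mpr (by
      rw [hsx]; exact Ideal.mul_mem_left _ _ (Ideal.mem_span_singleton_self b))
    exact s.2 this
  obtain ⟨r, hr⟩ := local_key R (algebraMap A R b) (algebraMap A R x) hb' hbm h1 h2
  -- Krull's principal ideal theorem
  have hht : (IsLocalRing.maximalIdeal R).height ≤ 1 := by
    apply Ideal.height_le_one_of_isPrincipal_of_mem_minimalPrimes (Ideal.span {r})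
    rw [← hr, Ideal.minimalPrimes_eq_subsingleton_self]
    rfl
  have hp1 : p.height ≤ 1 := by
    have e1 := IsLocalRing.maximalIdeal_height_eq_ringKrullDim (R := R)
    have e2 := IsLocalization.AtPrime.ringKrullDim_eq_height p R
    rw [e2] at e1
    have : (IsLocalRing.maximalIdeal R).height = p.height := by exact_mod_cast e1
    rw [← this]; exact hht
  have hp0 : p.height ≠ 0 := by
    rw [Ne, Ideal.height_eq_zero_iff_eq_bot]
    intro h
    rw [h, Ideal.mem_bot] at hbp
    exact hb hbp
  exact le_antisymm hp1 (Order.one_le_iff_pos.mpr (pos_iff_ne_zero.mpr hp0))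

end Groth.Agent.S14359
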