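import Groth.Statements.S14360
import Mathlib

set_option autoImplicit false
universe u
open AlgebraicGeometry
open Variety

namespace Groth.Agent.S14360

section Helpers
open AlgebraicGeometry CategoryTheory Opposite TopologicalSpace Limits

/-- Abstract construction of a partial isomorphism from mutually inverse partial maps. -/
theorem birational_of_data {X Y : Scheme.{u}} [IrreducibleSpace X] [IrreducibleSpace Y]
    {A B U V : Scheme.{u}} (a : A ⟶ X) (b : B ⟶ Y) (c : V ⟶ Y) (d : U ⟶ X)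
    [IsOpenImmersion a] [IsOpenImmersion b] [IsOpenImmersion c] [IsOpenImmersion d]
    (φ : U ⟶ Y) (ψ : V ⟶ X) (a' : A ⟶ U) (b' : B ⟶ V) (φ' : A ⟶ V) (ψ' : B ⟶ U)
    (ha : a' ≫ d = a) (hb : b' ≫ c = b)
    (hφ' : φ' ≫ c = a' ≫ φ) (hψ' : ψ' ≫ d = b' ≫ ψ)
    (h1 : φ' ≫ ψ = a) (h2 : ψ' ≫ φ = b)
    [Nonempty A] [Nonempty B] [IsDominant (a' ≫ φ)] [IsDominant (b' ≫ ψ)] :
    Scheme.Birational X Y := by
  -- A' = A ×_Y B, B' = B ×_X A
  let A' := pullback (a' ≫ φ) b
  let B' := pullback (b' ≫ ψ) a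
  have hcm : Mono c := inferInstance
  have hdm : Mono d := inferInstance
  let s : A' ⟶ B' := pullback.lift (pullback.snd _ _) (pullback.fst _ _) (by
    have e : (pullback.fst (a' ≫ φ) b) ≫ φ' = pullback.snd (a' ≫ φ) b ≫ b' := by
      rw [← cancel_mono c, Category.assoc, Category.assoc, hφ', hb, pullback.condition]
    rw [← Category.assoc, ← e, Category.assoc, h1])
  let t : B' ⟶ A' := pullback.lift (pullback.snd _ _) (pullback.fst _ _) (by
    have e : (pullback.fst (b' ≫ ψ) a) ≫ ψ' = pullback.snd (b' ≫ ψ) a ≫ a' := by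
      rw [← cancel_mono d, Category.assoc, Category.assoc, hψ', ha, pullback.condition]
    rw [← Category.assoc, ← e, Category.assoc, h2])
  have hs1 : s ≫ pullback.fst (b' ≫ ψ) a = pullback.snd (a' ≫ φ) b := pullback.lift_fst _ _ _
  have hs2 : s ≫ pullback.snd (b' ≫ ψ) a = pullback.fst (a' ≫ φ) b := pullback.lift_snd _ _ _
  have ht1 : t ≫ pullback.fst (a' ≫ φ) b = pullback.snd (b' ≫ ψ) a := pullback.lift_fst _ _ _
  have ht2 : t ≫ pullback.snd (a' ≫ φ) b = pullback.fst (b' ≫ ψ) a := pullback.lift_snd _ _ _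
  have hst : s ≫ t = 𝟙 _ := by
    apply pullback.hom_ext
    · rw [Category.assoc, ht1, hs2, Category.id_comp]
    · rw [Category.assoc, ht2, hs1, Category.id_comp]
  have hts : t ≫ s = 𝟙 _ := by
    apply pullback.hom_ext
    · rw [Category.assoc, hs1, ht2, Category.id_comp]
    · rw [Category.assoc, hs2, ht1, Category.id_comp]
  let e : A' ≅ B' := ⟨s, t, hst, hts⟩
  let α : A' ⟶ X := pullback.fst (a' ≫ φ) b ≫ a
  let β : B' ⟶ Y := pullback.fst (b' ≫ ψ) a ≫ b
  have hneA : Nonempty A' := by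
    obtain ⟨y₀⟩ := (inferInstance : Nonempty B)
    obtain ⟨_, ⟨y, rfl⟩, ⟨x, hx⟩⟩ := (a' ≫ φ).denseRange.inter_open_nonempty _
      b.isOpenEmbedding.isOpen_range ⟨b y₀, y₀, rfl⟩
    obtain ⟨z, -, -⟩ := Scheme.Pullback.exists_preimage_pullback (f := a' ≫ φ) (g := b) x y hx
    exact ⟨z⟩
  have hneB : Nonempty B' := ⟨s hneA.some⟩
  refine ⟨⟨α.opensRange, ?_, β.opensRange, ?_, α.isoOpensRange.symm ≪≫ e ≪≫ β.isoOpensRange⟩⟩
  · exact α.opensRange.2.dense ⟨α hneA.some, hneA.some, rfl⟩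
  · exact β.opensRange.2.dense ⟨β hneB.some, hneB.some, rfl⟩

open Scheme in
theorem data_of_equiv {X Y : Scheme.{u}} [PreirreducibleSpace X] [Nonempty Y]
    (pf : X.PartialMap Y) [IsDominant pf.hom] (pg : Y.PartialMap X)
    (h : (pf.comp pg).equiv (PartialMap.id X)) :
    ∃ (W : X.Opens) (_ : Dense (W : Set X)) (hWU : W ≤ pf.domain)
      (φ' : W.toScheme ⟶ pg.domain.toScheme),
      φ' ≫ pg.domain.ι = X.homOfLE hWU ≫ pf.hom ∧ φ' ≫ pg.hom = W.ι := by
  obtain ⟨W, hW, hWl, hWr, hh⟩ := h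
  have hle : pf.domain.ι ''ᵁ pf.hom ⁻¹ᵁ pg.domain ≤ pf.domain := pf.domain.ι_image_le _
  have hWl' : W ≤ pf.domain.ι ''ᵁ pf.hom ⁻¹ᵁ pg.domain := hWl
  have hWr' : W ≤ (⊤ : X.Opens) := le_top
  have hh' : X.homOfLE hWl' ≫ (pf.domain.ι.isoImage _).inv ≫ pf.hom ∣_ pg.domain ≫ pg.hom =
      X.homOfLE hWr' ≫ X.topIso.hom ≫ 𝟙 X := hh
  refine ⟨W, hW, hWl'.trans hle,
    X.homOfLE hWl' ≫ (pf.domain.ι.isoImage _).inv ≫ pf.hom ∣_ pg.domain, ?_, ?_⟩
  · rw [Category.assoc, Category.assoc, morphismRestrict_ι,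
      ← Category.assoc (pf.domain.ι.isoImage _).inv, Scheme.Opens.isoImage_ι_inv_ι,
      ← Category.assoc, X.homOfLE_homOfLE]
  · rw [Category.assoc, Category.assoc, hh', Category.comp_id, Scheme.topIso_hom, X.homOfLE_ι]

open Scheme in
theorem backward (X Y : Scheme.{u}) [IsIntegral X] [IsIntegral Y]
    (f : X ⤏ Y) (g : Y ⤏ X) [f.IsDominant] [g.IsDominant]
    (h1 : f.comp g = RationalMap.id X) (h2 : g.comp f = RationalMap.id Y) :
    Scheme.Birational X Y := by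
  let pf := f.representative
  let pg := g.representative
  have e1 : (pf.comp pg).equiv (PartialMap.id X) := by
    rw [← PartialMap.toRationalMap_eq_iff, ← RationalMap.toRationalMap_comp]
    simp only [pf, pg, RationalMap.toRationalMap_representative]
    exact h1
  have e2 : (pg.comp pf).equiv (PartialMap.id Y) := by
    rw [← PartialMap.toRationalMap_eq_iff, ← RationalMap.toRationalMap_comp]
    simp only [pf, pg, RationalMap.toRationalMap_representative]
    exact h2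
  obtain ⟨W₁, hW₁, hW₁U, φ', hφ', hφ'1⟩ := data_of_equiv pf pg e1
  obtain ⟨W₂, hW₂, hW₂V, ψ', hψ', hψ'1⟩ := data_of_equiv pg pf e2
  have : Nonempty W₁.toScheme := by
    obtain ⟨x, hx⟩ := hW₁.nonempty
    exact ⟨⟨x, hx⟩⟩
  have : Nonempty W₂.toScheme := by
    obtain ⟨x, hx⟩ := hW₂.nonempty
    exact ⟨⟨x, hx⟩⟩
  have : IsDominant (X.homOfLE hW₁U ≫ pf.hom) := PartialMap.isDominant_restrict_hom pf W₁ hW₁ hW₁U
  have : IsDominant (Y.homOfLE hW₂V ≫ pg.hom) := PartialMap.isDominant_restrict_hom pg W₂ hW₂ hW₂V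
  exact birational_of_data W₁.ι W₂.ι pg.domain.ι pf.domain.ι pf.hom pg.hom
    (X.homOfLE hW₁U) (Y.homOfLE hW₂V) φ' ψ' (X.homOfLE_ι _) (Y.homOfLE_ι _) hφ' hψ' hφ'1 hψ'1

open Scheme in
instance isDominant_partialIso {X Y : Scheme.{u}} (e : X.PartialIso Y) :
    IsDominant e.toPartialMap.hom := by
  change IsDominant (e.iso.hom ≫ e.target.ι)
  have : IsDominant e.target.ι := Opens.isDominant_ι e.dense_target
  infer_instance

theorem forward_aux {X Y : Scheme.{u}} (S : X.Opens) (T : Y.Opens)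
    (i : S.toScheme ≅ T.toScheme) :
    (S.ι.isoImage ((i.hom ≫ T.ι) ⁻¹ᵁ T)).inv ≫ (i.hom ≫ T.ι) ∣_ T ≫ i.inv ≫ S.ι =
      (S.ι ''ᵁ (i.hom ≫ T.ι) ⁻¹ᵁ T).ι := by
  rw [← cancel_epi (S.ι.isoImage ((i.hom ≫ T.ι) ⁻¹ᵁ T)).hom, Iso.hom_inv_id_assoc]
  have h1 : (i.hom ≫ T.ι) ∣_ T = ((i.hom ≫ T.ι) ⁻¹ᵁ T).ι ≫ i.hom := by
    rw [← cancel_mono T.ι, morphismRestrict_ι, Category.assoc]
  rw [h1, Category.assoc, Iso.hom_inv_id_assoc]
  exact (Scheme.Hom.isoImage_hom_ι _ _).symm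

open Scheme in
theorem forward_equiv {X Y : Scheme.{u}} [PreirreducibleSpace X] [Nonempty Y]
    (e : X.PartialIso Y) :
    (e.toPartialMap.comp e.symm.toPartialMap).equiv (PartialMap.id X) := by
  refine ⟨e.source.ι ''ᵁ (e.iso.hom ≫ e.target.ι) ⁻¹ᵁ e.target,
    (e.toPartialMap.comp e.symm.toPartialMap).dense_domain, le_rfl, le_top, ?_⟩
  have hle : e.source.ι ''ᵁ (e.iso.hom ≫ e.target.ι) ⁻¹ᵁ e.target ≤ (⊤ : X.Opens) := le_top
  have hle' : e.source.ι ''ᵁ (e.iso.hom ≫ e.target.ι) ⁻¹ᵁ e.target ≤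
    e.source.ι ''ᵁ (e.iso.hom ≫ e.target.ι) ⁻¹ᵁ e.target := le_rfl
  change X.homOfLE hle' ≫ (e.source.ι.isoImage _).inv ≫ (e.iso.hom ≫ e.target.ι) ∣_ e.target ≫
    e.iso.inv ≫ e.source.ι = X.homOfLE hle ≫ X.topIso.hom ≫ 𝟙 X
  rw [Category.comp_id, Scheme.topIso_hom, X.homOfLE_ι]
  have h0 : X.homOfLE hle' = 𝟙 _ := by
    rw [← cancel_mono (Scheme.Opens.ι _)]; simp
  rw [h0, Category.id_comp]
  exact forward_aux e.source e.target e.iso

open Scheme in
theorem main (X Y : Scheme.{u}) [IsIntegral X] [IsIntegral Y] :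
    Scheme.Birational X Y ↔
      ∃ (f : X ⤏ Y) (g : Y ⤏ X) (_ : f.IsDominant) (_ : g.IsDominant),
        f.comp g = Scheme.RationalMap.id X ∧ g.comp f = Scheme.RationalMap.id Y := by
  constructor
  · rintro ⟨e⟩
    refine ⟨e.toRationalMap, e.symm.toRationalMap, inferInstance, inferInstance, ?_, ?_⟩
    · rw [RationalMap.toRationalMap_comp, PartialMap.toRationalMap_eq_iff]
      exact forward_equiv e
    · rw [RationalMap.toRationalMap_comp, PartialMap.toRationalMap_eq_iff]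
      exact forward_equiv e.symm
  · rintro ⟨f, g, hf, hg, h1, h2⟩
    exact backward X Y f g h1 h2

end Helpers


/-- Let X and Y be integral schemes. Then X and Y have isomorphic dense open subschemes if and only if
they are birational in the sense of rational maps, i.e. there exist dominant rational maps f : X ⤏ Y
and g : Y ⤏ X such that the composites g ∘ f and f ∘ g are the identity rational maps of X and of Y. -/
theorem result (X Y : Scheme.{u})
    [IsIntegral X] [IsIntegral Y] :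
    Scheme.Birational X Y ↔
      ∃ (f : X ⤏ Y) (g : Y ⤏ X) (_ : f.IsDominant) (_ : g.IsDominant),
        f.comp g = Scheme.RationalMap.id X ∧ g.comp f = Scheme.RationalMap.id Y := by
  exact main X Y

end Groth.Agent.S14360
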