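import Groth.Statements.S14362
import Groth.Agent.S14361
import Mathlib.Tactic
import Mathlib.AlgebraicGeometry.Properties

set_option autoImplicit false
universe u
open AlgebraicGeometry
open SchImage

namespace Groth.Agent.S14362

open CategoryTheory AlgebraicGeometry.Scheme AlgebraicGeometry.Scheme.IdealSheafData in
/-- Let π : X → Y be a morphism of schemes with X reduced. Then the closed subset underlying the
scheme-theoretic image of π, i.e. the support of its kernel ideal sheaf, is the closure of the image
of π. (The published statement allows, as an alternative to X being reduced, that π be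
quasi-compact; this row is the reduced case and assumes no quasi-compactness.) -/
theorem result (X Y : Scheme.{u}) [IsReduced X]
    (π : X ⟶ Y) :
    (π.ker.support : Set Y) = closure (Set.range π) := by
  apply subset_antisymm
  · intro y hy
    by_contra hcl
    -- an affine open neighbourhood of y
    obtain ⟨_, ⟨U, hU, rfl⟩, hyU, -⟩ :=
      (Y.isBasis_affineOpens).exists_subset_of_mem_open (Set.mem_univ y) isOpen_univ
    let V : Y.Opens := ⟨(closure (Set.range π))ᶜ, isClosed_closure.isOpen_compl⟩
    have hyV : y ∈ V := hcl
    obtain ⟨b, hb₁, hb₂⟩ := hU.exists_basicOpen_le (V := V) ⟨y, hyV⟩ hyU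
    -- `b` pulls back to zero
    have hpre : π ⁻¹ᵁ Y.basicOpen b = ⊥ := by
      rw [eq_bot_iff]
      intro x hx
      have h1 : π x ∈ V := hb₁ hx
      exact (h1 (subset_closure ⟨x, rfl⟩)).elim
    have hzero : (π.app U).hom b = 0 := by
      rw [← basicOpen_eq_bot_iff, ← Scheme.preimage_basicOpen, hpre]
    have hmem : b ∈ π.ker.ideal ⟨U, hU⟩ := by
      rw [Groth.Agent.S14361.result X Y π ⟨U, hU⟩]
      exact hzero
    have hz : y ∈ Y.zeroLocus (U := U) (π.ker.ideal ⟨U, hU⟩) :=
      (mem_support_iff_of_mem (I := π.ker) (U := ⟨U, hU⟩) hyU).mp hy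
    exact (Y.mem_zeroLocus_iff _ y).mp hz b hmem hb₂
  · exact closure_minimal π.range_subset_ker_support π.ker.support.isClosed

end Groth.Agent.S14362
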