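import Groth.Statements.S14363
-- import your own Groth.Agent.* helpers here

set_option autoImplicit false
universe u
open CAlg

namespace Groth.Agent.S14363

/-- Let A be a Noetherian ring and 0 → M' → M → M'' → 0 a short exact sequence of A-modules. If a prime
p of A is an associated prime of M'' and is not in the support of M', then p is an associated prime
of M. -/
theorem result (A : Type u) [CommRing A] [IsNoetherianRing A]
    (M' M M'' : Type u) [AddCommGroup M'] [Module A M'] [AddCommGroup M] [Module A M]
    [AddCommGroup M''] [Module A M'']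
    (f : M' →ₗ[A] M) (g : M →ₗ[A] M'') (hf : Function.Injective f) (hg : Function.Surjective g)
    (hfg : Function.Exact f g)
    (p : PrimeSpectrum A) (hp : p.asIdeal ∈ associatedPrimes A M'') (hsupp : p ∉ Module.support A M') :
    p.asIdeal ∈ associatedPrimes A M := by
  classical
  rw [AssociatedPrimes.mem_iff, isAssociatedPrime_iff] at hp ⊢
  obtain ⟨hprime, x'', hx''⟩ := hp
  refine ⟨hprime, ?_⟩
  obtain ⟨x, rfl⟩ := hg x''
  rw [Module.notMem_support_iff'] at hsupp
  obtain ⟨s, hs⟩ : (p.asIdeal).FG := IsNoetherian.noetherian _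
  have hmem : ∀ a : A, a ∈ p.asIdeal ↔ a • g x = 0 := by
    intro a
    rw [hx'', Submodule.mem_colon_singleton, Submodule.mem_bot]
  -- for each generator choose a preimage and a killing element
  have h1 : ∀ a : s, ∃ y : M', f y = (a : A) • x := by
    intro a
    have ha : (a : A) ∈ p.asIdeal := by rw [← hs]; exact Ideal.subset_span a.2
    have : g ((a : A) • x) = 0 := by rw [map_smul]; exact (hmem _).mp ha
    exact (hfg _).mp this
  choose y hy using h1
  have h2 : ∀ a : s, ∃ r : A, r ∉ p.asIdeal ∧ r • y a = 0 := fun a => hsupp (y a)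
  choose r hr hry using h2
  set ρ : A := ∏ a : s, r a with hρ
  have hρp : ρ ∉ p.asIdeal := by
    rw [hρ]
    intro hmem'
    obtain ⟨a, -, ha⟩ := (Ideal.IsPrime.prod_mem_iff (hp := hprime)).mp hmem'
    exact hr a ha
  refine ⟨ρ • x, ?_⟩
  apply le_antisymm
  · -- p ≤ colon
    rw [← hs, Ideal.span_le]
    intro a ha
    rw [SetLike.mem_coe, Submodule.mem_colon_singleton, Submodule.mem_bot]
    have hfy := hy ⟨a, ha⟩
    simp only at hfy
    rw [smul_comm, ← hfy, ← map_smul]
    have : ρ • y ⟨a, ha⟩ = 0 := by
      rw [hρ, ← Finset.mul_prod_erase Finset.univ r (Finset.mem_univ ⟨a, ha⟩), mul_comm, mul_smul,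
        hry, smul_zero]
    rw [this, map_zero]
  · intro b hb
    rw [Submodule.mem_colon_singleton, Submodule.mem_bot] at hb
    have : (b * ρ) • g x = 0 := by
      rw [mul_smul, ← map_smul, ← map_smul, hb, map_zero]
    have h3 : b * ρ ∈ p.asIdeal := (hmem _).mpr this
    exact (hprime.mem_or_mem h3).resolve_right hρp

end Groth.Agent.S14363
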