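import Groth.Statements.S14371
import Mathlib
import Groth.Agent.Lib.helper5.RegLoc3

set_option autoImplicit false
universe u
open CAlg

namespace Groth.Agent.S14371

open IsLocalRing Groth.Agent.H5.RegLoc in
/-- If `R` is regular local of dimension `n` and `R ⧸ J` is regular local of dimension `b`, then `J`
is generated by `c` elements with `c + b ≤ n`. -/
theorem spanFinrank_add_dim_le {R : Type u} [CommRing R] [IsRegularLocalRing R] (J : Ideal R)
    [IsRegularLocalRing (R ⧸ J)] (n b : ℕ) (hn : ringKrullDim R = n) (hb : ringKrullDim (R ⧸ J) = b) :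
    J.spanFinrank + b ≤ n := by
  classical
  obtain ⟨x, c, hc, hx1, hx2⟩ := exists_generators n R hn J
  have h1 : J.spanFinrank ≤ c := by
    rw [hx2]
    refine (Submodule.spanFinrank_span_le_ncard_of_finite (Set.finite_range _)).trans ?_
    rw [← Set.image_univ]
    refine (Set.ncard_image_le (Set.finite_univ)).trans ?_
    simp [Set.ncard_univ]
  -- generators of the maximal ideal of the quotient
  let s : Finset (R ⧸ J) := (Finset.univ.filter (fun i : Fin n => c ≤ i.1)).image
    (fun i => Ideal.Quotient.mk J (x i))
  have hs : maximalIdeal (R ⧸ J) ≤ Ideal.span (s : Set (R ⧸ J)) := by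
    rw [← map_maximalIdeal (Ideal.Quotient.mk J) Ideal.Quotient.mk_surjective, ← hx1, Ideal.map_span,
      Ideal.span_le]
    rintro _ ⟨_, ⟨i, rfl⟩, rfl⟩
    by_cases hi : c ≤ i.1
    · apply Ideal.subset_span
      simp only [s, Finset.coe_image, Finset.coe_filter, Finset.mem_univ, true_and, Set.mem_image,
        Set.mem_ofPred_eq]
      exact ⟨i, hi, rfl⟩
    · have : x i ∈ J := by
        rw [hx2]
        apply Ideal.subset_span
        exact ⟨⟨i.1, by omega⟩, by simp [Fin.castLE]⟩
      rw [Ideal.Quotient.eq_zero_iff_mem.mpr this]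
      exact Ideal.zero_mem _
  have hs' : maximalIdeal (R ⧸ J) = Ideal.span (s : Set (R ⧸ J)) := by
    apply le_antisymm hs
    rw [Ideal.span_le]
    intro y hy
    simp only [s, Finset.coe_image, Finset.coe_filter, Finset.mem_univ, true_and, Set.mem_image,
      Set.mem_ofPred_eq] at hy
    obtain ⟨i, -, rfl⟩ := hy
    rw [← map_maximalIdeal (Ideal.Quotient.mk J) Ideal.Quotient.mk_surjective]
    apply Ideal.mem_map_of_mem
    rw [← hx1]
    exact Ideal.subset_span ⟨i, rfl⟩
  have h2 : (maximalIdeal (R ⧸ J)).spanFinrank ≤ n - c := by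
    rw [hs']
    refine (Submodule.spanFinrank_span_le_ncard_of_finite s.finite_toSet).trans ?_
    rw [Set.ncard_coe_finset]
    refine Finset.card_image_le.trans ?_
    have : (Finset.univ.filter (fun i : Fin n => c ≤ i.1)).card = n - c := by
      rw [← Finset.card_map Fin.valEmbedding]
      have : (Finset.univ.filter (fun i : Fin n => c ≤ i.1)).map Fin.valEmbedding = Finset.Ico c n := by
        ext j
        simp only [Finset.mem_map, Finset.mem_filter, Finset.mem_univ, true_and,
          Fin.valEmbedding_apply, Finset.mem_Ico]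
        constructor
        · rintro ⟨i, hi, rfl⟩; exact ⟨hi, i.2⟩
        · rintro ⟨h1, h2⟩; exact ⟨⟨j, h2⟩, h1, rfl⟩
      rw [this, Nat.card_Ico]
    rw [this]
  have h3 := spanFinrank_eq_of_dim hb
  omega

open IsLocalRing Groth.Agent.H5.RegLoc in

/-- Let R be a regular local ring of dimension n with maximal ideal m and residue field κ, and I, J
ideals of R such that R/I and R/J are regular local rings of dimensions a and b (two subvarieties
smooth at the point). Suppose the quotient R/(I + J) is local with cotangent space m/(m² + I + J) of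
dimension a + b − n over κ (the tangent spaces of the two subvarieties meet in the expected
dimension, i.e. they intersect transversally at the point). Then R/(I + J) is a regular local ring
of dimension a + b − n; in particular I + J is a prime ideal. (The published statement is about the
local rings of a smooth variety over an algebraically closed field at a point where two smooth
closed subvarieties meet transversally, and also states the resulting equalities of tangent spaces
and of ideals; this row is the local-ring form, for an arbitrary regular local ring.) -/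
theorem result {R : Type u} [CommRing R] [IsRegularLocalRing R]
    (I J : Ideal R) [IsRegularLocalRing (R ⧸ I)] [IsRegularLocalRing (R ⧸ J)] [IsLocalRing (R ⧸ (I ⊔ J))]
    (n a b : ℕ) (hn : ringKrullDim R = n) (ha : ringKrullDim (R ⧸ I) = a) (hb : ringKrullDim (R ⧸ J) = b)
    (ht : Module.finrank (IsLocalRing.ResidueField (R ⧸ (I ⊔ J))) (IsLocalRing.CotangentSpace (R ⧸ (I ⊔ J))) + n = a + b) :
    IsRegularLocalRing (R ⧸ (I ⊔ J)) ∧ ringKrullDim (R ⧸ (I ⊔ J)) = ((a + b - n : ℕ) : WithBot ℕ∞) := by
  have h1 := spanFinrank_add_dim_le J n b hn hb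
  set T := R ⧸ I with hT
  set J' : Ideal T := J.map (Ideal.Quotient.mk I) with hJ'
  have h2 : J'.spanFinrank ≤ J.spanFinrank :=
    Ideal.spanFinrank_map_le_of_fg _ ((isNoetherianRing_iff_ideal_fg R).mp inferInstance J)
  let e : T ⧸ J' ≃+* R ⧸ (I ⊔ J) := DoubleQuot.quotQuotEquivQuotSup I J
  have hJ'top : J' ≠ ⊤ := by
    intro h
    have : Subsingleton (T ⧸ J') := Ideal.Quotient.subsingleton_iff.mpr h
    have : Subsingleton (R ⧸ (I ⊔ J)) := e.symm.injective.subsingleton
    exact not_subsingleton (R ⧸ (I ⊔ J)) this
  have hJ'jac : J' ≤ Ring.jacobson T := by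
    rw [← Ideal.jacobson_bot, IsLocalRing.jacobson_eq_maximalIdeal ⊥ bot_ne_top]
    exact IsLocalRing.le_maximalIdeal hJ'top
  have h3 := ringKrullDim_le_ringKrullDim_quotient_add_spanFinrank J' hJ'jac
  rw [ringKrullDim_eq_of_ringEquiv e, ha] at h3
  obtain ⟨dS, hdS⟩ := exists_nat_dim (R ⧸ (I ⊔ J))
  have h4 := ringKrullDim_le_spanFinrank_maximalIdeal (R ⧸ (I ⊔ J))
  rw [hdS] at h3 h4
  have h3' : a ≤ dS + J'.spanFinrank := by exact_mod_cast h3
  have h4' : dS ≤ (maximalIdeal (R ⧸ (I ⊔ J))).spanFinrank := by exact_mod_cast h4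
  have h5 : (maximalIdeal (R ⧸ (I ⊔ J))).spanFinrank =
      Module.finrank (ResidueField (R ⧸ (I ⊔ J))) (CotangentSpace (R ⧸ (I ⊔ J))) :=
    IsLocalRing.spanFinrank_maximalIdeal_eq_finrank_cotangentSpace _
  constructor
  · apply IsRegularLocalRing.of_spanFinrank_maximalIdeal_le
    rw [hdS]
    have : (maximalIdeal (R ⧸ (I ⊔ J))).spanFinrank ≤ dS := by omega
    exact_mod_cast this
  · rw [hdS]
    have : dS = a + b - n := by omega
    rw [this]

end Groth.Agent.S14371
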