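import Groth.Statements.S14372
import Groth.Agent.Lib.helper13.CommonZero
import Groth.Agent.Lib.helper13.LineDeriv

set_option autoImplicit false
universe u
open Fano

namespace Groth.Agent.S14372

/-- Over an algebraically closed field k of arbitrary characteristic, let f be a homogeneous form of
degree d ≥ 2 in n + 1 variables and U a linear subspace of k^(n+1) on which f vanishes, such that at
every nonzero vector of U some partial derivative of f does not vanish (the hypersurface f = 0 in
P^n contains the r-plane P(U), r + 1 = dim U, and is smooth at every point of it). Then 2 · dim U ≤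
n + 1, i.e. r ≤ (n − 1)/2. (The published statement assumes the hypersurface smooth everywhere; this
row assumes smoothness only along P(U).) -/
theorem result (k : Type u) [Field k] [IsAlgClosed k]
    (n d : ℕ) (hd : 2 ≤ d) (f : MvPolynomial (Fin (n + 1)) k) (hf : f.IsHomogeneous d)
    (U : Submodule k (Fin (n + 1) → k)) (hU : ∀ u ∈ U, MvPolynomial.eval u f = 0)
    (hsm : ∀ u ∈ U, u ≠ 0 → ∃ i : Fin (n + 1), MvPolynomial.eval u (MvPolynomial.pderiv i f) ≠ 0) :
    2 * Module.finrank k ↥U ≤ n + 1 := by
  classical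
  by_contra hlt
  push Not at hlt
  obtain ⟨s, hs⟩ : ∃ s, s = Module.finrank k U := ⟨_, rfl⟩
  obtain ⟨W, hW⟩ := Submodule.exists_isCompl U
  have hdim : Module.finrank k U + Module.finrank k W = n + 1 := by
    rw [Submodule.finrank_add_eq_of_isCompl hW]
    simp
  obtain ⟨m, hm⟩ : ∃ m, m = Module.finrank k W := ⟨_, rfl⟩
  have hms : m < s := by omega
  let b : Module.Basis (Fin s) k U := (Module.finBasis k U).reindex (finCongr hs.symm)
  let w : Module.Basis (Fin m) k W := (Module.finBasis k W).reindex (finCongr hm.symm)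
  let Φ : MvPolynomial (Fin (n + 1)) k →ₐ[k] MvPolynomial (Fin s) k :=
    MvPolynomial.aeval (fun i => ∑ j, MvPolynomial.C ((b j : Fin (n + 1) → k) i) * MvPolynomial.X j)
  have hΦ : ∀ (t : Fin s → k) (p : MvPolynomial (Fin (n + 1)) k),
      MvPolynomial.eval t (Φ p)
        = MvPolynomial.eval (fun i => ∑ j, (b j : Fin (n + 1) → k) i * t j) p := by
    intro t p
    induction p using MvPolynomial.induction_on with
    | C a => simp [Φ]
    | add p q hp hq => simp only [map_add, hp, hq]
    | mul_X p j hp =>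
      rw [map_mul, map_mul, hp, map_mul]
      simp [Φ]
  let g : Fin m → MvPolynomial (Fin s) k := fun l =>
    ∑ i, MvPolynomial.C ((w l : Fin (n + 1) → k) i) * Φ (MvPolynomial.pderiv i f)
  have hgev : ∀ (l : Fin m) (t : Fin s → k), MvPolynomial.eval t (g l)
      = ∑ i, (w l : Fin (n + 1) → k) i *
          MvPolynomial.eval (fun i => ∑ j, (b j : Fin (n + 1) → k) i * t j)
            (MvPolynomial.pderiv i f) := by
    intro l t
    simp only [g, map_sum, map_mul, MvPolynomial.eval_C, hΦ]
  have hg0 : ∀ l, MvPolynomial.eval 0 (g l) = 0 := by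
    intro l
    rw [hgev]
    apply Finset.sum_eq_zero
    intro i _
    have hz : (fun i' : Fin (n + 1) => ∑ j, (b j : Fin (n + 1) → k) i' * (0 : Fin s → k) j) = 0 := by
      funext i'
      simp
    rw [hz]
    have hh : (MvPolynomial.pderiv i f).IsHomogeneous (d - 1) := hf.pderiv
    have h0 : MvPolynomial.eval 0 (MvPolynomial.pderiv i f) = 0 := by
      rw [MvPolynomial.eval_zero, MvPolynomial.constantCoeff_eq]
      exact hh.coeff_eq_zero (by simp; omega)
    rw [h0, mul_zero]
  obtain ⟨t, ht0, ht⟩ := Groth.Agent.Lib.helper13.CommonZero.exists_common_zero s m hms g hg0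
  obtain ⟨u, hu⟩ : ∃ u : Fin (n + 1) → k, u = fun i => ∑ j, (b j : Fin (n + 1) → k) i * t j :=
    ⟨_, rfl⟩
  have hu_eq : u = ((∑ j, t j • b j : U) : Fin (n + 1) → k) := by
    rw [hu]
    funext i
    simp only [Submodule.coe_sum, Submodule.coe_smul, Finset.sum_apply, Pi.smul_apply, smul_eq_mul]
    exact Finset.sum_congr rfl fun j _ => mul_comm _ _
  have huU : u ∈ U := by
    rw [hu_eq]
    exact Submodule.coe_mem _
  have hu0 : u ≠ 0 := by
    intro h0
    apply ht0
    have h1 : (∑ j, t j • b j : U) = 0 := by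
      apply Subtype.ext
      rw [← hu_eq, h0]
      rfl
    have h2 := (Fintype.linearIndependent_iff.mp b.linearIndependent) t h1
    funext j
    exact h2 j
  obtain ⟨i0, hi0⟩ := hsm u huU hu0
  obtain ⟨c, hc⟩ : ∃ c : Fin (n + 1) → k,
      c = fun i => MvPolynomial.eval u (MvPolynomial.pderiv i f) := ⟨_, rfl⟩
  let ψ : (Fin (n + 1) → k) →ₗ[k] k := ∑ i, (c i) • LinearMap.proj i
  have hψ : ∀ v, ψ v = ∑ i, v i * c i := by
    intro v
    simp [ψ, LinearMap.sum_apply, mul_comm]
  have hcU : ∀ v ∈ U, ψ v = 0 := by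
    intro v hv
    haveI : Infinite k := inferInstance
    rw [hψ, hc]
    apply Groth.Agent.Lib.helper13.LineDeriv.dir_deriv_eq_zero u v f
    intro a
    apply hU
    have h1 : (fun i => u i + v i * a) = u + a • v := by
      funext i
      simp [mul_comm]
    rw [h1]
    exact U.add_mem huU (U.smul_mem _ hv)
  have hcW : ∀ v ∈ W, ψ v = 0 := by
    have hwl : ∀ l, ψ (w l : Fin (n + 1) → k) = 0 := by
      intro l
      have h1 := ht l
      rw [hgev, ← hu] at h1
      rw [hψ, hc]
      exact h1
    intro v hv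
    have h1 := congrArg Subtype.val (w.sum_repr ⟨v, hv⟩)
    simp only [Submodule.coe_sum, Submodule.coe_smul] at h1
    rw [← h1, map_sum]
    apply Finset.sum_eq_zero
    intro l _
    rw [map_smul, hwl l, smul_zero]
  have hall : ∀ v : Fin (n + 1) → k, ψ v = 0 := by
    intro v
    have h1 : v ∈ U ⊔ W := by
      rw [hW.sup_eq_top]
      trivial
    obtain ⟨v1, hv1, v2, hv2, rfl⟩ := Submodule.mem_sup.mp h1
    rw [map_add, hcU v1 hv1, hcW v2 hv2, add_zero]
  have h1 := hall (Pi.single i0 1)
  rw [hψ] at h1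
  rw [Finset.sum_eq_single i0] at h1
  · rw [Pi.single_eq_same, one_mul, hc] at h1
    exact hi0 h1
  · intro j _ hj
    rw [Pi.single_eq_of_ne hj, zero_mul]
  · intro h
    exact absurd (Finset.mem_univ _) h

end Groth.Agent.S14372
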