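import Groth.Statements.S1559
import Mathlib
import Groth.Agent.Lib.helper7.GeomIrrAC2
import Groth.Agent.Lib.helper7.CommonPt
import Groth.Agent.Lib.helper7.GeomDesc

set_option autoImplicit false
universe u
open CategoryTheory CategoryTheory.Limits AlgebraicGeometry
open Variety

namespace Groth.Agent.S1559

section Aux
open CategoryTheory CategoryTheory.Limits AlgebraicGeometry TensorProduct

/-- `Spec E ⟶ Spec F` is universally injective for a purely inseparable extension `E / F`. -/
theorem univInj_of_purelyInsep (F E : Type u) [Field F] [Field E] [Algebra F E]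
    [IsPurelyInseparable F E] :
    UniversallyInjective (Spec.map (CommRingCat.ofHom (algebraMap F E))) := by
  refine ((tfae_universallyInjective (Spec.map (CommRingCat.ofHom (algebraMap F E)))).out 0 1).2 ?_
  intro K _ g₁ g₂ hg
  dsimp only at hg
  rw [← Spec.map_preimage g₁, ← Spec.map_preimage g₂, ← Spec.map_comp, ← Spec.map_comp] at hg
  have h2 := Spec.map_injective hg
  have h3 : (Spec.preimage g₁).hom.comp (algebraMap F E) = (Spec.preimage g₂).hom.comp (algebraMap F E) := by
    have := congrArg CommRingCat.Hom.hom h2
    simpa using this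
  have h4 := IsPurelyInseparable.injective_comp_algebraMap F E K h3
  rw [← Spec.map_preimage g₁, ← Spec.map_preimage g₂]
  congr 1
  exact CommRingCat.hom_ext h4

/-- The base change along a purely inseparable algebraic field extension is a homeomorphism. -/
theorem homeo_of_purelyInsep (F E : Type u) [Field F] [Field E] [Algebra F E]
    [IsPurelyInseparable F E] {Z : Scheme.{u}} (g : Z ⟶ Spec (CommRingCat.of F)) :
    IsHomeomorph (pullback.fst g (Spec.map (CommRingCat.ofHom (algebraMap F E)))) := by
  set c := Spec.map (CommRingCat.ofHom (algebraMap F E)) with hc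
  haveI : UniversallyInjective c := univInj_of_purelyInsep F E
  haveI : Algebra.IsIntegral F E := inferInstance
  haveI : IsIntegralHom c := by
    rw [hc, IsIntegralHom.SpecMap_iff]
    exact algebraMap_isIntegral_iff.2 inferInstance
  haveI : Surjective c := by
    constructor
    intro y
    exact ⟨default, Subsingleton.elim _ _⟩
  set π := pullback.fst g c
  haveI : UniversallyInjective π :=
    MorphismProperty.pullback_fst (P := @UniversallyInjective) g c inferInstance
  rw [isHomeomorph_iff_continuous_isClosedMap_bijective]
  exact ⟨π.continuous, π.isClosedMap, π.injective, π.surjective⟩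

theorem homeo_sepClosed (F : Type u) [Field F] [IsSepClosed F] (E : Type u) [Field E] [Algebra F E]
    [Algebra.IsAlgebraic F E] {Z : Scheme.{u}} (g : Z ⟶ Spec (CommRingCat.of F)) :
    IsHomeomorph (pullback.fst g (Spec.map (CommRingCat.ofHom (algebraMap F E)))) :=
  homeo_of_purelyInsep F E g

/-- The comparison homeomorphism `X_Ω → X_{k^s}` for `k ⊆ k^s ⊆ Ω` with `k^s` separably closed and `Ω/k^s`
algebraic. -/
theorem exists_homeo {k : Type u} [Field k] (ks Ω : Type u) [Field ks] [Field Ω] [Algebra k ks]
    [Algebra ks Ω] [Algebra k Ω] [IsScalarTower k ks Ω] [IsSepClosed ks] [Algebra.IsAlgebraic ks Ω]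
    {X : Scheme.{u}} (f : X ⟶ Spec (CommRingCat.of k)) :
    ∃ h : ↥(pullback f (Spec.map (CommRingCat.ofHom (algebraMap k Ω)))) →
        ↥(pullback f (Spec.map (CommRingCat.ofHom (algebraMap k ks)))), IsHomeomorph h := by
  set a := Spec.map (CommRingCat.ofHom (algebraMap k ks)) with ha
  set c := Spec.map (CommRingCat.ofHom (algebraMap ks Ω)) with hc
  have hca : c ≫ a = Spec.map (CommRingCat.ofHom (algebraMap k Ω)) := by
    rw [hc, ha, ← Spec.map_comp, ← CommRingCat.ofHom_comp, IsScalarTower.algebraMap_eq k ks Ω]
  have h1 := homeo_sepClosed ks Ω (pullback.snd f a)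
  -- (X ×_k ks) ×_ks Ω ≅ X ×_k Ω
  let E : pullback (pullback.snd f a) c ≅ pullback f (Spec.map (CommRingCat.ofHom (algebraMap k Ω))) :=
    pullbackLeftPullbackSndIso f a c ≪≫ pullback.congrHom rfl hca
  refine ⟨fun x => pullback.fst (pullback.snd f a) c (E.inv x), ?_⟩
  exact h1.comp (Scheme.homeoOfIso E.symm).isHomeomorph

theorem main (k : Type u) [Field k] (X : Scheme.{u}) [X.Over (Spec (CommRingCat.of k))]
    [ConnectedSpace (Curv2.bc k X (SeparableClosure k))] :
    GeometricallyConnected (X ↘ (Spec (CommRingCat.of k))) := by
  set f := X ↘ (Spec (CommRingCat.of k)) with hf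
  obtain ⟨h, hh⟩ := exists_homeo (k := k) (SeparableClosure k)
    (AlgebraicClosure (SeparableClosure k)) f
  haveI hΩ : ConnectedSpace ↥(pullback f (Spec.map (CommRingCat.ofHom
      (algebraMap k (AlgebraicClosure (SeparableClosure k)))))) := by
    haveI : ConnectedSpace ↥(pullback f (Spec.map (CommRingCat.ofHom
      (algebraMap k (SeparableClosure k))))) := ‹_›
    exact (hh.homeomorph h).symm.surjective.connectedSpace (hh.homeomorph h).symm.continuous
  refine ⟨geometrically_iff_of_commRing_of_isClosedUnderIsomorphisms.2 fun K _ _ => ?_⟩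
  obtain ⟨P, q, φ, -, hqc, hqo, hφ⟩ :=
    Groth.Agent.Lib.helper7.GeomIrrAC2.exists_common_cover (k := k) (K := K)
      (Ω := AlgebraicClosure (SeparableClosure k)) f
  haveI : ConnectedSpace P := GeometricallyConnected.connectedSpace q q.isOpenMap
  show ConnectedSpace ↥(pullback f (Spec.map (CommRingCat.ofHom (algebraMap k K))))
  have hs : Function.Surjective φ := φ.surjective
  exact hs.connectedSpace φ.continuous

theorem mainIrr (k : Type u) [Field k] (X : Scheme.{u}) [X.Over (Spec (CommRingCat.of k))]
    [IrreducibleSpace (Curv2.bc k X (SeparableClosure k))] :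
    GeometricallyIrreducible (X ↘ (Spec (CommRingCat.of k))) := by
  set f := X ↘ (Spec (CommRingCat.of k)) with hf
  obtain ⟨h, hh⟩ := exists_homeo (k := k) (SeparableClosure k)
    (AlgebraicClosure (SeparableClosure k)) f
  haveI hΩ : IrreducibleSpace ↥(pullback f (Spec.map (CommRingCat.ofHom
      (algebraMap k (AlgebraicClosure (SeparableClosure k)))))) := by
    haveI : IrreducibleSpace ↥(pullback f (Spec.map (CommRingCat.ofHom
      (algebraMap k (SeparableClosure k))))) := ‹_›
    have e := (hh.homeomorph h).symm
    have h1 : IsIrreducible (e '' Set.univ) :=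
      (IrreducibleSpace.isIrreducible_univ _).image e e.continuous.continuousOn
    rw [Set.image_univ_of_surjective e.surjective] at h1
    exact (irreducibleSpace_def _).mpr h1
  refine ⟨geometrically_iff_of_commRing_of_isClosedUnderIsomorphisms.2 fun K _ _ => ?_⟩
  obtain ⟨P, q, φ, hqi, hqc, hqo, hφ⟩ :=
    Groth.Agent.Lib.helper7.GeomIrrAC2.exists_common_cover (k := k) (K := K)
      (Ω := AlgebraicClosure (SeparableClosure k)) f
  haveI : IrreducibleSpace P := GeometricallyIrreducible.irreducibleSpace q q.isOpenMap
  show IrreducibleSpace ↥(pullback f (Spec.map (CommRingCat.ofHom (algebraMap k K))))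
  exact Groth.Agent.Lib.helper7.GeomDesc.irreducibleSpace_of_surjective φ

end Aux

/-- A scheme X over a field k is geometrically connected as soon as its base change to a separable
algebraic closure of k is connected. -/
theorem result (k : Type u) [Field k] (X : Scheme.{u}) [X.Over (Spec (CommRingCat.of k))]
    [ConnectedSpace (Curv2.bc k X (SeparableClosure k))] :
    GeometricallyConnected (X ↘ (Spec (CommRingCat.of k))) := by
  exact main k X

end Groth.Agent.S1559
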