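import Groth.Statements.S7590
import Mathlib
import Groth.Agent.S1559
import Groth.Agent.Lib.helper7.RedSub

set_option autoImplicit false
universe u
open CategoryTheory CategoryTheory.Limits AlgebraicGeometry
open Variety

namespace Groth.Agent.S7590

section Aux
open CategoryTheory CategoryTheory.Limits AlgebraicGeometry TensorProduct

theorem irreducibleSpace_of_surj {α β : Type*} [TopologicalSpace α] [TopologicalSpace β]
    [IrreducibleSpace α] (e : α → β) (hc : Continuous e) (hs : Function.Surjective e) :
    IrreducibleSpace β := by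
  have h1 : IsIrreducible (e '' Set.univ) :=
    (IrreducibleSpace.isIrreducible_univ _).image e hc.continuousOn
  rw [Set.image_univ_of_surjective hs] at h1
  exact (irreducibleSpace_def _).mpr h1

/-- If `X_Ω` is connected for an algebraically closed `Ω`, `X` is geometrically connected. -/
theorem geomConn_of_algClosed {k : Type u} [Field k] (Ω : Type u) [Field Ω] [Algebra k Ω]
    [IsAlgClosed Ω] {X : Scheme.{u}} (f : X ⟶ Spec (CommRingCat.of k))
    [ConnectedSpace ↥(pullback f (Spec.map (CommRingCat.ofHom (algebraMap k Ω))))] :
    GeometricallyConnected f := by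
  refine ⟨geometrically_iff_of_commRing_of_isClosedUnderIsomorphisms.2 fun K _ _ => ?_⟩
  obtain ⟨P, q, φ, -, hqc, hqo, hφ⟩ :=
    Groth.Agent.Lib.helper7.GeomIrrAC2.exists_common_cover (k := k) (K := K) (Ω := Ω) f
  haveI : ConnectedSpace P := GeometricallyConnected.connectedSpace q q.isOpenMap
  show ConnectedSpace ↥(pullback f (Spec.map (CommRingCat.ofHom (algebraMap k K))))
  have hs : Function.Surjective φ := φ.surjective
  exact hs.connectedSpace φ.continuous

theorem geomIrr_of_algClosed {k : Type u} [Field k] (Ω : Type u) [Field Ω] [Algebra k Ω]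
    [IsAlgClosed Ω] {X : Scheme.{u}} (f : X ⟶ Spec (CommRingCat.of k))
    [IrreducibleSpace ↥(pullback f (Spec.map (CommRingCat.ofHom (algebraMap k Ω))))] :
    GeometricallyIrreducible f := by
  refine ⟨geometrically_iff_of_commRing_of_isClosedUnderIsomorphisms.2 fun K _ _ => ?_⟩
  obtain ⟨P, q, φ, hqi, hqc, hqo, hφ⟩ :=
    Groth.Agent.Lib.helper7.GeomIrrAC2.exists_common_cover (k := k) (K := K) (Ω := Ω) f
  haveI : IrreducibleSpace P := GeometricallyIrreducible.irreducibleSpace q q.isOpenMap
  show IrreducibleSpace ↥(pullback f (Spec.map (CommRingCat.ofHom (algebraMap k K))))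
  exact irreducibleSpace_of_surj φ φ.continuous φ.surjective

/-- Over a separably closed field, connected schemes are geometrically connected. -/
theorem geomConn_of_sepClosed {k : Type u} [Field k] [IsSepClosed k] {X : Scheme.{u}}
    (f : X ⟶ Spec (CommRingCat.of k)) [ConnectedSpace X] : GeometricallyConnected f := by
  have hh := Groth.Agent.S1559.homeo_sepClosed k (AlgebraicClosure k) f
  haveI : ConnectedSpace ↥(pullback f (Spec.map (CommRingCat.ofHom
      (algebraMap k (AlgebraicClosure k))))) :=
    (hh.homeomorph _).symm.surjective.connectedSpace (hh.homeomorph _).symm.continuous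
  exact geomConn_of_algClosed (AlgebraicClosure k) f

/-- Over a separably closed field, irreducible schemes are geometrically irreducible. -/
theorem geomIrr_of_sepClosed {k : Type u} [Field k] [IsSepClosed k] {X : Scheme.{u}}
    (f : X ⟶ Spec (CommRingCat.of k)) [IrreducibleSpace X] : GeometricallyIrreducible f := by
  have hh := Groth.Agent.S1559.homeo_sepClosed k (AlgebraicClosure k) f
  haveI : IrreducibleSpace ↥(pullback f (Spec.map (CommRingCat.ofHom
      (algebraMap k (AlgebraicClosure k))))) :=
    irreducibleSpace_of_surj (hh.homeomorph _).symm (hh.homeomorph _).symm.continuous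
      (hh.homeomorph _).symm.surjective
  exact geomIrr_of_algClosed (AlgebraicClosure k) f

section
variable {k : Type u} [Field k] {X : Scheme.{u}} (f : X ⟶ Spec (CommRingCat.of k))
  (K : Type u) [Field K] [Algebra k K]

/-- The preimage of the range of `i : Z ⟶ X` in `X_K` is the range of `Z_K ⟶ X_K`. -/
theorem exists_cover {Z : Scheme.{u}} (i : Z ⟶ X) :
    ∃ g : pullback (i ≫ f) (Spec.map (CommRingCat.ofHom (algebraMap k K))) ⟶
        pullback f (Spec.map (CommRingCat.ofHom (algebraMap k K))),
      Set.range g = (pullback.fst f (Spec.map (CommRingCat.ofHom (algebraMap k K)))) ⁻¹'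
        (Set.range i) := by
  set b := Spec.map (CommRingCat.ofHom (algebraMap k K)) with hb
  set g : pullback (i ≫ f) b ⟶ pullback f b :=
    pullback.lift (pullback.fst (i ≫ f) b ≫ i) (pullback.snd (i ≫ f) b)
      (by rw [Category.assoc, pullback.condition]) with hg
  have hpb : IsPullback g (pullback.fst (i ≫ f) b) (pullback.fst f b) i := by
    refine IsPullback.of_right (h₁₂ := pullback.snd f b) (h₂₂ := f) (v₁₃ := b) ?_ ?_
      (IsPullback.of_hasPullback f b).flip
    · have : g ≫ pullback.snd f b = pullback.snd (i ≫ f) b := pullback.lift_snd _ _ _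
      rw [this]
      exact (IsPullback.of_hasPullback (i ≫ f) b).flip
    · exact pullback.lift_fst _ _ _
  refine ⟨g, ?_⟩
  ext w
  constructor
  · rintro ⟨y, rfl⟩
    refine ⟨pullback.fst (i ≫ f) b y, ?_⟩
    rw [← Scheme.Hom.comp_apply, ← Scheme.Hom.comp_apply, hpb.w]
  · rintro ⟨z, hz⟩
    obtain ⟨y, hy1, -⟩ := AlgebraicGeometry.Scheme.exists_preimage_of_isPullback hpb w z hz.symm
    exact ⟨y, hy1⟩

variable [IsSepClosed k]

theorem isConnected_preimage (T : Set X) (hTc : IsClosed T) (hT : _root_.IsConnected T) :
    _root_.IsConnected ((pullback.fst f (Spec.map (CommRingCat.ofHom (algebraMap k K)))) ⁻¹' T) := by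
  set I := Scheme.IdealSheafData.vanishingIdeal ⟨T, hTc⟩ with hI
  set i := I.subschemeι with hi
  have hr : Set.range i = T := Groth.Agent.Lib.helper7.RedSub.range_subschemeι_vanishingIdeal ⟨T, hTc⟩
  haveI : ConnectedSpace ↥I.subscheme := by
    have h1 : _root_.IsPreconnected (i '' Set.univ) := by rw [Set.image_univ, hr]; exact hT.isPreconnected
    have h2 := (i.isEmbedding.isInducing.isPreconnected_image).1 h1
    haveI : PreconnectedSpace ↥I.subscheme := ⟨h2⟩
    obtain ⟨t, ht⟩ := hT.nonempty
    rw [← hr] at ht
    obtain ⟨z, -⟩ := ht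
    exact { toNonempty := ⟨z⟩ }
  haveI : GeometricallyConnected (i ≫ f) := geomConn_of_sepClosed (i ≫ f)
  haveI : ConnectedSpace ↥(pullback (i ≫ f) (Spec.map (CommRingCat.ofHom (algebraMap k K)))) :=
    GeometricallyConnected.geometrically_connectedSpace (f := i ≫ f) _ _ _
      (IsPullback.of_hasPullback (i ≫ f) _)
  obtain ⟨g, hg⟩ := exists_cover f K i
  rw [← hr, ← hg]
  exact isConnected_range g.continuous

theorem isIrreducible_preimage (T : Set X) (hTc : IsClosed T) (hT : IsIrreducible T) :
    IsIrreducible ((pullback.fst f (Spec.map (CommRingCat.ofHom (algebraMap k K)))) ⁻¹' T) := by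
  set I := Scheme.IdealSheafData.vanishingIdeal ⟨T, hTc⟩ with hI
  set i := I.subschemeι with hi
  have hr : Set.range i = T := Groth.Agent.Lib.helper7.RedSub.range_subschemeι_vanishingIdeal ⟨T, hTc⟩
  haveI : IrreducibleSpace ↥I.subscheme := by
    haveI : IrreducibleSpace ↥(Set.range i) := by rw [hr]; exact Subtype.irreducibleSpace hT
    let e := i.isEmbedding.toHomeomorph
    exact irreducibleSpace_of_surj e.symm e.symm.continuous e.symm.surjective
  haveI : GeometricallyIrreducible (i ≫ f) := geomIrr_of_sepClosed (i ≫ f)
  haveI : IrreducibleSpace ↥(pullback (i ≫ f) (Spec.map (CommRingCat.ofHom (algebraMap k K)))) :=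
    GeometricallyIrreducible.geometrically_irreducibleSpace (f := i ≫ f) _ _ _
      (IsPullback.of_hasPullback (i ≫ f) _)
  obtain ⟨g, hg⟩ := exists_cover f K i
  rw [← hr, ← hg, ← Set.image_univ]
  exact (IrreducibleSpace.isIrreducible_univ _).image g g.continuous.continuousOn

end

theorem main (k : Type u) [Field k] [IsSepClosed k] (X : Scheme.{u}) [X.Over (Spec (CommRingCat.of k))]
    (K : Type u) [Field K] [Algebra k K] :
    Function.Bijective (Continuous.connectedComponentsMap (Curv2.bcFst k X K).continuous) := by
  set p := Curv2.bcFst k X K with hp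
  refine ⟨?_, Continuous.connectedComponentsMap_surjective _ p.surjective⟩
  intro a b hab
  obtain ⟨x, rfl⟩ := _root_.ConnectedComponents.surjective_coe a
  obtain ⟨y, rfl⟩ := _root_.ConnectedComponents.surjective_coe b
  have h1 : (_root_.ConnectedComponents.mk (p x) : _root_.ConnectedComponents X) = _root_.ConnectedComponents.mk (p y) := hab
  rw [_root_.ConnectedComponents.coe_eq_coe'] at h1
  have hc := isConnected_preimage (X ↘ Spec (CommRingCat.of k)) K (connectedComponent (p y))
    isClosed_connectedComponent isConnected_connectedComponent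
  rw [_root_.ConnectedComponents.coe_eq_coe']
  have hsub := hc.isPreconnected.subset_connectedComponent (x := y)
    (show p y ∈ connectedComponent (p y) from mem_connectedComponent)
  exact hsub h1

end Aux

/-- Let k be a separably closed field, K any extension field of k and X a scheme over k. Then the
projection X_K → X induces a bijection between the sets of connected components. -/
theorem result (k : Type u) [Field k] [IsSepClosed k] (X : Scheme.{u}) [X.Over (Spec (CommRingCat.of k))]
    (K : Type u) [Field K] [Algebra k K] :
    Function.Bijective (Continuous.connectedComponentsMap (Curv2.bcFst k X K).continuous) := by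
  exact main k X K

end Groth.Agent.S7590
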