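import Groth.Statements.S14375
import Mathlib
import Groth.Agent.S7590

set_option autoImplicit false
universe u
open CategoryTheory CategoryTheory.Limits AlgebraicGeometry
open Variety

namespace Groth.Agent.S14375

section Aux
open CategoryTheory CategoryTheory.Limits AlgebraicGeometry TensorProduct

/-- A space covered by pairwise intersecting irreducible open sets is irreducible. -/
theorem irreducibleSpace_of_cover {α : Type*} [TopologicalSpace α] [Nonempty α]
    (W : α → Set α) (hW : ∀ x, x ∈ W x) (hWo : ∀ x, IsOpen (W x))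
    (hWi : ∀ x, IsPreirreducible (W x)) (hWn : ∀ x y, (W x ∩ W y).Nonempty) :
    IrreducibleSpace α := by
  refine { isPreirreducible_univ := ?_, toNonempty := inferInstance }
  rintro u v hu hv ⟨x₁, -, hx₁⟩ ⟨x₂, -, hx₂⟩
  -- step 1: in W x₁
  obtain ⟨a, ha1, ha2, ha3⟩ := hWi x₁ u (W x₂) hu (hWo x₂) ⟨x₁, hW x₁, hx₁⟩ (hWn x₁ x₂)
  -- step 2: in W x₂
  obtain ⟨b, hb1, hb2, hb3⟩ := hWi x₂ (u ∩ W x₁) v (hu.inter (hWo x₁)) hv ⟨a, ha3, ha2, ha1⟩
    ⟨x₂, hW x₂, hx₂⟩
  exact ⟨b, trivial, hb2.1, hb3⟩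

theorem main (k : Type u) [Field k] [IsAlgClosed k]
    {X Y F : Scheme.{u}} (qX : X ⟶ Spec (CommRingCat.of k)) (qY : Y ⟶ Spec (CommRingCat.of k))
    (qF : F ⟶ Spec (CommRingCat.of k))
    [IrreducibleSpace ↥F] [IrreducibleSpace ↥Y]
    (f : X ⟶ Y)
    (htriv : ∀ y : ↥Y, ∃ V : Y.Opens, y ∈ V ∧
      ∃ e : (↑(f ⁻¹ᵁ V) : Scheme.{u}) ≅ pullback (V.ι ≫ qY) qF, e.hom ≫ pullback.fst (V.ι ≫ qY) qF = f ∣_ V) :
    IrreducibleSpace ↥X := by
  haveI : GeometricallyIrreducible qF := Groth.Agent.S7590.geomIrr_of_sepClosed qF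
  haveI : UniversallyOpen qF := inferInstance
  choose V hyV e he using htriv
  -- each `f ⁻¹ᵁ V y` is irreducible and surjects onto `V y`
  have hirr : ∀ y, IsIrreducible ((f ⁻¹ᵁ V y : X.Opens) : Set X) := by
    intro y
    haveI : IrreducibleSpace ↥(V y : Scheme.{u}) := by
      have : IsIrreducible ((V y : Y.Opens) : Set Y) :=
        ⟨⟨y, hyV y⟩, (IrreducibleSpace.isIrreducible_univ Y).isPreirreducible.open_subset (V y).2
          (Set.subset_univ _)⟩
      exact (isIrreducible_iff_irreducibleSpace.1 this)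
    haveI : IrreducibleSpace ↥(pullback ((V y).ι ≫ qY) qF) := inferInstance
    haveI : IrreducibleSpace ↥(↑(f ⁻¹ᵁ V y) : Scheme.{u}) :=
      Groth.Agent.S7590.irreducibleSpace_of_surj (e y).inv (e y).inv.continuous
        (e y).inv.surjective
    exact isIrreducible_iff_irreducibleSpace.2 ‹_›
  have hsurj : ∀ y, ∀ z ∈ V y, ∃ x : X, f x = z := by
    intro y z hz
    have h1 : Function.Surjective (pullback.fst ((V y).ι ≫ qY) qF) :=
      (pullback.fst ((V y).ι ≫ qY) qF).surjective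
    obtain ⟨w, hw⟩ := h1 ⟨z, hz⟩
    refine ⟨(f ⁻¹ᵁ V y).ι ((e y).inv w), ?_⟩
    have h2 : (f ∣_ V y) ((e y).inv w) = ⟨z, hz⟩ := by
      rw [← he y, ← Scheme.Hom.comp_apply, Iso.inv_hom_id_assoc, hw]
    have h4 : f ((f ⁻¹ᵁ V y).ι ((e y).inv w)) = (V y).ι ((f ∣_ V y) ((e y).inv w)) := by
      have h5 := congrArg (fun g => g ((e y).inv w)) (morphismRestrict_ι f (V y))
      simp only [Scheme.Hom.comp_apply] at h5
      exact h5.symm
    rw [h4, h2]
    rfl
  haveI : Nonempty ↥Y := inferInstance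
  obtain ⟨y₀⟩ := ‹Nonempty ↥Y›
  obtain ⟨x₀, -⟩ := hsurj y₀ y₀ (hyV y₀)
  haveI : Nonempty ↥X := ⟨x₀⟩
  refine irreducibleSpace_of_cover (fun x => ((f ⁻¹ᵁ V (f x) : X.Opens) : Set X))
    (fun x => hyV (f x)) (fun x => (f ⁻¹ᵁ V (f x)).2) (fun x => (hirr (f x)).isPreirreducible) ?_
  intro x y
  -- V (f x) ∩ V (f y) nonempty
  obtain ⟨z, -, hz1, hz2⟩ := (IrreducibleSpace.isIrreducible_univ Y).isPreirreducible
    (V (f x)) (V (f y)) (V (f x)).2 (V (f y)).2 ⟨f x, trivial, hyV _⟩ ⟨f y, trivial, hyV _⟩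
  obtain ⟨w, hw⟩ := hsurj (f x) z hz1
  refine ⟨w, ?_, ?_⟩
  · show f w ∈ V (f x)
    rw [hw]; exact hz1
  · show f w ∈ V (f y)
    rw [hw]; exact hz2

end Aux

/-- Let k be an algebraically closed field, F an irreducible scheme of finite type over k, and f : X → Y
a k-morphism of schemes of finite type over k with Y irreducible which is locally trivial with fibre
F: every point of Y has an open neighbourhood V such that f⁻¹(V) is isomorphic over V to V ×_k F.
Then X is irreducible. (The published statement is for varieties, i.e. reduced separated schemes;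
this row assumes neither.) -/
theorem result (k : Type u) [Field k] [IsAlgClosed k]
    {X Y F : Scheme.{u}} (qX : X ⟶ Spec (CommRingCat.of k)) (qY : Y ⟶ Spec (CommRingCat.of k))
    (qF : F ⟶ Spec (CommRingCat.of k))
    [LocallyOfFiniteType qX] [QuasiCompact qX] [LocallyOfFiniteType qY] [QuasiCompact qY]
    [LocallyOfFiniteType qF] [QuasiCompact qF] [IrreducibleSpace ↥F] [IrreducibleSpace ↥Y]
    (f : X ⟶ Y) (hf : f ≫ qY = qX)
    (htriv : ∀ y : ↥Y, ∃ V : Y.Opens, y ∈ V ∧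
      ∃ e : (↑(f ⁻¹ᵁ V) : Scheme.{u}) ≅ pullback (V.ι ≫ qY) qF, e.hom ≫ pullback.fst (V.ι ≫ qY) qF = f ∣_ V) :
    IrreducibleSpace ↥X := by
  exact main k qX qY qF f htriv

end Groth.Agent.S14375
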