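import Groth.Statements.S1438
import Mathlib

set_option autoImplicit false
universe u
open FlatMor

namespace Groth.Agent.S1438

open AlgebraicGeometry CategoryTheory Limits in
/-- A separated scheme with an open covering by n + 1 affine opens has affine stratification number at
most n: it admits an affine stratification with index set {0, …, n}. -/
theorem result (X : Scheme.{u}) [X.IsSeparated] (n : ℕ) (U : Fin (n + 1) → X.Opens)
    (hU : ∀ i, IsAffineOpen (U i)) (hcov : ⨆ i, U i = ⊤) :
    MoreMor.HasAffineStratification X n := by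
  classical
  have hne : ∀ x : X, (Finset.univ.filter (fun i : Fin (n + 1) => x ∈ U i)).Nonempty := by
    intro x
    have hx : x ∈ (⨆ i, U i : X.Opens) := by rw [hcov]; trivial
    obtain ⟨i, hi⟩ := TopologicalSpace.Opens.mem_iSup.mp hx
    exact ⟨i, by simp [hi]⟩
  let m : X → Fin (n + 1) := fun x => (Finset.univ.filter (fun i : Fin (n + 1) => x ∈ U i)).min' (hne x)
  have hm_mem : ∀ x, x ∈ U (m x) := by
    intro x
    have := Finset.min'_mem _ (hne x)
    simpa using this
  have hm_le : ∀ x i, x ∈ U i → m x ≤ i := by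
    intro x i hi
    exact Finset.min'_le _ _ (by simp [hi])
  have hm_iff : ∀ x j, j ≤ m x ↔ ∀ k, k < j → x ∉ U k := by
    intro x j
    constructor
    · intro h k hk hxk
      exact absurd (lt_of_le_of_lt (hm_le x k hxk) hk) (not_lt.mpr h)
    · intro h
      by_contra hlt
      exact h _ (not_le.mp hlt) (hm_mem x)
  have hm_eq : ∀ x j, m x = j ↔ x ∈ U j ∧ ∀ k, k < j → x ∉ U k := by
    intro x j
    constructor
    · rintro rfl
      exact ⟨hm_mem x, (hm_iff x _).mp le_rfl⟩
    · rintro ⟨h1, h2⟩
      exact le_antisymm (hm_le x j h1) ((hm_iff x j).mpr h2)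
  have hDclosed : ∀ j : Fin (n + 1), IsClosed {x : X | ∀ k, k < j → x ∉ U k} := by
    intro j
    have : {x : X | ∀ k, k < j → x ∉ U k} = ⋂ k : Fin (n + 1), ⋂ _ : k < j, ((U k : Set X))ᶜ := by
      ext x; simp
    rw [this]
    exact isClosed_iInter fun k => isClosed_iInter fun _ => (U k).isOpen.isClosed_compl
  refine ⟨fun x => Fin.rev (m x), ?_, ?_⟩
  · intro i
    have : {x : X | Fin.rev (m x) ≤ i} = {x : X | ∀ k, k < Fin.rev i → x ∉ U k} := by
      ext x
      simp only [Set.mem_setOf_eq]
      rw [Fin.rev_le_iff, hm_iff]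
    rw [this]
    exact hDclosed _
  · intro i
    set j := Fin.rev i with hj
    have hset : {x : X | Fin.rev (m x) = i} = {x : X | x ∈ U j ∧ ∀ k, k < j → x ∉ U k} := by
      ext x
      simp only [Set.mem_setOf_eq]
      rw [Fin.rev_eq_iff, hm_eq]
    rw [hset]
    let C : TopologicalSpace.Closeds (U j : Scheme.{u}) :=
      ⟨(U j).ι ⁻¹' {x : X | ∀ k, k < j → x ∉ U k}, (hDclosed j).preimage (U j).ι.continuous⟩
    haveI : IsAffine (U j : Scheme.{u}) := hU j
    let I := Scheme.IdealSheafData.vanishingIdeal C
    haveI : IsAffine I.subscheme := isAffine_of_isAffineHom I.subschemeι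
    refine ⟨I.subscheme, I.subschemeι ≫ (U j).ι, inferInstance, inferInstance, ?_, ?_⟩
    · haveI : IsAffineHom ((I.subschemeι ≫ (U j).ι) ≫ terminal.from X) := by
        haveI : IsAffine (⊤_ Scheme.{u}) := inferInstance
        exact isAffineHom_of_isAffine _
      haveI : IsSeparated (terminal.from X) := Scheme.IsSeparated.isSeparated_terminal_from
      exact IsAffineHom.of_comp (I.subschemeι ≫ (U j).ι) (terminal.from X)
    · rw [Scheme.Hom.comp_base, TopCat.coe_comp, Set.range_comp,
        Scheme.IdealSheafData.range_subschemeι, Scheme.IdealSheafData.coe_support_vanishingIdeal]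
      ext x
      simp only [Set.mem_image, Set.mem_setOf_eq]
      constructor
      · rintro ⟨y, hy, rfl⟩
        exact ⟨y.2, hy⟩
      · rintro ⟨h1, h2⟩
        exact ⟨⟨x, h1⟩, h2, rfl⟩

end Groth.Agent.S1438
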