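import Groth.Statements.S14388
import Groth.Agent.S14100
import Mathlib.Tactic
import Mathlib.CategoryTheory.Triangulated.TStructure.TruncLTGE
import Mathlib.Algebra.Homology.DerivedCategory.FullyFaithful

set_option autoImplicit false
open CategoryTheory CategoryTheory.Limits
universe w v u
open CohDer

namespace Groth.Agent.S14388

open DerivedCategory Pretriangulated
open Groth.Agent.S14100 (heart_faithful mono_H_truncLTι epi_H_truncGEπ)

section aux
variable {C : Type u} [Category.{v} C] [Abelian C] [HasDerivedCategory.{w} C]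

lemma epi_H_truncLTι (X : DerivedCategory C) (n q : ℤ) (h : q < n) :
    Epi ((homologyFunctor C q).map
      (((DerivedCategory.TStructure.t (C := C)).truncLTι n).app X)) := by
  have hT := (DerivedCategory.TStructure.t (C := C)).triangleLTGE_distinguished n X
  refine (HomologySequence.epi_homologyMap_mor₁_iff _ hT q).2 ?_
  exact (isZero_of_isGE
    (((DerivedCategory.TStructure.t (C := C)).truncGE n).obj X) n q h).eq_of_tgt _ _

lemma mono_H_truncGEπ (X : DerivedCategory C) (n q : ℤ) (h : n ≤ q) :
    Mono ((homologyFunctor C q).map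
      (((DerivedCategory.TStructure.t (C := C)).truncGEπ n).app X)) := by
  have hT := (DerivedCategory.TStructure.t (C := C)).triangleLTGE_distinguished n X
  refine (HomologySequence.mono_homologyMap_mor₂_iff _ hT q).2 ?_
  exact (isZero_of_isLE
    (((DerivedCategory.TStructure.t (C := C)).truncLT n).obj X) (n - 1) q (by lia)).eq_of_src _ _

lemma isIso_H_truncLTι (X : DerivedCategory C) (n q : ℤ) (h : q < n) :
    IsIso ((homologyFunctor C q).map
      (((DerivedCategory.TStructure.t (C := C)).truncLTι n).app X)) := by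
  have := mono_H_truncLTι X n q
  have := epi_H_truncLTι X n q h
  exact isIso_of_mono_of_epi _

lemma isIso_H_truncGEπ (X : DerivedCategory C) (n q : ℤ) (h : n ≤ q) :
    IsIso ((homologyFunctor C q).map
      (((DerivedCategory.TStructure.t (C := C)).truncGEπ n).app X)) := by
  have := mono_H_truncGEπ X n q h
  have := epi_H_truncGEπ X n q
  exact isIso_of_mono_of_epi _

theorem G {X Y S T Ax By : DerivedCategory C} (q : ℤ)
    (ιx : Ax ⟶ X) (α : X ⟶ S) (δx : S ⟶ Ax⟦(1 : ℤ)⟧)
    (hTx : Triangle.mk ιx α δx ∈ distTriang (DerivedCategory C))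
    (β : T ⟶ Y) (πy : Y ⟶ By) (δy : By ⟶ T⟦(1 : ℤ)⟧)
    (hTy : Triangle.mk β πy δy ∈ distTriang (DerivedCategory C))
    [Ax.IsLE (q - 1)] [Ax.IsGE (q - 1)] [S.IsGE q] [S.IsLE q] [T.IsLE (q - 1)] [T.IsGE (q - 1)]
    [By.IsGE q] [By.IsLE q] [Y.IsGE (q - 1)]
    (φ : X ⟶ Y) (h₁ : (homologyFunctor C (q - 1)).map φ = 0)
    (h₂ : (homologyFunctor C q).map φ = 0) :
    ∃! L : S ⟶ T, φ = α ≫ L ≫ β := by
  have hαepi : Epi ((homologyFunctor C q).map α) := by
    refine (HomologySequence.epi_homologyMap_mor₂_iff _ hTx q (q + 1) rfl).2 ?_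
    exact (isZero_of_isLE Ax (q - 1) (q + 1) (by lia)).eq_of_tgt _ _
  have hβmono : Mono ((homologyFunctor C (q - 1)).map β) := by
    refine (HomologySequence.mono_homologyMap_mor₁_iff _ hTy (q - 2) (q - 1) (by lia)).2 ?_
    exact (isZero_of_isGE By q (q - 2) (by lia)).eq_of_src _ _
  have key : ∀ L : S ⟶ T, α ≫ L ≫ β = 0 → L = 0 := by
    intro L hL
    obtain ⟨k, hk⟩ : ∃ k : Ax⟦(1 : ℤ)⟧ ⟶ Y, L ≫ β = δx ≫ k :=
      Triangle.yoneda_exact₃ _ hTx (L ≫ β) hL
    have hk0 : k = 0 := by
      have : (DerivedCategory.TStructure.t (C := C)).IsLE (Ax⟦(1 : ℤ)⟧) (q - 2) :=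
        (DerivedCategory.TStructure.t (C := C)).isLE_shift Ax (q - 1) 1 (q - 2) (by lia)
      exact (DerivedCategory.TStructure.t (C := C)).zero k (q - 2) (q - 1) (by lia)
    rw [hk0, comp_zero] at hk
    obtain ⟨k', hk'⟩ : ∃ k' : S ⟶ By⟦(-1 : ℤ)⟧, L = k' ≫ (Triangle.mk β πy δy).invRotate.mor₁ :=
      Triangle.coyoneda_exact₂ _ (inv_rot_of_distTriang _ hTy) L hk
    have hk'0 : k' = 0 := by
      have : (DerivedCategory.TStructure.t (C := C)).IsGE (By⟦(-1 : ℤ)⟧) (q + 1) :=
        (DerivedCategory.TStructure.t (C := C)).isGE_shift By q (-1) (q + 1) (by lia)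
      exact (DerivedCategory.TStructure.t (C := C)).zero k' q (q + 1) (by lia)
    rw [hk', hk'0]; exact zero_comp
  -- existence
  have hex : ∃ L : S ⟶ T, φ = α ≫ L ≫ β := by
    have h1 : φ ≫ πy = 0 := by
      have h1a : ιx ≫ (φ ≫ πy) = 0 :=
        (DerivedCategory.TStructure.t (C := C)).zero _ (q - 1) q (by lia)
      obtain ⟨g, hg⟩ : ∃ g : S ⟶ By, φ ≫ πy = α ≫ g := Triangle.yoneda_exact₂ _ hTx (φ ≫ πy) h1a
      have hg0 : g = 0 := by
        apply heart_faithful _ _ q
        rw [← cancel_epi ((homologyFunctor C q).map α), ← Functor.map_comp, comp_zero]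
        rw [← hg, Functor.map_comp, h₂, zero_comp]
      rw [hg, hg0, comp_zero]
    obtain ⟨φ', hφ'⟩ : ∃ φ' : X ⟶ T, φ = φ' ≫ β := Triangle.coyoneda_exact₂ _ hTy φ h1
    have h2 : ιx ≫ φ' = 0 := by
      apply heart_faithful _ _ (q - 1)
      rw [← cancel_mono ((homologyFunctor C (q - 1)).map β), ← Functor.map_comp, zero_comp,
        Category.assoc]
      rw [← hφ', Functor.map_comp, h₁, comp_zero]
    obtain ⟨L, hL⟩ : ∃ L : S ⟶ T, φ' = α ≫ L := Triangle.yoneda_exact₂ _ hTx φ' h2
    refine ⟨L, ?_⟩
    rw [hφ', hL]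
    simp
  obtain ⟨L, hL⟩ := hex
  refine ⟨L, hL, fun L' hL' => ?_⟩
  have : L' - L = 0 := by
    apply key
    rw [Preadditive.sub_comp, Preadditive.comp_sub, ← hL, ← hL', sub_self]
  exact sub_eq_zero.mp this


lemma isIso_of_isZero_isZero {D : Type*} [Category D] [Limits.HasZeroMorphisms D] {A B : D}
    (f : A ⟶ B) (hA : IsZero A) (hB : IsZero B) : IsIso f :=
  ⟨⟨0, hA.eq_of_src _ _, hB.eq_of_src _ _⟩⟩

/-- homology of an object concentrated in degree `a` vanishes in degree `n ≠ a`. -/
lemma isZero_H_of_concentrated (Z : DerivedCategory C) (a n : ℤ) [Z.IsGE a] [Z.IsLE a]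
    (hn : n ≠ a) : IsZero ((homologyFunctor C n).obj Z) := by
  rcases lt_or_gt_of_ne hn with h | h
  · exact isZero_of_isGE Z a n h
  · exact isZero_of_isLE Z a n h

/-- `τ_{<n}` kills homology maps that are zero. -/
lemma H_truncLT_map_eq_zero {K K' : DerivedCategory C} (f : K ⟶ K') (n m : ℤ)
    (h : (homologyFunctor C m).map f = 0) :
    (homologyFunctor C m).map (((DerivedCategory.TStructure.t (C := C)).truncLT n).map f) = 0 := by
  have hnat := ((DerivedCategory.TStructure.t (C := C)).truncLTι n).naturality f
  dsimp at hnat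
  have := mono_H_truncLTι K' n m
  rw [← cancel_mono ((homologyFunctor C m).map
    (((DerivedCategory.TStructure.t (C := C)).truncLTι n).app K')),
    ← Functor.map_comp, zero_comp, hnat, Functor.map_comp, h, comp_zero]

/-- `τ_{≥n}` kills homology maps that are zero. -/
lemma H_truncGE_map_eq_zero {K K' : DerivedCategory C} (f : K ⟶ K') (n m : ℤ)
    (h : (homologyFunctor C m).map f = 0) :
    (homologyFunctor C m).map (((DerivedCategory.TStructure.t (C := C)).truncGE n).map f) = 0 := by
  have hnat := (DerivedCategory.TStructure.t (C := C)).truncGEπ_naturality n f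
  have := epi_H_truncGEπ K n m
  rw [← cancel_epi ((homologyFunctor C m).map
    (((DerivedCategory.TStructure.t (C := C)).truncGEπ n).app K)),
    ← Functor.map_comp, comp_zero, hnat, Functor.map_comp, h, zero_comp]

end aux

open DerivedCategory Pretriangulated in
/-- Let A be an abelian category, D(A) its derived category with the canonical t-structure and
truncation functors τ_{≥a}, τ_{<b}, and write τ_[a,b] = τ_{≥a} ∘ τ_{<b+1}, so that τ_[q,q] K is
H^q(K) placed in degree q. Let f : K → K' be a morphism in D(A) and q an integer such that the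
induced maps H^(q-1)(K) → H^(q-1)(K') and H^q(K) → H^q(K') are both zero. Then there is a unique
morphism L : τ_[q,q] K → τ_[q-1,q-1] K' such that τ_[q-1,q](f) : τ_[q-1,q] K → τ_[q-1,q] K' is the
composite of the canonical projection τ_[q-1,q] K → τ_[q,q] K, the morphism L, and the canonical
inclusion τ_[q-1,q-1] K' → τ_[q-1,q] K'. (Under τ_[n,n] ≅ H^n(−)[−n] the morphism L corresponds to a
morphism L_f[−q] : H^q(K)[−q] → H^(q-1)(K')[1−q].) -/
theorem result {C : Type u} [Category.{v} C] [Abelian C]
    [HasDerivedCategory.{w} C] {K K' : DerivedCategory C} (f : K ⟶ K') (q : ℤ)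
    (h₁ : (DerivedCategory.homologyFunctor C (q - 1)).map f = 0)
    (h₂ : (DerivedCategory.homologyFunctor C q).map f = 0) :
    ∃! L : ((DerivedCategory.TStructure.t (C := C)).truncGELT q (q + 1)).obj K ⟶
        ((DerivedCategory.TStructure.t (C := C)).truncGELT (q - 1) q).obj K',
      ((DerivedCategory.TStructure.t (C := C)).truncGELT (q - 1) (q + 1)).map f =
        ((DerivedCategory.TStructure.t (C := C)).natTransTruncGEOfLE (q - 1) q (sub_one_lt q).le).app
            (((DerivedCategory.TStructure.t (C := C)).truncLT (q + 1)).obj K) ≫ L ≫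
          ((DerivedCategory.TStructure.t (C := C)).truncGE (q - 1)).map
            (((DerivedCategory.TStructure.t (C := C)).natTransTruncLTOfLE q (q + 1) (lt_add_one q).le).app K') := by
  -- abbreviations
  let W := ((DerivedCategory.TStructure.t (C := C)).truncLT (q + 1)).obj K
  let W' := ((DerivedCategory.TStructure.t (C := C)).truncLT (q + 1)).obj K'
  let X := ((DerivedCategory.TStructure.t (C := C)).truncGE (q - 1)).obj W
  let Y := ((DerivedCategory.TStructure.t (C := C)).truncGE (q - 1)).obj W'
  let S := ((DerivedCategory.TStructure.t (C := C)).truncGE q).obj W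
  let T := ((DerivedCategory.TStructure.t (C := C)).truncGE (q - 1)).obj (((DerivedCategory.TStructure.t (C := C)).truncLT q).obj K')
  let α : X ⟶ S := ((DerivedCategory.TStructure.t (C := C)).natTransTruncGEOfLE (q - 1) q (sub_one_lt q).le).app W
  let j : ((DerivedCategory.TStructure.t (C := C)).truncLT q).obj K' ⟶ W' := ((DerivedCategory.TStructure.t (C := C)).natTransTruncLTOfLE q (q + 1) (lt_add_one q).le).app K'
  let β : T ⟶ Y := ((DerivedCategory.TStructure.t (C := C)).truncGE (q - 1)).map j
  let φ : X ⟶ Y := ((DerivedCategory.TStructure.t (C := C)).truncGE (q - 1)).map (((DerivedCategory.TStructure.t (C := C)).truncLT (q + 1)).map f)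
  -- instances
  have iW : W.IsLE q := inferInstanceAs ((DerivedCategory.TStructure.t (C := C)).IsLE (((DerivedCategory.TStructure.t (C := C)).truncLT (q + 1)).obj K) q)
  have iW' : W'.IsLE q := inferInstanceAs ((DerivedCategory.TStructure.t (C := C)).IsLE (((DerivedCategory.TStructure.t (C := C)).truncLT (q + 1)).obj K') q)
  have iXge : X.IsGE (q - 1) := inferInstanceAs ((DerivedCategory.TStructure.t (C := C)).IsGE (((DerivedCategory.TStructure.t (C := C)).truncGE (q - 1)).obj W) (q - 1))
  have iXle : X.IsLE q := inferInstanceAs ((DerivedCategory.TStructure.t (C := C)).IsLE (((DerivedCategory.TStructure.t (C := C)).truncGE (q - 1)).obj W) q)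
  have iYge : Y.IsGE (q - 1) := inferInstanceAs ((DerivedCategory.TStructure.t (C := C)).IsGE (((DerivedCategory.TStructure.t (C := C)).truncGE (q - 1)).obj W') (q - 1))
  have iYle : Y.IsLE q := inferInstanceAs ((DerivedCategory.TStructure.t (C := C)).IsLE (((DerivedCategory.TStructure.t (C := C)).truncGE (q - 1)).obj W') q)
  have iSge : S.IsGE q := inferInstanceAs ((DerivedCategory.TStructure.t (C := C)).IsGE (((DerivedCategory.TStructure.t (C := C)).truncGE q).obj W) q)
  have iSle : S.IsLE q := inferInstanceAs ((DerivedCategory.TStructure.t (C := C)).IsLE (((DerivedCategory.TStructure.t (C := C)).truncGE q).obj W) q)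
  have iK'le : (((DerivedCategory.TStructure.t (C := C)).truncLT q).obj K').IsLE (q - 1) :=
    inferInstanceAs ((DerivedCategory.TStructure.t (C := C)).IsLE (((DerivedCategory.TStructure.t (C := C)).truncLT q).obj K') (q - 1))
  have iTge : T.IsGE (q - 1) :=
    inferInstanceAs ((DerivedCategory.TStructure.t (C := C)).IsGE (((DerivedCategory.TStructure.t (C := C)).truncGE (q - 1)).obj (((DerivedCategory.TStructure.t (C := C)).truncLT q).obj K')) (q - 1))
  have iTle : T.IsLE (q - 1) :=
    inferInstanceAs ((DerivedCategory.TStructure.t (C := C)).IsLE (((DerivedCategory.TStructure.t (C := C)).truncGE (q - 1)).obj (((DerivedCategory.TStructure.t (C := C)).truncLT q).obj K')) (q - 1))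
  -- the triangle for α
  have hiso1 : IsIso (((DerivedCategory.TStructure.t (C := C)).truncGE q).map (((DerivedCategory.TStructure.t (C := C)).truncGEπ (q - 1)).app W)) :=
    (DerivedCategory.TStructure.t (C := C)).isIso_truncGE_map_truncGEπ_app q (q - 1) (by lia) W
  let e : ((DerivedCategory.TStructure.t (C := C)).truncGE q).obj X ≅ S := (asIso (((DerivedCategory.TStructure.t (C := C)).truncGE q).map (((DerivedCategory.TStructure.t (C := C)).truncGEπ (q - 1)).app W))).symm
  have hα : ((DerivedCategory.TStructure.t (C := C)).truncGEπ q).app X ≫ e.hom = α := by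
    have iS' : (DerivedCategory.TStructure.t (C := C)).IsGE S (q - 1) := (DerivedCategory.TStructure.t (C := C)).isGE_of_ge S (q - 1) q (by lia)
    apply (DerivedCategory.TStructure.t (C := C)).from_truncGE_obj_ext (n := q - 1) (X := W)
    rw [(DerivedCategory.TStructure.t (C := C)).π_natTransTruncGEOfLE_app]
    have hnat := (DerivedCategory.TStructure.t (C := C)).truncGEπ_naturality q (((DerivedCategory.TStructure.t (C := C)).truncGEπ (q - 1)).app W)
    rw [← Category.assoc, ← hnat, Category.assoc]
    simp [e]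
  have hTx : Triangle.mk (((DerivedCategory.TStructure.t (C := C)).truncLTι q).app X) α (e.inv ≫ ((DerivedCategory.TStructure.t (C := C)).truncGEδLT q).app X) ∈
      distTriang (DerivedCategory C) := by
    refine isomorphic_distinguished _ ((DerivedCategory.TStructure.t (C := C)).triangleLTGE_distinguished q X) _ ?_
    refine Triangle.isoMk _ _ (Iso.refl _) (Iso.refl _) e.symm ?_ ?_ ?_
    · show ((DerivedCategory.TStructure.t (C := C)).truncLTι q).app X ≫ 𝟙 X = 𝟙 _ ≫ ((DerivedCategory.TStructure.t (C := C)).truncLTι q).app X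
      exact (Category.comp_id _).trans (Category.id_comp _).symm
    · show α ≫ e.inv = 𝟙 X ≫ ((DerivedCategory.TStructure.t (C := C)).truncGEπ q).app X
      rw [← hα, Category.assoc, e.hom_inv_id]
      exact (Category.comp_id _).trans (Category.id_comp _).symm
    · show (e.inv ≫ ((DerivedCategory.TStructure.t (C := C)).truncGEδLT q).app X) ≫ (shiftFunctor (DerivedCategory C) (1 : ℤ)).map (𝟙 _) =
        e.inv ≫ ((DerivedCategory.TStructure.t (C := C)).truncGEδLT q).app X
      rw [CategoryTheory.Functor.map_id]
      exact Category.comp_id _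
  -- the triangle for β
  let lift : T ⟶ ((DerivedCategory.TStructure.t (C := C)).truncLT q).obj Y := (DerivedCategory.TStructure.t (C := C)).liftTruncLT β (q - 1) q (by lia)
  have hlift : lift ≫ ((DerivedCategory.TStructure.t (C := C)).truncLTι q).app Y = β := (DerivedCategory.TStructure.t (C := C)).liftTruncLT_ι β (q - 1) q (by lia)
  have iAyge : (((DerivedCategory.TStructure.t (C := C)).truncLT q).obj Y).IsGE (q - 1) :=
    inferInstanceAs ((DerivedCategory.TStructure.t (C := C)).IsGE (((DerivedCategory.TStructure.t (C := C)).truncLT q).obj Y) (q - 1))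
  have iAyle : (((DerivedCategory.TStructure.t (C := C)).truncLT q).obj Y).IsLE (q - 1) :=
    inferInstanceAs ((DerivedCategory.TStructure.t (C := C)).IsLE (((DerivedCategory.TStructure.t (C := C)).truncLT q).obj Y) (q - 1))
  have hjiso : IsIso ((homologyFunctor C (q - 1)).map j) := by
    have h1 : j ≫ ((DerivedCategory.TStructure.t (C := C)).truncLTι (q + 1)).app K' = ((DerivedCategory.TStructure.t (C := C)).truncLTι q).app K' :=
      (DerivedCategory.TStructure.t (C := C)).natTransTruncLTOfLE_ι_app q (q + 1) _ K'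
    have h2 := isIso_H_truncLTι K' (q + 1) (q - 1) (by lia)
    have h3 := isIso_H_truncLTι K' q (q - 1) (by lia)
    have h4 : IsIso ((homologyFunctor C (q - 1)).map j ≫
        (homologyFunctor C (q - 1)).map (((DerivedCategory.TStructure.t (C := C)).truncLTι (q + 1)).app K')) := by
      rw [← Functor.map_comp, h1]; exact h3
    exact IsIso.of_isIso_comp_right _ ((homologyFunctor C (q - 1)).map (((DerivedCategory.TStructure.t (C := C)).truncLTι (q + 1)).app K'))
  have hβiso : IsIso ((homologyFunctor C (q - 1)).map β) := by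
    have hnat := (DerivedCategory.TStructure.t (C := C)).truncGEπ_naturality (q - 1) j
    have h2 := isIso_H_truncGEπ (((DerivedCategory.TStructure.t (C := C)).truncLT q).obj K') (q - 1) (q - 1) le_rfl
    have h3 := isIso_H_truncGEπ W' (q - 1) (q - 1) le_rfl
    have h4 : IsIso ((homologyFunctor C (q - 1)).map (((DerivedCategory.TStructure.t (C := C)).truncGEπ (q - 1)).app (((DerivedCategory.TStructure.t (C := C)).truncLT q).obj K')) ≫
        (homologyFunctor C (q - 1)).map β) := by
      rw [← Functor.map_comp, hnat, Functor.map_comp]; infer_instance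
    exact IsIso.of_isIso_comp_left
      ((homologyFunctor C (q - 1)).map (((DerivedCategory.TStructure.t (C := C)).truncGEπ (q - 1)).app (((DerivedCategory.TStructure.t (C := C)).truncLT q).obj K'))) _
  have hliftiso : IsIso lift := by
    rw [DerivedCategory.isIso_iff]
    intro n
    by_cases hn : n = q - 1
    · subst hn
      have h2 := isIso_H_truncLTι Y q (q - 1) (by lia)
      have h4 : IsIso ((homologyFunctor C (q - 1)).map lift ≫
          (homologyFunctor C (q - 1)).map (((DerivedCategory.TStructure.t (C := C)).truncLTι q).app Y)) := by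
        rw [← Functor.map_comp, hlift]; exact hβiso
      exact IsIso.of_isIso_comp_right _ ((homologyFunctor C (q - 1)).map (((DerivedCategory.TStructure.t (C := C)).truncLTι q).app Y))
    · exact isIso_of_isZero_isZero _ (isZero_H_of_concentrated T (q - 1) n hn)
        (isZero_H_of_concentrated (((DerivedCategory.TStructure.t (C := C)).truncLT q).obj Y) (q - 1) n hn)
  let e' : T ≅ ((DerivedCategory.TStructure.t (C := C)).truncLT q).obj Y := asIso lift
  have hTy : Triangle.mk β (((DerivedCategory.TStructure.t (C := C)).truncGEπ q).app Y) (((DerivedCategory.TStructure.t (C := C)).truncGEδLT q).app Y ≫ e'.inv⟦(1 : ℤ)⟧') ∈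
      distTriang (DerivedCategory C) := by
    refine isomorphic_distinguished _ ((DerivedCategory.TStructure.t (C := C)).triangleLTGE_distinguished q Y) _ ?_
    refine Triangle.isoMk _ _ e' (Iso.refl _) (Iso.refl _) ?_ ?_ ?_
    · show β ≫ 𝟙 Y = lift ≫ ((DerivedCategory.TStructure.t (C := C)).truncLTι q).app Y
      rw [hlift]
      exact Category.comp_id _
    · show ((DerivedCategory.TStructure.t (C := C)).truncGEπ q).app Y ≫ 𝟙 _ = 𝟙 Y ≫ ((DerivedCategory.TStructure.t (C := C)).truncGEπ q).app Y
      exact (Category.comp_id _).trans (Category.id_comp _).symm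
    · show (((DerivedCategory.TStructure.t (C := C)).truncGEδLT q).app Y ≫ (shiftFunctor (DerivedCategory C) (1 : ℤ)).map e'.inv) ≫
          (shiftFunctor (DerivedCategory C) (1 : ℤ)).map e'.hom =
        𝟙 _ ≫ ((DerivedCategory.TStructure.t (C := C)).truncGEδLT q).app Y
      rw [Category.assoc, ← CategoryTheory.Functor.map_comp, e'.inv_hom_id,
        CategoryTheory.Functor.map_id]
      exact (Category.comp_id _).trans (Category.id_comp _).symm
  -- instances for the remaining vertices
  have iAxge : (((DerivedCategory.TStructure.t (C := C)).truncLT q).obj X).IsGE (q - 1) :=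
    inferInstanceAs ((DerivedCategory.TStructure.t (C := C)).IsGE (((DerivedCategory.TStructure.t (C := C)).truncLT q).obj X) (q - 1))
  have iAxle : (((DerivedCategory.TStructure.t (C := C)).truncLT q).obj X).IsLE (q - 1) :=
    inferInstanceAs ((DerivedCategory.TStructure.t (C := C)).IsLE (((DerivedCategory.TStructure.t (C := C)).truncLT q).obj X) (q - 1))
  have iByge : (((DerivedCategory.TStructure.t (C := C)).truncGE q).obj Y).IsGE q := inferInstanceAs ((DerivedCategory.TStructure.t (C := C)).IsGE (((DerivedCategory.TStructure.t (C := C)).truncGE q).obj Y) q)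
  have iByle : (((DerivedCategory.TStructure.t (C := C)).truncGE q).obj Y).IsLE q := inferInstanceAs ((DerivedCategory.TStructure.t (C := C)).IsLE (((DerivedCategory.TStructure.t (C := C)).truncGE q).obj Y) q)
  -- homology of φ
  have hφ₁ : (homologyFunctor C (q - 1)).map φ = 0 :=
    H_truncGE_map_eq_zero _ _ _ (H_truncLT_map_eq_zero f _ _ h₁)
  have hφ₂ : (homologyFunctor C q).map φ = 0 :=
    H_truncGE_map_eq_zero _ _ _ (H_truncLT_map_eq_zero f _ _ h₂)
  exact G q _ α _ hTx β _ _ hTy φ hφ₁ hφ₂


end Groth.Agent.S14388
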