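import Groth.Statements.S14404
import Mathlib
import Groth.Agent.Lib.helper7.DimSch11

set_option autoImplicit false
universe u
open CategoryTheory AlgebraicGeometry
open FlatMor

namespace Groth.Agent.S14404

/-- Let k be a field, X and Y irreducible schemes of finite type over k and f : X ⟶ Y a flat k-morphism.
Then dim Y ≤ dim X, and for every point y of Y every irreducible component Z of the scheme-theoretic
fibre of f over y has dim Z + dim Y = dim X; that is, every non-empty fibre has all its irreducible
components of dimension dim X − dim Y. -/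
theorem result (k : Type u) [Field k]
    {X Y : Scheme.{u}} (qX : X ⟶ Spec (CommRingCat.of k)) (qY : Y ⟶ Spec (CommRingCat.of k))
    [LocallyOfFiniteType qX] [QuasiCompact qX] [LocallyOfFiniteType qY] [QuasiCompact qY]
    [IrreducibleSpace X] [IrreducibleSpace Y] (f : X ⟶ Y) (hf : f ≫ qY = qX) [Flat f] :
    topologicalKrullDim Y ≤ topologicalKrullDim X ∧
      ∀ (y : Y), ∀ Z ∈ irreducibleComponents (f.fiber y : Type u),
        topologicalKrullDim Z + topologicalKrullDim Y = topologicalKrullDim X := by
  letI : X.Over (Spec (CommRingCat.of k)) := ⟨qX⟩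
  letI : Y.Over (Spec (CommRingCat.of k)) := ⟨qY⟩
  haveI : LocallyOfFiniteType (X ↘ Spec (CommRingCat.of k)) := ‹LocallyOfFiniteType qX›
  haveI : LocallyOfFiniteType (Y ↘ Spec (CommRingCat.of k)) := ‹LocallyOfFiniteType qY›
  haveI : LocallyOfFiniteType f := by
    haveI : LocallyOfFiniteType (f ≫ qY) := by rw [hf]; infer_instance
    exact locallyOfFiniteType_of_comp f qY
  have hf' : f ≫ (Y ↘ Spec (CommRingCat.of k)) = X ↘ Spec (CommRingCat.of k) := hf
  obtain ⟨d, hdY, hY⟩ := Groth.Agent.Lib.helper7.DimSch.exists_dim_of_irreducible k Y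
  obtain ⟨e, heX, hX⟩ := Groth.Agent.Lib.helper7.DimSch.exists_dim_of_irreducible k X
  have key : ∀ (y : Y), ∀ Z ∈ irreducibleComponents (f.fiber y : Type u),
      ∃ m : ℕ, topologicalKrullDim Z = ((m : ℕ) : WithBot ℕ∞) ∧ m + d = e := fun y Z hZ =>
    Groth.Agent.Lib.helper7.DimSch.fiber_component_dim_of_flat k f hf' e d hX hY y Z hZ
  refine ⟨?_, ?_⟩
  · obtain ⟨x⟩ : Nonempty X := inferInstance
    obtain ⟨m, -, hmd⟩ := key (f.base x) _
      (irreducibleComponent_mem_irreducibleComponents (f.asFiber x))
    rw [hdY, heX]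
    have : d ≤ e := by omega
    exact_mod_cast this
  · intro y Z hZ
    obtain ⟨m, hm, hmd⟩ := key y Z hZ
    rw [hm, hdY, heX]
    exact_mod_cast hmd

end Groth.Agent.S14404
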