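import Groth.Statements.S14405
import Mathlib.RingTheory.Polynomial.Pochhammer
import Mathlib.Tactic
-- import your own Groth.Agent.* helpers here

set_option autoImplicit false
open Polynomial
open HilbNum

namespace Groth.Agent.S14405

/-- backward difference operator -/
noncomputable def bd (P : ℚ[X]) : ℚ[X] := P - P.comp (X - 1)

theorem bd_add (P R : ℚ[X]) : bd (P + R) = bd P + bd R := by
  unfold bd; rw [add_comp]; ring

theorem bd_C_mul (c : ℚ) (P : ℚ[X]) : bd (C c * P) = C c * bd P := by
  unfold bd; rw [mul_comp, C_comp]; ring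

theorem bd_asc (n : ℕ) : bd (ascPochhammer ℚ (n + 1)) = C ((n : ℚ) + 1) * ascPochhammer ℚ n := by
  have h := ascPochhammer_succ_comp_X_add_one (S := ℚ) n
  have h2 := congrArg (fun p : ℚ[X] => p.comp (X - 1)) h
  simp only [comp_assoc, add_comp, X_comp, one_comp, sub_add_cancel, comp_X, smul_comp] at h2
  unfold bd
  rw [sub_eq_of_eq_add' h2]
  simp only [nsmul_eq_mul, Nat.cast_add, Nat.cast_one, map_add, map_natCast, map_one]

theorem bd_eval (P : ℚ[X]) (x : ℚ) : (bd P).eval x = P.eval x - P.eval (x - 1) := by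
  unfold bd; simp [eval_comp]

theorem exists_antidiff : ∀ n : ℕ, ∀ Q : ℚ[X], Q.degree < n →
    ∃ P : ℚ[X], bd P = Q ∧ P.degree ≤ n := by
  intro n
  induction n with
  | zero =>
    intro Q hQ
    have : Q = 0 := by
      rw [← degree_eq_bot]
      rw [Nat.cast_zero] at hQ
      exact Nat.WithBot.lt_zero_iff.mp hQ
    refine ⟨0, ?_, by simp⟩
    rw [this]; unfold bd; simp
  | succ n ih =>
    intro Q hQ
    set c := Q.coeff n with hc
    have hA : (ascPochhammer ℚ n).Monic := monic_ascPochhammer (S := ℚ) n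
    have hAd : (ascPochhammer ℚ n).natDegree = n := ascPochhammer_natDegree (S := ℚ) n
    have hQ' : (Q - C c * ascPochhammer ℚ n).degree < n := by
      rw [degree_lt_iff_coeff_zero]
      intro m hm
      rcases hm.lt_or_eq with hlt | rfl
      · rw [coeff_sub, coeff_C_mul]
        have h1 : Q.coeff m = 0 := coeff_eq_zero_of_degree_lt (lt_of_lt_of_le hQ (by exact_mod_cast hlt))
        have h2 : (ascPochhammer ℚ n).coeff m = 0 :=
          coeff_eq_zero_of_natDegree_lt (by rw [hAd]; exact hlt)
        rw [h1, h2]; ring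
      · rw [coeff_sub, coeff_C_mul]
        have : (ascPochhammer ℚ n).coeff n = 1 := by
          have := hA.coeff_natDegree
          rwa [hAd] at this
        rw [this]; ring
    obtain ⟨P', hP', hdeg'⟩ := ih _ hQ'
    refine ⟨P' + C (c / ((n : ℚ) + 1)) * ascPochhammer ℚ (n + 1), ?_, ?_⟩
    · rw [bd_add, bd_C_mul, bd_asc, hP']
      have hne : ((n : ℚ) + 1) ≠ 0 := by positivity
      rw [← mul_assoc, ← C_mul, div_mul_cancel₀ c hne]
      ring
    · refine (degree_add_le _ _).trans (max_le (hdeg'.trans (by exact_mod_cast Nat.le_succ n)) ?_)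
      rw [C_mul']
      refine (degree_smul_le _ _).trans ?_
      rw [degree_eq_natDegree (monic_ascPochhammer (S := ℚ) (n + 1)).ne_zero,
        ascPochhammer_natDegree (S := ℚ)]

theorem degree_bd_lt (P : ℚ[X]) (hP : P ≠ 0) : (bd P).degree < P.degree := by
  unfold bd
  have hq : (X - 1 : ℚ[X]) = X - C 1 := by simp
  have hnd : (X - 1 : ℚ[X]).natDegree = 1 := by rw [hq, natDegree_X_sub_C]
  have hlc : (X - 1 : ℚ[X]).leadingCoeff = 1 := by rw [hq, leadingCoeff_X_sub_C]
  by_cases h0 : P.natDegree = 0
  · obtain ⟨a, rfl⟩ := natDegree_eq_zero.mp h0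
    rw [C_comp, sub_self, degree_zero]
    exact bot_lt_iff_ne_bot.mpr (by rwa [Ne, degree_eq_bot])
  · apply degree_sub_lt_left
    · rw [degree_eq_natDegree hP]
      have hne : P.comp (X - 1) ≠ 0 := by
        intro h
        have := congrArg natDegree h
        rw [natDegree_comp, hnd, mul_one, natDegree_zero] at this
        exact h0 this
      rw [degree_eq_natDegree hne, natDegree_comp, hnd, mul_one]
    · exact hP
    · rw [leadingCoeff_comp (by rw [hnd]; norm_num), hlc, one_pow, mul_one]

/-- Let φ be a function from the integers to the rationals and Q a nonzero polynomial with rational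
coefficients of degree d such that φ(m) - φ(m-1) = Q(m) for every integer m. Then there is a
polynomial P with rational coefficients, of degree d + 1, such that φ(m) = P(m) for every integer m.
(The explicit form of P in the binomial basis is not part of this statement.) -/
theorem result (φ : ℤ → ℚ) (d : ℕ) (Q : ℚ[X]) (hQ : Q ≠ 0)
    (hd : Q.natDegree = d) (h : ∀ m : ℤ, φ m - φ (m - 1) = Q.eval (m : ℚ)) :
    ∃ P : ℚ[X], P.natDegree = d + 1 ∧ ∀ m : ℤ, φ m = P.eval (m : ℚ) := by
  have hQdeg : Q.degree < ((d + 1 : ℕ) : WithBot ℕ) := by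
    rw [degree_eq_natDegree hQ, hd]
    exact_mod_cast Nat.lt_succ_self d
  obtain ⟨P₀, hP₀, hdeg₀⟩ := exists_antidiff (d + 1) Q hQdeg
  have hP₀ne : P₀ ≠ 0 := by
    rintro rfl
    apply hQ
    rw [← hP₀]; unfold bd; simp
  have hlt := degree_bd_lt P₀ hP₀ne
  rw [hP₀, degree_eq_natDegree hQ, hd, degree_eq_natDegree hP₀ne] at hlt
  rw [degree_eq_natDegree hP₀ne] at hdeg₀
  have hnat : P₀.natDegree = d + 1 := by
    have h1 : d < P₀.natDegree := by exact_mod_cast hlt
    have h2 : P₀.natDegree ≤ d + 1 := by exact_mod_cast hdeg₀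
    omega
  -- the difference is constant
  set ψ : ℤ → ℚ := fun m => φ m - P₀.eval (m : ℚ) with hψ
  have hstep : ∀ m : ℤ, ψ m = ψ (m - 1) := by
    intro m
    have h1 := h m
    have h2 := bd_eval P₀ (m : ℚ)
    rw [hP₀] at h2
    simp only [hψ]
    push_cast
    linarith
  have hconst : ∀ m : ℤ, ψ m = ψ 0 := by
    intro m
    induction m using Int.induction_on with
    | zero => rfl
    | succ i ih =>
      have := hstep (i + 1)
      rw [add_sub_cancel_right] at this
      rw [this, ih]
    | pred i ih =>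
      have := hstep (-i)
      rw [← this, ih]
  refine ⟨P₀ + C (ψ 0), ?_, ?_⟩
  · rw [natDegree_add_C, hnat]
  · intro m
    rw [eval_add, eval_C, ← hconst m]
    simp only [hψ]
    ring

end Groth.Agent.S14405
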