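import Groth.Statements.S14410
import Mathlib.Topology.Sheaves.Flasque
-- import your own Groth.Agent.* helpers here

set_option autoImplicit false
universe u
open CategoryTheory TopologicalSpace
open CohTop

namespace Groth.Agent.S14410

/-- Let X be a topological space and 0 → F₁ → F₂ → F₃ → 0 a short exact sequence of sheaves of abelian
groups on X. If F₁ and F₃ are flasque (every restriction map is surjective), then F₂ is flasque.
(The published statement is for O_X-modules on a ringed space and is an equivalence; this row states
the implication from the outer terms to the middle term, for the underlying abelian sheaves.) -/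
theorem result (X : TopCat.{u})
    (S : ShortComplex (TopCat.Sheaf AddCommGrpCat.{u} X)) (hS : S.ShortExact)
    [S.X₁.IsFlasque] [S.X₃.IsFlasque] : S.X₂.IsFlasque := by
  refine ⟨fun {U V} i => ?_⟩
  · refine (AddCommGrpCat.epi_iff_surjective _).mpr (fun s ↦ ?_)
    -- extend `g s` to `U`
    obtain ⟨t, ht⟩ := (AddCommGrpCat.epi_iff_surjective (S.X₃.obj.map i)).mp inferInstance
      (S.g.hom.app V s)
    -- lift `t` to a section `s'` of `S.X₂` on `U`
    have hepi : Epi (S.g.hom.app U) := by
      have := TopCat.Sheaf.IsFlasque.epi_of_shortExact (U := U.unop) hS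
      exact this
    obtain ⟨s', hs'⟩ := (AddCommGrpCat.epi_iff_surjective _).mp hepi t
    -- the difference lies in the kernel of `g` over `V`
    have hker : S.g.hom.app V (s - S.X₂.obj.map i s') = 0 := by
      have hnat := S.g.hom.naturality i
      have : S.g.hom.app V (S.X₂.obj.map i s') = S.X₃.obj.map i (S.g.hom.app U s') := by
        have := congrArg (fun φ => φ s') hnat
        simpa using this
      rw [map_sub, this, hs', ht, sub_self]
    obtain ⟨a, ha⟩ := TopCat.Sheaf.sections_exact_of_left_exact (U := V.unop) hS.1 hS.2 _ hker
    obtain ⟨a', ha'⟩ := (AddCommGrpCat.epi_iff_surjective (S.X₁.obj.map i)).mp inferInstance a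
    refine ⟨s' + S.f.hom.app U a', ?_⟩
    have hnat := S.f.hom.naturality i
    have h2 : S.X₂.obj.map i (S.f.hom.app U a') = S.f.hom.app V (S.X₁.obj.map i a') := by
      have := congrArg (fun φ => φ a') hnat
      simpa using this.symm
    rw [map_add, h2, ha']
    have ha2 : S.f.hom.app V a = s - S.X₂.obj.map i s' := ha
    rw [ha2]
    abel

end Groth.Agent.S14410
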