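import Groth.Statements.S14412
import Groth.Agent.Lib.helper21.ExtBC4

set_option autoImplicit false
universe u
open CategoryTheory
open CAlg

namespace Groth.Agent.S14412

/-- Let R be a Noetherian commutative ring, S a multiplicative subset of R, and M, N finitely generated
R-modules. For i ≥ 0 consider the map Ext^i_R(M, N) → Ext^i_{S⁻¹R}(S⁻¹M, S⁻¹N) induced on Ext groups
(computed in the categories of modules) by the exact localization functor M ↦ S⁻¹M. Then this map
exhibits its target as the localization S⁻¹ Ext^i_R(M, N): every element of the target, after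
multiplication by some s ∈ S, is the image of an element of Ext^i_R(M, N), and an element of
Ext^i_R(M, N) maps to zero if and only if it is annihilated by some element of S. (Equivalently, the
induced map identifies S⁻¹Ext^i_R(M, N) with Ext^i_{S⁻¹R}(S⁻¹M, S⁻¹N).) -/
theorem result (R : Type u) [CommRing R] [IsNoetherianRing R]
    (S : Submonoid R) (M N : ModuleCat.{u} R) [Module.Finite R M] [Module.Finite R N] (i : ℕ) :
    (∀ y : Abelian.Ext ((ModuleCat.localizedModuleFunctor.{u} S).obj M) ((ModuleCat.localizedModuleFunctor.{u} S).obj N) i,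
        ∃ (e : Abelian.Ext M N i) (s : S),
          algebraMap R (Localization S) (s : R) • y = (ModuleCat.localizedModuleFunctor.{u} S).mapExtAddHom M N i e) ∧
      (∀ e : Abelian.Ext M N i,
        (ModuleCat.localizedModuleFunctor.{u} S).mapExtAddHom M N i e = 0 ↔ ∃ s : S, (s : R) • e = 0) := by
  have hb : Function.Bijective (Groth.Agent.H21.ExtBC.κ (ModuleCat.localizedModuleFunctor.{u} S)
      (Groth.Agent.H21.ExtBC.semiLin_loc S) M N i) :=
    Groth.Agent.H21.ExtBC.κ_loc_bijective S N i M
  have hloc : IsLocalizedModule S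
      (TensorProduct.mk R (Localization S) (Abelian.Ext M N i) 1) :=
    (isLocalizedModule_iff_isBaseChange S (Localization S) _).mpr
      (TensorProduct.isBaseChange R (Abelian.Ext M N i) (Localization S))
  have hΦ : ∀ e : Abelian.Ext M N i,
      (ModuleCat.localizedModuleFunctor.{u} S).mapExtAddHom M N i e =
        Groth.Agent.H21.ExtBC.κ (ModuleCat.localizedModuleFunctor.{u} S)
          (Groth.Agent.H21.ExtBC.semiLin_loc S) M N i
          (TensorProduct.mk R (Localization S) (Abelian.Ext M N i) 1 e) := by
    intro e
    rw [TensorProduct.mk_apply, Groth.Agent.H21.ExtBC.κ_tmul, one_smul]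
    rfl
  constructor
  · intro y
    obtain ⟨t, rfl⟩ := hb.2 y
    obtain ⟨⟨e, s⟩, hs⟩ := IsLocalizedModule.surj S
      (TensorProduct.mk R (Localization S) (Abelian.Ext M N i) 1) t
    refine ⟨e, s, ?_⟩
    rw [hΦ, ← Groth.Agent.H21.ExtBC.κ_smul, algebraMap_smul]
    exact congrArg _ hs
  · intro e
    have hz := IsLocalizedModule.eq_zero_iff S
      (TensorProduct.mk R (Localization S) (Abelian.Ext M N i) 1) (m := e)
    rw [hΦ]
    constructor
    · intro h
      have h0 : TensorProduct.mk R (Localization S) (Abelian.Ext M N i) 1 e = 0 := by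
        apply hb.1
        rw [h, map_zero]
      obtain ⟨s, hs⟩ := hz.mp h0
      exact ⟨s, hs⟩
    · rintro ⟨s, hs⟩
      rw [hz.mpr ⟨s, hs⟩, map_zero]

end Groth.Agent.S14412
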