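import Groth.Statements.S14416
import Mathlib.RingTheory.LocalRing.Module
import Mathlib.RingTheory.Support
import Mathlib.LinearAlgebra.Dimension.FreeAndStrongRankCondition
import Mathlib.Tactic
-- import your own Groth.Agent.* helpers here

set_option autoImplicit false
universe u
open CAlg

namespace Groth.Agent.S14416

open TensorProduct in
/-- Let B → A be a ring map with A a finitely generated B-module such that for every prime ideal p of B
the fibre κ(p) ⊗_B A has dimension at most one over the residue field κ(p). Then B → A is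
surjective. In scheme language: a finite morphism whose degree at every point of the target is 0 or
1 is a closed immersion. (The published statement assumes the two schemes Noetherian; that
hypothesis plays no role and is dropped here.) -/
theorem result
    (B A : Type u) [CommRing B] [CommRing A] [Algebra B A] [Module.Finite B A]
    (h : ∀ p : PrimeSpectrum B,
      Module.finrank p.asIdeal.ResidueField (p.asIdeal.ResidueField ⊗[B] A) ≤ 1) :
    Function.Surjective (algebraMap B A) := by
  set N : Submodule B A := LinearMap.range (Algebra.linearMap B A) with hN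
  have h1N : (1 : A) ∈ N := ⟨1, by simp⟩
  suffices hNtop : N = ⊤ by
    intro a
    have : a ∈ N := by rw [hNtop]; trivial
    obtain ⟨b, hb⟩ := this
    exact ⟨b, hb⟩
  rw [← Submodule.Quotient.subsingleton_iff, ← Module.support_eq_empty_iff (R := B),
    Set.eq_empty_iff_forall_notMem]
  intro p hp
  rw [Module.mem_support_iff_nontrivial_residueField_tensorProduct] at hp
  rw [← not_subsingleton_iff_nontrivial] at hp
  apply hp
  set k := p.asIdeal.ResidueField
  -- every element of `k ⊗ A` is a multiple of `1 ⊗ 1`
  have key : ∀ w : k ⊗[B] A, ∃ c : k, w = c ⊗ₜ[B] (1 : A) := by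
    intro w
    by_cases h0 : ((1 : k) ⊗ₜ[B] (1 : A)) = 0
    · have : Subsingleton (k ⊗[B] A) := by
        apply subsingleton_of_zero_eq_one
        rw [Algebra.TensorProduct.one_def, h0]
      exact ⟨0, Subsingleton.elim _ _⟩
    · obtain ⟨v, hv⟩ := (finrank_le_one_iff (K := k) (V := k ⊗[B] A)).mp (h p)
      obtain ⟨c0, hc0⟩ := hv ((1 : k) ⊗ₜ[B] (1 : A))
      obtain ⟨c1, hc1⟩ := hv w
      have hc0ne : c0 ≠ 0 := by
        rintro rfl
        rw [zero_smul] at hc0
        exact h0 hc0.symm
      refine ⟨c1 * c0⁻¹, ?_⟩
      have : (c1 * c0⁻¹) ⊗ₜ[B] (1 : A) = (c1 * c0⁻¹) • ((1 : k) ⊗ₜ[B] (1 : A)) := by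
        rw [TensorProduct.smul_tmul', smul_eq_mul, mul_one]
      rw [this, ← hc0, smul_smul, mul_assoc, inv_mul_cancel₀ hc0ne, mul_one, hc1]
  refine ⟨fun x y => ?_⟩
  suffices ∀ t : k ⊗[B] (A ⧸ N), t = 0 by rw [this x, this y]
  intro t
  induction t using TensorProduct.induction_on with
  | zero => rfl
  | add x y hx hy => rw [hx, hy, add_zero]
  | tmul c q =>
    obtain ⟨a, rfl⟩ := N.mkQ_surjective q
    obtain ⟨c', hc'⟩ := key (c ⊗ₜ[B] a)
    have := congrArg (LinearMap.lTensor k N.mkQ) hc'
    rw [LinearMap.lTensor_tmul, LinearMap.lTensor_tmul] at this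
    rw [this]
    have h1 : N.mkQ (1 : A) = 0 := by
      rw [Submodule.mkQ_apply, Submodule.Quotient.mk_eq_zero]; exact h1N
    rw [h1, TensorProduct.tmul_zero]

end Groth.Agent.S14416
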