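import Groth.Statements.S14418
-- import your own Groth.Agent.* helpers here
import Mathlib

set_option autoImplicit false
universe u
open CategoryTheory
open CAlg

namespace Groth.Agent.S14418

/-- Let B → A be a local homomorphism of Noetherian local rings, n the maximal ideal of B, and T an
additive functor from B-modules to A-modules which is B-linear (T applied to multiplication by b ∈ B
is multiplication by the image of b in A), carries finitely generated B-modules to finitely
generated A-modules, and is half-exact on finitely generated modules (every short exact sequence of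
finitely generated B-modules goes to a sequence exact at its middle term). If T(B/n) = 0 then T(N) =
0 for every finitely generated B-module N. (The published statement takes T defined on finitely
generated modules only; here T is defined on all B-modules while every hypothesis and the conclusion
concern finitely generated modules.) -/
theorem result {B A : Type u} [CommRing B] [CommRing A]
    [IsNoetherianRing B] [IsLocalRing B] [IsNoetherianRing A] [IsLocalRing A] [Algebra B A]
    [IsLocalHom (algebraMap B A)] (T : ModuleCat.{u} B ⥤ ModuleCat.{u} A) [T.Additive]
    (hlin : ∀ (N : ModuleCat.{u} B) (b : B),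
      T.map (ModuleCat.ofHom (b • (LinearMap.id : N →ₗ[B] N))) =
        ModuleCat.ofHom (algebraMap B A b • (LinearMap.id : T.obj N →ₗ[A] T.obj N)))
    (hfin : ∀ N : ModuleCat.{u} B, Module.Finite B N → Module.Finite A (T.obj N))
    (hex : ∀ S : ShortComplex (ModuleCat.{u} B), S.ShortExact → Module.Finite B S.X₁ →
      Module.Finite B S.X₂ → Module.Finite B S.X₃ → (S.map T).Exact)
    (h0 : Limits.IsZero (T.obj (ModuleCat.of B (B ⧸ IsLocalRing.maximalIdeal B))))
    (N : ModuleCat.{u} B) [Module.Finite B N] : Limits.IsZero (T.obj N) := by
  classical
  have filt : ∀ (J : Ideal B), (∀ (q : Ideal B) [q.IsPrime], J ≤ q →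
      Limits.IsZero (T.obj (ModuleCat.of B (B ⧸ q)))) →
      ∀ (N : Type u) [AddCommGroup N] [Module B N] [Module.Finite B N],
        J ≤ Module.annihilator B N → Limits.IsZero (T.obj (ModuleCat.of B N)) := by
    intro J H N _ _ hN
    refine IsNoetherianRing.induction_on_isQuotientEquivQuotientPrime B hN
      (motive := fun N _ _ _ => J ≤ Module.annihilator B N →
        Limits.IsZero (T.obj (ModuleCat.of B N))) ?_ ?_ ?_
    · intro N _ _ _ _ _
      apply Functor.map_isZero
      exact ModuleCat.isZero_of_subsingleton _
    · intro N _ _ _ p f hJ
      have hp : J ≤ p.asIdeal := by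
        intro a ha
        have h1 := Module.mem_annihilator.mp (hJ ha) (f.symm 1)
        have h2 : a • (1 : B ⧸ p.asIdeal) = 0 := by
          have := congrArg f h1
          simpa using this
        rw [← Ideal.Quotient.eq_zero_iff_mem]
        simpa [Algebra.smul_def] using h2
      exact Limits.IsZero.of_iso (H p.asIdeal hp) (T.mapIso f.toModuleIso)
    · intro N₁ _ _ i₁ N₂ _ _ i₂ N₃ _ _ i₃ f g hf hg hfg h₁ h₃ hJ
      have hJ₁ : J ≤ Module.annihilator B N₁ := by
        intro a ha
        rw [Module.mem_annihilator]
        intro m
        apply hf
        rw [map_smul, map_zero]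
        exact Module.mem_annihilator.mp (hJ ha) _
      have hJ₃ : J ≤ Module.annihilator B N₃ := by
        intro a ha
        rw [Module.mem_annihilator]
        intro m
        obtain ⟨m, rfl⟩ := hg m
        rw [← map_smul, Module.mem_annihilator.mp (hJ ha) m, map_zero]
      let S : ShortComplex (ModuleCat.{u} B) :=
        ShortComplex.mk (ModuleCat.ofHom f) (ModuleCat.ofHom g) (by
          ext x
          exact hfg.apply_apply_eq_zero x)
      have hS : S.ShortExact := by
        refine ModuleCat.shortComplex_shortExact S ?_ hf hg
        intro x
        exact hfg x
      have hE := hex S hS i₁ i₂ i₃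
      exact hE.isZero_X₂ ((h₁ hJ₁).eq_of_src _ _) ((h₃ hJ₃).eq_of_tgt _ _)
  have primes : ∀ (p : Ideal B) [p.IsPrime],
      Limits.IsZero (T.obj (ModuleCat.of B (B ⧸ p))) := by
    intro p
    induction p using WellFoundedGT.induction with
    | ind p ih =>
      intro hp
      by_cases hpm : p = IsLocalRing.maximalIdeal B
      · subst hpm
        exact h0
      · obtain ⟨f, hfm, hfp⟩ : ∃ f ∈ IsLocalRing.maximalIdeal B, f ∉ p := by
          by_contra hcon
          push Not at hcon
          exact hpm (le_antisymm (IsLocalRing.le_maximalIdeal hp.ne_top) hcon)
        let Np : ModuleCat.{u} B := ModuleCat.of B (B ⧸ p)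
        let μ : Np →ₗ[B] Np := f • (LinearMap.id : Np →ₗ[B] Np)
        have hμ : Function.Injective μ := by
          intro (a : B ⧸ p) (b : B ⧸ p) hab
          have hab' : f • a = f • b := hab
          rw [Algebra.smul_def, Algebra.smul_def] at hab'
          refine mul_left_cancel₀ ?_ hab'
          change Ideal.Quotient.mk p f ≠ 0
          rwa [Ne, Ideal.Quotient.eq_zero_iff_mem]
        let R' : Submodule B (B ⧸ p) := LinearMap.range μ
        let S : ShortComplex (ModuleCat.{u} B) :=
          ShortComplex.mk (ModuleCat.ofHom μ) (ModuleCat.ofHom R'.mkQ) (by
            apply ModuleCat.hom_ext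
            apply LinearMap.ext
            intro x
            change R'.mkQ (μ x) = 0
            rw [Submodule.mkQ_apply, Submodule.Quotient.mk_eq_zero]
            exact LinearMap.mem_range_self μ x)
        have hS : S.ShortExact := by
          refine ModuleCat.shortComplex_shortExact S ?_ hμ R'.mkQ_surjective
          intro x
          change R'.mkQ x = 0 ↔ x ∈ Set.range μ
          rw [Submodule.mkQ_apply, Submodule.Quotient.mk_eq_zero]
          rfl
        have hZ3 : Limits.IsZero (T.obj S.X₃) := by
          refine filt (p ⊔ Ideal.span {f}) ?_ ((B ⧸ p) ⧸ R') ?_
          · intro q _ hq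
            apply ih q
            refine lt_of_le_of_ne (le_sup_left.trans hq) ?_
            rintro rfl
            exact hfp (hq (Ideal.mem_sup_right (Ideal.subset_span rfl)))
          · rw [sup_le_iff, Ideal.span_singleton_le_iff_mem]
            constructor
            · intro a ha
              rw [Module.mem_annihilator]
              intro m
              obtain ⟨y, rfl⟩ := R'.mkQ_surjective m
              obtain ⟨b, rfl⟩ := Ideal.Quotient.mk_surjective y
              rw [← map_smul]
              have : a • (Ideal.Quotient.mk p b) = 0 := by
                rw [Algebra.smul_def]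
                change Ideal.Quotient.mk p a * _ = 0
                rw [Ideal.Quotient.eq_zero_iff_mem.mpr ha, zero_mul]
              rw [this, map_zero]
            · rw [Module.mem_annihilator]
              intro m
              obtain ⟨y, rfl⟩ := R'.mkQ_surjective m
              rw [← map_smul, Submodule.mkQ_apply, Submodule.Quotient.mk_eq_zero]
              exact ⟨y, rfl⟩
        have hfinNp : Module.Finite B Np := by
          change Module.Finite B (B ⧸ p)
          infer_instance
        have hfin3 : Module.Finite B S.X₃ := by
          change Module.Finite B ((B ⧸ p) ⧸ R')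
          infer_instance
        have hE := hex S hS hfinNp hfinNp hfin3
        have hepi : Epi (T.map S.f) := hE.epi_f (hZ3.eq_of_tgt _ _)
        have hl := hlin Np f
        change Epi (T.map (ModuleCat.ofHom μ)) at hepi
        rw [hl, ModuleCat.epi_iff_surjective] at hepi
        haveI := hfin Np hfinNp
        have hmem : algebraMap B A f ∈ IsLocalRing.maximalIdeal A := by
          rw [IsLocalRing.mem_maximalIdeal, mem_nonunits_iff]
          intro hu
          have := isUnit_of_map_unit (algebraMap B A) f hu
          exact (IsLocalRing.mem_maximalIdeal _).mp hfm this
        have hN : (⊤ : Submodule A (T.obj Np)) = ⊥ := by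
          apply Submodule.eq_bot_of_le_smul_of_le_jacobson_bot (IsLocalRing.maximalIdeal A) ⊤
            Module.Finite.fg_top
          · intro x _
            obtain ⟨y, rfl⟩ := hepi x
            change algebraMap B A f • y ∈ _
            exact Submodule.smul_mem_smul hmem trivial
          · exact IsLocalRing.maximalIdeal_le_jacobson _
        rw [ModuleCat.isZero_iff_subsingleton]
        exact subsingleton_of_forall_eq 0 (fun x => by
          have hx : x ∈ (⊤ : Submodule A (T.obj Np)) := trivial
          rw [hN] at hx
          exact (Submodule.mem_bot A).mp hx)
  exact filt ⊥ (fun q _ _ => primes q) N bot_le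

end Groth.Agent.S14418
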