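import Groth.Statements.S14421
-- import your own Groth.Agent.* helpers here

set_option autoImplicit false
universe u v
open CategoryTheory
open HomAlg

namespace Groth.Agent.S14421

open CategoryTheory.Limits HomologicalComplex in
/-- Let φ : K → J be a morphism of cochain complexes of modules over a ring which is surjective in
degree p − 1. Then the map induced on cohomology in degree p is surjective if and only if the map
induced on cocycles in degree p is surjective. (Stated for cochain complexes indexed by the
integers; the published statement is for three-term complexes in degrees p − 1, p, p + 1, which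
embed as such complexes.) -/
theorem result {R : Type u} [Ring R]
    (K J : CochainComplex (ModuleCat.{v} R) ℤ) (φ : K ⟶ J) (p : ℤ) [Epi (φ.f (p - 1))] :
    Epi (HomologicalComplex.homologyMap φ p) ↔ Epi (HomologicalComplex.cyclesMap φ p) := by
  have hnat : K.toCycles (p - 1) p ≫ cyclesMap φ p = φ.f (p - 1) ≫ J.toCycles (p - 1) p := by
    rw [← cancel_mono (J.iCycles p), Category.assoc, Category.assoc, cyclesMap_i, toCycles_i,
      toCycles_i_assoc, φ.comm]
  have hprev : (ComplexShape.up ℤ).prev p = p - 1 := by simp
  constructor
  · intro hH
    apply Preadditive.epi_of_cancel_zero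
    intro T g hg
    -- `g` vanishes on boundaries
    have h1 : J.toCycles (p - 1) p ≫ g = 0 := by
      rw [← cancel_epi (φ.f (p - 1)), ← Category.assoc, ← hnat, Category.assoc, hg, comp_zero,
        comp_zero]
    -- so `g` factors through homology
    let gbar : J.homology p ⟶ T :=
      (J.homologyIsCokernel (p - 1) p hprev).desc (CokernelCofork.ofπ g h1)
    have hgbar : J.homologyπ p ≫ gbar = g :=
      (J.homologyIsCokernel (p - 1) p hprev).fac (CokernelCofork.ofπ g h1) WalkingParallelPair.one
    have h2 : homologyMap φ p ≫ gbar = 0 := by
      rw [← cancel_epi (K.homologyπ p), ← Category.assoc, homologyπ_naturality, Category.assoc,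
        hgbar, hg, comp_zero]
    have h3 : gbar = 0 := by
      rw [← cancel_epi (homologyMap φ p), h2, comp_zero]
    rw [← hgbar, h3, comp_zero]
  · intro hZ
    have : Epi (K.homologyπ p ≫ homologyMap φ p) := by
      rw [homologyπ_naturality]
      exact epi_comp _ _
    exact epi_of_epi (K.homologyπ p) _

end Groth.Agent.S14421
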