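import Groth.Statements.S14423
import Mathlib
import Groth.Agent.Lib.helper24.GrMinRes
import Groth.Agent.Lib.helper21.TorLib

set_option autoImplicit false
universe u
open CategoryTheory
open CAlg

namespace Groth.Agent.S14423

section Aux
open CategoryTheory DirectSum MvPolynomial
open Groth.Agent.Lib.helper24.GrHilb Groth.Agent.Lib.helper24.GrMinRes
open scoped TensorProduct

theorem mem_homog_of_mem_stdGr {k : Type u} [Field k] {r : ℕ} {m : ℕ}
    {s : MvPolynomial (Fin (r + 1)) k}
    (hs : s ∈ GrSyz.stdGr k (Fin (r + 1)) (m : ℤ)) :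
    s ∈ homogeneousSubmodule (Fin (r + 1)) k m := by
  rw [mem_homogeneousSubmodule]
  intro d hd
  have h1 := hs hd
  rw [weight_one_eq] at h1
  have h2 : (Finset.univ.sum ⇑d : ℕ) = m := by exact_mod_cast h1
  rw [← h2, Finsupp.weight_apply, Finsupp.sum_fintype _ _ (fun i => by simp)]
  simp

theorem coe_decompose_smul_nat {k : Type u} [Field k] {r : ℕ} {M : Type u} [AddCommGroup M]
    [Module (MvPolynomial (Fin (r + 1)) k) M] (ℳ : ℕ → AddSubgroup M)
    [SetLike.GradedSMul (MvPolynomial.homogeneousSubmodule (Fin (r + 1)) k) ℳ]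
    [DirectSum.Decomposition ℳ] (s : MvPolynomial (Fin (r + 1)) k) {e : ℕ} {x : M}
    (hx : x ∈ ℳ e) (d : ℕ) :
    (decompose ℳ (s • x) d : M) =
      (decompose (GrSyz.stdGr k (Fin (r + 1))) s ((d : ℤ) - e) : MvPolynomial (Fin (r + 1)) k) • x := by
  classical
  conv_lhs => rw [← sum_support_decompose (GrSyz.stdGr k (Fin (r + 1))) s, Finset.sum_smul]
  rw [decompose_sum, DFinsupp.finsetSum_apply, AddSubmonoidClass.coe_finsetSum]
  have hterm : ∀ i : ℤ, ((decompose ℳ ((decompose (GrSyz.stdGr k (Fin (r + 1))) s i :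
      MvPolynomial (Fin (r + 1)) k) • x)) d : M) =
      if i = (d : ℤ) - e then (decompose (GrSyz.stdGr k (Fin (r + 1))) s i :
        MvPolynomial (Fin (r + 1)) k) • x else 0 := by
    intro i
    rcases lt_or_ge i 0 with hi | hi
    · rw [stdGr_neg hi (decompose (GrSyz.stdGr k (Fin (r + 1))) s i).2]
      simp
    · obtain ⟨m, rfl⟩ := Int.eq_ofNat_of_zero_le hi
      have hmem : (decompose (GrSyz.stdGr k (Fin (r + 1))) s (m : ℤ) :
          MvPolynomial (Fin (r + 1)) k) • x ∈ ℳ (m + e) := by
        have := SetLike.GradedSMul.smul_mem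
          (A := MvPolynomial.homogeneousSubmodule (Fin (r + 1)) k) (B := ℳ)
          (mem_homog_of_mem_stdGr (decompose (GrSyz.stdGr k (Fin (r + 1))) s (m : ℤ)).2) hx
        simpa [vadd_eq_add] using this
      split_ifs with h
      · have : m + e = d := by omega
        rw [← this]
        exact decompose_of_mem_same ℳ hmem
      · have : m + e ≠ d := by omega
        exact decompose_of_mem_ne ℳ hmem this
  simp only [hterm]
  rw [Finset.sum_ite_eq']
  split_ifs with h
  · rfl
  · rw [DFinsupp.notMem_support_iff] at h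
    rw [h]
    simp

noncomputable def grStrOfNat {k : Type u} [Field k] {r : ℕ} {M : Type u} [AddCommGroup M]
    [Module (MvPolynomial (Fin (r + 1)) k) M] (ℳ : ℕ → AddSubgroup M)
    [SetLike.GradedSMul (MvPolynomial.homogeneousSubmodule (Fin (r + 1)) k) ℳ]
    [DirectSum.Decomposition ℳ] : GrStr k r M where
  P d y := (0 ≤ d ∧ y ∈ ℳ d.toNat) ∨ (d < 0 ∧ y = 0)
  π d := if 0 ≤ d then
      { toFun := fun y => (decompose ℳ y d.toNat : M)
        map_zero' := by simp
        map_add' := fun y z => by simp [decompose_add] }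
    else 0
  π_mem d y := by
    by_cases h : 0 ≤ d
    · left
      refine ⟨h, ?_⟩
      rw [if_pos h]
      exact (decompose ℳ y d.toNat).2
    · right
      refine ⟨not_le.mp h, ?_⟩
      rw [if_neg h]
      rfl
  sum_π y := by
    classical
    refine ⟨(decompose ℳ y).support.image (fun e : ℕ => (e : ℤ)), ?_⟩
    rw [Finset.sum_image (fun a _ b _ h => by exact_mod_cast h)]
    conv_lhs => rw [← sum_support_decompose ℳ y]
    refine Finset.sum_congr rfl fun e _ => ?_
    rw [if_pos (Int.natCast_nonneg e)]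
    simp
  π_smul d j s x hx := by
    rcases hx with ⟨hj, hx⟩ | ⟨hj, rfl⟩
    · by_cases h : 0 ≤ d
      · rw [if_pos h]
        change (decompose ℳ (s • x) d.toNat : M) = _
        rw [coe_decompose_smul_nat ℳ s hx d.toNat, Int.toNat_of_nonneg h, Int.toNat_of_nonneg hj]
      · rw [if_neg h]
        have hneg : d - j < 0 := by omega
        rw [stdGr_neg hneg (decompose (GrSyz.stdGr k (Fin (r + 1))) s (d - j)).2]
        simp
    · rw [smul_zero, smul_zero, map_zero]

theorem irrel_le_ker {k : Type u} [Field k] {r : ℕ} :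
    (GrSyz.irrel (GrSyz.stdGr k (Fin (r + 1)))).toIdeal ≤
      RingHom.ker (MvPolynomial.constantCoeff : MvPolynomial (Fin (r + 1)) k →+* k) := by
  change Ideal.span _ ≤ _
  rw [Ideal.span_le]
  rintro s ⟨i, hi, hs⟩
  change s ∈ RingHom.ker _
  rw [RingHom.mem_ker, MvPolynomial.constantCoeff_eq]
  by_contra hne
  have h1 := hs hne
  rw [weight_one_eq] at h1
  simp at h1
  omega

theorem main' (k : Type u) [Field k] (n : ℕ)
    (M : Type u) [AddCommGroup M] [Module (MvPolynomial (Fin (n + 1)) k) M]
    [Module.Finite (MvPolynomial (Fin (n + 1)) k) M]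
    (ℳ : ℕ → AddSubgroup M)
    [SetLike.GradedSMul (MvPolynomial.homogeneousSubmodule (Fin (n + 1)) k) ℳ]
    [DirectSum.Decomposition ℳ]
    (h : Limits.IsZero (((Tor (ModuleCat.{u} (MvPolynomial (Fin (n + 1)) k)) 1).obj
      (ModuleCat.of (MvPolynomial (Fin (n + 1)) k) M)).obj
      (ModuleCat.of (MvPolynomial (Fin (n + 1)) k)
        (MvPolynomial (Fin (n + 1)) k ⧸
          RingHom.ker (MvPolynomial.constantCoeff : MvPolynomial (Fin (n + 1)) k →+* k))))) :
    ∃ (ι : Type u) (b : Module.Basis ι (MvPolynomial (Fin (n + 1)) k) M),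
      ∀ i, SetLike.IsHomogeneousElem ℳ (b i) := by
  classical
  let G := grStrOfNat (k := k) (r := n) ℳ
  obtain ⟨m, a, x, hP, hsurj, hrel, hproj⟩ := exists_min_gens G
  set I : Ideal (MvPolynomial (Fin (n + 1)) k) :=
    RingHom.ker (MvPolynomial.constantCoeff : MvPolynomial (Fin (n + 1)) k →+* k) with hI
  set φ := Fintype.linearCombination (MvPolynomial (Fin (n + 1)) k) x with hφ
  let K : Submodule (MvPolynomial (Fin (n + 1)) k) (Fin m → MvPolynomial (Fin (n + 1)) k) :=
    LinearMap.ker φ
  have hK : Homog a K := fun v hv d => by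
    rw [LinearMap.mem_ker, hφ, Fintype.linearCombination_apply] at hv ⊢
    exact hproj v d hv
  have hKI : ∀ v ∈ K, ∀ b, v b ∈ I := fun v hv b => by
    rw [LinearMap.mem_ker, hφ, Fintype.linearCombination_apply] at hv
    exact irrel_le_ker (hrel v hv b)
  have hex : Function.Exact K.subtype φ := LinearMap.exact_subtype_ker_map φ
  have hinj := Groth.Agent.H21.TorLib.injective_rTensor_of_isZero _
    (Groth.Agent.H21.TorLib.linSES_shortExact K.subtype φ K.injective_subtype hex hsurj)
    (ModuleCat.of (MvPolynomial (Fin (n + 1)) k) (MvPolynomial (Fin (n + 1)) k ⧸ I)) h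
  change Function.Injective (K.subtype.rTensor (MvPolynomial (Fin (n + 1)) k ⧸ I)) at hinj
  have hzero : ∀ t : K ⊗[MvPolynomial (Fin (n + 1)) k] (MvPolynomial (Fin (n + 1)) k ⧸ I),
      K.subtype.rTensor (MvPolynomial (Fin (n + 1)) k ⧸ I) t = 0 := by
    intro t
    induction t using TensorProduct.induction_on with
    | zero => rw [map_zero]
    | add t₁ t₂ h₁ h₂ => rw [map_add, h₁, h₂, add_zero]
    | tmul u q =>
      rw [LinearMap.rTensor_tmul, Submodule.subtype_apply]
      have hu : (u : Fin m → MvPolynomial (Fin (n + 1)) k) =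
          ∑ b, (u : Fin m → MvPolynomial (Fin (n + 1)) k) b •
            (Pi.single b 1 : Fin m → MvPolynomial (Fin (n + 1)) k) := by
        funext c
        simp [Finset.sum_apply, Pi.single_apply]
      rw [hu, TensorProduct.sum_tmul]
      refine Finset.sum_eq_zero fun b _ => ?_
      rw [TensorProduct.smul_tmul]
      have : (u : Fin m → MvPolynomial (Fin (n + 1)) k) b • q = 0 := by
        obtain ⟨q', rfl⟩ := Ideal.Quotient.mk_surjective q
        rw [Algebra.smul_def, Ideal.Quotient.algebraMap_eq, ← map_mul,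
          Ideal.Quotient.eq_zero_iff_mem]
        exact Ideal.mul_mem_right _ _ (hKI u u.2 b)
      rw [this, TensorProduct.tmul_zero]
  have hsub : Subsingleton (K ⊗[MvPolynomial (Fin (n + 1)) k] (MvPolynomial (Fin (n + 1)) k ⧸ I)) :=
    ⟨fun t₁ t₂ => hinj (by rw [hzero, hzero])⟩
  have htop : (I • ⊤ : Submodule (MvPolynomial (Fin (n + 1)) k) K) = ⊤ := by
    haveI : Subsingleton (K ⧸ (I • ⊤ : Submodule (MvPolynomial (Fin (n + 1)) k) K)) :=
      (TensorProduct.tensorQuotEquivQuotSMul K I).symm.injective.subsingleton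
    exact Submodule.Quotient.subsingleton_iff.mp this
  -- graded Nakayama: K = 0
  let GK := GrStr.ofSub a K hK
  haveI : Module.Finite (MvPolynomial (Fin (n + 1)) k) K := inferInstance
  obtain ⟨m', a', y, -, hsurj', hrel', -⟩ := exists_min_gens GK
  have hm' : m' = 0 := by
    by_contra hne
    obtain ⟨m'', rfl⟩ := Nat.exists_eq_succ_of_ne_zero hne
    let b₀ : Fin (m'' + 1) := 0
    have hspan : Submodule.span (MvPolynomial (Fin (n + 1)) k) (Set.range y) = ⊤ := by
      rw [← Fintype.range_linearCombination, LinearMap.range_eq_top]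
      exact hsurj'
    have hy : y b₀ ∈ (I • Submodule.span (MvPolynomial (Fin (n + 1)) k) (Set.range y) :
        Submodule (MvPolynomial (Fin (n + 1)) k) K) := by
      rw [hspan, htop]; trivial
    rw [Submodule.mem_ideal_smul_span_iff_exists_sum] at hy
    obtain ⟨c, hc, hsum⟩ := hy
    have hrel0 : ∑ b, (c b - Pi.single (M := fun _ => MvPolynomial (Fin (n + 1)) k) b₀ 1 b) • y b
        = 0 := by
      rw [Finsupp.sum_fintype _ _ (fun i => by simp)] at hsum
      have h3 : ∀ b, (c b - Pi.single (M := fun _ => MvPolynomial (Fin (n + 1)) k) b₀ 1 b) • y b =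
          c b • y b - (if b = b₀ then y b₀ else 0) := by
        intro b
        by_cases hb : b = b₀
        · subst hb
          rw [Pi.single_eq_same, if_pos rfl]
          have := sub_smul (c b₀) 1 (y b₀)
          rw [one_smul] at this
          exact this
        · rw [Pi.single_eq_of_ne hb, if_neg hb, sub_zero, sub_zero]
      rw [Finset.sum_congr rfl (fun b _ => h3 b), Finset.sum_sub_distrib, hsum,
        Finset.sum_ite_eq' Finset.univ b₀]
      simp
    have h1 := irrel_le_ker (hrel' _ hrel0 b₀)
    rw [Pi.single_eq_same] at h1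
    have h2 : (1 : MvPolynomial (Fin (n + 1)) k) ∈ I := by
      have := Ideal.sub_mem _ (hc b₀) h1
      simpa using this
    rw [hI, RingHom.mem_ker, map_one] at h2
    exact one_ne_zero h2
  subst hm'
  have hKbot : K = ⊥ := by
    rw [eq_bot_iff]
    intro v hv
    obtain ⟨c, hc⟩ := hsurj' ⟨v, hv⟩
    rw [Fintype.linearCombination_apply, Finset.univ_eq_empty, Finset.sum_empty] at hc
    rw [Submodule.mem_bot]
    have := congrArg Subtype.val hc
    exact this.symm
  have hφinj : Function.Injective φ := LinearMap.ker_eq_bot.mp hKbot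
  let e : (Fin m → MvPolynomial (Fin (n + 1)) k) ≃ₗ[MvPolynomial (Fin (n + 1)) k] M :=
    LinearEquiv.ofBijective φ ⟨hφinj, hsurj⟩
  let B : Module.Basis (Fin m) (MvPolynomial (Fin (n + 1)) k) M := Module.Basis.ofEquivFun e.symm
  refine ⟨ULift.{u} (Fin m), B.reindex Equiv.ulift.symm, ?_⟩
  intro i
  have hB : B.reindex Equiv.ulift.symm i = x i.down := by
    rw [Module.Basis.reindex_apply, Module.Basis.coe_ofEquivFun]
    simp only [LinearEquiv.symm_symm]
    change φ (Pi.single i.down 1) = x i.down
    rw [hφ, Fintype.linearCombination_apply_single, one_smul]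
  rw [hB]
  rcases hP i.down with ⟨-, hmem⟩ | ⟨-, h0⟩
  · exact ⟨_, hmem⟩
  · exact ⟨0, by rw [h0]; exact zero_mem _⟩

end Aux

/-- Graded freeness criterion: let k be a field, S = k[x_0, …, x_n] with its standard grading by degree,
and M a finitely generated graded S-module. If Tor_1^S(M, k) = 0, where k = S/S_+ (S modulo the
ideal of polynomials with zero constant term) and Tor_1^S(M, ·) is the first left derived functor of
M ⊗_S ·, then M is free with a basis of homogeneous elements, i.e. M is isomorphic as a graded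
module to a finite direct sum of shifted copies S(−d_i). (Here the module is graded in non-negative
degrees; the published statement allows any integer degrees.) -/
theorem result (k : Type u) [Field k] (n : ℕ)
    (M : Type u) [AddCommGroup M] [Module (MvPolynomial (Fin (n + 1)) k) M]
    [Module.Finite (MvPolynomial (Fin (n + 1)) k) M]
    (ℳ : ℕ → AddSubgroup M)
    [SetLike.GradedSMul (MvPolynomial.homogeneousSubmodule (Fin (n + 1)) k) ℳ]
    [DirectSum.Decomposition ℳ]
    (h : Limits.IsZero (((Tor (ModuleCat.{u} (MvPolynomial (Fin (n + 1)) k)) 1).obj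
      (ModuleCat.of (MvPolynomial (Fin (n + 1)) k) M)).obj
      (ModuleCat.of (MvPolynomial (Fin (n + 1)) k)
        (MvPolynomial (Fin (n + 1)) k ⧸
          RingHom.ker (MvPolynomial.constantCoeff : MvPolynomial (Fin (n + 1)) k →+* k))))) :
    ∃ (ι : Type u) (b : Module.Basis ι (MvPolynomial (Fin (n + 1)) k) M),
      ∀ i, SetLike.IsHomogeneousElem ℳ (b i) := by
  exact main' k n M ℳ h

end Groth.Agent.S14423
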