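import Groth.Statements.S14425
import Groth.Agent.Lib.helper21.Kos7
import Groth.Agent.Lib.helper21.Kos8

set_option autoImplicit false
universe u
open LocCoh

namespace Groth.Agent.S14425

/-- Let (R, m) be a Noetherian local ring, M a nonzero finitely generated R-module and x_1, …, x_n
elements of m generating the ideal a. Then depth(a, M) = n if and only if x_1, …, x_n is an
M-regular sequence (each x_i a non-zero-divisor on M/(x_1, …, x_{i-1})M; the condition (x)M ≠ M is
automatic here). -/
theorem result {R : Type u} [CommRing R] [IsNoetherianRing R] [IsLocalRing R]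
    {M : Type u} [AddCommGroup M] [Module R M] [Module.Finite R M] [Nontrivial M]
    (xs : List R) (hxs : ∀ x ∈ xs, x ∈ IsLocalRing.maximalIdeal R) :
    LocCoh.idealDepth (Ideal.span {x | x ∈ xs}) M = xs.length ↔ RingTheory.Sequence.IsWeaklyRegular M xs := by
  have hIM := Groth.Agent.H21.Kos.span_smul_top_ne_top xs hxs M
  obtain ⟨r, hr⟩ := Groth.Agent.Lib.helper9.Depth.exists_nat_eq_idealDepth M hIM
  obtain ⟨hz, hnz⟩ := Groth.Agent.H21.Kos.depth_sensitivity xs hxs r M hr
  have hle : r ≤ xs.length := by
    by_contra hlt
    rw [not_le] at hlt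
    apply hnz
    exact Groth.Agent.H21.Kos.isZero_homology_of_pos _ _ _ (by omega)
  constructor
  · intro h
    rw [hr] at h
    have hrn : r = xs.length := by exact_mod_cast h
    have hjac : ∀ x ∈ xs, x ∈ (⊥ : Ideal R).jacobson := fun x hx =>
      IsLocalRing.maximalIdeal_le_jacobson _ (hxs x hx)
    have hrev := Groth.Agent.H21.Kos.weaklyRegular_reverse_of_acyclic M xs hjac (by
      intro i hi
      have := hz (i + xs.length) (by rw [hrn]; omega)
      rwa [add_sub_cancel_right] at this)
    haveI : IsNoetherian R M := isNoetherian_of_isNoetherianRing_of_finite R M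
    exact IsLocalRing.isWeaklyRegular_of_perm_of_subset_maximalIdeal hrev
      (List.reverse_perm xs) (fun x hx => hxs x (List.mem_reverse.1 hx))
  · intro h
    have h1 := Groth.Agent.Lib.helper9.Depth.length_le_idealDepth (I := Ideal.span {x | x ∈ xs})
      (M := M) h (fun x hx => Ideal.subset_span hx)
    rw [hr] at h1 ⊢
    have h2 : xs.length ≤ r := by exact_mod_cast h1
    have : r = xs.length := le_antisymm hle h2
    rw [this]

end Groth.Agent.S14425
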