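import Groth.Statements.S14427
import Mathlib
import Groth.Agent.Lib.helper21.PlaneForms

set_option autoImplicit false
universe u
open CAlgX

namespace Groth.Agent.S14427

open MvPolynomial Groth.Agent.H21

/-- dimension of the space of forms of degree `d` in three variables -/
theorem finrank_homogeneous (k : Type u) [Field k] (d : ℕ) :
    Module.finrank k (homogeneousSubmodule (Fin 3) k d) = Nat.choose (d + 2) d := by
  classical
  have h1 : homogeneousSubmodule (Fin 3) k d = restrictSupport k {m : Fin 3 →₀ ℕ | m.degree = d} :=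
    homogeneousSubmodule_eq_finsupp_supported (Fin 3) k d
  rw [h1, Module.finrank_eq_nat_card_basis (basisRestrictSupport k _)]
  have h2 : {m : Fin 3 →₀ ℕ | m.degree = d} = ↑((Finset.univ : Finset (Fin 3)).finsuppAntidiag d) := by
    ext m
    simp [Finsupp.degree_eq_sum]
  rw [h2, Nat.card_coe_set_eq, Set.ncard_coe_finset, Finset.card_finsuppAntidiag_nat_eq_choose]
  simp only [Finset.card_univ, Fintype.card_fin]
  congr 1
  omega

/-- for two independent vectors there is a linear form vanishing at the second but not the first -/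
theorem exists_form_pair {k : Type u} [Field k] (v w : Fin 3 → k) (h : LinearIndependent k ![v, w]) :
    ∃ ℓ : MvPolynomial (Fin 3) k, ℓ.IsHomogeneous 1 ∧ aeval w ℓ = 0 ∧ aeval v ℓ ≠ 0 := by
  have hv : v ∉ Submodule.span k {w} := by
    intro hmem
    obtain ⟨c, hc⟩ := Submodule.mem_span_singleton.mp hmem
    have := LinearIndependent.pair_iff.mp h 1 (-c)
      (by rw [one_smul, neg_smul, hc, add_neg_cancel])
    exact one_ne_zero this.1
  obtain ⟨ℓ, h1, h2, h3⟩ := exists_linForm_of_notMem _ v hv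
  exact ⟨ℓ, h1, h2 w (Submodule.mem_span_singleton_self w), h3⟩

theorem result (k : Type u) [Field k] (n : ℕ) (hn : 3 ≤ n)
    (Λ : Finset (Fin 3 → k)) (hcard : Λ.card = n) (h0 : ∀ v ∈ Λ, v ≠ 0)
    (hdist : ∀ v ∈ Λ, ∀ w ∈ Λ, v ≠ w → LinearIndependent k ![v, w]) :
    Module.finrank k ↥(MvPolynomial.homogeneousSubmodule (Fin 3) k (n - 1) ⊓ ⨅ v ∈ Λ, LinearMap.ker (MvPolynomial.aeval v).toLinearMap) = Nat.choose (n + 1) 2 - n := by
  classical
  -- choose the forms
  have hex : ∀ v w : Fin 3 → k, ∃ ℓ : MvPolynomial (Fin 3) k, ℓ.IsHomogeneous 1 ∧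
      (v ∈ Λ → w ∈ Λ → v ≠ w → aeval w ℓ = 0 ∧ aeval v ℓ ≠ 0) := by
    intro v w
    by_cases h : v ∈ Λ ∧ w ∈ Λ ∧ v ≠ w
    · obtain ⟨ℓ, h1, h2, h3⟩ := exists_form_pair v w (hdist v h.1 w h.2.1 h.2.2)
      exact ⟨ℓ, h1, fun _ _ _ => ⟨h2, h3⟩⟩
    · exact ⟨X 0, isHomogeneous_X k 0, fun a b c => absurd ⟨a, b, c⟩ h⟩
  choose ℓ hℓ1 hℓ2 using hex
  -- the separating forms
  let P : (Fin 3 → k) → MvPolynomial (Fin 3) k := fun v => ∏ w ∈ Λ.erase v, ℓ v w
  have hP1 : ∀ v ∈ Λ, (P v).IsHomogeneous (n - 1) := by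
    intro v hv
    have := IsHomogeneous.prod (Λ.erase v) (fun w => ℓ v w) (fun _ => 1) (fun w _ => hℓ1 v w)
    simpa [Finset.card_erase_of_mem hv, hcard] using this
  have hP2 : ∀ v ∈ Λ, ∀ u ∈ Λ, u ≠ v → aeval u (P v) = 0 := by
    intro v hv u hu huv
    simp only [P, map_prod]
    exact Finset.prod_eq_zero (Finset.mem_erase.mpr ⟨huv, hu⟩) ((hℓ2 v u hv hu (Ne.symm huv)).1)
  have hP3 : ∀ v ∈ Λ, aeval v (P v) ≠ 0 := by
    intro v hv
    simp only [P, map_prod]
    exact Finset.prod_ne_zero_iff.mpr (fun w hw =>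
      (hℓ2 v w hv (Finset.mem_of_mem_erase hw) (Finset.ne_of_mem_erase hw).symm).2)
  -- evaluation map
  let E : MvPolynomial (Fin 3) k →ₗ[k] (Λ → k) :=
    LinearMap.pi (fun v => (aeval (v : Fin 3 → k)).toLinearMap)
  have hK : (⨅ v ∈ Λ, LinearMap.ker (aeval v).toLinearMap) = LinearMap.ker E := by
    ext p
    simp [E, LinearMap.mem_ker, funext_iff, Submodule.mem_iInf]
  rw [hK]
  set H := homogeneousSubmodule (Fin 3) k (n - 1) with hH
  have : Module.Finite k H := Module.Finite.iff_fg.mpr (homogeneousSubmodule_fg (σ := Fin 3) k _)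
  let E' : H →ₗ[k] (Λ → k) := E.domRestrict H
  have hsurj : Function.Surjective E' := by
    intro f
    refine ⟨⟨∑ v ∈ Λ.attach, (f v / aeval (v : Fin 3 → k) (P v)) • P v, ?_⟩, ?_⟩
    · exact Submodule.sum_mem _ (fun v _ => Submodule.smul_mem _ _ (hP1 v v.2))
    · ext u
      simp only [E', E, LinearMap.domRestrict_apply, LinearMap.pi_apply, AlgHom.toLinearMap_apply,
        map_sum, map_smul]
      rw [Finset.sum_eq_single u]
      · rw [smul_eq_mul, div_mul_cancel₀ _ (hP3 u u.2)]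
      · intro v _ hvu
        rw [hP2 v v.2 u u.2 (fun h => hvu (Subtype.ext h.symm)), smul_zero]
      · intro h; exact absurd (Finset.mem_attach _ _) h
  have hrn := LinearMap.finrank_range_add_finrank_ker E'
  rw [LinearMap.range_eq_top.mpr hsurj, finrank_top, Module.finrank_fintype_fun_eq_card,
    Fintype.card_coe, hcard, finrank_homogeneous] at hrn
  -- identify ker E' with H ⊓ ker E
  have hker : LinearMap.ker E' = Submodule.comap H.subtype (H ⊓ LinearMap.ker E) := by
    ext p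
    simp [E', LinearMap.mem_ker]
  have e := Submodule.comapSubtypeEquivOfLe (inf_le_left : H ⊓ LinearMap.ker E ≤ H)
  rw [hker, e.finrank_eq] at hrn
  have hch : (n - 1 + 2).choose (n - 1) = (n + 1).choose 2 := by
    have : n - 1 + 2 = n + 1 := by omega
    rw [this]
    have h2 := Nat.choose_symm (show 2 ≤ n + 1 by omega)
    rw [← h2]
    congr 1
  omega

end Groth.Agent.S14427
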