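import Groth.Statements.S14428
import Mathlib
import Groth.Agent.Lib.helper21.PlaneForms

set_option autoImplicit false
universe u
open CAlgX

namespace Groth.Agent.S14428

open MvPolynomial Groth.Agent.H21

theorem aux (k : Type u) [Field k] (n : ℕ) (hn : 3 ≤ n)
    (Λ Λ' : Finset (Fin 3 → k)) (hcard' : Λ'.card = n)
    (hline' : ¬ ∃ ℓ : (Fin 3 → k) →ₗ[k] k, ℓ ≠ 0 ∧ ∀ v ∈ Λ', ℓ v = 0)
    (hsub : (MvPolynomial.homogeneousSubmodule (Fin 3) k (n - 1) ⊓
        ⨅ v ∈ Λ', LinearMap.ker (MvPolynomial.aeval v).toLinearMap) ≤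
      (MvPolynomial.homogeneousSubmodule (Fin 3) k (n - 1) ⊓
        ⨅ v ∈ Λ, LinearMap.ker (MvPolynomial.aeval v).toLinearMap)) :
    ∀ v ∈ Λ, ∃ w ∈ Λ', ∃ c : k, v = c • w := by
  classical
  intro v hv
  by_contra hcon
  push Not at hcon
  have hvspan : ∀ w ∈ Λ', v ∉ Submodule.span k {w} := by
    intro w hw hmem
    obtain ⟨c, hc⟩ := Submodule.mem_span_singleton.mp hmem
    exact hcon w hw c hc.symm
  have hne : Λ'.Nonempty := by
    rw [← Finset.card_pos]; omega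
  obtain ⟨w1, hw1⟩ := hne
  have hlt : Submodule.span k {v, w1} < ⊤ := by
    rw [lt_top_iff_ne_top]
    intro htop
    have h1 : Module.finrank k (Submodule.span k ({v, w1} : Set (Fin 3 → k))) ≤ 2 := by
      have := finrank_span_finset_le_card (R := k) ({v, w1} : Finset (Fin 3 → k))
      have h2 : ({v, w1} : Finset (Fin 3 → k)).card ≤ 2 := Finset.card_le_two
      rw [Set.finrank] at this
      have h3 : ((({v, w1} : Finset (Fin 3 → k)) : Set (Fin 3 → k))) = {v, w1} := by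
        push_cast; rfl
      rw [h3] at this
      omega
    rw [htop, finrank_top, Module.finrank_fintype_fun_eq_card, Fintype.card_fin] at h1
    omega
  obtain ⟨f, hf0, hfle⟩ := Submodule.exists_le_ker_of_lt_top _ hlt
  have hfv : f v = 0 := hfle (Submodule.subset_span (by simp))
  have hfw1 : f w1 = 0 := hfle (Submodule.subset_span (by simp))
  have hw2 : ∃ w2 ∈ Λ', f w2 ≠ 0 := by
    by_contra h
    push Not at h
    exact hline' ⟨f, hf0, h⟩
  obtain ⟨w2, hw2, hfw2⟩ := hw2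
  have hw12 : w2 ≠ w1 := by
    intro h; rw [h] at hfw2; exact hfw2 hfw1
  have hv12 : v ∉ Submodule.span k {w1, w2} := by
    intro hmem
    obtain ⟨c, d, hcd⟩ := Submodule.mem_span_pair.mp hmem
    have := congrArg f hcd
    rw [map_add, map_smul, map_smul, hfw1, hfv, smul_zero, zero_add, smul_eq_mul,
      mul_eq_zero] at this
    rcases this with h | h
    · rw [h, zero_smul, add_zero] at hcd
      exact hcon w1 hw1 c hcd.symm
    · exact hfw2 h
  obtain ⟨ℓ12, h12a, h12b, h12c⟩ := exists_linForm_of_notMem _ v hv12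
  have hex : ∀ w : Fin 3 → k, ∃ ℓ : MvPolynomial (Fin 3) k, ℓ.IsHomogeneous 1 ∧
      (w ∈ Λ' → aeval w ℓ = 0 ∧ aeval v ℓ ≠ 0) := by
    intro w
    by_cases h : w ∈ Λ'
    · obtain ⟨ℓ, h1, h2, h3⟩ := exists_linForm_of_notMem _ v (hvspan w h)
      exact ⟨ℓ, h1, fun _ => ⟨h2 w (Submodule.mem_span_singleton_self w), h3⟩⟩
    · exact ⟨X 0, isHomogeneous_X k 0, fun a => absurd a h⟩
  choose ℓ hℓ1 hℓ2 using hex
  let F : MvPolynomial (Fin 3) k := ℓ12 * ∏ w ∈ (Λ'.erase w1).erase w2, ℓ w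
  have hF1 : F.IsHomogeneous (n - 1) := by
    have h1 := IsHomogeneous.prod ((Λ'.erase w1).erase w2) (fun w => ℓ w) (fun _ => 1)
      (fun w _ => hℓ1 w)
    have h2 := h12a.mul h1
    have hc : ((Λ'.erase w1).erase w2).card = n - 2 := by
      rw [Finset.card_erase_of_mem (Finset.mem_erase.mpr ⟨hw12, hw2⟩),
        Finset.card_erase_of_mem hw1, hcard']
      omega
    have h3 : 1 + ∑ i ∈ (Λ'.erase w1).erase w2, 1 = n - 1 := by
      rw [Finset.sum_const, hc, smul_eq_mul, mul_one]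
      omega
    rw [h3] at h2
    exact h2
  have hF2 : ∀ u ∈ Λ', aeval u F = 0 := by
    intro u hu
    simp only [F, map_mul, map_prod]
    by_cases h1 : u = w1
    · rw [h1, h12b w1 (Submodule.subset_span (by simp)), zero_mul]
    by_cases h2 : u = w2
    · rw [h2, h12b w2 (Submodule.subset_span (by simp)), zero_mul]
    · rw [Finset.prod_eq_zero (Finset.mem_erase.mpr ⟨h2, Finset.mem_erase.mpr ⟨h1, hu⟩⟩)
        (hℓ2 u hu).1, mul_zero]
  have hF3 : aeval v F ≠ 0 := by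
    simp only [F, map_mul, map_prod]
    refine mul_ne_zero h12c (Finset.prod_ne_zero_iff.mpr ?_)
    intro w hw
    exact (hℓ2 w (Finset.mem_of_mem_erase (Finset.mem_of_mem_erase hw))).2
  have hmem : F ∈ MvPolynomial.homogeneousSubmodule (Fin 3) k (n - 1) ⊓
        ⨅ v ∈ Λ', LinearMap.ker (MvPolynomial.aeval v).toLinearMap := by
    simp only [Submodule.mem_inf, Submodule.mem_iInf, LinearMap.mem_ker]
    exact ⟨hF1, hF2⟩
  have := hsub hmem
  simp only [Submodule.mem_inf, Submodule.mem_iInf, LinearMap.mem_ker] at this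
  exact hF3 (this.2 v hv)

theorem result (k : Type u) [Field k] (n : ℕ) (hn : 3 ≤ n)
    (Λ Λ' : Finset (Fin 3 → k)) (hcard : Λ.card = n) (hcard' : Λ'.card = n)
    (h0 : ∀ v ∈ Λ, v ≠ 0) (h0' : ∀ v ∈ Λ', v ≠ 0)
    (hdist : ∀ v ∈ Λ, ∀ w ∈ Λ, v ≠ w → LinearIndependent k ![v, w])
    (hdist' : ∀ v ∈ Λ', ∀ w ∈ Λ', v ≠ w → LinearIndependent k ![v, w])
    (hline : ¬ ∃ ℓ : (Fin 3 → k) →ₗ[k] k, ℓ ≠ 0 ∧ ∀ v ∈ Λ, ℓ v = 0)
    (hline' : ¬ ∃ ℓ : (Fin 3 → k) →ₗ[k] k, ℓ ≠ 0 ∧ ∀ v ∈ Λ', ℓ v = 0)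
    (heq : (MvPolynomial.homogeneousSubmodule (Fin 3) k (n - 1) ⊓ ⨅ v ∈ Λ, LinearMap.ker (MvPolynomial.aeval v).toLinearMap) = (MvPolynomial.homogeneousSubmodule (Fin 3) k (n - 1) ⊓ ⨅ v ∈ Λ', LinearMap.ker (MvPolynomial.aeval v).toLinearMap)) :
    (∀ v ∈ Λ, ∃ w ∈ Λ', ∃ c : k, v = c • w) ∧ (∀ w ∈ Λ', ∃ v ∈ Λ, ∃ c : k, w = c • v) :=
  ⟨aux k n hn Λ Λ' hcard' hline' heq.ge, aux k n hn Λ' Λ hcard hline heq.le⟩

end Groth.Agent.S14428
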