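import Groth.Statements.S14435
import Mathlib
import Groth.Agent.S5150
import Groth.Agent.Lib.helper21.Mat225

set_option autoImplicit false
universe u
open LocCoh

namespace Groth.Agent.S14435

open CategoryTheory Abelian RingTheory.Sequence Groth.Agent.H21

section
variable {A B : Type u} [CommRing A] [IsNoetherianRing A] [CommRing B] [Algebra A B]
  (a : Ideal A) (M : Type u) [AddCommGroup M] [Module B M] [Module A M] [IsScalarTower A B M]
  [Module.Finite A M]

theorem smul_top_iff : a • (⊤ : Submodule A M) = ⊤ ↔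
    (a.map (algebraMap A B)) • (⊤ : Submodule B M) = ⊤ := by
  constructor
  · intro h
    rw [eq_top_iff]
    intro x _
    exact mem_map_smul_of_mem_smul a (by rw [h]; exact Submodule.mem_top)
  · intro h
    rw [eq_top_iff]
    intro x _
    exact mem_smul_of_mem_map_smul a (by rw [h]; exact Submodule.mem_top)

/-- a weakly regular sequence in `a` shorter than some weakly regular sequence in `aB` can be
extended -/
theorem extend (rsA : List A) (hWR : IsWeaklyRegular M rsA) (hmem : ∀ r ∈ rsA, r ∈ a)
    (rs' : List B) (hWR' : IsWeaklyRegular M rs') (hmem' : ∀ r ∈ rs', r ∈ a.map (algebraMap A B))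
    (hlt : rsA.length < rs'.length) : ∃ r ∈ a, IsWeaklyRegular M (rsA ++ [r]) := by
  by_contra hcon
  push Not at hcon
  set PA : Submodule A M := Ideal.ofList rsA • ⊤ with hPA
  set rsB : List B := rsA.map (algebraMap A B) with hrsB
  set PB : Submodule B M := Ideal.ofList rsB • ⊤ with hPB
  have hPAB : ∀ x : M, x ∈ PA ↔ x ∈ PB := by
    intro x
    rw [hPB, hrsB, ← Ideal.map_ofList]
    exact ⟨fun h => mem_map_smul_of_mem_smul _ h, fun h => mem_smul_of_mem_map_smul _ h⟩
  -- no element of `a` is regular on `M / PA`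
  have hnoreg : ¬ ∃ r ∈ Module.annihilator A (A ⧸ a), IsSMulRegular (M ⧸ PA) r := by
    rintro ⟨r, hr, hreg⟩
    rw [Ideal.annihilator_quotient] at hr
    apply hcon r hr
    rw [isWeaklyRegular_append_iff, isWeaklyRegular_singleton_iff]
    exact ⟨hWR, hreg⟩
  have hns : ¬ Subsingleton ((A ⧸ a) →ₗ[A] M ⧸ PA) := by
    rw [IsSMulRegular.subsingleton_linearMap_iff]
    exact hnoreg
  rw [not_subsingleton_iff_nontrivial] at hns
  obtain ⟨h, hh⟩ := exists_ne (0 : (A ⧸ a) →ₗ[A] M ⧸ PA)
  -- the element `h 1`
  have h1 : h 1 ≠ 0 := by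
    intro h1
    apply hh
    ext
    simpa using h1
  obtain ⟨m₀, hm₀⟩ := Submodule.Quotient.mk_surjective PA (h 1)
  have hm₀PA : m₀ ∉ PA := by
    intro hmem
    apply h1
    rw [← hm₀, Submodule.Quotient.mk_eq_zero]
    exact hmem
  have hkill : ∀ r ∈ a, r • m₀ ∈ PA := by
    intro r hr
    rw [← Submodule.Quotient.mk_eq_zero, Submodule.Quotient.mk_smul, hm₀, ← map_smul]
    have : r • (1 : A ⧸ a) = 0 := by
      rw [Algebra.smul_def, mul_one]
      exact Ideal.Quotient.eq_zero_iff_mem.mpr hr
    rw [this, map_zero]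
  -- transfer to `B`
  have hkillB : ∀ s ∈ a.map (algebraMap A B), s • m₀ ∈ PB := by
    intro s hs
    refine Submodule.span_induction (p := fun s _ => s • m₀ ∈ PB) ?_ ?_ ?_ ?_ hs
    · rintro _ ⟨r, hr, rfl⟩
      rw [algebraMap_smul]
      exact (hPAB _).mp (hkill r hr)
    · rw [zero_smul]; exact Submodule.zero_mem _
    · intro x y _ _ hx hy
      rw [add_smul]; exact Submodule.add_mem _ hx hy
    · intro b x _ hx
      rw [smul_eq_mul, mul_smul]
      exact Submodule.smul_mem _ _ hx
  let g : (B ⧸ a.map (algebraMap A B)) →ₗ[B] M ⧸ PB :=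
    Submodule.liftQ _ (LinearMap.toSpanSingleton B (M ⧸ PB) (Submodule.Quotient.mk m₀)) (by
      intro s hs
      rw [LinearMap.mem_ker, LinearMap.toSpanSingleton_apply, ← Submodule.Quotient.mk_smul,
        Submodule.Quotient.mk_eq_zero]
      exact hkillB s hs)
  have hg1 : g 1 = Submodule.Quotient.mk m₀ := by
    have : (1 : B ⧸ a.map (algebraMap A B)) = Submodule.Quotient.mk 1 := rfl
    rw [this, Submodule.liftQ_apply, LinearMap.toSpanSingleton_apply, one_smul]
  have hgne : g ≠ 0 := by
    intro hg
    rw [hg, LinearMap.zero_apply] at hg1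
    apply hm₀PA
    rw [hPAB, ← Submodule.Quotient.mk_eq_zero]
    exact hg1.symm
  -- Ext computation over `B`
  have hWRB : IsWeaklyRegular M rsB := (isWeaklyRegular_map_algebraMap_iff B M rsA).mpr hWR
  have hannB : ∀ r ∈ rsB, r ∈ Module.annihilator B (B ⧸ a.map (algebraMap A B)) := by
    intro r hr
    rw [Ideal.annihilator_quotient]
    obtain ⟨r₀, hr₀, rfl⟩ := List.mem_map.mp hr
    exact Ideal.mem_map_of_mem _ (hmem r₀ hr₀)
  have hann' : ∀ r ∈ rs', r ∈ Module.annihilator B (B ⧸ a.map (algebraMap A B)) := by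
    intro r hr
    rw [Ideal.annihilator_quotient]
    exact hmem' r hr
  have hsub := Groth.Agent.S5150.ext_subsingleton_of_regular
    (ModuleCat.of B (B ⧸ a.map (algebraMap A B))) rs' (ModuleCat.of B M) hWR' hann'
    rsB.length (by rw [hrsB, List.length_map]; exact hlt)
  have hiff := Groth.Agent.S5150.ext_length_subsingleton_iff
    (ModuleCat.of B (B ⧸ a.map (algebraMap A B))) rsB (ModuleCat.of B M) hWRB hannB
  have := hiff.mp hsub
  exact hgne (Subsingleton.elim _ _)

end

theorem result {A B : Type u} [CommRing A] [IsNoetherianRing A] [IsLocalRing A]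
    [CommRing B] [Algebra A B] [Module.Finite A B] (a : Ideal A) (ha : a ≤ IsLocalRing.maximalIdeal A)
    (M : Type u) [AddCommGroup M] [Module B M] [Module A M] [IsScalarTower A B M] [Module.Finite B M] :
    LocCoh.idealDepth a M = LocCoh.idealDepth (a.map (algebraMap A B)) M := by
  have hfin : Module.Finite A M := Module.Finite.trans B M
  unfold LocCoh.idealDepth
  by_cases h : a • (⊤ : Submodule A M) = ⊤
  · rw [if_pos h, if_pos ((smul_top_iff a M).mp h)]
  · rw [if_neg h, if_neg (mt (smul_top_iff a M).mpr h)]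
    apply le_antisymm
    · refine iSup₂_le ?_
      intro rs hrs
      refine le_iSup₂_of_le (rs.map (algebraMap A B))
        ⟨(isWeaklyRegular_map_algebraMap_iff B M rs).mpr hrs.1, ?_⟩ (by simp)
      intro r hr
      obtain ⟨r₀, hr₀, rfl⟩ := List.mem_map.mp hr
      exact Ideal.mem_map_of_mem _ (hrs.2 r₀ hr₀)
    · refine iSup₂_le ?_
      intro rs' hrs'
      -- build an `A`-sequence of the same length
      have key : ∀ k ≤ rs'.length, ∃ rsA : List A, IsWeaklyRegular M rsA ∧
          (∀ r ∈ rsA, r ∈ a) ∧ rsA.length = k := by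
        intro k
        induction k with
        | zero => exact fun _ => ⟨[], IsWeaklyRegular.nil A M, by simp, rfl⟩
        | succ k ih =>
          intro hk
          obtain ⟨rsA, hWR, hmem, hlen⟩ := ih (by omega)
          obtain ⟨r, hr, hWR2⟩ := extend a M rsA hWR hmem rs' hrs'.1 hrs'.2 (by omega)
          refine ⟨rsA ++ [r], hWR2, ?_, by simp [hlen]⟩
          intro x hx
          rcases List.mem_append.mp hx with hx | hx
          · exact hmem x hx
          · rw [List.mem_singleton] at hx
            rw [hx]; exact hr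
      obtain ⟨rsA, hWR, hmem, hlen⟩ := key rs'.length le_rfl
      exact le_iSup₂_of_le rsA ⟨hWR, hmem⟩ (by rw [hlen])

end Groth.Agent.S14435
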