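import Groth.Statements.S14436
import Mathlib

set_option autoImplicit false
universe u
open CAlg

namespace Groth.Agent.S14436

open scoped IntermediateField in
/-- Let L/K be a finitely generated field extension which is separable in the sense that it has a
transcendence basis a_1, …, a_n over which L is a (finite) separable extension of K(a_1, …, a_n).
Then dim_L Ω_{L/K} = n, the transcendence degree of L over K. -/
theorem result (K L : Type u) [Field K] [Field L] [Algebra K L]
    (hfg : ∃ s : Finset L, IntermediateField.adjoin K (s : Set L) = ⊤)
    (n : ℕ) (a : Fin n → L) (ha : IsTranscendenceBasis K a)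
    (hsep : Algebra.IsSeparable ↥(IntermediateField.adjoin K (Set.range a)) L) :
    Module.finrank L (Ω[L⁄K]) = n := by
  classical
  let F := IntermediateField.adjoin K (Set.range a)
  let P := MvPolynomial (Fin n) K
  have hinj : Function.Injective (MvPolynomial.aeval (R := K) a) :=
    algebraicIndependent_iff_injective_aeval.mp ha.1
  let a' : Fin n → F := fun i => ⟨a i, IntermediateField.subset_adjoin K _ (Set.mem_range_self i)⟩
  let φ : P →ₐ[K] F := MvPolynomial.aeval a'
  have hφ : ∀ p : P, ((φ p : F) : L) = MvPolynomial.aeval a p := by
    intro p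
    have : (IntermediateField.val F).comp φ = MvPolynomial.aeval a := by
      apply MvPolynomial.algHom_ext
      intro i
      simp [φ, a']
    exact DFunLike.congr_fun this p
  letI : Algebra P F := φ.toRingHom.toAlgebra
  have hst : IsScalarTower K P F := IsScalarTower.of_algebraMap_eq' φ.comp_algebraMap.symm
  have hφinj : Function.Injective (algebraMap P F) := by
    intro p q h
    apply hinj
    have h' : φ p = φ q := h
    rw [← hφ, ← hφ, h']
  haveI : FaithfulSMul P F := (faithfulSMul_iff_algebraMap_injective P F).mpr hφinj
  haveI : IsFractionRing P F := by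
    apply IsFractionRing.of_field
    rintro ⟨z, hz⟩
    obtain ⟨x, hx, y, hy, rfl⟩ := IntermediateField.mem_adjoin_iff_div.mp hz
    rw [Algebra.adjoin_range_eq_range_aeval] at hx hy
    obtain ⟨p, rfl⟩ := hx
    obtain ⟨q, rfl⟩ := hy
    refine ⟨p, q, ?_⟩
    apply Subtype.ext
    change _ = ((φ p / φ q : F) : L)
    simp [hφ]
  let b := (KaehlerDifferential.mvPolynomialBasis K (Fin n)).ofIsLocalizedModule F
    (nonZeroDivisors P) (KaehlerDifferential.map K K P F)
  haveI : Algebra.FormallyEtale F L := Algebra.FormallyEtale.of_isSeparable F L
  let e := KaehlerDifferential.tensorKaehlerEquivOfFormallyEtale K F L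
  rw [← e.finrank_eq, Module.finrank_baseChange, Module.finrank_eq_card_basis b, Fintype.card_fin]

end Groth.Agent.S14436
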