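import Groth.Statements.S14437
import Mathlib
import Groth.Agent.Lib.helper21.LocalCrit

set_option autoImplicit false
set_option linter.unusedSectionVars false
universe u
open CAlg

namespace Groth.Agent.S14437

open IsLocalRing TensorProduct

section
variable (k : Type u) [Field k]
    (A B : Type u) [CommRing A] [CommRing B] [IsLocalRing A] [IsLocalRing B]
    [Algebra k A] [Algebra k B] [Algebra A B] [IsScalarTower k A B]

/-- `g ↦ 1 ⊗ dg` on the maximal ideal -/
noncomputable def pi0 : maximalIdeal B →ₗ[B] ResidueField B ⊗[B] Ω[B⁄A] where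
  toFun g := (1 : ResidueField B) ⊗ₜ[B] KaehlerDifferential.D A B (g : B)
  map_add' g g' := by
    simp only [Submodule.coe_add, map_add, tmul_add]
  map_smul' b g := by
    simp only [Submodule.coe_smul, smul_eq_mul, Derivation.leibniz, tmul_add, tmul_smul,
      RingHom.id_apply]
    have : (g : B) • ((1 : ResidueField B) ⊗ₜ[B] KaehlerDifferential.D A B b) = 0 := by
      rw [TensorProduct.smul_tmul', Algebra.smul_def, mul_one]
      have : algebraMap B (ResidueField B) (g : B) = 0 :=
        (residue_eq_zero_iff (g : B)).mpr g.2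
      rw [this, zero_tmul]
    rw [this, add_zero]

theorem pi0_apply (g : maximalIdeal B) :
    pi0 A B g = (1 : ResidueField B) ⊗ₜ[B] KaehlerDifferential.D A B (g : B) := rfl

theorem smul_tmul_eq_zero (r : B) (hr : r ∈ maximalIdeal B) (z : ResidueField B ⊗[B] Ω[B⁄A]) :
    r • z = 0 := by
  induction z using TensorProduct.induction_on with
  | zero => simp
  | tmul x y =>
    rw [TensorProduct.smul_tmul', Algebra.smul_def]
    have : algebraMap B (ResidueField B) r = 0 := (residue_eq_zero_iff r).mpr hr
    rw [this, zero_mul, zero_tmul]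
  | add x y hx hy => rw [smul_add, hx, hy, add_zero]

/-- the map `m_B/m_B² → κ ⊗ Ω_{B/A}` -/
noncomputable def pi : (maximalIdeal B).Cotangent →ₗ[B] ResidueField B ⊗[B] Ω[B⁄A] :=
  Ideal.Cotangent.lift (pi0 A B) (by
    intro x y
    have : x * y = (x : B) • y := rfl
    rw [this, map_smul]
    exact smul_tmul_eq_zero A B _ x.2 _)

theorem pi_toCotangent (g : maximalIdeal B) :
    pi A B ((maximalIdeal B).toCotangent g) =
      (1 : ResidueField B) ⊗ₜ[B] KaehlerDifferential.D A B (g : B) := rfl


variable (hB : Function.Bijective (algebraMap k (ResidueField B)))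

/-- the section `κ → B` of the residue map coming from `k ≅ κ` -/
noncomputable def sec : ResidueField B →+* B :=
  (algebraMap k B).comp (RingEquiv.ofBijective (algebraMap k (ResidueField B)) hB).symm.toRingHom

theorem residue_sec (x : ResidueField B) : residue B (sec k B hB x) = x := by
  have : residue B (algebraMap k B ((RingEquiv.ofBijective (algebraMap k (ResidueField B)) hB).symm x)) =
      algebraMap k (ResidueField B) ((RingEquiv.ofBijective (algebraMap k (ResidueField B)) hB).symm x) :=
    (IsScalarTower.algebraMap_apply k B (ResidueField B) _).symm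
  rw [sec, RingHom.comp_apply, RingEquiv.toRingHom_eq_coe, RingHom.coe_coe, this]
  exact (RingEquiv.ofBijective (algebraMap k (ResidueField B)) hB).apply_symm_apply x

theorem sec_residue_algebraMap (c : k) : sec k B hB (residue B (algebraMap k B c)) = algebraMap k B c := by
  have : residue B (algebraMap k B c) = RingEquiv.ofBijective (algebraMap k (ResidueField B)) hB c :=
    (IsScalarTower.algebraMap_apply k B (ResidueField B) _).symm
  rw [this, sec, RingHom.comp_apply, RingEquiv.toRingHom_eq_coe, RingHom.coe_coe,
    RingEquiv.symm_apply_apply]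

theorem sub_sec_mem (b : B) : b - sec k B hB (residue B b) ∈ maximalIdeal B := by
  rw [← residue_eq_zero_iff, map_sub, residue_sec, sub_self]

/-- `b ↦ b - σ(b̄)` -/
noncomputable def δ (b : B) : maximalIdeal B := ⟨b - sec k B hB (residue B b), sub_sec_mem k B hB b⟩

theorem δ_add (b b' : B) : δ k B hB (b + b') = δ k B hB b + δ k B hB b' := by
  apply Subtype.ext
  simp only [δ, map_add, Submodule.coe_add]
  ring

theorem δ_mul (b b' : B) : δ k B hB (b * b') = b • δ k B hB b' + sec k B hB (residue B b') • δ k B hB b := by
  apply Subtype.ext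
  simp only [δ, map_mul, Submodule.coe_add, Submodule.coe_smul, smul_eq_mul]
  ring

theorem δ_of_mem (g : B) (hg : g ∈ maximalIdeal B) : δ k B hB g = ⟨g, hg⟩ := by
  apply Subtype.ext
  simp only [δ]
  rw [(residue_eq_zero_iff g).mpr hg, map_zero, sub_zero]

theorem δ_algebraMap (c : k) : δ k B hB (algebraMap k B c) = 0 := by
  apply Subtype.ext
  simp only [δ, sec_residue_algebraMap, sub_self, Submodule.coe_zero]

/-- multiplication by `b` on the cotangent space only depends on the residue class -/
theorem smul_cot (b : B) (c : (maximalIdeal B).Cotangent) : b • c = sec k B hB (residue B b) • c := by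
  have := Ideal.Cotangent.smul_eq_zero_of_mem (sub_sec_mem k B hB b) c
  rw [sub_smul, sub_eq_zero] at this
  exact this


variable (hle : maximalIdeal A ≤ Ideal.comap (IsScalarTower.toAlgHom k A B) (maximalIdeal B))
  (hA : Function.Bijective (algebraMap k (ResidueField A)))

/-- the `B`-span of the image of `m_A/m_A²` -/
noncomputable def RB : Submodule B (maximalIdeal B).Cotangent :=
  Submodule.span B (LinearMap.range (Ideal.mapCotangent (maximalIdeal A) (maximalIdeal B)
    (IsScalarTower.toAlgHom k A B) hle) : Set (maximalIdeal B).Cotangent)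

include hA in
theorem tc_δ_algebraMap_mem (a : A) :
    (maximalIdeal B).toCotangent (δ k B hB (algebraMap A B a)) ∈ RB k A B hle := by
  obtain ⟨c, hc⟩ := hA.2 (residue A a)
  have hμ : a - algebraMap k A c ∈ maximalIdeal A := by
    rw [← residue_eq_zero_iff, map_sub, ← hc, sub_eq_zero]
    exact (IsScalarTower.algebraMap_apply k A (ResidueField A) c)
  have h1 : algebraMap A B a = algebraMap k B c + algebraMap A B (a - algebraMap k A c) := by
    rw [map_sub, ← IsScalarTower.algebraMap_apply k A B]
    ring
  have hmem : algebraMap A B (a - algebraMap k A c) ∈ maximalIdeal B := hle hμ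
  rw [h1, δ_add, δ_algebraMap, zero_add, δ_of_mem k B hB _ hmem]
  apply Submodule.subset_span
  exact ⟨(maximalIdeal A).toCotangent ⟨_, hμ⟩, rfl⟩

theorem smul_W_eq_zero (r : B) (hr : r ∈ maximalIdeal B)
    (w : (maximalIdeal B).Cotangent ⧸ RB k A B hle) : r • w = 0 := by
  obtain ⟨c, rfl⟩ := Submodule.Quotient.mk_surjective _ w
  rw [← Submodule.Quotient.mk_smul, Ideal.Cotangent.smul_eq_zero_of_mem hr,
    Submodule.Quotient.mk_zero]

/-- the derivation `B → (m_B/m_B²)/R_B` -/
noncomputable def DW : Derivation A B ((maximalIdeal B).Cotangent ⧸ RB k A B hle) where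
  toFun b := Submodule.Quotient.mk ((maximalIdeal B).toCotangent (δ k B hB b))
  map_add' b b' := by
    rw [δ_add, map_add, Submodule.Quotient.mk_add]
  map_smul' a b := by
    simp only [RingHom.id_apply]
    rw [Algebra.smul_def, δ_mul, map_add, map_smul, map_smul, Submodule.Quotient.mk_add,
      Submodule.Quotient.mk_smul, Submodule.Quotient.mk_smul, algebraMap_smul]
    have : (Submodule.Quotient.mk ((maximalIdeal B).toCotangent (δ k B hB (algebraMap A B a))) :
        (maximalIdeal B).Cotangent ⧸ RB k A B hle) = 0 := by
      rw [Submodule.Quotient.mk_eq_zero]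
      exact tc_δ_algebraMap_mem k A B hB hle hA a
    rw [this, smul_zero, add_zero]
  map_one_eq_zero' := by
    simp only [LinearMap.coe_mk, AddHom.coe_mk]
    have : (1 : B) = algebraMap k B 1 := (map_one _).symm
    rw [this, δ_algebraMap, map_zero, Submodule.Quotient.mk_zero]
  leibniz' b b' := by
    simp only [LinearMap.coe_mk, AddHom.coe_mk]
    rw [δ_mul, map_add, map_smul, map_smul, ← smul_cot k B hB b', Submodule.Quotient.mk_add,
      Submodule.Quotient.mk_smul, Submodule.Quotient.mk_smul]

theorem DW_apply (b : B) : DW k A B hB hle hA b =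
    Submodule.Quotient.mk ((maximalIdeal B).toCotangent (δ k B hB b)) := rfl

include hB hA in
theorem ker_pi_le (c : (maximalIdeal B).Cotangent) (hc : pi A B c = 0) : c ∈ RB k A B hle := by
  obtain ⟨g, rfl⟩ := Ideal.toCotangent_surjective _ c
  rw [pi_toCotangent] at hc
  have hmem : KaehlerDifferential.D A B (g : B) ∈ maximalIdeal B • (⊤ : Submodule B (Ω[B⁄A])) :=
    (Groth.Agent.H21.one_tmul_eq_zero_iff (maximalIdeal B) _).mp hc
  have hl : ∀ ω ∈ maximalIdeal B • (⊤ : Submodule B (Ω[B⁄A])),
      (DW k A B hB hle hA).liftKaehlerDifferential ω = 0 := by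
    intro ω hω
    refine Submodule.smul_induction_on
      (p := fun ω => (DW k A B hB hle hA).liftKaehlerDifferential ω = 0) hω ?_ ?_
    · intro r hr n _
      rw [map_smul]
      exact smul_W_eq_zero k A B hle r hr _
    · intro x y hx hy
      rw [map_add, hx, hy, add_zero]
  have h2 := hl _ hmem
  rw [Derivation.liftKaehlerDifferential_comp_D, DW_apply, δ_of_mem k B hB _ g.2,
    Submodule.Quotient.mk_eq_zero] at h2
  exact h2


theorem pi_mapCotangent (x : (maximalIdeal A).Cotangent) :
    pi A B (Ideal.mapCotangent (maximalIdeal A) (maximalIdeal B)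
      (IsScalarTower.toAlgHom k A B) hle x) = 0 := by
  obtain ⟨a, rfl⟩ := Ideal.toCotangent_surjective _ x
  rw [Ideal.mapCotangent_toCotangent, pi_toCotangent]
  simp only [IsScalarTower.coe_toAlgHom', Derivation.map_algebraMap, tmul_zero]

include hB in
theorem RB_le (c : (maximalIdeal B).Cotangent) (hc : c ∈ RB k A B hle) :
    c ∈ LinearMap.range (Ideal.mapCotangent (maximalIdeal A) (maximalIdeal B)
      (IsScalarTower.toAlgHom k A B) hle) := by
  refine Submodule.span_induction
    (p := fun c _ => c ∈ LinearMap.range (Ideal.mapCotangent (maximalIdeal A) (maximalIdeal B)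
      (IsScalarTower.toAlgHom k A B) hle)) ?_ ?_ ?_ ?_ hc
  · intro x hx
    exact hx
  · exact Submodule.zero_mem _
  · intro x y _ _ hx hy
    exact Submodule.add_mem _ hx hy
  · intro b x _ hx
    rw [smul_cot k B hB b x]
    have : sec k B hB (residue B b) • x =
        ((RingEquiv.ofBijective (algebraMap k (ResidueField B)) hB).symm (residue B b)) • x := by
      rw [sec, RingHom.comp_apply, algebraMap_smul]
      rfl
    rw [this]
    exact Submodule.smul_mem _ _ hx

include hB in
theorem pi_surjective : Function.Surjective (pi A B) := by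
  intro z
  obtain ⟨ω, rfl⟩ := Groth.Agent.H21.exists_one_tmul (maximalIdeal B) z
  have hω : ω ∈ Submodule.span B (Set.range (KaehlerDifferential.D A B)) := by
    rw [KaehlerDifferential.span_range_derivation]
    exact Submodule.mem_top
  refine Submodule.span_induction
    (p := fun ω _ => (1 : ResidueField B) ⊗ₜ[B] ω ∈ LinearMap.range (pi A B)) ?_ ?_ ?_ ?_ hω
  · rintro _ ⟨b, rfl⟩
    refine ⟨(maximalIdeal B).toCotangent (δ k B hB b), ?_⟩
    rw [pi_toCotangent]
    congr 1
    have h1 : ((δ k B hB b : maximalIdeal B) : B) = b - sec k B hB (residue B b) := rfl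
    have h2 : sec k B hB (residue B b) = algebraMap A B (algebraMap k A
        ((RingEquiv.ofBijective (algebraMap k (ResidueField B)) hB).symm (residue B b))) := by
      rw [← IsScalarTower.algebraMap_apply k A B]
      rfl
    rw [h1, map_sub, h2, Derivation.map_algebraMap, sub_zero]
  · rw [tmul_zero]
    exact Submodule.zero_mem _
  · intro x y _ _ hx hy
    rw [tmul_add]
    exact Submodule.add_mem _ hx hy
  · intro b x _ hx
    rw [tmul_smul]
    exact Submodule.smul_mem _ _ hx

end

theorem result (k : Type u) [Field k]
    (A B : Type u) [CommRing A] [CommRing B] [IsLocalRing A] [IsLocalRing B] [IsNoetherianRing A] [IsNoetherianRing B]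
    [Algebra k A] [Algebra k B] [Algebra A B] [IsScalarTower k A B]
    (hle : IsLocalRing.maximalIdeal A ≤ Ideal.comap (IsScalarTower.toAlgHom k A B) (IsLocalRing.maximalIdeal B))
    (hA : Function.Bijective (algebraMap k (IsLocalRing.ResidueField A)))
    (hB : Function.Bijective (algebraMap k (IsLocalRing.ResidueField B))) :
    Module.finrank (IsLocalRing.ResidueField B) (TensorProduct B (IsLocalRing.ResidueField B) (Ω[B⁄A])) +
      Module.finrank k ↥(LinearMap.range (Ideal.mapCotangent (IsLocalRing.maximalIdeal A) (IsLocalRing.maximalIdeal B)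
        (IsScalarTower.toAlgHom k A B) hle)) =
      Module.finrank k (IsLocalRing.CotangentSpace B) := by
  have hst : IsScalarTower k (ResidueField B) (CotangentSpace B) := by
    refine IsScalarTower.of_algebraMap_smul ?_
    intro r x
    rw [IsScalarTower.algebraMap_apply k B (ResidueField B), algebraMap_smul, algebraMap_smul]
  have hfin1 : Module.Finite k (ResidueField B) :=
    Module.Finite.of_surjective (Algebra.linearMap k (ResidueField B)) hB.2
  have hfin : Module.Finite k (CotangentSpace B) := Module.Finite.trans (ResidueField B) _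
  have h1 : Module.finrank k (ResidueField B) = 1 := by
    rw [← (LinearEquiv.ofBijective (Algebra.linearMap k (ResidueField B)) hB).finrank_eq,
      Module.finrank_self]
  have h2 : Module.finrank (ResidueField B) (ResidueField B ⊗[B] Ω[B⁄A]) =
      Module.finrank k (ResidueField B ⊗[B] Ω[B⁄A]) := by
    rw [← Module.finrank_mul_finrank k (ResidueField B) (ResidueField B ⊗[B] Ω[B⁄A]), h1, one_mul]
  let pik : CotangentSpace B →ₗ[k] ResidueField B ⊗[B] Ω[B⁄A] := (pi A B).restrictScalars k
  have h3 := LinearMap.finrank_range_add_finrank_ker pik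
  have h4 : LinearMap.range pik = ⊤ := by
    rw [LinearMap.range_eq_top]
    exact pi_surjective k A B hB
  have h5 : LinearMap.ker pik = LinearMap.range (Ideal.mapCotangent (IsLocalRing.maximalIdeal A)
      (IsLocalRing.maximalIdeal B) (IsScalarTower.toAlgHom k A B) hle) := by
    ext c
    constructor
    · intro hc
      exact RB_le k A B hB hle c (ker_pi_le k A B hB hle hA c hc)
    · rintro ⟨x, rfl⟩
      exact pi_mapCotangent k A B hle x
  rw [h4, h5, finrank_top] at h3
  rw [h2]
  exact h3

end Groth.Agent.S14437
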