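import Groth.Statements.S6320
import Mathlib
import Groth.Agent.Lib.helper20.MaxSum

set_option autoImplicit false
universe u
open CAlg

namespace Groth.Agent.S6320

open Groth.Agent.Lib.helper20.OneDim Groth.Agent.Lib.helper20.MaxSum

section helpers

variable {A B : Type u} [CommRing A] [IsLocalRing A] [CommRing B] [Algebra A B]
  [Finite (MaximalSpectrum B)]

theorem simple_case
    (hover : ∀ n : MaximalSpectrum B,
      n.asIdeal.comap (algebraMap A B) = IsLocalRing.maximalIdeal A)
    (hfin : ∀ n : MaximalSpectrum B,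
      Module.Finite (A ⧸ n.asIdeal.comap (algebraMap A B)) (B ⧸ n.asIdeal))
    [Fintype (MaximalSpectrum B)]
    (X : Type u) [AddCommGroup X] [Module B X] [Module A X] [IsScalarTower A B X]
    (m₀ : Ideal B) (hm₀ : m₀.IsMaximal) (e : X ≃ₗ[B] B ⧸ m₀) :
    Module.length A X = ∑ n : MaximalSpectrum B,
      (Module.finrank (A ⧸ n.asIdeal.comap (algebraMap A B)) (B ⧸ n.asIdeal) : ℕ∞) *
        Module.length (Localization.AtPrime n.asIdeal)
          (LocalizedModule n.asIdeal.primeCompl X) := by
  classical
  have hQ : ∀ n : MaximalSpectrum B, Module.length (Localization.AtPrime n.asIdeal)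
        (LocalizedModule n.asIdeal.primeCompl X) =
      if n = ⟨m₀, hm₀⟩ then 1 else 0 := by
    intro n
    have h1 := ll_congr n.toPrimeSpectrum e
    change Module.length (Localization.AtPrime n.asIdeal)
        (LocalizedModule n.asIdeal.primeCompl X) = _ at h1
    rw [h1]
    split_ifs with hm
    · subst hm
      exact ll_quotient_self (MaximalSpectrum.toPrimeSpectrum ⟨m₀, hm₀⟩)
    · refine ll_quotient_eq_zero _ _ (fun hle => hm ?_)
      have : m₀ = n.asIdeal := hm₀.eq_of_le n.isMaximal.ne_top hle
      cases n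
      simp only [MaximalSpectrum.mk.injEq]
      exact this.symm
  simp_rw [hQ]
  rw [Finset.sum_eq_single (⟨m₀, hm₀⟩ : MaximalSpectrum B)
    (fun n _ hn => by rw [if_neg hn, mul_zero])
    (fun h => absurd (Finset.mem_univ _) h), if_pos rfl, mul_one]
  change Module.length A X = ((Module.finrank (A ⧸ m₀.comap (algebraMap A B)) (B ⧸ m₀) : ℕ) : ℕ∞)
  rw [(e.restrictScalars A).length_eq]
  haveI hmax : (m₀.comap (algebraMap A B)).IsMaximal := by
    rw [hover ⟨m₀, hm₀⟩]; infer_instance
  haveI : IsScalarTower A (A ⧸ m₀.comap (algebraMap A B)) (B ⧸ m₀) :=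
    IsScalarTower.of_algebraMap_eq (fun x => rfl)
  rw [Module.length_eq_of_surjective (S := A) (R := A ⧸ m₀.comap (algebraMap A B))
    Ideal.Quotient.mk_surjective]
  haveI := hfin ⟨m₀, hm₀⟩
  letI : Field (A ⧸ m₀.comap (algebraMap A B)) := Ideal.Quotient.field _
  exact Module.length_eq_finrank _ _

theorem aux
    (hover : ∀ n : MaximalSpectrum B,
      n.asIdeal.comap (algebraMap A B) = IsLocalRing.maximalIdeal A)
    (hfin : ∀ n : MaximalSpectrum B,
      Module.Finite (A ⧸ n.asIdeal.comap (algebraMap A B)) (B ⧸ n.asIdeal))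
    [Fintype (MaximalSpectrum B)] (ℓ : ℕ) :
    ∀ (M : Type u) [AddCommGroup M] [Module B M] [Module A M] [IsScalarTower A B M],
      Module.length B M = ℓ →
      Module.length A M = ∑ n : MaximalSpectrum B,
        (Module.finrank (A ⧸ n.asIdeal.comap (algebraMap A B)) (B ⧸ n.asIdeal) : ℕ∞) *
          Module.length (Localization.AtPrime n.asIdeal)
            (LocalizedModule n.asIdeal.primeCompl M) := by
  classical
  induction ℓ with
  | zero =>
    intro M _ _ _ _ hM
    have hM' : Module.length B M = 0 := by exact_mod_cast hM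
    haveI : Subsingleton M := Module.length_eq_zero_iff.mp hM'
    rw [Module.length_eq_zero]
    symm
    apply Finset.sum_eq_zero
    intro n _
    have : Module.length (Localization.AtPrime n.asIdeal)
        (LocalizedModule n.asIdeal.primeCompl M) = 0 :=
      ll_of_subsingleton n.toPrimeSpectrum M
    rw [this, mul_zero]
  | succ ℓ ih =>
    intro M _ _ _ _ hM
    have hne : Module.length B M ≠ ⊤ := by rw [hM]; exact ENat.coe_ne_top _
    have hfl : IsFiniteLength B M := Module.length_ne_top_iff.mp hne
    obtain ⟨hnoeth, -⟩ := isFiniteLength_iff_isNoetherian_isArtinian.mp hfl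
    haveI : Nontrivial M := by
      rw [← Module.length_pos_iff (R := B), hM]
      exact_mod_cast Nat.succ_pos ℓ
    haveI : IsCoatomic (Submodule B M) := isCoatomic_of_orderTop_gt_wellFounded wellFounded_gt
    obtain ⟨S, hS, -⟩ := (eq_top_or_exists_le_coatom (⊥ : Submodule B M)).resolve_left bot_ne_top
    haveI hsimple : IsSimpleModule B (M ⧸ S) := isSimpleModule_iff_isCoatom.mpr hS
    obtain ⟨m₀, hm₀, ⟨e⟩⟩ := isSimpleModule_iff_quot_maximal.mp hsimple
    have hlenS : Module.length B S = ℓ := by
      have h1 := Module.length_eq_add_of_exact S.subtype S.mkQ S.injective_subtype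
        S.mkQ_surjective (LinearMap.exact_subtype_mkQ S)
      rw [Module.length_eq_one_iff.mpr hsimple, hM] at h1
      have h2 : ((ℓ : ℕ∞) + 1) = Module.length B S + 1 := by exact_mod_cast h1
      exact (ENat.add_left_injective_of_ne_top ENat.one_ne_top h2).symm
    have hadd : ∀ n : MaximalSpectrum B, Module.length (Localization.AtPrime n.asIdeal)
        (LocalizedModule n.asIdeal.primeCompl M) =
        Module.length (Localization.AtPrime n.asIdeal)
          (LocalizedModule n.asIdeal.primeCompl S) +
        Module.length (Localization.AtPrime n.asIdeal)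
          (LocalizedModule n.asIdeal.primeCompl (M ⧸ S)) :=
      fun n => ll_exact n.toPrimeSpectrum S.subtype S.mkQ
        S.injective_subtype S.mkQ_surjective (LinearMap.exact_subtype_mkQ S)
    have h1 := ih S hlenS
    have h2 := simple_case hover hfin (M ⧸ S) m₀ hm₀ e
    have h3 : Module.length A M = Module.length A S + Module.length A (M ⧸ S) :=
      Module.length_eq_add_of_exact (S.subtype.restrictScalars A) (S.mkQ.restrictScalars A)
        S.injective_subtype S.mkQ_surjective (LinearMap.exact_subtype_mkQ S)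
    rw [h3, h1, h2, ← Finset.sum_add_distrib]
    apply Finset.sum_congr rfl
    intro n _
    rw [hadd n, mul_add]

end helpers

/-- Let A be a local ring with maximal ideal m, B a semi-local ring with maximal ideals m₁, …, mₙ and A
→ B a ring map such that each mᵢ lies over m with [κ(mᵢ) : κ(m)] finite. Then for every B-module M
of finite length, length_A(M) = Σᵢ [κ(mᵢ) : κ(m)] · length_{B_{mᵢ}}(M_{mᵢ}); in particular
length_A(M) is finite. -/
theorem result {A B : Type u} [CommRing A] [IsLocalRing A] [CommRing B] [Algebra A B] [Finite (MaximalSpectrum B)] (hover : ∀ n : MaximalSpectrum B, n.asIdeal.comap (algebraMap A B) = IsLocalRing.maximalIdeal A) (hfin : ∀ n : MaximalSpectrum B, Module.Finite (A ⧸ n.asIdeal.comap (algebraMap A B)) (B ⧸ n.asIdeal)) (M : Type u) [AddCommGroup M] [Module B M] [Module A M] [IsScalarTower A B M] (hM : IsFiniteLength B M) : Module.length A M = ∑ᶠ n : MaximalSpectrum B, (Module.finrank (A ⧸ n.asIdeal.comap (algebraMap A B)) (B ⧸ n.asIdeal) : ℕ∞) * Module.length (Localization.AtPrime n.asIdeal) (LocalizedModule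 n.asIdeal.primeCompl M) := by
  classical
  haveI := Fintype.ofFinite (MaximalSpectrum B)
  rw [finsum_eq_sum_of_fintype]
  have hne : Module.length B M ≠ ⊤ := Module.length_ne_top_iff.mpr hM
  obtain ⟨ℓ, hℓ⟩ := ENat.ne_top_iff_exists.mp hne
  exact aux hover hfin ℓ M hℓ.symm

end Groth.Agent.S6320
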