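import Groth.Statements.S14438
import Mathlib
import Groth.Agent.S6320

set_option autoImplicit false
universe u
open CAlg

namespace Groth.Agent.S14438

/-- Let (A, m) be a local ring, B a commutative A-algebra which is free of finite rank d as an A-module,
and assume that for every maximal ideal n of B containing mB the induced map of residue fields A/m →
B/n is bijective (as for the points of a fibre of a finite flat morphism of varieties over an
algebraically closed field). Then the multiplicities of the points of the fibre add up to the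
degree: the sum over all such n of the length of the B_n-module (B/mB)_n equals d. -/
theorem result (A B : Type u) [CommRing A] [IsLocalRing A] [CommRing B] [Algebra A B]
    [Module.Free A B] [Module.Finite A B] (d : ℕ) (hd : Module.finrank A B = d)
    (hres : ∀ (n : Ideal B) [n.IsMaximal] (h : Ideal.map (algebraMap A B) (IsLocalRing.maximalIdeal A) ≤ n),
      Function.Bijective (Ideal.quotientMap n (algebraMap A B) (Ideal.map_le_iff_le_comap.mp h))) :
    finsum (fun n : {n : MaximalSpectrum B // Ideal.map (algebraMap A B) (IsLocalRing.maximalIdeal A) ≤ n.asIdeal} =>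
      Module.length (Localization.AtPrime n.1.asIdeal)
        (LocalizedModule n.1.asIdeal.primeCompl (B ⧸ Ideal.map (algebraMap A B) (IsLocalRing.maximalIdeal A)))) = (d : ℕ∞) := by
  classical
  set m := IsLocalRing.maximalIdeal A with hm
  set mB := Ideal.map (algebraMap A B) m with hmB
  have hover : ∀ n : MaximalSpectrum B, n.asIdeal.comap (algebraMap A B) = m := by
    intro n
    haveI : (n.asIdeal.comap (algebraMap A B)).IsMaximal :=
      Ideal.isMaximal_comap_of_isIntegral_of_isMaximal (R := A) n.asIdeal
    exact IsLocalRing.eq_maximalIdeal this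
  have hle : ∀ n : MaximalSpectrum B, mB ≤ n.asIdeal := fun n =>
    Ideal.map_le_iff_le_comap.mpr (hover n).ge
  -- length over A
  have hlen : Module.length A (B ⧸ mB) = d := by
    let e1 : (B ⧸ mB) ≃ₗ[A] (B ⧸ (m • (⊤ : Submodule A B))) :=
      (Submodule.Quotient.restrictScalarsEquiv A mB).symm ≪≫ₗ
        Submodule.quotEquivOfEq _ _ (Ideal.smul_top_eq_map m).symm
    let e2 := (TensorProduct.quotTensorEquivQuotSMul B m).symm
    rw [(e1 ≪≫ₗ e2).length_eq]
    rw [Module.length_eq_of_surjective (S := A) (R := A ⧸ m) Ideal.Quotient.mk_surjective]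
    letI : Field (A ⧸ m) := Ideal.Quotient.field m
    rw [Module.length_eq_finrank, Module.finrank_baseChange, hd]
  have hFLA : IsFiniteLength A (B ⧸ mB) :=
    Module.length_ne_top_iff.mp (by rw [hlen]; exact ENat.coe_ne_top d)
  have hFL : IsFiniteLength B (B ⧸ mB) := by
    rw [isFiniteLength_iff_isNoetherian_isArtinian] at hFLA ⊢
    obtain ⟨h1, h2⟩ := hFLA
    exact ⟨isNoetherian_of_tower A h1, isArtinian_of_tower A h2⟩
  -- finiteness of the maximal spectrum
  haveI hfinMS : Finite (MaximalSpectrum B) := by
    haveI : Module.Finite A (B ⧸ mB) :=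
      Module.Finite.of_surjective (Ideal.Quotient.mkₐ A mB).toLinearMap
        (Ideal.Quotient.mkₐ_surjective A mB)
    haveI : Module.Finite (A ⧸ m) (B ⧸ mB) := Module.Finite.of_restrictScalars_finite A _ _
    letI : Field (A ⧸ m) := Ideal.Quotient.field m
    haveI : IsArtinianRing (B ⧸ mB) := IsArtinianRing.of_finite (A ⧸ m) (B ⧸ mB)
    have hcm : ∀ n : MaximalSpectrum B,
        Ideal.comap (Ideal.Quotient.mk mB) (Ideal.map (Ideal.Quotient.mk mB) n.asIdeal) =
          n.asIdeal := by
      intro n
      rw [Ideal.comap_map_of_surjective _ Ideal.Quotient.mk_surjective,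
        ← RingHom.ker_eq_comap_bot, Ideal.mk_ker]
      exact sup_eq_left.mpr (hle n)
    have hmax : ∀ n : MaximalSpectrum B,
        (Ideal.map (Ideal.Quotient.mk mB) n.asIdeal).IsMaximal := by
      intro n
      rcases Ideal.map_eq_top_or_isMaximal_of_surjective (Ideal.Quotient.mk mB)
        Ideal.Quotient.mk_surjective n.isMaximal with h | h
      · exfalso
        have := hcm n
        rw [h, Ideal.comap_top] at this
        exact n.isMaximal.ne_top this.symm
      · exact h
    let φ : MaximalSpectrum B → MaximalSpectrum (B ⧸ mB) := fun n =>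
      ⟨Ideal.map (Ideal.Quotient.mk mB) n.asIdeal, hmax n⟩
    refine Finite.of_injective φ ?_
    intro n₁ n₂ h
    have h' : Ideal.map (Ideal.Quotient.mk mB) n₁.asIdeal =
        Ideal.map (Ideal.Quotient.mk mB) n₂.asIdeal := congrArg MaximalSpectrum.asIdeal h
    have := congrArg (Ideal.comap (Ideal.Quotient.mk mB)) h'
    rw [hcm, hcm] at this
    exact MaximalSpectrum.ext this
  have hfin : ∀ n : MaximalSpectrum B,
      Module.Finite (A ⧸ n.asIdeal.comap (algebraMap A B)) (B ⧸ n.asIdeal) := by
    intro n
    haveI : Module.Finite A (B ⧸ n.asIdeal) :=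
      Module.Finite.of_surjective (Ideal.Quotient.mkₐ A n.asIdeal).toLinearMap
        (Ideal.Quotient.mkₐ_surjective A n.asIdeal)
    exact Module.Finite.of_restrictScalars_finite A _ _
  have key := Groth.Agent.S6320.result hover hfin (B ⧸ mB) hFL
  have hone : ∀ n : MaximalSpectrum B,
      Module.finrank (A ⧸ n.asIdeal.comap (algebraMap A B)) (B ⧸ n.asIdeal) = 1 := by
    intro n
    have hb := hres n.asIdeal (hle n)
    have hb' : Function.Bijective (Algebra.linearMap (A ⧸ n.asIdeal.comap (algebraMap A B))
        (B ⧸ n.asIdeal)) := by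
      constructor
      · exact Ideal.quotientMap_injective
      · intro y
        obtain ⟨x, hx⟩ := hb.surjective y
        obtain ⟨a, rfl⟩ := Ideal.Quotient.mk_surjective x
        refine ⟨Ideal.Quotient.mk _ a, ?_⟩
        rw [← hx]
        rfl
    rw [← (LinearEquiv.ofBijective _ hb').finrank_eq, Module.finrank_self]
  simp only [hone, Nat.cast_one, one_mul] at key
  rw [hlen] at key
  rw [key]
  exact finsum_comp_equiv (Equiv.subtypeUnivEquiv hle) (f := fun n : MaximalSpectrum B =>
    Module.length (Localization.AtPrime n.asIdeal)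
      (LocalizedModule n.asIdeal.primeCompl (B ⧸ mB)))

end Groth.Agent.S14438
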