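import Groth.Statements.S14442
import Mathlib.Tactic
-- import your own Groth.Agent.* helpers here

set_option autoImplicit false
universe u
open GrNak

namespace Groth.Agent.S14442

/-- Let R be a commutative ℕ-graded ring with irrelevant ideal R_+ = ⊕_{i>0} R_i, M an ℕ-graded R-module
and N a graded submodule of M (closed under taking homogeneous components). If M = R_+ M + N then N
= M. (The published statement is for finitely generated ℤ-graded modules over a graded quotient of a
polynomial ring, whose degrees are then bounded below; stated here for non-negatively graded modules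
over any ℕ-graded commutative ring, where the same lowest-degree argument applies without finite
generation.) -/
theorem result {R : Type u} [CommRing R] {σ : Type u} [SetLike σ R] [AddSubmonoidClass σ R]
    (𝒜 : ℕ → σ) [GradedRing 𝒜]
    {M : Type u} [AddCommGroup M] [Module R M] {τ : Type u} [SetLike τ M] [AddSubmonoidClass τ M]
    (ℳ : ℕ → τ) [DirectSum.Decomposition ℳ] [SetLike.GradedSMul 𝒜 ℳ]
    (N : Submodule R M) (hN : ∀ x ∈ N, ∀ i : ℕ, (DirectSum.decompose ℳ x i : M) ∈ N)
    (h : (HomogeneousIdeal.irrelevant 𝒜).toIdeal • (⊤ : Submodule R M) ⊔ N = ⊤) :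
    N = ⊤ := by
  classical
  -- all homogeneous elements lie in `N`
  have key : ∀ d : ℕ, ∀ y : M, y ∈ ℳ d → y ∈ N := by
    intro d
    induction d using Nat.strong_induction_on with
    | _ d ih =>
    intro m hm
    -- step 1: homogeneous scalars of positive degree
    have step1 : ∀ i : ℕ, 0 < i → ∀ r : R, r ∈ 𝒜 i → ∀ m' : M,
        (DirectSum.decompose ℳ (r • m') d : M) ∈ N := by
      intro i hi r hr m'
      induction m' using DirectSum.Decomposition.inductionOn ℳ with
      | zero => simp
      | @homogeneous j mj =>
        have hmem : r • (mj : M) ∈ ℳ (i + j) := SetLike.GradedSMul.smul_mem hr mj.2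
        by_cases hij : i + j = d
        · have hj : j < d := by omega
          have : (DirectSum.decompose ℳ (r • (mj : M)) d : M) = r • (mj : M) := by
            subst hij
            exact DirectSum.decompose_of_mem_same ℳ hmem
          rw [this]
          exact N.smul_mem r (ih j hj _ mj.2)
        · rw [DirectSum.decompose_of_mem_ne ℳ hmem hij]
          exact N.zero_mem
      | add a b ha hb =>
        rw [smul_add, DirectSum.decompose_add, DirectSum.add_apply, AddMemClass.coe_add]
        exact N.add_mem ha hb
    -- step 2: arbitrary scalars in the irrelevant ideal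
    have step2 : ∀ a : R, a ∈ (HomogeneousIdeal.irrelevant 𝒜).toIdeal → ∀ m' : M,
        (DirectSum.decompose ℳ (a • m') d : M) ∈ N := by
      intro a ha m'
      have ha0 : (DirectSum.decompose 𝒜 a 0 : R) = 0 := by
        have := (HomogeneousIdeal.mem_irrelevant_iff 𝒜 a).mp ha
        simpa [GradedRing.proj_apply] using this
      have hsum := DirectSum.sum_support_decompose 𝒜 a
      rw [← hsum, Finset.sum_smul, DirectSum.decompose_sum, DFinsupp.finsetSum_apply,
        AddSubmonoidClass.coe_finsetSum]
      refine N.sum_mem fun i _ => ?_
      by_cases hi : i = 0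
      · subst hi
        rw [ha0, zero_smul]
        simp
      · exact step1 i (Nat.pos_of_ne_zero hi) _ (DirectSum.decompose 𝒜 a i).2 m'
    -- step 3: elements of `I • ⊤`
    have step3 : ∀ y ∈ (HomogeneousIdeal.irrelevant 𝒜).toIdeal • (⊤ : Submodule R M),
        (DirectSum.decompose ℳ y d : M) ∈ N := by
      intro y hy
      refine Submodule.smul_induction_on (p := fun y => (DirectSum.decompose ℳ y d : M) ∈ N) hy
        (fun a ha m' _ => step2 a ha m') ?_
      intro x y hx hy
      rw [DirectSum.decompose_add, DirectSum.add_apply, AddMemClass.coe_add]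
      exact N.add_mem hx hy
    have hmtop : m ∈ (HomogeneousIdeal.irrelevant 𝒜).toIdeal • (⊤ : Submodule R M) ⊔ N := by
      rw [h]; trivial
    obtain ⟨y, hy, n, hn, rfl⟩ := Submodule.mem_sup.mp hmtop
    rw [← DirectSum.decompose_of_mem_same ℳ hm, DirectSum.decompose_add, DirectSum.add_apply,
      AddMemClass.coe_add]
    exact N.add_mem (step3 y hy) (hN n hn d)
  rw [eq_top_iff]
  intro x _
  rw [← DirectSum.sum_support_decompose ℳ x]
  exact N.sum_mem fun i _ => key i _ (DirectSum.decompose ℳ x i).2

end Groth.Agent.S14442
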