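import Groth.Statements.S18858
import Mathlib
import Groth.Agent.S12837

set_option autoImplicit false
universe u
open CategoryTheory MonoidalCategory CartesianMonoidalCategory MonObj GrpObj AlgebraicGeometry
open NonAbH1

namespace Groth.Agent.S18858
open CategoryTheory MonoidalCategory CartesianMonoidalCategory MonObj GrpObj AlgebraicGeometry
open NonAbH1

section helpers



section
variable {S : Scheme.{u}} {G X X' : Over S} [GrpObj G]

/-- transitivity on points of a pseudo-torsor -/
lemma trans_pt (a : AlgGrp.Action G X) (h : IsIso (lift a.act (snd G X))) {T : Over S}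
    (x y : T ⟶ X) : ∃ c : T ⟶ G, lift c x ≫ a.act = y := by
  haveI := h
  refine ⟨lift y x ≫ inv (lift a.act (snd G X)) ≫ fst G X, ?_⟩
  set w : T ⟶ G ⊗ X := lift y x ≫ inv (lift a.act (snd G X)) with hw
  have h1 : w ≫ lift a.act (snd G X) = lift y x := by
    rw [hw, Category.assoc, IsIso.inv_hom_id, Category.comp_id]
  have h2 : w ≫ snd G X = x := by
    have := congrArg (fun q => q ≫ snd X X) h1
    simpa using this
  have h3 : w ≫ a.act = y := by
    have := congrArg (fun q => q ≫ fst X X) h1
    simpa using this
  have h4 : lift (w ≫ fst G X) x = w := by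
    apply CartesianMonoidalCategory.hom_ext <;> simp [h2]
  rw [← Category.assoc, h4, h3]

/-- freeness on points of a pseudo-torsor -/
lemma free_pt (a : AlgGrp.Action G X) (h : IsIso (lift a.act (snd G X))) {T : Over S}
    (x : T ⟶ X) (c c' : T ⟶ G) (e : lift c x ≫ a.act = lift c' x ≫ a.act) : c = c' := by
  haveI := h
  have h1 : lift c x ≫ lift a.act (snd G X) = lift c' x ≫ lift a.act (snd G X) := by
    apply CartesianMonoidalCategory.hom_ext <;> simp [e]
  have h2 : lift c x = lift c' x := (cancel_mono _).mp h1
  have := congrArg (fun q => q ≫ fst G X) h2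
  simpa using this

lemma one_pt (a : AlgGrp.Action G X) {T : Over S} (x : T ⟶ X) :
    lift (toUnit T ≫ η[G]) x ≫ a.act = x := by
  have h1 : lift (toUnit T ≫ η[G]) x = lift (toUnit T) x ≫ (η[G] ▷ X) := by
    apply CartesianMonoidalCategory.hom_ext <;> simp
  rw [h1, Category.assoc, a.one_act]
  simp

lemma equiv_pt (a : AlgGrp.Action G X) (a' : AlgGrp.Action G X') (f : X ⟶ X')
    (hf : AlgGrp.Action.IsEquivariant a a' f) {T : Over S} (c : T ⟶ G) (x : T ⟶ X) :
    (lift c x ≫ a.act) ≫ f = lift c (x ≫ f) ≫ a'.act := by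
  rw [Category.assoc, hf, ← Category.assoc]
  congr 1
  apply CartesianMonoidalCategory.hom_ext <;> simp

lemma bij_pt (a : AlgGrp.Action G X) (a' : AlgGrp.Action G X')
    (h : IsIso (lift a.act (snd G X))) (h' : IsIso (lift a'.act (snd G X')))
    (f : X ⟶ X') (hf : AlgGrp.Action.IsEquivariant a a' f) {T : Over S} (x₀ : T ⟶ X) :
    Function.Bijective (fun x : T ⟶ X => x ≫ f) := by
  constructor
  · intro x y (e : x ≫ f = y ≫ f)
    obtain ⟨c, hcc⟩ := trans_pt a h x y
    have h1 : lift c (x ≫ f) ≫ a'.act = lift (toUnit T ≫ η[G]) (x ≫ f) ≫ a'.act := by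
      rw [← equiv_pt a a' f hf, hcc, one_pt, e]
    have h2 := free_pt a' h' _ _ _ h1
    rw [← hcc, h2, one_pt]
  · intro x'
    obtain ⟨c, hcc⟩ := trans_pt a' h' (x₀ ≫ f) x'
    exact ⟨lift c x₀ ≫ a.act, by simp only; rw [equiv_pt a a' f hf, hcc]⟩

end




end helpers

/-- Let S be a scheme, G a group scheme over S and X, X' two G-torsors over S for the fpqc topology
(pseudo-torsors under G acquiring sections on the members of some fpqc covering family of S). Then
every G-equivariant S-morphism f : X → X' is an isomorphism; so the category of G-torsors over S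
with equivariant morphisms is a groupoid. (The source takes for G the base change to a scheme over a
field of a group scheme over that field; the statement and its meaning are unchanged for an
arbitrary group scheme over the base.) -/
theorem result {S : Scheme.{u}} {G X X' : Over S} [GrpObj G]
    (a : AlgGrp.Action G X) (a' : AlgGrp.Action G X')
    (ha : NonAbH1.IsTorsorFor Scheme.fpqcPrecoverage a)
    (ha' : NonAbH1.IsTorsorFor Scheme.fpqcPrecoverage a')
    (f : X ⟶ X') (hf : AlgGrp.Action.IsEquivariant a a' f) : IsIso f := by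
  obtain ⟨hΨ, R, hR, hsec⟩ := ha
  have hΨ' := ha'.1
  suffices h : IsIso f.left by
    haveI : IsIso ((Over.forget S).map f) := h
    exact isIso_of_reflects_iso f (Over.forget S)
  have hR' : R.pullbackArrows X'.hom ∈ Scheme.fpqcPrecoverage X'.left :=
    Precoverage.pullbackArrows_mem X'.hom hR
  refine Groth.Agent.S12837.H5S12837.descends_fpqc (P := MorphismProperty.isomorphisms Scheme)
    f.left _ hR' ?_
  rintro T' _ ⟨S', g, hg⟩
  obtain ⟨s, hs⟩ := hsec g hg
  -- the points
  let To : Over S := Over.mk (Limits.pullback.snd g X'.hom ≫ X'.hom)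
  let x₀ : To ⟶ X := Over.homMk (Limits.pullback.fst g X'.hom ≫ s) (by
    simp only [Category.assoc, hs]; exact Limits.pullback.condition)
  let p' : To ⟶ X' := Over.homMk (Limits.pullback.snd g X'.hom) rfl
  obtain ⟨σ, hσ⟩ := (bij_pt a a' hΨ hΨ' f hf x₀).2 p'
  have hσl : σ.left ≫ f.left = Limits.pullback.snd g X'.hom := congrArg (fun q => q.left) hσ
  let snd' := Limits.pullback.snd g X'.hom
  let Wo : Over S := Over.mk (Limits.pullback.fst f.left snd' ≫ X.hom)
  let q₁ : Wo ⟶ X := Over.homMk (Limits.pullback.fst f.left snd') rfl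
  let q₂ : Wo ⟶ X := Over.homMk (Limits.pullback.snd f.left snd' ≫ σ.left) (by
    have h1 : σ.left ≫ X.hom = snd' ≫ X'.hom := Over.w σ
    have h2 : f.left ≫ X'.hom = X.hom := Over.w f
    simp only [Category.assoc, h1]
    rw [← Category.assoc, ← Limits.pullback.condition, Category.assoc, h2]
    rfl)
  have hq : q₁ = q₂ := by
    apply (bij_pt a a' hΨ hΨ' f hf q₁).1
    ext
    show Limits.pullback.fst f.left snd' ≫ f.left = (Limits.pullback.snd f.left snd' ≫ σ.left) ≫ f.left
    rw [Category.assoc, hσl]
    exact Limits.pullback.condition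
  have hql : Limits.pullback.fst f.left snd' = Limits.pullback.snd f.left snd' ≫ σ.left :=
    congrArg (fun q => q.left) hq
  show IsIso (Limits.pullback.snd f.left snd')
  refine ⟨Limits.pullback.lift σ.left (𝟙 _) (by rw [hσl, Category.id_comp]), ?_, ?_⟩
  · apply Limits.pullback.hom_ext
    · rw [Category.assoc, Limits.pullback.lift_fst, Category.id_comp, ← hql]
    · rw [Category.assoc, Limits.pullback.lift_snd, Category.id_comp, Category.comp_id]
  · rw [Limits.pullback.lift_snd]

end Groth.Agent.S18858
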