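import Groth.Statements.S14445
import Mathlib
import Groth.Prelude.Def_ChGrp
import Groth.Agent.S18858

set_option autoImplicit false
universe u
open NonAbH1

namespace Groth.Agent.S14445
open NonAbH1
open CategoryTheory MonoidalCategory CartesianMonoidalCategory AlgebraicGeometry

section helpers



/-- a morphism over `S` which is bijective on `T`-points for all `T` lying over some member of an
fpqc covering is an isomorphism -/
lemma iso_of_bij_local {S : Scheme.{u}} {A B : Over S} (φ : A ⟶ B) (R : Presieve S)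
    (hR : R ∈ Scheme.fpqcPrecoverage S)
    (h : ∀ ⦃S' : Scheme.{u}⦄ (g : S' ⟶ S), R g → ∀ (T : Over S), (T ⟶ Over.mk g) →
      Function.Bijective (fun x : T ⟶ A => x ≫ φ)) : IsIso φ := by
  suffices h : IsIso φ.left by
    haveI : IsIso ((Over.forget S).map φ) := h
    exact isIso_of_reflects_iso φ (Over.forget S)
  have hR' : R.pullbackArrows B.hom ∈ Scheme.fpqcPrecoverage B.left :=
    Precoverage.pullbackArrows_mem B.hom hR
  refine Groth.Agent.S12837.H5S12837.descends_fpqc (P := MorphismProperty.isomorphisms Scheme)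
    φ.left _ hR' ?_
  rintro T' _ ⟨S', g, hg⟩
  let snd' := Limits.pullback.snd g B.hom
  let To : Over S := Over.mk (snd' ≫ B.hom)
  let τ : To ⟶ Over.mk g := Over.homMk (Limits.pullback.fst g B.hom) Limits.pullback.condition
  let p' : To ⟶ B := Over.homMk snd' rfl
  obtain ⟨σ, hσ⟩ := (h g hg To τ).2 p'
  have hσl : σ.left ≫ φ.left = snd' := congrArg (fun q => q.left) hσ
  let Wo : Over S := Over.mk (Limits.pullback.fst φ.left snd' ≫ A.hom)
  have hφ : φ.left ≫ B.hom = A.hom := Over.w φ
  let τW : Wo ⟶ Over.mk g := Over.homMk (Limits.pullback.snd φ.left snd' ≫ Limits.pullback.fst g B.hom) (by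
    show (Limits.pullback.snd φ.left snd' ≫ Limits.pullback.fst g B.hom) ≫ g
      = Limits.pullback.fst φ.left snd' ≫ A.hom
    rw [Category.assoc, Limits.pullback.condition, ← Category.assoc, ← Limits.pullback.condition,
      Category.assoc, hφ])
  let q₁ : Wo ⟶ A := Over.homMk (Limits.pullback.fst φ.left snd') rfl
  let q₂ : Wo ⟶ A := Over.homMk (Limits.pullback.snd φ.left snd' ≫ σ.left) (by
    have h1 : σ.left ≫ A.hom = snd' ≫ B.hom := Over.w σ
    simp only [Category.assoc, h1]
    rw [← Category.assoc, ← Limits.pullback.condition, Category.assoc, hφ]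
    rfl)
  have hq : q₁ = q₂ := by
    apply (h g hg Wo τW).1
    ext
    show Limits.pullback.fst φ.left snd' ≫ φ.left = (Limits.pullback.snd φ.left snd' ≫ σ.left) ≫ φ.left
    rw [Category.assoc, hσl]
    exact Limits.pullback.condition
  have hql : Limits.pullback.fst φ.left snd' = Limits.pullback.snd φ.left snd' ≫ σ.left :=
    congrArg (fun q => q.left) hq
  show IsIso (Limits.pullback.snd φ.left snd')
  refine ⟨Limits.pullback.lift σ.left (𝟙 _) (by rw [hσl, Category.id_comp]), ?_, ?_⟩
  · apply Limits.pullback.hom_ext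
    · rw [Category.assoc, Limits.pullback.lift_fst, Category.id_comp, ← hql]
    · rw [Category.assoc, Limits.pullback.lift_snd, Category.id_comp, Category.comp_id]
  · rw [Limits.pullback.lift_snd]


section
variable {S : Scheme.{u}} {G X : Over S} [GrpObj G]

/-- the trivialisation attached to a point `s` -/
noncomputable abbrev triv (a : AlgGrp.Action G X) {Y : Over S} (s : Y ⟶ X) : G ⊗ Y ⟶ X ⊗ Y :=
  lift ((G ◁ s) ≫ a.act) (snd G Y)

lemma comp_triv (a : AlgGrp.Action G X) {Y : Over S} (s : Y ⟶ X) {T : Over S} (c : T ⟶ G)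
    (t : T ⟶ Y) : lift c t ≫ triv a s = lift (lift c (t ≫ s) ≫ a.act) t := by
  apply CartesianMonoidalCategory.hom_ext
  · simp only [triv, Category.assoc, lift_fst]
    rw [← Category.assoc, lift_whiskerLeft]
  · simp [triv]

lemma triv_iso_of_pseudo (a : AlgGrp.Action G X) (h : IsIso (lift a.act (snd G X))) {Y : Over S}
    (s : Y ⟶ X) : IsIso (triv a s) := by
  refine isIso_of_yoneda_map_bijective _ (fun T => ⟨?_, ?_⟩)
  · intro w w' (e : w ≫ triv a s = w' ≫ triv a s)
    have hw : w = lift (w ≫ fst G Y) (w ≫ snd G Y) := by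
      apply CartesianMonoidalCategory.hom_ext <;> simp
    have hw' : w' = lift (w' ≫ fst G Y) (w' ≫ snd G Y) := by
      apply CartesianMonoidalCategory.hom_ext <;> simp
    rw [hw, hw', comp_triv, comp_triv] at e
    have e1 : w ≫ snd G Y = w' ≫ snd G Y := by
      have := congrArg (fun q => q ≫ snd X Y) e
      simpa using this
    have e2 : lift (w ≫ fst G Y) ((w ≫ snd G Y) ≫ s) ≫ a.act
        = lift (w' ≫ fst G Y) ((w' ≫ snd G Y) ≫ s) ≫ a.act := by
      have := congrArg (fun q => q ≫ fst X Y) e
      simpa using this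
    rw [← e1] at e2
    have e3 := Groth.Agent.S18858.free_pt a h _ _ _ e2
    rw [hw, hw', e1, e3]
  · intro v
    obtain ⟨c, hc⟩ := Groth.Agent.S18858.trans_pt a h ((v ≫ snd X Y) ≫ s) (v ≫ fst X Y)
    refine ⟨lift c (v ≫ snd X Y), ?_⟩
    show lift c (v ≫ snd X Y) ≫ triv a s = v
    rw [comp_triv, hc]
    apply CartesianMonoidalCategory.hom_ext <;> simp


open MonObj in
/-- pointwise simple transitivity from a trivialisation -/
lemma psi_bij_of_triv (a : AlgGrp.Action G X) {Y : Over S} (s : Y ⟶ X) (hs : IsIso (triv a s))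
    (T : Over S) (τ : T ⟶ Y) :
    Function.Bijective (fun w : T ⟶ G ⊗ X => w ≫ lift a.act (snd G X)) := by
  have hb := (isIso_iff_yoneda_map_bijective (triv a s)).mp hs T
  set x₀ : T ⟶ X := τ ≫ s with hx₀
  have htr : ∀ x : T ⟶ X, ∃ c : T ⟶ G, lift c x₀ ≫ a.act = x := by
    intro x
    obtain ⟨w, hw⟩ := hb.2 (lift x τ)
    have hw0 : w = lift (w ≫ fst G Y) (w ≫ snd G Y) := by
      apply CartesianMonoidalCategory.hom_ext <;> simp
    have hw1 : w ≫ triv a s = lift x τ := hw
    rw [hw0, comp_triv] at hw1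
    have e1 : w ≫ snd G Y = τ := by
      have := congrArg (fun q => q ≫ snd X Y) hw1
      simpa using this
    have e2 : lift (w ≫ fst G Y) ((w ≫ snd G Y) ≫ s) ≫ a.act = x := by
      have := congrArg (fun q => q ≫ fst X Y) hw1
      simpa using this
    rw [e1] at e2
    exact ⟨_, e2⟩
  have hfr : ∀ c c' : T ⟶ G, lift c x₀ ≫ a.act = lift c' x₀ ≫ a.act → c = c' := by
    intro c c' e
    have h1 : lift c τ ≫ triv a s = lift c' τ ≫ triv a s := by
      rw [comp_triv, comp_triv, e]
    have h2 := hb.1 h1
    have := congrArg (fun q => q ≫ fst G Y) h2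
    simpa using this
  have hcomp : ∀ (c : T ⟶ G) (x : T ⟶ X), lift c x ≫ lift a.act (snd G X)
      = lift (lift c x ≫ a.act) x := by
    intro c x
    apply CartesianMonoidalCategory.hom_ext <;> simp
  constructor
  · intro w w' (e : w ≫ lift a.act (snd G X) = w' ≫ lift a.act (snd G X))
    have hw : w = lift (w ≫ fst G X) (w ≫ snd G X) := by
      apply CartesianMonoidalCategory.hom_ext <;> simp
    have hw' : w' = lift (w' ≫ fst G X) (w' ≫ snd G X) := by
      apply CartesianMonoidalCategory.hom_ext <;> simp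
    rw [hw, hw', hcomp, hcomp] at e
    have e1 : w ≫ snd G X = w' ≫ snd G X := by
      have := congrArg (fun q => q ≫ snd X X) e
      simpa using this
    have e2 : lift (w ≫ fst G X) (w ≫ snd G X) ≫ a.act
        = lift (w' ≫ fst G X) (w' ≫ snd G X) ≫ a.act := by
      have := congrArg (fun q => q ≫ fst X X) e
      simpa using this
    rw [← e1] at e2
    obtain ⟨d, hd⟩ := htr (w ≫ snd G X)
    rw [← hd, ← AlgGrp.Action.lift_mul_act, ← AlgGrp.Action.lift_mul_act] at e2
    have e3 := hfr _ _ e2
    have e4 : w ≫ fst G X = w' ≫ fst G X := mul_right_cancel e3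
    rw [hw, hw', e1, e4]
  · intro v
    obtain ⟨d, hd⟩ := htr (v ≫ snd X X)
    obtain ⟨e, he⟩ := htr (v ≫ fst X X)
    refine ⟨lift (e * d⁻¹) (v ≫ snd X X), ?_⟩
    show lift (e * d⁻¹) (v ≫ snd X X) ≫ lift a.act (snd G X) = v
    rw [hcomp]
    have h1 : lift (e * d⁻¹) (v ≫ snd X X) ≫ a.act = v ≫ fst X X := by
      conv_lhs => rw [← hd]
      rw [← AlgGrp.Action.lift_mul_act, inv_mul_cancel_right, he]
    rw [h1]
    apply CartesianMonoidalCategory.hom_ext <;> simp

end



end helpers

open CategoryTheory MonoidalCategory CartesianMonoidalCategory AlgebraicGeometry in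
/-- Let S be a scheme, G a group scheme over S and X an S-scheme with an action of G. Then X is a
G-torsor for the fpqc topology — the morphism G ×_S X → X ×_S X, (g, x) ↦ (gx, x), is an isomorphism
and X → S acquires sections over the members of some fpqc covering family of S — if and only if
there are an fpqc covering family of S and, for each member S' → S, an S-morphism s : S' → X for
which the G-equivariant S'-morphism G ×_S S' → X ×_S S', (g, t) ↦ (g·s(t), t), is an isomorphism; in
words, X becomes equivariantly isomorphic to the trivial torsor over each member of the covering.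
(The published statement is set in any subcanonical site with fibre products, for an invariant arrow
X → Y; this row is its instance for schemes over S with the fpqc topology and Y = S.) -/
theorem result {S : Scheme.{u}} {G X : Over S} [GrpObj G]
    (a : AlgGrp.Action G X) :
    NonAbH1.IsTorsorFor Scheme.fpqcPrecoverage a ↔
      ∃ R ∈ Scheme.fpqcPrecoverage S, ∀ ⦃S' : Scheme.{u}⦄ (f : S' ⟶ S), R f →
        ∃ s : Over.mk f ⟶ X, IsIso (lift ((G ◁ s) ≫ a.act) (snd G (Over.mk f))) := by
  constructor
  · rintro ⟨hΨ, R, hR, hsec⟩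
    refine ⟨R, hR, fun S' f hf => ?_⟩
    obtain ⟨s₀, hs₀⟩ := hsec f hf
    exact ⟨Over.homMk s₀ hs₀, triv_iso_of_pseudo a hΨ _⟩
  · rintro ⟨R, hR, h⟩
    refine ⟨?_, R, hR, fun S' f hf => ?_⟩
    · refine iso_of_bij_local _ R hR (fun S' g hg T τ => ?_)
      obtain ⟨s, hs⟩ := h g hg
      exact psi_bij_of_triv a s hs T τ
    · obtain ⟨s, -⟩ := h f hf
      exact ⟨s.left, Over.w s⟩

end Groth.Agent.S14445
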