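import Groth.Statements.S14447
import Mathlib

set_option autoImplicit false
universe w v u
open AlgGrp

namespace Groth.Agent.S14447
open CategoryTheory CategoryTheory.Limits

section helpers



section
variable {C : Type u} [Category.{v} C] [HasFiniteProducts C] [HasCoproducts.{w} C]

/-- `∐_{PUnit} pt` is terminal -/
noncomputable def isTerminalObjPUnit : IsTerminal ((sigmaConst.{w}.obj (⊤_ C)).obj PUnit.{w+1}) := by
  refine IsTerminal.ofIso terminalIsTerminal ?_
  refine ⟨Sigma.ι (fun _ : PUnit.{w+1} => ⊤_ C) PUnit.unit, Sigma.desc (fun _ => 𝟙 _), ?_, ?_⟩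
  · simp
  · apply Sigma.hom_ext
    intro b
    cases b
    simp

theorem isIso_lift (h : ∀ (I : Type w) (U : C), IsIso (Sigma.desc fun i : I =>
      prod.lift (terminal.from U ≫ Sigma.ι (fun _ : I => ⊤_ C) i) (𝟙 U))) (X Y : Type w) :
    IsIso (prod.lift ((sigmaConst.{w}.obj (⊤_ C)).map (↾(Prod.fst : X × Y → X)))
      ((sigmaConst.{w}.obj (⊤_ C)).map (↾(Prod.snd : X × Y → Y)))) := by
  let U : C := ∐ (fun _ : Y => ⊤_ C)
  let a : (∐ fun _ : X × Y => ⊤_ C) ⟶ ∐ (fun _ : X => U) :=
    Sigma.desc (fun p => Sigma.ι (fun _ : Y => ⊤_ C) p.2 ≫ Sigma.ι (fun _ : X => U) p.1)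
  let a' : (∐ (fun _ : X => U)) ⟶ (∐ fun _ : X × Y => ⊤_ C) :=
    Sigma.desc (fun i => Sigma.desc (fun j => Sigma.ι (fun _ : X × Y => ⊤_ C) (i, j)))
  have ha : IsIso a := by
    refine ⟨a', ?_, ?_⟩
    · apply Sigma.hom_ext
      rintro ⟨i, j⟩
      simp [a, a']
    · apply Sigma.hom_ext
      intro i
      apply Sigma.hom_ext
      intro j
      simp [a, a']
  have hb := h X U
  have heq : prod.lift ((sigmaConst.{w}.obj (⊤_ C)).map (↾(Prod.fst : X × Y → X)))
      ((sigmaConst.{w}.obj (⊤_ C)).map (↾(Prod.snd : X × Y → Y))) =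
      a ≫ (Sigma.desc fun i : X =>
        prod.lift (terminal.from U ≫ Sigma.ι (fun _ : X => ⊤_ C) i) (𝟙 U)) := by
    apply Sigma.hom_ext
    rintro ⟨i, j⟩
    apply Limits.prod.hom_ext
    · simp [a]
      erw [prod.lift_fst, prod.lift_fst]
      rw [← Category.assoc, Subsingleton.elim (Sigma.ι (fun _ : Y => ⊤_ C) j ≫ terminal.from U) (𝟙 _),
        Category.id_comp]
    · simp [a]
      erw [prod.lift_snd, prod.lift_snd]
      rw [Category.comp_id]
  rw [heq]
  infer_instance

end



end helpers

open CategoryTheory CategoryTheory.Limits in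
/-- Let C be a category with finite products and with all coproducts indexed by sets, and assume that
for every set I and every object U the canonical arrow ∐_{i∈I} U → (∐_{i∈I} pt) × U, whose i-th
component pairs U → pt → ∐_{i∈I} pt (i-th coprojection) with the identity of U, is an isomorphism.
Then the discrete-object functor from sets to C, I ↦ ∐_{i∈I} pt, preserves finite products. (Sets
are the types of one fixed universe, the one indexing the coproducts. The published statement asks
only for the coproducts of copies of one object; this row assumes that C has all coproducts indexed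
by sets, which Mathlib's discrete-object functor sigmaConst requires.) -/
theorem result {C : Type u} [Category.{v} C]
    [HasFiniteProducts C] [HasCoproducts.{w} C]
    (h : ∀ (I : Type w) (U : C), IsIso (Sigma.desc fun i : I =>
      prod.lift (terminal.from U ≫ Sigma.ι (fun _ : I => ⊤_ C) i) (𝟙 U))) :
    PreservesFiniteProducts (sigmaConst.{w}.obj (⊤_ C)) := by
  set G := sigmaConst.{w}.obj (⊤_ C) with hG
  haveI hterm : PreservesLimit (Functor.empty.{0} (Type w)) G :=
    preservesLimit_of_preserves_limit_cone Types.isTerminalPUnit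
      ((isLimitMapConeEmptyConeEquiv G PUnit).symm isTerminalObjPUnit)
  haveI : PreservesLimitsOfShape (Discrete PEmpty.{1}) G :=
    preservesLimitsOfShape_pempty_of_preservesTerminal G
  have hpair : ∀ X Y : Type w, PreservesLimit (pair X Y) G := by
    intro X Y
    refine preservesLimit_of_preserves_limit_cone (Types.binaryProductLimit X Y) ?_
    refine (isLimitMapConeBinaryFanEquiv G _ _).symm ?_
    haveI := isIso_lift h X Y
    exact @IsLimit.ofPointIso _ _ _ _ _ _ _ (limit.isLimit (pair (G.obj X) (G.obj Y))) this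
  haveI : PreservesLimitsOfShape (Discrete WalkingPair) G :=
    ⟨fun {K} => by
      haveI := hpair (K.obj ⟨WalkingPair.left⟩) (K.obj ⟨WalkingPair.right⟩)
      exact preservesLimit_of_iso_diagram G (diagramIsoPair K).symm⟩
  exact PreservesFiniteProducts.of_preserves_binary_and_terminal G

end Groth.Agent.S14447
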