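import Groth.Statements.S14448
import Mathlib

set_option autoImplicit false
universe u
open Coherent

namespace Groth.Agent.S14448
open CategoryTheory AlgebraicGeometry Opposite
open AlgebraicGeometry.Scheme.Modules

section helpers



/-- unit of the adjunction for a composite -/
lemma unit_comp {X Y Z : Scheme.{u}} (f : X ⟶ Y) (g : Y ⟶ Z) (c : Z.Modules) :
    (pullbackPushforwardAdjunction (f ≫ g)).unit.app c =
      (pullbackPushforwardAdjunction g).unit.app c ≫
        (pushforward g).map ((pullbackPushforwardAdjunction f).unit.app ((pullback g).obj c)) ≫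
        (pushforwardComp f g).hom.app ((pullback f).obj ((pullback g).obj c)) ≫
        (pushforward (f ≫ g)).map ((pullbackComp f g).hom.app c) := by
  have h := unit_conjugateEquiv
    ((pullbackPushforwardAdjunction g).comp (pullbackPushforwardAdjunction f))
    (pullbackPushforwardAdjunction (f ≫ g)) (pullbackComp f g).inv c
  rw [conjugateEquiv_pullbackComp_inv] at h
  have h2 : (pullbackPushforwardAdjunction (f ≫ g)).unit.app c =
      ((pullbackPushforwardAdjunction g).comp (pullbackPushforwardAdjunction f)).unit.app c ≫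
        (pushforwardComp f g).hom.app _ ≫
        (pushforward (f ≫ g)).map ((pullbackComp f g).hom.app c) := by
    rw [← Category.assoc, h, Category.assoc, ← Functor.map_comp, Iso.inv_hom_id_app]
    simp
  rw [h2, Adjunction.comp_unit_app]
  simp

lemma app_nat {X : Scheme.{u}} {M N : X.Modules} (m : M ⟶ N) {U V : X.Opens} (i : U ⟶ V) :
    M.presheaf.map i.op ≫ m.app U = m.app V ≫ N.presheaf.map i.op := by
  have := m.mapPresheaf.naturality i.op
  simpa using this

lemma final {X Y : Scheme.{u}} (f : X ⟶ Y) {M : Y.Modules} {K K' : X.Modules}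
    (e : M ⟶ (pushforward f).obj K) (a : K ⟶ K') (O₁ O₂ : Y.Opens) (O₃ : X.Opens)
    (h12 : O₂ = O₁) (h3 : O₃ = f ⁻¹ᵁ O₂) (h3' : O₃ = f ⁻¹ᵁ O₁) :
    e.app O₁ ≫ a.app (f ⁻¹ᵁ O₁) ≫
        K'.presheaf.map (eqToHom (show op (f ⁻¹ᵁ O₁) = op O₃ by rw [h3'])) =
      M.presheaf.map (eqToHom (show op O₁ = op O₂ by rw [h12])) ≫ e.app O₂ ≫
        K.presheaf.map (eqToHom (show op (f ⁻¹ᵁ O₂) = op O₃ by rw [h3])) ≫ a.app O₃ := by
  subst h12
  subst h3
  simp

/-- the double transpose of `α ≫ u` -/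
lemma homEquiv_comp {U V W : Scheme.{u}} (φ : U ⟶ V) (ψ : V ⟶ W) (A : W.Modules) (B : U.Modules)
    (u : (pullback (φ ≫ ψ)).obj A ⟶ B) :
    (pullbackPushforwardAdjunction ψ).homEquiv _ _
      ((pullbackPushforwardAdjunction φ).homEquiv _ _ ((pullbackComp φ ψ).hom.app A ≫ u)) =
    (pullbackPushforwardAdjunction (φ ≫ ψ)).homEquiv _ _ u ≫ (pushforwardComp φ ψ).inv.app B := by
  simp only [Adjunction.homEquiv_unit, Functor.map_comp, unit_comp, Category.assoc]
  congr 2



end helpers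

open AlgebraicGeometry CategoryTheory Scheme.Modules in
/-- Take two commutative squares of schemes side by side, f : X → Y over φ : U → V (vertical maps ξ : X
→ U and η : Y → V, f ≫ η = ξ ≫ φ) and g : Y → Z over ψ : V → W (vertical map ζ : Z → W, g ≫ ζ = η ≫
ψ), and an O_Z-module L. For a commutative square the base change map β_{f,φ}(M) : φ^* η_* M → ξ_*
f^* M is the adjoint of η_*(unit) : η_* M → η_* f_* f^* M = φ_* ξ_* f^* M, and α denotes the
composition isomorphisms of module pullbacks. Then the composite of α_{φ,ψ}(ζ_* L) : φ^* ψ^* ζ_* L →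
(φ ≫ ψ)^* ζ_* L with β_{f ≫ g, φ ≫ ψ}(L) equals the composite of φ^* β_{g,ψ}(L), β_{f,φ}(g^* L) and
ξ_* α_{f,g}(L), as maps φ^* ψ^* ζ_* L → ξ_* (f ≫ g)^* L. No cartesian or finiteness hypothesis is
made; the outer square is used through any proof hw of its commutativity. -/
theorem result {X Y Z U V W : Scheme.{u}} (f : X ⟶ Y) (g : Y ⟶ Z)
    (ξ : X ⟶ U) (η : Y ⟶ V) (ζ : Z ⟶ W) (φ : U ⟶ V) (ψ : V ⟶ W)
    (h₁ : f ≫ η = ξ ≫ φ) (h₂ : g ≫ ζ = η ≫ ψ) (hw : (f ≫ g) ≫ ζ = ξ ≫ (φ ≫ ψ)) (L : Z.Modules) :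
    (pullbackComp φ ψ).hom.app ((pushforward ζ).obj L) ≫
        (((pullbackPushforwardAdjunction (φ ≫ ψ)).homEquiv ((pushforward ζ).obj L)
            ((pushforward ξ).obj ((pullback (f ≫ g)).obj L))).symm
          ((pushforward ζ).map ((pullbackPushforwardAdjunction (f ≫ g)).unit.app L) ≫
            (pushforwardComp (f ≫ g) ζ).hom.app ((pullback (f ≫ g)).obj L) ≫
            (pushforwardCongr hw).hom.app ((pullback (f ≫ g)).obj L) ≫
            (pushforwardComp ξ (φ ≫ ψ)).inv.app ((pullback (f ≫ g)).obj L))) =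
      (pullback φ).map (((pullbackPushforwardAdjunction ψ).homEquiv ((pushforward ζ).obj L)
            ((pushforward η).obj ((pullback g).obj L))).symm
          ((pushforward ζ).map ((pullbackPushforwardAdjunction g).unit.app L) ≫
            (pushforwardComp g ζ).hom.app ((pullback g).obj L) ≫
            (pushforwardCongr h₂).hom.app ((pullback g).obj L) ≫
            (pushforwardComp η ψ).inv.app ((pullback g).obj L))) ≫
        (((pullbackPushforwardAdjunction φ).homEquiv ((pushforward η).obj ((pullback g).obj L))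
            ((pushforward ξ).obj ((pullback f).obj ((pullback g).obj L)))).symm
          ((pushforward η).map ((pullbackPushforwardAdjunction f).unit.app ((pullback g).obj L)) ≫
            (pushforwardComp f η).hom.app ((pullback f).obj ((pullback g).obj L)) ≫
            (pushforwardCongr h₁).hom.app ((pullback f).obj ((pullback g).obj L)) ≫
            (pushforwardComp ξ φ).inv.app ((pullback f).obj ((pullback g).obj L)))) ≫
        (pushforward ξ).map ((pullbackComp f g).hom.app L) := by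
  apply ((pullbackPushforwardAdjunction φ).homEquiv _ _).injective
  apply ((pullbackPushforwardAdjunction ψ).homEquiv _ _).injective
  rw [homEquiv_comp, Equiv.apply_symm_apply]
  rw [Adjunction.homEquiv_naturality_left, Adjunction.homEquiv_naturality_right,
    Equiv.apply_symm_apply, Adjunction.homEquiv_naturality_right, Equiv.apply_symm_apply]
  rw [unit_comp]
  apply Scheme.Modules.hom_ext
  intro O
  simp
  congr 1
  have e2 : η ⁻¹ᵁ ψ ⁻¹ᵁ O = g ⁻¹ᵁ ζ ⁻¹ᵁ O := by
    change (η ≫ ψ) ⁻¹ᵁ O = (g ≫ ζ) ⁻¹ᵁ O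
    rw [h₂]
  have e3 : ξ ⁻¹ᵁ φ ⁻¹ᵁ ψ ⁻¹ᵁ O = f ⁻¹ᵁ η ⁻¹ᵁ ψ ⁻¹ᵁ O := by
    change (ξ ≫ φ) ⁻¹ᵁ ψ ⁻¹ᵁ O = (f ≫ η) ⁻¹ᵁ ψ ⁻¹ᵁ O
    rw [h₁]
  have e3' : ξ ⁻¹ᵁ φ ⁻¹ᵁ ψ ⁻¹ᵁ O = f ⁻¹ᵁ g ⁻¹ᵁ ζ ⁻¹ᵁ O := by
    rw [e3, e2]
  first
  | exact final f (M := (pullback g).obj L) (K := (pullback f).obj ((pullback g).obj L))
      (K' := (pullback (f ≫ g)).obj L)
      ((pullbackPushforwardAdjunction f).unit.app ((pullback g).obj L))
      ((pullbackComp f g).hom.app L) (g ⁻¹ᵁ ζ ⁻¹ᵁ O) (η ⁻¹ᵁ ψ ⁻¹ᵁ O) (ξ ⁻¹ᵁ φ ⁻¹ᵁ ψ ⁻¹ᵁ O) e2 e3 e3'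
  | (simp only [eqToHom_op]
     exact final f (M := (pullback g).obj L) (K := (pullback f).obj ((pullback g).obj L))
      (K' := (pullback (f ≫ g)).obj L)
      ((pullbackPushforwardAdjunction f).unit.app ((pullback g).obj L))
      ((pullbackComp f g).hom.app L) (g ⁻¹ᵁ ζ ⁻¹ᵁ O) (η ⁻¹ᵁ ψ ⁻¹ᵁ O) (ξ ⁻¹ᵁ φ ⁻¹ᵁ ψ ⁻¹ᵁ O) e2 e3 e3')

end Groth.Agent.S14448
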