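import Groth.Statements.S14456
import Mathlib

set_option autoImplicit false
universe u
open CAlg

namespace Groth.Agent.S14456

open TensorProduct

theorem result {A B : Type u} [CommRing A] [CommRing B]
    [IsNoetherianRing A] [IsNoetherianRing B] [IsLocalRing A] [IsLocalRing B] [Algebra A B]
    [IsLocalHom (algebraMap A B)] (M : Type u) [AddCommGroup M] [Module B M] [Module A M]
    [IsScalarTower A B M] [Module.Finite B M] (f : B) (hf : f ∈ IsLocalRing.maximalIdeal B)
    (hflat : ∀ n : ℕ, Module.Flat A (M ⧸ (Ideal.span {f ^ (n + 1)} • (⊤ : Submodule B M)))) :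
    Module.Flat A M := by
  rw [Module.Flat.iff_lTensor_injective]
  intro I hI
  rw [injective_iff_map_eq_zero]
  intro x hx
  haveI : Module.Finite A I := Module.Finite.iff_fg.mpr hI
  haveI : Module.Finite B (M ⊗[A] I) :=
    Module.Finite.equiv (AlgebraTensorModule.cancelBaseChange A B B M I)
  have key : ∀ n : ℕ, x ∈ ((Ideal.span {f}) ^ (n + 1) • ⊤ : Submodule B (M ⊗[A] I)) := by
    intro n
    set P : Submodule B M := Ideal.span {f ^ (n + 1)} • (⊤ : Submodule B M) with hP
    haveI := hflat n
    -- the square
    have hinj : Function.Injective (LinearMap.lTensor (M ⧸ P) I.subtype) :=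
      Module.Flat.lTensor_preserves_injective_linearMap _ Subtype.val_injective
    have hsq : LinearMap.lTensor (M ⧸ P) I.subtype
        (LinearMap.rTensor I (P.mkQ.restrictScalars A) x) = 0 := by
      have : LinearMap.lTensor (M ⧸ P) I.subtype ∘ₗ LinearMap.rTensor I (P.mkQ.restrictScalars A)
          = LinearMap.rTensor A (P.mkQ.restrictScalars A) ∘ₗ LinearMap.lTensor M I.subtype := by
        ext m i
        simp
      have h2 := congrArg (fun g => g x) this
      simp only [LinearMap.comp_apply] at h2
      rw [h2, hx, map_zero]
    have hker : LinearMap.rTensor I (P.mkQ.restrictScalars A) x = 0 := by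
      apply hinj
      rw [hsq, map_zero]
    have hexact : Function.Exact (P.subtype.restrictScalars A) (P.mkQ.restrictScalars A) := by
      intro m
      simp only [LinearMap.coe_restrictScalars, Submodule.mkQ_apply, Submodule.Quotient.mk_eq_zero,
        Set.mem_range, Submodule.subtype_apply]
      constructor
      · intro h; exact ⟨⟨m, h⟩, rfl⟩
      · rintro ⟨y, rfl⟩; exact y.2
    have hex2 := rTensor_exact I hexact (Submodule.mkQ_surjective P)
    obtain ⟨y, rfl⟩ := (hex2 x).mp hker
    clear hker hsq hx
    induction y using TensorProduct.induction_on with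
    | zero => simp
    | add y z hy hz =>
      rw [map_add]
      exact Submodule.add_mem _ hy hz
    | tmul p i =>
      obtain ⟨p, hp⟩ := p
      rw [hP, Submodule.ideal_span_singleton_smul, Submodule.mem_smul_pointwise_iff_exists] at hp
      obtain ⟨m, -, rfl⟩ := hp
      simp only [LinearMap.rTensor_tmul, LinearMap.coe_restrictScalars, Submodule.subtype_apply]
      rw [← TensorProduct.smul_tmul']
      exact Submodule.smul_mem_smul (Ideal.pow_mem_pow (Ideal.mem_span_singleton_self f) _)
        Submodule.mem_top
  have hne : Ideal.span {f} ≠ (⊤ : Ideal B) := by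
    intro h
    rw [Ideal.span_singleton_eq_top] at h
    exact hf h
  have hbot := Ideal.iInf_pow_smul_eq_bot_of_isLocalRing (M := M ⊗[A] I) (Ideal.span {f}) hne
  have hx' : x ∈ (⨅ i : ℕ, (Ideal.span {f}) ^ i • ⊤ : Submodule B (M ⊗[A] I)) := by
    rw [Submodule.mem_iInf]
    intro i
    rcases i with _ | n
    · simp
    · exact key n
  rw [hbot] at hx'
  exact hx'

end Groth.Agent.S14456
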