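import Groth.Statements.S14457
import Mathlib

set_option autoImplicit false
universe u
open CAlg

namespace Groth.Agent.S14457

section
open Polynomial
variable {A : Type u} [CommRing A]

/-- unramifiedness of `A[X]/(f)` forces the derivative to be a unit -/
lemma isUnit_deriv (f : A[X]) [Algebra.FormallyUnramified A (AdjoinRoot f)] :
    IsUnit (aeval (AdjoinRoot.root f) (derivative f)) := by
  let d : AdjoinRoot f := aeval (AdjoinRoot.root f) (derivative f)
  let J : Ideal (AdjoinRoot f) := Ideal.span {d}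
  let N := AdjoinRoot f ⧸ J
  let q : AdjoinRoot f →ₐ[A] N := Ideal.Quotient.mkₐ A J
  let g₁ : AdjoinRoot f →ₐ[A] TrivSqZeroExt N N := (TrivSqZeroExt.inlAlgHom A N N).comp q
  let ε : TrivSqZeroExt N N := TrivSqZeroExt.inr 1
  have hε : ε ^ 2 = 0 := by
    rw [pow_two]; exact TrivSqZeroExt.inr_mul_inr _ _ _
  have h0 : aeval (g₁ (AdjoinRoot.root f)) f = 0 := by
    rw [aeval_algHom_apply, AdjoinRoot.aeval_eq, AdjoinRoot.mk_self, map_zero]
  have h0' : aeval (g₁ (AdjoinRoot.root f)) (derivative f) = 0 := by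
    rw [aeval_algHom_apply]
    change TrivSqZeroExt.inl (Ideal.Quotient.mk J d) = 0
    rw [Ideal.Quotient.eq_zero_iff_mem.mpr (Ideal.mem_span_singleton_self d), TrivSqZeroExt.inl_zero]
  have hx : f.eval₂ (Algebra.ofId A (TrivSqZeroExt N N) : A →+* TrivSqZeroExt N N) (g₁ (AdjoinRoot.root f) + ε) = 0 := by
    have := Polynomial.aeval_add_of_sq_eq_zero f (g₁ (AdjoinRoot.root f)) ε hε
    rw [h0, h0', zero_mul, add_zero] at this
    exact this
  let g₂ : AdjoinRoot f →ₐ[A] TrivSqZeroExt N N :=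
    AdjoinRoot.liftAlgHom f (Algebra.ofId A (TrivSqZeroExt N N)) (g₁ (AdjoinRoot.root f) + ε) hx
  have hfst : (TrivSqZeroExt.fstHom A N N).comp g₁ = (TrivSqZeroExt.fstHom A N N).comp g₂ := by
    apply AdjoinRoot.algHom_ext
    simp [g₂, ε, TrivSqZeroExt.fst_add]
  have h12 : g₁ = g₂ := by
    apply Algebra.FormallyUnramified.ext (TrivSqZeroExt.kerIdeal N N)
      ⟨2, TrivSqZeroExt.kerIdeal_sq N N⟩
    intro y
    rw [Ideal.Quotient.eq]
    change g₁ y - g₂ y ∈ RingHom.ker (TrivSqZeroExt.fstHom N N N)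
    rw [RingHom.mem_ker, map_sub, sub_eq_zero]
    exact DFunLike.congr_fun hfst y
  have h1 := congrArg TrivSqZeroExt.snd (DFunLike.congr_fun h12 (AdjoinRoot.root f))
  have h2 : TrivSqZeroExt.snd (g₂ (AdjoinRoot.root f)) = (1 : N) := by
    simp [g₂, ε, g₁, TrivSqZeroExt.snd_add]
  have h3 : TrivSqZeroExt.snd (g₁ (AdjoinRoot.root f)) = (0 : N) := by
    simp [g₁]
  rw [h2, h3] at h1
  have h4 : (1 : AdjoinRoot f) ∈ J := by
    rw [← Ideal.Quotient.eq_zero_iff_mem]
    exact h1.symm
  have h5 : J = ⊤ := (Ideal.eq_top_iff_one J).mpr h4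
  exact Ideal.span_singleton_eq_top.mp h5

variable (a : A) (n : ℕ)

lemma root_pow :
    (AdjoinRoot.root ((X : A[X]) ^ n - C a)) ^ n =
      algebraMap A (AdjoinRoot ((X : A[X]) ^ n - C a)) a := by
  have := AdjoinRoot.eval₂_root ((X : A[X]) ^ n - C a)
  simpa [sub_eq_zero] using this

/-- descent of units along the finite free extension -/
lemma isUnit_of_isUnit_algebraMap (hn : 1 ≤ n) (y : A)
    (hy : IsUnit (algebraMap A (AdjoinRoot ((X : A[X]) ^ n - C a)) y)) : IsUnit y := by
  rcases subsingleton_or_nontrivial A with hA | hA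
  · exact isUnit_of_subsingleton y
  have hmonic : ((X : A[X]) ^ n - C a).Monic := monic_X_pow_sub_C a (by omega)
  have h1 := hy.map (Algebra.norm A)
  rw [Algebra.norm_algebraMap_of_basis (AdjoinRoot.powerBasis' hmonic).basis] at h1
  rw [Fintype.card_fin, AdjoinRoot.powerBasis'_dim, natDegree_X_pow_sub_C] at h1
  exact (isUnit_pow_iff (by omega)).mp h1

/-- the standard étale pair -/
lemma etale_of_bezout (hn : 1 ≤ n)
    (h : ∃ p₁ p₂ : A[X], derivative ((X : A[X]) ^ n - C a) * p₁ + ((X : A[X]) ^ n - C a) * p₂ = 1) :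
    Algebra.Etale A (AdjoinRoot ((X : A[X]) ^ n - C a)) := by
  obtain ⟨p₁, p₂, hp⟩ := h
  let P : StandardEtalePair A :=
    { f := (X : A[X]) ^ n - C a
      monic_f := monic_X_pow_sub_C a (by omega)
      g := 1
      cond := ⟨p₁, p₂, 0, by rw [pow_zero]; exact hp⟩ }
  let φ : P.Ring →ₐ[A] AdjoinRoot P.f :=
    P.lift (AdjoinRoot.root P.f) ⟨by rw [AdjoinRoot.aeval_eq, AdjoinRoot.mk_self], by
      simp [P]⟩
  let ψ : AdjoinRoot P.f →ₐ[A] P.Ring :=
    AdjoinRoot.liftAlgHom P.f (Algebra.ofId A P.Ring) P.X P.hasMap_X.1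
  have h1 : φ.comp ψ = AlgHom.id A _ := by
    apply AdjoinRoot.algHom_ext
    simp [φ, ψ]
  have h2 : ψ.comp φ = AlgHom.id A _ := by
    apply P.hom_ext
    simp [φ, ψ]
  exact Algebra.Etale.of_equiv (AlgEquiv.ofAlgHom φ ψ h1 h2)

end

open Polynomial in
/-- Let A be a commutative ring, a an element of A and n ≥ 1 an integer. The A-algebra A[T]/(T^n − a) is
etale exactly when either n = 1 or the product n·a is a unit of A. (The exponent n is a positive
integer here; for n = 0 the quotient is (A/(1 − a))[T] and the equivalence fails.) -/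
theorem result (A : Type u) [CommRing A] (a : A) (n : ℕ) (hn : 1 ≤ n) :
    Algebra.Etale A (AdjoinRoot ((X : A[X]) ^ n - C a)) ↔ n = 1 ∨ IsUnit ((n : A) * a) := by
  constructor
  · intro h
    by_cases h1 : n = 1
    · exact Or.inl h1
    right
    have hn2 : 2 ≤ n := by omega
    have hu := isUnit_deriv ((X : A[X]) ^ n - C a)
    have hd : aeval (AdjoinRoot.root ((X : A[X]) ^ n - C a)) (derivative ((X : A[X]) ^ n - C a)) =
        (n : AdjoinRoot ((X : A[X]) ^ n - C a)) *
          (AdjoinRoot.root ((X : A[X]) ^ n - C a)) ^ (n - 1) := by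
      rw [derivative_sub, derivative_C, sub_zero, derivative_X_pow, AdjoinRoot.aeval_eq, map_mul,
        map_pow, AdjoinRoot.mk_X, AdjoinRoot.mk_C, map_natCast]
    rw [hd, IsUnit.mul_iff] at hu
    obtain ⟨hu1, hu2⟩ := hu
    have hu3 : IsUnit (AdjoinRoot.root ((X : A[X]) ^ n - C a)) :=
      (isUnit_pow_iff (by omega)).mp hu2
    have hu4 : IsUnit ((AdjoinRoot.root ((X : A[X]) ^ n - C a)) ^ n) := hu3.pow n
    rw [root_pow a n] at hu4
    apply isUnit_of_isUnit_algebraMap a n hn
    rw [map_mul, map_natCast]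
    exact hu1.mul hu4
  · rintro (h | h)
    · apply etale_of_bezout a n hn
      refine ⟨1, 0, ?_⟩
      subst h
      simp
    · apply etale_of_bezout a n hn
      obtain ⟨u, hu⟩ := h.exists_left_inv
      refine ⟨C u * X, - (C u * C (n : A)), ?_⟩
      have hX : (X : A[X]) ^ (n - 1) * X = X ^ n := by
        rw [← pow_succ]; congr 1; omega
      have : derivative ((X : A[X]) ^ n - C a) = C (n : A) * X ^ (n - 1) := by
        rw [derivative_sub, derivative_C, sub_zero, derivative_X_pow]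
      rw [this]
      have e : C (n : A) * X ^ (n - 1) * (C u * X) + (X ^ n - C a) * -(C u * C (n : A)) =
          C u * C (n : A) * (X ^ (n - 1) * X) - (X ^ n - C a) * (C u * C (n : A)) := by ring
      rw [e, hX]
      have e2 : C u * C (n : A) * X ^ n - (X ^ n - C a) * (C u * C (n : A)) =
          C (u * ((n : A) * a)) := by
        rw [C_mul, C_mul]; ring
      rw [e2, hu, C_1]

end Groth.Agent.S14457
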