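import Groth.Statements.S14478
import Mathlib

set_option autoImplicit false
universe u
open CharCyc

namespace Groth.Agent.S14478

open Module

/-- two subspaces of equal dimension have a common complement -/
theorem exists_common_compl {K W : Type*} [Field K] [AddCommGroup W] [Module K W]
    [FiniteDimensional K W] : ∀ (c : ℕ) (P Q : Submodule K W), finrank K P = finrank K Q →
    finrank K W - finrank K P = c → ∃ U : Submodule K W, IsCompl U P ∧ IsCompl U Q := by
  intro c
  induction c with
  | zero =>
    intro P Q h hc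
    have hP : P = ⊤ := Submodule.eq_top_of_finrank_eq (le_antisymm (Submodule.finrank_le P) (by omega))
    have hQ : Q = ⊤ := Submodule.eq_top_of_finrank_eq
      (le_antisymm (Submodule.finrank_le Q) (by have := Submodule.finrank_le P; omega))
    subst hP hQ
    exact ⟨⊥, isCompl_bot_top, isCompl_bot_top⟩
  | succ c ih =>
    intro P Q h hc
    have hP : P ≠ ⊤ := by
      rintro rfl
      rw [finrank_top] at hc; omega
    have hQ : Q ≠ ⊤ := by
      rintro rfl
      rw [finrank_top] at h; omega
    obtain ⟨x, hx⟩ : ∃ x, x ∉ P := by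
      by_contra hcon; push_neg at hcon
      exact hP (eq_top_iff.mpr fun y _ => hcon y)
    obtain ⟨y, hy⟩ : ∃ y, y ∉ Q := by
      by_contra hcon; push_neg at hcon
      exact hQ (eq_top_iff.mpr fun y _ => hcon y)
    obtain ⟨v, hvP, hvQ⟩ : ∃ v, v ∉ P ∧ v ∉ Q := by
      by_cases hxQ : x ∈ Q
      · by_cases hyP : y ∈ P
        · refine ⟨x + y, fun h1 => hx ?_, fun h2 => hy ?_⟩
          · simpa using P.sub_mem h1 hyP
          · simpa using Q.sub_mem h2 hxQ
        · exact ⟨y, hyP, hy⟩
      · exact ⟨x, hx, hxQ⟩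
    have hdim : ∀ S : Submodule K W, v ∉ S → finrank K ↥(S ⊔ K ∙ v) = finrank K S + 1 := by
      intro S hv
      have h1 := Submodule.finrank_sup_add_finrank_inf_eq S (K ∙ v)
      have h2 : S ⊓ (K ∙ v) = ⊥ := by
        rw [← disjoint_iff, Submodule.disjoint_span_singleton' (by rintro rfl; exact hv S.zero_mem)]
        exact hv
      have hv0 : v ≠ 0 := by rintro rfl; exact hv S.zero_mem
      rw [h2, finrank_bot, finrank_span_singleton hv0] at h1
      omega
    obtain ⟨U', hU'P, hU'Q⟩ := ih (P ⊔ K ∙ v) (Q ⊔ K ∙ v) (by rw [hdim P hvP, hdim Q hvQ, h])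
      (by rw [hdim P hvP]; omega)
    have key : ∀ S : Submodule K W, v ∉ S → IsCompl U' (S ⊔ K ∙ v) → IsCompl (U' ⊔ K ∙ v) S := by
      intro S hv hc
      constructor
      · rw [disjoint_iff, eq_bot_iff]
        rintro z ⟨hz1, hz2⟩
        obtain ⟨u', hu', w, hw, rfl⟩ := Submodule.mem_sup.mp hz1
        obtain ⟨a, rfl⟩ := Submodule.mem_span_singleton.mp hw
        have h1 : u' ∈ S ⊔ K ∙ v := by
          have : u' = (u' + a • v) - a • v := by abel
          rw [this]
          exact Submodule.sub_mem _ (Submodule.mem_sup_left hz2)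
            (Submodule.mem_sup_right (Submodule.smul_mem _ _ (Submodule.mem_span_singleton_self v)))
        have h2 : u' = 0 := by
          have := hc.disjoint.le_bot ⟨hu', h1⟩
          simpa using this
        subst h2
        rw [zero_add] at hz2 ⊢
        by_cases ha : a = 0
        · simp [ha]
        · exfalso
          apply hv
          have := S.smul_mem a⁻¹ hz2
          rwa [smul_smul, inv_mul_cancel₀ ha, one_smul] at this
      · rw [codisjoint_iff, sup_assoc, sup_comm (K ∙ v) S]
        exact hc.codisjoint.eq_top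
    exact ⟨U' ⊔ K ∙ v, key P hvP hU'P, key Q hvQ hU'Q⟩

/-- Let V be a finite-dimensional vector space over a field k, let W = V × V^∨ with V^∨ the dual space,
and let T ⊆ W be a subspace with dim T = dim V; put V₁ = V ∩ T, where V sits in W as V × 0. Then
there is a complement V₂ of V₁ in V with the following property: for every injective linear map A₁ :
V₁ → V₁^∨, the map A : V → V^∨ extending A₁ by zero along the decompositions V = V₁ ⊕ V₂ and V^∨ =
V₁^∨ ⊕ V₂^∨ (so A v = A₁(p v) ∘ p, with p : V → V₁ the projection along V₂) has graph Γ ⊆ W with Γ ∩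
T = 0. -/
theorem result (k V : Type u) [Field k] [AddCommGroup V] [Module k V]
    [FiniteDimensional k V] (T : Submodule k (V × Module.Dual k V))
    (hT : Module.finrank k T = Module.finrank k V) :
    ∃ (V₂ : Submodule k V) (h : IsCompl (T.comap (LinearMap.inl k V (Module.Dual k V))) V₂),
      ∀ A₁ : T.comap (LinearMap.inl k V (Module.Dual k V)) →ₗ[k]
          Module.Dual k (T.comap (LinearMap.inl k V (Module.Dual k V))),
        Function.Injective A₁ →
          LinearMap.graph ((Submodule.projectionOnto _ V₂ h).dualMap ∘ₗ A₁ ∘ₗ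
              Submodule.projectionOnto _ V₂ h) ⊓ T = ⊥ := by
  set V₁ := T.comap (LinearMap.inl k V (Module.Dual k V)) with hV₁
  have hmemV₁ : ∀ v : V, v ∈ V₁ ↔ ((v, 0) : V × Module.Dual k V) ∈ T := fun v => Iff.rfl
  -- P = second projection of T
  set P : Submodule k (Module.Dual k V) := T.map (LinearMap.snd k V (Module.Dual k V)) with hP
  set Q : Submodule k (Module.Dual k V) := V₁.dualAnnihilator with hQ
  have hdimQ : finrank k V₁ + finrank k Q = finrank k V :=
    Subspace.finrank_add_finrank_dualAnnihilator_eq V₁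
  have hdimP : finrank k P + finrank k V₁ = finrank k V := by
    let s : T →ₗ[k] Module.Dual k V := (LinearMap.snd k V (Module.Dual k V)).comp T.subtype
    have h1 := LinearMap.finrank_range_add_finrank_ker (K := k) (V := T) (V₂ := Module.Dual k V) s
    have h2 : LinearMap.range s = P := by
      rw [hP, LinearMap.range_comp, Submodule.range_subtype]
    have h3 : (LinearMap.ker s).map T.subtype = V₁.map (LinearMap.inl k V (Module.Dual k V)) := by
      ext ⟨v, φ⟩
      simp only [Submodule.mem_map, LinearMap.mem_ker, Submodule.subtype_apply, Subtype.exists,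
        exists_and_right, exists_eq_right, LinearMap.inl_apply, Prod.mk.injEq]
      constructor
      · rintro ⟨hm, hs⟩
        have : φ = 0 := hs
        subst this
        exact ⟨v, (hmemV₁ v).mpr hm, rfl, rfl⟩
      · rintro ⟨v', hv', rfl, rfl⟩
        exact ⟨(hmemV₁ v').mp hv', rfl⟩
    have h4 : finrank k (LinearMap.ker s) = finrank k V₁ := by
      rw [LinearEquiv.finrank_eq (Submodule.equivMapOfInjective T.subtype
        T.injective_subtype (LinearMap.ker s)), h3,
        ← LinearEquiv.finrank_eq (Submodule.equivMapOfInjective (LinearMap.inl k V (Module.Dual k V))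
          LinearMap.inl_injective V₁)]
    rw [h2, h4, hT] at h1
    exact h1
  obtain ⟨U, hUP, hUQ⟩ := exists_common_compl _ P Q (by omega) rfl
  -- V₂
  set V₂ : Submodule k V := U.dualCoannihilator with hV₂
  have hdimU : finrank k U + finrank k Q = finrank k (Module.Dual k V) := by
    have := Submodule.finrank_sup_add_finrank_inf_eq U Q
    rw [hUQ.sup_eq_top, hUQ.inf_eq_bot, finrank_top, finrank_bot] at this
    omega
  have hdimV₂ : finrank k U + finrank k V₂ = finrank k V :=
    Subspace.finrank_add_finrank_dualCoannihilator_eq U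
  have hdisj : V₁ ⊓ V₂ = ⊥ := by
    rw [eq_bot_iff]
    rintro v ⟨hv1, hv2⟩
    rw [Submodule.mem_bot, ← Module.forall_dual_apply_eq_zero_iff k]
    intro φ
    have : φ ∈ U ⊔ Q := by rw [hUQ.sup_eq_top]; trivial
    obtain ⟨φ₁, h₁, φ₂, h₂, rfl⟩ := Submodule.mem_sup.mp this
    rw [LinearMap.add_apply, (Submodule.mem_dualCoannihilator v).mp hv2 φ₁ h₁,
      (Submodule.mem_dualAnnihilator φ₂).mp h₂ v hv1, add_zero]
  have hcompl : IsCompl V₁ V₂ := by
    refine ⟨disjoint_iff.mpr hdisj, codisjoint_iff.mpr ?_⟩
    apply Submodule.eq_top_of_finrank_eq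
    have := Submodule.finrank_sup_add_finrank_inf_eq V₁ V₂
    rw [hdisj, finrank_bot] at this
    rw [Subspace.dual_finrank_eq] at hdimU
    omega
  refine ⟨V₂, hcompl, fun A₁ hA₁ => ?_⟩
  rw [eq_bot_iff]
  rintro ⟨v, φ⟩ ⟨hg, hT'⟩
  rw [SetLike.mem_coe, LinearMap.mem_graph_iff] at hg
  simp only at hg
  -- φ ∈ P
  have hφP : φ ∈ P := ⟨(v, φ), hT', rfl⟩
  -- φ kills V₂, so φ ∈ U
  have hφU : φ ∈ U := by
    rw [← Subspace.dualCoannihilator_dualAnnihilator_eq (W := U), Submodule.mem_dualAnnihilator]
    intro x hx
    rw [hg, LinearMap.comp_apply, LinearMap.comp_apply, LinearMap.dualMap_apply,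
      (Submodule.projectionOnto_apply_eq_zero_iff hcompl).mpr hx, map_zero]
  have hφ0 : φ = 0 := by
    have := hUP.disjoint.le_bot ⟨hφU, hφP⟩
    simpa using this
  subst hφ0
  -- projection of v is zero
  have hπ : Submodule.projectionOnto V₁ V₂ hcompl v = 0 := by
    apply hA₁
    rw [map_zero]
    apply LinearMap.dualMap_injective_of_surjective (f := Submodule.projectionOnto V₁ V₂ hcompl)
      (Submodule.projectionOnto_surjective hcompl)
    rw [map_zero]
    exact hg.symm
  have hv2 : v ∈ V₂ := (Submodule.projectionOnto_apply_eq_zero_iff hcompl).mp hπ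
  have hv1 : v ∈ V₁ := (hmemV₁ v).mpr hT'
  have : v = 0 := by
    have := hcompl.disjoint.le_bot ⟨hv1, hv2⟩
    simpa using this
  subst this
  rfl

end Groth.Agent.S14478
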