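import Groth.Statements.S14479
import Mathlib.LinearAlgebra.Matrix.BilinearForm
import Mathlib.Tactic
-- import your own Groth.Agent.* helpers here

set_option autoImplicit false
universe u
open CharCyc

namespace Groth.Agent.S14479

theorem key (k V : Type u) [Field k] [AddCommGroup V] [Module k V]
    {ι : Type} [Fintype ι] [DecidableEq ι] (b : Module.Basis ι k V) (M : Matrix ι ι k)
    (hM : (M + M.transpose).det ≠ 0) :
    ∃ B : LinearMap.BilinForm k V, (B + B.flip).Nondegenerate := by
  refine ⟨Matrix.toBilin b M, ?_⟩
  refine LinearMap.BilinForm.nondegenerate_of_det_ne_zero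
    (B₃ := Matrix.toBilin b M + (Matrix.toBilin b M).flip) b ?_
  have : LinearMap.BilinForm.toMatrix b (Matrix.toBilin b M + (Matrix.toBilin b M).flip) =
      M + M.transpose := by
    ext i j
    rw [LinearMap.BilinForm.toMatrix_apply, LinearMap.add_apply, LinearMap.add_apply,
      LinearMap.BilinForm.flip_apply, Matrix.add_apply, Matrix.transpose_apply]
    have h1 : ∀ i j, Matrix.toBilin b M (b i) (b j) = M i j := by
      intro i j
      have := LinearMap.BilinForm.toMatrix_toBilin b M
      rw [← this, LinearMap.BilinForm.toMatrix_apply, this]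
    rw [h1, h1]
  rwa [this]

/-- Let V be a finite-dimensional vector space over a field k. If dim V is even or the characteristic of
k is different from 2, there is a bilinear form B on V such that the bilinear form (v, w) ↦ B(v, w)
+ B(w, v) (B plus its transpose, as a map V → V^∨) is nondegenerate. -/
theorem result (k V : Type u) [Field k] [AddCommGroup V] [Module k V]
    [FiniteDimensional k V] (h : Even (Module.finrank k V) ∨ ringChar k ≠ 2) :
    ∃ B : LinearMap.BilinForm k V, (B + B.flip).Nondegenerate := by
  classical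
  rcases h with ⟨m, hm⟩ | hchar
  · let b0 := Module.finBasisOfFinrankEq k V hm
    let b := b0.reindex finSumFinEquiv.symm
    apply key k V b (Matrix.fromBlocks (0 : Matrix (Fin m) (Fin m) k) (1 : Matrix (Fin m) (Fin m) k)
      (0 : Matrix (Fin m) (Fin m) k) (0 : Matrix (Fin m) (Fin m) k))
    have h1 : (Matrix.fromBlocks (0 : Matrix (Fin m) (Fin m) k) (1 : Matrix (Fin m) (Fin m) k)
        (0 : Matrix (Fin m) (Fin m) k) (0 : Matrix (Fin m) (Fin m) k) +
        (Matrix.fromBlocks (0 : Matrix (Fin m) (Fin m) k) (1 : Matrix (Fin m) (Fin m) k)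
        (0 : Matrix (Fin m) (Fin m) k) (0 : Matrix (Fin m) (Fin m) k)).transpose) =
        Matrix.fromBlocks (0 : Matrix (Fin m) (Fin m) k) (1 : Matrix (Fin m) (Fin m) k)
        (1 : Matrix (Fin m) (Fin m) k) (0 : Matrix (Fin m) (Fin m) k) := by
      rw [Matrix.fromBlocks_transpose, Matrix.fromBlocks_add]
      simp
    rw [h1]
    have hsq : Matrix.fromBlocks (0 : Matrix (Fin m) (Fin m) k) (1 : Matrix (Fin m) (Fin m) k)
        (1 : Matrix (Fin m) (Fin m) k) (0 : Matrix (Fin m) (Fin m) k) *
        Matrix.fromBlocks (0 : Matrix (Fin m) (Fin m) k) (1 : Matrix (Fin m) (Fin m) k)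
        (1 : Matrix (Fin m) (Fin m) k) (0 : Matrix (Fin m) (Fin m) k) = 1 := by
      rw [Matrix.fromBlocks_multiply]
      simp [Matrix.fromBlocks_one]
    intro hdet
    have := congrArg Matrix.det hsq
    rw [Matrix.det_mul, hdet] at this
    simp at this
  · let b := Module.finBasis k V
    apply key k V b 1
    rw [Matrix.transpose_one, ← two_smul k (1 : Matrix _ _ k), Matrix.det_smul, Matrix.det_one,
      mul_one]
    exact pow_ne_zero _ (Ring.two_ne_zero hchar)

end Groth.Agent.S14479
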