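import Groth.Statements.S14497
import Mathlib

set_option autoImplicit false
universe v u
open IndCof

namespace Groth.Agent.S14497
open CategoryTheory CategoryTheory.Limits

section helpers



variable {V : Type u} [Category.{v} V] [Abelian V]

theorem image_epi_comp {X' X Y : V} (h : X' ⟶ X) [Epi h] (f : X ⟶ Y) :
    imageSubobject (h ≫ f) = imageSubobject f := by
  have : IsIso (Subobject.ofLE _ _ (imageSubobject_comp_le h f)) :=
    isIso_of_mono_of_epi _
  exact Subobject.eq_of_comm (asIso (Subobject.ofLE _ _ (imageSubobject_comp_le h f)))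
    (Subobject.ofLE_arrow _)

theorem image_arrow {B : V} (S : Subobject B) : imageSubobject S.arrow = S := by
  rw [imageSubobject_mono, Subobject.mk_arrow]

theorem nsmul_id_comm {X Y : V} (k : ℕ) (f : X ⟶ Y) : (k • 𝟙 X) ≫ f = f ≫ (k • 𝟙 Y) := by
  rw [Preadditive.nsmul_comp, Preadditive.comp_nsmul, Category.id_comp, Category.comp_id]

theorem nsmul_id_mul {X : V} (k l : ℕ) : (k • 𝟙 X) ≫ (l • 𝟙 X) = (k * l) • 𝟙 X := by
  rw [Preadditive.nsmul_comp, Preadditive.comp_nsmul, Category.id_comp, mul_smul]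

/-- if `M` kills `B / B'` then `M • 𝟙 B` factors through `B'`. -/
theorem factor_of_kill {B : V} (B' : Subobject B) (M : ℕ)
    (hM : M • 𝟙 (cokernel B'.arrow) = 0) :
    ∃ t : B ⟶ (B' : V), t ≫ B'.arrow = M • 𝟙 B := by
  have h0 : (M • 𝟙 B) ≫ cokernel.π B'.arrow = 0 := by
    rw [nsmul_id_comm, hM, comp_zero]
  have hk := Abelian.monoIsKernelOfCokernel _ (colimit.isColimit (parallelPair B'.arrow 0))
  exact ⟨hk.lift (KernelFork.ofι (M • 𝟙 B) h0), hk.fac _ WalkingParallelPair.zero⟩



end helpers

open CategoryTheory CategoryTheory.Limits in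
/-- Let B be an object of an abelian category and consider the inverse system, indexed by the positive
integers ordered by divisibility, with every term equal to B and transition map from the m-th to the
n-th term (n ∣ m) given by multiplication by m/n. This system is Mittag-Leffler, i.e. for every n
the images in the n-th term of the transition maps are eventually constant, if and only if B has a
divisible sub-object B' (multiplication by every positive integer is an epimorphism of B') with B/B'
killed by some positive integer. Moreover such a B' is the largest divisible sub-object of B. -/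
theorem result
    {V : Type u} [Category.{v} V] [Abelian V] (B : V) :
    ((∀ n : ℕ, 0 < n → ∃ m : ℕ, 0 < m ∧ n ∣ m ∧ ∀ m' : ℕ, 0 < m' → m ∣ m' →
        imageSubobject ((m' / n) • 𝟙 B) = imageSubobject ((m / n) • 𝟙 B)) ↔
      ∃ B' : Subobject B, (∀ k : ℕ, 0 < k → Epi (k • 𝟙 (B' : V))) ∧
        ∃ M : ℕ, 0 < M ∧ M • 𝟙 (cokernel B'.arrow) = 0) ∧
    (∀ B' : Subobject B, (∀ k : ℕ, 0 < k → Epi (k • 𝟙 (B' : V))) →
      (∃ M : ℕ, 0 < M ∧ M • 𝟙 (cokernel B'.arrow) = 0) →
      ∀ D : Subobject B, (∀ k : ℕ, 0 < k → Epi (k • 𝟙 (D : V))) → D ≤ B') := by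
  -- key claim
  have claim : ∀ (B' : Subobject B), (∀ k : ℕ, 0 < k → Epi (k • 𝟙 (B' : V))) →
      ∀ M : ℕ, M • 𝟙 (cokernel B'.arrow) = 0 → ∀ c : ℕ, 0 < c * M →
        imageSubobject ((c * M) • 𝟙 B) = B' := by
    intro B' hdiv M hM c hc
    obtain ⟨t, ht⟩ := factor_of_kill B' M hM
    apply le_antisymm
    · refine imageSubobject_le _ ((c • 𝟙 B) ≫ t) ?_
      rw [Category.assoc, ht, nsmul_id_mul]
    · have := hdiv (c * M) hc
      have h1 : imageSubobject (((c * M) • 𝟙 (B' : V)) ≫ B'.arrow) = B' := by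
        rw [image_epi_comp, image_arrow]
      rw [nsmul_id_comm] at h1
      calc B' = imageSubobject (B'.arrow ≫ ((c * M) • 𝟙 B)) := h1.symm
        _ ≤ _ := imageSubobject_comp_le _ _
  refine ⟨⟨?_, ?_⟩, ?_⟩
  · intro hML
    obtain ⟨m, hm, -, hmm⟩ := hML 1 Nat.one_pos
    simp only [Nat.div_one] at hmm
    refine ⟨imageSubobject (m • 𝟙 B), ?_, m, hm, ?_⟩
    · intro k hk
      set B' := imageSubobject (m • 𝟙 B) with hB'
      set e := factorThruImageSubobject (m • 𝟙 B) with he
      have hkm : imageSubobject ((k * m) • 𝟙 B) = B' :=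
        hmm (k * m) (Nat.mul_pos hk hm) (Dvd.intro_left k rfl)
      set e' := factorThruImageSubobject ((k * m) • 𝟙 B) with he'
      have h1 : (e' ≫ (Subobject.isoOfEq _ _ hkm).hom) ≫ B'.arrow = ((k • 𝟙 B) ≫ e) ≫ B'.arrow := by
        rw [Category.assoc, Subobject.isoOfEq_hom, Subobject.ofLE_arrow, Category.assoc]
        rw [he', he, imageSubobject_arrow_comp, imageSubobject_arrow_comp, nsmul_id_mul]
      have h2 : e' ≫ (Subobject.isoOfEq _ _ hkm).hom = (k • 𝟙 B) ≫ e :=
        (cancel_mono B'.arrow).1 h1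
      have h3 : Epi ((k • 𝟙 B) ≫ e) := by
        rw [← h2]; infer_instance
      rw [nsmul_id_comm] at h3
      exact epi_of_epi e _
    · rw [← cancel_epi (cokernel.π (imageSubobject (m • 𝟙 B)).arrow), comp_zero, ← nsmul_id_comm]
      calc (m • 𝟙 B) ≫ cokernel.π (imageSubobject (m • 𝟙 B)).arrow
          = (factorThruImageSubobject (m • 𝟙 B) ≫ (imageSubobject (m • 𝟙 B)).arrow) ≫
              cokernel.π (imageSubobject (m • 𝟙 B)).arrow := by rw [imageSubobject_arrow_comp]
        _ = 0 := by rw [Category.assoc, cokernel.condition, comp_zero]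
  · rintro ⟨B', hdiv, M, hM, hkill⟩ n hn
    refine ⟨n * M, Nat.mul_pos hn hM, Dvd.intro _ rfl, ?_⟩
    intro m' hm' hdvd
    obtain ⟨c, rfl⟩ := hdvd
    have e1 : n * M * c / n = c * M := by
      rw [mul_assoc, Nat.mul_div_cancel_left _ hn, mul_comm]
    have e2 : n * M / n = 1 * M := by
      rw [Nat.mul_div_cancel_left _ hn, one_mul]
    rw [e1, e2]
    have hc : 0 < c := by
      rcases Nat.eq_zero_or_pos c with h | h
      · subst h; simp at hm'
      · exact h
    rw [claim B' hdiv M hkill c (Nat.mul_pos hc hM), claim B' hdiv M hkill 1 (by simpa using hM)]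
  · rintro B' hdiv ⟨M, hM, hkill⟩ D hD
    obtain ⟨t, ht⟩ := factor_of_kill B' M hkill
    have := hD M hM
    have h1 : imageSubobject ((M • 𝟙 (D : V)) ≫ D.arrow) = D := by
      rw [image_epi_comp, image_arrow]
    rw [← h1, nsmul_id_comm]
    refine imageSubobject_le _ (D.arrow ≫ t) ?_
    rw [Category.assoc, ht]

end Groth.Agent.S14497
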