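import Groth.Statements.S14498
import Mathlib

set_option autoImplicit false
universe v u
open AbDiag

namespace Groth.Agent.S14498

open CategoryTheory CategoryTheory.Limits in
/-- In an abelian category, let 0 → F → W → E' → 0 (maps a, b) and 0 → E → W → F' → G → G' → 0 (maps c,
d, e, g) be exact sequences such that the composite F → W → F' is a monomorphism. Then the composite
E → W → E' is a monomorphism, and there is a short exact sequence 0 → Coker(E → E') → Coker(F → F')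
→ Ker(G → G') → 0 whose first map is induced by d (through the quotient map b) and whose second map
is induced by e. -/
theorem result
    {V : Type u} [Category.{v} V] [Abelian V] {F W E' E F' G G' : V}
    (a : F ⟶ W) (b : W ⟶ E') (c : E ⟶ W) (d : W ⟶ F') (e : F' ⟶ G) (g : G ⟶ G')
    [Mono a] [Epi b] (wab : a ≫ b = 0) (hab : (ShortComplex.mk a b wab).Exact)
    [Mono c] (wcd : c ≫ d = 0) (hcd : (ShortComplex.mk c d wcd).Exact)
    (wde : d ≫ e = 0) (hde : (ShortComplex.mk d e wde).Exact)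
    (weg : e ≫ g = 0) (heg : (ShortComplex.mk e g weg).Exact) [Epi g]
    (hmono : Mono (a ≫ d)) :
    Mono (c ≫ b) ∧
      ∃ (φ : cokernel (c ≫ b) ⟶ cokernel (a ≫ d)) (ψ : cokernel (a ≫ d) ⟶ kernel g)
        (w : φ ≫ ψ = 0),
        b ≫ cokernel.π (c ≫ b) ≫ φ = d ≫ cokernel.π (a ≫ d) ∧
        cokernel.π (a ≫ d) ≫ ψ ≫ kernel.ι g = e ∧
        (ShortComplex.mk φ ψ w).ShortExact := by
  haveI := hmono
  have hcb : Mono (c ≫ b) := by
    refine Preadditive.mono_of_cancel_zero _ (fun {T} x hx => ?_)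
    have h1 : (x ≫ c) ≫ b = 0 := by rw [Category.assoc]; exact hx
    haveI : Mono (ShortComplex.mk a b wab).f := by dsimp; infer_instance
    have hy : hab.lift (x ≫ c) h1 ≫ a = x ≫ c := hab.lift_f (x ≫ c) h1
    have h2 : hab.lift (x ≫ c) h1 ≫ (a ≫ d) = 0 := by
      rw [← Category.assoc, hy, Category.assoc, wcd, comp_zero]
    have y0 : hab.lift (x ≫ c) h1 = 0 := zero_of_comp_mono (a ≫ d) h2
    have h3 : x ≫ c = 0 := by rw [← hy, y0, zero_comp]
    exact zero_of_comp_mono c h3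
  refine ⟨hcb, ?_⟩
  haveI : Epi (ShortComplex.mk a b wab).g := by dsimp; infer_instance
  have hk : (ShortComplex.mk a b wab).f ≫ (d ≫ cokernel.π (a ≫ d)) = 0 := by
    dsimp
    rw [← Category.assoc, cokernel.condition]
  obtain ⟨δ, hδ⟩ : ∃ δ : E' ⟶ cokernel (a ≫ d), b ≫ δ = d ≫ cokernel.π (a ≫ d) :=
    ⟨hab.desc _ hk, hab.g_desc _ hk⟩
  have hδ0 : (c ≫ b) ≫ δ = 0 := by
    rw [Category.assoc, hδ, ← Category.assoc, wcd, zero_comp]
  obtain ⟨φ, hφπ⟩ : ∃ φ : cokernel (c ≫ b) ⟶ cokernel (a ≫ d), cokernel.π (c ≫ b) ≫ φ = δ :=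
    ⟨cokernel.desc _ δ hδ0, cokernel.π_desc _ _ _⟩
  have he0 : (a ≫ d) ≫ e = 0 := by rw [Category.assoc, wde, comp_zero]
  have hg0 : cokernel.desc (a ≫ d) e he0 ≫ g = 0 := by
    rw [← cancel_epi (cokernel.π (a ≫ d)), ← Category.assoc, cokernel.π_desc, weg, comp_zero]
  obtain ⟨ψ, hψ⟩ : ∃ ψ : cokernel (a ≫ d) ⟶ kernel g,
      cokernel.π (a ≫ d) ≫ ψ ≫ kernel.ι g = e :=
    ⟨kernel.lift g (cokernel.desc (a ≫ d) e he0) hg0, by rw [kernel.lift_ι, cokernel.π_desc]⟩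
  have hφ : b ≫ cokernel.π (c ≫ b) ≫ φ = d ≫ cokernel.π (a ≫ d) := by rw [hφπ, hδ]
  have w : φ ≫ ψ = 0 := by
    rw [← cancel_mono (kernel.ι g), ← cancel_epi (cokernel.π (c ≫ b)), ← cancel_epi b]
    calc b ≫ cokernel.π (c ≫ b) ≫ (φ ≫ ψ) ≫ kernel.ι g
        = (b ≫ cokernel.π (c ≫ b) ≫ φ) ≫ ψ ≫ kernel.ι g := by simp only [Category.assoc]
      _ = d ≫ (cokernel.π (a ≫ d) ≫ ψ ≫ kernel.ι g) := by rw [hφ, Category.assoc]
      _ = 0 := by rw [hψ, wde]
      _ = b ≫ cokernel.π (c ≫ b) ≫ 0 ≫ kernel.ι g := by simp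
  refine ⟨φ, ψ, w, hφ, hψ, ?_⟩
  have hmonoφ : Mono φ := by
    refine Preadditive.mono_of_cancel_zero _ (fun {T} x hx => ?_)
    haveI : Epi (b ≫ cokernel.π (c ≫ b)) := epi_comp _ _
    obtain ⟨T₁, q, hq, w₁, hw₁⟩ :=
      surjective_up_to_refinements_of_epi (b ≫ cokernel.π (c ≫ b)) x
    have h1 : (w₁ ≫ d) ≫ cokernel.π (a ≫ d) = 0 := by
      calc (w₁ ≫ d) ≫ cokernel.π (a ≫ d) = w₁ ≫ (b ≫ cokernel.π (c ≫ b) ≫ φ) := by
            rw [hφ, Category.assoc]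
        _ = (w₁ ≫ b ≫ cokernel.π (c ≫ b)) ≫ φ := by simp only [Category.assoc]
        _ = 0 := by rw [← hw₁, Category.assoc, hx, comp_zero]
    obtain ⟨T₂, p, hp, y, hy⟩ :=
      (ShortComplex.exact_cokernel (a ≫ d)).exact_up_to_refinements (w₁ ≫ d) h1
    dsimp at y hy
    have h2 : (p ≫ w₁ - y ≫ a) ≫ d = 0 := by
      rw [Preadditive.sub_comp, Category.assoc, Category.assoc, hy, sub_self]
    obtain ⟨T₃, p', hp', z, hz⟩ := hcd.exact_up_to_refinements (p ≫ w₁ - y ≫ a) h2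
    dsimp at z hz
    have h3 : p' ≫ p ≫ w₁ = z ≫ c + p' ≫ y ≫ a := by
      rw [← hz, Preadditive.comp_sub]
      abel
    have h4 : (p' ≫ p ≫ q) ≫ x = 0 := by
      calc (p' ≫ p ≫ q) ≫ x = p' ≫ p ≫ (q ≫ x) := by simp only [Category.assoc]
        _ = (p' ≫ p ≫ w₁) ≫ b ≫ cokernel.π (c ≫ b) := by
            rw [hw₁]; simp only [Category.assoc]
        _ = z ≫ (c ≫ b) ≫ cokernel.π (c ≫ b) + p' ≫ y ≫ (a ≫ b) ≫ cokernel.π (c ≫ b) := by
            rw [h3, Preadditive.add_comp]; simp only [Category.assoc]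
        _ = 0 := by rw [cokernel.condition, wab]; simp
    haveI : Epi (p' ≫ p ≫ q) := epi_comp' hp' (epi_comp' hp hq)
    exact (cancel_epi (p' ≫ p ≫ q)).mp (by rw [h4, comp_zero])
  have hepiψ : Epi ψ := by
    haveI : Epi (kernel.lift g e weg) := heg.epi_kernelLift
    have h : cokernel.π (a ≫ d) ≫ ψ = kernel.lift g e weg := by
      rw [← cancel_mono (kernel.ι g), Category.assoc, hψ, kernel.lift_ι]
    exact epi_of_epi_fac h
  have hex : (ShortComplex.mk φ ψ w).Exact := by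
    rw [ShortComplex.exact_iff_exact_up_to_refinements]
    intro T x hx
    dsimp at x hx ⊢
    obtain ⟨T₁, q, hq, u, hu⟩ := surjective_up_to_refinements_of_epi (cokernel.π (a ≫ d)) x
    have h1 : u ≫ e = 0 := by
      calc u ≫ e = (u ≫ cokernel.π (a ≫ d)) ≫ ψ ≫ kernel.ι g := by
            rw [Category.assoc, hψ]
        _ = q ≫ (x ≫ ψ) ≫ kernel.ι g := by rw [← hu]; simp only [Category.assoc]
        _ = 0 := by rw [hx, zero_comp, comp_zero]
    obtain ⟨T₂, p, hp, v, hv⟩ := hde.exact_up_to_refinements u h1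
    dsimp at v hv
    refine ⟨T₂, p ≫ q, epi_comp' hp hq, v ≫ b ≫ cokernel.π (c ≫ b), ?_⟩
    calc (p ≫ q) ≫ x = p ≫ (q ≫ x) := by rw [Category.assoc]
      _ = (p ≫ u) ≫ cokernel.π (a ≫ d) := by rw [hu, Category.assoc]
      _ = v ≫ (d ≫ cokernel.π (a ≫ d)) := by rw [hv, Category.assoc]
      _ = (v ≫ b ≫ cokernel.π (c ≫ b)) ≫ φ := by rw [← hφ]; simp only [Category.assoc]
  haveI : Mono (ShortComplex.mk φ ψ w).f := hmonoφ
  haveI : Epi (ShortComplex.mk φ ψ w).g := hepiψ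
  exact ShortComplex.ShortExact.mk' hex hmonoφ hepiψ

end Groth.Agent.S14498
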