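import Groth.Statements.S14502
import Mathlib
import Groth.Agent.Lib.helper20.Latt2

set_option autoImplicit false
universe u
open IntTh

namespace Groth.Agent.S14502

/-- Let A be a Noetherian local domain of Krull dimension one with fraction field K, V a
finite-dimensional K-vector space, M a lattice in V (a finitely generated A-submodule spanning V
over K) and φ a K-linear automorphism of V. Then φ(M) is a lattice, the A-modules M/(M ∩ φ(M)) and
φ(M)/(M ∩ φ(M)) have finite length, and the distance length_A(M/(M ∩ φ(M))) − length_A(φ(M)/(M ∩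
φ(M))) equals the order of det φ at the closed point, i.e. length_A(A/(a)) − length_A(A/(b)) for det
φ = a/b. -/
theorem result (A : Type u) [CommRing A] [IsDomain A] [IsNoetherianRing A]
    [IsLocalRing A] (hA : ringKrullDim A = 1) (K : Type u) [Field K] [Algebra A K]
    [IsFractionRing A K] (V : Type u) [AddCommGroup V] [Module K V] [Module A V]
    [IsScalarTower A K V] [FiniteDimensional K V]
    (M : Submodule A V) [Submodule.IsLattice K M] (φ : V ≃ₗ[K] V) :
    Submodule.IsLattice K (M.map (φ.toLinearMap.restrictScalars A)) ∧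
      Module.length A (↥M ⧸ (M ⊓ M.map (φ.toLinearMap.restrictScalars A)).submoduleOf M) < ⊤ ∧
      Module.length A (↥(M.map (φ.toLinearMap.restrictScalars A)) ⧸
          (M ⊓ M.map (φ.toLinearMap.restrictScalars A)).submoduleOf
            (M.map (φ.toLinearMap.restrictScalars A))) < ⊤ ∧
      ((Module.length A (↥M ⧸ (M ⊓ M.map (φ.toLinearMap.restrictScalars A)).submoduleOf M)).toNat : ℤ) -
          ((Module.length A (↥(M.map (φ.toLinearMap.restrictScalars A)) ⧸
            (M ⊓ M.map (φ.toLinearMap.restrictScalars A)).submoduleOf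
              (M.map (φ.toLinearMap.restrictScalars A)))).toNat : ℤ) =
        CycAlg.ordFrac A K (LinearMap.det φ.toLinearMap) := by
  haveI : Ring.KrullDimLE 1 A := Ring.krullDimLE_iff.mpr hA.le
  haveI hlat := Groth.Agent.Lib.helper20.Latt.isLattice_map (A := A) M φ
  have fg1 : M.FG := Submodule.IsLattice.fg
  have fg2 : (M.map (φ.toLinearMap.restrictScalars A)).FG := Submodule.IsLattice.fg
  have sp1 : Submodule.span K (M : Set V) = ⊤ := Submodule.IsLattice.span_eq_top
  have sp2 : Submodule.span K ((M.map (φ.toLinearMap.restrictScalars A) : Submodule A V) : Set V)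
      = ⊤ := Submodule.IsLattice.span_eq_top
  obtain ⟨a, ha, Ha⟩ := Groth.Agent.Lib.helper20.OneDim.exists_smul_le (K := K) M
    (M.map (φ.toLinearMap.restrictScalars A)) fg1 sp2
  obtain ⟨c, hc, Hc⟩ := Groth.Agent.Lib.helper20.OneDim.exists_smul_le (K := K)
    (M.map (φ.toLinearMap.restrictScalars A)) M fg2 sp1
  refine ⟨hlat, ?_, ?_, ?_⟩
  · exact (Groth.Agent.Lib.helper20.OneDim.rl_ne_top
      (P := M ⊓ M.map (φ.toLinearMap.restrictScalars A)) fg1 ha
      (fun m hm => Submodule.mem_inf.mpr ⟨M.smul_mem a hm, Ha m hm⟩)).lt_top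
  · exact (Groth.Agent.Lib.helper20.OneDim.rl_ne_top
      (P := M ⊓ M.map (φ.toLinearMap.restrictScalars A)) fg2 hc
      (fun m hm => Submodule.mem_inf.mpr ⟨Hc m hm, Submodule.smul_mem _ c hm⟩)).lt_top
  · exact Groth.Agent.Lib.helper20.Latt.dd_eq_ordFrac_det hA M φ

end Groth.Agent.S14502
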