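import Groth.Statements.S14503
import Mathlib
import Groth.Agent.Lib.helper20.Latt2

set_option autoImplicit false
universe u
open IntTh

namespace Groth.Agent.S14503

/-- Let A ⊆ B be a module-finite extension of domains with A Noetherian local of Krull dimension one, K
⊆ L their fraction fields, and r ∈ B nonzero. Then B/rB has finite length as an A-module and
length_A(B/rB) equals the order at the closed point of A of the norm N_{L/K}(r), i.e.
length_A(A/(a)) − length_A(A/(b)) for N_{L/K}(r) = a/b. -/
theorem result (A : Type u) [CommRing A] [IsDomain A]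
    [IsNoetherianRing A] [IsLocalRing A] (hA : ringKrullDim A = 1) (B : Type u) [CommRing B]
    [IsDomain B] [Algebra A B] (hinj : Function.Injective (algebraMap A B)) [Module.Finite A B]
    (K L : Type u) [Field K] [Field L] [Algebra A K] [IsFractionRing A K] [Algebra B L]
    [IsFractionRing B L] [Algebra K L] [Algebra A L] [IsScalarTower A B L] [IsScalarTower A K L]
    [FiniteDimensional K L] (r : B) (hr : r ≠ 0) :
    Module.length A (B ⧸ Ideal.span {r}) < ⊤ ∧
      ((Module.length A (B ⧸ Ideal.span {r})).toNat : ℤ) =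
        CycAlg.ordFrac A K (Algebra.norm K (algebraMap B L r)) := by
  haveI : Ring.KrullDimLE 1 A := Ring.krullDimLE_iff.mpr hA.le
  let ι : B →ₗ[A] L := (IsScalarTower.toAlgHom A B L).toLinearMap
  have hι : ∀ x, ι x = algebraMap B L x := fun x => rfl
  have hBL : Function.Injective (algebraMap B L) := IsFractionRing.injective B L
  have hιinj : Function.Injective ι := hBL
  let M : Submodule A L := LinearMap.range ι
  have hMfg : M.FG := by
    show (LinearMap.range ι).FG
    rw [LinearMap.range_eq_map]
    exact (Module.Finite.fg_top).map ι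
  have hMspan : Submodule.span K (M : Set L) = ⊤ := by
    rw [eq_top_iff]
    intro x _
    obtain ⟨b, b', hb', rfl⟩ := IsFractionRing.div_surjective (A := B) x
    haveI : Algebra.IsIntegral A B := Algebra.IsIntegral.of_finite A B
    have halg : IsAlgebraic A b' := (Algebra.IsIntegral.isIntegral b').isAlgebraic
    obtain ⟨a, ha, c, hc⟩ := halg.exists_nonzero_dvd hb'
    have hb'0 : algebraMap B L b' ≠ 0 := by
      rw [Ne, map_eq_zero_iff _ hBL]
      exact nonZeroDivisors.ne_zero hb'
    have hc0 : algebraMap B L c ≠ 0 := by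
      rw [Ne, map_eq_zero_iff _ hBL]
      rintro rfl
      rw [mul_zero] at hc
      exact ha ((map_eq_zero_iff _ hinj).mp hc)
    have hx : algebraMap B L b / algebraMap B L b' = (algebraMap A K a)⁻¹ • ι (b * c) := by
      rw [Algebra.smul_def, map_inv₀, ← IsScalarTower.algebraMap_apply A K L,
        IsScalarTower.algebraMap_apply A B L, hc, hι, map_mul, map_mul]
      field_simp
    rw [hx]
    exact Submodule.smul_mem _ _ (Submodule.subset_span ⟨b * c, rfl⟩)
  haveI hlatM : Submodule.IsLattice K M := ⟨hMfg, hMspan⟩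
  have hr'0 : algebraMap B L r ≠ 0 := by
    rwa [Ne, map_eq_zero_iff _ hBL]
  let φ : L ≃ₗ[K] L := LinearEquiv.ofLinear (LinearMap.mul K L (algebraMap B L r))
    (LinearMap.mul K L (algebraMap B L r)⁻¹)
    (by ext x; simp [hr'0]) (by ext x; simp [hr'0])
  have hφ : φ.toLinearMap = LinearMap.mul K L (algebraMap B L r) := rfl
  have hφx : ∀ x, (φ.toLinearMap.restrictScalars A) x = algebraMap B L r * x := fun x => rfl
  have hdet : LinearMap.det φ.toLinearMap = Algebra.norm K (algebraMap B L r) := by
    rw [hφ, Algebra.norm_apply]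
    rfl
  have key := Groth.Agent.Lib.helper20.Latt.dd_eq_ordFrac_det hA M φ
  rw [hdet] at key
  have hle : M.map (φ.toLinearMap.restrictScalars A) ≤ M := by
    rintro _ ⟨_, ⟨c, rfl⟩, rfl⟩
    refine ⟨r * c, ?_⟩
    rw [hφx, hι, hι, map_mul]
  rw [Groth.Agent.Lib.helper20.Latt.dd_of_le hle] at key
  let e : B ≃ₗ[A] M := LinearEquiv.ofInjective ι hιinj
  have hmap : ((Ideal.span {r}).restrictScalars A).map (e : B →ₗ[A] M) =
      (M.map (φ.toLinearMap.restrictScalars A)).submoduleOf M := by
    ext ⟨y, hy⟩
    constructor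
    · rintro ⟨x, hx, hxy⟩
      have hx' : x ∈ Ideal.span {r} := hx
      obtain ⟨c, rfl⟩ := Ideal.mem_span_singleton'.mp hx'
      have : algebraMap B L (c * r) = y := congrArg Subtype.val hxy
      refine ⟨ι c, ⟨c, rfl⟩, ?_⟩
      show algebraMap B L r * algebraMap B L c = y
      rw [← this, map_mul, mul_comm]
    · rintro ⟨_, ⟨c, rfl⟩, hcy⟩
      refine ⟨c * r, Ideal.mem_span_singleton'.mpr ⟨c, rfl⟩, Subtype.ext ?_⟩
      show algebraMap B L (c * r) = y
      have hcy' : algebraMap B L r * algebraMap B L c = y := hcy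
      rw [← hcy', map_mul, mul_comm]
  let E : (B ⧸ Ideal.span {r}) ≃ₗ[A]
      (↥M ⧸ (M.map (φ.toLinearMap.restrictScalars A)).submoduleOf M) :=
    (Submodule.Quotient.restrictScalarsEquiv A (Ideal.span {r})).symm ≪≫ₗ
      Submodule.Quotient.equiv _ _ e hmap
  rw [E.length_eq]
  refine ⟨?_, key⟩
  haveI hlat2 := Groth.Agent.Lib.helper20.Latt.isLattice_map (A := A) M φ
  have sp2 : Submodule.span K ((M.map (φ.toLinearMap.restrictScalars A) : Submodule A L) : Set L)
      = ⊤ := Submodule.IsLattice.span_eq_top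
  obtain ⟨a, ha, Ha⟩ := Groth.Agent.Lib.helper20.OneDim.exists_smul_le (K := K) M
    (M.map (φ.toLinearMap.restrictScalars A)) hMfg sp2
  exact (Groth.Agent.Lib.helper20.OneDim.rl_ne_top hMfg ha Ha).lt_top

end Groth.Agent.S14503
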