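import Groth.Statements.S14504
import Groth.Agent.Lib.helper13.SchubPl

set_option autoImplicit false
universe u
open IntTh

namespace Groth.Agent.S14504

/-- Let K be a field, d ≤ n, λ = (λ₁ ≥ ⋯ ≥ λ_d) a non-increasing sequence of natural numbers, d_i = n −
d + i − λ_i, and V_j ⊆ K^n the span of the first j standard basis vectors. For a d × n matrix A over
K with linearly independent rows spanning the subspace W: one has dim(W ∩ V_{d_i}) ≥ i for every i =
1, …, d if and only if every d × d minor of A taken on strictly increasing columns j₁ < ⋯ < j_d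
(1-indexed) with j_i > d_i for some i vanishes. (Indices are 0-based in the formal statement: row i
: Fin d stands for i + 1 and column l : Fin n for l + 1.) -/
theorem result (K : Type u) [Field K] (n d : ℕ)
    (hdn : d ≤ n) (V : ℕ → Submodule K (Fin n → K))
    (hV : ∀ (j : ℕ) (v : Fin n → K), v ∈ V j ↔ ∀ l : Fin n, j ≤ (l : ℕ) → v l = 0)
    (lam : Fin d → ℕ) (hlam : Antitone lam) (A : Matrix (Fin d) (Fin n) K)
    (hA : LinearIndependent K (fun i : Fin d => A i)) :
    (∀ i : Fin d, (i : ℕ) + 1 ≤
        Module.finrank K ↥(Submodule.span K (Set.range fun i : Fin d => A i) ⊓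
          V (n - d + ((i : ℕ) + 1) - lam i))) ↔
      ∀ J : Fin d → Fin n, StrictMono J →
        (∃ i : Fin d, n - d + ((i : ℕ) + 1) - lam i < (J i : ℕ) + 1) →
          (A.submatrix id J).det = 0 := by
  constructor
  · intro h J hJ hex
    obtain ⟨i, hi⟩ := hex
    by_contra hdet
    have := Groth.Agent.Lib.helper13.SchubPl.finrank_le_of_det_ne_zero A
      (V (n - d + ((i : ℕ) + 1) - lam i)) (n - d + ((i : ℕ) + 1) - lam i)
      (hV (n - d + ((i : ℕ) + 1) - lam i)) J hJ i (by omega) hdet
    have h2 := h i
    omega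
  · intro h i
    by_contra hlt
    push Not at hlt
    obtain ⟨J, hJ, hJi, hdet⟩ := Groth.Agent.Lib.helper13.SchubPl.exists_minor_of_finrank_le A hA
      (V (n - d + ((i : ℕ) + 1) - lam i)) (n - d + ((i : ℕ) + 1) - lam i)
      (hV (n - d + ((i : ℕ) + 1) - lam i)) i (by omega)
    exact hdet (h J hJ ⟨i, by omega⟩)

end Groth.Agent.S14504
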