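import Groth.Statements.S14511
import Mathlib.Tactic
-- import your own Groth.Agent.* helpers here

set_option autoImplicit false
universe u
open CAlgX

namespace Groth.Agent.S14511

theorem prod_formula (R : Type u) [CommRing R] (r : ℕ) (e : Fin r →₀ ℕ) (J : Finset (Fin r)) :
    ∏ i, (if i ∈ J then (-1 : R) else 0) ^ e i =
      if e.support ⊆ J then (-1 : R) ^ (∑ i, e i) else 0 := by
  split_ifs with h
  · rw [← Finset.prod_pow_eq_pow_sum]
    refine Finset.prod_congr rfl fun i _ => ?_
    by_cases hi : i ∈ J
    · rw [if_pos hi]
    · have : e i = 0 := by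
        by_contra h0
        exact hi (h (Finsupp.mem_support_iff.mpr h0))
      rw [this, pow_zero, pow_zero]
  · rw [Finset.not_subset] at h
    obtain ⟨i, hi, hiJ⟩ := h
    refine Finset.prod_eq_zero (Finset.mem_univ i) ?_
    rw [if_neg hiJ, zero_pow (Finsupp.mem_support_iff.mp hi)]

theorem key (R : Type u) [CommRing R] (r : ℕ) (e : Fin r →₀ ℕ) (he : ∑ i, e i ≤ r) :
    ∑ J : Finset (Fin r), (-1 : R) ^ J.card * ∏ i, (if i ∈ J then (-1 : R) else 0) ^ e i =
      if e = ∑ i : Fin r, Finsupp.single i 1 then 1 else 0 := by
  classical
  have hone : ∀ i : Fin r, (∑ j : Fin r, Finsupp.single j 1 : Fin r →₀ ℕ) i = 1 := by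
    intro i
    rw [Finsupp.finsetSum_apply]
    simp [Finsupp.single_apply]
  simp_rw [prod_formula]
  by_cases hS : e.support = Finset.univ
  · -- all exponents positive
    have hpos : ∀ i, 1 ≤ e i := by
      intro i
      have : i ∈ e.support := by rw [hS]; exact Finset.mem_univ i
      exact Nat.one_le_iff_ne_zero.mpr (Finsupp.mem_support_iff.mp this)
    have hsum : ∑ i, e i = r := by
      apply le_antisymm he
      calc r = ∑ _i : Fin r, 1 := by simp
        _ ≤ ∑ i, e i := Finset.sum_le_sum fun i _ => hpos i
    have he1 : e = ∑ i : Fin r, Finsupp.single i 1 := by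
      ext i
      rw [hone]
      by_contra hne
      have hlt : 1 < e i := lt_of_le_of_ne (hpos i) (Ne.symm hne)
      have : ∑ _j : Fin r, 1 < ∑ j, e j :=
        Finset.sum_lt_sum (fun j _ => hpos j) ⟨i, Finset.mem_univ i, hlt⟩
      simp at this
      omega
    rw [if_pos he1]
    rw [Finset.sum_eq_single Finset.univ]
    · rw [if_pos (by rw [hS]), hsum, Finset.card_univ, Fintype.card_fin, ← pow_add, ← two_mul,
        pow_mul]
      simp
    · intro J _ hJ
      rw [if_neg, mul_zero]
      rw [hS]
      intro h
      exact hJ (Finset.univ_subset_iff.mp h)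
    · intro h
      exact absurd (Finset.mem_univ _) h
  · obtain ⟨i₀, hi₀⟩ : ∃ i₀, i₀ ∉ e.support := by
      by_contra h
      push Not at h
      exact hS (Finset.eq_univ_iff_forall.mpr h)
    have hne : e ≠ ∑ i : Fin r, Finsupp.single i 1 := by
      intro h
      have h1 := hone i₀
      rw [← h] at h1
      rw [Finsupp.mem_support_iff, not_not] at hi₀
      omega
    rw [if_neg hne]
    refine Finset.sum_ninvolution (fun J => if i₀ ∈ J then J.erase i₀ else insert i₀ J) ?_ ?_ ?_ ?_
    · intro J
      by_cases hi : i₀ ∈ J
      · simp only [hi, if_true]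
        have hcard : J.card = (J.erase i₀).card + 1 := (Finset.card_erase_add_one hi).symm
        have hsub : e.support ⊆ J.erase i₀ ↔ e.support ⊆ J := by
          constructor
          · exact fun h => h.trans (Finset.erase_subset _ _)
          · intro h x hx
            refine Finset.mem_erase.mpr ⟨?_, h hx⟩
            rintro rfl
            exact hi₀ hx
        simp only [hsub]
        rw [hcard, pow_succ]
        ring
      · simp only [hi, if_false]
        have hcard : (insert i₀ J).card = J.card + 1 := Finset.card_insert_of_notMem hi
        have hsub : e.support ⊆ insert i₀ J ↔ e.support ⊆ J := by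
          constructor
          · intro h x hx
            rcases Finset.mem_insert.mp (h hx) with rfl | h'
            · exact absurd hx hi₀
            · exact h'
          · exact fun h => h.trans (Finset.subset_insert _ _)
        simp only [hsub]
        rw [hcard, pow_succ]
        ring
    · intro J _
      by_cases hi : i₀ ∈ J
      · simp only [hi, if_true]
        intro h
        have : i₀ ∈ J.erase i₀ := by rw [h]; exact hi
        exact (Finset.notMem_erase i₀ J) this
      · simp only [hi, if_false]
        intro h
        exact hi (by rw [← h]; exact Finset.mem_insert_self i₀ J)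
    · intro J
      exact Finset.mem_univ _
    · intro J
      by_cases hi : i₀ ∈ J
      · simp [hi, Finset.insert_erase hi]
      · simp [hi, Finset.erase_insert hi]

/-- Let R be a commutative ring and P ∈ R[x_1, …, x_r] a polynomial of total degree at most r. Then the
coefficient of the monomial x_1 ⋯ x_r in P equals Σ_J (−1)^{|J|} P(δ_J), the sum over all subsets J
⊆ {1, …, r} (the empty one included), where δ_J is the point with coordinate −1 at the indices in J
and 0 at the others. -/
theorem result (R : Type u) [CommRing R] (r : ℕ)
    (P : MvPolynomial (Fin r) R) (hP : P.totalDegree ≤ r) :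
    MvPolynomial.coeff (∑ i : Fin r, Finsupp.single i 1) P =
      ∑ J : Finset (Fin r), (-1 : R) ^ J.card * MvPolynomial.eval (fun j => if j ∈ J then (-1 : R) else 0) P := by
  classical
  simp_rw [MvPolynomial.eval_eq', Finset.mul_sum]
  rw [Finset.sum_comm]
  have : ∀ e ∈ P.support, ∑ J : Finset (Fin r), (-1 : R) ^ J.card *
      (MvPolynomial.coeff e P * ∏ i, (if i ∈ J then (-1 : R) else 0) ^ e i) =
      MvPolynomial.coeff e P * (if e = ∑ i : Fin r, Finsupp.single i 1 then 1 else 0) := by
    intro e he
    have hdeg : ∑ i, e i ≤ r := by
      have := MvPolynomial.le_totalDegree he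
      rw [Finsupp.sum_fintype _ _ (fun _ => rfl)] at this
      exact this.trans hP
    rw [← key R r e hdeg, Finset.mul_sum]
    refine Finset.sum_congr rfl fun J _ => ?_
    ring
  rw [Finset.sum_congr rfl this]
  simp only [mul_ite, mul_one, mul_zero]
  rw [Finset.sum_ite_eq']
  split_ifs with h
  · rfl
  · exact MvPolynomial.notMem_support_iff.mp h

end Groth.Agent.S14511
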