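import Groth.Statements.S14519
import Mathlib
import Groth.Agent.Lib.helper4.Rat14
import Groth.Agent.S4989

set_option autoImplicit false
universe u
open CategoryTheory CategoryTheory.Limits AlgebraicGeometry
open Curves

namespace Groth.Agent.S14519

section Helpers
open CategoryTheory AlgebraicGeometry

/-- Stalks of the spectrum of a field are integrally closed domains. -/
theorem stalk_spec_field (k : Type u) [Field k] (s : Spec (CommRingCat.of k)) :
    IsDomain ((Spec (CommRingCat.of k)).presheaf.stalk s) ∧
      IsIntegrallyClosed ((Spec (CommRingCat.of k)).presheaf.stalk s) := by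
  let _ : Algebra k ((Spec (CommRingCat.of k)).presheaf.stalk s) :=
    StructureSheaf.stalkAlgebra (CommRingCat.of k) s
  have hloc : IsLocalization.AtPrime ((Spec (CommRingCat.of k)).presheaf.stalk s) s.asIdeal :=
    StructureSheaf.IsLocalization.to_stalk (CommRingCat.of k) s
  have hle : s.asIdeal.primeCompl ≤ nonZeroDivisors k := by
    intro a ha
    have ha0 : a ≠ 0 := by
      rintro rfl
      exact ha (Ideal.zero_mem _)
    exact mem_nonZeroDivisors_of_ne_zero ha0
  exact ⟨IsLocalization.isDomain_of_le_nonZeroDivisors _ hle,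
    isIntegrallyClosed_of_isLocalization _ _ hle⟩

theorem main (k : Type u) [Field k]
    (X Y : Scheme.{u}) (pX : X ⟶ Spec (CommRingCat.of k)) (pY : Y ⟶ Spec (CommRingCat.of k))
    [IsIntegral X] [IsSeparated pX] [LocallyOfFiniteType pX]
    [IsIntegral Y] [LocallyOfFiniteType pY] [Smooth pY] (hdimY : topologicalKrullDim Y = 1)
    (f : X ⟶ Y) (hf : f ≫ pY = pX)
    (e : f (genericPoint X) = genericPoint Y)
    (hbir : Function.Bijective
      (Y.presheaf.stalkSpecializes (specializes_of_eq e) ≫ f.stalkMap (genericPoint X)).hom) :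
    IsOpenImmersion f := by
  have h1 : IsSeparated (f ≫ pY) := hf ▸ inferInstance
  have h2 : LocallyOfFiniteType (f ≫ pY) := hf ▸ inferInstance
  have hsep : IsSeparated f := IsSeparated.of_comp f pY
  have hlft : LocallyOfFiniteType f := locallyOfFiniteType_of_comp f pY
  have hY : IsLocallyNoetherian Y := LocallyOfFiniteType.isLocallyNoetherian pY
  -- stalk iso at the generic point
  have hiso1 : IsIso (Y.presheaf.stalkSpecializes (specializes_of_eq e)) := by
    refine ⟨Y.presheaf.stalkSpecializes (specializes_of_eq e.symm), ?_, ?_⟩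
    · rw [TopCat.Presheaf.stalkSpecializes_comp, TopCat.Presheaf.stalkSpecializes_refl]
    · rw [TopCat.Presheaf.stalkSpecializes_comp, TopCat.Presheaf.stalkSpecializes_refl]
  have hiso2 : IsIso (Y.presheaf.stalkSpecializes (specializes_of_eq e) ≫
      f.stalkMap (genericPoint X)) := (ConcreteCategory.isIso_iff_bijective _).2 hbir
  have hbir' : IsIso (f.stalkMap (genericPoint X)) := IsIso.of_isIso_comp_left
    (Y.presheaf.stalkSpecializes (specializes_of_eq e)) _
  refine Groth.Agent.H4Rat.isOpenImmersion_of_valuationRing_stalks f e hbir' (fun y => ?_)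
  have hy : y ∈ pY.smoothLocus := by rw [Scheme.Hom.smoothLocus_eq_top]; trivial
  have hn := ((Groth.Agent.S4989.result pY y hy).2).2 (stalk_spec_field k _)
  have _ := hn.2
  exact Groth.Agent.H4Rat.valuationRing_stalk_of_dim_le_one Y hdimY.le y hn.2

end Helpers


/-- Let k be an algebraically closed field and f : X → Y a birational morphism over k between smooth
curves (X, Y integral, separated, of finite type and smooth over k, of dimension one; f sends the
generic point of X to that of Y and the induced map of function fields K(Y) → K(X) is bijective).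
Then f is an open immersion. -/
theorem result (k : Type u) [Field k] [IsAlgClosed k]
    (X Y : Scheme.{u}) [X.Over (Spec (CommRingCat.of k))] [Y.Over (Spec (CommRingCat.of k))]
    [IsIntegral X] [IsSeparated (X ↘ (Spec (CommRingCat.of k)))] [LocallyOfFiniteType (X ↘ (Spec (CommRingCat.of k)))] [QuasiCompact (X ↘ (Spec (CommRingCat.of k)))] [Smooth (X ↘ (Spec (CommRingCat.of k)))] (hdimX : topologicalKrullDim X = 1)
    [IsIntegral Y] [IsSeparated (Y ↘ (Spec (CommRingCat.of k)))] [LocallyOfFiniteType (Y ↘ (Spec (CommRingCat.of k)))] [QuasiCompact (Y ↘ (Spec (CommRingCat.of k)))] [Smooth (Y ↘ (Spec (CommRingCat.of k)))] (hdimY : topologicalKrullDim Y = 1)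
    (f : X ⟶ Y) (hf : f ≫ (Y ↘ (Spec (CommRingCat.of k))) = (X ↘ (Spec (CommRingCat.of k))))
    (e : f (genericPoint X) = genericPoint Y)
    (hbir : Function.Bijective (Y.presheaf.stalkSpecializes (specializes_of_eq e) ≫ f.stalkMap (genericPoint X)).hom) :
    IsOpenImmersion f := by
  exact main k X Y (X ↘ (Spec (CommRingCat.of k))) (Y ↘ (Spec (CommRingCat.of k))) hdimY f hf e hbir

end Groth.Agent.S14519
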