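import Groth.Statements.S16227
import Mathlib
import Groth.Agent.S18859
import Groth.Agent.S18977
import Groth.Agent.S8718
-- import your own Groth.Agent.* helpers here

set_option autoImplicit false
universe u
open CategoryTheory MonoidalCategory CartesianMonoidalCategory MonObj AlgebraicGeometry
open PrincBund

namespace Groth.Agent.S16227

open CategoryTheory CategoryTheory.Limits AlgebraicGeometry

namespace H5S16227

open MonoidalCategory CartesianMonoidalCategory MonObj Groth.Agent.S18859 Groth.Agent.S18977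
  Groth.Agent.S8718

variable {S : Scheme.{u}}

section Tr
variable {G X : Over S} [GrpObj G] (a : AlgGrp.Action G X) [IsIso (lift a.act (snd G X))]

/-- the transporter: the unique `g` with `g • x = y` -/
noncomputable def tr {T : Over S} (y x : T ⟶ X) : T ⟶ G :=
  lift y x ≫ inv (lift a.act (snd G X)) ≫ fst G X

lemma tr_act {T : Over S} (y x : T ⟶ X) : lift (tr a y x) x ≫ a.act = y := by
  have hw : (lift y x ≫ inv (lift a.act (snd G X))) ≫ lift a.act (snd G X) = lift y x := by
    rw [Category.assoc, IsIso.inv_hom_id, Category.comp_id]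
  have h1 : (lift y x ≫ inv (lift a.act (snd G X))) ≫ a.act = y := by
    have := congrArg (fun q => q ≫ fst X X) hw
    simpa using this
  have h2 : (lift y x ≫ inv (lift a.act (snd G X))) ≫ snd G X = x := by
    have := congrArg (fun q => q ≫ snd X X) hw
    simpa using this
  have h3 : lift (tr a y x) x = lift y x ≫ inv (lift a.act (snd G X)) := by
    apply CartesianMonoidalCategory.hom_ext
    · simp [tr]
    · rw [lift_snd, h2]
  rw [h3, h1]

end Tr

/-- local sections of `E ⟶ S` give local sections of the projection `E ⊗ W ⟶ W` -/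
lemma loc_snd {K : Precoverage Scheme.{u}} [K.IsStableUnderBaseChange] (E W : Over S)
    (hloc : NonAbH1.IsLocallyTrivialFor K E) :
    NonAbH1.IsLocallyTrivialFor K (Over.mk (snd E W).left : Over W.left) := by
  obtain ⟨R, hR, hs⟩ := hloc
  obtain ⟨J, T, g, rfl⟩ := R.exists_eq_ofArrows
  refine ⟨_, Precoverage.mem_coverings_of_isPullback g hR W.hom
    (fun j => pullback.snd (g j) W.hom) (fun j => pullback.fst (g j) W.hom)
    (fun j => (IsPullback.of_hasPullback (g j) W.hom).flip), ?_⟩
  rintro _ _ ⟨j⟩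
  obtain ⟨s, hs'⟩ := hs (g j) (Presieve.ofArrows.mk j)
  refine ⟨pullback.lift (pullback.fst (g j) W.hom ≫ s) (pullback.snd (g j) W.hom) ?_, ?_⟩
  · rw [Category.assoc, hs']
    exact pullback.condition
  · change _ ≫ (snd E W).left = _
    exact pullback.lift_snd _ _ _

lemma loc_toUnit {K : Precoverage Scheme.{u}} (E : Over S)
    (hloc : NonAbH1.IsLocallyTrivialFor K E) :
    NonAbH1.IsLocallyTrivialFor K (Over.mk (toUnit E).left : Over (𝟙_ (Over S)).left) := by
  obtain ⟨R, hR, hs⟩ := hloc
  refine ⟨R, hR, ?_⟩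
  intro T g hg
  obtain ⟨s, hs'⟩ := hs g hg
  refine ⟨s, ?_⟩
  have h1 : (toUnit E).left = E.hom := by
    have := Over.w (toUnit E)
    simpa using this
  change s ≫ (toUnit E).left = g
  rw [h1, hs']

theorem main {G H F Q : Over S} [GrpObj G] [GrpObj H]
    (i : G ⟶ H) [IsMonHom i]
    (aF : AlgGrp.Action H F)
    (π : F ⟶ Q)
    (hsq : IsPullback (aF.restrict i).act (snd G F) π π)
    {E : Over S} (aE : AlgGrp.Action G E) (hE : NonAbH1.IsTorsorFor Scheme.etalePrecoverage aE)
    (φ : E ⟶ F) (hφ : AlgGrp.Action.IsEquivariant aE (aF.restrict i) φ) :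
    (∃! σ : 𝟙_ (Over S) ⟶ Q, toUnit E ≫ σ = φ ≫ π) ∧
      ∀ σ : 𝟙_ (Over S) ⟶ Q, toUnit E ≫ σ = φ ≫ π → IsPullback φ (toUnit E) π σ := by
  obtain ⟨hps, hEloc⟩ := hE
  haveI : IsIso (lift aE.act (snd G E)) := hps
  have hle : Scheme.etalePrecoverage.{u} ≤ Scheme.fpqcPrecoverage :=
    (Scheme.etalePrecoverage_le_proetalePrecoverage).trans Scheme.proetalePrecoverage_le_fpqcPrecoverage
  have hEloc' : NonAbH1.IsLocallyTrivialFor Scheme.fpqcPrecoverage E := H5S8718.loc_mono hle hEloc
  -- equivariance on points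
  have heq : ∀ {W : Over S} (g : W ⟶ G) (e : W ⟶ E),
      (lift g e ≫ aE.act) ≫ φ = lift g (e ≫ φ) ≫ (aF.restrict i).act := by
    intro W g e
    rw [Category.assoc, hφ, lift_whiskerLeft_assoc]
  -- invariance of `π` on points
  have hinvπ : ∀ {W : Over S} (g : W ⟶ G) (f : W ⟶ F),
      (lift g f ≫ (aF.restrict i).act) ≫ π = f ≫ π := by
    intro W g f
    rw [Category.assoc, hsq.w, lift_snd_assoc]
  have hφπ : ∀ {W : Over S} (p₁ p₂ : W ⟶ E), p₁ ≫ φ ≫ π = p₂ ≫ φ ≫ π := by
    intro W p₁ p₂
    have h1 := tr_act aE p₁ p₂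
    rw [← h1, ← Category.assoc, heq, hinvπ, Category.assoc]
  refine ⟨?_, ?_⟩
  · exact H5S8718.desc_over (toUnit E) (loc_toUnit E hEloc') (φ ≫ π) (fun p₁ p₂ _ => hφπ p₁ p₂)
  · intro σ hσ
    have key : ∀ {W : Over S} (f : W ⟶ F) (t : W ⟶ 𝟙_ (Over S)) (h : f ≫ π = t ≫ σ),
        ∃! e : W ⟶ E, e ≫ φ = f := by
      intro W f t h
      have hcomp : (fst E W ≫ φ) ≫ π = (snd E W ≫ f) ≫ π := by
        rw [Category.assoc, ← hσ, Category.assoc, h, ← Category.assoc, ← Category.assoc]
        congr 1
        exact toUnit_unique _ _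
      obtain ⟨g, hg, hgu⟩ := H5S18977.sq_tr hsq (snd E W ≫ f) (fst E W ≫ φ) hcomp.symm
      let θ : E ⊗ W ⟶ E := lift g (fst E W) ≫ aE.act
      have hθφ : θ ≫ φ = snd E W ≫ f := by
        rw [heq, hg]
      have hθinv : ∀ {W' : Over S} (p₁ p₂ : W' ⟶ E ⊗ W), p₁ ≫ snd E W = p₂ ≫ snd E W →
          p₁ ≫ θ = p₂ ≫ θ := by
        intro W' p₁ p₂ hp
        -- e₁ = k • e₂
        have hk := tr_act aE (p₁ ≫ fst E W) (p₂ ≫ fst E W)
        set k := tr aE (p₁ ≫ fst E W) (p₂ ≫ fst E W) with hkdef
        have e1 : lift (p₁ ≫ g) ((p₁ ≫ fst E W) ≫ φ) ≫ (aF.restrict i).act = (p₁ ≫ snd E W) ≫ f := by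
          have := congrArg (fun q => p₁ ≫ q) hg
          simpa [comp_lift_assoc] using this
        have e2 : lift (p₂ ≫ g) ((p₂ ≫ fst E W) ≫ φ) ≫ (aF.restrict i).act = (p₂ ≫ snd E W) ≫ f := by
          have := congrArg (fun q => p₂ ≫ q) hg
          simpa [comp_lift_assoc] using this
        have e3 : lift ((p₁ ≫ g) * k) ((p₂ ≫ fst E W) ≫ φ) ≫ (aF.restrict i).act
            = (p₂ ≫ snd E W) ≫ f := by
          rw [AlgGrp.Action.lift_mul_act, ← heq, hk, e1, hp]
        have hcc : ((p₂ ≫ snd E W) ≫ f) ≫ π = ((p₂ ≫ fst E W) ≫ φ) ≫ π := by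
          rw [← e2, hinvπ]
        obtain ⟨g', -, hg'u⟩ := H5S18977.sq_tr hsq ((p₂ ≫ snd E W) ≫ f) ((p₂ ≫ fst E W) ≫ φ) hcc
        have e4 : (p₁ ≫ g) * k = p₂ ≫ g := by
          rw [hg'u _ e3, hg'u _ e2]
        change p₁ ≫ lift g (fst E W) ≫ aE.act = p₂ ≫ lift g (fst E W) ≫ aE.act
        rw [comp_lift_assoc, comp_lift_assoc, ← e4, AlgGrp.Action.lift_mul_act, hk]
      obtain ⟨e, he, heu⟩ := H5S8718.desc_over (snd E W) (loc_snd E W hEloc') θ hθinv
      have heφ : e ≫ φ = f := by
        apply H5S8718.epi_of_loc (snd E W) (loc_snd E W hEloc')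
        rw [← Category.assoc, he, hθφ]
      refine ⟨e, heφ, ?_⟩
      intro e' he'
      -- e' = k • e, k • f = f, so k = 1
      have hk := tr_act aE e' e
      set k := tr aE e' e with hkdef
      have e1 : lift k f ≫ (aF.restrict i).act = f := by
        have := heq k e
        rw [hk, he', heφ] at this
        exact this.symm
      have e2 : lift (1 : W ⟶ G) f ≫ (aF.restrict i).act = f := AlgGrp.Action.lift_one_act _ f
      obtain ⟨g', -, hg'u⟩ := H5S18977.sq_tr hsq f f rfl
      have hk1 : k = 1 := by rw [hg'u _ e1, hg'u _ e2]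
      rw [← hk, hk1, AlgGrp.Action.lift_one_act]
    refine ⟨⟨hσ.symm⟩, ⟨PullbackCone.IsLimit.mk _
      (fun s => (key s.fst s.snd s.condition).choose) ?_ ?_ ?_⟩⟩
    · intro s
      exact (key s.fst s.snd s.condition).choose_spec.1
    · intro s
      exact toUnit_unique _ _
    · intro s m hm1 _
      exact (key s.fst s.snd s.condition).choose_spec.2 m hm1

end H5S16227

/-- Let i : G → H be a homomorphism of group schemes over a base scheme S which is a closed immersion, F
an H-torsor over S for the etale topology with action aF, and π : F → Q a morphism of S-schemes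
exhibiting Q as the quotient F/G, in the sense that the square formed by the restricted action G ×_S
F → F, the projection G ×_S F → F and π twice is cartesian and π acquires sections etale-locally on
Q. Then a reduction of the structure group of F to G, namely a G-torsor E over S for the etale
topology together with an i-equivariant morphism φ : E → F over S, determines a unique section σ of
Q over S such that the composite E → S → Q equals φ followed by π, and for this σ the square (φ, E →
S; π, σ) is cartesian, so that E is recovered as the pullback of F along σ. (Stated over an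
arbitrary base scheme and for arbitrary group schemes; the quotient F/G is taken as data through its
torsor property rather than constructed.) -/
theorem result
    {S : Scheme.{u}} {G H F Q : Over S} [GrpObj G] [GrpObj H]
    (i : G ⟶ H) [IsMonHom i] [IsClosedImmersion i.left]
    (aF : AlgGrp.Action H F) (hF : NonAbH1.IsTorsorFor Scheme.etalePrecoverage aF)
    (π : F ⟶ Q)
    (hsq : IsPullback (aF.restrict i).act (snd G F) π π)
    (hloc : NonAbH1.IsLocallyTrivialFor Scheme.etalePrecoverage (Over.mk π.left : Over Q.left))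
    {E : Over S} (aE : AlgGrp.Action G E) (hE : NonAbH1.IsTorsorFor Scheme.etalePrecoverage aE)
    (φ : E ⟶ F) (hφ : AlgGrp.Action.IsEquivariant aE (aF.restrict i) φ) :
    (∃! σ : 𝟙_ (Over S) ⟶ Q, toUnit E ≫ σ = φ ≫ π) ∧
      ∀ σ : 𝟙_ (Over S) ⟶ Q, toUnit E ≫ σ = φ ≫ π → IsPullback φ (toUnit E) π σ := by
  exact H5S16227.main i aF π hsq aE hE φ hφ

end Groth.Agent.S16227
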