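import Groth.Statements.S6010
import Mathlib
import Groth.Prelude.Def_ChGrp
import Groth.Agent.S18859
import Groth.Agent.S18977
import Groth.Agent.S8718
import Groth.Agent.S16227
-- import your own Groth.Agent.* helpers here

set_option autoImplicit false
universe u
open CategoryTheory AlgebraicGeometry MonoidalCategory CartesianMonoidalCategory MonObj GrpObj
open SGA1

namespace Groth.Agent.S6010

open CategoryTheory CategoryTheory.Limits AlgebraicGeometry

namespace H5S6010

open MonoidalCategory CartesianMonoidalCategory MonObj Groth.Agent.S18859 Groth.Agent.S18977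
  Groth.Agent.S8718 Groth.Agent.S16227

variable {S : Scheme.{u}}

section Tr
variable {G X : Over S} [GrpObj G] (a : AlgGrp.Action G X) [IsIso (lift a.act (snd G X))]

lemma tr_unique {T : Over S} (g : T ⟶ G) (y x : T ⟶ X) (h : lift g x ≫ a.act = y) :
    g = H5S16227.tr a y x := by
  have h1 : lift g x ≫ lift a.act (snd G X) = lift y x := by
    rw [comp_lift, h, lift_snd]
  have h2 : lift g x = lift y x ≫ inv (lift a.act (snd G X)) := by
    rw [← h1, Category.assoc, IsIso.hom_inv_id, Category.comp_id]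
  have := congrArg (fun q => q ≫ fst G X) h2
  simpa [H5S16227.tr] using this

lemma comp_tr {T T' : Over S} (p : T' ⟶ T) (y x : T ⟶ X) :
    p ≫ H5S16227.tr a y x = H5S16227.tr a (p ≫ y) (p ≫ x) := by
  simp only [H5S16227.tr, ← Category.assoc, comp_lift]

end Tr

lemma loc_fst {K : Precoverage Scheme.{u}} [K.IsStableUnderBaseChange] (E W : Over S)
    (hloc : NonAbH1.IsLocallyTrivialFor K W) :
    NonAbH1.IsLocallyTrivialFor K (Over.mk (fst E W).left : Over E.left) := by
  obtain ⟨R, hR, hs⟩ := hloc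
  obtain ⟨J, T, g, rfl⟩ := R.exists_eq_ofArrows
  refine ⟨_, Precoverage.mem_coverings_of_isPullback g hR E.hom
    (fun j => pullback.snd (g j) E.hom) (fun j => pullback.fst (g j) E.hom)
    (fun j => (IsPullback.of_hasPullback (g j) E.hom).flip), ?_⟩
  rintro _ _ ⟨j⟩
  obtain ⟨s, hs'⟩ := hs (g j) (Presieve.ofArrows.mk j)
  refine ⟨pullback.lift (pullback.snd (g j) E.hom) (pullback.fst (g j) E.hom ≫ s) ?_, ?_⟩
  · rw [Category.assoc, hs']
    exact pullback.condition.symm
  · change _ ≫ (fst E W).left = _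
    exact pullback.lift_fst _ _ _

theorem main {G G' G'' : Over S} [GrpObj G] [GrpObj G'] [GrpObj G'']
    (u : G' ⟶ G) (v : G ⟶ G'') (hex : NonAbH1.IsExactSeq Scheme.fpqcPrecoverage u v)
    (P : NonAbH1.TorsorSch G Scheme.fpqcPrecoverage) :
    NonAbH1.IsPushforwardAlongSch v P.act (NonAbH1.trivialAction G'') ↔
      ∃ Q : NonAbH1.TorsorSch G' Scheme.fpqcPrecoverage,
        NonAbH1.IsPushforwardAlongSch u Q.act P.act := by
  obtain ⟨hu, hv, huv, hsq, hloc⟩ := hex
  haveI := hu
  haveI := hv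
  obtain ⟨X, a, hps, hPloc⟩ := P
  haveI : IsIso (lift a.act (snd G X)) := hps
  change NonAbH1.IsPushforwardAlongSch v a (NonAbH1.trivialAction G'') ↔
      ∃ Q : NonAbH1.TorsorSch G' Scheme.fpqcPrecoverage,
        NonAbH1.IsPushforwardAlongSch u Q.act a
  constructor
  · rintro ⟨h, hh⟩
    have hh' : ∀ {T : Over S} (g : T ⟶ G) (p : T ⟶ X),
        (lift g p ≫ a.act) ≫ h = (g ≫ v) * (p ≫ h) := by
      intro T g p
      rw [Category.assoc, hh, comp_lift_assoc, lift_fst_assoc, lift_snd_assoc]
      change lift (g ≫ v) (p ≫ h) ≫ μ[G''] = _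
      rw [← Hom.mul_def]
    let b : AlgGrp.Action G' X := a.restrict u
    have hb : ∀ {T : Over S} (g' : T ⟶ G') (x : T ⟶ X),
        lift g' x ≫ b.act = lift (g' ≫ u) x ≫ a.act := by
      intro T g' x
      rw [AlgGrp.Action.lift_restrict_act]
    let Q₀ : Over S := pullback h η[G'']
    let ψ : Q₀ ⟶ X := pullback.fst h η[G'']
    have hψh : ∀ {W : Over S} (q : W ⟶ Q₀), (q ≫ ψ) ≫ h = 1 := by
      intro W q
      rw [Category.assoc, pullback.condition, ← Category.assoc, Hom.one_def]
      congr 1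
      exact toUnit_unique _ _
    have hext : ∀ {W : Over S} (e e' : W ⟶ Q₀), e ≫ ψ = e' ≫ ψ → e = e' := by
      intro W e e' h
      apply pullback.hom_ext h
      exact toUnit_unique _ _
    have hmk : ∀ {W : Over S} (p : W ⟶ X), p ≫ h = 1 → ∃ q : W ⟶ Q₀, q ≫ ψ = p := by
      intro W p hp
      exact ⟨pullback.lift p (toUnit W) (by rw [hp, Hom.one_def]), pullback.lift_fst _ _ _⟩
    have hactw : ((G' ◁ ψ) ≫ b.act) ≫ h = 1 := by
      apply AlgGrp.Action.hom_ext_lift₂
      intro T g' q
      rw [Category.assoc, lift_whiskerLeft_assoc, ← Category.assoc, hb, hh', Category.assoc, huv,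
        MonObj.comp_one, hψh, MonObj.comp_one, _root_.mul_one]
    obtain ⟨act, hactφ⟩ := hmk _ hactw
    have hact : ∀ {W : Over S} (g : W ⟶ G') (p : W ⟶ Q₀),
        (lift g p ≫ act) ≫ ψ = lift g (p ≫ ψ) ≫ b.act := by
      intro W g p
      rw [Category.assoc, hactφ, lift_whiskerLeft_assoc]
    let aE : AlgGrp.Action G' Q₀ :=
      { act := act
        one_act := by
          apply AlgGrp.Action.hom_ext_lift₂
          intro T u p
          have hu : u ≫ η[G'] = 1 := by rw [Hom.one_def, toUnit_unique (toUnit T) u]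
          rw [lift_whiskerRight_assoc, hu, leftUnitor_hom, lift_snd]
          apply hext
          rw [hact, AlgGrp.Action.lift_one_act]
        mul_act := by
          apply AlgGrp.Action.hom_ext_lift₃
          intro T g g' p
          rw [lift_whiskerRight_assoc, ← Hom.mul_def, lift_lift_associator_hom_assoc,
            lift_whiskerLeft_assoc]
          apply hext
          rw [hact, hact, hact, AlgGrp.Action.lift_mul_act] }
    have htors : NonAbH1.IsTorsorFor Scheme.fpqcPrecoverage aE := by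
      refine ⟨?_, ?_⟩
      · -- pseudo-torsor
        let g : Q₀ ⊗ Q₀ ⟶ G := H5S16227.tr a (fst Q₀ Q₀ ≫ ψ) (snd Q₀ Q₀ ≫ ψ)
        have hg : lift g (snd Q₀ Q₀ ≫ ψ) ≫ a.act = fst Q₀ Q₀ ≫ ψ := H5S16227.tr_act a _ _
        have hgv : g ≫ v = 1 := by
          have : (lift g (snd Q₀ Q₀ ≫ ψ) ≫ a.act) ≫ h = (fst Q₀ Q₀ ≫ ψ) ≫ h := by rw [hg]
          rw [hh', hψh, hψh, _root_.mul_one] at this
          exact this
        obtain ⟨g', hg', -⟩ := H5S8718.ker_lift u v huv hsq g hgv
        change IsIso (lift act (snd G' Q₀))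
        refine ⟨lift g' (snd Q₀ Q₀), ?_, ?_⟩
        · apply CartesianMonoidalCategory.hom_ext
          · rw [Category.assoc, Category.id_comp]
            apply H5S8718.u_inj u v huv hsq
            rw [lift_fst, Category.assoc, hg']
            change _ ≫ H5S16227.tr a _ _ = _
            rw [comp_tr]
            symm
            apply tr_unique
            rw [← Category.assoc, lift_snd, ← Category.assoc, lift_fst, hactφ]
            rw [← hb]
            congr 1
          · simp
        · apply CartesianMonoidalCategory.hom_ext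
          · rw [Category.assoc, lift_fst, Category.id_comp]
            apply hext
            rw [hact, hb, hg', hg]
          · simp
      · -- locally trivial
        obtain ⟨R₁, hR₁, hs₁⟩ := hPloc
        obtain ⟨R₂, hR₂, hs₂⟩ := hloc
        obtain ⟨J, T, r, rfl⟩ := R₁.exists_eq_ofArrows
        obtain ⟨J₂, V, c, rfl⟩ := R₂.exists_eq_ofArrows
        have hp : ∀ j, ∃ p : T j ⟶ X.left, p ≫ X.hom = r j := fun j => hs₁ (r j) (Presieve.ofArrows.mk j)
        choose p hp using hp
        have hcov : ∀ j, Presieve.ofArrows (fun k => pullback (c k) (p j ≫ h.left))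
            (fun k => pullback.snd (c k) (p j ≫ h.left)) ∈ Scheme.fpqcPrecoverage (T j) := fun j =>
          Precoverage.mem_coverings_of_isPullback c hR₂ (p j ≫ h.left) _
            (fun k => pullback.fst (c k) (p j ≫ h.left))
            (fun k => (IsPullback.of_hasPullback (c k) (p j ≫ h.left)).flip)
        refine ⟨_, Precoverage.comp_mem_coverings r hR₁ _ hcov, ?_⟩
        rintro _ _ ⟨⟨j, k⟩⟩
        obtain ⟨s, hs⟩ := hs₂ (c k) (Presieve.ofArrows.mk k)
        have hs' : s ≫ v.left = c k := hs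
        have hc : pullback.fst (c k) (p j ≫ h.left) ≫ c k
            = pullback.snd (c k) (p j ≫ h.left) ≫ p j ≫ h.left := pullback.condition
        let W : Over S := Over.mk (pullback.snd (c k) (p j ≫ h.left) ≫ r j)
        have hw1 : (pullback.fst (c k) (p j ≫ h.left) ≫ s) ≫ G.hom = W.hom := by
          rw [← Over.w v, Category.assoc, ← Category.assoc s, hs', ← Category.assoc, hc,
            Category.assoc, Category.assoc, Over.w h, hp]
          rfl
        have hw2 : (pullback.snd (c k) (p j ≫ h.left) ≫ p j) ≫ X.hom = W.hom := by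
          rw [Category.assoc, hp]
          rfl
        let gpt : W ⟶ G := Over.homMk (pullback.fst (c k) (p j ≫ h.left) ≫ s) hw1
        let ppt : W ⟶ X := Over.homMk (pullback.snd (c k) (p j ≫ h.left) ≫ p j) hw2
        have hgp : gpt ≫ v = ppt ≫ h := by
          ext
          change (pullback.fst (c k) (p j ≫ h.left) ≫ s) ≫ v.left
            = (pullback.snd (c k) (p j ≫ h.left) ≫ p j) ≫ h.left
          rw [Category.assoc, hs', hc, Category.assoc]
        have hq : (lift gpt⁻¹ ppt ≫ a.act) ≫ h = 1 := by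
          rw [hh', GrpObj.inv_comp, hgp, inv_mul_cancel]
        obtain ⟨q, -⟩ := hmk _ hq
        exact ⟨q.left, Over.w q⟩
    refine ⟨⟨Q₀, aE, htors⟩, ψ, ?_⟩
    change act ≫ ψ = lift (fst G' Q₀ ≫ u) (snd G' Q₀ ≫ ψ) ≫ a.act
    rw [hactφ]
    apply AlgGrp.Action.hom_ext_lift₂
    intro T g' q
    rw [lift_whiskerLeft_assoc, hb, comp_lift_assoc, lift_fst_assoc, lift_snd_assoc]
  · rintro ⟨⟨Y, aQ, hQps, hQloc⟩, ψ, hψ⟩
    haveI : IsIso (lift aQ.act (snd G' Y)) := hQps
    change aQ.act ≫ ψ = lift (fst G' Y ≫ u) (snd G' Y ≫ ψ) ≫ a.act at hψ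
    have hψ' : ∀ {T : Over S} (g' : T ⟶ G') (q : T ⟶ Y),
        (lift g' q ≫ aQ.act) ≫ ψ = lift (g' ≫ u) (q ≫ ψ) ≫ a.act := by
      intro T g' q
      rw [Category.assoc, hψ, comp_lift_assoc, lift_fst_assoc, lift_snd_assoc]
    let k : X ⊗ Y ⟶ G := H5S16227.tr a (fst X Y) (snd X Y ≫ ψ)
    have hk : ∀ {W : Over S} (p : W ⟶ X) (q : W ⟶ Y),
        lift p q ≫ k = H5S16227.tr a p (q ≫ ψ) := by
      intro W p q
      change _ ≫ H5S16227.tr a _ _ = _
      rw [comp_tr, lift_fst, lift_snd_assoc]
    have hinv : ∀ {W : Over S} (p₁ p₂ : W ⟶ X ⊗ Y), p₁ ≫ fst X Y = p₂ ≫ fst X Y →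
        p₁ ≫ k ≫ v = p₂ ≫ k ≫ v := by
      intro W p₁ p₂ hp
      have e1 : p₁ ≫ k = H5S16227.tr a (p₁ ≫ fst X Y) ((p₁ ≫ snd X Y) ≫ ψ) := by
        change _ ≫ H5S16227.tr a _ _ = _
        rw [comp_tr, Category.assoc]
      have e2 : p₂ ≫ k = H5S16227.tr a (p₂ ≫ fst X Y) ((p₂ ≫ snd X Y) ≫ ψ) := by
        change _ ≫ H5S16227.tr a _ _ = _
        rw [comp_tr, Category.assoc]
      have hg' := H5S16227.tr_act aQ (p₁ ≫ snd X Y) (p₂ ≫ snd X Y)
      set g' := H5S16227.tr aQ (p₁ ≫ snd X Y) (p₂ ≫ snd X Y) with hg'def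
      have h1 := H5S16227.tr_act a (p₁ ≫ fst X Y) ((p₁ ≫ snd X Y) ≫ ψ)
      rw [← e1] at h1
      have e3 : (p₁ ≫ k) * (g' ≫ u) = p₂ ≫ k := by
        rw [e2]
        apply tr_unique
        rw [AlgGrp.Action.lift_mul_act, ← hψ', hg', h1, hp]
      rw [← Category.assoc, ← Category.assoc, ← e3, MonObj.mul_comp, Category.assoc g', huv,
        MonObj.comp_one, _root_.mul_one]
    obtain ⟨h, hh, -⟩ := H5S8718.desc_over (fst X Y) (loc_fst X Y hQloc) (k ≫ v) hinv
    have hpt : ∀ {W : Over S} (p : W ⟶ X) (q : W ⟶ Y),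
        p ≫ h = H5S16227.tr a p (q ≫ ψ) ≫ v := by
      intro W p q
      rw [← hk, Category.assoc, ← hh, lift_fst_assoc]
    refine ⟨h, ?_⟩
    change a.act ≫ h = lift (fst G X ≫ v) (snd G X ≫ h) ≫ μ[G'']
    apply H5S8718.epi_of_loc (G ◁ fst X Y) (H5S8718.loc_whiskerLeft (fst X Y) G (loc_fst X Y hQloc))
    apply AlgGrp.Action.hom_ext_lift₂
    intro T g w
    rw [lift_whiskerLeft_assoc, lift_whiskerLeft_assoc, comp_lift_assoc, lift_fst_assoc,
      lift_snd_assoc, ← Hom.mul_def, ← Category.assoc,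
      hpt (lift g (w ≫ fst X Y) ≫ a.act) (w ≫ snd X Y), hpt (w ≫ fst X Y) (w ≫ snd X Y),
      ← MonObj.mul_comp]
    congr 1
    symm
    apply tr_unique
    rw [AlgGrp.Action.lift_mul_act, H5S16227.tr_act]

end H5S6010

/-- Exactness of the cohomology sequence at H^1(S, G): let u : G' → G and v : G → G'' be homomorphisms
of affine commutative S-groups forming a sequence 1 → G' → G → G'' → 1 which is exact for the fpqc
topology, and let P be a principal homogeneous bundle under G (fpqc torsor). Then the bundle deduced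
from P by extension of the structure group along v is trivial, in the sense that P admits a
v-equivariant S-morphism to G'' acting on itself by left translation, if and only if P comes from
G': there is a principal homogeneous bundle Q under G' with a u-equivariant S-morphism Q → P. -/
theorem result {S : Scheme.{u}}
    {G G' G'' : Over S} [GrpObj G] [GrpObj G'] [GrpObj G'']
    [IsCommMonObj G] [IsCommMonObj G'] [IsCommMonObj G'']
    [IsAffineHom G.hom] [IsAffineHom G'.hom] [IsAffineHom G''.hom]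
    (u : G' ⟶ G) (v : G ⟶ G'') (hex : NonAbH1.IsExactSeq Scheme.fpqcPrecoverage u v)
    (P : NonAbH1.TorsorSch G Scheme.fpqcPrecoverage) :
    NonAbH1.IsPushforwardAlongSch v P.act (NonAbH1.trivialAction G'') ↔
      ∃ Q : NonAbH1.TorsorSch G' Scheme.fpqcPrecoverage, NonAbH1.IsPushforwardAlongSch u Q.act P.act := by
  exact H5S6010.main u v hex P

end Groth.Agent.S6010
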