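import Groth.Statements.S14541
import Mathlib
import Groth.Prelude.Def_ChGrp
import Groth.Agent.S18859
import Groth.Agent.S18977
import Groth.Agent.S8718
import Groth.Agent.S16227
import Groth.Agent.S6010
-- import your own Groth.Agent.* helpers here

set_option autoImplicit false
universe u
open CategoryTheory MonoidalCategory CartesianMonoidalCategory MonObj GrpObj AlgebraicGeometry
open PrincBund

namespace Groth.Agent.S14541

open CategoryTheory CategoryTheory.Limits AlgebraicGeometry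

namespace H5S14541

open MonoidalCategory CartesianMonoidalCategory MonObj Groth.Agent.S18859 Groth.Agent.S18977
  Groth.Agent.S8718 Groth.Agent.S16227 Groth.Agent.S6010

variable {S : Scheme.{u}}

theorem main {J J' J'' : Over S} [GrpObj J] [GrpObj J'] [GrpObj J'']
    (u : J ⟶ J') [IsMonHom u] (v : J' ⟶ J'') [IsMonHom v] {P P' P'' : Over S}
    (a : AlgGrp.Action J P) (a' : AlgGrp.Action J' P') (a'' : AlgGrp.Action J'' P'')
    (hP : NonAbH1.IsTorsorFor Scheme.fpqcPrecoverage a)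
    (hP' : NonAbH1.IsTorsorFor Scheme.fpqcPrecoverage a')
    (q' : P ⟶ P') (hq' : a.act ≫ q' = lift (fst J P ≫ u) (snd J P ≫ q') ≫ a'.act)
    (q'' : P ⟶ P'') (hq'' : a.act ≫ q'' = lift (fst J P ≫ u ≫ v) (snd J P ≫ q'') ≫ a''.act) :
    ∃! r : P' ⟶ P'', a'.act ≫ r = lift (fst J' P' ≫ v) (snd J' P' ≫ r) ≫ a''.act ∧ q' ≫ r = q'' := by
  obtain ⟨hps, hloc⟩ := hP
  obtain ⟨hps', hloc'⟩ := hP'
  haveI : IsIso (lift a.act (snd J P)) := hps
  haveI : IsIso (lift a'.act (snd J' P')) := hps'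
  have hq'pt : ∀ {T : Over S} (j : T ⟶ J) (p : T ⟶ P),
      (lift j p ≫ a.act) ≫ q' = lift (j ≫ u) (p ≫ q') ≫ a'.act := by
    intro T j p
    rw [Category.assoc, hq', comp_lift_assoc, lift_fst_assoc, lift_snd_assoc]
  have hq''pt : ∀ {T : Over S} (j : T ⟶ J) (p : T ⟶ P),
      (lift j p ≫ a.act) ≫ q'' = lift ((j ≫ u) ≫ v) (p ≫ q'') ≫ a''.act := by
    intro T j p
    rw [Category.assoc, hq'', comp_lift_assoc, lift_fst_assoc, lift_snd_assoc, Category.assoc]
  -- the candidate on `P ⊗ P'`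
  let k : P ⊗ P' ⟶ J' := H5S16227.tr a' (snd P P') (fst P P' ≫ q')
  let θ : P ⊗ P' ⟶ P'' := lift (k ≫ v) (fst P P' ≫ q'') ≫ a''.act
  have hk : ∀ {W : Over S} (w : W ⟶ P ⊗ P'),
      w ≫ k = H5S16227.tr a' (w ≫ snd P P') ((w ≫ fst P P') ≫ q') := by
    intro W w
    change _ ≫ H5S16227.tr a' _ _ = _
    rw [H5S6010.comp_tr, Category.assoc]
  have hθ : ∀ {W : Over S} (w : W ⟶ P ⊗ P'),
      w ≫ θ = lift ((w ≫ k) ≫ v) ((w ≫ fst P P') ≫ q'') ≫ a''.act := by
    intro W w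
    change w ≫ lift (k ≫ v) (fst P P' ≫ q'') ≫ a''.act = _
    rw [comp_lift_assoc, Category.assoc, Category.assoc]
  have hθinv : ∀ {W : Over S} (w₁ w₂ : W ⟶ P ⊗ P'), w₁ ≫ snd P P' = w₂ ≫ snd P P' →
      w₁ ≫ θ = w₂ ≫ θ := by
    intro W w₁ w₂ hw
    have hj := H5S16227.tr_act a (w₁ ≫ fst P P') (w₂ ≫ fst P P')
    set j := H5S16227.tr a (w₁ ≫ fst P P') (w₂ ≫ fst P P') with hjdef
    have h1 := H5S16227.tr_act a' (w₁ ≫ snd P P') ((w₁ ≫ fst P P') ≫ q')
    rw [← hk] at h1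
    have e3 : (w₁ ≫ k) * (j ≫ u) = w₂ ≫ k := by
      rw [hk w₂]
      apply H5S6010.tr_unique
      rw [AlgGrp.Action.lift_mul_act, ← hq'pt, hj, h1, hw]
    rw [hθ, hθ, ← e3, MonObj.mul_comp, AlgGrp.Action.lift_mul_act, ← hq''pt, hj]
  have hlocsnd := H5S16227.loc_snd P P' hloc
  obtain ⟨r, hr, -⟩ := H5S8718.desc_over (snd P P') hlocsnd θ hθinv
  have hrpt : ∀ {W : Over S} (p : W ⟶ P) (p' : W ⟶ P'),
      p' ≫ r = lift (H5S16227.tr a' p' (p ≫ q') ≫ v) (p ≫ q'') ≫ a''.act := by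
    intro W p p'
    have := hθ (lift p p')
    rw [← hr, lift_snd_assoc, hk, lift_fst, lift_snd] at this
    exact this
  have hr1 : a'.act ≫ r = lift (fst J' P' ≫ v) (snd J' P' ≫ r) ≫ a''.act := by
    apply H5S8718.epi_of_loc (J' ◁ snd P P') (H5S8718.loc_whiskerLeft (snd P P') J' hlocsnd)
    apply AlgGrp.Action.hom_ext_lift₂
    intro T g w
    rw [lift_whiskerLeft_assoc, lift_whiskerLeft_assoc, comp_lift_assoc, lift_fst_assoc,
      lift_snd_assoc, ← Category.assoc,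
      hrpt (w ≫ fst P P') (lift g (w ≫ snd P P') ≫ a'.act),
      hrpt (w ≫ fst P P') (w ≫ snd P P'), ← AlgGrp.Action.lift_mul_act, ← MonObj.mul_comp]
    congr 2
    congr 1
    symm
    apply H5S6010.tr_unique
    rw [AlgGrp.Action.lift_mul_act, H5S16227.tr_act]
  have hr2 : q' ≫ r = q'' := by
    rw [hrpt (𝟙 P) q', Category.id_comp]
    have : H5S16227.tr a' q' q' = 1 :=
      (H5S6010.tr_unique a' 1 q' q' (AlgGrp.Action.lift_one_act a' q')).symm
    rw [this, MonObj.one_comp, Category.id_comp, AlgGrp.Action.lift_one_act]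
  refine ⟨r, ⟨hr1, hr2⟩, ?_⟩
  rintro r' ⟨hr1', hr2'⟩
  apply H5S8718.epi_of_loc (snd P P') hlocsnd
  have hr1'pt : ∀ {T : Over S} (g : T ⟶ J') (p' : T ⟶ P'),
      (lift g p' ≫ a'.act) ≫ r' = lift (g ≫ v) (p' ≫ r') ≫ a''.act := by
    intro T g p'
    rw [Category.assoc, hr1', comp_lift_assoc, lift_fst_assoc, lift_snd_assoc]
  have h1 := H5S16227.tr_act a' (snd P P') (fst P P' ≫ q')
  rw [hr, ← h1, hr1'pt, Category.assoc, hr2']

end H5S14541

/-- Let X be a scheme, J, J' and J'' group schemes affine over X, with no flatness or finiteness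
condition, u : J → J' and v : J' → J'' homomorphisms, P a J-torsor, P' a J'-torsor and P'' a
J''-torsor, all for the fpqc topology, q' : P → P' an X-morphism compatible with u and q'' : P → P''
an X-morphism compatible with the composite homomorphism J → J' → J''. Then there is exactly one
X-morphism r : P' → P'' compatible with v whose composite with q' is q''. Taking v to be the
identity, the push forward of a torsor along u is unique up to unique isomorphism. -/
theorem result {X : Scheme.{u}}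
    {J J' J'' : Over X} [GrpObj J] [GrpObj J'] [GrpObj J''] [IsAffineHom J.hom] [IsAffineHom J'.hom]
    [IsAffineHom J''.hom] (u : J ⟶ J') [IsMonHom u] (v : J' ⟶ J'') [IsMonHom v] {P P' P'' : Over X}
    (a : AlgGrp.Action J P) (a' : AlgGrp.Action J' P') (a'' : AlgGrp.Action J'' P'')
    (hP : NonAbH1.IsTorsorFor Scheme.fpqcPrecoverage a)
    (hP' : NonAbH1.IsTorsorFor Scheme.fpqcPrecoverage a')
    (hP'' : NonAbH1.IsTorsorFor Scheme.fpqcPrecoverage a'')
    (q' : P ⟶ P') (hq' : a.act ≫ q' = lift (fst J P ≫ u) (snd J P ≫ q') ≫ a'.act)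
    (q'' : P ⟶ P'') (hq'' : a.act ≫ q'' = lift (fst J P ≫ u ≫ v) (snd J P ≫ q'') ≫ a''.act) :
    ∃! r : P' ⟶ P'', a'.act ≫ r = lift (fst J' P' ≫ v) (snd J' P' ≫ r) ≫ a''.act ∧ q' ≫ r = q'' := by
  exact H5S14541.main u v a a' a'' hP hP' q' hq' q'' hq''

end Groth.Agent.S14541
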