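import Groth.Statements.S14547
import Mathlib
-- import your own Groth.Agent.* helpers here

set_option autoImplicit false
universe u
open CategoryTheory MonoidalCategory CartesianMonoidalCategory MonObj GrpObj AlgebraicGeometry
open PrincBund

namespace Groth.Agent.S14547

open CategoryTheory CategoryTheory.Limits AlgebraicGeometry MonoidalCategory CartesianMonoidalCategory MonObj GrpObj

namespace H5S14547

variable {X X' : Scheme.{u}} (f : X' ⟶ X)

lemma F_hom_ext {A B : Over X} {Z : Over X'} (u v : Z ⟶ (Over.pullback f).obj (A ⊗ B))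
    (h1 : u ≫ (Over.pullback f).map (fst A B) = v ≫ (Over.pullback f).map (fst A B))
    (h2 : u ≫ (Over.pullback f).map (snd A B) = v ≫ (Over.pullback f).map (snd A B)) : u = v := by
  have hu : ∀ w : Z ⟶ (Over.pullback f).obj (A ⊗ B),
      w ≫ Functor.OplaxMonoidal.δ (Over.pullback f) A B =
        lift (w ≫ (Over.pullback f).map (fst A B)) (w ≫ (Over.pullback f).map (snd A B)) := by
    intro w
    apply CartesianMonoidalCategory.hom_ext
    · rw [Category.assoc, Functor.OplaxMonoidal.δ_fst, lift_fst]
    · rw [Category.assoc, Functor.OplaxMonoidal.δ_snd, lift_snd]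
  have h3 : u ≫ Functor.OplaxMonoidal.δ (Over.pullback f) A B =
      v ≫ Functor.OplaxMonoidal.δ (Over.pullback f) A B := by
    rw [hu, hu, h1, h2]
  have := congrArg (fun q => q ≫ Functor.LaxMonoidal.μ (Over.pullback f) A B) h3
  simpa using this

/-- the base-change square of a morphism over `X` -/
lemma bc_isPullback {A B : Over X} (g : A ⟶ B) :
    IsPullback ((Over.pullback f).map g).left (pullback.fst A.hom f) (pullback.fst B.hom f) g.left := by
  refine IsPullback.of_right (h₁₂ := pullback.snd B.hom f) (h₂₂ := B.hom) (v₁₃ := f) ?_ ?_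
    (IsPullback.of_hasPullback B.hom f).flip
  · have e1 : ((Over.pullback f).map g).left ≫ pullback.snd B.hom f = pullback.snd A.hom f := by
      simp only [Over.pullback_map_left]
      exact pullback.lift_snd _ _ _
    rw [e1, Over.w]
    exact (IsPullback.of_hasPullback A.hom f).flip
  · simp only [Over.pullback_map_left]
    exact pullback.lift_fst _ _ _


lemma loc_iff [Flat f] [Surjective f] [QuasiCompact f] (P : Over X) :
    NonAbH1.IsLocallyTrivialFor Scheme.fpqcPrecoverage P ↔
      NonAbH1.IsLocallyTrivialFor Scheme.fpqcPrecoverage ((Over.pullback f).obj P) := by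
  constructor
  · rintro ⟨R, hR, hs⟩
    obtain ⟨K, T, g, rfl⟩ := R.exists_eq_ofArrows
    refine ⟨_, Precoverage.mem_coverings_of_isPullback g hR f
      (fun j => pullback.snd (g j) f) (fun j => pullback.fst (g j) f)
      (fun j => (IsPullback.of_hasPullback (g j) f).flip), ?_⟩
    rintro _ _ ⟨j⟩
    obtain ⟨s, hs'⟩ := hs (g j) (Presieve.ofArrows.mk j)
    refine ⟨pullback.lift (pullback.fst (g j) f ≫ s) (pullback.snd (g j) f) ?_, ?_⟩
    · rw [Category.assoc, hs', pullback.condition]
    · change _ ≫ pullback.snd P.hom f = _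
      exact pullback.lift_snd _ _ _
  · rintro ⟨R, hR, hs⟩
    obtain ⟨K, T, g, rfl⟩ := R.exists_eq_ofArrows
    have hf : Presieve.ofArrows (fun _ : PUnit.{1} => X') (fun _ => f) ∈ Scheme.fpqcPrecoverage X := by
      rw [Presieve.ofArrows_pUnit]
      exact f.singleton_mem_fpqcPrecoverage
    refine ⟨_, Precoverage.comp_mem_coverings (fun _ : PUnit.{1} => f) hf
      (σ := fun _ => K) (Y := fun _ j => T j) (fun _ j => g j) (fun _ => hR), ?_⟩
    rintro _ _ ⟨p⟩
    obtain ⟨s, hs'⟩ := hs (g p.2) (Presieve.ofArrows.mk p.2)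
    have hs'' : s ≫ pullback.snd P.hom f = g p.2 := hs'
    refine ⟨s ≫ pullback.fst P.hom f, ?_⟩
    rw [Category.assoc, pullback.condition, reassoc_of% hs'']

theorem main [Flat f] [Surjective f] [QuasiCompact f]
    {J P : Over X} [GrpObj J] (a : AlgGrp.Action J P)
    (a' : AlgGrp.Action (Red.bc f J) (Red.bc f P))
    (ha' : Functor.LaxMonoidal.μ (Over.pullback f) J P ≫ (Over.pullback f).map a.act = a'.act) :
    NonAbH1.IsTorsorFor Scheme.fpqcPrecoverage a ↔ NonAbH1.IsTorsorFor Scheme.fpqcPrecoverage a' := by
  obtain ⟨Ψ, hΨ⟩ : ∃ x, x = lift a.act (snd J P) := ⟨_, rfl⟩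
  obtain ⟨Ψ', hΨ'⟩ : ∃ x, x = lift a'.act (snd (Red.bc f J) (Red.bc f P)) := ⟨_, rfl⟩
  have hcomm : Ψ' ≫ Functor.LaxMonoidal.μ (Over.pullback f) P P =
      Functor.LaxMonoidal.μ (Over.pullback f) J P ≫ (Over.pullback f).map Ψ := by
    apply F_hom_ext
    · rw [Category.assoc, Functor.Monoidal.μ_fst, Category.assoc, ← Functor.map_comp, hΨ, hΨ',
        lift_fst, lift_fst, ha']
    · rw [Category.assoc, Functor.Monoidal.μ_snd, Category.assoc, ← Functor.map_comp, hΨ, hΨ',
        lift_snd, lift_snd, Functor.Monoidal.μ_snd]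
  have hiso : IsIso Ψ ↔ IsIso Ψ' := by
    constructor
    · intro h
      have : Ψ' = Functor.LaxMonoidal.μ (Over.pullback f) J P ≫ (Over.pullback f).map Ψ ≫
          inv (Functor.LaxMonoidal.μ (Over.pullback f) P P) := by
        rw [← Category.assoc, ← hcomm, Category.assoc, IsIso.hom_inv_id, Category.comp_id]
      rw [this]
      infer_instance
    · intro h
      have h1 : IsIso ((Over.pullback f).map Ψ) := by
        have : (Over.pullback f).map Ψ = inv (Functor.LaxMonoidal.μ (Over.pullback f) J P) ≫ Ψ' ≫
            Functor.LaxMonoidal.μ (Over.pullback f) P P := by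
          rw [hcomm, IsIso.inv_hom_id_assoc]
        rw [this]
        infer_instance
      haveI : IsIso ((Over.pullback f).map Ψ).left :=
        (inferInstance : IsIso ((Over.forget X').map ((Over.pullback f).map Ψ)))
      have hQ : (@Surjective ⊓ @Flat ⊓ @QuasiCompact : MorphismProperty Scheme.{u})
          (pullback.fst (P ⊗ P).hom f) := ⟨⟨inferInstance, inferInstance⟩, inferInstance⟩
      have hiso : MorphismProperty.isomorphisms Scheme.{u} Ψ.left :=
        MorphismProperty.of_isPullback_of_descendsAlong (P := MorphismProperty.isomorphisms Scheme.{u})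
          (Q := @Surjective ⊓ @Flat ⊓ @QuasiCompact) (bc_isPullback f Ψ) hQ
          (MorphismProperty.isomorphisms.infer_property _)
      haveI : IsIso ((Over.forget X).map Ψ) := hiso
      exact isIso_of_reflects_iso Ψ (Over.forget X)
  unfold NonAbH1.IsTorsorFor NonAbH1.IsPseudoTorsorSch
  rw [← hΨ, ← hΨ', hiso, loc_iff f P]

end H5S14547

/-- Let f : X' → X be a faithfully flat quasi-compact morphism of schemes, J a group scheme affine over
X with an action a on an X-scheme P, and a' the induced action of the base change J' = J ×_X X' on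
P' = P ×_X X'. Then P with a is a J-torsor for the fpqc topology if and only if P' with a' is a
J'-torsor for the fpqc topology. (The published statement allows any morphism X' → X that is
covering for the fpqc topology, and an action of a pregroupoid; this row is the case of a faithfully
flat quasi-compact X' → X and the trivial pregroupoid.) -/
theorem result {X X' : Scheme.{u}} (f : X' ⟶ X)
    [Flat f] [Surjective f] [QuasiCompact f]
    {J P : Over X} [GrpObj J] [IsAffineHom J.hom] (a : AlgGrp.Action J P)
    (a' : AlgGrp.Action (Red.bc f J) (Red.bc f P))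
    (ha' : Functor.LaxMonoidal.μ (Over.pullback f) J P ≫ (Over.pullback f).map a.act = a'.act) :
    NonAbH1.IsTorsorFor Scheme.fpqcPrecoverage a ↔ NonAbH1.IsTorsorFor Scheme.fpqcPrecoverage a' := by
  exact H5S14547.main f a a' ha'

end Groth.Agent.S14547
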