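import Groth.Statements.S1458
import Mathlib
-- import your own Groth.Agent.* helpers here

set_option autoImplicit false
universe u
open FlatMor

namespace Groth.Agent.S1458

open TensorProduct in
/-- `E A b x = ∑ i, b i ⊗ x i`. -/
noncomputable def E (A : Type u) {B : Type u} [CommRing A] [CommRing B] [Algebra A B] {n : ℕ}
    (b : Fin n → B) {A' : Type u} [CommRing A'] [Algebra A A'] (x : Fin n → A') : B ⊗[A] A' :=
  ∑ i, b i ⊗ₜ[A] x i

theorem f_eq_sum {A B : Type u} [CommRing A] [CommRing B] [Algebra A B] {n : ℕ}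
    (f : (Fin n → A) →ₗ[A] B) (v : Fin n → A) : f v = ∑ k, v k • f (Pi.single k 1) := by
  conv_lhs => rw [← Finset.univ_sum_single v]
  rw [map_sum]
  refine Finset.sum_congr rfl fun k _ ↦ ?_
  rw [← map_smul]
  congr 1
  ext t
  by_cases h : t = k
  · subst h; simp
  · simp [h]

open TensorProduct in
theorem E_sq_sub {A B : Type u} [CommRing A] [CommRing B] [Algebra A B] {n : ℕ}
    (f : (Fin n → A) →ₗ[A] B) (c : Fin n → Fin n → Fin n → A)
    (hc : ∀ i j, f (c i j) = f (Pi.single i 1) * f (Pi.single j 1))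
    {A' : Type u} [CommRing A'] [Algebra A A'] (x : Fin n → A') :
    E A (fun i ↦ f (Pi.single i 1)) x * E A (fun i ↦ f (Pi.single i 1)) x -
      E A (fun i ↦ f (Pi.single i 1)) x =
    E A (fun i ↦ f (Pi.single i 1))
      (fun k ↦ (∑ i, ∑ j, algebraMap A A' (c i j k) * (x i * x j)) - x k) := by
  have hterm : ∀ i j : Fin n, (f (Pi.single i 1) * f (Pi.single j 1)) ⊗ₜ[A] (x i * x j) =
      ∑ k, f (Pi.single k 1) ⊗ₜ[A] (algebraMap A A' (c i j k) * (x i * x j)) := by
    intro i j
    rw [← hc, f_eq_sum f (c i j), sum_tmul]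
    refine Finset.sum_congr rfl fun k _ ↦ ?_
    rw [smul_tmul, Algebra.smul_def]
  unfold E
  simp only [tmul_sub, Finset.sum_sub_distrib]
  congr 1
  rw [Finset.sum_mul_sum]
  simp only [Algebra.TensorProduct.tmul_mul_tmul, hterm, tmul_sum]
  rw [Finset.sum_comm]
  conv_lhs =>
    enter [2, j]
    rw [Finset.sum_comm]
  rw [Finset.sum_comm]
  refine Finset.sum_congr rfl fun k _ ↦ ?_
  rw [Finset.sum_comm]

open TensorProduct in
theorem mem_span_of_E_eq_zero {A B : Type u} [CommRing A] [CommRing B] [Algebra A B] {n m : ℕ}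
    (f : (Fin n → A) →ₗ[A] B) (g : (Fin m → A) →ₗ[A] (Fin n → A))
    (hf : Function.Surjective f) (hgf : Function.Exact g f)
    {A' : Type u} [CommRing A'] [Algebra A A'] (z : Fin n → A')
    (hz : E A (fun i ↦ f (Pi.single i 1)) z = 0) :
    z ∈ Submodule.span A' (Set.range fun l : Fin m ↦
      (fun k ↦ algebraMap A A' (g (Pi.single l 1) k) : Fin n → A')) := by
  set N : Submodule A' (Fin n → A') := Submodule.span A' (Set.range fun l : Fin m ↦
      (fun k ↦ algebraMap A A' (g (Pi.single l 1) k) : Fin n → A')) with hN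
  let μ : (Fin n → A) →ₗ[A] (Fin n → A') := (Algebra.linearMap A A').compLeft (Fin n)
  have hμ : ∀ v k, μ v k = algebraMap A A' (v k) := fun v k ↦ rfl
  let β₀ : (Fin n → A) →ₗ[A] A' →ₗ[A] ((Fin n → A') ⧸ N) :=
    LinearMap.mk₂ A (fun v a' ↦ Submodule.Quotient.mk (a' • μ v))
      (fun v₁ v₂ a' ↦ by simp [smul_add])
      (fun r v a' ↦ by
        rw [map_smul, smul_comm, Submodule.Quotient.mk_smul])
      (fun v a₁ a₂ ↦ by simp [add_smul])
      (fun r v a' ↦ by
        rw [smul_assoc, Submodule.Quotient.mk_smul])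
  have hker : ∀ v ∈ LinearMap.ker f, β₀ v = 0 := by
    intro v hv
    obtain ⟨w, rfl⟩ := (hgf v).mp hv
    ext a'
    simp only [β₀, LinearMap.mk₂_apply, LinearMap.zero_apply]
    rw [Submodule.Quotient.mk_eq_zero]
    apply Submodule.smul_mem
    have hw : g w = ∑ l, w l • g (Pi.single l 1) := by
      conv_lhs => rw [← Finset.univ_sum_single w]
      rw [map_sum]
      refine Finset.sum_congr rfl fun l _ ↦ ?_
      rw [← map_smul]
      congr 1
      ext t
      by_cases h : t = l
      · subst h; simp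
      · simp [h]
    rw [hw, map_sum]
    refine Submodule.sum_mem _ fun l _ ↦ ?_
    rw [map_smul]
    have : w l • μ (g (Pi.single l 1)) = algebraMap A A' (w l) • μ (g (Pi.single l 1)) := by
      rw [algebraMap_smul]
    rw [this]
    exact Submodule.smul_mem _ _ (Submodule.subset_span ⟨l, rfl⟩)
  let β : B →ₗ[A] A' →ₗ[A] ((Fin n → A') ⧸ N) :=
    ((LinearMap.ker f).liftQ β₀ hker).comp (f.quotKerEquivOfSurjective hf).symm.toLinearMap
  have hβ : ∀ v, β (f v) = β₀ v := by
    intro v
    simp only [β, LinearMap.coe_comp, LinearEquiv.coe_coe, Function.comp_apply]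
    have : (f.quotKerEquivOfSurjective hf).symm (f v) = Submodule.Quotient.mk v := by
      rw [LinearEquiv.symm_apply_eq]
      rfl
    rw [this]
    rfl
  let Φ : B ⊗[A] A' →ₗ[A] ((Fin n → A') ⧸ N) := TensorProduct.lift β
  have hΦ : Φ (E A (fun i ↦ f (Pi.single i 1)) z) = Submodule.Quotient.mk z := by
    unfold E
    rw [map_sum]
    simp only [Φ, TensorProduct.lift.tmul, hβ, β₀, LinearMap.mk₂_apply]
    simp only [← Submodule.mkQ_apply]
    rw [← map_sum]
    congr 1
    ext t
    simp only [Finset.sum_apply, Pi.smul_apply, hμ, smul_eq_mul]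
    rw [Finset.sum_eq_single t]
    · simp
    · intro k _ hk
      simp [hk.symm]
    · simp
  rw [hz, map_zero] at hΦ
  exact (Submodule.Quotient.mk_eq_zero _).mp hΦ.symm

open TensorProduct in
theorem exists_E_eq {A B : Type u} [CommRing A] [CommRing B] [Algebra A B] {n : ℕ}
    (f : (Fin n → A) →ₗ[A] B) (hf : Function.Surjective f)
    {A' : Type u} [CommRing A'] [Algebra A A'] (e : B ⊗[A] A') :
    ∃ x : Fin n → A', E A (fun i ↦ f (Pi.single i 1)) x = e := by
  induction e using TensorProduct.induction_on with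
  | zero => exact ⟨0, by simp [E]⟩
  | tmul b a' =>
    obtain ⟨v, rfl⟩ := hf b
    refine ⟨fun k ↦ v k • a', ?_⟩
    unfold E
    rw [f_eq_sum f v, sum_tmul]
    refine Finset.sum_congr rfl fun k _ ↦ ?_
    rw [smul_tmul]
  | add e₁ e₂ h₁ h₂ =>
    obtain ⟨x₁, rfl⟩ := h₁
    obtain ⟨x₂, rfl⟩ := h₂
    exact ⟨x₁ + x₂, by simp [E, tmul_add, Finset.sum_add_distrib]⟩

open TensorProduct in
theorem E_rel_zero {A B : Type u} [CommRing A] [CommRing B] [Algebra A B] {n m : ℕ}
    (f : (Fin n → A) →ₗ[A] B) (g : (Fin m → A) →ₗ[A] (Fin n → A))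
    (hgf : Function.Exact g f)
    {A' : Type u} [CommRing A'] [Algebra A A'] (y : Fin m → A') :
    E A (fun i ↦ f (Pi.single i 1))
      (fun k ↦ ∑ l, algebraMap A A' (g (Pi.single l 1) k) * y l) = 0 := by
  unfold E
  simp only [tmul_sum]
  rw [Finset.sum_comm]
  refine Finset.sum_eq_zero fun l _ ↦ ?_
  have h0 : f (g (Pi.single l 1)) = 0 := (hgf _).mpr ⟨_, rfl⟩
  have : ∑ k, f (Pi.single k 1) ⊗ₜ[A] (algebraMap A A' (g (Pi.single l 1) k) * y l) =
      (f (g (Pi.single l 1))) ⊗ₜ[A] y l := by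
    rw [f_eq_sum f (g (Pi.single l 1)), sum_tmul]
    refine Finset.sum_congr rfl fun k _ ↦ ?_
    rw [smul_tmul, Algebra.smul_def]
  rw [this, h0, zero_tmul]

open TensorProduct in
/-- Let A → B be a finite ring map of finite presentation. Then there are a finitely presented A-algebra
A_u and an idempotent e_u of B ⊗_A A_u such that for every A-algebra A' and every idempotent e of B
⊗_A A' there is an A-algebra map A_u → A' whose induced map B ⊗ A_u → B ⊗ A' sends e_u to e. -/
theorem result {A B : Type u} [CommRing A] [CommRing B] [Algebra A B] [Module.Finite A B] [Algebra.FinitePresentation A B] :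
    ∃ (Au : Type u) (_ : CommRing Au) (_ : Algebra A Au) (eu : B ⊗[A] Au), Algebra.FinitePresentation A Au ∧ IsIdempotentElem eu ∧
      ∀ (A' : Type u) [CommRing A'] [Algebra A A'] (e : B ⊗[A] A'), IsIdempotentElem e →
        ∃ φ : Au →ₐ[A] A', Algebra.TensorProduct.map (AlgHom.id A B) φ eu = e := by
  have hfp : Module.FinitePresentation A B :=
    Module.FinitePresentation.of_finite_of_finitePresentation A B
  obtain ⟨n, m, f, g, hf, hgf⟩ := Module.FinitePresentation.exists_fin' A B
  choose c hc using fun i j ↦ hf (f (Pi.single i 1) * f (Pi.single j 1))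
  let rel : Fin n → MvPolynomial (Fin n ⊕ Fin m) A := fun k ↦
    (∑ i, ∑ j, MvPolynomial.C (c i j k) * (MvPolynomial.X (Sum.inl i) * MvPolynomial.X (Sum.inl j)))
      - MvPolynomial.X (Sum.inl k)
      - ∑ l, MvPolynomial.C (g (Pi.single l 1) k) * MvPolynomial.X (Sum.inr l)
  let J : Ideal (MvPolynomial (Fin n ⊕ Fin m) A) := Ideal.span (Set.range rel)
  have hJ : J.FG := Submodule.fg_span (Set.finite_range rel)
  have hAu : Algebra.FinitePresentation A (MvPolynomial (Fin n ⊕ Fin m) A ⧸ J) :=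
    Algebra.FinitePresentation.quotient hJ
  let xb : Fin n → MvPolynomial (Fin n ⊕ Fin m) A ⧸ J :=
    fun i ↦ Ideal.Quotient.mk J (MvPolynomial.X (Sum.inl i))
  let yb : Fin m → MvPolynomial (Fin n ⊕ Fin m) A ⧸ J :=
    fun l ↦ Ideal.Quotient.mk J (MvPolynomial.X (Sum.inr l))
  have hrel : ∀ k, (∑ i, ∑ j, algebraMap A (MvPolynomial (Fin n ⊕ Fin m) A ⧸ J) (c i j k) *
      (xb i * xb j)) - xb k =
      ∑ l, algebraMap A (MvPolynomial (Fin n ⊕ Fin m) A ⧸ J) (g (Pi.single l 1) k) * yb l := by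
    intro k
    have h0 : Ideal.Quotient.mk J (rel k) = 0 :=
      Ideal.Quotient.eq_zero_iff_mem.mpr (Ideal.subset_span ⟨k, rfl⟩)
    simp only [rel, map_sub, map_sum, map_mul] at h0
    rw [sub_eq_zero] at h0
    exact h0
  refine ⟨MvPolynomial (Fin n ⊕ Fin m) A ⧸ J, inferInstance, inferInstance,
    E A (fun i ↦ f (Pi.single i 1)) xb, hAu, ?_, ?_⟩
  · -- idempotent
    have h1 := E_sq_sub f c hc xb
    simp only [hrel] at h1
    rw [E_rel_zero f g hgf yb, sub_eq_zero] at h1
    exact h1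
  · intro A' _ _ e he
    obtain ⟨x, rfl⟩ := exists_E_eq f hf e
    have h1 := E_sq_sub f c hc x
    rw [he.eq, sub_self] at h1
    have h2 := mem_span_of_E_eq_zero f g hf hgf _ h1.symm
    obtain ⟨y, hy⟩ := (Submodule.mem_span_range_iff_exists_fun A').mp h2
    let φ₀ : MvPolynomial (Fin n ⊕ Fin m) A →ₐ[A] A' := MvPolynomial.aeval (Sum.elim x y)
    have hφ₀ : ∀ p ∈ J, φ₀ p = 0 := by
      intro p hp
      have hle : J ≤ RingHom.ker φ₀.toRingHom := by
        rw [Ideal.span_le]
        rintro _ ⟨k, rfl⟩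
        have hk := congrFun hy k
        simp only [Finset.sum_apply, Pi.smul_apply, smul_eq_mul] at hk
        simp only [SetLike.mem_coe, RingHom.mem_ker, AlgHom.toRingHom_eq_coe, RingHom.coe_coe,
          rel, map_sub, map_sum, map_mul, φ₀, MvPolynomial.aeval_C, MvPolynomial.aeval_X,
          Sum.elim_inl, Sum.elim_inr]
        rw [← hk, sub_eq_zero]
        refine Finset.sum_congr rfl fun l _ ↦ ?_
        rw [mul_comm]
      exact hle hp
    refine ⟨Ideal.Quotient.liftₐ J φ₀ hφ₀, ?_⟩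
    unfold E
    rw [map_sum]
    refine Finset.sum_congr rfl fun i _ ↦ ?_
    rw [Algebra.TensorProduct.map_tmul]
    simp [xb, φ₀]

end Groth.Agent.S1458
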