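import Groth.Statements.S14580
import Mathlib
import Groth.Agent.Lib.helper4.NoethTop
-- import your own Groth.Agent.* helpers here

set_option autoImplicit false
universe u
open CategoryTheory MonoidalCategory CartesianMonoidalCategory MonObj GrpObj AlgebraicGeometry CategoryTheory.Limits
open AlgGrp

namespace Groth.Agent.S14580

open CategoryTheory MonoidalCategory CartesianMonoidalCategory MonObj GrpObj AlgebraicGeometry CategoryTheory.Limits TopologicalSpace

namespace H5S14580

theorem exists_section_of_isClopen (X : Scheme.{u}) (U V : X.Opens) (hUV : U ⊓ V = ⊥)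
    (hcov : U ⊔ V = ⊤) :
    ∃ ε : Γ(X, ⊤), (X.basicOpen ε : Set X) = U := by
  let W : Bool → X.Opens := fun b => Bool.rec V U b
  have hcover : (⊤ : X.Opens) ≤ iSup W := by
    rw [← hcov]
    exact sup_le (le_iSup W true) (le_iSup W false)
  let sf : ∀ b, Γ(X, W b) := fun b => Bool.rec (0 : Γ(X, V)) (1 : Γ(X, U)) b
  have hsub1 : Subsingleton Γ(X, W true ⊓ W false) := by
    have : W true ⊓ W false = ⊥ := hUV
    rw [this]; infer_instance
  have hsub2 : Subsingleton Γ(X, W false ⊓ W true) := by
    have : W false ⊓ W true = ⊥ := by rw [inf_comm]; exact hUV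
    rw [this]; infer_instance
  have hc : TopCat.Presheaf.IsCompatible X.presheaf W sf := by
    intro i j
    cases i <;> cases j
    · rfl
    · exact Subsingleton.elim _ _
    · exact Subsingleton.elim _ _
    · rfl
  obtain ⟨ε, hε, -⟩ := X.sheaf.existsUnique_gluing' W ⊤ (fun b => homOfLE le_top) hcover sf hc
  refine ⟨ε, ?_⟩
  have h1 : U ⊓ X.basicOpen ε = U := by
    have := hε true
    have h2 := X.basicOpen_res ε (homOfLE (le_top : U ≤ ⊤)).op
    have h3 : X.presheaf.map (homOfLE (le_top : U ≤ ⊤)).op ε = (1 : Γ(X, U)) := this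
    rw [h3, X.basicOpen_of_isUnit isUnit_one] at h2
    exact h2.symm
  have h0 : V ⊓ X.basicOpen ε = ⊥ := by
    have := hε false
    have h2 := X.basicOpen_res ε (homOfLE (le_top : V ≤ ⊤)).op
    have h3 : X.presheaf.map (homOfLE (le_top : V ≤ ⊤)).op ε = (0 : Γ(X, V)) := this
    rw [h3, X.basicOpen_zero] at h2
    exact h2.symm
  ext z
  constructor
  · intro hz
    have hzt : z ∈ U ⊔ V := by rw [hcov]; trivial
    rcases hzt with hzU | hzV
    · exact hzU
    · exfalso
      have : z ∈ V ⊓ X.basicOpen ε := ⟨hzV, hz⟩
      rw [h0] at this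
      exact this
  · intro hz
    have : z ∈ U ⊓ X.basicOpen ε := by rw [h1]; exact hz
    exact this.2

theorem toSpecΓ_const (k : Type u) [Field k] (X : Scheme.{u})
    (f : X ⟶ Spec (CommRingCat.of k)) [UniversallyClosed f]
    (x y : X) (hxy : y ∈ connectedComponent x) : X.toSpecΓ.base y = X.toSpecΓ.base x := by
  let F : CommRingCat.of k ⟶ Γ(X, ⊤) := (Scheme.ΓSpecIso _).inv ≫ f.appTop
  have hF : F.hom.IsIntegral := by
    apply RingHom.isIntegral_respectsIso.2 (e := (Scheme.ΓSpecIso _).symm.commRingCatIsoToRingEquiv)
    exact isIntegral_appTop_of_universallyClosed f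
  algebraize [F.hom]
  apply PrimeSpectrum.ext
  ext s
  let A := Algebra.adjoin k ({s} : Set Γ(X, ⊤))
  have hs : IsIntegral k s := Algebra.IsIntegral.isIntegral s
  haveI : Module.Finite k A := Module.Finite.iff_fg.2 hs.fg_adjoin_singleton
  haveI : IsArtinianRing A := IsArtinianRing.of_finite k A
  haveI : DiscreteTopology (PrimeSpectrum A) := inferInstance
  let ψ : X → PrimeSpectrum A := fun z => PrimeSpectrum.comap (A.val : A →ₐ[k] _).toRingHom (X.toSpecΓ.base z)
  have hψ : Continuous ψ := (PrimeSpectrum.continuous_comap _).comp X.toSpecΓ.continuous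
  have hy : ψ y = ψ x := by
    have : ψ y ∈ ψ '' connectedComponent x := ⟨y, hxy, rfl⟩
    rw [hψ.image_connectedComponent_eq_singleton x] at this
    exact this
  have key : ∀ z, s ∈ (X.toSpecΓ.base z).asIdeal ↔
      (⟨s, Algebra.subset_adjoin rfl⟩ : A) ∈ (ψ z).asIdeal := fun z => Iff.rfl
  rw [key, key, hy]


theorem main (k : Type u) [Field k]
    (G : Over (Spec (CommRingCat.of k))) [GrpObj G] [IsProper G.hom]
    (t : ↥((𝟙_ (Over (Spec (CommRingCat.of k)))).left)) :
    Set.range ⇑(pullback.fst G.left.toSpecΓ (η[G].left ≫ G.left.toSpecΓ)).base =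
      connectedComponent ((η[G]).left.base t) := by
  haveI : IsLocallyNoetherian G.left := LocallyOfFiniteType.isLocallyNoetherian G.hom
  haveI : CompactSpace G.left := QuasiCompact.compactSpace_of_compactSpace G.hom
  haveI : IsNoetherian G.left := {}
  haveI : NoetherianSpace G.left := inferInstance
  haveI : Subsingleton ↥((𝟙_ (Over (Spec (CommRingCat.of k)))).left) :=
    inferInstanceAs (Subsingleton (PrimeSpectrum k))
  have hr : Set.range (η[G].left ≫ G.left.toSpecΓ) = {G.left.toSpecΓ.base (η[G].left.base t)} := by
    ext p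
    constructor
    · rintro ⟨t', rfl⟩
      rw [Subsingleton.elim t' t]
      rfl
    · intro hp
      exact ⟨t, hp.symm⟩
  have h1 := Scheme.Pullback.range_fst G.left.toSpecΓ (η[G].left ≫ G.left.toSpecΓ)
  rw [hr] at h1
  refine h1.trans ?_
  set e := η[G].left.base t with he
  ext y
  constructor
  · intro hy
    have hy' : G.left.toSpecΓ.base y = G.left.toSpecΓ.base e := hy
    have hCo : IsOpen (connectedComponent e) :=
      Groth.Agent.H4Top.isOpen_connectedComponent_of_noetherian e
    have hCc : IsClosed (connectedComponent e) := isClosed_connectedComponent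
    obtain ⟨ε, hε⟩ := exists_section_of_isClopen G.left ⟨connectedComponent e, hCo⟩
      ⟨(connectedComponent e)ᶜ, hCc.isOpen_compl⟩
      (by ext z; simp) (by ext z; simp)
    have hpre := G.left.toSpecΓ_preimage_basicOpen ε
    have heC : e ∈ G.left.basicOpen ε := by
      have : e ∈ (G.left.basicOpen ε : Set G.left) := by rw [hε]; exact mem_connectedComponent
      exact this
    rw [← hpre] at heC
    have hyC : y ∈ G.left.toSpecΓ ⁻¹ᵁ PrimeSpectrum.basicOpen ε := by
      show G.left.toSpecΓ.base y ∈ PrimeSpectrum.basicOpen ε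
      rw [hy']
      exact heC
    rw [hpre] at hyC
    have : y ∈ (G.left.basicOpen ε : Set G.left) := hyC
    rw [hε] at this
    exact this
  · intro hy
    exact toSpecΓ_const k G.left G.hom e y hy

end H5S14580

/-- Let k be a field, G a proper k-group scheme of finite type and N ⊆ G the kernel of the affinization
morphism G → Spec O(G), i.e. the fibre over the image of the unit section (the largest anti-affine
subgroup scheme of G). Then the image of N in G is the connected component of the identity: as N is
smooth, N is the reduced neutral component G⁰_red, which is therefore a smooth connected algebraic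
group. -/
theorem result (k : Type u) [Field k]
    (G : Over (Spec (CommRingCat.of k))) [GrpObj G] [IsProper G.hom] (t : ↥((𝟙_ (Over (Spec (CommRingCat.of k)))).left)) :
    Set.range ⇑(pullback.fst G.left.toSpecΓ (η[G].left ≫ G.left.toSpecΓ)).base = connectedComponent ((η[G]).left.base t) := by
  exact H5S14580.main k G t

end Groth.Agent.S14580
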