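import Groth.Statements.S18860
import Mathlib
import Groth.Agent.S12837
import Groth.Agent.S6003
import Groth.Agent.S6004
-- import your own Groth.Agent.* helpers here

set_option autoImplicit false
universe u
open CategoryTheory MonoidalCategory CartesianMonoidalCategory MonObj GrpObj AlgebraicGeometry
open NonAbH1

namespace Groth.Agent.S18860

open CategoryTheory CategoryTheory.Limits AlgebraicGeometry

namespace H5S18860

open MorphismProperty Groth.Agent.S12837 Groth.Agent.S6003 Groth.Agent.S6004

lemma descends_affineAnd {P : MorphismProperty Scheme.{u}} [P.IsStableUnderBaseChange]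
    {Q : ∀ {R S : Type u} [CommRing R] [CommRing S], (R →+* S) → Prop}
    (hP : HasAffineProperty P (affineAnd Q)) (hQ : RingHom.RespectsIso Q)
    (hQQ' : RingHom.CodescendsAlong Q RingHom.FaithfullyFlat) :
    P.DescendsAlong (@Surjective ⊓ @Flat ⊓ @QuasiCompact) := by
  have H₂ : ∀ {R S : CommRingCat.{u}} {f : R ⟶ S},
      (@Surjective ⊓ @Flat : MorphismProperty Scheme.{u}) (Spec.map f) → f.hom.FaithfullyFlat := by
    intro R S f ⟨hf₁, hf₂⟩
    rw [RingHom.FaithfullyFlat.iff_flat_and_comap_surjective]
    refine ⟨?_, (Spec.map f).surjective⟩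
    rwa [HasRingHomProperty.Spec_iff (P := @Flat)] at hf₂
  refine IsZariskiLocalAtTarget.descendsAlong_inf_quasiCompact _ _ ?_ ?_
  · rw [inf_comm]
    gcongr
    exact IsLocalIso.le_of_isZariskiLocalAtSource @Flat
  introv h hf
  have : IsAffine Y := by
    have h1 : IsAffineHom (pullback.fst (Spec.map φ) g) :=
      AlgebraicGeometry.HasAffineProperty.affineAnd_le_isAffineHom P inferInstance _ hf
    exact H5S6004.isAffine_of_pullback φ g h.1 h.2 (isAffine_of_isAffineHom (pullback.fst _ _))
  wlog hY : ∃ S, Y = Spec S generalizing Y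
  · rw [← P.cancel_left_of_respectsIso Y.isoSpec.inv]
    have heq : pullback.fst (Spec.map φ) (Y.isoSpec.inv ≫ g) =
        pullback.map _ _ _ _ (𝟙 _) (Y.isoSpec.inv) (𝟙 _) (by simp) (by simp) ≫
          pullback.fst (Spec.map φ) g := (pullback.lift_fst _ _ _).symm
    refine this _ ?_ inferInstance ⟨_, rfl⟩
    rwa [heq, P.cancel_left_of_respectsIso]
  obtain ⟨Y, rfl⟩ := hY
  apply of_pullback_fst_Spec_of_codescendsAlong _ _ hQQ' H₂ _ h hf
  simp [HasAffineProperty.SpecMap_iff_of_affineAnd hP hQ]

instance finite_descends : DescendsAlong @IsFinite (@Surjective ⊓ @Flat ⊓ @QuasiCompact) :=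
  descends_affineAnd (Q := RingHom.Finite) inferInstance RingHom.finite_respectsIso
    RingHom.Finite.codescendsAlong_faithfullyFlat

theorem main {S : Scheme.{u}} {G X : Over S} [GrpObj G]
    (a : AlgGrp.Action G X) (ha : NonAbH1.IsTorsorFor Scheme.fpqcPrecoverage a) :
    (LocallyOfFiniteType G.hom → LocallyOfFiniteType X.hom) ∧ (QuasiCompact G.hom → QuasiCompact X.hom) ∧
      (IsFinite G.hom → IsFinite X.hom) ∧ (Smooth G.hom → Smooth X.hom) ∧ (Etale G.hom → Etale X.hom) :=
  ⟨fun h => H5S12837.prop_of_torsor (P := @LocallyOfFiniteType) G X a ha h,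
   fun h => H5S12837.prop_of_torsor (P := @QuasiCompact) G X a ha h,
   fun h => H5S12837.prop_of_torsor (P := @IsFinite) G X a ha h,
   fun h => H5S12837.prop_of_torsor (P := @Smooth) G X a ha h,
   fun h => H5S12837.prop_of_torsor (P := @Etale) G X a ha h⟩

end H5S18860

/-- Let S be a scheme, G a group scheme over S and X → S a G-torsor for the fpqc topology (a
pseudo-torsor under G acquiring sections on the members of some fpqc covering family of S). If G → S
is locally of finite type, resp. quasi-compact, resp. finite, resp. smooth, resp. étale, then X → S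
has the same property. (The source takes for G the base change to a scheme over a field of a group
scheme over that field and lists the properties affine, of finite type, finite, smooth and étale;
the affine case is stated elsewhere and of finite type is split here into its two halves.) -/
theorem result {S : Scheme.{u}} {G X : Over S} [GrpObj G]
    (a : AlgGrp.Action G X) (ha : NonAbH1.IsTorsorFor Scheme.fpqcPrecoverage a) :
    (LocallyOfFiniteType G.hom → LocallyOfFiniteType X.hom) ∧ (QuasiCompact G.hom → QuasiCompact X.hom) ∧
      (IsFinite G.hom → IsFinite X.hom) ∧ (Smooth G.hom → Smooth X.hom) ∧ (Etale G.hom → Etale X.hom) := by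
  exact H5S18860.main a ha

end Groth.Agent.S18860
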