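import Groth.Statements.S18510
import Mathlib
import Groth.Agent.S14883
import Groth.Agent.S12837
import Groth.Agent.S18860
-- import your own Groth.Agent.* helpers here

set_option autoImplicit false
universe u
open CategoryTheory MonoidalCategory CartesianMonoidalCategory MonObj GrpObj AlgebraicGeometry Topology
open EqInt

namespace Groth.Agent.S18510

open CategoryTheory CategoryTheory.Limits AlgebraicGeometry MonoidalCategory CartesianMonoidalCategory MonObj

namespace H5S18510

open Groth.Agent.S14883 MorphismProperty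

instance mono_descends :
    DescendsAlong (monomorphisms Scheme.{u}) (@Surjective.{u} ⊓ @Flat.{u} ⊓ @QuasiCompact.{u}) := by
  rw [← diagonal_isomorphisms]
  infer_instance

instance closedImmersion_descends :
    DescendsAlong @IsClosedImmersion.{u} (@Surjective.{u} ⊓ @Flat.{u} ⊓ @QuasiCompact.{u}) where
  of_isPullback {A X Y Z p₁ p₂ f g} h hf hfst := by
    haveI := Groth.Agent.S18860.H5S18860.finite_descends.{u}
    rw [IsClosedImmersion.iff_isFinite_and_mono] at hfst ⊢
    have h1 : monomorphisms Scheme.{u} p₁ := hfst.2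
    have h2 : monomorphisms Scheme.{u} g :=
      MorphismProperty.of_isPullback_of_descendsAlong (P := monomorphisms Scheme.{u}) h hf h1
    exact ⟨MorphismProperty.of_isPullback_of_descendsAlong (P := @IsFinite) h hf hfst.1, h2⟩

theorem diag_closedImmersion_descends :
    DescendsAlong (MorphismProperty.diagonal @IsClosedImmersion.{u})
      (@Surjective.{u} ⊓ @Flat.{u} ⊓ @QuasiCompact.{u}) :=
  @instDescendsAlongDiagonalOfRespectsIsoOfIsStableUnderBaseChange.{u, u+1} Scheme.{u} _ _
    @IsClosedImmersion.{u} (@Surjective.{u} ⊓ @Flat.{u} ⊓ @QuasiCompact.{u})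
    closedImmersion_descends.{u} inferInstance inferInstance

instance separated_descends :
    DescendsAlong @IsSeparated.{u} (@Surjective.{u} ⊓ @Flat.{u} ⊓ @QuasiCompact.{u}) where
  of_isPullback {A X Y Z p₁ p₂ f g} h hf hfst := by
    haveI := diag_closedImmersion_descends.{u}
    have h1 : MorphismProperty.diagonal @IsClosedImmersion.{u} p₁ := by
      rw [← IsSeparated.isSeparated_eq_diagonal_isClosedImmersion]
      exact hfst
    have h2 : MorphismProperty.diagonal @IsClosedImmersion.{u} g :=
      MorphismProperty.of_isPullback_of_descendsAlong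
        (P := MorphismProperty.diagonal @IsClosedImmersion.{u}) h hf h1
    rw [IsSeparated.isSeparated_eq_diagonal_isClosedImmersion]
    exact h2

instance proper_descends :
    DescendsAlong @IsProper.{u} (@Surjective.{u} ⊓ @Flat.{u} ⊓ @QuasiCompact.{u}) where
  of_isPullback {A X Y Z p₁ p₂ f g} h hf hfst := by
    have h1 : IsProper p₁ := hfst
    have hs : IsSeparated g :=
      MorphismProperty.of_isPullback_of_descendsAlong (P := @IsSeparated.{u}) h hf inferInstance
    have hu : UniversallyClosed g :=
      MorphismProperty.of_isPullback_of_descendsAlong (P := @UniversallyClosed.{u}) h hf inferInstance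
    have hl : LocallyOfFiniteType g :=
      MorphismProperty.of_isPullback_of_descendsAlong (P := @LocallyOfFiniteType.{u}) h hf inferInstance
    have hq : QuasiCompact g :=
      MorphismProperty.of_isPullback_of_descendsAlong (P := @QuasiCompact.{u}) h hf inferInstance
    exact { }

variable {S : Scheme.{u}}

lemma whiskerRight_isPullback {X Y : Over S} (f : X ⟶ Y) (U : Over S) :
    IsPullback (f ▷ U) (fst X U) (fst Y U) f := by
  refine ⟨⟨whiskerRight_fst f U⟩, ⟨PullbackCone.IsLimit.mk _
    (fun s => lift s.snd (s.fst ≫ snd Y U)) ?_ ?_ ?_⟩⟩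
  · intro s
    apply CartesianMonoidalCategory.hom_ext
    · rw [Category.assoc, whiskerRight_fst, lift_fst_assoc, s.condition]
    · rw [Category.assoc, whiskerRight_snd, lift_snd]
  · intro s
    exact lift_fst _ _
  · intro s m hm1 hm2
    apply CartesianMonoidalCategory.hom_ext
    · rw [lift_fst, hm2]
    · rw [lift_snd, ← hm1, Category.assoc, whiskerRight_snd]

theorem main (k : Type u) [Field k]
    (G X Y U XG YG : Over (Spec (CommRingCat.of k))) [GrpObj G]
    [QuasiCompact X.hom] [QuasiCompact Y.hom] [QuasiCompact U.hom]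
    [QuasiSeparated XG.hom] [QuasiSeparated YG.hom]
    (a : AlgGrp.Action G X) (aY : AlgGrp.Action G Y) (b : AlgGrp.Action G U)
    (f : X ⟶ Y) (hf : AlgGrp.Action.IsEquivariant a aY f)
    (qX : X ⊗ U ⟶ XG) (hqX : GIT.IsInvariant (a.prod b) qX) [Flat qX.left] [Surjective qX.left]
    (hcX : IsIso (GIT.PsiY (a.prod b) qX hqX))
    (qY : Y ⊗ U ⟶ YG) (hqY : GIT.IsInvariant (aY.prod b) qY) [Flat qY.left] [Surjective qY.left]
    (hcY : IsIso (GIT.PsiY (aY.prod b) qY hqY))
    (fG : XG ⟶ YG) (hfG : qX ≫ fG = (f ▷ U) ≫ qY) :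
    (IsProper f.left → IsProper fG.left) ∧ (Flat f.left → Flat fG.left) ∧
      (Smooth f.left → Smooth fG.left) := by
  have hqc : ∀ (A Z : Over (Spec (CommRingCat.of k))) [QuasiCompact A.hom] [QuasiCompact Z.hom],
      QuasiCompact (A ⊗ Z).hom := by
    intro A Z _ _
    have : (A ⊗ Z).hom = (fst A Z).left ≫ A.hom := (Over.w (fst A Z)).symm
    rw [this]
    haveI : QuasiCompact (fst A Z).left := by
      change QuasiCompact (pullback.fst A.hom Z.hom)
      infer_instance
    infer_instance
  haveI := hqc X U
  haveI := hqc Y U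
  haveI : QuasiCompact qX.left := H5S14883.qc_of_sep qX
  haveI : QuasiCompact qY.left := H5S14883.qc_of_sep qY
  have hsqX := H5S14883.sq_of_psiY (a.prod b) qX hqX hcX
  have hsqY := H5S14883.sq_of_psiY (aY.prod b) qY hqY hcY
  have hlocX := Groth.Agent.S8014.H5S8014.loc_of_fpqc qX
  have hf' : ∀ {T : Over (Spec (CommRingCat.of k))} (g : T ⟶ G) (x : T ⟶ X),
      (lift g x ≫ a.act) ≫ f = lift g (x ≫ f) ≫ aY.act := by
    intro T g x
    rw [Category.assoc, hf, lift_whiskerLeft_assoc]
  have hF : (a.prod b).act ≫ (f ▷ U) = (G ◁ (f ▷ U)) ≫ (aY.prod b).act := by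
    apply H5S14883.ext_r3
    intro T g x u
    rw [← Category.assoc, AlgGrp.Action.lift_prod_act, lift_whiskerRight, lift_whiskerLeft_assoc,
      lift_whiskerRight, AlgGrp.Action.lift_prod_act, hf']
  have hpb := H5S14883.torsor_sq (a.prod b) (aY.prod b) qX qY hsqX hsqY hlocX (f ▷ U) hF fG hfG
  have hpbL : IsPullback (f ▷ U).left qX.left qY.left fG.left := hpb.map (Over.forget _)
  have hbc : IsPullback (fst X U).left (f ▷ U).left f.left (fst Y U).left :=
    ((whiskerRight_isPullback f U).map (Over.forget _)).flip
  have hQ : (@Surjective ⊓ @Flat ⊓ @QuasiCompact : MorphismProperty Scheme.{u}) qY.left :=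
    ⟨⟨inferInstance, inferInstance⟩, inferInstance⟩
  haveI := Groth.Agent.S12837.H5S12837.flat_descends.{u}
  refine ⟨fun h => ?_, fun h => ?_, fun h => ?_⟩
  · exact MorphismProperty.of_isPullback_of_descendsAlong (P := @IsProper)
      (Q := @Surjective ⊓ @Flat ⊓ @QuasiCompact) hpbL hQ
      (MorphismProperty.of_isPullback (P := @IsProper) hbc h)
  · exact MorphismProperty.of_isPullback_of_descendsAlong (P := @Flat)
      (Q := @Surjective ⊓ @Flat ⊓ @QuasiCompact) hpbL hQ
      (MorphismProperty.of_isPullback (P := @Flat) hbc h)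
  · exact MorphismProperty.of_isPullback_of_descendsAlong (P := @Smooth)
      (Q := @Surjective ⊓ @Flat ⊓ @QuasiCompact) hpbL hQ
      (MorphismProperty.of_isPullback (P := @Smooth) hbc h)

end H5S18510

/-- Over a field k, let an affine group scheme G of finite type act on X, on Y and on U (quasi-separated
schemes of finite type over k), let f : X → Y be G-equivariant, and let q_X : X × U → X_G and q_Y :
Y × U → Y_G be principal bundle quotients for the diagonal actions (each is invariant, flat and
surjective, and (σ, p₂) into the fibre square over the quotient is an isomorphism), X_G and Y_G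
being quasi-separated of finite type over k. Let f_G : X_G → Y_G satisfy f_G ∘ q_X = q_Y ∘ (f ×
id_U) as maps X × U → Y_G. If f is proper, resp. flat, resp. smooth, then so is f_G. (Stated for
schemes; the source allows algebraic spaces and also treats regular embeddings and local complete
intersection morphisms, which are not stated here.) -/
theorem result (k : Type u) [Field k]
    (G X Y U XG YG : Over (Spec (CommRingCat.of k))) [GrpObj G] [IsAffine G.left] [LocallyOfFiniteType G.hom]
    [LocallyOfFiniteType X.hom] [QuasiCompact X.hom] [QuasiSeparated X.hom]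
    [LocallyOfFiniteType Y.hom] [QuasiCompact Y.hom] [QuasiSeparated Y.hom]
    [LocallyOfFiniteType U.hom] [QuasiCompact U.hom] [QuasiSeparated U.hom]
    [LocallyOfFiniteType XG.hom] [QuasiCompact XG.hom] [QuasiSeparated XG.hom]
    [LocallyOfFiniteType YG.hom] [QuasiCompact YG.hom] [QuasiSeparated YG.hom]
    (a : AlgGrp.Action G X) (aY : AlgGrp.Action G Y) (b : AlgGrp.Action G U)
    (f : X ⟶ Y) (hf : AlgGrp.Action.IsEquivariant a aY f)
    (qX : X ⊗ U ⟶ XG) (hqX : GIT.IsInvariant (a.prod b) qX) [Flat qX.left] [Surjective qX.left]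
    (hcX : IsIso (GIT.PsiY (a.prod b) qX hqX))
    (qY : Y ⊗ U ⟶ YG) (hqY : GIT.IsInvariant (aY.prod b) qY) [Flat qY.left] [Surjective qY.left]
    (hcY : IsIso (GIT.PsiY (aY.prod b) qY hqY))
    (fG : XG ⟶ YG) (hfG : qX ≫ fG = (f ▷ U) ≫ qY) :
    (IsProper f.left → IsProper fG.left) ∧ (Flat f.left → Flat fG.left) ∧
      (Smooth f.left → Smooth fG.left) := by
  exact H5S18510.main k G X Y U XG YG a aY b f hf qX hqX hcX qY hqY hcY fG hfG

end Groth.Agent.S18510
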