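import Groth.Statements.S5415
import Mathlib
import Groth.Agent.S11424
import Groth.Agent.S18510
-- import your own Groth.Agent.* helpers here

set_option autoImplicit false
universe u
open CategoryTheory MonoidalCategory CartesianMonoidalCategory MonObj GrpObj AlgebraicGeometry CategoryTheory.Limits
open SGA3x

namespace Groth.Agent.S5415


open CategoryTheory MonoidalCategory CartesianMonoidalCategory MonObj GrpObj AlgebraicGeometry CategoryTheory.Limits

namespace H5S5415

variable {S : Scheme.{u}}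

lemma whiskerLeft_isPullback {X Y : Over S} (f : X ⟶ Y) (U : Over S) :
    IsPullback (U ◁ f) (snd U X) (snd U Y) f := by
  refine ⟨⟨whiskerLeft_snd U f⟩, ⟨PullbackCone.IsLimit.mk _
    (fun s => lift (s.fst ≫ fst U Y) s.snd) ?_ ?_ ?_⟩⟩
  · intro s
    apply CartesianMonoidalCategory.hom_ext
    · rw [Category.assoc, whiskerLeft_fst, lift_fst]
    · rw [Category.assoc, whiskerLeft_snd, lift_snd_assoc, s.condition]
  · intro s
    exact lift_snd _ _
  · intro s m hm1 hm2
    apply CartesianMonoidalCategory.hom_ext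
    · rw [lift_fst, ← hm1, Category.assoc, whiskerLeft_fst]
    · rw [lift_snd, hm2]

/-- the graph square -/
theorem graph_sq {G G' G'' H : Over S} [GrpObj G] [GrpObj G'] [GrpObj G''] [GrpObj H]
    (p : G ⟶ G'') [IsMonHom p] (i : G' ⟶ G) (hker : AlgGrp.IsKernel i p) (u : G ⟶ H) :
    IsPullback ((i ▷ G) ≫ μ[G]) (lift (((i ▷ G) ≫ μ[G]) ≫ u) (snd G' G)) (lift u p) (H ◁ p) := by
  have hk := Groth.Agent.S11424.H5S11424.ker_sq i p hker
  obtain ⟨m, hm⟩ : ∃ m : G' ⊗ G ⟶ G, m = (i ▷ G) ≫ μ[G] := ⟨_, rfl⟩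
  rw [← hm] at hk ⊢
  have w : m ≫ lift u p = lift (m ≫ u) (snd G' G) ≫ (H ◁ p) := by
    apply CartesianMonoidalCategory.hom_ext
    · rw [Category.assoc, lift_fst, Category.assoc, whiskerLeft_fst, lift_fst]
    · rw [Category.assoc, lift_snd, Category.assoc, whiskerLeft_snd, lift_snd_assoc, hk.w]
  have hc : ∀ s : PullbackCone (lift u p) (H ◁ p), s.fst ≫ p = (s.snd ≫ snd H G) ≫ p := by
    intro s
    have := congrArg (fun q => q ≫ snd H G'') s.condition
    simpa using this
  have L : ∀ s : PullbackCone (lift u p) (H ◁ p),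
      ∃ l : s.pt ⟶ G' ⊗ G, l ≫ m = s.fst ∧ l ≫ snd G' G = s.snd ≫ snd H G :=
    fun s => ⟨hk.lift s.fst (s.snd ≫ snd H G) (hc s), hk.lift_fst _ _ _, hk.lift_snd _ _ _⟩
  refine ⟨⟨w⟩, ⟨PullbackCone.IsLimit.mk _ (fun s => (L s).choose) ?_ ?_ ?_⟩⟩
  · intro s
    exact (L s).choose_spec.1
  · intro s
    have h1 : s.fst ≫ u = s.snd ≫ fst H G := by
      have := congrArg (fun q => q ≫ fst H G'') s.condition
      simpa using this
    obtain ⟨e1, e2⟩ := (L s).choose_spec
    generalize (L s).choose = l at e1 e2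
    apply CartesianMonoidalCategory.hom_ext
    · rw [Category.assoc, lift_fst, ← Category.assoc, e1, h1]
    · rw [Category.assoc, lift_snd, e2]
  · intro s k hk1 hk2
    obtain ⟨e1, e2⟩ := (L s).choose_spec
    generalize (L s).choose = l at e1 e2
    apply hk.hom_ext
    · rw [hk1, e1]
    · rw [e2, ← hk2, Category.assoc, lift_snd]


theorem main (G G' G'' H : Over S) [GrpObj G] [GrpObj G'] [GrpObj G''] [GrpObj H]
    [QuasiCompact G.hom] [IsProper G''.hom]
    (p : G ⟶ G'') [IsMonHom p] [Surjective p.left] [Flat p.left]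
    (i : G' ⟶ G) (hker : AlgGrp.IsKernel i p)
    (u : G ⟶ H) [IsMonHom u] (hu : IsProper (i ≫ u).left) : IsProper u.left := by
  have hsq := graph_sq p i hker u
  obtain ⟨m, hm⟩ : ∃ m : G' ⊗ G ⟶ G, m = (i ▷ G) ≫ μ[G] := ⟨_, rfl⟩
  rw [← hm] at hsq
  have hm' : m = (fst G' G ≫ i) * snd G' G := by
    rw [hm, Hom.mul_def, ← lift_whiskerRight, lift_fst_snd, Category.id_comp]
  obtain ⟨σ, hσ⟩ : ∃ σ : H ⊗ G ⟶ H ⊗ G, σ = lift (fst H G * (snd H G ≫ u)) (snd H G) := ⟨_, rfl⟩
  obtain ⟨τ, hτ⟩ : ∃ τ : H ⊗ G ⟶ H ⊗ G, τ = lift (fst H G * (snd H G ≫ u)⁻¹) (snd H G) := ⟨_, rfl⟩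
  have hσ1 : σ ≫ fst H G = fst H G * (snd H G ≫ u) := by rw [hσ, lift_fst]
  have hσ2 : σ ≫ snd H G = snd H G := by rw [hσ, lift_snd]
  have hτ1 : τ ≫ fst H G = fst H G * (snd H G ≫ u)⁻¹ := by rw [hτ, lift_fst]
  have hτ2 : τ ≫ snd H G = snd H G := by rw [hτ, lift_snd]
  have hστ : σ ≫ τ = 𝟙 _ := by
    apply CartesianMonoidalCategory.hom_ext
    · rw [Category.assoc, hτ1, MonObj.comp_mul, GrpObj.comp_inv, hσ1, ← Category.assoc, hσ2,
        Category.id_comp, mul_inv_cancel_right]
    · rw [Category.assoc, hτ2, hσ2, Category.id_comp]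
  have hτσ : τ ≫ σ = 𝟙 _ := by
    apply CartesianMonoidalCategory.hom_ext
    · rw [Category.assoc, hσ1, MonObj.comp_mul, hτ1, ← Category.assoc, hτ2,
        Category.id_comp, inv_mul_cancel_right]
    · rw [Category.assoc, hσ2, hτ2, Category.id_comp]
  haveI : IsIso σ := ⟨τ, hστ, hτσ⟩
  haveI : IsIso σ.left := (Over.forget S).map_isIso σ
  have eF : lift (m ≫ u) (snd G' G) = ((i ≫ u) ▷ G) ≫ σ := by
    apply CartesianMonoidalCategory.hom_ext
    · rw [lift_fst, Category.assoc, hσ1, MonObj.comp_mul, whiskerRight_fst,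
        whiskerRight_snd_assoc, hm', MonObj.mul_comp, Category.assoc]
    · rw [lift_snd, Category.assoc, hσ2, whiskerRight_snd]
  have h1 : IsProper ((i ≫ u) ▷ G).left :=
    MorphismProperty.of_isPullback (P := @IsProper)
      ((Groth.Agent.S18510.H5S18510.whiskerRight_isPullback (i ≫ u) G).map (Over.forget _)).flip hu
  have hF : IsProper (lift (m ≫ u) (snd G' G)).left := by
    rw [eF]
    change IsProper (((i ≫ u) ▷ G).left ≫ σ.left)
    infer_instance
  haveI : QuasiCompact p.left := Groth.Agent.S14883.H5S14883.qc_of_sep p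
  have hQp : (@Surjective ⊓ @Flat ⊓ @QuasiCompact : MorphismProperty Scheme.{u}) p.left :=
    ⟨⟨inferInstance, inferInstance⟩, inferInstance⟩
  have hQ : (@Surjective ⊓ @Flat ⊓ @QuasiCompact : MorphismProperty Scheme.{u}) (H ◁ p).left :=
    MorphismProperty.of_isPullback (P := @Surjective ⊓ @Flat ⊓ @QuasiCompact)
      ((whiskerLeft_isPullback p H).map (Over.forget _)).flip hQp
  have h2 : IsProper (lift u p).left :=
    MorphismProperty.of_isPullback_of_descendsAlong (P := @IsProper)
      (Q := @Surjective ⊓ @Flat ⊓ @QuasiCompact) (hsq.map (Over.forget _)).flip hQ hF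
  have h3 : IsProper (fst H G'').left := by
    change IsProper (pullback.fst H.hom G''.hom)
    exact MorphismProperty.pullback_fst (P := @IsProper) _ _ inferInstance
  have e : u.left = (lift u p).left ≫ (fst H G'').left := by
    rw [← Over.comp_left, lift_fst]
  rw [e]
  infer_instance

end H5S5415

/-- Let G be an S-group scheme of finite presentation over S, p : G → G'' a homomorphism which is
surjective, flat and locally of finite presentation onto an S-group scheme G'' proper and of finite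
presentation over S, and i : G' → G its kernel, with G' flat and of finite presentation over S. Let
H be an S-group scheme which is of finite presentation over S, or locally of finite presentation
over a locally Noetherian S, and u : G → H a homomorphism. If the restriction u ∘ i of u to G' is
proper, then u is proper. -/
theorem result (S : Scheme.{u}) (G G' G'' : Over S) [GrpObj G] [GrpObj G'] [GrpObj G'']
    [QuasiCompact G.hom] [QuasiSeparated G.hom] [LocallyOfFinitePresentation G.hom]
    [IsProper G''.hom] [LocallyOfFinitePresentation G''.hom]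
    [Flat G'.hom] [QuasiCompact G'.hom] [QuasiSeparated G'.hom] [LocallyOfFinitePresentation G'.hom]
    (p : G ⟶ G'') [IsMonHom p] [Surjective p.left] [Flat p.left] [LocallyOfFinitePresentation p.left]
    (i : G' ⟶ G) [IsMonHom i] (hker : AlgGrp.IsKernel i p)
    (H : Over S) [GrpObj H] [LocallyOfFinitePresentation H.hom]
    (hH : (QuasiCompact H.hom ∧ QuasiSeparated H.hom) ∨ IsLocallyNoetherian S)
    (u : G ⟶ H) [IsMonHom u] (hu : IsProper (i ≫ u).left) : IsProper u.left := by
  exact H5S5415.main G G' G'' H p i hker u hu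

end Groth.Agent.S5415
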