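import Groth.Statements.S18825
import Mathlib
import Groth.Agent.S18510
import Groth.Agent.S5415
-- import your own Groth.Agent.* helpers here

set_option autoImplicit false
universe u
open CategoryTheory MonoidalCategory CartesianMonoidalCategory MonObj AlgebraicGeometry
open AlgGrp

namespace Groth.Agent.S18825

open CategoryTheory MonoidalCategory CartesianMonoidalCategory MonObj AlgebraicGeometry CategoryTheory.Limits

namespace H5S18825

section topo
open Topology TopologicalSpace


section top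
variable {Y : Type*} [TopologicalSpace Y]

theorem cons_dichotomy {O : Set Y} (hO : IsOpen O) (hirr : IsIrreducible O) {s : Set Y}
    (hs : IsConstructible s) :
    (∃ V, IsOpen V ∧ V.Nonempty ∧ V ⊆ O ∧ V ⊆ s) ∨
      (∃ V, IsOpen V ∧ V.Nonempty ∧ V ⊆ O ∧ V ⊆ sᶜ) := by
  induction hs using IsConstructible.empty_union_induction with
  | open_retrocompact U hUo hUc =>
    by_cases h : (O ∩ U).Nonempty
    · exact Or.inl ⟨O ∩ U, hO.inter hUo, h, Set.inter_subset_left, Set.inter_subset_right⟩
    · refine Or.inr ⟨O, hO, hirr.nonempty, le_rfl, ?_⟩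
      intro y hy hyU
      exact h ⟨y, hy, hyU⟩
  | union s hs t ht ihs iht =>
    rcases ihs with ⟨V, h1, h2, h3, h4⟩ | ⟨V, h1, h2, h3, h4⟩
    · exact Or.inl ⟨V, h1, h2, h3, h4.trans Set.subset_union_left⟩
    · rcases iht with ⟨V', h1', h2', h3', h4'⟩ | ⟨V', h1', h2', h3', h4'⟩
      · exact Or.inl ⟨V', h1', h2', h3', h4'.trans Set.subset_union_right⟩
      · have hn1 : (O ∩ V).Nonempty := by
          obtain ⟨z, hz⟩ := h2
          exact ⟨z, h3 hz, hz⟩
        have hn2 : (O ∩ V').Nonempty := by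
          obtain ⟨z, hz⟩ := h2'
          exact ⟨z, h3' hz, hz⟩
        obtain ⟨y, hyO, hyV, hyV'⟩ := hirr.isPreirreducible V V' h1 h1' hn1 hn2
        refine Or.inr ⟨V ∩ V', h1.inter h1', ⟨y, hyV, hyV'⟩, Set.inter_subset_left.trans h3, ?_⟩
        rw [Set.compl_union]
        exact fun z hz => ⟨h4 hz.1, h4' hz.2⟩
  | compl s hs ih =>
    rcases ih with h | h
    · right
      simpa using h
    · left
      exact h

theorem exists_open_subset_of_dense_constructible [NoetherianSpace Y] [Nonempty Y] {s : Set Y}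
    (hs : IsConstructible s) (hd : Dense s) : ∃ V, IsOpen V ∧ V.Nonempty ∧ V ⊆ s := by
  obtain ⟨y⟩ := ‹Nonempty Y›
  obtain ⟨o, ho, hne, hoZ⟩ :=
    NoetherianSpace.exists_isOpen_nonempty_subset_irreducibleComponent _
      (irreducibleComponent_mem_irreducibleComponents y)
  have hirr : IsIrreducible o :=
    ⟨hne, (isIrreducible_irreducibleComponent (x := y)).isPreirreducible.open_subset ho hoZ⟩
  rcases cons_dichotomy ho hirr hs with ⟨V, h1, h2, h3, h4⟩ | ⟨V, h1, h2, h3, h4⟩
  · exact ⟨V, h1, h2, h4⟩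
  · exfalso
    obtain ⟨z, hzV, hzs⟩ := hd.inter_open_nonempty V h1 h2
    exact h4 hzV hzs

end top

theorem dense_interior_of_locallyConstructible {X : Scheme.{u}} [IsLocallyNoetherian X] {s : Set X}
    (hs : IsLocallyConstructible s) (hd : Dense s) : Dense (interior s) := by
  rw [dense_iff_inter_open]
  intro A hA hne
  obtain ⟨a, ha⟩ := hne
  obtain ⟨_, ⟨(U : X.Opens), hU, rfl⟩, haU, hUA⟩ :=
    X.isBasis_affineOpens.exists_subset_of_mem_open ha hA
  haveI : IsNoetherianRing Γ(X, U) := IsLocallyNoetherian.component_noetherian ⟨U, hU⟩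
  haveI : NoetherianSpace (U : Scheme.{u}) := noetherianSpace_of_isAffineOpen U hU
  haveI : Nonempty (U : Scheme.{u}) := ⟨⟨a, haU⟩⟩
  have hs' : IsConstructible (U.ι ⁻¹' s) :=
    (hs.preimage_of_isOpenEmbedding U.ι.isOpenEmbedding).isConstructible
  have hd' : Dense (U.ι ⁻¹' s) := hd.preimage U.ι.isOpenEmbedding.isOpenMap
  obtain ⟨V, hV, hVne, hVs⟩ := exists_open_subset_of_dense_constructible hs' hd'
  obtain ⟨v, hv⟩ := hVne
  have hvU : U.ι v ∈ (U : Set X) := by
    rw [← Scheme.Opens.range_ι]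
    exact ⟨v, rfl⟩
  refine ⟨U.ι v, hUA hvU, ?_⟩
  exact mem_interior.2 ⟨U.ι '' V, by rintro _ ⟨z, hz, rfl⟩; exact hVs hz,
    U.ι.isOpenEmbedding.isOpenMap V hV, ⟨v, hv, rfl⟩⟩


end topo

section surj
open GrpObj


theorem surj_of_dense_open (K : Type u) [Field K] (H G : Over (Spec (CommRingCat.of K)))
    [GrpObj H] [GrpObj G] (ψ : H ⟶ G) [IsMonHom ψ] (W : Set G.left) (hWo : IsOpen W)
    (hWd : Dense W) (hW : W ⊆ Set.range ψ.left) : Function.Surjective ψ.left := by
  intro x
  let T : Over (Spec (CommRingCat.of K)) := Over.mk (G.left.fromSpecResidueField x ≫ G.hom)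
  let xt : T ⟶ G := Over.homMk (G.left.fromSpecResidueField x) rfl
  let ψ' : T ⊗ G ⟶ G := (fst T G ≫ xt)⁻¹ * (snd T G)
  let τ : T ⊗ G ⟶ T ⊗ G := lift (fst T G) ((fst T G ≫ xt) * snd T G)
  let Γ : T ⊗ G ⟶ G ⊗ G := lift ψ' (snd T G)
  let qG : G ⊗ G ⟶ G := (snd G G) * (fst G G)⁻¹
  let qH : H ⊗ H ⟶ H := (snd H H) * (fst H H)⁻¹
  have hτ : τ ≫ ψ' = snd T G := by
    simp [τ, ψ', MonObj.comp_mul, GrpObj.comp_inv]
  have hΓq : Γ ≫ qG = fst T G ≫ xt := by
    simp [Γ, qG, ψ', MonObj.comp_mul, GrpObj.comp_inv]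
  have hψq : (ψ ⊗ₘ ψ) ≫ qG = qH ≫ ψ := by
    simp [qG, qH, MonObj.comp_mul, GrpObj.comp_inv, MonObj.mul_comp, GrpObj.inv_comp]
  haveI : UniversallyOpen T.hom := inferInstance
  have hopen_snd : IsOpenMap (snd T G).left.base := by
    rw [Over.snd_left]
    exact (pullback.snd T.hom G.hom).isOpenMap
  haveI : Surjective T.hom := by
    constructor
    intro y
    refine ⟨IsLocalRing.closedPoint (G.left.residueField x), Subsingleton.elim _ _⟩
  have hsurj_snd : Function.Surjective (snd T G).left := by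
    rw [Over.snd_left]
    exact (pullback.snd T.hom G.hom).surjective
  -- ψ' hits W
  obtain ⟨g0, hg0⟩ : W.Nonempty := hWd.nonempty_iff.2 ⟨x⟩
  obtain ⟨w0, hw0⟩ := hsurj_snd g0
  have hw1 : ψ'.left (τ.left w0) ∈ W := by
    rw [← Scheme.Hom.comp_apply, ← Over.comp_left, hτ, hw0]
    exact hg0
  have hN1 : IsOpen (ψ'.left ⁻¹' W) := hWo.preimage ψ'.left.continuous
  have hN2 : Dense ((snd T G).left ⁻¹' W) := hWd.preimage hopen_snd
  obtain ⟨w, hwN1, hwN2⟩ := hN2.inter_open_nonempty _ hN1 ⟨_, hw1⟩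
  have hΓfst : Γ ≫ fst G G = ψ' := by simp [Γ]
  have hΓsnd : Γ ≫ snd G G = snd T G := by simp [Γ]
  have hrange : Γ.left w ∈ Set.range (ψ ⊗ₘ ψ).left := by
    rw [Over.tensorHom_left, Scheme.Pullback.range_map]
    refine ⟨?_, ?_⟩
    · show (fst G G).left (Γ.left w) ∈ Set.range ψ.left
      rw [← Scheme.Hom.comp_apply, ← Over.comp_left, hΓfst]
      exact hW hwN1
    · show (snd G G).left (Γ.left w) ∈ Set.range ψ.left
      rw [← Scheme.Hom.comp_apply, ← Over.comp_left, hΓsnd]
      exact hW hwN2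
  obtain ⟨v, hv⟩ := hrange
  have hxw : (fst T G ≫ xt).left w = x := by
    rw [Over.comp_left, Scheme.Hom.comp_apply]
    exact Scheme.fromSpecResidueField_apply _ _
  refine ⟨qH.left v, ?_⟩
  rw [← Scheme.Hom.comp_apply, ← Over.comp_left, ← hψq, Over.comp_left, Scheme.Hom.comp_apply, hv,
    ← Scheme.Hom.comp_apply, ← Over.comp_left, hΓq, hxw]


end surj


theorem lift_sd {X Y K G : Scheme.{u}} (φ : X ⟶ Y) [IsSchemeTheoreticallyDominant φ]
    (i : K ⟶ G) [IsClosedImmersion i] (a : X ⟶ K) (b : Y ⟶ G) (h : a ≫ i = φ ≫ b) :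
    ∃ l : Y ⟶ K, l ≫ i = b := by
  haveI : IsClosedImmersion (pullback.fst b i) := inferInstance
  have hc : pullback.lift φ a h.symm ≫ pullback.fst b i = φ := pullback.lift_fst _ _ _
  have hk : (pullback.fst b i).ker = ⊥ := by
    have := (pullback.lift φ a h.symm).le_ker_comp (pullback.fst b i)
    rw [hc, φ.ker_eq_bot] at this
    exact le_bot_iff.1 this
  haveI : IsIso (pullback.fst b i) := IsClosedImmersion.isIso_iff_ker_eq_bot.2 hk
  exact ⟨inv (pullback.fst b i) ≫ pullback.snd b i, by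
    rw [Category.assoc, ← pullback.condition, IsIso.inv_hom_id_assoc]⟩

theorem ov_lift {S : Scheme.{u}} {X Y K G : Over S} (φ : X ⟶ Y)
    [IsSchemeTheoreticallyDominant φ.left]
    (i : K ⟶ G) [IsClosedImmersion i.left] (a : X ⟶ K) (b : Y ⟶ G) (h : a ≫ i = φ ≫ b) :
    ∃ l : Y ⟶ K, l ≫ i = b := by
  obtain ⟨l, hl⟩ := lift_sd φ.left i.left a.left b.left (by
    rw [← Over.comp_left, ← Over.comp_left, h])
  refine ⟨Over.homMk l ?_, ?_⟩
  · rw [← Over.w i, ← Category.assoc, hl, Over.w]
  · apply Over.OverMorphism.ext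
    simpa using hl

variable {k : Type u} [Field k]

open Groth.Agent.S18510.H5S18510 Groth.Agent.S5415.H5S5415

theorem sd_whiskerRight {X Y : Over (Spec (CommRingCat.of k))} (g : X ⟶ Y)
    [IsSchemeTheoreticallyDominant g.left] [QuasiCompact g.left]
    (W : Over (Spec (CommRingCat.of k))) :
    IsSchemeTheoreticallyDominant (g ▷ W).left ∧ QuasiCompact (g ▷ W).left := by
  have sq : IsPullback (fst X W).left (g ▷ W).left g.left (fst Y W).left :=
    ((whiskerRight_isPullback g W).map (Over.forget _)).flip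
  haveI : Flat (fst Y W).left := by
    change Flat (pullback.fst Y.hom W.hom)
    infer_instance
  exact ⟨IsSchemeTheoreticallyDominant.of_isPullback sq,
    MorphismProperty.of_isPullback (P := @QuasiCompact) sq inferInstance⟩

theorem sd_whiskerLeft {X Y : Over (Spec (CommRingCat.of k))} (g : X ⟶ Y)
    [IsSchemeTheoreticallyDominant g.left] [QuasiCompact g.left]
    (W : Over (Spec (CommRingCat.of k))) :
    IsSchemeTheoreticallyDominant (W ◁ g).left ∧ QuasiCompact (W ◁ g).left := by
  have sq : IsPullback (snd W X).left (W ◁ g).left g.left (snd W Y).left :=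
    ((whiskerLeft_isPullback g W).map (Over.forget _)).flip
  haveI : Flat (snd W Y).left := by
    change Flat (pullback.snd W.hom Y.hom)
    infer_instance
  exact ⟨IsSchemeTheoreticallyDominant.of_isPullback sq,
    MorphismProperty.of_isPullback (P := @QuasiCompact) sq inferInstance⟩

theorem sd_tensor {X Y X' Y' : Over (Spec (CommRingCat.of k))} (g : X ⟶ Y) (g' : X' ⟶ Y')
    [IsSchemeTheoreticallyDominant g.left] [QuasiCompact g.left]
    [IsSchemeTheoreticallyDominant g'.left] [QuasiCompact g'.left] :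
    IsSchemeTheoreticallyDominant (g ⊗ₘ g').left := by
  rw [MonoidalCategory.tensorHom_def, Over.comp_left]
  haveI := (sd_whiskerRight g X').1
  haveI := (sd_whiskerLeft g' Y).1
  infer_instance


section monoidal
variable {C : Type*} [Category C] [MonoidalCategory C]

theorem assoc_l' {K G : C} (i : K ⟶ G) (m : K ⊗ K ⟶ K) (mu : G ⊗ G ⟶ G)
    (h : m ≫ i = (i ⊗ₘ i) ≫ mu) :
    (m ▷ K) ≫ m ≫ i = ((i ⊗ₘ i) ⊗ₘ i) ≫ (mu ▷ G) ≫ mu := by
  rw [h, ← tensorHom_id, ← tensorHom_id, tensorHom_comp_tensorHom_assoc, h, Category.id_comp,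
    tensorHom_comp_tensorHom_assoc, Category.comp_id]

theorem assoc_r' {K G : C} (i : K ⟶ G) (m : K ⊗ K ⟶ K) (mu : G ⊗ G ⟶ G)
    (h : m ≫ i = (i ⊗ₘ i) ≫ mu) :
    (α_ K K K).hom ≫ (K ◁ m) ≫ m ≫ i = ((i ⊗ₘ i) ⊗ₘ i) ≫ (α_ G G G).hom ≫ (G ◁ mu) ≫ mu := by
  rw [h, ← id_tensorHom, ← id_tensorHom, tensorHom_comp_tensorHom_assoc, h, Category.id_comp,
    MonoidalCategory.associator_naturality_assoc, tensorHom_comp_tensorHom_assoc, Category.comp_id]

end monoidal

section grp
open GrpObj

variable {H G K : Over (Spec (CommRingCat.of k))} [GrpObj H] [GrpObj G] (f : H ⟶ G) [IsMonHom f]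
  (i : K ⟶ G) [IsClosedImmersion i.left] (g : H ⟶ K) (hgi : g ≫ i = f)
  [IsSchemeTheoreticallyDominant g.left] [QuasiCompact g.left]

include hgi in
theorem mul_compat : (μ[H] ≫ g) ≫ i = (g ⊗ₘ g) ≫ (i ⊗ₘ i) ≫ μ[G] := by
  rw [Category.assoc, hgi, tensorHom_comp_tensorHom_assoc, hgi, IsMonHom.mul_hom]

include hgi in
theorem inv_compat : (ι[H] ≫ g) ≫ i = g ≫ i ≫ ι[G] := by
  rw [Category.assoc, hgi, ← Category.assoc, hgi, GrpObj.inv_hom]

noncomputable def mulK : K ⊗ K ⟶ K :=
  haveI := sd_tensor g g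
  (ov_lift (g ⊗ₘ g) i (μ[H] ≫ g) ((i ⊗ₘ i) ≫ μ[G]) (mul_compat f i g hgi)).choose

theorem mulK_spec : mulK f i g hgi ≫ i = (i ⊗ₘ i) ≫ μ[G] :=
  haveI := sd_tensor g g
  (ov_lift (g ⊗ₘ g) i (μ[H] ≫ g) ((i ⊗ₘ i) ≫ μ[G]) (mul_compat f i g hgi)).choose_spec

noncomputable def invK : K ⟶ K :=
  (ov_lift g i (ι[H] ≫ g) (i ≫ ι[G]) (inv_compat f i g hgi)).choose

theorem invK_spec : invK f i g hgi ≫ i = i ≫ ι[G] :=
  (ov_lift g i (ι[H] ≫ g) (i ≫ ι[G]) (inv_compat f i g hgi)).choose_spec

include hgi in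
theorem one_compat : (η[H] ≫ g) ≫ i = η[G] := by
  rw [Category.assoc, hgi, IsMonHom.one_hom]


@[instance_reducible]
noncomputable def grpK : GrpObj K where
  one := η[H] ≫ g
  mul := mulK f i g hgi
  one_mul := by
    haveI : Mono i.left := inferInstance
    haveI : Mono i := Over.mono_of_mono_left i
    rw [← cancel_mono i, Category.assoc, mulK_spec, ← tensorHom_id, tensorHom_comp_tensorHom_assoc,
      one_compat f i g hgi, Category.id_comp, MonoidalCategory.tensorHom_def', Category.assoc,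
      MonObj.one_mul, leftUnitor_naturality]
  mul_one := by
    haveI : Mono i.left := inferInstance
    haveI : Mono i := Over.mono_of_mono_left i
    rw [← cancel_mono i, Category.assoc, mulK_spec, ← id_tensorHom, tensorHom_comp_tensorHom_assoc,
      one_compat f i g hgi, Category.id_comp, MonoidalCategory.tensorHom_def, Category.assoc,
      MonObj.mul_one, rightUnitor_naturality]
  mul_assoc := by
    haveI : Mono i.left := inferInstance
    haveI : Mono i := Over.mono_of_mono_left i
    rw [← cancel_mono i]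
    simp only [Category.assoc]
    rw [assoc_l' i _ _ (mulK_spec f i g hgi), assoc_r' i _ _ (mulK_spec f i g hgi),
      MonObj.mul_assoc]
  inv := invK f i g hgi
  left_inv := by
    haveI : Mono i.left := inferInstance
    haveI : Mono i := Over.mono_of_mono_left i
    rw [← cancel_mono i, Category.assoc, mulK_spec, lift_map_assoc, invK_spec, Category.id_comp]
    have h1 : lift (i ≫ ι[G]) i = i ≫ lift ι[G] (𝟙 G) := by
      rw [comp_lift, Category.comp_id]
    rw [h1, Category.assoc, GrpObj.left_inv, Category.assoc, one_compat f i g hgi,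
      ← Category.assoc, toUnit_unique (i ≫ toUnit G) (toUnit K)]
  right_inv := by
    haveI : Mono i.left := inferInstance
    haveI : Mono i := Over.mono_of_mono_left i
    rw [← cancel_mono i, Category.assoc, mulK_spec, lift_map_assoc, invK_spec, Category.id_comp]
    have h1 : lift i (i ≫ ι[G]) = i ≫ lift (𝟙 G) ι[G] := by
      rw [comp_lift, Category.comp_id]
    rw [h1, Category.assoc, GrpObj.right_inv, Category.assoc, one_compat f i g hgi,
      ← Category.assoc, toUnit_unique (i ≫ toUnit G) (toUnit K)]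

end grp

theorem main (k : Type u) [Field k]
    (H G K : Over (Spec (CommRingCat.of k))) [GrpObj H] [GrpObj G]
    [LocallyOfFiniteType H.hom] [LocallyOfFiniteType G.hom]
    (f : H ⟶ G) [IsMonHom f] [QuasiCompact f.left]
    (i : K ⟶ G) [IsClosedImmersion i.left] (g : H ⟶ K) (hgi : g ≫ i = f)
    [IsSchemeTheoreticallyDominant g.left] :
    ((∃ e : 𝟙_ (Over (Spec (CommRingCat.of k))) ⟶ K, e ≫ i = η[G]) ∧
      ∀ (T : Over (Spec (CommRingCat.of k))) (k₁ k₂ : T ⟶ K),
        ∃ k₃ : T ⟶ K, k₃ ≫ i = (k₁ ≫ i)⁻¹ * (k₂ ≫ i)) ∧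
    Surjective g.left := by
  haveI : QuasiCompact g.left := by
    haveI : QuasiCompact (g.left ≫ i.left) := by
      rw [← Over.comp_left, hgi]; infer_instance
    exact QuasiCompact.of_comp g.left i.left
  letI : GrpObj K := grpK f i g hgi
  haveI : IsMonHom i := ⟨one_compat f i g hgi, mulK_spec f i g hgi⟩
  haveI : Mono i.left := inferInstance
  haveI : Mono i := Over.mono_of_mono_left i
  haveI : IsMonHom g := ⟨rfl, by
    rw [← cancel_mono i, mul_compat f i g hgi, Category.assoc]
    congr 1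
    exact (mulK_spec f i g hgi).symm⟩
  refine ⟨⟨⟨η[K], IsMonHom.one_hom i⟩, fun T k₁ k₂ => ⟨k₁⁻¹ * k₂, ?_⟩⟩, ?_⟩
  · rw [MonObj.mul_comp, GrpObj.inv_comp]
  · haveI : LocallyOfFiniteType K.hom := by rw [← Over.w i]; infer_instance
    haveI : IsLocallyNoetherian K.left := LocallyOfFiniteType.isLocallyNoetherian K.hom
    haveI : LocallyOfFiniteType g.left := by
      haveI : LocallyOfFiniteType (g.left ≫ K.hom) := by rw [Over.w]; infer_instance
      exact locallyOfFiniteType_of_comp g.left K.hom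
    haveI : LocallyOfFinitePresentation g.left :=
      LocallyOfFinitePresentation.iff_locallyOfFiniteType.2 inferInstance
    have hcons : Topology.IsLocallyConstructible (Set.range g.left) := by
      have := g.left.isLocallyConstructible_image (s := Set.univ) Topology.IsLocallyConstructible.univ
      rwa [Set.image_univ] at this
    have hdense : Dense (Set.range g.left) := g.left.denseRange
    have hd := dense_interior_of_locallyConstructible hcons hdense
    exact ⟨surj_of_dense_open k H K g (interior (Set.range g.left)) isOpen_interior hd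
      interior_subset⟩

end H5S18825

/-- Let k be a field and f : H → G a homomorphism of locally algebraic groups over k (group k-schemes
locally of finite type) which is of finite type (equivalently quasi-compact). Let H → K → G be the
factorization of f through its scheme-theoretic image: i : K → G a closed immersion and g : H → K
with g followed by i equal to f and O_K → g_*O_H injective. Then (1) K is a closed subgroup scheme
of G: the unit section of G factors through i and, for every k-scheme T and T-valued points k₁, k₂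
of K, the T-valued point (i k₁)⁻¹ · (i k₂) of G factors through i; and (2) g : H → K is surjective.
(The source also records that g is a homomorphism for the group structure induced on K; this row
does not state it.) -/
theorem result (k : Type u) [Field k]
    (H G K : Over (Spec (CommRingCat.of k))) [GrpObj H] [GrpObj G]
    [LocallyOfFiniteType H.hom] [LocallyOfFiniteType G.hom]
    (f : H ⟶ G) [IsMonHom f] [QuasiCompact f.left]
    (i : K ⟶ G) [IsClosedImmersion i.left] (g : H ⟶ K) (hgi : g ≫ i = f)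
    [IsSchemeTheoreticallyDominant g.left] :
    ((∃ e : 𝟙_ (Over (Spec (CommRingCat.of k))) ⟶ K, e ≫ i = η[G]) ∧
      ∀ (T : Over (Spec (CommRingCat.of k))) (k₁ k₂ : T ⟶ K),
        ∃ k₃ : T ⟶ K, k₃ ≫ i = (k₁ ≫ i)⁻¹ * (k₂ ≫ i)) ∧
    Surjective g.left := by
  exact H5S18825.main k H G K f i g hgi

end Groth.Agent.S18825
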