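import Groth.Statements.S14586
import Mathlib
import Groth.Prelude.Def_ChGrp
import Groth.Agent.S7984
-- import your own Groth.Agent.* helpers here

set_option autoImplicit false
universe u
open CategoryTheory MonoidalCategory CartesianMonoidalCategory MonObj GrpObj AlgebraicGeometry CategoryTheory.Limits
open AlgGrp

namespace Groth.Agent.S14586

open CategoryTheory MonoidalCategory CartesianMonoidalCategory MonObj GrpObj AlgebraicGeometry CategoryTheory.Limits

namespace H5S14586

open Groth.Agent.S7984.H5S7984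

section stab
variable {S : Scheme.{u}} {G X : Over S} [GrpObj G] (a : AlgGrp.Action G X)

def Stable (C : Set X.left) : Prop :=
  ∀ u : (G ⊗ X).left, (snd G X).left u ∈ C → a.act.left u ∈ C

theorem stable_closure (hopen : IsOpenMap (snd G X).left) {C : Set X.left} (hC : Stable a C) :
    Stable a (closure C) := by
  intro u hu
  have h1 : u ∈ closure ((snd G X).left ⁻¹' C) := by
    rw [← hopen.preimage_closure_eq_closure_preimage (snd G X).left.continuous]
    exact hu
  have h2 := image_closure_subset_closure_image a.act.left.continuous ⟨u, h1, rfl⟩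
  refine closure_mono ?_ h2
  rintro _ ⟨u', hu', rfl⟩
  exact hC u' hu'

theorem stable_orbit (x₀ : 𝟙_ (Over S) ⟶ X) : Stable a (Set.range (a.orbitMap x₀).left) := by
  intro u hu
  obtain ⟨v, rfl⟩ := mem_range_whiskerLeft (a.orbitMap x₀) u hu
  rw [← Scheme.Hom.comp_apply, ← Over.comp_left, whisker_act, Over.comp_left,
    Scheme.Hom.comp_apply]
  exact ⟨_, rfl⟩

theorem orbit_subset (x₀ : 𝟙_ (Over S) ⟶ X) {C : Set X.left} (hC : Stable a C)
    (hx : ∀ pt, x₀.left pt ∈ C) : Set.range (a.orbitMap x₀).left ⊆ C := by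
  rintro _ ⟨g, rfl⟩
  have e : (a.orbitMap x₀).left g = a.act.left ((lift (𝟙 G) (toUnit G ≫ x₀)).left g) := by
    rw [← Scheme.Hom.comp_apply, ← Over.comp_left]
    rfl
  rw [e]
  apply hC
  rw [← Scheme.Hom.comp_apply, ← Over.comp_left, lift_snd, Over.comp_left, Scheme.Hom.comp_apply]
  exact hx _

theorem stable_diff {C O : Set X.left} (hC : Stable a C) (hO : Stable a O) :
    Stable a (C \ O) := by
  rintro u ⟨huC, huO⟩
  refine ⟨hC u huC, fun h => huO ?_⟩
  have h1 : lift ((fst G X)⁻¹) a.act ≫ snd G X = a.act := lift_snd _ _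
  have h2 : lift ((fst G X)⁻¹) a.act ≫ a.act = snd G X := by
    have e : a.act = lift (fst G X) (snd G X) ≫ a.act := by rw [lift_fst_snd, Category.id_comp]
    have e2 : lift ((fst G X)⁻¹) a.act =
        lift ((fst G X)⁻¹) (lift (fst G X) (snd G X) ≫ a.act) := by rw [← e]
    rw [e2, ← AlgGrp.Action.lift_mul_act, inv_mul_cancel, AlgGrp.Action.lift_one_act]
  have := hO ((lift ((fst G X)⁻¹) a.act).left u) (by
    rw [← Scheme.Hom.comp_apply, ← Over.comp_left, h1]; exact h)
  rwa [← Scheme.Hom.comp_apply, ← Over.comp_left, h2] at this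

end stab

open TopologicalSpace in
theorem main (k : Type u) [Field k] [IsAlgClosed k]
    (G X : Over (Spec (CommRingCat.of k))) [GrpObj G] [LocallyOfFiniteType G.hom]
    [QuasiCompact G.hom] [LocallyOfFiniteType X.hom] [QuasiCompact X.hom] [Nonempty ↥X.left]
    (a : AlgGrp.Action G X) :
    ∃ x : 𝟙_ (Over (Spec (CommRingCat.of k))) ⟶ X,
      IsClosed (Set.range ⇑(a.orbitMap x).left.base) := by
  haveI : IsLocallyNoetherian X.left := LocallyOfFiniteType.isLocallyNoetherian X.hom
  haveI : CompactSpace X.left := QuasiCompact.compactSpace_of_compactSpace X.hom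
  haveI : IsNoetherian X.left := {}
  haveI : NoetherianSpace X.left := inferInstance
  haveI : JacobsonSpace X.left := LocallyOfFiniteType.jacobsonSpace X.hom
  have hopen : IsOpenMap (snd G X).left := by
    rw [Over.snd_left]
    exact (pullback.snd G.hom X.hom).isOpenMap
  obtain ⟨Y, ⟨hYne, hYst⟩, hYmin⟩ := wellFounded_lt.has_min
    {C : Closeds X.left | (C : Set X.left).Nonempty ∧ Stable a (C : Set X.left)}
    ⟨⊤, Set.univ_nonempty, fun _ _ => trivial⟩
  obtain ⟨y, hyY, hyc⟩ := nonempty_inter_closedPoints hYne Y.isClosed.isLocallyClosed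
  obtain ⟨x₀, hx₀⟩ : ∃ x₀ : 𝟙_ (Over (Spec (CommRingCat.of k))) ⟶ X, ∀ pt, x₀.left pt = y := by
    refine ⟨Over.homMk (pointOfClosedPoint X.hom y hyc) ?_, fun pt => ?_⟩
    · rw [pointOfClosedPoint_comp]; rfl
    · exact pointOfClosedPoint_apply X.hom y hyc pt
  obtain ⟨O, hO⟩ : ∃ O, O = Set.range (a.orbitMap x₀).left := ⟨_, rfl⟩
  have hOY : O ⊆ (Y : Set X.left) := by
    rw [hO]
    exact orbit_subset a x₀ hYst (fun pt => by rw [hx₀]; exact hyY)
  have hOst : Stable a O := by rw [hO]; exact stable_orbit a x₀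
  haveI : Nonempty ↥(𝟙_ (Over (Spec (CommRingCat.of k)))).left :=
    inferInstanceAs (Nonempty ↥(Spec (CommRingCat.of k)))
  have hOne : O.Nonempty := by
    rw [hO]
    exact ⟨_, ⟨η[G].left (Classical.arbitrary _), rfl⟩⟩
  have hcl : closure O = (Y : Set X.left) := by
    by_contra hne
    have hle : (⟨closure O, isClosed_closure⟩ : Closeds X.left) ≤ Y :=
      closure_minimal hOY Y.isClosed
    have hlt : (⟨closure O, isClosed_closure⟩ : Closeds X.left) < Y :=
      lt_of_le_of_ne hle (fun h => hne (congrArg (fun C : Closeds X.left => (C : Set X.left)) h))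
    exact hYmin ⟨closure O, isClosed_closure⟩
      ⟨hOne.mono subset_closure, stable_closure a hopen hOst⟩ hlt
  obtain ⟨U, Z, hU, hZ, hOeq⟩ : IsLocallyClosed O := by
    rw [hO]
    exact Groth.Agent.S7984.H5S7984.main k G X a x₀
  have hYZ : (Y : Set X.left) ⊆ Z := by
    rw [← hcl]
    exact closure_minimal (hOeq ▸ Set.inter_subset_right) hZ
  have hdiff : (Y : Set X.left) \ O = (Y : Set X.left) ∩ Uᶜ := by
    ext z
    constructor
    · rintro ⟨hzY, hzO⟩
      exact ⟨hzY, fun hzU => hzO (hOeq ▸ ⟨hzU, hYZ hzY⟩)⟩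
    · rintro ⟨hzY, hzU⟩
      exact ⟨hzY, fun hzO => hzU (hOeq ▸ hzO : z ∈ U ∩ Z).1⟩
  have hDcl : IsClosed ((Y : Set X.left) \ O) := by
    rw [hdiff]
    exact Y.isClosed.inter hU.isClosed_compl
  have hDempty : (Y : Set X.left) \ O = ∅ := by
    by_contra hne'
    have hle : (⟨(Y : Set X.left) \ O, hDcl⟩ : Closeds X.left) ≤ Y := Set.sdiff_subset
    have hlt : (⟨(Y : Set X.left) \ O, hDcl⟩ : Closeds X.left) < Y := by
      refine lt_of_le_of_ne hle (fun h => ?_)
      obtain ⟨z, hz⟩ := hOne
      have hzY : z ∈ (Y : Set X.left) := hOY hz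
      have : z ∈ (Y : Set X.left) \ O := by
        have h2 : ((Y : Set X.left) \ O) = (Y : Set X.left) :=
          congrArg (fun C : Closeds X.left => (C : Set X.left)) h
        rw [h2]
        exact hzY
      exact this.2 hz
    exact hYmin ⟨(Y : Set X.left) \ O, hDcl⟩
      ⟨Set.nonempty_iff_ne_empty.2 hne', stable_diff a hYst hOst⟩ hlt
  have hOeqY : O = (Y : Set X.left) := Set.Subset.antisymm hOY (Set.sdiff_eq_empty.1 hDempty)
  refine ⟨x₀, ?_⟩
  show IsClosed (Set.range (a.orbitMap x₀).left)
  rw [← hO, hOeqY]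
  exact Y.isClosed

end H5S14586

/-- Let k be an algebraically closed field, G a smooth k-group scheme of finite type and X a non-empty
separated k-scheme of finite type with an action of G. Then there is a rational point x of X whose
orbit, the image of the orbit map g ↦ g · x, is closed in X. -/
theorem result (k : Type u) [Field k] [IsAlgClosed k]
    (G X : Over (Spec (CommRingCat.of k))) [GrpObj G] [Smooth G.hom] [QuasiCompact G.hom]
    [LocallyOfFiniteType X.hom] [QuasiCompact X.hom] [IsSeparated X.hom] [Nonempty ↥X.left]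
    (a : AlgGrp.Action G X) :
    ∃ x : 𝟙_ (Over (Spec (CommRingCat.of k))) ⟶ X, IsClosed (Set.range ⇑(a.orbitMap x).left.base) := by
  exact H5S14586.main k G X a

end Groth.Agent.S14586
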