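import Groth.Statements.S7495
import Mathlib
import Groth.Agent.Lib.helper7.GeomRed2
import Groth.Agent.Lib.helper7.GeomRed3

set_option autoImplicit false
universe u
open CategoryTheory MonoidalCategory CartesianMonoidalCategory MonObj GrpObj AlgebraicGeometry
open GrpSch

namespace Groth.Agent.S7495

section Aux
open CategoryTheory CategoryTheory.Limits MonoidalCategory CartesianMonoidalCategory MonObj GrpObj AlgebraicGeometry

theorem main (K : Type u) [Field K] [PerfectField K] (G : Over (Spec (CommRingCat.of K))) [GrpObj G] [LocallyOfFiniteType G.hom] [IsReduced G.left] : Smooth G.hom := by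
  haveI : GeometricallyReduced G.hom := by
    rw [geometricallyReduced_iff, geometrically_iff_of_commRing_of_isClosedUnderIsomorphisms]
    intro L _ _
    haveI := Groth.Agent.Lib.helper7.GeomRed3.isGeometricallyReduced_of_perfectField K L
    exact Groth.Agent.Lib.helper7.GeomRed2.isReduced_pullback_of_isGeometricallyReduced L G.hom
  haveI : GrpObj (Over.mk G.hom) := ‹GrpObj G›
  exact smooth_of_grpObj G.hom

end Aux

/-- Let k be a perfect field of positive characteristic and G a group scheme locally of finite type over
k whose underlying scheme is reduced. Then G -> Spec k is smooth. -/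
theorem result (K : Type u) [Field K] [PerfectField K] (hK : ringChar K ≠ 0) (G : Over (Spec (CommRingCat.of K))) [GrpObj G] [LocallyOfFiniteType G.hom] [IsReduced G.left] : Smooth G.hom := by
  exact main K G

end Groth.Agent.S7495
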