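import Groth.Statements.S14588
import Mathlib
import Groth.Prelude.Def_Red
import Groth.Agent.S7495
-- import your own Groth.Agent.* helpers here

set_option autoImplicit false
universe u
open CategoryTheory MonoidalCategory CartesianMonoidalCategory MonObj GrpObj AlgebraicGeometry CategoryTheory.Limits
open AlgGrp

namespace Groth.Agent.S14588

open CategoryTheory MonoidalCategory CartesianMonoidalCategory MonObj GrpObj AlgebraicGeometry CategoryTheory.Limits

namespace H5S14588

/-- A Jacobson scheme whose stalks at closed points are reduced is reduced. -/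
theorem isReduced_of_closedPoints (X : Scheme.{u}) [JacobsonSpace X]
    (h : ∀ z : X, IsClosed ({z} : Set X) → _root_.IsReduced (X.presheaf.stalk z)) :
    IsReduced X := by
  refine ⟨fun U => ⟨fun s hs => ?_⟩⟩
  by_contra hne
  let V : Set X := {x | ∃ hx : x ∈ U, X.presheaf.germ U x hx s = 0}
  have hVopen : IsOpen V := by
    rw [isOpen_iff_forall_mem_open]
    rintro x ⟨hxU, hx⟩
    have hx0 : X.presheaf.germ U x hxU s = X.presheaf.germ U x hxU 0 := by
      rw [hx, map_zero]
    obtain ⟨W, hxW, iU, iV, hW⟩ := X.presheaf.germ_eq x hxU hxU s 0 hx0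
    refine ⟨W, ?_, W.isOpen, hxW⟩
    intro y hyW
    refine ⟨iU.le hyW, ?_⟩
    have h1 := TopCat.Presheaf.germ_res_apply X.presheaf iU y hyW s
    rw [← h1, hW, map_zero, map_zero]
  let Z : Set X := (U : Set X) ∩ Vᶜ
  have hZ : IsLocallyClosed Z :=
    U.isOpen.isLocallyClosed.inter hVopen.isClosed_compl.isLocallyClosed
  have hZne : Z.Nonempty := by
    by_contra hempty
    apply hne
    apply TopCat.Presheaf.section_ext X.sheaf U s 0
    intro x hx
    by_contra hx0
    apply hempty
    refine ⟨x, hx, ?_⟩
    rintro ⟨hxU, hxV⟩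
    apply hx0
    rw [map_zero]
    exact hxV
  obtain ⟨z, ⟨hzU, hzV⟩, hzc⟩ := nonempty_inter_closedPoints hZne hZ
  haveI := h z hzc
  apply hzV
  refine ⟨hzU, ?_⟩
  have : IsNilpotent (X.presheaf.germ U z hzU s) := hs.map _
  exact this.eq_zero


theorem one_mulRight {C : Type*} [Category C] [CartesianMonoidalCategory C] {A : C} [GrpObj A]
    (f : 𝟙_ C ⟶ A) : η[A] ≫ (GrpObj.mulRight f).hom = f := by
  have h1 : η[A] ≫ toUnit A = 𝟙 _ := toUnit_unique _ _
  simp only [GrpObj.mulRight, comp_lift_assoc, Category.comp_id]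
  rw [reassoc_of% h1]
  have h3 : lift η[A] f = (λ_ _).inv ≫ (𝟙_ C ◁ f) ≫ (η[A] ▷ A) := by
    apply CartesianMonoidalCategory.hom_ext
    · simp
    · simp
  rw [h3, Category.assoc, Category.assoc, MonObj.one_mul]
  simp

theorem main (k : Type u) [Field k]
    (G : Over (Spec (CommRingCat.of k))) [GrpObj G] [LocallyOfFiniteType G.hom]
    (t : ↥((𝟙_ (Over (Spec (CommRingCat.of (AlgebraicClosure k))))).left))
    (h : _root_.IsReduced ↑((Red.bc (Spec.map (CommRingCat.ofHom (algebraMap k (AlgebraicClosure k)))) G).left.presheaf.stalk ((η[Red.bc (Spec.map (CommRingCat.ofHom (algebraMap k (AlgebraicClosure k)))) G]).left.base t))) :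
    Smooth G.hom := by
  obtain ⟨g, hg⟩ : ∃ g : Spec (CommRingCat.of (AlgebraicClosure k)) ⟶ Spec (CommRingCat.of k),
      g = Spec.map (CommRingCat.ofHom (algebraMap k (AlgebraicClosure k))) := ⟨_, rfl⟩
  rw [← hg] at h
  haveI : LocallyOfFiniteType (Red.bc g G).hom := by
    show LocallyOfFiniteType (pullback.snd G.hom g)
    infer_instance
  haveI : JacobsonSpace (Red.bc g G).left := LocallyOfFiniteType.jacobsonSpace (Red.bc g G).hom
  haveI : Subsingleton ↥((𝟙_ (Over (Spec (CommRingCat.of (AlgebraicClosure k))))).left) :=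
    inferInstanceAs (Subsingleton (PrimeSpectrum (AlgebraicClosure k)))
  haveI : IsReduced (Red.bc g G).left := by
    apply isReduced_of_closedPoints
    intro z hz
    let p := (pointEquivClosedPoint (Red.bc g G).hom).symm ⟨z, hz⟩
    let z' : 𝟙_ (Over (Spec (CommRingCat.of (AlgebraicClosure k)))) ⟶ Red.bc g G :=
      Over.homMk p.1 p.2
    have hz1 : z'.left.base t = z := by
      have h1 := congrArg Subtype.val
        ((pointEquivClosedPoint (Red.bc g G).hom).apply_symm_apply ⟨z, hz⟩)
      have h2 : t = IsLocalRing.closedPoint (AlgebraicClosure k) := Subsingleton.elim _ _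
      rw [h2]
      exact h1
    let α := GrpObj.mulRight z'
    have hα : η[Red.bc g G] ≫ α.hom = z' := one_mulRight z'
    have hz2 : α.hom.left.base (η[Red.bc g G].left.base t) = z := by
      rw [← hz1, ← hα]
      rfl
    haveI : IsIso α.hom.left := inferInstanceAs (IsIso ((Over.forget _).map α.hom))
    have hinj : Function.Injective (α.hom.left.stalkMap (η[Red.bc g G].left.base t)).hom :=
      (ConcreteCategory.bijective_of_isIso (α.hom.left.stalkMap (η[Red.bc g G].left.base t))).1
    have := isReduced_of_injective _ hinj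
    rw [hz2] at this
    exact this
  haveI : Smooth (Red.bc g G).hom := Groth.Agent.S7495.main (AlgebraicClosure k) (Red.bc g G)
  apply MorphismProperty.of_pullback_snd_of_descendsAlong
    (Q := @Surjective ⊓ @Flat ⊓ @QuasiCompact) (g := g)
  · rw [hg]
    exact ⟨⟨inferInstance, inferInstance⟩, inferInstance⟩
  · exact (this : Smooth (pullback.snd G.hom g))

end H5S14588

/-- Let k be a field with algebraic closure K and G a k-group scheme locally of finite type. If the
local ring of G_K at its unit point is reduced, then G is smooth over k. -/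
theorem result (k : Type u) [Field k]
    (G : Over (Spec (CommRingCat.of k))) [GrpObj G] [LocallyOfFiniteType G.hom]
    (t : ↥((𝟙_ (Over (Spec (CommRingCat.of (AlgebraicClosure k))))).left))
    (h : _root_.IsReduced ↑((Red.bc (Spec.map (CommRingCat.ofHom (algebraMap k (AlgebraicClosure k)))) G).left.presheaf.stalk ((η[Red.bc (Spec.map (CommRingCat.ofHom (algebraMap k (AlgebraicClosure k)))) G]).left.base t))) :
    Smooth G.hom := by
  exact H5S14588.main k G t h

end Groth.Agent.S14588
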