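import Groth.Statements.S14608
import Mathlib
import Groth.Agent.Lib.helper24.CokerProj2

set_option autoImplicit false
universe u v
open CAlg

namespace Groth.Agent.S14608

open TensorProduct Groth.Agent.Lib.helper24 in

open TensorProduct in
/-- Let A be a Noetherian ring, M a finitely generated A-module, F a finitely generated free A-module, δ
: M → F an A-linear map and p a prime of A with residue field κ(p). The following are equivalent:
(a) the natural map (ker δ) ⊗ κ(p) → ker(δ ⊗ κ(p)) is surjective (its image is the whole kernel);
(b) that map is bijective; (c) (F / im δ) localized at p is a free module over the local ring A_p.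
Moreover, if these hold then (im δ) localized at p is free over A_p. (The published statement takes
M to be the cokernel of a map of finitely generated free modules; over a Noetherian ring this is
every finitely generated M, which is what this row takes.) -/
theorem result (A : Type u) [CommRing A] [IsNoetherianRing A]
    (M : Type v) (F : Type v) [AddCommGroup M] [Module A M] [Module.Finite A M]
    [AddCommGroup F] [Module A F] [Module.Finite A F] [Module.Free A F]
    (δ : M →ₗ[A] F) (p : Ideal A) [p.IsPrime] :
    [ Function.Exact (LinearMap.lTensor p.ResidueField (LinearMap.ker δ).subtype)
        (LinearMap.lTensor p.ResidueField δ),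
      Function.Exact (LinearMap.lTensor p.ResidueField (LinearMap.ker δ).subtype)
        (LinearMap.lTensor p.ResidueField δ) ∧
        Function.Injective (LinearMap.lTensor p.ResidueField (LinearMap.ker δ).subtype),
      Module.Free (Localization.AtPrime p)
        (LocalizedModule p.primeCompl (F ⧸ LinearMap.range δ)) ].TFAE ∧
    (Function.Exact (LinearMap.lTensor p.ResidueField (LinearMap.ker δ).subtype)
        (LinearMap.lTensor p.ResidueField δ) →
      Module.Free (Localization.AtPrime p)
        (LocalizedModule p.primeCompl (LinearMap.range δ))) := by
  have hac : Function.Exact (LinearMap.lTensor p.ResidueField (LinearMap.ker δ).subtype)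
        (LinearMap.lTensor p.ResidueField δ) →
      Module.Free (Localization.AtPrime p)
        (LocalizedModule p.primeCompl (F ⧸ LinearMap.range δ)) := by
    intro hex
    have hinj := CokerProj.lTensor_subtype_injective_of_ker_le (K := p.ResidueField) δ (by
      intro y hy
      exact (hex y).1 hy)
    exact CokerProj.free_localizedModule_of_injective p δ hinj
  have hcb : Module.Free (Localization.AtPrime p)
        (LocalizedModule p.primeCompl (F ⧸ LinearMap.range δ)) →
      Function.Exact (LinearMap.lTensor p.ResidueField (LinearMap.ker δ).subtype)
        (LinearMap.lTensor p.ResidueField δ) ∧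
        Function.Injective (LinearMap.lTensor p.ResidueField (LinearMap.ker δ).subtype) := by
    intro hfree
    haveI : Module.Projective (Localization.AtPrime p)
        (Localization.AtPrime p ⊗[A] (F ⧸ LinearMap.range δ)) :=
      Module.Projective.of_equiv (IsLocalizedModule.isBaseChange p.primeCompl
        (Localization.AtPrime p) (LocalizedModule.mkLinearMap p.primeCompl
          (F ⧸ LinearMap.range δ))).equiv.symm
    have h1 := CokerProj.ker_le_range_of_projective (S := Localization.AtPrime p)
      (K := p.ResidueField) δ
    have h2 := CokerProj.subtype_baseChange_injective_of_projective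
      (S := Localization.AtPrime p) (K := p.ResidueField) δ
    refine ⟨?_, h2⟩
    intro y
    constructor
    · intro hy
      have hy' : y ∈ LinearMap.ker (δ.baseChange p.ResidueField) := hy
      obtain ⟨w, hw⟩ := h1 hy'
      exact ⟨w, hw⟩
    · rintro ⟨w, rfl⟩
      rw [← LinearMap.comp_apply, ← LinearMap.lTensor_comp]
      have : δ ∘ₗ (LinearMap.ker δ).subtype = 0 := by
        ext x
        simp
      rw [this, LinearMap.lTensor_zero, LinearMap.zero_apply]
  refine ⟨?_, ?_⟩
  · tfae_have 1 → 3 := hac
    tfae_have 3 → 2 := hcb
    tfae_have 2 → 1 := And.left
    tfae_finish
  · intro hex
    haveI := hac hex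
    have hinj := LocalizedModule.map_injective p.primeCompl (LinearMap.range δ).subtype
      (Submodule.subtype_injective _)
    have hsurj := LocalizedModule.map_surjective p.primeCompl (LinearMap.range δ).mkQ
      (Submodule.mkQ_surjective _)
    have hexact := LocalizedModule.map_exact p.primeCompl (LinearMap.range δ).subtype
      (LinearMap.range δ).mkQ (LinearMap.exact_subtype_mkQ _)
    haveI : Module.Projective (Localization.AtPrime p)
        (LocalizedModule p.primeCompl (LinearMap.range δ)) :=
      CokerProj.projective_of_exact _ _ hinj hsurj hexact
    haveI : Module.Finite A (LinearMap.range δ) := Module.Finite.range δ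
    exact Module.free_of_flat_of_isLocalRing

end Groth.Agent.S14608
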