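import Groth.Statements.S14609
import Mathlib
import Groth.Agent.Lib.helper20.FibDim

set_option autoImplicit false
universe u v
open CAlg

namespace Groth.Agent.S14609

open TensorProduct in
/-- Let A be a Noetherian ring, M a finitely generated A-module, F a finitely generated free A-module
and δ : M → F an A-linear map. Then the function on Spec A sending a prime p with residue field κ(p)
to the κ(p)-dimension of the kernel of δ ⊗ κ(p) : M ⊗ κ(p) → F ⊗ κ(p) is upper semicontinuous. -/
theorem result (A : Type u) [CommRing A]
    [IsNoetherianRing A] (M : Type v) (F : Type v) [AddCommGroup M] [Module A M] [Module.Finite A M]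
    [AddCommGroup F] [Module A F] [Module.Finite A F] [Module.Free A F] (δ : M →ₗ[A] F) :
    UpperSemicontinuous (fun x : PrimeSpectrum A =>
      Module.finrank x.asIdeal.ResidueField
        (LinearMap.ker (δ.baseChange x.asIdeal.ResidueField))) := by
  intro x c hc
  haveI : Nontrivial A := by
    refine ⟨⟨0, 1, fun h => x.2.ne_top ?_⟩⟩
    rw [Ideal.eq_top_iff_one, ← h]
    exact Ideal.zero_mem _
  have hn : ∀ y : PrimeSpectrum A,
      Module.finrank y.asIdeal.ResidueField (TensorProduct A y.asIdeal.ResidueField F) =
        Module.finrank A F := fun y => Module.finrank_baseChange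
  filter_upwards [Groth.Agent.Lib.helper20.FibDim.eventually_fdim_le M x,
    Groth.Agent.Lib.helper20.FibDim.eventually_fdim_le (F ⧸ LinearMap.range δ) x] with x' h1 h2
  have e1 := Groth.Agent.Lib.helper20.FibDim.finrank_ker_add x.asIdeal.ResidueField δ
  have e2 := Groth.Agent.Lib.helper20.FibDim.finrank_ker_add x'.asIdeal.ResidueField δ
  rw [hn] at e1 e2
  unfold Groth.Agent.Lib.helper20.FibDim.fdim at h1 h2
  change Module.finrank x'.asIdeal.ResidueField
    (LinearMap.ker (δ.baseChange x'.asIdeal.ResidueField)) < c
  have hc' : Module.finrank x.asIdeal.ResidueField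
    (LinearMap.ker (δ.baseChange x.asIdeal.ResidueField)) < c := hc
  omega

end Groth.Agent.S14609
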