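import Groth.Statements.S14610
import Mathlib
import Groth.Agent.Lib.helper20.FibDim2

set_option autoImplicit false
universe u v
open CAlg

namespace Groth.Agent.S14610

open TensorProduct in
/-- Let A be a reduced Noetherian ring, M a finitely generated A-module, F a finitely generated free
A-module and δ : M → F an A-linear map such that the function p ↦ dim_{κ(p)} ker(δ ⊗ κ(p)) is
locally constant on Spec A. Then M, ker δ and coker δ = F / im δ are projective A-modules, and for
every A-module N the natural map (ker δ) ⊗ N → M ⊗ N is injective with image equal to the kernel of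
δ ⊗ N. -/
theorem result (A : Type u) [CommRing A]
    [IsNoetherianRing A] [IsReduced A] (M : Type v) (F : Type v) [AddCommGroup M] [Module A M]
    [Module.Finite A M] [AddCommGroup F] [Module A F] [Module.Finite A F] [Module.Free A F]
    (δ : M →ₗ[A] F)
    (h : IsLocallyConstant (fun x : PrimeSpectrum A =>
      Module.finrank x.asIdeal.ResidueField
        (LinearMap.ker (δ.baseChange x.asIdeal.ResidueField)))) :
    Module.Projective A M ∧ Module.Projective A (LinearMap.ker δ) ∧
      Module.Projective A (F ⧸ LinearMap.range δ) ∧
      ∀ (N : Type v) [AddCommGroup N] [Module A N],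
        Function.Injective (LinearMap.rTensor N (LinearMap.ker δ).subtype) ∧
        Function.Exact (LinearMap.rTensor N (LinearMap.ker δ).subtype) (LinearMap.rTensor N δ) := by
  classical
  haveI : Module.FinitePresentation A M := Module.finitePresentation_of_finite A M
  haveI : Module.FinitePresentation A (F ⧸ LinearMap.range δ) :=
    Module.finitePresentation_of_finite A _
  -- both fibre dimensions are locally constant
  have hboth : ∀ y : PrimeSpectrum A, ∀ᶠ x' in nhds y,
      Groth.Agent.Lib.helper20.FibDim.fdim M x' = Groth.Agent.Lib.helper20.FibDim.fdim M y ∧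
      Groth.Agent.Lib.helper20.FibDim.fdim (F ⧸ LinearMap.range δ) x' =
        Groth.Agent.Lib.helper20.FibDim.fdim (F ⧸ LinearMap.range δ) y := by
    intro y
    haveI : Nontrivial A := by
      refine ⟨⟨0, 1, fun h => y.2.ne_top ?_⟩⟩
      rw [Ideal.eq_top_iff_one, ← h]
      exact Ideal.zero_mem _
    have hn : ∀ z : PrimeSpectrum A,
        Module.finrank z.asIdeal.ResidueField (TensorProduct A z.asIdeal.ResidueField F) =
          Module.finrank A F := fun z => Module.finrank_baseChange
    filter_upwards [Groth.Agent.Lib.helper20.FibDim.eventually_fdim_le M y,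
      Groth.Agent.Lib.helper20.FibDim.eventually_fdim_le (F ⧸ LinearMap.range δ) y,
      h.eventually_eq y] with x' h1 h2 h3
    have e1 := Groth.Agent.Lib.helper20.FibDim.finrank_ker_add y.asIdeal.ResidueField δ
    have e2 := Groth.Agent.Lib.helper20.FibDim.finrank_ker_add x'.asIdeal.ResidueField δ
    rw [hn] at e1 e2
    unfold Groth.Agent.Lib.helper20.FibDim.fdim at h1 h2 ⊢
    have h3' : Module.finrank x'.asIdeal.ResidueField
        (LinearMap.ker (δ.baseChange x'.asIdeal.ResidueField)) =
      Module.finrank y.asIdeal.ResidueField
        (LinearMap.ker (δ.baseChange y.asIdeal.ResidueField)) := h3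
    constructor <;> omega
  haveI hM : Module.Projective A M :=
    Groth.Agent.Lib.helper20.FibDim.projective_of_fdim_eventually_eq M
      (fun y => (hboth y).mono fun x' hx' => hx'.1)
  haveI hC : Module.Projective A (F ⧸ LinearMap.range δ) :=
    Groth.Agent.Lib.helper20.FibDim.projective_of_fdim_eventually_eq (F ⧸ LinearMap.range δ)
      (fun y => (hboth y).mono fun x' hx' => hx'.2)
  -- retraction of `range δ ⊆ F`
  obtain ⟨ρ, hρ⟩ := Groth.Agent.Lib.helper20.FibDim.exists_retraction (LinearMap.range δ)
    (LinearMap.range δ).mkQ (Submodule.mkQ_surjective _) (Submodule.ker_mkQ _)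
  haveI hR : Module.Projective A (LinearMap.range δ) :=
    Module.Projective.of_split (LinearMap.range δ).subtype ρ hρ
  -- retraction of `ker δ ⊆ M`
  obtain ⟨r, hr⟩ := Groth.Agent.Lib.helper20.FibDim.exists_retraction (LinearMap.ker δ)
    δ.rangeRestrict δ.surjective_rangeRestrict (LinearMap.ker_rangeRestrict δ)
  have hK : Module.Projective A (LinearMap.ker δ) :=
    Module.Projective.of_split (LinearMap.ker δ).subtype r hr
  refine ⟨hM, hK, hC, ?_⟩
  intro N _ _
  have hinj : Function.Injective (LinearMap.rTensor N (LinearMap.ker δ).subtype) := by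
    apply Function.LeftInverse.injective (g := LinearMap.rTensor N r)
    intro z
    rw [← LinearMap.comp_apply, ← LinearMap.rTensor_comp, hr, LinearMap.rTensor_id,
      LinearMap.id_apply]
  refine ⟨hinj, ?_⟩
  have hιinj : Function.Injective (LinearMap.rTensor N (LinearMap.range δ).subtype) := by
    apply Function.LeftInverse.injective (g := LinearMap.rTensor N ρ)
    intro z
    rw [← LinearMap.comp_apply, ← LinearMap.rTensor_comp, hρ, LinearMap.rTensor_id,
      LinearMap.id_apply]
  have hex0 : Function.Exact (LinearMap.ker δ).subtype δ.rangeRestrict := by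
    rw [LinearMap.exact_iff, LinearMap.ker_rangeRestrict, Submodule.range_subtype]
  have hex1 : Function.Exact (LinearMap.rTensor N (LinearMap.ker δ).subtype)
      (LinearMap.rTensor N δ.rangeRestrict) :=
    rTensor_exact N hex0 δ.surjective_rangeRestrict
  have hcomp : LinearMap.rTensor N δ =
      LinearMap.rTensor N (LinearMap.range δ).subtype ∘ₗ LinearMap.rTensor N δ.rangeRestrict := by
    rw [← LinearMap.rTensor_comp]
    congr 1
  intro z
  rw [← hex1 z, hcomp, LinearMap.comp_apply]
  constructor
  · intro hz
    exact hιinj (by rw [hz, map_zero])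
  · intro hz
    rw [hz, map_zero]

end Groth.Agent.S14610
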