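import Groth.Statements.S14611
import Mathlib
import Groth.Agent.Lib.helper4.FlatCx4
import Groth.Agent.Lib.helper4.LocFree

set_option autoImplicit false
universe u
open FlatCx

namespace Groth.Agent.S14611

section Helpers
open CategoryTheory Limits MonoidalCategory CohIII Groth.Agent.H4FlatCx

theorem rTensor_fromOpcycles_injective {A : Type u} [CommRing A] {ι : Type} {c : ComplexShape ι}
    (P : HomologicalComplex (ModuleCat.{u} A) c) (i j k : ι) (hi : c.prev j = i)
    (hk : c.next j = k) (M : ModuleCat.{u} A) (h : IsZero ((TFun P j).obj M)) :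
    Function.Injective ((P.fromOpcycles j k).hom.rTensor M) := by
  have key : Mono ((P.fromOpcycles j k) ▷ M) := by
    apply Preadditive.mono_of_cancel_zero
    intro Z x hx
    obtain ⟨y, rfl⟩ := exists_lift_ιT P i j hi M k hk x hx
    rw [h.eq_of_tgt y 0, zero_comp]
  rw [ModuleCat.mono_iff_injective] at key
  simpa only [ModuleCat.hom_whiskerRight] using key

end Helpers


open CategoryTheory CategoryTheory.Limits in
/-- Let A be a Noetherian ring, Q a cochain complex whose terms are finitely generated projective
A-modules, and d an integer such that H^p(Q) = 0 for every p < d and H^p(Q ⊗_A A/m) = 0 for every p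
< d and every maximal ideal m of A. Then Q^d / im(Q^{d-1} → Q^d), the degree-d term of the
truncation τ_{≥ d} Q, is a projective A-module, so that τ_{≥ d} Q is again a complex of projective
modules. (The published statement also asserts that Q → τ_{≥ d} Q is a quasi-isomorphism when H^p(Q)
= 0 for p < d; this row omits that clause.) -/
theorem result (A : Type u) [CommRing A] [IsNoetherianRing A]
    (Q : CochainComplex (ModuleCat.{u} A) ℤ)
    (hQ : ∀ i, Module.Finite A (Q.X i) ∧ Module.Projective A (Q.X i)) (d : ℤ)
    (h1 : ∀ p < d, IsZero (Q.homology p))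
    (h2 : ∀ (m : Ideal A) [m.IsMaximal], ∀ p < d,
      IsZero ((CohIII.tensorObj Q (ModuleCat.of A (A ⧸ m))).homology p)) :
    Module.Projective A (Q.opcycles d) := by
  have hd : (ComplexShape.up ℤ).prev d = d - 1 := by simp
  have hn : (ComplexShape.up ℤ).next (d - 1) = d := by simp
  have hpp : (ComplexShape.up ℤ).prev (d - 1) = d - 1 - 1 := by simp
  have hfin1 : Module.Finite A (Q.opcycles (d - 1)) :=
    have := (hQ (d - 1)).1
    Module.Finite.of_surjective (Q.pOpcycles (d - 1)).hom
      (Groth.Agent.H4FlatCx.pOpcycles_surjective Q (d - 1))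
  have := (hQ d).1
  have := (hQ d).2
  refine Groth.Agent.H4LocFree.projective_of_lTensor_quotient_injective
    (Q.fromOpcycles (d - 1) d).hom (Q.pOpcycles d).hom
    (Groth.Agent.H4FlatCx.pOpcycles_surjective Q d)
    (Groth.Agent.H4FlatCx.exact_fromOpcycles_pOpcycles Q (d - 1) d hd) ?_
  intro m hm
  rw [LinearMap.lTensor_inj_iff_rTensor_inj]
  exact rTensor_fromOpcycles_injective Q (d - 1 - 1) (d - 1) d hpp hn (ModuleCat.of A (A ⧸ m))
    (h2 m (d - 1) (by omega))

end Groth.Agent.S14611
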