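import Groth.Statements.S14612
import Mathlib
import Groth.Agent.Lib.helper4.FlatCx4

set_option autoImplicit false
universe u
open FlatCx

namespace Groth.Agent.S14612

section Helpers
open CategoryTheory CategoryTheory.Limits Groth.Agent.H4FlatCx

variable {A : Type u} [CommRing A] {ι : Type} {c : ComplexShape ι}
  (K : HomologicalComplex (ModuleCat.{u} A) c) (i j : ι)

theorem iCycles_injective : Function.Injective (K.iCycles i).hom :=
  (ModuleCat.mono_iff_injective _).1 inferInstance

theorem exact_iCycles_toCycles (hij : c.next i = j) :
    Function.Exact (K.iCycles i).hom (K.toCycles i j).hom := by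
  have h : (ShortComplex.mk (K.iCycles i) (K.d i j) (K.iCycles_d i j)).Exact :=
    ShortComplex.exact_of_f_is_kernel _ (K.cyclesIsKernel i j hij)
  have h' := (ShortComplex.ShortExact.moduleCat_exact_iff_function_exact _).1 h
  have hd : (K.d i j).hom = (K.iCycles j).hom ∘ₗ (K.toCycles i j).hom := by
    rw [← ModuleCat.hom_comp, K.toCycles_i]
  intro x
  rw [← h' x]
  simp only [hd, LinearMap.comp_apply]
  constructor
  · intro h0
    rw [h0, map_zero]
  · intro h0
    apply iCycles_injective K j
    rw [h0, map_zero]

theorem toCycles_surjective (hji : c.prev j = i) (h : IsZero (K.homology j)) :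
    Function.Surjective (K.toCycles i j).hom := by
  have hex : (ShortComplex.mk (K.toCycles i j) (K.homologyπ j) (K.toCycles_comp_homologyπ i j)).Exact :=
    ShortComplex.exact_of_g_is_cokernel _ (K.homologyIsCokernel i j hji)
  have : Epi (K.toCycles i j) := hex.epi_f (h.eq_of_tgt _ _)
  exact (ModuleCat.epi_iff_surjective _).1 this

theorem flat_cycles_of_flat (hij : c.next i = j) (hji : c.prev j = i) (h : IsZero (K.homology j))
    [Module.Flat A (K.X i)] [Module.Flat A (K.cycles j)] : Module.Flat A (K.cycles i) :=
  Groth.Agent.H4FlatSES.flat_of_flat_of_flat_left (K.iCycles i).hom (K.toCycles i j).hom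
    (iCycles_injective K i) (toCycles_surjective K i j hji h) (exact_iCycles_toCycles K i j hij)

theorem subsingleton_cycles_of_isZero (h : IsZero (K.X j)) : Subsingleton (K.cycles j) := by
  have h0 : IsZero (K.cycles j) := by
    rw [IsZero.iff_id_eq_zero, ← cancel_mono (K.iCycles j)]
    exact h.eq_of_tgt _ _
  exact ModuleCat.subsingleton_of_isZero h0

theorem main (A : Type u) [CommRing A]
    (F : CochainComplex (ModuleCat.{u} A) ℤ) (hF : ∀ i, Module.Flat A (F.X i))
    (hb : ∃ b : ℤ, ∀ i, b < i → IsZero (F.X i)) (d : ℤ) (hac : ∀ p, d < p → IsZero (F.homology p)) :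
    Module.Flat A (F.cycles d) := by
  obtain ⟨b, hb⟩ := hb
  have key : ∀ n : ℕ, ∀ i : ℤ, d ≤ i → b < i + n → Module.Flat A (F.cycles i) := by
    intro n
    induction n with
    | zero =>
      intro i _ hi
      have := subsingleton_cycles_of_isZero F i (hb i (by simpa using hi))
      infer_instance
    | succ n ih =>
      intro i hdi hi
      have h1 := ih (i + 1) (by omega) (by push_cast at hi; omega)
      have := hF i
      exact flat_cycles_of_flat F i (i + 1) (by simp) (by simp) (hac (i + 1) (by omega))
  apply key (b - d + 1).toNat d le_rfl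
  omega

end Helpers


open CategoryTheory CategoryTheory.Limits in
/-- Let A be a commutative ring and F a cochain complex of flat A-modules which is bounded above (F^i =
0 for all large i) and whose cohomology H^p(F) vanishes for every p > d. Then the module of
d-cocycles Z^d = ker(F^d → F^{d+1}) is flat over A; hence the truncation τ_{≤ d} F is again a
complex of flat modules (and τ_{≤ d} F → F is a quasi-isomorphism, which is not restated).
Boundedness cannot be dropped. -/
theorem result (A : Type u) [CommRing A]
    (F : CochainComplex (ModuleCat.{u} A) ℤ) (hF : ∀ i, Module.Flat A (F.X i))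
    (hb : ∃ b : ℤ, ∀ i, b < i → IsZero (F.X i)) (d : ℤ) (hac : ∀ p, d < p → IsZero (F.homology p)) :
    Module.Flat A (F.cycles d) := by
  exact main A F hF hb d hac

end Groth.Agent.S14612
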