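import Groth.Statements.S14614
import Mathlib

set_option autoImplicit false
universe u
open Mor

namespace Groth.Agent.S14614

section Helpers

open CategoryTheory CategoryTheory.Limits AlgebraicGeometry IsLocalRing

section Ring

/-- quotient of a noetherian local ring by a power of its maximal ideal is artinian local -/
lemma artin_quot (L : Type u) [CommRing L] [IsNoetherianRing L] [IsLocalRing L] (n : ℕ) :
    ∃ (_ : IsLocalRing (L ⧸ maximalIdeal L ^ (n + 1))),
      IsArtinianRing (L ⧸ maximalIdeal L ^ (n + 1)) ∧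
      ∀ x ∈ maximalIdeal L, IsLocalRing.residue (L ⧸ maximalIdeal L ^ (n + 1))
        (Ideal.Quotient.mk _ x) = 0 := by
  have hne : maximalIdeal L ^ (n + 1) ≠ ⊤ := by
    intro h
    have : maximalIdeal L ^ (n + 1) ≤ maximalIdeal L := Ideal.pow_le_self (by omega)
    rw [h] at this
    exact (maximalIdeal.isMaximal L).ne_top (top_le_iff.mp this)
  haveI : Nontrivial (L ⧸ maximalIdeal L ^ (n + 1)) := Ideal.Quotient.nontrivial_iff.mpr hne
  haveI hloc : IsLocalRing (L ⧸ maximalIdeal L ^ (n + 1)) :=
    IsLocalRing.of_surjective' (Ideal.Quotient.mk _) Ideal.Quotient.mk_surjective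
  haveI : IsLocalHom (Ideal.Quotient.mk (maximalIdeal L ^ (n + 1))) :=
    IsLocalHom.of_surjective _ Ideal.Quotient.mk_surjective
  have hmem : ∀ x ∈ maximalIdeal L,
      Ideal.Quotient.mk (maximalIdeal L ^ (n + 1)) x ∈
        maximalIdeal (L ⧸ maximalIdeal L ^ (n + 1)) := by
    intro x hx
    rw [mem_maximalIdeal, mem_nonunits_iff] at hx ⊢
    intro hu
    exact hx (isUnit_of_map_unit _ x hu)
  have hle : maximalIdeal (L ⧸ maximalIdeal L ^ (n + 1)) ≤
      (maximalIdeal L).map (Ideal.Quotient.mk _) := by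
    intro y hy
    obtain ⟨x, rfl⟩ := Ideal.Quotient.mk_surjective y
    apply Ideal.mem_map_of_mem
    rw [mem_maximalIdeal, mem_nonunits_iff] at hy ⊢
    intro hu
    exact hy (hu.map _)
  refine ⟨hloc, ?_, fun x hx => ?_⟩
  · rw [isArtinianRing_iff_isNilpotent_maximalIdeal]
    refine ⟨n + 1, ?_⟩
    rw [Ideal.zero_eq_bot, eq_bot_iff]
    calc maximalIdeal (L ⧸ maximalIdeal L ^ (n + 1)) ^ (n + 1)
        ≤ ((maximalIdeal L).map (Ideal.Quotient.mk _)) ^ (n + 1) := Ideal.pow_right_mono hle _
      _ = (maximalIdeal L ^ (n + 1)).map (Ideal.Quotient.mk _) := (Ideal.map_pow _ _ _).symm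
      _ = ⊥ := by rw [Ideal.map_quotient_self]
  · rw [IsLocalRing.residue_eq_zero_iff]
    exact hmem x hx

theorem ring_lemma (B : Type u) [CommRing B] [IsNoetherianRing B] (I : Ideal B)
    (H : ∀ (A : Type u) [CommRing A] [IsArtinianRing A] [IsLocalRing A] (q : B →+* A),
      I ≤ RingHom.ker ((IsLocalRing.residue A).comp q) → I ≤ RingHom.ker q) :
    ∃ e : B, IsIdempotentElem e ∧ I = Ideal.span {e} := by
  rw [← Ideal.isIdempotentElem_iff_of_fg I (IsNoetherian.noetherian I)]
  change I * I = I
  apply Ideal.eq_of_localization_maximal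
  intro P hP
  by_cases hIP : I ≤ P
  · -- I_P = 0
    set L := Localization.AtPrime P
    have hI0 : I.map (algebraMap B L) = ⊥ := by
      rw [eq_bot_iff, ← Ideal.iInf_pow_eq_bot_of_isLocalRing (maximalIdeal L)
        (maximalIdeal.isMaximal L).ne_top]
      refine le_iInf fun i => ?_
      rcases i with _ | n
      · simp
      obtain ⟨hloc, hart, hres⟩ := artin_quot L n
      rw [Ideal.map_le_iff_le_comap]
      intro a ha
      have := H (L ⧸ maximalIdeal L ^ (n + 1))
        ((Ideal.Quotient.mk _).comp (algebraMap B L)) (by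
          intro b hb
          rw [RingHom.mem_ker, RingHom.comp_apply, RingHom.comp_apply]
          apply hres
          rw [IsLocalization.AtPrime.to_map_mem_maximal_iff L P]
          exact hIP hb) ha
      rw [RingHom.mem_ker, RingHom.comp_apply, Ideal.Quotient.eq_zero_iff_mem] at this
      exact this
    rw [Ideal.map_mul, hI0, Ideal.bot_mul]
  · have h1 : I.map (algebraMap B (Localization.AtPrime P)) = ⊤ :=
      IsLocalization.AtPrime.map_eq_top_of_not_le _ hIP
    have h2 : ¬ I * I ≤ P := by
      intro h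
      rcases (Ideal.IsPrime.mul_le hP.isPrime).mp h with h | h <;> exact hIP h
    rw [h1, IsLocalization.AtPrime.map_eq_top_of_not_le _ h2]

end Ring

theorem affine_case (B : CommRingCat.{u}) [IsNoetherianRing B] {Z : Scheme.{u}} (i : Z ⟶ Spec B)
    [IsClosedImmersion i]
    (h : ∀ (A : Type u) [CommRing A] [IsArtinianRing A] [IsLocalRing A]
      (g : Spec (CommRingCat.of A) ⟶ Spec B),
      (∃ t : Spec (CommRingCat.of (IsLocalRing.ResidueField A)) ⟶ Z,
        t ≫ i = Spec.map (CommRingCat.ofHom (IsLocalRing.residue A)) ≫ g) →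
      ∃ g' : Spec (CommRingCat.of A) ⟶ Z, g' ≫ i = g) : IsOpenImmersion i := by
  obtain ⟨I, e, rfl⟩ := IsClosedImmersion.Spec_iff.mp ‹IsClosedImmersion i›
  suffices IsOpenImmersion (Spec.map (CommRingCat.ofHom (Ideal.Quotient.mk I))) by infer_instance
  rw [isOpenImmersion_SpecMap_iff_of_surjective _ Ideal.Quotient.mk_surjective]
  change ∃ e, IsIdempotentElem e ∧ RingHom.ker (Ideal.Quotient.mk I) = Ideal.span {e}
  rw [Ideal.mk_ker]
  apply ring_lemma B I
  intro A _ _ _ q hq
  let qb : B ⧸ I →+* IsLocalRing.ResidueField A :=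
    Ideal.Quotient.lift I ((IsLocalRing.residue A).comp q) (fun a ha => hq ha)
  have hqb : qb.comp (Ideal.Quotient.mk I) = (IsLocalRing.residue A).comp q := by
    ext a; rfl
  obtain ⟨g', hg'⟩ := h A (Spec.map (CommRingCat.ofHom q))
    ⟨Spec.map (CommRingCat.ofHom qb) ≫ e.inv, by
      rw [Category.assoc, Iso.inv_hom_id_assoc, ← Spec.map_comp, ← Spec.map_comp,
        ← CommRingCat.ofHom_comp, ← CommRingCat.ofHom_comp, hqb]⟩
  set ρ := Spec.preimage (g' ≫ e.hom) with hρ
  have hρ' : Spec.map ρ = g' ≫ e.hom := Spec.map_preimage _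
  have heq : CommRingCat.ofHom (Ideal.Quotient.mk I) ≫ ρ = CommRingCat.ofHom q := by
    apply Spec.map_injective
    rw [Spec.map_comp, hρ', Category.assoc, hg']
  intro a ha
  rw [RingHom.mem_ker]
  have := congrArg (fun f => f.hom a) heq
  simp only [CommRingCat.hom_comp, CommRingCat.hom_ofHom, RingHom.comp_apply] at this
  rw [← this, Ideal.Quotient.eq_zero_iff_mem.mpr ha, map_zero]

theorem main (S : Scheme.{u}) [IsLocallyNoetherian S] {Z : Scheme.{u}} (i : Z ⟶ S)
    [IsClosedImmersion i]
    (h : ∀ (A : Type u) [CommRing A] [IsArtinianRing A] [IsLocalRing A]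
      (g : Spec (CommRingCat.of A) ⟶ S),
      (∃ t : Spec (CommRingCat.of (IsLocalRing.ResidueField A)) ⟶ Z,
        t ≫ i = Spec.map (CommRingCat.ofHom (IsLocalRing.residue A)) ≫ g) →
      ∃ g' : Spec (CommRingCat.of A) ⟶ Z, g' ≫ i = g) : IsOpenImmersion i := by
  set 𝒰 := S.affineOpenCover.openCover with h𝒰
  rw [IsZariskiLocalAtTarget.iff_of_openCover (P := @IsOpenImmersion) 𝒰]
  intro j
  haveI : IsLocallyNoetherian (Spec (S.affineOpenCover.X j)) :=
    isLocallyNoetherian_of_isOpenImmersion (S.affineOpenCover.f j)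
  haveI : IsNoetherianRing (S.affineOpenCover.X j) := isLocallyNoetherian_Spec.mp inferInstance
  change IsOpenImmersion (pullback.snd i (S.affineOpenCover.f j))
  apply affine_case (S.affineOpenCover.X j)
  intro A _ _ _ g ⟨t, ht⟩
  obtain ⟨g'', hg''⟩ := h A (g ≫ S.affineOpenCover.f j)
    ⟨t ≫ pullback.fst i (S.affineOpenCover.f j), by
      rw [Category.assoc, pullback.condition, ← Category.assoc, ht, Category.assoc]⟩
  exact ⟨pullback.lift g'' g hg'', pullback.lift_snd _ _ _⟩

end Helpers

open CategoryTheory AlgebraicGeometry in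
/-- Let S be a locally Noetherian scheme and i : Z → S a closed immersion with the following property:
for every Artinian local ring A with residue field k and every morphism g : Spec A → S, if the
restriction Spec k → Spec A → S of g factors through i then so does g. Then i is also an open
immersion, i.e. the closed subscheme Z is open in S as a subscheme. (The published hypothesis is an
equivalence; its other direction always holds, so this row assumes only the implication.) -/
theorem result (S : Scheme.{u}) [IsLocallyNoetherian S]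
    {Z : Scheme.{u}} (i : Z ⟶ S) [IsClosedImmersion i]
    (h : ∀ (A : Type u) [CommRing A] [IsArtinianRing A] [IsLocalRing A] (g : Spec (CommRingCat.of A) ⟶ S),
      (∃ t : Spec (CommRingCat.of (IsLocalRing.ResidueField A)) ⟶ Z,
          t ≫ i = Spec.map (CommRingCat.ofHom (IsLocalRing.residue A)) ≫ g) →
        ∃ g' : Spec (CommRingCat.of A) ⟶ Z, g' ≫ i = g) :
    IsOpenImmersion i := by
  exact main S i h

end Groth.Agent.S14614
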