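import Groth.Statements.S14615
import Mathlib

set_option autoImplicit false
universe u
open Formal2

namespace Groth.Agent.S14615

section Helpers

section
variable (G : ℕ → Type u) [∀ n, AddCommGroup (G n)] (t : ∀ n, G (n + 1) →+ G n)

/-- truncated formal solution of `x n - t n (x (n+1)) = y n` -/
noncomputable def sol (y : ∀ n, G n) (N : ℕ) (n : ℕ) : G n :=
  if h : n < N then y n + t n (sol y N (n + 1)) else 0
termination_by N - n
decreasing_by omega

theorem sol_lt (y : ∀ n, G n) (N n : ℕ) (h : n < N) :
    sol G t y N n = y n + t n (sol G t y N (n + 1)) := by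
  rw [sol, dif_pos h]

theorem main
    (h : ∀ i : ℕ, ∃ j : ℕ, i ≤ j ∧
      ∀ x : ∀ n, G n, (∀ n, i ≤ n → n < j → x n = t n (x (n + 1))) → x i = 0) :
    Formal2.limZero G t = ⊥ ∧ Function.Surjective (Formal2.towerDiff G t) := by
  constructor
  · rw [eq_bot_iff]
    intro x hx
    rw [AddSubgroup.mem_bot]
    have hx' : ∀ n, x n = t n (x (n + 1)) := by
      intro n
      have := congrFun hx n
      exact sub_eq_zero.mp this
    ext i
    obtain ⟨j, -, hj⟩ := h i
    exact hj x (fun n _ _ => hx' n)
  · intro y
    choose j hij hj using h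
    have hindep : ∀ (i N N' : ℕ), j i ≤ N → N ≤ N' → sol G t y N i = sol G t y N' i := by
      intro i N N' hN hNN'
      have := hj i (fun n => sol G t y N' n - sol G t y N n) (by
        intro n _ hn
        have h1 : n < N := lt_of_lt_of_le hn hN
        have h2 : n < N' := lt_of_lt_of_le h1 hNN'
        show sol G t y N' n - sol G t y N n = t n (sol G t y N' (n + 1) - sol G t y N (n + 1))
        rw [sol_lt G t y N n h1, sol_lt G t y N' n h2, map_sub]
        abel)
      exact (sub_eq_zero.mp this).symm
    refine ⟨fun i => sol G t y (j i) i, ?_⟩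
    ext i
    show sol G t y (j i) i - t i (sol G t y (j (i + 1)) (i + 1)) = y i
    set N := max (j i) (max (j (i + 1)) (i + 1)) with hN
    rw [hindep i (j i) N le_rfl (le_max_left _ _),
      hindep (i + 1) (j (i + 1)) N le_rfl (le_trans (le_max_left _ _) (le_max_right _ _)),
      sol_lt G t y N i (lt_of_lt_of_le (Nat.lt_succ_self i)
        (le_trans (le_max_right _ _) (le_max_right _ _)))]
    abel

end

end Helpers

/-- Let … → G_2 → G_1 → G_0 be an inverse system of abelian groups with transition maps t_n : G_{n+1} →
G_n, and suppose that for every i there is j ≥ i such that the composite transition map G_j → G_i is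
zero; this is expressed by asking that every sequence (x_n) ∈ ∏ G_n satisfying x_n = t_n(x_{n+1})
for i ≤ n < j has x_i = 0. Then both lim G_n and lim¹ G_n vanish: the map (x_n) ↦ (x_n −
t_n(x_{n+1})) on ∏ G_n, whose kernel is lim and whose cokernel is lim¹, is injective and surjective. -/
theorem result (G : ℕ → Type u)
    [∀ n, AddCommGroup (G n)] (t : ∀ n, G (n + 1) →+ G n)
    (h : ∀ i : ℕ, ∃ j : ℕ, i ≤ j ∧
      ∀ x : ∀ n, G n, (∀ n, i ≤ n → n < j → x n = t n (x (n + 1))) → x i = 0) :
    Formal2.limZero G t = ⊥ ∧ Function.Surjective (Formal2.towerDiff G t) := by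
  exact main G t h

end Groth.Agent.S14615
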