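import Groth.Statements.S14616
import Mathlib
import Groth.Agent.S14615

set_option autoImplicit false
universe u
open Formal2

namespace Groth.Agent.S14616

section Helpers

open CategoryTheory

section
variable (G : ℕ → Type u) [∀ n, AddCommGroup (G n)] (t : ∀ n, G (n + 1) →+ G n)

/-- the tower as a functor -/
noncomputable abbrev FF : ℕᵒᵖ ⥤ AddCommGrpCat.{u} :=
  Functor.ofOpSequence (X := fun n => AddCommGrpCat.of (G n)) (fun n => AddCommGrpCat.ofHom (t n))

/-- transition map `G k → G n` -/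
noncomputable def T (k n : ℕ) (h : n ≤ k) : G k →+ G n :=
  ((FF G t).map (homOfLE h).op).hom

theorem T_self (n : ℕ) (x : G n) : T G t n n le_rfl x = x := by
  have : (homOfLE (le_refl n)).op = 𝟙 (Opposite.op n) := rfl
  simp only [T]
  rw [this, (FF G t).map_id]
  rfl

theorem T_succ (n : ℕ) (x : G (n + 1)) : T G t (n + 1) n (Nat.le_succ n) x = t n x := by
  simp only [T]
  have := Functor.ofOpSequence_map_homOfLE_succ (X := fun n => AddCommGrpCat.of (G n))
    (fun n => AddCommGrpCat.ofHom (t n)) n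
  rw [show (homOfLE (Nat.le_succ n)).op = (homOfLE (Nat.le_add_right n 1)).op from rfl, this]
  rfl

theorem T_comp (k m n : ℕ) (h1 : n ≤ m) (h2 : m ≤ k) (x : G k) :
    T G t m n h1 (T G t k m h2 x) = T G t k n (h1.trans h2) x := by
  simp only [T]
  have : (homOfLE (h1.trans h2)).op = (homOfLE h2).op ≫ (homOfLE h1).op := rfl
  rw [this, (FF G t).map_comp]
  rfl

theorem ml_spec
    (h : ((FF G t) ⋙ forget AddCommGrpCat).IsMittagLeffler) (n : ℕ) :
    ∃ (m : ℕ) (hm : n ≤ m), ∀ (k : ℕ) (hk : n ≤ k) (x : G m),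
      ∃ z : G k, T G t k n hk z = T G t m n hm x := by
  obtain ⟨i, f, hf⟩ := h (Opposite.op n)
  have hm : n ≤ i.unop := leOfHom f.unop
  refine ⟨i.unop, hm, ?_⟩
  intro k hk x
  have hfe : f = (homOfLE hm).op := Subsingleton.elim _ _
  have := hf (homOfLE hk).op ⟨x, rfl⟩
  obtain ⟨z, hz⟩ := this
  refine ⟨z, ?_⟩
  rw [hfe] at hz
  exact hz

/-- solving `x n - t n (x (n+1)) = a n` inside subgroups with surjective transition maps -/
theorem exists_sol_of_surj (A : ∀ n, AddSubgroup (G n))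
    (hsurj : ∀ n, ∀ a ∈ A n, ∃ w ∈ A (n + 1), t n w = a)
    (a : ∀ n, G n) (ha : ∀ n, a n ∈ A n) :
    ∃ x : ∀ n, G n, Formal2.towerDiff G t x = a := by
  have hstep : ∀ n (x : {x : G n // x ∈ A n}), ∃ w : {w : G (n + 1) // w ∈ A (n + 1)},
      t n w.1 = x.1 - a n := by
    intro n x
    obtain ⟨w, hw, hw'⟩ := hsurj n (x.1 - a n) ((A n).sub_mem x.2 (ha n))
    exact ⟨⟨w, hw⟩, hw'⟩
  choose f hf using hstep
  let X : ∀ n, {x : G n // x ∈ A n} := fun n => Nat.rec ⟨0, (A 0).zero_mem⟩ (fun n x => f n x) n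
  refine ⟨fun n => (X n).1, ?_⟩
  ext n
  show (X n).1 - t n (X (n + 1)).1 = a n
  have : X (n + 1) = f n (X n) := rfl
  rw [this, hf]
  abel

theorem main_abstract
    (T : ∀ k n : ℕ, n ≤ k → (G k →+ G n))
    (T_self : ∀ n x, T n n le_rfl x = x)
    (T_succ : ∀ n x, T (n + 1) n (Nat.le_succ n) x = t n x)
    (T_comp : ∀ k m n (h1 : n ≤ m) (h2 : m ≤ k) x, T m n h1 (T k m h2 x) = T k n (h1.trans h2) x)
    (hML : ∀ n, ∃ (m : ℕ) (hm : n ≤ m), ∀ (k : ℕ) (hk : n ≤ k) (x : G m),
      ∃ z : G k, T k n hk z = T m n hm x) :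
    Function.Surjective (Formal2.towerDiff G t) := by
  choose m hm hML using hML
  let A : ∀ n, AddSubgroup (G n) := fun n => (T (m n) n (hm n)).range
  have A1 : ∀ n k (hk : n ≤ k), ∀ a ∈ A n, ∃ z, T k n hk z = a := by
    rintro n k hk _ ⟨x, rfl⟩
    exact hML n k hk x
  have A2 : ∀ n k (hk : n ≤ k) (hk' : m n ≤ k) z, T k n hk z ∈ A n := by
    intro n k hk hk' z
    refine ⟨T k (m n) hk' z, ?_⟩
    exact T_comp k (m n) n (hm n) hk' z
  have A3 : ∀ n, A (n + 1) ≤ (A n).comap (t n) := by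
    intro n x hx
    rw [AddSubgroup.mem_comap]
    obtain ⟨z, rfl⟩ := A1 (n + 1) (max (m n) (n + 1)) (le_max_right _ _) x hx
    rw [← T_succ, T_comp]
    exact A2 n _ _ (le_max_left _ _) z
  have A4 : ∀ n, ∀ a ∈ A n, ∃ w ∈ A (n + 1), t n w = a := by
    intro n a ha
    obtain ⟨z, rfl⟩ := A1 n (max (m (n + 1)) (n + 1)) (le_trans (Nat.le_succ n) (le_max_right _ _)) a ha
    refine ⟨T _ (n + 1) (le_max_right _ _) z, A2 (n + 1) _ _ (le_max_left _ _) z, ?_⟩
    rw [← T_succ, T_comp]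
  -- the quotient tower
  let tq : ∀ n, (G (n + 1) ⧸ A (n + 1)) →+ (G n ⧸ A n) := fun n =>
    QuotientAddGroup.map (A (n + 1)) (A n) (t n) (A3 n)
  have hq : ∀ i : ℕ, ∃ j : ℕ, i ≤ j ∧
      ∀ x : ∀ n, G n ⧸ A n, (∀ n, i ≤ n → n < j → x n = tq n (x (n + 1))) → x i = 0 := by
    intro i
    refine ⟨m i, hm i, ?_⟩
    intro x hx
    obtain ⟨z, hz⟩ := QuotientAddGroup.mk_surjective (x (m i))
    have key : ∀ d, ∀ n (hn : i ≤ n) (hnj : n ≤ m i), n + d = m i →
        x n = QuotientAddGroup.mk (T (m i) n hnj z) := by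
      intro d
      induction d with
      | zero =>
        intro n hn hnj hd
        have : n = m i := by omega
        subst this
        rw [T_self, hz]
      | succ d ih =>
        intro n hn hnj hd
        have h1 : n + 1 ≤ m i := by omega
        rw [hx n hn (by omega), ih (n + 1) (by omega) h1 (by omega)]
        show QuotientAddGroup.mk (t n (T (m i) (n + 1) h1 z)) = _
        rw [← T_succ, T_comp]
    rw [key (m i - i) i le_rfl (hm i) (by have := hm i; omega)]
    rw [QuotientAddGroup.eq_zero_iff]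
    exact ⟨z, rfl⟩
  have hsurjQ := (Groth.Agent.S14615.result (fun n => G n ⧸ A n) tq hq).2
  intro y
  obtain ⟨zq, hzq⟩ := hsurjQ (fun n => QuotientAddGroup.mk (y n))
  have hlift : ∀ n, ∃ z : G n, (QuotientAddGroup.mk z : G n ⧸ A n) = zq n :=
    fun n => QuotientAddGroup.mk_surjective (zq n)
  choose z hz using hlift
  have hmem : ∀ n, y n - Formal2.towerDiff G t z n ∈ A n := by
    intro n
    rw [← QuotientAddGroup.eq_zero_iff]
    have := congrFun hzq n
    show (QuotientAddGroup.mk (y n - (z n - t n (z (n + 1)))) : G n ⧸ A n) = 0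
    rw [QuotientAddGroup.mk_sub, QuotientAddGroup.mk_sub, ← this]
    show _ - (_ - _) = (0 : G n ⧸ A n)
    rw [hz n]
    have h2 : (QuotientAddGroup.mk (t n (z (n + 1))) : G n ⧸ A n) = tq n (zq (n + 1)) := by
      rw [← hz (n + 1)]; rfl
    rw [h2]
    show _ = (0 : G n ⧸ A n)
    exact sub_self _
  obtain ⟨x, hx⟩ := exists_sol_of_surj G t A A4 _ hmem
  refine ⟨x + z, ?_⟩
  rw [map_add, hx]
  ext n
  simp

theorem main
    (h : ((FF G t) ⋙ forget AddCommGrpCat).IsMittagLeffler) :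
    Function.Surjective (Formal2.towerDiff G t) :=
  main_abstract G t (T G t) (T_self G t) (T_succ G t) (T_comp G t) (ml_spec G t h)

end

end Helpers

open CategoryTheory in
/-- Let … → G_2 → G_1 → G_0 be an inverse system of abelian groups with transition maps t_n : G_{n+1} →
G_n which satisfies the Mittag-Leffler condition: for every i there is j ≥ i such that for all k ≥ j
the images of G_k → G_i and G_j → G_i coincide. Then lim¹ G_n = 0, i.e. the map (x_n) ↦ (x_n −
t_n(x_{n+1})) on ∏ G_n is surjective. -/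
theorem result (G : ℕ → Type u) [∀ n, AddCommGroup (G n)]
    (t : ∀ n, G (n + 1) →+ G n)
    (h : (Functor.ofOpSequence (X := fun n => AddCommGrpCat.of (G n))
      (fun n => AddCommGrpCat.ofHom (t n)) ⋙ forget AddCommGrpCat).IsMittagLeffler) :
    Function.Surjective (Formal2.towerDiff G t) := by
  exact main G t h

end Groth.Agent.S14616
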