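import Groth.Statements.S14617
import Mathlib

set_option autoImplicit false
universe u
open Formal2

namespace Groth.Agent.S14617

section Helpers

section Snake
variable {P' P P'' : Type u} [AddCommGroup P'] [AddCommGroup P] [AddCommGroup P'']
  (U : P' →+ P) (V : P →+ P'') (d' : P' →+ P') (d : P →+ P) (d'' : P'' →+ P'')

theorem snake (hUd : ∀ x, d (U x) = U (d' x)) (hVd : ∀ x, d'' (V x) = V (d x))
    (hU : Function.Injective U) (hV : Function.Surjective V) (hex : V.ker = U.range) :
    ∃ (α : d'.ker →+ d.ker) (β : d.ker →+ d''.ker) (δ : d''.ker →+ P' ⧸ d'.range)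
      (ε : P' ⧸ d'.range →+ P ⧸ d.range) (ζ : P ⧸ d.range →+ P'' ⧸ d''.range),
      (∀ x : d'.ker, (α x : P) = U x) ∧ (∀ x : d.ker, (β x : P'') = V x) ∧
      (∀ (z : d''.ker) (y : P) (w : P'), V y = z → U w = d y →
        δ z = (QuotientAddGroup.mk w : P' ⧸ d'.range)) ∧
      (∀ y : P', ε (QuotientAddGroup.mk y) = (QuotientAddGroup.mk (U y) : P ⧸ d.range)) ∧
      (∀ y : P, ζ (QuotientAddGroup.mk y) = (QuotientAddGroup.mk (V y) : P'' ⧸ d''.range)) ∧
      Function.Injective α ∧ α.range = β.ker ∧ β.range = δ.ker ∧ δ.range = ε.ker ∧ ε.range = ζ.ker ∧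
      Function.Surjective ζ := by
  have hVU : ∀ x, V (U x) = 0 := by
    intro x
    have : U x ∈ V.ker := by rw [hex]; exact ⟨x, rfl⟩
    exact this
  have hker : ∀ y, V y = 0 → ∃ x, U x = y := by
    intro y hy
    have : y ∈ U.range := by rw [← hex]; exact hy
    exact this
  -- α, β
  let α : d'.ker →+ d.ker := (U.comp d'.ker.subtype).codRestrict d.ker (fun x => by
    change d (U x) = 0
    rw [hUd, show d' x = 0 from x.2, map_zero])
  let β : d.ker →+ d''.ker := (V.comp d.ker.subtype).codRestrict d''.ker (fun x => by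
    change d'' (V x) = 0
    rw [hVd, show d x = 0 from x.2, map_zero])
  -- ε, ζ
  let ε : P' ⧸ d'.range →+ P ⧸ d.range := QuotientAddGroup.map _ _ U (by
    rintro _ ⟨x, rfl⟩
    exact ⟨U x, hUd x⟩)
  let ζ : P ⧸ d.range →+ P'' ⧸ d''.range := QuotientAddGroup.map _ _ V (by
    rintro _ ⟨x, rfl⟩
    exact ⟨V x, hVd x⟩)
  -- δ
  let K : AddSubgroup P := d''.ker.comap V
  let f : K →+ d''.ker := (V.comp K.subtype).codRestrict d''.ker (fun y => y.2)
  have hf : Function.Surjective f := by
    rintro ⟨z, hz⟩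
    obtain ⟨y, rfl⟩ := hV z
    exact ⟨⟨y, hz⟩, rfl⟩
  have hdK : ∀ y : K, d y ∈ U.range := by
    intro y
    rw [← hex]
    change V (d y) = 0
    rw [← hVd]
    exact y.2
  let φ : K →+ P' := (AddMonoidHom.ofInjective hU).symm.toAddMonoidHom.comp
    ((d.comp K.subtype).codRestrict U.range hdK)
  have hφ : ∀ y : K, U (φ y) = d y := by
    intro y
    have := (AddMonoidHom.ofInjective hU).apply_symm_apply
      (((d.comp K.subtype).codRestrict U.range hdK) y)
    exact congrArg Subtype.val this
  let ψ : K →+ P' ⧸ d'.range := (QuotientAddGroup.mk' d'.range).comp φ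
  have hψ : f.ker ≤ ψ.ker := by
    intro y hy
    have hy0 : V y = 0 := congrArg Subtype.val hy
    obtain ⟨x, hx⟩ := hker _ hy0
    change (QuotientAddGroup.mk (φ y) : P' ⧸ d'.range) = 0
    rw [QuotientAddGroup.eq_zero_iff]
    refine ⟨x, ?_⟩
    apply hU
    rw [hφ, ← hUd, hx]
  let δ : d''.ker →+ P' ⧸ d'.range := f.liftOfSurjective hf ⟨ψ, hψ⟩
  have hδf : ∀ y : K, δ (f y) = ψ y := fun y =>
    AddMonoidHom.liftOfRightInverse_comp_apply _ _ _ _ y
  have hδ : ∀ (z : d''.ker) (y : P) (w : P'), V y = z → U w = d y →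
      δ z = (QuotientAddGroup.mk w : P' ⧸ d'.range) := by
    intro z y w hyz hw
    have hyK : y ∈ K := by
      change d'' (V y) = 0
      rw [hyz]; exact z.2
    have hz : z = f ⟨y, hyK⟩ := Subtype.ext hyz.symm
    rw [hz, hδf]
    change (QuotientAddGroup.mk (φ ⟨y, hyK⟩) : P' ⧸ d'.range) = _
    congr 1
    apply hU
    rw [hφ, hw]
  have hε : ∀ y : P', ε (QuotientAddGroup.mk y) = (QuotientAddGroup.mk (U y) : P ⧸ d.range) :=
    fun y => rfl
  have hζ : ∀ y : P, ζ (QuotientAddGroup.mk y) = (QuotientAddGroup.mk (V y) : P'' ⧸ d''.range) :=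
    fun y => rfl
  refine ⟨α, β, δ, ε, ζ, fun x => rfl, fun x => rfl, hδ, hε, hζ, ?_, ?_, ?_, ?_, ?_, ?_⟩
  · -- α injective
    intro x y hxy
    apply Subtype.ext
    apply hU
    exact congrArg Subtype.val hxy
  · -- range α = ker β
    ext x
    constructor
    · rintro ⟨x', rfl⟩
      apply Subtype.ext
      exact hVU _
    · intro hx
      have hx0 : V x = 0 := congrArg Subtype.val hx
      obtain ⟨x', hx'⟩ := hker _ hx0
      have : d' x' = 0 := by
        apply hU
        rw [← hUd, hx', map_zero]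
        exact x.2
      exact ⟨⟨x', this⟩, Subtype.ext hx'⟩
  · -- range β = ker δ
    ext z
    constructor
    · rintro ⟨x, rfl⟩
      have := hδ (β x) x 0 rfl (by rw [map_zero]; exact x.2.symm)
      rw [AddMonoidHom.mem_ker, this]
      rfl
    · intro hz
      obtain ⟨y, hy⟩ := hV z
      have hyK : d y ∈ U.range := by
        rw [← hex]
        change V (d y) = 0
        rw [← hVd, hy]; exact z.2
      obtain ⟨w, hw⟩ := hyK
      have h1 := hδ z y w hy hw
      rw [AddMonoidHom.mem_ker] at hz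
      rw [hz] at h1
      have h2 := (QuotientAddGroup.eq_zero_iff w).1 h1.symm
      obtain ⟨x', hx'⟩ := h2
      have hmem : d (y - U x') = 0 := by
        rw [map_sub, hUd, hx', hw, sub_self]
      refine ⟨⟨y - U x', hmem⟩, ?_⟩
      apply Subtype.ext
      change V (y - U x') = z
      rw [map_sub, hVU, sub_zero, hy]
  · -- range δ = ker ε
    ext c
    constructor
    · rintro ⟨z, rfl⟩
      obtain ⟨y, hy⟩ := hV z
      have hyK : d y ∈ U.range := by
        rw [← hex]
        change V (d y) = 0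
        rw [← hVd, hy]; exact z.2
      obtain ⟨w, hw⟩ := hyK
      rw [hδ z y w hy hw, AddMonoidHom.mem_ker, hε, hw, QuotientAddGroup.eq_zero_iff]
      exact ⟨y, rfl⟩
    · intro hc
      induction c using QuotientAddGroup.induction_on with
      | H w =>
        rw [AddMonoidHom.mem_ker, hε, QuotientAddGroup.eq_zero_iff] at hc
        obtain ⟨y, hy⟩ := hc
        have hz : d'' (V y) = 0 := by rw [hVd, hy, hVU]
        exact ⟨⟨V y, hz⟩, hδ ⟨V y, hz⟩ y w rfl hy.symm⟩
  · -- range ε = ker ζ
    ext c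
    constructor
    · rintro ⟨c', rfl⟩
      induction c' using QuotientAddGroup.induction_on with
      | H w =>
        rw [AddMonoidHom.mem_ker, hε, hζ, hVU]
        rfl
    · intro hc
      induction c using QuotientAddGroup.induction_on with
      | H y =>
        rw [AddMonoidHom.mem_ker, hζ, QuotientAddGroup.eq_zero_iff] at hc
        obtain ⟨z'', hz''⟩ := hc
        obtain ⟨y₁, rfl⟩ := hV z''
        have : V (y - d y₁) = 0 := by rw [map_sub, ← hVd, hz'', sub_self]
        obtain ⟨w, hw⟩ := hker _ this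
        refine ⟨QuotientAddGroup.mk w, ?_⟩
        rw [hε, hw, QuotientAddGroup.eq]
        refine ⟨y₁, ?_⟩
        abel
  · -- ζ surjective
    intro c
    induction c using QuotientAddGroup.induction_on with
    | H z =>
      obtain ⟨y, rfl⟩ := hV z
      exact ⟨QuotientAddGroup.mk y, rfl⟩

end Snake

open Formal2 in
theorem main (G' G G'' : ℕ → Type u)
    [∀ n, AddCommGroup (G' n)] [∀ n, AddCommGroup (G n)] [∀ n, AddCommGroup (G'' n)]
    (t' : ∀ n, G' (n + 1) →+ G' n) (t : ∀ n, G (n + 1) →+ G n) (t'' : ∀ n, G'' (n + 1) →+ G'' n)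
    (u : ∀ n, G' n →+ G n) (v : ∀ n, G n →+ G'' n)
    (hu : ∀ n x, t n (u (n + 1) x) = u n (t' n x)) (hv : ∀ n x, t'' n (v (n + 1) x) = v n (t n x))
    (hinj : ∀ n, Function.Injective (u n)) (hsurj : ∀ n, Function.Surjective (v n))
    (hex : ∀ n, (v n).ker = (u n).range) :
    ∃ (α : Formal2.limZero G' t' →+ Formal2.limZero G t) (β : Formal2.limZero G t →+ Formal2.limZero G'' t'')
      (δ : Formal2.limZero G'' t'' →+ Formal2.limOne G' t')
      (ε : Formal2.limOne G' t' →+ Formal2.limOne G t) (ζ : Formal2.limOne G t →+ Formal2.limOne G'' t''),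
      (∀ (x : Formal2.limZero G' t') (n : ℕ), (α x : ∀ n, G n) n = u n ((x : ∀ n, G' n) n)) ∧
      (∀ (x : Formal2.limZero G t) (n : ℕ), (β x : ∀ n, G'' n) n = v n ((x : ∀ n, G n) n)) ∧
      (∀ (z : Formal2.limZero G'' t'') (y : ∀ n, G n) (w : ∀ n, G' n),
          (∀ n, v n (y n) = (z : ∀ n, G'' n) n) → (∀ n, u n (w n) = Formal2.towerDiff G t y n) →
            δ z = (QuotientAddGroup.mk w : Formal2.limOne G' t')) ∧
      (∀ y : ∀ n, G' n, ε (QuotientAddGroup.mk y : Formal2.limOne G' t') =
          (QuotientAddGroup.mk (fun n => u n (y n)) : Formal2.limOne G t)) ∧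
      (∀ y : ∀ n, G n, ζ (QuotientAddGroup.mk y : Formal2.limOne G t) =
          (QuotientAddGroup.mk (fun n => v n (y n)) : Formal2.limOne G'' t'')) ∧
      Function.Injective α ∧ α.range = β.ker ∧ β.range = δ.ker ∧ δ.range = ε.ker ∧ ε.range = ζ.ker ∧
      Function.Surjective ζ := by
  let U : (∀ n, G' n) →+ (∀ n, G n) :=
    { toFun := fun x n => u n (x n)
      map_zero' := by funext n; simp
      map_add' := fun x y => by funext n; simp }
  let V : (∀ n, G n) →+ (∀ n, G'' n) :=
    { toFun := fun x n => v n (x n)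
      map_zero' := by funext n; simp
      map_add' := fun x y => by funext n; simp }
  have hUd : ∀ x, towerDiff G t (U x) = U (towerDiff G' t' x) := by
    intro x
    funext n
    change u n (x n) - t n (u (n + 1) (x (n + 1))) = u n (x n - t' n (x (n + 1)))
    rw [hu, map_sub]
  have hVd : ∀ x, towerDiff G'' t'' (V x) = V (towerDiff G t x) := by
    intro x
    funext n
    change v n (x n) - t'' n (v (n + 1) (x (n + 1))) = v n (x n - t n (x (n + 1)))
    rw [hv, map_sub]
  have hU : Function.Injective U := by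
    intro x y hxy
    funext n
    exact hinj n (congrFun hxy n)
  have hV : Function.Surjective V := by
    intro z
    choose y hy using fun n => hsurj n (z n)
    exact ⟨y, funext hy⟩
  have hexUV : V.ker = U.range := by
    ext y
    constructor
    · intro hy
      have hy' : ∀ n, y n ∈ (u n).range := by
        intro n
        rw [← hex n]
        exact congrFun hy n
      choose x hx using hy'
      exact ⟨x, funext hx⟩
    · rintro ⟨x, rfl⟩
      funext n
      have : u n (x n) ∈ (v n).ker := by rw [hex n]; exact ⟨x n, rfl⟩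
      exact this
  obtain ⟨α, β, δ, ε, ζ, h1, h2, h3, h4, h5, h6⟩ :=
    snake U V (towerDiff G' t') (towerDiff G t) (towerDiff G'' t'') hUd hVd hU hV hexUV
  refine ⟨α, β, δ, ε, ζ, ?_, ?_, ?_, h4, h5, h6⟩
  · intro x n
    rw [h1 x]; rfl
  · intro x n
    rw [h2 x]; rfl
  · intro z y w hy hw
    exact h3 z y w (funext hy) (funext hw)

end Helpers

/-- Let 0 → (G'_n) → (G_n) → (G''_n) → 0 be a short exact sequence of inverse systems of abelian groups
indexed by ℕ: maps u_n : G'_n → G_n and v_n : G_n → G''_n commuting with the transition maps, with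
u_n injective, v_n surjective and ker v_n = im u_n for every n. Writing lim and lim¹ for the kernel
and cokernel of (x_n) ↦ (x_n − t_n(x_{n+1})) on the product, there is an exact sequence 0 → lim G' →
lim G → lim G'' → lim¹ G' → lim¹ G → lim¹ G'' → 0 in which the four outer maps are the ones induced
by u and v on products and the connecting map δ sends a compatible sequence (z_n) to the class of
the unique (w_n) with u_n(w_n) = y_n − t_n(y_{n+1}), for any levelwise lift (y_n) of (z_n). -/
theorem result (G' G G'' : ℕ → Type u)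
    [∀ n, AddCommGroup (G' n)] [∀ n, AddCommGroup (G n)] [∀ n, AddCommGroup (G'' n)]
    (t' : ∀ n, G' (n + 1) →+ G' n) (t : ∀ n, G (n + 1) →+ G n) (t'' : ∀ n, G'' (n + 1) →+ G'' n)
    (u : ∀ n, G' n →+ G n) (v : ∀ n, G n →+ G'' n)
    (hu : ∀ n x, t n (u (n + 1) x) = u n (t' n x)) (hv : ∀ n x, t'' n (v (n + 1) x) = v n (t n x))
    (hinj : ∀ n, Function.Injective (u n)) (hsurj : ∀ n, Function.Surjective (v n))
    (hex : ∀ n, (v n).ker = (u n).range) :
    ∃ (α : Formal2.limZero G' t' →+ Formal2.limZero G t) (β : Formal2.limZero G t →+ Formal2.limZero G'' t'')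
      (δ : Formal2.limZero G'' t'' →+ Formal2.limOne G' t')
      (ε : Formal2.limOne G' t' →+ Formal2.limOne G t) (ζ : Formal2.limOne G t →+ Formal2.limOne G'' t''),
      (∀ (x : Formal2.limZero G' t') (n : ℕ), (α x : ∀ n, G n) n = u n ((x : ∀ n, G' n) n)) ∧
      (∀ (x : Formal2.limZero G t) (n : ℕ), (β x : ∀ n, G'' n) n = v n ((x : ∀ n, G n) n)) ∧
      (∀ (z : Formal2.limZero G'' t'') (y : ∀ n, G n) (w : ∀ n, G' n),
          (∀ n, v n (y n) = (z : ∀ n, G'' n) n) → (∀ n, u n (w n) = Formal2.towerDiff G t y n) →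
            δ z = (QuotientAddGroup.mk w : Formal2.limOne G' t')) ∧
      (∀ y : ∀ n, G' n, ε (QuotientAddGroup.mk y : Formal2.limOne G' t') =
          (QuotientAddGroup.mk (fun n => u n (y n)) : Formal2.limOne G t)) ∧
      (∀ y : ∀ n, G n, ζ (QuotientAddGroup.mk y : Formal2.limOne G t) =
          (QuotientAddGroup.mk (fun n => v n (y n)) : Formal2.limOne G'' t'')) ∧
      Function.Injective α ∧ α.range = β.ker ∧ β.range = δ.ker ∧ δ.range = ε.ker ∧ ε.range = ζ.ker ∧
      Function.Surjective ζ := by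
  exact main G' G G'' t' t t'' u v hu hv hinj hsurj hex

end Groth.Agent.S14617
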