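import Groth.Statements.S14621
import Mathlib
import Groth.Agent.Lib.helper23.FiltSh

set_option autoImplicit false
open CategoryTheory CategoryTheory.Limits
universe u
open CohSite

namespace Groth.Agent.S14621

/-- Let C be a small category with pullbacks and J a Grothendieck topology on C in which every object is
quasi-compact in the site sense (every covering sieve contains finitely many morphisms which already
generate a covering sieve). Then for every small filtered category I the inclusion of sheaves of
sets on (C, J) into presheaves preserves colimits of shape I: filtered colimits of sheaves are
computed objectwise. (Only sheaves of sets are stated; the same holds for sheaves of abelian groups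
or modules. All pullbacks in C are assumed.) -/
theorem result {C : Type u} [SmallCategory C]
    [HasPullbacks C] (J : GrothendieckTopology C) (hJ : ∀ U : C, ToposFin.IsQCSite J U)
    (I : Type u) [SmallCategory I] [IsFiltered I] :
    PreservesColimitsOfShape I (sheafToPresheaf J (Type u)) := by
  constructor
  intro K
  let G : I ⥤ (Cᵒᵖ ⥤ Type u) := K ⋙ sheafToPresheaf J (Type u)
  let c : Cocone G := colimit.cocone G
  have hc : IsColimit c := colimit.isColimit G
  have hG : ∀ i, Presieve.IsSheaf J (G.obj i) := fun i =>
    (isSheaf_iff_isSheaf_of_type J _).1 (K.obj i).property
  have hP : Presheaf.IsSheaf J c.pt :=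
    (isSheaf_iff_isSheaf_of_type J _).2
      (Groth.Agent.Lib.helper23.FiltSh.isSheaf_pt G c hc J hG (fun X S hS => hJ X S hS))
  let c' : Cocone K :=
    { pt := ⟨c.pt, hP⟩
      ι :=
        { app := fun i => ObjectProperty.homMk (c.ι.app i)
          naturality := fun i j f => by
            apply ObjectProperty.hom_ext
            exact c.ι.naturality f } }
  have hc' : IsColimit ((sheafToPresheaf J (Type u)).mapCocone c') :=
    IsColimit.ofIsoColimit hc (Cocone.ext (Iso.refl _) (fun i => by simp [c', G]))
  exact preservesColimit_of_preserves_colimit_cocone
    (isColimitOfReflects (sheafToPresheaf J (Type u)) hc') hc'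

end Groth.Agent.S14621
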