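import Groth.Statements.S14631
import Mathlib

set_option autoImplicit false
open CategoryTheory AlgebraicGeometry
universe u
open EtBase

namespace Groth.Agent.S14631

section Helpers

theorem main (X : Scheme.{u})
    [QuasiSeparatedSpace ↥X] (U : X.Etale) :
    ∃ (ι : Type u) (V : ι → Over U), (∀ i, QuasiCompact (V i).left.hom ∧ QuasiSeparated (V i).left.hom) ∧
      ∀ x : ↥(U.left), ∃ (i : ι) (y : ↥((V i).left.left)), (V i).hom.left.base y = x := by
  let W : U.left.affineOpens → X.Etale := fun V => Scheme.Etale.mk ((V.1 : U.left.Opens).ι ≫ U.hom)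
  let Vf : U.left.affineOpens → Over U := fun V =>
    Over.mk (MorphismProperty.Over.homMk (V.1 : U.left.Opens).ι rfl trivial : W V ⟶ U)
  refine ⟨U.left.affineOpens, Vf, ?_, ?_⟩
  · intro V
    haveI : IsAffine (V.1 : U.left.Opens).toScheme := V.2
    change QuasiCompact ((V.1 : U.left.Opens).ι ≫ U.hom) ∧ QuasiSeparated ((V.1 : U.left.Opens).ι ≫ U.hom)
    exact ⟨@quasiCompact_of_compactSpace _ X ((V.1 : U.left.Opens).ι ≫ U.hom) inferInstance ‹_›,
      inferInstance⟩
  · intro x
    obtain ⟨_, ⟨V, hV, rfl⟩, hxV, -⟩ :=
      U.left.isBasis_affineOpens.exists_subset_of_mem_open (Set.mem_univ x) isOpen_univ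
    refine ⟨⟨V, hV⟩, ⟨x, hxV⟩, ?_⟩
    rfl

end Helpers

/-- Let X be a quasi-separated scheme and U an étale X-scheme. Then there is a jointly surjective family
of étale U-schemes each of which is quasi-compact and quasi-separated, hence of finite presentation,
over X. (Sheaves on the small étale site are therefore determined by their values on étale X-schemes
of finite presentation; that equivalence is not stated here.) -/
theorem result (X : Scheme.{u})
    [QuasiSeparatedSpace ↥X] (U : X.Etale) :
    ∃ (ι : Type u) (V : ι → Over U), (∀ i, QuasiCompact (V i).left.hom ∧ QuasiSeparated (V i).left.hom) ∧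
      ∀ x : ↥(U.left), ∃ (i : ι) (y : ↥((V i).left.left)), (V i).hom.left.base y = x := by
  exact main X U

end Groth.Agent.S14631
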