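import Groth.Statements.S14639
import Mathlib

set_option autoImplicit false
universe u
open Polynomial
open AlgGrp

namespace Groth.Agent.S14639

section Helpers

section Abstract
variable {k : Type u} [Field k] {R : Type u} [CommRing R] [Algebra k R] (u : R) (N : ℕ)

lemma mem_I {m : ℕ} {x : R} : x ∈ Ideal.span {u ^ m} ↔ ∃ r : R, x = u ^ m * r := by
  rw [Ideal.mem_span_singleton']
  constructor
  · rintro ⟨a, rfl⟩; exact ⟨a, mul_comm _ _⟩
  · rintro ⟨r, rfl⟩; exact ⟨r, mul_comm _ _⟩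

lemma I_anti {m m' : ℕ} (h : m ≤ m') : Ideal.span {u ^ m'} ≤ Ideal.span {u ^ m} := by
  intro x hx
  obtain ⟨r, rfl⟩ := (mem_I u).1 hx
  rw [mem_I]
  exact ⟨u ^ (m' - m) * r, by rw [← mul_assoc, ← pow_add, Nat.add_sub_cancel' h]⟩

variable (H1 : ∀ x : R, ∃ (c : k) (r : R), x = algebraMap k R c + u * r)
  (H2 : u ^ (N + 1) = 0) (H3 : u ^ N ≠ 0)

include H2 in
lemma I_top : Ideal.span {u ^ (N + 1)} = (⊥ : Ideal R) := by
  rw [H2]; simp

include H2 H3 in
lemma u_pow_not_mem {m : ℕ} (hm : m ≤ N) : u ^ m ∉ Ideal.span {u ^ (m + 1)} := by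
  intro h
  obtain ⟨r, hr⟩ := (mem_I u).1 h
  have h1 : u ^ m * (1 - u * r) = 0 := by
    have e : u ^ (m + 1) * r = u ^ m * (u * r) := by ring
    rw [mul_sub, mul_one, ← e, ← hr, sub_self]
  have hn : IsNilpotent (u * r) := by
    refine ⟨N + 1, ?_⟩
    rw [mul_pow, H2, zero_mul]
  obtain ⟨w, hw⟩ := IsNilpotent.isUnit_one_sub hn
  rw [← hw] at h1
  have h2 : u ^ m = 0 := (Units.mul_left_eq_zero w).1 h1
  apply H3
  rw [← Nat.add_sub_cancel' hm, pow_add, h2, zero_mul]

include H1 in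
lemma decomp_I {m : ℕ} {x : R} (hx : x ∈ Ideal.span {u ^ m}) :
    ∃ (c : k) (y : R), x = algebraMap k R c * u ^ m + y ∧ y ∈ Ideal.span {u ^ (m + 1)} := by
  obtain ⟨r, rfl⟩ := (mem_I u).1 hx
  obtain ⟨c, r', rfl⟩ := H1 r
  refine ⟨c, u ^ (m + 1) * r', by ring, ?_⟩
  rw [mem_I]
  exact ⟨r', rfl⟩

include H2 H3 in
lemma coeff_zero_of_mem {m : ℕ} (hm : m ≤ N) {c : k}
    (h : algebraMap k R c * u ^ m ∈ Ideal.span {u ^ (m + 1)}) : c = 0 := by
  by_contra hc
  apply u_pow_not_mem u N H2 H3 hm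
  have : u ^ m = algebraMap k R c⁻¹ * (algebraMap k R c * u ^ m) := by
    rw [← mul_assoc, ← map_mul, inv_mul_cancel₀ hc, map_one, one_mul]
  rw [this]
  exact Ideal.mul_mem_left _ _ h

include H1 in
/-- Key computation. -/
lemma sigma_sub (σ : R →ₐ[k] R) (w : R) (hσ : σ u = u * w) (hw : w * (1 + u) = 1)
    (m : ℕ) (c : k) (y : R) (hy : y ∈ Ideal.span {u ^ (m + 1)}) :
    ∃ z ∈ Ideal.span {u ^ (m + 2)}, σ (algebraMap k R c * u ^ m + y) - (algebraMap k R c * u ^ m + y) =
      algebraMap k R (-(m : k) * c) * u ^ (m + 1) + z := by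
  have hwE : w + u * w - 1 = 0 := by rw [← hw]; ring
  have hwpow : ∀ j : ℕ, ∃ t : R, w ^ j = 1 - (j : R) * u + u ^ 2 * t := by
    intro j
    induction j with
    | zero => exact ⟨0, by simp⟩
    | succ j ih =>
      obtain ⟨t, ht⟩ := ih
      refine ⟨((j : R) + 1) * w + t * w, ?_⟩
      rw [pow_succ, ht]
      push_cast
      linear_combination (1 - ((j : R) + 1) * u) * hwE
  obtain ⟨r, rfl⟩ := (mem_I u).1 hy
  obtain ⟨c', r', rfl⟩ := H1 r
  obtain ⟨t1, ht1⟩ := hwpow m
  obtain ⟨t2, ht2⟩ := hwpow (m + 1)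
  have hσc : ∀ a : k, σ (algebraMap k R a) = algebraMap k R a := fun a => σ.commutes a
  refine ⟨u ^ (m + 2) * (algebraMap k R c * t1 + (w * σ r' - r' +
      (-((m : R) + 1) + u * t2) * (algebraMap k R c' + u * w * σ r'))), ?_, ?_⟩
  · rw [mem_I]; exact ⟨_, rfl⟩
  · simp only [map_add, map_mul, map_pow, hσc, hσ, mul_pow, ht1, ht2, map_neg, map_natCast]
    push_cast
    ring

include H1 H2 H3 in
theorem abstract_main [CharZero k] (A : Subalgebra k R) (σ : R →ₐ[k] R) (w : R) (hσ : σ u = u * w)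
    (hw : w * (1 + u) = 1) (hAσ : A.map σ ≤ A) :
    ∃ n : ℕ, 1 ≤ n ∧ n ≤ N + 1 ∧
      Subalgebra.toSubmodule A =
        Submodule.span k {1} ⊔ (Ideal.span {u ^ n}).restrictScalars k := by
  classical
  let P : ℕ → Prop := fun m => ∀ x ∈ A, x ∈ Ideal.span {u ^ 1} → x ∈ Ideal.span {u ^ m}
  have hP1 : P 1 := fun x _ hx => hx
  set n := Nat.findGreatest P (N + 1) with hn
  have hn1 : 1 ≤ n := Nat.le_findGreatest (by omega) hP1
  have hnN : n ≤ N + 1 := Nat.findGreatest_le _
  have hPn : P n := Nat.findGreatest_spec (m := 1) (by omega) hP1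
  have hnot : ∀ m, n < m → m ≤ N + 1 → ¬ P m := fun m h1 h2 => Nat.findGreatest_is_greatest h1 h2
  refine ⟨n, hn1, hnN, ?_⟩
  have hmemA : ∀ c : k, algebraMap k R c ∈ A := fun c => A.algebraMap_mem c
  -- existence of elements of each order
  have hex : ∀ m, n ≤ m → m ≤ N → ∃ g ∈ A, g ∈ Ideal.span {u ^ m} ∧ g ∉ Ideal.span {u ^ (m + 1)} := by
    intro m hnm hmN
    induction m, hnm using Nat.le_induction with
    | base =>
      have := hnot (n + 1) (by omega) (by omega)
      simp only [P, not_forall] at this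
      obtain ⟨x, hxA, hx1, hxn⟩ := this
      exact ⟨x, hxA, hPn x hxA hx1, hxn⟩
    | succ m hnm ih =>
      obtain ⟨g, hgA, hgm, hgm'⟩ := ih (by omega)
      obtain ⟨c, y, rfl, hy⟩ := decomp_I u H1 hgm
      have hc : c ≠ 0 := by
        rintro rfl
        apply hgm'
        simpa using hy
      obtain ⟨z, hz, hzeq⟩ := sigma_sub u H1 σ w hσ hw m c y hy
      refine ⟨_, A.sub_mem (hAσ ⟨_, hgA, rfl⟩) hgA, ?_, ?_⟩
      · simp only [AlgHom.coe_toRingHom]
        rw [hzeq]
        refine Ideal.add_mem _ (Ideal.mul_mem_left _ _ (Ideal.mem_span_singleton_self _)) ?_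
        exact I_anti u (by omega) hz
      · simp only [AlgHom.coe_toRingHom]
        rw [hzeq]
        intro hmem
        have h2 : algebraMap k R (-(m : k) * c) * u ^ (m + 1) ∈ Ideal.span {u ^ (m + 1 + 1)} := by
          have := Ideal.sub_mem _ hmem hz
          simpa using this
        have h3 := coeff_zero_of_mem u N H2 H3 (by omega) h2
        have hm0 : (m : k) ≠ 0 := by
          have : m ≠ 0 := by omega
          exact_mod_cast this
        rcases mul_eq_zero.1 h3 with h4 | h4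
        · exact hm0 (neg_eq_zero.1 h4)
        · exact hc h4
  -- I_m ⊆ A for n ≤ m
  have hsub : ∀ j, j ≤ N + 1 - n → ∀ x ∈ Ideal.span {u ^ (N + 1 - j)}, x ∈ A := by
    intro j
    induction j with
    | zero =>
      intro _ x hx
      rw [Nat.sub_zero, I_top u N H2] at hx
      rw [(Ideal.mem_bot).1 hx]
      exact A.zero_mem
    | succ j ih =>
      intro hj x hx
      have ih' := ih (by omega)
      obtain ⟨g, hgA, hgm, hgm'⟩ := hex (N + 1 - (j + 1)) (by omega) (by omega)
      have e : N + 1 - (j + 1) + 1 = N + 1 - j := by omega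
      obtain ⟨c, y, rfl, hy⟩ := decomp_I u H1 hgm
      rw [e] at hy hgm'
      have hc : c ≠ 0 := by
        rintro rfl
        apply hgm'
        simpa using hy
      have hyA := ih' y hy
      have hcu : algebraMap k R c * u ^ (N + 1 - (j + 1)) ∈ A := by
        have := A.sub_mem hgA hyA
        simpa using this
      have hu : u ^ (N + 1 - (j + 1)) ∈ A := by
        have := A.mul_mem (hmemA c⁻¹) hcu
        rwa [← mul_assoc, ← map_mul, inv_mul_cancel₀ hc, map_one, one_mul] at this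
      obtain ⟨c', y', rfl, hy'⟩ := decomp_I u H1 hx
      rw [e] at hy'
      exact A.add_mem (A.mul_mem (hmemA c') hu) (ih' y' hy')
  have hIn : ∀ x ∈ Ideal.span {u ^ n}, x ∈ A := by
    have := hsub (N + 1 - n) le_rfl
    rwa [show N + 1 - (N + 1 - n) = n by omega] at this
  apply le_antisymm
  · intro x hx
    have hxA : x ∈ A := hx
    obtain ⟨c, r, hxr⟩ := H1 x
    have h1 : x - algebraMap k R c ∈ A := A.sub_mem hxA (hmemA c)
    have h2 : x - algebraMap k R c ∈ Ideal.span {u ^ 1} := by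
      rw [mem_I]; exact ⟨r, by rw [hxr]; ring⟩
    have h3 := hPn _ h1 h2
    rw [Submodule.mem_sup]
    refine ⟨algebraMap k R c, ?_, x - algebraMap k R c, h3, by ring⟩
    rw [Submodule.mem_span_singleton]
    exact ⟨c, by rw [Algebra.smul_def, mul_one]⟩
  · rw [sup_le_iff]
    constructor
    · rw [Submodule.span_le]
      intro x hx
      rw [Set.mem_singleton_iff.1 hx]
      exact A.one_mem
    · intro x hx
      exact hIn x hx

end Abstract

section Concrete
variable (k : Type u) [Field k] (N : ℕ)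

lemma cH2 : (AdjoinRoot.root ((Polynomial.X : Polynomial k) ^ (N + 1))) ^ (N + 1) = 0 := by
  have := AdjoinRoot.eval₂_root ((Polynomial.X : Polynomial k) ^ (N + 1))
  simpa using this

lemma cH1 (x : AdjoinRoot ((Polynomial.X : Polynomial k) ^ (N + 1))) :
    ∃ (c : k) (r : AdjoinRoot ((Polynomial.X : Polynomial k) ^ (N + 1))),
      x = algebraMap k _ c + AdjoinRoot.root ((Polynomial.X : Polynomial k) ^ (N + 1)) * r := by
  induction x using AdjoinRoot.induction_on with
  | ih q =>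
    refine ⟨q.coeff 0, AdjoinRoot.mk _ q.divX, ?_⟩
    conv_lhs => rw [← Polynomial.divX_mul_X_add q]
    rw [map_add, map_mul, AdjoinRoot.mk_X, AdjoinRoot.mk_C, AdjoinRoot.algebraMap_eq]
    ring

lemma cH3 : (AdjoinRoot.root ((Polynomial.X : Polynomial k) ^ (N + 1))) ^ N ≠ 0 := by
  intro h
  rw [← AdjoinRoot.mk_X, ← map_pow, AdjoinRoot.mk_eq_zero] at h
  have := (pow_dvd_pow_iff (Polynomial.X_ne_zero (R := k)) Polynomial.not_isUnit_X).1 h
  omega

end Concrete

theorem main (k : Type u) [Field k] [CharZero k]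
    (N : ℕ) (A : Subalgebra k (AdjoinRoot ((Polynomial.X : Polynomial k) ^ (N + 1))))
    (hA : ∀ (a : k) (σ : AdjoinRoot ((Polynomial.X : Polynomial k) ^ (N + 1)) →ₐ[k] AdjoinRoot ((Polynomial.X : Polynomial k) ^ (N + 1))),
      σ (AdjoinRoot.root ((Polynomial.X : Polynomial k) ^ (N + 1))) * (1 + algebraMap k (AdjoinRoot ((Polynomial.X : Polynomial k) ^ (N + 1))) a * AdjoinRoot.root ((Polynomial.X : Polynomial k) ^ (N + 1))) = AdjoinRoot.root ((Polynomial.X : Polynomial k) ^ (N + 1)) →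
        A.map σ ≤ A) :
    ∃ n : ℕ, 1 ≤ n ∧ n ≤ N + 1 ∧
      Subalgebra.toSubmodule A =
        Submodule.span k {1} ⊔ (Ideal.span {AdjoinRoot.root ((Polynomial.X : Polynomial k) ^ (N + 1)) ^ n}).restrictScalars k := by
  have H2 := cH2 k N
  have H1 := cH1 k N
  have H3 := cH3 k N
  have hnil : IsNilpotent (AdjoinRoot.root ((Polynomial.X : Polynomial k) ^ (N + 1))) := ⟨N + 1, H2⟩
  obtain ⟨wu, hwu⟩ := IsNilpotent.isUnit_one_add hnil
  have hw : (↑wu⁻¹ : AdjoinRoot ((Polynomial.X : Polynomial k) ^ (N + 1))) *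
      (1 + AdjoinRoot.root ((Polynomial.X : Polynomial k) ^ (N + 1))) = 1 := by
    rw [← hwu]; exact wu.inv_mul
  have hv : ((Polynomial.X : Polynomial k) ^ (N + 1)).eval₂
      (Algebra.ofId k (AdjoinRoot ((Polynomial.X : Polynomial k) ^ (N + 1))))
      (AdjoinRoot.root ((Polynomial.X : Polynomial k) ^ (N + 1)) * ↑wu⁻¹) = 0 := by
    rw [eval₂_pow, eval₂_X, mul_pow, H2, zero_mul]
  let σ : AdjoinRoot ((Polynomial.X : Polynomial k) ^ (N + 1)) →ₐ[k]
      AdjoinRoot ((Polynomial.X : Polynomial k) ^ (N + 1)) :=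
    AdjoinRoot.liftAlgHom _ (Algebra.ofId k _) (AdjoinRoot.root ((Polynomial.X : Polynomial k) ^ (N + 1)) * ↑wu⁻¹) hv
  have hσ : σ (AdjoinRoot.root ((Polynomial.X : Polynomial k) ^ (N + 1))) =
      AdjoinRoot.root ((Polynomial.X : Polynomial k) ^ (N + 1)) * ↑wu⁻¹ :=
    AdjoinRoot.liftAlgHom_root _ _ _ _
  have hAσ : A.map σ ≤ A := by
    apply hA 1 σ
    rw [hσ, map_one, one_mul, mul_assoc, hw, mul_one]
  exact abstract_main _ N H1 H2 H3 A σ _ hσ hw hAσ

end Helpers

/-- Classification of the subalgebras of a truncated polynomial ring that are stable under the unipotent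
substitutions, which is the algebraic step behind the classification of curves almost homogeneous
under the additive group in characteristic zero. Let k be a field of characteristic zero, N ≥ 0 and
R = k[u]/(u^(N+1)). The additive group acts on R through the substitutions u ↦ u/(1 + a u), a in k.
If A is a k-subalgebra of R stable under all these substitutions (stated for every k-algebra
endomorphism σ of R with σ(u)(1 + a u) = u for some a in k), then there is an integer n with 1 ≤ n ≤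
N + 1 such that A = k ⊕ (u^n): as a k-subspace, A is the span of 1 plus the ideal generated by u^n.
(In positive characteristic p and for N ≥ p + 1, the subalgebra generated by u^p is stable and not
of this form.) -/
theorem result (k : Type u) [Field k] [CharZero k]
    (N : ℕ) (A : Subalgebra k (AdjoinRoot ((Polynomial.X : Polynomial k) ^ (N + 1))))
    (hA : ∀ (a : k) (σ : AdjoinRoot ((Polynomial.X : Polynomial k) ^ (N + 1)) →ₐ[k] AdjoinRoot ((Polynomial.X : Polynomial k) ^ (N + 1))),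
      σ (AdjoinRoot.root ((Polynomial.X : Polynomial k) ^ (N + 1))) * (1 + algebraMap k (AdjoinRoot ((Polynomial.X : Polynomial k) ^ (N + 1))) a * AdjoinRoot.root ((Polynomial.X : Polynomial k) ^ (N + 1))) = AdjoinRoot.root ((Polynomial.X : Polynomial k) ^ (N + 1)) →
        A.map σ ≤ A) :
    ∃ n : ℕ, 1 ≤ n ∧ n ≤ N + 1 ∧
      Subalgebra.toSubmodule A =
        Submodule.span k {1} ⊔ (Ideal.span {AdjoinRoot.root ((Polynomial.X : Polynomial k) ^ (N + 1)) ^ n}).restrictScalars k := by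
  exact main k N A hA

end Groth.Agent.S14639
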