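import Groth.Statements.S14643
import Mathlib
import Groth.Prelude.Def_ChGrp
import Groth.Agent.S11424
import Groth.Agent.S5415
import Groth.Agent.S18510
import Groth.Agent.S8718
import Groth.Agent.S8014
import Groth.Agent.S18977
-- import your own Groth.Agent.* helpers here

set_option autoImplicit false
universe u
open CategoryTheory MonoidalCategory CartesianMonoidalCategory MonObj GrpObj AlgebraicGeometry CategoryTheory.Limits
open AlgGrp

namespace Groth.Agent.S14643


open CategoryTheory MonoidalCategory CartesianMonoidalCategory MonObj GrpObj AlgebraicGeometry CategoryTheory.Limits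

namespace H5S14643

variable {S : Scheme.{u}}

open Groth.Agent.S11424.H5S11424 Groth.Agent.S5415.H5S5415 Groth.Agent.S18510.H5S18510
open Groth.Agent.S8718 Groth.Agent.S8014 Groth.Agent.S18977

section
variable {G N Q X : Over S} [GrpObj G] [GrpObj N] [GrpObj Q] (a : AlgGrp.Action G X)
  (n : N ⟶ G) (π : G ⟶ Q) [IsMonHom π]
  (hN : ∀ (T : Over S) (g : T ⟶ G),
      (∃ m : T ⟶ N, m ≫ n = g) ↔
        ∀ (T' : Over S) (s : T' ⟶ T) (x : T' ⟶ X), lift (s ≫ g) x ≫ a.act = x)
  (hker : AlgGrp.IsKernel n π)
  (hloc : NonAbH1.IsLocallyTrivialFor Scheme.fpqcPrecoverage (Over.mk π.left : Over Q.left))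

include hN hker in
/-- invariance of the action under the kernel -/
lemma inv_act {W : Over S} (g₁ g₂ : W ⟶ G) (x : W ⟶ X) (h : g₁ ≫ π = g₂ ≫ π) :
    lift g₁ x ≫ a.act = lift g₂ x ≫ a.act := by
  obtain ⟨m, hm, -⟩ := H5S18977.sq_tr (ker_sq n π hker) g₁ g₂ h
  have hm' : (m ≫ n) * g₂ = g₁ := by
    rw [← hm, ← Category.assoc, lift_whiskerRight, Hom.mul_def]
  rw [← hm', AlgGrp.Action.lift_mul_act]
  have := (hN W (m ≫ n)).1 ⟨m, rfl⟩ W (𝟙 W) (lift g₂ x ≫ a.act)
  rw [Category.id_comp] at this
  exact this

include hN hker hloc in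
/-- the descended action morphism -/
lemma exists_act : ∃! c : Q ⊗ X ⟶ X, (π ▷ X) ≫ c = a.act := by
  apply H5S8718.desc_over (π ▷ X) (H5S8718.loc_whiskerRight π X hloc) a.act
  intro W p₁ p₂ h
  have h1 : (p₁ ≫ fst G X) ≫ π = (p₂ ≫ fst G X) ≫ π := by
    have := congrArg (fun q => q ≫ fst Q X) h
    simpa using this
  have h2 : p₁ ≫ snd G X = p₂ ≫ snd G X := by
    have := congrArg (fun q => q ≫ snd Q X) h
    simpa using this
  have e1 : p₁ = lift (p₁ ≫ fst G X) (p₁ ≫ snd G X) := by
    apply CartesianMonoidalCategory.hom_ext <;> simp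
  have e2 : p₂ = lift (p₂ ≫ fst G X) (p₁ ≫ snd G X) := by
    rw [h2]
    apply CartesianMonoidalCategory.hom_ext <;> simp
  rw [e1, e2]
  exact inv_act a n π hN hker _ _ _ h1

omit [GrpObj N] [GrpObj Q] [IsMonHom π] in
lemma act_pt (c : Q ⊗ X ⟶ X) (hc : (π ▷ X) ≫ c = a.act) {W : Over S} (g : W ⟶ G) (x : W ⟶ X) :
    lift (g ≫ π) x ≫ c = lift g x ≫ a.act := by
  rw [← hc, ← Category.assoc, lift_whiskerRight]

omit [GrpObj N] in
include hloc in
lemma exists_action (c : Q ⊗ X ⟶ X) (hc : (π ▷ X) ≫ c = a.act) :
    ∃ b : AlgGrp.Action Q X, b.act = c := by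
  refine ⟨⟨c, ?_, ?_⟩, rfl⟩
  · have h1 : η[Q] = η[G] ≫ π := (IsMonHom.one_hom (f := π)).symm
    rw [h1, comp_whiskerRight, Category.assoc, hc, a.one_act]
  · apply H5S8718.epi_of_loc ((Q ◁ π) ▷ X)
      (H5S8718.loc_whiskerRight (Q ◁ π) X (H5S8718.loc_whiskerLeft π Q hloc))
    apply H5S8718.epi_of_loc ((π ▷ G) ▷ X)
      (H5S8718.loc_whiskerRight (π ▷ G) X (H5S8718.loc_whiskerRight π G hloc))
    apply AlgGrp.Action.hom_ext_lift₃
    intro T g g' x
    have e1 : lift (lift g g') x ≫ ((π ▷ G) ▷ X) ≫ ((Q ◁ π) ▷ X) =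
        lift (lift (g ≫ π) (g' ≫ π)) x := by
      rw [lift_whiskerRight_assoc, lift_whiskerRight, lift_whiskerRight, lift_whiskerLeft]
    rw [reassoc_of% e1, reassoc_of% e1]
    rw [lift_whiskerRight_assoc, ← Hom.mul_def, ← MonObj.mul_comp, act_pt a π c hc,
      lift_lift_associator_hom_assoc, lift_whiskerLeft_assoc, act_pt a π c hc, act_pt a π c hc,
      AlgGrp.Action.lift_mul_act]

end

theorem main (k : Type u) [Field k]
    (G N Q X : Over (Spec (CommRingCat.of k))) [GrpObj G] [QuasiCompact G.hom]
    (a : AlgGrp.Action G X)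
    [GrpObj N] (n : N ⟶ G)
    (hN : ∀ (T : Over (Spec (CommRingCat.of k))) (g : T ⟶ G),
      (∃ m : T ⟶ N, m ≫ n = g) ↔
        ∀ (T' : Over (Spec (CommRingCat.of k))) (s : T' ⟶ T) (x : T' ⟶ X),
          CartesianMonoidalCategory.lift (s ≫ g) x ≫ a.act = x)
    [GrpObj Q] [LocallyOfFiniteType Q.hom] (π : G ⟶ Q) [IsMonHom π] [Flat π.left]
    [Surjective π.left] (hker : AlgGrp.IsKernel n π) :
    (∃! b : AlgGrp.Action Q X, (π ▷ X) ≫ b.act = a.act) ∧
    ∀ b : AlgGrp.Action Q X, (π ▷ X) ≫ b.act = a.act →
      (∀ (T : Over (Spec (CommRingCat.of k))) (q : T ⟶ Q),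
        (∀ (T' : Over (Spec (CommRingCat.of k))) (s : T' ⟶ T) (x : T' ⟶ X),
          CartesianMonoidalCategory.lift (s ≫ q) x ≫ b.act = x) → q = 1) ∧
      (Surjective (CartesianMonoidalCategory.lift (CartesianMonoidalCategory.snd G X) a.act).left ↔
        Surjective (CartesianMonoidalCategory.lift (CartesianMonoidalCategory.snd Q X) b.act).left) ∧
      (IsDominant (CartesianMonoidalCategory.lift (CartesianMonoidalCategory.snd G X) a.act).left ↔
        IsDominant (CartesianMonoidalCategory.lift (CartesianMonoidalCategory.snd Q X) b.act).left) := by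
  haveI : IsLocallyNoetherian Q.left := LocallyOfFiniteType.isLocallyNoetherian Q.hom
  haveI : QuasiSeparated Q.hom := inferInstance
  haveI : QuasiCompact π.left := Groth.Agent.S14883.H5S14883.qc_of_sep π
  have hloc := H5S8014.loc_of_fpqc π
  have hQπ : (@Surjective ⊓ @Flat ⊓ @QuasiCompact : MorphismProperty Scheme.{u}) π.left :=
    ⟨⟨inferInstance, inferInstance⟩, inferInstance⟩
  have hnπ : n ≫ π = 1 := by
    have := hker.w
    rw [this, Hom.one_def]
  refine ⟨?_, ?_⟩
  · obtain ⟨c, hc, hcu⟩ := exists_act a n π hN hker hloc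
    obtain ⟨b, hb⟩ := exists_action a π hloc c hc
    refine ⟨b, by show (π ▷ X) ≫ b.act = a.act; rw [hb]; exact hc, fun b' hb' => ?_⟩
    have e : b'.act = b.act := by rw [hb]; exact hcu _ hb'
    cases b
    cases b'
    simp only at e
    subst e
    rfl
  · intro b hb
    refine ⟨?_, ?_, ?_⟩
    · intro T q hq
      have hP : IsPullback (pullback.fst q π) (pullback.snd q π) q π := IsPullback.of_hasPullback q π
      have hQ1 : (@Surjective ⊓ @Flat ⊓ @QuasiCompact : MorphismProperty Scheme.{u})
          (pullback.fst q π).left :=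
        MorphismProperty.of_isPullback (P := @Surjective ⊓ @Flat ⊓ @QuasiCompact)
          (hP.map (Over.forget _)).flip hQπ
      haveI : Surjective (pullback.fst q π).left := hQ1.1.1
      haveI : Flat (pullback.fst q π).left := hQ1.1.2
      haveI : QuasiCompact (pullback.fst q π).left := hQ1.2
      have hg : ∀ (T' : Over (Spec (CommRingCat.of k))) (s : T' ⟶ pullback q π) (x : T' ⟶ X),
          lift (s ≫ pullback.snd q π) x ≫ a.act = x := by
        intro T' s x
        rw [← act_pt a π b.act hb, Category.assoc, ← hP.w, ← Category.assoc]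
        exact hq T' (s ≫ pullback.fst q π) x
      obtain ⟨m, hm⟩ := (hN _ (pullback.snd q π)).2 hg
      have h1 : pullback.snd q π ≫ π = 1 := by
        rw [← hm, Category.assoc, hnπ, MonObj.comp_one]
      apply H5S8718.epi_of_loc (pullback.fst q π) (H5S8014.loc_of_fpqc (pullback.fst q π))
      rw [hP.w, h1, MonObj.comp_one]
    all_goals
      have e : lift (snd G X) a.act = (π ▷ X) ≫ lift (snd Q X) b.act := by
        apply CartesianMonoidalCategory.hom_ext
        · rw [lift_fst, Category.assoc, lift_fst, whiskerRight_snd]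
        · rw [lift_snd, Category.assoc, lift_snd, hb]
      have hs : Surjective (π ▷ X).left :=
        MorphismProperty.of_isPullback (P := @Surjective)
          ((whiskerRight_isPullback π X).map (Over.forget _)).flip
          (show Surjective π.left from inferInstance)
      have e' : (lift (snd G X) a.act).left = (π ▷ X).left ≫ (lift (snd Q X) b.act).left := by
        rw [← Over.comp_left, e]
      rw [e']
    · exact Surjective.comp_iff _ _
    · exact IsDominant.comp_iff _ _

end H5S14643

/-- Over a field k, let G be a smooth k-group scheme of finite type acting on a variety X (a separated,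
geometrically integral k-scheme of finite type). Let n : N → G be the kernel of the action: a closed
subgroup scheme such that, for every k-scheme T, a T-point of G factors through N exactly when it
acts as the identity on all points of X over T-schemes. Let π : G → Q be a homomorphism onto a
k-group scheme of finite type which is flat and surjective with kernel N (the quotient G/N). Then
there is a unique action of Q on X inducing the given one along π; this action of Q is faithful (a
T-point of Q acting as the identity on all points of X over T-schemes is the unit); and X is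
homogeneous under G (surjective graph morphism (g, x) ↦ (x, g·x)) if and only if it is homogeneous
under Q, and almost homogeneous under G (dominant graph morphism) if and only if it is almost
homogeneous under Q. -/
theorem result (k : Type u) [Field k]
    (G N Q X : Over (Spec (CommRingCat.of k))) [GrpObj G] [Smooth G.hom] [QuasiCompact G.hom]
    [IsSeparated X.hom] [LocallyOfFiniteType X.hom] [QuasiCompact X.hom] [GeometricallyIntegral X.hom] (a : AlgGrp.Action G X)
    [GrpObj N] (n : N ⟶ G) [IsMonHom n] [IsClosedImmersion n.left]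
    (hN : ∀ (T : Over (Spec (CommRingCat.of k))) (g : T ⟶ G),
      (∃ m : T ⟶ N, m ≫ n = g) ↔
        ∀ (T' : Over (Spec (CommRingCat.of k))) (s : T' ⟶ T) (x : T' ⟶ X), CartesianMonoidalCategory.lift (s ≫ g) x ≫ a.act = x)
    [GrpObj Q] [LocallyOfFiniteType Q.hom] [QuasiCompact Q.hom] (π : G ⟶ Q) [IsMonHom π] [Flat π.left] [Surjective π.left]
    (hker : AlgGrp.IsKernel n π) :
    (∃! b : AlgGrp.Action Q X, (π ▷ X) ≫ b.act = a.act) ∧
    ∀ b : AlgGrp.Action Q X, (π ▷ X) ≫ b.act = a.act →
      (∀ (T : Over (Spec (CommRingCat.of k))) (q : T ⟶ Q),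
        (∀ (T' : Over (Spec (CommRingCat.of k))) (s : T' ⟶ T) (x : T' ⟶ X), CartesianMonoidalCategory.lift (s ≫ q) x ≫ b.act = x) → q = 1) ∧
      (Surjective (CartesianMonoidalCategory.lift (CartesianMonoidalCategory.snd G X) a.act).left ↔
        Surjective (CartesianMonoidalCategory.lift (CartesianMonoidalCategory.snd Q X) b.act).left) ∧
      (IsDominant (CartesianMonoidalCategory.lift (CartesianMonoidalCategory.snd G X) a.act).left ↔
        IsDominant (CartesianMonoidalCategory.lift (CartesianMonoidalCategory.snd Q X) b.act).left) := by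
  exact H5S14643.main k G N Q X a n hN π hker

end Groth.Agent.S14643
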