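import Groth.Statements.S14645
import Mathlib
import Groth.Prelude.Def_AlgGrp
import Groth.Agent.S18825
-- import your own Groth.Agent.* helpers here

set_option autoImplicit false
universe u
open CategoryTheory MonoidalCategory CartesianMonoidalCategory MonObj GrpObj AlgebraicGeometry CategoryTheory.Limits
open AlgGrp

namespace Groth.Agent.S14645

open CategoryTheory MonoidalCategory CartesianMonoidalCategory MonObj GrpObj AlgebraicGeometry CategoryTheory.Limits TopologicalSpace

namespace H5S14645

theorem univ_of_closedPoints {Y : Type*} [TopologicalSpace Y] [NoetherianSpace Y] [JacobsonSpace Y]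
    {S : Set Y} (hS : Topology.IsConstructible S) (hc : closedPoints Y ⊆ S) : S = Set.univ := by
  rw [Set.eq_univ_iff_forall]
  intro z
  let Z : Set Y := closure {z}
  haveI : NoetherianSpace Z := inferInstance
  haveI : Nonempty Z := ⟨⟨z, subset_closure rfl⟩⟩
  have hs : Topology.IsConstructible ((Subtype.val : Z → Y) ⁻¹' S) :=
    hS.preimage continuous_subtype_val (fun s _ _ U _ _ => NoetherianSpace.isCompact _)
  have hd : Dense ((Subtype.val : Z → Y) ⁻¹' S) := by
    rw [dense_iff_inter_open]
    rintro V hV ⟨v, hv⟩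
    obtain ⟨V₀, hV₀, rfl⟩ := isOpen_induced_iff.1 hV
    have hne : (V₀ ∩ Z).Nonempty := ⟨v.1, hv, v.2⟩
    obtain ⟨y, ⟨hyV, hyZ⟩, hyc⟩ := nonempty_inter_closedPoints hne
      (hV₀.isLocallyClosed.inter isClosed_closure.isLocallyClosed)
    exact ⟨⟨y, hyZ⟩, hyV, hc hyc⟩
  obtain ⟨V, hV, ⟨v, hv⟩, hVS⟩ :=
    Groth.Agent.S18825.H5S18825.exists_open_subset_of_dense_constructible hs hd
  obtain ⟨V₀, hV₀, rfl⟩ := isOpen_induced_iff.1 hV
  have hz : z ∈ V₀ := by
    have h1 : v.1 ∈ closure {z} := v.2
    rw [mem_closure_iff] at h1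
    obtain ⟨w, hw1, hw2⟩ := h1 V₀ hV₀ hv
    rwa [Set.mem_singleton_iff.1 hw2] at hw1
  exact hVS (show (⟨z, subset_closure rfl⟩ : Z) ∈ Subtype.val ⁻¹' V₀ from hz)


theorem main (k : Type u) [Field k]
    (G X : Over (Spec (CommRingCat.of k))) [GrpObj G] [LocallyOfFiniteType G.hom] [QuasiCompact G.hom]
    [LocallyOfFiniteType X.hom] [QuasiCompact X.hom] (a : AlgGrp.Action G X)
    (K : Type u) [Field K] [Algebra k K] [IsAlgClosed K] :
    Surjective (CartesianMonoidalCategory.lift (CartesianMonoidalCategory.snd G X) a.act).left ↔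
      ∀ x y : Over.mk (Spec.map (CommRingCat.ofHom (algebraMap k K))) ⟶ X,
        ∃ g : Over.mk (Spec.map (CommRingCat.ofHom (algebraMap k K))) ⟶ G,
          CartesianMonoidalCategory.lift g x ≫ a.act = y := by
  obtain ⟨c, hc⟩ : ∃ c : Spec (CommRingCat.of K) ⟶ Spec (CommRingCat.of k),
      c = Spec.map (CommRingCat.ofHom (algebraMap k K)) := ⟨_, rfl⟩
  rw [← hc]
  obtain ⟨Φ, hΦ⟩ : ∃ Φ : G ⊗ X ⟶ X ⊗ X, Φ = lift (snd G X) a.act := ⟨_, rfl⟩
  rw [← hΦ]
  haveI : LocallyOfFiniteType (X ⊗ X).hom := by
    rw [Over.tensorObj_hom]; infer_instance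
  haveI : QuasiCompact (X ⊗ X).hom := by
    rw [Over.tensorObj_hom]; infer_instance
  haveI : LocallyOfFiniteType (G ⊗ X).hom := by
    rw [Over.tensorObj_hom]; infer_instance
  haveI : QuasiCompact (G ⊗ X).hom := by
    rw [Over.tensorObj_hom]; infer_instance
  haveI : LocallyOfFiniteType Φ.left := by
    haveI : LocallyOfFiniteType (Φ.left ≫ (X ⊗ X).hom) := by rw [Over.w]; infer_instance
    exact locallyOfFiniteType_of_comp Φ.left (X ⊗ X).hom
  constructor
  · intro hsurj x y
    let p : Over.mk c ⟶ X ⊗ X := lift x y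
    let f : pullback Φ.left p.left ⟶ Spec (CommRingCat.of K) := pullback.snd Φ.left p.left
    haveI : Surjective f := inferInstanceAs (Surjective (pullback.snd Φ.left p.left))
    haveI : Nonempty ↥(pullback Φ.left p.left) :=
      ⟨(f.surjective (IsLocalRing.closedPoint K)).choose⟩
    haveI : LocallyOfFiniteType f := inferInstanceAs (LocallyOfFiniteType (pullback.snd Φ.left p.left))
    haveI : JacobsonSpace ↥(pullback Φ.left p.left) := LocallyOfFiniteType.jacobsonSpace f
    obtain ⟨z, -, hz⟩ := nonempty_inter_closedPoints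
      (Set.univ_nonempty (α := ↥(pullback Φ.left p.left))) isClosed_univ.isLocallyClosed
    let σ := pointOfClosedPoint f z hz
    have hσ : σ ≫ f = 𝟙 _ := pointOfClosedPoint_comp f z hz
    have hσ' : σ ≫ pullback.snd Φ.left p.left = 𝟙 _ := hσ
    let r : Over.mk c ⟶ G ⊗ X := Over.homMk (σ ≫ pullback.fst Φ.left p.left) (by
      have h1 : (G ⊗ X).hom = Φ.left ≫ (X ⊗ X).hom := (Over.w Φ).symm
      rw [h1, Category.assoc, ← Category.assoc (pullback.fst _ _), pullback.condition,
        Category.assoc, Over.w p, ← Category.assoc, hσ']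
      exact Category.id_comp _)
    have hr : r ≫ Φ = p := by
      apply Over.OverMorphism.ext
      show (σ ≫ pullback.fst Φ.left p.left) ≫ Φ.left = p.left
      rw [Category.assoc, pullback.condition, ← Category.assoc, hσ']
      exact Category.id_comp _
    refine ⟨r ≫ fst G X, ?_⟩
    have h1 : r ≫ snd G X = x := by
      have := congrArg (· ≫ fst X X) hr
      simpa [hΦ, p] using this
    have h2 : r ≫ a.act = y := by
      have := congrArg (· ≫ snd X X) hr
      simpa [hΦ, p] using this
    rw [← h1, ← h2]
    congr 1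
    apply CartesianMonoidalCategory.hom_ext <;> simp
  · intro htrans
    haveI : IsLocallyNoetherian (X ⊗ X).left := LocallyOfFiniteType.isLocallyNoetherian (X ⊗ X).hom
    haveI : CompactSpace (X ⊗ X).left := QuasiCompact.compactSpace_of_compactSpace (X ⊗ X).hom
    haveI : IsNoetherian (X ⊗ X).left := {}
    haveI : QuasiCompact Φ.left := by
      haveI : QuasiCompact (Φ.left ≫ (X ⊗ X).hom) := by rw [Over.w]; infer_instance
      exact QuasiCompact.of_comp Φ.left (X ⊗ X).hom
    haveI : LocallyOfFinitePresentation Φ.left :=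
      LocallyOfFinitePresentation.iff_locallyOfFiniteType.2 inferInstance
    have hcons : Topology.IsConstructible (Set.range Φ.left) := by
      have := Φ.left.isConstructible_image (s := Set.univ) Topology.IsConstructible.univ
      rwa [Set.image_univ] at this
    let pr := pullback.fst (X ⊗ X).hom c
    let fK := pullback.snd (X ⊗ X).hom c
    haveI : Surjective c := by rw [hc]; infer_instance
    haveI : Surjective pr := inferInstanceAs (Surjective (pullback.fst (X ⊗ X).hom c))
    haveI : LocallyOfFiniteType fK := inferInstanceAs (LocallyOfFiniteType (pullback.snd (X ⊗ X).hom c))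
    haveI : QuasiCompact fK := inferInstanceAs (QuasiCompact (pullback.snd (X ⊗ X).hom c))
    haveI : JacobsonSpace ↥(pullback (X ⊗ X).hom c) := LocallyOfFiniteType.jacobsonSpace fK
    haveI : IsLocallyNoetherian (pullback (X ⊗ X).hom c) := LocallyOfFiniteType.isLocallyNoetherian fK
    haveI : CompactSpace ↥(pullback (X ⊗ X).hom c) := QuasiCompact.compactSpace_of_compactSpace fK
    haveI : IsNoetherian (pullback (X ⊗ X).hom c) := {}
    haveI : NoetherianSpace ↥(pullback (X ⊗ X).hom c) := inferInstance
    have hS : Topology.IsConstructible (pr ⁻¹' (Set.range Φ.left)) :=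
      pr.isConstructible_preimage hcons
    have hall : pr ⁻¹' (Set.range Φ.left) = Set.univ := by
      apply univ_of_closedPoints hS
      intro q hq
      let σ := pointOfClosedPoint fK q hq
      have hσ : σ ≫ pullback.snd (X ⊗ X).hom c = 𝟙 _ := pointOfClosedPoint_comp fK q hq
      have hσq : σ (IsLocalRing.closedPoint K) = q := pointOfClosedPoint_apply fK q hq _
      let p : Over.mk c ⟶ X ⊗ X := Over.homMk (σ ≫ pr) (by
        show (σ ≫ pullback.fst (X ⊗ X).hom c) ≫ (X ⊗ X).hom = c
        rw [Category.assoc, pullback.condition, ← Category.assoc, hσ]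
        exact Category.id_comp _)
      obtain ⟨g, hg⟩ := htrans (p ≫ fst X X) (p ≫ snd X X)
      have hr : lift g (p ≫ fst X X) ≫ Φ = p := by
        rw [hΦ]
        apply CartesianMonoidalCategory.hom_ext
        · simp
        · simp [hg]
      show pr q ∈ Set.range Φ.left
      rw [← hσq]
      refine ⟨(lift g (p ≫ fst X X)).left (IsLocalRing.closedPoint K), ?_⟩
      have := congrArg (fun m => m.left (IsLocalRing.closedPoint K)) hr
      exact this
    refine ⟨fun w => ?_⟩
    obtain ⟨w', rfl⟩ := pr.surjective w
    have : w' ∈ pr ⁻¹' (Set.range Φ.left) := by rw [hall]; trivial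
    exact this

end H5S14645

/-- Over a field k with algebraic closure K, let G be a smooth k-group scheme of finite type acting on a
variety X (a separated, geometrically integral k-scheme of finite type). Then X is homogeneous under
G, i.e. the graph morphism G × X → X × X, (g, x) ↦ (x, g·x), is surjective, if and only if the
abstract group G(K) of K-points over k acts transitively on the set X(K): for all K-points x, y of X
there is a K-point g of G with g · x = y. -/
theorem result (k : Type u) [Field k]
    (G X : Over (Spec (CommRingCat.of k))) [GrpObj G] [Smooth G.hom] [QuasiCompact G.hom]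
    [IsSeparated X.hom] [LocallyOfFiniteType X.hom] [QuasiCompact X.hom] [GeometricallyIntegral X.hom] (a : AlgGrp.Action G X)
    (K : Type u) [Field K] [Algebra k K] [IsAlgClosure k K] :
    Surjective (CartesianMonoidalCategory.lift (CartesianMonoidalCategory.snd G X) a.act).left ↔
      ∀ x y : Over.mk (Spec.map (CommRingCat.ofHom (algebraMap k K))) ⟶ X, ∃ g : Over.mk (Spec.map (CommRingCat.ofHom (algebraMap k K))) ⟶ G, CartesianMonoidalCategory.lift g x ≫ a.act = y := by
  haveI : IsAlgClosed K := IsAlgClosure.isAlgClosed k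
  exact H5S14645.main k G X a K

end Groth.Agent.S14645
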