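import Groth.Statements.S14654
import Mathlib

set_option autoImplicit false
universe u
open FiltBl

namespace Groth.Agent.S14654

section Helpers

open AlgebraicGeometry HomogeneousLocalization DirectSum

section
variable {A : Type u} [CommRing A] (𝒜 : ℕ → AddSubgroup A) [GradedRing 𝒜] (p : Ideal A) [p.IsPrime]

lemma exists_comp_notMem (hp : p.IsHomogeneous 𝒜) (W : A) (hW : W ∉ p) :
    ∃ n, (decompose 𝒜 W n : A) ∉ p := by
  by_contra hcon
  push Not at hcon
  exact hW ((hp.mem_iff).mpr hcon)

lemma key (hp : p.IsHomogeneous 𝒜) [IsDomain (Localization.AtPrime p)]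
    (a b : AtPrime 𝒜 p) (hb : b ≠ 0) (y : Localization.AtPrime p)
    (h : a.val = y * b.val) : ∃ z : AtPrime 𝒜 p, z.val = y := by
  obtain ⟨⟨da, ⟨na, hna⟩, ⟨ua, hua'⟩, hua⟩, rfl⟩ := mk_surjective a
  obtain ⟨⟨db, ⟨nb, hnb⟩, ⟨ub, hub'⟩, hub⟩, rfl⟩ := mk_surjective b
  induction y using Localization.induction_on with
  | H y =>
    obtain ⟨c, s⟩ := y
    have h' := h
    simp only [val_mk] at h
    rw [Localization.mk_mul, Localization.mk_eq_mk_iff, Localization.r_iff_exists] at h
    obtain ⟨w, hw⟩ := h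
    simp only [Submonoid.coe_mul] at hw
    -- hw : w * ((s * ub) * na) = w * (ua * (c * nb))
    have hWs : (w : A) * s ∉ p := (w * s).2
    obtain ⟨n, hn⟩ := exists_comp_notMem 𝒜 p hp _ hWs
    have hdeg1 : ub * na ∈ 𝒜 (db + da) := SetLike.mul_mem_graded hub' hna
    have hdeg2 : ua * nb ∈ 𝒜 (db + da) := by
      rw [add_comm]
      exact SetLike.mul_mem_graded hua' hnb
    have e1 : ((w : A) * s) * (ub * na) = ((w : A) * c) * (ua * nb) := by
      linear_combination hw
    have e2 := congr((decompose 𝒜 $e1 (n + (db + da)) : A))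
    rw [coe_decompose_mul_add_of_right_mem 𝒜 hdeg1, coe_decompose_mul_add_of_right_mem 𝒜 hdeg2]
      at e2
    refine ⟨mk ⟨n, ⟨decompose 𝒜 ((w : A) * c) n, SetLike.coe_mem _⟩,
      ⟨decompose 𝒜 ((w : A) * s) n, SetLike.coe_mem _⟩, hn⟩, ?_⟩
    have hbv : (mk ⟨db, ⟨nb, hnb⟩, ⟨ub, hub'⟩, hub⟩ : AtPrime 𝒜 p).val ≠ 0 := by
      intro h0
      apply hb
      apply val_injective
      rw [h0, val_zero]
    apply mul_right_cancel₀ hbv
    rw [← h']
    simp only [val_mk]
    rw [Localization.mk_mul, Localization.mk_eq_mk_iff, Localization.r_iff_exists]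
    refine ⟨1, ?_⟩
    simp only [Submonoid.coe_mul, Submonoid.coe_one, one_mul]
    linear_combination (-1 : A) * e2

theorem normal_atPrime (hp : p.IsHomogeneous 𝒜) (hd : IsDomain (Localization.AtPrime p))
    (hn : IsIntegrallyClosed (Localization.AtPrime p)) :
    IsDomain (AtPrime 𝒜 p) ∧ IsIntegrallyClosed (AtPrime 𝒜 p) := by
  have hinj : Function.Injective (algebraMap (AtPrime 𝒜 p) (Localization.AtPrime p)) := by
    intro x y hxy
    apply val_injective
    simpa using hxy
  haveI hdom : IsDomain (AtPrime 𝒜 p) := hinj.isDomain _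
  refine ⟨hdom, ?_⟩
  rw [isIntegrallyClosed_iff (FractionRing (AtPrime 𝒜 p))]
  intro t ht
  -- the map on fraction fields
  let g : AtPrime 𝒜 p →+* FractionRing (Localization.AtPrime p) :=
    (algebraMap (Localization.AtPrime p) (FractionRing (Localization.AtPrime p))).comp
      (algebraMap (AtPrime 𝒜 p) (Localization.AtPrime p))
  have hg : Function.Injective g :=
    (IsFractionRing.injective (Localization.AtPrime p) _).comp hinj
  let ψ : FractionRing (AtPrime 𝒜 p) →+* FractionRing (Localization.AtPrime p) :=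
    IsFractionRing.lift hg
  have hψ : ∀ r, ψ (algebraMap _ _ r) = g r := fun r => IsFractionRing.lift_algebraMap hg r
  have hint : IsIntegral (Localization.AtPrime p) (ψ t) := by
    refine IsIntegral.map_of_comp_eq (algebraMap (AtPrime 𝒜 p) (Localization.AtPrime p)) ψ ?_ ht
    ext r
    exact (hψ r).symm
  obtain ⟨y, hy⟩ := (isIntegrallyClosed_iff (FractionRing (Localization.AtPrime p))).mp hn hint
  obtain ⟨a, b, hb, rfl⟩ := IsFractionRing.div_surjective (A := AtPrime 𝒜 p) t
  have hb0 : b ≠ 0 := nonZeroDivisors.ne_zero hb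
  have hgb : g b ≠ 0 := by
    intro h0
    exact hb0 (hg (h0.trans (map_zero g).symm))
  rw [map_div₀, hψ, hψ, eq_div_iff hgb] at hy
  have h1 : a.val = y * b.val := by
    apply IsFractionRing.injective (Localization.AtPrime p)
      (FractionRing (Localization.AtPrime p))
    rw [map_mul]
    simpa [g] using hy.symm
  obtain ⟨z, hz⟩ := key 𝒜 p hp a b hb0 y h1
  refine ⟨z, ?_⟩
  have h2 : a = z * b := by
    apply val_injective
    rw [val_mul, hz, h1]
  rw [h2, map_mul, mul_div_assoc, div_self, mul_one]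
  intro h0
  exact hb0 ((IsFractionRing.injective (AtPrime 𝒜 p) _) (h0.trans (map_zero _).symm))

end

theorem main14654 (A : Type u) [CommRing A]
    (𝒜 : ℕ → AddSubgroup A) [GradedRing 𝒜]
    (hA : ∀ (p : Ideal A) [p.IsPrime], IsDomain (Localization.AtPrime p) ∧
      IsIntegrallyClosed (Localization.AtPrime p))
    (x : Proj 𝒜) :
    IsDomain ((Proj 𝒜).presheaf.stalk x) ∧ IsIntegrallyClosed ((Proj 𝒜).presheaf.stalk x) := by
  haveI : x.asHomogeneousIdeal.toIdeal.IsPrime := x.isPrime
  obtain ⟨h1, h2⟩ := normal_atPrime 𝒜 x.asHomogeneousIdeal.toIdeal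
    x.asHomogeneousIdeal.isHomogeneous (hA _).1 (hA _).2
  let e : ((Proj 𝒜).presheaf.stalk x) ≃+* AtPrime 𝒜 x.asHomogeneousIdeal.toIdeal :=
    (Proj.stalkIso 𝒜 x).commRingCatIsoToRingEquiv
  exact ⟨e.toMulEquiv.isDomain _, IsIntegrallyClosed.of_equiv e.symm⟩

end Helpers


open AlgebraicGeometry in
/-- Let A be a Noetherian ℕ-graded commutative ring which is normal, i.e. every localization of A at a
prime ideal is an integrally closed domain. Then the scheme Proj A is normal: every local ring of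
Proj A is an integrally closed domain. -/
theorem result (A : Type u) [CommRing A] [IsNoetherianRing A]
    (𝒜 : ℕ → AddSubgroup A) [GradedRing 𝒜]
    (hA : ∀ (p : Ideal A) [p.IsPrime], IsDomain (Localization.AtPrime p) ∧
      IsIntegrallyClosed (Localization.AtPrime p))
    (x : Proj 𝒜) :
    IsDomain ((Proj 𝒜).presheaf.stalk x) ∧ IsIntegrallyClosed ((Proj 𝒜).presheaf.stalk x) := by
  exact main14654 A 𝒜 hA x

end Groth.Agent.S14654
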