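import Groth.Statements.S14677
import Mathlib

set_option autoImplicit false
universe u
open CAlg

namespace Groth.Agent.S14677

theorem adic_map_add {A : Type u} [CommRing A] (I : Ideal A) {M N : Type u} [AddCommGroup M] [Module A M]
    [AddCommGroup N] [Module A N] (f g : M →ₗ[A] N) (x : AdicCompletion I M) :
    AdicCompletion.map I (f + g) x = AdicCompletion.map I f x + AdicCompletion.map I g x := by
  ext n
  rw [AdicCompletion.val_add_apply, AdicCompletion.map_val_apply, AdicCompletion.map_val_apply,
    AdicCompletion.map_val_apply]
  obtain ⟨y, hy⟩ := Submodule.Quotient.mk_surjective _ (x.val n)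
  rw [← hy, LinearMap.reduceModIdeal_apply, LinearMap.reduceModIdeal_apply,
    LinearMap.reduceModIdeal_apply, LinearMap.add_apply, Submodule.Quotient.mk_add]

theorem adic_map_sum {A : Type u} [CommRing A] (I : Ideal A) {M N : Type u} [AddCommGroup M] [Module A M]
    [AddCommGroup N] [Module A N] {ι : Type} (s : Finset ι) (f : ι → M →ₗ[A] N)
    (x : AdicCompletion I M) :
    AdicCompletion.map I (∑ i ∈ s, f i) x = ∑ i ∈ s, AdicCompletion.map I (f i) x := by
  classical
  induction s using Finset.induction_on with
  | empty => simp [AdicCompletion.map_zero]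
  | insert i s hi ih => rw [Finset.sum_insert hi, Finset.sum_insert hi, adic_map_add, ih]

theorem adic_map_lsmul {A : Type u} [CommRing A] (I : Ideal A) {M : Type u} [AddCommGroup M] [Module A M]
    (r : A) (x : AdicCompletion I M) :
    AdicCompletion.map I (LinearMap.lsmul A M r) x = r • x := by
  ext n
  rw [AdicCompletion.map_val_apply, AdicCompletion.val_smul_apply]
  obtain ⟨y, hy⟩ := Submodule.Quotient.mk_surjective _ (x.val n)
  rw [← hy, LinearMap.reduceModIdeal_apply, LinearMap.lsmul_apply, Submodule.Quotient.mk_smul]

/-- Let A be a Noetherian commutative ring, I and J ideals of A and M a finitely generated A-module.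
Then the map of I-adic completions induced by the inclusion of the submodule JM into M is injective
with image exactly J·M̂, where M̂ is the I-adic completion of M; that is, the completion of JM is J
times the completion of M. (The published statement does not say that A is Noetherian; its proof
uses exactness of completion on finitely generated modules, which needs it, so this row assumes A
Noetherian.) -/
theorem result (A : Type u) [CommRing A] [IsNoetherianRing A] (I J : Ideal A)
    (M : Type u) [AddCommGroup M] [Module A M] [Module.Finite A M] :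
    Function.Injective (AdicCompletion.map I (J • (⊤ : Submodule A M)).subtype) ∧
      LinearMap.range (AdicCompletion.map I (J • (⊤ : Submodule A M)).subtype) =
        (J.map (algebraMap A (AdicCompletion I A))) • (⊤ : Submodule (AdicCompletion I A) (AdicCompletion I M)) := by
  classical
  refine ⟨AdicCompletion.map_injective I (Submodule.subtype_injective _), ?_⟩
  set ι := (J • (⊤ : Submodule A M)).subtype with hι
  apply le_antisymm
  · -- range ≤ J M^
    rintro _ ⟨z, rfl⟩
    obtain ⟨s, j, hj⟩ := Submodule.fg_iff_exists_fin_generating_family.1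
      (IsNoetherian.noetherian J)
    have hjJ : ∀ i, j i ∈ J := fun i => hj ▸ Submodule.subset_span ⟨i, rfl⟩
    -- σ : M^s → JM
    let σ : (Fin s → M) →ₗ[A] ↥(J • (⊤ : Submodule A M)) :=
      LinearMap.codRestrict _ (∑ i, (LinearMap.lsmul A M (j i)) ∘ₗ LinearMap.proj i) (by
        intro c
        rw [LinearMap.sum_apply]
        exact Submodule.sum_mem _ fun i _ => Submodule.smul_mem_smul (hjJ i) Submodule.mem_top)
    have hσ : Function.Surjective σ := by
      rintro ⟨y, hy⟩
      have : y ∈ Submodule.map (∑ i, (LinearMap.lsmul A M (j i)) ∘ₗ LinearMap.proj i)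
          (⊤ : Submodule A (Fin s → M)) := by
        refine Submodule.smul_induction_on
          (p := fun y => y ∈ Submodule.map (∑ i, (LinearMap.lsmul A M (j i)) ∘ₗ LinearMap.proj i)
            (⊤ : Submodule A (Fin s → M))) hy ?_ ?_
        · intro r hr m _
          rw [← hj] at hr
          obtain ⟨c, hc⟩ := (Submodule.mem_span_range_iff_exists_fun A).1 hr
          refine ⟨fun i => c i • m, Submodule.mem_top, ?_⟩
          rw [LinearMap.sum_apply, ← hc, Finset.sum_smul]
          refine Finset.sum_congr rfl fun i _ => ?_
          simp [smul_smul, mul_comm]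
        · intro x y hx hy
          exact Submodule.add_mem _ hx hy
      obtain ⟨c, -, hc⟩ := this
      exact ⟨c, Subtype.ext hc⟩
    obtain ⟨w, rfl⟩ := AdicCompletion.map_surjective I hσ z
    have hcomp : ι ∘ₗ σ = ∑ i, (LinearMap.lsmul A M (j i)) ∘ₗ LinearMap.proj i := by
      ext c
      rfl
    rw [← LinearMap.comp_apply, AdicCompletion.map_comp, hcomp, adic_map_sum]
    refine Submodule.sum_mem _ fun i _ => ?_
    rw [← AdicCompletion.map_comp, LinearMap.comp_apply, adic_map_lsmul]
    have h5 : j i • AdicCompletion.map I (LinearMap.proj (R := A) (φ := fun _ : Fin s => M) i) w =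
        algebraMap A (AdicCompletion I A) (j i) •
          AdicCompletion.map I (LinearMap.proj (R := A) (φ := fun _ : Fin s => M) i) w :=
      (algebraMap_smul _ _ _).symm
    rw [h5]
    exact Submodule.smul_mem_smul (Ideal.mem_map_of_mem _ (hjJ i)) Submodule.mem_top
  · -- J M^ ≤ range
    rw [Submodule.smul_le]
    intro c hc y _
    have hc' : c ∈ Ideal.map (algebraMap A (AdicCompletion I A)) J := hc
    revert y
    refine Submodule.span_induction
      (p := fun c _ => ∀ y : AdicCompletion I M, y ∈ (⊤ : Submodule (AdicCompletion I A) (AdicCompletion I M)) →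
        c • y ∈ LinearMap.range (AdicCompletion.map I ι)) ?_ ?_ ?_ ?_ hc'
    · rintro _ ⟨r, hr, rfl⟩ y _
      let σr : M →ₗ[A] ↥(J • (⊤ : Submodule A M)) :=
        LinearMap.codRestrict _ (LinearMap.lsmul A M r) (fun m =>
          Submodule.smul_mem_smul hr Submodule.mem_top)
      refine ⟨AdicCompletion.map I σr y, ?_⟩
      rw [← LinearMap.comp_apply, AdicCompletion.map_comp]
      have : ι ∘ₗ σr = LinearMap.lsmul A M r := by
        ext m
        rfl
      rw [this, adic_map_lsmul, algebraMap_smul]
    · intro y _
      rw [zero_smul]
      exact Submodule.zero_mem _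
    · intro c c' _ _ h h' y hy
      rw [add_smul]
      exact Submodule.add_mem _ (h y hy) (h' y hy)
    · intro d c _ h y hy
      rw [smul_eq_mul, mul_smul]
      exact Submodule.smul_mem _ _ (h y hy)

end Groth.Agent.S14677
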