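import Groth.Statements.S14679
import Mathlib

set_option autoImplicit false
universe u
open CategoryTheory CategoryTheory.Limits AlgebraicGeometry
open EtBase

namespace Groth.Agent.S14679

section Helpers

open AlgebraicGeometry.Scheme.Pullback in
theorem subsingleton_tensor {X Y S : Scheme.{u}} {f : X ⟶ S} {g : Y ⟶ S} (T : Triplet f g)
    (h : Function.Bijective (f.residueFieldMap T.x).hom) : Subsingleton (Spec T.tensor) := by
  haveI : IsIso (f.residueFieldMap T.x) := by
    rw [ConcreteCategory.isIso_iff_bijective]; exact h
  haveI : IsIso ((S.residueFieldCongr T.hx).inv ≫ f.residueFieldMap T.x) := inferInstance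
  have hiso : IsIso (pushout.inr ((S.residueFieldCongr T.hx).inv ≫ f.residueFieldMap T.x)
    ((S.residueFieldCongr T.hy).inv ≫ g.residueFieldMap T.y)) := inferInstance
  let e : Y.residueField T.y ≃+* T.tensor := (asIso (pushout.inr ((S.residueFieldCongr T.hx).inv ≫ f.residueFieldMap T.x)
    ((S.residueFieldCongr T.hy).inv ≫ g.residueFieldMap T.y))).commRingCatIsoToRingEquiv
  have hF : IsField T.tensor := e.symm.toMulEquiv.isField (Field.toIsField _)
  letI := hF.toField
  exact (PrimeSpectrum.instUnique (R := T.tensor)).instSubsingleton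

open AlgebraicGeometry.Scheme.Pullback in
theorem main {X Y : Scheme.{u}} (f : X ⟶ Y) (x : ↥X)
    (hx : Function.Bijective (f.residueFieldMap x).hom)
    (ℓ : Type u) [Field ℓ] [Algebra (Y.residueField (f.base x)) ℓ] [Algebra.IsAlgebraic (Y.residueField (f.base x)) ℓ] :
    ∃! z : ↥(pullback f (Spec.map (CommRingCat.ofHom (algebraMap (Y.residueField (f.base x)) ℓ)) ≫ Y.fromSpecResidueField (f.base x))),
      (pullback.fst f (Spec.map (CommRingCat.ofHom (algebraMap (Y.residueField (f.base x)) ℓ)) ≫ Y.fromSpecResidueField (f.base x))).base z = x := by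
  set g := Spec.map (CommRingCat.ofHom (algebraMap (Y.residueField (f.base x)) ℓ)) ≫ Y.fromSpecResidueField (f.base x) with hg
  let y₀ : Spec (CommRingCat.of ℓ) := (default : PrimeSpectrum ℓ)
  have hy₀ : f.base x = g.base y₀ := by
    rw [hg, Scheme.Hom.comp_apply, Scheme.fromSpecResidueField_apply]
  obtain ⟨z, hz1, hz2⟩ := exists_preimage_pullback (f := f) (g := g) x y₀ hy₀
  refine ⟨z, hz1, ?_⟩
  intro z' hz'
  apply (carrierEquiv (f := f) (g := g)).injective
  rw [carrierEquiv_eq_iff]
  have hT : (carrierEquiv z').1 = (carrierEquiv z).1 := by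
    apply Triplet.ext
    · show (pullback.fst f g).base z' = (pullback.fst f g).base z
      rw [hz', hz1]
    · exact Subsingleton.elim (α := PrimeSpectrum ℓ) _ _
  refine ⟨hT, ?_⟩
  haveI : Subsingleton (Spec (carrierEquiv z).1.tensor) := by
    apply subsingleton_tensor
    have : (carrierEquiv z).1.x = x := hz1
    rw [this]
    exact hx
  exact Subsingleton.elim _ _

end Helpers

/-- Given a morphism of schemes f : X ⟶ Y and a point x ∈ X with image y = f(x), such that the residue
field map κ(y) → κ(x) is bijective; let ℓ be an algebraic extension field of κ(y) and form the base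
change X ×_Y Spec ℓ along Spec ℓ ⟶ Spec κ(y) ⟶ Y. Then there is exactly one point of X ×_Y Spec ℓ
mapping to x under the first projection. (The published statement takes ℓ to be an algebraic closure
of κ(y), noting that any algebraic extension works, and also identifies the local ring at the point
with O_{X,x} ⊗_{O_{Y,y}} ℓ; this row allows any algebraic extension ℓ and states only the first
assertion.) -/
theorem result {X Y : Scheme.{u}} (f : X ⟶ Y) (x : ↥X)
    (hx : Function.Bijective (f.residueFieldMap x).hom)
    (ℓ : Type u) [Field ℓ] [Algebra (Y.residueField (f.base x)) ℓ] [Algebra.IsAlgebraic (Y.residueField (f.base x)) ℓ] :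
    ∃! z : ↥(pullback f (Spec.map (CommRingCat.ofHom (algebraMap (Y.residueField (f.base x)) ℓ)) ≫ Y.fromSpecResidueField (f.base x))),
      (pullback.fst f (Spec.map (CommRingCat.ofHom (algebraMap (Y.residueField (f.base x)) ℓ)) ≫ Y.fromSpecResidueField (f.base x))).base z = x := by
  exact main f x hx ℓ

end Groth.Agent.S14679
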