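import Groth.Statements.S14680
import Mathlib

set_option autoImplicit false
universe u
open CAlg

namespace Groth.Agent.S14680

section Helpers

section
variable {A : Type u} [CommRing A] [IsNoetherianRing A]

/-- A finitely generated module whose completions at all maximal ideals vanish is zero. -/
lemma subsingleton_of_completions (K : Type u) [AddCommGroup K] [Module A K] [Module.Finite A K]
    (h : ∀ (m : Ideal A) [m.IsMaximal], Subsingleton (AdicCompletion m K)) : Subsingleton K := by
  by_contra hK
  rw [not_subsingleton_iff_nontrivial] at hK
  have hann : Module.annihilator A K ≠ ⊤ := by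
    intro htop
    have h1 : (1 : A) ∈ Module.annihilator A K := by rw [htop]; trivial
    obtain ⟨x, hx⟩ := exists_ne (0 : K)
    apply hx
    have := Module.mem_annihilator.1 h1 x
    simpa using this
  obtain ⟨m, hm, hle⟩ := Ideal.exists_le_maximal _ hann
  haveI := hm
  have hne : (m • ⊤ : Submodule A K) ≠ ⊤ := by
    intro htop
    obtain ⟨r, hr1, hr2⟩ := Submodule.exists_sub_one_mem_and_smul_eq_zero_of_fg_of_le_smul m
      (⊤ : Submodule A K) Module.Finite.fg_top (by rw [htop])
    have hrann : r ∈ Module.annihilator A K := by
      rw [Module.mem_annihilator]
      intro x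
      exact hr2 x trivial
    have hrm : r ∈ m := hle hrann
    have : (1 : A) ∈ m := by
      have := m.sub_mem hrm hr1
      simpa using this
    exact hm.ne_top ((Ideal.eq_top_iff_one m).2 this)
  have hsub := h m
  have hsurj := AdicCompletion.eval_surjective m K 1
  have hq : Subsingleton (K ⧸ (m ^ 1 • ⊤ : Submodule A K)) := hsurj.subsingleton
  rw [pow_one, Submodule.Quotient.subsingleton_iff] at hq
  exact hne hq

end

theorem main (A : Type u) [CommRing A] [IsNoetherianRing A]
    (M' M M'' : Type u) [AddCommGroup M'] [Module A M'] [AddCommGroup M] [Module A M] [AddCommGroup M''] [Module A M'']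
    [Module.Finite A M'] [Module.Finite A M] [Module.Finite A M''] (f : M' →ₗ[A] M) (g : M →ₗ[A] M'') :
    (Function.Injective f ∧ Function.Exact f g ∧ Function.Surjective g) ↔
      ∀ (m : Ideal A) [m.IsMaximal],
        Function.Injective (AdicCompletion.map m f) ∧ Function.Exact (AdicCompletion.map m f) (AdicCompletion.map m g) ∧
          Function.Surjective (AdicCompletion.map m g) := by
  haveI : IsNoetherian A M' := isNoetherian_of_isNoetherianRing_of_finite A M'
  haveI : IsNoetherian A M := isNoetherian_of_isNoetherianRing_of_finite A M
  haveI : IsNoetherian A M'' := isNoetherian_of_isNoetherianRing_of_finite A M''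
  constructor
  · rintro ⟨hf, hfg, hg⟩ m _
    exact ⟨AdicCompletion.map_injective m hf, AdicCompletion.map_exact hf hfg hg,
      AdicCompletion.map_surjective m hg⟩
  · intro h
    -- (i) injectivity
    have hf : Function.Injective f := by
      rw [← LinearMap.ker_eq_bot]
      have hsub : Subsingleton (LinearMap.ker f) := by
        refine subsingleton_of_completions (A := A) _ ?_
        intro m _
        obtain ⟨h1, -, -⟩ := h m
        let ι := (LinearMap.ker f).subtype
        have hι : Function.Injective (AdicCompletion.map m ι) :=
          AdicCompletion.map_injective m (Submodule.subtype_injective _)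
        have hzero : f ∘ₗ ι = 0 := by
          ext x; exact x.2
        refine ⟨fun x y => hι (h1 ?_)⟩
        rw [AdicCompletion.map_comp_apply, AdicCompletion.map_comp_apply, hzero,
          AdicCompletion.map_zero]
        rfl
      exact Submodule.eq_bot_of_subsingleton
    -- (ii) surjectivity
    have hg : Function.Surjective g := by
      rw [← LinearMap.range_eq_top]
      have hsub : Subsingleton (M'' ⧸ LinearMap.range g) := by
        refine subsingleton_of_completions (A := A) _ ?_
        intro m _
        obtain ⟨-, -, h3⟩ := h m
        let π := (LinearMap.range g).mkQ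
        have hπ : Function.Surjective (AdicCompletion.map m π) :=
          AdicCompletion.map_surjective m (Submodule.mkQ_surjective _)
        have hzero : π ∘ₗ g = 0 := by
          ext x
          simp [π]
        have hall : ∀ z, AdicCompletion.map m π z = 0 := by
          intro z
          obtain ⟨y, rfl⟩ := h3 z
          rw [AdicCompletion.map_comp_apply, hzero, AdicCompletion.map_zero]
          rfl
        refine ⟨fun x y => ?_⟩
        obtain ⟨x', rfl⟩ := hπ x
        obtain ⟨y', rfl⟩ := hπ y
        rw [hall, hall]
      exact Submodule.Quotient.subsingleton_iff.1 hsub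
    -- (iii) g ∘ f = 0
    have hgf : g ∘ₗ f = 0 := by
      have hsub : Subsingleton (LinearMap.range (g ∘ₗ f)) := by
        refine subsingleton_of_completions (A := A) _ ?_
        intro m _
        obtain ⟨-, h2, -⟩ := h m
        let q := (g ∘ₗ f).rangeRestrict
        let j := (LinearMap.range (g ∘ₗ f)).subtype
        have hq : Function.Surjective (AdicCompletion.map m q) :=
          AdicCompletion.map_surjective m (LinearMap.surjective_rangeRestrict _)
        have hj : Function.Injective (AdicCompletion.map m j) :=
          AdicCompletion.map_injective m (Submodule.subtype_injective _)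
        have hjq : j ∘ₗ q = g ∘ₗ f := by ext x; rfl
        have hall : ∀ z, AdicCompletion.map m j z = 0 := by
          intro z
          obtain ⟨y, rfl⟩ := hq z
          rw [AdicCompletion.map_comp_apply, hjq, ← AdicCompletion.map_comp_apply]
          exact h2.apply_apply_eq_zero y
        refine ⟨fun x y => hj ?_⟩
        rw [hall, hall]
      ext x
      have : (⟨(g ∘ₗ f) x, ⟨x, rfl⟩⟩ : LinearMap.range (g ∘ₗ f)) = 0 := Subsingleton.elim _ _
      exact congrArg Subtype.val this
    refine ⟨hf, ?_, hg⟩
    -- (iv) ker g ≤ range f
    refine LinearMap.exact_of_comp_eq_zero_of_ker_le_range hgf ?_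
    let f'' : M' →ₗ[A] LinearMap.ker g := f.codRestrict (LinearMap.ker g) (fun x => by
      change g (f x) = 0
      exact LinearMap.congr_fun hgf x)
    have hsub : Subsingleton ((LinearMap.ker g) ⧸ LinearMap.range f'') := by
      refine subsingleton_of_completions (A := A) _ ?_
      intro m _
      obtain ⟨-, h2, -⟩ := h m
      let π := (LinearMap.range f'').mkQ
      let ι := (LinearMap.ker g).subtype
      have hπ : Function.Surjective (AdicCompletion.map m π) :=
        AdicCompletion.map_surjective m (Submodule.mkQ_surjective _)
      have hι : Function.Injective (AdicCompletion.map m ι) :=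
        AdicCompletion.map_injective m (Submodule.subtype_injective _)
      have hzero : π ∘ₗ f'' = 0 := by
        ext x
        simp [π]
      have hgι : g ∘ₗ ι = 0 := by
        ext x; exact x.2
      have hιf : ι ∘ₗ f'' = f := by ext x; rfl
      have hall : ∀ z, AdicCompletion.map m π z = 0 := by
        intro z
        have hz : AdicCompletion.map m g (AdicCompletion.map m ι z) = 0 := by
          rw [AdicCompletion.map_comp_apply, hgι, AdicCompletion.map_zero]; rfl
        obtain ⟨x, hx⟩ := (h2 _).1 hz
        have : z = AdicCompletion.map m f'' x := by
          apply hι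
          rw [AdicCompletion.map_comp_apply, hιf, hx]
        rw [this, AdicCompletion.map_comp_apply, hzero, AdicCompletion.map_zero]
        rfl
      refine ⟨fun x y => ?_⟩
      obtain ⟨x', rfl⟩ := hπ x
      obtain ⟨y', rfl⟩ := hπ y
      rw [hall, hall]
    have htop := Submodule.Quotient.subsingleton_iff.1 hsub
    intro y hy
    have : (⟨y, hy⟩ : LinearMap.ker g) ∈ LinearMap.range f'' := by rw [htop]; trivial
    obtain ⟨x, hx⟩ := this
    exact ⟨x, congrArg Subtype.val hx⟩

end Helpers

/-- Let A be a Noetherian commutative ring and f : M' → M, g : M → M'' linear maps between finitely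
generated A-modules. Then the sequence 0 → M' → M → M'' → 0 is exact — f injective, the image of f
equal to the kernel of g, g surjective — if and only if for every maximal ideal m of A the sequence
of m-adic completions 0 → M'^ → M^ → M''^ → 0 (maps induced by f and g) is exact in the same sense. -/
theorem result (A : Type u) [CommRing A] [IsNoetherianRing A]
    (M' M M'' : Type u) [AddCommGroup M'] [Module A M'] [AddCommGroup M] [Module A M] [AddCommGroup M''] [Module A M'']
    [Module.Finite A M'] [Module.Finite A M] [Module.Finite A M''] (f : M' →ₗ[A] M) (g : M →ₗ[A] M'') :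
    (Function.Injective f ∧ Function.Exact f g ∧ Function.Surjective g) ↔
      ∀ (m : Ideal A) [m.IsMaximal],
        Function.Injective (AdicCompletion.map m f) ∧ Function.Exact (AdicCompletion.map m f) (AdicCompletion.map m g) ∧
          Function.Surjective (AdicCompletion.map m g) := by
  exact main A M' M M'' f g

end Groth.Agent.S14680
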