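import Groth.Statements.S14693
import Mathlib

set_option autoImplicit false
universe u
open CategoryTheory AlgebraicGeometry
open SekSuwa

namespace Groth.Agent.S14693

section Helpers

open CategoryTheory AlgebraicGeometry SekSuwa Limits MonObj CartesianMonoidalCategory

variable (R : Type u) [CommRing R] (lam : R) (N : ℕ) (h : DivCond lam N)

/-- the pushout square of coordinate rings. -/
theorem isPushout_rings :
    IsPushout (CommRingCat.ofHom (psiHom R lam N h : A R (lam ^ N) →+* A R lam))
      (CommRingCat.ofHom (Bialgebra.counitAlgHom R (A R (lam ^ N)) : A R (lam ^ N) →+* R))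
      (CommRingCat.ofHom (AK.mkHom R lam N h : A R lam →+* AK R lam N h))
      (CommRingCat.ofHom (algebraMap R (AK R lam N h))) := by
  have hw : CommRingCat.ofHom (psiHom R lam N h : A R (lam ^ N) →+* A R lam) ≫
      CommRingCat.ofHom (AK.mkHom R lam N h : A R lam →+* AK R lam N h) =
      CommRingCat.ofHom (Bialgebra.counitAlgHom R (A R (lam ^ N)) : A R (lam ^ N) →+* R) ≫
      CommRingCat.ofHom (algebraMap R (AK R lam N h)) := by
    ext x
    have := congrArg (fun f : A R (lam ^ N) →ₐc[R] AK R lam N h => f x)
      (mkHom_comp_psiHom R lam N h)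
    simp only [BialgHom.comp_apply] at this
    exact this
  refine ⟨⟨hw⟩, ⟨PushoutCocone.IsColimit.mk _ (fun s => ?_) (fun s => ?_) (fun s => ?_)
    (fun s m h1 h2 => ?_)⟩⟩
  · -- desc
    refine CommRingCat.ofHom (Ideal.Quotient.lift (kerIdeal lam N h) s.inl.hom ?_)
    intro a ha
    obtain ⟨d, rfl⟩ := Ideal.mem_span_singleton'.mp ha
    rw [map_mul]
    have : s.inl.hom (kerGen lam N h) = 0 := by
      have hc := congrArg (fun f => f.hom (A.t : A R (lam ^ N))) s.condition
      simp only [CommRingCat.hom_comp, CommRingCat.hom_ofHom, RingHom.comp_apply] at hc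
      have e1 : (psiHom R lam N h : A R (lam ^ N) →+* A R lam) A.t
          = kerGen lam N h := psiHom_t R lam N h
      have e2 : (Bialgebra.counitAlgHom R (A R (lam ^ N)) : A R (lam ^ N) →+* R) A.t = 0 :=
        A.counit_t
      rw [e1, e2, map_zero] at hc
      exact hc
    rw [this, mul_zero]
  · -- fac left
    ext a
    rfl
  · -- fac right
    ext x
    have hc := congrArg (fun f => f.hom (algebraMap R (A R (lam ^ N)) x)) s.condition
    simp only [CommRingCat.hom_comp, CommRingCat.hom_ofHom, RingHom.comp_apply] at hc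
    have e1 : (psiHom R lam N h : A R (lam ^ N) →+* A R lam)
        (algebraMap R (A R (lam ^ N)) x) = algebraMap R (A R lam) x :=
      AlgHom.commutes (psiHom R lam N h : A R (lam ^ N) →ₐ[R] A R lam) x
    have e2 : (Bialgebra.counitAlgHom R (A R (lam ^ N)) : A R (lam ^ N) →+* R)
        (algebraMap R (A R (lam ^ N)) x) = x := by
      have := AlgHom.commutes (Bialgebra.counitAlgHom R (A R (lam ^ N))) x
      simpa using this
    rw [e1, e2] at hc
    simp only [CommRingCat.hom_comp, CommRingCat.hom_ofHom, RingHom.comp_apply]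
    rw [← hc]
    rfl
  · -- uniqueness
    ext a
    obtain ⟨a, rfl⟩ := Ideal.Quotient.mk_surjective a
    have := congrArg (fun f => f.hom a) h1
    exact this

theorem main : AlgGrp.IsKernel (SekSuwa.incl R lam N h) (SekSuwa.psi R lam N h) := by
  unfold AlgGrp.IsKernel
  have e : incl R lam N h ≫ psi R lam N h = toUnit (GK R lam N h) ≫ η[G R (lam ^ N)] := by
    rw [incl_psi]
    rfl
  refine IsPullback.of_map (Over.forget _) e ?_
  exact isPullback_SpecMap_of_isPushout _ _ _ _ (isPushout_rings R lam N h)

end Helpers

/-- For any commutative ring R, λ ∈ R and N such that λ is a non-zero-divisor and λ^N divides (1 + λX)^N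
− 1 in R[X] with quotient P_{λ,N}, the closed subgroup scheme G_{λ,N} = Spec R[T]/(P_{λ,N}(T)) of
the affine R-group G^(λ) = Spec R[T, 1/(1+λT)] (group law s + t + λst) is the kernel of the
homomorphism ψ_{λ,N} : G^(λ) → G^(λ^N), T ↦ P_{λ,N}(T): the square with sides the inclusion G_{λ,N}
→ G^(λ), ψ_{λ,N}, the unit section of G^(λ^N) and G_{λ,N} → Spec R is cartesian. (The published
text, over a discrete valuation ring and with N = p^n, introduces G_{λ,n} as the kernel of the
isogeny ψ_{λ,n}; this row is that assertion for every N, including the degenerate N = 0 where ψ is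
trivial and G_{λ,0} = G^(λ).) -/
theorem result (R : Type u) [CommRing R] (lam : R) (N : ℕ) (h : SekSuwa.DivCond lam N) :
    AlgGrp.IsKernel (SekSuwa.incl R lam N h) (SekSuwa.psi R lam N h) := by
  exact main R lam N h

end Groth.Agent.S14693
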