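import Groth.Statements.S14694
import Mathlib
import Groth.Agent.Lib.helper22.SekSuwaK

set_option autoImplicit false
universe u
open CategoryTheory AlgebraicGeometry
open SekSuwa

namespace Groth.Agent.S14694

section Helpers

open CategoryTheory AlgebraicGeometry SekSuwa

open Groth.Agent.H22.SekSuwaK in
theorem main' (R : Type u) [CommRing R] (lam : R) (N : ℕ) (hN : 0 < N) (h : SekSuwa.DivCond lam N) :
    Mor2.IsFinLocFreeOfDeg N (Spec.map (CommRingCat.ofHom (algebraMap R (AK R lam N h)))) := by
  haveI hfin : Module.Finite R (AK R lam N h) := finite_AK R lam N h hN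
  haveI hfree : Module.Free R (AK R lam N h) := free_AK' R lam N h hN
  haveI : Module.FinitePresentation R (AK R lam N h) := Module.finitePresentation_of_projective _ _
  refine ⟨⟨?_, ?_, ?_⟩, ?_⟩
  · rw [IsFinite.SpecMap_iff]
    exact (RingHom.finite_algebraMap).mpr hfin
  · rw [Flat.SpecMap_iff]
    exact (RingHom.flat_algebraMap_iff).mpr inferInstance
  · rw [HasRingHomProperty.Spec_iff (P := @LocallyOfFinitePresentation)]
    exact (RingHom.finitePresentation_algebraMap).mpr inferInstance
  · intro y
    haveI : Nontrivial R := (PrimeSpectrum.nonempty_iff_nontrivial).mp ⟨y⟩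
    rw [Scheme.Hom.finrank_SpecMap_algebraMap R (AK R lam N h) y,
      Module.rankAtStalk_eq_finrank_of_free]
    rw [finrank_AK R lam N h hN]
    rfl

theorem main (R : Type u) [CommRing R] (lam : R) (N : ℕ) (hN : 0 < N) (h : SekSuwa.DivCond lam N) :
    Mor2.IsFinLocFreeOfDeg N (SekSuwa.GK R lam N h).hom := main' R lam N hN h

end Helpers

/-- For any commutative ring R, λ ∈ R and N ≥ 1 such that λ is a non-zero-divisor and λ^N divides (1 +
λX)^N − 1 in R[X] with quotient P_{λ,N}, the R-group scheme G_{λ,N}, defined as the closed subscheme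
of the affine R-group G^(λ) = Spec R[T, 1/(1+λT)] cut out by P_{λ,N}(T), is finite locally free of
degree N over Spec R (its coordinate ring is R[T]/(P_{λ,N}(T)) with P_{λ,N} monic of degree N). (The
published text states this over a discrete valuation ring with N = p^n: G_{λ,n} is a commutative
finite flat group scheme of rank p^n.) -/
theorem result (R : Type u) [CommRing R] (lam : R) (N : ℕ) (hN : 0 < N) (h : SekSuwa.DivCond lam N) :
    Mor2.IsFinLocFreeOfDeg N (SekSuwa.GK R lam N h).hom := by
  exact main R lam N hN h

end Groth.Agent.S14694
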