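import Groth.Statements.S1471
import Mathlib
-- import your own Groth.Agent.* helpers here

set_option autoImplicit false
universe u
open FlatMor

namespace Groth.Agent.S1471

open AlgebraicGeometry CategoryTheory Limits in
theorem isReduced_nilradical_subscheme (X : Scheme.{u}) : IsReduced X.nilradical.subscheme := by
  have : ∀ i, IsReduced (X.nilradical.subschemeCover.openCover.X i) := by
    intro (U : X.affineOpens)
    change IsReduced (Spec (.of <| Γ(X, U.1) ⧸ X.nilradical.ideal U))
    have : _root_.IsReduced (Γ(X, U.1) ⧸ X.nilradical.ideal U) := by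
      rw [← Ideal.isRadical_iff_quotient_reduced]
      change ((⊥ : X.IdealSheafData).radical.ideal U).IsRadical
      rw [Scheme.IdealSheafData.radical_ideal]
      exact Ideal.radical_isRadical _
    infer_instance
  exact IsReduced.of_openCover _ X.nilradical.subschemeCover.openCover

open AlgebraicGeometry CategoryTheory Limits in
theorem isReduced_of_flat_of_surjectiveOnStalks {G Z : Scheme.{u}} (p : G ⟶ Z) [Flat p]
    [SurjectiveOnStalks p] [IsReduced Z] : IsReduced G := by
  have : ∀ x : G, _root_.IsReduced (G.presheaf.stalk x) := by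
    intro x
    have hinj : Function.Injective (p.stalkMap x).hom := by
      algebraize [(p.stalkMap x).hom]
      have : Module.FaithfullyFlat (Z.presheaf.stalk (p x)) (G.presheaf.stalk x) :=
        @Module.FaithfullyFlat.of_flat_of_isLocalHom _ _ _ _ _ _ _
          (Flat.stalkMap p x) (p.toLRSHom.prop x)
      exact ‹RingHom.FaithfullyFlat _›.injective
    have hsurj : Function.Surjective (p.stalkMap x).hom := p.stalkMap_surjective x
    let e : Z.presheaf.stalk (p x) ≃+* G.presheaf.stalk x :=
      RingEquiv.ofBijective (p.stalkMap x).hom ⟨hinj, hsurj⟩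
    exact isReduced_of_injective e.symm e.symm.injective
  exact isReduced_of_isReduced_stalk G

open AlgebraicGeometry CategoryTheory Limits in
theorem flat_isAffineOpen_fromSpecStalk {Y : Scheme.{u}} {U : Y.Opens} (hU : IsAffineOpen U)
    (y : Y) (hy : y ∈ U) : Flat (hU.fromSpecStalk hy) := by
  dsimp [IsAffineOpen.fromSpecStalk]
  have : Flat (Spec.map (Y.presheaf.germ U y hy)) := by
    rw [Flat.SpecMap_iff]
    let _ : Algebra Γ(Y, U) (Y.presheaf.stalk y) := (Y.presheaf.germ U y hy).hom.toAlgebra
    have := hU.isLocalization_stalk ⟨y, hy⟩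
    exact RingHom.flat_algebraMap_iff.mpr
      (IsLocalization.flat _ (hU.primeIdealOf ⟨y, hy⟩).asIdeal.primeCompl)
  infer_instance

open AlgebraicGeometry CategoryTheory Limits in
theorem flat_fromSpecStalk (Y : Scheme.{u}) (y : Y) : Flat (Y.fromSpecStalk y) :=
  flat_isAffineOpen_fromSpecStalk _ _ _

open AlgebraicGeometry CategoryTheory Limits in
theorem subsingleton_spec_stalk_of_isGenericPoint {Y : Scheme.{u}} (η : Y) (W : Set ↑Y)
    (hW : W ∈ irreducibleComponents ↑Y) (hη : IsGenericPoint η W) :
    Subsingleton ↥(Spec (Y.presheaf.stalk η)) := by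
  have key : ∀ y : Y, y ⤳ η → y = η := by
    intro y hy
    have h1 : closure {η} ⊆ closure {y} := hy.closure_subset
    have h2 : IsIrreducible (closure ({y} : Set Y)) := isIrreducible_singleton.closure
    have h3 : closure {y} ≤ W := hW.2 h2 (by rw [← hη.def]; exact h1)
    have h4 : closure {y} = closure {η} := le_antisymm (by rw [hη.def]; exact h3) h1
    have : Inseparable y η := (inseparable_iff_closure_eq).mpr h4
    exact this.eq
  refine ⟨fun a b ↦ ?_⟩
  apply (Y.fromSpecStalk η).isEmbedding.injective
  rw [key _ (Scheme.range_fromSpecStalk.le ⟨a, rfl⟩), key _ (Scheme.range_fromSpecStalk.le ⟨b, rfl⟩)]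

open AlgebraicGeometry CategoryTheory Limits in
/-- Let f : X → Y and η a generic point of an irreducible component of Y. Then the fibre over η of the
composite X_red → X → Y is reduced; since it is a closed subscheme of X_η with the same underlying
set, this says (X_η)_red = (X_red)_η. -/
theorem result {X Y : Scheme.{u}} (f : X ⟶ Y) (η : Y) (W : Set ↑Y) (hW : W ∈ irreducibleComponents ↑Y) (hη : IsGenericPoint η W) :
    IsReduced ((X.nilradical.subschemeι ≫ f).fiber η) := by
  have hZ : IsReduced X.nilradical.subscheme := isReduced_nilradical_subscheme X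
  have hb : Flat (Y.fromSpecStalk η) := flat_fromSpecStalk Y η
  have hG : IsReduced (pullback (X.nilradical.subschemeι ≫ f) (Y.fromSpecStalk η)) :=
    isReduced_of_flat_of_surjectiveOnStalks
      (pullback.fst (X.nilradical.subschemeι ≫ f) (Y.fromSpecStalk η))
  have hsub := subsingleton_spec_stalk_of_isGenericPoint η W hW hη
  have hsurj : Surjective (Spec.map (Y.residue η)) := by
    refine ⟨fun x ↦ ?_⟩
    obtain ⟨z⟩ : Nonempty ↥(Spec (Y.residueField η)) := inferInstance
    exact ⟨z, Subsingleton.elim _ _⟩
  have hiso : IsIso (pullback.fst (pullback.snd (X.nilradical.subschemeι ≫ f) (Y.fromSpecStalk η))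
      (Spec.map (Y.residue η))) :=
    isIso_of_isClosedImmersion_of_surjective _
  have h1 : IsReduced (pullback (pullback.snd (X.nilradical.subschemeι ≫ f) (Y.fromSpecStalk η))
      (Spec.map (Y.residue η))) :=
    isReduced_of_isOpenImmersion (pullback.fst (pullback.snd (X.nilradical.subschemeι ≫ f)
      (Y.fromSpecStalk η)) (Spec.map (Y.residue η)))
  exact isReduced_of_isOpenImmersion (pullbackLeftPullbackSndIso (X.nilradical.subschemeι ≫ f)
    (Y.fromSpecStalk η) (Spec.map (Y.residue η))).inv

end Groth.Agent.S1471
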