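import Groth.Statements.S14727
import Mathlib

set_option autoImplicit false
universe u
open ValPrufer

namespace Groth.Agent.S14727

section Helpers

variable {R : Type u} [CommRing R] (I : Ideal R)

/-- the kernel ideal of `R → R_m / J R_m`. -/
noncomputable def Kid (J : Ideal R) (m : Ideal R) [m.IsPrime] : Ideal R :=
  Submodule.comap (Algebra.linearMap R (Localization.AtPrime m)) (J • ⊤ : Submodule R (Localization.AtPrime m))

theorem mem_smul_top_iff (J : Ideal R) (m : Ideal R) [m.IsPrime] (z : Localization.AtPrime m) :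
    z ∈ (J • ⊤ : Submodule R (Localization.AtPrime m)) ↔
      z ∈ Ideal.map (algebraMap R (Localization.AtPrime m)) J := by
  rw [Ideal.smul_top_eq_map]
  rfl

theorem mem_Kid_iff (J : Ideal R) (m : Ideal R) [m.IsPrime] (x : R) :
    x ∈ Kid J m ↔ ∃ s : R, s ∉ m ∧ s * x ∈ J := by
  change algebraMap R (Localization.AtPrime m) x ∈ (J • ⊤ : Submodule R (Localization.AtPrime m)) ↔ _
  rw [mem_smul_top_iff, IsLocalization.mem_map_algebraMap_iff m.primeCompl]
  constructor
  · rintro ⟨⟨⟨a, ha⟩, ⟨s, hs⟩⟩, h⟩
    simp only at h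
    rw [← map_mul] at h
    obtain ⟨⟨t, ht⟩, hts⟩ := (IsLocalization.eq_iff_exists m.primeCompl _).1 h
    simp only at hts
    refine ⟨t * s, ?_, ?_⟩
    · exact fun hm => (Ideal.IsPrime.mem_or_mem inferInstance hm).elim ht hs
    · have : t * s * x = t * a := by rw [← hts]; ring
      rw [this]
      exact J.mul_mem_left t ha
  · rintro ⟨s, hs, hsx⟩
    refine ⟨⟨⟨s * x, hsx⟩, ⟨s, hs⟩⟩, ?_⟩
    simp only
    rw [← map_mul, mul_comm]

theorem le_Kid (J : Ideal R) (m : Ideal R) [m.IsPrime] : J ≤ Kid J m := by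
  intro x hx
  rw [mem_Kid_iff]
  exact ⟨1, fun h => (Ideal.ne_top_iff_one m).1 (Ideal.IsPrime.ne_top inferInstance) h,
    by rwa [one_mul]⟩

theorem mem_of_forall_mem_Kid (n : ℕ) (x : R)
    (h : ∀ m : Ideal R, ∀ hm : m.IsMaximal, I ≤ m → x ∈ @Kid R _ (I ^ n) m hm.isPrime) :
    x ∈ I ^ n := by
  by_contra hx
  have hC : Submodule.colon (I ^ n) ({x} : Set R) ≠ ⊤ := by
    intro htop
    have : (1 : R) ∈ Submodule.colon (I ^ n) ({x} : Set R) := htop ▸ Submodule.mem_top
    rw [Submodule.mem_colon_singleton, smul_eq_mul, one_mul] at this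
    exact hx this
  obtain ⟨M, hM, hCM⟩ := Ideal.exists_le_maximal _ hC
  by_cases hIM : I ≤ M
  · haveI := hM.isPrime
    obtain ⟨s, hs, hsx⟩ := (mem_Kid_iff (I ^ n) M x).1 (h M hM hIM)
    exact hs (hCM (Submodule.mem_colon_singleton.2 hsx))
  · obtain ⟨i, hiI, hiM⟩ := SetLike.not_le_iff_exists.1 hIM
    have : i ^ n ∈ Submodule.colon (I ^ n) ({x} : Set R) :=
      Submodule.mem_colon_singleton.2 ((I ^ n).mul_mem_right x (Ideal.pow_mem_pow hiI n))
    exact hiM (hM.isPrime.mem_of_pow_mem n (hCM this))

theorem prime_of_Kid_le (hI : ∀ (p : Ideal R), p.IsPrime → I ≤ p → p.IsMaximal) (n : ℕ)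
    (m : Ideal R) [hm : m.IsMaximal] (p : Ideal R) (hp : p.IsPrime) (hKp : Kid (I ^ n) m ≤ p) :
    p = m := by
  have hIp : I ≤ p := hp.le_of_pow_le ((le_Kid (I ^ n) m).trans hKp)
  have hpmax := hI p hp hIp
  by_contra hne
  have hnle : ¬ m ≤ p := fun hle => hne (hm.eq_of_le hpmax.ne_top hle).symm
  obtain ⟨x, hxm, hxp⟩ := SetLike.not_le_iff_exists.1 hnle
  have hrad : algebraMap R (Localization.AtPrime m) x
      ∈ (Ideal.map (algebraMap R (Localization.AtPrime m)) (I ^ n)).radical := by
    rw [Ideal.radical_eq_sInf, Ideal.mem_sInf]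
    rintro P ⟨hP, hPprime⟩
    have hcomap : (P.comap (algebraMap R (Localization.AtPrime m))).IsPrime :=
      Ideal.comap_isPrime _ P
    have hIc : I ≤ P.comap (algebraMap R (Localization.AtPrime m)) :=
      hcomap.le_of_pow_le (Ideal.map_le_iff_le_comap.1 hP)
    have hcmax := hI _ hcomap hIc
    have hcm : P.comap (algebraMap R (Localization.AtPrime m)) ≤ m := by
      intro s hs
      by_contra hsm
      have hu : IsUnit (algebraMap R (Localization.AtPrime m) s) :=
        IsLocalization.map_units (Localization.AtPrime m) (⟨s, hsm⟩ : m.primeCompl)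
      exact hPprime.ne_top (Ideal.eq_top_of_isUnit_mem _ (Ideal.mem_comap.1 hs) hu)
    have := hcmax.eq_of_le hm.ne_top hcm
    have hx' : x ∈ P.comap (algebraMap R (Localization.AtPrime m)) := by
      rw [this]; exact hxm
    exact hx'
  obtain ⟨N, hN⟩ := hrad
  rw [← map_pow, ← mem_smul_top_iff] at hN
  have hxN : x ^ N ∈ Kid (I ^ n) m := hN
  exact hxp (hp.mem_of_pow_mem N (hKp hxN))

theorem exists_lift (hI : ∀ (p : Ideal R), p.IsPrime → I ≤ p → p.IsMaximal) (n : ℕ)
    (m : Ideal R) [hm : m.IsMaximal] (z : Localization.AtPrime m) :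
    ∃ t : R, z - algebraMap R (Localization.AtPrime m) t
      ∈ (I ^ n • ⊤ : Submodule R (Localization.AtPrime m)) := by
  obtain ⟨r, ⟨s, hs⟩, rfl⟩ := IsLocalization.exists_mk'_eq m.primeCompl z
  have hsup : Ideal.span {s} ⊔ Kid (I ^ n) m = ⊤ := by
    by_contra hne
    obtain ⟨M, hM, hle⟩ := Ideal.exists_le_maximal _ hne
    have := prime_of_Kid_le I hI n m M hM.isPrime (le_sup_right.trans hle)
    subst this
    exact hs (hle (Ideal.mem_sup_left (Ideal.mem_span_singleton_self s)))
  have h1 : (1 : R) ∈ Ideal.span {s} ⊔ Kid (I ^ n) m := hsup ▸ Submodule.mem_top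
  obtain ⟨a, ha, k, hk, hak⟩ := Submodule.mem_sup.1 h1
  obtain ⟨t, rfl⟩ := Ideal.mem_span_singleton'.1 ha
  refine ⟨t * r, ?_⟩
  rw [mem_smul_top_iff]
  have hk' : algebraMap R (Localization.AtPrime m) k
      ∈ Ideal.map (algebraMap R (Localization.AtPrime m)) (I ^ n) := by
    rw [← mem_smul_top_iff]; exact hk
  have hspec : IsLocalization.mk' (Localization.AtPrime m) r (⟨s, hs⟩ : m.primeCompl)
      * algebraMap R (Localization.AtPrime m) s = algebraMap R (Localization.AtPrime m) r :=
    IsLocalization.mk'_spec _ r ⟨s, hs⟩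
  have e : IsLocalization.mk' (Localization.AtPrime m) r (⟨s, hs⟩ : m.primeCompl)
      - algebraMap R (Localization.AtPrime m) (t * r)
      = IsLocalization.mk' (Localization.AtPrime m) r (⟨s, hs⟩ : m.primeCompl)
        * algebraMap R (Localization.AtPrime m) k := by
    have h2 : algebraMap R (Localization.AtPrime m) (t * s + k) = 1 := by rw [hak, map_one]
    rw [map_add, map_mul] at h2
    rw [map_mul]
    linear_combination (-(IsLocalization.mk' (Localization.AtPrime m) r (⟨s, hs⟩ : m.primeCompl))) * h2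
      + algebraMap R (Localization.AtPrime m) t * hspec
  rw [e]
  exact Ideal.mul_mem_left _ _ hk'

theorem Kid_coprime (hI : ∀ (p : Ideal R), p.IsPrime → I ≤ p → p.IsMaximal) (n : ℕ)
    (m m' : Ideal R) [hm : m.IsMaximal] [hm' : m'.IsMaximal] (hne : m ≠ m') :
    IsCoprime (Kid (I ^ n) m) (Kid (I ^ n) m') := by
  rw [Ideal.isCoprime_iff_sup_eq]
  by_contra h
  obtain ⟨M, hM, hle⟩ := Ideal.exists_le_maximal _ h
  have h1 := prime_of_Kid_le I hI n m M hM.isPrime (le_sup_left.trans hle)
  have h2 := prime_of_Kid_le I hI n m' M hM.isPrime (le_sup_right.trans hle)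
  exact hne (h1.symm.trans h2)

theorem main
    (R : Type u) [CommRing R] (hR : Finite (MaximalSpectrum R)) (I : Ideal R)
    (hI : ∀ (p : Ideal R), p.IsPrime → I ≤ p → p.IsMaximal) :
    Function.Bijective (LinearMap.pi (fun m : {m : MaximalSpectrum R // I ≤ m.asIdeal} =>
      AdicCompletion.map I (Algebra.linearMap R (Localization.AtPrime m.1.asIdeal)))) := by
  classical
  -- basic facts
  have hmk : ∀ (m : {m : MaximalSpectrum R // I ≤ m.asIdeal}) (n : ℕ) (r : R),
      (Algebra.linearMap R (Localization.AtPrime m.1.asIdeal)).reduceModIdeal (I ^ n)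
        (Submodule.Quotient.mk r)
      = Submodule.Quotient.mk (algebraMap R (Localization.AtPrime m.1.asIdeal) r) := fun m n r => rfl
  have hself : ∀ (n : ℕ) (r : R), r ∈ (I ^ n • ⊤ : Submodule R R) ↔ r ∈ I ^ n := by
    intro n r
    rw [smul_eq_mul, Ideal.mul_top]
  constructor
  · -- injective
    rw [injective_iff_map_eq_zero]
    intro x hx
    apply AdicCompletion.ext
    intro n
    obtain ⟨r, hr⟩ := Submodule.Quotient.mk_surjective _ (x.val n)
    rw [← hr, AdicCompletion.val_zero_apply, Submodule.Quotient.mk_eq_zero, hself]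
    apply mem_of_forall_mem_Kid I n r
    intro m hm hIm
    have h1 := congrFun hx ⟨⟨m, hm⟩, hIm⟩
    have h2 := congrArg (fun y : AdicCompletion I (Localization.AtPrime m) => y.val n) h1
    simp only [LinearMap.pi_apply, AdicCompletion.map_val_apply, Pi.zero_apply,
      AdicCompletion.val_zero_apply] at h2
    rw [← hr] at h2
    change (Submodule.Quotient.mk (algebraMap R (Localization.AtPrime m) r)
      : Localization.AtPrime m ⧸ (I ^ n • ⊤ : Submodule R _)) = 0 at h2
    rw [Submodule.Quotient.mk_eq_zero] at h2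
    exact h2
  · -- surjective
    intro y
    haveI : Finite {m : MaximalSpectrum R // I ≤ m.asIdeal} := Subtype.finite
    -- choose lifts
    have hlift : ∀ (n : ℕ) (m : {m : MaximalSpectrum R // I ≤ m.asIdeal}), ∃ t : R,
        (Submodule.Quotient.mk (algebraMap R (Localization.AtPrime m.1.asIdeal) t)
          : Localization.AtPrime m.1.asIdeal ⧸ (I ^ n • ⊤ : Submodule R _)) = (y m).val n := by
      intro n m
      obtain ⟨z, hz⟩ := Submodule.Quotient.mk_surjective _ ((y m).val n)
      haveI := m.1.isMaximal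
      obtain ⟨t, ht⟩ := exists_lift I hI n m.1.asIdeal z
      refine ⟨t, ?_⟩
      rw [← hz, eq_comm, Submodule.Quotient.eq]
      exact ht
    choose t ht using hlift
    have hcop : ∀ n : ℕ, Pairwise (Function.onFun IsCoprime fun m : {m : MaximalSpectrum R // I ≤ m.asIdeal} =>
        @Kid R _ (I ^ n) m.1.asIdeal m.1.isMaximal.isPrime) := by
      intro n m m' hne
      haveI := m.1.isMaximal
      haveI := m'.1.isMaximal
      apply Kid_coprime I hI n
      intro h
      apply hne
      apply Subtype.ext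
      exact MaximalSpectrum.ext h
    have hcrt : ∀ n : ℕ, ∃ x : R, ∀ m : {m : MaximalSpectrum R // I ≤ m.asIdeal},
        x - t n m ∈ @Kid R _ (I ^ n) m.1.asIdeal m.1.isMaximal.isPrime :=
      fun n => Ideal.exists_forall_sub_mem_ideal (hcop n) (t n)
    choose x hx using hcrt
    have hxy : ∀ (n : ℕ) (m : {m : MaximalSpectrum R // I ≤ m.asIdeal}),
        (Submodule.Quotient.mk (algebraMap R (Localization.AtPrime m.1.asIdeal) (x n))
          : Localization.AtPrime m.1.asIdeal ⧸ (I ^ n • ⊤ : Submodule R _)) = (y m).val n := by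
      intro n m
      rw [← ht n m, Submodule.Quotient.eq, ← map_sub]
      exact hx n m
    have hcompat : ∀ {k n : ℕ} (hkn : k ≤ n),
        AdicCompletion.transitionMap I R hkn (Submodule.Quotient.mk (x n))
          = Submodule.Quotient.mk (x k) := by
      intro k n hkn
      change Submodule.factor _ (Submodule.mkQ _ (x n)) = _
      rw [Submodule.factor_mk]
      change Submodule.Quotient.mk (x n) = Submodule.Quotient.mk (x k)
      rw [Submodule.Quotient.eq, hself]
      apply mem_of_forall_mem_Kid I k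
      intro m hm hIm
      change algebraMap R (Localization.AtPrime m) (x n - x k)
        ∈ (I ^ k • ⊤ : Submodule R (Localization.AtPrime m))
      rw [map_sub, ← Submodule.Quotient.eq]
      have h1 := hxy n ⟨⟨m, hm⟩, hIm⟩
      have h2 := hxy k ⟨⟨m, hm⟩, hIm⟩
      have h3 := (y ⟨⟨m, hm⟩, hIm⟩).2 hkn
      rw [h2, ← h3]
      change _ = Submodule.factor _ _
      rw [← h1]
      change _ = Submodule.factor _ (Submodule.mkQ _ _)
      rw [Submodule.factor_mk]
      rfl
    refine ⟨⟨fun n => Submodule.Quotient.mk (x n), fun hkn => hcompat hkn⟩, ?_⟩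
    funext m
    apply AdicCompletion.ext
    intro n
    simp only [LinearMap.pi_apply, AdicCompletion.map_val_apply]
    rw [hmk]
    exact hxy n m

end Helpers

/-- Let R be a semilocal ring (finitely many maximal ideals) and I an ideal of R of co-height zero, i.e.
every prime ideal containing I is maximal. Then the canonical map from the I-adic completion of R to
the product, over the maximal ideals m ⊇ I, of the I-adic completions of the local rings R_m
(equivalently their IR_m-adic completions) is bijective; it is the continuous ring isomorphism of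
the source, stated here as bijectivity of the canonical map of completed modules. -/
theorem result
    (R : Type u) [CommRing R] (hR : Finite (MaximalSpectrum R)) (I : Ideal R)
    (hI : ∀ (p : Ideal R), p.IsPrime → I ≤ p → p.IsMaximal) :
    Function.Bijective (LinearMap.pi (fun m : {m : MaximalSpectrum R // I ≤ m.asIdeal} =>
      AdicCompletion.map I (Algebra.linearMap R (Localization.AtPrime m.1.asIdeal)))) := by
  exact main R hR I hI

end Groth.Agent.S14727
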