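import Groth.Statements.S14730
import Mathlib
import Groth.Agent.Lib.helper22.ValDim

set_option autoImplicit false
universe u
open ValPrufer

namespace Groth.Agent.S14730

section Helpers

open Groth.Agent.H22.ValDim

theorem prufer_of_equiv {A B : Type*} [CommRing A] [CommRing B] [IsDomain A] [IsDomain B]
    (e : A ≃+* B)
    (hB : ∀ (p : Ideal B) [p.IsPrime], ValuationRing (Localization.AtPrime p))
    (p : Ideal A) [p.IsPrime] : ValuationRing (Localization.AtPrime p) := by
  let q : Ideal B := p.comap (e.symm : B →+* A)
  haveI : q.IsPrime := Ideal.comap_isPrime _ _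
  have H : p.primeCompl.map e.toMonoidHom = q.primeCompl := by
    ext x
    constructor
    · rintro ⟨y, hy, rfl⟩
      show e y ∉ q
      intro h
      apply hy
      have : e.symm (e y) ∈ p := h
      rwa [e.symm_apply_apply] at this
    · intro hx
      exact ⟨e.symm x, hx, e.apply_symm_apply x⟩
  let E := IsLocalization.ringEquivOfRingEquiv (Localization.AtPrime p) (Localization.AtPrime q) e H
  haveI := hB q
  haveI : PreValuationRing (Localization.AtPrime p) :=
    Groth.Agent.S14729.preValuationRing_of_equiv E.symm
  exact ValuationRing.mk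

theorem finite_maxSpec_of_equiv {A B : Type*} [CommRing A] [CommRing B] (e : A ≃+* B)
    [Finite (MaximalSpectrum B)] : Finite (MaximalSpectrum A) := by
  apply Finite.of_injective (fun m : MaximalSpectrum A =>
    (⟨m.asIdeal.comap (e.symm : B →+* A),
      haveI := m.isMaximal; Ideal.comap_isMaximal_of_equiv _⟩ : MaximalSpectrum B))
  intro m m' h
  ext1
  have h1 := congrArg MaximalSpectrum.asIdeal h
  exact Ideal.comap_injective_of_surjective (e.symm : B →+* A) e.symm.surjective h1

theorem main (R : Type u) [CommRing R] [IsDomain R]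
    (hR : ∀ (p : Ideal R) [p.IsPrime], ValuationRing (Localization.AtPrime p))
    (hfin : Finite (MaximalSpectrum R)) (s : Finset R) :
    ∃ R' : Subring R, (↑s : Set R) ⊆ R' ∧
      (∀ (p : Ideal R') [p.IsPrime], ValuationRing (Localization.AtPrime p)) ∧
      Finite (MaximalSpectrum R') ∧ ringKrullDim R' < ⊤ := by
  classical
  let L := FractionRing R
  let K : Subfield L := Subfield.closure ((algebraMap R L) '' (s : Set R))
  obtain ⟨hB1, hB2, hB3⟩ := Groth.Agent.S14729.result R L hR hfin K
  set B : Subring L := (algebraMap R L).range ⊓ K.toSubring with hBdef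
  have hinj : Function.Injective (algebraMap R L) := IsFractionRing.injective R L
  let R' : Subring R := K.toSubring.comap (algebraMap R L)
  let e0 : R' →+* B :=
    { toFun := fun x => ⟨algebraMap R L x, ⟨⟨x, rfl⟩, x.2⟩⟩
      map_one' := Subtype.ext (map_one _)
      map_mul' := fun x y => Subtype.ext (map_mul _ _ _)
      map_zero' := Subtype.ext (map_zero _)
      map_add' := fun x y => Subtype.ext (map_add _ _ _) }
  let e : R' ≃+* B := RingEquiv.ofBijective e0
    ⟨fun x y h => Subtype.ext (hinj (congrArg Subtype.val h)), by
      rintro ⟨x, ⟨y, rfl⟩, hx⟩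
      exact ⟨⟨y, hx⟩, rfl⟩⟩
  obtain ⟨d, hd⟩ := exists_trdeg ((algebraMap R L) '' (s : Set R)) (s.finite_toSet.image _)
  have hdimB : ringKrullDim B ≤ ((d + 1 : ℕ) : WithBot ℕ∞) := by
    rw [← Ring.krullDimLE_iff]
    apply Ring.krullDimLE_of_isLocalization_maximal (fun P _ => Localization.AtPrime P)
    intro P hP
    rw [Ring.krullDimLE_iff]
    haveI := hB1 P
    let g : B →+* K :=
      { toFun := fun x => ⟨x.1, x.2.2⟩
        map_one' := rfl
        map_mul' := fun x y => rfl
        map_zero' := rfl
        map_add' := fun x y => rfl }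
    have hginj : Function.Injective g := by
      intro x y h
      have h1 : (g x : L) = (g y : L) := congrArg Subtype.val h
      exact Subtype.ext h1
    have hg : ∀ y : P.primeCompl, IsUnit (g y) := by
      intro y
      apply IsUnit.mk0
      intro h
      apply y.2
      have : (y : B) = 0 := hginj (by rw [h, map_zero])
      rw [this]
      exact P.zero_mem
    have hainj : Function.Injective (algebraMap B (Localization.AtPrime P)) :=
      IsLocalization.injective _ P.primeCompl_le_nonZeroDivisors
    refine dim_le (IsLocalization.lift hg) ?_ ?_ d hd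
    · rw [IsLocalization.lift_injective_iff]
      intro x y
      exact ⟨fun h => congrArg g (hainj h), fun h => congrArg _ (hginj h)⟩
    · rintro ⟨x, hx⟩
      obtain ⟨a, b, ha, hb, hb0, rfl⟩ := hB3 x hx
      refine ⟨algebraMap B _ ⟨a, ha⟩, algebraMap B _ ⟨b, hb⟩, ?_, ?_⟩
      · intro h
        apply hb0
        have : (⟨b, hb⟩ : B) = 0 := hainj (by rw [h, map_zero])
        exact congrArg Subtype.val this
      · rw [IsLocalization.lift_eq, IsLocalization.lift_eq]
        apply Subtype.ext
        rw [Subfield.coe_div]
        rfl
  refine ⟨R', ?_, prufer_of_equiv e hB1, ?_, ?_⟩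
  · intro x hx
    exact Subfield.subset_closure ⟨x, hx, rfl⟩
  · haveI := hB2
    exact finite_maxSpec_of_equiv e
  · rw [ringKrullDim_eq_of_ringEquiv e]
    refine lt_of_le_of_lt hdimB ?_
    have : ((d + 1 : ℕ) : WithBot ℕ∞) = (((d + 1 : ℕ) : ℕ∞) : WithBot ℕ∞) := rfl
    rw [this, ← WithBot.coe_top, WithBot.coe_lt_coe]
    exact ENat.coe_lt_top _

end Helpers

/-- Let R be a semilocal Prüfer domain (an integral domain with finitely many maximal ideals whose
localisations at primes are valuation rings). Then R is the increasing union of subrings that are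
semilocal Prüfer domains of finite Krull dimension; equivalently, every finite subset of R is
contained in such a subring. -/
theorem result
    (R : Type u) [CommRing R] [IsDomain R]
    (hR : ∀ (p : Ideal R) [p.IsPrime], ValuationRing (Localization.AtPrime p))
    (hfin : Finite (MaximalSpectrum R)) (s : Finset R) :
    ∃ R' : Subring R, (↑s : Set R) ⊆ R' ∧
      (∀ (p : Ideal R') [p.IsPrime], ValuationRing (Localization.AtPrime p)) ∧
      Finite (MaximalSpectrum R') ∧ ringKrullDim R' < ⊤ := by
  exact main R hR hfin s

end Groth.Agent.S14730
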