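import Groth.Statements.S14731
import Mathlib
import Groth.Agent.Lib.helper22.SmoothModel

set_option autoImplicit false
universe u
open ValPrufer

namespace Groth.Agent.S14731

section Helpers

theorem frac_of_closure {K : Type u} [Field K] (R : Type*) [CommRing R] [Algebra R K] (s : Finset K)
    (hs : Subfield.closure (↑s : Set K) = ⊤) (z : K) :
    ∃ x ∈ Algebra.adjoin R (s : Set K), ∃ y ∈ Algebra.adjoin R (s : Set K), z = x / y := by
  have hz : z ∈ Subfield.closure (↑s : Set K) := by rw [hs]; trivial
  rw [Subfield.mem_closure_iff] at hz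
  obtain ⟨x, hx, y, hy, rfl⟩ := hz
  have hle : Subring.closure (↑s : Set K) ≤ (Algebra.adjoin R (s : Set K)).toSubring :=
    Subring.closure_le.2 Algebra.subset_adjoin
  exact ⟨x, hle hx, y, hle hy, rfl⟩

theorem essFiniteType_rat (K : Type u) [Field K] [CharZero K] (s : Finset K)
    (hs : Subfield.closure (↑s : Set K) = ⊤) : Algebra.EssFiniteType ℚ K := by
  rw [← IntermediateField.fg_top_iff]
  refine ⟨s, ?_⟩
  rw [← IntermediateField.toSubfield_inj]
  apply le_antisymm le_top
  change (⊤ : Subfield K) ≤ _
  rw [← hs, Subfield.closure_le]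
  exact IntermediateField.subset_adjoin ℚ _

theorem main
    (K : Type u) [Field K] [CharZero K] (s : Finset K)
    (hs : Subfield.closure (↑s : Set K) = ⊤) :
    ∃ A : Subring K, Algebra.FiniteType ℤ A ∧ Algebra.Smooth ℤ A ∧ IsFractionRing A K := by
  haveI : Algebra.EssFiniteType ℚ K := essFiniteType_rat K s hs
  haveI : Algebra.FormallySmooth ℚ K := inferInstance
  haveI : Algebra.FormallySmooth ℤ ℚ := Algebra.FormallySmooth.of_isLocalization (nonZeroDivisors ℤ)
  haveI : Algebra.FormallySmooth ℤ K := Algebra.FormallySmooth.comp ℤ ℚ K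
  obtain ⟨A, hft, hsm, hle⟩ := Groth.Agent.H22.SmoothModel.exists_smooth_subalgebra
    ℤ K s (frac_of_closure ℤ s hs)
  let e : A ≃ₐ[ℤ] A.toSubring :=
    { toFun := fun x => ⟨x.1, x.2⟩
      invFun := fun x => ⟨x.1, x.2⟩
      left_inv := fun _ => rfl
      right_inv := fun _ => rfl
      map_mul' := fun _ _ => rfl
      map_add' := fun _ _ => rfl
      commutes' := fun r => by
        apply Subtype.ext
        simp }
  refine ⟨A.toSubring, ?_, ?_, ?_⟩
  · exact Algebra.FiniteType.equiv hft e
  · exact Algebra.Smooth.of_equiv e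
  · apply IsFractionRing.of_field
    intro z
    obtain ⟨x, hx, y, hy, rfl⟩ := frac_of_closure ℤ s hs z
    exact ⟨⟨x, hle hx⟩, ⟨y, hle hy⟩, rfl⟩

end Helpers

/-- In characteristic zero, every field K generated as a field by a finite set is the fraction field of
a subring A of K of finite type and smooth over the integers. -/
theorem result
    (K : Type u) [Field K] [CharZero K] (s : Finset K)
    (hs : Subfield.closure (↑s : Set K) = ⊤) :
    ∃ A : Subring K, Algebra.FiniteType ℤ A ∧ Algebra.Smooth ℤ A ∧ IsFractionRing A K := by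
  exact main K s hs

end Groth.Agent.S14731
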