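import Groth.Statements.S14732
import Mathlib
import Groth.Agent.Lib.helper22.SmoothModel

set_option autoImplicit false
universe u
open ValPrufer

namespace Groth.Agent.S14732

section Helpers

theorem frac_of_closure {K : Type u} [Field K] (R : Type*) [CommRing R] [Algebra R K] (s : Finset K)
    (hs : Subfield.closure (↑s : Set K) = ⊤) (z : K) :
    ∃ x ∈ Algebra.adjoin R (s : Set K), ∃ y ∈ Algebra.adjoin R (s : Set K), z = x / y := by
  have hz : z ∈ Subfield.closure (↑s : Set K) := by rw [hs]; trivial
  rw [Subfield.mem_closure_iff] at hz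
  obtain ⟨x, hx, y, hy, rfl⟩ := hz
  have hle : Subring.closure (↑s : Set K) ≤ (Algebra.adjoin R (s : Set K)).toSubring :=
    Subring.closure_le.2 Algebra.subset_adjoin
  exact ⟨x, hle hx, y, hle hy, rfl⟩

theorem main
    (K : Type u) [Field K] (p : ℕ) [Fact p.Prime] [CharP K p] (s : Finset K)
    (hs : Subfield.closure (↑s : Set K) = ⊤) :
    ∃ A : Subalgebra (⊥ : Subfield K) K, Algebra.FiniteType (⊥ : Subfield K) A ∧
      Algebra.Smooth (⊥ : Subfield K) A ∧ IsFractionRing A K := by
  haveI : Fintype (⊥ : Subfield K) := Subfield.fintypeBot K p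
  haveI : Field.FG K := ⟨⟨s, hs⟩⟩
  haveI : Algebra.EssFiniteType (⊥ : Subfield K) K := Field.fg_iff_essFiniteType.1 inferInstance
  haveI : Algebra.FormallySmooth (⊥ : Subfield K) K := inferInstance
  obtain ⟨A, hft, hsm, hle⟩ := Groth.Agent.H22.SmoothModel.exists_smooth_subalgebra
    (⊥ : Subfield K) K s (frac_of_closure (⊥ : Subfield K) s hs)
  refine ⟨A, hft, hsm, ?_⟩
  apply IsFractionRing.of_field
  intro z
  obtain ⟨x, hx, y, hy, rfl⟩ := frac_of_closure (⊥ : Subfield K) s hs z
  exact ⟨⟨x, hle hx⟩, ⟨y, hle hy⟩, rfl⟩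

end Helpers

/-- In characteristic p > 0, a field K that is finitely generated over its prime subfield F (a field
with p elements) is the fraction field of an integral scheme smooth over F; concretely, there is an
F-subalgebra A of K, of finite type and smooth over F, whose fraction field is K. -/
theorem result
    (K : Type u) [Field K] (p : ℕ) [Fact p.Prime] [CharP K p] (s : Finset K)
    (hs : Subfield.closure (↑s : Set K) = ⊤) :
    ∃ A : Subalgebra (⊥ : Subfield K) K, Algebra.FiniteType (⊥ : Subfield K) A ∧
      Algebra.Smooth (⊥ : Subfield K) A ∧ IsFractionRing A K := by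
  exact main K p s hs

end Groth.Agent.S14732
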