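import Groth.Statements.S14738
import Mathlib

set_option autoImplicit false
universe u
open ValPrufer

namespace Groth.Agent.S14738aux

variable {R : Type u} [CommRing R] [IsDomain R]

/-- primes below a prime with valuation-ring localization are totally ordered. -/
lemma total_below (M : Ideal R) [M.IsPrime] [ValuationRing (Localization.AtPrime M)]
    (p q : Ideal R) [p.IsPrime] [q.IsPrime] (hp : p ≤ M) (hq : q ≤ M) : p ≤ q ∨ q ≤ p := by
  have hdp : Disjoint (M.primeCompl : Set R) p := by
    rw [Set.disjoint_left]; intro x hx hxp; exact hx (hp hxp)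
  have hdq : Disjoint (M.primeCompl : Set R) q := by
    rw [Set.disjoint_left]; intro x hx hxq; exact hx (hq hxq)
  have h1 := IsLocalization.under_map_of_isPrime_disjoint M.primeCompl (Localization.AtPrime M)
    ‹p.IsPrime› hdp
  have h2 := IsLocalization.under_map_of_isPrime_disjoint M.primeCompl (Localization.AtPrime M)
    ‹q.IsPrime› hdq
  rcases Std.Total.total (r := (· ≤ · : Ideal (Localization.AtPrime M) → _ → Prop))
    (p.map (algebraMap R (Localization.AtPrime M))) (q.map (algebraMap R (Localization.AtPrime M)))
    with h | h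
  · left; rw [← h1, ← h2]; exact Ideal.comap_mono h
  · right; rw [← h1, ← h2]; exact Ideal.comap_mono h

lemma finite_primes
    (hR : ∀ (p : Ideal R) [p.IsPrime], ValuationRing (Localization.AtPrime p))
    (hfin : Finite (MaximalSpectrum R)) (hdim : ringKrullDim R < ⊤) :
    (Set.univ : Set (PrimeSpectrum R)).Finite := by
  classical
  -- bound on heights
  have hht : ∀ p : PrimeSpectrum R, Order.height p < ⊤ := by
    intro p
    have h1 : (Order.height p : WithBot ℕ∞) ≤ ringKrullDim R := Order.height_le_krullDim p
    have h2 : (Order.height p : WithBot ℕ∞) < ⊤ := lt_of_le_of_lt h1 hdim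
    by_contra hcon
    rw [not_lt, top_le_iff] at hcon
    rw [hcon] at h2
    exact lt_irrefl _ h2
  have hN : ∃ N : ℕ, ∀ p : PrimeSpectrum R, (Order.height p).toNat ≤ N := by
    have hne : ringKrullDim R ≠ ⊤ := hdim.ne
    rcases h : ringKrullDim R with _ | x
    · exact ⟨0, fun p => by
        have h1 : (Order.height p : WithBot ℕ∞) ≤ ringKrullDim R := Order.height_le_krullDim p
        rw [h] at h1
        exact absurd h1 (not_le.mpr (WithBot.bot_lt_coe _))⟩
    · have hx : x ≠ ⊤ := by
        intro hx; apply hne; rw [h, hx]; rfl
      refine ⟨x.toNat, fun p => ?_⟩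
      have h1 : (Order.height p : WithBot ℕ∞) ≤ ringKrullDim R := Order.height_le_krullDim p
      rw [h] at h1
      have h2 : Order.height p ≤ x := WithBot.coe_le_coe.mp h1
      exact ENat.toNat_le_toNat h2 hx
  obtain ⟨N, hN⟩ := hN
  have hcover : (Set.univ : Set (PrimeSpectrum R)) =
      ⋃ M : MaximalSpectrum R, {p : PrimeSpectrum R | p.asIdeal ≤ M.asIdeal} := by
    ext p
    simp only [Set.mem_univ, Set.mem_iUnion, Set.mem_setOf_eq, true_iff]
    obtain ⟨M, hM, hpM⟩ := Ideal.exists_le_maximal p.asIdeal p.2.ne_top
    exact ⟨⟨M, hM⟩, hpM⟩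
  rw [hcover]
  apply Set.finite_iUnion
  intro M
  haveI := M.isMaximal
  haveI : ValuationRing (Localization.AtPrime M.asIdeal) := hR M.asIdeal
  apply Set.Finite.of_injOn (f := fun p : PrimeSpectrum R => (Order.height p).toNat)
    (t := (Finset.range (N + 1) : Set ℕ))
  · intro p _
    simp only [Finset.coe_range, Set.mem_Iio]
    exact Nat.lt_succ_of_le (hN p)
  · intro p hp q hq hpq
    simp only [Set.mem_setOf_eq] at hp hq
    by_contra hne
    have hlt : ∀ a b : PrimeSpectrum R, a < b → (Order.height a).toNat ≠ (Order.height b).toNat := by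
      intro a b hab heq
      have h1 := Order.height_strictMono hab (hht a)
      have ha : ((Order.height a).toNat : ℕ∞) = Order.height a := ENat.natCast_toNat (hht a).ne
      have hb : ((Order.height b).toNat : ℕ∞) = Order.height b := ENat.natCast_toNat (hht b).ne
      rw [← ha, ← hb, heq] at h1
      exact lt_irrefl _ h1
    haveI := p.2
    haveI := q.2
    rcases total_below M.asIdeal p.asIdeal q.asIdeal hp hq with h | h
    · have hpq' : p < q := lt_of_le_of_ne h hne
      exact hlt p q hpq' hpq
    · have hqp' : q < p := lt_of_le_of_ne h (Ne.symm hne)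
      exact hlt q p hqp' hpq.symm
  · exact Finset.finite_toSet _

theorem main
    (R : Type u) [CommRing R] [IsDomain R]
    (hR : ∀ (p : Ideal R) [p.IsPrime], ValuationRing (Localization.AtPrime p))
    (hfin : Finite (MaximalSpectrum R)) (hdim : ringKrullDim R < ⊤)
    (m : Ideal R) [hm : m.IsMaximal] :
    (∃ a : R, ∀ (p : Ideal R), p.IsPrime → (a ∈ p ↔ p = m)) ∧
      ∃ b : R, b ∉ m ∧ IsLocalization.AtPrime (Localization.Away b) m := by
  classical
  have hfinP := finite_primes hR hfin hdim
  haveI : Finite (PrimeSpectrum R) := Set.finite_univ_iff.mp hfinP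
  haveI : Fintype (PrimeSpectrum R) := Fintype.ofFinite _
  constructor
  · -- prime avoidance
    set s : Finset (PrimeSpectrum R) := Finset.univ.filter (fun p => p.asIdeal ≠ m) with hs
    have hnot : ¬ ((m : Set R) ⊆ ⋃ i ∈ (↑s : Set (PrimeSpectrum R)), (i.asIdeal : Set R)) := by
      intro hsub
      have h1 := (Ideal.subset_union_prime (s := s) (f := fun p : PrimeSpectrum R => p.asIdeal)
        (⟨m, hm.isPrime⟩ : PrimeSpectrum R) (⟨m, hm.isPrime⟩ : PrimeSpectrum R)
        (fun i _ _ _ => i.2) (I := m)).mp hsub
      obtain ⟨i, hi, hmi⟩ := h1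
      rw [hs, Finset.mem_filter] at hi
      exact hi.2 (hm.eq_of_le i.2.ne_top hmi).symm
    obtain ⟨a, ham, ha⟩ := Set.not_subset.mp hnot
    refine ⟨a, fun p hp => ⟨fun hap => ?_, fun hpm => hpm ▸ ham⟩⟩
    by_contra hne
    apply ha
    simp only [Set.mem_iUnion]
    refine ⟨⟨p, hp⟩, ?_, hap⟩
    rw [Finset.mem_coe, hs, Finset.mem_filter]
    exact ⟨Finset.mem_univ _, hne⟩
  · set s : Finset (PrimeSpectrum R) := Finset.univ.filter (fun q => ¬ q.asIdeal ≤ m) with hs
    have hnot : ¬ (s.inf (fun q : PrimeSpectrum R => q.asIdeal) ≤ m) := by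
      intro hle
      rw [Ideal.IsPrime.inf_le' hm.isPrime] at hle
      obtain ⟨q, hq, hqm⟩ := hle
      rw [hs, Finset.mem_filter] at hq
      exact hq.2 hqm
    obtain ⟨b, hb, hbm⟩ := SetLike.not_le_iff_exists.mp hnot
    refine ⟨b, hbm, ?_⟩
    have hbq : ∀ q : Ideal R, q.IsPrime → b ∉ q → q ≤ m := by
      intro q hq hbq
      by_contra hqm
      apply hbq
      rw [Submodule.mem_finsetInf] at hb
      exact hb ⟨q, hq⟩ (by rw [hs, Finset.mem_filter]; exact ⟨Finset.mem_univ _, hqm⟩)
    have hle : Submonoid.powers b ≤ m.primeCompl := by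
      rw [Submonoid.powers_le]
      exact hbm
    show IsLocalization m.primeCompl (Localization.Away b)
    refine IsLocalization.of_le (M := Submonoid.powers b) m.primeCompl hle ?_
    intro r hr
    by_contra hnu
    obtain ⟨Q, hQ, hrQ⟩ := exists_max_ideal_of_mem_nonunits (mem_nonunits_iff.mpr hnu)
    have hq : (Q.comap (algebraMap R (Localization.Away b))).IsPrime := Ideal.comap_isPrime _ _
    have hbQ : b ∉ Q.comap (algebraMap R (Localization.Away b)) := by
      intro hbQ
      rw [Ideal.mem_comap] at hbQ
      have hu : IsUnit (algebraMap R (Localization.Away b) b) :=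
        IsLocalization.Away.algebraMap_isUnit b
      exact hQ.ne_top (Ideal.eq_top_of_isUnit_mem _ hbQ hu)
    have := hbq _ hq hbQ
    exact hr (this (Ideal.mem_comap.mpr hrQ))

end Groth.Agent.S14738aux

namespace Groth.Agent.S14738

/-- Let R be a semilocal Prüfer domain (an integral domain with finitely many maximal ideals whose
localisations at primes are valuation rings) of finite Krull dimension, and m a maximal ideal of R.
Then there is a ∈ R with V(a) = {m}, i.e. m is the only prime ideal containing a, and there is b ∉ m
such that R[1/b] is the localisation R_m (every element outside m becomes invertible after inverting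
b); consequently the spectra of the local rings R_m form a Zariski open covering of Spec R. (The
published remark assumes positive Krull dimension to construct a; for R a field the assertions hold
with a = 0 and b = 1. It also takes b to be the product of the elements a_n chosen in the same way
for the other maximal ideals n; that choice fails as soon as a non-maximal prime lies in another
maximal ideal but not in m, e.g. for the intersection of two independent rank-two valuation rings of
a field, so this row asserts only that some such b exists.) -/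
theorem result
    (R : Type u) [CommRing R] [IsDomain R]
    (hR : ∀ (p : Ideal R) [p.IsPrime], ValuationRing (Localization.AtPrime p))
    (hfin : Finite (MaximalSpectrum R)) (hdim : ringKrullDim R < ⊤)
    (m : Ideal R) [m.IsMaximal] :
    (∃ a : R, ∀ (p : Ideal R), p.IsPrime → (a ∈ p ↔ p = m)) ∧
      ∃ b : R, b ∉ m ∧ IsLocalization.AtPrime (Localization.Away b) m := by
  exact Groth.Agent.S14738aux.main R hR hfin hdim m

end Groth.Agent.S14738
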