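import Groth.Statements.S14743
import Mathlib

set_option autoImplicit false
universe u
open CategoryTheory MonoidalCategory CartesianMonoidalCategory MonObj GrpObj AlgebraicGeometry
open AlgGrp

namespace Groth.Agent.S14743

section Helpers

open CategoryTheory MonoidalCategory CartesianMonoidalCategory MonObj GrpObj AlgebraicGeometry AlgGrp Limits

variable {C : Type*} [Category C] [CartesianMonoidalCategory C] [BraidedCategory C]

lemma aux_comm {M : Type*} [CommGroup M] (a b₁ b₂ c : M) (h : a = c * (b₁ * b₂)) :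
    a * c = (b₁ * c) * (b₂ * c) := by
  rw [h]
  simp only [_root_.mul_comm, _root_.mul_left_comm, _root_.mul_assoc]

lemma tensorHom_comp_mul {B G : C} [MonObj G] (f g : B ⟶ G) :
    (f ⊗ₘ g) ≫ μ[G] = (fst B B ≫ f) * (snd B B ≫ g) := by
  rw [Hom.mul_def, lift_fst_comp_snd_comp]

theorem general {L G B : C} [GrpObj L] [GrpObj G] [GrpObj B]
    [IsCommMonObj G] [IsCommMonObj B]
    (i : L ⟶ G) (π : G ⟶ B) [IsMonHom π]
    (hker : IsPullback i (toUnit L) π η[B])
    (hconst : ∀ f : B ⊗ B ⟶ L, ∃ l : 𝟙_ C ⟶ L, f = toUnit (B ⊗ B) ≫ l)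
    (s : B ⟶ G) (hs : s ≫ π = 𝟙 B) : ∃ s' : B ⟶ G, IsMonHom s' ∧ s' ≫ π = 𝟙 B := by
  obtain ⟨c, hc⟩ : ∃ c : B ⊗ B ⟶ G, c = (μ[B] ≫ s) * ((fst B B ≫ s) * (snd B B ≫ s))⁻¹ :=
    ⟨_, rfl⟩
  have hcπ : c ≫ π = toUnit (B ⊗ B) ≫ η[B] := by
    rw [hc, MonObj.mul_comp, GrpObj.inv_comp, MonObj.mul_comp, Category.assoc, Category.assoc,
      Category.assoc, hs, Category.comp_id, Category.comp_id, Category.comp_id,
      MonObj.mul_eq_mul, mul_inv_cancel, Hom.one_def]
  obtain ⟨c', hc'i, -⟩ : ∃ c' : B ⊗ B ⟶ L, c' ≫ i = c ∧ c' ≫ toUnit L = toUnit (B ⊗ B) :=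
    ⟨hker.lift c (toUnit (B ⊗ B)) hcπ, hker.lift_fst _ _ _, hker.lift_snd _ _ _⟩
  obtain ⟨l, hl⟩ := hconst c'
  set g₀ : 𝟙_ C ⟶ G := l ≫ i with hg₀
  have hcg : c = toUnit (B ⊗ B) ≫ g₀ := by
    rw [← hc'i, hl, Category.assoc]
  set e : 𝟙_ C ⟶ G := η[B] ≫ s with he
  -- evaluate at (0,0)
  have hg₀e : g₀ = e⁻¹ := by
    have h1 : lift η[B] η[B] ≫ c = g₀ := by
      rw [hcg, ← Category.assoc, toUnit_unique (lift η[B] η[B] ≫ toUnit (B ⊗ B)) (𝟙 _),
        Category.id_comp]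
    have h2 : lift η[B] η[B] ≫ c = e * (e * e)⁻¹ := by
      have h11 : (η[B] * η[B] : 𝟙_ C ⟶ B) = η[B] := by rw [MonObj.one_eq_one, _root_.one_mul]
      rw [hc, MonObj.comp_mul, GrpObj.comp_inv, MonObj.comp_mul, ← Category.assoc,
        ← Category.assoc, ← Category.assoc, lift_fst, lift_snd, ← Hom.mul_def, h11]
    rw [← h1, h2]
    group
  have heπ : e ≫ π = 1 := by
    rw [he, Category.assoc, hs, Category.comp_id, MonObj.one_eq_one]
  refine ⟨s * (toUnit B ≫ g₀), ⟨?_, ?_⟩, ?_⟩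
  · -- one_hom
    rw [MonObj.comp_mul, ← Category.assoc, toUnit_unique (η[B] ≫ toUnit B) (𝟙 _),
      Category.id_comp, hg₀e, ← he, mul_inv_cancel, MonObj.one_eq_one]
  · -- mul_hom
    rw [tensorHom_comp_mul, MonObj.comp_mul, MonObj.comp_mul, MonObj.comp_mul]
    have e1 : μ[B] ≫ toUnit B ≫ g₀ = c := by
      rw [hcg, ← Category.assoc, toUnit_unique (μ[B] ≫ toUnit B) (toUnit (B ⊗ B))]
    have e2 : fst B B ≫ toUnit B ≫ g₀ = c := by
      rw [hcg, ← Category.assoc, toUnit_unique (fst B B ≫ toUnit B) (toUnit (B ⊗ B))]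
    have e3 : snd B B ≫ toUnit B ≫ g₀ = c := by
      rw [hcg, ← Category.assoc, toUnit_unique (snd B B ≫ toUnit B) (toUnit (B ⊗ B))]
    rw [e1, e2, e3]
    have hc2 : (μ[B] ≫ s) = c * ((fst B B ≫ s) * (snd B B ≫ s)) := by
      rw [hc]; group
    exact aux_comm _ _ _ _ hc2
  · rw [MonObj.mul_comp, hs, Category.assoc, hg₀e, GrpObj.inv_comp, heπ, inv_one,
      MonObj.comp_one, _root_.mul_one]

theorem main (k : Type u) [Field k] [IsAlgClosed k] (L G B : Over (Spec (CommRingCat.of k)))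
    [GrpObj L] [GrpObj G] [GrpObj B] [IsCommMonObj L] [IsCommMonObj G] [IsCommMonObj B]
    (i : L ⟶ G) [IsMonHom i] (π : G ⟶ B) [IsMonHom π] (hker : AlgGrp.IsKernel i π)
    (hconst : ∀ f : B ⊗ B ⟶ L, ∃ l : 𝟙_ (Over (Spec (CommRingCat.of k))) ⟶ L,
      f = toUnit (B ⊗ B) ≫ l) (s : B ⟶ G) (hs : s ≫ π = 𝟙 B) :
    ∃ s' : B ⟶ G, IsMonHom s' ∧ s' ≫ π = 𝟙 B :=
  general i π hker hconst s hs

end Helpers

/-- Over an algebraically closed field k let L, G, B be commutative k-group schemes, i : L → G and π : G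
→ B homomorphisms with i the kernel of π, and suppose that every k-morphism B × B → L is constant
(factors through a k-point of L). If π admits a section which is a morphism of k-schemes, then it
admits a section which is a homomorphism, so the extension splits. (The published statement is for
algebraic groups, that is, of finite type over k; finiteness plays no role and is not assumed here.) -/
theorem result (k : Type u) [Field k] [IsAlgClosed k]
    (L G B : Over (Spec (CommRingCat.of k))) [GrpObj L] [GrpObj G] [GrpObj B]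
    [IsCommMonObj L] [IsCommMonObj G] [IsCommMonObj B]
    (i : L ⟶ G) [IsMonHom i] (π : G ⟶ B) [IsMonHom π] (hker : AlgGrp.IsKernel i π)
    (hconst : ∀ f : B ⊗ B ⟶ L, ∃ l : 𝟙_ (Over (Spec (CommRingCat.of k))) ⟶ L, f = toUnit (B ⊗ B) ≫ l)
    (s : B ⟶ G) (hs : s ≫ π = 𝟙 B) :
    ∃ s' : B ⟶ G, IsMonHom s' ∧ s' ≫ π = 𝟙 B := by
  exact main k L G B i π hker hconst s hs

end Groth.Agent.S14743
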