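import Groth.Statements.S14766
import Mathlib

set_option autoImplicit false
universe u
open CategoryTheory CategoryTheory.Limits AlgebraicGeometry
open Subtr

namespace Groth.Agent.S14766

section Helpers

open CategoryTheory AlgebraicGeometry

section DVR

variable (V : Type u) [CommRing V] [IsDomain V] [IsDiscreteValuationRing V]

/-- the closed point as a closed subset of `Spec V`, for a chosen uniformizer -/
lemma exists_S₀ : ∃ S₀ : Set (PrimeSpectrum V), IsClosed S₀ ∧
    (∃ ϖ : V, ∀ y : PrimeSpectrum V, y ∈ S₀ ↔ ϖ ∈ y.asIdeal) ∧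
    (∀ y y' : PrimeSpectrum V, y ∈ S₀ → y' ∈ S₀ → y = y') ∧
    (∀ y y' : PrimeSpectrum V, y ∉ S₀ → y' ∉ S₀ → y = y') ∧
    (∃ y₀ y₁ : PrimeSpectrum V, y₀ ∉ S₀ ∧ y₁ ∈ S₀ ∧ y₀ ⤳ y₁) := by
  obtain ⟨ϖ, hϖ⟩ := IsDiscreteValuationRing.exists_irreducible V
  refine ⟨PrimeSpectrum.zeroLocus {ϖ}, PrimeSpectrum.isClosed_zeroLocus _, ⟨ϖ, fun y => ?_⟩,
    ?_, ?_, ?_⟩
  · simp [PrimeSpectrum.mem_zeroLocus]
  · intro y y' hy hy'
    simp only [PrimeSpectrum.mem_zeroLocus, Set.singleton_subset_iff, SetLike.mem_coe] at hy hy'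
    have h1 : y.asIdeal = IsLocalRing.maximalIdeal V := by
      have : IsLocalRing.maximalIdeal V ≤ y.asIdeal := by
        rw [hϖ.maximalIdeal_eq, Ideal.span_singleton_le_iff_mem]; exact hy
      exact ((IsLocalRing.maximalIdeal.isMaximal V).eq_of_le y.2.ne_top this).symm
    have h2 : y'.asIdeal = IsLocalRing.maximalIdeal V := by
      have : IsLocalRing.maximalIdeal V ≤ y'.asIdeal := by
        rw [hϖ.maximalIdeal_eq, Ideal.span_singleton_le_iff_mem]; exact hy'
      exact ((IsLocalRing.maximalIdeal.isMaximal V).eq_of_le y'.2.ne_top this).symm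
    exact PrimeSpectrum.ext (h1.trans h2.symm)
  · intro y y' hy hy'
    simp only [PrimeSpectrum.mem_zeroLocus, Set.singleton_subset_iff, SetLike.mem_coe] at hy hy'
    have key : ∀ z : PrimeSpectrum V, ϖ ∉ z.asIdeal → z.asIdeal = ⊥ := by
      intro z hz
      by_contra hne
      obtain ⟨n, hn⟩ := IsDiscreteValuationRing.ideal_eq_span_pow_irreducible hne hϖ
      have : ϖ ^ n ∈ z.asIdeal := by rw [hn]; exact Ideal.mem_span_singleton_self _
      exact hz (z.2.mem_of_pow_mem n this)
    exact PrimeSpectrum.ext ((key y hy).trans (key y' hy').symm)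
  · refine ⟨⟨⊥, Ideal.isPrime_bot⟩, IsLocalRing.closedPoint V, ?_, ?_, ?_⟩
    · simp only [PrimeSpectrum.mem_zeroLocus, Set.singleton_subset_iff, SetLike.mem_coe,
        Ideal.mem_bot]
      exact hϖ.ne_zero
    · simp only [PrimeSpectrum.mem_zeroLocus, Set.singleton_subset_iff, SetLike.mem_coe]
      change ϖ ∈ IsLocalRing.maximalIdeal V
      rw [hϖ.maximalIdeal_eq]; exact Ideal.mem_span_singleton_self _
    · rw [← PrimeSpectrum.le_iff_specializes]
      exact bot_le (a := (IsLocalRing.closedPoint V).asIdeal)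

end DVR

theorem main (V : Type u) [CommRing V] [IsDomain V] [IsDiscreteValuationRing V] {X : Scheme.{u}}
    (f : X ⟶ Spec (CommRingCat.of V)) : Topology.IsQuotientMap f ↔ Subtr.IsSSubtrusive f := by
  obtain ⟨S₀, hS₀c, ⟨ϖ, hϖ⟩, hS1, hS2, y₀, y₁, hy₀, hy₁, hy01⟩ := exists_S₀ V
  constructor
  · intro hq y y' hyy'
    have hsurj := hq.surjective
    by_cases h1 : y' ∈ S₀
    · have h2 : y ∈ S₀ := hS₀c.stableUnderSpecialization hyy' h1
      obtain ⟨x, hx⟩ := hsurj y
      exact ⟨x, x, specializes_rfl, hx, hx.trans (hS1 _ _ h2 h1)⟩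
    by_cases h2 : y ∈ S₀
    swap
    · obtain ⟨x, hx⟩ := hsurj y
      exact ⟨x, x, specializes_rfl, hx, hx.trans (hS2 _ _ h2 h1)⟩
    -- hard case
    by_contra hno
    have hopen : IsOpen (f ⁻¹' S₀) := by
      rw [isOpen_iff_forall_mem_open]
      intro x hx
      obtain ⟨_, ⟨U, hU, rfl⟩, hxU, -⟩ :=
        X.isBasis_affineOpens.exists_subset_of_mem_open (Set.mem_univ x) isOpen_univ
      have hU' : IsAffineOpen U := hU
      set j := hU'.fromSpec with hj
      set φ := Spec.preimage (j ≫ f) with hφ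
      have hjf : j ≫ f = Spec.map φ := (Spec.map_preimage _).symm
      have hjfq : ∀ q : PrimeSpectrum Γ(X, U), f (j q) = PrimeSpectrum.comap φ.hom q := by
        intro q
        have := congrArg (fun k => k.base q) hjf
        exact this
      set T : Set (PrimeSpectrum Γ(X, U)) := {q | f (j q) ∈ S₀} with hT
      have hTeq : T = (PrimeSpectrum.basicOpen (φ.hom ϖ) : Set (PrimeSpectrum Γ(X, U)))ᶜ := by
        ext q
        simp only [hT, Set.mem_setOf_eq, Set.mem_compl_iff, SetLike.mem_coe,
          PrimeSpectrum.mem_basicOpen, not_not]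
        refine (hϖ (f (j q))).trans ?_
        rw [hjfq]
        rfl
      have hTc : Topology.IsConstructible T := by
        rw [hTeq]
        exact PrimeSpectrum.isConstructible_basicOpen.compl
      have hTg : StableUnderGeneralization T := by
        intro q q' hq'q hq
        by_contra hq'
        apply hno
        refine ⟨j q, j q', hq'q.map j.continuous, hS1 _ _ hq h2, hS2 _ _ hq' h1⟩
      have hTo : IsOpen T :=
        PrimeSpectrum.isOpen_of_stableUnderGeneralization_of_isConstructible hTg hTc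
      refine ⟨j '' T, ?_, j.isOpenEmbedding.isOpenMap _ hTo, ?_⟩
      · rintro _ ⟨q, hq, rfl⟩
        exact hq
      · have : x ∈ Set.range j := by
          rw [hj, hU'.range_fromSpec]; exact hxU
        obtain ⟨q, rfl⟩ := this
        exact ⟨q, hx, rfl⟩
    have hS₀o : IsOpen S₀ := hq.isOpen_preimage.mp hopen
    exact h1 (hyy'.mem_open hS₀o h2)
  · intro hs
    rw [Topology.isQuotientMap_iff_isClosed]
    have hsurj : Function.Surjective f := by
      intro y
      obtain ⟨x, x', -, hx, -⟩ := hs (specializes_refl y)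
      exact ⟨x, hx⟩
    refine ⟨hsurj, fun Z => ⟨fun hZ => hZ.preimage f.continuous, fun hZ => ?_⟩⟩
    by_cases hy₀Z : y₀ ∈ Z
    · have hy₁Z : y₁ ∈ Z := by
        obtain ⟨x, x', hxx', hx, hx'⟩ := hs hy01
        have : x' ∈ f ⁻¹' Z := by change f x' ∈ Z; rw [hx']; exact hy₀Z
        have : x ∈ f ⁻¹' Z := hZ.stableUnderSpecialization hxx' this
        change f x ∈ Z at this
        rwa [hx] at this
      have : Z = Set.univ := by
        ext y
        simp only [Set.mem_univ, iff_true]
        by_cases hy : y ∈ S₀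
        · rw [hS1 y y₁ hy hy₁]; exact hy₁Z
        · rw [hS2 y y₀ hy hy₀]; exact hy₀Z
      rw [this]; exact isClosed_univ
    · have hZS : Z ⊆ S₀ := by
        intro y hy
        by_contra hyS
        apply hy₀Z
        rw [← hS2 y y₀ hyS hy₀]; exact hy
      rcases Z.eq_empty_or_nonempty with rfl | ⟨y, hy⟩
      · exact isClosed_empty
      · have : Z = S₀ := by
          apply Set.Subset.antisymm hZS
          intro y' hy'
          rw [← hS1 y y' (hZS hy) hy']; exact hy
        rw [this]; exact hS₀c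

end Helpers

/-- Let V be a discrete valuation ring and f : X ⟶ Spec V any morphism of schemes. Then the underlying
continuous map of f is a quotient map (f is submersive) if and only if every ordered pair of points
of Spec V lifts to an ordered pair of points of X. -/
theorem result (V : Type u) [CommRing V] [IsDomain V]
    [IsDiscreteValuationRing V] {X : Scheme.{u}} (f : X ⟶ Spec (CommRingCat.of V)) :
    Topology.IsQuotientMap f ↔ Subtr.IsSSubtrusive f := by
  exact main V f

end Groth.Agent.S14766
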