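import Groth.Statements.S14768
import Mathlib

set_option autoImplicit false
universe u
open CategoryTheory CategoryTheory.Limits AlgebraicGeometry
open Subtr

namespace Groth.Agent.S14768

section Helpers

open CategoryTheory CategoryTheory.Limits AlgebraicGeometry IsLocalRing

/-- every specialization `y' ⤳ y` in a scheme is the image of the pair (generic, closed) of the
spectrum of a valuation ring. -/
lemma exists_valuationRing_of_specializes {T : Scheme.{u}} {y y' : T} (h : y' ⤳ y) :
    ∃ (V : Type u) (_ : CommRing V) (_ : IsDomain V) (_ : ValuationRing V)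
      (k : Spec (CommRingCat.of V) ⟶ T) (ξ s : Spec (CommRingCat.of V)),
      ξ ⤳ s ∧ k ξ = y' ∧ k s = y := by
  let φ₀ : T.presheaf.stalk y ⟶ T.residueField y' :=
    T.presheaf.stalkSpecializes h ≫ T.residue y'
  obtain ⟨A, hA, hA_local⟩ := exists_factor_valuationRing φ₀.hom
  let stalk_y_to_A : T.presheaf.stalk y ⟶ .of A :=
    CommRingCat.ofHom (φ₀.hom.codRestrict _ hA)
  have w : T.fromSpecResidueField y' =
      Spec.map (CommRingCat.ofHom (algebraMap A (T.residueField y'))) ≫
        Spec.map stalk_y_to_A ≫ T.fromSpecStalk y := by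
    rw [Scheme.fromSpecResidueField, ← Scheme.SpecMap_stalkSpecializes_fromSpecStalk h]
    simp_rw [← Spec.map_comp_assoc]
    rfl
  let k : Spec (CommRingCat.of A) ⟶ T := Spec.map stalk_y_to_A ≫ T.fromSpecStalk y
  let pt : Spec (CommRingCat.of (T.residueField y')) := closedPoint (T.residueField y')
  let ξ : Spec (CommRingCat.of A) :=
    (Spec.map (CommRingCat.ofHom (algebraMap A (T.residueField y')))) pt
  refine ⟨A, inferInstance, inferInstance, inferInstance, k, ξ, closedPoint A, ?_, ?_, ?_⟩
  · exact specializes_closedPoint (R := A) ξ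
  · change k ((Spec.map (CommRingCat.ofHom (algebraMap A (T.residueField y')))) pt) = y'
    rw [← Scheme.Hom.comp_apply]
    change (Spec.map (CommRingCat.ofHom (algebraMap A (T.residueField y'))) ≫
        Spec.map stalk_y_to_A ≫ T.fromSpecStalk y) pt = y'
    rw [← w]
    exact Scheme.fromSpecResidueField_apply y' pt
  · change (Spec.map stalk_y_to_A ≫ T.fromSpecStalk y) (closedPoint A) = y
    rw [Scheme.Hom.comp_apply]
    have : Spec.map stalk_y_to_A (closedPoint A) = closedPoint (T.presheaf.stalk y) :=
      comap_closedPoint (S := A) (φ₀.hom.codRestrict A.toSubring hA)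
    rw [this, T.fromSpecStalk_closedPoint]

theorem main {X Y : Scheme.{u}} (f : X ⟶ Y) :
    Subtr.UnivSSubtrusive f ↔
      ∀ (V : Type u) [CommRing V] [IsDomain V] [ValuationRing V]
        (g : Spec (CommRingCat.of V) ⟶ Y), Subtr.IsSSubtrusive (pullback.snd f g) := by
  constructor
  · intro H V _ _ _ g
    exact H _ _ _ (IsPullback.of_hasPullback f g).flip
  · intro H XT T i₁ i₂ fT sq y y' hyy'
    obtain ⟨V, _, _, _, k, ξ, s, hξs, hξ, hs⟩ := exists_valuationRing_of_specializes hyy'
    obtain ⟨p, p', hpp', hp, hp'⟩ := H V (k ≫ i₂) hξs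
    let r : pullback f (k ≫ i₂) ⟶ XT :=
      sq.lift (pullback.snd f (k ≫ i₂) ≫ k) (pullback.fst f (k ≫ i₂)) (by
        rw [Category.assoc, pullback.condition])
    have hr : r ≫ fT = pullback.snd f (k ≫ i₂) ≫ k := sq.lift_fst _ _ _
    refine ⟨r p, r p', hpp'.map r.continuous, ?_, ?_⟩
    · rw [← Scheme.Hom.comp_apply, hr, Scheme.Hom.comp_apply, hp, hs]
    · rw [← Scheme.Hom.comp_apply, hr, Scheme.Hom.comp_apply, hp', hξ]

end Helpers

/-- Let f : X ⟶ Y be any morphism of schemes. Then every base change of f has the lifting property for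
ordered pairs of points if and only if this holds for the base changes X ×_Y Spec V ⟶ Spec V along
all morphisms Spec V ⟶ Y with V a valuation ring. (The published statement is about universally
subtrusive morphisms and assumes f universally submersive for the constructible topologies; the
lifting property alone descends from valuation rings with the same proof, and for quasi-compact f
the two statements agree.) -/
theorem result {X Y : Scheme.{u}} (f : X ⟶ Y) :
    Subtr.UnivSSubtrusive f ↔
      ∀ (V : Type u) [CommRing V] [IsDomain V] [ValuationRing V] (g : Spec (CommRingCat.of V) ⟶ Y),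
        Subtr.IsSSubtrusive (pullback.snd f g) := by
  exact main f

end Groth.Agent.S14768
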