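import Groth.Statements.S14769
import Mathlib
import Groth.Agent.S14768

set_option autoImplicit false
universe u
open CategoryTheory CategoryTheory.Limits AlgebraicGeometry
open Subtr

namespace Groth.Agent.S14769

section Helpers

open CategoryTheory CategoryTheory.Limits AlgebraicGeometry IsLocalRing

/-- every specialization `y' ⤳ y` in a scheme is the image of the pair (generic, closed) of the
spectrum of a valuation ring. -/
lemma exists_valuationRing_of_specializes {T : Scheme.{u}} {y y' : T} (h : y' ⤳ y) :
    ∃ (V : Type u) (_ : CommRing V) (_ : IsDomain V) (_ : ValuationRing V)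
      (k : Spec (CommRingCat.of V) ⟶ T) (ξ : PrimeSpectrum V),
      ξ.asIdeal = ⊥ ∧ k ξ = y' ∧ k (closedPoint V) = y := by
  let φ₀ : T.presheaf.stalk y ⟶ T.residueField y' :=
    T.presheaf.stalkSpecializes h ≫ T.residue y'
  obtain ⟨A, hA, hA_local⟩ := exists_factor_valuationRing φ₀.hom
  let stalk_y_to_A : T.presheaf.stalk y ⟶ .of A :=
    CommRingCat.ofHom (φ₀.hom.codRestrict _ hA)
  have w : T.fromSpecResidueField y' =
      Spec.map (CommRingCat.ofHom (algebraMap A (T.residueField y'))) ≫
        Spec.map stalk_y_to_A ≫ T.fromSpecStalk y := by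
    rw [Scheme.fromSpecResidueField, ← Scheme.SpecMap_stalkSpecializes_fromSpecStalk h]
    simp_rw [← Spec.map_comp_assoc]
    rfl
  let k : Spec (CommRingCat.of A) ⟶ T := Spec.map stalk_y_to_A ≫ T.fromSpecStalk y
  let pt : Spec (CommRingCat.of (T.residueField y')) := closedPoint (T.residueField y')
  let ξ : PrimeSpectrum A :=
    (Spec.map (CommRingCat.ofHom (algebraMap A (T.residueField y')))) pt
  refine ⟨A, inferInstance, inferInstance, inferInstance, k, ξ, ?_, ?_, ?_⟩
  · change Ideal.comap (algebraMap A (T.residueField y')) pt.asIdeal = ⊥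
    have : pt.asIdeal = ⊥ := by
      change maximalIdeal (T.residueField y') = ⊥
      exact IsLocalRing.maximalIdeal_eq_bot
    rw [this]
    exact Ideal.comap_bot_of_injective _ (FaithfulSMul.algebraMap_injective A _)
  · change k ((Spec.map (CommRingCat.ofHom (algebraMap A (T.residueField y')))) pt) = y'
    rw [← Scheme.Hom.comp_apply]
    change (Spec.map (CommRingCat.ofHom (algebraMap A (T.residueField y'))) ≫
        Spec.map stalk_y_to_A ≫ T.fromSpecStalk y) pt = y'
    rw [← w]
    exact Scheme.fromSpecResidueField_apply y' pt
  · change (Spec.map stalk_y_to_A ≫ T.fromSpecStalk y) (closedPoint A) = y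
    rw [Scheme.Hom.comp_apply]
    have : Spec.map stalk_y_to_A (closedPoint A) = closedPoint (T.presheaf.stalk y) :=
      comap_closedPoint (S := A) (φ₀.hom.codRestrict A.toSubring hA)
    rw [this, T.fromSpecStalk_closedPoint]

/-- an injective local homomorphism of valuation rings is surjective on spectra. -/
lemma comap_surjective_of_valuationRing {V V' : Type u} [CommRing V] [IsDomain V]
    [ValuationRing V] [CommRing V'] [IsDomain V'] [ValuationRing V'] (ψ : V →+* V')
    (hinj : Function.Injective ψ) (hloc : (maximalIdeal V').comap ψ = maximalIdeal V) :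
    Function.Surjective (PrimeSpectrum.comap ψ) := by
  letI := ψ.toAlgebra
  haveI : IsLocalHom (algebraMap V V') := ((local_hom_TFAE ψ).out 0 4).mpr hloc
  haveI : Module.Flat V V' := by
    rw [Module.Flat.flat_iff_torsion_eq_bot_of_isBezout]
    rw [Submodule.eq_bot_iff]
    intro x hx
    rw [Submodule.mem_torsion_iff] at hx
    obtain ⟨a, ha⟩ := hx
    have h1 : ψ a * x = 0 := by
      have := ha
      rwa [Submonoid.smul_def, Algebra.smul_def] at this
    rcases mul_eq_zero.mp h1 with h2 | h2
    · exfalso
      have : (a : V) = 0 := hinj (by rw [h2, map_zero])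
      exact nonZeroDivisors.coe_ne_zero a this
    · exact h2
  haveI : Module.FaithfullyFlat V V' := Module.FaithfullyFlat.of_flat_of_isLocalHom
  exact PrimeSpectrum.comap_surjective_of_faithfullyFlat

theorem main {X Y : Scheme.{u}} (f : X ⟶ Y) :
    Subtr.UnivSSubtrusive f ↔
      ∀ (V : Type u) [CommRing V] [IsDomain V] [ValuationRing V]
        (g : Spec (CommRingCat.of V) ⟶ Y),
        ∃ (V' : Type u) (_ : CommRing V') (_ : IsDomain V') (_ : ValuationRing V')
          (a : Spec (CommRingCat.of V') ⟶ X)
          (b : Spec (CommRingCat.of V') ⟶ Spec (CommRingCat.of V)),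
          Surjective b ∧ a ≫ f = b ≫ g := by
  constructor
  · intro H V _ _ _ g
    have hV : Subtr.IsSSubtrusive (pullback.snd f g) :=
      H _ _ _ (IsPullback.of_hasPullback f g).flip
    let η : PrimeSpectrum V := ⟨⊥, Ideal.isPrime_bot⟩
    have hηs : η ⤳ closedPoint V := specializes_closedPoint η
    obtain ⟨p, p', hpp', hp, hp'⟩ := hV hηs
    obtain ⟨V', _, _, _, k, ξ, hξ, hkξ, hks⟩ := exists_valuationRing_of_specializes hpp'
    refine ⟨V', inferInstance, inferInstance, inferInstance, k ≫ pullback.fst f g,
      k ≫ pullback.snd f g, ?_, ?_⟩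
    · set b := k ≫ pullback.snd f g with hb
      set ψ := Spec.preimage b with hψ
      have hbψ : b = Spec.map ψ := (Spec.map_preimage _).symm
      have hbq : ∀ q : PrimeSpectrum V', b q = PrimeSpectrum.comap ψ.hom q := by
        intro q
        have := congrArg (fun k => k.base q) hbψ
        exact this
      have h1 : b ξ = η := by
        rw [hb, Scheme.Hom.comp_apply, hkξ, hp']
      have h2 : b (closedPoint V') = closedPoint V := by
        rw [hb, Scheme.Hom.comp_apply, hks, hp]
      have hinj : Function.Injective ψ.hom := by
        rw [RingHom.injective_iff_ker_eq_bot]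
        have := congrArg PrimeSpectrum.asIdeal ((hbq ξ).symm.trans h1)
        change Ideal.comap ψ.hom ξ.asIdeal = ⊥ at this
        rw [hξ] at this
        exact this
      have hloc : (maximalIdeal V').comap ψ.hom = maximalIdeal V := by
        have := congrArg PrimeSpectrum.asIdeal ((hbq (closedPoint V')).symm.trans h2)
        exact this
      constructor
      intro y
      obtain ⟨q, hq⟩ := comap_surjective_of_valuationRing ψ.hom hinj hloc y
      exact ⟨q, (hbq q).trans hq⟩
    · rw [Category.assoc, Category.assoc, pullback.condition]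
  · intro H
    rw [Groth.Agent.S14768.main]
    intro V _ _ _ g y y' hyy'
    obtain ⟨V', _, _, _, a, b, hb, hab⟩ := H V g
    let r : Spec (CommRingCat.of V') ⟶ pullback f g := pullback.lift a b hab
    have hr : r ≫ pullback.snd f g = b := pullback.lift_snd _ _ _
    obtain ⟨z, hz⟩ := hb.surj y
    obtain ⟨z', hz'⟩ := hb.surj y'
    have hrz : ∀ q, (pullback.snd f g) (r q) = b q := fun q => by
      rw [← Scheme.Hom.comp_apply, hr]
    -- primes of V' are totally ordered
    have htot : z' ⤳ z ∨ z ⤳ z' := by
      have : (z' : PrimeSpectrum V').asIdeal ≤ (z : PrimeSpectrum V').asIdeal ∨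
          (z : PrimeSpectrum V').asIdeal ≤ (z' : PrimeSpectrum V').asIdeal :=
        (ValuationRing.le_total_ideal (A := V')).total _ _
      rcases this with h | h
      · exact Or.inl ((PrimeSpectrum.le_iff_specializes _ _).mp h)
      · exact Or.inr ((PrimeSpectrum.le_iff_specializes _ _).mp h)
    rcases htot with h | h
    · exact ⟨r z, r z', h.map r.continuous, (hrz z).trans hz, (hrz z').trans hz'⟩
    · have : y ⤳ y' := by
        have := h.map b.continuous
        rwa [hz, hz'] at this
      have hyeq : y = y' := (this.antisymm hyy').eq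
      exact ⟨r z, r z, specializes_rfl, (hrz z).trans hz, (hrz z).trans (hz.trans hyeq)⟩

end Helpers

/-- Let f : X ⟶ Y be any morphism of schemes. Then every base change of f has the lifting property for
ordered pairs of points if and only if, for every valuation ring V and morphism g : Spec V ⟶ Y,
there are a valuation ring V', a morphism a : Spec V' ⟶ X and a surjective morphism b : Spec V' ⟶
Spec V with a ≫ f = b ≫ g. (The published statement assumes f universally submersive for the
constructible topologies and concludes universal subtrusiveness; for quasi-compact f the two agree.) -/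
theorem result {X Y : Scheme.{u}} (f : X ⟶ Y) :
    Subtr.UnivSSubtrusive f ↔
      ∀ (V : Type u) [CommRing V] [IsDomain V] [ValuationRing V] (g : Spec (CommRingCat.of V) ⟶ Y),
        ∃ (V' : Type u) (_ : CommRing V') (_ : IsDomain V') (_ : ValuationRing V')
          (a : Spec (CommRingCat.of V') ⟶ X) (b : Spec (CommRingCat.of V') ⟶ Spec (CommRingCat.of V)),
          Surjective b ∧ a ≫ f = b ≫ g := by
  exact main f

end Groth.Agent.S14769
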