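import Groth.Statements.S14767
import Mathlib
import Groth.Agent.S14769

set_option autoImplicit false
universe u
open CategoryTheory CategoryTheory.Limits AlgebraicGeometry
open Subtr

namespace Groth.Agent.S14767

section Helpers

open CategoryTheory CategoryTheory.Limits AlgebraicGeometry IsLocalRing

/-- image of a closed set under a quasi-compact morphism to an affine scheme is closed if it is
stable under specialization. -/
lemma isClosed_image_aff {X' Y' : Scheme.{u}} [IsAffine Y'] (f' : X' ⟶ Y') [QuasiCompact f']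
    (W' : Set X') (hW' : IsClosed W') (H : StableUnderSpecialization (f' '' W')) :
    IsClosed (f' '' W') := by
  haveI : CompactSpace X' := QuasiCompact.compactSpace_of_compactSpace f'
  obtain ⟨R, g, hg⟩ := compactSpace_iff_exists.mp ‹CompactSpace X'›
  set e := Y'.isoSpec.hom with he
  set h : Spec R ⟶ Spec Γ(Y', ⊤) := g ≫ f' ≫ e with hh
  set φ := Spec.preimage h with hφ
  have hhφ : h = Spec.map φ := (Spec.map_preimage h).symm
  have himg : e '' (f' '' W') =
      PrimeSpectrum.comap φ.hom '' (g ⁻¹' W' : Set (PrimeSpectrum R)) := by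
    have h1 : ∀ q, PrimeSpectrum.comap φ.hom q = e (f' (g q)) := by
      intro q
      have := congrArg (fun k => k.base q) hhφ
      exact this.symm
    ext z
    constructor
    · rintro ⟨_, ⟨x, hx, rfl⟩, rfl⟩
      obtain ⟨q, rfl⟩ := hg x
      exact ⟨q, hx, h1 q⟩
    · rintro ⟨q, hq, rfl⟩
      exact ⟨f' (g q), ⟨g q, hq, rfl⟩, (h1 q).symm⟩
  have hcl : IsClosed (e '' (f' '' W')) := by
    have hst : StableUnderSpecialization (e '' (f' '' W')) :=
      H.image e.homeomorph.isClosedMap.specializingMap
    rw [himg] at hst ⊢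
    exact PrimeSpectrum.isClosed_image_of_stableUnderSpecialization φ.hom _
      (hW'.preimage g.continuous) hst
  have : f' '' W' = e ⁻¹' (e '' (f' '' W')) :=
    (Set.preimage_image_eq _ e.homeomorph.injective).symm
  rw [this]
  exact hcl.preimage e.continuous

lemma isClosed_image_of_stable {X Y : Scheme.{u}} (f : X ⟶ Y) [QuasiCompact f]
    (W : Set X) (hW : IsClosed W) (H : StableUnderSpecialization (f '' W)) :
    IsClosed (f '' W) := by
  have hcov : TopologicalSpace.IsOpenCover (fun i : Y.affineOpens => i.1) :=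
    TopologicalSpace.IsOpenCover.mk (iSup_affineOpens_eq_top Y)
  rw [hcov.isClosed_iff_coe_preimage]
  intro U
  haveI : IsAffine (U.1 : Scheme) := U.2
  have hset : (Subtype.val ⁻¹' (f '' W) : Set ↥(U.1)) =
      (f ∣_ U.1) '' ((f ⁻¹ᵁ U.1).ι ⁻¹' W) := by
    ext ⟨y, hy⟩
    constructor
    · rintro ⟨x, hx, hxy⟩
      have hxm : x ∈ f ⁻¹ᵁ U.1 := by change f x ∈ U.1; rw [hxy]; exact hy
      refine ⟨⟨x, hxm⟩, hx, Subtype.ext ?_⟩
      rw [morphismRestrict_base_coe]; exact hxy
    · rintro ⟨x, hx, hxy⟩
      refine ⟨x.1, hx, ?_⟩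
      rw [← morphismRestrict_base_coe, hxy]
  have hst : StableUnderSpecialization (Subtype.val ⁻¹' (f '' W) : Set ↥(U.1)) := by
    intro u u' huu' hu
    exact H (huu'.map continuous_subtype_val) hu
  rw [hset] at hst
  change IsClosed (Subtype.val ⁻¹' (f '' W) : Set ↥(U.1))
  rw [hset]
  exact isClosed_image_aff (f ∣_ U.1) _ (hW.preimage (f ⁻¹ᵁ U.1).ι.continuous) hst

theorem key {X Y : Scheme.{u}} (f : X ⟶ Y) [QuasiCompact f]
    (H : ∀ (V : Type u) [CommRing V] [IsDomain V] [ValuationRing V]
      (g : Spec (CommRingCat.of V) ⟶ Y), Topology.IsQuotientMap (pullback.snd f g)) :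
    Topology.IsQuotientMap f := by
  have hsurj : Function.Surjective f := by
    intro y
    obtain ⟨V, _, _, _, k, ξ, -, hkξ, -⟩ :=
      Groth.Agent.S14769.exists_valuationRing_of_specializes (specializes_refl y)
    obtain ⟨p, hp⟩ := (H V k).surjective ξ
    refine ⟨pullback.fst f k p, ?_⟩
    rw [← Scheme.Hom.comp_apply, pullback.condition, Scheme.Hom.comp_apply, hp, hkξ]
  rw [Topology.isQuotientMap_iff_isClosed]
  refine ⟨hsurj, fun Z => ⟨fun hZ => hZ.preimage f.continuous, fun hZ => ?_⟩⟩
  have hZeq : f '' (f ⁻¹' Z) = Z := Set.image_preimage_eq Z hsurj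
  rw [← hZeq]
  apply isClosed_image_of_stable f _ hZ
  rw [hZeq]
  intro y' y hyy' hy'
  obtain ⟨V, _, _, _, k, ξ, -, hkξ, hks⟩ :=
    Groth.Agent.S14769.exists_valuationRing_of_specializes hyy'
  have hq := H V k
  have hcl : IsClosed (k ⁻¹' Z) := by
    rw [hq.isClosed_preimage.symm]
    have : (pullback.snd f k) ⁻¹' (k ⁻¹' Z) = (pullback.fst f k) ⁻¹' (f ⁻¹' Z) := by
      ext p
      simp only [Set.mem_preimage]
      rw [← Scheme.Hom.comp_apply, ← Scheme.Hom.comp_apply, pullback.condition]
    rw [this]
    exact hZ.preimage (pullback.fst f k).continuous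
  have hξ : ξ ∈ k ⁻¹' Z := by change k ξ ∈ Z; rw [hkξ]; exact hy'
  have hs : closedPoint V ∈ k ⁻¹' Z :=
    hcl.stableUnderSpecialization (specializes_closedPoint (R := V) ξ) hξ
  change k (closedPoint V) ∈ Z at hs
  rwa [hks] at hs

theorem main {X Y : Scheme.{u}} (f : X ⟶ Y) [QuasiCompact f] :
    SGA1.UnivSubmersive f ↔
      ∀ (V : Type u) [CommRing V] [IsDomain V] [ValuationRing V]
        (g : Spec (CommRingCat.of V) ⟶ Y), Topology.IsQuotientMap (pullback.snd f g) := by
  constructor
  · intro H V _ _ _ g
    exact H _ _ _ (IsPullback.of_hasPullback f g).flip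
  · intro H XT T i₁ i₂ fT sq
    haveI : QuasiCompact fT := MorphismProperty.of_isPullback (P := @QuasiCompact) sq.flip
      inferInstance
    apply key fT
    intro V _ _ _ g'
    have big : IsPullback (pullback.fst fT g' ≫ i₁) (pullback.snd fT g') f (g' ≫ i₂) :=
      (IsPullback.of_hasPullback fT g').paste_horiz sq.flip
    have e1 : pullback.snd fT g' = big.isoPullback.hom ≫ pullback.snd f (g' ≫ i₂) :=
      (big.isoPullback_hom_snd).symm
    rw [e1]
    exact (H V (g' ≫ i₂)).comp big.isoPullback.hom.homeomorph.isQuotientMap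

end Helpers

/-- Let f : X ⟶ Y be a quasi-compact morphism of schemes. Then f is universally submersive if and only
if, for every valuation ring V and every morphism Spec V ⟶ Y, the base change X ×_Y Spec V ⟶ Spec V
is submersive (its underlying continuous map is a quotient map). (The published statement asks
instead that f be universally submersive for the constructible topologies, which holds for
quasi-compact surjective morphisms; both sides here force f to be surjective.) -/
theorem result {X Y : Scheme.{u}} (f : X ⟶ Y) [QuasiCompact f] :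
    SGA1.UnivSubmersive f ↔
      ∀ (V : Type u) [CommRing V] [IsDomain V] [ValuationRing V] (g : Spec (CommRingCat.of V) ⟶ Y),
        Topology.IsQuotientMap (pullback.snd f g) := by
  exact main f

end Groth.Agent.S14767
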