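import Groth.Statements.S14788
import Mathlib
import Groth.Agent.Lib.helper7.PC7

set_option autoImplicit false
universe u
open CategoryTheory CategoryTheory.Limits AlgebraicGeometry
open Subtr

namespace Groth.Agent.S14788

open Groth.Agent.Lib.helper7.PC Groth.Agent.Lib.helper7.Lim8

/-- (i) ⇔ (iv): a morphism of schemes f : X ⟶ Y has the lifting property for ordered pairs of points if
and only if, for every pro-constructible subset Z ⊆ Y, the image under f of the closure of f⁻¹(Z) is
the closure of Z. (In the published item (iv) the right-hand side is printed as Z itself; the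
closure is meant, as the case of a non-closed point shows and as the proof uses.) -/
theorem result {X Y : Scheme.{u}} (f : X ⟶ Y) :
    Subtr.IsSSubtrusive f ↔
      ∀ Z : Set Y, ProCons.IsProConstructible Z → f '' closure (f ⁻¹' Z) = closure Z := by
  constructor
  · intro hf Z hZ
    refine Set.Subset.antisymm ?_ ?_
    · refine (image_closure_subset_closure_image f.continuous).trans (closure_mono ?_)
      exact Set.image_preimage_subset _ _
    · intro y hy
      obtain ⟨z, hzZ, hz⟩ := exists_specializes_of_mem_closure_of_isProConstructible hZ hy
      obtain ⟨x, x', hxx', rfl, rfl⟩ := hf hz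
      have hx'Z : x' ∈ (⇑f ⁻¹' Z : Set X) := hzZ
      exact ⟨x, closure_mono (Set.singleton_subset_iff.mpr hx'Z)
        (specializes_iff_mem_closure.mp hxx'), rfl⟩
  · intro h y y' hyy'
    have h1 := h {y'} (isProConstructible_singleton y')
    have hy : y ∈ closure ({y'} : Set Y) := specializes_iff_mem_closure.mp hyy'
    rw [← h1] at hy
    obtain ⟨x, hx, rfl⟩ := hy
    have hpro : ProCons.IsProConstructible (⇑f ⁻¹' ({y'} : Set Y)) :=
      Groth.Agent.Lib.helper23.ProConsLib.isProConstructible_preimage f _
        (isProConstructible_singleton y')
    obtain ⟨x', hx', hx'x⟩ := exists_specializes_of_mem_closure_of_isProConstructible hpro hx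
    exact ⟨x, x', hx'x, rfl, hx'⟩

end Groth.Agent.S14788
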