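import Groth.Statements.S14789
import Mathlib

set_option autoImplicit false
universe u
open CategoryTheory CategoryTheory.Limits AlgebraicGeometry
open Subtr

namespace Groth.Agent.S14789


theorem eq_of_specializes_of_closure_mem {T : Type*} [TopologicalSpace T] [T0Space T] {y y' : T}
    (hy : closure {y} ∈ irreducibleComponents T) (h : y' ⤳ y) : y' = y := by
  have h1 : closure {y} ⊆ closure {y'} := specializes_iff_closure_subset.1 h
  have h2 : closure {y'} ⊆ closure {y} := hy.2 isIrreducible_singleton.closure h1
  exact (h.antisymm (specializes_iff_closure_subset.2 h2)).eq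

theorem exists_maximal_generization {T : Type*} [TopologicalSpace T] [QuasiSober T] [T0Space T] (y : T) :
    ∃ y' : T, y' ⤳ y ∧ closure {y'} ∈ irreducibleComponents T := by
  have hirr : IsIrreducible (irreducibleComponent y) := isIrreducible_irreducibleComponent
  have hcl : IsClosed (irreducibleComponent y) := isClosed_irreducibleComponent
  obtain ⟨η, hη⟩ := QuasiSober.sober hirr hcl
  have hcl' : closure {η} = irreducibleComponent y := hη.def
  refine ⟨η, ?_, ?_⟩
  · rw [specializes_iff_mem_closure, hcl']
    exact mem_irreducibleComponent
  · rw [hcl']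
    exact irreducibleComponent_mem_irreducibleComponents y

/-- Let f : X ⟶ Y be a morphism of schemes with the lifting property for ordered pairs of points, and U
⊆ Y a subset containing every maximal point of Y (every point all of whose generizations are equal
to it). Then the closure of f⁻¹(U) maps onto Y. -/
theorem result {X Y : Scheme.{u}} (f : X ⟶ Y)
    (hf : Subtr.IsSSubtrusive f) (U : Set Y) (hU : ∀ y : Y, (∀ y' : Y, y' ⤳ y → y' = y) → y ∈ U) :
    f '' closure (f ⁻¹' U) = Set.univ := by
  apply Set.eq_univ_of_forall
  intro y
  obtain ⟨y', hy'y, hy'⟩ := exists_maximal_generization y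
  have hy'U : y' ∈ U := hU y' (fun z hz => eq_of_specializes_of_closure_mem hy' hz)
  obtain ⟨x, x', hxx, hx, hx'⟩ := hf hy'y
  refine ⟨x, ?_, hx⟩
  have h1 : x' ∈ f ⁻¹' U := by show f x' ∈ U; rw [hx']; exact hy'U
  exact hxx.mem_closed isClosed_closure (subset_closure h1)

end Groth.Agent.S14789
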