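import Groth.Statements.S14797
import Mathlib

set_option autoImplicit false
universe u
open CategoryTheory CategoryTheory.Limits AlgebraicGeometry
open Subtr

namespace Groth.Agent.S14797

section Helpers

open CategoryTheory CategoryTheory.Limits AlgebraicGeometry MorphismProperty

/-- morphisms with closed range -/
def ClosedRange : MorphismProperty Scheme.{u} := fun _ _ f => IsClosed (Set.range f)

instance : (ClosedRange.{u}).RespectsIso := by
  apply RespectsIso.mk
  · intro X Y Z e f hf
    change IsClosed _
    rw [Scheme.Hom.comp_base, TopCat.coe_comp, Set.range_comp,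
      Set.range_eq_univ.mpr e.hom.surjective, Set.image_univ]
    exact hf
  · intro X Y Z e f hf
    change IsClosed _
    rw [Scheme.Hom.comp_base, TopCat.coe_comp, Set.range_comp]
    exact e.hom.homeomorph.isClosedMap _ hf

lemma range_fst_of_isPullback {A X Y Z : Scheme.{u}} {fst : A ⟶ X} {snd : A ⟶ Y} {f : X ⟶ Z}
    {g : Y ⟶ Z} (h : IsPullback fst snd f g) : Set.range fst = f ⁻¹' Set.range g := by
  have := Scheme.image_preimage_eq_of_isPullback h.flip (Set.univ : Set Y)
  simpa using this

instance closedRange_descends : (ClosedRange.{u}).DescendsAlong SGA1.UnivSubmersive where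
  of_isPullback {A X Y Z fst snd f g} h hf hfst := by
    have hq : Topology.IsQuotientMap f :=
      hf (𝟙 X) (𝟙 Z) f (IsPullback.of_vert_isIso ⟨by simp⟩)
    change IsClosed (Set.range g)
    rw [← hq.isClosed_preimage, ← range_fst_of_isPullback h]
    exact hfst

instance : (SGA1.UnivSubmersive.{u}).IsStableUnderBaseChange := by
  unfold SGA1.UnivSubmersive; infer_instance

instance universallyClosed_descends :
    DescendsAlong @UniversallyClosed SGA1.UnivSubmersive.{u} where
  of_isPullback {A X' Y Z fst snd f g} h hf hfst := by
    refine ⟨?_⟩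
    intro YT T i₁ i₂ gT sq
    let fT : pullback i₂ f ⟶ T := pullback.fst i₂ f
    let k : pullback i₂ f ⟶ X' := pullback.snd i₂ f
    have hfT : Topology.IsQuotientMap fT := hf _ _ _ (IsPullback.of_hasPullback i₂ f)
    let p : pullback gT fT ⟶ pullback i₂ f := pullback.snd gT fT
    let q : pullback gT fT ⟶ YT := pullback.fst gT fT
    have hw : (p ≫ k) ≫ f = (q ≫ i₁) ≫ g := by
      rw [Category.assoc, Category.assoc, ← sq.w, ← pullback.condition (f := i₂) (g := f),
        ← Category.assoc, ← Category.assoc, pullback.condition]
    let r : pullback gT fT ⟶ A := h.lift (p ≫ k) (q ≫ i₁) hw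
    have h1 : IsPullback q p gT fT := IsPullback.of_hasPullback gT fT
    have h4 : IsPullback (q ≫ i₁) p g (fT ≫ i₂) := h1.paste_horiz sq.flip
    have h5 : IsPullback (r ≫ snd) p g (k ≫ f) := by
      have e1 : r ≫ snd = q ≫ i₁ := h.lift_snd _ _ _
      have e2 : k ≫ f = fT ≫ i₂ := pullback.condition.symm
      rw [e1, e2]; exact h4
    have h6 : IsPullback r p fst k := IsPullback.of_right h5 (h.lift_fst _ _ _) h.flip
    have hp : IsClosedMap p := hfst.universally_isClosedMap _ _ _ h6.flip
    intro Z' hZ'
    rw [← hfT.isClosed_preimage, ← Scheme.image_preimage_eq_of_isPullback h1]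
    exact hp _ (hZ'.preimage q.continuous)

lemma lqf_of_etale {X Y : Scheme.{u}} (f : X ⟶ Y) [Etale f] : LocallyQuasiFinite f := by
  rw [HasRingHomProperty.iff_appLE (P := @LocallyQuasiFinite)]
  intro U V e
  have h : (f.appLE U.1 V.1 e).hom.Etale := HasRingHomProperty.appLE (P := @Etale) _ ‹_› U V e
  algebraize [(f.appLE U.1 V.1 e).hom]
  have : Algebra.QuasiFinite Γ(Y, U.1) Γ(X, V.1) := inferInstance
  exact this

theorem main {X S S' : Scheme.{u}} (g : S' ⟶ S) [QuasiCompact g] (hg : SGA1.UnivSubmersive g)
    (f : X ⟶ S) [Etale f] [IsFinite (pullback.snd f g)] : IsFinite f := by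
  rw [IsFinite.iff_isProper_and_locallyQuasiFinite]
  refine ⟨?_, lqf_of_etale f⟩
  haveI : UniversallyClosed f :=
    of_pullback_snd_of_descendsAlong (P := @UniversallyClosed) (Q := SGA1.UnivSubmersive)
      hg inferInstance
  haveI : IsSeparated f := by
    have hd : ClosedRange.diagonal f := by
      refine of_pullback_snd_of_descendsAlong (P := ClosedRange.diagonal)
        (Q := SGA1.UnivSubmersive) (f := f) (g := g) hg ?_
      exact (pullback.diagonal (pullback.snd f g)).isClosedEmbedding.isClosed_range
    constructor
    exact IsClosedImmersion.of_isPreimmersion _ hd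
  exact {}

end Helpers

/-- Let g : S' ⟶ S be a quasi-compact universally submersive morphism of schemes and f : X ⟶ S an étale
morphism whose base change X ×_S S' ⟶ S' is finite. Then f is finite. (The published statement
treats the properties universally closed, separated and quasi-compact one at a time as well; this
row is the finite case. It assumes g universally subtrusive, using it only through universal
submersiveness and, for quasi-compactness, through the constructible topology; for quasi-compact g
universal submersiveness suffices by the same proof.) -/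
theorem result {X S S' : Scheme.{u}} (g : S' ⟶ S)
    [QuasiCompact g] (hg : SGA1.UnivSubmersive g) (f : X ⟶ S) [Etale f]
    [IsFinite (pullback.snd f g)] : IsFinite f := by
  exact main g hg f

end Groth.Agent.S14797
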