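import Groth.Statements.S14798
import Mathlib

set_option autoImplicit false
open Finset
open HJFrac

namespace Groth.Agent.S14798

/-- Continuants: `cont [b₁, …, b_λ] = (K(b₁..b_λ), K(b₂..b_λ))`. -/
def cont : List ℤ → ℤ × ℤ
  | [] => (1, 0)
  | b :: l => (b * (cont l).1 - (cont l).2, (cont l).1)

theorem cont_props (l : List ℤ) (hl : ∀ b ∈ l, 2 ≤ b) :
    (cont l).2 < (cont l).1 ∧ 0 ≤ (cont l).2 ∧ IsCoprime (cont l).1 (cont l).2 ∧
      HJFrac.hjVal l = ((cont l).1 : ℚ) / ((cont l).2 : ℚ) := by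
  induction l with
  | nil => simp [cont, HJFrac.hjVal, isCoprime_one_left]
  | cons b l ih =>
    have hb : 2 ≤ b := hl b (by simp)
    obtain ⟨h1, h2, h3, h4⟩ := ih (fun c hc => hl c (by simp [hc]))
    simp only [cont]
    refine ⟨by nlinarith, by linarith, ?_, ?_⟩
    · have : b * (cont l).1 - (cont l).2 = -(cont l).2 + b * (cont l).1 := by ring
      rw [this]
      have h3' : IsCoprime (-(cont l).2) (cont l).1 := h3.symm.neg_left
      exact h3'.add_mul_right_left b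
    · rw [HJFrac.hjVal, h4, inv_div]
      have hne : ((cont l).1 : ℚ) ≠ 0 := by
        have : (0 : ℤ) < (cont l).1 := by linarith
        exact_mod_cast this.ne'
      push_cast
      field_simp

theorem wronskian (bs : List ℤ) : ∀ μ : ℕ → ℚ, (∀ i, i ≤ bs.length + 1 → μ i ≠ 0) →
    (∀ i (h : i < bs.length), (bs[i] : ℚ) * μ (i + 1) = μ i + μ (i + 2)) →
    ((cont bs).1 : ℚ) * μ 1 - ((cont bs).2 : ℚ) * μ 0 = μ (bs.length + 1) ∧
    ∑ i ∈ Finset.range (bs.length + 1), 1 / (μ i * μ (i + 1)) =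
      ((cont bs).1 : ℚ) / (μ 0 * μ (bs.length + 1)) := by
  induction bs with
  | nil =>
    intro μ hμ _
    simp [cont]
  | cons b bs ih =>
    intro μ hμ hrec
    obtain ⟨ha, hb⟩ := ih (fun i => μ (i + 1))
      (fun i hi => hμ (i + 1) (by simp only [List.length_cons]; omega))
      (fun i hi => by
        have := hrec (i + 1) (by simp only [List.length_cons]; omega)
        simpa using this)
    have h0 := hrec 0 (by simp)
    simp only [List.getElem_cons_zero, zero_add] at h0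
    have hμ0 : μ 0 ≠ 0 := hμ 0 (by omega)
    have hμ1 : μ 1 ≠ 0 := hμ 1 (by simp only [List.length_cons]; omega)
    have hμl : μ (bs.length + 1 + 1) ≠ 0 := hμ _ (by simp only [List.length_cons]; omega)
    simp only [zero_add] at ha hb
    have ha' : ((cont (b :: bs)).1 : ℚ) * μ 1 - ((cont (b :: bs)).2 : ℚ) * μ 0 =
        μ ((b :: bs).length + 1) := by
      simp only [cont, List.length_cons]
      push_cast
      have : μ 2 = b * μ 1 - μ 0 := by linarith
      rw [← ha, show (1 + 1 : ℕ) = 2 from rfl, this]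
      ring
    refine ⟨ha', ?_⟩
    rw [List.length_cons, Finset.sum_range_succ', hb]
    simp only [zero_add]
    rw [List.length_cons] at ha'
    simp only [cont] at ha' ⊢
    push_cast at ha' ⊢
    set W := μ (bs.length + 1 + 1) with hW
    rw [div_add_div _ _ (mul_ne_zero hμ1 hμl) (mul_ne_zero hμ0 hμ1),
      div_eq_div_iff (mul_ne_zero (mul_ne_zero hμ1 hμl) (mul_ne_zero hμ0 hμ1)) (mul_ne_zero hμ0 hμl)]
    rw [← ha']
    ring

theorem cont_eq (l : ℕ) (hl : 1 ≤ l) (b : ℕ → ℤ)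
    (hb : ∀ i, 1 ≤ i → i ≤ l → 2 ≤ b i)
    (n r : ℕ) (hr : 0 < r) (hrn : r < n) (hcop : Nat.Coprime r n)
    (hhj : (n : ℚ) / r = HJFrac.hjVal ((List.range l).map fun i => b (i + 1))) :
    (cont ((List.range l).map fun i => b (i + 1))).1 = n ∧
      (cont ((List.range l).map fun i => b (i + 1))).2 = r := by
  set bs := (List.range l).map fun i => b (i + 1) with hbs
  have hall : ∀ c ∈ bs, 2 ≤ c := by
    intro c hc
    rw [hbs, List.mem_map] at hc
    obtain ⟨i, hi, rfl⟩ := hc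
    rw [List.mem_range] at hi
    exact hb (i + 1) (by omega) (by omega)
  obtain ⟨h1, h2, h3, h4⟩ := cont_props bs hall
  rw [h4] at hhj
  -- the second continuant is positive since l ≥ 1
  have hpos2 : 0 < (cont bs).2 := by
    rcases h2.lt_or_eq with h | h
    · exact h
    · exfalso
      rw [← h] at hhj
      simp only [Int.cast_zero, div_zero] at hhj
      have : (n : ℚ) ≠ 0 := by exact_mod_cast (by omega : n ≠ 0)
      have hr' : (r : ℚ) ≠ 0 := by exact_mod_cast (by omega : r ≠ 0)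
      exact (div_ne_zero this hr') hhj
  have hr' : (r : ℚ) ≠ 0 := by exact_mod_cast (by omega : r ≠ 0)
  have hc2 : ((cont bs).2 : ℚ) ≠ 0 := by exact_mod_cast hpos2.ne'
  rw [div_eq_div_iff hr' hc2] at hhj
  have hZ : (n : ℤ) * (cont bs).2 = (cont bs).1 * (r : ℤ) := by exact_mod_cast hhj
  have hcopZ : IsCoprime (n : ℤ) (r : ℤ) := by
    rw [Int.isCoprime_iff_gcd_eq_one, Int.gcd_natCast_natCast]
    exact hcop.symm
  -- n ∣ cont.1 and cont.1 ∣ n
  have d1 : (n : ℤ) ∣ (cont bs).1 := by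
    have : (n : ℤ) ∣ (cont bs).1 * (r : ℤ) := ⟨(cont bs).2, hZ.symm⟩
    exact hcopZ.dvd_of_dvd_mul_right this
  have d2 : (cont bs).1 ∣ (n : ℤ) := by
    have : (cont bs).1 ∣ (n : ℤ) * (cont bs).2 := ⟨(r : ℤ), hZ⟩
    exact h3.dvd_of_dvd_mul_right this
  have hpos1 : 0 < (cont bs).1 := by linarith
  have e1 : (cont bs).1 = n := by
    have := Int.dvd_antisymm (by linarith) (by positivity) d2 d1
    exact this
  refine ⟨e1, ?_⟩
  rw [e1] at hZ
  have hn0 : (n : ℤ) ≠ 0 := by exact_mod_cast (by omega : n ≠ 0)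
  exact mul_left_cancel₀ hn0 hZ

/-- Let 0 < r < n be coprime integers and n/r = b₁ - 1/(b₂ - 1/(⋯ - 1/b_λ)) the Hirzebruch–Jung
expansion (λ ≥ 1, every b_i ≥ 2); let m₁, m₂ be positive integers prime to n with r m₂ + m₁ ≡ 0 mod
n, and let μ₁, …, μ_λ be positive integers solving the tridiagonal system b_i μ_i - μ_{i-1} -
μ_{i+1} = 0 (1 ≤ i ≤ λ) with the conventions μ₀ = m₂ and μ_{λ+1} = m₁ (the multiplicity vector
attached to (n, r, m₂, m₁)). Then n/(m₁ m₂) = 1/(m₂ μ₁) + 1/(μ₁ μ₂) + ⋯ + 1/(μ_{λ-1} μ_λ) + 1/(μ_λ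
m₁). -/
theorem result (l : ℕ) (hl : 1 ≤ l) (b : ℕ → ℤ)
    (hb : ∀ i, 1 ≤ i → i ≤ l → 2 ≤ b i)
    (n r : ℕ) (hr : 0 < r) (hrn : r < n) (hcop : Nat.Coprime r n)
    (hhj : (n : ℚ) / r = HJFrac.hjVal ((List.range l).map fun i => b (i + 1)))
    (m₁ m₂ : ℕ) (hm₁ : 0 < m₁) (hm₂ : 0 < m₂) (h₁ : Nat.Coprime m₁ n) (h₂ : Nat.Coprime m₂ n)
    (hdvd : (n : ℤ) ∣ r * m₂ + m₁)
    (μ : ℕ → ℤ) (hμ0 : μ 0 = m₂) (hμl : μ (l + 1) = m₁) (hμpos : ∀ i, i ≤ l + 1 → 0 < μ i)
    (hsys : ∀ i, 1 ≤ i → i ≤ l → b i * μ i = μ (i - 1) + μ (i + 1)) :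
    (n : ℚ) / ((m₁ : ℚ) * m₂) = ∑ i ∈ Finset.range (l + 1), 1 / ((μ i : ℚ) * (μ (i + 1) : ℚ)) := by
  obtain ⟨e1, _⟩ := cont_eq l hl b hb n r hr hrn hcop hhj
  set bs := (List.range l).map fun i => b (i + 1) with hbs
  have hlen : bs.length = l := by simp [hbs]
  obtain ⟨_, hsum⟩ := wronskian bs (fun i => (μ i : ℚ))
    (fun i hi => by
      have := hμpos i (by omega)
      exact_mod_cast this.ne')
    (fun i hi => by
      have hi' : i < l := by omega
      have := hsys (i + 1) (by omega) (by omega)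
      simp only [hbs, List.getElem_map, List.getElem_range]
      have e : i + 1 - 1 = i := by omega
      rw [e] at this
      exact_mod_cast this)
  rw [hlen] at hsum
  rw [hsum, e1, hμ0, hμl]
  push_cast
  rw [mul_comm]

end Groth.Agent.S14798
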