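import Groth.Statements.S14799
import Mathlib
import Groth.Agent.S14798

set_option autoImplicit false
open HJFrac

namespace Groth.Agent.S14799

/-- Let 0 < r < n be coprime integers and n/r = b₁ - 1/(b₂ - 1/(⋯ - 1/b_λ)) the Hirzebruch–Jung
expansion (λ ≥ 1, every b_i ≥ 2); let m₁, m₂ be positive integers prime to n with r m₂ + m₁ ≡ 0 mod
n, and let μ₁, …, μ_λ be positive integers with b_i μ_i = μ_{i-1} + μ_{i+1} for 1 ≤ i ≤ λ, where μ₀
= m₂ and μ_{λ+1} = m₁. Then gcd(m₁, μ₁, …, μ_λ, m₂) = gcd(m₁, m₂); equivalently gcd(m₁, m₂) divides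
every μ_i. -/
theorem result (l : ℕ) (hl : 1 ≤ l) (b : ℕ → ℤ)
    (hb : ∀ i, 1 ≤ i → i ≤ l → 2 ≤ b i)
    (n r : ℕ) (hr : 0 < r) (hrn : r < n) (hcop : Nat.Coprime r n)
    (hhj : (n : ℚ) / r = HJFrac.hjVal ((List.range l).map fun i => b (i + 1)))
    (m₁ m₂ : ℕ) (hm₁ : 0 < m₁) (hm₂ : 0 < m₂) (h₁ : Nat.Coprime m₁ n) (h₂ : Nat.Coprime m₂ n)
    (hdvd : (n : ℤ) ∣ r * m₂ + m₁)
    (μ : ℕ → ℤ) (hμ0 : μ 0 = m₂) (hμl : μ (l + 1) = m₁) (hμpos : ∀ i, i ≤ l + 1 → 0 < μ i)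
    (hsys : ∀ i, 1 ≤ i → i ≤ l → b i * μ i = μ (i - 1) + μ (i + 1)) :
    ∀ i, i ≤ l + 1 → ((Nat.gcd m₁ m₂ : ℕ) : ℤ) ∣ μ i := by
  obtain ⟨e1, e2⟩ := Groth.Agent.S14798.cont_eq l hl b hb n r hr hrn hcop hhj
  set bs := (List.range l).map fun i => b (i + 1) with hbs
  have hlen : bs.length = l := by simp [hbs]
  obtain ⟨hW, _⟩ := Groth.Agent.S14798.wronskian bs (fun i => (μ i : ℚ))
    (fun i hi => by
      have := hμpos i (by omega)
      exact_mod_cast this.ne')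
    (fun i hi => by
      have hi' : i < l := by omega
      have := hsys (i + 1) (by omega) (by omega)
      simp only [hbs, List.getElem_map, List.getElem_range]
      have e : i + 1 - 1 = i := by omega
      rw [e] at this
      exact_mod_cast this)
  rw [hlen, e1, e2] at hW
  have hWZ : (n : ℤ) * μ 1 - (r : ℤ) * μ 0 = μ (l + 1) := by exact_mod_cast hW
  set g : ℤ := ((Nat.gcd m₁ m₂ : ℕ) : ℤ) with hg
  have hg1 : g ∣ (m₁ : ℤ) := by
    rw [hg]; exact_mod_cast Nat.gcd_dvd_left m₁ m₂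
  have hg2 : g ∣ (m₂ : ℤ) := by
    rw [hg]; exact_mod_cast Nat.gcd_dvd_right m₁ m₂
  have hgn : IsCoprime g (n : ℤ) := by
    rw [hg, Int.isCoprime_iff_gcd_eq_one, Int.gcd_natCast_natCast]
    exact Nat.Coprime.coprime_dvd_left (Nat.gcd_dvd_left m₁ m₂) h₁
  have hd0 : g ∣ μ 0 := by rw [hμ0]; exact hg2
  have hd1 : g ∣ μ 1 := by
    have : g ∣ (n : ℤ) * μ 1 := by
      have e : (n : ℤ) * μ 1 = μ (l + 1) + (r : ℤ) * μ 0 := by linarith
      rw [e, hμl]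
      exact dvd_add hg1 (Dvd.dvd.mul_left hd0 _)
    exact hgn.dvd_of_dvd_mul_left this
  have key : ∀ i, i + 1 ≤ l + 1 → g ∣ μ i ∧ g ∣ μ (i + 1) := by
    intro i
    induction i with
    | zero => intro _; exact ⟨hd0, hd1⟩
    | succ i ih =>
      intro hi
      obtain ⟨ha, hb'⟩ := ih (by omega)
      refine ⟨hb', ?_⟩
      have := hsys (i + 1) (by omega) (by omega)
      have e : i + 1 - 1 = i := by omega
      rw [e] at this
      have e2 : μ (i + 1 + 1) = b (i + 1) * μ (i + 1) - μ i := by linarith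
      rw [e2]
      exact dvd_sub (Dvd.dvd.mul_left hb' _) ha
  intro i hi
  rcases Nat.eq_zero_or_pos i with h0 | hpos
  · subst h0; exact hd0
  · obtain ⟨j, rfl⟩ : ∃ j, i = j + 1 := ⟨i - 1, by omega⟩
    exact (key j (by omega)).2

end Groth.Agent.S14799
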