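import Groth.Statements.S14801
import Mathlib
import Groth.Agent.Lib.helper22.LabGraphChain

set_option autoImplicit false
universe u
open Finset
open LabGraph

namespace Groth.Agent.S14801

section Helpers

open Groth.Agent.H22.LabGraphChain LabGraph DualGr

theorem main {V E : Type u} [Fintype V] [Fintype E] [DecidableEq V] [DecidableEq E]
    (ends : E → V × V) (β : V → ℤ) (hβ : LabGraph.IsMultFn ends β)
    (m : ℕ) (f : Fin (m + 1) → V) (e : Fin m → E) (hC : LabGraph.IsChain ends f e)
    (hconn : ∀ i, LabGraph.IsConnecting ends (e i)) (hβm : ∀ i, β (f i) = m)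
    (hα : ∀ i, LabGraph.mfMatrix ends β (f i) (f i) = -2) :
    ∃ φ : LabGraph.CompGrp (DualGr.ctrEnds ends (univ.image e)) (LabGraph.ctrFn ends (univ.image e) β) →+
        LabGraph.CompGrp ends β,
      Function.Surjective φ ∧
      ∀ (x : LinearMap.ker (LabGraph.betaHom (LabGraph.ctrFn ends (univ.image e) β)))
        (y : LinearMap.ker (LabGraph.betaHom β)),
        (y : V → ℤ) = LabGraph.liftAt ends (univ.image e) (f 0) (x : DualGr.CtrVert ends (univ.image e) → ℤ) →
        φ (Submodule.Quotient.mk x) = Submodule.Quotient.mk y := by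
  have h : ChainData ends β m f e := ⟨hβ, hC, hconn, hβm, hα⟩
  let L : LinearMap.ker (betaHom (ctrFn ends (univ.image e) β)) →ₗ[ℤ] LinearMap.ker (betaHom β) :=
    LinearMap.codRestrict _ ((liftLin ends e f).comp (LinearMap.ker _).subtype) (fun x => by
      rw [LinearMap.mem_ker, LinearMap.comp_apply, liftLin_apply, h.betaHom_liftAt]
      exact LinearMap.mem_ker.1 x.2)
  have hL : ∀ x, ((L x : LinearMap.ker (betaHom β)) : V → ℤ) =
      liftAt ends (univ.image e) (f 0) (x : CtrVert ends (univ.image e) → ℤ) := fun x => rfl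
  have hN : (LinearMap.range (Matrix.mulVecLin (mfMatrix (ctrEnds ends (univ.image e))
      (ctrFn ends (univ.image e) β)))).comap (LinearMap.ker (betaHom (ctrFn ends (univ.image e) β))).subtype ≤
      ((LinearMap.range (Matrix.mulVecLin (mfMatrix ends β))).comap
        (LinearMap.ker (betaHom β)).subtype).comap L := by
    intro x hx
    rw [Submodule.mem_comap] at hx ⊢
    rw [Submodule.mem_comap]
    obtain ⟨z', hz'⟩ := hx
    rw [Matrix.mulVecLin_apply] at hz'
    obtain ⟨ζ, hζ⟩ := h.lift_range z'
    refine ⟨ζ, ?_⟩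
    rw [Matrix.mulVecLin_apply, hζ, hz']
    rfl
  refine ⟨(Submodule.mapQ _ _ L hN).toAddMonoidHom, ?_, ?_⟩
  · intro q
    obtain ⟨y, rfl⟩ := Submodule.Quotient.mk_surjective _ q
    obtain ⟨x', hx', ζ, hζ⟩ := h.surj y.1 (LinearMap.mem_ker.1 y.2)
    refine ⟨Submodule.Quotient.mk ⟨x', LinearMap.mem_ker.2 hx'⟩, ?_⟩
    change Submodule.mapQ _ _ L hN (Submodule.Quotient.mk _) = _
    rw [Submodule.mapQ_apply, Submodule.Quotient.eq, Submodule.mem_comap]
    refine ⟨-ζ, ?_⟩
    rw [map_neg, Matrix.mulVecLin_apply, ← hζ]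
    change _ = liftAt ends (univ.image e) (f 0) x' - (y : V → ℤ)
    ring
  · intro x y hxy
    change Submodule.mapQ _ _ L hN (Submodule.Quotient.mk _) = _
    rw [Submodule.mapQ_apply]
    congr 1
    apply Subtype.ext
    rw [hL, hxy]

end Helpers

/-- Let (G, β) be a finite multigraph with a multiplicity function and α its matrix (α_{vw} = #edges(v,
w) for v ≠ w, diagonal entries defined by Σ_w β(w) α_{vw} = 0); let L be a connecting chain of
length m (vertices v₀, …, v_m, edges e₁, …, e_m, each connecting) with β(v_i) = m and α_{v_i v_i} =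
-2 for all i; let (G', β') be the contraction of L and f : ℤ^{V(G')} → ℤ^{V(G)} the map extending a
vector by zero along the section of V(G) → V(G') that sends the contracted vertex to v₀. Then f
carries ker β' into ker β, and there is a map h : ℤ^{V(G')} → ℤ^{V(G)} with f ∘ α' = α ∘ h, so that
f induces a homomorphism of component groups ker β'/im α' → ker β/im α; this homomorphism is
surjective. -/
theorem result {V E : Type u} [Fintype V] [Fintype E] [DecidableEq V] [DecidableEq E]
    (ends : E → V × V) (β : V → ℤ) (hβ : LabGraph.IsMultFn ends β)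
    (m : ℕ) (f : Fin (m + 1) → V) (e : Fin m → E) (hC : LabGraph.IsChain ends f e)
    (hconn : ∀ i, LabGraph.IsConnecting ends (e i)) (hβm : ∀ i, β (f i) = m)
    (hα : ∀ i, LabGraph.mfMatrix ends β (f i) (f i) = -2) :
    ∃ φ : LabGraph.CompGrp (DualGr.ctrEnds ends (univ.image e)) (LabGraph.ctrFn ends (univ.image e) β) →+
        LabGraph.CompGrp ends β,
      Function.Surjective φ ∧
      ∀ (x : LinearMap.ker (LabGraph.betaHom (LabGraph.ctrFn ends (univ.image e) β)))
        (y : LinearMap.ker (LabGraph.betaHom β)),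
        (y : V → ℤ) = LabGraph.liftAt ends (univ.image e) (f 0) (x : DualGr.CtrVert ends (univ.image e) → ℤ) →
        φ (Submodule.Quotient.mk x) = Submodule.Quotient.mk y := by
  exact main ends β hβ m f e hC hconn hβm hα

end Groth.Agent.S14801
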