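import Groth.Statements.S14803
import Mathlib
import Groth.Agent.Lib.helper22.LabGraphLap
import Groth.Agent.Lib.helper22.LatticeIndex

set_option autoImplicit false
universe u
open Finset
open LabGraph

namespace Groth.Agent.S14803

section Helpers

open LabGraph Groth.Agent.H22.Circ Groth.Agent.H22.Tree Groth.Agent.H22.MT Groth.Agent.H22.Lap
open Groth.Agent.H22.LatIdx Groth.Agent.H22.LabGraphCtr

variable {V E : Type u} [Fintype V] [Fintype E] [DecidableEq V] [DecidableEq E]

theorem mfMatrix_transpose (ends : E → V × V) (β : V → ℤ) :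
    (mfMatrix ends β).transpose = mfMatrix ends β := by
  ext v w
  rw [Matrix.transpose_apply]
  by_cases h : w = v
  · rw [h]
  · exact mfMatrix_symm_off ends β h

theorem ker_eq (β : V → ℤ) :
    (bhom β).ker = (LinearMap.ker (betaHom β)).toAddSubgroup := by
  ext x
  rw [AddMonoidHom.mem_ker, Submodule.mem_toAddSubgroup, LinearMap.mem_ker]
  unfold betaHom
  rw [Fintype.linearCombination_apply]
  rfl

theorem range_eq (α : Matrix V V ℤ) :
    (ahom α).range = (LinearMap.range α.mulVecLin).toAddSubgroup := by
  ext x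
  rfl

theorem card_compGrp (ends : E → V × V) (β : V → ℤ) :
    Nat.card (CompGrp ends β) = (ahom (mfMatrix ends β)).range.relIndex (bhom β).ker := by
  rw [ker_eq, range_eq]
  unfold CompGrp
  rw [← Submodule.cardQuot_apply]
  rfl

open Classical in
theorem main (ends : E → V × V) (β : V → ℤ) (hβ : LabGraph.IsMultFn ends β) (hG : LabGraph.Connected ends) :
    (Nat.card (LabGraph.CompGrp ends β) : ℚ) =
      ((univ.gcd β : ℤ) : ℚ) ^ 2 *
        ∑ T ∈ univ.powerset.filter (fun T : Finset E => LabGraph.IsSpanningTree ends T),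
          ∏ v : V, ((β v : ℚ) ^ ((LabGraph.nbrCount ends T v : ℤ) - 2)) := by
  obtain ⟨r⟩ := hG.1
  haveI : Nonempty V := ⟨r⟩
  have hβpos : ∀ v, 0 < β v := fun v => (hβ v).1
  set α := mfMatrix ends β with hα
  -- integer sum over trees
  set S : ℤ := ∑ T ∈ univ.powerset.filter (fun T : Finset E => LabGraph.IsSpanningTree ends T),
    ∏ v, β v ^ endCount ends T v with hS
  have hMT : (inc ends r * Matrix.diagonal (cw ends β) * (inc ends r).transpose).det = S := by
    rw [matrix_tree]
    refine Finset.sum_congr rfl fun T _ => ?_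
    exact prod_cw ends β T
  have hdetlap := det_lap hβ r
  rw [hMT] at hdetlap
  -- S > 0
  have hconn : ∀ a b, Reach ends Finset.univ a b := by
    intro a b
    have := hG.2 a b
    unfold Reach
    refine Relation.ReflTransGen.mono ?_ _ _ this
    rintro x y ⟨e, h⟩
    exact ⟨e, Finset.mem_univ _, h⟩
  obtain ⟨T₀, -, hT₀⟩ := exists_spanningTree_subset ends _ Finset.univ rfl hconn
  have hSpos : 0 < S := by
    apply Finset.sum_pos'
    · intro T _
      exact Finset.prod_nonneg fun v _ => pow_nonneg (hβpos v).le _
    · refine ⟨T₀, by simp [hT₀], ?_⟩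
      exact Finset.prod_pos fun v _ => pow_pos (hβpos v) _
  set P' : ℤ := ∏ v : {v : V // v ≠ r}, β v.1 with hP'
  have hdet : (redMat α r).det ≠ 0 := by
    intro h
    have : (mfMatrix ends β).submatrix (Subtype.val : {v : V // v ≠ r} → V) Subtype.val =
        redMat α r := rfl
    rw [this, h, mul_zero] at hdetlap
    exact hSpos.ne' hdetlap
  have hidx := main_index β α r hβpos (mfMatrix_transpose ends β) (mulVec_beta hβ) hdet
  rw [← card_compGrp] at hidx
  -- |det| * P'^2 = S
  have habs : ((redMat α r).det.natAbs : ℤ) * P' ^ 2 = S := by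
    have h1 : (mfMatrix ends β).submatrix (Subtype.val : {v : V // v ≠ r} → V) Subtype.val =
        redMat α r := rfl
    rw [h1] at hdetlap
    have h2 : S = |S| := (abs_of_pos hSpos).symm
    rw [h2, hdetlap, abs_mul, abs_mul, abs_pow, abs_neg, abs_one, one_pow, one_mul, abs_pow,
      sq_abs, Int.natCast_natAbs]
    ring
  -- product of all β
  have hprod : ∏ v, β v = β r * P' := by
    rw [← Finset.mul_prod_erase _ _ (Finset.mem_univ r)]
    congr 1
    rw [hP']
    rw [← Finset.prod_subtype (Finset.univ.erase r) (by simp) (fun v => β v)]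
  -- move to ℚ
  have hg : (0 : ℤ) ≤ univ.gcd β := Finset.Int.finsetGcd_nonneg
  have hidxZ : ((redMat α r).det.natAbs : ℤ) * (univ.gcd β) ^ 2 =
      (Nat.card (CompGrp ends β) : ℤ) * (β r) ^ 2 := by
    have := congrArg (fun n : ℕ => (n : ℤ)) hidx
    simp only [Nat.cast_mul, Nat.cast_pow, Int.natCast_natAbs, sq_abs] at this
    rw [Int.natCast_natAbs]
    exact this
  have hkey : (Nat.card (CompGrp ends β) : ℤ) * (∏ v, β v) ^ 2 = (univ.gcd β) ^ 2 * S := by
    rw [hprod, ← habs]
    have : (Nat.card (CompGrp ends β) : ℤ) * (β r * P') ^ 2 =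
        ((Nat.card (CompGrp ends β) : ℤ) * (β r) ^ 2) * P' ^ 2 := by ring
    rw [this, ← hidxZ]; ring
  have hPne : ((∏ v, β v : ℤ) : ℚ) ≠ 0 := by
    have : (0 : ℤ) < ∏ v, β v := Finset.prod_pos fun v _ => hβpos v
    exact_mod_cast this.ne'
  have hkeyQ : (Nat.card (CompGrp ends β) : ℚ) =
      ((univ.gcd β : ℤ) : ℚ) ^ 2 * ((S : ℚ) / ((∏ v, β v : ℤ) : ℚ) ^ 2) := by
    have := congrArg (fun n : ℤ => (n : ℚ)) hkey
    simp only [Int.cast_mul, Int.cast_pow, Int.cast_natCast] at this
    field_simp
    exact this
  rw [hkeyQ]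
  congr 1
  rw [hS]
  push_cast
  rw [Finset.sum_div]
  refine Finset.sum_congr rfl fun T hT => ?_
  have hT' : IsSpanningTree ends T := (Finset.mem_filter.mp hT).2
  rw [← Finset.prod_pow, ← Finset.prod_div_distrib]
  refine Finset.prod_congr rfl fun v _ => ?_
  have hne : (β v : ℚ) ≠ 0 := by
    have := hβpos v
    exact_mod_cast this.ne'
  rw [endCount_eq_nbrCount ends T hT' v, zpow_sub₀ hne, zpow_natCast]
  norm_cast

end Helpers

open Classical in
/-- Let (G, β) be a connected finite multigraph with a multiplicity function, α its matrix (α_{vw} =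
#edges(v, w) for v ≠ w, Σ_w β(w) α_{vw} = 0) and Φ(G) = ker β / im α its component group; let m be
the gcd of all the values β(v). Then Φ(G) is finite of order m² · Σ_T Π_v β(v)^{#N_T(v) - 2}, where
T runs over the spanning trees of G and N_T(v) is the set of neighbours of v in T. (The published
statement gives this order for the Néron component group of a curve's Jacobian, G being the weighted
dual graph of a proper regular model and β its component multiplicities; this row states the
identity for every connected pair (G, β) with a positive multiplicity function.) -/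
theorem result {V E : Type u} [Fintype V] [Fintype E] [DecidableEq V] [DecidableEq E]
    (ends : E → V × V) (β : V → ℤ) (hβ : LabGraph.IsMultFn ends β) (hG : LabGraph.Connected ends) :
    (Nat.card (LabGraph.CompGrp ends β) : ℚ) =
      ((univ.gcd β : ℤ) : ℚ) ^ 2 *
        ∑ T ∈ univ.powerset.filter (fun T : Finset E => LabGraph.IsSpanningTree ends T),
          ∏ v : V, ((β v : ℚ) ^ ((LabGraph.nbrCount ends T v : ℤ) - 2)) := by
  exact main ends β hβ hG

end Groth.Agent.S14803
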