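import Groth.Statements.S14804
import Mathlib
import Groth.Agent.Lib.helper22.LabGraphTree

set_option autoImplicit false
universe u
open Finset
open LabGraph

namespace Groth.Agent.S14804

section Helpers

open LabGraph Groth.Agent.H22.Circ Groth.Agent.H22.Tree

theorem main {V E : Type u} [Fintype V] [Fintype E] [DecidableEq V] [DecidableEq E]
    (ends : E → V × V) (hG : LabGraph.Connected ends) (v : V) :
    (∃ C : Finset E, LabGraph.IsCircuit ends C ∧ LabGraph.endCount ends C v ≠ 0) ↔
      ∃ T : Finset E, LabGraph.IsSpanningTree ends T ∧
        ∃ e : E, e ∉ T ∧ ((ends e).1 = v ∨ (ends e).2 = v) := by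
  haveI : Nonempty V := hG.1
  have hconn : ∀ a b, Reach ends Finset.univ a b := by
    intro a b
    have := hG.2 a b
    unfold Reach
    refine Relation.ReflTransGen.mono ?_ _ _ this
    rintro x y ⟨e, h⟩
    exact ⟨e, Finset.mem_univ _, h⟩
  constructor
  · rintro ⟨C, hcirc, hv⟩
    -- an edge of C at v
    have : ∃ e ∈ C, (ends e).1 = v ∨ (ends e).2 = v := by
      by_contra hcon
      push_neg at hcon
      apply hv
      unfold endCount
      apply Finset.sum_eq_zero
      intro e he
      obtain ⟨h1, h2⟩ := hcon e he
      simp [h1, h2]
    obtain ⟨e, he, hev⟩ := this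
    have hr : Reach ends (Finset.univ.erase e) (ends e).1 (ends e).2 :=
      (reach_of_even ends C hcirc.2.1 e he).mono (Finset.erase_subset_erase _ (Finset.subset_univ _))
    obtain ⟨T, hT, hST⟩ := exists_spanningTree_subset ends _ (Finset.univ.erase e) rfl
      (fun a b => reach_erase hr (hconn a b))
    exact ⟨T, hST, e, fun h => (Finset.mem_erase.mp (hT h)).1 rfl, hev⟩
  · rintro ⟨T, hST, e, heT, hev⟩
    rw [isSpanningTree_iff] at hST
    obtain ⟨⟨_, hreach⟩, hforest⟩ := hST
    obtain ⟨C, hC, hcirc⟩ := exists_circuit_insert ends T e heT (hreach _ _)
    refine ⟨C, hcirc, ?_⟩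
    have heC : e ∈ C := by
      by_contra hne
      refine hforest C ?_ hcirc
      intro x hx
      rcases Finset.mem_insert.mp (hC hx) with rfl | h
      · exact absurd hx hne
      · exact h
    unfold endCount
    intro h0
    have := (Finset.sum_eq_zero_iff.mp h0) e heC
    rcases hev with h | h <;> simp [h] at this

end Helpers

/-- In a connected finite multigraph G, a vertex v belongs to some cycle of G (here: v is an endpoint of
an edge of some circuit, a circuit being a minimal nonempty edge set meeting every vertex in an even
number of edge-ends, which includes loops and pairs of parallel edges) if and only if G has a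
spanning tree T such that some edge outside T has v as an endpoint. (The published statement is for
an arbitrary multigraph; when G is disconnected it has no spanning tree while a vertex may lie on a
cycle, so G is taken connected here, the case of dual graphs for which it is used.) -/
theorem result
    {V E : Type u} [Fintype V] [Fintype E] [DecidableEq V] [DecidableEq E]
    (ends : E → V × V) (hG : LabGraph.Connected ends) (v : V) :
    (∃ C : Finset E, LabGraph.IsCircuit ends C ∧ LabGraph.endCount ends C v ≠ 0) ↔
      ∃ T : Finset E, LabGraph.IsSpanningTree ends T ∧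
        ∃ e : E, e ∉ T ∧ ((ends e).1 = v ∨ (ends e).2 = v) := by
  exact main ends hG v

end Groth.Agent.S14804
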