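import Groth.Statements.S14805
import Mathlib

set_option autoImplicit false
open Finset
open CompLat

namespace Groth.Agent.S14805

section Helpers

lemma card_quot_eq_relIndex {M : Type*} [AddCommGroup M] (K H : Submodule ℤ M) :
    Nat.card (↥K ⧸ H.comap K.subtype) = H.toAddSubgroup.relIndex K.toAddSubgroup := rfl

/-- abstract index identity -/
lemma abstract_index {M : Type*} [AddCommGroup M] (D : M →+ M) (hD : Function.Injective D)
    (S : M →+ ℤ) (hS : Function.Surjective S) (N : AddSubgroup M) (hN : N ≤ (S.comp D).ker) :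
    N.relIndex (S.comp D).ker * D.range.index =
      (D.range.map S).index * (N.map D).relIndex S.ker := by
  have h1 : N.relIndex (S.comp D).ker = (N.map D).relIndex ((S.comp D).ker.map D) :=
    (AddSubgroup.relIndex_map_map_of_injective N _ hD).symm
  have h2 : (S.comp D).ker.map D = S.ker ⊓ D.range := by
    ext x
    simp only [AddSubgroup.mem_map, AddMonoidHom.mem_ker, AddMonoidHom.comp_apply,
      AddSubgroup.mem_inf, AddMonoidHom.mem_range]
    constructor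
    · rintro ⟨y, hy, rfl⟩; exact ⟨hy, y, rfl⟩
    · rintro ⟨hx, y, rfl⟩; exact ⟨y, hx, rfl⟩
  have hle1 : N.map D ≤ S.ker ⊓ D.range := by
    rw [← h2]; exact AddSubgroup.map_mono hN
  have h3 : (N.map D).relIndex (S.ker ⊓ D.range) * (S.ker ⊓ D.range).relIndex S.ker =
      (N.map D).relIndex S.ker := AddSubgroup.relIndex_mul_relIndex _ _ _ hle1 inf_le_left
  have h4 : (S.ker ⊓ D.range).relIndex S.ker = D.range.relIndex S.ker :=
    AddSubgroup.inf_relIndex_left _ _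
  have h5 : D.range.relIndex (S.ker ⊔ D.range) = D.range.relIndex S.ker :=
    AddSubgroup.relIndex_sup_right _ _
  have h6 : D.range.relIndex (S.ker ⊔ D.range) * (S.ker ⊔ D.range).index = D.range.index :=
    AddSubgroup.relIndex_mul_index le_sup_right
  have h7 : (S.ker ⊔ D.range).index = (D.range.map S).index := by
    rw [← AddSubgroup.index_comap_of_surjective (D.range.map S) hS, AddSubgroup.comap_map_eq,
      sup_comm]
  rw [h1, h2, ← h6, h5, h7, ← h3, h4]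
  ring

/-- the sum-of-coordinates map -/
noncomputable abbrev Sm (n : ℕ) : (Fin n → ℤ) →ₗ[ℤ] ℤ :=
  ∑ i : Fin n, (LinearMap.proj i : (Fin n → ℤ) →ₗ[ℤ] ℤ)

lemma Sm_apply (n : ℕ) (x : Fin n → ℤ) : Sm n x = ∑ i, x i := by
  simp [Sm, LinearMap.sum_apply]

noncomputable abbrev Dm {n : ℕ} (δ : Fin n → ℤ) : (Fin n → ℤ) →ₗ[ℤ] (Fin n → ℤ) :=
  Matrix.mulVecLin (Matrix.diagonal δ)

lemma Dm_apply {n : ℕ} (δ : Fin n → ℤ) (x : Fin n → ℤ) (i : Fin n) : Dm δ x i = δ i * x i := by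
  simp [Dm, Matrix.mulVec_diagonal]

lemma Dm_injective {n : ℕ} (δ : Fin n → ℤ) (hδ : ∀ i, δ i ≠ 0) : Function.Injective (Dm δ) := by
  intro x y h
  funext i
  have := congrFun h i
  rw [Dm_apply, Dm_apply] at this
  exact mul_left_cancel₀ (hδ i) this

lemma Sm_surjective {n : ℕ} (hn : 0 < n) : Function.Surjective (Sm n) := by
  intro z
  refine ⟨Pi.single ⟨0, hn⟩ z, ?_⟩
  rw [Sm_apply, Finset.sum_pi_single']
  simp

lemma index_range_Dm {n : ℕ} (δ : Fin n → ℤ) (hδ : ∀ i, δ i ≠ 0) :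
    (Dm δ).toAddMonoidHom.range.index = (∏ i, δ i).natAbs := by
  have h := Submodule.natAbs_det_equiv (LinearMap.range (Dm δ))
    (LinearEquiv.ofInjective (Dm δ) (Dm_injective δ hδ)).toAddEquiv
  have h2 : (LinearMap.range (Dm δ)).subtype ∘ₗ AddMonoidHom.toIntLinearMap
      (((LinearEquiv.ofInjective (Dm δ) (Dm_injective δ hδ)).toAddEquiv :
        (Fin n → ℤ) ≃+ LinearMap.range (Dm δ)) : (Fin n → ℤ) →+ LinearMap.range (Dm δ)) = Dm δ := by
    ext x : 1
    rfl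
  rw [h2] at h
  have h3 : LinearMap.det (Dm δ) = ∏ i, δ i := by
    rw [Dm, ← Matrix.toLin'_apply', LinearMap.det_toLin', Matrix.det_diagonal]
  rw [h3] at h
  rw [h]
  rfl

lemma map_Sm_range_Dm {n : ℕ} (δ : Fin n → ℤ) :
    (Dm δ).toAddMonoidHom.range.map (Sm n).toAddMonoidHom =
      AddSubgroup.zmultiples (univ.gcd δ) := by
  ext z
  simp only [AddSubgroup.mem_map, AddMonoidHom.mem_range, LinearMap.toAddMonoidHom_coe,
    exists_exists_eq_and, AddSubgroup.mem_zmultiples_iff]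
  constructor
  · rintro ⟨x, rfl⟩
    rw [Sm_apply]
    have : univ.gcd δ ∣ ∑ i, Dm δ x i := by
      apply Finset.dvd_sum
      intro i _
      rw [Dm_apply]
      exact Dvd.dvd.mul_right (Finset.gcd_dvd (Finset.mem_univ i)) _
    obtain ⟨k, hk⟩ := this
    exact ⟨k, by rw [hk, smul_eq_mul, mul_comm]⟩
  · rintro ⟨k, rfl⟩
    obtain ⟨c, hc⟩ := Finset.gcd_eq_sum_mul univ δ
    refine ⟨k • c, ?_⟩
    rw [Sm_apply, hc, smul_eq_mul, Finset.mul_sum]
    refine Finset.sum_congr rfl fun i _ => ?_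
    rw [Dm_apply, Pi.smul_apply, smul_eq_mul]
    ring

lemma index_map_Sm_range_Dm {n : ℕ} (δ : Fin n → ℤ) :
    ((Dm δ).toAddMonoidHom.range.map (Sm n).toAddMonoidHom).index = (univ.gcd δ).natAbs := by
  rw [map_Sm_range_Dm, Int.index_zmultiples]

lemma gcd_nonneg {n : ℕ} (δ : Fin n → ℤ) : 0 ≤ univ.gcd δ :=
  Int.nonneg_of_normalize_eq_self (Finset.normalize_gcd)

theorem main (n : ℕ) (hn : 0 < n) (δ : Fin n → ℤ) (hδ : ∀ i, δ i ≠ 0)
    (A : Matrix (Fin n) (Fin n) ℤ)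
    (hSDA : (Sm n) ∘ₗ (Dm δ) ∘ₗ (Matrix.mulVecLin A) = 0) :
    (Nat.card (LinearMap.ker ((Sm n) ∘ₗ (Dm δ)) ⧸
          (LinearMap.range (Matrix.mulVecLin A)).comap (LinearMap.ker ((Sm n) ∘ₗ (Dm δ))).subtype) : ℤ)
        * |∏ i, δ i| =
      (univ.gcd δ) * Nat.card (LinearMap.ker (Sm n) ⧸
        (LinearMap.range ((Dm δ) ∘ₗ (Matrix.mulVecLin A))).comap (LinearMap.ker (Sm n)).subtype) := by
  rw [card_quot_eq_relIndex, card_quot_eq_relIndex]
  have key := abstract_index (Dm δ).toAddMonoidHom (Dm_injective δ hδ) (Sm n).toAddMonoidHom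
    (Sm_surjective hn) (LinearMap.range (Matrix.mulVecLin A)).toAddSubgroup (by
      rintro _ ⟨x, rfl⟩
      exact LinearMap.congr_fun hSDA x)
  rw [index_range_Dm δ hδ, index_map_Sm_range_Dm] at key
  have e1 : ((Sm n).toAddMonoidHom.comp (Dm δ).toAddMonoidHom).ker =
      (LinearMap.ker ((Sm n) ∘ₗ (Dm δ))).toAddSubgroup := rfl
  have e2 : (LinearMap.range (Matrix.mulVecLin A)).toAddSubgroup.map (Dm δ).toAddMonoidHom =
      (LinearMap.range ((Dm δ) ∘ₗ (Matrix.mulVecLin A))).toAddSubgroup := by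
    ext x
    simp only [AddSubgroup.mem_map, Submodule.mem_toAddSubgroup, LinearMap.mem_range,
      exists_exists_eq_and, LinearMap.toAddMonoidHom_coe, LinearMap.comp_apply]
  have e3 : (Sm n).toAddMonoidHom.ker = (LinearMap.ker (Sm n)).toAddSubgroup := rfl
  rw [e1, e2, e3] at key
  have hk := congrArg (Nat.cast : ℕ → ℤ) key
  push_cast at hk
  rw [abs_of_nonneg (gcd_nonneg δ)] at hk
  exact hk

end Helpers

/-- Let n ≥ 1 and let D, D' : ℤⁿ → ℤⁿ be given by diagonal matrices with nonzero diagonal entries (rank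
n), A : ℤⁿ → ℤⁿ an integer matrix of rank n - 1, S : ℤⁿ → ℤ the sum of the coordinates and Δ : ℤ →
ℤⁿ the diagonal embedding; assume S D A = 0 and A D' Δ = 0, and let d > 0 with dℤ = im(S D), i.e. d
is the greatest common divisor of the diagonal entries of D. Then #(ker(S D)/im A) · |det D| = d ·
#(ker S/im(D A)). -/
theorem result (n : ℕ) (hn : 0 < n) (δ δ' : Fin n → ℤ) (hδ : ∀ i, δ i ≠ 0) (hδ' : ∀ i, δ' i ≠ 0)
    (A : Matrix (Fin n) (Fin n) ℤ) (hA : A.rank = n - 1)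
    (hSDA : (∑ i : Fin n, (LinearMap.proj i : (Fin n → ℤ) →ₗ[ℤ] ℤ)) ∘ₗ
        (Matrix.mulVecLin (Matrix.diagonal δ)) ∘ₗ (Matrix.mulVecLin A) = 0)
    (hADΔ : (Matrix.mulVecLin A) ∘ₗ (Matrix.mulVecLin (Matrix.diagonal δ')) ∘ₗ
        (LinearMap.pi fun _ : Fin n => (LinearMap.id : ℤ →ₗ[ℤ] ℤ)) = 0) :
    (Nat.card (LinearMap.ker ((∑ i : Fin n, (LinearMap.proj i : (Fin n → ℤ) →ₗ[ℤ] ℤ)) ∘ₗ (Matrix.mulVecLin (Matrix.diagonal δ))) ⧸
          (LinearMap.range (Matrix.mulVecLin A)).comap (LinearMap.ker ((∑ i : Fin n, (LinearMap.proj i : (Fin n → ℤ) →ₗ[ℤ] ℤ)) ∘ₗ (Matrix.mulVecLin (Matrix.diagonal δ)))).subtype) : ℤ) * |∏ i, δ i| =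
      (univ.gcd δ) * Nat.card (LinearMap.ker (∑ i : Fin n, (LinearMap.proj i : (Fin n → ℤ) →ₗ[ℤ] ℤ)) ⧸ (LinearMap.range ((Matrix.mulVecLin (Matrix.diagonal δ)) ∘ₗ (Matrix.mulVecLin A))).comap (LinearMap.ker (∑ i : Fin n, (LinearMap.proj i : (Fin n → ℤ) →ₗ[ℤ] ℤ))).subtype) := by
  exact main n hn δ hδ A hSDA

end Groth.Agent.S14805
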