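import Groth.Statements.S14806
import Mathlib
import Groth.Agent.S14805

set_option autoImplicit false
open Finset
open CompLat

namespace Groth.Agent.S14806

section Helpers

open Groth.Agent.S14805

/-- rank-one kernel: any two elements are dependent -/
lemma dependent_of_rank {n : ℕ} (hn : 0 < n) (A : Matrix (Fin n) (Fin n) ℤ) (hA : A.rank = n - 1)
    (w₁ w₂ : Fin n → ℤ) (h₁ : A.mulVecLin w₁ = 0) (h₂ : A.mulVecLin w₂ = 0) :
    ∃ a b : ℤ, (a ≠ 0 ∨ b ≠ 0) ∧ a • w₁ + b • w₂ = 0 := by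
  have hrk : Module.finrank ℤ (LinearMap.ker A.mulVecLin) = 1 := by
    have h1 := Submodule.finrank_quotient_add_finrank (LinearMap.ker A.mulVecLin)
    rw [(LinearMap.quotKerEquivRange A.mulVecLin).finrank_eq] at h1
    have h2 : Module.finrank ℤ (LinearMap.range A.mulVecLin) = n - 1 := hA
    rw [h2] at h1
    simp only [Module.finrank_pi, Fintype.card_fin] at h1
    omega
  by_contra hcon
  push_neg at hcon
  have hli : LinearIndependent ℤ ![(⟨w₁, h₁⟩ : LinearMap.ker A.mulVecLin), ⟨w₂, h₂⟩] := by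
    rw [Fintype.linearIndependent_iff]
    intro c hc
    have hc' := congrArg Subtype.val hc
    simp only [Fin.sum_univ_two, Matrix.cons_val_zero, Matrix.cons_val_one, Submodule.coe_add,
      Submodule.coe_smul, Submodule.coe_zero] at hc'
    have := hcon (c 0) (c 1)
    by_contra hne
    push_neg at hne
    obtain ⟨i, hi⟩ := hne
    fin_cases i
    · exact (this (Or.inl hi)) hc'
    · exact (this (Or.inr hi)) hc'
  have := hli.fintype_card_le_finrank
  rw [hrk] at this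
  simp at this

lemma gcd_ne_zero {n : ℕ} (hn : 0 < n) (δ' : Fin n → ℤ) (hδ' : ∀ i, δ' i ≠ 0) :
    univ.gcd δ' ≠ 0 := by
  intro h
  rw [Finset.gcd_eq_zero_iff] at h
  exact hδ' ⟨0, hn⟩ (h _ (Finset.mem_univ _))

/-- the key index computation: `#(ker A / (ker A ∩ im D')) = gcd δ'`. -/
lemma relIndex_range_Dm_ker {n : ℕ} (hn : 0 < n) (δ' : Fin n → ℤ) (hδ' : ∀ i, δ' i ≠ 0)
    (A : Matrix (Fin n) (Fin n) ℤ) (hA : A.rank = n - 1) (hAδ : A.mulVecLin δ' = 0) :
    (Dm δ').toAddMonoidHom.range.relIndex A.mulVecLin.toAddMonoidHom.ker =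
      (univ.gcd δ').natAbs := by
  set g := univ.gcd δ' with hg
  have hg0 : g ≠ 0 := gcd_ne_zero hn δ' hδ'
  have hdvd : ∀ i, g ∣ δ' i := fun i => Finset.gcd_dvd (Finset.mem_univ i)
  set v₀ : Fin n → ℤ := fun i => δ' i / g with hv₀
  have hgv : ∀ i, g * v₀ i = δ' i := fun i => Int.mul_ediv_cancel' (hdvd i)
  have hgv' : g • v₀ = δ' := by
    funext i; rw [Pi.smul_apply, smul_eq_mul, hgv]
  have hv₀i : ∀ i, v₀ i ≠ 0 := by
    intro i h
    have := hgv i
    rw [h, mul_zero] at this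
    exact hδ' i this.symm
  obtain ⟨c, hc⟩ := Finset.gcd_eq_sum_mul univ δ'
  have hbez : ∑ i, v₀ i * c i = 1 := by
    apply mul_left_cancel₀ hg0
    rw [Finset.mul_sum, mul_one]
    rw [← hg] at hc
    conv_rhs => rw [hc]
    refine Finset.sum_congr rfl fun i _ => ?_
    rw [← mul_assoc, hgv]
  have hv₀P : A.mulVecLin v₀ = 0 := by
    have : g • A.mulVecLin v₀ = 0 := by rw [← map_smul, hgv', hAδ]
    exact (smul_eq_zero.1 this).resolve_left hg0
  have hP : ∀ w : Fin n → ℤ, A.mulVecLin w = 0 → ∃ t : ℤ, w = t • v₀ := by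
    intro w hw
    obtain ⟨a, b, hab, hrel⟩ := dependent_of_rank hn A hA w v₀ hw hv₀P
    have hreli : ∀ i, a * w i + b * v₀ i = 0 := fun i => by
      have := congrFun hrel i
      simpa using this
    have ha : a ≠ 0 := by
      rintro rfl
      have hb : b ≠ 0 := by simpa using hab
      have : b * v₀ ⟨0, hn⟩ = 0 := by simpa using hreli ⟨0, hn⟩
      rcases mul_eq_zero.1 this with h | h
      · exact hb h
      · exact hv₀i _ h
    have hdiv : a ∣ b := by
      have : b = ∑ i, (b * v₀ i) * c i := by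
        calc b = b * 1 := (mul_one b).symm
          _ = b * ∑ i, v₀ i * c i := by rw [hbez]
          _ = _ := by
            rw [Finset.mul_sum]
            exact Finset.sum_congr rfl (fun i _ => by ring)
      rw [this]
      apply Finset.dvd_sum
      intro i _
      have : b * v₀ i = a * (- w i) := by linarith [hreli i]
      rw [this, mul_assoc]
      exact dvd_mul_right _ _
    obtain ⟨b', rfl⟩ := hdiv
    refine ⟨-b', ?_⟩
    funext i
    have := hreli i
    rw [mul_assoc, ← mul_add] at this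
    have := (mul_eq_zero.1 this).resolve_left ha
    rw [Pi.smul_apply, smul_eq_mul]
    linarith
  -- the parametrisation
  let φ : ℤ →+ (Fin n → ℤ) := (LinearMap.toSpanSingleton ℤ (Fin n → ℤ) v₀).toAddMonoidHom
  have hφ : ∀ t, φ t = t • v₀ := fun t => rfl
  have hφinj : Function.Injective φ := by
    intro s t hst
    have := congrFun hst ⟨0, hn⟩
    rw [hφ, hφ, Pi.smul_apply, Pi.smul_apply, smul_eq_mul, smul_eq_mul] at this
    exact mul_right_cancel₀ (hv₀i _) this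
  have hker : A.mulVecLin.toAddMonoidHom.ker = (⊤ : AddSubgroup ℤ).map φ := by
    ext w
    simp only [AddMonoidHom.mem_ker, LinearMap.toAddMonoidHom_coe, AddSubgroup.mem_map,
      AddSubgroup.mem_top, true_and]
    constructor
    · intro hw
      obtain ⟨t, ht⟩ := hP w hw
      exact ⟨t, by rw [hφ, ht]⟩
    · rintro ⟨t, rfl⟩
      rw [hφ, map_smul, hv₀P, smul_zero]
  have hinf : (Dm δ').toAddMonoidHom.range ⊓ (⊤ : AddSubgroup ℤ).map φ =
      (AddSubgroup.zmultiples g).map φ := by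
    ext x
    simp only [AddSubgroup.mem_inf, AddMonoidHom.mem_range, LinearMap.toAddMonoidHom_coe,
      AddSubgroup.mem_map, AddSubgroup.mem_top, true_and, AddSubgroup.mem_zmultiples_iff]
    constructor
    · rintro ⟨⟨y, hy⟩, t, rfl⟩
      have h0 := congrFun hy ⟨0, hn⟩
      rw [Dm_apply, hφ, Pi.smul_apply, smul_eq_mul, ← hgv, mul_assoc, mul_comm (v₀ _),
        ← mul_assoc] at h0
      have := mul_right_cancel₀ (hv₀i _) h0
      exact ⟨t, ⟨y ⟨0, hn⟩, by rw [smul_eq_mul, mul_comm, this]⟩, rfl⟩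
    · rintro ⟨t, ⟨s, rfl⟩, rfl⟩
      refine ⟨⟨fun _ => s, ?_⟩, _, rfl⟩
      funext i
      rw [Dm_apply, hφ, Pi.smul_apply, smul_eq_mul, smul_eq_mul, ← hgv]
      ring
  rw [hker, ← AddSubgroup.inf_relIndex_right, hinf,
    AddSubgroup.relIndex_map_map_of_injective _ _ hφinj, AddSubgroup.relIndex_top_right,
    Int.index_zmultiples]

theorem main (n : ℕ) (hn : 0 < n) (δ δ' : Fin n → ℤ) (hδ : ∀ i, δ i ≠ 0) (hδ' : ∀ i, δ' i ≠ 0)
    (A : Matrix (Fin n) (Fin n) ℤ) (hA : A.rank = n - 1)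
    (hSDA : (Sm n) ∘ₗ (Dm δ) ∘ₗ (Matrix.mulVecLin A) = 0)
    (hADΔ : (Matrix.mulVecLin A) ∘ₗ (Dm δ') ∘ₗ
        (LinearMap.pi fun _ : Fin n => (LinearMap.id : ℤ →ₗ[ℤ] ℤ)) = 0) :
    (Nat.card (LinearMap.ker ((Sm n) ∘ₗ (Dm δ)) ⧸
          (LinearMap.range (Matrix.mulVecLin A)).comap (LinearMap.ker ((Sm n) ∘ₗ (Dm δ))).subtype) : ℤ)
        * |∏ i, δ i| * |∏ i, δ' i| =
      (univ.gcd δ) * (univ.gcd δ') * Nat.card (LinearMap.ker (Sm n) ⧸
        (LinearMap.range ((Dm δ) ∘ₗ (Matrix.mulVecLin A) ∘ₗ (Dm δ'))).comap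
          (LinearMap.ker (Sm n)).subtype) := by
  have h05 := Groth.Agent.S14805.main n hn δ hδ A hSDA
  rw [card_quot_eq_relIndex] at h05 ⊢
  rw [card_quot_eq_relIndex] at h05 ⊢
  have hAδ : A.mulVecLin δ' = 0 := by
    have := LinearMap.congr_fun hADΔ (1 : ℤ)
    simp only [LinearMap.comp_apply, LinearMap.zero_apply] at this
    convert this using 2
    funext i
    rw [Dm_apply]
    simp
  set H₁ := (LinearMap.range ((Dm δ) ∘ₗ (Matrix.mulVecLin A) ∘ₗ (Dm δ'))).toAddSubgroup with hH₁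
  set H₂ := (LinearMap.range ((Dm δ) ∘ₗ (Matrix.mulVecLin A))).toAddSubgroup with hH₂
  set H₃ := (LinearMap.ker (Sm n)).toAddSubgroup with hH₃
  have h12 : H₁ ≤ H₂ := by
    rintro _ ⟨x, rfl⟩
    exact ⟨Dm δ' x, rfl⟩
  have h23 : H₂ ≤ H₃ := by
    rintro _ ⟨x, rfl⟩
    exact LinearMap.congr_fun hSDA x
  have hmul := AddSubgroup.relIndex_mul_relIndex H₁ H₂ H₃ h12 h23
  -- X
  set f := ((Dm δ) ∘ₗ (Matrix.mulVecLin A)).toAddMonoidHom with hf
  have hfk : f.ker = A.mulVecLin.toAddMonoidHom.ker := by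
    ext x
    simp only [AddMonoidHom.mem_ker, hf, LinearMap.toAddMonoidHom_coe, LinearMap.comp_apply]
    constructor
    · intro h
      exact Dm_injective δ hδ (by rw [h, map_zero])
    · intro h; rw [h, map_zero]
  have e1 : H₁ = (Dm δ').toAddMonoidHom.range.map f := by
    ext x
    simp only [hH₁, Submodule.mem_toAddSubgroup, LinearMap.mem_range, AddSubgroup.mem_map,
      AddMonoidHom.mem_range, LinearMap.toAddMonoidHom_coe, exists_exists_eq_and, hf,
      LinearMap.comp_apply]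
  have e2 : H₂ = (⊤ : AddSubgroup (Fin n → ℤ)).map f := by
    ext x
    simp only [hH₂, Submodule.mem_toAddSubgroup, LinearMap.mem_range, AddSubgroup.mem_map,
      AddSubgroup.mem_top, true_and, hf, LinearMap.toAddMonoidHom_coe]
  have hX : H₁.relIndex H₂ =
      ((Dm δ').toAddMonoidHom.range ⊔ A.mulVecLin.toAddMonoidHom.ker).index := by
    rw [e1, e2, AddSubgroup.relIndex_map_map, hfk, top_sup_eq, AddSubgroup.relIndex_top_right]
  have h6 := AddSubgroup.relIndex_mul_index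
    (le_sup_left : (Dm δ').toAddMonoidHom.range ≤
      (Dm δ').toAddMonoidHom.range ⊔ A.mulVecLin.toAddMonoidHom.ker)
  rw [AddSubgroup.relIndex_sup_left, relIndex_range_Dm_ker hn δ' hδ' A hA hAδ,
    index_range_Dm δ' hδ', ← hX] at h6
  -- combine
  have hk := congrArg (Nat.cast : ℕ → ℤ) h6
  have hm := congrArg (Nat.cast : ℕ → ℤ) hmul
  push_cast at hk hm
  rw [abs_of_nonneg (gcd_nonneg δ')] at hk
  rw [← hm, ← hk]
  linear_combination (↑(H₁.relIndex H₂) * univ.gcd δ') * h05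

end Helpers

/-- Let n ≥ 1, let D, D' : ℤⁿ → ℤⁿ be given by diagonal matrices with nonzero diagonal entries, A : ℤⁿ →
ℤⁿ an integer matrix of rank n - 1, S : ℤⁿ → ℤ the sum of the coordinates and Δ : ℤ → ℤⁿ the
diagonal embedding, with S D A = 0 and A D' Δ = 0; let d, d' be the greatest common divisors of the
diagonal entries of D and of D' (dℤ = im(S D), d'ℤ = im(S D')). Then #(ker(S D)/im A) · |det D| ·
|det D'| = d d' · #(ker S/im(D A D')). -/
theorem result (n : ℕ) (hn : 0 < n) (δ δ' : Fin n → ℤ) (hδ : ∀ i, δ i ≠ 0) (hδ' : ∀ i, δ' i ≠ 0)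
    (A : Matrix (Fin n) (Fin n) ℤ) (hA : A.rank = n - 1)
    (hSDA : (∑ i : Fin n, (LinearMap.proj i : (Fin n → ℤ) →ₗ[ℤ] ℤ)) ∘ₗ
        (Matrix.mulVecLin (Matrix.diagonal δ)) ∘ₗ (Matrix.mulVecLin A) = 0)
    (hADΔ : (Matrix.mulVecLin A) ∘ₗ (Matrix.mulVecLin (Matrix.diagonal δ')) ∘ₗ
        (LinearMap.pi fun _ : Fin n => (LinearMap.id : ℤ →ₗ[ℤ] ℤ)) = 0) :
    (Nat.card (LinearMap.ker ((∑ i : Fin n, (LinearMap.proj i : (Fin n → ℤ) →ₗ[ℤ] ℤ)) ∘ₗ (Matrix.mulVecLin (Matrix.diagonal δ))) ⧸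
          (LinearMap.range (Matrix.mulVecLin A)).comap (LinearMap.ker ((∑ i : Fin n, (LinearMap.proj i : (Fin n → ℤ) →ₗ[ℤ] ℤ)) ∘ₗ (Matrix.mulVecLin (Matrix.diagonal δ)))).subtype) : ℤ) * |∏ i, δ i| * |∏ i, δ' i| =
      (univ.gcd δ) * (univ.gcd δ') * Nat.card (LinearMap.ker (∑ i : Fin n, (LinearMap.proj i : (Fin n → ℤ) →ₗ[ℤ] ℤ)) ⧸
          (LinearMap.range ((Matrix.mulVecLin (Matrix.diagonal δ)) ∘ₗ (Matrix.mulVecLin A) ∘ₗ (Matrix.mulVecLin (Matrix.diagonal δ')))).comap (LinearMap.ker (∑ i : Fin n, (LinearMap.proj i : (Fin n → ℤ) →ₗ[ℤ] ℤ))).subtype) := by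
  exact main n hn δ δ' hδ hδ' A hA hSDA hADΔ

end Groth.Agent.S14806
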