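import Groth.Statements.S5683
import Groth.Agent.Lib.helper9.PullFF

set_option autoImplicit false
universe u
open CategoryTheory CategoryTheory.Limits AlgebraicGeometry
open FGA

namespace Groth.Agent.S5683

set_option backward.isDefEq.respectTransparency false in
open Groth.Agent.Lib.helper9.PullFF in
lemma main {X S : Scheme.{u}} (f : X ⟶ S)
    (hf : ∀ U : S.Opens, Function.Bijective (f.app U)) (L : S.Modules) (hL : PicF.IsInvertible L)
    (htriv : Nonempty ((Scheme.Modules.pullback f).obj L ≅ Coh.structureModule X)) :
    Nonempty (L ≅ Coh.structureModule S) := by
  obtain ⟨α⟩ := htriv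
  haveI h1 := isIso_unit_of_isInvertible f hf L hL
  haveI h2 := isIso_unit_structureModule f hf
  obtain ⟨p⟩ := nonempty_pullback_structureModule_iso f
  let γ : (Scheme.Modules.pullback f).obj L ≅
      (Scheme.Modules.pullback f).obj (Coh.structureModule S) := α ≪≫ p.symm
  obtain ⟨a, ha⟩ := (pullback_map_bijective f L (Coh.structureModule S)).2 γ.hom
  obtain ⟨b, hb⟩ := (pullback_map_bijective f (Coh.structureModule S) L).2 γ.inv
  have ha' : (Scheme.Modules.pullback f).map a = γ.hom := ha
  have hb' : (Scheme.Modules.pullback f).map b = γ.inv := hb
  have hab : a ≫ b = 𝟙 L := by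
    apply (pullback_map_bijective f L L).1
    show (Scheme.Modules.pullback f).map (a ≫ b) = (Scheme.Modules.pullback f).map (𝟙 L)
    rw [CategoryTheory.Functor.map_comp, CategoryTheory.Functor.map_id, ha', hb', Iso.hom_inv_id]
  have hba : b ≫ a = 𝟙 (Coh.structureModule S) := by
    apply (pullback_map_bijective f (Coh.structureModule S) (Coh.structureModule S)).1
    show (Scheme.Modules.pullback f).map (b ≫ a) =
      (Scheme.Modules.pullback f).map (𝟙 (Coh.structureModule S))
    rw [CategoryTheory.Functor.map_comp, CategoryTheory.Functor.map_id, ha', hb', Iso.inv_hom_id]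
  exact ⟨⟨a, b, hab, hba⟩⟩


/-- Let f : X ⟶ S be a morphism of schemes such that for every open U of S the induced map from sections
of the structure sheaf of S over U to sections of the structure sheaf of X over the inverse image of
U is bijective. If L is an invertible module on S whose pullback to X is isomorphic to the structure
sheaf of X, then L is isomorphic to the structure sheaf of S: pullback of invertible modules along f
is injective on isomorphism classes. This is exactness at Pic(S). -/
theorem result {X S : Scheme.{u}} (f : X ⟶ S)
    (hf : ∀ U : S.Opens, Function.Bijective (f.app U)) (L : S.Modules) (hL : PicF.IsInvertible L)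
    (htriv : Nonempty ((Scheme.Modules.pullback f).obj L ≅ Coh.structureModule X)) :
    Nonempty (L ≅ Coh.structureModule S) := by
  exact main f hf L hL htriv

end Groth.Agent.S5683
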