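import Groth.Statements.S1484
import Mathlib
-- import your own Groth.Agent.* helpers here

set_option autoImplicit false
universe u
open FlatMor

namespace Groth.Agent.S1484

/-- Let R be a ring, p_1, …, p_r primes of R none of which is contained in another, k_i ⊆ κ(p_i)
subfields over which κ(p_i) is not algebraic, and J an ideal of R contained in none of the p_i. Then
some x ∈ J has image in κ(p_i) transcendental over k_i for every i. -/
theorem result {R : Type u} [CommRing R] {r : ℕ} (p : Fin r → Ideal R) [∀ i, (p i).IsPrime]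
    (hp : ∀ i j, i ≠ j → ¬ p i ≤ p j) (k : ∀ i, Subfield (p i).ResidueField)
    (hk : ∀ i, ¬ Algebra.IsAlgebraic ↥(k i) (p i).ResidueField) (J : Ideal R) (hJ : ∀ i, ¬ J ≤ p i) :
    ∃ x ∈ J, ∀ i, Transcendental ↥(k i) (algebraMap R (p i).ResidueField x) := by
  classical
  have hA : ∀ i, ∃ z : R, Transcendental (k i) (algebraMap R (p i).ResidueField z) := by
    intro i
    by_contra hcon
    push Not at hcon
    apply hk i
    refine ⟨fun x => ?_⟩
    obtain ⟨a, b, hb, rfl⟩ := IsFractionRing.div_surjective (A := R ⧸ p i) x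
    obtain ⟨a, rfl⟩ := Ideal.Quotient.mk_surjective a
    obtain ⟨b, rfl⟩ := Ideal.Quotient.mk_surjective b
    rw [Ideal.algebraMap_quotient_residueField_mk, Ideal.algebraMap_quotient_residueField_mk]
    have ha : IsAlgebraic (k i) (algebraMap R (p i).ResidueField a) := not_not.mp (hcon a)
    have hb' : IsAlgebraic (k i) (algebraMap R (p i).ResidueField b) := not_not.mp (hcon b)
    rw [div_eq_mul_inv]
    exact ha.mul (IsAlgebraic.inv_iff.mpr hb')
  choose z hz using hA
  have hB : ∀ i, ∃ x ∈ J, (∀ j, j ≠ i → x ∈ p j) ∧ x ∉ p i := by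
    intro i
    have : ¬ (J ⊓ (Finset.univ.erase i).inf p) ≤ p i := by
      rw [Ideal.IsPrime.inf_le inferInstance, Ideal.IsPrime.inf_le' inferInstance]
      rintro (h | ⟨j, hj, hji⟩)
      · exact hJ i h
      · exact hp j i (Finset.ne_of_mem_erase hj) hji
    obtain ⟨x, hx, hxi⟩ := SetLike.not_le_iff_exists.mp this
    refine ⟨x, hx.1, fun j hj => ?_, hxi⟩
    exact (Finset.inf_le (Finset.mem_erase.mpr ⟨hj, Finset.mem_univ j⟩) : _ ≤ p j) hx.2
  choose x hxJ hxp hxi using hB
  let y : Fin r → R := fun i =>
    if IsAlgebraic (k i) (algebraMap R (p i).ResidueField (x i)) then z i else 1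
  refine ⟨∑ i, x i * y i, J.sum_mem fun i _ => J.mul_mem_right _ (hxJ i), fun i => ?_⟩
  have himg : algebraMap R (p i).ResidueField (∑ j, x j * y j) =
      algebraMap R (p i).ResidueField (x i) * algebraMap R (p i).ResidueField (y i) := by
    rw [map_sum, Finset.sum_eq_single i]
    · rw [map_mul]
    · intro j _ hj
      rw [map_mul, Ideal.algebraMap_residueField_eq_zero.mpr (hxp j i hj.symm), zero_mul]
    · simp
  rw [himg]
  have hxne : algebraMap R (p i).ResidueField (x i) ≠ 0 := by
    rw [Ne, Ideal.algebraMap_residueField_eq_zero]; exact hxi i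
  by_cases hal : IsAlgebraic (k i) (algebraMap R (p i).ResidueField (x i))
  · simp only [y, if_pos hal]
    intro h
    exact hz i (IsAlgebraic.of_mul (mem_nonZeroDivisors_of_ne_zero hxne) hal h)
  · simp only [y, if_neg hal, map_one, mul_one]
    exact hal

end Groth.Agent.S1484
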