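import Groth.Statements.S14842
import Groth.Agent.Lib.helper12.Coeff

set_option autoImplicit false
universe u v
open HopfRep

namespace Groth.Agent.S14842

open TensorProduct in
/-- Over a field K, every simple subcoalgebra D of a coalgebra C is the coefficient space of a simple
comodule. Precisely: there is a subspace E of C contained in D which is a simple subcomodule of the
regular right comodule C (E is nonzero, stable under the coaction, and its only subcomodules are 0
and E) and such that D is the least subspace D' of C with comul(E) inside the image of E ⊗ D'. Here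
a subcoalgebra of C is a subspace B whose comultiplication lands in the image of B ⊗ B, and a simple
subcoalgebra is a nonzero subcoalgebra D whose only subcoalgebras contained in D are 0 and D.
(Stated for right comodules; the published statement is for left comodules.) -/
theorem result {K : Type u} {C : Type v} [Field K]
    [AddCommGroup C] [Module K C] [Coalgebra K C]
    (D : Submodule K C) (hD0 : D ≠ ⊥) (hD : (∀ b ∈ D, CoalgebraStruct.comul (R := K) b ∈ LinearMap.range (TensorProduct.map D.subtype D.subtype)))
    (hDs : ∀ B : Submodule K C, B ≤ D → (∀ b ∈ B, CoalgebraStruct.comul (R := K) b ∈ LinearMap.range (TensorProduct.map B.subtype B.subtype)) → B = ⊥ ∨ B = D) :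
    ∃ E : Submodule K C, E ≤ D ∧ E ≠ ⊥ ∧ HopfRep.IsSubcomod (k := K) (A := C) E ∧
      (∀ E' : Submodule K C, E' ≤ E → HopfRep.IsSubcomod (k := K) (A := C) E' → E' = ⊥ ∨ E' = E) ∧
      IsLeast {D' : Submodule K C |
        ∀ e ∈ E, CoalgebraStruct.comul (R := K) e ∈ LinearMap.range (TensorProduct.map E.subtype D'.subtype)} D := by
  obtain ⟨E, hED, hE, hcf⟩ := Groth.Agent.H12Coeff.exists_simpleSub_of_simpleSubcoalg
    (D := D) ⟨hD0, hD, hDs⟩
  refine ⟨E, hED, hE.2.1, hE.1, fun E' hle hE' => hE.2.2 E' hE' hle, ?_, ?_⟩
  · intro e he
    have := Groth.Agent.H12Coeff.coact_mem_map_cfOf (C := C) hE.1 he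
    rw [hcf] at this
    exact this
  · intro D' hD'
    rw [← hcf]
    refine Groth.Agent.H12Coeff.cfOf_le_of_coact_mem fun e he => ?_
    exact ((Groth.Agent.H12Coeff.mem_range_map_iff _ _ _).1 (hD' e he)).2

end Groth.Agent.S14842
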