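import Groth.Statements.S14843
import Groth.Agent.Lib.helper12.Coeff
import Groth.Agent.S7992

set_option autoImplicit false
universe u v
open HopfRep

namespace Groth.Agent.S14843

open Groth.Agent.H12Coeff

open TensorProduct in
/-- Over a field K, a coalgebra C is cosemisimple, i.e. C is the internal direct sum of a family of
simple subcoalgebras, if and only if every right C-comodule is completely reducible (every
subcomodule admits a complementary subcomodule). Here a subcoalgebra of C is a subspace B whose
comultiplication lands in the image of B ⊗ B, and a simple subcoalgebra is a nonzero subcoalgebra D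
whose only subcoalgebras contained in D are 0 and D. (Comodules are quantified in the universe of C;
the published statement is for left comodules, and the equivalence of 'direct sum of simple
subcomodules' with 'every subcomodule is a direct summand' is the standard one.) -/
theorem result {K : Type u} {C : Type v} [Field K]
    [AddCommGroup C] [Module K C] [Coalgebra K C] :
    (∃ (ι : Type v) (D : ι → Submodule K C), iSupIndep D ∧ iSup D = ⊤ ∧ ∀ i,
        D i ≠ ⊥ ∧ (∀ b ∈ D i, CoalgebraStruct.comul (R := K) b ∈ LinearMap.range (TensorProduct.map (D i).subtype (D i).subtype)) ∧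
        ∀ B : Submodule K C, B ≤ D i → (∀ b ∈ B, CoalgebraStruct.comul (R := K) b ∈ LinearMap.range (TensorProduct.map B.subtype B.subtype)) → B = ⊥ ∨ B = D i) ↔
      ∀ (V : Type v) [AddCommGroup V] [Module K V] [HopfRep.Comod K C V],
        HopfRep.IsSemisimpleComod K C V := by
  constructor
  · rintro ⟨ι, D, -, hsup, hDi⟩
    have hC : sSup {S : Submodule K C | IsSimpleSub (C := C) (V := C) S} = ⊤ := by
      rw [eq_top_iff, ← hsup]
      refine iSup_le fun i => ?_
      obtain ⟨E, -, hE, hcf⟩ := exists_simpleSub_of_simpleSubcoalg (D := D i) (hDi i)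
      rw [← hcf]
      refine (cfOf_le_sSup_simple_cf hE).trans (sSup_le ?_)
      rintro S' ⟨hS', -⟩
      exact le_sSup hS'
    intro V _ _ _
    exact isSemisimpleComod_of_embedding (Hoch.toInd K C V)
      (Groth.Agent.S7992.result K C V).1 (Groth.Agent.S7992.result K C V).2
      (sSup_simple_ind_eq_top hC)
  · intro h
    have hC : sSup {S : Submodule K C | IsSimpleSub (C := C) (V := C) S} = ⊤ :=
      sSup_simple_eq_top_of_semisimple (h C)
    refine ⟨{D : Submodule K C // IsSimpleSubcoalg D}, fun i => i.1, ?_, ?_, fun i => i.2⟩
    · rw [iSupIndep_def]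
      intro i
      rw [disjoint_iff]
      set R := ⨆ j, ⨆ (_ : j ≠ i), (j : Submodule K C) with hRdef
      have hR : IsSubcoalg R := isSubcoalg_iSup _ fun j => isSubcoalg_iSup _ fun _ => j.2.2.1
      rcases i.2.2.2 _ inf_le_left (isSubcoalg_inf i.2.2.1 hR) with h' | h'
      · exact h'
      · exfalso
        have hle : i.1 ≤ R := inf_eq_left.1 h'
        obtain ⟨E, hED, hE, hcf⟩ := exists_simpleSub_of_simpleSubcoalg i.2
        obtain ⟨e, heE, he0⟩ := Submodule.exists_mem_ne_zero_of_ne_bot hE.2.1
        let κ := {S' : Submodule K C // IsSimpleSub (C := C) (V := C) S' ∧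
          cfOf (C := C) (V := C) S' ≠ i.1}
        have hRle : R ≤ ⨆ a : κ, a.1 := by
          refine iSup_le fun j => iSup_le fun hj => ?_
          obtain ⟨Ej, -, hEj, hcfj⟩ := exists_simpleSub_of_simpleSubcoalg j.2
          rw [← hcfj]
          refine (cfOf_le_sSup_simple_cf hEj).trans (sSup_le ?_)
          rintro S' ⟨hS', hcfS'⟩
          exact le_iSup (fun a : κ => a.1)
            ⟨S', hS', by rw [hcfS', hcfj]; exact fun hh => hj (Subtype.ext hh)⟩
        obtain ⟨a, ha⟩ := exists_cfOf_le_of_mem_iSup (C := C) (fun a : κ => a.1)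
          (fun a => a.2.1) hE.1 heE he0 (hRle (hle (hED heE)))
        rw [hcf] at ha
        have hsimp := isSimpleSubcoalg_cfOf a.2.1
        rcases i.2.2.2 _ ha hsimp.2.1 with h'' | h''
        · exact hsimp.1 h''
        · exact a.2.2 h''
    · rw [eq_top_iff, ← hC]
      refine sSup_le fun S hS => ?_
      exact (le_cfOf_regular S).trans
        (le_iSup (fun i : {D : Submodule K C // IsSimpleSubcoalg D} => i.1)
          ⟨_, isSimpleSubcoalg_cfOf hS⟩)

end Groth.Agent.S14843
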