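import Groth.Statements.S14844
import Groth.Agent.Lib.helper12.Comod
import Mathlib.Algebra.DirectSum.Module
import Mathlib.Tactic

set_option autoImplicit false
universe u v w w'
open HopfRep

namespace Groth.Agent.S14844

open TensorProduct Groth.Agent.H12Comod

set_option linter.unusedSectionVars false

section aux

variable {R : Type u} {C : Type v} [CommRing R] [AddCommGroup C] [Module R C] [Coalgebra R C]
  {ι : Type w} (D : ι → Submodule R C)

lemma exists_proj (hind : iSupIndep D) (htop : iSup D = ⊤) :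
    ∃ π : ι → (C →ₗ[R] C), (∀ i, ∀ d ∈ D i, π i d = d) ∧
      (∀ i j, j ≠ i → ∀ d ∈ D j, π i d = 0) := by
  classical
  have hInt := DirectSum.isInternal_submodule_of_iSupIndep_of_iSup_eq_top hind htop
  let σ := LinearEquiv.ofBijective (DirectSum.coeLinearMap D) hInt
  have hσ : ∀ j, ∀ d (hd : d ∈ D j), σ.symm d = DirectSum.lof R ι (fun i => D i) j ⟨d, hd⟩ := by
    intro j d hd
    rw [LinearEquiv.symm_apply_eq]
    simp [σ]
  refine ⟨fun i => (D i).subtype ∘ₗ DirectSum.component R ι (fun i => D i) i ∘ₗ σ.symm.toLinearMap,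
    ?_, ?_⟩
  · intro i d hd
    simp only [LinearMap.comp_apply, LinearEquiv.coe_coe]
    rw [hσ i d hd, DirectSum.component.lof_self]
    rfl
  · intro i j hji d hd
    simp only [LinearMap.comp_apply, LinearEquiv.coe_coe]
    rw [hσ j d hd, DirectSum.component.of, dif_neg hji, map_zero]

/-- generic left contraction -/
noncomputable def Lg {M N : Type*} [AddCommGroup M] [Module R M] [AddCommGroup N] [Module R N]
    (φ : M →ₗ[R] R) : M ⊗[R] N →ₗ[R] N :=
  (TensorProduct.lid R N).toLinearMap ∘ₗ φ.rTensor N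

@[simp] lemma Lg_tmul {M N : Type*} [AddCommGroup M] [Module R M] [AddCommGroup N] [Module R N]
    (φ : M →ₗ[R] R) (a : M) (b : N) : Lg φ (a ⊗ₜ[R] b) = φ a • b := by simp [Lg]

lemma T_map {M N : Type*} [AddCommGroup M] [Module R M] [AddCommGroup N] [Module R N]
    (f : M →ₗ[R] C) (g : N →ₗ[R] C) (φ : C →ₗ[R] R) (y : M ⊗[R] N) :
    T C φ (TensorProduct.map f g y) = f (T M (φ ∘ₗ g) y) := by
  induction y using TensorProduct.induction_on with
  | zero => simp
  | tmul m n => simp [T]
  | add x y hx hy => simp only [map_add, hx, hy]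

lemma Lg_map {M N : Type*} [AddCommGroup M] [Module R M] [AddCommGroup N] [Module R N]
    (f : M →ₗ[R] C) (g : N →ₗ[R] C) (φ : C →ₗ[R] R) (y : M ⊗[R] N) :
    Lg φ (TensorProduct.map f g y) = g (Lg (φ ∘ₗ f) y) := by
  induction y using TensorProduct.induction_on with
  | zero => simp
  | tmul m n => simp
  | add x y hx hy => simp only [map_add, hx, hy]

lemma T_lTensor {V : Type*} [AddCommGroup V] [Module R V] {N : Type*} [AddCommGroup N] [Module R N]
    (g : N →ₗ[R] C) (φ : C →ₗ[R] R) (y : V ⊗[R] N) :
    T V φ (g.lTensor V y) = T V (φ ∘ₗ g) y := by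
  induction y using TensorProduct.induction_on with
  | zero => simp
  | tmul m n => simp [T]
  | add x y hx hy => simp only [map_add, hx, hy]

lemma T_rTensor_assoc_symm {V : Type*} [AddCommGroup V] [Module R V] (φ : C →ₗ[R] R)
    (t : V ⊗[R] (C ⊗[R] C)) :
    (T V φ).rTensor C ((TensorProduct.assoc R V C C).symm t) = (Lg φ).lTensor V t := by
  induction t using TensorProduct.induction_on with
  | zero => simp
  | tmul v cd =>
    induction cd using TensorProduct.induction_on with
    | zero => simp
    | tmul a b => simp [TensorProduct.smul_tmul]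
    | add x y hx hy => simp only [TensorProduct.tmul_add, map_add, hx, hy]
  | add x y hx hy => simp only [map_add, hx, hy]

end aux

section main

variable {R : Type u} {C : Type v} [CommRing R] [AddCommGroup C] [Module R C] [Coalgebra R C]
  {ι : Type w} (D : ι → Submodule R C)
  (hD : ∀ i, ∀ d ∈ D i, CoalgebraStruct.comul (R := R) d ∈
      LinearMap.range (TensorProduct.map (D i).subtype (D i).subtype))
  (htop : iSup D = ⊤)
  (π : ι → (C →ₗ[R] C)) (hπ1 : ∀ i, ∀ d ∈ D i, π i d = d)
  (hπ2 : ∀ i j, j ≠ i → ∀ d ∈ D j, π i d = 0)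
  {V : Type w'} [AddCommGroup V] [Module R V] [HopfRep.Comod R C V]

include htop in
lemma ext_on_D {M : Type*} [AddCommGroup M] [Module R M] (f g : C →ₗ[R] M)
    (h : ∀ j, ∀ d ∈ D j, f d = g d) : f = g := by
  have hle : (⊤ : Submodule R C) ≤ LinearMap.eqLocus f g := by
    rw [← htop]
    exact iSup_le fun j d hd => h j d hd
  ext c
  exact hle (Submodule.mem_top : c ∈ ⊤)

include htop hπ1 hπ2 in
lemma pi_mem (i : ι) (c : C) : π i c ∈ D i := by
  have hle : (⊤ : Submodule R C) ≤ (D i).comap (π i) := by
    rw [← htop]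
    refine iSup_le fun j d hd => ?_
    rw [Submodule.mem_comap]
    by_cases hji : j = i
    · subst hji
      rw [hπ1 j d hd]; exact hd
    · rw [hπ2 i j hji d hd]; exact Submodule.zero_mem _
  exact hle (Submodule.mem_top : c ∈ ⊤)

/-- the functionals `e_i = ε ∘ π_i` -/
noncomputable def e (i : ι) : C →ₗ[R] R := CoalgebraStruct.counit (R := R) (A := C) ∘ₗ π i

include hπ1 in
lemma e_comp_self (i : ι) : e π i ∘ₗ (D i).subtype =
    CoalgebraStruct.counit (R := R) (A := C) ∘ₗ (D i).subtype := by
  ext d
  simp [e, hπ1 i d d.2]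

include hπ2 in
lemma e_comp_ne (i j : ι) (hji : j ≠ i) : e π i ∘ₗ (D j).subtype = 0 := by
  ext d
  simp [e, hπ2 i j hji d d.2]

lemma T_counit_comul (c : C) :
    T C (CoalgebraStruct.counit (R := R) (A := C)) (CoalgebraStruct.comul (R := R) c) = c := by
  have h := LinearMap.congr_fun (Coalgebra.lTensor_counit_comp_comul (R := R) (A := C)) c
  simp only [LinearMap.comp_apply, LinearMap.flip_apply, TensorProduct.mk_apply] at h
  simp only [T, LinearMap.comp_apply, LinearEquiv.coe_coe]
  rw [h]; simp

lemma Lg_counit_comul (c : C) :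
    Lg (CoalgebraStruct.counit (R := R) (A := C)) (CoalgebraStruct.comul (R := R) c) = c := by
  have h := LinearMap.congr_fun (Coalgebra.rTensor_counit_comp_comul (R := R) (A := C)) c
  simp only [LinearMap.comp_apply, TensorProduct.mk_apply] at h
  simp only [Lg, LinearMap.comp_apply, LinearEquiv.coe_coe]
  rw [h]; simp

include hD htop hπ1 hπ2 in
lemma S_eq (i : ι) : T C (e π i) ∘ₗ CoalgebraStruct.comul (R := R) (A := C) = π i := by
  apply ext_on_D D htop
  intro j d hd
  obtain ⟨y, hy⟩ := hD j d hd
  rw [LinearMap.comp_apply, ← hy, T_map]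
  by_cases hji : j = i
  · subst hji
    rw [e_comp_self D π hπ1, ← T_map, hy, T_counit_comul, hπ1 j d hd]
  · rw [e_comp_ne D π hπ2 i j hji, hπ2 i j hji d hd]
    simp [T]

include hD htop hπ1 hπ2 in
lemma S'_eq (i : ι) : Lg (e π i) ∘ₗ CoalgebraStruct.comul (R := R) (A := C) = π i := by
  apply ext_on_D D htop
  intro j d hd
  obtain ⟨y, hy⟩ := hD j d hd
  rw [LinearMap.comp_apply, ← hy, Lg_map]
  by_cases hji : j = i
  · subst hji
    rw [e_comp_self D π hπ1, ← Lg_map, hy, Lg_counit_comul, hπ1 j d hd]
  · rw [e_comp_ne D π hπ2 i j hji, hπ2 i j hji d hd]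
    simp [Lg]

/-- the idempotents of `V` -/
noncomputable def p (i : ι) : V →ₗ[R] V :=
  T V (e π i) ∘ₗ HopfRep.Comod.coact (k := R) (A := C) (V := V)

include hD htop hπ1 hπ2 in
lemma coact_p (i : ι) (v : V) :
    HopfRep.Comod.coact (k := R) (A := C) (p π i v) =
      (π i).lTensor V (HopfRep.Comod.coact (k := R) (A := C) v) := by
  rw [p, LinearMap.comp_apply, coact_T_coact, S, S_eq D hD htop π hπ1 hπ2]

include hD htop hπ1 hπ2 in
lemma p_rTensor_coact (i : ι) (v : V) :
    (p (V := V) π i).rTensor C (HopfRep.Comod.coact (k := R) (A := C) v) =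
      (π i).lTensor V (HopfRep.Comod.coact (k := R) (A := C) v) := by
  have hco := LinearMap.congr_fun (HopfRep.Comod.coassoc (k := R) (A := C) (V := V)) v
  simp only [LinearMap.comp_apply, LinearEquiv.coe_coe] at hco
  have h2 : (HopfRep.Comod.coact (k := R) (A := C) (V := V)).rTensor C
      (HopfRep.Comod.coact (k := R) (A := C) v) =
      (TensorProduct.assoc R V C C).symm ((CoalgebraStruct.comul (R := R) (A := C)).lTensor V
        (HopfRep.Comod.coact (k := R) (A := C) v)) := by
    rw [← hco, LinearEquiv.symm_apply_apply]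
  rw [p, LinearMap.rTensor_comp, LinearMap.comp_apply, h2, T_rTensor_assoc_symm,
    ← LinearMap.comp_apply, ← LinearMap.lTensor_comp, S'_eq D hD htop π hπ1 hπ2]

lemma T_counit_coact (v : V) :
    T V (CoalgebraStruct.counit (R := R) (A := C)) (HopfRep.Comod.coact (k := R) (A := C) v) = v := by
  have hcu := LinearMap.congr_fun (HopfRep.Comod.counit_comp (k := R) (A := C) (V := V)) v
  simp only [LinearMap.comp_apply, LinearMap.flip_apply, TensorProduct.mk_apply] at hcu
  simp only [T, LinearMap.comp_apply, LinearEquiv.coe_coe]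
  rw [hcu]; simp

/-- the isotypic part -/
noncomputable def Vi (i : ι) : Submodule R V :=
  (LinearMap.range (LinearMap.lTensor V (D i).subtype)).comap
    (HopfRep.Comod.coact (k := R) (A := C) (V := V))

include hD htop hπ1 hπ2 in
lemma p_mem (i : ι) (v : V) : p π i v ∈ Vi (V := V) D i := by
  rw [Vi, Submodule.mem_comap, coact_p D hD htop π hπ1 hπ2]
  have hfac : π i = (D i).subtype ∘ₗ LinearMap.codRestrict (D i) (π i)
      (pi_mem D htop π hπ1 hπ2 i) := by
    ext c; simp
  rw [hfac, LinearMap.lTensor_comp, LinearMap.comp_apply]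
  exact ⟨_, rfl⟩

include hπ1 in
lemma p_self (i : ι) (v : V) (hv : v ∈ Vi (V := V) D i) : p π i v = v := by
  obtain ⟨y, hy⟩ := hv
  rw [p, LinearMap.comp_apply, ← hy, T_lTensor, e_comp_self D π hπ1, ← T_lTensor, hy,
    T_counit_coact]

include hπ2 in
lemma p_ne (i j : ι) (hji : j ≠ i) (v : V) (hv : v ∈ Vi (V := V) D j) : p π i v = 0 := by
  obtain ⟨y, hy⟩ := hv
  rw [p, LinearMap.comp_apply, ← hy, T_lTensor, e_comp_ne D π hπ2 i j hji]
  simp [T]

include htop hπ1 hπ2 in
lemma exists_finset_counit (c : C) : ∃ F : Finset ι, ∀ F' : Finset ι, F ⊆ F' →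
    CoalgebraStruct.counit (R := R) (A := C) c = ∑ i ∈ F', e π i c := by
  classical
  have hc : c ∈ ⨆ i, D i := by rw [htop]; trivial
  induction hc using Submodule.iSup_induction' with
  | mem j d hd =>
    refine ⟨{j}, fun F' hF' => ?_⟩
    rw [Finset.sum_eq_single j]
    · simp [e, hπ1 j d hd]
    · intro i _ hij
      simp [e, hπ2 i j (Ne.symm hij) d hd]
    · intro hj
      exact absurd (hF' (Finset.mem_singleton_self j)) hj
  | zero => exact ⟨∅, fun F' _ => by simp⟩
  | add x y _ _ hx hy =>
    obtain ⟨F₁, h₁⟩ := hx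
    obtain ⟨F₂, h₂⟩ := hy
    refine ⟨F₁ ∪ F₂, fun F' hF' => ?_⟩
    rw [map_add, h₁ F' (Finset.union_subset_left hF'), h₂ F' (Finset.union_subset_right hF'),
      ← Finset.sum_add_distrib]
    simp

include htop hπ1 hπ2 in
lemma exists_finset_T (t : V ⊗[R] C) : ∃ F : Finset ι, ∀ F' : Finset ι, F ⊆ F' →
    T V (CoalgebraStruct.counit (R := R) (A := C)) t = ∑ i ∈ F', T V (e π i) t := by
  classical
  induction t using TensorProduct.induction_on with
  | zero => exact ⟨∅, fun F' _ => by simp⟩
  | tmul x c =>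
    obtain ⟨F, hF⟩ := exists_finset_counit D htop π hπ1 hπ2 c
    refine ⟨F, fun F' hF' => ?_⟩
    simp only [T_tmul]
    rw [hF F' hF', Finset.sum_smul]
  | add x y hx hy =>
    obtain ⟨F₁, h₁⟩ := hx
    obtain ⟨F₂, h₂⟩ := hy
    refine ⟨F₁ ∪ F₂, fun F' hF' => ?_⟩
    rw [map_add, h₁ F' (Finset.union_subset_left hF'), h₂ F' (Finset.union_subset_right hF'),
      ← Finset.sum_add_distrib]
    simp

end main

open TensorProduct in
/-- Let R be a commutative ring and C an R-coalgebra, flat over R, which is the internal direct sum of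
subcoalgebras D_i (submodules whose comultiplication lands in the image of D_i ⊗ D_i, independent
and with supremum C). Then every right C-comodule V is the internal direct sum of the subcomodules
V_i, where V_i is the preimage under the coaction of the image of V ⊗ D_i in V ⊗ C, and the coaction
maps V_i into the image of V_i ⊗ D_i, so that the comodule structure of V_i reduces to a
D_i-comodule structure. (The published statement is for a flat sheaf of coalgebras over a base
scheme and left comodules on a scheme over it; this row is the case of an affine base with modules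
of global sections, for right comodules.) -/
theorem result {R : Type u} {C : Type v} [CommRing R]
    [AddCommGroup C] [Module R C] [Coalgebra R C] [Module.Flat R C]
    {ι : Type w} (D : ι → Submodule R C)
    (hD : ∀ i, ∀ d ∈ D i, CoalgebraStruct.comul (R := R) d ∈
      LinearMap.range (TensorProduct.map (D i).subtype (D i).subtype))
    (hind : iSupIndep D) (htop : iSup D = ⊤)
    {V : Type w'} [AddCommGroup V] [Module R V] [HopfRep.Comod R C V] :
    (∀ i, HopfRep.IsSubcomod (k := R) (A := C) ((LinearMap.range (LinearMap.lTensor V (D i).subtype)).comap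
        (HopfRep.Comod.coact (k := R) (A := C) (V := V)))) ∧
    iSupIndep (fun i => ((LinearMap.range (LinearMap.lTensor V (D i).subtype)).comap
        (HopfRep.Comod.coact (k := R) (A := C) (V := V)))) ∧
    (⨆ i, ((LinearMap.range (LinearMap.lTensor V (D i).subtype)).comap
        (HopfRep.Comod.coact (k := R) (A := C) (V := V)))) = ⊤ ∧
    ∀ i, ∀ v ∈ ((LinearMap.range (LinearMap.lTensor V (D i).subtype)).comap
        (HopfRep.Comod.coact (k := R) (A := C) (V := V))),
      HopfRep.Comod.coact (k := R) (A := C) v ∈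
        LinearMap.range (TensorProduct.map ((LinearMap.range (LinearMap.lTensor V (D i).subtype)).comap
        (HopfRep.Comod.coact (k := R) (A := C) (V := V))).subtype (D i).subtype) := by
  obtain ⟨π, hπ1, hπ2⟩ := exists_proj D hind htop
  have hlast : ∀ i, ∀ v ∈ Vi (V := V) D i, HopfRep.Comod.coact (k := R) (A := C) v ∈
      LinearMap.range (TensorProduct.map (Vi (V := V) D i).subtype (D i).subtype) := by
    intro i v hv
    have hv' := hv
    obtain ⟨y, hy⟩ := hv
    have h1 : HopfRep.Comod.coact (k := R) (A := C) v =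
        (p (V := V) π i).rTensor C (HopfRep.Comod.coact (k := R) (A := C) v) := by
      rw [p_rTensor_coact D hD htop π hπ1 hπ2, ← coact_p D hD htop π hπ1 hπ2,
        p_self D π hπ1 i v hv']
    have hfac : p (V := V) π i = (Vi (V := V) D i).subtype ∘ₗ
        LinearMap.codRestrict (Vi (V := V) D i) (p π i) (p_mem D hD htop π hπ1 hπ2 i) := by
      ext x; simp
    refine ⟨TensorProduct.map (LinearMap.codRestrict (Vi (V := V) D i) (p π i)
      (p_mem D hD htop π hπ1 hπ2 i)) LinearMap.id y, ?_⟩
    rw [← LinearMap.comp_apply, ← TensorProduct.map_comp, ← hfac, LinearMap.comp_id, h1, ← hy,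
      ← LinearMap.comp_apply, LinearMap.rTensor_comp_lTensor]
  refine ⟨?_, ?_, ?_, hlast⟩
  · intro i w hw
    obtain ⟨y, hy⟩ := hlast i w hw
    refine ⟨(D i).subtype.lTensor _ y, ?_⟩
    rw [← hy, ← LinearMap.comp_apply, LinearMap.rTensor_comp_lTensor]
    rfl
  · change iSupIndep (fun i => Vi (V := V) D i)
    rw [iSupIndep_def]
    intro i
    rw [disjoint_iff, eq_bot_iff]
    rintro v ⟨hv1, hv2⟩
    have hker : (⨆ j, ⨆ (_ : j ≠ i), Vi (V := V) D j) ≤ LinearMap.ker (p (V := V) π i) :=
      iSup_le fun j => iSup_le fun hj w hw => p_ne D π hπ2 i j hj w hw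
    have h0 := hker hv2
    rw [LinearMap.mem_ker, p_self D π hπ1 i v hv1] at h0
    rw [Submodule.mem_bot]
    exact h0
  · change (⨆ i, Vi (V := V) D i) = ⊤
    rw [eq_top_iff]
    intro v _
    obtain ⟨F, hF⟩ := exists_finset_T (V := V) D htop π hπ1 hπ2
      (HopfRep.Comod.coact (k := R) (A := C) v)
    have hv : v = ∑ i ∈ F, p (V := V) π i v := by
      conv_lhs => rw [← T_counit_coact (R := R) (C := C) v]
      rw [hF F subset_rfl]
      rfl
    rw [hv]
    refine Submodule.sum_mem _ fun i _ => ?_
    exact (le_iSup (fun i => Vi (V := V) D i) i) (p_mem D hD htop π hπ1 hπ2 i v)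

end Groth.Agent.S14844
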