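import Groth.Statements.S14846
import Mathlib

set_option autoImplicit false
universe u v w
open Brauer

namespace Groth.Agent.S14846

section Helpers

open TensorProduct

variable {K : Type u} {L : Type v} [Field K] [Field L] [Algebra K L]
  {A : Type w} [Ring A] [Algebra K A]

/-- `γ ⊗ id` as an algebra automorphism. -/
noncomputable def gt (γ : L ≃ₐ[K] L) : L ⊗[K] A ≃ₐ[K] L ⊗[K] A :=
  Algebra.TensorProduct.congr γ AlgEquiv.refl

@[simp] lemma gt_tmul (γ : L ≃ₐ[K] L) (l : L) (a : A) : gt γ (l ⊗ₜ[K] a) = γ l ⊗ₜ a := by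
  simp [gt]

lemma gt_eq_map (γ : L ≃ₐ[K] L) (x : L ⊗[K] A) :
    gt γ x = Algebra.TensorProduct.map (γ : L →ₐ[K] L) (AlgHom.id K A) x := by
  induction x using TensorProduct.induction_on with
  | zero => simp
  | tmul l a => simp
  | add x y hx hy => simp [hx, hy]

lemma gt_mul (γ γ' : L ≃ₐ[K] L) (x : L ⊗[K] A) : gt (γ * γ') x = gt γ (gt γ' x) := by
  induction x using TensorProduct.induction_on with
  | zero => simp
  | tmul l a => simp
  | add x y hx hy => simp [hx, hy]

lemma gt_one (x : L ⊗[K] A) : gt (1 : L ≃ₐ[K] L) x = x := by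
  induction x using TensorProduct.induction_on with
  | zero => simp
  | tmul l a => simp
  | add x y hx hy => simp [hx, hy]

lemma gt_symm_apply (γ : L ≃ₐ[K] L) (x : L ⊗[K] A) : (gt γ).symm x = gt γ⁻¹ x := by
  apply (gt γ).injective
  rw [AlgEquiv.apply_symm_apply, ← gt_mul, mul_inv_cancel, gt_one]

lemma gt_smul (γ : L ≃ₐ[K] L) (c : L) (x : L ⊗[K] A) : gt γ (c • x) = γ c • gt γ x := by
  induction x using TensorProduct.induction_on with
  | zero => simp
  | tmul l a => simp [smul_tmul']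
  | add x y hx hy => simp [hx, hy]

lemma repr_gt {ι : Type*} (b : Module.Basis ι K A) (γ : L ≃ₐ[K] L) (x : L ⊗[K] A) (j : ι) :
    (Algebra.TensorProduct.basis L b).repr (gt γ x) j =
      γ ((Algebra.TensorProduct.basis L b).repr x j) := by
  induction x using TensorProduct.induction_on with
  | zero => simp
  | tmul l a =>
    simp [Algebra.TensorProduct.basis_repr_tmul]
  | add x y hx hy => simp [hx, hy]

lemma smul_mem (S : TwoSidedIdeal (L ⊗[K] A)) (c : L) {x : L ⊗[K] A} (hx : x ∈ S) : c • x ∈ S := by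
  rw [Algebra.smul_def]
  exact S.mul_mem_left _ _ hx

/-- An element all of whose coordinates are fixed by Galois is of the form `1 ⊗ a`. -/
lemma exists_eq_one_tmul [IsGalois K L] {ι : Type*} (b : Module.Basis ι K A) (x : L ⊗[K] A)
    (hx : ∀ (γ : L ≃ₐ[K] L) (j : ι), γ ((Algebra.TensorProduct.basis L b).repr x j) =
      (Algebra.TensorProduct.basis L b).repr x j) :
    ∃ a : A, x = 1 ⊗ₜ[K] a := by
  classical
  set B := Algebra.TensorProduct.basis L b
  have hk : ∀ j, ∃ k : K, algebraMap K L k = B.repr x j := fun j =>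
    (InfiniteGalois.mem_range_algebraMap_iff_fixed (k := K) (K := L) _).2 fun γ => hx γ j
  choose k hk using hk
  refine ⟨∑ j ∈ (B.repr x).support, k j • b j, ?_⟩
  conv_lhs => rw [← B.linearCombination_repr x]
  rw [Finsupp.linearCombination_apply, Finsupp.sum, tmul_sum]
  refine Finset.sum_congr rfl fun j _ => ?_
  rw [← hk j, Algebra.TensorProduct.basis_apply, tmul_smul, smul_tmul', smul_tmul']
  simp [Algebra.smul_def]

/-- Galois-stable nonzero two-sided ideals of `L ⊗ A` are everything when `A` is simple. -/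
lemma eq_top_of_stable [IsGalois K L] [IsSimpleRing A] (S : TwoSidedIdeal (L ⊗[K] A))
    (hS : S ≠ ⊥) (hst : ∀ (γ : L ≃ₐ[K] L) (x : L ⊗[K] A), x ∈ S → gt γ x ∈ S) : S = ⊤ := by
  classical
  set b := Module.Basis.ofVectorSpace K A
  set B := Algebra.TensorProduct.basis L b
  -- there is a nonzero element
  have hex : ∃ n : ℕ, ∃ x ∈ S, x ≠ 0 ∧ (B.repr x).support.card = n := by
    by_contra hcon
    apply hS
    rw [eq_bot_iff]
    intro x hx
    by_contra hx0
    exact hcon ⟨_, x, hx, hx0, rfl⟩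
  obtain ⟨x, hxS, hx0, hxn⟩ := Nat.find_spec hex
  have hmin : ∀ y ∈ S, (B.repr y).support.card < Nat.find hex → y = 0 := by
    intro y hy hlt
    by_contra hy0
    exact Nat.find_min hex hlt ⟨y, hy, hy0, rfl⟩
  -- pick j₀ in the support
  have hne : (B.repr x).support.Nonempty := by
    rw [Finsupp.support_nonempty_iff]
    intro h
    exact hx0 (B.repr.map_eq_zero_iff.1 h)
  obtain ⟨j₀, hj₀⟩ := hne
  set c := B.repr x j₀ with hc
  have hc0 : c ≠ 0 := Finsupp.mem_support_iff.1 hj₀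
  set x' := c⁻¹ • x with hx'
  have hx'S : x' ∈ S := smul_mem S _ hxS
  have hrepr : ∀ j, B.repr x' j = c⁻¹ * B.repr x j := by
    intro j; simp [hx']
  have hj1 : B.repr x' j₀ = 1 := by rw [hrepr, ← hc, inv_mul_cancel₀ hc0]
  have hfix : ∀ (γ : L ≃ₐ[K] L) (j : _), γ (B.repr x' j) = B.repr x' j := by
    intro γ j
    have hyS : gt γ x' - x' ∈ S := S.sub_mem (hst γ x' hx'S) hx'S
    have hy0 : gt γ x' - x' = 0 := by
      apply hmin _ hyS
      rw [← hxn]
      apply Finset.card_lt_card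
      rw [Finset.ssubset_iff_of_subset]
      · refine ⟨j₀, hj₀, ?_⟩
        rw [Finsupp.mem_support_iff, not_not]
        rw [map_sub, Finsupp.sub_apply, repr_gt, hj1, map_one, sub_self]
      · intro j hj
        rw [Finsupp.mem_support_iff] at hj ⊢
        intro h0
        apply hj
        rw [map_sub, Finsupp.sub_apply, repr_gt, hrepr, h0, mul_zero, map_zero, sub_self]
    have h2 : B.repr (gt γ x' - x') j = 0 := by rw [hy0]; simp
    rw [map_sub, Finsupp.sub_apply, repr_gt] at h2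
    exact sub_eq_zero.1 h2
  obtain ⟨a, ha⟩ := exists_eq_one_tmul b x' hfix
  have ha0 : a ≠ 0 := by
    rintro rfl
    rw [tmul_zero] at ha
    have : B.repr x' j₀ = 0 := by rw [ha]; simp
    rw [hj1] at this
    exact one_ne_zero this
  -- the ideal of A
  let T : TwoSidedIdeal A :=
    TwoSidedIdeal.comap (Algebra.TensorProduct.includeRight : A →ₐ[K] L ⊗[K] A) S
  have hT : T = ⊤ := by
    rcases eq_bot_or_eq_top T with h | h
    · exfalso
      have : a ∈ T := by
        rw [TwoSidedIdeal.mem_comap, Algebra.TensorProduct.includeRight_apply, ← ha]; exact hx'S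
      rw [h] at this
      exact ha0 ((TwoSidedIdeal.mem_bot _).1 this)
    · exact h
  have h1 : (1 : A) ∈ T := by rw [hT]; trivial
  have h1' : (1 : L ⊗[K] A) ∈ S := by
    have : (Algebra.TensorProduct.includeRight : A →ₐ[K] L ⊗[K] A) 1 ∈ S :=
      (TwoSidedIdeal.mem_comap _).1 h1
    rwa [map_one] at this
  rw [eq_top_iff]
  intro y _
  have := S.mul_mem_left y 1 h1'
  rwa [mul_one] at this

theorem main [IsGalois K L] [IsSimpleRing A] (I J : TwoSidedIdeal (L ⊗[K] A))
    (hI : IsAtom I) (hJ : IsAtom J) :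
    ∃ γ : L ≃ₐ[K] L, (J : Set (L ⊗[K] A)) =
      Algebra.TensorProduct.map (γ : L →ₐ[K] L) (AlgHom.id K A) '' (I : Set (L ⊗[K] A)) := by
  classical
  let Ig : (L ≃ₐ[K] L) → TwoSidedIdeal (L ⊗[K] A) :=
    fun γ => (gt γ).toRingEquiv.mapTwoSidedIdeal I
  have hIg : ∀ γ, IsAtom (Ig γ) := fun γ =>
    ((gt (A := A) γ).toRingEquiv.mapTwoSidedIdeal.isAtom_iff I).2 hI
  have hmem : ∀ γ x, x ∈ Ig γ ↔ (gt γ).symm x ∈ I := by
    intro γ x
    change x ∈ TwoSidedIdeal.comap (gt γ).toRingEquiv.symm I ↔ _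
    rw [TwoSidedIdeal.mem_comap]
    rfl
  by_contra hcon
  push_neg at hcon
  have hne : ∀ γ, J ≠ Ig γ := by
    intro γ h
    apply hcon γ
    ext x
    rw [h]
    constructor
    · intro hx
      refine ⟨(gt γ).symm x, (hmem γ x).1 hx, ?_⟩
      rw [← gt_eq_map, AlgEquiv.apply_symm_apply]
    · rintro ⟨y, hy, rfl⟩
      apply (hmem γ _).2
      rw [← gt_eq_map, AlgEquiv.symm_apply_apply]
      exact hy
  have hzero : ∀ γ, ∀ x ∈ J, ∀ y ∈ Ig γ, x * y = 0 := by
    intro γ x hx y hy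
    have hd : J ⊓ Ig γ = ⊥ := disjoint_iff.1 (hJ.disjoint_of_ne (hIg γ) (hne γ))
    have : x * y ∈ J ⊓ Ig γ :=
      (TwoSidedIdeal.mem_inf _).2 ⟨J.mul_mem_right _ _ hx, (Ig γ).mul_mem_left _ _ hy⟩
    rw [hd] at this
    exact (TwoSidedIdeal.mem_bot _).1 this
  let S' : TwoSidedIdeal (L ⊗[K] A) := TwoSidedIdeal.mk'
    {s | ∀ (γ : L ≃ₐ[K] L), ∀ x ∈ J, x * gt γ s = 0}
    (by intro γ x _; simp)
    (by intro s t hs ht γ x hx; rw [map_add, mul_add, hs γ x hx, ht γ x hx, add_zero])
    (by intro s hs γ x hx; rw [map_neg, mul_neg, hs γ x hx, neg_zero])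
    (by
      intro r s hs γ x hx
      rw [map_mul, ← mul_assoc]
      exact hs γ _ (J.mul_mem_right _ _ hx))
    (by
      intro s r hs γ x hx
      rw [map_mul, ← mul_assoc, hs γ x hx, zero_mul])
  have hS'mem : ∀ s, s ∈ S' ↔ ∀ (γ : L ≃ₐ[K] L), ∀ x ∈ J, x * gt γ s = 0 := fun s =>
    TwoSidedIdeal.mem_mk' _ _ _ _ _ _ _
  have hIS' : I ≤ S' := by
    intro s hs
    rw [hS'mem]
    intro γ x hx
    apply hzero γ x hx
    rw [hmem, AlgEquiv.symm_apply_apply]
    exact hs
  have hS'ne : S' ≠ ⊥ := by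
    intro h
    apply hI.1
    rw [eq_bot_iff, ← h]
    exact hIS'
  have hst : ∀ (γ : L ≃ₐ[K] L) (x : L ⊗[K] A), x ∈ S' → gt γ x ∈ S' := by
    intro γ' s hs
    rw [hS'mem] at hs ⊢
    intro γ x hx
    rw [← gt_mul]
    exact hs _ x hx
  have htop := eq_top_of_stable S' hS'ne hst
  have h1 : (1 : L ⊗[K] A) ∈ S' := by rw [htop]; trivial
  rw [hS'mem] at h1
  apply hJ.1
  rw [eq_bot_iff]
  intro x hx
  have := h1 1 x hx
  rw [gt_one, mul_one] at this
  rw [this]
  exact (⊥ : TwoSidedIdeal (L ⊗[K] A)).zero_mem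

end Helpers

open TensorProduct in
/-- Let L/K be a Galois extension with group Γ = Aut_K(L), and A a K-algebra which is a simple ring. If
L ⊗_K A is semisimple, then Γ, acting on L ⊗_K A through the first tensor factor, permutes its
simple components, i.e. its minimal nonzero two-sided ideals, transitively: any minimal two-sided
ideal is carried onto any other by some γ ⊗ id. -/
theorem result
    {K : Type u} {L : Type v} [Field K] [Field L] [Algebra K L] [IsGalois K L]
    {A : Type w} [Ring A] [Algebra K A] [IsSimpleRing A]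
    [IsSemisimpleRing (L ⊗[K] A)]
    (I J : TwoSidedIdeal (L ⊗[K] A)) (hI : IsAtom I) (hJ : IsAtom J) :
    ∃ γ : L ≃ₐ[K] L, (J : Set (L ⊗[K] A)) =
      Algebra.TensorProduct.map (γ : L →ₐ[K] L) (AlgHom.id K A) '' (I : Set (L ⊗[K] A)) := by
  exact main I J hI hJ

end Groth.Agent.S14846
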