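import Groth.Statements.S14848
import Mathlib

set_option autoImplicit false
universe u v
open McKay

namespace Groth.Agent.S14848

/-- Let K be a field of characteristic zero, L an extension field of K and ξ ∈ L a primitive n-th root
of unity (n ≥ 1) with ξ + ξ⁻¹ ∈ K, say ξ + ξ⁻¹ = 2c with c ∈ K (the character of the natural
two-dimensional representation of the cyclic group of order n takes values in K). Then the cyclic
group of order n is realisable over K as a subgroup of SL(2, K): there is an element of SL(2, K) of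
order n. -/
theorem result {K : Type u} {L : Type v} [Field K] [Field L]
    [CharZero K] [Algebra K L] (n : ℕ) (hn : 1 ≤ n) (ξ : L) (hξ : IsPrimitiveRoot ξ n) (c : K)
    (hc : algebraMap K L (2 * c) = ξ + ξ⁻¹) :
    ∃ M : Matrix.SpecialLinearGroup (Fin 2) K, orderOf M = n := by
  have hn0 : n ≠ 0 := by omega
  have hξ0 : ξ ≠ 0 := hξ.ne_zero hn0
  have hinj : Function.Injective (algebraMap K L) := (algebraMap K L).injective
  by_cases h1 : n = 1
  · subst h1
    exact ⟨1, orderOf_one⟩
  by_cases h2 : n = 2
  · subst h2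
    have hdet : (!![-1, 0; 0, -1] : Matrix (Fin 2) (Fin 2) K).det = 1 := by
      simp [Matrix.det_fin_two]
    refine ⟨⟨!![-1, 0; 0, -1], hdet⟩, ?_⟩
    haveI : Fact (Nat.Prime 2) := ⟨Nat.prime_two⟩
    apply orderOf_eq_prime
    · ext i j
      fin_cases i <;> fin_cases j <;> simp [pow_two, Matrix.mul_apply, Fin.sum_univ_two]
    · intro h
      have := congrArg (fun M : Matrix.SpecialLinearGroup (Fin 2) K => (M : Matrix (Fin 2) (Fin 2) K) 0 0) h
      simp at this
      have h2' : (2 : K) = 0 := by linear_combination -this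
      exact two_ne_zero h2'
  -- n ≥ 3
  have hn3 : 3 ≤ n := by omega
  have hξ2 : ξ ^ 2 ≠ 1 := by
    intro h
    have := (hξ.pow_eq_one_iff_dvd 2).1 h
    have := Nat.le_of_dvd (by norm_num) this
    omega
  set A : Matrix (Fin 2) (Fin 2) K := !![0, -1; 1, 2 * c] with hA
  have hdet : A.det = 1 := by simp [hA, Matrix.det_fin_two]
  set AL : Matrix (Fin 2) (Fin 2) L := (algebraMap K L).mapMatrix A with hAL
  have hALval : AL = !![0, -1; 1, ξ + ξ⁻¹] := by
    ext i j
    fin_cases i <;> fin_cases j <;> simp [hAL, hA, ← hc]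
  set P : Matrix (Fin 2) (Fin 2) L := !![1, 1; -ξ, -ξ⁻¹] with hP
  set D : Matrix (Fin 2) (Fin 2) L := Matrix.diagonal ![ξ, ξ⁻¹] with hD
  have hAP : AL * P = P * D := by
    rw [hALval, hP, hD]
    ext i j
    fin_cases i <;> fin_cases j <;>
      simp [Matrix.mul_apply, Fin.sum_univ_two, Matrix.diagonal_apply] <;> field_simp <;> ring
  have hAPk : ∀ k : ℕ, AL ^ k * P = P * D ^ k := by
    intro k
    induction k with
    | zero => simp
    | succ k ih =>
      rw [pow_succ', mul_assoc, ih, ← mul_assoc, hAP, mul_assoc, ← pow_succ']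
  have hDk : ∀ k : ℕ, D ^ k = Matrix.diagonal ![ξ ^ k, ξ⁻¹ ^ k] := by
    intro k
    rw [hD, Matrix.diagonal_pow]
    congr 1
    ext i
    fin_cases i <;> simp
  have hPdet : IsUnit P.det := by
    rw [hP, Matrix.det_fin_two]
    simp only [Matrix.of_apply, Matrix.cons_val', Matrix.cons_val_zero, Matrix.cons_val_one,
      Matrix.cons_val_fin_one]
    rw [isUnit_iff_ne_zero]
    intro h
    apply hξ2
    field_simp at h
    linear_combination h
  have key : ∀ k : ℕ, A ^ k = 1 ↔ n ∣ k := by
    intro k
    constructor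
    · intro hk
      have h1 : AL ^ k = 1 := by rw [hAL, ← map_pow, hk, map_one]
      have h2 := hAPk k
      rw [h1, one_mul, hDk] at h2
      have h3 := congrFun (congrFun h2 0) 0
      simp [hP, Matrix.mul_apply, Fin.sum_univ_two, Matrix.diagonal_apply] at h3
      exact (hξ.pow_eq_one_iff_dvd k).1 h3.symm
    · intro hk
      have h1 : ξ ^ k = 1 := (hξ.pow_eq_one_iff_dvd k).2 hk
      have h1' : ξ⁻¹ ^ k = 1 := by rw [inv_pow, h1, inv_one]
      have h2 := hAPk k
      rw [hDk, h1, h1'] at h2
      have hD1 : Matrix.diagonal ![(1 : L), 1] = 1 := by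
        ext i j
        fin_cases i <;> fin_cases j <;> simp
      rw [hD1, mul_one] at h2
      have h3 : AL ^ k = 1 := by
        have := congrArg (fun X => X * P⁻¹) h2
        simp only [mul_assoc, Matrix.mul_nonsing_inv P hPdet, mul_one] at this
        exact this
      have h4 : (algebraMap K L).mapMatrix (A ^ k) = (algebraMap K L).mapMatrix 1 := by
        rw [map_pow, map_one]; exact h3
      have hmapinj : Function.Injective ((algebraMap K L).mapMatrix : Matrix (Fin 2) (Fin 2) K → _) := by
        intro X Y hXY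
        ext i j
        have := congrFun (congrFun hXY i) j
        simp only [RingHom.mapMatrix_apply, Matrix.map_apply] at this
        exact hinj this
      exact hmapinj h4
  let M₀ : Matrix.SpecialLinearGroup (Fin 2) K := ⟨A, hdet⟩
  refine ⟨M₀, ?_⟩
  have keySL : ∀ k : ℕ, M₀ ^ k = 1 ↔ n ∣ k := by
    intro k
    rw [← key k]
    constructor
    · intro h
      have := congrArg (fun M : Matrix.SpecialLinearGroup (Fin 2) K => (M : Matrix (Fin 2) (Fin 2) K)) h
      simpa [M₀] using this
    · intro h
      apply Subtype.ext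
      simpa [M₀] using h
  apply Nat.dvd_antisymm
  · rw [orderOf_dvd_iff_pow_eq_one, keySL]
  · rw [← keySL, pow_orderOf_eq_one]

end Groth.Agent.S14848
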