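import Groth.Statements.S14849
import Mathlib

set_option autoImplicit false
universe u v
open McKay

namespace Groth.Agent.S14849

section Helpers

open Polynomial Matrix

/-- `ξ ^ n = -1` for a primitive `2n`-th root of unity. -/
theorem pow_eq_neg_one {L : Type*} [Field L] (n : ℕ) (hn : 1 ≤ n) (ξ : L)
    (hξ : IsPrimitiveRoot ξ (2 * n)) : ξ ^ n = -1 := by
  have h1 : (ξ ^ n) ^ 2 = 1 := by rw [← pow_mul, mul_comm]; exact hξ.pow_eq_one
  have h2 : ξ ^ n ≠ 1 := hξ.pow_ne_one_of_pos_of_lt (by omega) (by omega)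
  have h3 : (ξ ^ n - 1) * (ξ ^ n + 1) = 0 := by linear_combination h1
  rcases mul_eq_zero.1 h3 with h | h
  · exact absurd (sub_eq_zero.1 h) h2
  · exact eq_neg_of_add_eq_zero_left h

/-- `X^2 - 2c X + 1` divides `X^n + 1`. -/
theorem dvd_X_pow_add_one {K : Type u} {L : Type v} [Field K] [Field L] [Algebra K L] (n : ℕ)
    (hn : 2 ≤ n) (ξ : L) (hξ : IsPrimitiveRoot ξ (2 * n)) (c : K)
    (hc : algebraMap K L (2 * c) = ξ + ξ⁻¹) :
    (X ^ 2 - C (2 * c) * X + 1 : K[X]) ∣ X ^ n + 1 := by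
  have hξ0 : ξ ≠ 0 := hξ.ne_zero (by omega)
  rw [← Polynomial.map_dvd_map' (algebraMap K L)]
  have hmap : (X ^ 2 - C (2 * c) * X + 1 : K[X]).map (algebraMap K L) = (X - C ξ) * (X - C ξ⁻¹) := by
    simp only [Polynomial.map_add, Polynomial.map_sub, Polynomial.map_mul, Polynomial.map_pow,
      Polynomial.map_X, Polynomial.map_C, Polynomial.map_one, hc]
    have : C ξ * C ξ⁻¹ = (1 : L[X]) := by rw [← C_mul, mul_inv_cancel₀ hξ0, C_1]
    rw [C_add]
    linear_combination (-1 : L[X]) * this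
  have hmap2 : (X ^ n + 1 : K[X]).map (algebraMap K L) = X ^ n + 1 := by simp
  rw [hmap, hmap2]
  have hne : ξ ≠ ξ⁻¹ := by
    intro h
    have h2 : ξ ^ 2 = 1 := by rw [pow_two]; nth_rw 2 [h]; exact mul_inv_cancel₀ hξ0
    have := hξ.dvd_of_pow_eq_one 2 h2
    have := Nat.le_of_dvd (by norm_num) this
    omega
  have hpow := pow_eq_neg_one n (by omega) ξ hξ
  have h1 : (X - C ξ) ∣ (X ^ n + 1 : L[X]) := by
    rw [dvd_iff_isRoot]; simp [hpow]
  have h2 : (X - C ξ⁻¹) ∣ (X ^ n + 1 : L[X]) := by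
    rw [dvd_iff_isRoot]; simp [hpow]
  exact IsCoprime.mul_dvd (Polynomial.isCoprime_X_sub_C_of_isUnit_sub
    (sub_ne_zero.2 hne).isUnit) h1 h2

/-- the matrix `A` -/
def Am {K : Type u} [Field K] (c : K) : Matrix (Fin 2) (Fin 2) K := !![0, -1; 1, 2 * c]

theorem Am_sq {K : Type u} [Field K] (c : K) : Am c * Am c - (2 * c) • Am c + 1 = 0 := by
  ext i j
  fin_cases i <;> fin_cases j <;> simp [Am, Matrix.mul_apply, Fin.sum_univ_two] <;> ring

theorem Am_pow_n {K : Type u} {L : Type v} [Field K] [Field L] [Algebra K L] (n : ℕ)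
    (hn : 2 ≤ n) (ξ : L) (hξ : IsPrimitiveRoot ξ (2 * n)) (c : K)
    (hc : algebraMap K L (2 * c) = ξ + ξ⁻¹) : Am c ^ n = -1 := by
  obtain ⟨Q, hQ⟩ := dvd_X_pow_add_one n hn ξ hξ c hc
  have h1 : aeval (Am c) (X ^ 2 - C (2 * c) * X + 1 : K[X]) = 0 := by
    rw [map_add, map_sub, map_mul, map_pow, aeval_X, aeval_C, map_one]
    rw [pow_two, Algebra.algebraMap_eq_smul_one, smul_mul_assoc, one_mul]
    exact Am_sq c
  have h2 := congrArg (aeval (Am c)) hQ
  rw [map_mul, h1, zero_mul] at h2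
  simp only [map_add, map_pow, aeval_X, map_one] at h2
  exact eq_neg_of_add_eq_zero_left h2

theorem pow_eq_one_of_Am_pow {K : Type u} {L : Type v} [Field K] [Field L] [Algebra K L]
    (ξ : L) (hξ0 : ξ ≠ 0) (c : K)
    (hc : algebraMap K L (2 * c) = ξ + ξ⁻¹) (k : ℕ) (hk : Am c ^ k = 1) : ξ ^ k = 1 := by
  set AL : Matrix (Fin 2) (Fin 2) L := (Am c).map (algebraMap K L) with hAL
  let v : Fin 2 → L := ![1, -ξ]
  have hv : AL.mulVec v = ξ • v := by
    ext i
    fin_cases i
    · simp [hAL, Am, v, Matrix.mulVec, dotProduct, Fin.sum_univ_two]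
    · simp only [hAL, Am, v, Matrix.mulVec, dotProduct, Fin.sum_univ_two, Matrix.map_apply]
      simp only [Fin.mk_one, Fin.isValue, of_apply, cons_val', cons_val_one, cons_val_fin_one,
        cons_val_zero, map_one, mul_one, mul_neg, Pi.smul_apply, smul_eq_mul, hc]
      field_simp
      ring
  have hvk : ∀ k : ℕ, (AL ^ k).mulVec v = ξ ^ k • v := by
    intro k
    induction k with
    | zero => simp
    | succ k ih =>
      rw [pow_succ, ← Matrix.mulVec_mulVec, hv, Matrix.mulVec_smul, ih, smul_smul, pow_succ, mul_comm]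
  have hALk : AL ^ k = 1 := by
    have h0 := map_pow (RingHom.mapMatrix (m := Fin 2) (algebraMap K L)) (Am c) k
    rw [hk, map_one] at h0
    rw [hAL]
    exact h0.symm
  have h1 := hvk k
  rw [hALk, Matrix.one_mulVec] at h1
  have h2 := congrFun h1 0
  simpa [v] using h2.symm

theorem main {K : Type u} {L : Type v}
    [Field K] [Field L] [CharZero K] [Algebra K L] (n : ℕ) (hn : 2 ≤ n) (ξ : L)
    (hξ : IsPrimitiveRoot ξ (2 * n)) (c : K) (hc : algebraMap K L (2 * c) = ξ + ξ⁻¹)
    (hsol : ∃ x y : K, x ^ 2 - (c ^ 2 - 1) * y ^ 2 = -1) :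
    ∃ f : QuaternionGroup n →* Matrix.SpecialLinearGroup (Fin 2) K, Function.Injective f := by
  classical
  obtain ⟨x, y, hxy⟩ := hsol
  haveI : NeZero (2 * n) := ⟨by omega⟩
  have hξ0 : ξ ≠ 0 := hξ.ne_zero (by omega)
  have hAdet : (Am c).det = 1 := by simp [Am, Matrix.det_fin_two_of]
  let Bm : Matrix (Fin 2) (Fin 2) K := !![x + c * y, y; y - 2 * c * (x + c * y), -(x + c * y)]
  have hBdet : Bm.det = 1 := by
    simp only [Bm, Matrix.det_fin_two_of]
    linear_combination (-1 : K) * hxy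
  let A : Matrix.SpecialLinearGroup (Fin 2) K := ⟨Am c, hAdet⟩
  let B : Matrix.SpecialLinearGroup (Fin 2) K := ⟨Bm, hBdet⟩
  have hAmn : Am c ^ n = -1 := Am_pow_n n hn ξ hξ c hc
  have hBB : Bm * Bm = -1 := by
    ext i j
    fin_cases i <;> fin_cases j <;>
      simp [Bm, Matrix.mul_apply, Fin.sum_univ_two] <;>
      first | ring1 | linear_combination (1 : K) * hxy
  have hAn : A ^ n = B * B := by
    apply Subtype.ext
    show ((A ^ n : Matrix.SpecialLinearGroup (Fin 2) K) : Matrix (Fin 2) (Fin 2) K) = Bm * Bm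
    rw [Matrix.SpecialLinearGroup.coe_pow, hBB]
    exact hAmn
  have hABA : A * B * A = B := by
    apply Subtype.ext
    show Am c * Bm * Am c = Bm
    ext i j
    fin_cases i <;> fin_cases j <;>
      simp [Am, Bm, Matrix.mul_apply, Fin.sum_univ_two] <;> ring
  have hA2n : A ^ (2 * n) = 1 := by
    apply Subtype.ext
    show ((A ^ (2 * n) : Matrix.SpecialLinearGroup (Fin 2) K) : Matrix (Fin 2) (Fin 2) K) = 1
    rw [Matrix.SpecialLinearGroup.coe_pow, mul_comm, pow_mul]
    show (Am c ^ n) ^ 2 = 1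
    rw [hAmn]; simp
  -- powers indexed by ZMod (2n)
  let pw : ZMod (2 * n) → Matrix.SpecialLinearGroup (Fin 2) K := fun i => A ^ i.val
  have hpw_add : ∀ i j : ZMod (2 * n), pw (i + j) = pw i * pw j := by
    intro i j
    show A ^ (i + j).val = A ^ i.val * A ^ j.val
    rw [ZMod.val_add, ← pow_eq_pow_mod _ hA2n, pow_add]
  have hpw_zero : pw 0 = 1 := by show A ^ (0 : ZMod (2 * n)).val = 1; rw [ZMod.val_zero, pow_zero]
  have hpw_neg : ∀ i : ZMod (2 * n), pw (-i) = (pw i)⁻¹ := by
    intro i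
    apply eq_inv_of_mul_eq_one_left
    rw [← hpw_add, neg_add_cancel, hpw_zero]
  have hpw_n : pw (n : ZMod (2 * n)) = B * B := by
    show A ^ ((n : ZMod (2 * n))).val = B * B
    rw [ZMod.val_natCast_of_lt (by omega), hAn]
  have hAB : A * B = B * A⁻¹ := by
    rw [eq_mul_inv_iff_mul_eq]; exact hABA
  have hAkB : ∀ k : ℕ, A ^ k * B = B * (A ^ k)⁻¹ := by
    intro k
    induction k with
    | zero => simp
    | succ k ih =>
      rw [pow_succ, mul_assoc, hAB, ← mul_assoc, ih, mul_assoc, ← _root_.mul_inv_rev, ← pow_succ']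
      rw [pow_succ]
  have hpwB : ∀ i : ZMod (2 * n), pw i * B = B * (pw i)⁻¹ := fun i => hAkB i.val
  let f : QuaternionGroup n →* Matrix.SpecialLinearGroup (Fin 2) K :=
    MonoidHom.mk' (fun g => match g with
      | QuaternionGroup.a i => pw i
      | QuaternionGroup.xa i => B * pw i) (by
      rintro (i | i) (j | j)
      · show pw (i + j) = pw i * pw j
        exact hpw_add i j
      · show B * pw (j - i) = pw i * (B * pw j)
        rw [← mul_assoc, hpwB, sub_eq_neg_add, hpw_add, hpw_neg, mul_assoc]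
      · show B * pw (i + j) = B * pw i * pw j
        rw [hpw_add, mul_assoc]
      · show pw ((n : ZMod (2 * n)) + j - i) = B * pw i * (B * pw j)
        rw [sub_eq_add_neg, hpw_add, hpw_add, hpw_n, hpw_neg]
        have hcomm : pw j * (pw i)⁻¹ = (pw i)⁻¹ * pw j := by
          rw [← hpw_neg, ← hpw_add, ← hpw_add, add_comm]
        rw [mul_assoc B (pw i), ← mul_assoc (pw i), hpwB, mul_assoc (B * B), hcomm]
        group)
  refine ⟨f, ?_⟩
  rw [injective_iff_map_eq_one]
  rintro (i | i) hg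
  · -- pw i = 1
    have h1 : A ^ i.val = 1 := hg
    have h2 : Am c ^ i.val = 1 := by
      have := congrArg Subtype.val h1
      rwa [Matrix.SpecialLinearGroup.coe_pow] at this
    have h3 := pow_eq_one_of_Am_pow ξ hξ0 c hc i.val h2
    have h4 := hξ.dvd_of_pow_eq_one _ h3
    have h5 : i.val = 0 := Nat.eq_zero_of_dvd_of_lt h4 (ZMod.val_lt i)
    have h6 : i = 0 := (ZMod.val_eq_zero i).1 h5
    rw [h6]; rfl
  · exfalso
    have h1 : B * pw i = 1 := hg
    have h2 : B = (pw i)⁻¹ := eq_inv_of_mul_eq_one_left h1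
    have h3 : A * B = B * A := by
      rw [h2]
      show A * (A ^ i.val)⁻¹ = (A ^ i.val)⁻¹ * A
      exact ((Commute.refl A).pow_right i.val).inv_right.eq
    have h4 : A ^ 2 = 1 := by
      have : B * A * A = B := by rw [← h3]; exact hABA
      rw [mul_assoc, mul_eq_left] at this
      rw [pow_two]; exact this
    have h5 : Am c ^ 2 = 1 := by
      have := congrArg Subtype.val h4
      rwa [Matrix.SpecialLinearGroup.coe_pow] at this
    have h6 := pow_eq_one_of_Am_pow ξ hξ0 c hc 2 h5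
    have h7 := hξ.dvd_of_pow_eq_one _ h6
    have := Nat.le_of_dvd (by norm_num) h7
    omega

end Helpers

/-- Let K be a field of characteristic zero, L an extension field of K, n ≥ 2, and ξ ∈ L a primitive
2n-th root of unity with ξ + ξ⁻¹ = 2c for some c ∈ K. If the Hilbert symbol of -1 and c² - 1 over K
equals 1, i.e. x² - (c² - 1) y² = -1 has a solution in K, then the binary dihedral group of order 4n
(generators σ, τ with τ² = σⁿ = (τσ)²) is isomorphic to a subgroup of SL(2, K). (The published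
statement is an equivalence; this row is the direction realising the group from a solution of the
conic.) -/
theorem result {K : Type u} {L : Type v}
    [Field K] [Field L] [CharZero K] [Algebra K L] (n : ℕ) (hn : 2 ≤ n) (ξ : L)
    (hξ : IsPrimitiveRoot ξ (2 * n)) (c : K) (hc : algebraMap K L (2 * c) = ξ + ξ⁻¹)
    (hsol : ∃ x y : K, x ^ 2 - (c ^ 2 - 1) * y ^ 2 = -1) :
    ∃ f : QuaternionGroup n →* Matrix.SpecialLinearGroup (Fin 2) K, Function.Injective f := by
  exact main n hn ξ hξ c hc hsol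

end Groth.Agent.S14849
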