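import Groth.Statements.S14850
import Groth.Agent.Lib.helper12.Coeff

set_option autoImplicit false
universe u v
open HopfRep

namespace Groth.Agent.S14850

open Groth.Agent.H12Coeff

open TensorProduct in
/-- Over a field K, a nonzero coalgebra C is simple if and only if C is isotypic as a right comodule
over itself, i.e. C is the internal direct sum of the images of a family of injective comodule maps
from one simple right C-comodule E. Here a subcoalgebra of C is a subspace B whose comultiplication
lands in the image of B ⊗ B, and C is simple when its only subcoalgebras are 0 and C. (Stated for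
the right regular comodule; the published statement allows left or right.) -/
theorem result {K : Type u} {C : Type v} [Field K] [AddCommGroup C]
    [Module K C] [Coalgebra K C] [Nontrivial C] :
    (∀ B : Submodule K C, (∀ b ∈ B, CoalgebraStruct.comul (R := K) b ∈ LinearMap.range (TensorProduct.map B.subtype B.subtype)) → B = ⊥ ∨ B = ⊤) ↔
    ∃ (E : Type v) (_ : AddCommGroup E) (_ : Module K E) (_ : HopfRep.Comod K C E),
      HopfRep.IsSimpleComod K C E ∧
      ∃ (ι : Type v) (f : ι → (E →ₗ[K] C)),
        (∀ i, Hoch.IsComodHom C (f i) ∧ Function.Injective (f i)) ∧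
        iSupIndep (fun i => LinearMap.range (f i)) ∧ (⨆ i, LinearMap.range (f i)) = ⊤ := by
  constructor
  · intro hsimple
    have hDtop : IsSimpleSubcoalg (⊤ : Submodule K C) :=
      ⟨top_ne_bot, isSubcoalg_top, fun B _ hB => hsimple B hB⟩
    obtain ⟨E₀, -, hE₀, hcf⟩ := exists_simpleSub_of_simpleSubcoalg hDtop
    let cE : HopfRep.Comod K C E₀ := ComodSub.Comod.restr (HopfRep.Comod.regular K C) E₀ hE₀.1
    have hEs : HopfRep.IsSimpleComod K C E₀ := isSimpleComod_restr hE₀
    have hsubt : Hoch.IsComodHom C E₀.subtype :=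
      ComodSub.isComodHom_subtype (HopfRep.Comod.regular K C) E₀ hE₀.1
    refine ⟨E₀, inferInstance, inferInstance, cE, hEs, ?_⟩
    let T : Set (Submodule K C) := {S' | ∃ f : E₀ →ₗ[K] C, Hoch.IsComodHom C f ∧
      Function.Injective f ∧ LinearMap.range f = S'}
    have hEtop := isSimpleSub_top_of_isSimpleComod hEs
    have hTsimple : ∀ S' ∈ T, IsSimpleSub (C := C) S' := by
      rintro _ ⟨f, hf, hinj, rfl⟩
      rw [← Submodule.map_top]
      exact hEtop.map (isHomOn_of_isComodHom hf ⊤) (fun x _ hx => hinj (by rw [hx, map_zero]))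
    have hTsup : sSup T = ⊤ := by
      rw [eq_top_iff, ← hcf]
      refine iSup_le fun φ => ?_
      by_cases hφ : ∃ s ∈ E₀, coef (C := C) φ s ≠ 0
      · have hhom : IsHomOn (C := C) (coef (C := C) (V := C) φ) E₀ :=
          isHomOn_of_isComodHom (coef_isComodHom φ) E₀
        have hinjOn := hE₀.injOn hhom hφ
        refine le_sSup ⟨coef (C := C) (V := C) φ ∘ₗ E₀.subtype,
          isComodHom_comp hsubt (coef_isComodHom φ), ?_, ?_⟩
        · rw [← LinearMap.ker_eq_bot, LinearMap.ker_eq_bot']
          intro x hx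
          exact Subtype.ext (hinjOn x x.2 hx)
        · rw [LinearMap.range_comp, Submodule.range_subtype]
      · push Not at hφ
        rintro _ ⟨s, hs, rfl⟩
        rw [hφ s hs]
        exact Submodule.zero_mem _
    obtain ⟨s, hsT, hind, hcompl, -⟩ := exists_compl_of_sSup_simple (C := C) T hTsimple hTsup
      (isSubcomod_bot (k := K) (C := C) (V := C))
    have hs_top : sSup s = ⊤ := by
      have := hcompl.sup_eq_top
      rwa [bot_sup_eq] at this
    have hch : ∀ i : s, ∃ f : E₀ →ₗ[K] C, Hoch.IsComodHom C f ∧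
        Function.Injective f ∧ LinearMap.range f = i.1 := fun i => hsT i.2
    choose f hf using hch
    have hfun : (fun i : s => LinearMap.range (f i)) = fun i : s => i.1 :=
      funext fun i => (hf i).2.2
    refine ⟨↥s, f, fun i => ⟨(hf i).1, (hf i).2.1⟩, ?_, ?_⟩
    · rw [hfun]
      exact (sSupIndep_iff s).1 hind
    · rw [hfun, ← sSup_eq_iSup', hs_top]
  · rintro ⟨E, iE1, iE2, iE3, hEs, ι, f, hf, -, hsup⟩ B hB
    by_cases hB0 : B = ⊥
    · exact Or.inl hB0
    right
    obtain ⟨b, hbB, hb0⟩ := Submodule.exists_mem_ne_zero_of_ne_bot hB0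
    let T : ι → Submodule K C := fun i => (⊤ : Submodule K E).map (f i)
    have hEtop := isSimpleSub_top_of_isSimpleComod hEs
    have hinj : ∀ i, ∀ x ∈ (⊤ : Submodule K E), f i x = 0 → x = 0 :=
      fun i x _ hx => (hf i).2 (by rw [hx, map_zero])
    have hT : ∀ i, IsSimpleSub (C := C) (T i) := fun i =>
      hEtop.map (isHomOn_of_isComodHom (hf i).1 ⊤) (hinj i)
    have hTsup : (⨆ i, T i) = ⊤ := by
      rw [← hsup]
      exact iSup_congr fun i => Submodule.map_top _
    have hB' : IsSubcoalg B := hB
    obtain ⟨i, hi⟩ := exists_cfOf_le_of_mem_iSup (C := C) T hT hB'.isSubcomod hbB hb0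
      (by rw [hTsup]; trivial)
    have hcfT : ∀ j, cfOf (C := C) (T j) = cfOf (C := C) (⊤ : Submodule K E) := fun j =>
      cfOf_map_eq_of_homOn hEtop.1 (isHomOn_of_isComodHom (hf j).1 ⊤) (hinj j)
    rw [eq_top_iff, ← hTsup]
    refine iSup_le fun j => ?_
    calc T j ≤ cfOf (C := C) (T j) := le_cfOf_regular _
      _ = cfOf (C := C) (T i) := by rw [hcfT, hcfT]
      _ ≤ cfOf (C := C) B := hi
      _ ≤ B := cfOf_regular_le hB' le_rfl

end Groth.Agent.S14850
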