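import Groth.Statements.S14857
import Mathlib

set_option autoImplicit false
open CAlg

namespace Groth.Agent.S14857

section Helpers

open WittVector

/-- In any Witt ring, `p ∣ [r]^p` whenever `r = p` in the base (more generally when `[r] - p ∈ V W`). -/
lemma dvd_of_coeff_zero {R : Type*} [CommRing R] (p : ℕ) [Fact p.Prime] (a : WittVector p R)
    (ha : (a - (p : WittVector p R)).coeff 0 = 0) : (p : WittVector p R) ∣ a ^ p := by
  set x := a - (p : WittVector p R) with hx
  have hxV : x = verschiebung (x.shift 1) := by
    have := eq_iterate_verschiebung (p := p) (x := x) (n := 1) (by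
      intro i hi
      have : i = 0 := by omega
      rw [this]; exact ha)
    simpa using this
  set z := x.shift 1 with hz
  have hsq : (p : WittVector p R) ∣ (verschiebung z) ^ 2 := by
    have h1 : verschiebung z * verschiebung z = verschiebung (z * frobenius (verschiebung z)) :=
      (verschiebung_mul_frobenius z (verschiebung z)).symm
    rw [frobenius_verschiebung, ← mul_assoc] at h1
    have h2 : verschiebung (z * z * (p : WittVector p R)) = verschiebung (z * z) * p := by
      rw [mul_comm (z * z) (p : WittVector p R), ← nsmul_eq_mul, map_nsmul, nsmul_eq_mul, mul_comm]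
    rw [pow_two, h1, h2]
    exact Dvd.intro_left _ rfl
  have ha' : a = (p : WittVector p R) + verschiebung z := by
    rw [← hxV, hx]; ring
  have hp2 : 2 ≤ p := (Fact.out : p.Prime).two_le
  rw [← Ideal.mem_span_singleton, ← Ideal.Quotient.eq_zero_iff_mem, map_pow, ha', map_add]
  have h0 : (Ideal.Quotient.mk (Ideal.span {(p : WittVector p R)})) (p : WittVector p R) = 0 := by
    rw [Ideal.Quotient.eq_zero_iff_mem]; exact Ideal.mem_span_singleton_self _
  have h1 : (Ideal.Quotient.mk (Ideal.span {(p : WittVector p R)})) (verschiebung z) ^ 2 = 0 := by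
    rw [← map_pow, Ideal.Quotient.eq_zero_iff_mem, Ideal.mem_span_singleton]; exact hsq
  rw [h0, zero_add]
  exact pow_eq_zero_of_le hp2 h1

theorem main (p : ℕ) [Fact p.Prime] :
    (p : WittVector p ℤ_[p]) ∣ WittVector.teichmuller p ((p : ℤ_[p]) ^ p) := by
  rw [map_pow]
  apply dvd_of_coeff_zero
  have : (teichmuller p (p : ℤ_[p]) - (p : WittVector p ℤ_[p])).coeff 0 =
      constantCoeff (teichmuller p (p : ℤ_[p]) - (p : WittVector p ℤ_[p])) := rfl
  have h1 : constantCoeff (teichmuller p (p : ℤ_[p])) = (p : ℤ_[p]) := teichmuller_coeff_zero p _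
  have h2 : constantCoeff ((p : ℕ) : WittVector p ℤ_[p]) = (p : ℤ_[p]) := map_natCast constantCoeff p
  rw [this, map_sub, h1, h2, sub_self]

end Helpers

/-- For a prime p, the Teichmüller representative [p^p] of the element p^p of the p-adic integers is
divisible by p in the ring of p-typical Witt vectors W(ℤ_p). -/
theorem result (p : ℕ) [Fact p.Prime] :
    (p : WittVector p ℤ_[p]) ∣ WittVector.teichmuller p ((p : ℤ_[p]) ^ p) := by
  exact main p

end Groth.Agent.S14857
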