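import Groth.Statements.S14859
import Groth.Agent.Lib.helper28.WittComplete

set_option autoImplicit false
universe u v w
open Disp

namespace Groth.Agent.S14859

/-- Let p be a prime, R a commutative ring with p-typical Witt vectors W = W(R), and (P, Q, F, V⁻¹) a
3n-display over R with a normal decomposition P = L ⊕ T, Q = L + I_R·T. Then V⁻¹ ⊕ F : L ⊕ T → P is
a Frobenius-linear isomorphism; stated here in the case where L and T are free with bases (l_i) and
(t_j): the family consisting of the V⁻¹(l_i) and the F(t_j) is a basis of the W-module P, i.e. it is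
linearly independent over W and spans P. -/
theorem result (p : ℕ) [Fact p.Prime] (R : Type u) [CommRing R]
    (P : Type v) [AddCommGroup P] [Module (WittVector p R) P] (D : W4c1extbt610.Display3n p R P)
    (L T : Submodule (WittVector p R) P) (hLT : IsCompl L T)
    (hQ : D.Q = L ⊔ W4c1extbt610.IV p R • T) (hLQ : L ≤ D.Q)
    (ιL ιT : Type w) (bL : Module.Basis ιL (WittVector p R) L) (bT : Module.Basis ιT (WittVector p R) T) :
    LinearIndependent (WittVector p R)
        (Sum.elim (fun i : ιL => D.Vinv ⟨(bL i : P), hLQ (bL i).2⟩) (fun j : ιT => D.F (bT j : P))) ∧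
      Submodule.span (WittVector p R)
        (Set.range (Sum.elim (fun i : ιL => D.Vinv ⟨(bL i : P), hLQ (bL i).2⟩) (fun j : ιT => D.F (bT j : P)))) = ⊤ := by
  classical
  have := D.finite
  set v : ιL ⊕ ιT → P := Sum.elim (fun i : ιL => D.Vinv ⟨(bL i : P), hLQ (bL i).2⟩)
    (fun j : ιT => D.F (bT j : P)) with hv
  set Sp := Submodule.span (WittVector p R) (Set.range v) with hSp
  -- semilinear maps
  let A : L →ₛₗ[(WittVector.frobenius : WittVector p R →+* WittVector p R)] P :=
    D.Vinv.comp (Submodule.inclusion hLQ)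
  let B : T →ₛₗ[(WittVector.frobenius : WittVector p R →+* WittVector p R)] P :=
    D.F.comp T.subtype
  have hA : ∀ l : L, A l ∈ Sp := by
    intro l
    have hl : l ∈ Submodule.span (WittVector p R) (Set.range bL) := by
      rw [bL.span_eq]; exact Submodule.mem_top
    induction hl using Submodule.span_induction with
    | mem x hx =>
      obtain ⟨i, rfl⟩ := hx
      exact Submodule.subset_span ⟨Sum.inl i, rfl⟩
    | zero => rw [map_zero]; exact Submodule.zero_mem _
    | add x y _ _ hx hy => rw [map_add]; exact Submodule.add_mem _ hx hy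
    | smul c x _ hx => rw [map_smulₛₗ]; exact Submodule.smul_mem _ _ hx
  have hB : ∀ t : T, B t ∈ Sp := by
    intro t
    have ht : t ∈ Submodule.span (WittVector p R) (Set.range bT) := by
      rw [bT.span_eq]; exact Submodule.mem_top
    induction ht using Submodule.span_induction with
    | mem x hx =>
      obtain ⟨j, rfl⟩ := hx
      exact Submodule.subset_span ⟨Sum.inr j, rfl⟩
    | zero => rw [map_zero]; exact Submodule.zero_mem _
    | add x y _ _ hx hy => rw [map_add]; exact Submodule.add_mem _ hx hy
    | smul c x _ hx => rw [map_smulₛₗ]; exact Submodule.smul_mem _ _ hx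
  have hITQ : (W4c1extbt610.IV p R • T : Submodule (WittVector p R) P) ≤ D.Q := by
    rw [hQ]; exact le_sup_right
  have hIT : ∀ x (hx : x ∈ (W4c1extbt610.IV p R • T : Submodule (WittVector p R) P)),
      D.Vinv ⟨x, hITQ hx⟩ ∈ Sp := by
    intro x hx
    refine Submodule.smul_induction_on' (p := fun x hx => D.Vinv ⟨x, hITQ hx⟩ ∈ Sp) hx ?_ ?_
    · intro a ha t ht
      have : a ∈ RingHom.ker (WittVector.constantCoeff : WittVector p R →+* R) := by
        revert ha
        rw [W4c1extbt610.IV]
        intro ha
        refine Ideal.span_le.2 ?_ ha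
        rintro _ ⟨w, rfl⟩
        exact Groth.Agent.Lib.helper28.WittComplete.verschiebung_mem_ker w
      obtain ⟨w, rfl⟩ := Groth.Agent.Lib.helper28.WittComplete.exists_verschiebung_of_mem_ker this
      have := D.Vinv_verschiebung_smul w t
      show D.Vinv ⟨WittVector.verschiebung w • t, _⟩ ∈ Sp
      rw [this]
      exact Submodule.smul_mem _ _ (hB ⟨t, ht⟩)
    · intro x hx y hy h1 h2
      have e : (⟨x + y, hITQ (add_mem hx hy)⟩ : D.Q) = ⟨x, hITQ hx⟩ + ⟨y, hITQ hy⟩ := rfl
      show D.Vinv ⟨x + y, _⟩ ∈ Sp
      rw [e, map_add]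
      exact Submodule.add_mem _ h1 h2
  have hspan : Sp = ⊤ := by
    rw [eq_top_iff, ← D.span_range_Vinv, Submodule.span_le]
    rintro _ ⟨q, rfl⟩
    have hq : (q : P) ∈ L ⊔ (W4c1extbt610.IV p R • T : Submodule (WittVector p R) P) := by
      rw [← hQ]; exact q.2
    obtain ⟨l, hl, t, ht, hlt⟩ := Submodule.mem_sup.1 hq
    have e : q = ⟨l, hLQ hl⟩ + ⟨t, hITQ ht⟩ := Subtype.ext hlt.symm
    rw [e, map_add]
    exact Submodule.add_mem _ (hA ⟨l, hl⟩) (hIT t ht)
  refine ⟨?_, hspan⟩
  -- basis of P
  let b : Module.Basis (ιL ⊕ ιT) (WittVector p R) P :=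
    (bL.prod bT).map (Submodule.prodEquivOfIsCompl L T hLT)
  let f : P →ₗ[WittVector p R] P := b.constr (WittVector p R) v
  have hf : Function.Surjective f := by
    rw [← LinearMap.range_eq_top, b.constr_range]
    exact hspan
  have hfinj : Function.Injective f := OrzechProperty.injective_of_surjective_endomorphism f hf
  have hfv : v = f ∘ b := by
    funext k
    exact (b.constr_basis (WittVector p R) v k).symm
  rw [hfv]
  exact b.linearIndependent.map' f (LinearMap.ker_eq_bot.2 hfinj)

end Groth.Agent.S14859
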