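import Groth.Statements.S14861
import Groth.Agent.S14856
import Groth.Agent.Lib.helper28.WittComplete

set_option autoImplicit false
universe u
open CAlg

namespace Groth.Agent.S14861

open WittVector

section Helpers

variable {p : ℕ} [hp : Fact p.Prime] {R : Type u} [CommRing R]

/-- kernel of `W(R) → W_m(R/c)`. -/
noncomputable def Jc (m : ℕ) (c : Ideal R) : Ideal (WittVector p R) :=
  RingHom.ker ((WittVector.truncate (p := p) m).comp (WittVector.map (Ideal.Quotient.mk c)))

theorem sub_mem_Jc_iff {m : ℕ} {c : Ideal R} {x y : WittVector p R} :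
    x - y ∈ Jc (p := p) m c ↔ ∀ i < m, x.coeff i - y.coeff i ∈ c := by
  rw [Jc, RingHom.mem_ker, map_sub, sub_eq_zero, RingHom.comp_apply, RingHom.comp_apply,
    TruncatedWittVector.ext_iff]
  constructor
  · intro h i hi
    have := h ⟨i, hi⟩
    rw [WittVector.coeff_truncate, WittVector.coeff_truncate, WittVector.map_coeff,
      WittVector.map_coeff] at this
    exact Ideal.Quotient.eq.1 this
  · intro h i
    rw [WittVector.coeff_truncate, WittVector.coeff_truncate, WittVector.map_coeff,
      WittVector.map_coeff]
    exact Ideal.Quotient.eq.2 (h i i.2)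

theorem mem_Jc_iff {m : ℕ} {c : Ideal R} {x : WittVector p R} :
    x ∈ Jc (p := p) m c ↔ ∀ i < m, x.coeff i ∈ c := by
  have := sub_mem_Jc_iff (p := p) (x := x) (y := 0) (m := m) (c := c)
  simpa using this

omit hp in
theorem cancel_pow (hR : ∀ y : R, (p : R) * y = 0 → y = 0) (k : ℕ) (y : R)
    (h : (p : R) ^ k * y = 0) : y = 0 := by
  induction k with
  | zero => simpa using h
  | succ k ih =>
    apply ih
    apply hR
    rw [← mul_assoc, ← pow_succ']
    exact h

end Helpers

/-- Let p be a prime and R a commutative ring without p-torsion which is complete and separated for the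
p-adic topology. Let a be a p-typical Witt vector over R and m, u natural numbers. Suppose that for
every s the equation p^u·x = a has a solution in the truncated Witt ring W_m(R/p^s R), i.e. there is
z ∈ W(R) such that the first m Witt components of p^u·z − a lie in p^s R. Then the equation has a
solution in W_m(R): there is x ∈ W(R) such that the first m Witt components of p^u·x − a vanish.
(The published statement asks only that R have no p-torsion; R is moreover taken p-adically complete
and separated here, which is the standing situation of the surrounding argument and is what the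
published proof uses when it passes to the limit over s.) -/
theorem result (p : ℕ) [Fact p.Prime] (R : Type u) [CommRing R]
    (hR : ∀ y : R, (p : R) * y = 0 → y = 0) [IsAdicComplete (Ideal.span {(p : R)}) R]
    (a : WittVector p R) (m u : ℕ)
    (h : ∀ s : ℕ, ∃ z : WittVector p R, ∀ i < m, ((p : WittVector p R) ^ u * z - a).coeff i ∈ Ideal.span {(p : R) ^ s}) :
    ∃ x : WittVector p R, ∀ i < m, ((p : WittVector p R) ^ u * x - a).coeff i = 0 := by
  classical
  rcases Nat.eq_zero_or_pos m with rfl | hm
  · exact ⟨0, fun i hi => absurd hi (Nat.not_lt_zero i)⟩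
  obtain ⟨m', rfl⟩ : ∃ m', m = m' + 1 := ⟨m - 1, by omega⟩
  choose z hz using h
  -- the sequence ζ t = z (u + t + 1)
  have hdiff : ∀ t t', t ≤ t' → ∀ i < m' + 1,
      ((z (u + t + 1)) - (z (u + t' + 1))).coeff i ∈ Ideal.span {(p : R) ^ (t + 1)} := by
    intro t t' htt' i hi
    rw [Ideal.mem_span_singleton]
    refine (Groth.Agent.S14856.main p R hR _ m' (t + 1) (Nat.succ_le_succ (Nat.zero_le t))).2 ?_ i
      (Nat.lt_succ_iff.1 hi)
    intro n hn
    -- ghost components
    have h1 : (p : R) ^ (n + (u + t + 1)) ∣
        WittVector.ghostComponent n ((p : WittVector p R) ^ u * z (u + t + 1) - a) := by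
      refine (Groth.Agent.S14856.main p R hR _ m' (u + t + 1) (by omega)).1 ?_ n hn
      intro i hi
      rw [← Ideal.mem_span_singleton]
      exact hz (u + t + 1) i (Nat.lt_succ_of_le hi)
    have h2 : (p : R) ^ (n + (u + t' + 1)) ∣
        WittVector.ghostComponent n ((p : WittVector p R) ^ u * z (u + t' + 1) - a) := by
      refine (Groth.Agent.S14856.main p R hR _ m' (u + t' + 1) (by omega)).1 ?_ n hn
      intro i hi
      rw [← Ideal.mem_span_singleton]
      exact hz (u + t' + 1) i (Nat.lt_succ_of_le hi)
    have h2' : (p : R) ^ (n + (u + t + 1)) ∣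
        WittVector.ghostComponent n ((p : WittVector p R) ^ u * z (u + t' + 1) - a) :=
      (pow_dvd_pow _ (by omega)).trans h2
    have h3 := dvd_sub h1 h2'
    rw [← map_sub] at h3
    have e : ((p : WittVector p R) ^ u * z (u + t + 1) - a) -
        ((p : WittVector p R) ^ u * z (u + t' + 1) - a) =
        (p : WittVector p R) ^ u * (z (u + t + 1) - z (u + t' + 1)) := by ring
    rw [e, map_mul, map_pow, map_natCast] at h3
    obtain ⟨c, hc⟩ := h3
    refine ⟨c, ?_⟩
    have : (p : R) ^ u * (WittVector.ghostComponent n (z (u + t + 1) - z (u + t' + 1)) -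
        (p : R) ^ (n + (t + 1)) * c) = 0 := by
      rw [mul_sub, hc]
      have : n + (u + t + 1) = u + (n + (t + 1)) := by omega
      rw [this, pow_add]; ring
    exact sub_eq_zero.1 (cancel_pow hR u _ this)
  -- componentwise differences
  have hdiff' : ∀ t t', t ≤ t' → ∀ i < m' + 1,
      (z (u + t + 1)).coeff i - (z (u + t' + 1)).coeff i ∈ Ideal.span {(p : R) ^ (t + 1)} := by
    intro t t' htt'
    exact sub_mem_Jc_iff.1 (mem_Jc_iff.2 (hdiff t t' htt'))
  -- limits
  have hlim : ∀ i, ∃ y : R, ∀ t, i < m' + 1 → (z (u + t + 1)).coeff i - y ∈ Ideal.span {(p : R) ^ t} := by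
    intro i
    by_cases hi : i < m' + 1
    · have hc : AdicCompletion.IsAdicCauchy (Ideal.span {(p : R)}) R
          (fun t => (z (u + t + 1)).coeff i) := by
        rw [AdicCompletion.isAdicCauchy_iff]
        intro t
        rw [SModEq.sub_mem, smul_eq_mul, Ideal.mul_top, Ideal.span_singleton_pow]
        have := hdiff' t (t + 1) (Nat.le_succ t) i hi
        exact Ideal.span_singleton_le_span_singleton.2 (pow_dvd_pow _ (Nat.le_succ t)) this
      obtain ⟨y, hy⟩ := IsPrecomplete.prec (I := Ideal.span {(p : R)}) inferInstance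
        (fun {m n} hmn => hc hmn)
      refine ⟨y, fun t _ => ?_⟩
      have := hy t
      rwa [SModEq.sub_mem, smul_eq_mul, Ideal.mul_top, Ideal.span_singleton_pow] at this
    · exact ⟨0, fun t h => absurd h hi⟩
  choose y hy using hlim
  refine ⟨WittVector.mk p y, fun i hi => ?_⟩
  apply IsHausdorff.haus' (I := Ideal.span {(p : R)})
  intro t
  rw [SModEq.zero, smul_eq_mul, Ideal.mul_top, Ideal.span_singleton_pow]
  have hx : WittVector.mk p y - z (u + t + 1) ∈ Jc (p := p) (m' + 1) (Ideal.span {(p : R) ^ t}) := by
    rw [sub_mem_Jc_iff]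
    intro i hi
    rw [WittVector.coeff_mk, ← neg_sub]
    exact Ideal.neg_mem_iff _ |>.2 (hy i t hi)
  have hz' : (p : WittVector p R) ^ u * z (u + t + 1) - a ∈
      Jc (p := p) (m' + 1) (Ideal.span {(p : R) ^ t}) := by
    rw [mem_Jc_iff]
    intro i hi
    exact Ideal.span_singleton_le_span_singleton.2 (pow_dvd_pow _ (by omega)) (hz (u + t + 1) i hi)
  have e : (p : WittVector p R) ^ u * WittVector.mk p y - a =
      (p : WittVector p R) ^ u * (WittVector.mk p y - z (u + t + 1)) +
        ((p : WittVector p R) ^ u * z (u + t + 1) - a) := by ring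
  rw [e]
  exact mem_Jc_iff.1 (Ideal.add_mem _ (Ideal.mul_mem_left _ _ hx) hz') i hi

end Groth.Agent.S14861
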