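import Groth.Statements.S14862
import Groth.Agent.S14856
import Groth.Agent.S14861
import Groth.Agent.Lib.helper28.WittProj

set_option autoImplicit false
universe u
open CAlg

namespace Groth.Agent.S14862

open WittVector Groth.Agent.Lib.helper28.WittProj

section Helpers

variable {p : ℕ} [hp : Fact p.Prime] {S : Type u} [CommRing S]

theorem ghost_eq_zero_of_mem {r : ℕ} {x : WittVector p S}
    (hx : x ∈ RingHom.ker (WittVector.truncate (p := p) (R := S) r)) (n : ℕ) (hn : n < r) :
    WittVector.ghostComponent n x = 0 := by
  rw [Groth.Agent.S14856.ghost_eq_sum]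
  refine Finset.sum_eq_zero fun i hi => ?_
  have hi' : i < r := lt_of_le_of_lt (Nat.lt_succ_iff.1 (Finset.mem_range.1 hi)) hn
  rw [mem_ker_truncate_iff.1 hx i hi', zero_pow (pow_ne_zero _ (Fact.out : p.Prime).ne_zero),
    mul_zero]

theorem mem_of_pow_mul_mem (hS : ∀ y : S, (p : S) * y = 0 → y = 0)
    [IsHausdorff (Ideal.span {(p : S)}) S] (u r : ℕ) (y : WittVector p S)
    (h : (p : WittVector p S) ^ u * y ∈ RingHom.ker (WittVector.truncate (p := p) (R := S) r)) :
    y ∈ RingHom.ker (WittVector.truncate (p := p) (R := S) r) := by
  rcases Nat.eq_zero_or_pos r with rfl | hr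
  · rw [mem_ker_truncate_iff]; intro i hi; omega
  rw [mem_ker_truncate_iff]
  intro i hi
  have hg : ∀ n < r, WittVector.ghostComponent n y = 0 := by
    intro n hn
    have := ghost_eq_zero_of_mem h n hn
    rw [map_mul, map_pow, map_natCast] at this
    exact Groth.Agent.S14861.cancel_pow hS u _ this
  apply IsHausdorff.haus' (I := Ideal.span {(p : S)})
  intro t
  rw [SModEq.zero, smul_eq_mul, Ideal.mul_top, Ideal.span_singleton_pow, Ideal.mem_span_singleton]
  rcases Nat.eq_zero_or_pos t with rfl | ht
  · simp
  refine (Groth.Agent.S14856.main p S hS y (r - 1) t ht).2 ?_ i (by omega)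
  intro n hn
  rw [hg n (by omega)]
  exact dvd_zero _

end Helpers

/-- Let p be a prime and S a commutative ring without p-torsion which is complete and separated for the
p-adic topology; write W = W(S) for the p-typical Witt vectors, I_r ⊆ W for the ideal of Witt
vectors whose first r components vanish (the image of the r-th iterate of the Verschiebung) and
W(p^s S) ⊆ W for the ideal of Witt vectors all of whose components lie in p^s S (the kernel of W(S)
→ W(S/p^s S)). Then for every natural number u the ideal p^u W is closed for the linear topology on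
W in which the ideals I_r + W(p^s S) form a neighbourhood basis of zero: the intersection over all r
and s of p^u W + I_r + W(p^s S) equals p^u W. (The published statement asks only that S have no
p-torsion; S is moreover taken p-adically complete and separated here, the case in which the result
is applied and through which the published proof goes.) -/
theorem result (p : ℕ) [Fact p.Prime] (S : Type u) [CommRing S]
    (hS : ∀ y : S, (p : S) * y = 0 → y = 0) [IsAdicComplete (Ideal.span {(p : S)}) S] (u : ℕ) :
    (⨅ r : ℕ, ⨅ s : ℕ,
        Ideal.span {(p : WittVector p S) ^ u} ⊔ RingHom.ker (WittVector.truncate (p := p) (R := S) r) ⊔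
          RingHom.ker (WittVector.map (p := p) (Ideal.Quotient.mk (Ideal.span {(p : S) ^ s})))) =
      Ideal.span {(p : WittVector p S) ^ u} := by
  apply le_antisymm
  · intro a ha
    rw [Ideal.mem_iInf] at ha
    -- solutions modulo each I_r
    have hsol : ∀ r : ℕ, ∃ x : WittVector p S,
        (p : WittVector p S) ^ u * x - a ∈ RingHom.ker (WittVector.truncate (p := p) (R := S) r) := by
      intro r
      have := Groth.Agent.S14861.result p S hS a r u (fun s => by
        have h1 := ha r
        rw [Ideal.mem_iInf] at h1
        have h2 := h1 s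
        obtain ⟨b, hb, w, hw, rfl⟩ := Submodule.mem_sup.1 h2
        obtain ⟨c, hc, d, hd, rfl⟩ := Submodule.mem_sup.1 hb
        obtain ⟨z, rfl⟩ := Ideal.mem_span_singleton'.1 hc
        refine ⟨z, ?_⟩
        have e : (p : WittVector p S) ^ u * z - (z * (p : WittVector p S) ^ u + d + w) = -(d + w) := by
          ring
        rw [e]
        have hd' : d ∈ Groth.Agent.S14861.Jc (p := p) r (Ideal.span {(p : S) ^ s}) := by
          rw [Groth.Agent.S14861.mem_Jc_iff]
          intro i hi
          rw [mem_ker_truncate_iff.1 hd i hi]
          exact Ideal.zero_mem _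
        have hw' : w ∈ Groth.Agent.S14861.Jc (p := p) r (Ideal.span {(p : S) ^ s}) := by
          rw [Groth.Agent.S14861.mem_Jc_iff]
          intro i _
          rw [RingHom.mem_ker] at hw
          have := congrArg (fun v => v.coeff i) hw
          simp only [WittVector.map_coeff, WittVector.zero_coeff] at this
          exact Ideal.Quotient.eq_zero_iff_mem.1 this
        exact Groth.Agent.S14861.mem_Jc_iff.1 (Ideal.neg_mem_iff _ |>.2 (Ideal.add_mem _ hd' hw')))
      obtain ⟨x, hx⟩ := this
      exact ⟨x, mem_ker_truncate_iff.2 hx⟩
    choose x hx using hsol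
    have hcauchy : ∀ r, x (r + 1) - x r ∈ RingHom.ker (WittVector.truncate (p := p) (R := S) r) := by
      intro r
      apply mem_of_pow_mul_mem hS u r
      have e : (p : WittVector p S) ^ u * (x (r + 1) - x r) =
          ((p : WittVector p S) ^ u * x (r + 1) - a) - ((p : WittVector p S) ^ u * x r - a) := by ring
      rw [e]
      exact Ideal.sub_mem _ (ker_truncate_anti r (hx (r + 1))) (hx r)
    obtain ⟨L, hL⟩ := ker_truncate_complete x hcauchy
    have : (p : WittVector p S) ^ u * L - a = 0 := by
      apply ker_truncate_sep
      intro r
      have e : (p : WittVector p S) ^ u * L - a =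
          (p : WittVector p S) ^ u * (L - x r) + ((p : WittVector p S) ^ u * x r - a) := by ring
      rw [e]
      exact Ideal.add_mem _ (Ideal.mul_mem_left _ _ (hL r)) (hx r)
    rw [sub_eq_zero] at this
    rw [← this]
    exact Ideal.mul_mem_right _ _ (Ideal.mem_span_singleton_self _)
  · exact le_iInf fun r => le_iInf fun s => le_sup_of_le_left le_sup_left

end Groth.Agent.S14862
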