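import Groth.Statements.S14864
import Mathlib

set_option autoImplicit false
universe u
open CAlg

namespace Groth.Agent.S14864

section Helpers

open WittVector

section
variable (p : ℕ) [Fact p.Prime] (R : Type u) [CommRing R]

lemma mem_I_iff (x : WittVector p R) :
    x ∈ RingHom.ker (WittVector.constantCoeff : WittVector p R →+* R) ↔ x.coeff 0 = 0 := Iff.rfl

lemma eq_V_of_coeff_zero (x : WittVector p R) (hx : x.coeff 0 = 0) :
    x = verschiebung (x.shift 1) := by
  have := eq_iterate_verschiebung (p := p) (x := x) (n := 1) (by
    intro i hi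
    have : i = 0 := by omega
    rw [this]; exact hx)
  simpa using this

lemma V_mul_V (z z' : WittVector p R) :
    verschiebung z * verschiebung z' = (p : WittVector p R) * verschiebung (z * z') := by
  have h1 : verschiebung z * verschiebung z' = verschiebung (z * frobenius (verschiebung z')) :=
    (verschiebung_mul_frobenius z (verschiebung z')).symm
  rw [frobenius_verschiebung, ← mul_assoc] at h1
  have h2 : verschiebung (z * z' * (p : WittVector p R)) = verschiebung (z * z') * p := by
    rw [mul_comm (z * z') (p : WittVector p R), ← nsmul_eq_mul, map_nsmul, nsmul_eq_mul, mul_comm]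
  rw [h1, h2, mul_comm]

lemma I_sq_le :
    (RingHom.ker (WittVector.constantCoeff : WittVector p R →+* R)) *
      (RingHom.ker (WittVector.constantCoeff : WittVector p R →+* R)) ≤
    Ideal.span {(p : WittVector p R)} * (RingHom.ker (WittVector.constantCoeff : WittVector p R →+* R)) := by
  rw [Ideal.mul_le]
  intro a ha b hb
  rw [eq_V_of_coeff_zero p R a ha, eq_V_of_coeff_zero p R b hb, V_mul_V]
  apply Ideal.mul_mem_mul (Ideal.mem_span_singleton_self _)
  rw [mem_I_iff]
  exact verschiebung_coeff_zero _

lemma I_pow_le (n : ℕ) :
    (RingHom.ker (WittVector.constantCoeff : WittVector p R →+* R)) ^ (n + 1) ≤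
    Ideal.span {(p : WittVector p R)} ^ n * (RingHom.ker (WittVector.constantCoeff : WittVector p R →+* R)) := by
  induction n with
  | zero => simp
  | succ n ih =>
    rw [pow_succ]
    calc _ ≤ (Ideal.span {(p : WittVector p R)} ^ n *
          (RingHom.ker (WittVector.constantCoeff : WittVector p R →+* R))) *
          (RingHom.ker (WittVector.constantCoeff : WittVector p R →+* R)) := Ideal.mul_mono_left ih
      _ = Ideal.span {(p : WittVector p R)} ^ n *
          ((RingHom.ker (WittVector.constantCoeff : WittVector p R →+* R)) *
          (RingHom.ker (WittVector.constantCoeff : WittVector p R →+* R))) := mul_assoc _ _ _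
      _ ≤ Ideal.span {(p : WittVector p R)} ^ n * (Ideal.span {(p : WittVector p R)} *
          (RingHom.ker (WittVector.constantCoeff : WittVector p R →+* R))) :=
          Ideal.mul_mono_right (I_sq_le p R)
      _ = _ := by rw [← mul_assoc, ← pow_succ]

lemma iterate_V_nsmul (j m : ℕ) (y : WittVector p R) :
    (verschiebung^[j]) (m • y) = m • (verschiebung^[j]) y := by
  induction j generalizing y with
  | zero => rfl
  | succ j ih =>
    rw [Function.iterate_succ_apply, Function.iterate_succ_apply, map_nsmul, ih]

lemma step (k : ℕ) (hk : (p : R) ^ k = 0) (j : ℕ) (x : WittVector p R)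
    (hx : x ∈ RingHom.ker (WittVector.truncate (p := p) (R := R) j)) :
    (p : WittVector p R) ^ k * x ∈ RingHom.ker (WittVector.truncate (p := p) (R := R) (j + 1)) := by
  rw [mem_ker_truncate] at hx ⊢
  have hxV := eq_iterate_verschiebung (p := p) hx
  set y := x.shift j with hy
  have e : (p : WittVector p R) ^ k * x = (verschiebung^[j]) ((p ^ k) • y) := by
    rw [iterate_V_nsmul, ← hxV, nsmul_eq_mul]
    push_cast
    rfl
  intro i hi
  rw [e]
  rcases Nat.lt_succ_iff_lt_or_eq.1 hi with h | h
  · exact iterate_verschiebung_coeff_eq_zero _ h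
  · rw [h]
    have := iterate_verschiebung_coeff (p := p) ((p ^ k) • y) j 0
    rw [zero_add] at this
    rw [this, nsmul_eq_mul]
    change constantCoeff (((p ^ k : ℕ) : WittVector p R) * y) = 0
    rw [map_mul, map_natCast]
    push_cast
    rw [hk, zero_mul]

end

theorem main (p : ℕ) [Fact p.Prime] (R : Type u) [CommRing R]
    (hp : IsNilpotent (p : R)) :
    (∀ n : ℕ, ∃ m : ℕ, (RingHom.ker (WittVector.constantCoeff : WittVector p R →+* R)) ^ m ≤ Ideal.span {(p : WittVector p R)} ^ n) ∧
      (∀ n : ℕ, ∃ m : ℕ, Ideal.span {(p : WittVector p R)} ^ m ≤ (RingHom.ker (WittVector.constantCoeff : WittVector p R →+* R)) ^ n) ∧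
        ∀ n : ℕ, ∃ m : ℕ, Ideal.span {(p : WittVector p R)} ^ m ≤ RingHom.ker (WittVector.truncate (p := p) (R := R) n) := by
  obtain ⟨k, hk⟩ := hp
  refine ⟨?_, ?_, ?_⟩
  · intro n
    exact ⟨n + 1, (I_pow_le p R n).trans Ideal.mul_le_left⟩
  · intro n
    refine ⟨k * n, ?_⟩
    rw [pow_mul]
    apply Ideal.pow_right_mono
    rw [Ideal.span_singleton_pow, Ideal.span_singleton_le_iff_mem, mem_I_iff]
    change constantCoeff ((p : WittVector p R) ^ k) = 0
    rw [map_pow, map_natCast, hk]
  · intro n
    refine ⟨k * n, ?_⟩
    rw [Ideal.span_singleton_pow, Ideal.span_singleton_le_iff_mem]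
    induction n with
    | zero =>
      rw [mem_ker_truncate]
      intro i hi; omega
    | succ n ih =>
      rw [Nat.mul_succ, pow_add, mul_comm]
      exact step p R k hk n _ ih

end Helpers

/-- Let p be a prime and R a commutative ring in which p is nilpotent; write W = W(R) for the p-typical
Witt vectors, I ⊆ W for the kernel of the projection onto the zeroth component, and I_n ⊆ W for the
kernel of the truncation W → W_n(R). The p-adic topology on W equals its I-adic topology — every
power of the ideal pW contains some power of I and every power of I contains some power of pW — and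
this common topology is finer than the V-adic one: every I_n contains some power of pW. -/
theorem result (p : ℕ) [Fact p.Prime] (R : Type u) [CommRing R]
    (hp : IsNilpotent (p : R)) :
    (∀ n : ℕ, ∃ m : ℕ, (RingHom.ker (WittVector.constantCoeff : WittVector p R →+* R)) ^ m ≤ Ideal.span {(p : WittVector p R)} ^ n) ∧
      (∀ n : ℕ, ∃ m : ℕ, Ideal.span {(p : WittVector p R)} ^ m ≤ (RingHom.ker (WittVector.constantCoeff : WittVector p R →+* R)) ^ n) ∧
        ∀ n : ℕ, ∃ m : ℕ, Ideal.span {(p : WittVector p R)} ^ m ≤ RingHom.ker (WittVector.truncate (p := p) (R := R) n) := by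
  exact main p R hp

end Groth.Agent.S14864
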