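import Groth.Statements.S14869
import Mathlib

set_option autoImplicit false
universe u v w
open CAlg

namespace Groth.Agent.S14869

open TensorProduct in
theorem mk_one_surjective (S R : Type u) [CommRing S] [CommRing R] [Algebra S R]
    (hSR : Function.Surjective (algebraMap S R)) (Q : Type v) [AddCommGroup Q] [Module S Q] :
    Function.Surjective (TensorProduct.mk S R Q 1) := by
  intro t
  induction t using TensorProduct.induction_on with
  | zero => exact ⟨0, by simp⟩
  | tmul r q =>
    obtain ⟨s, rfl⟩ := hSR r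
    refine ⟨s • q, ?_⟩
    simp only [TensorProduct.mk_apply, TensorProduct.tmul_smul]
    rw [Algebra.algebraMap_eq_smul_one, TensorProduct.smul_tmul']
  | add x y hx hy =>
    obtain ⟨a, rfl⟩ := hx
    obtain ⟨b, rfl⟩ := hy
    exact ⟨a + b, by simp [TensorProduct.tmul_add]⟩

open TensorProduct in
/-- Let S → R be a surjective homomorphism of commutative rings, let π : P_1 → P_2 be a surjective
homomorphism of S-modules with P_2 projective, and let π̄ : R ⊗_S P_1 → R ⊗_S P_2 be its base
change. Then every R-linear section σ̄ of π̄ lifts to a section of π: there is an S-linear map σ :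
P_2 → P_1 with π ∘ σ = id whose base change R ⊗_S σ is σ̄. -/
theorem result (S R : Type u) [CommRing S] [CommRing R] [Algebra S R]
    (hSR : Function.Surjective (algebraMap S R))
    (P₁ : Type v) [AddCommGroup P₁] [Module S P₁]
    (P₂ : Type w) [AddCommGroup P₂] [Module S P₂] [Module.Projective S P₂]
    (π : P₁ →ₗ[S] P₂) (hπ : Function.Surjective π)
    (σ' : R ⊗[S] P₂ →ₗ[R] R ⊗[S] P₁) (hσ' : (π.baseChange R).comp σ' = LinearMap.id) :
    ∃ σ : P₂ →ₗ[S] P₁, π.comp σ = LinearMap.id ∧ σ.baseChange R = σ' := by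
  obtain ⟨σ₀, hσ₀⟩ := Module.projective_lifting_property π LinearMap.id hπ
  have hσ₀' : ∀ y, π (σ₀ y) = y := fun y => by
    have := congrArg (fun h => h y) hσ₀
    simpa using this
  have hσ'' : ∀ t, (π.baseChange R) (σ' t) = t := fun t => by
    have := congrArg (fun h => h t) hσ'
    simpa using this
  set K := LinearMap.ker π with hK
  let m₁ : P₁ →ₗ[S] R ⊗[S] P₁ := TensorProduct.mk S R P₁ 1
  let m₂ : P₂ →ₗ[S] R ⊗[S] P₂ := TensorProduct.mk S R P₂ 1
  let f : K →ₗ[S] R ⊗[S] P₁ := m₁ ∘ₗ K.subtype
  let g : P₂ →ₗ[S] R ⊗[S] P₁ := (σ'.restrictScalars S) ∘ₗ m₂ - m₁ ∘ₗ σ₀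
  have hg : ∀ y, g y ∈ LinearMap.range f := by
    intro y
    have h1 : (LinearMap.lTensor R π) (g y) = 0 := by
      have e1 := hσ'' ((1 : R) ⊗ₜ[S] y)
      rw [LinearMap.baseChange_eq_ltensor] at e1
      simp only [g, m₁, m₂, LinearMap.sub_apply, LinearMap.comp_apply, map_sub,
        LinearMap.restrictScalars_apply, TensorProduct.mk_apply, LinearMap.lTensor_tmul, hσ₀', e1,
        sub_self]
    have hex : Function.Exact (LinearMap.lTensor R K.subtype) (LinearMap.lTensor R π) :=
      lTensor_exact R (LinearMap.exact_subtype_ker_map π) hπ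
    obtain ⟨t, ht⟩ := (hex (g y)).1 h1
    obtain ⟨k, rfl⟩ := mk_one_surjective S R hSR K t
    exact ⟨k, by simpa [f, m₁] using ht⟩
  obtain ⟨δ, hδ⟩ := Module.projective_lifting_property f.rangeRestrict
    (g.codRestrict (LinearMap.range f) hg) (LinearMap.surjective_rangeRestrict f)
  have hδ' : ∀ y, f (δ y) = g y := fun y => by
    have := congrArg (fun h => ((h y : LinearMap.range f) : R ⊗[S] P₁)) hδ
    simpa using this
  refine ⟨σ₀ + K.subtype ∘ₗ δ, ?_, ?_⟩
  · ext y
    have : π (δ y : P₁) = 0 := (δ y).2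
    simp [hσ₀', this]
  · apply TensorProduct.AlgebraTensorModule.curry_injective
    ext y
    have := hδ' y
    simp only [f, g, m₁, m₂, LinearMap.sub_apply, LinearMap.comp_apply,
      LinearMap.restrictScalars_apply, TensorProduct.mk_apply, Submodule.subtype_apply] at this
    simp only [TensorProduct.AlgebraTensorModule.curry_apply, LinearMap.restrictScalars_apply,
      TensorProduct.curry_apply, LinearMap.baseChange_tmul, LinearMap.add_apply,
      LinearMap.comp_apply, Submodule.subtype_apply, TensorProduct.tmul_add, this]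
    abel

end Groth.Agent.S14869
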