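import Groth.Statements.S14871
import Mathlib

set_option autoImplicit false
universe u v
open PLie

namespace Groth.Agent.S14871

/-- Let `L` be a finite-dimensional Lie algebra over a field of characteristic `p` equipped with a
`p`-mapping `φ`. Then the solvable radical of `L` is stable under `φ` (it is a `p`-subalgebra). -/
theorem result
    (k : Type u) [Field k] (p : ℕ) [Fact p.Prime] [CharP k p]
    (L : Type v) [LieRing L] [LieAlgebra k L] [Module.Finite k L]
    (φ : PLie.PMap k p L) (x : L) (hx : x ∈ LieAlgebra.radical k L) :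
    φ x ∈ LieAlgebra.radical k L := by
  have hp : 0 < p := (Fact.out : p.Prime).pos
  set R₀ : LieIdeal k L := LieAlgebra.radical k L with hR₀
  have hbr : ∀ y : L, ⁅y, φ x⁆ ∈ R₀ := by
    intro y
    have h1 : ⁅φ x, y⁆ = (LieAlgebra.ad k L x ^ p) y := by
      rw [← φ.ad_map x, LieAlgebra.ad_apply]
    obtain ⟨q, rfl⟩ : ∃ q, p = q + 1 := ⟨p - 1, by omega⟩
    rw [← lie_skew, h1, pow_succ', Module.End.mul_apply, LieAlgebra.ad_apply, lie_skew]
    exact R₀.lie_mem hx
  let J : LieIdeal k L :=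
    { toSubmodule := (R₀ : Submodule k L) ⊔ Submodule.span k {φ x}
      lie_mem := by
        intro y m hm
        change m ∈ (R₀ : Submodule k L) ⊔ Submodule.span k {φ x} at hm
        change ⁅y, m⁆ ∈ (R₀ : Submodule k L) ⊔ Submodule.span k {φ x}
        rw [Submodule.mem_sup] at hm
        obtain ⟨r, hr, s, hs, rfl⟩ := hm
        rw [Submodule.mem_span_singleton] at hs
        obtain ⟨c, rfl⟩ := hs
        rw [lie_add, lie_smul]
        apply Submodule.mem_sup_left
        exact Submodule.add_mem _ (R₀.lie_mem hr) (Submodule.smul_mem _ c (hbr y)) }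
  have hJmem : ∀ m, m ∈ J ↔ m ∈ (R₀ : Submodule k L) ⊔ Submodule.span k {φ x} := fun m => Iff.rfl
  have hJJ : ⁅J, J⁆ ≤ R₀ := by
    rw [LieSubmodule.lie_le_iff]
    intro a _ b hb
    rw [hJmem, Submodule.mem_sup] at hb
    obtain ⟨r, hr, s, hs, rfl⟩ := hb
    rw [Submodule.mem_span_singleton] at hs
    obtain ⟨c, rfl⟩ := hs
    rw [lie_add, lie_smul]
    exact R₀.add_mem (R₀.lie_mem hr) (R₀.smul_mem c (hbr a))
  have hsolv : LieAlgebra.IsSolvable R₀ := by
    rw [hR₀]; infer_instance
  obtain ⟨k₀, hk₀⟩ := (LieAlgebra.isSolvable_iff k _).1 hsolv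
  rw [LieIdeal.derivedSeries_eq_bot_iff] at hk₀
  have hJsolv : LieAlgebra.IsSolvable J := by
    rw [LieAlgebra.isSolvable_iff k _]
    refine ⟨k₀ + 1, ?_⟩
    rw [LieIdeal.derivedSeries_eq_bot_iff, LieAlgebra.derivedSeriesOfIdeal_add, eq_bot_iff, ← hk₀]
    apply LieAlgebra.derivedSeriesOfIdeal_mono
    rw [LieAlgebra.derivedSeriesOfIdeal_succ, LieAlgebra.derivedSeriesOfIdeal_zero]
    exact hJJ
  have hJle : J ≤ R₀ := le_sSup hJsolv
  apply hJle
  rw [hJmem]
  exact Submodule.mem_sup_right (Submodule.mem_span_singleton_self _)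

end Groth.Agent.S14871
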