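import Groth.Statements.S14872
import Mathlib

set_option autoImplicit false
universe u v
open PLie

namespace Groth.Agent.S14872

section Helpers

theorem main
    (k : Type u) [Field k] (p : ℕ) [Fact p.Prime] [CharP k p]
    (L : Type v) [LieRing L] [LieAlgebra k L] [Module.Finite k L]
    (φ : PLie.PMap k p L) (N : LieIdeal k L) (hN : LieRing.IsNilpotent N)
    (hmax : ∀ I : LieIdeal k L, LieRing.IsNilpotent I → I ≤ N)
    (x : L) (hx : x ∈ N) : φ x ∈ N := by
  classical
  have hp : p.Prime := Fact.out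
  obtain ⟨m, hm⟩ := (LieModule.isNilpotent_iff k N N).1 hN
  let F : ℕ → Submodule k L := fun j =>
    ((LieModule.lowerCentralSeries k N N j : LieSubmodule k N N) : Submodule k N).map
      (N : Submodule k L).subtype
  have hFmem : ∀ j (u : L), u ∈ F j ↔ ∃ h : u ∈ N, (⟨u, h⟩ : N) ∈ LieModule.lowerCentralSeries k N N j := by
    intro j u
    constructor
    · rintro ⟨w, hw, rfl⟩
      exact ⟨w.2, hw⟩
    · rintro ⟨h, hw⟩
      exact ⟨⟨u, h⟩, hw, rfl⟩
  have hFN : ∀ j u, u ∈ F j → u ∈ N := fun j u hu => ((hFmem j u).1 hu).1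
  have hF0 : ∀ u, u ∈ N → u ∈ F 0 := by
    intro u hu
    rw [hFmem]
    exact ⟨hu, by simp⟩
  have hFm : ∀ u, u ∈ F m → u = 0 := by
    intro u hu
    obtain ⟨h, hw⟩ := (hFmem m u).1 hu
    rw [hm, LieSubmodule.mem_bot] at hw
    exact congrArg Subtype.val hw
  have hFstep : ∀ j (y : L), y ∈ N → ∀ u, u ∈ F j → ⁅y, u⁆ ∈ F (j + 1) := by
    intro j y hy u hu
    obtain ⟨h, hw⟩ := (hFmem j u).1 hu
    rw [hFmem]
    refine ⟨lie_mem_left k L N y u hy, ?_⟩
    rw [LieModule.lowerCentralSeries_succ]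
    have : (⟨⁅y, u⁆, lie_mem_left k L N y u hy⟩ : N) = ⁅(⟨y, hy⟩ : N), (⟨u, h⟩ : N)⁆ := rfl
    rw [this]
    exact LieSubmodule.lie_mem_lie (LieSubmodule.mem_top _) hw
  have hFanti : ∀ j i, F (j + i) ≤ F j := by
    intro j i u hu
    obtain ⟨h, hw⟩ := (hFmem (j + i) u).1 hu
    rw [hFmem]
    exact ⟨h, LieModule.antitone_lowerCentralSeries k N N (Nat.le_add_right j i) hw⟩
  -- action of φ x
  have hadpow : ∀ (i j : ℕ) u, u ∈ F j → ((LieAlgebra.ad k L x) ^ i) u ∈ F (j + i) := by
    intro i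
    induction i with
    | zero => intro j u hu; simpa using hu
    | succ i ih =>
      intro j u hu
      rw [pow_succ', Module.End.mul_apply, LieAlgebra.ad_apply, ← add_assoc]
      exact hFstep _ x hx _ (ih j u hu)
  have hφF : ∀ j u, u ∈ F j → ⁅φ x, u⁆ ∈ F (j + 1) := by
    intro j u hu
    have h1 : ⁅φ x, u⁆ = ((LieAlgebra.ad k L x) ^ p) u := by
      rw [← φ.ad_map, LieAlgebra.ad_apply]
    rw [h1]
    obtain ⟨p', hp'⟩ : ∃ p', p = 1 + p' := ⟨p - 1, by have := hp.pos; omega⟩
    have := hadpow p j u hu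
    rw [hp', ← add_assoc] at this
    rw [hp']
    exact hFanti (j + 1) p' this
  have hφL : ∀ y : L, ⁅φ x, y⁆ ∈ N := by
    intro y
    have h1 : ⁅φ x, y⁆ = ((LieAlgebra.ad k L x) ^ p) y := by
      rw [← φ.ad_map, LieAlgebra.ad_apply]
    rw [h1]
    obtain ⟨p', hp'⟩ : ∃ p', p = p' + 1 := ⟨p - 1, by have := hp.pos; omega⟩
    rw [hp', pow_succ', Module.End.mul_apply, LieAlgebra.ad_apply]
    exact lie_mem_left k L N x _ hx
  -- the ideal J
  let J : LieIdeal k L :=
    { toSubmodule := (N : Submodule k L) ⊔ Submodule.span k {φ x}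
      lie_mem := by
        intro y z hz
        obtain ⟨n, hn, w, hw, rfl⟩ := Submodule.mem_sup.1 hz
        obtain ⟨c, rfl⟩ := Submodule.mem_span_singleton.1 hw
        apply Submodule.mem_sup_left
        rw [lie_add, lie_smul]
        refine Submodule.add_mem _ (lie_mem_right k L N y n hn) (Submodule.smul_mem _ _ ?_)
        rw [← lie_skew]
        exact Submodule.neg_mem _ (hφL y) }
  have hJmem : ∀ z : L, z ∈ J ↔ ∃ n ∈ N, ∃ c : k, z = n + c • φ x := by
    intro z
    show z ∈ (N : Submodule k L) ⊔ Submodule.span k {φ x} ↔ _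
    rw [Submodule.mem_sup]
    constructor
    · rintro ⟨n, hn, w, hw, rfl⟩
      obtain ⟨c, rfl⟩ := Submodule.mem_span_singleton.1 hw
      exact ⟨n, hn, c, rfl⟩
    · rintro ⟨n, hn, c, rfl⟩
      exact ⟨n, hn, c • φ x, Submodule.mem_span_singleton.2 ⟨c, rfl⟩, rfl⟩
  have hzL : ∀ z ∈ J, ∀ y : L, ⁅z, y⁆ ∈ F 0 := by
    intro z hz y
    obtain ⟨n, hn, c, rfl⟩ := (hJmem z).1 hz
    rw [add_lie, smul_lie]
    exact Submodule.add_mem _ (hF0 _ (lie_mem_left k L N n y hn))
      (Submodule.smul_mem _ _ (hF0 _ (hφL y)))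
  have hzF : ∀ z ∈ J, ∀ j u, u ∈ F j → ⁅z, u⁆ ∈ F (j + 1) := by
    intro z hz j u hu
    obtain ⟨n, hn, c, rfl⟩ := (hJmem z).1 hz
    rw [add_lie, smul_lie]
    exact Submodule.add_mem _ (hFstep j n hn u hu) (Submodule.smul_mem _ _ (hφF j u hu))
  have hJnil : LieRing.IsNilpotent J := by
    rw [LieAlgebra.isNilpotent_iff_forall (R := k)]
    intro z
    have h3 : ∀ (M : ℕ) (y : J), (((LieAlgebra.ad k J z) ^ M) y : L) =
        (LieAlgebra.ad k L (z : L) ^ M) (y : L) := by
      intro M
      induction M with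
      | zero => intro y; simp
      | succ M ih =>
        intro y
        rw [pow_succ', pow_succ', Module.End.mul_apply, Module.End.mul_apply, ← ih]
        simp [LieAlgebra.ad_apply]
    have h4 : ∀ (i : ℕ) (y : L), (LieAlgebra.ad k L (z : L) ^ (i + 1)) y ∈ F i := by
      intro i
      induction i with
      | zero => intro y; simpa using hzL z z.2 y
      | succ i ih =>
        intro y
        rw [pow_succ', Module.End.mul_apply, LieAlgebra.ad_apply]
        exact hzF z z.2 i _ (ih y)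
    refine ⟨m + 1, ?_⟩
    ext y
    rw [h3, hFm _ (h4 m y)]
    simp
  have hle := hmax J hJnil
  apply hle
  rw [hJmem]
  exact ⟨0, N.zero_mem, 1, by simp⟩

end Helpers

/-- Let `L` be a finite-dimensional Lie algebra over a field of characteristic `p` equipped with a
`p`-mapping `φ`, and let `N` be its nilradical, i.e. the ideal of `L` that is nilpotent as a Lie
ring and contains every ideal of `L` nilpotent as a Lie ring. Then `N` is stable under `φ` (it is a
`p`-subalgebra). (The nilradical is given here through its characterising property; it is not the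
largest submodule on which `L` acts nilpotently.) -/
theorem result
    (k : Type u) [Field k] (p : ℕ) [Fact p.Prime] [CharP k p]
    (L : Type v) [LieRing L] [LieAlgebra k L] [Module.Finite k L]
    (φ : PLie.PMap k p L) (N : LieIdeal k L) (hN : LieRing.IsNilpotent N)
    (hmax : ∀ I : LieIdeal k L, LieRing.IsNilpotent I → I ≤ N)
    (x : L) (hx : x ∈ N) : φ x ∈ N := by
  exact main k p L φ N hN hmax x hx

end Groth.Agent.S14872
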