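import Groth.Statements.S14873
import Mathlib

set_option autoImplicit false
universe u v
open PLie

namespace Groth.Agent.S14873

/-- Let `L` be a finite-dimensional Lie algebra over a field of characteristic `p` equipped with a
`p`-mapping `φ`, and let `I` be an ideal of `L` stable under `φ` all of whose elements are
`p`-nilpotent (for instance the `p`-radical, the largest such ideal). Then `I` is nilpotent as a Lie
ring, hence lies in the nilradical of `L`. (The published item also records that the nilradical lies
in the solvable radical, which is immediate since nilpotent ideals are solvable.) -/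
theorem result
    (k : Type u) [Field k] (p : ℕ) [Fact p.Prime] [CharP k p]
    (L : Type v) [LieRing L] [LieAlgebra k L] [Module.Finite k L]
    (φ : PLie.PMap k p L) (I : LieIdeal k L) (hsub : ∀ x ∈ I, φ x ∈ I)
    (hnil : ∀ x ∈ I, PLie.IsPNilpotent φ x) : LieRing.IsNilpotent I := by
  rw [LieAlgebra.isNilpotent_iff_forall (R := k)]
  intro x
  obtain ⟨n, hn⟩ := hnil x.1 x.2
  have h1 : ∀ (m : ℕ) (y : L),
      LieAlgebra.ad k L (φ.toFun^[m] y) = LieAlgebra.ad k L y ^ (p ^ m) := by
    intro m
    induction m with
    | zero => intro y; simp
    | succ m ih =>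
      intro y
      rw [Function.iterate_succ_apply', φ.ad_map, ih, ← pow_mul, pow_succ]
  have h2 : LieAlgebra.ad k L (x : L) ^ (p ^ n) = 0 := by
    rw [← h1, hn, map_zero]
  have h3 : ∀ (N : ℕ) (y : I), (((LieAlgebra.ad k I x) ^ N) y : L) = (LieAlgebra.ad k L (x : L) ^ N) (y : L) := by
    intro N
    induction N with
    | zero => intro y; simp
    | succ N ih =>
      intro y
      rw [pow_succ', pow_succ', Module.End.mul_apply, Module.End.mul_apply, ← ih]
      simp [LieAlgebra.ad_apply]
  refine ⟨p ^ n, ?_⟩
  ext y
  rw [h3, h2]
  simp

end Groth.Agent.S14873
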