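import Groth.Statements.S14874
import Mathlib
import Groth.Agent.S14872
import Groth.Agent.S14873

set_option autoImplicit false
universe u v
open PLie

namespace Groth.Agent.S14874

section Helpers

/-- elements of a nilpotent ideal act nilpotently on `L` -/
theorem ad_pow_eq_zero (k : Type u) [Field k] (L : Type v) [LieRing L] [LieAlgebra k L]
    (N : LieIdeal k L) (hN : LieRing.IsNilpotent N) :
    ∃ M : ℕ, ∀ x ∈ N, (LieAlgebra.ad k L x) ^ M = 0 := by
  obtain ⟨m, hm⟩ := (LieModule.isNilpotent_iff k N N).1 hN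
  refine ⟨m + 1, ?_⟩
  intro x hx
  have h4 : ∀ (i : ℕ) (y : L), ∃ h : (LieAlgebra.ad k L x ^ (i + 1)) y ∈ N,
      (⟨(LieAlgebra.ad k L x ^ (i + 1)) y, h⟩ : N) ∈ LieModule.lowerCentralSeries k N N i := by
    intro i
    induction i with
    | zero =>
      intro y
      refine ⟨?_, by simp⟩
      simpa using lie_mem_left k L N x y hx
    | succ i ih =>
      intro y
      obtain ⟨h, hw⟩ := ih y
      have hmem : (LieAlgebra.ad k L x ^ (i + 1 + 1)) y ∈ N := by
        rw [pow_succ', Module.End.mul_apply, LieAlgebra.ad_apply]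
        exact lie_mem_left k L N x _ hx
      refine ⟨hmem, ?_⟩
      rw [LieModule.lowerCentralSeries_succ]
      have : (⟨(LieAlgebra.ad k L x ^ (i + 1 + 1)) y, hmem⟩ : N) =
          ⁅(⟨x, hx⟩ : N), (⟨(LieAlgebra.ad k L x ^ (i + 1)) y, h⟩ : N)⁆ := by
        apply Subtype.ext
        show (LieAlgebra.ad k L x ^ (i + 1 + 1)) y = ⁅x, (LieAlgebra.ad k L x ^ (i + 1)) y⁆
        rw [pow_succ', Module.End.mul_apply, LieAlgebra.ad_apply]
      rw [this]
      exact LieSubmodule.lie_mem_lie (LieSubmodule.mem_top _) hw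
  ext y
  obtain ⟨h, hw⟩ := h4 m y
  rw [hm, LieSubmodule.mem_bot] at hw
  have := congrArg Subtype.val hw
  simpa using this

theorem main
    (k : Type u) [Field k] (p : ℕ) [Fact p.Prime] [CharP k p]
    (L : Type v) [LieRing L] [LieAlgebra k L] [Module.Finite k L]
    (φ : PLie.PMap k p L)
    (N : LieIdeal k L) (hN : LieRing.IsNilpotent N)
    (hNmax : ∀ I : LieIdeal k L, LieRing.IsNilpotent I → I ≤ N)
    (P : LieIdeal k L) (hPsub : ∀ x ∈ P, φ x ∈ P) (hPnil : ∀ x ∈ P, PLie.IsPNilpotent φ x)
    (hPmax : ∀ J : LieIdeal k L, (∀ x ∈ J, φ x ∈ J) → (∀ x ∈ J, PLie.IsPNilpotent φ x) → J ≤ P) :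
    N = P ↔ LieAlgebra.center k L ≤ P := by
  have hp : p.Prime := Fact.out
  have hPN : P ≤ N := hNmax P (Groth.Agent.S14873.result k p L φ P hPsub hPnil)
  constructor
  · intro hNP
    rw [← hNP]
    apply hNmax
    infer_instance
  · intro hcen
    apply le_antisymm _ hPN
    apply hPmax N
    · intro x hx
      exact Groth.Agent.S14872.result k p L φ N hN hNmax x hx
    · intro x hx
      obtain ⟨M, hM⟩ := ad_pow_eq_zero k L N hN
      have h1 : ∀ (m : ℕ) (y : L),
          LieAlgebra.ad k L (φ.toFun^[m] y) = LieAlgebra.ad k L y ^ (p ^ m) := by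
        intro m
        induction m with
        | zero => intro y; simp
        | succ m ih =>
          intro y
          rw [Function.iterate_succ_apply', φ.ad_map, ih, ← pow_mul, pow_succ]
      -- choose j with p^j ≥ M
      have hjM : M ≤ p ^ M := (Nat.lt_pow_self hp.one_lt).le
      have h2 : LieAlgebra.ad k L (φ.toFun^[M] x) = 0 := by
        rw [h1, ← Nat.sub_add_cancel hjM, pow_add, hM x hx, mul_zero]
      have h3 : φ.toFun^[M] x ∈ LieAlgebra.center k L := by
        rw [LieAlgebra.center, LieModule.mem_maxTrivSubmodule]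
        intro y
        rw [← lie_skew]
        have := LinearMap.congr_fun h2 y
        rw [LieAlgebra.ad_apply] at this
        rw [this]; simp
      obtain ⟨j, hj⟩ := hPnil _ (hcen h3)
      refine ⟨j + M, ?_⟩
      rw [Function.iterate_add_apply]
      exact hj

end Helpers

/-- Let `L` be a finite-dimensional Lie algebra over a field of characteristic `p` equipped with a
`p`-mapping `φ`. Let `N` be the nilradical of `L` (the ideal nilpotent as a Lie ring that contains
every such ideal) and `P` its `p`-radical (the largest ideal stable under `φ` all of whose elements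
are `p`-nilpotent). Then `N = P` if and only if the centre of `L` is contained in `P`. -/
theorem result
    (k : Type u) [Field k] (p : ℕ) [Fact p.Prime] [CharP k p]
    (L : Type v) [LieRing L] [LieAlgebra k L] [Module.Finite k L]
    (φ : PLie.PMap k p L)
    (N : LieIdeal k L) (hN : LieRing.IsNilpotent N)
    (hNmax : ∀ I : LieIdeal k L, LieRing.IsNilpotent I → I ≤ N)
    (P : LieIdeal k L) (hPsub : ∀ x ∈ P, φ x ∈ P) (hPnil : ∀ x ∈ P, PLie.IsPNilpotent φ x)
    (hPmax : ∀ J : LieIdeal k L, (∀ x ∈ J, φ x ∈ J) → (∀ x ∈ J, PLie.IsPNilpotent φ x) → J ≤ P) :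
    N = P ↔ LieAlgebra.center k L ≤ P := by
  exact main k p L φ N hN hNmax P hPsub hPnil hPmax

end Groth.Agent.S14874
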