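import Groth.Statements.S14875
import Mathlib

set_option autoImplicit false
universe u v
open PLie

namespace Groth.Agent.S14875

/-- Let `L` be a finite-dimensional Lie algebra over a field of characteristic `p` equipped with a
`p`-mapping `φ`, whose Killing form is non-degenerate. Let `U` and `H` be Lie subalgebras of `L`
such that `H` is the normaliser of `U`, `U` is the set of elements of `H` that lie in the solvable
radical of `H` and are `p`-nilpotent, and the orthogonal of `U` for the Killing form is closed under
the bracket. Then `U` is the orthogonal of `H` for the Killing form. (The published statement is for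
the Lie algebra of a reductive group over a field of characteristic `p` with its canonical
`p`-structure; this row states it for any finite-dimensional Lie algebra with a `p`-mapping.) -/
theorem result
    (k : Type u) [Field k] (p : ℕ) [Fact p.Prime] [CharP k p]
    (L : Type v) [LieRing L] [LieAlgebra k L] [Module.Finite k L]
    (φ : PLie.PMap k p L) (hκ : (killingForm k L).Nondegenerate)
    (U H : LieSubalgebra k L) (hH : H = U.normalizer)
    (hU : ∀ x : L, x ∈ U ↔ ∃ hx : x ∈ H, (⟨x, hx⟩ : ↥H) ∈ LieAlgebra.radical k ↥H ∧ PLie.IsPNilpotent φ x)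
    (hperp : ∀ a b : L, (∀ y ∈ U, killingForm k L a y = 0) → (∀ y ∈ U, killingForm k L b y = 0) →
      ∀ y ∈ U, killingForm k L ⁅a, b⁆ y = 0) :
    ∀ x : L, x ∈ U ↔ ∀ h ∈ H, killingForm k L h x = 0 := by
  classical
  have hsymm : ∀ x y, killingForm k L x y = killingForm k L y x :=
    fun x y => LieModule.traceForm_comm k L L x y
  have hinv : ∀ x y z, killingForm k L ⁅x, y⁆ z = killingForm k L x ⁅y, z⁆ :=
    fun x y z => LieModule.traceForm_apply_lie_apply k L L x y z
  have hrefl : LinearMap.BilinForm.IsRefl (killingForm k L) :=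
    (LieModule.traceForm_isSymm k L L).isRefl
  have hdd : (killingForm k L).orthogonal ((killingForm k L).orthogonal U.toSubmodule) =
      U.toSubmodule := LinearMap.BilinForm.orthogonal_orthogonal hκ hrefl _
  -- Step B: the orthogonal of `U` normalises `U`
  have hP : ∀ a : L, (∀ y ∈ U, killingForm k L a y = 0) → a ∈ H := by
    intro a ha
    rw [hH, LieSubalgebra.mem_normalizer_iff]
    intro u hu
    have h1 : ⁅a, u⁆ ∈ (killingForm k L).orthogonal
        ((killingForm k L).orthogonal U.toSubmodule) := by
      rw [LinearMap.BilinForm.mem_orthogonal_iff]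
      intro b hb
      rw [LinearMap.BilinForm.mem_orthogonal_iff] at hb
      show killingForm k L b ⁅a, u⁆ = 0
      rw [← hinv]
      apply hperp b a ?_ ha u hu
      intro y hy
      rw [hsymm]
      exact hb y hy
    rw [hdd] at h1
    exact h1
  -- Step A: `H` is orthogonal to `U`
  have hadnil : ∀ u ∈ U, IsNilpotent (LieAlgebra.ad k L u) := by
    intro u hu
    obtain ⟨_, _, n, hn⟩ := (hU u).mp hu
    refine ⟨p ^ n, ?_⟩
    have key : ∀ (m : ℕ) (x : L),
        LieAlgebra.ad k L (φ.toFun^[m] x) = LieAlgebra.ad k L x ^ (p ^ m) := by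
      intro m
      induction m with
      | zero => intro x; simp
      | succ m ih =>
        intro x
        rw [Function.iterate_succ_apply', φ.ad_map, ih, ← pow_mul, pow_succ]
    rw [← key, hn, map_zero]
  have hnilU : LieModule.IsNilpotent ↥U L := by
    rw [LieModule.isNilpotent_iff_forall' (R := k)]
    intro u
    exact hadnil u.1 u.2
  obtain ⟨n, hn⟩ := LieModule.IsNilpotent.nilpotent k ↥U L
  have hF_u : ∀ u ∈ U, ∀ (i : ℕ) (x : L), x ∈ LieModule.lowerCentralSeries k ↥U L i →
      ⁅u, x⁆ ∈ LieModule.lowerCentralSeries k ↥U L (i + 1) := by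
    intro u hu i x hx
    rw [LieModule.lowerCentralSeries_succ]
    exact LieSubmodule.lie_mem_lie (LieSubmodule.mem_top (⟨u, hu⟩ : ↥U)) hx
  have hF_h : ∀ h ∈ H, ∀ (i : ℕ) (x : L), x ∈ LieModule.lowerCentralSeries k ↥U L i →
      ⁅h, x⁆ ∈ LieModule.lowerCentralSeries k ↥U L i := by
    intro h hh i
    induction i with
    | zero => intro x _; simp
    | succ i ih =>
      intro x hx
      rw [LieModule.lowerCentralSeries_succ, ← LieSubmodule.mem_toSubmodule,
        LieSubmodule.lieIdeal_oper_eq_linear_span'] at hx
      rw [← LieSubmodule.mem_toSubmodule]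
      induction hx using Submodule.span_induction with
      | mem y hy =>
        obtain ⟨u, _, m, hm, rfl⟩ := hy
        have h1 : ⁅h, ⁅(u : L), m⁆⁆ = ⁅⁅h, (u : L)⁆, m⁆ + ⁅(u : L), ⁅h, m⁆⁆ := leibniz_lie h (u : L) m
        have h2 : ⁅h, (u : L)⁆ ∈ U := by
          rw [hH, LieSubalgebra.mem_normalizer_iff] at hh
          exact hh u u.2
        show ⁅h, ⁅(u : L), m⁆⁆ ∈ _
        rw [h1]
        exact add_mem (hF_u _ h2 i m hm) (hF_u _ u.2 i _ (ih m hm))
      | zero => rw [lie_zero]; exact zero_mem _
      | add y z _ _ hy hz => rw [lie_add]; exact add_mem hy hz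
      | smul c y _ hy => rw [lie_smul]; exact Submodule.smul_mem _ c hy
  have hA : ∀ h ∈ H, ∀ u ∈ U, killingForm k L h u = 0 := by
    intro h hh u hu
    rw [killingForm_apply_apply]
    have hpow : ∀ (m : ℕ) (x : L), ((LieAlgebra.ad k L h ∘ₗ LieAlgebra.ad k L u) ^ m) x ∈
        LieModule.lowerCentralSeries k ↥U L m := by
      intro m
      induction m with
      | zero => intro x; simp
      | succ m ih =>
        intro x
        rw [pow_succ', Module.End.mul_apply]
        exact hF_h h hh _ _ (hF_u u hu _ _ (ih x))
    have hnil : IsNilpotent (LieAlgebra.ad k L h ∘ₗ LieAlgebra.ad k L u) := by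
      refine ⟨n, ?_⟩
      ext x
      have := hpow n x
      rw [hn, LieSubmodule.mem_bot] at this
      rw [this]; rfl
    exact (LinearMap.isNilpotent_trace_of_isNilpotent hnil).eq_zero
  -- conclusion
  intro x
  constructor
  · intro hx h hh
    exact hA h hh x hx
  · intro hx
    have h1 : x ∈ (killingForm k L).orthogonal ((killingForm k L).orthogonal U.toSubmodule) := by
      rw [LinearMap.BilinForm.mem_orthogonal_iff]
      intro b hb
      rw [LinearMap.BilinForm.mem_orthogonal_iff] at hb
      apply hx b
      apply hP b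
      intro y hy
      rw [hsymm]
      exact hb y hy
    rw [hdd] at h1
    exact h1

end Groth.Agent.S14875
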