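import Groth.Statements.S14877
import Mathlib
import Groth.Agent.S18977
import Groth.Agent.S12837
-- import your own Groth.Agent.* helpers here

set_option autoImplicit false
universe u
open CategoryTheory MonoidalCategory CartesianMonoidalCategory MonObj GrpObj AlgebraicGeometry CategoryTheory.Limits
open AlgGrp

namespace Groth.Agent.S14877

open CategoryTheory CategoryTheory.Limits AlgebraicGeometry MonoidalCategory CartesianMonoidalCategory MonObj

namespace H5S14877

/-- gluing of morphisms along an fpqc covering family -/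
theorem desc_family {Q Z : Scheme.{u}} (R : Presieve Q) (hR : R ∈ Scheme.fpqcPrecoverage Q)
    (x : ∀ ⦃T : Scheme.{u}⦄ (g : T ⟶ Q), R g → (T ⟶ Z))
    (hx : ∀ ⦃T₁ T₂ W : Scheme.{u}⦄ (p₁ : W ⟶ T₁) (p₂ : W ⟶ T₂) ⦃g₁ : T₁ ⟶ Q⦄ ⦃g₂ : T₂ ⟶ Q⦄
      (h₁ : R g₁) (h₂ : R g₂), p₁ ≫ g₁ = p₂ ≫ g₂ → p₁ ≫ x g₁ h₁ = p₂ ≫ x g₂ h₂) :
    ∃! y : Q ⟶ Z, ∀ ⦃T : Scheme.{u}⦄ (g : T ⟶ Q) (h : R g), g ≫ y = x g h := by
  have hcov : Sieve.generate R ∈ Scheme.fpqcTopology Q := Precoverage.generate_mem_toGrothendieck hR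
  have hsh : Presieve.IsSheafFor (yoneda.obj Z) R :=
    (GrothendieckTopology.Subcanonical.isSheaf_of_isRepresentable (J := Scheme.fpqcTopology)
      (yoneda.obj Z)).isSheafFor R hcov
  obtain ⟨t, ht, htu⟩ := hsh (fun T g h => x g h) (fun T₁ T₂ W p₁ p₂ g₁ g₂ h₁ h₂ e => hx p₁ p₂ h₁ h₂ e)
  exact ⟨t, fun T g h => ht g h, fun y hy => htu y (fun T g h => hy g h)⟩

theorem epi_family {Q Z : Scheme.{u}} (R : Presieve Q) (hR : R ∈ Scheme.fpqcPrecoverage Q)
    (y y' : Q ⟶ Z) (h : ∀ ⦃T : Scheme.{u}⦄ (g : T ⟶ Q), R g → g ≫ y = g ≫ y') : y = y' := by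
  obtain ⟨z, -, hz⟩ := desc_family R hR (fun T g _ => g ≫ y) (by
    intro T₁ T₂ W p₁ p₂ g₁ g₂ h₁ h₂ e
    rw [← Category.assoc, ← Category.assoc, e])
  rw [hz y (fun T g h => rfl), hz y' (fun T g hg => (h g hg).symm)]


variable {S : Scheme.{u}}

section Local
variable {G P X : Over S} [GrpObj G] (a : AlgGrp.Action G P) (π : P ⟶ X)
  {V : Over S} (v : V ⟶ X) (s : V ⟶ P)
  (hpb : IsPullback (fst V G) (lift (snd V G) (fst V G ≫ s) ≫ a.act) v π)

include hpb in
lemma loc_A {T : Over S} (t : T ⟶ V) (x₁ : T ⟶ P) (h : x₁ ≫ π = t ≫ v) :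
    ∃! g : T ⟶ G, lift g (t ≫ s) ≫ a.act = x₁ := by
  have key : ∀ g : T ⟶ G, lift t g ≫ lift (snd V G) (fst V G ≫ s) ≫ a.act
      = lift g (t ≫ s) ≫ a.act := by
    intro g
    rw [comp_lift_assoc, lift_snd, lift_fst_assoc]
  refine ⟨hpb.lift t x₁ h.symm ≫ snd V G, ?_, ?_⟩
  · have e : lift t (hpb.lift t x₁ h.symm ≫ snd V G) = hpb.lift t x₁ h.symm := by
      apply CartesianMonoidalCategory.hom_ext
      · rw [lift_fst, hpb.lift_fst]
      · rw [lift_snd]
    change lift (hpb.lift t x₁ h.symm ≫ snd V G) (t ≫ s) ≫ a.act = x₁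
    rw [← key, e, hpb.lift_snd]
  · intro g hg
    have e : lift t g = hpb.lift t x₁ h.symm := by
      apply hpb.hom_ext
      · rw [lift_fst, hpb.lift_fst]
      · rw [key, hg, hpb.lift_snd]
    rw [← e, lift_snd]

include hpb in
lemma loc_B {T : Over S} (t : T ⟶ V) (x₁ x₂ : T ⟶ P) (h₁ : x₁ ≫ π = t ≫ v)
    (h₂ : x₂ ≫ π = t ≫ v) : ∃! g : T ⟶ G, lift g x₂ ≫ a.act = x₁ := by
  obtain ⟨g₁, hg₁, hg₁u⟩ := loc_A a π v s hpb t x₁ h₁
  obtain ⟨g₂, hg₂, -⟩ := loc_A a π v s hpb t x₂ h₂
  refine ⟨g₁ * g₂⁻¹, ?_, ?_⟩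
  · change lift (g₁ * g₂⁻¹) x₂ ≫ a.act = x₁
    have e : lift g₂⁻¹ x₂ ≫ a.act = t ≫ s := by
      rw [← hg₂, ← AlgGrp.Action.lift_mul_act, inv_mul_cancel, AlgGrp.Action.lift_one_act]
    rw [AlgGrp.Action.lift_mul_act, e, hg₁]
  · intro g hg
    have e : g * g₂ = g₁ := by
      apply hg₁u
      rw [AlgGrp.Action.lift_mul_act, hg₂, hg]
    rw [← e, mul_inv_cancel_right]

end Local

theorem sq_of_local {G P X : Over S} [GrpObj G] (a : AlgGrp.Action G P) (π : P ⟶ X)
    (hinv : a.act ≫ π = snd G P ≫ π)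
    {J : Type u} (V : J → Over S) (v : ∀ i, V i ⟶ X) (s : ∀ i, V i ⟶ P)
    (hpb : ∀ i, IsPullback (fst (V i) G) (lift (snd (V i) G) (fst (V i) G ≫ s i) ≫ a.act) (v i) π)
    (hcov : Presieve.ofArrows (fun i => (V i).left) (fun i => (v i).left) ∈
      Scheme.fpqcPrecoverage X.left) :
    IsPullback a.act (snd G P) π π := by
  apply Groth.Agent.S18977.H5S18977.sq_of_tr hinv
  intro W x₁ x₂ e
  obtain ⟨w, hw⟩ : ∃ w, w = x₁ ≫ π := ⟨_, rfl⟩
  have hw2 : x₂ ≫ π = w := by rw [hw, e]
  have hR : Presieve.ofArrows (fun i => pullback (v i).left w.left)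
      (fun i => pullback.snd (v i).left w.left) ∈ Scheme.fpqcPrecoverage W.left :=
    Precoverage.mem_coverings_of_isPullback (fun i => (v i).left) hcov w.left _
      (fun i => pullback.fst (v i).left w.left)
      (fun i => (IsPullback.of_hasPullback (v i).left w.left).flip)
  obtain ⟨R, hRdef⟩ : ∃ R, R = Presieve.ofArrows (fun i => pullback (v i).left w.left)
      (fun i => pullback.snd (v i).left w.left) := ⟨_, rfl⟩
  rw [← hRdef] at hR
  -- notation
  let ov : ∀ {T : Scheme.{u}} (g : T ⟶ W.left), Over S := fun g => Over.mk (g ≫ W.hom)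
  let oh : ∀ {T : Scheme.{u}} (g : T ⟶ W.left), ov g ⟶ W := fun g => Over.homMk g rfl
  -- local transporters
  have key : ∀ {T : Scheme.{u}} (g : T ⟶ W.left),
      (∃ (T' : Scheme.{u}) (g' : T' ⟶ W.left) (p : T ⟶ T'), R g' ∧ p ≫ g' = g) →
      ∃! c : ov g ⟶ G, lift c (oh g ≫ x₂) ≫ a.act = oh g ≫ x₁ := by
    rintro T g ⟨_, _, p, hg', rfl⟩
    rw [hRdef] at hg'
    obtain ⟨i⟩ := hg'
    have hc : (p ≫ pullback.fst (v i).left w.left) ≫ (V i).hom =
        (p ≫ pullback.snd (v i).left w.left) ≫ W.hom := by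
      rw [← Over.w (v i), ← Over.w w, Category.assoc, Category.assoc, pullback.condition_assoc]
    let t : ov (p ≫ pullback.snd (v i).left w.left) ⟶ V i :=
      Over.homMk (p ≫ pullback.fst (v i).left w.left) hc
    have ht : t ≫ v i = oh (p ≫ pullback.snd (v i).left w.left) ≫ w := by
      ext
      simp [t, oh, pullback.condition]
    apply loc_B a π (v i) (s i) (hpb i) t
    · rw [Category.assoc, ← hw, ht]
    · rw [Category.assoc, hw2, ht]
  have hmem : ∀ {T : Scheme.{u}} (g : T ⟶ W.left), R g →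
      ∃ (T' : Scheme.{u}) (g' : T' ⟶ W.left) (p : T ⟶ T'), R g' ∧ p ≫ g' = g :=
    fun g h => ⟨_, g, 𝟙 _, h, Category.id_comp _⟩
  -- restriction of transporters
  have hres : ∀ {T T' : Scheme.{u}} (p : T ⟶ T') (g' : T' ⟶ W.left) (c : ov g' ⟶ G),
      lift c (oh g' ≫ x₂) ≫ a.act = oh g' ≫ x₁ →
      lift ((Over.homMk p (by simp [ov]) : ov (p ≫ g') ⟶ ov g') ≫ c) (oh (p ≫ g') ≫ x₂) ≫ a.act
        = oh (p ≫ g') ≫ x₁ := by
    intro T T' p g' c hc
    have e1 : oh (p ≫ g') = (Over.homMk p (by simp [ov]) : ov (p ≫ g') ⟶ ov g') ≫ oh g' := by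
      ext
      simp [oh]
    rw [e1, Category.assoc, Category.assoc, ← hc, comp_lift_assoc]
  obtain ⟨y, hy, hyu⟩ := desc_family R hR
    (fun T g h => (key g (hmem g h)).exists.choose.left) (by
      intro T₁ T₂ W' p₁ p₂ g₁ g₂ h₁ h₂ e'
      have s1 := (key g₁ (hmem g₁ h₁)).exists.choose_spec
      have s2 := (key g₂ (hmem g₂ h₂)).exists.choose_spec
      set c₁ := (key g₁ (hmem g₁ h₁)).exists.choose
      set c₂ := (key g₂ (hmem g₂ h₂)).exists.choose
      have r1 := hres p₁ g₁ c₁ s1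
      have r2 := hres p₂ g₂ c₂ s2
      -- transport r2 along e'
      have r2' : ∀ (g₀ : W' ⟶ W.left) (he : p₂ ≫ g₂ = g₀),
          ∃ c : ov g₀ ⟶ G, lift c (oh g₀ ≫ x₂) ≫ a.act = oh g₀ ≫ x₁ ∧ c.left = p₂ ≫ c₂.left := by
        rintro _ rfl
        exact ⟨_, r2, by simp⟩
      obtain ⟨c', hc', hc'l⟩ := r2' (p₁ ≫ g₁) e'.symm
      have := (key (p₁ ≫ g₁) ⟨_, g₁, p₁, h₁, rfl⟩).unique r1 hc'
      have h3 := congrArg (fun q => q.left) this
      simp only [Over.comp_left, Over.homMk_left] at h3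
      rw [h3, hc'l])
  have hyG : y ≫ G.hom = W.hom := by
    apply epi_family R hR
    intro T g h
    rw [reassoc_of% (hy g h)]
    exact Over.w (key g (hmem g h)).exists.choose
  refine ⟨Over.homMk y hyG, ?_, ?_⟩
  · change lift (Over.homMk y hyG) x₂ ≫ a.act = x₁
    ext
    apply epi_family R hR
    intro T g h
    have s1 := (key g (hmem g h)).exists.choose_spec
    set c₁ := (key g (hmem g h)).exists.choose
    have e1 : oh g ≫ (Over.homMk y hyG : W ⟶ G) = c₁ := by
      ext
      simpa [oh] using hy g h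
    have e2 : oh g ≫ lift (Over.homMk y hyG) x₂ ≫ a.act = oh g ≫ x₁ := by
      rw [comp_lift_assoc, e1, s1]
    have := congrArg (fun q => q.left) e2
    simpa [oh] using this
  · intro y'' hy''
    ext
    apply hyu
    intro T g h
    have s1 := (key g (hmem g h)).exists.choose_spec
    have e2 : lift (oh g ≫ y'') (oh g ≫ x₂) ≫ a.act = oh g ≫ x₁ := by
      rw [← comp_lift_assoc, hy'']
    have := (key g (hmem g h)).unique e2 s1
    have h3 := congrArg (fun q => q.left) this
    simpa [oh] using h3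


theorem main (k : Type u) [Field k]
    (G P X : Over (Spec (CommRingCat.of k))) [GrpObj G]
    (a : AlgGrp.Action G P) (π : P ⟶ X) (hinv : GIT.IsInvariant a π)
    (hli : ∀ x : ↥X.left, ∃ (U : X.left.Opens) (_ : x ∈ U) (U' : Scheme.{u}) (φ : U' ⟶ ↑U)
      (_ : IsFinite φ) (_ : Etale φ) (_ : Surjective φ) (s : Over.mk (φ ≫ U.ι ≫ X.hom) ⟶ P),
      s.left ≫ π.left = φ ≫ U.ι ∧
      IsPullback (fst (Over.mk (φ ≫ U.ι ≫ X.hom)) G).left (lift (snd (Over.mk (φ ≫ U.ι ≫ X.hom)) G) (fst (Over.mk (φ ≫ U.ι ≫ X.hom)) G ≫ s) ≫ a.act).left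
        (φ ≫ U.ι) π.left) :
    IsIso (GIT.PsiY a π hinv) ∧ Flat π.left := by
  choose U hxU U' φ hfin het hsurj s hs hpb using hli
  let V : ↥X.left → Over (Spec (CommRingCat.of k)) := fun x => Over.mk (φ x ≫ (U x).ι ≫ X.hom)
  let v : ∀ x, V x ⟶ X := fun x => Over.homMk (φ x ≫ (U x).ι) (by simp [V])
  have hpbO : ∀ x, IsPullback (fst (V x) G)
      (lift (snd (V x) G) (fst (V x) G ≫ s x) ≫ a.act) (v x) π := by
    intro x
    apply IsPullback.of_map (Over.forget _)
    · ext
      exact (hpb x).w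
    · exact hpb x
  have hcov : Presieve.ofArrows (fun x => (V x).left) (fun x => (v x).left) ∈
      Scheme.fpqcPrecoverage X.left := by
    apply Scheme.fppfPrecoverage_le_fpqcPrecoverage
    rw [Scheme.fppfPrecoverage, Scheme.ofArrows_mem_precoverage_iff]
    refine ⟨fun x => ⟨x, ?_⟩, fun x => ?_⟩
    · obtain ⟨y, hy⟩ := (hsurj x).surj ⟨x, hxU x⟩
      refine ⟨y, ?_⟩
      change (φ x ≫ (U x).ι) y = x
      rw [Scheme.Hom.comp_apply, hy]
      rfl
    · haveI := het x
      change (@Flat ⊓ @LocallyOfFinitePresentation : MorphismProperty Scheme.{u}) (φ x ≫ (U x).ι)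
      exact ⟨inferInstance, inferInstance⟩
  have hsq := sq_of_local a π hinv V v s hpbO hcov
  have hsqL : IsPullback a.act.left (snd G P).left π.left π.left := hsq.map (Over.forget _)
  constructor
  · have e : GIT.PsiY a π hinv = hsqL.isoPullback.hom := by
      apply pullback.hom_ext
      · rw [hsqL.isoPullback_hom_fst]
        exact pullback.lift_fst _ _ _
      · rw [hsqL.isoPullback_hom_snd]
        exact pullback.lift_snd _ _ _
    rw [e]
    infer_instance
  · haveI : Subsingleton ↥(Spec (CommRingCat.of k)) :=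
      inferInstanceAs (Subsingleton (PrimeSpectrum k))
    haveI : Flat G.hom := inferInstance
    haveI := Groth.Agent.S12837.H5S12837.flat_descends.{u}
    apply Groth.Agent.S12837.H5S12837.descends_fpqc (P := @Flat) π.left _ hcov
    rintro _ _ ⟨x⟩
    have h1 : Flat (fst (V x) G).left := by
      change Flat (pullback.fst (V x).hom G.hom)
      infer_instance
    have hfl : IsPullback (lift (snd (V x) G) (fst (V x) G ≫ s x) ≫ a.act).left
        (fst (V x) G).left π.left (v x).left := ((hpbO x).map (Over.forget _)).flip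
    have e' : pullback.snd π.left (v x).left = hfl.isoPullback.inv ≫ (fst (V x) G).left := by
      rw [Iso.eq_inv_comp]
      exact hfl.isoPullback_hom_snd
    rw [e']
    exact (MorphismProperty.cancel_left_of_respectsIso (P := @Flat) _ _).2 h1

end H5S14877

/-- Over an algebraically closed field k of characteristic zero, let G be an algebraic group (a smooth
k-group scheme of finite type) acting on a variety P (reduced, separated, of finite type over k),
and let π : P → X be a geometric quotient by this action onto a variety X: π is invariant,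
surjective and open, the map (g, p) ↦ (g·p, p) from G × P to P ×_X P is surjective on points, and
for every open U of X the sections of O_X over U are exactly the invariant sections of O_P over
π⁻¹U. Suppose the bundle is locally isotrivial: every point of X has an open neighbourhood U with a
finite étale surjective morphism U' → U and a morphism s : U' → P lifting U' → U → X such that (u,
g) ↦ g·s(u) exhibits U' × G as the fibre product U' ×_X P. Then the bundle is principal: (g, p) ↦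
(g·p, p) is an isomorphism of G × P onto P ×_X P, and π is flat. (The published definition of an
étale covering asks only for a finite étale morphism; this row also requires it to be surjective,
since an empty cover would make every bundle isotrivial.) -/
theorem result (k : Type u) [Field k] [IsAlgClosed k] [CharZero k]
    (G P X : Over (Spec (CommRingCat.of k))) [GrpObj G] [Smooth G.hom] [QuasiCompact G.hom]
    [LocallyOfFiniteType P.hom] [QuasiCompact P.hom] [IsSeparated P.hom] [IsReduced P.left]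
    [LocallyOfFiniteType X.hom] [QuasiCompact X.hom] [IsSeparated X.hom] [IsReduced X.left]
    (a : AlgGrp.Action G P) (π : P ⟶ X) (hinv : GIT.IsInvariant a π)
    (hq : Function.Surjective π.left.base ∧ IsOpenMap π.left.base ∧
      Function.Surjective (GIT.PsiY a π hinv).base ∧
      ∀ U : X.left.Opens, Function.Injective (π.left.app U) ∧
        Set.range (π.left.app U) = {f | GIT.IsInvSection a π U f})
    (hli : ∀ x : ↥X.left, ∃ (U : X.left.Opens) (_ : x ∈ U) (U' : Scheme.{u}) (φ : U' ⟶ ↑U)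
      (_ : IsFinite φ) (_ : Etale φ) (_ : Surjective φ) (s : Over.mk (φ ≫ U.ι ≫ X.hom) ⟶ P),
      s.left ≫ π.left = φ ≫ U.ι ∧
      IsPullback (fst (Over.mk (φ ≫ U.ι ≫ X.hom)) G).left (lift (snd (Over.mk (φ ≫ U.ι ≫ X.hom)) G) (fst (Over.mk (φ ≫ U.ι ≫ X.hom)) G ≫ s) ≫ a.act).left
        (φ ≫ U.ι) π.left) :
    IsIso (GIT.PsiY a π hinv) ∧ Flat π.left := by
  exact H5S14877.main k G P X a π hinv hli

end Groth.Agent.S14877
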