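import Groth.Statements.S14879
import Mathlib

set_option autoImplicit false
universe u
open Finset
open AlgGrp

namespace Groth.Agent.S14879

section Helpers

variable {k : Type u} [CommRing k]

/-- the block permutation `τ ⊕ υ` of `Fin (p + r)`. -/
def blk {p r : ℕ} (τ : Equiv.Perm (Fin p)) (υ : Equiv.Perm (Fin r)) : Equiv.Perm (Fin (p + r)) :=
  finSumFinEquiv.permCongr (Equiv.Perm.sumCongr τ υ)

lemma blk_castAdd {p r : ℕ} (τ : Equiv.Perm (Fin p)) (υ : Equiv.Perm (Fin r)) (a : Fin p) :
    blk τ υ (Fin.castAdd r a) = Fin.castAdd r (τ a) := by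
  simp [blk, Equiv.permCongr_apply]

lemma blk_natAdd {p r : ℕ} (τ : Equiv.Perm (Fin p)) (υ : Equiv.Perm (Fin r)) (b : Fin r) :
    blk τ υ (Fin.natAdd p b) = Fin.natAdd p (υ b) := by
  simp [blk, Equiv.permCongr_apply]

lemma sign_blk {p r : ℕ} (τ : Equiv.Perm (Fin p)) (υ : Equiv.Perm (Fin r)) :
    Equiv.Perm.sign (blk τ υ) = Equiv.Perm.sign τ * Equiv.Perm.sign υ := by
  rw [blk, Equiv.Perm.sign_permCongr, Equiv.Perm.sign_sumCongr]

lemma det_rows (n : ℕ) (X : Matrix (Fin n) (Fin n) k) :
    X.det = ∑ τ : Equiv.Perm (Fin n), ((Equiv.Perm.sign τ : ℤˣ) : ℤ) * ∏ a, X a (τ a) := by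
  rw [← Matrix.det_transpose, Matrix.det_apply']
  rfl

/-- the general identity -/
theorem general (p r : ℕ) (N : Matrix (Fin (p + r)) (Fin (p + r)) k) :
    ∑ σ : Equiv.Perm (Fin (p + r)), (((Equiv.Perm.sign σ : ℤˣ) : ℤ) : k) *
      (Matrix.of fun a c => N (Fin.castAdd r a) (σ (Fin.castAdd r c))).det *
      (Matrix.of fun b d => N (Fin.natAdd p b) (σ (Fin.natAdd p d))).det =
    ((p.factorial * r.factorial : ℕ) : k) * N.det := by
  have hterm : ∀ σ : Equiv.Perm (Fin (p + r)),
      (((Equiv.Perm.sign σ : ℤˣ) : ℤ) : k) *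
      (Matrix.of fun a c => N (Fin.castAdd r a) (σ (Fin.castAdd r c))).det *
      (Matrix.of fun b d => N (Fin.natAdd p b) (σ (Fin.natAdd p d))).det =
      ∑ τ : Equiv.Perm (Fin p), ∑ υ : Equiv.Perm (Fin r),
        (((Equiv.Perm.sign (σ * blk τ υ) : ℤˣ) : ℤ) : k) * ∏ i, N i ((σ * blk τ υ) i) := by
    intro σ
    rw [det_rows, det_rows, mul_assoc, Finset.sum_mul_sum, Finset.mul_sum]
    refine Finset.sum_congr rfl fun τ _ => ?_
    rw [Finset.mul_sum]
    refine Finset.sum_congr rfl fun υ _ => ?_
    rw [Fin.prod_univ_add, map_mul, sign_blk]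
    simp only [Matrix.of_apply, Equiv.Perm.coe_mul, Function.comp_apply, blk_castAdd, blk_natAdd]
    push_cast
    ring
  rw [Finset.sum_congr rfl fun σ _ => hterm σ, Finset.sum_comm]
  have hinner : ∀ τ : Equiv.Perm (Fin p), ∑ σ : Equiv.Perm (Fin (p + r)),
      ∑ υ : Equiv.Perm (Fin r),
        (((Equiv.Perm.sign (σ * blk τ υ) : ℤˣ) : ℤ) : k) * ∏ i, N i ((σ * blk τ υ) i) =
      (r.factorial : k) * N.det := by
    intro τ
    rw [Finset.sum_comm]
    have : ∀ υ : Equiv.Perm (Fin r), ∑ σ : Equiv.Perm (Fin (p + r)),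
        (((Equiv.Perm.sign (σ * blk τ υ) : ℤˣ) : ℤ) : k) * ∏ i, N i ((σ * blk τ υ) i) = N.det := by
      intro υ
      rw [det_rows]
      exact Fintype.sum_equiv (Equiv.mulRight (blk τ υ)) _ _ (fun σ => rfl)
    rw [Finset.sum_congr rfl fun υ _ => this υ, Finset.sum_const, Finset.card_univ,
      Fintype.card_perm, Fintype.card_fin, nsmul_eq_mul]
  rw [Finset.sum_congr rfl fun τ _ => hinner τ, Finset.sum_const, Finset.card_univ,
    Fintype.card_perm, Fintype.card_fin, nsmul_eq_mul]
  push_cast
  ring

lemma sign_eq_neg_one_pow_inv {n : ℕ} (ρ : Equiv.Perm (Fin n)) :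
    ((Equiv.Perm.sign ρ : ℤˣ) : ℤ) =
      (-1) ^ ((univ ×ˢ univ : Finset (Fin n × Fin n)).filter
        (fun ij => ij.1 < ij.2 ∧ ρ ij.2 < ρ ij.1)).card := by
  rw [Equiv.Perm.sign_eq_prod_prod_Iio, Units.coe_prod]
  simp_rw [Units.coe_prod, apply_ite (Units.val : ℤˣ → ℤ), Units.val_one, Units.val_neg,
    Units.val_one]
  rw [Finset.prod_sigma', Finset.prod_ite, Finset.prod_const_one, one_mul, Finset.prod_const]
  congr 1
  apply Finset.card_bij (fun x _ => (x.2, x.1))
  · intro x hx
    simp only [mem_filter, mem_sigma, mem_univ, mem_Iio, true_and, not_lt] at hx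
    simp only [mem_filter, mem_product, mem_univ, true_and]
    refine ⟨hx.1, lt_of_le_of_ne hx.2 ?_⟩
    intro h
    exact (ne_of_lt hx.1) (ρ.injective h.symm)
  · rintro ⟨j, i⟩ _ ⟨j', i'⟩ _ h
    simp only [Prod.mk.injEq] at h
    obtain ⟨rfl, rfl⟩ := h
    rfl
  · rintro ⟨i, j⟩ hx
    simp only [mem_filter, mem_product, mem_univ, true_and] at hx
    refine ⟨⟨j, i⟩, ?_, rfl⟩
    simp only [mem_filter, mem_sigma, mem_univ, mem_Iio, true_and, not_lt]
    exact ⟨hx.1, le_of_lt hx.2⟩

lemma sign_shuffle {p r : ℕ} (A B : Finset (Fin (p + r))) (hA : A.card = p) (hB : B.card = r)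
    (hBA : B = Aᶜ) (ρ : Equiv.Perm (Fin (p + r)))
    (hρ1 : ∀ a, ρ (Fin.castAdd r a) = A.orderEmbOfFin hA a)
    (hρ2 : ∀ b, ρ (Fin.natAdd p b) = B.orderEmbOfFin hB b) :
    ((Equiv.Perm.sign ρ : ℤˣ) : ℤ) =
      (-1) ^ ((A ×ˢ Aᶜ).filter (fun ab => ab.2 < ab.1)).card := by
  rw [sign_eq_neg_one_pow_inv]
  congr 1
  apply Finset.card_bij (fun x _ => (ρ x.1, ρ x.2))
  · rintro ⟨i, j⟩ hx
    simp only [mem_filter, mem_product, mem_univ, true_and] at hx
    obtain ⟨hij, hρij⟩ := hx
    simp only [mem_filter, mem_product, mem_compl]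
    induction i using Fin.addCases with
    | left a =>
      induction j using Fin.addCases with
      | left c =>
        exfalso
        rw [hρ1, hρ1, OrderEmbedding.lt_iff_lt] at hρij
        rw [Fin.lt_def] at hij hρij
        simp only [Fin.val_castAdd] at hij
        omega
      | right b =>
        refine ⟨⟨?_, ?_⟩, hρij⟩
        · rw [hρ1]; exact Finset.orderEmbOfFin_mem _ _ _
        · have : ρ (Fin.natAdd p b) ∈ B := by rw [hρ2]; exact Finset.orderEmbOfFin_mem _ _ _
          rw [hBA, mem_compl] at this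
          exact this
    | right b =>
      exfalso
      induction j using Fin.addCases with
      | left c =>
        rw [Fin.lt_def] at hij
        simp only [Fin.val_castAdd, Fin.val_natAdd] at hij
        omega
      | right d =>
        rw [hρ2, hρ2, OrderEmbedding.lt_iff_lt] at hρij
        rw [Fin.lt_def] at hij hρij
        simp only [Fin.val_natAdd] at hij
        omega
  · rintro ⟨i, j⟩ _ ⟨i', j'⟩ _ h
    simp only [Prod.mk.injEq, EmbeddingLike.apply_eq_iff_eq] at h
    obtain ⟨rfl, rfl⟩ := h
    rfl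
  · rintro ⟨a, b⟩ hx
    simp only [mem_filter, mem_product, mem_compl] at hx
    obtain ⟨⟨haA, hbA⟩, hba⟩ := hx
    have ha' : a ∈ Set.range (A.orderEmbOfFin hA) := by
      rw [Finset.range_orderEmbOfFin]; exact haA
    have hb' : b ∈ Set.range (B.orderEmbOfFin hB) := by
      rw [Finset.range_orderEmbOfFin, hBA]; simpa using hbA
    obtain ⟨a', rfl⟩ := ha'
    obtain ⟨b', rfl⟩ := hb'
    refine ⟨(Fin.castAdd r a', Fin.natAdd p b'), ?_, ?_⟩
    · simp only [mem_filter, mem_product, mem_univ, true_and]
      refine ⟨?_, ?_⟩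
      · rw [Fin.lt_def]
        simp only [Fin.val_castAdd, Fin.val_natAdd]
        omega
      · rw [hρ1, hρ2]; exact hba
    · simp only [hρ1, hρ2]

theorem main (k : Type u) [Field k]
    (p r : ℕ) (M : Matrix (Fin (p + r)) (Fin (p + r)) k)
    (A : Finset (Fin (p + r))) (hA : A.card = p) (B : Finset (Fin (p + r))) (hB : B.card = r) :
    ∑ π : Equiv.Perm (Fin (p + r)), (((Equiv.Perm.sign π : ℤˣ) : ℤ) : k) *
      ((M * π.permMatrix k).submatrix (A.orderEmbOfFin hA) (Fin.castAdd r)).det *
      ((M * π.permMatrix k).submatrix (B.orderEmbOfFin hB) (Fin.natAdd p)).det =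
    if B = Aᶜ then ((p.factorial * r.factorial : ℕ) : k) *
      (-1 : k) ^ ((A ×ˢ Aᶜ).filter (fun ab => ab.2 < ab.1)).card * M.det else 0 := by
  classical
  set ρ : Fin (p + r) → Fin (p + r) := Fin.append (A.orderEmbOfFin hA) (B.orderEmbOfFin hB) with hρ
  have hρ1 : ∀ a, ρ (Fin.castAdd r a) = A.orderEmbOfFin hA a := fun a => Fin.append_left _ _ a
  have hρ2 : ∀ b, ρ (Fin.natAdd p b) = B.orderEmbOfFin hB b := fun b => Fin.append_right _ _ b
  set N : Matrix (Fin (p + r)) (Fin (p + r)) k := M.submatrix ρ id with hN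
  have hstep : ∑ π : Equiv.Perm (Fin (p + r)), (((Equiv.Perm.sign π : ℤˣ) : ℤ) : k) *
      ((M * π.permMatrix k).submatrix (A.orderEmbOfFin hA) (Fin.castAdd r)).det *
      ((M * π.permMatrix k).submatrix (B.orderEmbOfFin hB) (Fin.natAdd p)).det =
      ∑ σ : Equiv.Perm (Fin (p + r)), (((Equiv.Perm.sign σ : ℤˣ) : ℤ) : k) *
      (Matrix.of fun a c => N (Fin.castAdd r a) (σ (Fin.castAdd r c))).det *
      (Matrix.of fun b d => N (Fin.natAdd p b) (σ (Fin.natAdd p d))).det := by
    refine Fintype.sum_equiv (Equiv.inv _) _ _ (fun π => ?_)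
    have hMP : M * π.permMatrix k = M.submatrix id π.symm := PEquiv.mul_toMatrix_toPEquiv M π
    rw [hMP]
    have h1 : (M.submatrix id π.symm).submatrix (A.orderEmbOfFin hA) (Fin.castAdd r) =
        Matrix.of fun a c => N (Fin.castAdd r a) (π⁻¹ (Fin.castAdd r c)) := by
      ext a c
      simp only [Matrix.submatrix_apply, id_eq, Matrix.of_apply, hN, hρ1]
      rfl
    have h2 : (M.submatrix id π.symm).submatrix (B.orderEmbOfFin hB) (Fin.natAdd p) =
        Matrix.of fun b d => N (Fin.natAdd p b) (π⁻¹ (Fin.natAdd p d)) := by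
      ext b d
      simp only [Matrix.submatrix_apply, id_eq, Matrix.of_apply, hN, hρ2]
      rfl
    rw [h1, h2]
    simp only [Equiv.inv_apply, Equiv.Perm.sign_inv]
  rw [hstep, general]
  split_ifs with hBA
  · -- ρ is a permutation
    have hinj : Function.Injective ρ := by
      intro i j hij
      induction i using Fin.addCases with
      | left a =>
        induction j using Fin.addCases with
        | left c =>
          rw [hρ1, hρ1] at hij
          rw [(A.orderEmbOfFin hA).injective hij]
        | right b =>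
          exfalso
          rw [hρ1, hρ2] at hij
          have h1 : A.orderEmbOfFin hA a ∈ A := Finset.orderEmbOfFin_mem _ _ _
          have h2 : B.orderEmbOfFin hB b ∈ B := Finset.orderEmbOfFin_mem _ _ _
          have h3 := hBA.subset h2
          rw [mem_compl, ← hij] at h3
          exact h3 h1
      | right b =>
        induction j using Fin.addCases with
        | left c =>
          exfalso
          rw [hρ1, hρ2] at hij
          have h1 : A.orderEmbOfFin hA c ∈ A := Finset.orderEmbOfFin_mem _ _ _
          have h2 : B.orderEmbOfFin hB b ∈ B := Finset.orderEmbOfFin_mem _ _ _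
          have h3 := hBA.subset h2
          rw [mem_compl, hij] at h3
          exact h3 h1
        | right d =>
          rw [hρ2, hρ2] at hij
          rw [(B.orderEmbOfFin hB).injective hij]
    let ρe : Equiv.Perm (Fin (p + r)) := Equiv.ofBijective ρ (Finite.injective_iff_bijective.1 hinj)
    have hρe : ∀ i, ρe i = ρ i := fun i => rfl
    have hNdet : N.det = (((Equiv.Perm.sign ρe : ℤˣ) : ℤ) : k) * M.det := by
      rw [hN, ← Matrix.det_permute]
      rfl
    rw [hNdet, sign_shuffle A B hA hB hBA ρe (fun a => by rw [hρe, hρ1])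
      (fun b => by rw [hρe, hρ2])]
    push_cast
    ring
  · -- two equal rows
    have hne : ¬ Disjoint A B := by
      intro hd
      apply hBA
      have hsub : B ⊆ Aᶜ := by
        intro x hx
        rw [mem_compl]
        intro hxA
        exact (Finset.disjoint_left.1 hd) hxA hx
      apply Finset.eq_of_subset_of_card_le hsub
      rw [Finset.card_compl, hA, hB, Fintype.card_fin]
      omega
    rw [Finset.not_disjoint_iff] at hne
    obtain ⟨x, hxA, hxB⟩ := hne
    have ha' : x ∈ Set.range (A.orderEmbOfFin hA) := by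
      rw [Finset.range_orderEmbOfFin]; exact hxA
    have hb' : x ∈ Set.range (B.orderEmbOfFin hB) := by
      rw [Finset.range_orderEmbOfFin]; exact hxB
    obtain ⟨a, ha⟩ := ha'
    obtain ⟨b, hb⟩ := hb'
    have hdet : N.det = 0 := by
      apply Matrix.det_zero_of_row_eq (i := Fin.castAdd r a) (j := Fin.natAdd p b)
      · intro h
        have := congrArg Fin.val h
        simp only [Fin.val_castAdd, Fin.val_natAdd] at this
        omega
      · funext j
        simp only [hN, Matrix.submatrix_apply, id_eq, hρ1, hρ2, ha, hb]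
    rw [hdet, mul_zero]

end Helpers

/-- Let k be a field of characteristic zero, n = p + r with p, r ≥ 1, M an n × n matrix over k, A a set
of p row indices and B a set of r row indices, both listed increasingly. For a permutation π of the
indices, with permutation matrix P_π, let Y_A(M·P_π) be the minor of M·P_π on the rows A and the
first p columns, and Z_B(M·P_π) the minor on the rows B and the last r columns. Then the sum over
all π of sign(π)·Y_A(M·P_π)·Z_B(M·P_π) equals p!·r!·(−1)^N·det M when B is the complement of A,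
where N is the number of pairs (a, b) with a in A, b outside A and b < a, and equals 0 otherwise.
Taking det M = 1 this says that the pairing (f, h) ↦ Σ_π sign(π) f(π) h(π) between the spans of the
left p-minors and of the right r-minors is invariant under left translation by matrices of
determinant one and pairs Y_A with the signed complementary minor to p!·r!. (The published statement
asserts that the two families of minors are dual bases for this pairing, that is, the value 1 in
place of p!·r!; the p!·r! permutations preserving the two column blocks each contribute the same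
signed term, so this row carries that factor, which is 1 only for n = 2.) -/
theorem result (k : Type u) [Field k] [CharZero k]
    (p r : ℕ) (hp : 1 ≤ p) (hr : 1 ≤ r) (M : Matrix (Fin (p + r)) (Fin (p + r)) k)
    (A : Finset (Fin (p + r))) (hA : A.card = p) (B : Finset (Fin (p + r))) (hB : B.card = r) :
    ∑ π : Equiv.Perm (Fin (p + r)), (((Equiv.Perm.sign π : ℤˣ) : ℤ) : k) *
      ((M * π.permMatrix k).submatrix (A.orderEmbOfFin hA) (Fin.castAdd r)).det *
      ((M * π.permMatrix k).submatrix (B.orderEmbOfFin hB) (Fin.natAdd p)).det =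
    if B = Aᶜ then ((p.factorial * r.factorial : ℕ) : k) *
      (-1 : k) ^ ((A ×ˢ Aᶜ).filter (fun ab => ab.2 < ab.1)).card * M.det else 0 := by
  exact main k p r M A hA B hB

end Groth.Agent.S14879
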