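import Groth.Statements.S14881
import Mathlib
import Groth.Prelude.Def_ChGrp
import Groth.Agent.S14876
-- import your own Groth.Agent.* helpers here

set_option autoImplicit false
universe u
open CategoryTheory MonoidalCategory CartesianMonoidalCategory MonObj GrpObj AlgebraicGeometry CategoryTheory.Limits
open AlgGrp

namespace Groth.Agent.S14881

open CategoryTheory CategoryTheory.Limits AlgebraicGeometry

namespace H5S14881

open MonoidalCategory CartesianMonoidalCategory MonObj Groth.Agent.S14876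

variable {S : Scheme.{u}}

theorem main {G X : Over S} [GrpObj G]
    (Γ : Type) [Group Γ] (ρ : Γ → (X ⟶ X))
    (lam : Γ → (X ⊗ G ⟶ X ⊗ G))
    (hlam : ∀ σ τ : Γ, lam (σ * τ) = lam σ ≫ lam τ)
    (hfst : ∀ σ : Γ, lam σ ≫ fst X G = fst X G ≫ ρ σ)
    (hG : ∀ (σ : Γ) (T : Over S) (x : T ⟶ X) (g h : T ⟶ G),
      lift x (g * h) ≫ lam σ ≫ snd X G = (lift x g ≫ lam σ ≫ snd X G) * h) :
    ∃! φ : Γ → (X ⟶ G), (∀ σ τ : Γ, φ (σ * τ) = φ σ * (ρ σ ≫ φ τ)) ∧
      ∀ (σ : Γ) (T : Over S) (x : T ⟶ X) (g : T ⟶ G),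
        lift x g ≫ lam σ = lift (x ≫ ρ σ) ((x ≫ φ σ)⁻¹ * g) := by
  let c : Γ → (X ⟶ G) := fun σ => lift (𝟙 X) 1 ≫ lam σ ≫ snd X G
  have hc : ∀ (σ : Γ) {T : Over S} (x : T ⟶ X), x ≫ c σ = lift x 1 ≫ lam σ ≫ snd X G := by
    intro σ T x
    change x ≫ lift (𝟙 X) 1 ≫ lam σ ≫ snd X G = _
    rw [← Category.assoc, comp_lift, Category.comp_id, MonObj.comp_one]
  have hpt : ∀ (σ : Γ) {T : Over S} (x : T ⟶ X) (g : T ⟶ G),
      lift x g ≫ lam σ = lift (x ≫ ρ σ) ((x ≫ c σ) * g) := by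
    intro σ T x g
    apply CartesianMonoidalCategory.hom_ext
    · rw [Category.assoc, hfst, lift_fst_assoc, lift_fst]
    · rw [lift_snd, hc, ← hG, _root_.one_mul, Category.assoc]
  have hcc : ∀ σ τ : Γ, c (σ * τ) = (ρ σ ≫ c τ) * c σ := by
    intro σ τ
    have h1 : lift (𝟙 X) (1 : X ⟶ G) ≫ lam (σ * τ) ≫ snd X G = c (σ * τ) := rfl
    rw [← h1, hlam, ← Category.assoc, ← Category.assoc, hpt, Category.assoc, ← Category.assoc, hpt,
      lift_snd, Category.id_comp, Category.id_comp, _root_.mul_one]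
  refine ⟨fun σ => (c σ)⁻¹, ⟨?_, ?_⟩, ?_⟩
  · intro σ τ
    change (c (σ * τ))⁻¹ = (c σ)⁻¹ * (ρ σ ≫ (c τ)⁻¹)
    rw [hcc, _root_.mul_inv_rev, GrpObj.comp_inv]
  · intro σ T x g
    change lift x g ≫ lam σ = lift (x ≫ ρ σ) ((x ≫ (c σ)⁻¹)⁻¹ * g)
    rw [hpt, GrpObj.comp_inv, _root_.inv_inv]
  · rintro φ' ⟨-, h2⟩
    funext σ
    have h3 := h2 σ X (𝟙 X) 1
    have h4 := hpt σ (𝟙 X) 1
    rw [h3] at h4
    have h5 := congrArg (fun q => q ≫ snd X G) h4
    simp only [lift_snd, Category.id_comp, _root_.mul_one] at h5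
    change φ' σ = (c σ)⁻¹
    rw [← h5, _root_.inv_inv]

end H5S14881

/-- Over an algebraically closed field k of characteristic zero, let G be an algebraic group (a smooth
k-group scheme of finite type), X a variety (reduced, separated, of finite type over k) and Γ a
finite group acting on X on the right (x ↦ x·σ, with x·(στ) = (x·σ)·τ). Let σ ↦ λ_σ be a
Γ-linearization of the trivial principal G-bundle X × G: a right action of Γ on X × G (λ_1 the
identity, λ_{στ} = λ_τ ∘ λ_σ) lying over the action on X and commuting with the action of G by right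
multiplication on the second factor. Then there is exactly one 1-cocycle φ : Γ → G(X), φ_{στ} = φ_σ
· (φ_τ ∘ (·σ)), such that λ_σ(x, g) = (x·σ, φ_σ(x)⁻¹·g) for all σ and all points x of X, g of G with
values in any k-scheme. -/
theorem result (k : Type u) [Field k] [IsAlgClosed k] [CharZero k]
    (G X : Over (Spec (CommRingCat.of k))) [GrpObj G] [Smooth G.hom] [QuasiCompact G.hom]
    [LocallyOfFiniteType X.hom] [QuasiCompact X.hom] [IsSeparated X.hom] [IsReduced X.left]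
    (Γ : Type) [Group Γ] [Finite Γ] (ρ : Γ → (X ⟶ X)) (hρ₁ : ρ 1 = 𝟙 X) (hρ : ∀ σ τ : Γ, ρ (σ * τ) = ρ σ ≫ ρ τ)
    (lam : Γ → (X ⊗ G ⟶ X ⊗ G)) (hlam₁ : lam 1 = 𝟙 (X ⊗ G)) (hlam : ∀ σ τ : Γ, lam (σ * τ) = lam σ ≫ lam τ)
    (hfst : ∀ σ : Γ, lam σ ≫ fst X G = fst X G ≫ ρ σ)
    (hG : ∀ (σ : Γ) (T : Over (Spec (CommRingCat.of k))) (x : T ⟶ X) (g h : T ⟶ G),
      lift x (g * h) ≫ lam σ ≫ snd X G = (lift x g ≫ lam σ ≫ snd X G) * h) :
    ∃! φ : Γ → (X ⟶ G), (∀ σ τ : Γ, φ (σ * τ) = φ σ * (ρ σ ≫ φ τ)) ∧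
      ∀ (σ : Γ) (T : Over (Spec (CommRingCat.of k))) (x : T ⟶ X) (g : T ⟶ G),
        lift x g ≫ lam σ = lift (x ≫ ρ σ) ((x ≫ φ σ)⁻¹ * g) := by
  exact H5S14881.main Γ ρ lam hlam hfst hG

end Groth.Agent.S14881
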