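import Groth.Statements.S14882
import Mathlib
import Groth.Prelude.Def_ChGrp
import Groth.Agent.S14876
-- import your own Groth.Agent.* helpers here

set_option autoImplicit false
universe u
open CategoryTheory MonoidalCategory CartesianMonoidalCategory MonObj GrpObj AlgebraicGeometry CategoryTheory.Limits
open AlgGrp

namespace Groth.Agent.S14882

open CategoryTheory CategoryTheory.Limits AlgebraicGeometry

namespace H5S14882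

open MonoidalCategory CartesianMonoidalCategory MonObj Groth.Agent.S14876

variable {S : Scheme.{u}}

theorem main {G X : Over S} [GrpObj G]
    (Γ : Type) (ρ : Γ → (X ⟶ X))
    (φ φ' : Γ → (X ⟶ G))
    (lam lam' : Γ → (X ⊗ G ⟶ X ⊗ G))
    (hlam : ∀ (σ : Γ) (T : Over S) (x : T ⟶ X) (g : T ⟶ G),
      lift x g ≫ lam σ = lift (x ≫ ρ σ) ((x ≫ φ σ)⁻¹ * g))
    (hlam' : ∀ (σ : Γ) (T : Over S) (x : T ⟶ X) (g : T ⟶ G),
      lift x g ≫ lam' σ = lift (x ≫ ρ σ) ((x ≫ φ' σ)⁻¹ * g)) :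
    (∃ Φ : X ⊗ G ⟶ X ⊗ G, IsIso Φ ∧ Φ ≫ fst X G = fst X G ∧
      (∀ (T : Over S) (x : T ⟶ X) (g h : T ⟶ G),
        lift x (g * h) ≫ Φ ≫ snd X G = (lift x g ≫ Φ ≫ snd X G) * h) ∧
      ∀ σ : Γ, lam σ ≫ Φ = Φ ≫ lam' σ) ↔
    ∃ ψ : X ⟶ G, ∀ σ : Γ, φ σ = ψ⁻¹ * φ' σ * (ρ σ ≫ ψ) := by
  constructor
  · rintro ⟨Φ, -, h₁, h₂, h₃⟩
    have hΦ := H5S14876.main Φ h₁ h₂
    obtain ⟨ψ₀, hψ₀⟩ : ∃ ψ₀ : X ⟶ G, ψ₀ = lift (𝟙 X) 1 ≫ Φ ≫ snd X G := ⟨_, rfl⟩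
    rw [← hψ₀] at hΦ
    refine ⟨ψ₀, fun σ => ?_⟩
    have hL : lift (𝟙 X) (1 : X ⟶ G) ≫ lam σ ≫ Φ =
        lift (ρ σ) ((ρ σ ≫ ψ₀) * ((φ σ)⁻¹ * 1)) := by
      rw [← Category.assoc, hlam, hΦ, Category.id_comp, Category.id_comp]
    have hR : lift (𝟙 X) (1 : X ⟶ G) ≫ Φ ≫ lam' σ =
        lift (ρ σ) ((φ' σ)⁻¹ * (ψ₀ * 1)) := by
      rw [← Category.assoc, hΦ, hlam', Category.id_comp, Category.id_comp, Category.id_comp]
    have e1 : lift (ρ σ) ((ρ σ ≫ ψ₀) * ((φ σ)⁻¹ * 1)) = lift (ρ σ) ((φ' σ)⁻¹ * (ψ₀ * 1)) := by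
      rw [← hL, ← hR, h₃]
    have e2 := congrArg (fun q => q ≫ snd X G) e1
    simp only [lift_snd, _root_.mul_one] at e2
    calc φ σ = ((ρ σ ≫ ψ₀) * (φ σ)⁻¹)⁻¹ * (ρ σ ≫ ψ₀) := by group
      _ = ((φ' σ)⁻¹ * ψ₀)⁻¹ * (ρ σ ≫ ψ₀) := by rw [e2]
      _ = ψ₀⁻¹ * φ' σ * (ρ σ ≫ ψ₀) := by group
  · rintro ⟨ψ, hψ⟩
    let Φ : X ⊗ G ⟶ X ⊗ G := lift (fst X G) ((fst X G ≫ ψ) * snd X G)
    let Φ' : X ⊗ G ⟶ X ⊗ G := lift (fst X G) ((fst X G ≫ ψ)⁻¹ * snd X G)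
    have hΦ : ∀ {T : Over S} (x : T ⟶ X) (g : T ⟶ G), lift x g ≫ Φ = lift x ((x ≫ ψ) * g) := by
      intro T x g
      change lift x g ≫ lift (fst X G) ((fst X G ≫ ψ) * snd X G) = _
      rw [comp_lift, MonObj.comp_mul, lift_fst, lift_fst_assoc, lift_snd]
    have hΦ' : ∀ {T : Over S} (x : T ⟶ X) (g : T ⟶ G), lift x g ≫ Φ' = lift x ((x ≫ ψ)⁻¹ * g) := by
      intro T x g
      change lift x g ≫ lift (fst X G) ((fst X G ≫ ψ)⁻¹ * snd X G) = _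
      rw [comp_lift, MonObj.comp_mul, GrpObj.comp_inv, lift_fst, lift_fst_assoc, lift_snd]
    refine ⟨Φ, ⟨Φ', ?_, ?_⟩, lift_fst _ _, ?_, ?_⟩
    · apply AlgGrp.Action.hom_ext_lift₂
      intro T x g
      rw [← Category.assoc, hΦ, hΦ', inv_mul_cancel_left, Category.comp_id]
    · apply AlgGrp.Action.hom_ext_lift₂
      intro T x g
      rw [← Category.assoc, hΦ', hΦ, mul_inv_cancel_left, Category.comp_id]
    · intro T x g h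
      rw [← Category.assoc, hΦ, lift_snd, ← Category.assoc, hΦ, lift_snd, _root_.mul_assoc]
    · intro σ
      apply AlgGrp.Action.hom_ext_lift₂
      intro T x g
      rw [← Category.assoc, hlam, hΦ, ← Category.assoc, hΦ, hlam', hψ σ]
      congr 1
      rw [MonObj.comp_mul, MonObj.comp_mul, GrpObj.comp_inv, Category.assoc]
      group

end H5S14882

/-- Over an algebraically closed field k of characteristic zero, let G be an algebraic group (a smooth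
k-group scheme of finite type), X a variety (reduced, separated, of finite type over k) and Γ a
finite group acting on X on the right (x ↦ x·σ, with x·(στ) = (x·σ)·τ). Let φ and φ' be 1-cocycles Γ
→ G(X), φ_{στ} = φ_σ · (φ_τ ∘ (·σ)), with attached Γ-linearizations of X × G given on points by
λ_σ(x, g) = (x·σ, φ_σ(x)⁻¹·g) and λ'_σ(x, g) = (x·σ, φ'_σ(x)⁻¹·g). Then the two Γ-linearized trivial
bundles are isomorphic, meaning that there is an automorphism Φ of X × G over X, commuting with the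
action of G by right multiplication, with Φ ∘ λ_σ = λ'_σ ∘ Φ for every σ, if and only if the
cocycles are cohomologous: there is ψ in G(X) with φ_σ = ψ⁻¹ · φ'_σ · (ψ ∘ (·σ)) for every σ. Hence
isomorphism classes of Γ-linearizations of the trivial bundle correspond to H¹(Γ, G(X)). -/
theorem result (k : Type u) [Field k] [IsAlgClosed k] [CharZero k]
    (G X : Over (Spec (CommRingCat.of k))) [GrpObj G] [Smooth G.hom] [QuasiCompact G.hom]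
    [LocallyOfFiniteType X.hom] [QuasiCompact X.hom] [IsSeparated X.hom] [IsReduced X.left]
    (Γ : Type) [Group Γ] [Finite Γ] (ρ : Γ → (X ⟶ X)) (hρ₁ : ρ 1 = 𝟙 X) (hρ : ∀ σ τ : Γ, ρ (σ * τ) = ρ σ ≫ ρ τ)
    (φ φ' : Γ → (X ⟶ G)) (hφ : ∀ σ τ : Γ, φ (σ * τ) = φ σ * (ρ σ ≫ φ τ))
    (hφ' : ∀ σ τ : Γ, φ' (σ * τ) = φ' σ * (ρ σ ≫ φ' τ))
    (lam lam' : Γ → (X ⊗ G ⟶ X ⊗ G))
    (hlam : ∀ (σ : Γ) (T : Over (Spec (CommRingCat.of k))) (x : T ⟶ X) (g : T ⟶ G),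
      lift x g ≫ lam σ = lift (x ≫ ρ σ) ((x ≫ φ σ)⁻¹ * g))
    (hlam' : ∀ (σ : Γ) (T : Over (Spec (CommRingCat.of k))) (x : T ⟶ X) (g : T ⟶ G),
      lift x g ≫ lam' σ = lift (x ≫ ρ σ) ((x ≫ φ' σ)⁻¹ * g)) :
    (∃ Φ : X ⊗ G ⟶ X ⊗ G, IsIso Φ ∧ Φ ≫ fst X G = fst X G ∧
      (∀ (T : Over (Spec (CommRingCat.of k))) (x : T ⟶ X) (g h : T ⟶ G),
        lift x (g * h) ≫ Φ ≫ snd X G = (lift x g ≫ Φ ≫ snd X G) * h) ∧
      ∀ σ : Γ, lam σ ≫ Φ = Φ ≫ lam' σ) ↔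
    ∃ ψ : X ⟶ G, ∀ σ : Γ, φ σ = ψ⁻¹ * φ' σ * (ρ σ ≫ ψ) := by
  exact H5S14882.main Γ ρ φ φ' lam lam' hlam hlam'

end Groth.Agent.S14882
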