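import Groth.Statements.S14886
import Mathlib
import Groth.Agent.S14883
-- import your own Groth.Agent.* helpers here

set_option autoImplicit false
universe u
open CategoryTheory MonoidalCategory CartesianMonoidalCategory MonObj GrpObj AlgebraicGeometry CategoryTheory.Limits
open AlgGrp

namespace Groth.Agent.S14886

open CategoryTheory CategoryTheory.Limits AlgebraicGeometry MonoidalCategory CartesianMonoidalCategory MonObj

namespace H5S14886

open Groth.Agent.S14883

theorem main (k : Type u) [Field k]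
    (G H : Over (Spec (CommRingCat.of k))) [GrpObj G] [QuasiCompact G.hom]
    [GrpObj H] (j : H ⟶ G)
    (B : Over (Spec (CommRingCat.of k))) [IsSeparated B.hom]
    (r : AlgGrp.Action H G) (hr : ∀ (T : Over (Spec (CommRingCat.of k))) (h : T ⟶ H) (g : T ⟶ G),
      lift h g ≫ r.act = g * (h ≫ j)⁻¹)
    (π : G ⟶ B) (hπinv : GIT.IsInvariant r π)
    (hπsurj : Function.Surjective π.left.base) (hπiso : IsIso (GIT.PsiY r π hπinv))
    (hπflat : Flat π.left)
    (X Y : Over (Spec (CommRingCat.of k))) [QuasiCompact X.hom] [QuasiCompact Y.hom]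
    (aX : AlgGrp.Action H X) (aY : AlgGrp.Action H Y)
    (b : AlgGrp.Action H (G ⊗ X))
    (hb : ∀ (T : Over (Spec (CommRingCat.of k))) (h : T ⟶ H) (g : T ⟶ G) (x : T ⟶ X),
      lift h (lift g x) ≫ b.act = lift (g * (h ≫ j)⁻¹) (lift h x ≫ aX.act))
    (c : AlgGrp.Action H (G ⊗ Y))
    (hc : ∀ (T : Over (Spec (CommRingCat.of k))) (h : T ⟶ H) (g : T ⟶ G) (x : T ⟶ Y),
      lift h (lift g x) ≫ c.act = lift (g * (h ≫ j)⁻¹) (lift h x ≫ aY.act))
    (d : AlgGrp.Action H (G ⊗ (X ⊗ Y)))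
    (hd : ∀ (T : Over (Spec (CommRingCat.of k))) (h : T ⟶ H) (g : T ⟶ G) (x : T ⟶ X) (y : T ⟶ Y),
      lift h (lift g (lift x y)) ≫ d.act =
        lift (g * (h ≫ j)⁻¹) (lift (lift h x ≫ aX.act) (lift h y ≫ aY.act)))
    (QX QY QXY : Over (Spec (CommRingCat.of k))) [IsSeparated QX.hom] [IsSeparated QY.hom]
    [IsSeparated QXY.hom]
    (qX : G ⊗ X ⟶ QX) (hqXinv : GIT.IsInvariant b qX)
    (hqXsurj : Function.Surjective qX.left.base) (hqXiso : IsIso (GIT.PsiY b qX hqXinv))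
    (hqXflat : Flat qX.left)
    (qY : G ⊗ Y ⟶ QY) (hqYinv : GIT.IsInvariant c qY)
    (hqYsurj : Function.Surjective qY.left.base) (hqYiso : IsIso (GIT.PsiY c qY hqYinv))
    (hqYflat : Flat qY.left)
    (qXY : G ⊗ (X ⊗ Y) ⟶ QXY) (hqXYinv : GIT.IsInvariant d qXY)
    (hqXYsurj : Function.Surjective qXY.left.base) (hqXYiso : IsIso (GIT.PsiY d qXY hqXYinv))
    (hqXYflat : Flat qXY.left)
    (pX : QX ⟶ B) (hpX : qX ≫ pX = fst G X ≫ π) (pY : QY ⟶ B) (hpY : qY ≫ pY = fst G Y ≫ π)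
    (pXY : QXY ⟶ B) (hpXY : qXY ≫ pXY = fst G (X ⊗ Y) ≫ π)
    (fX : QXY ⟶ QX) (hfX : qXY ≫ fX = (G ◁ fst X Y) ≫ qX) (hfXp : fX ≫ pX = pXY)
    (fY : QXY ⟶ QY) (hfY : qXY ≫ fY = (G ◁ snd X Y) ≫ qY) (hfYp : fY ≫ pY = pXY) :
    IsPullback fX.left fY.left pX.left pY.left := by
  haveI := hπflat
  haveI := hqXflat
  haveI := hqYflat
  haveI := hqXYflat
  haveI : Surjective π.left := ⟨hπsurj⟩
  haveI : Surjective qX.left := ⟨hqXsurj⟩
  haveI : Surjective qY.left := ⟨hqYsurj⟩
  haveI : Surjective qXY.left := ⟨hqXYsurj⟩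
  have hqc : ∀ (A Z : Over (Spec (CommRingCat.of k))) [QuasiCompact A.hom] [QuasiCompact Z.hom],
      QuasiCompact (A ⊗ Z).hom := by
    intro A Z _ _
    have : (A ⊗ Z).hom = (fst A Z).left ≫ A.hom := (Over.w (fst A Z)).symm
    rw [this]
    haveI : QuasiCompact (fst A Z).left := by
      change QuasiCompact (pullback.fst A.hom Z.hom)
      infer_instance
    infer_instance
  haveI := hqc G X
  haveI := hqc G Y
  haveI := hqc X Y
  haveI := hqc G (X ⊗ Y)
  haveI : QuasiCompact qX.left := H5S14883.qc_of_sep qX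
  haveI : QuasiCompact qY.left := H5S14883.qc_of_sep qY
  haveI : QuasiCompact qXY.left := H5S14883.qc_of_sep qXY
  haveI : QuasiCompact π.left := H5S14883.qc_of_sep π
  have hsqX := H5S14883.sq_of_psiY b qX hqXinv hqXiso
  have hsqY := H5S14883.sq_of_psiY c qY hqYinv hqYiso
  have hsqXY := H5S14883.sq_of_psiY d qXY hqXYinv hqXYiso
  have hsqG := H5S14883.sq_of_psiY r π hπinv hπiso
  have hlocX := Groth.Agent.S8014.H5S8014.loc_of_fpqc qX
  have hlocY := Groth.Agent.S8014.H5S8014.loc_of_fpqc qY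
  have hlocXY := Groth.Agent.S8014.H5S8014.loc_of_fpqc qXY
  have hF3 : b.act ≫ fst G X = (H ◁ fst G X) ≫ r.act := by
    apply H5S14883.ext_r3
    intro T h g x
    rw [← Category.assoc, hb, lift_fst, lift_whiskerLeft_assoc, lift_fst, hr]
  have hF4 : c.act ≫ fst G Y = (H ◁ fst G Y) ≫ r.act := by
    apply H5S14883.ext_r3
    intro T h g x
    rw [← Category.assoc, hc, lift_fst, lift_whiskerLeft_assoc, lift_fst, hr]
  have hF5 : d.act ≫ fst G (X ⊗ Y) = (H ◁ fst G (X ⊗ Y)) ≫ r.act := by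
    apply H5S14883.ext_r4
    intro T h g x y
    rw [← Category.assoc, hd, lift_fst, lift_whiskerLeft_assoc, lift_fst, hr]
  have C3 := H5S14883.torsor_sq b r qX π hsqX hsqG hlocX (fst G X) hF3 pX hpX
  have C4 := H5S14883.torsor_sq c r qY π hsqY hsqG hlocY (fst G Y) hF4 pY hpY
  have C5 := H5S14883.torsor_sq d r qXY π hsqXY hsqG hlocXY (fst G (X ⊗ Y)) hF5 pXY hpXY
  -- the comparison map
  obtain ⟨θ, hθ⟩ : ∃ x, x = pullback.lift fX fY (hfXp.trans hfYp.symm) := ⟨_, rfl⟩
  have hθ1 : θ ≫ pullback.fst pX pY = fX := by rw [hθ, pullback.lift_fst]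
  have hθ2 : θ ≫ pullback.snd pX pY = fY := by rw [hθ, pullback.lift_snd]
  obtain ⟨pB, hpB⟩ : ∃ x, x = pullback.fst pX pY ≫ pX := ⟨_, rfl⟩
  have hpB' : pB = pullback.snd pX pY ≫ pY := by rw [hpB, pullback.condition]
  have hθpB : θ ≫ pB = pXY := by rw [hpB, reassoc_of% hθ1, hfXp]
  obtain ⟨ρ, hρ⟩ : ∃ x, x = qXY ≫ θ := ⟨_, rfl⟩
  have hρ1 : ρ ≫ pullback.fst pX pY = (G ◁ fst X Y) ≫ qX := by
    rw [hρ, Category.assoc, hθ1, hfX]
  have hρ2 : ρ ≫ pullback.snd pX pY = (G ◁ snd X Y) ≫ qY := by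
    rw [hρ, Category.assoc, hθ2, hfY]
  have hρw : ρ ≫ pB = fst G (X ⊗ Y) ≫ π := by
    rw [hρ, Category.assoc, hθpB, hpXY]
  have key : ∀ {T : Over (Spec (CommRingCat.of k))} (p : T ⟶ pullback pX pY) (g : T ⟶ G)
      (h : p ≫ pB = g ≫ π), ∃! e : T ⟶ G ⊗ (X ⊗ Y), e ≫ ρ = p ∧ e ≫ fst G (X ⊗ Y) = g := by
    intro T p g h
    have h3 : g ≫ π = (p ≫ pullback.fst pX pY) ≫ pX := by
      rw [← h, hpB, Category.assoc]
    have h4 : g ≫ π = (p ≫ pullback.snd pX pY) ≫ pY := by
      rw [← h, hpB', Category.assoc]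
    obtain ⟨a, ha⟩ : ∃ x, x = C3.lift g (p ≫ pullback.fst pX pY) h3 := ⟨_, rfl⟩
    have ha1 : a ≫ fst G X = g := by rw [ha, C3.lift_fst]
    have ha2 : a ≫ qX = p ≫ pullback.fst pX pY := by rw [ha, C3.lift_snd]
    obtain ⟨a', ha'⟩ : ∃ x, x = C4.lift g (p ≫ pullback.snd pX pY) h4 := ⟨_, rfl⟩
    have ha'1 : a' ≫ fst G Y = g := by rw [ha', C4.lift_fst]
    have ha'2 : a' ≫ qY = p ≫ pullback.snd pX pY := by rw [ha', C4.lift_snd]
    have haeq : a = lift g (a ≫ snd G X) := by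
      apply CartesianMonoidalCategory.hom_ext
      · rw [lift_fst, ha1]
      · rw [lift_snd]
    have ha'eq : a' = lift g (a' ≫ snd G Y) := by
      apply CartesianMonoidalCategory.hom_ext
      · rw [lift_fst, ha'1]
      · rw [lift_snd]
    refine ⟨lift g (lift (a ≫ snd G X) (a' ≫ snd G Y)), ⟨?_, lift_fst _ _⟩, ?_⟩
    · apply pullback.hom_ext
      · rw [Category.assoc, hρ1, lift_whiskerLeft_assoc, lift_fst, ← haeq, ha2]
      · rw [Category.assoc, hρ2, lift_whiskerLeft_assoc, lift_snd, ← ha'eq, ha'2]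
    · rintro m ⟨hm1, hm2⟩
      have e1 : m ≫ (G ◁ fst X Y) = a := by
        apply C3.hom_ext
        · rw [Category.assoc, whiskerLeft_fst, hm2, ha1]
        · rw [Category.assoc, ← hρ1, ← Category.assoc, hm1, ha2]
      have e2 : m ≫ (G ◁ snd X Y) = a' := by
        apply C4.hom_ext
        · rw [Category.assoc, whiskerLeft_fst, hm2, ha'1]
        · rw [Category.assoc, ← hρ2, ← Category.assoc, hm1, ha'2]
      apply CartesianMonoidalCategory.hom_ext
      · rw [lift_fst, hm2]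
      · rw [lift_snd]
        apply CartesianMonoidalCategory.hom_ext
        · rw [lift_fst, ← e1, Category.assoc, Category.assoc, whiskerLeft_snd]
        · rw [lift_snd, ← e2, Category.assoc, Category.assoc, whiskerLeft_snd]
  have D : IsPullback ρ (fst G (X ⊗ Y)) pB π := by
    refine ⟨⟨hρw⟩, ⟨PullbackCone.IsLimit.mk _
      (fun s => (key s.fst s.snd s.condition).choose) ?_ ?_ ?_⟩⟩
    · intro s
      exact (key s.fst s.snd s.condition).choose_spec.1.1
    · intro s
      exact (key s.fst s.snd s.condition).choose_spec.1.2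
    · intro s m hm1 hm2
      exact (key s.fst s.snd s.condition).choose_spec.2 m ⟨hm1, hm2⟩
  have top : IsPullback qXY (𝟙 _) θ ρ := by
    refine IsPullback.of_bot (h₃₁ := π) (v₂₁ := fst G (X ⊗ Y)) (v₂₂ := pB) ?_ ?_ D
    · rw [Category.id_comp, hθpB]
      exact C5.flip
    · rw [Category.id_comp, hρ]
  have topL : IsPullback (𝟙 (G ⊗ (X ⊗ Y)).left) qXY.left ρ.left θ.left := by
    have := (top.map (Over.forget _)).flip
    simpa using this
  have DL : IsPullback (fst G (X ⊗ Y)).left ρ.left π.left pB.left := (D.map (Over.forget _)).flip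
  have hρflat : Flat ρ.left := MorphismProperty.of_isPullback (P := @Flat) DL inferInstance
  have hρsurj : Surjective ρ.left := MorphismProperty.of_isPullback (P := @Surjective) DL inferInstance
  have hρqc : QuasiCompact ρ.left := MorphismProperty.of_isPullback (P := @QuasiCompact) DL inferInstance
  have hiso : MorphismProperty.isomorphisms Scheme.{u} θ.left :=
    MorphismProperty.of_isPullback_of_descendsAlong (P := MorphismProperty.isomorphisms Scheme.{u})
      (Q := @Surjective ⊓ @Flat ⊓ @QuasiCompact) topL ⟨⟨hρsurj, hρflat⟩, hρqc⟩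
      (MorphismProperty.isomorphisms.infer_property _)
  haveI : IsIso θ.left := hiso
  haveI : IsIso ((Over.forget _).map θ) := hiso
  haveI : IsIso θ := isIso_of_reflects_iso θ (Over.forget _)
  have hfin : IsPullback fX fY pX pY :=
    IsPullback.of_iso_pullback ⟨hfXp.trans hfYp.symm⟩ (asIso θ) hθ1 hθ2
  exact hfin.map (Over.forget _)

end H5S14886

/-- Over an algebraically closed field k of characteristic zero, let G be a connected algebraic group (a
smooth connected k-group scheme of finite type) and H an algebraic subgroup (a smooth closed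
subgroup scheme, j : H → G). Let π : G → B be the quotient of G by H (a geometric quotient for the
action h·g = g·h⁻¹ which is a principal H-bundle: (h, g) ↦ (g·h⁻¹, g) is an isomorphism H × G ≅ G
×_B G and π is flat). Let X and Y be varieties (reduced, separated, of finite type over k) with
H-actions, in each of which every finite set of points lies in an affine open subset, and let qX : G
× X → QX, qY : G × Y → QY and qXY : G × (X × Y) → QXY be the associated bundles G_H(X), G_H(Y) and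
G_H(X × Y): geometric quotients (invariant, surjective, open, fibre-pair map surjective on points,
sections = invariant sections) which are principal H-bundles, for the actions h·(g, x) = (g·h⁻¹,
h·x), h·(g, y) = (g·h⁻¹, h·y) and h·(g, x, y) = (g·h⁻¹, h·x, h·y), with QX, QY, QXY varieties over B
= G/H through pX, pY, pXY satisfying p ∘ q = π ∘ pr₁. Let fX : QXY → QX and fY : QXY → QY be the
morphisms over B induced by the projections, fX ∘ qXY = qX ∘ (id × pr₁) and fY ∘ qXY = qY ∘ (id ×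
pr₂). Then the square formed by fX, fY, pX, pY is cartesian: G_H(X × Y) is the fibre product of
G_H(X) and G_H(Y) over G/H. -/
theorem result (k : Type u) [Field k] [IsAlgClosed k] [CharZero k]
    (G H : Over (Spec (CommRingCat.of k))) [GrpObj G] [Smooth G.hom] [QuasiCompact G.hom]
    [ConnectedSpace ↥G.left] [GrpObj H] (j : H ⟶ G) [IsMonHom j] [IsClosedImmersion j.left] [Smooth H.hom]
    (B : Over (Spec (CommRingCat.of k))) [LocallyOfFiniteType B.hom] [QuasiCompact B.hom] [IsSeparated B.hom] [IsReduced B.left]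
    (r : AlgGrp.Action H G) (hr : ∀ (T : Over (Spec (CommRingCat.of k))) (h : T ⟶ H) (g : T ⟶ G),
      lift h g ≫ r.act = g * (h ≫ j)⁻¹)
    (π : G ⟶ B) (hπinv : GIT.IsInvariant r π)
    (hπ : (Function.Surjective π.left.base ∧ IsOpenMap π.left.base ∧
      Function.Surjective (GIT.PsiY r π hπinv).base ∧
      (∀ U : B.left.Opens, Function.Injective (π.left.app U) ∧
        Set.range (π.left.app U) = {f | GIT.IsInvSection r π U f}) ∧
      IsIso (GIT.PsiY r π hπinv) ∧ Flat π.left))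
    (X Y : Over (Spec (CommRingCat.of k))) [LocallyOfFiniteType X.hom] [QuasiCompact X.hom] [IsSeparated X.hom] [IsReduced X.left] [LocallyOfFiniteType Y.hom] [QuasiCompact Y.hom] [IsSeparated Y.hom] [IsReduced Y.left]
    (hFX : ∀ F : Finset ↥X.left, ∃ U : X.left.Opens, IsAffineOpen U ∧ (↑F : Set ↥X.left) ⊆ (U : Set ↥X.left))
    (hFY : ∀ F : Finset ↥Y.left, ∃ U : Y.left.Opens, IsAffineOpen U ∧ (↑F : Set ↥Y.left) ⊆ (U : Set ↥Y.left))
    (aX : AlgGrp.Action H X) (aY : AlgGrp.Action H Y)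
    (b : AlgGrp.Action H (G ⊗ X))
    (hb : ∀ (T : Over (Spec (CommRingCat.of k))) (h : T ⟶ H) (g : T ⟶ G) (x : T ⟶ X),
      lift h (lift g x) ≫ b.act = lift (g * (h ≫ j)⁻¹) (lift h x ≫ aX.act))
    (c : AlgGrp.Action H (G ⊗ Y))
    (hc : ∀ (T : Over (Spec (CommRingCat.of k))) (h : T ⟶ H) (g : T ⟶ G) (x : T ⟶ Y),
      lift h (lift g x) ≫ c.act = lift (g * (h ≫ j)⁻¹) (lift h x ≫ aY.act))
    (d : AlgGrp.Action H (G ⊗ (X ⊗ Y)))
    (hd : ∀ (T : Over (Spec (CommRingCat.of k))) (h : T ⟶ H) (g : T ⟶ G) (x : T ⟶ X) (y : T ⟶ Y),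
      lift h (lift g (lift x y)) ≫ d.act = lift (g * (h ≫ j)⁻¹) (lift (lift h x ≫ aX.act) (lift h y ≫ aY.act)))
    (QX QY QXY : Over (Spec (CommRingCat.of k))) [LocallyOfFiniteType QX.hom] [QuasiCompact QX.hom] [IsSeparated QX.hom] [IsReduced QX.left] [LocallyOfFiniteType QY.hom] [QuasiCompact QY.hom] [IsSeparated QY.hom] [IsReduced QY.left] [LocallyOfFiniteType QXY.hom] [QuasiCompact QXY.hom] [IsSeparated QXY.hom] [IsReduced QXY.left]
    (qX : G ⊗ X ⟶ QX) (hqXinv : GIT.IsInvariant b qX) (hqX : (Function.Surjective qX.left.base ∧ IsOpenMap qX.left.base ∧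
      Function.Surjective (GIT.PsiY b qX hqXinv).base ∧
      (∀ U : QX.left.Opens, Function.Injective (qX.left.app U) ∧
        Set.range (qX.left.app U) = {f | GIT.IsInvSection b qX U f}) ∧
      IsIso (GIT.PsiY b qX hqXinv) ∧ Flat qX.left))
    (qY : G ⊗ Y ⟶ QY) (hqYinv : GIT.IsInvariant c qY) (hqY : (Function.Surjective qY.left.base ∧ IsOpenMap qY.left.base ∧
      Function.Surjective (GIT.PsiY c qY hqYinv).base ∧
      (∀ U : QY.left.Opens, Function.Injective (qY.left.app U) ∧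
        Set.range (qY.left.app U) = {f | GIT.IsInvSection c qY U f}) ∧
      IsIso (GIT.PsiY c qY hqYinv) ∧ Flat qY.left))
    (qXY : G ⊗ (X ⊗ Y) ⟶ QXY) (hqXYinv : GIT.IsInvariant d qXY) (hqXY : (Function.Surjective qXY.left.base ∧ IsOpenMap qXY.left.base ∧
      Function.Surjective (GIT.PsiY d qXY hqXYinv).base ∧
      (∀ U : QXY.left.Opens, Function.Injective (qXY.left.app U) ∧
        Set.range (qXY.left.app U) = {f | GIT.IsInvSection d qXY U f}) ∧
      IsIso (GIT.PsiY d qXY hqXYinv) ∧ Flat qXY.left))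
    (pX : QX ⟶ B) (hpX : qX ≫ pX = fst G X ≫ π) (pY : QY ⟶ B) (hpY : qY ≫ pY = fst G Y ≫ π)
    (pXY : QXY ⟶ B) (hpXY : qXY ≫ pXY = fst G (X ⊗ Y) ≫ π)
    (fX : QXY ⟶ QX) (hfX : qXY ≫ fX = (G ◁ fst X Y) ≫ qX) (hfXp : fX ≫ pX = pXY)
    (fY : QXY ⟶ QY) (hfY : qXY ≫ fY = (G ◁ snd X Y) ≫ qY) (hfYp : fY ≫ pY = pXY) :
    IsPullback fX.left fY.left pX.left pY.left := by
  exact H5S14886.main k G H j B r hr π hπinv hπ.1 hπ.2.2.2.2.1 hπ.2.2.2.2.2 X Y aX aY b hb c hc d hd
    QX QY QXY qX hqXinv hqX.1 hqX.2.2.2.2.1 hqX.2.2.2.2.2 qY hqYinv hqY.1 hqY.2.2.2.2.1 hqY.2.2.2.2.2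
    qXY hqXYinv hqXY.1 hqXY.2.2.2.2.1 hqXY.2.2.2.2.2 pX hpX pY hpY pXY hpXY fX hfX hfXp fY hfY hfYp

end Groth.Agent.S14886
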