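import Groth.Statements.S14896
import Mathlib

set_option autoImplicit false
universe u
open CAlg

namespace Groth.Agent.S14896

section Helpers

/-- In a ring with finite spectrum, the localization at a prime is the localization at an element. -/
theorem exists_away_of_finite_spec (B : Type u) [CommRing B] [Finite (PrimeSpectrum B)]
    (P : Ideal B) [hP : P.IsPrime] (T : Type u) [CommRing T] [Algebra B T]
    [IsLocalization.AtPrime T P] : ∃ b : B, IsLocalization.Away b T := by
  classical
  haveI := Fintype.ofFinite (PrimeSpectrum B)
  -- choose x_Q ∈ Q \ P for Q ⊄ P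
  have hx : ∀ Q : PrimeSpectrum B, ∃ x : B, x ∉ P ∧ (¬ Q.asIdeal ≤ P → x ∈ Q.asIdeal) := by
    intro Q
    by_cases hQ : Q.asIdeal ≤ P
    · exact ⟨1, fun h => hP.ne_top ((Ideal.eq_top_iff_one _).2 h), fun h => absurd hQ h⟩
    · obtain ⟨x, hxQ, hxP⟩ := Set.not_subset.1 hQ
      exact ⟨x, hxP, fun _ => hxQ⟩
  choose x hxP hxQ using hx
  set b : B := ∏ Q, x Q with hb
  have hbP : b ∉ P := by
    rw [hb]
    intro h
    obtain ⟨Q, -, hQ⟩ := (Ideal.IsPrime.prod_mem_iff).1 h
    exact hxP Q hQ
  have hbQ : ∀ Q : PrimeSpectrum B, b ∉ Q.asIdeal → Q.asIdeal ≤ P := by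
    intro Q hbQ
    by_contra hQ
    apply hbQ
    rw [hb]
    obtain ⟨y, hy⟩ := Finset.dvd_prod_of_mem x (Finset.mem_univ Q)
    rw [hy]
    exact Ideal.mul_mem_right _ _ (hxQ Q hQ)
  refine ⟨b, ?_⟩
  -- B_b is also the localization at P
  have hunits : ∀ s ∈ P.primeCompl, IsUnit (algebraMap B (Localization.Away b) s) := by
    intro s hs
    by_contra hnu
    obtain ⟨m, hm, hsm⟩ := exists_max_ideal_of_mem_nonunits hnu
    haveI := hm.isPrime
    set Q : PrimeSpectrum B := ⟨m.comap (algebraMap B (Localization.Away b)), inferInstance⟩
    have hbQ' : b ∉ Q.asIdeal := by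
      intro hbm
      have : IsUnit (algebraMap B (Localization.Away b) b) :=
        IsLocalization.Away.algebraMap_isUnit b
      exact hm.ne_top (Ideal.eq_top_of_isUnit_mem _ hbm this)
    exact hs (hbQ Q hbQ' hsm)
  haveI h2 : IsLocalization P.primeCompl (Localization.Away b) :=
    IsLocalization.of_le (M := Submonoid.powers b) P.primeCompl
      (by
        rintro _ ⟨n, rfl⟩
        exact fun h => hbP (hP.mem_of_pow_mem n h)) hunits
  let ε : Localization.Away b ≃ₐ[B] T := IsLocalization.algEquiv P.primeCompl _ _
  exact IsLocalization.isLocalization_of_algEquiv (Submonoid.powers b) ε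

theorem main
    {K L Γ₀ Γ₁ : Type u} [Field K] [Field L] [Algebra K L] [FiniteDimensional K L]
    [LinearOrderedCommGroupWithZero Γ₀] [LinearOrderedCommGroupWithZero Γ₁]
    (vK : Valuation K Γ₀) (vL : Valuation L Γ₁) [vK.HasExtension vL]
    [Finite (PrimeSpectrum vK.valuationSubring)]
    (B : Type u) [CommRing B] [Algebra vK.valuationSubring B] [Algebra.Etale vK.valuationSubring B]
    [Algebra B vL.valuationSubring] [IsScalarTower vK.valuationSubring B vL.valuationSubring]
    (P : Ideal B) [P.IsPrime] [IsLocalization.AtPrime vL.valuationSubring P] :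
    Algebra.Etale vK.valuationSubring vL.valuationSubring := by
  haveI : Finite (PrimeSpectrum B) := by
    have := Algebra.QuasiFinite.finite_comap_preimage (R := vK.valuationSubring) (S := B)
      (s := Set.univ) Set.finite_univ
    rw [Set.preimage_univ] at this
    exact Set.finite_univ_iff.1 this
  obtain ⟨b, hb⟩ := exists_away_of_finite_spec B P vL.valuationSubring
  haveI : Algebra.Etale B vL.valuationSubring := Algebra.Etale.of_isLocalizationAway b
  exact Algebra.Etale.comp vK.valuationSubring B vL.valuationSubring

end Helpers

/-- Let L/K be a finite extension of valued fields, v_L extending v_K, with K° = the valuation ring of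
v_K having finite spectrum (finite height), and L° the valuation ring of v_L. If L° is local-étale
over K°, i.e. L° is the localization at a prime ideal of some étale K°-algebra B compatibly with the
K°-algebra structures, then L° is étale over K°. (For valued fields of finite height 'unramified' in
the local-étale sense is thus the same as K° → L° étale; the published lemma phrases the hypothesis
as 'L/K unramified'.) -/
theorem result
    {K L Γ₀ Γ₁ : Type u} [Field K] [Field L] [Algebra K L] [FiniteDimensional K L]
    [LinearOrderedCommGroupWithZero Γ₀] [LinearOrderedCommGroupWithZero Γ₁]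
    (vK : Valuation K Γ₀) (vL : Valuation L Γ₁) [vK.HasExtension vL]
    [Finite (PrimeSpectrum vK.valuationSubring)]
    (B : Type u) [CommRing B] [Algebra vK.valuationSubring B] [Algebra.Etale vK.valuationSubring B]
    [Algebra B vL.valuationSubring] [IsScalarTower vK.valuationSubring B vL.valuationSubring]
    (P : Ideal B) [P.IsPrime] [IsLocalization.AtPrime vL.valuationSubring P] :
    Algebra.Etale vK.valuationSubring vL.valuationSubring := by
  exact main vK vL B P

end Groth.Agent.S14896
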