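import Groth.Statements.S14893
import Mathlib
import Groth.Agent.Lib.helper22.ValDim

set_option autoImplicit false
universe u
open CAlg

namespace Groth.Agent.S14893

section Helpers

open Groth.Agent.H22.ValDim

theorem main (R : Type u) [CommRing R] [IsDomain R] [ValuationRing R] :
    ∃ (ι : Type u) (_ : Preorder ι) (_ : IsDirected ι (fun a b ↦ a ≤ b)) (_ : Nonempty ι)
      (F : ι → Subring R), Monotone F ∧ (⨆ i, F i) = ⊤ ∧
        ∀ i, ValuationRing (F i) ∧ Finite (PrimeSpectrum (F i)) := by
  classical
  let L := FractionRing R
  let Ks : Finset R → Subfield L := fun s => Subfield.closure ((algebraMap R L) '' (s : Set R))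
  let F : Finset R → Subring R := fun s => (Ks s).toSubring.comap (algebraMap R L)
  have hinj : Function.Injective (algebraMap R L) := IsFractionRing.injective R L
  have hmemF : ∀ s (x : R), x ∈ F s ↔ algebraMap R L x ∈ Ks s := fun s x => Iff.rfl
  refine ⟨Finset R, inferInstance, inferInstance, ⟨∅⟩, F, ?_, ?_, ?_⟩
  · intro s t hst x hx
    rw [hmemF] at hx ⊢
    exact Subfield.closure_mono (Set.image_mono (by exact_mod_cast hst)) hx
  · rw [eq_top_iff]
    intro x _
    have : x ∈ F {x} := by
      rw [hmemF]
      exact Subfield.subset_closure ⟨x, by simp, rfl⟩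
    exact (le_iSup F {x}) this
  · intro s
    -- key: division inside
    have hdiv : ∀ a b c : R, a ∈ F s → b ∈ F s → a ≠ 0 → a * c = b → c ∈ F s := by
      intro a b c ha hb ha0 hc
      rw [hmemF] at ha hb ⊢
      have ha0' : algebraMap R L a ≠ 0 := fun h => ha0 (hinj (by rw [h, map_zero]))
      have : algebraMap R L c = algebraMap R L b / algebraMap R L a := by
        rw [← hc, map_mul]; exact (mul_div_cancel_left₀ _ ha0').symm
      rw [this]
      exact div_mem hb ha
    haveI hval : ValuationRing (F s) := by
      haveI : PreValuationRing (F s) := ⟨fun a b => by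
        obtain ⟨c, hc | hc⟩ := ValuationRing.cond (a : R) (b : R)
        · by_cases ha : (a : R) = 0
          · refine ⟨0, Or.inl ?_⟩
            apply Subtype.ext
            rw [Subring.coe_mul, Subring.coe_zero, mul_zero, ← hc, ha, zero_mul]
          · exact ⟨⟨c, hdiv a b c a.2 b.2 ha hc⟩, Or.inl (Subtype.ext hc)⟩
        · by_cases hb : (b : R) = 0
          · refine ⟨0, Or.inr ?_⟩
            apply Subtype.ext
            rw [Subring.coe_mul, Subring.coe_zero, mul_zero, ← hc, hb, zero_mul]
          · exact ⟨⟨c, hdiv b a c b.2 a.2 hb hc⟩, Or.inr (Subtype.ext hc)⟩⟩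
      exact ValuationRing.mk
    refine ⟨hval, ?_⟩
    obtain ⟨d, hd⟩ := exists_trdeg ((algebraMap R L) '' (s : Set R)) (s.finite_toSet.image _)
    let f : F s →+* Ks s :=
      { toFun := fun x => ⟨algebraMap R L x, x.2⟩
        map_one' := Subtype.ext (map_one _)
        map_mul' := fun x y => Subtype.ext (map_mul _ _ _)
        map_zero' := Subtype.ext (map_zero _)
        map_add' := fun x y => Subtype.ext (map_add _ _ _) }
    have hf : Function.Injective f := fun x y h =>
      Subtype.ext (hinj (congrArg Subtype.val h))
    have hfrac : ∀ x : Ks s, ∃ a b : F s, b ≠ 0 ∧ x = f a / f b := by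
      rintro ⟨x, hx⟩
      obtain ⟨a, b, hb, rfl⟩ := IsFractionRing.div_surjective (A := R) x
      have hb0 : b ≠ 0 := nonZeroDivisors.ne_zero hb
      have hb0' : algebraMap R L b ≠ 0 := fun h => hb0 (hinj (by rw [h, map_zero]))
      obtain ⟨c, hc | hc⟩ := ValuationRing.cond a b
      · -- b = a c, x = 1 / c
        have ha0 : a ≠ 0 := fun h => hb0 (by rw [← hc, h, zero_mul])
        have ha0' : algebraMap R L a ≠ 0 := fun h => ha0 (hinj (by rw [h, map_zero]))
        have hc0 : c ≠ 0 := fun h => hb0 (by rw [← hc, h, mul_zero])
        have hc0' : algebraMap R L c ≠ 0 := fun h => hc0 (hinj (by rw [h, map_zero]))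
        have hxc : algebraMap R L a / algebraMap R L b = (algebraMap R L c)⁻¹ := by
          rw [← hc, map_mul, div_mul_eq_div_div, div_self ha0', one_div]
        have hcK : algebraMap R L c ∈ Ks s := by
          have := inv_mem hx
          rwa [hxc, inv_inv] at this
        refine ⟨1, ⟨c, hcK⟩, fun h => hc0 (congrArg Subtype.val h), ?_⟩
        apply Subtype.ext
        rw [map_one]
        show algebraMap R L a / algebraMap R L b = ((1 : Ks s) / f ⟨c, hcK⟩ : Ks s)
        rw [hxc]
        simp [f]
      · have hxc : algebraMap R L a / algebraMap R L b = algebraMap R L c := by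
          rw [← hc, map_mul]; exact mul_div_cancel_left₀ _ hb0'
        have hcK : algebraMap R L c ∈ Ks s := by rwa [hxc] at hx
        refine ⟨⟨c, hcK⟩, 1, one_ne_zero, ?_⟩
        apply Subtype.ext
        rw [map_one, div_one]
        exact hxc
    have hdim := dim_le f hf hfrac d hd
    exact finite_spec_of_dim (d + 1) hdim

end Helpers

/-- Every valuation ring R is a filtered union of subrings which are valuation rings with finite
spectrum (finite height): there is a nonempty directed index type and a monotone family of such
subrings of R whose supremum is R. -/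
theorem result
    (R : Type u) [CommRing R] [IsDomain R] [ValuationRing R] :
    ∃ (ι : Type u) (_ : Preorder ι) (_ : IsDirected ι (fun a b ↦ a ≤ b)) (_ : Nonempty ι)
      (F : ι → Subring R), Monotone F ∧ (⨆ i, F i) = ⊤ ∧
        ∀ i, ValuationRing (F i) ∧ Finite (PrimeSpectrum (F i)) := by
  exact main R

end Groth.Agent.S14893
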