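import Groth.Statements.S14913
import Mathlib
import Groth.Agent.Lib.helper22.PerfUH

set_option autoImplicit false
universe u
open CategoryTheory AlgebraicGeometry
open PerfSch

namespace Groth.Agent.S14913

section Helpers

open CategoryTheory CategoryTheory.Limits AlgebraicGeometry FrobSch Groth.Agent.H22.Perf

theorem main (p : ℕ) [Fact p.Prime] {X Y XP YP : Scheme.{u}}
    [FrobSch.IsCharP X p] [FrobSch.IsCharP Y p] [FrobSch.IsCharP XP p] [FrobSch.IsCharP YP p]
    (πX : XP ⟶ X) (πY : YP ⟶ Y) (hX : FrobSch.IsPerfection πX p) (hY : FrobSch.IsPerfection πY p)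
    (f : X ⟶ Y) (fP : XP ⟶ YP) (w : fP ≫ πY = πX ≫ f) :
    AlgebraicGeometry.QuasiCompact f ↔ AlgebraicGeometry.QuasiCompact fP := by
  have hhX : IsHomeomorph πX := isHomeomorph p πX hX
  have hhY : IsHomeomorph πY := isHomeomorph p πY hY
  have hw : ∀ x : XP, πY (fP x) = f (πX x) := by
    intro x
    have := congrArg (fun g : XP ⟶ Y => g x) w
    simpa using this
  constructor
  · intro hf
    refine ⟨fun U hU hUc => ?_⟩
    have h1 : IsCompact (f ⁻¹' (πY '' U)) :=
      hf.isCompact_preimage _ (hhY.isOpenMap U hU) (hUc.image hhY.continuous)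
    have h2 : fP ⁻¹' U = πX ⁻¹' (f ⁻¹' (πY '' U)) := by
      ext x
      simp only [Set.mem_preimage]
      rw [← hw x]
      exact (hhY.injective.mem_set_image).symm
    rw [h2]
    exact ((hhX.homeomorph πX).isCompact_preimage).2 h1
  · intro hf
    refine ⟨fun U hU hUc => ?_⟩
    have h1 : IsCompact (fP ⁻¹' (πY ⁻¹' U)) :=
      hf.isCompact_preimage _ (hU.preimage hhY.continuous)
        (((hhY.homeomorph πY).isCompact_preimage).2 hUc)
    have h2 : f ⁻¹' U = πX '' (fP ⁻¹' (πY ⁻¹' U)) := by
      ext x
      constructor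
      · intro hx
        obtain ⟨x', rfl⟩ := hhX.surjective x
        refine ⟨x', ?_, rfl⟩
        simp only [Set.mem_preimage]
        rw [hw]
        exact hx
      · rintro ⟨x', hx', rfl⟩
        simp only [Set.mem_preimage] at hx' ⊢
        rw [← hw]
        exact hx'
    rw [h2]
    exact h1.image hhX.continuous

end Helpers

/-- Let p be a prime and let X, Y, X', Y' be schemes of characteristic p (p = 0 in the structure sheaf).
Let π_X : X' ⟶ X and π_Y : Y' ⟶ Y be perfections: X' is perfect (its absolute Frobenius is an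
isomorphism) and every morphism from a perfect scheme of characteristic p to X factors uniquely
through π_X, and likewise for π_Y. Let f : X ⟶ Y be a morphism and f' : X' ⟶ Y' the induced morphism
of perfections, the one with f' ≫ π_Y = π_X ≫ f. Then f is quasi-compact if and only if f' is
quasi-compact. -/
theorem result (p : ℕ) [Fact p.Prime] {X Y XP YP : Scheme.{u}}
    [FrobSch.IsCharP X p] [FrobSch.IsCharP Y p] [FrobSch.IsCharP XP p] [FrobSch.IsCharP YP p]
    (πX : XP ⟶ X) (πY : YP ⟶ Y) (hX : FrobSch.IsPerfection πX p) (hY : FrobSch.IsPerfection πY p)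
    (f : X ⟶ Y) (fP : XP ⟶ YP) (w : fP ≫ πY = πX ≫ f) :
    AlgebraicGeometry.QuasiCompact f ↔ AlgebraicGeometry.QuasiCompact fP := by
  exact main p πX πY hX hY f fP w

end Groth.Agent.S14913
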