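import Groth.Statements.S14914
import Mathlib
import Groth.Agent.Lib.helper22.PerfUH

set_option autoImplicit false
universe u
open CategoryTheory AlgebraicGeometry
open PerfSch

namespace Groth.Agent.S14914

section Helpers

open CategoryTheory CategoryTheory.Limits AlgebraicGeometry FrobSch Groth.Agent.H22.Perf

theorem qs_iff {X Y : Scheme.{u}} (f : X ⟶ Y) {ι : Type*} (U : ι → Y.affineOpens)
    (hU : ⨆ i, (U i : Y.Opens) = ⊤) :
    QuasiSeparated f ↔ ∀ i, IsQuasiSeparated ((f ⁻¹ᵁ (U i : Y.Opens) : X.Opens) : Set X) := by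
  rw [HasAffineProperty.iff_of_iSup_eq_top (P := @QuasiSeparated) U hU]
  apply forall_congr'
  intro i
  exact (isQuasiSeparated_iff_quasiSeparatedSpace _ (f ⁻¹ᵁ (U i : Y.Opens)).2).symm

theorem main (p : ℕ) [Fact p.Prime] {X Y XP YP : Scheme.{u}}
    [FrobSch.IsCharP X p] [FrobSch.IsCharP Y p] [FrobSch.IsCharP XP p] [FrobSch.IsCharP YP p]
    (πX : XP ⟶ X) (πY : YP ⟶ Y) (hX : FrobSch.IsPerfection πX p) (hY : FrobSch.IsPerfection πY p)
    (f : X ⟶ Y) (fP : XP ⟶ YP) (w : fP ≫ πY = πX ≫ f) :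
    AlgebraicGeometry.QuasiSeparated f ↔ AlgebraicGeometry.QuasiSeparated fP := by
  have hhX : IsHomeomorph πX := isHomeomorph p πX hX
  haveI : IsAffineHom πY := isAffineHom p πY hY
  have hoe : Topology.IsOpenEmbedding πX := hhX.isOpenEmbedding
  let U' : Y.affineOpens → YP.affineOpens := fun U => ⟨πY ⁻¹ᵁ (U : Y.Opens), U.2.preimage πY⟩
  have hU' : ⨆ i, (U' i : YP.Opens) = ⊤ := by
    have h := congrArg (fun V : Y.Opens => πY ⁻¹ᵁ V) (iSup_affineOpens_eq_top Y)
    simp only [Scheme.Hom.preimage_iSup, Scheme.Hom.preimage_top] at h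
    exact h
  rw [qs_iff f (fun U : Y.affineOpens => U) (iSup_affineOpens_eq_top Y), qs_iff fP U' hU']
  apply forall_congr'
  intro U
  have hset : ((fP ⁻¹ᵁ (U' U : YP.Opens) : XP.Opens) : Set XP) =
      πX ⁻¹' ((f ⁻¹ᵁ (U : Y.Opens) : X.Opens) : Set X) := by
    change (fP ≫ πY) ⁻¹' _ = (πX ≫ f) ⁻¹' _
    rw [w]
  rw [hset, hoe.isQuasiSeparated_iff (s := πX ⁻¹' _), Set.image_preimage_eq _ hhX.surjective]

end Helpers

/-- Let p be a prime and let X, Y, X', Y' be schemes of characteristic p (p = 0 in the structure sheaf).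
Let π_X : X' ⟶ X and π_Y : Y' ⟶ Y be perfections: X' is perfect (its absolute Frobenius is an
isomorphism) and every morphism from a perfect scheme of characteristic p to X factors uniquely
through π_X, and likewise for π_Y. Let f : X ⟶ Y be a morphism and f' : X' ⟶ Y' the induced morphism
of perfections, the one with f' ≫ π_Y = π_X ≫ f. Then f is quasi-separated if and only if f' is
quasi-separated. -/
theorem result (p : ℕ) [Fact p.Prime] {X Y XP YP : Scheme.{u}}
    [FrobSch.IsCharP X p] [FrobSch.IsCharP Y p] [FrobSch.IsCharP XP p] [FrobSch.IsCharP YP p]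
    (πX : XP ⟶ X) (πY : YP ⟶ Y) (hX : FrobSch.IsPerfection πX p) (hY : FrobSch.IsPerfection πY p)
    (f : X ⟶ Y) (fP : XP ⟶ YP) (w : fP ≫ πY = πX ≫ f) :
    AlgebraicGeometry.QuasiSeparated f ↔ AlgebraicGeometry.QuasiSeparated fP := by
  exact main p πX πY hX hY f fP w

end Groth.Agent.S14914
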