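import Groth.Statements.S14915
import Mathlib
import Groth.Agent.Lib.helper22.PerfSec

set_option autoImplicit false
universe u
open CategoryTheory AlgebraicGeometry
open PerfSch

namespace Groth.Agent.S14915

section Helpers

open CategoryTheory CategoryTheory.Limits AlgebraicGeometry FrobSch Groth.Agent.H22.Perf

theorem isAffineOpen_of_preimage (p : ℕ) [Fact p.Prime] {X XP : Scheme.{u}}
    [IsCharP X p] [IsCharP XP p] (πX : XP ⟶ X) (hX : IsPerfection πX p) (W : X.Opens)
    (h : IsAffineOpen (πX ⁻¹ᵁ W)) : IsAffineOpen W := by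
  haveI : IsCharP (W : Scheme.{u}) p := IsCharP.of_hom W.ι p
  haveI : IsCharP ((πX ⁻¹ᵁ W : XP.Opens) : Scheme.{u}) p := IsCharP.of_hom (πX ⁻¹ᵁ W).ι p
  have hperf : IsPerfection (πX ∣_ W) p :=
    isPerfection_of_isPullback_of_isOpenImmersion p πX hX W.ι (πX ⁻¹ᵁ W).ι (πX ∣_ W)
      (isPullback_morphismRestrict πX W).flip
  haveI : IsAffine ((πX ⁻¹ᵁ W : XP.Opens) : Scheme.{u}) := h
  exact isAffine_of_isAffine_perfection p (πX ∣_ W) hperf

theorem main (p : ℕ) [Fact p.Prime] {X Y XP YP : Scheme.{u}}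
    [FrobSch.IsCharP X p] [FrobSch.IsCharP Y p] [FrobSch.IsCharP XP p] [FrobSch.IsCharP YP p]
    (πX : XP ⟶ X) (πY : YP ⟶ Y) (hX : FrobSch.IsPerfection πX p) (hY : FrobSch.IsPerfection πY p)
    (f : X ⟶ Y) (fP : XP ⟶ YP) (w : fP ≫ πY = πX ≫ f) :
    AlgebraicGeometry.IsAffineHom f ↔ AlgebraicGeometry.IsAffineHom fP := by
  haveI : IsAffineHom πX := isAffineHom p πX hX
  haveI : IsAffineHom πY := isAffineHom p πY hY
  have hpre : ∀ V : Y.Opens, fP ⁻¹ᵁ (πY ⁻¹ᵁ V) = πX ⁻¹ᵁ (f ⁻¹ᵁ V) := by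
    intro V
    rw [← Scheme.Hom.comp_preimage, ← Scheme.Hom.comp_preimage, w]
  constructor
  · intro hf
    have hcover : ⨆ V : Y.affineOpens, (πY ⁻¹ᵁ (V : Y.Opens)) = ⊤ := by
      rw [← Scheme.Hom.preimage_iSup, iSup_affineOpens_eq_top]
      rfl
    rw [HasAffineProperty.iff_of_iSup_eq_top (P := @IsAffineHom)
      (fun V : Y.affineOpens => ⟨πY ⁻¹ᵁ (V : Y.Opens), V.2.preimage πY⟩) hcover]
    intro V
    change IsAffineOpen (fP ⁻¹ᵁ (πY ⁻¹ᵁ (V : Y.Opens)))
    rw [hpre]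
    exact (V.2.preimage f).preimage πX
  · intro hf
    refine ⟨fun V hV => ?_⟩
    apply isAffineOpen_of_preimage p πX hX
    rw [← hpre]
    exact (hV.preimage πY).preimage fP

end Helpers

/-- Let p be a prime and let X, Y, X', Y' be schemes of characteristic p (p = 0 in the structure sheaf).
Let π_X : X' ⟶ X and π_Y : Y' ⟶ Y be perfections: X' is perfect (its absolute Frobenius is an
isomorphism) and every morphism from a perfect scheme of characteristic p to X factors uniquely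
through π_X, and likewise for π_Y. Let f : X ⟶ Y be a morphism and f' : X' ⟶ Y' the induced morphism
of perfections, the one with f' ≫ π_Y = π_X ≫ f. Then f is affine if and only if f' is affine. -/
theorem result (p : ℕ) [Fact p.Prime] {X Y XP YP : Scheme.{u}}
    [FrobSch.IsCharP X p] [FrobSch.IsCharP Y p] [FrobSch.IsCharP XP p] [FrobSch.IsCharP YP p]
    (πX : XP ⟶ X) (πY : YP ⟶ Y) (hX : FrobSch.IsPerfection πX p) (hY : FrobSch.IsPerfection πY p)
    (f : X ⟶ Y) (fP : XP ⟶ YP) (w : fP ≫ πY = πX ≫ f) :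
    AlgebraicGeometry.IsAffineHom f ↔ AlgebraicGeometry.IsAffineHom fP := by
  exact main p πX πY hX hY f fP w

end Groth.Agent.S14915
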