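import Groth.Statements.S14916
import Mathlib
import Groth.Agent.Lib.helper22.PerfUH
import Groth.Agent.Lib.helper22.PerfProd

set_option autoImplicit false
universe u
open CategoryTheory AlgebraicGeometry
open PerfSch

namespace Groth.Agent.S14916

section Helpers

open CategoryTheory CategoryTheory.Limits AlgebraicGeometry FrobSch Groth.Agent.H22.Perf

theorem isSeparated_iff_isClosed_range {X Y : Scheme.{u}} (f : X ⟶ Y) :
    IsSeparated f ↔ IsClosed (Set.range (pullback.diagonal f)) := by
  constructor
  · intro h
    exact (pullback.diagonal f).isClosedEmbedding.isClosed_range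
  · intro h
    exact ⟨IsClosedImmersion.of_isPreimmersion _ h⟩

theorem main (p : ℕ) [Fact p.Prime] {X Y XP YP : Scheme.{u}}
    [FrobSch.IsCharP X p] [FrobSch.IsCharP Y p] [FrobSch.IsCharP XP p] [FrobSch.IsCharP YP p]
    (πX : XP ⟶ X) (πY : YP ⟶ Y) (hX : FrobSch.IsPerfection πX p) (hY : FrobSch.IsPerfection πY p)
    (f : X ⟶ Y) (fP : XP ⟶ YP) (w : fP ≫ πY = πX ≫ f) :
    AlgebraicGeometry.IsSeparated f ↔ AlgebraicGeometry.IsSeparated fP := by
  haveI : IsCharP (pullback fP fP) p := IsCharP.of_hom (pullback.fst fP fP) p
  haveI : IsCharP (pullback f f) p := IsCharP.of_hom (pullback.fst f f) p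
  set h := pullback.map fP fP f f πX πX πY w w with hdef
  have hperf : IsPerfection h p := isPerfection_pullback_map p πX πX πY hX hX hY f f fP fP w w
  have hh : IsHomeomorph h := isHomeomorph p h hperf
  have hsX : Function.Surjective πX := (isHomeomorph p πX hX).surjective
  have hd : pullback.diagonal fP ≫ h = πX ≫ pullback.diagonal f := by
    apply pullback.hom_ext
    · rw [Category.assoc, Category.assoc, hdef, pullback.lift_fst, ← Category.assoc,
        pullback.diagonal_fst, pullback.diagonal_fst, Category.id_comp, Category.comp_id]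
    · rw [Category.assoc, Category.assoc, hdef, pullback.lift_snd, ← Category.assoc,
        pullback.diagonal_snd, pullback.diagonal_snd, Category.id_comp, Category.comp_id]
  have hd' : ∀ x, h (pullback.diagonal fP x) = pullback.diagonal f (πX x) := by
    intro x
    rw [← Scheme.Hom.comp_apply, ← Scheme.Hom.comp_apply, hd]
  have hrange : Set.range (pullback.diagonal fP) = h ⁻¹' (Set.range (pullback.diagonal f)) := by
    ext z
    constructor
    · rintro ⟨x, rfl⟩
      exact ⟨πX x, (hd' x).symm⟩
    · rintro ⟨x, hx⟩
      obtain ⟨x', rfl⟩ := hsX x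
      refine ⟨x', ?_⟩
      apply hh.injective
      rw [hd' x', hx]
  rw [isSeparated_iff_isClosed_range, isSeparated_iff_isClosed_range, hrange]
  exact ((hh.homeomorph h).isClosed_preimage).symm

end Helpers

/-- Let p be a prime and let X, Y, X', Y' be schemes of characteristic p (p = 0 in the structure sheaf).
Let π_X : X' ⟶ X and π_Y : Y' ⟶ Y be perfections: X' is perfect (its absolute Frobenius is an
isomorphism) and every morphism from a perfect scheme of characteristic p to X factors uniquely
through π_X, and likewise for π_Y. Let f : X ⟶ Y be a morphism and f' : X' ⟶ Y' the induced morphism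
of perfections, the one with f' ≫ π_Y = π_X ≫ f. Then f is separated if and only if f' is separated. -/
theorem result (p : ℕ) [Fact p.Prime] {X Y XP YP : Scheme.{u}}
    [FrobSch.IsCharP X p] [FrobSch.IsCharP Y p] [FrobSch.IsCharP XP p] [FrobSch.IsCharP YP p]
    (πX : XP ⟶ X) (πY : YP ⟶ Y) (hX : FrobSch.IsPerfection πX p) (hY : FrobSch.IsPerfection πY p)
    (f : X ⟶ Y) (fP : XP ⟶ YP) (w : fP ≫ πY = πX ≫ f) :
    AlgebraicGeometry.IsSeparated f ↔ AlgebraicGeometry.IsSeparated fP := by
  exact main p πX πY hX hY f fP w

end Groth.Agent.S14916
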