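import Groth.Statements.S14918
import Mathlib
import Groth.Agent.Lib.helper22.PerfUH

set_option autoImplicit false
universe u
open CategoryTheory AlgebraicGeometry
open PerfSch

namespace Groth.Agent.S14918

section Helpers

open CategoryTheory CategoryTheory.Limits AlgebraicGeometry FrobSch Groth.Agent.H22.Perf

theorem univInj_of_comp {X Y Z : Scheme.{u}} (f : X ⟶ Y) (g : Y ⟶ Z)
    [UniversallyInjective (f ≫ g)] : UniversallyInjective f := by
  have h := ((tfae_universallyInjective (f ≫ g)).out 0 1).1 ‹_›
  refine ((tfae_universallyInjective f).out 0 1).2 ?_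
  intro K _ a b hab
  apply h K
  simp only at hab ⊢
  rw [← Category.assoc, hab, Category.assoc]

theorem main (p : ℕ) [Fact p.Prime] {X Y XP YP : Scheme.{u}}
    [FrobSch.IsCharP X p] [FrobSch.IsCharP Y p] [FrobSch.IsCharP XP p] [FrobSch.IsCharP YP p]
    (πX : XP ⟶ X) (πY : YP ⟶ Y) (hX : FrobSch.IsPerfection πX p) (hY : FrobSch.IsPerfection πY p)
    (f : X ⟶ Y) (fP : XP ⟶ YP) (w : fP ≫ πY = πX ≫ f) :
    FlatMor.IsUnivHomeo f ↔ FlatMor.IsUnivHomeo fP := by
  haveI : UniversallyClosed πX := universallyClosed p πX hX
  haveI : UniversallyClosed πY := universallyClosed p πY hY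
  haveI : UniversallyInjective πX := universallyInjective p πX hX
  haveI : UniversallyInjective πY := universallyInjective p πY hY
  haveI : Surjective πX := surjective p πX hX
  haveI : Surjective πY := surjective p πY hY
  haveI : IsAffineHom πY := isAffineHom p πY hY
  rw [Groth.Agent.Lib.helper11.UnivHomeo.isUnivHomeo_iff,
    Groth.Agent.Lib.helper11.UnivHomeo.isUnivHomeo_iff]
  constructor
  · rintro ⟨h1, h2, h3⟩
    haveI : UniversallyClosed (fP ≫ πY) := by rw [w]; infer_instance
    haveI : UniversallyInjective (fP ≫ πY) := by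
      rw [w]; exact MorphismProperty.comp_mem _ _ _ ‹UniversallyInjective πX› h2
    refine ⟨UniversallyClosed.of_comp_of_isSeparated fP πY, univInj_of_comp fP πY, ⟨?_⟩⟩
    intro y
    obtain ⟨x, hx⟩ := f.surjective (πY y)
    obtain ⟨x', rfl⟩ := πX.surjective x
    refine ⟨x', ?_⟩
    apply πY.injective
    rw [← hx, ← Scheme.Hom.comp_apply, ← Scheme.Hom.comp_apply, w]
  · rintro ⟨h1, h2, h3⟩
    haveI : UniversallyClosed (πX ≫ f) := by rw [← w]; infer_instance
    haveI : UniversallyInjective (πX ≫ f) := by
      rw [← w]; exact MorphismProperty.comp_mem _ _ _ h2 ‹UniversallyInjective πY›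
    haveI : Surjective (πX ≫ f) := by rw [← w]; infer_instance
    exact ⟨UniversallyClosed.of_comp_surjective πX f,
      Groth.Agent.Lib.helper11.UnivHomeo.univInj_of_comp_surj πX f, Surjective.of_comp πX f⟩

end Helpers

/-- Let p be a prime and let X, Y, X', Y' be schemes of characteristic p (p = 0 in the structure sheaf).
Let π_X : X' ⟶ X and π_Y : Y' ⟶ Y be perfections: X' is perfect (its absolute Frobenius is an
isomorphism) and every morphism from a perfect scheme of characteristic p to X factors uniquely
through π_X, and likewise for π_Y. Let f : X ⟶ Y be a morphism and f' : X' ⟶ Y' the induced morphism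
of perfections, the one with f' ≫ π_Y = π_X ≫ f. Then f is a universal homeomorphism (every base
change is a homeomorphism of underlying spaces) if and only if f' is a universal homeomorphism
(every base change is a homeomorphism of underlying spaces). -/
theorem result (p : ℕ) [Fact p.Prime] {X Y XP YP : Scheme.{u}}
    [FrobSch.IsCharP X p] [FrobSch.IsCharP Y p] [FrobSch.IsCharP XP p] [FrobSch.IsCharP YP p]
    (πX : XP ⟶ X) (πY : YP ⟶ Y) (hX : FrobSch.IsPerfection πX p) (hY : FrobSch.IsPerfection πY p)
    (f : X ⟶ Y) (fP : XP ⟶ YP) (w : fP ≫ πY = πX ≫ f) :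
    FlatMor.IsUnivHomeo f ↔ FlatMor.IsUnivHomeo fP := by
  exact main p πX πY hX hY f fP w

end Groth.Agent.S14918
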