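import Groth.Statements.S14953
import Mathlib
import Groth.Agent.Lib.helper22.Milnor
import Groth.Agent.S14949

set_option autoImplicit false
universe u
open TensorProduct
open EtAlg

namespace Groth.Agent.S14953

theorem exists_finset_span (R S M : Type u) [CommRing R] [CommRing S] [Algebra R S]
    [AddCommGroup M] [Module R M] [Module.Finite S (S ⊗[R] M)] :
    ∃ T : Finset M, Submodule.span S ((fun m => (1 : S) ⊗ₜ[R] m) '' (T : Set M)) = ⊤ := by
  classical
  have key : ∀ t : S ⊗[R] M, ∃ T : Finset M,
      t ∈ Submodule.span S ((fun m => (1 : S) ⊗ₜ[R] m) '' (T : Set M)) := by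
    intro t
    induction t using TensorProduct.induction_on with
    | zero => exact ⟨∅, Submodule.zero_mem _⟩
    | tmul s m =>
      refine ⟨{m}, ?_⟩
      have : s ⊗ₜ[R] m = s • ((1 : S) ⊗ₜ[R] m) := by
        rw [TensorProduct.smul_tmul', smul_eq_mul, mul_one]
      rw [this]
      apply Submodule.smul_mem
      apply Submodule.subset_span
      simp
    | add x y hx hy =>
      obtain ⟨T₁, h₁⟩ := hx
      obtain ⟨T₂, h₂⟩ := hy
      refine ⟨T₁ ∪ T₂, Submodule.add_mem _ (Submodule.span_mono ?_ h₁) (Submodule.span_mono ?_ h₂)⟩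
      · apply Set.image_mono; simp
      · apply Set.image_mono; simp
  obtain ⟨G, hG⟩ := (Module.Finite.fg_top : (⊤ : Submodule S (S ⊗[R] M)).FG)
  choose T hT using key
  refine ⟨G.biUnion T, ?_⟩
  rw [eq_top_iff, ← hG, Submodule.span_le]
  intro t ht
  refine Submodule.span_mono ?_ (hT t)
  apply Set.image_mono
  intro m hm
  simp only [Finset.coe_biUnion, Set.mem_iUnion]
  exact ⟨t, ht, hm⟩

theorem subsingleton_tensor_quot (R S M : Type u) [CommRing R] [CommRing S] [Algebra R S]
    [AddCommGroup M] [Module R M] (T : Finset M)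
    (hT : Submodule.span S ((fun m => (1 : S) ⊗ₜ[R] m) '' (T : Set M)) = ⊤)
    (N : Submodule R M) (hN : (T : Set M) ⊆ N) : Subsingleton (S ⊗[R] (M ⧸ N)) := by
  have hsurj : Function.Surjective ((N.mkQ).baseChange S) := by
    rw [LinearMap.baseChange_eq_ltensor]
    exact LinearMap.lTensor_surjective _ (Submodule.mkQ_surjective _)
  have hzero : (N.mkQ).baseChange S = 0 := by
    rw [← LinearMap.ker_eq_top, eq_top_iff, ← hT, Submodule.span_le]
    rintro _ ⟨m, hm, rfl⟩
    simp only [SetLike.mem_coe, LinearMap.mem_ker, LinearMap.baseChange_tmul]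
    have : N.mkQ m = 0 := by
      rw [Submodule.mkQ_apply, Submodule.Quotient.mk_eq_zero]
      exact hN hm
    rw [this, TensorProduct.tmul_zero]
  refine ⟨fun a b => ?_⟩
  obtain ⟨a', rfl⟩ := hsurj a
  obtain ⟨b', rfl⟩ := hsurj b
  rw [hzero]
  rfl

/-- Let B' = B ×_A A' be a fibre product of commutative rings with A' → A surjective and L' a B'-module.
If B ⊗_{B'} L' is a finitely generated B-module and A' ⊗_{B'} L' is a finitely generated A'-module,
then L' is a finitely generated B'-module. (The published statement is about flat modules of finite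
type; the finiteness conclusion does not use flatness, which descends separately.) -/
theorem result (B' B A' A : Type u) [CommRing B'] [CommRing B] [CommRing A'] [CommRing A]
    [Algebra B' B] [Algebra B' A'] [Algebra B A] [Algebra A' A] [Algebra B' A] [IsScalarTower B' B A] [IsScalarTower B' A' A]
    (hsq : EtMil.IsFibreSquare B' B A' A)
    (L' : Type u) [AddCommGroup L'] [Module B' L']
    [Module.Finite B (B ⊗[B'] L')] [Module.Finite A' (A' ⊗[B'] L')] : Module.Finite B' L' := by
  classical
  obtain ⟨T₁, hT₁⟩ := exists_finset_span B' B L'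
  obtain ⟨T₂, hT₂⟩ := exists_finset_span B' A' L'
  set L'' := Submodule.span B' ((T₁ ∪ T₂ : Finset L') : Set L') with hL''
  have h1 : Subsingleton (B ⊗[B'] (L' ⧸ L'')) :=
    subsingleton_tensor_quot B' B L' T₁ hT₁ L'' (by
      intro m hm
      apply Submodule.subset_span
      simp only [Finset.coe_union, Set.mem_union]
      exact Or.inl hm)
  have h2 : Subsingleton (A' ⊗[B'] (L' ⧸ L'')) :=
    subsingleton_tensor_quot B' A' L' T₂ hT₂ L'' (by
      intro m hm
      apply Submodule.subset_span
      simp only [Finset.coe_union, Set.mem_union]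
      exact Or.inr hm)
  have h3 := Groth.Agent.S14949.result B' B A' A hsq (L' ⧸ L'')
  have htop : L'' = ⊤ := Submodule.Quotient.subsingleton_iff.1 h3
  exact ⟨⟨T₁ ∪ T₂, htop⟩⟩

end Groth.Agent.S14953
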