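import Groth.Statements.S2006
import Groth.Agent.Lib.helper3.BL
-- import your own Groth.Agent.* helpers here

set_option autoImplicit false
universe u
open TensorProduct
open EtAlg

namespace Groth.Agent.S2006

open TensorProduct in
theorem fin_of (R R' : Type u) [CommRing R] [CommRing R'] [Algebra R R'] (f : R)
    (hq : EtGlue.QuotPowBijective R R' f) (M : Type u) [AddCommGroup M] [Module R M]
    (h1 : Module.Finite R' (R' ⊗[R] M))
    (h2 : Module.Finite (Localization.Away f) (LocalizedModule (Submonoid.powers f) M)) :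
    Module.Finite R M := by
  classical
  let A := Localization.Away f
  let g := LocalizedModule.mkLinearMap (Submonoid.powers f) M
  -- generators from the tensor product
  obtain ⟨t', ht'⟩ := h1.fg_top
  obtain ⟨N', hN'fin, hN'⟩ := TensorProduct.exists_finite_submodule_right_of_setFinite
    (t' : Set (R' ⊗[R] M)) t'.finite_toSet
  -- generators from the localization
  obtain ⟨t₁, ht₁⟩ := h2.fg_top
  have hsurj : ∀ y : LocalizedModule (Submonoid.powers f) M, ∃ p : M × Submonoid.powers f,
      p.2 • y = g p.1 := fun y => IsLocalizedModule.surj (Submonoid.powers f) g y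
  choose rep hrep using hsurj
  let N₁ : Submodule R M := Submodule.span R ((fun y => (rep y).1) '' (t₁ : Set _))
  have hN₁fg : N₁.FG := Submodule.fg_span (t₁.finite_toSet.image _)
  let N : Submodule R M := N' ⊔ N₁
  have hNfg : N.FG := (Module.Finite.iff_fg.mp hN'fin).sup hN₁fg
  -- claim 1 : M / N is f-power torsion
  have hloc : N.localized' A (Submonoid.powers f) g = ⊤ := by
    rw [eq_top_iff, ← ht₁, Submodule.span_le]
    intro y hy
    refine ⟨(rep y).1, ?_, (rep y).2, ?_⟩
    · exact (le_sup_right : N₁ ≤ N) (Submodule.subset_span ⟨y, hy, rfl⟩)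
    · rw [IsLocalizedModule.mk'_eq_iff]
      exact (hrep y).symm
  have htors : ∀ m : M, ∃ k : ℕ, f ^ k • m ∈ N := by
    intro m
    have hm : g m ∈ N.localized' A (Submonoid.powers f) g := by rw [hloc]; trivial
    obtain ⟨n, hn, s, hs⟩ := hm
    rw [IsLocalizedModule.mk'_eq_iff] at hs
    obtain ⟨_, i, rfl⟩ := s
    have hs' : g n = f ^ i • g m := hs
    rw [← map_smul] at hs'
    have h0 : g (n - f ^ i • m) = 0 := by rw [map_sub, hs', sub_self]
    obtain ⟨⟨_, j, rfl⟩, hj⟩ := (IsLocalizedModule.eq_zero_iff (Submonoid.powers f) g).mp h0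
    refine ⟨j + i, ?_⟩
    have h3 : f ^ j • n = f ^ (j + i) • m := by
      have h4 : f ^ j • (n - f ^ i • m) = 0 := hj
      rw [smul_sub, sub_eq_zero, smul_smul, ← pow_add] at h4
      exact h4
    rw [← h3]
    exact N.smul_mem _ hn
  have htorsQ : ∀ q : M ⧸ N, ∃ k : ℕ, f ^ k • q = 0 := by
    intro q
    obtain ⟨m, rfl⟩ := Submodule.Quotient.mk_surjective N q
    obtain ⟨k, hk⟩ := htors m
    exact ⟨k, by rw [← Submodule.Quotient.mk_smul, Submodule.Quotient.mk_eq_zero]; exact hk⟩
  -- claim 2 : R' ⊗ N → R' ⊗ M is surjective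
  have hrange : ∀ z : R' ⊗[R] M, z ∈ LinearMap.range (N.subtype.lTensor R') := by
    have hle : (⊤ : Submodule R' (R' ⊗[R] M)) ≤ LinearMap.range (N.subtype.baseChange R') := by
      rw [← ht', Submodule.span_le]
      intro z hz
      obtain ⟨w, hw⟩ := hN' hz
      refine ⟨((Submodule.inclusion (le_sup_left : N' ≤ N)).lTensor R') w, ?_⟩
      rw [LinearMap.baseChange_eq_ltensor, ← LinearMap.comp_apply, ← LinearMap.lTensor_comp]
      exact hw
    intro z
    obtain ⟨w, hw⟩ := hle (Submodule.mem_top : z ∈ ⊤)
    exact ⟨w, by rw [← hw, LinearMap.baseChange_eq_ltensor]⟩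
  -- conclusion
  have htop : N = ⊤ := by
    rw [eq_top_iff]
    intro m _
    obtain ⟨w, hw⟩ := hrange ((1 : R') ⊗ₜ[R] m)
    have h0 : (1 : R') ⊗ₜ[R] (N.mkQ m) = 0 := by
      have := congrArg (N.mkQ.lTensor R') hw
      rw [LinearMap.lTensor_tmul, ← LinearMap.comp_apply, ← LinearMap.lTensor_comp] at this
      rw [← this]
      have hz : N.mkQ ∘ₗ N.subtype = 0 := by
        ext n
        simp
      rw [hz, LinearMap.lTensor_zero, LinearMap.zero_apply]
    have := Groth.Agent.Lib.helper3.BL.eq_zero_of_tmul_eq_zero f hq (M ⧸ N) htorsQ _ h0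
    rw [Submodule.mkQ_apply, Submodule.Quotient.mk_eq_zero] at this
    exact this
  refine ⟨?_⟩
  rw [← htop]
  exact hNfg

/-- Let R -> R' induce bijections R/f^n R -> R'/f^n R' for all n > 0 and let M be an R-module. Then M is
finitely generated if and only if R' ⊗_R M is finitely generated over R' and M_f is finitely
generated over R_f. -/
theorem result (R R' : Type u) [CommRing R] [CommRing R'] [Algebra R R'] (f : R)
    (hq : EtGlue.QuotPowBijective R R' f) (M : Type u) [AddCommGroup M] [Module R M] :
    Module.Finite R M ↔ Module.Finite R' (R' ⊗[R] M) ∧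
      Module.Finite (Localization.Away f) (LocalizedModule (Submonoid.powers f) M) := by
  constructor
  · intro h
    exact ⟨inferInstance, Module.Finite.of_isLocalizedModule (Submonoid.powers f)
      (LocalizedModule.mkLinearMap (Submonoid.powers f) M)⟩
  · rintro ⟨h1, h2⟩
    exact fin_of R R' f hq M h1 h2

end Groth.Agent.S2006
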