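import Groth.Statements.S2003
import Mathlib
import Groth.Agent.S2002
import Groth.Agent.S2006
import Groth.Agent.Lib.helper10.Pure
-- import your own Groth.Agent.* helpers here

set_option autoImplicit false
universe u
open TensorProduct
open EtAlg

namespace Groth.Agent.S2003

/-- kernel of a surjection from a finite module onto a finitely presented one is finite. -/
theorem finite_of_exact {A : Type u} [CommRing A] {K F M : Type u} [AddCommGroup K] [Module A K]
    [AddCommGroup F] [Module A F] [AddCommGroup M] [Module A M] [Module.Finite A F]
    [Module.FinitePresentation A M] (j : K →ₗ[A] F) (p : F →ₗ[A] M)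
    (hj : Function.Injective j) (hex : Function.Exact j p) (hp : Function.Surjective p) :
    Module.Finite A K := by
  have h1 : (LinearMap.ker p).FG := Module.FinitePresentation.fg_ker p hp
  have h2 : LinearMap.range j = LinearMap.ker p := (LinearMap.exact_iff.mp hex).symm
  rw [← h2] at h1
  have : Module.Finite A (LinearMap.range j) := Module.Finite.iff_fg.mpr h1
  exact Module.Finite.equiv (LinearEquiv.ofInjective j hj).symm

/-- base change of the kernel of a presentation of a flat module with f.p. base change is finite. -/
theorem baseChange_ker_finite {R : Type u} [CommRing R] (S : Type u) [CommRing S] [Algebra R S]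
    {K F M : Type u} [AddCommGroup K] [Module R K]
    [AddCommGroup F] [Module R F] [AddCommGroup M] [Module R M] [Module.Finite R F]
    [Module.Flat R M] [Module.FinitePresentation S (S ⊗[R] M)] (j : K →ₗ[R] F) (p : F →ₗ[R] M)
    (hj : Function.Injective j) (hex : Function.Exact j p) (hp : Function.Surjective p) :
    Module.Finite S (S ⊗[R] K) := by
  have hinj : Function.Injective (j.baseChange S) :=
    Groth.Agent.Lib.helper10.lTensor_injective_of_flat_quotient (R := R) j p hj hex hp S
  have hex' : Function.Exact (j.baseChange S) (p.baseChange S) := lTensor_exact S hex hp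
  have hp' : Function.Surjective (p.baseChange S) := LinearMap.lTensor_surjective S hp
  exact finite_of_exact (A := S) (j.baseChange S) (p.baseChange S) hinj hex' hp'

theorem exists_pres {R : Type u} [CommRing R] {F M : Type u} [AddCommGroup F] [Module R F]
    [AddCommGroup M] [Module R M] (p : F →ₗ[R] M) :
    ∃ (K : Type u) (_ : AddCommGroup K) (_ : Module R K) (j : K →ₗ[R] F),
      Function.Injective j ∧ Function.Exact j p :=
  ⟨LinearMap.ker p, inferInstance, inferInstance, (LinearMap.ker p).subtype,
    Submodule.injective_subtype _, LinearMap.exact_subtype_ker_map p⟩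

/-- Let (R -> R', f) be a glueing pair and M any R-module. Then M is finite projective over R exactly
when both of its base changes are: R' ⊗_R M over R', and M_f over R_f. -/
theorem result (R R' : Type u) [CommRing R] [CommRing R'] [Algebra R R'] (f : R)
    (hRR : EtGlue.IsGlueingPair R R' f) (M : Type u) [AddCommGroup M] [Module R M] :
    (Module.Finite R M ∧ Module.Projective R M) ↔
      (Module.Finite R' (R' ⊗[R] M) ∧ Module.Projective R' (R' ⊗[R] M)) ∧
      (Module.Finite (Localization.Away f) (LocalizedModule (Submonoid.powers f) M) ∧
        Module.Projective (Localization.Away f) (LocalizedModule (Submonoid.powers f) M)) := by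
  constructor
  · rintro ⟨h1, h2⟩
    refine ⟨⟨inferInstance, inferInstance⟩, ⟨?_, ?_⟩⟩
    · exact Module.Finite.of_isLocalizedModule (Submonoid.powers f)
        (LocalizedModule.mkLinearMap (Submonoid.powers f) M)
    · exact Module.projective_of_isLocalizedModule (Submonoid.powers f)
        (LocalizedModule.mkLinearMap (Submonoid.powers f) M)
  · rintro ⟨⟨h1, h2⟩, ⟨h3, h4⟩⟩
    have hfin : Module.Finite R M := (Groth.Agent.S2006.result R R' f hRR.1 M).2 ⟨h1, h3⟩
    have hflat : Module.Flat R M :=
      (Groth.Agent.S2002.result R R' f hRR M).2 ⟨inferInstance, inferInstance⟩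
    refine ⟨hfin, ?_⟩
    obtain ⟨n, p, hp⟩ := Module.Finite.exists_fin' R M
    obtain ⟨K, _, _, j, hj, hex⟩ := exists_pres (F := Fin n → R) p
    -- base change to R'
    have hfpR' : Module.FinitePresentation R' (R' ⊗[R] M) :=
      Module.finitePresentation_of_projective R' (R' ⊗[R] M)
    have hK1 : Module.Finite R' (R' ⊗[R] K) := baseChange_ker_finite R' j p hj hex hp
    -- base change to R_f
    let eM := (IsLocalizedModule.isBaseChange (Submonoid.powers f) (Localization.Away f)
      (LocalizedModule.mkLinearMap (Submonoid.powers f) M)).equiv
    let eK := (IsLocalizedModule.isBaseChange (Submonoid.powers f) (Localization.Away f)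
      (LocalizedModule.mkLinearMap (Submonoid.powers f) K)).equiv
    have hfpM : Module.FinitePresentation (Localization.Away f)
        (LocalizedModule (Submonoid.powers f) M) :=
      Module.finitePresentation_of_projective _ _
    have hfpRf : Module.FinitePresentation (Localization.Away f) (Localization.Away f ⊗[R] M) :=
      Module.FinitePresentation.of_equiv eM.symm
    have hK2' : Module.Finite (Localization.Away f) (Localization.Away f ⊗[R] K) :=
      baseChange_ker_finite (Localization.Away f) j p hj hex hp
    have hK2 : Module.Finite (Localization.Away f) (LocalizedModule (Submonoid.powers f) K) :=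
      Module.Finite.equiv eK
    have hK : Module.Finite R K := (Groth.Agent.S2006.result R R' f hRR.1 K).2 ⟨hK1, hK2⟩
    have hker : (LinearMap.ker p).FG := by
      rw [(LinearMap.exact_iff.mp hex)]
      rw [LinearMap.range_eq_map]
      exact Submodule.FG.map _ (Module.Finite.fg_top)
    have hfp : Module.FinitePresentation R M := Module.finitePresentation_of_surjective p hp hker
    exact Module.Flat.projective_of_finitePresentation

end Groth.Agent.S2003
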