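import Groth.Statements.S14955
import Mathlib
import Groth.Agent.Lib.helper22.Milnor

set_option autoImplicit false
universe u
open TensorProduct
open EtAlg

namespace Groth.Agent.S14955

/-- Let B' = B ×_A A' be a fibre product of commutative rings with A' → A surjective. Then the square is
also a pushout of commutative rings: the canonical map B ⊗_{B'} A' → A is an isomorphism. -/
theorem result (B' B A' A : Type u) [CommRing B'] [CommRing B] [CommRing A'] [CommRing A]
    [Algebra B' B] [Algebra B' A'] [Algebra B A] [Algebra A' A] [Algebra B' A] [IsScalarTower B' B A] [IsScalarTower B' A' A]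
    (hsq : EtMil.IsFibreSquare B' B A' A) : Algebra.IsPushout B' B A' A := by
  have hsurjB := Groth.Agent.Lib.helper22.Milnor.surj_B hsq
  constructor
  unfold IsBaseChange IsTensorProduct
  set F := TensorProduct.lift (((Algebra.linearMap B <| Module.End B (A' →ₗ[B'] A)).flip
      (IsScalarTower.toAlgHom B' A' A).toLinearMap).restrictScalars B') with hF
  have hFt : ∀ (b : B) (a' : A'), F (b ⊗ₜ[B'] a') = b • algebraMap A' A a' := by
    intro b a'
    simp [hF]
  -- every tensor is of the form 1 ⊗ a'
  have hone : ∀ t : B ⊗[B'] A', ∃ a' : A', t = (1 : B) ⊗ₜ[B'] a' := by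
    intro t
    induction t using TensorProduct.induction_on with
    | zero => exact ⟨0, by simp⟩
    | tmul b a' =>
      obtain ⟨b', rfl⟩ := hsurjB b
      refine ⟨b' • a', ?_⟩
      rw [TensorProduct.tmul_smul, Algebra.algebraMap_eq_smul_one, TensorProduct.smul_tmul']
    | add x y hx hy =>
      obtain ⟨a, rfl⟩ := hx
      obtain ⟨b, rfl⟩ := hy
      exact ⟨a + b, by rw [TensorProduct.tmul_add]⟩
  constructor
  · rw [injective_iff_map_eq_zero]
    intro t ht
    obtain ⟨a', rfl⟩ := hone t
    rw [hFt, one_smul] at ht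
    -- a' comes from j in ker (B' → B)
    obtain ⟨j, ⟨hj1, hj2⟩, _⟩ := hsq.2 0 a' (by rw [map_zero, ht])
    rw [← hj2, Algebra.algebraMap_eq_smul_one, TensorProduct.tmul_smul, TensorProduct.smul_tmul',
      ← Algebra.algebraMap_eq_smul_one, hj1, TensorProduct.zero_tmul]
  · intro a
    obtain ⟨a', rfl⟩ := hsq.1 a
    exact ⟨(1 : B) ⊗ₜ[B'] a', by rw [hFt, one_smul]⟩

end Groth.Agent.S14955
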