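import Groth.Statements.S14956
import Mathlib
import Groth.Agent.Lib.helper3.MilnorFlat
import Groth.Agent.Lib.helper25.AzuDescent
import Groth.Agent.S14949
import Groth.Agent.S14952
import Groth.Agent.S14953
import Groth.Agent.S14954
import Groth.Agent.S19588
import Groth.Agent.S19589
-- import your own Groth.Agent.* helpers here

set_option autoImplicit false
universe u
open TensorProduct
open Brauer

namespace Groth.Agent.S14956

/-- a linear map into a flat module over a Milnor square is bijective if its two base changes are. -/
theorem bijective_of_baseChange_pair (B' B A' A : Type u) [CommRing B'] [CommRing B] [CommRing A']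
    [CommRing A] [Algebra B' B] [Algebra B' A'] [Algebra B A] [Algebra A' A] [Algebra B' A]
    [IsScalarTower B' B A] [IsScalarTower B' A' A] (hsq : EtMil.IsFibreSquare B' B A' A)
    {L₁ L₂ : Type u} [AddCommGroup L₁] [Module B' L₁] [AddCommGroup L₂] [Module B' L₂]
    [Module.Flat B' L₂] (f : L₁ →ₗ[B'] L₂)
    (hB : Function.Bijective (f.baseChange B)) (hA' : Function.Bijective (f.baseChange A')) :
    Function.Bijective f := by
  -- surjectivity
  have hsurj : Function.Surjective f := by
    have key : ∀ (S : Type u) [CommRing S] [Algebra B' S], Function.Surjective (f.baseChange S) →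
        Subsingleton (S ⊗[B'] (L₂ ⧸ LinearMap.range f)) := by
      intro S _ _ hS
      refine ⟨fun a b => ?_⟩
      have h0 : ∀ z : S ⊗[B'] (L₂ ⧸ LinearMap.range f), z = 0 := by
        intro z
        obtain ⟨y, rfl⟩ := LinearMap.lTensor_surjective S (LinearMap.range f).mkQ_surjective z
        obtain ⟨x, rfl⟩ := hS y
        have : ((LinearMap.range f).mkQ.lTensor S) ((f.baseChange S) x) =
            (((LinearMap.range f).mkQ ∘ₗ f).lTensor S) x := by
          rw [LinearMap.lTensor_comp]; rfl
        rw [this]
        have h1 : (LinearMap.range f).mkQ ∘ₗ f = 0 := by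
          ext x
          simp
        rw [h1, LinearMap.lTensor_zero, LinearMap.zero_apply]
      rw [h0 a, h0 b]
    have h1 := key B hB.2
    have h2 := key A' hA'.2
    have h3 : Subsingleton (L₂ ⧸ LinearMap.range f) :=
      Groth.Agent.S14949.result B' B A' A hsq (L₂ ⧸ LinearMap.range f)
    rw [← LinearMap.range_eq_top]
    exact Submodule.Quotient.subsingleton_iff.mp h3
  refine ⟨?_, hsurj⟩
  have hex : Function.Exact (LinearMap.ker f).subtype f := LinearMap.exact_subtype_ker_map f
  have key : ∀ (S : Type u) [CommRing S] [Algebra B' S], Function.Injective (f.baseChange S) →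
      Subsingleton (S ⊗[B'] (LinearMap.ker f)) := by
    intro S _ _ hS
    have hinj := Groth.Agent.Lib.helper10.lTensor_injective_of_flat_quotient (R := B')
      (LinearMap.ker f).subtype f (Submodule.injective_subtype _) hex hsurj S
    refine ⟨fun a b => ?_⟩
    have h0 : ∀ z : S ⊗[B'] (LinearMap.ker f), z = 0 := by
      intro z
      apply hinj
      apply hS
      have : (f.baseChange S) (((LinearMap.ker f).subtype.lTensor S) z) =
          ((f ∘ₗ (LinearMap.ker f).subtype).lTensor S) z := by
        rw [LinearMap.lTensor_comp]; rfl
      rw [this, map_zero, map_zero]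
      have h1 : f ∘ₗ (LinearMap.ker f).subtype = 0 := by
        ext x
        simp
      rw [h1, LinearMap.lTensor_zero, LinearMap.zero_apply]
    rw [h0 a, h0 b]
  have h1 := key B hB.1
  have h2 := key A' hA'.1
  have h3 : Subsingleton (LinearMap.ker f) :=
    Groth.Agent.S14949.result B' B A' A hsq (LinearMap.ker f)
  rw [← LinearMap.ker_eq_bot]
  exact Submodule.subsingleton_iff_eq_bot.mp h3

/-- Let B' = B ×_A A' be a fibre product of commutative rings with A' → A surjective and D' a B'-algebra
(associative, unital, not necessarily commutative). Then D' is an Azumaya algebra over B' if and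
only if B ⊗_{B'} D' is an Azumaya algebra over B and A' ⊗_{B'} D' is an Azumaya algebra over A'.
(The published statement is for a quasi-coherent algebra on the pushout scheme Y of a closed
immersion and an affine morphism; this row is the case of an affine Y. Azumaya is taken in the
finite-projective-faithful sense.) -/
theorem result (B' B A' A : Type u) [CommRing B'] [CommRing B] [CommRing A'] [CommRing A]
    [Algebra B' B] [Algebra B' A'] [Algebra B A] [Algebra A' A] [Algebra B' A] [IsScalarTower B' B A] [IsScalarTower B' A' A]
    (hsq : EtMil.IsFibreSquare B' B A' A)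
    (D' : Type u) [Ring D'] [Algebra B' D'] :
    IsAzumaya B' D' ↔ IsAzumaya B (B ⊗[B'] D') ∧ IsAzumaya A' (A' ⊗[B'] D') := by
  constructor
  · intro h
    exact ⟨Groth.Agent.S19588.result B' B D', Groth.Agent.S19588.result B' A' D'⟩
  · rintro ⟨h1, h2⟩
    have hfpB : Module.FinitePresentation B (B ⊗[B'] D') :=
      Module.finitePresentation_of_projective B (B ⊗[B'] D')
    have hfpA' : Module.FinitePresentation A' (A' ⊗[B'] D') :=
      Module.finitePresentation_of_projective A' (A' ⊗[B'] D')
    have hfin : Module.Finite B' D' := Groth.Agent.S14953.result B' B A' A hsq D'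
    have hflat : Module.Flat B' D' := Groth.Agent.S14952.result B' B A' A hsq D'
    have hfp : Module.FinitePresentation B' D' := Groth.Agent.S14954.result B' B A' A hsq D'
    have hproj : Module.Projective B' D' := Module.Flat.projective_of_finitePresentation
    have hfaith : FaithfulSMul B' D' := by
      refine ⟨fun {b₁ b₂} h => ?_⟩
      have hc : ∀ d : D', (b₁ - b₂) • d = 0 := fun d => by rw [sub_smul, h d, sub_self]
      have hB : algebraMap B' B (b₁ - b₂) = 0 := by
        apply eq_of_smul_eq_smul (M := B) (α := B ⊗[B'] D')
        intro z
        rw [zero_smul]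
        induction z using TensorProduct.induction_on with
        | zero => rw [smul_zero]
        | tmul b d =>
          rw [TensorProduct.smul_tmul', smul_eq_mul, ← Algebra.smul_def, TensorProduct.smul_tmul, hc,
            tmul_zero]
        | add x y hx hy => rw [smul_add, hx, hy, add_zero]
      have hA' : algebraMap B' A' (b₁ - b₂) = 0 := by
        apply eq_of_smul_eq_smul (M := A') (α := A' ⊗[B'] D')
        intro z
        rw [zero_smul]
        induction z using TensorProduct.induction_on with
        | zero => rw [smul_zero]
        | tmul b d =>
          rw [TensorProduct.smul_tmul', smul_eq_mul, ← Algebra.smul_def, TensorProduct.smul_tmul, hc,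
            tmul_zero]
        | add x y hx hy => rw [smul_add, hx, hy, add_zero]
      exact sub_eq_zero.mp
        (Groth.Agent.Lib.helper3.Milnor.eq_zero_of_map_eq_zero hsq _ hB hA')
    have hEnd : IsAzumaya B' (Module.End B' D') := Groth.Agent.S19589.result B' D'
    have hflatE : Module.Flat B' (Module.End B' D') := inferInstance
    have hbij : Function.Bijective (AlgHom.mulLeftRight B' D') := by
      have hb1 : Function.Bijective ((AlgHom.mulLeftRight B' D').toLinearMap.baseChange B) :=
        (Groth.Agent.Lib.helper25.AzuDescent.bijective_baseChange_iff B' B D').mpr h1.bij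
      have hb2 : Function.Bijective ((AlgHom.mulLeftRight B' D').toLinearMap.baseChange A') :=
        (Groth.Agent.Lib.helper25.AzuDescent.bijective_baseChange_iff B' A' D').mpr h2.bij
      exact bijective_of_baseChange_pair B' B A' A hsq (AlgHom.mulLeftRight B' D').toLinearMap hb1 hb2
    exact { bij := hbij }

end Groth.Agent.S14956
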