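import Groth.Statements.S14958
import Mathlib
import Groth.Agent.Lib.helper3.MilnorFlat
-- import your own Groth.Agent.* helpers here

set_option autoImplicit false
universe u
open TensorProduct CategoryTheory CategoryTheory.Limits
open EtAlg

namespace Groth.Agent.S14958

/-- Left derived functors are additive (cf. helper6's `TorIsoCrit.leftDerived_additive`). -/
theorem leftDerived_additive {C : Type (u+1)} [Category.{u} C] [Abelian C] [EnoughProjectives C]
    {D : Type (u+1)} [Category.{u} D] [Abelian D] (F : C ⥤ D) [F.Additive] (n : ℕ) :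
    (F.leftDerived n).Additive where
  map_add {X Y f g} := by
    let P := ProjectiveResolution.of X
    let Q := ProjectiveResolution.of Y
    have hf := F.leftDerived_map_eq n f (ProjectiveResolution.lift f P Q)
      (ProjectiveResolution.lift_commutes f P Q)
    have hg := F.leftDerived_map_eq n g (ProjectiveResolution.lift g P Q)
      (ProjectiveResolution.lift_commutes g P Q)
    have hfg := F.leftDerived_map_eq n (f + g)
      (ProjectiveResolution.lift f P Q + ProjectiveResolution.lift g P Q)
      (by rw [Preadditive.add_comp, ProjectiveResolution.lift_commutes,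
        ProjectiveResolution.lift_commutes, Functor.map_add, Preadditive.comp_add])
    rw [hfg, hf, hg, Functor.map_add, Preadditive.add_comp, Preadditive.comp_add]

open Groth.Agent.H21.TorLib MonoidalCategory in
/-- for an additive functor, epi-ness of `F (coprod f g)` is epi-ness of `biprod.desc (F f) (F g)`. -/
theorem epi_desc_iff {R : Type u} [CommRing R] (F : ModuleCat.{u} R ⥤ ModuleCat.{u} R) [F.Additive]
    {X Y Z : Type u} [AddCommGroup X] [Module R X] [AddCommGroup Y] [Module R Y]
    [AddCommGroup Z] [Module R Z] (f : X →ₗ[R] Z) (g : Y →ₗ[R] Z) :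
    Epi (F.map (ModuleCat.ofHom (f.coprod g))) ↔
      Epi (biprod.desc (F.map (ModuleCat.ofHom f)) (F.map (ModuleCat.ofHom g))) := by
  have h1 : biprod.desc (F.map (ModuleCat.ofHom f)) (F.map (ModuleCat.ofHom g)) =
      biprod.desc (F.map (ModuleCat.ofHom (LinearMap.inl R X Y)))
        (F.map (ModuleCat.ofHom (LinearMap.inr R X Y))) ≫ F.map (ModuleCat.ofHom (f.coprod g)) := by
    apply biprod.hom_ext'
    · rw [biprod.inl_desc, biprod.inl_desc_assoc, ← F.map_comp, ← ModuleCat.ofHom_comp,
        LinearMap.coprod_inl]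
    · rw [biprod.inr_desc, biprod.inr_desc_assoc, ← F.map_comp, ← ModuleCat.ofHom_comp,
        LinearMap.coprod_inr]
  have h2 : biprod.lift (F.map (ModuleCat.ofHom (LinearMap.fst R X Y)))
      (F.map (ModuleCat.ofHom (LinearMap.snd R X Y))) ≫
      biprod.desc (F.map (ModuleCat.ofHom (LinearMap.inl R X Y)))
        (F.map (ModuleCat.ofHom (LinearMap.inr R X Y))) = 𝟙 _ := by
    rw [biprod.lift_desc, ← F.map_comp, ← F.map_comp, ← F.map_add, ← ModuleCat.ofHom_comp,
      ← ModuleCat.ofHom_comp, ← ModuleCat.ofHom_add]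
    have : LinearMap.inl R X Y ∘ₗ LinearMap.fst R X Y + LinearMap.inr R X Y ∘ₗ LinearMap.snd R X Y =
        LinearMap.id := by
      ext <;> simp
    rw [this]
    exact F.map_id _
  constructor
  · intro h
    rw [h1]
    have : Epi (biprod.desc (F.map (ModuleCat.ofHom (LinearMap.inl R X Y)))
        (F.map (ModuleCat.ofHom (LinearMap.inr R X Y)))) := by
      have : IsSplitEpi (biprod.desc (F.map (ModuleCat.ofHom (LinearMap.inl R X Y)))
        (F.map (ModuleCat.ofHom (LinearMap.inr R X Y)))) := ⟨⟨⟨_, h2⟩⟩⟩
      infer_instance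
    exact epi_comp _ _
  · intro h
    rw [h1] at h
    exact epi_of_epi (biprod.desc (F.map (ModuleCat.ofHom (LinearMap.inl R X Y)))
        (F.map (ModuleCat.ofHom (LinearMap.inr R X Y)))) _

open Groth.Agent.H21.TorLib MonoidalCategory in
/-- the signed Mayer–Vietoris sequence `0 → B' → B × A' → A → 0`, `b' ↦ (b', -b')`, `(b, a') ↦ b + a'`. -/
theorem mv_shortExact' {B' B A' A : Type u} [CommRing B'] [CommRing B] [CommRing A'] [CommRing A]
    [Algebra B' B] [Algebra B' A'] [Algebra B A] [Algebra A' A] [Algebra B' A] [IsScalarTower B' B A]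
    [IsScalarTower B' A' A] (hsq : EtMil.IsFibreSquare B' B A' A) :
    ∃ h : ((IsScalarTower.toAlgHom B' B A).toLinearMap.coprod
        (IsScalarTower.toAlgHom B' A' A).toLinearMap) ∘ₗ
        ((Algebra.linearMap B' B).prod (-(Algebra.linearMap B' A'))) = 0,
      (linSES ((Algebra.linearMap B' B).prod (-(Algebra.linearMap B' A')))
        ((IsScalarTower.toAlgHom B' B A).toLinearMap.coprod
          (IsScalarTower.toAlgHom B' A' A).toLinearMap) h).ShortExact := by
  have hinj : Function.Injective ((Algebra.linearMap B' B).prod (-(Algebra.linearMap B' A'))) := by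
    rw [injective_iff_map_eq_zero]
    intro x hx
    have h1 : algebraMap B' B x = 0 := congrArg Prod.fst hx
    have h2 : -algebraMap B' A' x = 0 := congrArg Prod.snd hx
    exact Groth.Agent.Lib.helper3.Milnor.eq_zero_of_map_eq_zero hsq x h1 (neg_eq_zero.mp h2)
  have hex : Function.Exact ((Algebra.linearMap B' B).prod (-(Algebra.linearMap B' A')))
      ((IsScalarTower.toAlgHom B' B A).toLinearMap.coprod
        (IsScalarTower.toAlgHom B' A' A).toLinearMap) := by
    rintro ⟨b, a'⟩
    constructor
    · intro hx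
      have h1 : algebraMap B A b = algebraMap A' A (-a') := by
        have : algebraMap B A b + algebraMap A' A a' = 0 := by simpa using hx
        rw [map_neg]
        exact eq_neg_of_add_eq_zero_left this
      obtain ⟨b', ⟨e1, e2⟩, -⟩ := hsq.2 b (-a') h1
      refine ⟨b', Prod.ext e1 ?_⟩
      simp [e2]
    · rintro ⟨b', hb'⟩
      rw [← hb']
      simp [← IsScalarTower.algebraMap_apply]
  have hsurj : Function.Surjective ((IsScalarTower.toAlgHom B' B A).toLinearMap.coprod
        (IsScalarTower.toAlgHom B' A' A).toLinearMap) := by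
    intro a
    obtain ⟨a', rfl⟩ := hsq.1 a
    exact ⟨(0, a'), by simp⟩
  exact ⟨hex.linearMap_comp_eq_zero, linSES_shortExact _ _ hinj hex hsurj⟩

/-- the unit is injective iff `L' ⊗ B' → L' ⊗ (B × A')` is. -/
theorem unit_injective_iff {B' B A' : Type u} [CommRing B'] [CommRing B] [CommRing A']
    [Algebra B' B] [Algebra B' A'] (L' : Type u) [AddCommGroup L'] [Module B' L'] :
    (∀ l : L', ((1 : B) ⊗ₜ[B'] l : B ⊗[B'] L') = 0 → ((1 : A') ⊗ₜ[B'] l : A' ⊗[B'] L') = 0 → l = 0) ↔
    Function.Injective (((Algebra.linearMap B' B).prod (-(Algebra.linearMap B' A'))).lTensor L') := by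
  have hB : ∀ l : L', ((1 : B) ⊗ₜ[B'] l : B ⊗[B'] L') = 0 ↔ (l ⊗ₜ[B'] (1 : B) : L' ⊗[B'] B) = 0 := by
    intro l
    constructor
    · intro h
      have := congrArg (TensorProduct.comm B' B L') h
      simpa using this
    · intro h
      have := congrArg (TensorProduct.comm B' L' B) h
      simpa using this
  have hA : ∀ l : L', ((1 : A') ⊗ₜ[B'] l : A' ⊗[B'] L') = 0 ↔
      (l ⊗ₜ[B'] (1 : A') : L' ⊗[B'] A') = 0 := by
    intro l
    constructor
    · intro h
      have := congrArg (TensorProduct.comm B' A' L') h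
      simpa using this
    · intro h
      have := congrArg (TensorProduct.comm B' L' A') h
      simpa using this
  constructor
  · intro hc
    rw [injective_iff_map_eq_zero]
    intro z hz
    obtain ⟨l, rfl⟩ := (TensorProduct.rid B' L').symm.surjective z
    rw [TensorProduct.rid_symm_apply, LinearMap.lTensor_tmul] at hz
    have hpair : ((Algebra.linearMap B' B).prod (-(Algebra.linearMap B' A'))) 1 =
        ((1 : B), (-1 : A')) := by
      apply Prod.ext <;> simp
    rw [hpair] at hz
    have h1 := congrArg ((LinearMap.fst B' B A').lTensor L') hz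
    have h2 := congrArg ((LinearMap.snd B' B A').lTensor L') hz
    rw [LinearMap.lTensor_tmul, map_zero, LinearMap.fst_apply] at h1
    rw [LinearMap.lTensor_tmul, map_zero, LinearMap.snd_apply, tmul_neg, neg_eq_zero] at h2
    have := hc l ((hB l).mpr h1) ((hA l).mpr h2)
    rw [this]
    simp
  · intro hinj l h1 h2
    have e1 : (l ⊗ₜ[B'] ((1 : B), (0 : A')) : L' ⊗[B'] (B × A')) = 0 := by
      have := congrArg ((LinearMap.inl B' B A').lTensor L') ((hB l).mp h1)
      simpa using this
    have e2 : (l ⊗ₜ[B'] ((0 : B), (1 : A')) : L' ⊗[B'] (B × A')) = 0 := by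
      have := congrArg ((LinearMap.inr B' B A').lTensor L') ((hA l).mp h2)
      simpa using this
    have e3 : (((Algebra.linearMap B' B).prod (-(Algebra.linearMap B' A'))).lTensor L')
        (l ⊗ₜ[B'] (1 : B')) = 0 := by
      rw [LinearMap.lTensor_tmul]
      have : ((Algebra.linearMap B' B).prod (-(Algebra.linearMap B' A'))) 1 =
          ((1 : B), (0 : A')) - ((0 : B), (1 : A')) := by
        simp
      rw [this, tmul_sub, e1, e2, sub_zero]
    have e4 := hinj (e3.trans (map_zero _).symm)
    have e5 := congrArg (TensorProduct.rid B' L') e4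
    simpa using e5

/-- Let B' = B ×_A A' be a fibre product of commutative rings with A' → A surjective and L' a B'-module.
Then L' is a fixed point of the glueing adjunction, i.e. the canonical map from L' to the compatible
pairs in (B ⊗_{B'} L') × (A' ⊗_{B'} L') is injective (it is always surjective), if and only if the
map Tor_1(L', B) ⊕ Tor_1(L', A') → Tor_1(L', A) over B' induced by B → A and A' → A is surjective.
Here Tor_1(L', –) is the first left derived functor of L' ⊗_{B'} – on B'-modules. -/
theorem result (B' B A' A : Type u) [CommRing B'] [CommRing B] [CommRing A'] [CommRing A]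
    [Algebra B' B] [Algebra B' A'] [Algebra B A] [Algebra A' A] [Algebra B' A] [IsScalarTower B' B A] [IsScalarTower B' A' A]
    (hsq : EtMil.IsFibreSquare B' B A' A)
    (L' : Type u) [AddCommGroup L'] [Module B' L'] :
    (∀ l : L', ((1 : B) ⊗ₜ[B'] l : B ⊗[B'] L') = 0 → ((1 : A') ⊗ₜ[B'] l : A' ⊗[B'] L') = 0 → l = 0) ↔
    Epi (biprod.desc
      (((Tor (ModuleCat.{u} B') 1).obj (ModuleCat.of B' L')).map
        (ModuleCat.ofHom (IsScalarTower.toAlgHom B' B A).toLinearMap))
      (((Tor (ModuleCat.{u} B') 1).obj (ModuleCat.of B' L')).map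
        (ModuleCat.ofHom (IsScalarTower.toAlgHom B' A' A).toLinearMap))) := by
  obtain ⟨h0, hS⟩ := mv_shortExact' hsq
  obtain ⟨-, -, δ, w₁, w₂, e₁, e₂⟩ :=
    Groth.Agent.H21.TorLib.les₂ (ModuleCat.of B' L') _ hS 0
  rw [unit_injective_iff (B := B) (A' := A') L']
  have h1 := e₁.epi_f_iff
  have h2 := e₂.mono_g_iff
  simp only at h1 h2
  have h3 : Function.Injective (((Algebra.linearMap B' B).prod (-(Algebra.linearMap B' A'))).lTensor L') ↔
      δ = 0 := by
    rw [← h2]
    rw [← Groth.Agent.H21.TorLib.mono_whiskerLeft_iff, ← Groth.Agent.H21.TorLib.injective_lTensor_iff_mono]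
    rfl
  rw [h3, ← h1]
  have : ((Tor (ModuleCat.{u} B') 1).obj (ModuleCat.of B' L')).Additive :=
    leftDerived_additive
      ((MonoidalCategory.tensoringLeft (ModuleCat.{u} B')).obj (ModuleCat.of B' L')) 1
  exact epi_desc_iff ((Tor (ModuleCat.{u} B') 1).obj (ModuleCat.of B' L'))
    (IsScalarTower.toAlgHom B' B A).toLinearMap (IsScalarTower.toAlgHom B' A' A).toLinearMap

end Groth.Agent.S14958
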