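import Groth.Statements.S14965
import Mathlib
import Groth.Agent.Lib.helper3.Milnor
import Groth.Agent.S14956
-- import your own Groth.Agent.* helpers here

set_option autoImplicit false
universe u
open TensorProduct
open Brauer

namespace Groth.Agent.S14965

/-- Let B' = B ×_A A' be a fibre product of commutative rings with A' → A surjective, N an Azumaya
B-algebra, M' an Azumaya A'-algebra and φ : A ⊗_B N ≅ A ⊗_{A'} M' an isomorphism of A-algebras. If a
B'-algebra D' with B'-algebra homomorphisms π₁ : D' → N and π₂ : D' → M' is the glued algebra N ×_φ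
M', in the sense that (π₁, π₂) is injective with image the pairs (n, m') satisfying φ(1 ⊗ n) = 1 ⊗
m', then D' is an Azumaya B'-algebra. (The published statement is for Azumaya algebras on the
pushout scheme of a closed immersion and an affine morphism, glued as u_*B' ×_{h_*} f_*A; this row
is the case of an affine pushout.) -/
theorem result (B' B A' A : Type u) [CommRing B'] [CommRing B] [CommRing A'] [CommRing A]
    [Algebra B' B] [Algebra B' A'] [Algebra B A] [Algebra A' A] [Algebra B' A] [IsScalarTower B' B A] [IsScalarTower B' A' A]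
    (hsq : EtMil.IsFibreSquare B' B A' A)
    (N : Type u) [Ring N] [Algebra B N] [Algebra B' N] [IsScalarTower B' B N] [IsAzumaya B N]
    (M' : Type u) [Ring M'] [Algebra A' M'] [Algebra B' M'] [IsScalarTower B' A' M'] [IsAzumaya A' M']
    (φ : A ⊗[B] N ≃ₐ[A] A ⊗[A'] M')
    (D' : Type u) [Ring D'] [Algebra B' D'] (π₁ : D' →ₐ[B'] N) (π₂ : D' →ₐ[B'] M')
    (hinj : ∀ d : D', π₁ d = 0 → π₂ d = 0 → d = 0)
    (himg : ∀ (n : N) (m' : M'), φ ((1 : A) ⊗ₜ[B] n) = (1 : A) ⊗ₜ[A'] m' ↔ ∃ d : D', π₁ d = n ∧ π₂ d = m') :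
    IsAzumaya B' D' := by
  -- the glued module and the comparison `ψ : D' ≃ G`
  let φl : A ⊗[B] N ≃ₗ[A] A ⊗[A'] M' := φ.toLinearEquiv
  let ψ : D' →ₗ[B'] EtMil.glue B' φl :=
    { toFun := fun d => ⟨(π₁ d, π₂ d), (himg (π₁ d) (π₂ d)).mpr ⟨d, rfl, rfl⟩⟩
      map_add' := fun x y => Subtype.ext (by simp)
      map_smul' := fun c x => Subtype.ext (by simp) }
  have hψ : Function.Bijective ψ := by
    constructor
    · rw [injective_iff_map_eq_zero]
      intro d hd
      have h1 : π₁ d = 0 := congrArg (fun g : EtMil.glue B' φl => g.1.1) hd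
      have h2 : π₂ d = 0 := congrArg (fun g : EtMil.glue B' φl => g.1.2) hd
      exact hinj d h1 h2
    · rintro ⟨⟨n, m'⟩, hg⟩
      obtain ⟨d, h1, h2⟩ := (himg n m').mp hg
      exact ⟨d, Subtype.ext (Prod.ext h1 h2)⟩
  let ψe : D' ≃ₗ[B'] EtMil.glue B' φl := LinearEquiv.ofBijective ψ hψ
  -- the two algebra maps
  let Φ₁ : B ⊗[B'] D' →ₐ[B] N := Algebra.TensorProduct.lift (Algebra.ofId B N) π₁
    (fun x y => Algebra.commutes x (π₁ y))
  let Φ₂ : A' ⊗[B'] D' →ₐ[A'] M' := Algebra.TensorProduct.lift (Algebra.ofId A' M') π₂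
    (fun x y => Algebra.commutes x (π₂ y))
  have hΦ₁ : ∀ z, Φ₁ z = LinearMap.liftBaseChange B (EtMil.glueFst B' φl)
      ((ψe.baseChange B' B _ _) z) := by
    intro z
    induction z using TensorProduct.induction_on with
    | zero => simp
    | tmul b d =>
      simp only [Φ₁, Algebra.TensorProduct.lift_tmul, LinearEquiv.baseChange_tmul,
        LinearMap.liftBaseChange_tmul]
      rw [Algebra.ofId_apply, ← Algebra.smul_def]
      rfl
    | add x y hx hy => simp only [map_add, hx, hy]
  have hΦ₂ : ∀ z, Φ₂ z = LinearMap.liftBaseChange A' (EtMil.glueSnd B' φl)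
      ((ψe.baseChange B' A' _ _) z) := by
    intro z
    induction z using TensorProduct.induction_on with
    | zero => simp
    | tmul b d =>
      simp only [Φ₂, Algebra.TensorProduct.lift_tmul, LinearEquiv.baseChange_tmul,
        LinearMap.liftBaseChange_tmul]
      rw [Algebra.ofId_apply, ← Algebra.smul_def]
      rfl
    | add x y hx hy => simp only [map_add, hx, hy]
  have hb₁ : Function.Bijective Φ₁ := by
    have : (Φ₁ : B ⊗[B'] D' → N) = (LinearMap.liftBaseChange B (EtMil.glueFst B' φl)) ∘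
        (ψe.baseChange B' B _ _) := funext hΦ₁
    rw [this]
    exact (Groth.Agent.Lib.helper3.Milnor.liftFst_bijective φl hsq).comp
      (ψe.baseChange B' B _ _).bijective
  have hb₂ : Function.Bijective Φ₂ := by
    have : (Φ₂ : A' ⊗[B'] D' → M') = (LinearMap.liftBaseChange A' (EtMil.glueSnd B' φl)) ∘
        (ψe.baseChange B' A' _ _) := funext hΦ₂
    rw [this]
    exact (Groth.Agent.Lib.helper3.Milnor.liftSnd_bijective φl hsq).comp
      (ψe.baseChange B' A' _ _).bijective
  have h1 : IsAzumaya B (B ⊗[B'] D') :=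
    IsAzumaya.of_AlgEquiv B _ _ (AlgEquiv.ofBijective Φ₁ hb₁).symm
  have h2 : IsAzumaya A' (A' ⊗[B'] D') :=
    IsAzumaya.of_AlgEquiv A' _ _ (AlgEquiv.ofBijective Φ₂ hb₂).symm
  exact (Groth.Agent.S14956.result B' B A' A hsq D').mpr ⟨h1, h2⟩

end Groth.Agent.S14965
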