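import Groth.Statements.S14966
import Mathlib

set_option autoImplicit false
universe u
open EtAlg

namespace Groth.Agent.S14966

/-- Let A → A' be an injective homomorphism of commutative rings and let I ⊆ A be the conductor, i.e.
the annihilator of the A-module A'/A. Then the conductor square formed by A → A/I, A → A', A/I →
A'/IA' and A' → A'/IA' is a fibre product square of rings with A' → A'/IA' surjective: A = A/I
×_{A'/IA'} A'. (The published Lemma is for the conductor square of a finite modification of schemes;
this row is the underlying statement for one injective ring map, which needs no finiteness.) -/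
theorem result (A A' : Type u) [CommRing A] [CommRing A'] [Algebra A A']
    (hinj : Function.Injective (algebraMap A A')) :
    EtMil.IsFibreSquare A (A ⧸ Module.annihilator A (A' ⧸ LinearMap.range (Algebra.linearMap A A'))) A'
      (A' ⧸ Ideal.map (algebraMap A A') (Module.annihilator A (A' ⧸ LinearMap.range (Algebra.linearMap A A')))) := by
  set I := Module.annihilator A (A' ⧸ LinearMap.range (Algebra.linearMap A A')) with hI
  have hmemI : ∀ a : A, a ∈ I ↔ ∀ a' : A', ∃ x : A, algebraMap A A' x = algebraMap A A' a * a' := by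
    intro a
    rw [hI, Module.mem_annihilator]
    constructor
    · intro h a'
      have := h (Submodule.Quotient.mk a')
      rw [← Submodule.Quotient.mk_smul, Submodule.Quotient.mk_eq_zero] at this
      obtain ⟨x, hx⟩ := this
      exact ⟨x, by rw [← Algebra.smul_def, ← hx]; rfl⟩
    · intro h q
      induction q using Submodule.Quotient.induction_on with
      | _ a' =>
        rw [← Submodule.Quotient.mk_smul, Submodule.Quotient.mk_eq_zero]
        obtain ⟨x, hx⟩ := h a'
        exact ⟨x, by rw [Algebra.smul_def, ← hx]; rfl⟩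
  -- every element of I A' is the image of an element of I
  have hmap : ∀ y ∈ Ideal.map (algebraMap A A') I, ∃ i ∈ I, algebraMap A A' i = y := by
    intro y hy
    refine Submodule.span_induction ?_ ?_ ?_ ?_ hy
    · rintro _ ⟨i, hi, rfl⟩
      exact ⟨i, hi, rfl⟩
    · exact ⟨0, I.zero_mem, map_zero _⟩
    · rintro _ _ _ _ ⟨i, hi, rfl⟩ ⟨j, hj, rfl⟩
      exact ⟨i + j, I.add_mem hi hj, map_add _ _ _⟩
    · rintro a' _ _ ⟨i, hi, rfl⟩
      obtain ⟨x, hx⟩ := (hmemI i).1 hi a'
      refine ⟨x, ?_, ?_⟩
      · rw [hmemI]
        intro a''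
        obtain ⟨z, hz⟩ := (hmemI i).1 hi (a' * a'')
        exact ⟨z, by rw [hz, hx]; ring⟩
      · rw [hx, smul_eq_mul, mul_comm]
  refine ⟨Ideal.Quotient.mk_surjective, ?_⟩
  intro b a' hba
  obtain ⟨a₀, rfl⟩ := Ideal.Quotient.mk_surjective b
  have h1 : algebraMap A A' a₀ - a' ∈ Ideal.map (algebraMap A A') I := by
    rw [← Ideal.Quotient.eq]
    exact hba
  obtain ⟨i, hi, hi'⟩ := hmap _ h1
  refine ⟨a₀ - i, ⟨?_, ?_⟩, ?_⟩
  · change Ideal.Quotient.mk I (a₀ - i) = Ideal.Quotient.mk I a₀
    rw [Ideal.Quotient.eq]
    have : a₀ - i - a₀ = -i := by ring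
    rw [this]
    exact I.neg_mem hi
  · rw [map_sub, hi']; ring
  · rintro y ⟨_, hy⟩
    apply hinj
    rw [hy, map_sub, hi']; ring

end Groth.Agent.S14966
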