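import Groth.Statements.S14984
import Mathlib

set_option autoImplicit false
universe u v w
open HopfRep TensorProduct

namespace Groth.Agent.S14984aux


variable (R : Type u) (A : Type v) (B : Type w)
    [CommRing R] [CommRing A] [HopfAlgebra R A]
    [CommRing B] [Algebra R B] (C : Subalgebra R B)

/-- multiplication `C ⊗ B → B` -/
noncomputable def m : C ⊗[R] B →ₐ[R] B :=
  Algebra.TensorProduct.lift C.val (AlgHom.id R B) (fun _ _ => Commute.all _ _)

theorem m_tmul (c : C) (b : B) : m R B C (c ⊗ₜ b) = (c : B) * b := by
  simp [m]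

/-- `(c ⊗ b) ⊗ (c' ⊗ a) ↦ (c c' b) ⊗ a` -/
noncomputable def M : (C ⊗[R] B) ⊗[C] (C ⊗[R] A) →ₗ[R] B ⊗[R] A :=
  ((m R B C).toLinearMap.rTensor A) ∘ₗ
    ((AlgebraTensorModule.cancelBaseChange R C C (C ⊗[R] B) A).restrictScalars R).toLinearMap

theorem M_tmul (z : C ⊗[R] B) (c' : C) (a : A) :
    M R A B C (z ⊗ₜ[C] (c' ⊗ₜ[R] a)) = m R B C (c' • z) ⊗ₜ a := by
  simp [M]

theorem claim1 (c : C) (x : B ⊗[R] A) :
    M R A B C (AlgebraTensorModule.tensorTensorTensorComm R C R C C C B A (((1 : C) ⊗ₜ[C] c) ⊗ₜ[R] x)) =
      ((c : B) ⊗ₜ[R] (1 : A)) * x := by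
  induction x using TensorProduct.induction_on with
  | zero => simp
  | tmul b a =>
    rw [AlgebraTensorModule.tensorTensorTensorComm_tmul, M_tmul, TensorProduct.smul_tmul', m_tmul,
      Algebra.TensorProduct.tmul_mul_tmul, one_mul]
    simp
  | add x y hx hy =>
    simp only [map_add, TensorProduct.tmul_add, hx, hy, mul_add]

theorem claim2 (β : C ⊗[R] A →ₗ[C] C ⊗[R] B) (x : A ⊗[R] A) :
    M R A B C ((β.rTensor (C ⊗[R] A))
      (AlgebraTensorModule.tensorTensorTensorComm R C R C C C A A (((1 : C) ⊗ₜ[C] (1 : C)) ⊗ₜ[R] x))) =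
    (((m R B C).toLinearMap ∘ₗ β.restrictScalars R ∘ₗ (TensorProduct.mk R C A 1)).rTensor A) x := by
  induction x using TensorProduct.induction_on with
  | zero => simp
  | tmul a a' =>
    rw [AlgebraTensorModule.tensorTensorTensorComm_tmul, LinearMap.rTensor_tmul, M_tmul, one_smul,
      LinearMap.rTensor_tmul]
    rfl
  | add x y hx hy =>
    simp only [map_add, TensorProduct.tmul_add, hx, hy]


end Groth.Agent.S14984aux

open Groth.Agent.S14984aux

namespace Groth.Agent.S14984

/-- Let `R` be a commutative ring, `A` a commutative Hopf algebra over `R`, flat as an `R`-module, `B` a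
commutative `R`-algebra with a coaction of `A` that is an algebra map (an action of `G = Spec A` on
`X = Spec B`), and `C = B^A` the ring of invariants. If the action base-changed along `R → C` — the
`C`-Hopf algebra `C ⊗ A` coacting on `C ⊗ B` — is tame, i.e. there is a `C`-linear comodule map `β :
C ⊗ A → C ⊗ B` (regular coaction on the source, base-changed coaction on the target) with `β 1 = 1`,
then the original action is tame: there is an `R`-linear comodule map `α : A → B` with `α 1 = 1`.
(The converse is the case `S = C` of stability of tameness under base change. The published lemma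
also lists, as a third equivalent condition, tameness of the action of `C ⊗ A` on `B` itself over
`C`; that condition is not stated here.) -/
theorem result
    (R : Type u) (A : Type v) (B : Type w)
    [CommRing R] [CommRing A] [HopfAlgebra R A] [Module.Flat R A]
    [CommRing B] [Algebra R B] [HopfRep.Comod R A B] [GLin.IsCoactAlg R A B]
    (h : ∃ β : TensorProduct R ↥(GLin.invariants R A B) A →ₗ[↥(GLin.invariants R A B)]
        TensorProduct R ↥(GLin.invariants R A B) B,
      @Hoch.IsComodHom ↥(GLin.invariants R A B) _ (TensorProduct R ↥(GLin.invariants R A B) A) _ _ _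
        (TensorProduct R ↥(GLin.invariants R A B) A) _ _
        (HopfRep.Comod.regular ↥(GLin.invariants R A B) (TensorProduct R ↥(GLin.invariants R A B) A))
        (TensorProduct R ↥(GLin.invariants R A B) B) _ _
        (CoactBr.Comod.baseChange R ↥(GLin.invariants R A B) A B) β ∧ β 1 = 1) :
    ∃ α : A →ₗ[R] B, Hoch.IsComodHom A α ∧ α 1 = 1 := by
  obtain ⟨β, hβ, h1⟩ := h
  unfold Hoch.IsComodHom at hβ
  refine ⟨(m R B (GLin.invariants R A B)).toLinearMap ∘ₗ β.restrictScalars R ∘ₗ
    (TensorProduct.mk R (GLin.invariants R A B) A 1), ?_, ?_⟩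
  · unfold Hoch.IsComodHom
    apply LinearMap.ext
    intro a
    have hb := LinearMap.congr_fun hβ ((1 : GLin.invariants R A B) ⊗ₜ[R] a)
    simp only [LinearMap.comp_apply] at hb
    have hb2 := congrArg (M R A B (GLin.invariants R A B)) hb
    simp only [LinearMap.comp_apply, TensorProduct.mk_apply, LinearMap.coe_restrictScalars,
      AlgHom.toLinearMap_apply]
    rw [← claim2]
    -- the right-hand side is `hb2`'s right-hand side
    refine Eq.trans ?_ hb2
    -- left: `ρ (m z) = M (coact z)` for all `z`
    generalize β ((1 : GLin.invariants R A B) ⊗ₜ[R] a) = z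
    induction z using TensorProduct.induction_on with
    | zero => simp
    | tmul c b =>
      rw [m_tmul, GLin.IsCoactAlg.coact_mul (k := R) (A := A), CoactBr.baseChange_coact_tmul, claim1]
      congr 1
      exact c.2
    | add x y hx hy =>
      rw [map_add, map_add, hx, hy, map_add, map_add]
  · simp only [LinearMap.comp_apply, TensorProduct.mk_apply, LinearMap.coe_restrictScalars,
      AlgHom.toLinearMap_apply]
    rw [← Algebra.TensorProduct.one_def, h1, map_one]

end Groth.Agent.S14984
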