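import Groth.Statements.S14994
import Mathlib
import Groth.Agent.Lib.helper22.TorsionFreeEmbed

set_option autoImplicit false
universe u
open CAlg

namespace Groth.Agent.S14994

section Helpers

theorem main (A : Type u) [CommRing A] [IsDomain A]
    (M : Type u) [AddCommGroup M] [Module A M] [Module.Finite A M]
    (N : Submodule A M) :
    (LinearMap.range N.subtype.dualMap.dualMap).comap (Module.Dual.eval A M) ≤
      (Submodule.torsion A (M ⧸ N)).comap N.mkQ := by
  intro m hm
  rw [Submodule.mem_comap] at hm ⊢
  obtain ⟨ν, hν⟩ := hm
  by_contra hnt
  -- the torsion-free quotient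
  let Q := M ⧸ N
  let Q' := Q ⧸ Submodule.torsion A Q
  haveI : NoZeroSMulDivisors A Q' := by
    refine ⟨fun {c x} hcx => ?_⟩
    by_cases hc : c = 0
    · exact Or.inl hc
    · right
      have hx : x ∈ Submodule.torsion A Q' := by
        rw [Submodule.mem_torsion_iff]
        exact ⟨⟨c, mem_nonZeroDivisors_of_ne_zero hc⟩, hcx⟩
      have hbot : Submodule.torsion A Q' = ⊥ := Submodule.QuotientTorsion.torsion_eq_bot
      rw [hbot] at hx
      exact (Submodule.mem_bot A).1 hx
  obtain ⟨n, χ, hχ⟩ := Groth.Agent.Lib.helper22.TorsionFreeEmbed.exists_injective_to_free A Q'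
  have hne : χ ((Submodule.torsion A Q).mkQ (N.mkQ m)) ≠ 0 := by
    intro h0
    have := hχ (h0.trans (map_zero χ).symm)
    rw [Submodule.mkQ_apply, Submodule.Quotient.mk_eq_zero] at this
    exact hnt this
  obtain ⟨i, hi⟩ : ∃ i, χ ((Submodule.torsion A Q).mkQ (N.mkQ m)) i ≠ 0 := by
    by_contra hall
    push_neg at hall
    exact hne (funext hall)
  let φ : Module.Dual A M :=
    (LinearMap.proj i) ∘ₗ χ ∘ₗ (Submodule.torsion A Q).mkQ ∘ₗ N.mkQ
  have hφN : N.subtype.dualMap φ = 0 := by
    ext x
    simp only [LinearMap.dualMap_apply, Submodule.subtype_apply, LinearMap.zero_apply]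
    change χ ((Submodule.torsion A Q).mkQ (N.mkQ (x : M))) i = 0
    have : N.mkQ (x : M) = 0 := by
      rw [Submodule.mkQ_apply, Submodule.Quotient.mk_eq_zero]; exact x.2
    rw [this, map_zero, map_zero]
    rfl
  have h1 : Module.Dual.eval A M m φ = φ m := rfl
  have h2 : N.subtype.dualMap.dualMap ν φ = ν (N.subtype.dualMap φ) := rfl
  rw [← hν, h2, hφN, map_zero] at h1
  exact hi h1.symm

end Helpers

/-- Let A be a Noetherian integrally closed domain, M a finitely generated torsion-free A-module, N a
submodule of M and ι : M → M** the canonical map to the double dual. Write N** → M** for the double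
dual of the inclusion N → M. Then every m ∈ M whose image ι(m) lies in the image of N** is a torsion
element modulo N: some nonzero a ∈ A satisfies a·m ∈ N. In other words the preimage of N** under ι
is contained in the saturation of N in M (the preimage of the torsion submodule of M/N), and the two
coincide when M/N is torsion-free. (The published statement asserts equality of the preimage with
the saturation for every N; for N = xA inside M = A = k[x] the saturation is all of M while N** has
image xA = N under the identification M** = M, so only the inclusion stated here holds, and it is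
the inclusion later used, for saturated N, where the two sides agree.) -/
theorem result (A : Type u) [CommRing A] [IsDomain A]
    [IsNoetherianRing A] [IsIntegrallyClosed A]
    (M : Type u) [AddCommGroup M] [Module A M] [Module.Finite A M] [NoZeroSMulDivisors A M]
    (N : Submodule A M) :
    (LinearMap.range N.subtype.dualMap.dualMap).comap (Module.Dual.eval A M) ≤
      (Submodule.torsion A (M ⧸ N)).comap N.mkQ := by
  exact main A M N

end Groth.Agent.S14994
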