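import Groth.Statements.S14997
import Mathlib

set_option autoImplicit false
open HilbPol

namespace Groth.Agent.S14997

section Helpers

open Polynomial

lemma lex_iff {ℓ : ℕ} (x y x' y' : Fin ℓ → ℚ)
    (h : ∀ j : Fin ℓ, (∀ i : Fin ℓ, i < j → x i = y i) → x' j - y' j = x j - y j) :
    toLex x ≤ toLex y ↔ toLex x' ≤ toLex y' := by
  have key : ∀ (x y x' y' : Fin ℓ → ℚ),
      (∀ j : Fin ℓ, (∀ i : Fin ℓ, i < j → x i = y i) → x' j - y' j = x j - y j) →
      toLex x < toLex y → toLex x' < toLex y' := by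
    intro x y x' y' h hlt
    obtain ⟨i, hi1, hi2⟩ := hlt
    refine ⟨i, ?_, ?_⟩
    · intro j hj
      have := h j (fun i' hi' => hi1 i' (hi'.trans hj))
      have h2 : x j = y j := hi1 j hj
      change x' j = y' j
      linarith
    · have := h i (fun i' hi' => hi1 i' hi')
      change x i < y i at hi2
      change x' i < y' i
      linarith
  have h' : ∀ j : Fin ℓ, (∀ i : Fin ℓ, i < j → y i = x i) → y' j - x' j = y j - x j := by
    intro j hj
    have := h j (fun i hi => (hj i hi).symm)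
    linarith
  constructor
  · intro hle
    rcases lt_or_eq_of_le hle with hlt | heq
    · exact (key x y x' y' h hlt).le
    · have hxy : x = y := toLex.injective heq
      have : x' = y' := by
        funext j
        have := h j (fun i _ => by rw [hxy])
        rw [hxy] at this
        linarith
      rw [this]
  · intro hle
    by_contra hnot
    rw [not_le] at hnot
    have := key y x y' x' h' hnot
    exact absurd hle (not_le.2 this)

lemma coeff_comp_sub (R : ℚ[X]) (a : ℚ) (n N : ℕ) (hN : R.natDegree < N) :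
    (R.comp (X - C a)).coeff n = ∑ i ∈ Finset.range N, (i.choose n : ℚ) * R.coeff i * (-a) ^ (i - n) := by
  have h1 : R.comp (X - C a) = taylor (-a) R := by
    rw [taylor_apply, sub_eq_add_neg, C_neg]
  rw [h1, taylor_coeff, hasseDeriv_apply, Polynomial.sum_over_range' _ _ N hN, eval_finset_sum]
  · refine Finset.sum_congr rfl fun i _ => ?_
    rw [eval_monomial]
  · intro i
    simp

lemma delta_coeff (R : ℚ[X]) (a : ℚ) (n m : ℕ) (hR : R.natDegree = n + m) :
    (R - R.comp (X - C a)).coeff n * (n.factorial : ℚ) =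
      ∑ k ∈ Finset.range m, (-1) ^ k * a ^ (k + 1) / ((k + 1).factorial : ℚ) *
        (R.coeff (n + 1 + k) * ((n + 1 + k).factorial : ℚ)) := by
  rw [coeff_sub, coeff_comp_sub R a n (n + 1 + m) (by omega), Finset.sum_range_add,
    Finset.sum_range_succ]
  have h0 : ∑ i ∈ Finset.range n, (i.choose n : ℚ) * R.coeff i * (-a) ^ (i - n) = 0 := by
    apply Finset.sum_eq_zero
    intro i hi
    rw [Nat.choose_eq_zero_of_lt (Finset.mem_range.1 hi)]
    simp
  rw [h0]
  simp only [Nat.choose_self, Nat.cast_one, one_mul, Nat.sub_self, pow_zero, mul_one, zero_add]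
  rw [sub_add_cancel_left, neg_mul, Finset.sum_mul, ← Finset.sum_neg_distrib]
  refine Finset.sum_congr rfl fun k _ => ?_
  have hch : ((n + 1 + k).choose n : ℚ) * (n.factorial : ℚ) * ((k + 1).factorial : ℚ) =
      ((n + 1 + k).factorial : ℚ) := by
    have := Nat.add_choose_mul_factorial_mul_factorial n (k + 1)
    rw [show n + (k + 1) = n + 1 + k by ring] at this
    have hsym : (n + 1 + k).choose n = (n + 1 + k).choose (k + 1) :=
      Nat.choose_symm_of_eq_add (by omega)
    rw [hsym]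
    exact_mod_cast this
  have hk : ((k + 1).factorial : ℚ) ≠ 0 := by positivity
  have hsub : n + 1 + k - n = k + 1 := by omega
  rw [hsub, ← hch, neg_pow a (k + 1), pow_succ (-1 : ℚ) k]
  field_simp

theorem main (d ℓ : ℕ) (hℓ : ℓ + 1 ≤ d) (a : ℚ) (ha : a ≠ 0)
    (P Q : ℚ[X]) (hP : P.natDegree = d) (hQ : Q.natDegree = d) (hP0 : P ≠ 0) (hQ0 : Q ≠ 0) :
    toLex (fun j : Fin ℓ => ((P).coeff (d - 1 - (j : ℕ)) * (Nat.factorial (d - 1 - (j : ℕ)) : ℚ)) / ((P).coeff (d) * (Nat.factorial (d) : ℚ))) ≤ toLex (fun j : Fin ℓ => ((Q).coeff (d - 1 - (j : ℕ)) * (Nat.factorial (d - 1 - (j : ℕ)) : ℚ)) / ((Q).coeff (d) * (Nat.factorial (d) : ℚ))) ↔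
      toLex (fun j : Fin ℓ => ((P - P.comp (X - C a)).coeff ((d - 1) - 1 - (j : ℕ)) * (Nat.factorial ((d - 1) - 1 - (j : ℕ)) : ℚ)) / ((P - P.comp (X - C a)).coeff ((d - 1)) * (Nat.factorial ((d - 1)) : ℚ))) ≤
        toLex (fun j : Fin ℓ => ((Q - Q.comp (X - C a)).coeff ((d - 1) - 1 - (j : ℕ)) * (Nat.factorial ((d - 1) - 1 - (j : ℕ)) : ℚ)) / ((Q - Q.comp (X - C a)).coeff ((d - 1)) * (Nat.factorial ((d - 1)) : ℚ))) := by
  apply lex_iff
  intro j hj
  -- general formula
  have formula : ∀ R : ℚ[X], R.natDegree = d → R ≠ 0 →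
      ((R - R.comp (X - C a)).coeff ((d - 1) - 1 - (j : ℕ)) * (Nat.factorial ((d - 1) - 1 - (j : ℕ)) : ℚ)) /
        ((R - R.comp (X - C a)).coeff ((d - 1)) * (Nat.factorial ((d - 1)) : ℚ)) =
      ∑ k ∈ Finset.range ((j : ℕ) + 2), (-1) ^ k * a ^ k / ((k + 1).factorial : ℚ) *
        ((R.coeff (d - 1 - (j : ℕ) + k) * ((d - 1 - (j : ℕ) + k).factorial : ℚ)) /
          (R.coeff d * (d.factorial : ℚ))) := by
    intro R hR hR0
    have hjl : (j : ℕ) < ℓ := j.2
    have hlead : R.coeff d ≠ 0 := by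
      rw [← hR]
      exact leadingCoeff_ne_zero.2 hR0
    have hdf : (d.factorial : ℚ) ≠ 0 := by positivity
    have e1 := delta_coeff R a (d - 1) 1 (by omega)
    have e2 := delta_coeff R a (d - 1 - 1 - (j : ℕ)) ((j : ℕ) + 2) (by omega)
    rw [e1, e2]
    simp only [Finset.sum_range_one, pow_zero, one_mul, zero_add, Nat.factorial_one, Nat.cast_one,
      div_one, pow_one, add_zero]
    rw [show d - 1 + 1 = d by omega, Finset.sum_div]
    refine Finset.sum_congr rfl fun k _ => ?_
    rw [show d - 1 - 1 - (j : ℕ) + 1 + k = d - 1 - (j : ℕ) + k by omega]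
    have hk : ((k + 1).factorial : ℚ) ≠ 0 := by positivity
    field_simp
    ring
  rw [formula P hP hP0, formula Q hQ hQ0, ← Finset.sum_sub_distrib]
  rw [Finset.sum_range_succ, Finset.sum_range_succ']
  have hmid : ∑ k ∈ Finset.range (j : ℕ),
      ((-1) ^ (k + 1) * a ^ (k + 1) / (((k + 1) + 1).factorial : ℚ) *
        ((P.coeff (d - 1 - (j : ℕ) + (k + 1)) * ((d - 1 - (j : ℕ) + (k + 1)).factorial : ℚ)) /
          (P.coeff d * (d.factorial : ℚ))) -
       (-1) ^ (k + 1) * a ^ (k + 1) / (((k + 1) + 1).factorial : ℚ) *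
        ((Q.coeff (d - 1 - (j : ℕ) + (k + 1)) * ((d - 1 - (j : ℕ) + (k + 1)).factorial : ℚ)) /
          (Q.coeff d * (d.factorial : ℚ)))) = 0 := by
    apply Finset.sum_eq_zero
    intro k hk
    have hk' : k < (j : ℕ) := Finset.mem_range.1 hk
    have hjl : (j : ℕ) < ℓ := j.2
    have hi := hj ⟨(j : ℕ) - (k + 1), by omega⟩ (by
      rw [Fin.lt_def]; simp only; omega)
    simp only at hi
    rw [show d - 1 - ((j : ℕ) - (k + 1)) = d - 1 - (j : ℕ) + (k + 1) by omega] at hi
    rw [hi, sub_self]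
  rw [hmid]
  have hjl : (j : ℕ) < ℓ := j.2
  have hlast : d - 1 - (j : ℕ) + ((j : ℕ) + 1) = d := by omega
  have hPl : P.coeff d ≠ 0 := by
    rw [← hP]; exact leadingCoeff_ne_zero.2 hP0
  have hQl : Q.coeff d ≠ 0 := by
    rw [← hQ]; exact leadingCoeff_ne_zero.2 hQ0
  have hdf : (d.factorial : ℚ) ≠ 0 := by positivity
  rw [hlast, div_self (mul_ne_zero hPl hdf), div_self (mul_ne_zero hQl hdf)]
  simp

end Helpers

open Polynomial in
/-- Let d and ℓ be natural numbers with ℓ + 1 ≤ d, let a be a nonzero rational number and let P, Q be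
polynomials with rational coefficients, both of degree exactly d. For a polynomial R of degree e
write R(m) = Σ_i α_i(R) m^i / i! (so α_i(R) = i! · coeff_i(R)) and let r_ℓ(R) ∈ ℚ^ℓ be the vector
(α_{e−1}(R)/α_e(R), …, α_{e−ℓ}(R)/α_e(R)) of the ℓ coefficients after the leading one of the reduced
polynomial R/α_e(R), ordered lexicographically. The polynomials P(m) − P(m − a) and Q(m) − Q(m − a)
have degree d − 1, and r_ℓ(P) ≤ r_ℓ(Q) lexicographically if and only if r_ℓ(P(m) − P(m − a)) ≤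
r_ℓ(Q(m) − Q(m − a)) lexicographically (hence the same with strict inequalities, by exchanging P and
Q). When P and Q are the Hilbert polynomials of pure d-dimensional coherent sheaves E → F on a
polarized projective scheme and D is a hypersurface section of degree a containing no associated
point of E or F, the Hilbert polynomials of E|_D and F|_D are P(m) − P(m − a) and Q(m) − Q(m − a),
and the two sides are the comparisons of the ℓ-truncated reduced Hilbert polynomials p_ℓ(E) ≥ p_ℓ(F)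
and p_ℓ(E|_D) ≥ p_ℓ(F|_D). (The published statement is phrased for the sheaves; this row is the
statement about their Hilbert polynomials that the displayed coefficient formula yields.) -/
theorem result (d ℓ : ℕ) (hℓ : ℓ + 1 ≤ d) (a : ℚ) (ha : a ≠ 0)
    (P Q : ℚ[X]) (hP : P.natDegree = d) (hQ : Q.natDegree = d) (hP0 : P ≠ 0) (hQ0 : Q ≠ 0) :
    toLex (fun j : Fin ℓ => ((P).coeff (d - 1 - (j : ℕ)) * (Nat.factorial (d - 1 - (j : ℕ)) : ℚ)) / ((P).coeff (d) * (Nat.factorial (d) : ℚ))) ≤ toLex (fun j : Fin ℓ => ((Q).coeff (d - 1 - (j : ℕ)) * (Nat.factorial (d - 1 - (j : ℕ)) : ℚ)) / ((Q).coeff (d) * (Nat.factorial (d) : ℚ))) ↔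
      toLex (fun j : Fin ℓ => ((P - P.comp (X - C a)).coeff ((d - 1) - 1 - (j : ℕ)) * (Nat.factorial ((d - 1) - 1 - (j : ℕ)) : ℚ)) / ((P - P.comp (X - C a)).coeff ((d - 1)) * (Nat.factorial ((d - 1)) : ℚ))) ≤
        toLex (fun j : Fin ℓ => ((Q - Q.comp (X - C a)).coeff ((d - 1) - 1 - (j : ℕ)) * (Nat.factorial ((d - 1) - 1 - (j : ℕ)) : ℚ)) / ((Q - Q.comp (X - C a)).coeff ((d - 1)) * (Nat.factorial ((d - 1)) : ℚ))) := by
  exact main d ℓ hℓ a ha P Q hP hQ hP0 hQ0

end Groth.Agent.S14997
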