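import Groth.Statements.S15004
import Mathlib
import Groth.Agent.Lib.helper22.Harb

set_option autoImplicit false
universe u v
open Harb

namespace Groth.Agent.S15004

/-- Let C be a finite family of d curves, recorded as an incidence relation between a type of points and
a finite index type, such that any two distinct curves of the family meet in exactly h points; for a
point p write r_p for the number of curves of the family through p. Then for every curve C_i of the
family, Σ_{p ∈ C_i} (r_p − 1) = h (d − 1), the sum being finitely supported. (The published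
statement is for a transversal arrangement of curves on a geometrically ruled surface with invariant
e, all numerically equivalent to a C₀ + b f, where any two of the curves meet transversally in h =
2ab − a²e points; only this common pairwise intersection count enters the proof, and this row states
the identity for an abstract incidence relation.) -/
theorem result (P : Type u) (ι : Type v) [Fintype ι]
    (inc : P → ι → Prop) (h : ℕ)
    (hfin : ∀ i j : ι, i ≠ j → {p : P | inc p i ∧ inc p j}.Finite)
    (hcount : ∀ i j : ι, i ≠ j → {p : P | inc p i ∧ inc p j}.ncard = h) (i : ι) :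
    ∑ᶠ p ∈ {p : P | inc p i}, (Nat.card {j : ι // inc p j} - 1) = h * (Fintype.card ι - 1) := by
  classical
  set A := {p : P | inc p i ∧ 2 ≤ Nat.card {j : ι // inc p j}} with hA
  have hAfin : A.Finite := Groth.Agent.Lib.helper22.Harb.finite_multiple_on hfin i
  set Af := hAfin.toFinset with hAf
  -- formula for r_p - 1 on C_i
  have hf : ∀ p : P, inc p i → Nat.card {j : ι // inc p j} - 1 =
      ∑ j ∈ Finset.univ.erase i, if inc p j then 1 else 0 := by
    intro p hp
    rw [Groth.Agent.Lib.helper22.Harb.natCard_eq_card_filter, Finset.card_filter,
      ← Finset.add_sum_erase Finset.univ _ (Finset.mem_univ i), if_pos hp]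
    omega
  have hsupp : {p : P | inc p i} ∩ Function.support (fun p => Nat.card {j : ι // inc p j} - 1) =
      ↑Af ∩ Function.support (fun p => Nat.card {j : ι // inc p j} - 1) := by
    ext p
    simp only [Set.mem_inter_iff, Set.mem_setOf_eq, Function.mem_support, hAf,
      Set.Finite.coe_toFinset, hA]
    constructor
    · rintro ⟨h1, h2⟩
      exact ⟨⟨h1, by omega⟩, h2⟩
    · rintro ⟨⟨h1, _⟩, h2⟩
      exact ⟨h1, h2⟩
  rw [finsum_mem_eq_sum_of_inter_support_eq _ hsupp]
  have h1 : ∑ p ∈ Af, (Nat.card {j : ι // inc p j} - 1) =
      ∑ p ∈ Af, ∑ j ∈ Finset.univ.erase i, if inc p j then 1 else 0 := by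
    apply Finset.sum_congr rfl
    intro p hp
    have : p ∈ A := by simpa [hAf] using hp
    exact hf p this.1
  rw [h1, Finset.sum_comm]
  have h2 : ∀ j ∈ Finset.univ.erase i, (∑ p ∈ Af, if inc p j then 1 else 0) = h := by
    intro j hj
    have hji : j ≠ i := (Finset.mem_erase.1 hj).1
    rw [← Finset.card_filter]
    have : Af.filter (fun p => inc p j) = (hfin i j hji.symm).toFinset := by
      ext p
      simp only [Finset.mem_filter, Set.Finite.mem_toFinset, Set.mem_setOf_eq, hAf, hA]
      constructor
      · rintro ⟨⟨h3, _⟩, h4⟩; exact ⟨h3, h4⟩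
      · rintro ⟨h3, h4⟩
        exact ⟨⟨h3, (Groth.Agent.Lib.helper22.Harb.two_le_iff inc p).2 ⟨i, j, hji.symm, h3, h4⟩⟩, h4⟩
    rw [this, ← Set.ncard_eq_toFinset_card _ (hfin i j hji.symm), hcount i j hji.symm]
  rw [Finset.sum_congr rfl h2, Finset.sum_const, Finset.card_erase_of_mem (Finset.mem_univ i),
    Finset.card_univ, smul_eq_mul, mul_comm]

end Groth.Agent.S15004
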