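import Groth.Statements.S15005
import Mathlib
import Groth.Agent.Lib.helper22.Harb

set_option autoImplicit false
universe u v
open Harb

namespace Groth.Agent.S15005

/-- Let C be a finite family of d curves, recorded as an incidence relation between a type of points and
a finite index type, such that any two distinct curves of the family meet in exactly h points; let
t_k be the number of k-fold points (points lying on exactly k curves of the family). Then f₂ − f₁ =
Σ_{k ≥ 2} k(k − 1) t_k equals h d(d − 1), where f_i = Σ_{k ≥ 2} k^i t_k. (The published statement is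
for a transversal arrangement of curves on a geometrically ruled surface with invariant e, all
numerically equivalent to a C₀ + b f, where any two of the curves meet transversally in h = 2ab −
a²e points; only this common pairwise intersection count enters the proof, and this row states the
identity for an abstract incidence relation.) -/
theorem result (P : Type u) (ι : Type v) [Fintype ι]
    (inc : P → ι → Prop) (h : ℕ)
    (hfin : ∀ i j : ι, i ≠ j → {p : P | inc p i ∧ inc p j}.Finite)
    (hcount : ∀ i j : ι, i ≠ j → {p : P | inc p i ∧ inc p j}.ncard = h) :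
    ∑ k ∈ Finset.Icc 2 (Fintype.card ι), k * (k - 1) * Nat.card {p : P // Nat.card {j : ι // inc p j} = k} =
      h * (Fintype.card ι * (Fintype.card ι - 1)) := by
  classical
  set T := {p : P | 2 ≤ Nat.card {j : ι // inc p j}} with hT
  have hTfin : T.Finite := Groth.Agent.Lib.helper22.Harb.finite_multiple hfin
  set Tf := hTfin.toFinset with hTf
  let r : P → ℕ := fun p => Nat.card {j : ι // inc p j}
  have hr_le : ∀ p : P, r p ≤ Fintype.card ι := by
    intro p
    show Nat.card {j : ι // inc p j} ≤ Fintype.card ι
    rw [Groth.Agent.Lib.helper22.Harb.natCard_eq_card_filter, ← Finset.card_univ]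
    exact Finset.card_le_card (Finset.filter_subset _ _)
  have hmemT : ∀ p : P, p ∈ Tf ↔ 2 ≤ r p := by
    intro p; simp [hTf, hT, r]
  -- step 1: rewrite the cardinalities
  have hcard : ∀ k ∈ Finset.Icc 2 (Fintype.card ι),
      Nat.card {p : P // Nat.card {j : ι // inc p j} = k} = (Tf.filter (fun p => r p = k)).card := by
    intro k hk
    have hk2 : 2 ≤ k := (Finset.mem_Icc.1 hk).1
    have hfinset : {p : P | Nat.card {j : ι // inc p j} = k}.Finite :=
      hTfin.subset (fun p hp => by
        show 2 ≤ Nat.card {j : ι // inc p j}
        have : Nat.card {j : ι // inc p j} = k := hp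
        omega)
    change Nat.card ↥{p : P | Nat.card {j : ι // inc p j} = k} = _
    rw [Nat.card_coe_set_eq, Set.ncard_eq_toFinset_card _ hfinset]
    congr 1
    ext p
    simp only [Set.Finite.mem_toFinset, Set.mem_setOf_eq, Finset.mem_filter, hmemT]
    constructor
    · intro h1; exact ⟨by show 2 ≤ Nat.card {j : ι // inc p j}; omega, h1⟩
    · rintro ⟨_, h1⟩; exact h1
  rw [Finset.sum_congr rfl (fun k hk => by rw [hcard k hk])]
  -- step 2: fiberwise
  have hfib : ∑ k ∈ Finset.Icc 2 (Fintype.card ι), k * (k - 1) * (Tf.filter (fun p => r p = k)).card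
      = ∑ p ∈ Tf, r p * (r p - 1) := by
    rw [← Finset.sum_fiberwise_of_maps_to (s := Tf) (t := Finset.Icc 2 (Fintype.card ι)) (g := r)
      (fun p hp => Finset.mem_Icc.2 ⟨(hmemT p).1 hp, hr_le p⟩)]
    apply Finset.sum_congr rfl
    intro k _
    rw [Finset.sum_congr rfl (fun p hp => by rw [(Finset.mem_filter.1 hp).2]),
      Finset.sum_const, smul_eq_mul, mul_comm]
  rw [hfib]
  -- step 3: r(r-1) as a double sum
  have hrr : ∀ p : P, r p * (r p - 1) =
      ∑ i, ∑ j ∈ Finset.univ.erase i, if inc p i ∧ inc p j then 1 else 0 := by
    intro p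
    have hf : ∀ i : ι, inc p i → ∑ j ∈ Finset.univ.erase i, (if inc p j then 1 else 0) = r p - 1 := by
      intro i hp
      show _ = Nat.card {j : ι // inc p j} - 1
      rw [Groth.Agent.Lib.helper22.Harb.natCard_eq_card_filter, Finset.card_filter,
        ← Finset.add_sum_erase Finset.univ _ (Finset.mem_univ i), if_pos hp]
      omega
    have h1 : ∀ i : ι, (∑ j ∈ Finset.univ.erase i, if inc p i ∧ inc p j then 1 else 0) =
        if inc p i then r p - 1 else 0 := by
      intro i
      by_cases hi : inc p i
      · rw [if_pos hi, ← hf i hi]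
        apply Finset.sum_congr rfl
        intro j _
        simp [hi]
      · rw [if_neg hi]
        apply Finset.sum_eq_zero
        intro j _
        simp [hi]
    rw [Finset.sum_congr rfl (fun i _ => h1 i), ← Finset.sum_filter, Finset.sum_const, smul_eq_mul]
    congr 1
    show Nat.card {j : ι // inc p j} = _
    rw [Groth.Agent.Lib.helper22.Harb.natCard_eq_card_filter]
  rw [Finset.sum_congr rfl (fun p _ => hrr p), Finset.sum_comm]
  have h2 : ∀ i : ι, (∑ p ∈ Tf, ∑ j ∈ Finset.univ.erase i, if inc p i ∧ inc p j then 1 else 0) =
      h * (Fintype.card ι - 1) := by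
    intro i
    rw [Finset.sum_comm]
    have h3 : ∀ j ∈ Finset.univ.erase i, (∑ p ∈ Tf, if inc p i ∧ inc p j then 1 else 0) = h := by
      intro j hj
      have hji : j ≠ i := (Finset.mem_erase.1 hj).1
      rw [← Finset.card_filter]
      have : Tf.filter (fun p => inc p i ∧ inc p j) = (hfin i j hji.symm).toFinset := by
        ext p
        simp only [Finset.mem_filter, Set.Finite.mem_toFinset, Set.mem_setOf_eq, hmemT]
        constructor
        · rintro ⟨_, h4⟩; exact h4
        · intro h4
          exact ⟨(Groth.Agent.Lib.helper22.Harb.two_le_iff inc p).2 ⟨i, j, hji.symm, h4.1, h4.2⟩, h4⟩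
      rw [this, ← Set.ncard_eq_toFinset_card _ (hfin i j hji.symm), hcount i j hji.symm]
    rw [Finset.sum_congr rfl h3, Finset.sum_const, Finset.card_erase_of_mem (Finset.mem_univ i),
      Finset.card_univ, smul_eq_mul, mul_comm]
  rw [Finset.sum_congr rfl (fun i _ => h2 i), Finset.sum_const, Finset.card_univ, smul_eq_mul]
  ring

end Groth.Agent.S15005
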