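import Groth.Statements.S15006
import Mathlib
import Groth.Agent.Lib.helper22.Harb

set_option autoImplicit false
universe u v
open Harb

namespace Groth.Agent.S15006

/-- Let C be a finite family of d ≥ 2 curves, recorded as an incidence relation between a type of points
and a finite index type, such that any two distinct curves of the family meet in exactly h ≥ 1
points and no point lies on every curve of the family. Then f₀ ≥ d: the number of multiple points
(points lying on at least two of the curves) is at least the number of curves. (The published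
statement is for a transversal arrangement of d ≥ 4 curves on a geometrically ruled surface with
invariant e ≥ 4, all numerically equivalent to a C₀ + b f with a ≥ 1 and b ≥ ae and with no point
common to all of them, satisfying in addition either a ≥ 2, or a = 1 with some four of the curves
having no point in common, where any two of the curves meet transversally in h = 2ab − a²e ≥ 1
points; only d ≥ 2, h ≥ 1 and the absence of a common point enter the proof, and this row states the
bound for an abstract incidence relation.) -/
theorem result (P : Type u) (ι : Type v) [Fintype ι]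
    (inc : P → ι → Prop) (h : ℕ) (hh : 0 < h) (hd : 2 ≤ Fintype.card ι)
    (hfin : ∀ i j : ι, i ≠ j → {p : P | inc p i ∧ inc p j}.Finite)
    (hcount : ∀ i j : ι, i ≠ j → {p : P | inc p i ∧ inc p j}.ncard = h)
    (hnone : ∀ p : P, ∃ i : ι, ¬ inc p i) :
    Fintype.card ι ≤ Nat.card {p : P // 2 ≤ Nat.card {j : ι // inc p j}} := by
  classical
  set T := {p : P | 2 ≤ Nat.card {j : ι // inc p j}} with hT
  have hTfin : T.Finite := Groth.Agent.Lib.helper22.Harb.finite_multiple hfin
  change Fintype.card ι ≤ Nat.card ↥T
  rw [Nat.card_coe_set_eq, Set.ncard_eq_toFinset_card T hTfin]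
  set Tf := hTfin.toFinset with hTf
  -- incidence numbers
  let n : ι → ι → ℚ := fun i j => ((Tf.filter (fun p => inc p i ∧ inc p j)).card : ℚ)
  have hn_ne : ∀ i j : ι, i ≠ j → n i j = h := by
    intro i j hij
    have : Tf.filter (fun p => inc p i ∧ inc p j) = (hfin i j hij).toFinset := by
      ext p
      simp only [Finset.mem_filter, Set.Finite.mem_toFinset, Set.mem_setOf_eq, hTf, hT]
      constructor
      · rintro ⟨_, h1⟩; exact h1
      · intro h1
        exact ⟨(Groth.Agent.Lib.helper22.Harb.two_le_iff inc p).2 ⟨i, j, hij, h1.1, h1.2⟩, h1⟩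
    show ((Tf.filter (fun p => inc p i ∧ inc p j)).card : ℚ) = h
    rw [this, ← Set.ncard_eq_toFinset_card _ (hfin i j hij), hcount i j hij]
  have hn_self : ∀ i : ι, (h : ℚ) + 1 ≤ n i i := by
    intro i
    have h1 := Groth.Agent.Lib.helper22.Harb.succ_le_ncard_multiple_on h hh hd hfin hcount hnone i
    have hAfin := Groth.Agent.Lib.helper22.Harb.finite_multiple_on hfin i
    have : Tf.filter (fun p => inc p i ∧ inc p i) = hAfin.toFinset := by
      ext p
      simp only [Finset.mem_filter, Set.Finite.mem_toFinset, Set.mem_setOf_eq, hTf, hT, and_self]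
      exact and_comm
    show (h : ℚ) + 1 ≤ ((Tf.filter (fun p => inc p i ∧ inc p i)).card : ℚ)
    rw [this, ← Set.ncard_eq_toFinset_card _ hAfin]
    exact_mod_cast h1
  -- vectors
  let v : ι → (↥Tf → ℚ) := fun i p => if inc (p : P) i then 1 else 0
  have hprod : ∀ i j : ι, ∑ p : ↥Tf, v i p * v j p = n i j := by
    intro i j
    rw [Finset.sum_coe_sort Tf (fun p => (if inc p i then (1 : ℚ) else 0) * (if inc p j then 1 else 0))]
    show _ = ((Tf.filter (fun p => inc p i ∧ inc p j)).card : ℚ)
    rw [Finset.card_filter, Nat.cast_sum]
    apply Finset.sum_congr rfl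
    intro p _
    by_cases h1 : inc p i <;> by_cases h2 : inc p j <;> simp [h1, h2]
  have hli : LinearIndependent ℚ v := by
    rw [Fintype.linearIndependent_iff]
    intro g hg
    have hS : ∀ p : ↥Tf, ∑ i, g i * v i p = 0 := by
      intro p
      have := congrFun hg p
      simpa [Finset.sum_apply, Pi.smul_apply, smul_eq_mul] using this
    have hQ : ∑ i, ∑ j, g i * g j * n i j = 0 := by
      have h0 : ∑ p : ↥Tf, (∑ i, g i * v i p) * (∑ j, g j * v j p) = 0 := by
        apply Finset.sum_eq_zero
        intro p _
        rw [hS p, zero_mul]
      rw [← h0]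
      calc ∑ i, ∑ j, g i * g j * n i j
          = ∑ i, ∑ j, ∑ p : ↥Tf, g i * v i p * (g j * v j p) := by
            apply Finset.sum_congr rfl; intro i _
            apply Finset.sum_congr rfl; intro j _
            rw [← hprod, Finset.mul_sum]
            apply Finset.sum_congr rfl; intro p _
            ring
        _ = ∑ i, ∑ p : ↥Tf, ∑ j, g i * v i p * (g j * v j p) := by
            apply Finset.sum_congr rfl; intro i _
            exact Finset.sum_comm
        _ = ∑ p : ↥Tf, ∑ i, ∑ j, g i * v i p * (g j * v j p) := Finset.sum_comm
        _ = ∑ p : ↥Tf, (∑ i, g i * v i p) * ∑ j, g j * v j p := by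
            apply Finset.sum_congr rfl; intro p _
            rw [Finset.sum_mul_sum]
    have hn : ∀ i j : ι, n i j = (h : ℚ) + if i = j then (n i i - h) else 0 := by
      intro i j
      by_cases hij : i = j
      · subst hij; simp
      · rw [if_neg hij, add_zero, hn_ne i j hij]
    have hQ' : (h : ℚ) * (∑ i, g i) ^ 2 + ∑ i, g i ^ 2 * (n i i - h) = 0 := by
      rw [← hQ]
      have : ∀ i, ∑ j, g i * g j * n i j = (h : ℚ) * (g i * ∑ j, g j) + g i ^ 2 * (n i i - h) := by
        intro i
        calc ∑ j, g i * g j * n i j
            = ∑ j, ((h : ℚ) * (g i * g j) + if i = j then g i * g j * (n i i - h) else 0) := by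
              apply Finset.sum_congr rfl
              intro j _
              rw [hn i j]
              split_ifs <;> ring
          _ = (h : ℚ) * (g i * ∑ j, g j) + g i ^ 2 * (n i i - h) := by
              rw [Finset.sum_add_distrib, Finset.sum_ite_eq, if_pos (Finset.mem_univ i),
                ← Finset.mul_sum, ← Finset.mul_sum]
              ring
      simp_rw [this]
      rw [Finset.sum_add_distrib, ← Finset.mul_sum, ← Finset.sum_mul]
      ring
    have hpos1 : 0 ≤ (h : ℚ) * (∑ i, g i) ^ 2 := by positivity
    have hpos2 : ∀ i ∈ Finset.univ, 0 ≤ g i ^ 2 * (n i i - h) := by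
      intro i _
      have := hn_self i
      have h3 : 0 ≤ n i i - h := by linarith
      positivity
    have hsum0 : ∑ i, g i ^ 2 * (n i i - h) = 0 := by
      have := Finset.sum_nonneg hpos2
      linarith
    intro i
    have := (Finset.sum_eq_zero_iff_of_nonneg hpos2).1 hsum0 i (Finset.mem_univ i)
    have h4 : n i i - h ≠ 0 := by
      have := hn_self i
      intro h5
      linarith
    rcases mul_eq_zero.1 this with h5 | h5
    · exact pow_eq_zero_iff (two_ne_zero) |>.1 h5
    · exact absurd h5 h4
  have := hli.fintype_card_le_finrank
  rw [Module.finrank_fintype_fun_eq_card, Fintype.card_coe] at this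
  exact this

end Groth.Agent.S15006
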