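import Groth.Statements.S15007
import Mathlib
import Groth.Agent.Lib.helper22.Harb

set_option autoImplicit false
universe u v
open Harb

namespace Groth.Agent.S15007

/-- Let C be a finite family of d ≥ 2 curves, recorded as an incidence relation between a type of points
and a finite index type, such that any two distinct curves of the family meet in exactly h ≥ 1
points and no point lies on every curve of the family. Then f₀ ≥ h + 2: the number of multiple
points (points lying on at least two of the curves) is at least h + 2. (The published claim reads f₀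
≥ 2ab − a²e + 2 for a transversal arrangement of d ≥ 4 curves on a geometrically ruled surface with
invariant e ≥ 4, all numerically equivalent to a C₀ + b f with a ≥ 1 and b ≥ ae and with no point
common to all of them, satisfying in addition either a ≥ 2, or a = 1 with some four of the curves
having no point in common, where any two of the curves meet transversally in h = 2ab − a²e ≥ 1
points; only d ≥ 2, h ≥ 1 and the absence of a common point enter the proof, and this row states the
bound for an abstract incidence relation.) -/
theorem result (P : Type u) (ι : Type v) [Fintype ι]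
    (inc : P → ι → Prop) (h : ℕ) (hh : 0 < h) (hd : 2 ≤ Fintype.card ι)
    (hfin : ∀ i j : ι, i ≠ j → {p : P | inc p i ∧ inc p j}.Finite)
    (hcount : ∀ i j : ι, i ≠ j → {p : P | inc p i ∧ inc p j}.ncard = h)
    (hnone : ∀ p : P, ∃ i : ι, ¬ inc p i) :
    h + 2 ≤ Nat.card {p : P // 2 ≤ Nat.card {j : ι // inc p j}} := by
  classical
  set T := {p : P | 2 ≤ Nat.card {j : ι // inc p j}} with hT
  have hTfin : T.Finite := Groth.Agent.Lib.helper22.Harb.finite_multiple hfin
  change h + 2 ≤ Nat.card ↥T
  rw [Nat.card_coe_set_eq]
  -- pick i and j ≠ i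
  obtain ⟨i, j, hij⟩ : ∃ i j : ι, i ≠ j := by
    have : 1 < Fintype.card ι := hd
    exact Fintype.exists_pair_of_one_lt_card this
  set Ai := {p : P | inc p i ∧ 2 ≤ Nat.card {j : ι // inc p j}} with hAi
  set Aj := {p : P | inc p j ∧ 2 ≤ Nat.card {j : ι // inc p j}} with hAj
  have hAi1 : h + 1 ≤ Ai.ncard :=
    Groth.Agent.Lib.helper22.Harb.succ_le_ncard_multiple_on h hh hd hfin hcount hnone i
  have hAj1 : h + 1 ≤ Aj.ncard :=
    Groth.Agent.Lib.helper22.Harb.succ_le_ncard_multiple_on h hh hd hfin hcount hnone j
  have hAifin : Ai.Finite := Groth.Agent.Lib.helper22.Harb.finite_multiple_on hfin i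
  have hAiT : Ai ⊆ T := fun p hp => hp.2
  have hAjT : Aj ⊆ T := fun p hp => hp.2
  obtain ⟨p, hpj, hpi⟩ : ∃ p, p ∈ Aj ∧ p ∉ Ai := by
    by_contra hcon
    push_neg at hcon
    have hsub : Aj ⊆ {p : P | inc p i ∧ inc p j} := fun p hp => ⟨(hcon p hp).1, hp.1⟩
    have := Set.ncard_le_ncard hsub (hfin i j hij)
    rw [hcount i j hij] at this
    omega
  have hins : insert p Ai ⊆ T := Set.insert_subset (hAjT hpj) hAiT
  have h1 := Set.ncard_le_ncard hins hTfin
  rw [Set.ncard_insert_of_notMem hpi hAifin] at h1
  omega

end Groth.Agent.S15007
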