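import Groth.Statements.S15010
import Mathlib

set_option autoImplicit false
universe u
open TFCurv

namespace Groth.Agent.S15010

section Helpers

section
variable {O K : Type*} [CommRing O] [IsDomain O] [Field K] [Algebra O K] [IsFractionRing O K]
  {n : ℕ}

theorem single_mem (M : Submodule O (Fin n → K))
    (hM1 : Submodule.pi Set.univ (fun _ : Fin n => (1 : Submodule O K)) ≤ M) (j : Fin n) :
    (Pi.single j (1 : K) : Fin n → K) ∈ M := by
  classical
  apply hM1
  rw [Submodule.mem_pi]
  intro i _
  rw [Submodule.mem_one]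
  by_cases h : i = j
  · subst h; exact ⟨1, by simp⟩
  · exact ⟨0, by simp [Pi.single_eq_of_ne h]⟩

theorem key (M N : Submodule O (Fin n → K))
    (hM1 : Submodule.pi Set.univ (fun _ : Fin n => (1 : Submodule O K)) ≤ M)
    (ψ : M →ₗ[O] N) (x : M) :
    ((ψ x : N) : Fin n → K) =
      (Matrix.of (fun i j => ((ψ ⟨Pi.single j 1, single_mem M hM1 j⟩ : N) : Fin n → K) i)).mulVec
        (x : Fin n → K) := by
  classical
  obtain ⟨d, hd⟩ := IsLocalization.exist_integer_multiples (nonZeroDivisors O)
    (Finset.univ : Finset (Fin n)) (fun i => (x : Fin n → K) i)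
  have hd0 : algebraMap O K (d : O) ≠ 0 := by
    intro h
    exact nonZeroDivisors.ne_zero d.2 (IsFractionRing.injective O K (by rw [h, map_zero]))
  choose c hc using fun i => hd i (Finset.mem_univ i)
  -- hc i : algebraMap O K (c i) = d • x i
  set e : Fin n → M := fun j => ⟨Pi.single j 1, single_mem M hM1 j⟩ with he
  have hdx : (d : O) • x = ∑ i, c i • e i := by
    apply Subtype.ext
    funext k
    rw [Submodule.coe_smul, Submodule.coe_sum, Finset.sum_apply, Pi.smul_apply]
    have h1 : ∀ i, ((c i • e i : M) : Fin n → K) k = if i = k then algebraMap O K (c i) else 0 := by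
      intro i
      rw [Submodule.coe_smul, Pi.smul_apply]
      show c i • (Pi.single i (1 : K) : Fin n → K) k = _
      by_cases h : i = k
      · subst h; rw [Pi.single_eq_same, if_pos rfl, Algebra.smul_def, mul_one]
      · rw [Pi.single_eq_of_ne (Ne.symm h), if_neg h, smul_zero]
    rw [Finset.sum_congr rfl (fun i _ => h1 i), Finset.sum_ite_eq' Finset.univ k, if_pos (Finset.mem_univ k), hc k]
  have h2 := congrArg (fun y => ((ψ y : N) : Fin n → K)) hdx
  simp only [map_smul, map_sum, Submodule.coe_smul, Submodule.coe_sum] at h2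
  funext k
  have h3 := congrFun h2 k
  rw [Pi.smul_apply, Finset.sum_apply] at h3
  rw [Matrix.mulVec, dotProduct]
  simp only [Matrix.of_apply]
  apply mul_left_cancel₀ hd0
  rw [← Algebra.smul_def, h3, Finset.mul_sum]
  apply Finset.sum_congr rfl
  intro i _
  rw [Pi.smul_apply, Algebra.smul_def, hc i]
  change _ = algebraMap O K (d : O) * (_ * _)
  rw [Algebra.smul_def]
  ring

end

theorem main (O : Type u) [CommRing O] [IsDomain O] (K : Type u) [Field K] [Algebra O K]
    [IsFractionRing O K] (n : ℕ) (M N : Submodule O (Fin n → K))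
    (hM1 : Submodule.pi Set.univ (fun _ : Fin n => (1 : Submodule O K)) ≤ M)
    (hM2 : M ≤ Submodule.pi Set.univ
      (fun _ : Fin n => (Subalgebra.toSubmodule (integralClosure O K))))
    (hN1 : Submodule.pi Set.univ (fun _ : Fin n => (1 : Submodule O K)) ≤ N)
    (hN2 : N ≤ Submodule.pi Set.univ
      (fun _ : Fin n => (Subalgebra.toSubmodule (integralClosure O K))))
    (φ : ↥M ≃ₗ[O] ↥N) :
    ∃ A : Matrix (Fin n) (Fin n) ↥(integralClosure O K), IsUnit A ∧ ∀ x : ↥M,
      ((φ x : ↥N) : Fin n → K) =
        (A.map (algebraMap ↥(integralClosure O K) K)).mulVec (x : Fin n → K) := by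
  classical
  set eM : Fin n → M := fun j => ⟨Pi.single j 1, single_mem M hM1 j⟩ with heM
  set eN : Fin n → N := fun j => ⟨Pi.single j 1, single_mem N hN1 j⟩ with heN
  have hNmem : ∀ (y : N) (i : Fin n), ((y : Fin n → K) i) ∈ integralClosure O K := by
    intro y i
    have := hN2 y.2
    rw [Submodule.mem_pi] at this
    exact this i (Set.mem_univ i)
  have hMmem : ∀ (y : M) (i : Fin n), ((y : Fin n → K) i) ∈ integralClosure O K := by
    intro y i
    have := hM2 y.2
    rw [Submodule.mem_pi] at this
    exact this i (Set.mem_univ i)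
  let A : Matrix (Fin n) (Fin n) ↥(integralClosure O K) :=
    Matrix.of fun i j => ⟨((φ (eM j) : N) : Fin n → K) i, hNmem _ i⟩
  let B : Matrix (Fin n) (Fin n) ↥(integralClosure O K) :=
    Matrix.of fun i j => ⟨((φ.symm (eN j) : M) : Fin n → K) i, hMmem _ i⟩
  have hA : ∀ x : M, ((φ x : N) : Fin n → K) =
      (A.map (algebraMap ↥(integralClosure O K) K)).mulVec (x : Fin n → K) := by
    intro x
    exact key M N hM1 φ.toLinearMap x
  have hB : ∀ y : N, ((φ.symm y : M) : Fin n → K) =
      (B.map (algebraMap ↥(integralClosure O K) K)).mulVec (y : Fin n → K) := by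
    intro y
    exact key N M hN1 φ.symm.toLinearMap y
  have hinj : Function.Injective (algebraMap ↥(integralClosure O K) K) := Subtype.val_injective
  have hAB : A * B = 1 := by
    apply Matrix.map_injective hinj
    show (A * B).map (algebraMap ↥(integralClosure O K) K) =
      (1 : Matrix (Fin n) (Fin n) ↥(integralClosure O K)).map (algebraMap ↥(integralClosure O K) K)
    rw [Matrix.map_mul]
    ext i j
    rw [Matrix.mul_apply]
    have h1 := congrFun (hA (φ.symm (eN j))) i
    rw [φ.apply_symm_apply] at h1
    rw [Matrix.mulVec, dotProduct] at h1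
    have h2 : (Matrix.map (1 : Matrix (Fin n) (Fin n) ↥(integralClosure O K))
        (algebraMap ↥(integralClosure O K) K)) i j = ((eN j : N) : Fin n → K) i := by
      rw [Matrix.map_apply, Matrix.one_apply]
      show _ = (Pi.single j (1 : K) : Fin n → K) i
      by_cases h : i = j
      · subst h; rw [if_pos rfl, map_one, Pi.single_eq_same]
      · rw [if_neg h, map_zero, Pi.single_eq_of_ne h]
    rw [h2, h1]
    rfl
  refine ⟨A, ?_, hA⟩
  exact ⟨⟨A, B, hAB, mul_eq_one_comm.mp hAB⟩, rfl⟩

end Helpers

/-- Let O be a one-dimensional Noetherian local domain with algebraically closed residue field whose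
integral closure O~ in its fraction field K is a finite O-module. If M and N are O-submodules of K^n
with O^n ⊆ M ⊆ O~^n and O^n ⊆ N ⊆ O~^n, then every O-linear isomorphism M → N is the restriction of
x ↦ A·x for an invertible n × n matrix A with entries in O~. -/
theorem result (O : Type u) [CommRing O] [IsDomain O] [IsNoetherianRing O] [IsLocalRing O] (hdim : ringKrullDim O = 1) [IsAlgClosed (IsLocalRing.ResidueField O)] (K : Type u) [Field K] [Algebra O K] [IsFractionRing O K] (hfin : Module.Finite O ↥(integralClosure O K)) (n : ℕ) (M N : Submodule O (Fin n → K)) (hM1 : Submodule.pi Set.univ (fun _ : Fin n => (1 : Submodule O K)) ≤ M) (hM2 : M ≤ Submodule.pi Set.univ (fun _ : Fin n => (Subalgebra.toSubmodule (integralClosure O K)))) (hN1 : Submodule.pi Set.univ (fun _ : Fin n => (1 : Submodule O K)) ≤ N) (hN2 : N ≤ Submodule.pi Set.univ (fun _ : Fin n => (Subalgebra.toSubmodule (integralClosure O K)))) (φ : ↥M ≃ₗ[O] ↥N) : ∃ A : Matrix (Fin n) (Fin n) ↥(integralClosure O K), IsUnit A ∧ ∀ x : ↥M, ((φ x : ↥N) : Fin n → K) = (A.map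 (algebraMap ↥(integralClosure O K) K)).mulVec (x : Fin n → K) := by
  exact main O K n M N hM1 hM2 hN1 hN2 φ

end Groth.Agent.S15010
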