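import Groth.Statements.S15013
import Mathlib
import Groth.Agent.Lib.helper22.TorsionFreeEmbed

set_option autoImplicit false
universe u
open CategoryTheory
open TFCurv

namespace Groth.Agent.S15013

section Helpers

open Groth.Agent.Lib.helper22.TorsionFreeEmbed

theorem main (O : Type u) [CommRing O] [IsDomain O] (W : ModuleCat.{u} O)
    (hW : HasInjectiveDimensionLT W 2) (M : Type u) [AddCommGroup M] [Module O M]
    [Module.Finite O M] [NoZeroSMulDivisors O M] (i : ℕ) (hi : 1 ≤ i) :
    Subsingleton (Abelian.Ext (ModuleCat.of O M) W i) := by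
  by_cases h2 : 2 ≤ i
  · exact HasInjectiveDimensionLT.subsingleton W 2 i h2 _
  have hi1 : i = 1 := by omega
  subst hi1
  obtain ⟨n, χ, hχ⟩ := exists_injective_to_free O M
  let S : ShortComplex (ModuleCat.{u} O) :=
    ShortComplex.mk (ModuleCat.ofHom χ) (ModuleCat.ofHom (LinearMap.range χ).mkQ) (by
      ext x
      simp)
  have hS : S.ShortExact := by
    refine ShortComplex.ShortExact.mk' ?_ ?_ ?_
    · rw [ShortComplex.moduleCat_exact_iff_range_eq_ker]
      simp [S]
    · exact (ModuleCat.mono_iff_injective _).2 hχ
    · exact (ModuleCat.epi_iff_surjective _).2 (Submodule.mkQ_surjective _)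
  haveI : Projective S.X₂ := by
    change Projective (ModuleCat.of O (Fin n → O))
    exact (IsProjective.iff_projective _).1 inferInstance
  refine ⟨fun x y => ?_⟩
  have key : ∀ x : Abelian.Ext (ModuleCat.of O M) W 1, x = 0 := by
    intro x
    have h4 : Subsingleton (Abelian.Ext S.X₃ W 2) :=
      HasInjectiveDimensionLT.subsingleton W 2 2 le_rfl _
    have h0 : hS.extClass.comp (show Abelian.Ext S.X₁ W 1 from x) (show 1 + 1 = 2 from rfl) = 0 :=
      h4.elim _ _
    obtain ⟨x₂, hx₂⟩ := Abelian.Ext.contravariant_sequence_exact₁ hS W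
      (show Abelian.Ext S.X₁ W 1 from x) (show 1 + 1 = 2 from rfl) h0
    rw [Abelian.Ext.eq_zero_of_projective x₂, Abelian.Ext.comp_zero] at hx₂
    exact hx₂.symm
  rw [key x, key y]

end Helpers

/-- Let O be a one-dimensional Noetherian local domain with algebraically closed residue field whose
integral closure O~ in its fraction field K is a finite O-module, and let w be a canonical ideal of
O, taken here as a nonzero finitely generated O-submodule of K whose injective dimension as an
O-module is at most one. Then Ext^i_O(M, w) vanishes for all i ≥ 1 and every finitely generated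
torsion-free O-module M. -/
theorem result (O : Type u) [CommRing O] [IsDomain O] [IsNoetherianRing O] [IsLocalRing O] (hdim : ringKrullDim O = 1) [IsAlgClosed (IsLocalRing.ResidueField O)] (K : Type u) [Field K] [Algebra O K] [IsFractionRing O K] (hfin : Module.Finite O ↥(integralClosure O K)) (ω : Submodule O K) (hω0 : ω ≠ ⊥) (hωfg : ω.FG) (hωinj : HasInjectiveDimensionLT (ModuleCat.of O ↥ω) 2) (M : Type u) [AddCommGroup M] [Module O M] [Module.Finite O M] [NoZeroSMulDivisors O M] (i : ℕ) (hi : 1 ≤ i) : Subsingleton (Abelian.Ext (ModuleCat.of O M) (ModuleCat.of O ↥ω) i) := by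
  exact main O (ModuleCat.of O ↥ω) hωinj M i hi

end Groth.Agent.S15013
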