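import Groth.Statements.S15015
import Mathlib
import Groth.Agent.Lib.helper22.PSClosed

set_option autoImplicit false
universe u
open TFCurv

namespace Groth.Agent.S15015

section Helpers

open PowerSeries

/-- conductor element: `a ≠ 0` in `A` with `a * f ∈ A` for all `f`. -/
theorem exists_conductor_elt (k : Type u) [Field k] (A : Subalgebra k (PowerSeries k))
    (hA : Module.Finite ↥A (PowerSeries k))
    (hbir : ∀ f : PowerSeries k, ∃ a ∈ A, a ≠ 0 ∧ a * f ∈ A) :
    ∃ a ∈ A, a ≠ 0 ∧ ∀ f : PowerSeries k, a * f ∈ A := by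
  classical
  obtain ⟨S, hS⟩ := hA.fg_top
  choose d hdA hd0 hd using hbir
  refine ⟨∏ s ∈ S, d s, Subalgebra.prod_mem A (fun s _ => hdA s),
    Finset.prod_ne_zero_iff.2 (fun s _ => hd0 s), ?_⟩
  let a := ∏ s ∈ S, d s
  let T : Submodule ↥A (PowerSeries k) :=
    { carrier := {f | a * f ∈ A}
      add_mem' := by
        intro f g hf hg
        show a * (f + g) ∈ A
        rw [mul_add]; exact A.add_mem hf hg
      zero_mem' := by show a * 0 ∈ A; rw [mul_zero]; exact A.zero_mem
      smul_mem' := by
        intro c f hf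
        show a * (c • f) ∈ A
        rw [Algebra.smul_def, ← mul_assoc, mul_comm a, mul_assoc]
        exact A.mul_mem c.2 hf }
  have hT : T = ⊤ := by
    rw [eq_top_iff, ← hS, Submodule.span_le]
    intro s hs
    show a * s ∈ A
    have : a = (∏ s' ∈ S.erase s, d s') * d s := by
      rw [Finset.prod_erase_mul S d hs]
    rw [this, mul_assoc]
    exact A.mul_mem (Subalgebra.prod_mem A (fun s' _ => hdA s')) (hd s)
  intro f
  have : f ∈ T := by rw [hT]; trivial
  exact this

theorem main (k : Type u) [Field k] (A : Subalgebra k (PowerSeries k))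
    (hA : Module.Finite ↥A (PowerSeries k))
    (hcl : ∀ f : PowerSeries k, (∀ n : ℕ, ∃ g ∈ A, (n : ℕ∞) ≤ PowerSeries.order (f - g)) → f ∈ A)
    (hbir : ∀ f : PowerSeries k, ∃ a ∈ A, a ≠ 0 ∧ a * f ∈ A) (Γ : Set ℕ)
    (hΓ : ∀ n : ℕ, n ∈ Γ ↔ ∃ f ∈ A, PowerSeries.order f = n) :
    Γᶜ.Finite ∧ Module.finrank k (PowerSeries k ⧸ Subalgebra.toSubmodule A) = Γᶜ.ncard := by
  classical
  obtain ⟨a, haA, ha0, ha⟩ := exists_conductor_elt k A hA hbir
  obtain ⟨e, he⟩ : ∃ e : ℕ, PowerSeries.order a = e := by
    have := (PowerSeries.order_finite_iff_ne_zero).2 ha0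
    exact ⟨(PowerSeries.order a).toNat, (ENat.coe_toNat (ne_of_lt this)).symm⟩
  have hΓe : ∀ n, e ≤ n → n ∈ Γ := by
    intro n hn
    rw [hΓ]
    refine ⟨a * PowerSeries.X ^ (n - e), ha _, ?_⟩
    rw [PowerSeries.order_mul, he, PowerSeries.order_X_pow]
    have : e + (n - e) = n := by omega
    exact_mod_cast this
  have hfin : Γᶜ.Finite := (Set.finite_lt_nat e).subset (fun n hn => by
    by_contra h
    exact hn (hΓe n (not_lt.1 h)))
  refine ⟨hfin, ?_⟩
  have hAe : ∀ h : PowerSeries k, (e : ℕ∞) ≤ PowerSeries.order h → h ∈ A := fun h hh =>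
    Groth.Agent.Lib.helper22.PSClosed.mem_of_closed_of_orders (Subalgebra.toSubmodule A)
      (fun f hf => hcl f hf) e (fun n hn => by
        obtain ⟨b, hbA, hb⟩ := (hΓ n).1 (hΓe n hn)
        exact ⟨b, hbA, hb⟩) h hh
  let G := ↥hfin.toFinset
  let v : G → PowerSeries k := fun g => PowerSeries.X ^ (g : ℕ)
  let W : Submodule k (PowerSeries k) := Subalgebra.toSubmodule A ⊔ Submodule.span k (Set.range v)
  have hW : ∀ n : ℕ, ∀ f : PowerSeries k, ((e - n : ℕ) : ℕ∞) ≤ PowerSeries.order f → f ∈ W := by
    intro n
    induction n with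
    | zero =>
      intro f hf
      exact Submodule.mem_sup_left (hAe f (by simpa using hf))
    | succ n ih =>
      intro f hf
      set m := e - (n + 1) with hm
      have hflt : ∀ i < m, PowerSeries.coeff i f = 0 := fun i hi =>
        PowerSeries.coeff_of_lt_order i (lt_of_lt_of_le (by exact_mod_cast hi) hf)
      have hstep : ∀ g : PowerSeries k, (∀ i < m + 1, PowerSeries.coeff i g = 0) → g ∈ W := by
        intro g hg
        apply ih
        refine le_trans ?_ (PowerSeries.nat_le_order g (m + 1) hg)
        have : e - n ≤ m + 1 := by omega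
        exact_mod_cast this
      by_cases hmΓ : m ∈ Γ
      · obtain ⟨b, hbA, hb⟩ := (hΓ m).1 hmΓ
        have hbm : PowerSeries.coeff m b ≠ 0 := (PowerSeries.order_eq_nat.1 hb).1
        have hblt : ∀ i < m, PowerSeries.coeff i b = 0 := (PowerSeries.order_eq_nat.1 hb).2
        have h1 : f - (PowerSeries.coeff m f / PowerSeries.coeff m b) • b ∈ W := by
          apply hstep
          intro i hi
          rw [map_sub, map_smul, smul_eq_mul]
          rcases Nat.lt_succ_iff_lt_or_eq.1 hi with hi | rfl
          · rw [hflt i hi, hblt i hi, mul_zero, sub_zero]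
          · rw [div_mul_cancel₀ _ hbm, sub_self]
        have h2 : (PowerSeries.coeff m f / PowerSeries.coeff m b) • b ∈ W :=
          Submodule.mem_sup_left ((Subalgebra.toSubmodule A).smul_mem _ hbA)
        have := W.add_mem h1 h2
        simpa using this
      · have hmG : m ∈ hfin.toFinset := by simpa using hmΓ
        have h1 : f - (PowerSeries.coeff m f) • (PowerSeries.X ^ m : PowerSeries k) ∈ W := by
          apply hstep
          intro i hi
          rw [map_sub, map_smul, smul_eq_mul, PowerSeries.coeff_X_pow]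
          rcases Nat.lt_succ_iff_lt_or_eq.1 hi with hi | rfl
          · rw [hflt i hi, if_neg (by omega), mul_zero, sub_zero]
          · rw [if_pos rfl, mul_one, sub_self]
        have h2 : (PowerSeries.coeff m f) • (PowerSeries.X ^ m : PowerSeries k) ∈ W :=
          Submodule.mem_sup_right (Submodule.smul_mem _ _
            (Submodule.subset_span ⟨⟨m, hmG⟩, rfl⟩))
        have := W.add_mem h1 h2
        simpa using this
  have hWtop : ∀ f : PowerSeries k, f ∈ W := fun f => hW e f (by simp)
  let Φ : (G → k) →ₗ[k] (PowerSeries k ⧸ Subalgebra.toSubmodule A) :=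
    (Subalgebra.toSubmodule A).mkQ ∘ₗ Fintype.linearCombination k v
  have hcoeff : ∀ (c : G → k) (i : ℕ), PowerSeries.coeff i (Fintype.linearCombination k v c) =
      if h : i ∈ hfin.toFinset then c ⟨i, h⟩ else 0 := by
    intro c i
    rw [Fintype.linearCombination_apply, map_sum]
    simp only [map_smul, smul_eq_mul, v, PowerSeries.coeff_X_pow]
    split_ifs with h
    · rw [Finset.sum_eq_single (⟨i, h⟩ : G)]
      · simp
      · intro b _ hb
        rw [if_neg, mul_zero]
        intro hib
        exact hb (Subtype.ext hib.symm)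
      · intro h'; exact absurd (Finset.mem_univ _) h'
    · apply Finset.sum_eq_zero
      intro b _
      rw [if_neg, mul_zero]
      intro hib
      exact h (hib ▸ b.2)
  have hinj : Function.Injective Φ := by
    rw [← LinearMap.ker_eq_bot, LinearMap.ker_eq_bot']
    intro c hc
    have hmem : Fintype.linearCombination k v c ∈ Subalgebra.toSubmodule A := by
      simpa [Φ] using hc
    set q := Fintype.linearCombination k v c with hq
    by_contra hc0
    have hq0 : q ≠ 0 := by
      intro h0
      apply hc0
      ext g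
      have := hcoeff c (g : ℕ)
      rw [← hq, h0, map_zero, dif_pos g.2] at this
      exact this.symm
    have hord : (PowerSeries.order q).toNat ∈ Γ := by
      rw [hΓ]
      exact ⟨q, hmem, (ENat.coe_toNat (ne_of_lt ((PowerSeries.order_finite_iff_ne_zero).2 hq0))).symm⟩
    have hne := PowerSeries.coeff_order hq0
    rw [hq, hcoeff] at hne
    split_ifs at hne with h
    · have : (PowerSeries.order q).toNat ∈ Γᶜ := by simpa using h
      exact this hord
    · exact hne rfl
  have hsurj : Function.Surjective Φ := by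
    intro y
    obtain ⟨f, rfl⟩ := Submodule.Quotient.mk_surjective _ y
    obtain ⟨a', ha', s, hs, rfl⟩ := Submodule.mem_sup.1 (hWtop f)
    rw [← Fintype.range_linearCombination] at hs
    obtain ⟨c, rfl⟩ := hs
    refine ⟨c, ?_⟩
    simp only [Φ, LinearMap.comp_apply, Submodule.mkQ_apply]
    rw [eq_comm, Submodule.Quotient.eq]
    simpa using ha'
  have hequiv := LinearEquiv.ofBijective Φ ⟨hinj, hsurj⟩
  rw [← hequiv.finrank_eq, Module.finrank_fintype_fun_eq_card, Fintype.card_coe,
    Set.ncard_eq_toFinset_card Γᶜ hfin]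

end Helpers

/-- Let k be an algebraically closed field and A ≠ k[[t]] a k-subalgebra of k[[t]] that is closed in the
t-adic topology, over which k[[t]] is a finite module, and such that every power series is carried
into A by multiplication with some nonzero element of A (so k[[t]] lies in the fraction field of A
and is its normalisation, as for the complete local ring of a unibranch curve singularity), and let
Γ ⊆ ℕ be the set of t-orders of the nonzero elements of A (its value semigroup). Then ℕ ∖ Γ is
finite and the k-dimension of k[[t]]/A equals the number of gaps of Γ. -/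
theorem result (k : Type u) [Field k] [IsAlgClosed k] (A : Subalgebra k (PowerSeries k)) (hA : Module.Finite ↥A (PowerSeries k)) (hcl : ∀ f : PowerSeries k, (∀ n : ℕ, ∃ g ∈ A, (n : ℕ∞) ≤ PowerSeries.order (f - g)) → f ∈ A) (hsing : A ≠ ⊤) (hbir : ∀ f : PowerSeries k, ∃ a ∈ A, a ≠ 0 ∧ a * f ∈ A) (Γ : Set ℕ) (hΓ : ∀ n : ℕ, n ∈ Γ ↔ ∃ f ∈ A, PowerSeries.order f = n) : Γᶜ.Finite ∧ Module.finrank k (PowerSeries k ⧸ Subalgebra.toSubmodule A) = Γᶜ.ncard := by
  exact main k A hA hcl hbir Γ hΓ

end Groth.Agent.S15015
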