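import Groth.Statements.S15016
import Mathlib
import Groth.Agent.Lib.helper22.PSClosed

set_option autoImplicit false
universe u
open TFCurv

namespace Groth.Agent.S15016

/-- Let k be an algebraically closed field and A ≠ k[[t]] a k-subalgebra of k[[t]] that is closed in the
t-adic topology and over which k[[t]] is a finite module (as for the complete local ring of a
unibranch curve singularity inside its normalisation), and let Γ ⊆ ℕ be the set of t-orders of the
nonzero elements of A (its value semigroup); let c be the conductor of Γ, so that every n ≥ c lies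
in Γ and c − 1 does not. Then for a power series f, f · k[[t]] ⊆ A holds exactly when the order of f
is at least c: the conductor of A in k[[t]] is t^c · k[[t]], of codimension c. -/
theorem result (k : Type u) [Field k] [IsAlgClosed k] (A : Subalgebra k (PowerSeries k)) (hA : Module.Finite ↥A (PowerSeries k)) (hcl : ∀ f : PowerSeries k, (∀ n : ℕ, ∃ g ∈ A, (n : ℕ∞) ≤ PowerSeries.order (f - g)) → f ∈ A) (hsing : A ≠ ⊤) (Γ : Set ℕ) (hΓ : ∀ n : ℕ, n ∈ Γ ↔ ∃ f ∈ A, PowerSeries.order f = n) (c : ℕ) (hc : ∀ n : ℕ, c ≤ n → n ∈ Γ) (hc0 : c ≠ 0) (hc1 : c - 1 ∉ Γ) (f : PowerSeries k) : (∀ g : PowerSeries k, g * f ∈ A) ↔ (c : ℕ∞) ≤ PowerSeries.order f := by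
  classical
  constructor
  · intro hf
    by_cases hf0 : f = 0
    · rw [hf0, PowerSeries.order_zero]; exact le_top
    by_contra hlt
    push_neg at hlt
    -- ord f = m < c
    obtain ⟨m, hm⟩ : ∃ m : ℕ, PowerSeries.order f = m := by
      have := (PowerSeries.order_finite_iff_ne_zero).2 hf0
      exact ⟨(PowerSeries.order f).toNat, (ENat.coe_toNat (ne_of_lt this)).symm⟩
    rw [hm] at hlt
    have hmc : m < c := by exact_mod_cast hlt
    apply hc1
    rw [hΓ]
    refine ⟨PowerSeries.X ^ (c - 1 - m) * f, hf _, ?_⟩
    rw [PowerSeries.order_mul, PowerSeries.order_X_pow, hm]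
    have : c - 1 - m + m = c - 1 := by omega
    exact_mod_cast this
  · intro hf g
    have hgf : (c : ℕ∞) ≤ PowerSeries.order (g * f) := by
      rw [PowerSeries.order_mul]
      exact le_trans hf le_add_self
    have := Groth.Agent.Lib.helper22.PSClosed.mem_of_closed_of_orders
      (Subalgebra.toSubmodule A) (fun f h => hcl f h) c
      (fun n hn => by
        obtain ⟨b, hbA, hb⟩ := (hΓ n).1 (hc n hn)
        exact ⟨b, hbA, hb⟩) (g * f) hgf
    exact this

end Groth.Agent.S15016
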