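import Groth.Statements.S15017
import Mathlib

set_option autoImplicit false
open TFCurv

namespace Groth.Agent.S15017

/-- Let Γ be a numerical semigroup (a submonoid of (ℕ, +) with finite complement), Γ ≠ ℕ, with conductor
c (every n ≥ c lies in Γ, c − 1 does not). If Γ is symmetric (for x < c, x is a gap exactly when c −
1 − x ∈ Γ) and has multiplicity greater than 2 (neither 1 nor 2 lies in Γ), then Γ is generated by
its elements smaller than c: every minimal generator of Γ is less than the conductor. -/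
theorem result (Γ : AddSubmonoid ℕ) (c : ℕ) (hc : ∀ n : ℕ, c ≤ n → n ∈ Γ) (hc0 : c ≠ 0) (hc1 : c - 1 ∉ Γ) (hsymm : ∀ x : ℕ, x < c → (x ∉ Γ ↔ c - 1 - x ∈ Γ)) (he : (1 : ℕ) ∉ Γ ∧ (2 : ℕ) ∉ Γ) : AddSubmonoid.closure {γ : ℕ | γ ∈ Γ ∧ γ < c} = Γ := by
  apply le_antisymm
  · rw [AddSubmonoid.closure_le]
    rintro γ ⟨hγ, _⟩
    exact hγ
  · have hex : ∃ n, n ∈ Γ ∧ n ≠ 0 := ⟨c, hc c le_rfl, hc0⟩
    classical
    set e := Nat.find hex with he_def
    have heΓ : e ∈ Γ := (Nat.find_spec hex).1
    have he0 : e ≠ 0 := (Nat.find_spec hex).2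
    have hemin : ∀ γ, γ ∈ Γ → γ ≠ 0 → e ≤ γ := fun γ h1 h2 => Nat.find_min' hex ⟨h1, h2⟩
    have he3 : 3 ≤ e := by
      by_contra h
      have : e = 1 ∨ e = 2 := by omega
      rcases this with h | h
      · exact he.1 (h ▸ heΓ)
      · exact he.2 (h ▸ heΓ)
    have hgap_lt : ∀ g, g ∉ Γ → g < c := fun g hg => by
      by_contra h
      exact hg (hc g (by omega))
    have hec : e < c := by
      have h1 : e ≤ c := hemin c (hc c le_rfl) hc0
      by_contra h
      have h2 : e = c := by omega
      have h3 : c - 1 - 1 ∈ Γ := (hsymm 1 (by omega)).1 he.1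
      have := hemin _ h3 (by omega)
      omega
    have stepB : ∀ d g : ℕ, g + d = c → g ∉ Γ → ∃ x, x ∉ Γ ∧ x + e ∈ Γ ∧ x % e = g % e := by
      intro d
      induction d using Nat.strong_induction_on with
      | _ d ih =>
        intro g hgd hg
        by_cases h : g + e ∈ Γ
        · exact ⟨g, hg, h, rfl⟩
        · have hlt : g + e < c := hgap_lt _ h
          obtain ⟨x, hx1, hx2, hx3⟩ := ih (d - e) (by omega) (g + e) (by omega) h
          exact ⟨x, hx1, hx2, by rw [hx3, Nat.add_mod_right]⟩
    obtain ⟨x₁, hx₁, hx₁e, hx₁m⟩ := stepB (c - 1) 1 (by omega) he.1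
    obtain ⟨x₂, hx₂, hx₂e, hx₂m⟩ := stepB (c - 2) 2 (by have := hgap_lt 2 he.2; omega) he.2
    have h1m : 1 % e = 1 := Nat.mod_eq_of_lt (by omega)
    have h2m : 2 % e = 2 := Nat.mod_eq_of_lt (by omega)
    obtain ⟨x, hx, hxe, hxc⟩ : ∃ x, x ∉ Γ ∧ x + e ∈ Γ ∧ x ≠ c - 1 := by
      by_cases h : x₁ = c - 1
      · refine ⟨x₂, hx₂, hx₂e, ?_⟩
        intro h'
        rw [h, ← h', hx₂m, h2m, h1m] at hx₁m
        omega
      · exact ⟨x₁, hx₁, hx₁e, h⟩
    have heC : e ∈ AddSubmonoid.closure {γ : ℕ | γ ∈ Γ ∧ γ < c} :=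
      AddSubmonoid.subset_closure ⟨heΓ, hec⟩
    have main : ∀ n, n ∈ Γ → n ∈ AddSubmonoid.closure {γ : ℕ | γ ∈ Γ ∧ γ < c} := by
      intro n
      induction n using Nat.strong_induction_on with
      | _ n ih =>
        intro hn
        by_cases hnc : n < c
        · exact AddSubmonoid.subset_closure ⟨hn, hnc⟩
        · have hnc' : c ≤ n := by omega
          by_cases hne : n - e ∈ Γ
          · have := ih (n - e) (by omega) hne
            have e1 : n = (n - e) + e := by omega
            rw [e1]
            exact AddSubmonoid.add_mem _ this heC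
          · have h1 := hgap_lt _ hne
            have h2 : c - 1 - (n - e) ∈ Γ := (hsymm _ h1).1 hne
            have h3 : c - 1 - (n - e) = 0 := by
              by_contra h0
              have := hemin _ h2 h0
              omega
            have hn' : n = c - 1 + e := by omega
            have hxlt := hgap_lt x hx
            have h4 : c - 1 - x ∈ Γ := (hsymm x hxlt).1 hx
            have e1 : n = (x + e) + (c - 1 - x) := by omega
            have i1 := ih (x + e) (by omega) hxe
            have i2 := ih (c - 1 - x) (by omega) h4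
            rw [e1]
            exact AddSubmonoid.add_mem _ i1 i2
    exact fun n hn => main n hn

end Groth.Agent.S15017
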