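import Groth.Statements.S15018
import Mathlib

set_option autoImplicit false
open TFCurv

namespace Groth.Agent.S15018

/-- Let Γ be a numerical semigroup (a submonoid of (ℕ, +) with finite complement), Γ ≠ ℕ, with conductor
c (every n ≥ c lies in Γ, c − 1 does not). Then Γ is symmetric (for x < c, x is a gap exactly when c
− 1 − x ∈ Γ) if and only if there is exactly one gap n of Γ such that Γ ∪ {n} is again stable under
adding elements of Γ, i.e. n + γ ∈ Γ for every nonzero γ ∈ Γ. -/
theorem result (Γ : AddSubmonoid ℕ) (c : ℕ) (hc : ∀ n : ℕ, c ≤ n → n ∈ Γ) (hc0 : c ≠ 0) (hc1 : c - 1 ∉ Γ) : (∀ x : ℕ, x < c → (x ∉ Γ ↔ c - 1 - x ∈ Γ)) ↔ ∃! n : ℕ, n ∉ Γ ∧ ∀ γ : ℕ, γ ∈ Γ → γ ≠ 0 → n + γ ∈ Γ := by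
  have hPF : c - 1 ∉ Γ ∧ ∀ γ : ℕ, γ ∈ Γ → γ ≠ 0 → c - 1 + γ ∈ Γ := by
    refine ⟨hc1, fun γ _ hγ0 => hc _ (by omega)⟩
  constructor
  · intro hsymm
    refine ⟨c - 1, hPF, ?_⟩
    rintro n ⟨hn, hn'⟩
    have hlt : n < c := by
      by_contra h
      exact hn (hc n (by omega))
    have h1 : c - 1 - n ∈ Γ := (hsymm n hlt).1 hn
    by_contra hne
    have h2 := hn' _ h1 (by omega)
    have e : n + (c - 1 - n) = c - 1 := by omega
    rw [e] at h2
    exact hc1 h2
  · rintro ⟨n₀, hn₀, huniq⟩
    have hn₀' : c - 1 = n₀ := huniq _ hPF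
    intro x hx
    constructor
    · -- strong induction on d = c - 1 - x
      intro hxΓ
      have key : ∀ d x : ℕ, x + d + 1 = c → x ∉ Γ → d ∈ Γ := by
        intro d
        induction d using Nat.strong_induction_on with
        | _ d ih =>
          intro x hxd hxΓ
          by_contra hd
          have hd0 : d ≠ 0 := by
            rintro rfl
            exact hd Γ.zero_mem
          have hnotPF : ¬ (x ∉ Γ ∧ ∀ γ : ℕ, γ ∈ Γ → γ ≠ 0 → x + γ ∈ Γ) := by
            intro hpf
            have := huniq x hpf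
            omega
          push_neg at hnotPF
          obtain ⟨γ, hγ, hγ0, hxγ⟩ := hnotPF hxΓ
          have hlt : x + γ < c := by
            by_contra h
            exact hxγ (hc _ (by omega))
          have hd' : d - γ ∈ Γ := ih (d - γ) (by omega) (x + γ) (by omega) hxγ
          have : d = (d - γ) + γ := by omega
          rw [this] at hd
          exact hd (Γ.add_mem hd' hγ)
      exact key (c - 1 - x) x (by omega) hxΓ
    · intro h1 h2
      have := Γ.add_mem h2 h1
      have e : x + (c - 1 - x) = c - 1 := by omega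
      rw [e] at this
      exact hc1 this

end Groth.Agent.S15018
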