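import Groth.Statements.S15019
import Mathlib

set_option autoImplicit false
open TFCurv

namespace Groth.Agent.S15019

/-- Let Γ be a numerical semigroup (a submonoid of (ℕ, +) with finite complement), Γ ≠ ℕ, with conductor
c (every n ≥ c lies in Γ, c − 1 does not), let e be its multiplicity (the least nonzero element of
Γ), and let S ⊆ ℕ be a Γ-module in normal form: 0 ∈ S and γ + s ∈ S for all γ ∈ Γ, s ∈ S. Then the
set of gaps n of S with S ∪ {n} again a Γ-module (n + γ ∈ S for every nonzero γ ∈ Γ) has at most e −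
1 elements, and so does the set of nonzero s ∈ S with S ∖ {s} again a Γ-module (s − γ ∉ S for every
nonzero γ ∈ Γ with γ ≤ s). -/
theorem result (Γ : AddSubmonoid ℕ) (c : ℕ) (hc : ∀ n : ℕ, c ≤ n → n ∈ Γ) (hc0 : c ≠ 0) (hc1 : c - 1 ∉ Γ) (e : ℕ) (he : e ∈ Γ) (he0 : e ≠ 0) (hemin : ∀ γ : ℕ, γ ∈ Γ → γ ≠ 0 → e ≤ γ) (S : Set ℕ) (hS0 : (0 : ℕ) ∈ S) (hS : ∀ γ : ℕ, γ ∈ Γ → ∀ s : ℕ, s ∈ S → γ + s ∈ S) : {n : ℕ | n ∉ S ∧ ∀ γ : ℕ, γ ∈ Γ → γ ≠ 0 → n + γ ∈ S}.encard ≤ ((e - 1 : ℕ) : ℕ∞) ∧ {s : ℕ | s ∈ S ∧ s ≠ 0 ∧ ∀ γ : ℕ, γ ∈ Γ → γ ≠ 0 → γ ≤ s → s - γ ∉ S}.encard ≤ ((e - 1 : ℕ) : ℕ∞) := by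
  have hke : ∀ k : ℕ, k * e ∈ Γ := fun k => by
    induction k with
    | zero => simpa using Γ.zero_mem
    | succ k ih => rw [Nat.succ_mul]; exact Γ.add_mem ih he
  have he_pos : 0 < e := Nat.pos_of_ne_zero he0
  have hcard : (↑(Finset.Ico 1 e) : Set ℕ).encard = ((e - 1 : ℕ) : ℕ∞) := by
    rw [Set.encard_coe_eq_coe_finsetCard, Nat.card_Ico]
  have hdiv : ∀ n : ℕ, n % e = 0 → n ∈ Γ := by
    intro n h0
    have h1 := Nat.div_add_mod n e
    rw [h0, add_zero, mul_comm] at h1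
    rw [← h1]
    exact hke _
  have hcong : ∀ n n' : ℕ, n % e = n' % e → n < n' → ∃ k : ℕ, k ≠ 0 ∧ n' = n + k * e := by
    intro n n' hmod hlt
    have hd : e ∣ n' - n := (Nat.modEq_iff_dvd' (le_of_lt hlt)).1 hmod
    obtain ⟨k, hk⟩ := hd
    refine ⟨k, ?_, ?_⟩
    · rintro rfl
      omega
    · rw [mul_comm] at hk
      omega
  constructor
  · rw [← hcard]
    apply Set.encard_le_encard_of_injOn (f := fun n => n % e)
    · rintro n ⟨hn, hn'⟩
      simp only [Finset.coe_Ico, Set.mem_Ico]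
      refine ⟨?_, Nat.mod_lt _ he_pos⟩
      by_contra h
      have h0 : n % e = 0 := by omega
      apply hn
      have h1 := hS _ (hdiv n h0) 0 hS0
      simpa using h1
    · rintro n ⟨hn, hn'⟩ n' ⟨hn2, hn2'⟩ hmod
      simp only at hmod
      by_contra hne
      rcases Nat.lt_or_gt_of_ne hne with hlt | hlt
      · obtain ⟨k, hk0, hk⟩ := hcong n n' hmod hlt
        apply hn2
        rw [hk]
        exact hn' _ (hke k) (by positivity)
      · obtain ⟨k, hk0, hk⟩ := hcong n' n hmod.symm hlt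
        apply hn
        rw [hk]
        exact hn2' _ (hke k) (by positivity)
  · rw [← hcard]
    apply Set.encard_le_encard_of_injOn (f := fun n => n % e)
    · rintro s ⟨hs, hs0, hs'⟩
      simp only [Finset.coe_Ico, Set.mem_Ico]
      refine ⟨?_, Nat.mod_lt _ he_pos⟩
      by_contra h
      have h0 : s % e = 0 := by omega
      have := hs' s (hdiv s h0) hs0 le_rfl
      rw [Nat.sub_self] at this
      exact this hS0
    · rintro s ⟨hs, hs0, hs'⟩ t ⟨ht, ht0, ht'⟩ hmod
      simp only at hmod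
      by_contra hne
      rcases Nat.lt_or_gt_of_ne hne with hlt | hlt
      · obtain ⟨k, hk0, hk⟩ := hcong s t hmod hlt
        have := ht' _ (hke k) (by positivity) (by omega)
        apply this
        have e1 : t - k * e = s := by omega
        rw [e1]; exact hs
      · obtain ⟨k, hk0, hk⟩ := hcong t s hmod.symm hlt
        have := hs' _ (hke k) (by positivity) (by omega)
        apply this
        have e1 : s - k * e = t := by omega
        rw [e1]; exact ht

end Groth.Agent.S15019
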