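import Groth.Statements.S15024
-- import your own Groth.Agent.* helpers here
import Mathlib
import Groth.Agent.Lib.helper6.TorReg

set_option autoImplicit false
universe u
open CategoryTheory
open TFCurv

namespace Groth.Agent.S15024

/-- Let O be a one-dimensional Noetherian local domain with algebraically closed residue field whose
integral closure O~ in its fraction field K is a finite O-module, M a finitely generated
torsion-free O-module and f : O^n → M an injective O-linear map whose cokernel T has finite length.
Then Tor_1^O(O~, M) and Tor_1^O(O~, T) are isomorphic (existence of an isomorphism only), and O~ ⊗_O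
f : O~ ⊗ O^n → O~ ⊗ M is injective, so that 0 → O~^n → O~ ⊗ M → O~ ⊗ T → 0 is exact. -/
theorem result (O : Type u) [CommRing O] [IsDomain O] [IsNoetherianRing O] [IsLocalRing O] (hdim : ringKrullDim O = 1) [IsAlgClosed (IsLocalRing.ResidueField O)] (K : Type u) [Field K] [Algebra O K] [IsFractionRing O K] (hfin : Module.Finite O ↥(integralClosure O K)) (M : Type u) [AddCommGroup M] [Module O M] [Module.Finite O M] [NoZeroSMulDivisors O M] (n : ℕ) (f : (Fin n → O) →ₗ[O] M) (hf : Function.Injective f) (hT : IsFiniteLength O (M ⧸ LinearMap.range f)) : Nonempty (((Tor (ModuleCat.{u} O) 1).obj (ModuleCat.of O ↥(integralClosure O K))).obj (ModuleCat.of O M) ≅ ((Tor (ModuleCat.{u} O) 1).obj (ModuleCat.of O ↥(integralClosure O K))).obj (ModuleCat.of O (M ⧸ LinearMap.range f))) ∧ Function.Injective (LinearMap.lTensor ↥(integralClosure O K) f) := by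
  classical
  have hinj : Function.Injective (LinearMap.lTensor ↥(integralClosure O K) f) := by
    haveI : Module.Flat O K := IsLocalization.flat K (nonZeroDivisors O)
    let ι : ↥(integralClosure O K) →ₗ[O] K := (integralClosure O K).val.toLinearMap
    have hι : Function.Injective ι := Subtype.val_injective
    have h1 : Function.Injective (LinearMap.lTensor K f) :=
      Module.Flat.lTensor_preserves_injective_linearMap f hf
    have h2 : Function.Injective (LinearMap.rTensor (Fin n → O) ι) :=
      Module.Flat.rTensor_preserves_injective_linearMap ι hι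
    have h3 : (LinearMap.rTensor M ι).comp (LinearMap.lTensor ↥(integralClosure O K) f) =
        (LinearMap.lTensor K f).comp (LinearMap.rTensor (Fin n → O) ι) := by
      rw [LinearMap.rTensor_comp_lTensor, LinearMap.lTensor_comp_rTensor]
    have h4 : Function.Injective ((LinearMap.rTensor M ι).comp
        (LinearMap.lTensor ↥(integralClosure O K) f)) := by
      rw [h3]
      exact h1.comp h2
    exact Function.Injective.of_comp h4
  refine ⟨?_, hinj⟩
  let Ot : ModuleCat.{u} O := ModuleCat.of O ↥(integralClosure O K)
  let R' : Submodule O M := LinearMap.range f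
  let S : ShortComplex (ModuleCat.{u} O) :=
    ShortComplex.mk (ModuleCat.ofHom f) (ModuleCat.ofHom R'.mkQ) (by
      apply ModuleCat.hom_ext
      apply LinearMap.ext
      intro x
      change R'.mkQ (f x) = 0
      rw [Submodule.mkQ_apply, Submodule.Quotient.mk_eq_zero]
      exact LinearMap.mem_range_self f x)
  have hS : S.ShortExact := by
    refine ModuleCat.shortComplex_shortExact S ?_ hf R'.mkQ_surjective
    intro x
    change R'.mkQ x = 0 ↔ x ∈ Set.range f
    rw [Submodule.mkQ_apply, Submodule.Quotient.mk_eq_zero]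
    rfl
  obtain ⟨-, -, δ, w₁, w₂, e₁, e₂⟩ := Groth.Agent.Lib.helper6.TorDim.tor_les₂ Ot S hS 0
  obtain ⟨⟨w₀, e₀⟩, -, -⟩ := Groth.Agent.Lib.helper6.TorDim.tor_les₂ Ot S hS 1
  have hmono0 : Mono (((Tor (ModuleCat.{u} O) 0).obj Ot).map S.f) := by
    apply Groth.Agent.Lib.helper6.TorReg.mono_tor_zero_map_of_mono
    rw [ModuleCat.mono_iff_injective]
    exact hinj
  have hδ : δ = 0 := by
    rw [← cancel_mono (((Tor (ModuleCat.{u} O) 0).obj Ot).map S.f), w₂, Limits.zero_comp]
  have hepi : Epi (((Tor (ModuleCat.{u} O) 1).obj Ot).map S.g) := e₁.epi_f hδ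
  have hz : Limits.IsZero (((Tor (ModuleCat.{u} O) 1).obj Ot).obj S.X₁) := by
    haveI : Module.Flat O S.X₁ := by
      change Module.Flat O (Fin n → O)
      infer_instance
    exact Groth.Agent.Lib.helper6.TorBal.isZero_tor_succ_of_flat_right Ot S.X₁ 0
  have hmono : Mono (((Tor (ModuleCat.{u} O) 1).obj Ot).map S.g) := e₀.mono_g (hz.eq_of_src _ _)
  haveI : IsIso (((Tor (ModuleCat.{u} O) 1).obj Ot).map S.g) := isIso_of_mono_of_epi _
  exact ⟨asIso (((Tor (ModuleCat.{u} O) 1).obj Ot).map S.g)⟩

end Groth.Agent.S15024
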