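import Groth.Statements.S15025
-- import your own Groth.Agent.* helpers here
import Mathlib
import Groth.Agent.Lib.helper6.TorReg

set_option autoImplicit false
universe u
open CategoryTheory
open TFCurv

namespace Groth.Agent.S15025

/-- Let O be a one-dimensional Noetherian local domain with algebraically closed residue field whose
integral closure O~ in its fraction field K is a finite O-module, M a finitely generated
torsion-free O-module and g : M → O^n an injective O-linear map whose cokernel T' has finite length.
Then the torsion submodule of O~ ⊗_O M is O-linearly isomorphic to Tor_1^O(O~, T') (existence of an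
isomorphism only). -/
theorem result (O : Type u) [CommRing O] [IsDomain O] [IsNoetherianRing O] [IsLocalRing O] (hdim : ringKrullDim O = 1) [IsAlgClosed (IsLocalRing.ResidueField O)] (K : Type u) [Field K] [Algebra O K] [IsFractionRing O K] (hfin : Module.Finite O ↥(integralClosure O K)) (M : Type u) [AddCommGroup M] [Module O M] [Module.Finite O M] [NoZeroSMulDivisors O M] (n : ℕ) (g : M →ₗ[O] (Fin n → O)) (hg : Function.Injective g) (hT : IsFiniteLength O ((Fin n → O) ⧸ LinearMap.range g)) : Nonempty (↥(Submodule.torsion O (TensorProduct O ↥(integralClosure O K) M)) ≃ₗ[O] ↑(((Tor (ModuleCat.{u} O) 1).obj (ModuleCat.of O ↥(integralClosure O K))).obj (ModuleCat.of O ((Fin n → O) ⧸ LinearMap.range g)))) := by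
  classical
  -- Step A: `ker (Ot ⊗ g) = torsion`.
  have hker : LinearMap.ker (LinearMap.lTensor ↥(integralClosure O K) g) =
      Submodule.torsion O (TensorProduct O ↥(integralClosure O K) M) := by
    apply le_antisymm
    · -- kernel is torsion
      have hj : ∀ j : Fin n, ∃ a : O, a ≠ 0 ∧
          a • (Pi.single j (1 : O) : Fin n → O) ∈ LinearMap.range g := by
        intro j
        by_contra hcon
        push Not at hcon
        let t : (Fin n → O) ⧸ LinearMap.range g :=
          (LinearMap.range g).mkQ (Pi.single j (1 : O))
        have hinj : Function.Injective (LinearMap.toSpanSingleton O _ t) := by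
          rw [← LinearMap.ker_eq_bot, LinearMap.ker_eq_bot']
          intro a ha
          by_contra ha0
          apply hcon a ha0
          have : a • t = 0 := ha
          rw [← map_smul, Submodule.mkQ_apply, Submodule.Quotient.mk_eq_zero] at this
          exact this
        have hO : IsFiniteLength O O := hT.of_injective hinj
        have hA : IsArtinianRing O := (isFiniteLength_iff_isNoetherian_isArtinian.mp hO).2
        have hK : Ring.KrullDimLE 0 O := isArtinianRing_iff_krullDimLE_zero.mp hA
        have := Ring.krullDimLE_iff.mp hK
        rw [hdim] at this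
        norm_num at this
      choose af haf0 hafm using hj
      let a : O := ∏ j, af j
      have ha0 : a ≠ 0 := Finset.prod_ne_zero_iff.mpr (fun j _ => haf0 j)
      have ham : ∀ j : Fin n, a • (Pi.single j (1 : O) : Fin n → O) ∈ LinearMap.range g := by
        intro j
        obtain ⟨c, hc⟩ := Finset.dvd_prod_of_mem af (Finset.mem_univ j)
        have : a = c * af j := by rw [mul_comm]; exact hc
        rw [this, mul_smul]
        exact Submodule.smul_mem _ _ (hafm j)
      choose mf hmf using ham
      let h : (Fin n → O) →ₗ[O] M := Fintype.linearCombination O mf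
      have hgh : g.comp h = a • LinearMap.id := by
        apply LinearMap.pi_ext
        intro j x
        simp only [LinearMap.comp_apply, LinearMap.smul_apply, LinearMap.id_apply, h,
          Fintype.linearCombination_apply_single, map_smul, hmf]
        rw [smul_comm, ← Pi.single_smul, smul_eq_mul, mul_one]
      have hhg : h.comp g = a • LinearMap.id := by
        apply LinearMap.ext
        intro m
        apply hg
        have := LinearMap.congr_fun hgh (g m)
        simp only [LinearMap.comp_apply, LinearMap.smul_apply, LinearMap.id_apply] at this ⊢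
        rw [this, map_smul]
      intro x hx
      rw [LinearMap.mem_ker] at hx
      rw [Submodule.mem_torsion_iff]
      refine ⟨⟨a, mem_nonZeroDivisors_of_ne_zero ha0⟩, ?_⟩
      change a • x = 0
      have h1 : LinearMap.lTensor ↥(integralClosure O K) (h.comp g) x = a • x := by
        rw [hhg, LinearMap.lTensor_smul, LinearMap.lTensor_id]
        rfl
      rw [← h1, LinearMap.lTensor_comp, LinearMap.comp_apply, hx, map_zero]
    · -- torsion is in the kernel
      intro x hx
      rw [Submodule.mem_torsion_iff] at hx
      obtain ⟨⟨a, ha⟩, hax⟩ := hx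
      change a • x = 0 at hax
      rw [LinearMap.mem_ker]
      have ha0 : a ≠ 0 := nonZeroDivisors.ne_zero ha
      let μ : ↥(integralClosure O K) →ₗ[O] ↥(integralClosure O K) := a • LinearMap.id
      have hμ : Function.Injective μ := by
        intro z w hzw
        have hzw' : a • z = a • w := hzw
        have h2 : (a • z : K) = (a • w : K) := by
          have := congrArg (fun t : ↥(integralClosure O K) => (t : K)) hzw'
          simpa using this
        rw [Algebra.smul_def, Algebra.smul_def] at h2
        have h3 : algebraMap O K a ≠ 0 := by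
          intro h0
          apply ha0
          exact (IsFractionRing.injective O K) (by rw [h0, map_zero])
        exact Subtype.ext (mul_left_cancel₀ h3 h2)
      have h4 : Function.Injective (LinearMap.rTensor (Fin n → O) μ) :=
        Module.Flat.rTensor_preserves_injective_linearMap μ hμ
      apply h4
      rw [map_zero]
      have h5 : LinearMap.rTensor (Fin n → O) μ = a • LinearMap.id := by
        rw [LinearMap.rTensor_smul, LinearMap.rTensor_id]
      rw [h5]
      change a • (LinearMap.lTensor ↥(integralClosure O K) g) x = 0
      rw [← map_smul, hax, map_zero]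
  -- Step B: homological algebra
  let Ot : ModuleCat.{u} O := ModuleCat.of O ↥(integralClosure O K)
  let R' : Submodule O (Fin n → O) := LinearMap.range g
  let S : ShortComplex (ModuleCat.{u} O) :=
    ShortComplex.mk (ModuleCat.ofHom g) (ModuleCat.ofHom R'.mkQ) (by
      apply ModuleCat.hom_ext
      apply LinearMap.ext
      intro x
      change R'.mkQ (g x) = 0
      rw [Submodule.mkQ_apply, Submodule.Quotient.mk_eq_zero]
      exact LinearMap.mem_range_self g x)
  have hS : S.ShortExact := by
    refine ModuleCat.shortComplex_shortExact S ?_ hg R'.mkQ_surjective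
    intro x
    change R'.mkQ x = 0 ↔ x ∈ Set.range g
    rw [Submodule.mkQ_apply, Submodule.Quotient.mk_eq_zero]
    rfl
  obtain ⟨-, -, δ, w₁, w₂, e₁, e₂⟩ := Groth.Agent.Lib.helper6.TorDim.tor_les₂ Ot S hS 0
  have hz : Limits.IsZero (((Tor (ModuleCat.{u} O) 1).obj Ot).obj S.X₂) := by
    haveI : Module.Flat O S.X₂ := by
      change Module.Flat O (Fin n → O)
      infer_instance
    exact Groth.Agent.Lib.helper6.TorBal.isZero_tor_succ_of_flat_right Ot S.X₂ 0
  have hmono : Mono δ := e₁.mono_g (hz.eq_of_src _ _)
  have hδinj : Function.Injective δ.hom := (ModuleCat.mono_iff_injective δ).mp hmono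
  have hrange : LinearMap.range δ.hom =
      LinearMap.ker (((Tor (ModuleCat.{u} O) 0).obj Ot).map S.f).hom :=
    (ShortComplex.moduleCat_exact_iff_range_eq_ker _).mp e₂
  let E1 : ↑(((Tor (ModuleCat.{u} O) 1).obj Ot).obj S.X₃) ≃ₗ[O] LinearMap.range δ.hom :=
    LinearEquiv.ofInjective δ.hom hδinj
  let α := Groth.Agent.Lib.helper6.TorBal.torZeroIso Ot
  let αX : ↑(((Tor (ModuleCat.{u} O) 0).obj Ot).obj S.X₁) ≃ₗ[O]
      TensorProduct O ↥(integralClosure O K) M := (α.app S.X₁).toLinearEquiv
  let αY : ↑(((Tor (ModuleCat.{u} O) 0).obj Ot).obj S.X₂) ≃ₗ[O]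
      TensorProduct O ↥(integralClosure O K) (Fin n → O) := (α.app S.X₂).toLinearEquiv
  have hnat : ∀ x, αY ((((Tor (ModuleCat.{u} O) 0).obj Ot).map S.f).hom x) =
      LinearMap.lTensor ↥(integralClosure O K) g (αX x) := by
    intro x
    have := α.hom.naturality S.f
    have h2 := congrArg (fun φ => φ.hom x) this
    exact h2
  have hmap : (LinearMap.ker (((Tor (ModuleCat.{u} O) 0).obj Ot).map S.f).hom).map
      (αX : _ →ₗ[O] _) = LinearMap.ker (LinearMap.lTensor ↥(integralClosure O K) g) := by
    ext y
    simp only [Submodule.mem_map, LinearMap.mem_ker]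
    constructor
    · rintro ⟨x, hx, rfl⟩
      change LinearMap.lTensor ↥(integralClosure O K) g (αX x) = 0
      rw [← hnat, hx, map_zero]
    · intro hy
      refine ⟨αX.symm y, ?_, by simp⟩
      apply αY.injective
      rw [hnat, map_zero]
      simpa using hy
  let E2 : LinearMap.ker (((Tor (ModuleCat.{u} O) 0).obj Ot).map S.f).hom ≃ₗ[O]
      LinearMap.ker (LinearMap.lTensor ↥(integralClosure O K) g) :=
    LinearEquiv.ofSubmodules αX _ _ hmap
  exact ⟨((E1.trans (LinearEquiv.ofEq _ _ hrange)).trans
    (E2.trans (LinearEquiv.ofEq _ _ hker))).symm⟩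

end Groth.Agent.S15025
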