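import Groth.Statements.S15029
import Mathlib

set_option autoImplicit false
open TFCurv

namespace Groth.Agent.S15029

/-- Let Γ be a numerical semigroup (a submonoid of (ℕ, +) with finite complement), Γ ≠ ℕ, with conductor
c (every n ≥ c lies in Γ, c − 1 does not), and let S ⊆ ℕ be a Γ-module in normal form (0 ∈ S and γ +
s ∈ S for γ ∈ Γ, s ∈ S). If S ≠ ℕ then some gap n of S can be added (n + γ ∈ S for every nonzero γ ∈
Γ, so S ∪ {n} is a Γ-module), and if S ≠ Γ then some s ∈ S outside Γ can be removed (s − γ ∉ S for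
every nonzero γ ∈ Γ with γ ≤ s, so S ∖ {s} is a Γ-module containing Γ); iterating, S is joined to ℕ
and to Γ by chains in the diagram of Γ-modules, which is therefore connected. -/
theorem result (Γ : AddSubmonoid ℕ) (c : ℕ) (hc : ∀ n : ℕ, c ≤ n → n ∈ Γ) (hc0 : c ≠ 0) (hc1 : c - 1 ∉ Γ) (S : Set ℕ) (hS0 : (0 : ℕ) ∈ S) (hS : ∀ γ : ℕ, γ ∈ Γ → ∀ s : ℕ, s ∈ S → γ + s ∈ S) : (S ≠ Set.univ → ∃ n : ℕ, n ∉ S ∧ ∀ γ : ℕ, γ ∈ Γ → γ ≠ 0 → n + γ ∈ S) ∧ ((↑Γ : Set ℕ) ≠ S → ∃ s : ℕ, s ∈ S ∧ s ∉ Γ ∧ ∀ γ : ℕ, γ ∈ Γ → γ ≠ 0 → γ ≤ s → s - γ ∉ S) := by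
  have hΓS : ∀ γ, γ ∈ Γ → γ ∈ S := fun γ hγ => by
    have := hS γ hγ 0 hS0
    simpa using this
  classical
  constructor
  · intro hne
    -- the largest gap of S
    have hex : ∃ n, n ∉ S := by
      by_contra h
      push_neg at h
      exact hne (Set.eq_univ_of_forall h)
    have hbdd : ∀ n, n ∉ S → n < c := fun n hn => by
      by_contra h
      exact hn (hΓS n (hc n (by omega)))
    -- take maximal element: use Nat.findGreatest
    obtain ⟨n₀, hn₀⟩ := hex
    let n := Nat.findGreatest (fun m => m ∉ S) c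
    have hn : n ∉ S := Nat.findGreatest_spec (P := fun m => m ∉ S) (le_of_lt (hbdd n₀ hn₀)) hn₀
    refine ⟨n, hn, ?_⟩
    intro γ hγ hγ0
    by_contra hnot
    have h1 : n + γ ≤ c := le_of_lt (hbdd _ hnot)
    have h2 : n + γ ≤ n := Nat.le_findGreatest (P := fun m => m ∉ S) h1 hnot
    omega
  · intro hne
    have hex : ∃ s, s ∈ S ∧ s ∉ Γ := by
      by_contra h
      push_neg at h
      apply hne
      ext x
      exact ⟨fun hx => hΓS x hx, fun hx => h x hx⟩
    refine ⟨Nat.find hex, (Nat.find_spec hex).1, (Nat.find_spec hex).2, ?_⟩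
    intro γ hγ hγ0 hle hmem
    have hlt : Nat.find hex - γ < Nat.find hex := by omega
    have := Nat.find_min hex hlt
    push_neg at this
    have h1 := this hmem
    apply (Nat.find_spec hex).2
    have e1 : Nat.find hex = (Nat.find hex - γ) + γ := by omega
    rw [e1]
    exact Γ.add_mem h1 hγ

end Groth.Agent.S15029
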