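import Groth.Statements.S15034
import Mathlib

set_option autoImplicit false
universe u
open TFCurv

namespace Groth.Agent.S15034

section Helpers

open PowerSeries

section
variable {k : Type u} [Field k] (A : Subalgebra k (PowerSeries k))

theorem exists_pos_order (hA : Module.Finite ↥A (PowerSeries k)) :
    ∃ x ∈ A, x ≠ 0 ∧ constantCoeff x = 0 := by
  by_contra hcon
  push_neg at hcon
  have hbot : A = ⊥ := by
    rw [eq_bot_iff]
    intro x hx
    rw [Algebra.mem_bot]
    refine ⟨constantCoeff x, ?_⟩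
    by_contra hne
    have hmem : x - algebraMap k (PowerSeries k) (constantCoeff x) ∈ A :=
      A.sub_mem hx (A.algebraMap_mem _)
    have hne' : x - algebraMap k (PowerSeries k) (constantCoeff x) ≠ 0 := by
      intro h; exact hne (sub_eq_zero.mp h).symm
    apply hcon _ hmem hne'
    rw [map_sub]
    show constantCoeff x - constantCoeff (C (constantCoeff x)) = 0
    rw [constantCoeff_C, sub_self]
  subst hbot
  haveI := hA
  haveI : Module.Finite k (PowerSeries k) :=
    Module.Finite.trans (↥(⊥ : Subalgebra k (PowerSeries k))) (PowerSeries k)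
  have : Module.Finite k (Polynomial k) :=
    Module.Finite.of_injective (Polynomial.coeToPowerSeries.algHom k).toLinearMap
      (fun p q h => Polynomial.coe_injective k h)
  exact Polynomial.not_finite this

theorem inv_mem (hcl : ∀ f : PowerSeries k,
      (∀ n : ℕ, ∃ g ∈ A, (n : ℕ∞) ≤ PowerSeries.order (f - g)) → f ∈ A)
    (z : PowerSeries k) (hz : z ∈ A) (hz0 : constantCoeff z = 0) :
    (1 + z)⁻¹ ∈ A := by
  have hc : constantCoeff (1 + z) ≠ 0 := by
    rw [map_add, hz0, add_zero, map_one]; exact one_ne_zero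
  apply hcl
  intro n
  refine ⟨∑ i ∈ Finset.range n, (-z) ^ i, A.sum_mem (fun i _ => A.pow_mem (A.neg_mem hz) i), ?_⟩
  have h1 : (1 + z)⁻¹ - ∑ i ∈ Finset.range n, (-z) ^ i = (1 + z)⁻¹ * (-z) ^ n := by
    have h2 := geom_sum_mul_neg (-z) n
    rw [sub_neg_eq_add] at h2
    have h3 : (1 + z)⁻¹ * (1 + z) = 1 := PowerSeries.inv_mul_cancel _ hc
    calc (1 + z)⁻¹ - ∑ i ∈ Finset.range n, (-z) ^ i
        = (1 + z)⁻¹ * 1 - (∑ i ∈ Finset.range n, (-z) ^ i) * 1 := by rw [mul_one, mul_one]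
      _ = (1 + z)⁻¹ * 1 - (∑ i ∈ Finset.range n, (-z) ^ i) * ((1 + z) * (1 + z)⁻¹) := by
          rw [PowerSeries.mul_inv_cancel _ hc]
      _ = (1 + z)⁻¹ * 1 - ((∑ i ∈ Finset.range n, (-z) ^ i) * (1 + z)) * (1 + z)⁻¹ := by
          rw [mul_assoc]
      _ = (1 + z)⁻¹ * (-z) ^ n := by rw [h2]; ring
  rw [h1]
  have h4 : (n : ℕ∞) ≤ order ((-z) ^ n) := by
    apply le_order_pow_of_constantCoeff_eq_zero
    rw [map_neg, hz0, neg_zero]
  exact le_trans h4 (le_trans (le_add_self) (le_order_mul _ _))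

theorem isUnit_of (hcl : ∀ f : PowerSeries k,
      (∀ n : ℕ, ∃ g ∈ A, (n : ℕ∞) ≤ PowerSeries.order (f - g)) → f ∈ A)
    (x : A) (hx0 : constantCoeff (x : PowerSeries k) = 0) (y : A) : IsUnit (x * y + 1) := by
  have hz : ((x * y : A) : PowerSeries k) ∈ A := (x * y).2
  have hz0 : constantCoeff ((x * y : A) : PowerSeries k) = 0 := by
    rw [Subalgebra.coe_mul, map_mul, hx0, zero_mul]
  have hc : constantCoeff (1 + ((x * y : A) : PowerSeries k)) ≠ 0 := by
    rw [map_add, hz0, add_zero, map_one]; exact one_ne_zero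
  have hinv := inv_mem A hcl _ hz hz0
  rw [isUnit_iff_exists_inv]
  refine ⟨⟨_, hinv⟩, ?_⟩
  apply Subtype.ext
  rw [Subalgebra.coe_mul, Subalgebra.coe_add, Subalgebra.coe_one]
  show (((x * y : A) : PowerSeries k) + 1) * (1 + ((x * y : A) : PowerSeries k))⁻¹ = 1
  rw [add_comm]
  exact PowerSeries.mul_inv_cancel _ hc

theorem le_order_iff_dvd (c' : ℕ) (g : PowerSeries k) :
    (c' : ℕ∞) ≤ order g ↔ (X : PowerSeries k) ^ c' ∣ g := by
  rw [X_pow_dvd_iff]
  constructor
  · intro h m hm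
    apply coeff_of_lt_order
    exact lt_of_lt_of_le (by exact_mod_cast hm) h
  · intro h
    exact nat_le_order _ _ h

theorem contains (hA : Module.Finite ↥A (PowerSeries k))
    (hcl : ∀ f : PowerSeries k,
      (∀ n : ℕ, ∃ g ∈ A, (n : ℕ∞) ≤ PowerSeries.order (f - g)) → f ∈ A)
    (N : Submodule ↥A (PowerSeries k)) (c' : ℕ)
    (hN : ∀ n : ℕ, c' ≤ n → ∃ f ∈ N, order f = n) (g : PowerSeries k)
    (hg : (c' : ℕ∞) ≤ order g) : g ∈ N := by
  classical
  obtain ⟨x, hxA, hx0, hxc⟩ := exists_pos_order A hA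
  let Imod : Submodule ↥A (PowerSeries k) :=
    Submodule.map (LinearMap.mulLeft ↥A ((X : PowerSeries k) ^ c')) ⊤
  have hImem : ∀ h : PowerSeries k, h ∈ Imod ↔ (c' : ℕ∞) ≤ order h := by
    intro h
    rw [le_order_iff_dvd]
    constructor
    · rintro ⟨w, -, rfl⟩
      exact ⟨w, rfl⟩
    · rintro ⟨w, rfl⟩
      exact ⟨w, trivial, rfl⟩
  have hIfg : Imod.FG := (Module.Finite.fg_top (R := ↥A) (M := PowerSeries k)).map _
  let J : Ideal ↥A := Ideal.span {(⟨x, hxA⟩ : ↥A)}
  have hJ : J ≤ Ideal.jacobson ⊥ := by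
    rw [Ideal.span_le]
    intro y hy
    rw [Set.mem_singleton_iff] at hy
    subst hy
    show _ ∈ Ideal.jacobson ⊥
    rw [Ideal.mem_jacobson_bot]
    intro y
    exact isUnit_of A hcl ⟨x, hxA⟩ hxc y
  -- the order of x
  set e := (order x).toNat with he
  have hxe : (X : PowerSeries k) ^ e * divXPowOrder x = x := X_pow_order_mul_divXPowOrder
  have hdu : IsUnit (divXPowOrder x) := by
    rw [isUnit_iff_constantCoeff, isUnit_iff_ne_zero, ne_eq,
      constantCoeff_divXPowOrder_eq_zero_iff]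
    exact hx0
  obtain ⟨v, hv⟩ := isUnit_iff_exists_inv.mp hdu
  have hNN : Imod ≤ N ⊔ J • Imod := by
    intro g hg
    rw [hImem] at hg
    -- step lemma
    have hstep : ∀ j : ℕ, ∃ n' ∈ N, ((c' + j : ℕ) : ℕ∞) ≤ order (g - n') := by
      intro j
      induction j with
      | zero => exact ⟨0, N.zero_mem, by rw [sub_zero]; exact_mod_cast hg⟩
      | succ j ih =>
        obtain ⟨n', hn', hord⟩ := ih
        set r := g - n' with hr
        set m := c' + j with hm
        by_cases hcm : coeff m r = 0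
        · refine ⟨n', hn', ?_⟩
          apply nat_le_order
          intro i hi
          rcases Nat.lt_succ_iff_lt_or_eq.mp (show i < m + 1 by omega) with h | h
          · exact coeff_of_lt_order i (lt_of_lt_of_le (by exact_mod_cast h) hord)
          · rw [h]; exact hcm
        · obtain ⟨f, hfN, hford⟩ := hN m (by omega)
          have hf0 : f ≠ 0 := by
            intro h; rw [h, order_zero] at hford; exact ENat.top_ne_coe _ hford
          have hcf : coeff m f ≠ 0 := by
            have := coeff_order hf0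
            rwa [hford, ENat.toNat_coe] at this
          set lam : k := coeff m r / coeff m f with hlam
          refine ⟨n' + (algebraMap k ↥A lam) • f, N.add_mem hn' (N.smul_mem _ hfN), ?_⟩
          apply nat_le_order
          intro i hi
          have hsm : (algebraMap k ↥A lam) • f = C lam * f := by
            rw [Algebra.smul_def]; rfl
          have : g - (n' + (algebraMap k ↥A lam) • f) = r - C lam * f := by
            rw [hsm, hr]; ring
          rw [this, map_sub, coeff_C_mul]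
          rcases Nat.lt_succ_iff_lt_or_eq.mp (show i < m + 1 by omega) with h | h
          · rw [coeff_of_lt_order i (lt_of_lt_of_le (by exact_mod_cast h) hord),
              coeff_of_lt_order i (by rw [hford]; exact_mod_cast h), mul_zero, sub_zero]
          · rw [h, hlam, div_mul_cancel₀ _ hcf, sub_self]
    obtain ⟨n', hn', hord⟩ := hstep e
    rw [le_order_iff_dvd] at hord
    obtain ⟨r', hr'⟩ := hord
    have hh : v * (X : PowerSeries k) ^ c' * r' ∈ Imod := by
      rw [hImem, le_order_iff_dvd]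
      exact ⟨v * r', by ring⟩
    have hxh : x * (v * (X : PowerSeries k) ^ c' * r') = g - n' := by
      rw [hr', ← hxe, pow_add]
      calc X ^ e * divXPowOrder x * (v * X ^ c' * r')
          = (divXPowOrder x * v) * (X ^ c' * X ^ e * r') := by ring
        _ = X ^ c' * X ^ e * r' := by rw [hv, one_mul]
    have h1 : g = n' + (⟨x, hxA⟩ : ↥A) • (v * (X : PowerSeries k) ^ c' * r') := by
      have : (⟨x, hxA⟩ : ↥A) • (v * (X : PowerSeries k) ^ c' * r') =
          x * (v * (X : PowerSeries k) ^ c' * r') := rfl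
      rw [this, hxh]; ring
    rw [h1]
    exact Submodule.add_mem_sup hn'
      (Submodule.smul_mem_smul (Ideal.subset_span (Set.mem_singleton _)) hh)
  have := Submodule.le_of_le_smul_of_le_jacobson_bot hIfg hJ hNN
  exact this ((hImem g).2 hg)

end

theorem main (k : Type u) [Field k] (A : Subalgebra k (PowerSeries k))
    (hA : Module.Finite ↥A (PowerSeries k))
    (hcl : ∀ f : PowerSeries k,
      (∀ n : ℕ, ∃ g ∈ A, (n : ℕ∞) ≤ PowerSeries.order (f - g)) → f ∈ A)
    (M N : Submodule ↥A (PowerSeries k)) (hM1 : (1 : PowerSeries k) ∈ M)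
    (ΓM ΓN : Set ℕ) (hΓM : ∀ n : ℕ, n ∈ ΓM ↔ ∃ f ∈ M, PowerSeries.order f = n)
    (hΓN : ∀ n : ℕ, n ∈ ΓN ↔ ∃ f ∈ N, PowerSeries.order f = n) :
    (∀ n : ℕ, (∃ u : PowerSeries k, PowerSeries.order u = n ∧ ∀ m ∈ M, u * m ∈ N) →
        ∀ a ∈ ΓM, n + a ∈ ΓN) ∧
    ∀ c' : ℕ, (∀ n : ℕ, c' ≤ n →
        ∃ u : PowerSeries k, PowerSeries.order u = n ∧ ∀ m ∈ M, u * m ∈ N) ↔
      (∀ n : ℕ, c' ≤ n → ∀ a ∈ ΓM, n + a ∈ ΓN) := by
  have part1 : ∀ n : ℕ, (∃ u : PowerSeries k, PowerSeries.order u = n ∧ ∀ m ∈ M, u * m ∈ N) →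
      ∀ a ∈ ΓM, n + a ∈ ΓN := by
    rintro n ⟨u, hu, huM⟩ a ha
    obtain ⟨f, hfM, hf⟩ := (hΓM a).1 ha
    rw [hΓN]
    refine ⟨u * f, huM f hfM, ?_⟩
    rw [order_mul, hu, hf]
    push_cast
    rfl
  refine ⟨part1, fun c' => ⟨fun h n hn => part1 n (h n hn), fun h n hn => ?_⟩⟩
  have h0 : (0 : ℕ) ∈ ΓM := (hΓM 0).2 ⟨1, hM1, by rw [order_one]; rfl⟩
  have hN : ∀ n : ℕ, c' ≤ n → ∃ f ∈ N, order f = n := by
    intro n hn
    have := h n hn 0 h0
    rw [add_zero] at this
    exact (hΓN n).1 this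
  refine ⟨X ^ n, order_X_pow n, fun m _ => ?_⟩
  apply contains A hA hcl N c' hN
  have h1 : (c' : ℕ∞) ≤ (n : ℕ∞) := by exact_mod_cast hn
  refine le_trans h1 (le_trans ?_ (le_order_mul _ _))
  rw [order_X_pow]
  exact le_self_add

end Helpers

/-- Let k be an algebraically closed field and A ≠ k[[t]] a k-subalgebra of k[[t]] that is closed in the
t-adic topology and over which k[[t]] is a finite module (as for the complete local ring of a
unibranch curve singularity inside its normalisation), and let Γ ⊆ ℕ be the set of t-orders of the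
nonzero elements of A (its value semigroup). Let M, N be finitely generated A-submodules of k[[t]]
containing 1 (rank-one torsion-free modules in normal form), with value sets Γ(M), Γ(N) (orders of
their nonzero elements); the A-linear maps M → N are the multiplications by power series u with uM ⊆
N. Then the order of every such nonzero u satisfies n + Γ(M) ⊆ Γ(N), and although the set of these
orders can be smaller than S = {n | n + Γ(M) ⊆ Γ(N)}, the two sets have the same conductor: for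
every c', all integers n ≥ c' are orders of multipliers exactly when all n ≥ c' lie in S. -/
theorem result (k : Type u) [Field k] [IsAlgClosed k] (A : Subalgebra k (PowerSeries k)) (hA : Module.Finite ↥A (PowerSeries k)) (hcl : ∀ f : PowerSeries k, (∀ n : ℕ, ∃ g ∈ A, (n : ℕ∞) ≤ PowerSeries.order (f - g)) → f ∈ A) (hsing : A ≠ ⊤) (Γ : Set ℕ) (hΓ : ∀ n : ℕ, n ∈ Γ ↔ ∃ f ∈ A, PowerSeries.order f = n) (M N : Submodule ↥A (PowerSeries k)) (hMfg : M.FG) (hNfg : N.FG) (hM1 : (1 : PowerSeries k) ∈ M) (hN1 : (1 : PowerSeries k) ∈ N) (ΓM ΓN : Set ℕ) (hΓM : ∀ n : ℕ, n ∈ ΓM ↔ ∃ f ∈ M, PowerSeries.order f = n) (hΓN : ∀ n : ℕ, n ∈ ΓN ↔ ∃ f ∈ N, PowerSeries.order f = n) : (∀ n : ℕ, (∃ u : PowerSeries k, PowerSeries.order u = n ∧ ∀ m ∈ M, u * m ∈ N) → ∀ a ∈ ΓM, n + a ∈ ΓN) ∧ ∀ c' : ℕ, (∀ n : ℕ, c' ≤ n → ∃ u : PowerSeries k, PowerSeries.order u = n ∧ ∀ m ∈ M, u * m ∈ N) ↔ (∀ n : ℕ, c' ≤ n → ∀ a ∈ ΓM, n + a ∈ ΓN) := by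
  exact main k A hA hcl M N hM1 ΓM ΓN hΓM hΓN

end Groth.Agent.S15034
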