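import Groth.Statements.S15036
import Mathlib

set_option autoImplicit false
open TFCurv

namespace Groth.Agent.S15036

/-- Let Γ be a numerical semigroup (a submonoid of (ℕ, +) with finite complement), Γ ≠ ℕ, with conductor
c (every n ≥ c lies in Γ, c − 1 does not); let S ⊆ ℕ be a Γ-module in normal form (0 ∈ S, γ + s ∈ S
for γ ∈ Γ, s ∈ S) with conductor c(S) (all n ≥ c(S) in S, c(S) − 1 ∉ S), and let s be a gap of S
such that S ∪ {s} is again a Γ-module. Enumerate S increasingly as s_0 < s_1 < ⋯ and put τ_i(S) =
s_i + ℓ(S), where ℓ counts the gaps of Γ filled; since ℓ(S ∪ {s}) = ℓ(S) + 1, the termwise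
comparison τ(S) ≤ τ(S ∪ {s}) says that the i-th element of S is at most one more than the i-th
element of S ∪ {s} for every i. This holds if and only if s = c(S) − 1, the largest gap of S. -/
theorem result (Γ : AddSubmonoid ℕ) (c : ℕ) (hc : ∀ n : ℕ, c ≤ n → n ∈ Γ) (hc0 : c ≠ 0) (hc1 : c - 1 ∉ Γ) (S : Set ℕ) (hS0 : (0 : ℕ) ∈ S) (hS : ∀ γ : ℕ, γ ∈ Γ → ∀ s : ℕ, s ∈ S → γ + s ∈ S) (cS : ℕ) (hcS : ∀ n : ℕ, cS ≤ n → n ∈ S) (hcS0 : cS ≠ 0) (hcS1 : cS - 1 ∉ S) (s : ℕ) (hs : s ∉ S) (hs' : ∀ γ : ℕ, γ ∈ Γ → γ ≠ 0 → s + γ ∈ S) : (∀ i : ℕ, Nat.nth (fun m => m ∈ S) i ≤ Nat.nth (fun m => m ∈ insert s S) i + 1) ↔ s + 1 = cS := by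
  classical
  have hpinf : (Set.ofPred (fun m => m ∈ S)).Infinite := by
    apply Set.infinite_of_not_bddAbove
    rintro ⟨b, hb⟩
    have h1 : max b cS + 1 ∈ Set.ofPred (fun m => m ∈ S) := hcS _ (by omega)
    have := hb h1
    omega
  have hqinf : (Set.ofPred (fun m => m ∈ insert s S)).Infinite := by
    apply Set.infinite_of_not_bddAbove
    rintro ⟨b, hb⟩
    have h1 : max b cS + 1 ∈ Set.ofPred (fun m => m ∈ insert s S) :=
      Set.mem_insert_of_mem _ (hcS _ (by omega))
    have := hb h1
    omega
  have hcount : ∀ n : ℕ, Nat.count (fun m => m ∈ insert s S) n =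
      Nat.count (fun m => m ∈ S) n + if s < n then 1 else 0 := by
    intro n
    induction n with
    | zero => simp
    | succ n ih =>
      rw [Nat.count_succ, Nat.count_succ, ih]
      by_cases hns : n = s
      · subst hns
        have h1 : n ∈ insert n S := Set.mem_insert _ _
        rw [if_pos h1, if_neg hs, if_neg (lt_irrefl n), if_pos (Nat.lt_succ_self n)]
      · have h1 : n ∈ insert s S ↔ n ∈ S := by
          rw [Set.mem_insert_iff]
          constructor
          · rintro (h | h)
            · exact absurd h hns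
            · exact h
          · exact Or.inr
        have h2 : (s < n + 1) ↔ (s < n) := by omega
        by_cases h3 : n ∈ S
        · rw [if_pos (h1.2 h3), if_pos h3]
          by_cases h4 : s < n
          · rw [if_pos h4, if_pos (h2.2 h4)]
          · rw [if_neg h4, if_neg (fun h => h4 (h2.1 h))]
        · rw [if_neg (fun h => h3 (h1.1 h)), if_neg h3]
          by_cases h4 : s < n
          · rw [if_pos h4, if_pos (h2.2 h4)]
          · rw [if_neg h4, if_neg (fun h => h4 (h2.1 h))]
  have hs_lt : s < cS := by
    by_contra h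
    exact hs (hcS s (by omega))
  constructor
  · intro hall
    by_contra hne
    have hlt : s + 1 < cS := by omega
    set i := Nat.count (fun m => m ∈ S) cS with hi
    have h1 : Nat.nth (fun m => m ∈ S) i = cS := Nat.nth_count (p := fun m => m ∈ S) (hcS cS le_rfl)
    have h2 : Nat.count (fun m => m ∈ insert s S) cS = i + 1 := by
      rw [hcount, if_pos hs_lt]
    have h3 : Nat.nth (fun m => m ∈ insert s S) i < cS :=
      Nat.nth_lt_of_lt_count (by rw [h2]; exact Nat.lt_succ_self i)
    have h4 : Nat.nth (fun m => m ∈ insert s S) i ∈ insert s S := Nat.nth_mem_of_infinite hqinf i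
    have h5 : Nat.nth (fun m => m ∈ insert s S) i ≠ cS - 1 := by
      intro h
      rw [h, Set.mem_insert_iff] at h4
      rcases h4 with h4 | h4
      · omega
      · exact hcS1 h4
    have := hall i
    rw [h1] at this
    omega
  · intro hsc i
    set m := Nat.nth (fun m => m ∈ insert s S) i with hm
    have hqm : m ∈ insert s S := Nat.nth_mem_of_infinite hqinf i
    have hcm : Nat.count (fun m => m ∈ insert s S) m = i := Nat.count_nth_of_infinite hqinf i
    by_cases hms : m < s
    · have hpm : m ∈ S := by
        rw [Set.mem_insert_iff] at hqm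
        rcases hqm with h | h
        · omega
        · exact h
      have h1 : Nat.count (fun m => m ∈ S) m = i := by
        rw [hcount, if_neg (by omega), add_zero] at hcm
        exact hcm
      have h2 : Nat.nth (fun m => m ∈ S) i = m := by
        rw [← h1]; exact Nat.nth_count (p := fun m => m ∈ S) hpm
      rw [h2]; omega
    · have hpm : m + 1 ∈ S := hcS _ (by omega)
      have h1 : Nat.count (fun m => m ∈ S) (m + 1) = i := by
        have h3 := hcount (m + 1)
        rw [Nat.count_succ, if_pos hqm, hcm, if_pos (by omega)] at h3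
        omega
      have h2 : Nat.nth (fun m => m ∈ S) i = m + 1 := by
        rw [← h1]; exact Nat.nth_count (p := fun m => m ∈ S) hpm
      rw [h2]

end Groth.Agent.S15036
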