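import Groth.Statements.S15037
import Mathlib
import Groth.Agent.Lib.helper22.NthCofinite

set_option autoImplicit false
open TFCurv

namespace Groth.Agent.S15037

/-- Let Γ be a numerical semigroup (a submonoid of (ℕ, +) with finite complement), Γ ≠ ℕ, with conductor
c (every n ≥ c lies in Γ, c − 1 does not); let S and S' ⊆ ℕ be Γ-modules in normal form with
conductors c(S), c(S'), let δ(S), δ(S') be their numbers of gaps and r(S), r(S') their numbers of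
elements below the conductor, and enumerate them increasingly as s_i, s'_i (i ≥ 0). With τ_i(S) =
s_i + ℓ(S) and ℓ(S) = δ(Γ) − δ(S), the termwise order τ(S) ≤ τ(S') reads s_i + δ(S') ≤ s'_i + δ(S)
for all i. It holds if and only if r(S') ≤ r(S) and s_i + δ(S') ≤ s'_i + δ(S) for all i < r(S')
(beyond r(S) the entries τ_i(S) = i + δ(Γ) are the largest possible). -/
theorem result (Γ : AddSubmonoid ℕ) (c : ℕ) (hc : ∀ n : ℕ, c ≤ n → n ∈ Γ) (hc0 : c ≠ 0) (hc1 : c - 1 ∉ Γ) (S : Set ℕ) (hS0 : (0 : ℕ) ∈ S) (hS : ∀ γ : ℕ, γ ∈ Γ → ∀ s : ℕ, s ∈ S → γ + s ∈ S) (cS : ℕ) (hcS : ∀ n : ℕ, cS ≤ n → n ∈ S) (hcS1 : cS = 0 ∨ cS - 1 ∉ S) (S' : Set ℕ) (hS'0 : (0 : ℕ) ∈ S') (hS' : ∀ γ : ℕ, γ ∈ Γ → ∀ s : ℕ, s ∈ S' → γ + s ∈ S') (cS' : ℕ) (hcS' : ∀ n : ℕ, cS' ≤ n → n ∈ S') (hcS'1 : cS' = 0 ∨ cS' - 1 ∉ S') : (∀ i : ℕ, Nat.nth (fun m => m ∈ S) i + S'ᶜ.ncard ≤ Nat.nth (fun m => m ∈ S') i + Sᶜ.ncard) ↔ ((S' ∩ Set.Iio cS').ncard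 ≤ (S ∩ Set.Iio cS).ncard ∧ ∀ i : ℕ, i < (S' ∩ Set.Iio cS').ncard → Nat.nth (fun m => m ∈ S) i + S'ᶜ.ncard ≤ Nat.nth (fun m => m ∈ S') i + Sᶜ.ncard) := by
  classical
  have hcond := Groth.Agent.Lib.helper22.NthCofinite.conductor_eq S cS hcS
  have hcond' := Groth.Agent.Lib.helper22.NthCofinite.conductor_eq S' cS' hcS'
  constructor
  · intro hall
    refine ⟨?_, fun i _ => hall i⟩
    by_contra hlt
    push_neg at hlt
    have hr'1 : 1 ≤ (S' ∩ Set.Iio cS').ncard := by omega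
    have hcS'0 : cS' ≠ 0 := by
      intro h0
      omega
    have hcS'n : cS' - 1 ∉ S' := by
      rcases hcS'1 with h | h
      · exact absurd h hcS'0
      · exact h
    have h1 := Groth.Agent.Lib.helper22.NthCofinite.nth_pred_add_two_le S' cS' hcS' hcS'0 hcS'n hr'1
    have h2 := Groth.Agent.Lib.helper22.NthCofinite.nth_eq S cS hcS
      ((S' ∩ Set.Iio cS').ncard - 1) (by omega)
    have h3 := hall ((S' ∩ Set.Iio cS').ncard - 1)
    rw [h2] at h3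
    omega
  · rintro ⟨hrr, hlow⟩ i
    by_cases hi : i < (S' ∩ Set.Iio cS').ncard
    · exact hlow i hi
    · push_neg at hi
      have h1 := Groth.Agent.Lib.helper22.NthCofinite.nth_eq S' cS' hcS' i hi
      have h2 := Groth.Agent.Lib.helper22.NthCofinite.nth_le S cS hcS i
      rw [h1]
      omega

end Groth.Agent.S15037
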