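import Groth.Statements.S15038
import Mathlib

set_option autoImplicit false
open TFCurv

namespace Groth.Agent.S15038

/-- Let Γ be a numerical semigroup (a submonoid of (ℕ, +) with finite complement), Γ ≠ ℕ, with conductor
c (every n ≥ c lies in Γ, c − 1 does not). If Γ is symmetric (for x < c, x is a gap exactly when c −
1 − x ∈ Γ) and its multiplicity e, the least nonzero element of Γ, is greater than 2, then Γ is
generated as an additive monoid by at most e − 1 elements. -/
theorem result (Γ : AddSubmonoid ℕ) (c : ℕ) (hc : ∀ n : ℕ, c ≤ n → n ∈ Γ) (hc0 : c ≠ 0) (hc1 : c - 1 ∉ Γ) (hsymm : ∀ x : ℕ, x < c → (x ∉ Γ ↔ c - 1 - x ∈ Γ)) (e : ℕ) (he : e ∈ Γ) (he0 : e ≠ 0) (hemin : ∀ γ : ℕ, γ ∈ Γ → γ ≠ 0 → e ≤ γ) (he2 : 2 < e) : ∃ G : Finset ℕ, G.card ≤ e - 1 ∧ AddSubmonoid.closure (↑G : Set ℕ) = Γ := by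
  classical
  have h1Γ : (1 : ℕ) ∉ Γ := fun h => by have := hemin 1 h one_ne_zero; omega
  have h2Γ : (2 : ℕ) ∉ Γ := fun h => by have := hemin 2 h two_ne_zero; omega
  have hgap_lt : ∀ g, g ∉ Γ → g < c := fun g hg => by
    by_contra h
    exact hg (hc g (by omega))
  have hke : ∀ k : ℕ, k * e ∈ Γ := by
    intro k
    induction k with
    | zero => simpa using Γ.zero_mem
    | succ k ih => rw [Nat.succ_mul]; exact Γ.add_mem ih he
  have hadd : ∀ n k : ℕ, n ∈ Γ → n + k * e ∈ Γ := fun n k hn => Γ.add_mem hn (hke k)
  have hec : e < c := by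
    have h1 : e ≤ c := hemin c (hc c le_rfl) hc0
    by_contra h
    have h2 : e = c := by omega
    have h3 : c - 1 - 1 ∈ Γ := (hsymm 1 (by omega)).1 h1Γ
    have := hemin _ h3 (by omega)
    omega
  -- existence of a gap x ≠ c - 1 with x + e ∈ Γ
  have stepB : ∀ d g : ℕ, g + d = c → g ∉ Γ → ∃ x, x ∉ Γ ∧ x + e ∈ Γ ∧ x % e = g % e := by
    intro d
    induction d using Nat.strong_induction_on with
    | _ d ih =>
      intro g hgd hg
      by_cases h : g + e ∈ Γ
      · exact ⟨g, hg, h, rfl⟩
      · have hlt : g + e < c := hgap_lt _ h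
        obtain ⟨x, hx1, hx2, hx3⟩ := ih (d - e) (by omega) (g + e) (by omega) h
        exact ⟨x, hx1, hx2, by rw [hx3, Nat.add_mod_right]⟩
  obtain ⟨x₁, hx₁, hx₁e, hx₁m⟩ := stepB (c - 1) 1 (by omega) h1Γ
  obtain ⟨x₂, hx₂, hx₂e, hx₂m⟩ := stepB (c - 2) 2 (by have := hgap_lt 2 h2Γ; omega) h2Γ
  have h1m : 1 % e = 1 := Nat.mod_eq_of_lt (by omega)
  have h2m : 2 % e = 2 := Nat.mod_eq_of_lt (by omega)
  obtain ⟨x, hx, hxe, hxc⟩ : ∃ x, x ∉ Γ ∧ x + e ∈ Γ ∧ x ≠ c - 1 := by
    by_cases h : x₁ = c - 1
    · refine ⟨x₂, hx₂, hx₂e, ?_⟩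
      intro h'
      rw [h, ← h', hx₂m, h2m, h1m] at hx₁m
      omega
    · exact ⟨x₁, hx₁, hx₁e, h⟩
  -- the generating set
  set Ap : Finset ℕ := (Finset.range (c + e)).filter
    (fun n => n ∈ Γ ∧ e ≤ n ∧ n - e ∉ Γ ∧ n ≠ c - 1 + e) with hAp
  refine ⟨insert e Ap, ?_, ?_⟩
  · -- cardinality
    have hApcard : Ap.card ≤ e - 2 := by
      have hinj : Set.InjOn (fun n => n % e) (Ap : Set ℕ) := by
        intro n hn n' hn' hmod
        simp only [hAp, Finset.coe_filter, Finset.mem_range, Set.mem_setOf_eq] at hn hn'
        have hmod' : n % e = n' % e := hmod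
        by_contra hne
        rcases Nat.lt_or_gt_of_ne hne with hlt | hlt
        · -- n < n', n' = n + k e with k ≥ 1
          have hk : ∃ k, n' = n + (k + 1) * e := by
            have h5 : n' % e = n % e := hmod'.symm
            have h6 : (n' - n) % e = 0 := Nat.sub_mod_eq_zero_of_mod_eq h5
            obtain ⟨m, hm⟩ := Nat.dvd_of_mod_eq_zero h6
            have hm0 : m ≠ 0 := by rintro rfl; omega
            obtain ⟨m', rfl⟩ := Nat.exists_eq_succ_of_ne_zero hm0
            refine ⟨m', ?_⟩
            rw [Nat.succ_eq_add_one, mul_comm e] at hm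
            omega
          obtain ⟨k, hk⟩ := hk
          apply hn'.2.2.2.1
          have : n' - e = n + k * e := by rw [hk, Nat.succ_mul]; omega
          rw [this]; exact hadd n k hn.2.1
        · have hk : ∃ k, n = n' + (k + 1) * e := by
            have h6 : (n - n') % e = 0 := Nat.sub_mod_eq_zero_of_mod_eq hmod'
            obtain ⟨m, hm⟩ := Nat.dvd_of_mod_eq_zero h6
            have hm0 : m ≠ 0 := by rintro rfl; omega
            obtain ⟨m', rfl⟩ := Nat.exists_eq_succ_of_ne_zero hm0
            refine ⟨m', ?_⟩
            rw [Nat.succ_eq_add_one, mul_comm e] at hm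
            omega
          obtain ⟨k, hk⟩ := hk
          apply hn.2.2.2.1
          have : n - e = n' + k * e := by rw [hk, Nat.succ_mul]; omega
          rw [this]; exact hadd n' k hn'.2.1
      have hmaps : ∀ n ∈ Ap, n % e ∈ ((Finset.Ico 1 e).erase ((c - 1 + e) % e)) := by
        intro n hn
        simp only [hAp, Finset.mem_filter, Finset.mem_range] at hn
        rw [Finset.mem_erase, Finset.mem_Ico]
        refine ⟨?_, ?_, Nat.mod_lt _ (by omega)⟩
        · -- n % e ≠ (c - 1 + e) % e
          intro hmod
          -- both n and c-1+e are Apéry in same class, so equal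
          have hFe : c - 1 + e - e ∉ Γ := by rwa [Nat.add_sub_cancel]
          rcases Nat.lt_or_gt_of_ne hn.2.2.2.2 with hlt | hlt
          · have h6 : (c - 1 + e - n) % e = 0 := Nat.sub_mod_eq_zero_of_mod_eq hmod.symm
            obtain ⟨m, hm⟩ := Nat.dvd_of_mod_eq_zero h6
            have hm0 : m ≠ 0 := by rintro rfl; omega
            obtain ⟨m', rfl⟩ := Nat.exists_eq_succ_of_ne_zero hm0
            apply hc1
            have : c - 1 = n + m' * e := by
              rw [Nat.mul_succ, mul_comm e m'] at hm
              omega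
            rw [this]; exact hadd n _ hn.2.1
          · have h6 : (n - (c - 1 + e)) % e = 0 := Nat.sub_mod_eq_zero_of_mod_eq hmod
            obtain ⟨m, hm⟩ := Nat.dvd_of_mod_eq_zero h6
            have hm0 : m ≠ 0 := by rintro rfl; omega
            obtain ⟨m', rfl⟩ := Nat.exists_eq_succ_of_ne_zero hm0
            apply hn.2.2.2.1
            have : n - e = c - 1 + e + m' * e := by
              rw [Nat.mul_succ, mul_comm e m'] at hm
              omega
            rw [this]
            exact hadd _ _ (hc _ (by omega))
        · -- 1 ≤ n % e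
          by_contra h0
          have h0' : n % e = 0 := by omega
          obtain ⟨m, hm⟩ := Nat.dvd_of_mod_eq_zero h0'
          apply hn.2.2.2.1
          have hm0 : m ≠ 0 := by rintro rfl; omega
          have : n - e = (m - 1) * e := by
            rw [hm, Nat.sub_mul, one_mul, mul_comm]
          rw [this]; exact hke _
      have h9 := Finset.card_le_card_of_injOn (fun n => n % e) hmaps hinj
      have h10 : ((Finset.Ico 1 e).erase ((c - 1 + e) % e)).card = e - 2 := by
        rw [Finset.card_erase_of_mem, Nat.card_Ico]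
        · omega
        · rw [Finset.mem_Ico]
          refine ⟨?_, Nat.mod_lt _ (by omega)⟩
          by_contra h0
          have h0' : (c - 1 + e) % e = 0 := by omega
          rw [Nat.add_mod_right] at h0'
          obtain ⟨m, hm⟩ := Nat.dvd_of_mod_eq_zero h0'
          apply hc1
          rw [hm, mul_comm]; exact hke m
      omega
    calc (insert e Ap).card ≤ Ap.card + 1 := Finset.card_insert_le _ _
      _ ≤ e - 1 := by omega
  · -- generation
    apply le_antisymm
    · rw [AddSubmonoid.closure_le]
      intro n hn
      rw [Finset.coe_insert, Set.mem_insert_iff] at hn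
      rcases hn with rfl | hn
      · exact he
      · simp only [hAp, Finset.coe_filter, Finset.mem_range, Set.mem_setOf_eq] at hn
        exact hn.2.1
    · have heC : e ∈ AddSubmonoid.closure (↑(insert e Ap) : Set ℕ) :=
        AddSubmonoid.subset_closure (by simp)
      have main : ∀ n, n ∈ Γ → n ∈ AddSubmonoid.closure (↑(insert e Ap) : Set ℕ) := by
        intro n
        induction n using Nat.strong_induction_on with
        | _ n ih =>
          intro hn
          by_cases hn0 : n = 0
          · rw [hn0]; exact AddSubmonoid.zero_mem _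
          have hen : e ≤ n := hemin n hn hn0
          by_cases hne : n - e ∈ Γ
          · have := ih (n - e) (by omega) hne
            have e1 : n = (n - e) + e := by omega
            rw [e1]
            exact AddSubmonoid.add_mem _ this heC
          · by_cases hmax : n = c - 1 + e
            · have hxlt := hgap_lt x hx
              have h4 : c - 1 - x ∈ Γ := (hsymm x hxlt).1 hx
              have e1 : n = (x + e) + (c - 1 - x) := by omega
              have i1 := ih (x + e) (by omega) hxe
              have i2 := ih (c - 1 - x) (by omega) h4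
              rw [e1]
              exact AddSubmonoid.add_mem _ i1 i2
            · apply AddSubmonoid.subset_closure
              rw [Finset.coe_insert]
              right
              simp only [hAp, Finset.coe_filter, Finset.mem_range, Set.mem_setOf_eq]
              refine ⟨?_, hn, hen, hne, hmax⟩
              have := hgap_lt _ hne
              omega
      exact fun n hn => main n hn

end Groth.Agent.S15038
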