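import Groth.Statements.S15047
import Mathlib

set_option autoImplicit false
universe u
open TensorProduct
open Desc

namespace Groth.Agent.S15047

section Helpers

section
variable (A A' : Type u) [CommRing A] [CommRing A'] [Algebra A A'] (N : Type u) [AddCommGroup N] [Module A N]

/-- `n ↦ 1 ⊗ n` -/
noncomputable def iota : N →ₗ[A] A' ⊗[A] N := TensorProduct.mk A A' N 1

noncomputable def dL : A' ⊗[A] N →ₗ[A] (A' ⊗[A] A') ⊗[A] N :=
  LinearMap.rTensor N (Algebra.TensorProduct.includeLeft : A' →ₐ[A] A' ⊗[A] A').toLinearMap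

noncomputable def dR : A' ⊗[A] N →ₗ[A] (A' ⊗[A] A') ⊗[A] N :=
  LinearMap.rTensor N (Algebra.TensorProduct.includeRight : A' →ₐ[A] A' ⊗[A] A').toLinearMap

/-- contraction -/
noncomputable def sMap : A' ⊗[A] ((A' ⊗[A] A') ⊗[A] N) →ₗ[A] A' ⊗[A] (A' ⊗[A] N) :=
  (TensorProduct.assoc A A' A' N).toLinearMap ∘ₗ
    LinearMap.rTensor N (LinearMap.rTensor A' (LinearMap.mul' A A') ∘ₗ
      (TensorProduct.assoc A A' A' A').symm.toLinearMap) ∘ₗ
    (TensorProduct.assoc A A' (A' ⊗[A] A') N).symm.toLinearMap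

noncomputable def muMap : A' ⊗[A] (A' ⊗[A] N) →ₗ[A] A' ⊗[A] N :=
  LinearMap.rTensor N (LinearMap.mul' A A') ∘ₗ (TensorProduct.assoc A A' A' N).symm.toLinearMap

lemma sMap_tmul (a b c : A') (n : N) :
    sMap A A' N (a ⊗ₜ ((b ⊗ₜ c) ⊗ₜ n)) = (a * b) ⊗ₜ (c ⊗ₜ n) := by
  simp [sMap]

lemma sMap_dL (y : A' ⊗[A] (A' ⊗[A] N)) :
    sMap A A' N (LinearMap.lTensor A' (dL A A' N) y) =
      LinearMap.lTensor A' (iota A A' N) (muMap A A' N y) := by
  induction y with
  | zero => simp
  | add x y hx hy => simp only [map_add, hx, hy]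
  | tmul a z =>
    induction z with
    | zero => simp
    | add x y hx hy => simp only [tmul_add, map_add, hx, hy]
    | tmul b n =>
      simp [dL, iota, muMap, sMap_tmul]

lemma sMap_dR (y : A' ⊗[A] (A' ⊗[A] N)) :
    sMap A A' N (LinearMap.lTensor A' (dR A A' N) y) = y := by
  induction y with
  | zero => simp
  | add x y hx hy => simp only [map_add, hx, hy]
  | tmul a z =>
    induction z with
    | zero => simp
    | add x y hx hy => simp only [tmul_add, map_add, hx, hy]
    | tmul b n =>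
      simp [dR, sMap_tmul]

lemma d_iota (n : N) : (dL A A' N - dR A A' N) (iota A A' N n) = 0 := by
  simp [dL, dR, iota]

theorem amitsur_exact [Module.FaithfullyFlat A A'] :
    Function.Exact (iota A A' N) (dL A A' N - dR A A' N) := by
  rw [← Module.FaithfullyFlat.lTensor_exact_iff_exact A A']
  intro y
  constructor
  · intro hy
    refine ⟨muMap A A' N y, ?_⟩
    rw [LinearMap.lTensor_sub, LinearMap.sub_apply, sub_eq_zero] at hy
    have := congrArg (sMap A A' N) hy
    rw [sMap_dL, sMap_dR] at this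
    exact this
  · rintro ⟨z, rfl⟩
    rw [← LinearMap.comp_apply, ← LinearMap.lTensor_comp]
    have : (dL A A' N - dR A A' N) ∘ₗ iota A A' N = 0 := by
      ext n
      exact d_iota A A' N n
    rw [this, LinearMap.lTensor_zero, LinearMap.zero_apply]

end

theorem main (A A' : Type u) [CommRing A] [CommRing A'] [Algebra A A']
    [Module.FaithfullyFlat A A'] (M N : Type u) [AddCommGroup M] [Module A M] [AddCommGroup N] [Module A N]
    (f : A' ⊗[A] M →ₗ[A'] A' ⊗[A] N)
    (hf : ∀ m : M,
      LinearMap.rTensor N (Algebra.TensorProduct.includeLeft : A' →ₐ[A] A' ⊗[A] A').toLinearMap (f (1 ⊗ₜ[A] m)) =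
        LinearMap.rTensor N (Algebra.TensorProduct.includeRight : A' →ₐ[A] A' ⊗[A] A').toLinearMap (f (1 ⊗ₜ[A] m))) :
    ∃! h : M →ₗ[A] N, h.baseChange A' = f := by
  have hι : Function.Injective (iota A A' N) :=
    Module.FaithfullyFlat.tensorProduct_mk_injective (A := A) (B := A') N
  have hex := amitsur_exact A A' N
  -- the map m ↦ f (1 ⊗ m)
  let g : M →ₗ[A] A' ⊗[A] N := (f.restrictScalars A) ∘ₗ (TensorProduct.mk A A' M 1)
  have hg : ∀ m, g m ∈ LinearMap.range (iota A A' N) := by
    intro m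
    rw [LinearMap.mem_range]
    apply (hex _).1
    rw [LinearMap.sub_apply, sub_eq_zero]
    exact hf m
  let h : M →ₗ[A] N :=
    (LinearEquiv.ofInjective (iota A A' N) hι).symm.toLinearMap ∘ₗ
      LinearMap.codRestrict (LinearMap.range (iota A A' N)) g hg
  have hh : ∀ m, (1 : A') ⊗ₜ[A] h m = f (1 ⊗ₜ[A] m) := by
    intro m
    have : iota A A' N (h m) = g m := by
      have := (LinearEquiv.ofInjective (iota A A' N) hι).apply_symm_apply
        (LinearMap.codRestrict (LinearMap.range (iota A A' N)) g hg m)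
      exact congrArg Subtype.val this
    exact this
  refine ⟨h, ?_, ?_⟩
  · apply TensorProduct.AlgebraTensorModule.curry_injective
    ext m
    simp only [TensorProduct.AlgebraTensorModule.curry_apply, LinearMap.restrictScalars_self,
      TensorProduct.curry_apply, LinearMap.baseChange_tmul]
    exact hh m
  · intro h' hh'
    ext m
    apply hι
    change (1 : A') ⊗ₜ[A] h' m = (1 : A') ⊗ₜ[A] h m
    rw [hh m, ← hh', LinearMap.baseChange_tmul]

end Helpers

/-- Let A → A' be a faithfully flat homomorphism of commutative rings and M, N any A-modules. An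
A'-linear map f : A' ⊗_A M → A' ⊗_A N whose two base changes to A' ⊗_A A' (along a ↦ a ⊗ 1 and a ↦ 1
⊗ a) coincide is the base change of a unique A-linear map h : M → N. Since (A' ⊗_A A') ⊗_A M is
generated over A' ⊗_A A' by the elements 1 ⊗ m, the agreement of the two base changes is stated on
these generators: for every m, the two images of f (1 ⊗ m) in (A' ⊗_A A') ⊗_A N agree. Equivalently,
the sequence Hom_A(M, N) → Hom_{A'}(A' ⊗ M, A' ⊗ N) ⇉ Hom_{A' ⊗ A'}(A' ⊗ A' ⊗ M, A' ⊗ A' ⊗ N) is an
equalizer diagram. -/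
theorem result (A A' : Type u) [CommRing A] [CommRing A'] [Algebra A A']
    [Module.FaithfullyFlat A A'] (M N : Type u) [AddCommGroup M] [Module A M] [AddCommGroup N] [Module A N]
    (f : A' ⊗[A] M →ₗ[A'] A' ⊗[A] N)
    (hf : ∀ m : M,
      LinearMap.rTensor N (Algebra.TensorProduct.includeLeft : A' →ₐ[A] A' ⊗[A] A').toLinearMap (f (1 ⊗ₜ[A] m)) =
        LinearMap.rTensor N (Algebra.TensorProduct.includeRight : A' →ₐ[A] A' ⊗[A] A').toLinearMap (f (1 ⊗ₜ[A] m))) :
    ∃! h : M →ₗ[A] N, h.baseChange A' = f := by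
  exact main A A' M N f hf

end Groth.Agent.S15047
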