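import Groth.Statements.S15049
import Mathlib
import Groth.Agent.Lib.helper22.LubinTate

set_option autoImplicit false
universe u
open LubinTate

namespace Groth.Agent.S15049

section Helpers

open Groth.Agent.Lib.helper22.LubinTate MvPowerSeries

variable {O : Type u} [CommRing O] [IsDomain O] [IsDiscreteValuationRing O]
    [Finite (IsLocalRing.ResidueField O)]

/-- linear coefficients of `Φ(a₀, a₁)` when `Φ` has linear part `X + Y`. -/
theorem coeff_subst_pair {τ : Type*} [Finite τ] (Φ : MvPowerSeries (Fin 2) O)
    (h0 : constantCoeff Φ = 0) (hX : coeff (Finsupp.single 0 1) Φ = 1)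
    (hY : coeff (Finsupp.single 1 1) Φ = 1) (a : Fin 2 → MvPowerSeries τ O)
    (ha : ∀ i, constantCoeff (a i) = 0) (s : τ) :
    coeff (Finsupp.single s 1) (subst a Φ) =
      coeff (Finsupp.single s 1) (a 0) + coeff (Finsupp.single s 1) (a 1) := by
  rw [coeff_subst_of_degree_le_one ha h0 _ (by rw [Finsupp.degree_single]), Fin.sum_univ_two, hX,
    hY, one_mul, one_mul]

theorem main (π : O) (hπ : Irreducible π) (f : PowerSeries O)
    (hf : f = π • PowerSeries.X + PowerSeries.X ^ Nat.card (IsLocalRing.ResidueField O)) :
    ∃ F : FormalGroup O, F.IsComm ∧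
      PowerSeries.subst F.toPowerSeries f =
        MvPowerSeries.subst (fun i : Fin 2 => PowerSeries.subst (MvPowerSeries.X i : MvPowerSeries (Fin 2) O) f) F.toPowerSeries ∧
      ∀ G : MvPowerSeries (Fin 2) O, G.constantCoeff = 0 → G.coeff (Finsupp.single 0 1) = 1 →
        G.coeff (Finsupp.single 1 1) = 1 →
        PowerSeries.subst G f =
        MvPowerSeries.subst (fun i : Fin 2 => PowerSeries.subst (MvPowerSeries.X i : MvPowerSeries (Fin 2) O) f) G →
        G = F.toPowerSeries := by
  classical
  set q := Nat.card (IsLocalRing.ResidueField O) with hqdef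
  have hq : q ≠ 0 := by
    have := two_le_card_residueField (O := O); omega
  subst hf
  obtain ⟨Φ, h0, hl, hE⟩ := dvr_exists (σ := Fin 2) π hπ
    ((X 0 : MvPowerSeries (Fin 2) O) + X 1) (by simp)
  have hX : coeff (Finsupp.single 0 1) Φ = 1 := by
    rw [hl 0, map_add, coeff_index_single_X, coeff_index_single_X]
    simp
  have hY : coeff (Finsupp.single 1 1) Φ = 1 := by
    rw [hl 1, map_add, coeff_index_single_X, coeff_index_single_X]
    simp
  -- associativity
  have hassoc : Φ.subst ![Φ.subst ![(X 0 : MvPowerSeries (Fin 3) O), X 1], X 2] =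
      Φ.subst ![X 0, Φ.subst ![(X 1 : MvPowerSeries (Fin 3) O), X 2]] := by
    have ha01 : ∀ i : Fin 2, constantCoeff (![(X 0 : MvPowerSeries (Fin 3) O), X 1] i) = 0 := by
      intro i; fin_cases i <;> simp
    have ha12 : ∀ i : Fin 2, constantCoeff (![(X 1 : MvPowerSeries (Fin 3) O), X 2] i) = 0 := by
      intro i; fin_cases i <;> simp
    have hE01 : ∀ i : Fin 2, Err π 1 q (![(X 0 : MvPowerSeries (Fin 3) O), X 1] i) = 0 := by
      intro i; fin_cases i
      · exact Err_X π hq _
      · exact Err_X π hq _
    have hE12 : ∀ i : Fin 2, Err π 1 q (![(X 1 : MvPowerSeries (Fin 3) O), X 2] i) = 0 := by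
      intro i; fin_cases i
      · exact Err_X π hq _
      · exact Err_X π hq _
    have c01 := constantCoeff_subst_zero ha01 h0
    have c12 := constantCoeff_subst_zero ha12 h0
    have e01 := Err_subst π 1 hq ha01 hE01 hE
    have e12 := Err_subst π 1 hq ha12 hE12 hE
    have haL : ∀ i : Fin 2, constantCoeff
        (![Φ.subst ![(X 0 : MvPowerSeries (Fin 3) O), X 1], X 2] i) = 0 := by
      intro i; fin_cases i
      · exact c01
      · simp
    have haR : ∀ i : Fin 2, constantCoeff
        (![X 0, Φ.subst ![(X 1 : MvPowerSeries (Fin 3) O), X 2]] i) = 0 := by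
      intro i; fin_cases i
      · simp
      · exact c12
    have hEL : ∀ i : Fin 2, Err π 1 q
        (![Φ.subst ![(X 0 : MvPowerSeries (Fin 3) O), X 1], X 2] i) = 0 := by
      intro i; fin_cases i
      · exact e01
      · exact Err_X π hq _
    have hER : ∀ i : Fin 2, Err π 1 q
        (![X 0, Φ.subst ![(X 1 : MvPowerSeries (Fin 3) O), X 2]] i) = 0 := by
      intro i; fin_cases i
      · exact Err_X π hq _
      · exact e12
    apply dvr_unique π hπ (constantCoeff_subst_zero haL h0) (constantCoeff_subst_zero haR h0) _
      (Err_subst π 1 hq haL hEL hE) (Err_subst π 1 hq haR hER hE)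
    intro s
    rw [coeff_subst_pair Φ h0 hX hY _ haL, coeff_subst_pair Φ h0 hX hY _ haR]
    simp only [Matrix.cons_val_zero, Matrix.cons_val_one, Matrix.cons_val_fin_one]
    rw [coeff_subst_pair Φ h0 hX hY _ ha01, coeff_subst_pair Φ h0 hX hY _ ha12]
    simp only [Matrix.cons_val_zero, Matrix.cons_val_one, Matrix.cons_val_fin_one]
    ring
  let F : FormalGroup O :=
    { toPowerSeries := Φ
      zero_constantCoeff := h0
      lin_coeff_X := hX
      lin_coeff_Y := hY
      assoc := hassoc }
  refine ⟨F, ⟨?_⟩, (eqn_iff π q hq Φ h0).2 hE, ?_⟩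
  · -- commutativity
    have ha : ∀ i : Fin 2, constantCoeff (![(X 1 : MvPowerSeries (Fin 2) O), X 0] i) = 0 := by
      intro i; fin_cases i <;> simp
    have haE : ∀ i : Fin 2, Err π 1 q (![(X 1 : MvPowerSeries (Fin 2) O), X 0] i) = 0 := by
      intro i; fin_cases i
      · exact Err_X π hq _
      · exact Err_X π hq _
    change Φ = Φ.subst ![X 1, X 0]
    apply dvr_unique π hπ h0 (constantCoeff_subst_zero ha h0) _ hE (Err_subst π 1 hq ha haE hE)
    intro s
    rw [coeff_subst_pair Φ h0 hX hY _ ha]
    simp only [Matrix.cons_val_zero, Matrix.cons_val_one, Matrix.cons_val_fin_one,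
      coeff_index_single_X]
    fin_cases s
    · simp [hX]
    · simp [hY]
  · intro G hG0 hGX hGY hGE
    have eG := (eqn_iff π q hq G hG0).1 hGE
    apply dvr_unique π hπ hG0 h0 _ eG hE
    intro s
    fin_cases s
    · exact hGX.trans hX.symm
    · exact hGY.trans hY.symm

end Helpers

/-- Let O be a discrete valuation ring with finite residue field of cardinality q, π a uniformizer of O,
and f = πT + T^q ∈ O[[T]]. Then there is a one-dimensional commutative formal group law F(X,Y) over
O for which f is an endomorphism, f(F(X,Y)) = F(f(X), f(Y)); and F is the unique power series in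
O[[X,Y]] with zero constant term and linear part X + Y satisfying this identity. (The published
statement is for the ring of integers of a finite extension of ℚ_p or of 𝔽_q((X)); completeness is
not used and any discrete valuation ring with finite residue field is allowed here.) -/
theorem result (O : Type u) [CommRing O] [IsDomain O] [IsDiscreteValuationRing O]
    [Finite (IsLocalRing.ResidueField O)] (π : O) (hπ : Irreducible π) (f : PowerSeries O)
    (hf : f = π • PowerSeries.X + PowerSeries.X ^ Nat.card (IsLocalRing.ResidueField O)) :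
    ∃ F : FormalGroup O, F.IsComm ∧
      PowerSeries.subst F.toPowerSeries f =
        MvPowerSeries.subst (fun i : Fin 2 => PowerSeries.subst (MvPowerSeries.X i : MvPowerSeries (Fin 2) O) f) F.toPowerSeries ∧
      ∀ G : MvPowerSeries (Fin 2) O, G.constantCoeff = 0 → G.coeff (Finsupp.single 0 1) = 1 →
        G.coeff (Finsupp.single 1 1) = 1 →
        PowerSeries.subst G f =
        MvPowerSeries.subst (fun i : Fin 2 => PowerSeries.subst (MvPowerSeries.X i : MvPowerSeries (Fin 2) O) f) G →
        G = F.toPowerSeries := by
  exact main π hπ f hf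

end Groth.Agent.S15049
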