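import Groth.Statements.S15050
import Mathlib
import Groth.Agent.Lib.helper22.LubinTate

set_option autoImplicit false
universe u
open LubinTate

namespace Groth.Agent.S15050

section Helpers

open Groth.Agent.Lib.helper22.LubinTate

variable {O : Type u} [CommRing O]

/-- `π T + T^q` -/
noncomputable abbrev f0 (π : O) (q : ℕ) : PowerSeries O :=
  π • (PowerSeries.X : PowerSeries O) + PowerSeries.X ^ q

/-- one-variable version of the functional equation -/
theorem comm_iff (π : O) (q : ℕ) (hq : q ≠ 0) (g : PowerSeries O)
    (hg : PowerSeries.constantCoeff g = 0) :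
    PowerSeries.subst g (f0 π q) = PowerSeries.subst (f0 π q) g ↔
    Err π 1 q (g : MvPowerSeries Unit O) = 0 := by
  rw [← eqn_iff π _ hq g hg]
  have : (fun s : Unit => PowerSeries.subst (MvPowerSeries.X s : MvPowerSeries Unit O)
        (π • (PowerSeries.X : PowerSeries O) + PowerSeries.X ^ q)) = fun _ => f0 π q := by
    funext s
    rw [subst_X_f π q hq s]
    rfl
  rw [this]
  rfl

theorem main [IsDomain O] [IsDiscreteValuationRing O]
    [Finite (IsLocalRing.ResidueField O)] (π : O) (hπ : Irreducible π) (f : PowerSeries O)
    (hf : f = π • PowerSeries.X + PowerSeries.X ^ Nat.card (IsLocalRing.ResidueField O)) (α : O) :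
    ∃! g : PowerSeries O, g.constantCoeff = 0 ∧ g.coeff 1 = α ∧
      PowerSeries.subst g f = PowerSeries.subst f g := by
  have hq : Nat.card (IsLocalRing.ResidueField O) ≠ 0 := by
    have := two_le_card_residueField (O := O); omega
  subst hf
  obtain ⟨Φ, h0, hl, hE⟩ := dvr_exists (σ := Unit) π hπ (α • (PowerSeries.X : PowerSeries O))
    (by
      change PowerSeries.constantCoeff (α • (PowerSeries.X : PowerSeries O)) = 0
      simp)
  have hα : PowerSeries.coeff 1 Φ = α := by
    have := hl ()
    rw [show MvPowerSeries.coeff (Finsupp.single () 1) (α • (PowerSeries.X : PowerSeries O)) =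
      PowerSeries.coeff 1 (α • (PowerSeries.X : PowerSeries O)) from rfl] at this
    rw [show PowerSeries.coeff 1 Φ = MvPowerSeries.coeff (Finsupp.single () 1) Φ from rfl, this]
    simp
  refine ⟨Φ, ⟨h0, hα, (comm_iff π _ hq Φ h0).2 hE⟩, ?_⟩
  rintro g ⟨hg0, hg1, hgE⟩
  apply dvr_unique π hπ hg0 h0
  · intro s
    change PowerSeries.coeff 1 g = PowerSeries.coeff 1 Φ
    rw [hg1, hα]
  · exact (comm_iff π _ hq g hg0).1 hgE
  · exact hE

end Helpers

/-- Let O be a discrete valuation ring with finite residue field of cardinality q, π a uniformizer of O,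
and f = πT + T^q ∈ O[[T]]. For every α ∈ O there is a unique power series g = [α] ∈ O[[T]] with zero
constant term and linear coefficient α which commutes with f under substitution, g(f(T)) = f(g(T)).
(The published statement is for the ring of integers of a finite extension of ℚ_p or of 𝔽_q((X));
completeness is not used and any discrete valuation ring with finite residue field is allowed here.) -/
theorem result (O : Type u) [CommRing O] [IsDomain O] [IsDiscreteValuationRing O]
    [Finite (IsLocalRing.ResidueField O)] (π : O) (hπ : Irreducible π) (f : PowerSeries O)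
    (hf : f = π • PowerSeries.X + PowerSeries.X ^ Nat.card (IsLocalRing.ResidueField O)) (α : O) :
    ∃! g : PowerSeries O, g.constantCoeff = 0 ∧ g.coeff 1 = α ∧
      PowerSeries.subst g f = PowerSeries.subst f g := by
  exact main π hπ f hf α

end Groth.Agent.S15050
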