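import Groth.Statements.S15051
import Mathlib
import Groth.Agent.Lib.helper22.LubinTate

set_option autoImplicit false
universe u
open LubinTate

namespace Groth.Agent.S15051

section Helpers

open Groth.Agent.Lib.helper22.LubinTate

variable {O : Type u} [CommRing O] [IsDomain O] [IsDiscreteValuationRing O]
    [Finite (IsLocalRing.ResidueField O)]

/-- linear coefficients of `g(X_i)`. -/
theorem coeff_subst_X {R : Type*} [CommRing R] {τ : Type*} [Finite τ] [DecidableEq τ]
    (g : PowerSeries R) (hg : PowerSeries.constantCoeff g = 0) (i s : τ) :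
    MvPowerSeries.coeff (Finsupp.single s 1)
      (PowerSeries.subst (MvPowerSeries.X i : MvPowerSeries τ R) g) =
      if s = i then PowerSeries.coeff 1 g else 0 := by
  have ha : ∀ u : Unit, MvPowerSeries.constantCoeff
      ((fun _ : Unit => (MvPowerSeries.X i : MvPowerSeries τ R)) u) = 0 :=
    fun _ => MvPowerSeries.constantCoeff_X i
  have h1 := coeff_subst_of_degree_le_one ha hg (Finsupp.single s 1)
    (by rw [Finsupp.degree_single])
  rw [show (PowerSeries.subst (MvPowerSeries.X i : MvPowerSeries τ R) g) =
      MvPowerSeries.subst (fun _ : Unit => (MvPowerSeries.X i : MvPowerSeries τ R)) g from rfl, h1]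
  simp only [Finset.univ_unique, Finset.sum_singleton]
  rw [MvPowerSeries.coeff_index_single_X]
  split_ifs with h
  · rw [mul_one]; rfl
  · rw [mul_zero]

theorem main (π : O) (hπ : Irreducible π) (f : PowerSeries O)
    (hf : f = π • PowerSeries.X + PowerSeries.X ^ Nat.card (IsLocalRing.ResidueField O))
    (F : FormalGroup O)
    (hF : PowerSeries.subst F.toPowerSeries f =
        MvPowerSeries.subst (fun i : Fin 2 => PowerSeries.subst (MvPowerSeries.X i : MvPowerSeries (Fin 2) O) f) F.toPowerSeries)
    (g : PowerSeries O) (hg0 : g.constantCoeff = 0)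
    (hgf : PowerSeries.subst g f = PowerSeries.subst f g) :
    PowerSeries.subst F.toPowerSeries g =
      MvPowerSeries.subst (fun i : Fin 2 => PowerSeries.subst (MvPowerSeries.X i : MvPowerSeries (Fin 2) O) g)
        F.toPowerSeries := by
  set q := Nat.card (IsLocalRing.ResidueField O) with hqdef
  have hq : q ≠ 0 := by
    have := two_le_card_residueField (O := O); omega
  subst hf
  have eg := (comm_iff π q hq g hg0).1 hgf
  have eF := (eqn_iff π q hq F.toPowerSeries F.zero_constantCoeff).1 hF
  -- first series
  have ha1 : ∀ u : Unit, MvPowerSeries.constantCoeff ((fun _ : Unit => F.toPowerSeries) u) = 0 :=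
    fun _ => F.zero_constantCoeff
  have h01 : MvPowerSeries.constantCoeff (PowerSeries.subst F.toPowerSeries g) = 0 :=
    constantCoeff_subst_zero ha1 hg0
  have hE1 : Err π 1 q (PowerSeries.subst F.toPowerSeries g) = 0 :=
    Err_subst π 1 hq ha1 (fun _ => eF) eg
  -- second series
  have haX : ∀ i : Fin 2, ∀ u : Unit, MvPowerSeries.constantCoeff
      ((fun _ : Unit => (MvPowerSeries.X i : MvPowerSeries (Fin 2) O)) u) = 0 :=
    fun i _ => MvPowerSeries.constantCoeff_X i
  have ha2 : ∀ i : Fin 2, MvPowerSeries.constantCoeff
      (PowerSeries.subst (MvPowerSeries.X i : MvPowerSeries (Fin 2) O) g) = 0 :=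
    fun i => constantCoeff_subst_zero (haX i) hg0
  have haE2 : ∀ i : Fin 2, Err π 1 q
      (PowerSeries.subst (MvPowerSeries.X i : MvPowerSeries (Fin 2) O) g) = 0 :=
    fun i => Err_subst π 1 hq (haX i) (fun _ => Err_X π hq i) eg
  have h02 := constantCoeff_subst_zero ha2 F.zero_constantCoeff
  have hE2 := Err_subst π 1 hq ha2 haE2 eF
  apply dvr_unique π hπ h01 h02 _ hE1 hE2
  intro s
  have h1 := coeff_subst_of_degree_le_one ha1 hg0 (Finsupp.single s 1)
    (by rw [Finsupp.degree_single])
  have h2 := coeff_subst_of_degree_le_one ha2 F.zero_constantCoeff (Finsupp.single s 1)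
    (by rw [Finsupp.degree_single])
  rw [show (PowerSeries.subst F.toPowerSeries g) =
      MvPowerSeries.subst (fun _ : Unit => F.toPowerSeries) g from rfl, h1, h2]
  simp only [Finset.univ_unique, Finset.sum_singleton, Fin.sum_univ_two, F.lin_coeff_X,
    F.lin_coeff_Y, one_mul, coeff_subst_X g hg0]
  fin_cases s
  · simp [F.lin_coeff_X]
  · simp [F.lin_coeff_Y]

end Helpers

/-- Let O be a discrete valuation ring with finite residue field of cardinality q, π a uniformizer of O,
and f = πT + T^q ∈ O[[T]]; let F be a one-dimensional formal group law over O for which f is an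
endomorphism, f(F(X,Y)) = F(f(X), f(Y)), and g ∈ O[[T]] a power series with zero constant term which
commutes with f, g(f(T)) = f(g(T)). Then g is an endomorphism of F, that is g(F(X,Y)) = F(g(X),
g(Y)); so α ↦ [α] maps O into the endomorphisms of the Lubin–Tate formal group. (The published
statement is for the ring of integers of a finite extension of ℚ_p or of 𝔽_q((X)); completeness is
not used and any discrete valuation ring with finite residue field is allowed here.) -/
theorem result (O : Type u) [CommRing O] [IsDomain O] [IsDiscreteValuationRing O]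
    [Finite (IsLocalRing.ResidueField O)] (π : O) (hπ : Irreducible π) (f : PowerSeries O)
    (hf : f = π • PowerSeries.X + PowerSeries.X ^ Nat.card (IsLocalRing.ResidueField O))
    (F : FormalGroup O)
    (hF : PowerSeries.subst F.toPowerSeries f =
        MvPowerSeries.subst (fun i : Fin 2 => PowerSeries.subst (MvPowerSeries.X i : MvPowerSeries (Fin 2) O) f) F.toPowerSeries)
    (g : PowerSeries O) (hg0 : g.constantCoeff = 0)
    (hgf : PowerSeries.subst g f = PowerSeries.subst f g) :
    PowerSeries.subst F.toPowerSeries g =
      MvPowerSeries.subst (fun i : Fin 2 => PowerSeries.subst (MvPowerSeries.X i : MvPowerSeries (Fin 2) O) g)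
        F.toPowerSeries := by
  exact main π hπ f hf F hF g hg0 hgf

end Groth.Agent.S15051
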