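import Groth.Statements.S15052
import Mathlib
import Groth.Agent.Lib.helper22.LubinTate

set_option autoImplicit false
universe u
open LubinTate

namespace Groth.Agent.S15052

section Helpers

open Groth.Agent.Lib.helper22.LubinTate MvPowerSeries

variable {O : Type u} [CommRing O] [IsDomain O] [IsDiscreteValuationRing O]
    [Finite (IsLocalRing.ResidueField O)] {K : Type u} [Field K] [Algebra O K] [IsFractionRing O K]

theorem map_f0 (π : O) (q : ℕ) :
    PowerSeries.map (algebraMap O K) (π • PowerSeries.X + PowerSeries.X ^ q) =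
      algebraMap O K π • (PowerSeries.X : PowerSeries K) + PowerSeries.X ^ q := by
  rw [map_add, map_pow, PowerSeries.map_X, PowerSeries.smul_eq_C_mul, PowerSeries.smul_eq_C_mul,
    map_mul, PowerSeries.map_C, PowerSeries.map_X]

/-- the logarithm equation in terms of `Err` with `c = 0`. -/
theorem log_iff (π' : K) (q : ℕ) (l : PowerSeries K) :
    PowerSeries.subst (π' • (PowerSeries.X : PowerSeries K) + PowerSeries.X ^ q) l = π' • l ↔
      Err π' 0 q (l : MvPowerSeries Unit K) = 0 := by
  rw [Err, hc, zero_smul, add_zero, sub_eq_zero]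
  have : (PowerSeries.subst (π' • (PowerSeries.X : PowerSeries K) + PowerSeries.X ^ q) l :
      MvPowerSeries Unit K) = subst (fX π' q) l := by
    change MvPowerSeries.subst (fun _ : Unit => _) l = _
    congr 1
  rw [this]
  exact eq_comm

theorem main (π : O) (hπ : Irreducible π) (f : PowerSeries O)
    (hf : f = π • PowerSeries.X + PowerSeries.X ^ Nat.card (IsLocalRing.ResidueField O))
    (F : FormalGroup O)
    (hF : PowerSeries.subst F.toPowerSeries f =
        MvPowerSeries.subst (fun i : Fin 2 => PowerSeries.subst (MvPowerSeries.X i : MvPowerSeries (Fin 2) O) f) F.toPowerSeries) :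
    ∃ ℓ : PowerSeries K, (ℓ.constantCoeff = 0 ∧ ℓ.coeff 1 = 1 ∧
      PowerSeries.subst (PowerSeries.map (algebraMap O K) f) ℓ = algebraMap O K π • ℓ) ∧
      (∀ ℓ' : PowerSeries K, ℓ'.constantCoeff = 0 → ℓ'.coeff 1 = 1 →
        PowerSeries.subst (PowerSeries.map (algebraMap O K) f) ℓ' = algebraMap O K π • ℓ' → ℓ' = ℓ) ∧
      PowerSeries.subst ((F.toPowerSeries).map (algebraMap O K)) ℓ =
        PowerSeries.subst (MvPowerSeries.X (0 : Fin 2) : MvPowerSeries (Fin 2) K) ℓ +
          PowerSeries.subst (MvPowerSeries.X (1 : Fin 2) : MvPowerSeries (Fin 2) K) ℓ ∧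
      (∀ (α : O) (g : PowerSeries O), g.constantCoeff = 0 → g.coeff 1 = α →
        PowerSeries.subst g f = PowerSeries.subst f g →
        PowerSeries.subst (PowerSeries.map (algebraMap O K) g) ℓ = algebraMap O K α • ℓ) := by
  classical
  set q := Nat.card (IsLocalRing.ResidueField O) with hqdef
  have hq2 : 2 ≤ q := two_le_card_residueField (O := O)
  have hq : q ≠ 0 := by omega
  subst hf
  set π' := algebraMap O K π with hπ'
  rw [map_f0]
  have eF := (eqn_iff π q hq F.toPowerSeries F.zero_constantCoeff).1 hF
  -- the map of F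
  set FK : MvPowerSeries (Fin 2) K := (F.toPowerSeries).map (algebraMap O K) with hFK
  have hFK0 : constantCoeff FK = 0 := by
    rw [hFK, constantCoeff_map, F.zero_constantCoeff, map_zero]
  have eFK : Err π' 1 q FK = 0 := by
    have := map_Err (algebraMap O K) π 1 hq F.toPowerSeries
    rw [eF, map_zero, map_one] at this
    exact this.symm
  -- existence of the logarithm
  obtain ⟨l, hl0, hl1, hlE⟩ := field_exists (K := K) (σ := Unit) π hπ hq2 (0 : K)
    (PowerSeries.X : PowerSeries K) (by
      change PowerSeries.constantCoeff (PowerSeries.X : PowerSeries K) = 0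
      simp)
  have hl1' : PowerSeries.coeff 1 l = 1 := by
    have := hl1 ()
    rw [show MvPowerSeries.coeff (Finsupp.single () 1) (PowerSeries.X : PowerSeries K) =
      PowerSeries.coeff 1 (PowerSeries.X : PowerSeries K) from rfl] at this
    rw [show PowerSeries.coeff 1 l = MvPowerSeries.coeff (Finsupp.single () 1) l from rfl, this]
    simp
  refine ⟨l, ⟨hl0, hl1', (log_iff π' q l).2 hlE⟩, ?_, ?_, ?_⟩
  · -- uniqueness
    intro l' hl'0 hl'1 hl'E
    apply field_unique (K := K) π hπ hq2 (0 : K) hl'0 hl0 _ ((log_iff π' q l').1 hl'E) hlE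
    intro s
    change PowerSeries.coeff 1 l' = PowerSeries.coeff 1 l
    rw [hl'1, hl1']
  · -- additivity
    have ha1 : ∀ u : Unit, constantCoeff ((fun _ : Unit => FK) u) = 0 := fun _ => hFK0
    have haX : ∀ i : Fin 2, ∀ u : Unit, constantCoeff
        ((fun _ : Unit => (MvPowerSeries.X i : MvPowerSeries (Fin 2) K)) u) = 0 :=
      fun i _ => constantCoeff_X i
    have hL0 : constantCoeff (PowerSeries.subst FK l) = 0 := constantCoeff_subst_zero ha1 hl0
    have hLE : Err π' 0 q (PowerSeries.subst FK l) = 0 :=
      Err_subst π' 0 hq ha1 (fun _ => eFK) hlE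
    have hX0 : ∀ i : Fin 2, constantCoeff
        (PowerSeries.subst (MvPowerSeries.X i : MvPowerSeries (Fin 2) K) l) = 0 :=
      fun i => constantCoeff_subst_zero (haX i) hl0
    have hXE : ∀ i : Fin 2, Err π' 0 q
        (PowerSeries.subst (MvPowerSeries.X i : MvPowerSeries (Fin 2) K) l) = 0 :=
      fun i => Err_subst π' 0 hq (haX i) (fun _ => Err_X π' hq i) hlE
    apply field_unique (K := K) π hπ hq2 (0 : K) hL0 (by rw [map_add, hX0, hX0, add_zero]) _ hLE
      (by rw [Err_zero_add π' hq, hXE, hXE, add_zero])
    intro s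
    have h1 := coeff_subst_of_degree_le_one ha1 hl0 (Finsupp.single s 1)
      (by rw [Finsupp.degree_single])
    rw [show (PowerSeries.subst FK l) = MvPowerSeries.subst (fun _ : Unit => FK) l from rfl, h1,
      map_add, coeff_subst_X l hl0, coeff_subst_X l hl0]
    simp only [Finset.univ_unique, Finset.sum_singleton]
    rw [show MvPowerSeries.coeff (Finsupp.single default 1) l = PowerSeries.coeff 1 l from rfl,
      hl1', one_mul, hFK, coeff_map]
    fin_cases s
    · simp [F.lin_coeff_X]
    · simp [F.lin_coeff_Y]
  · -- O-linearity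
    intro α g hg0 hg1 hgf
    have eg := (comm_iff π q hq g hg0).1 hgf
    set gK : PowerSeries K := PowerSeries.map (algebraMap O K) g with hgK
    have hgK0 : constantCoeff (gK : MvPowerSeries Unit K) = 0 := by
      change constantCoeff (MvPowerSeries.map (algebraMap O K) g) = 0
      rw [constantCoeff_map]
      have : constantCoeff (g : MvPowerSeries Unit O) = 0 := hg0
      rw [this, map_zero]
    have egK : Err π' 1 q (gK : MvPowerSeries Unit K) = 0 := by
      have := map_Err (algebraMap O K) π 1 hq (g : MvPowerSeries Unit O)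
      rw [eg, map_zero, map_one] at this
      exact this.symm
    have ha1 : ∀ u : Unit, constantCoeff ((fun _ : Unit => (gK : MvPowerSeries Unit K)) u) = 0 :=
      fun _ => hgK0
    have hL0 : constantCoeff (PowerSeries.subst gK l : MvPowerSeries Unit K) = 0 :=
      constantCoeff_subst_zero ha1 hl0
    have hLE : Err π' 0 q (PowerSeries.subst gK l : MvPowerSeries Unit K) = 0 :=
      Err_subst π' 0 hq ha1 (fun _ => egK) hlE
    have hR0 : constantCoeff (algebraMap O K α • l : MvPowerSeries Unit K) = 0 := by
      rw [smul_eq_C_mul, map_mul]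
      have : constantCoeff (l : MvPowerSeries Unit K) = 0 := hl0
      rw [this, mul_zero]
    apply field_unique (K := K) π hπ hq2 (0 : K) hL0 hR0 _ hLE
      (by rw [Err_zero_smul π' hq, hlE, smul_zero])
    intro s
    have h1 := coeff_subst_of_degree_le_one ha1 hl0 (Finsupp.single s 1)
      (by rw [Finsupp.degree_single])
    rw [show (PowerSeries.subst gK l : MvPowerSeries Unit K) =
      MvPowerSeries.subst (fun _ : Unit => (gK : MvPowerSeries Unit K)) l from rfl, h1]
    simp only [Finset.univ_unique, Finset.sum_singleton]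
    rw [coeff_smul]
    change PowerSeries.coeff 1 l * PowerSeries.coeff 1 gK = algebraMap O K α * PowerSeries.coeff 1 l
    rw [hl1', one_mul, mul_one, hgK, PowerSeries.coeff_map, hg1]

end Helpers

/-- Let O be a discrete valuation ring with finite residue field of cardinality q, π a uniformizer of O,
and f = πT + T^q ∈ O[[T]]; let K be the fraction field of O and F a one-dimensional formal group law
over O for which f is an endomorphism, f(F(X,Y)) = F(f(X), f(Y)). Then there is a unique power
series ℓ ∈ K[[T]] with zero constant term and linear coefficient 1 such that ℓ(f(T)) = π·ℓ(T); this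
logarithm is a homomorphism to the additive formal group, ℓ(F(T,S)) = ℓ(T) + ℓ(S), and it is
O-linear in the sense that ℓ(g(T)) = α·ℓ(T) for every α ∈ O and every series g ∈ O[[T]] with zero
constant term and linear coefficient α commuting with f. (The published statement is for the ring of
integers of a finite extension of ℚ_p; completeness is not used and any discrete valuation ring with
finite residue field is allowed here.) -/
theorem result (O : Type u) [CommRing O] [IsDomain O] [IsDiscreteValuationRing O]
    [Finite (IsLocalRing.ResidueField O)] (K : Type u) [Field K] [Algebra O K] [IsFractionRing O K]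
    (π : O) (hπ : Irreducible π) (f : PowerSeries O)
    (hf : f = π • PowerSeries.X + PowerSeries.X ^ Nat.card (IsLocalRing.ResidueField O))
    (F : FormalGroup O)
    (hF : PowerSeries.subst F.toPowerSeries f =
        MvPowerSeries.subst (fun i : Fin 2 => PowerSeries.subst (MvPowerSeries.X i : MvPowerSeries (Fin 2) O) f) F.toPowerSeries) :
    ∃ ℓ : PowerSeries K, (ℓ.constantCoeff = 0 ∧ ℓ.coeff 1 = 1 ∧
      PowerSeries.subst (PowerSeries.map (algebraMap O K) f) ℓ = algebraMap O K π • ℓ) ∧
      (∀ ℓ' : PowerSeries K, ℓ'.constantCoeff = 0 → ℓ'.coeff 1 = 1 →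
        PowerSeries.subst (PowerSeries.map (algebraMap O K) f) ℓ' = algebraMap O K π • ℓ' → ℓ' = ℓ) ∧
      PowerSeries.subst ((F.toPowerSeries).map (algebraMap O K)) ℓ =
        PowerSeries.subst (MvPowerSeries.X (0 : Fin 2) : MvPowerSeries (Fin 2) K) ℓ +
          PowerSeries.subst (MvPowerSeries.X (1 : Fin 2) : MvPowerSeries (Fin 2) K) ℓ ∧
      (∀ (α : O) (g : PowerSeries O), g.constantCoeff = 0 → g.coeff 1 = α →
        PowerSeries.subst g f = PowerSeries.subst f g →
        PowerSeries.subst (PowerSeries.map (algebraMap O K) g) ℓ = algebraMap O K α • ℓ) := by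
  exact main π hπ f hf F hF

end Groth.Agent.S15052
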