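import Groth.Statements.S15054
import Groth.Agent.Lib.helper1.KP1

set_option autoImplicit false
universe u
open CategoryTheory CategoryTheory.Limits MonoidalCategory CartesianMonoidalCategory MonObj GrpObj AlgebraicGeometry
open BTGrp

namespace Groth.Agent.S15054

/-- Let ℓ be a prime and G = (G_ν)_ν an ℓ-divisible (Barsotti–Tate) group of height h over a scheme S,
given as the system of its finite locally free layers G_ν of order ℓ^{νh} with inclusions G_ν →
G_{ν+1} exhibiting G_ν as the ℓ^ν-torsion of G_{ν+1} and projections G_{ν+1} → G_ν (multiplication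
by ℓ). Let i_t : G_1 → G_{t+1} denote the iterated inclusions, pinned by i_0 = id and i_{t+1} = i_t
followed by G_{t+1} → G_{t+2}. Then for every t, i_t identifies G_1 with the kernel of
multiplication by ℓ on G_{t+1}: the ℓ-torsion of every layer is the first layer. (The published
statement identifies G_v with the ℓ^v-torsion of G_{v+t} for all v; this row is its case v = 1. The
published base is the spectrum of a Noetherian ring; the argument is formal and any base scheme is
allowed here.) -/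
theorem result {S : Scheme.{u}} (ℓ h : ℕ) [Fact ℓ.Prime] (G : BTGrp.ProBT ℓ S h)
    (i : (t : ℕ) → (G.G 1 ⟶ G.G (t + 1))) (hi0 : i 0 = 𝟙 (G.G 1))
    (hi : ∀ t : ℕ, i (t + 1) = i t ≫ G.incl (t + 1)) (t : ℕ) :
    AlgGrp.IsKernel (i t) ((𝟙 (G.G (t + 1))) ^ ℓ) := by
  classical
  have hpowcomp : ∀ (ν : ℕ) (T : Over S) (x : T ⟶ G.G ν) (n : ℕ), x ≫ (𝟙 (G.G ν)) ^ n = x ^ n := by
    intro ν T x n
    rw [MonObj.comp_pow, Category.comp_id]
  have hinclpow : ∀ (ν : ℕ) (T : Over S) (y : T ⟶ G.G ν) (n : ℕ),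
      (y ≫ G.incl ν) ^ n = (y ^ n) ≫ G.incl ν := by
    intro ν T y n
    exact ((IsMonHom.monoidHom (G.incl ν) T).map_pow y n).symm
  have hincl1 : ∀ (ν : ℕ) (T : Over S), (1 : T ⟶ G.G ν) ≫ G.incl ν = 1 := fun ν T =>
    (IsMonHom.monoidHom (G.incl ν) T).map_one
  induction t with
  | zero =>
    have h0 := (Groth.Agent.Lib.helper1.KP.isKernel_iff _ _).1 (G.isKernel 0)
    have h1 : G.incl 0 = 1 := by
      have := h0.1
      rw [hpowcomp, pow_zero, pow_one] at this
      exact this
    have h2 : (𝟙 (G.G (0 + 1))) ^ ℓ = 1 := by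
      rw [← G.proj_incl 0, h1, MonObj.comp_one]
    rw [Groth.Agent.Lib.helper1.KP.isKernel_iff]
    refine ⟨?_, fun T x hx => ⟨x ≫ 𝟙 _, ?_, fun y hy => ?_⟩⟩
    · rw [h2, MonObj.comp_one]
    · rw [hi0]; simp
    · rw [hi0] at hy
      rw [← hy]; simp
  | succ t ih =>
    have hP := (Groth.Agent.Lib.helper1.KP.isKernel_iff _ _).1 ih
    have hK := (Groth.Agent.Lib.helper1.KP.isKernel_iff _ _).1 (G.isKernel (t + 1))
    rw [Groth.Agent.Lib.helper1.KP.isKernel_iff]
    refine ⟨?_, fun T x hx => ?_⟩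
    · rw [hi t, hpowcomp, hinclpow, ← hpowcomp, hP.1, hincl1]
    · rw [hpowcomp] at hx
      have hx2 : x ≫ (𝟙 (G.G (t + 1 + 1))) ^ (ℓ ^ (t + 1)) = 1 := by
        rw [hpowcomp, pow_succ', pow_mul, hx, one_pow]
      obtain ⟨y, hy, hyu⟩ := hK.2 T x hx2
      have hy2 : y ≫ (𝟙 (G.G (t + 1))) ^ ℓ = 1 := by
        rw [hpowcomp]
        apply Groth.Agent.Lib.helper1.KP.IsKernel.eq_of_comp_eq (G.isKernel (t + 1))
        rw [← hinclpow, hy, hx, hincl1]
      obtain ⟨z, hz, hzu⟩ := hP.2 T y hy2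
      refine ⟨z, ?_, fun z' hz' => ?_⟩
      · change z ≫ i (t + 1) = x
        rw [hi t, ← Category.assoc, hz, hy]
      · have hz'' : z' ≫ i (t + 1) = x := hz'
        apply hzu
        change z' ≫ i t = y
        apply Groth.Agent.Lib.helper1.KP.IsKernel.eq_of_comp_eq (G.isKernel (t + 1))
        rw [Category.assoc, ← hi t, hz'', hy]

end Groth.Agent.S15054
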