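import Groth.Statements.S15056
import Mathlib

set_option autoImplicit false
set_option linter.style.haveILetI false
universe u
open scoped TensorProduct
open FrobAlg

namespace Groth.Agent.S15056

section aux

/-- truncated monomials -/
private def truncMon {S : Type*} [CommRing S] {ι : Type*} [Fintype ι] (n : ι → ℕ) (y : ι → S)
    (a : ∀ i, Fin (n i)) : S := ∏ i, y i ^ (a i : ℕ)

private lemma aeval_mem_span_truncMon {R : Type*} [CommRing R] {S : Type*} [CommRing S] [Algebra R S]
    {ι : Type*} [Fintype ι] (n : ι → ℕ) (y : ι → S) (hy : ∀ i, y i ^ n i = 0)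
    (P : MvPolynomial ι R) :
    MvPolynomial.aeval y P ∈ Submodule.span R (Set.range (truncMon n y)) := by
  classical
  rw [P.as_sum, map_sum]
  refine Submodule.sum_mem _ fun d _ => ?_
  rw [MvPolynomial.aeval_monomial, ← Algebra.smul_def, Finsupp.prod_fintype _ _ (fun i => pow_zero _)]
  refine Submodule.smul_mem _ _ ?_
  by_cases h : ∀ i, d i < n i
  · refine Submodule.subset_span ⟨fun i => ⟨d i, h i⟩, rfl⟩
  · push Not at h
    obtain ⟨i, hi⟩ := h
    rw [Finset.prod_eq_zero (Finset.mem_univ i)]
    · exact Submodule.zero_mem _
    · rw [← Nat.sub_add_cancel hi, pow_add, hy, mul_zero]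

private lemma finite_of_aeval_surjective {R : Type*} [CommRing R] {S : Type*} [CommRing S]
    [Algebra R S] {ι : Type*} [Fintype ι] (n : ι → ℕ) (y : ι → S) (hy : ∀ i, y i ^ n i = 0)
    (hsurj : Function.Surjective (MvPolynomial.aeval (R := R) y)) : Module.Finite R S := by
  classical
  have hspan : Submodule.span R (Set.range (truncMon n y)) = ⊤ := by
    rw [eq_top_iff]
    intro r _
    obtain ⟨P, rfl⟩ := hsurj r
    exact aeval_mem_span_truncMon n y hy P
  rw [Module.finite_def, ← hspan]
  exact Submodule.fg_span (Set.finite_range _)

/-- two `K`-points of a local `K`-algebra coincide -/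
private lemma algHom_eq_of_isLocalRing {K : Type*} [Field K] {T : Type*} [CommRing T] [Algebra K T]
    [IsLocalRing T] (f1 f2 : T →ₐ[K] K) : f1 = f2 := by
  have key : ∀ (g h : T →ₐ[K] K) (y : T), g y = 0 → h y = 0 := by
    intro g h y hy
    by_contra hne
    have hy1 : y ∈ nonunits T := by
      intro hu
      have := hu.map g
      rw [hy] at this
      exact not_isUnit_zero this
    have hz : y - algebraMap K T (h y) ∈ nonunits T := by
      intro hu
      have := hu.map h
      rw [map_sub, AlgHom.commutes, Algebra.algebraMap_self_apply, sub_self] at this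
      exact not_isUnit_zero this
    have h3 : algebraMap K T (h y) ∈ nonunits T := by
      have hz' : -(y - algebraMap K T (h y)) ∈ nonunits T := by
        intro hu
        exact hz (by simpa using hu.neg)
      have := IsLocalRing.nonunits_add hy1 hz'
      simpa using this
    exact h3 ((isUnit_iff_ne_zero.2 hne).map (algebraMap K T))
  apply AlgHom.ext
  intro x
  have h1 : f1 (x - algebraMap K T (f1 x)) = 0 := by
    rw [map_sub, AlgHom.commutes, Algebra.algebraMap_self_apply, sub_self]
  have h2 := key f1 f2 _ h1
  rw [map_sub, AlgHom.commutes, Algebra.algebraMap_self_apply, sub_eq_zero] at h2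
  exact h2.symm

end aux

/-- Let p be a prime number, R a Noetherian ring of characteristic p and A a finitely generated
commutative Hopf algebra over R (an affine algebraic R-group G = Spec A). The n-fold relative
Frobenius of G is the trivial homomorphism exactly when a^(p^n) = 0 for every a in the augmentation
ideal; G has finite Frobenius height when this holds for some n. Then G has finite Frobenius height
if and only if A is a finite R-module and, for every algebraically closed field K and every ring
homomorphism R → K, the base change K ⊗_R A is a local ring (G is finite over R with connected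
geometric fibres). -/
theorem result (p : ℕ) [Fact p.Prime] (R : Type u) [CommRing R] [CharP R p]
    [IsNoetherianRing R] (A : Type u) [CommRing A] [HopfAlgebra R A] [Algebra.FiniteType R A] :
    (∃ n : ℕ, ∀ a : A, Bialgebra.counitAlgHom R A a = 0 → a ^ p ^ n = 0) ↔
      (Module.Finite R A ∧ ∀ (K : Type u) [Field K] [IsAlgClosed K] [Algebra R K], IsLocalRing (K ⊗[R] A)) := by
  classical
  constructor
  · rintro ⟨n, hn⟩
    constructor
    · -- finiteness
      obtain ⟨m, f, hf⟩ := Algebra.FiniteType.iff_quotient_mvPolynomial''.1
        (inferInstance : Algebra.FiniteType R A)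
      let y : Fin m → A := fun i => f (MvPolynomial.X i) -
        algebraMap R A (Bialgebra.counitAlgHom R A (f (MvPolynomial.X i)))
      have hy : ∀ i, y i ^ p ^ n = 0 := by
        intro i
        apply hn
        simp [y]
      apply finite_of_aeval_surjective (fun _ => p ^ n) y hy
      rw [← AlgHom.range_eq_top, eq_top_iff]
      have hle : f.range ≤ (MvPolynomial.aeval (R := R) y).range := by
        have h1 : f = MvPolynomial.aeval (fun i => f (MvPolynomial.X i)) := by
          apply MvPolynomial.algHom_ext
          intro i
          simp
        rw [h1, ← Algebra.adjoin_range_eq_range_aeval]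
        apply Algebra.adjoin_le
        rintro _ ⟨i, rfl⟩
        show f (MvPolynomial.X i) ∈ (MvPolynomial.aeval (R := R) y).range
        have h2 : f (MvPolynomial.X i) = y i +
            algebraMap R A (Bialgebra.counitAlgHom R A (f (MvPolynomial.X i))) := by
          simp [y]
        rw [h2]
        apply Subalgebra.add_mem
        · exact ⟨MvPolynomial.X i, by simp⟩
        · exact Subalgebra.algebraMap_mem _ _
      rw [(AlgHom.range_eq_top f).2 hf] at hle
      exact hle
    · -- local fibres
      intro K _ _ _
      let εK : K ⊗[R] A →ₐ[K] K := Algebra.TensorProduct.lift (AlgHom.id K K)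
        ((Algebra.ofId R K).comp (Bialgebra.counitAlgHom R A)) (fun _ _ => Commute.all _ _)
      have hnil : ∀ x : K ⊗[R] A, x - algebraMap K (K ⊗[R] A) (εK x) ∈ nilradical (K ⊗[R] A) := by
        intro x
        induction x using TensorProduct.induction_on with
        | zero => simp
        | add x y hx hy =>
          have := Ideal.add_mem _ hx hy
          convert this using 1
          simp only [map_add]
          ring
        | tmul c a =>
          have h1 : c ⊗ₜ[R] a - algebraMap K (K ⊗[R] A) (εK (c ⊗ₜ[R] a)) =
              c ⊗ₜ[R] (a - algebraMap R A (Bialgebra.counitAlgHom R A a)) := by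
            rw [TensorProduct.tmul_sub, Algebra.TensorProduct.algebraMap_apply]
            congr 1
            simp only [εK, Algebra.TensorProduct.lift_tmul, AlgHom.coe_id, id_eq, AlgHom.comp_apply,
              Algebra.ofId_apply, Algebra.algebraMap_self_apply]
            rw [mul_comm, ← Algebra.smul_def, TensorProduct.smul_tmul,
              ← Algebra.algebraMap_eq_smul_one]
          rw [h1, mem_nilradical]
          refine ⟨p ^ n, ?_⟩
          rw [Algebra.TensorProduct.tmul_pow, hn _ (by simp), TensorProduct.tmul_zero]
      haveI : Nontrivial (K ⊗[R] A) := by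
        refine ⟨⟨0, 1, fun h01 => ?_⟩⟩
        have := congrArg εK h01
        rw [map_zero, map_one] at this
        exact zero_ne_one this
      apply IsLocalRing.of_isUnit_or_isUnit_of_isUnit_add
      intro a b hab
      have hunit : ∀ x : K ⊗[R] A, εK x ≠ 0 → IsUnit x := by
        intro x hx
        have h1 : x = (x - algebraMap K (K ⊗[R] A) (εK x)) + algebraMap K (K ⊗[R] A) (εK x) := by
          ring
        rw [h1]
        exact IsNilpotent.isUnit_add_right_of_commute (mem_nilradical.1 (hnil x))
          ((isUnit_iff_ne_zero.2 hx).map _) (Commute.all _ _)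
      have h2 : εK a + εK b ≠ 0 := by
        rw [← map_add]
        exact (hab.map εK).ne_zero
      by_cases ha : εK a = 0
      · right
        apply hunit
        rw [ha, zero_add] at h2
        exact h2
      · left
        exact hunit a ha
  · rintro ⟨hfin, hloc⟩
    have hnoeth : IsNoetherianRing A := isNoetherian_of_isNoetherianRing_of_finite R A |>
      fun h => isNoetherian_of_tower R h
    obtain ⟨M, hM⟩ := IsNoetherianRing.isNilpotent_nilradical A
    rw [Ideal.zero_eq_bot] at hM
    have hpM : ∃ n, M ≤ p ^ n := ⟨M, (Nat.lt_pow_self (Fact.out : p.Prime).one_lt).le⟩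
    obtain ⟨n, hnM⟩ := hpM
    refine ⟨n, fun a ha => ?_⟩
    have hmem : a ∈ nilradical A := by
      rw [nilradical_eq_sInf, Ideal.mem_sInf]
      intro P hP
      haveI : P.IsPrime := hP
      let D := A ⧸ P
      let F := FractionRing D
      let K := AlgebraicClosure F
      let φ : A →+* K := (algebraMap F K).comp ((algebraMap D F).comp (Ideal.Quotient.mk P))
      letI : Algebra R K := (φ.comp (algebraMap R A)).toAlgebra
      haveI := hloc K
      let g1 : A →ₐ[R] K := { toRingHom := φ, commutes' := fun r => rfl }
      let g2 : A →ₐ[R] K := (Algebra.ofId R K).comp (Bialgebra.counitAlgHom R A)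
      let f1 : K ⊗[R] A →ₐ[K] K := Algebra.TensorProduct.lift (AlgHom.id K K) g1
        (fun _ _ => Commute.all _ _)
      let f2 : K ⊗[R] A →ₐ[K] K := Algebra.TensorProduct.lift (AlgHom.id K K) g2
        (fun _ _ => Commute.all _ _)
      have h12 := algHom_eq_of_isLocalRing f1 f2
      have h3 := congrArg (fun f => f ((1 : K) ⊗ₜ[R] a)) h12
      simp only [f1, f2, Algebra.TensorProduct.lift_tmul, map_one, one_mul, g2, AlgHom.comp_apply,
        ha, map_zero] at h3
      have h4 : φ a = 0 := h3
      have i1 : Function.Injective (algebraMap F K) := (algebraMap F K).injective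
      have i2 : Function.Injective (algebraMap D F) := IsFractionRing.injective D F
      have h5 : Ideal.Quotient.mk P a = 0 := by
        apply i2
        apply i1
        rw [map_zero, map_zero]
        exact h4
      exact Ideal.Quotient.eq_zero_iff_mem.1 h5
    have h5 : a ^ p ^ n ∈ nilradical A ^ p ^ n := Ideal.pow_mem_pow hmem _
    have h6 : nilradical A ^ p ^ n ≤ nilradical A ^ M := Ideal.pow_le_pow_right hnM
    have h7 := h6 h5
    rw [hM, Ideal.mem_bot] at h7
    exact h7

end Groth.Agent.S15056
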