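import Groth.Statements.S15058
import Mathlib
import Groth.Agent.Lib.helper20.FormalIFT3

set_option autoImplicit false
universe u
open FmlGrp

namespace Groth.Agent.S15058

section Helpers

open MvPowerSeries Groth.Agent.Lib.helper20.FormalIFT

section
variable {R : Type u} [CommRing R]

/-- Inverse of a substitution endomorphism with unit Jacobian, as a substitution. -/
lemma exists_inverse_subst (y : Fin 2 → MvPowerSeries (Fin 2) R)
    (hy0 : ∀ i, constantCoeff (y i) = 0)
    (hJ : IsUnit (Matrix.det (Matrix.of fun i j : Fin 2 => coeff (Finsupp.single j 1) (y i)))) :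
    ∃ z : Fin 2 → MvPowerSeries (Fin 2) R, (∀ i, constantCoeff (z i) = 0) ∧
      (∀ f : MvPowerSeries (Fin 2) R, (f.subst y).subst z = f) ∧
      (∀ f : MvPowerSeries (Fin 2) R, (f.subst z).subst y = f) := by
  have hy : HasSubst y := hasSubst_of_constantCoeff_zero hy0
  set φ := substAlgHom (R := R) hy with hφ
  have hφX : ∀ i, φ (X i) = y i := fun i => by rw [hφ, substAlgHom_X]
  have hb : Function.Bijective φ := by
    apply bijective_of_isUnit_det
    · intro i; rw [hφX]; exact hy0 i
    · simp only [hφX]; exact hJ
  choose z hz using fun i : Fin 2 => hb.2 (X i)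
  have hφ0 : ∀ i, constantCoeff (φ (X i)) = 0 := fun i => by rw [hφX]; exact hy0 i
  have hz0 : ∀ i, constantCoeff (z i) = 0 := by
    intro i
    rw [← constantCoeff_map φ hφ0 (z i), hz i, constantCoeff_X]
  have hzs : HasSubst z := hasSubst_of_constantCoeff_zero hz0
  set ψ := substAlgHom (R := R) hzs with hψ
  have hψX : ∀ i, ψ (X i) = z i := fun i => by rw [hψ, substAlgHom_X]
  have h1 : φ.comp ψ = AlgHom.id R _ := by
    apply algHom_ext_of_X
    · intro i
      rw [AlgHom.comp_apply, hψX, hz i, constantCoeff_X]
    · intro i
      rw [AlgHom.comp_apply, hψX, hz i, AlgHom.id_apply]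
  have h1' : ∀ f, φ (ψ f) = f := fun f => by
    have := congrArg (fun χ : MvPowerSeries (Fin 2) R →ₐ[R] MvPowerSeries (Fin 2) R => χ f) h1
    simpa using this
  have h2' : ∀ f, ψ (φ f) = f := fun f => by
    apply hb.1
    rw [h1']
  refine ⟨z, hz0, ?_, ?_⟩
  · intro f
    have := h2' f
    rw [hφ, hψ, substAlgHom_apply, substAlgHom_apply] at this
    exact this
  · intro f
    have := h1' f
    rw [hφ, hψ, substAlgHom_apply, substAlgHom_apply] at this
    exact this

variable (F : FormalGroup R)

lemma coeff_single_X (i j : Fin 2) :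
    coeff (Finsupp.single j 1) (X i : MvPowerSeries (Fin 2) R) = if i = j then 1 else 0 := by
  rw [coeff_X]
  by_cases h : i = j
  · subst h; simp
  · have : ¬ (Finsupp.single j 1 = Finsupp.single i 1) := by
      intro h'
      have := Finsupp.single_left_injective (one_ne_zero : (1 : ℕ) ≠ 0) h'
      exact h this.symm
    simp [h, this]

/-- Right inverse: `F(X, g) = 0`. -/
lemma exists_right_inv : ∃ g : PowerSeries R, g.constantCoeff = 0 ∧
    F.toPowerSeries.subst ![PowerSeries.X, g] = (0 : PowerSeries R) := by
  let y : Fin 2 → MvPowerSeries (Fin 2) R := ![X 0, F.toPowerSeries]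
  have hy0 : ∀ i, constantCoeff (y i) = 0 := by
    intro i; fin_cases i
    · simp [y]
    · simpa [y] using F.zero_constantCoeff
  have hJ : IsUnit (Matrix.det (Matrix.of fun i j : Fin 2 => coeff (Finsupp.single j 1) (y i))) := by
    rw [Matrix.det_fin_two]
    simp only [Matrix.of_apply, y, Matrix.cons_val_zero, Matrix.cons_val_one, Matrix.cons_val_fin_one]
    rw [coeff_single_X, coeff_single_X, F.lin_coeff_Y]
    simp
  obtain ⟨z, hz0, h1, h2⟩ := exists_inverse_subst y hy0 hJ
  have hy : HasSubst y := hasSubst_of_constantCoeff_zero hy0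
  have hzs : HasSubst z := hasSubst_of_constantCoeff_zero hz0
  -- z 0 = X 0
  have hz0' : z 0 = X 0 := by
    have := h1 (X 0)
    rw [subst_X hy] at this
    simpa [y, subst_X hzs] using this
  -- F(X0, z 1) = X 1
  have hF : F.toPowerSeries.subst z = X 1 := by
    have := h1 (X 1)
    rw [subst_X hy] at this
    simpa [y] using this
  -- specialise X1 := 0
  let w : Fin 2 → PowerSeries R := ![PowerSeries.X, 0]
  have hw0 : ∀ i, constantCoeff (w i) = 0 := by
    intro i; fin_cases i
    · simp [w, PowerSeries.X]
    · simp [w]
  have hw : HasSubst w := hasSubst_of_constantCoeff_zero hw0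
  refine ⟨(z 1).subst w, ?_, ?_⟩
  · exact constantCoeff_subst_eq_zero hw hw0 (hz0 1)
  · have this : (F.toPowerSeries.subst z).subst w = (X 1 : MvPowerSeries (Fin 2) R).subst w := by
      rw [hF]
    rw [subst_comp_subst_apply hzs hw, subst_X hw] at this
    have hw1 : w 1 = 0 := rfl
    rw [hw1] at this
    rw [← this]
    congr 1
    funext i
    fin_cases i
    · simp only [Fin.zero_eta, Matrix.cons_val_zero]
      rw [hz0', subst_X hw]
      rfl
    · rfl

/-- Left inverse: `F(g, X) = 0`. -/
lemma exists_left_inv : ∃ g : PowerSeries R, g.constantCoeff = 0 ∧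
    F.toPowerSeries.subst ![g, PowerSeries.X] = (0 : PowerSeries R) := by
  let y : Fin 2 → MvPowerSeries (Fin 2) R := ![F.toPowerSeries, X 1]
  have hy0 : ∀ i, constantCoeff (y i) = 0 := by
    intro i; fin_cases i
    · simpa [y] using F.zero_constantCoeff
    · simp [y]
  have hJ : IsUnit (Matrix.det (Matrix.of fun i j : Fin 2 => coeff (Finsupp.single j 1) (y i))) := by
    rw [Matrix.det_fin_two]
    simp only [Matrix.of_apply, y, Matrix.cons_val_zero, Matrix.cons_val_one, Matrix.cons_val_fin_one]
    rw [coeff_single_X, coeff_single_X, F.lin_coeff_X]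
    simp
  obtain ⟨z, hz0, h1, h2⟩ := exists_inverse_subst y hy0 hJ
  have hy : HasSubst y := hasSubst_of_constantCoeff_zero hy0
  have hzs : HasSubst z := hasSubst_of_constantCoeff_zero hz0
  have hz1' : z 1 = X 1 := by
    have := h1 (X 1)
    rw [subst_X hy] at this
    simpa [y, subst_X hzs] using this
  have hF : F.toPowerSeries.subst z = X 0 := by
    have := h1 (X 0)
    rw [subst_X hy] at this
    simpa [y] using this
  let w : Fin 2 → PowerSeries R := ![0, PowerSeries.X]
  have hw0 : ∀ i, constantCoeff (w i) = 0 := by
    intro i; fin_cases i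
    · simp [w]
    · simp [w, PowerSeries.X]
  have hw : HasSubst w := hasSubst_of_constantCoeff_zero hw0
  refine ⟨(z 0).subst w, ?_, ?_⟩
  · exact constantCoeff_subst_eq_zero hw hw0 (hz0 0)
  · have this : (F.toPowerSeries.subst z).subst w = (X 0 : MvPowerSeries (Fin 2) R).subst w := by
      rw [hF]
    rw [subst_comp_subst_apply hzs hw, subst_X hw] at this
    have hw1 : w 0 = 0 := rfl
    rw [hw1] at this
    rw [← this]
    congr 1
    funext i
    fin_cases i
    · rfl
    · simp only [Fin.mk_one, Matrix.cons_val_one, Matrix.cons_val_fin_one]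
      rw [hz1', subst_X hw]
      rfl

theorem main : ∃ g : PowerSeries R, g.constantCoeff = 0 ∧
      F.toPowerSeries.subst ![PowerSeries.X, g] = (0 : PowerSeries R) ∧
      F.toPowerSeries.subst ![g, PowerSeries.X] = (0 : PowerSeries R) ∧
      ∀ k : PowerSeries R, k.constantCoeff = 0 →
        (F.toPowerSeries.subst ![PowerSeries.X, k] = (0 : PowerSeries R) ∨
          F.toPowerSeries.subst ![k, PowerSeries.X] = (0 : PowerSeries R)) → k = g := by
  obtain ⟨g, hg0, hg⟩ := exists_right_inv F
  obtain ⟨g', hg'0, hg'⟩ := exists_left_inv F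
  have hsX : PowerSeries.HasSubst (PowerSeries.X : PowerSeries R) :=
    PowerSeries.HasSubst.of_constantCoeff_zero' (by simp)
  have hs : ∀ k : PowerSeries R, k.constantCoeff = 0 → PowerSeries.HasSubst k :=
    fun k hk => PowerSeries.HasSubst.of_constantCoeff_zero' hk
  have hsg := hs g hg0
  have hsg' := hs g' hg'0
  -- right inverses equal g'
  have hR : ∀ k : PowerSeries R, k.constantCoeff = 0 →
      F.toPowerSeries.subst ![PowerSeries.X, k] = (0 : PowerSeries R) → k = g' := by
    intro k hk0 hk
    have hsk := hs k hk0
    have := F.assoc' hsg' hsX hsk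
    rw [hg', hk, F.zero_add hsk, F.add_zero hsg'] at this
    exact this
  have hgg' : g = g' := hR g hg0 hg
  refine ⟨g, hg0, hg, ?_, ?_⟩
  · rw [hgg']; exact hg'
  · intro k hk0 hk
    rcases hk with hk | hk
    · rw [hgg']; exact hR k hk0 hk
    · have hsk := hs k hk0
      have := F.assoc' hsk hsX hsg
      rw [hk, hg, F.zero_add hsg, F.add_zero hsk] at this
      exact this.symm

end

end Helpers

/-- Let R be a commutative ring and F(X,Y) ∈ R[[X,Y]] a one-dimensional formal group law (zero constant
term, linear part X + Y, associative). Then there is a power series g(X) ∈ R[[X]] with zero constant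
term which is a two-sided inverse for F, F(X, g(X)) = 0 = F(g(X), X), and it is unique: every power
series with zero constant term which is a right inverse or a left inverse equals g. (The published
text proves this for formal group laws of any finite dimension with coefficients in a complete
Noetherian local ring; the argument is a formal degree-by-degree construction, and this row states
the one-dimensional case over an arbitrary commutative ring.) -/
theorem result (R : Type u) [CommRing R] (F : FormalGroup R) :
    ∃ g : PowerSeries R, g.constantCoeff = 0 ∧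
      F.toPowerSeries.subst ![PowerSeries.X, g] = (0 : PowerSeries R) ∧
      F.toPowerSeries.subst ![g, PowerSeries.X] = (0 : PowerSeries R) ∧
      ∀ k : PowerSeries R, k.constantCoeff = 0 →
        (F.toPowerSeries.subst ![PowerSeries.X, k] = (0 : PowerSeries R) ∨
          F.toPowerSeries.subst ![k, PowerSeries.X] = (0 : PowerSeries R)) → k = g := by
  exact main F

end Groth.Agent.S15058
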