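import Groth.Statements.S15060
import Mathlib
import Groth.Agent.Lib.helper22.LubinTate

set_option autoImplicit false
universe u
open LubinTate

namespace Groth.Agent.S15060

section Helpers

open Groth.Agent.Lib.helper22.LubinTate

variable {O : Type u} [CommRing O] [IsDomain O] [IsDiscreteValuationRing O]
    [Finite (IsLocalRing.ResidueField O)]

theorem main (π : O) (hπ : Irreducible π) (f : PowerSeries O)
    (hf : f = π • PowerSeries.X + PowerSeries.X ^ Nat.card (IsLocalRing.ResidueField O))
    (F : FormalGroup O)
    (hF : PowerSeries.subst F.toPowerSeries f =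
        MvPowerSeries.subst (fun i : Fin 2 => PowerSeries.subst (MvPowerSeries.X i : MvPowerSeries (Fin 2) O) f)
          F.toPowerSeries)
    (α β : O) (gα gβ gαβ gs : PowerSeries O)
    (hα0 : gα.constantCoeff = 0) (hα1 : gα.coeff 1 = α) (hαf : PowerSeries.subst gα f = PowerSeries.subst f gα)
    (hβ0 : gβ.constantCoeff = 0) (hβ1 : gβ.coeff 1 = β) (hβf : PowerSeries.subst gβ f = PowerSeries.subst f gβ)
    (hαβ0 : gαβ.constantCoeff = 0) (hαβ1 : gαβ.coeff 1 = α * β)
    (hαβf : PowerSeries.subst gαβ f = PowerSeries.subst f gαβ)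
    (hs0 : gs.constantCoeff = 0) (hs1 : gs.coeff 1 = α + β) (hsf : PowerSeries.subst gs f = PowerSeries.subst f gs) :
    PowerSeries.subst gβ gα = gαβ ∧ F.toPowerSeries.subst ![gα, gβ] = gs := by
  set q := Nat.card (IsLocalRing.ResidueField O) with hqdef
  have hq : q ≠ 0 := by
    have := two_le_card_residueField (O := O); omega
  subst hf
  have eα := (comm_iff π q hq gα hα0).1 hαf
  have eβ := (comm_iff π q hq gβ hβ0).1 hβf
  have eαβ := (comm_iff π q hq gαβ hαβ0).1 hαβf
  have es := (comm_iff π q hq gs hs0).1 hsf
  have eF := (eqn_iff π q hq F.toPowerSeries F.zero_constantCoeff).1 hF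
  constructor
  · -- composition
    have ha : ∀ s : Unit, MvPowerSeries.constantCoeff ((fun _ : Unit => gβ) s) = 0 := fun _ => hβ0
    have h0 : MvPowerSeries.constantCoeff (PowerSeries.subst gβ gα) = 0 :=
      constantCoeff_subst_zero ha hα0
    have hE : Err π 1 q (PowerSeries.subst gβ gα : MvPowerSeries Unit O) = 0 :=
      Err_subst π 1 hq ha (fun _ => eβ) eα
    apply dvr_unique π hπ h0 hαβ0 _ hE eαβ
    intro s
    have h1 := coeff_subst_of_degree_le_one ha hα0 (Finsupp.single s 1)
      (by rw [Finsupp.degree_single])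
    change MvPowerSeries.coeff (Finsupp.single s 1) (PowerSeries.subst gβ gα) = _
    rw [show (PowerSeries.subst gβ gα : MvPowerSeries Unit O) =
      MvPowerSeries.subst (fun _ : Unit => gβ) gα from rfl, h1]
    simp only [Finset.univ_unique, Finset.sum_singleton]
    change PowerSeries.coeff 1 gα * PowerSeries.coeff 1 gβ = PowerSeries.coeff 1 gαβ
    rw [hα1, hβ1, hαβ1]
  · -- addition
    have ha : ∀ s : Fin 2, MvPowerSeries.constantCoeff (![gα, gβ] s) = 0 := by
      intro s; fin_cases s
      · exact hα0
      · exact hβ0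
    have haE : ∀ s : Fin 2, Err π 1 q (![gα, gβ] s : MvPowerSeries Unit O) = 0 := by
      intro s; fin_cases s
      · exact eα
      · exact eβ
    have h0 : MvPowerSeries.constantCoeff (F.toPowerSeries.subst ![gα, gβ]) = 0 :=
      constantCoeff_subst_zero ha F.zero_constantCoeff
    have hE : Err π 1 q (F.toPowerSeries.subst ![gα, gβ] : MvPowerSeries Unit O) = 0 :=
      Err_subst π 1 hq ha haE eF
    apply dvr_unique π hπ h0 hs0 _ hE es
    intro s
    have h1 := coeff_subst_of_degree_le_one ha F.zero_constantCoeff (Finsupp.single s 1)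
      (by rw [Finsupp.degree_single])
    rw [h1, Fin.sum_univ_two, F.lin_coeff_X, F.lin_coeff_Y, one_mul, one_mul]
    change PowerSeries.coeff 1 gα + PowerSeries.coeff 1 gβ = PowerSeries.coeff 1 gs
    rw [hα1, hβ1, hs1]

end Helpers

/-- Let O be a discrete valuation ring with finite residue field of cardinality q, π a uniformizer of O,
f = πT + T^q ∈ O[[T]], and F a one-dimensional formal group law over O for which f is an
endomorphism, f(F(X,Y)) = F(f(X), f(Y)). For α ∈ O write [α] for a power series with zero constant
term and linear coefficient α commuting with f (it is unique). Then for all α, β ∈ O and all such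
series [α], [β], [αβ], [α+β] one has [α]([β](T)) = [αβ](T) and F([α](T), [β](T)) = [α+β](T): the map
α ↦ [α] is a ring homomorphism from O to the endomorphisms of F with their formal-group addition and
composition. (The published statement is for the ring of integers of a finite extension of ℚ_p or of
𝔽_q((X)); completeness is not used and any discrete valuation ring with finite residue field is
allowed here.) -/
theorem result (O : Type u) [CommRing O] [IsDomain O] [IsDiscreteValuationRing O]
    [Finite (IsLocalRing.ResidueField O)] (π : O) (hπ : Irreducible π) (f : PowerSeries O)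
    (hf : f = π • PowerSeries.X + PowerSeries.X ^ Nat.card (IsLocalRing.ResidueField O))
    (F : FormalGroup O)
    (hF : PowerSeries.subst F.toPowerSeries f =
        MvPowerSeries.subst (fun i : Fin 2 => PowerSeries.subst (MvPowerSeries.X i : MvPowerSeries (Fin 2) O) f)
          F.toPowerSeries)
    (α β : O) (gα gβ gαβ gs : PowerSeries O)
    (hα0 : gα.constantCoeff = 0) (hα1 : gα.coeff 1 = α) (hαf : PowerSeries.subst gα f = PowerSeries.subst f gα)
    (hβ0 : gβ.constantCoeff = 0) (hβ1 : gβ.coeff 1 = β) (hβf : PowerSeries.subst gβ f = PowerSeries.subst f gβ)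
    (hαβ0 : gαβ.constantCoeff = 0) (hαβ1 : gαβ.coeff 1 = α * β)
    (hαβf : PowerSeries.subst gαβ f = PowerSeries.subst f gαβ)
    (hs0 : gs.constantCoeff = 0) (hs1 : gs.coeff 1 = α + β) (hsf : PowerSeries.subst gs f = PowerSeries.subst f gs) :
    PowerSeries.subst gβ gα = gαβ ∧ F.toPowerSeries.subst ![gα, gβ] = gs := by
  exact main π hπ f hf F hF α β gα gβ gαβ gs hα0 hα1 hαf hβ0 hβ1 hβf hαβ0 hαβ1 hαβf hs0 hs1 hsf

end Groth.Agent.S15060
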