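import Groth.Statements.S15062
import Mathlib
import Groth.Agent.Lib.helper24.ConnMult

set_option autoImplicit false
universe u
open scoped TensorProduct
open Hopf

namespace Groth.Agent.S15062

open Groth.Agent.Lib.helper24.ConnMult

/-- Let R be a henselian Noetherian local ring and A a commutative Hopf algebra over R which is finite
and flat as an R-module (a finite flat R-group G = Spec A, not assumed commutative); let e ∈ A be an
idempotent with ε(e) = 1 such that A/(1 − e) is a local ring, so that G⁰ = Spec A/(1 − e) is the
connected component of the unit section, and let B ⊆ A be the subalgebra of functions invariant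
under right translation by G⁰: the equaliser of a ↦ (id ⊗ π)(Δ a) and a ↦ a ⊗ 1 into A ⊗_R A/(1 − e)
(so Spec B = G^ét). Then: (2) for every commutative Hopf algebra C over R which is finite étale over
R (a finite étale R-group H) and every bialgebra homomorphism φ : C → A (a homomorphism G → H), the
image of φ lies in B — the homomorphism factors (necessarily uniquely, A being faithfully flat over
B) through G → G^ét; (3) for every commutative Hopf algebra D over R which is finite and flat over R
and a local ring (a connected finite flat R-group H) and every bialgebra homomorphism ψ : A → D (a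
homomorphism H → G), ψ(e) = 1, i.e. ψ kills the ideal (1 − e) and the homomorphism factors
(uniquely) through G⁰ → G. -/
theorem result (R : Type u) [CommRing R] [HenselianLocalRing R] [IsNoetherianRing R]
    (A : Type u) [CommRing A] [HopfAlgebra R A] [Module.Finite R A] [Module.Flat R A]
    (e : A) (he : IsIdempotentElem e) (hε : Bialgebra.counitAlgHom R A e = 1)
    [IsLocalRing (A ⧸ Ideal.span ({1 - e} : Set A))] :
    (∀ (C : Type u) [CommRing C] [HopfAlgebra R C] [Module.Finite R C] [Algebra.Etale R C] (φ : C →ₐc[R] A) (c : C),
        φ c ∈ (AlgHom.equalizer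
          ((Algebra.TensorProduct.map (AlgHom.id R A) (Ideal.Quotient.mkₐ R (Ideal.span ({1 - e} : Set A)))).comp
            (Bialgebra.comulAlgHom R A))
          (Algebra.TensorProduct.includeLeft : A →ₐ[R] A ⊗[R] (A ⧸ Ideal.span ({1 - e} : Set A))))) ∧
      ∀ (D : Type u) [CommRing D] [HopfAlgebra R D] [Module.Finite R D] [Module.Flat R D] [IsLocalRing D]
        (ψ : A →ₐc[R] D), ψ e = 1 := by
  have hR : Nontrivial R := inferInstance
  constructor
  · intro C _ _ _ _ φ c
    -- the counit descends to the quotient
    have hcz : ∀ a ∈ Ideal.span ({1 - e} : Set A), (Bialgebra.counitAlgHom R A).toRingHom a = 0 := by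
      intro a ha
      obtain ⟨d, rfl⟩ := Ideal.mem_span_singleton'.mp ha
      rw [map_mul, map_sub, map_one]
      have : (Bialgebra.counitAlgHom R A).toRingHom e = 1 := hε
      rw [this, sub_self, mul_zero]
    obtain ⟨f, hf, hf1, hfc⟩ := exists_idempotent_of_section R C (Bialgebra.counitAlgHom R C)
    have h1 : Ideal.Quotient.mk (Ideal.span ({1 - e} : Set A)) (φ f) = 1 := by
      refine map_idempotent_eq_one (R := R) (Bialgebra.counitAlgHom R C).toRingHom
        (Ideal.Quotient.lift _ (Bialgebra.counitAlgHom R A).toRingHom hcz)
        ((Ideal.Quotient.mk (Ideal.span ({1 - e} : Set A))).comp (φ : C →ₐ[R] A).toRingHom) ?_ hf hf1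
      intro c'
      show Ideal.Quotient.lift _ _ hcz (Ideal.Quotient.mk _ (φ c')) = _
      rw [Ideal.Quotient.lift_mk]
      exact CoalgHomClass.counit_comp_apply φ c'
    have key : ∀ c' : C, Ideal.Quotient.mk (Ideal.span ({1 - e} : Set A)) (φ c') =
        algebraMap R _ (Coalgebra.counit (R := R) c') := by
      intro c'
      calc Ideal.Quotient.mk (Ideal.span ({1 - e} : Set A)) (φ c')
          = Ideal.Quotient.mk _ (φ f) * Ideal.Quotient.mk _ (φ c') := by rw [h1, one_mul]
        _ = Ideal.Quotient.mk _ (φ (f * c')) := by rw [map_mul, map_mul]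
        _ = Ideal.Quotient.mk _ (φ ((Coalgebra.counit (R := R) c') • f)) := by rw [hfc c']; rfl
        _ = algebraMap R _ (Coalgebra.counit (R := R) c') := by
            rw [map_smul, Algebra.smul_def, map_mul, h1, mul_one]
            rfl
    rw [AlgHom.mem_equalizer]
    show Algebra.TensorProduct.map (AlgHom.id R A) (Ideal.Quotient.mkₐ R (Ideal.span ({1 - e} : Set A)))
      (Coalgebra.comul (R := R) (φ c)) = φ c ⊗ₜ[R] 1
    rw [← CoalgHomClass.map_comp_comul_apply]
    have claim : ∀ t : C ⊗[R] C,
        Algebra.TensorProduct.map (AlgHom.id R A) (Ideal.Quotient.mkₐ R (Ideal.span ({1 - e} : Set A)))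
          (TensorProduct.map (φ : C →ₗ[R] A) (φ : C →ₗ[R] A) t) =
        φ (TensorProduct.rid R C (LinearMap.lTensor C Coalgebra.counit t)) ⊗ₜ[R] 1 := by
      intro t
      induction t using TensorProduct.induction_on with
      | zero => simp
      | add t₁ t₂ h₁ h₂ => simp only [map_add, h₁, h₂, TensorProduct.add_tmul]
      | tmul c₁ c₂ =>
        rw [TensorProduct.map_tmul, Algebra.TensorProduct.map_tmul, LinearMap.lTensor_tmul,
          TensorProduct.rid_tmul, map_smul]
        show φ c₁ ⊗ₜ[R] Ideal.Quotient.mk _ (φ c₂) = _
        rw [key, Algebra.algebraMap_eq_smul_one, TensorProduct.tmul_smul, TensorProduct.smul_tmul']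
    rw [claim, Coalgebra.lTensor_counit_comul, TensorProduct.rid_tmul, one_smul]
  · intro D _ _ _ _ _ ψ
    refine map_idempotent_eq_one (R := R) (Bialgebra.counitAlgHom R A).toRingHom
      (Bialgebra.counitAlgHom R D).toRingHom (ψ : A →ₐ[R] D).toRingHom ?_ he hε
    intro a
    exact CoalgHomClass.counit_comp_apply ψ a

end Groth.Agent.S15062
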