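import Groth.Statements.S15067
import Mathlib


set_option autoImplicit false
universe u
open scoped TensorProduct
open Hopf

universe v w
namespace H14S15067

open IsLocalRing TensorProduct WithConv

section loc

variable {S : Type u} {T : Type v} [CommRing S] [CommRing T] [Algebra S T]

/-- `S` local, `T` integral over `S`, `I` a proper ideal of `S`, `T/IT` local ⇒ `T` local. -/
theorem isLocalRing_of_quot [IsLocalRing S] [Algebra.IsIntegral S T] (I : Ideal S) (hI : I ≠ ⊤)
    [IsLocalRing (T ⧸ I.map (algebraMap S T))] : IsLocalRing T := by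
  haveI : Nontrivial T := by
    have : Nontrivial (T ⧸ I.map (algebraMap S T)) := inferInstance
    exact (Ideal.Quotient.mk (I.map (algebraMap S T))).domain_nontrivial
  have hle : ∀ n : Ideal T, n.IsMaximal → I.map (algebraMap S T) ≤ n := by
    intro n hn
    haveI := hn
    have h1 : (n.comap (algebraMap S T)).IsMaximal :=
      Ideal.isMaximal_comap_of_isIntegral_of_isMaximal n
    have h2 := IsLocalRing.eq_maximalIdeal h1
    rw [Ideal.map_le_iff_le_comap, h2]
    exact IsLocalRing.le_maximalIdeal hI
  have huniq : ∀ n : Ideal T, n.IsMaximal →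
      n = (maximalIdeal (T ⧸ I.map (algebraMap S T))).comap (Ideal.Quotient.mk _) := by
    intro n hn
    have h1 : (n.map (Ideal.Quotient.mk (I.map (algebraMap S T)))).IsMaximal := by
      apply Ideal.IsMaximal.map_of_surjective_of_ker_le Ideal.Quotient.mk_surjective
      rw [Ideal.mk_ker]
      exact hle n hn
    have h2 := IsLocalRing.eq_maximalIdeal h1
    rw [← h2, Ideal.comap_map_of_surjective _ Ideal.Quotient.mk_surjective]
    have h3 : Ideal.comap (Ideal.Quotient.mk (I.map (algebraMap S T))) ⊥ ≤ n := by
      rw [← RingHom.ker_eq_comap_bot, Ideal.mk_ker]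
      exact hle n hn
    exact (sup_eq_left.mpr h3).symm
  apply IsLocalRing.of_unique_max_ideal
  obtain ⟨n, hn⟩ := Ideal.exists_maximal T
  refine ⟨n, hn, ?_⟩
  intro n' hn'
  rw [huniq n hn, huniq n' hn']

end loc

section unram

variable {R : Type u} [CommRing R] {A A'' : Type u} [CommRing A] [HopfAlgebra R A]
  [CommRing A''] [HopfAlgebra R A''] [Algebra A'' A] [IsScalarTower R A'' A]

/-- in the convolution monoid of `A →ₐ[R] B`, `g * (g ∘ S) = 1` -/
theorem mul_comp_antipode {B : Type w} [CommRing B] [Algebra R B] (g : A →ₐ[R] B) :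
    toConv g * toConv (g.comp (HopfAlgebra.antipodeAlgHom R A)) =
      (1 : WithConv (A →ₐ[R] B)) := by
  have h1 : toConv (AlgHom.id R A) * toConv (HopfAlgebra.antipodeAlgHom R A) =
      (1 : WithConv (A →ₐ[R] A)) := by
    have h2 := AlgHom.antipode_id_cancel (R := R) (A := A)
    exact mul_eq_one_iff_eq_inv.mpr (mul_eq_one_iff_eq_inv.mp h2 ▸ (inv_inv _).symm) 
  have h3 := AlgHom.comp_convMul_distrib g (toConv (AlgHom.id R A))
    (toConv (HopfAlgebra.antipodeAlgHom R A))
  rw [h1] at h3
  simp only [WithConv.ofConv_toConv, AlgHom.comp_id] at h3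
  apply WithConv.ofConv_injective
  rw [← h3]
  ext a
  simp

theorem comp_antipode_mul {B : Type w} [CommRing B] [Algebra R B] (g : A →ₐ[R] B) :
    toConv (g.comp (HopfAlgebra.antipodeAlgHom R A)) * toConv g =
      (1 : WithConv (A →ₐ[R] B)) := by
  have h1 := AlgHom.antipode_id_cancel (R := R) (A := A)
  have h3 := AlgHom.comp_convMul_distrib g (toConv (HopfAlgebra.antipodeAlgHom R A))
    (toConv (AlgHom.id R A))
  rw [h1] at h3
  simp only [WithConv.ofConv_toConv, AlgHom.comp_id] at h3
  apply WithConv.ofConv_injective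
  rw [← h3]
  ext a
  simp

theorem one_comp {B : Type w} [CommRing B] [Algebra R B]
    (hε : (Bialgebra.counitAlgHom R A).comp (IsScalarTower.toAlgHom R A'' A) =
      Bialgebra.counitAlgHom R A'') :
    (1 : WithConv (A →ₐ[R] B)).ofConv.comp (IsScalarTower.toAlgHom R A'' A) =
      (1 : WithConv (A'' →ₐ[R] B)).ofConv := by
  ext c
  have := DFunLike.congr_fun hε c
  simp only [AlgHom.coe_comp, Function.comp_apply, Bialgebra.counitAlgHom_apply,
    IsScalarTower.coe_toAlgHom'] at this
  simp [AlgHom.convOne_apply, this]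

theorem comp_one {B : Type w} [CommRing B] [Algebra R B] {B' : Type*} [CommRing B']
    [Algebra R B'] (h : B →ₐ[R] B') :
    h.comp (1 : WithConv (A →ₐ[R] B)).ofConv = (1 : WithConv (A →ₐ[R] B')).ofConv := by
  ext c
  simp [AlgHom.convOne_apply]

theorem formallyUnramified
    (hΔ : (Bialgebra.comulAlgHom R A).comp (IsScalarTower.toAlgHom R A'' A) =
      (Algebra.TensorProduct.map (IsScalarTower.toAlgHom R A'' A)
        (IsScalarTower.toAlgHom R A'' A)).comp (Bialgebra.comulAlgHom R A''))
    (hε : (Bialgebra.counitAlgHom R A).comp (IsScalarTower.toAlgHom R A'' A) =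
      Bialgebra.counitAlgHom R A'')
    [Algebra.FormallyUnramified R A'']
    [Algebra.FormallyUnramified R
      (A ⧸ (RingHom.ker (Bialgebra.counitAlgHom R A'')).map (algebraMap A'' A))] :
    Algebra.FormallyUnramified R A := by
  rw [Algebra.FormallyUnramified.iff_comp_injective]
  intro B _ _ N hN f g hfg
  let φc : A'' →ₐc[R] A := BialgHom.ofAlgHom (IsScalarTower.toAlgHom R A'' A) hε hΔ.symm
  have hφc : (φc : A'' →ₐ[R] A) = IsScalarTower.toAlgHom R A'' A := by
    ext c
    rfl
  -- Step 1
  have h1 : f.comp (IsScalarTower.toAlgHom R A'' A) = g.comp (IsScalarTower.toAlgHom R A'' A) := by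
    apply Algebra.FormallyUnramified.comp_injective N hN
    rw [← AlgHom.comp_assoc, ← AlgHom.comp_assoc, hfg]
  -- Step 2
  have h2 : (toConv f * toConv (g.comp (HopfAlgebra.antipodeAlgHom R A))).ofConv.comp
      (IsScalarTower.toAlgHom R A'' A) = (1 : WithConv (A'' →ₐ[R] B)).ofConv := by
    have e1 := AlgHom.convMul_comp_bialgHom_distrib (toConv f)
      (toConv (g.comp (HopfAlgebra.antipodeAlgHom R A))) φc
    have e2 := AlgHom.convMul_comp_bialgHom_distrib (toConv g)
      (toConv (g.comp (HopfAlgebra.antipodeAlgHom R A))) φc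
    rw [hφc] at e1 e2
    simp only [WithConv.ofConv_toConv] at e1 e2
    rw [e1, h1, ← e2, mul_comp_antipode, one_comp hε]
  -- Step 3
  have hker : ∀ (w : A →ₐ[R] B), w.comp (IsScalarTower.toAlgHom R A'' A) =
      (1 : WithConv (A'' →ₐ[R] B)).ofConv →
      ∀ a ∈ (RingHom.ker (Bialgebra.counitAlgHom R A'')).map (algebraMap A'' A), w a = 0 := by
    intro w hw a ha
    have hle : (RingHom.ker (Bialgebra.counitAlgHom R A'')).map (algebraMap A'' A) ≤
        RingHom.ker w.toRingHom := by
      rw [Ideal.map_le_iff_le_comap]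
      intro c hc
      rw [Ideal.mem_comap, RingHom.mem_ker]
      have h3 := DFunLike.congr_fun hw c
      rw [RingHom.mem_ker] at hc
      simp only [AlgHom.coe_comp, Function.comp_apply, IsScalarTower.coe_toAlgHom',
        AlgHom.convOne_apply] at h3
      change w (algebraMap A'' A c) = 0
      rw [h3]
      change algebraMap R B (Bialgebra.counitAlgHom R A'' c) = 0
      rw [hc, map_zero]
    exact hle ha
  let ub : (A ⧸ (RingHom.ker (Bialgebra.counitAlgHom R A'')).map (algebraMap A'' A)) →ₐ[R] B :=
    Ideal.Quotient.liftₐ _ (toConv f * toConv (g.comp (HopfAlgebra.antipodeAlgHom R A))).ofConv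
      (hker _ h2)
  let vb : (A ⧸ (RingHom.ker (Bialgebra.counitAlgHom R A'')).map (algebraMap A'' A)) →ₐ[R] B :=
    Ideal.Quotient.liftₐ _ (1 : WithConv (A →ₐ[R] B)).ofConv (hker _ (one_comp hε))
  -- Step 4
  have h4 : (Ideal.Quotient.mkₐ R N).comp ub = (Ideal.Quotient.mkₐ R N).comp vb := by
    apply Ideal.Quotient.algHom_ext
    have e3 : ((Ideal.Quotient.mkₐ R N).comp ub).comp (Ideal.Quotient.mkₐ R _) =
        (Ideal.Quotient.mkₐ R N).comp
          (toConv f * toConv (g.comp (HopfAlgebra.antipodeAlgHom R A))).ofConv := by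
      ext a
      rfl
    have e4 : ((Ideal.Quotient.mkₐ R N).comp vb).comp (Ideal.Quotient.mkₐ R _) =
        (Ideal.Quotient.mkₐ R N).comp (1 : WithConv (A →ₐ[R] B)).ofConv := by
      ext a
      rfl
    rw [e3, e4, AlgHom.comp_convMul_distrib, comp_one]
    simp only [WithConv.ofConv_toConv]
    rw [hfg, ← AlgHom.comp_assoc, mul_comp_antipode]
  -- Step 5
  have h5 : ub = vb := Algebra.FormallyUnramified.comp_injective N hN h4
  have h6 : toConv f * toConv (g.comp (HopfAlgebra.antipodeAlgHom R A)) =
      (1 : WithConv (A →ₐ[R] B)) := by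
    apply WithConv.ofConv_injective
    have e5 : (toConv f * toConv (g.comp (HopfAlgebra.antipodeAlgHom R A))).ofConv =
        ub.comp (Ideal.Quotient.mkₐ R _) := by
      ext a
      rfl
    have e6 : (1 : WithConv (A →ₐ[R] B)).ofConv = vb.comp (Ideal.Quotient.mkₐ R _) := by
      ext a
      rfl
    rw [e5, e6, h5]
  -- Step 6
  have h7 : toConv f = toConv g := by
    calc toConv f = toConv f * (toConv (g.comp (HopfAlgebra.antipodeAlgHom R A)) * toConv g) := by
          rw [comp_antipode_mul, mul_one]
      _ = toConv g := by rw [← mul_assoc, h6, one_mul]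
  exact WithConv.toConv_injective h7

end unram

end H14S15067

namespace Groth.Agent.S15067

/-- Let R be a henselian Noetherian local ring, A and A'' commutative Hopf algebras over R which are
finite and flat as R-modules (finite flat R-groups G = Spec A, G'' = Spec A''), and A'' → A an
R-algebra homomorphism compatible with the comultiplications and counits (a homomorphism π : G →
G'') making A a faithfully flat A''-module (π faithfully flat). Let J ⊆ A be the ideal generated by
the image of the augmentation ideal of A'', so that G' = Spec A/J is the kernel of π and 1 → G' → G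
→ G'' → 1 is an exact sequence of finite flat R-groups. Then: (2) if A'' and A/J are local rings
(G'' and G' connected), A is a local ring (G is connected); (3) if A'' and A/J are étale over R (G''
and G' finite étale), A is étale over R (G is finite étale). -/
theorem result (R : Type u) [CommRing R] [HenselianLocalRing R] [IsNoetherianRing R]
    (A A'' : Type u) [CommRing A] [HopfAlgebra R A] [Module.Finite R A] [Module.Flat R A]
    [CommRing A''] [HopfAlgebra R A''] [Module.Finite R A''] [Module.Flat R A'']
    [Algebra A'' A] [IsScalarTower R A'' A] [Module.FaithfullyFlat A'' A]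
    (hΔ : (Bialgebra.comulAlgHom R A).comp (IsScalarTower.toAlgHom R A'' A) =
      (Algebra.TensorProduct.map (IsScalarTower.toAlgHom R A'' A) (IsScalarTower.toAlgHom R A'' A)).comp
        (Bialgebra.comulAlgHom R A''))
    (hε : (Bialgebra.counitAlgHom R A).comp (IsScalarTower.toAlgHom R A'' A) = Bialgebra.counitAlgHom R A'') :
    ((IsLocalRing A'' ∧
        IsLocalRing (A ⧸ (RingHom.ker (Bialgebra.counitAlgHom R A'')).map (algebraMap A'' A))) → IsLocalRing A) ∧
      ((Algebra.Etale R A'' ∧
        Algebra.Etale R (A ⧸ (RingHom.ker (Bialgebra.counitAlgHom R A'')).map (algebraMap A'' A))) →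
        Algebra.Etale R A) := by
  refine ⟨?_, ?_⟩
  · rintro ⟨h1, h2⟩
    haveI := h1
    haveI := h2
    haveI : Module.Finite A'' A := Module.Finite.of_restrictScalars_finite R A'' A
    haveI : Algebra.IsIntegral A'' A := inferInstance
    have hne : RingHom.ker (Bialgebra.counitAlgHom R A'') ≠ ⊤ := RingHom.ker_ne_top _
    exact H14S15067.isLocalRing_of_quot (RingHom.ker (Bialgebra.counitAlgHom R A'')) hne
  · rintro ⟨h1, h2⟩
    haveI := h1
    haveI := h2
    haveI : Algebra.FormallyUnramified R A := H14S15067.formallyUnramified hΔ hε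
    haveI : Algebra.FinitePresentation R A :=
      Algebra.FinitePresentation.of_finiteType.mp inferInstance
    exact Algebra.Etale.of_formallyUnramified_of_flat

end Groth.Agent.S15067
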