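import Groth.Statements.S15063
import Mathlib
import Groth.Agent.S13404
import Groth.Agent.S15067


set_option autoImplicit false
universe u
open Hopf

universe v w
namespace H14S15063

open IsLocalRing TensorProduct WithConv

section

variable {R : Type u} [CommRing R] {A : Type u} [CommRing A] [HopfAlgebra R A]

theorem conv3_eq {C : Type u} [CommRing C] [Algebra R C] (f g h : A →ₐ[R] C) :
    Dyn.conv3 R A f g h = (toConv f * toConv g * toConv h).ofConv := by
  simp only [Dyn.conv3, AlgHom.convMul_def, WithConv.ofConv_toConv]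
  have : Algebra.TensorProduct.map ((Algebra.TensorProduct.lmul' (S := C) R).comp
      ((Algebra.TensorProduct.map f g).comp (Bialgebra.comulAlgHom R A))) h =
      (Algebra.TensorProduct.map ((Algebra.TensorProduct.lmul' (S := C) R).comp
        (Algebra.TensorProduct.map f g)) h).comp
      (Algebra.TensorProduct.map (Bialgebra.comulAlgHom R A) (AlgHom.id R A)) := by
    rw [← Algebra.TensorProduct.map_comp, AlgHom.comp_id, AlgHom.comp_assoc]
  rw [this, AlgHom.comp_assoc]

variable (e : A)

/-- `id ⊗ ε̄ : A ⊗ B → A` -/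
noncomputable def rho' (hε : Bialgebra.counitAlgHom R A e = 1) :
    (A ⊗[R] (A ⧸ Ideal.span ({1 - e} : Set A))) →ₐ[R] A :=
  Algebra.TensorProduct.lift (AlgHom.id R A)
    ((Algebra.ofId R A).comp (H14S13404.epsBar e hε)) (fun _ _ => Commute.all _ _)

@[simp] theorem rho'_tmul (hε : Bialgebra.counitAlgHom R A e = 1) (a : A)
    (b : A ⧸ Ideal.span ({1 - e} : Set A)) :
    rho' e hε (a ⊗ₜ[R] b) = a * algebraMap R A (H14S13404.epsBar e hε b) := by
  simp [rho', Algebra.ofId_apply]

theorem sub_mem_max [Nontrivial R] [Module.Finite R A] (hε : Bialgebra.counitAlgHom R A e = 1)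
    [IsLocalRing (A ⧸ Ideal.span ({1 - e} : Set A))]
    (n : Ideal (A ⊗[R] (A ⧸ Ideal.span ({1 - e} : Set A)))) [n.IsMaximal]
    (d : A ⊗[R] (A ⧸ Ideal.span ({1 - e} : Set A))) :
    d - Algebra.TensorProduct.includeLeft (R := R) (S := R) (rho' e hε d) ∈ n := by
  have key : ∀ (b : A ⧸ Ideal.span ({1 - e} : Set A)), H14S13404.epsBar e hε b = 0 →
      (Algebra.TensorProduct.includeRight : (A ⧸ Ideal.span ({1 - e} : Set A)) →ₐ[R]
        A ⊗[R] (A ⧸ Ideal.span ({1 - e} : Set A))) b ∈ n := by
    intro b hb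
    have hint : (Algebra.TensorProduct.includeRight : (A ⧸ Ideal.span ({1 - e} : Set A)) →ₐ[R]
        A ⊗[R] (A ⧸ Ideal.span ({1 - e} : Set A))).toRingHom.IsIntegral := by
      apply RingHom.IsIntegral.tower_top (algebraMap R (A ⧸ Ideal.span ({1 - e} : Set A)))
      have h1 : (Algebra.TensorProduct.includeRight : (A ⧸ Ideal.span ({1 - e} : Set A)) →ₐ[R]
        A ⊗[R] (A ⧸ Ideal.span ({1 - e} : Set A))).toRingHom.comp
          (algebraMap R (A ⧸ Ideal.span ({1 - e} : Set A))) = algebraMap R _ := by
        ext r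
        simp
      rw [h1]
      exact algebraMap_isIntegral_iff.mpr inferInstance
    haveI hmax := Ideal.isMaximal_comap_of_isIntegral_of_isMaximal' _ hint n
    have h2 := IsLocalRing.eq_maximalIdeal hmax
    have hb' : b ∈ n.comap (Algebra.TensorProduct.includeRight :
        (A ⧸ Ideal.span ({1 - e} : Set A)) →ₐ[R]
        A ⊗[R] (A ⧸ Ideal.span ({1 - e} : Set A))).toRingHom := by
      rw [h2]
      exact H14S13404.ker_le e hε hb
    exact hb'
  induction d using TensorProduct.induction_on with
  | zero => simp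
  | tmul a b =>
    have hβ : H14S13404.epsBar e hε (b - algebraMap R _ (H14S13404.epsBar e hε b)) = 0 := by
      rw [map_sub, AlgHom.commutes, Algebra.algebraMap_self_apply, sub_self]
    have h1 := key _ hβ
    have e1 : a ⊗ₜ[R] b - Algebra.TensorProduct.includeLeft (R := R) (S := R)
        (rho' e hε (a ⊗ₜ[R] b)) =
        (a ⊗ₜ[R] (1 : A ⧸ Ideal.span ({1 - e} : Set A))) *
        (Algebra.TensorProduct.includeRight : (A ⧸ Ideal.span ({1 - e} : Set A)) →ₐ[R]
        A ⊗[R] (A ⧸ Ideal.span ({1 - e} : Set A)))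
          (b - algebraMap R _ (H14S13404.epsBar e hε b)) := by
      rw [rho'_tmul, Algebra.TensorProduct.includeLeft_apply,
        Algebra.TensorProduct.includeRight_apply, Algebra.TensorProduct.tmul_mul_tmul,
        mul_one, one_mul, TensorProduct.tmul_sub, Algebra.algebraMap_eq_smul_one,
        Algebra.algebraMap_eq_smul_one, mul_smul_comm, mul_one, TensorProduct.smul_tmul]
    rw [e1]
    exact n.mul_mem_left _ h1
  | add x y hx hy =>
    have : x + y - Algebra.TensorProduct.includeLeft (R := R) (S := R) (rho' e hε (x + y)) =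
        (x - Algebra.TensorProduct.includeLeft (R := R) (S := R) (rho' e hε x)) +
        (y - Algebra.TensorProduct.includeLeft (R := R) (S := R) (rho' e hε y)) := by
      rw [map_add, map_add]
      abel
    rw [this]
    exact n.add_mem hx hy

theorem idem_eq_one [Nontrivial R] [Module.Finite R A] (hε : Bialgebra.counitAlgHom R A e = 1)
    [IsLocalRing (A ⧸ Ideal.span ({1 - e} : Set A))]
    {f : A ⊗[R] (A ⧸ Ideal.span ({1 - e} : Set A))}
    (hf : IsIdempotentElem f) (haug : rho' e hε f = 1) : f = 1 := by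
  by_contra hne
  have hu : IsUnit f := by
    by_contra hnu
    obtain ⟨n, hn, hfn⟩ := exists_max_ideal_of_mem_nonunits hnu
    haveI := hn
    have h1 := sub_mem_max e hε n f
    rw [haug, map_one] at h1
    apply hn.ne_top
    rw [Ideal.eq_top_iff_one]
    have h2 := n.sub_mem hfn h1
    simpa using h2
  have h3 : f * (f - 1) = 0 := by rw [mul_sub, hf.eq, mul_one, sub_self]
  exact hne (sub_eq_zero.mp ((hu.mul_right_eq_zero).mp h3))

theorem comp_conv3 {C C' : Type u} [CommRing C] [Algebra R C] [CommRing C'] [Algebra R C']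
    (ρ : C →ₐ[R] C') (x y z : A →ₐ[R] C) :
    ρ.comp (toConv x * toConv y * toConv z).ofConv =
      (toConv (ρ.comp x) * toConv (ρ.comp y) * toConv (ρ.comp z)).ofConv := by
  rw [AlgHom.comp_convMul_distrib, AlgHom.comp_convMul_distrib]

/-- the universal conjugate `g h g⁻¹` over `A ⊗ B` -/
noncomputable def c0 : A →ₐ[R] A ⊗[R] (A ⧸ Ideal.span ({1 - e} : Set A)) :=
  (toConv (Algebra.TensorProduct.includeLeft : A →ₐ[R] A ⊗[R] (A ⧸ Ideal.span ({1 - e} : Set A))) *
    toConv ((Algebra.TensorProduct.includeRight : (A ⧸ Ideal.span ({1 - e} : Set A)) →ₐ[R]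
        A ⊗[R] (A ⧸ Ideal.span ({1 - e} : Set A))).comp
        (Ideal.Quotient.mkₐ R (Ideal.span ({1 - e} : Set A)))) *
    toConv ((Algebra.TensorProduct.includeLeft :
      A →ₐ[R] A ⊗[R] (A ⧸ Ideal.span ({1 - e} : Set A))).comp
        (HopfAlgebra.antipodeAlgHom R A))).ofConv

theorem rho'_c0 (hε : Bialgebra.counitAlgHom R A e = 1) :
    (rho' e hε).comp (c0 e) = (1 : WithConv (A →ₐ[R] A)).ofConv := by
  rw [c0, comp_conv3]
  have h1 : (rho' e hε).comp (Algebra.TensorProduct.includeLeft :
      A →ₐ[R] A ⊗[R] (A ⧸ Ideal.span ({1 - e} : Set A))) = AlgHom.id R A := by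
    ext a
    simp
  have h2 : (rho' e hε).comp ((Algebra.TensorProduct.includeRight :
      (A ⧸ Ideal.span ({1 - e} : Set A)) →ₐ[R]
        A ⊗[R] (A ⧸ Ideal.span ({1 - e} : Set A))).comp
        (Ideal.Quotient.mkₐ R (Ideal.span ({1 - e} : Set A)))) =
      (1 : WithConv (A →ₐ[R] A)).ofConv := by
    ext a
    simp [AlgHom.convOne_apply]
  have h3 : (rho' e hε).comp ((Algebra.TensorProduct.includeLeft :
      A →ₐ[R] A ⊗[R] (A ⧸ Ideal.span ({1 - e} : Set A))).comp
        (HopfAlgebra.antipodeAlgHom R A)) = (AlgHom.id R A).comp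
        (HopfAlgebra.antipodeAlgHom R A) := by
    rw [← AlgHom.comp_assoc, h1]
  rw [h1, h2, h3]
  have h4 : toConv (1 : WithConv (A →ₐ[R] A)).ofConv = (1 : WithConv (A →ₐ[R] A)) := rfl
  rw [h4, mul_one, H14S15067.mul_comp_antipode]

theorem c0_e [Nontrivial R] [Module.Finite R A] (he : IsIdempotentElem e)
    (hε : Bialgebra.counitAlgHom R A e = 1)
    [IsLocalRing (A ⧸ Ideal.span ({1 - e} : Set A))] : c0 (R := R) e e = 1 := by
  apply idem_eq_one e hε (he.map _)
  have h := DFunLike.congr_fun (rho'_c0 e hε) e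
  simp only [AlgHom.coe_comp, Function.comp_apply] at h
  rw [h, AlgHom.convOne_apply]
  change algebraMap R A (Bialgebra.counitAlgHom R A e) = 1
  rw [hε, map_one]

theorem normal [Nontrivial R] [Module.Finite R A] (he : IsIdempotentElem e)
    (hε : Bialgebra.counitAlgHom R A e = 1)
    [IsLocalRing (A ⧸ Ideal.span ({1 - e} : Set A))] :
    SGA3.IsNormalHopfIdeal R A (Ideal.span ({1 - e} : Set A)) := by
  intro T _ _ g h hh a ha
  let hb : (A ⧸ Ideal.span ({1 - e} : Set A)) →ₐ[R] T := Ideal.Quotient.liftₐ _ h hh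
  let ρ : (A ⊗[R] (A ⧸ Ideal.span ({1 - e} : Set A))) →ₐ[R] T :=
    Algebra.TensorProduct.lift g hb (fun _ _ => Commute.all _ _)
  have h1 : ρ.comp (Algebra.TensorProduct.includeLeft :
      A →ₐ[R] A ⊗[R] (A ⧸ Ideal.span ({1 - e} : Set A))) = g := by
    ext a
    simp [ρ]
  have h2 : ρ.comp ((Algebra.TensorProduct.includeRight :
      (A ⧸ Ideal.span ({1 - e} : Set A)) →ₐ[R]
        A ⊗[R] (A ⧸ Ideal.span ({1 - e} : Set A))).comp
        (Ideal.Quotient.mkₐ R (Ideal.span ({1 - e} : Set A)))) = h := by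
    ext a
    simp [ρ, hb]
  have h3 : ρ.comp ((Algebra.TensorProduct.includeLeft :
      A →ₐ[R] A ⊗[R] (A ⧸ Ideal.span ({1 - e} : Set A))).comp
        (HopfAlgebra.antipodeAlgHom R A)) = g.comp (HopfAlgebra.antipodeAlgHom R A) := by
    rw [← AlgHom.comp_assoc, h1]
  have h4 : Dyn.conv3 R A g h (g.comp (HopfAlgebra.antipodeAlgHom R A)) = ρ.comp (c0 e) := by
    rw [conv3_eq, c0, comp_conv3, h1, h2, h3]
  rw [h4]
  obtain ⟨x, rfl⟩ := Ideal.mem_span_singleton'.mp ha
  simp only [AlgHom.coe_comp, Function.comp_apply]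
  rw [map_mul, map_sub, map_one, c0_e e he hε, sub_self, mul_zero, map_zero]

end

end H14S15063

namespace Groth.Agent.S15063

/-- Let R be a henselian Noetherian local ring and A a commutative Hopf algebra over R which is finite
and flat as an R-module (a finite flat R-group G = Spec A, not assumed commutative); let e ∈ A be an
idempotent with ε(e) = 1 such that A/(1 − e) is a local ring, so that Spec A/(1 − e) is the
connected component G⁰ of G containing the unit section. Then G⁰ is normal in G: for every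
commutative R-algebra T, every T-valued point g of G and every T-valued point h of G killing the
ideal (1 − e), the conjugate g·h·g⁻¹ again kills (1 − e). (The published statement is for a flat
affine algebraic R-group and also asserts that G⁰ is an open and closed flat subgroup; this row
states the normality clause for finite flat G.) -/
theorem result (R : Type u) [CommRing R] [HenselianLocalRing R] [IsNoetherianRing R]
    (A : Type u) [CommRing A] [HopfAlgebra R A] [Module.Finite R A] [Module.Flat R A]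
    (e : A) (he : IsIdempotentElem e) (hε : Bialgebra.counitAlgHom R A e = 1)
    [IsLocalRing (A ⧸ Ideal.span ({1 - e} : Set A))] :
    SGA3.IsNormalHopfIdeal R A (Ideal.span ({1 - e} : Set A)) := by
  exact H14S15063.normal e he hε

end Groth.Agent.S15063
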