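import Groth.Statements.S15066
import Groth.Agent.Lib.helper12.MultType

set_option autoImplicit false
set_option linter.style.haveILetI false
universe u
open Hopf

namespace Groth.Agent.S15066

open TensorProduct in
/-- evaluation of a convolution product at a primitive element -/
lemma convMul_prim {k : Type u} [Field k] {A : Type u} [CommRing A] [HopfAlgebra k A]
    (x : A) (hx : CoalgebraStruct.comul (R := k) x = x ⊗ₜ[k] (1 : A) + (1 : A) ⊗ₜ[k] x)
    (ψ φ : WithConv (A →ₗ[k] k)) : (ψ * φ) x = ψ x * φ 1 + ψ 1 * φ x := by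
  rw [LinearMap.convMul_apply, hx, map_add, TensorProduct.map_tmul, TensorProduct.map_tmul,
    map_add, LinearMap.mul'_apply, LinearMap.mul'_apply]

open TensorProduct in
lemma convMul_one_apply {k : Type u} [Field k] {A : Type u} [CommRing A] [HopfAlgebra k A]
    (ψ φ : WithConv (A →ₗ[k] k)) : (ψ * φ) (1 : A) = ψ 1 * φ 1 := by
  rw [LinearMap.convMul_apply, Bialgebra.comul_one, Algebra.TensorProduct.one_def,
    TensorProduct.map_tmul, LinearMap.mul'_apply]

/-- evaluation at `1` as a ring homomorphism on the convolution algebra -/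
noncomputable def ev1 (k : Type u) [Field k] (A : Type u) [CommRing A] [HopfAlgebra k A] :
    WithConv (A →ₗ[k] k) →ₐ[k] k where
  toFun ψ := ψ 1
  map_one' := by
    show (1 : WithConv (A →ₗ[k] k)) (1 : A) = 1
    rw [LinearMap.convOne_apply, Bialgebra.counit_one]; rfl
  map_mul' ψ φ := convMul_one_apply ψ φ
  map_zero' := rfl
  map_add' _ _ := rfl
  commutes' c := by
    show (algebraMap k (WithConv (A →ₗ[k] k)) c) (1 : A) = algebraMap k k c
    rw [LinearMap.convAlgebraMap_apply, Bialgebra.counit_one]
    simp

lemma ev1_apply {k : Type u} [Field k] {A : Type u} [CommRing A] [HopfAlgebra k A]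
    (ψ : WithConv (A →ₗ[k] k)) : ev1 k A ψ = ψ 1 := rfl

open TensorProduct in
/-- the dual algebra is reduced ⇒ no primitive elements -/
lemma no_prim {k : Type u} [Field k] {A : Type u} [CommRing A] [HopfAlgebra k A]
    [Coalgebra.IsCocomm k A] [FiniteDimensional k A]
    (hdual : IsReduced (WithConv (A →ₗ[k] k))) (x : A)
    (hx : CoalgebraStruct.comul (R := k) x = x ⊗ₜ[k] (1 : A) + (1 : A) ⊗ₜ[k] x) : x = 0 := by
  classical
  by_contra hx0
  -- `ε x = 0`
  have hεx : CoalgebraStruct.counit (R := k) x = 0 := by
    have h := Coalgebra.rTensor_counit_comul (R := k) x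
    rw [hx, map_add, LinearMap.rTensor_tmul, LinearMap.rTensor_tmul, Bialgebra.counit_one] at h
    have h2 : (CoalgebraStruct.counit (R := k) x) ⊗ₜ[k] (1 : A) = 0 := by
      have := add_eq_right.1 h
      exact this
    have h3 := congrArg (TensorProduct.lid k A) h2
    rw [TensorProduct.lid_tmul, map_zero] at h3
    have h4 := congrArg (CoalgebraStruct.counit (R := k)) h3
    rw [map_smul, Bialgebra.counit_one, map_zero, smul_eq_mul, mul_one] at h4
    exact h4
  -- a functional with `ψ 1 = 0`, `ψ x = 1`
  obtain ⟨φ, hφ⟩ : ∃ φ : A →ₗ[k] k, φ x = 1 := Module.Projective.exists_dual_eq_one k hx0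
  set ψ : WithConv (A →ₗ[k] k) :=
    WithConv.toConv (φ - φ 1 • (CoalgebraStruct.counit (R := k) (A := A))) with hψ
  have hψ1 : ψ (1 : A) = 0 := by
    show (φ - φ 1 • (CoalgebraStruct.counit (R := k) (A := A))) (1 : A) = 0
    rw [LinearMap.sub_apply, LinearMap.smul_apply, Bialgebra.counit_one, smul_eq_mul, mul_one,
      sub_self]
  have hψx : ψ x = 1 := by
    show (φ - φ 1 • (CoalgebraStruct.counit (R := k) (A := A))) x = 1
    rw [LinearMap.sub_apply, LinearMap.smul_apply, hεx, smul_zero, sub_zero, hφ]
  -- the minimal polynomial of `ψ`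
  haveI : Module.Finite k (WithConv (A →ₗ[k] k)) :=
    Module.Finite.equiv (WithConv.linearEquiv k (A →ₗ[k] k)).symm
  have hint : IsIntegral k ψ := IsIntegral.of_finite k ψ
  set m := minpoly k ψ with hm
  have hm0 : m ≠ 0 := minpoly.ne_zero hint
  obtain ⟨q, hq, hqX⟩ := Polynomial.exists_eq_pow_rootMultiplicity_mul_and_not_dvd m hm0 0
  set n := Polynomial.rootMultiplicity 0 m with hn
  rw [map_zero, sub_zero] at hq hqX
  have hc : q.coeff 0 ≠ 0 := fun h => hqX (Polynomial.X_dvd_iff.2 h)
  set r : WithConv (A →ₗ[k] k) := Polynomial.aeval ψ q.divX with hr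
  have hq2 : Polynomial.aeval ψ q = r * ψ + algebraMap k _ (q.coeff 0) := by
    conv_lhs => rw [← Polynomial.divX_mul_X_add q]
    rw [map_add, map_mul, Polynomial.aeval_X, Polynomial.aeval_C]
  have h0 : ψ ^ n * (r * ψ + algebraMap k _ (q.coeff 0)) = 0 := by
    have := minpoly.aeval k ψ
    rw [← hm, hq, map_mul, map_pow, Polynomial.aeval_X, hq2] at this
    exact this
  set w : WithConv (A →ₗ[k] k) := r * ψ + algebraMap k _ (q.coeff 0) with hw
  have hz : ψ * w = 0 := by
    apply IsReduced.eq_zero
    refine ⟨n + 1, ?_⟩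
    rw [mul_pow, pow_succ' ψ n, pow_succ w n]
    calc ψ * ψ ^ n * (w ^ n * w) = ψ * w ^ n * (ψ ^ n * w) := by ring
      _ = 0 := by rw [h0, mul_zero]
  have h1 := convMul_prim x hx ψ w
  rw [hz, hψ1, zero_mul, add_zero, hψx, one_mul] at h1
  have hw1 : w (1 : A) = q.coeff 0 := by
    have : ev1 k A w = q.coeff 0 := by
      rw [hw, map_add, map_mul, ev1_apply ψ, hψ1, mul_zero, zero_add, AlgHom.commutes]
      rfl
    exact this
  rw [hw1] at h1
  exact hc h1.symm


/-- Let k be an algebraically closed field of characteristic p > 0 and A a finite-dimensional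
commutative and cocommutative Hopf algebra over k (a finite commutative k-group G = Spec A) which is
a local ring (G connected) and whose dual algebra Hom_k(A, k) with the convolution product is
reduced (the Cartier dual of G is étale, i.e. G is multiplicative), with dim_k A > 1, and assume G
is simple: every Hopf ideal of A is either zero or the augmentation ideal (no closed subgroup
schemes other than G and 1). Then G is isomorphic to μ_p: A has a group-like element g (Δ(g) = g ⊗
g, ε(g) = 1) with g^p = 1 whose powers 1, g, …, g^(p−1) are linearly independent over k, and dim_k A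
= p (so A = k[g]/(g^p − 1)). -/
theorem result (k : Type u) [Field k] [IsAlgClosed k] (p : ℕ) [Fact p.Prime]
    [CharP k p] (A : Type u) [CommRing A] [HopfAlgebra k A] [Coalgebra.IsCocomm k A] [FiniteDimensional k A]
    [IsLocalRing A] (hdual : IsReduced (WithConv (A →ₗ[k] k))) (hA : 1 < Module.finrank k A)
    (hsimple : ∀ I : Ideal A, I.IsHopfIdeal k → I = ⊥ ∨ I = RingHom.ker (Bialgebra.counitAlgHom k A)) :
    ∃ g : A, IsGroupLikeElem k g ∧ g ^ p = 1 ∧ LinearIndependent k (fun i : Fin p => g ^ (i : ℕ)) ∧
      Module.finrank k A = p := by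
  classical
  have hp : p.Prime := Fact.out
  have hD : HopfRep.IsDiagonalizable k A :=
    Groth.Agent.H12MT.isDiagonalizable_of_cocomm_noprim (fun b hb => no_prim hdual b hb)
  have hspan : Submodule.span k {a : A | IsGroupLikeElem k a} = ⊤ := hD
  have hntA : Nontrivial A := Module.nontrivial_of_finrank_pos (R := k) (by omega)
  have hchar : CharP A p := charP_of_injective_algebraMap (algebraMap k A).injective p
  -- augmentation ideal = maximal ideal
  have hsurj : Function.Surjective (Bialgebra.counitAlgHom k A : A →+* k) := by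
    intro c
    refine ⟨algebraMap k A c, ?_⟩
    exact (Bialgebra.counitAlgHom k A).commutes c
  have hker : RingHom.ker (Bialgebra.counitAlgHom k A : A →+* k) = IsLocalRing.maximalIdeal A := by
    apply IsLocalRing.eq_maximalIdeal
    exact RingHom.ker_isMaximal_of_surjective _ hsurj
  have hart : IsArtinianRing A := IsArtinianRing.of_finite k A
  obtain ⟨N, hN⟩ : ∃ N : ℕ, (IsLocalRing.maximalIdeal A) ^ N = ⊥ := by
    have h := IsArtinianRing.isNilpotent_jacobson_bot (R := A)
    rw [IsLocalRing.jacobson_eq_maximalIdeal ⊥ bot_ne_top] at h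
    exact h
  have hpow : ∀ g : A, IsGroupLikeElem k g → ∃ m : ℕ, g ^ p ^ m = 1 := by
    intro g hg
    have hmem : g - 1 ∈ IsLocalRing.maximalIdeal A := by
      rw [← hker, RingHom.mem_ker, map_sub, map_one]
      show CoalgebraStruct.counit (R := k) g - 1 = 0
      rw [hg.counit_eq_one, sub_self]
    have h1 : (g - 1) ^ N = 0 := by
      have h := Ideal.pow_mem_pow hmem N
      rw [hN] at h
      exact h
    have hm : N ≤ p ^ N := (Nat.lt_pow_self hp.one_lt).le
    refine ⟨N, ?_⟩
    have h2 : (g - 1) ^ p ^ N = 0 := pow_eq_zero_of_le hm h1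
    rw [sub_pow_char_pow, one_pow, sub_eq_zero] at h2
    exact h2
  -- a non-trivial group-like element
  obtain ⟨g₀, hg₀, hg₀1⟩ : ∃ g₀ : A, IsGroupLikeElem k g₀ ∧ g₀ ≠ 1 := by
    by_contra hcon
    push Not at hcon
    have hle : (⊤ : Submodule k A) ≤ Submodule.span k {(1 : A)} := by
      rw [← hspan]
      apply Submodule.span_mono
      intro a ha
      rw [Set.mem_singleton_iff]
      exact hcon a ha
    have h1 := Submodule.finrank_mono hle
    rw [finrank_top, finrank_span_singleton (one_ne_zero)] at h1
    omega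
  obtain ⟨g, hg, hg1, hgp⟩ : ∃ g : A, IsGroupLikeElem k g ∧ g ≠ 1 ∧ g ^ p = 1 := by
    have hex := hpow g₀ hg₀
    have hm1 : g₀ ^ p ^ (Nat.find hex) = 1 := Nat.find_spec hex
    have hm0 : Nat.find hex ≠ 0 := by
      intro h
      rw [h, pow_zero, pow_one] at hm1
      exact hg₀1 hm1
    obtain ⟨m', hm'⟩ := Nat.exists_eq_succ_of_ne_zero hm0
    refine ⟨g₀ ^ p ^ m', hg₀.pow, ?_, ?_⟩
    · intro h
      exact Nat.find_min hex (m := m') (by omega) h
    · rw [← pow_mul, ← pow_succ, ← Nat.succ_eq_add_one, ← hm']
      exact hm1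
  have hord : orderOf g = p := orderOf_eq_prime hgp hg1
  have hinj : ∀ i j : ℕ, i < p → j < p → g ^ i = g ^ j → i = j := by
    intro i j hi hj h
    exact pow_injOn_Iio_orderOf (by rw [hord]; exact hi) (by rw [hord]; exact hj) h
  have hli : LinearIndependent k (fun i : Fin p => g ^ (i : ℕ)) := by
    have h0 := (linearIndepOn_isGroupLikeElem (R := k) (A := A))
    let f : Fin p → {a : A | IsGroupLikeElem k a} := fun i => ⟨g ^ (i : ℕ), hg.pow⟩
    have hf : Function.Injective f := by
      intro i j h
      apply Fin.ext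
      exact hinj _ _ i.2 j.2 (congrArg Subtype.val h)
    exact h0.comp f hf
  -- the Hopf ideal generated by `g - 1`
  set I : Ideal A := Ideal.span {g - 1} with hI
  have hmk : Ideal.Quotient.mk I g = 1 := by
    rw [← sub_eq_zero, ← map_one (Ideal.Quotient.mk I), ← map_sub, Ideal.Quotient.eq_zero_iff_mem]
    exact Ideal.subset_span rfl
  have hIH : I.IsHopfIdeal k := by
    haveI hco : (I.restrictScalars k).IsCoideal := by
      constructor
      · intro x hx
        have h1 : I ≤ RingHom.ker (Bialgebra.counitAlgHom k A : A →+* k) := by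
          refine Ideal.span_le.2 ?_
          rintro _ rfl
          show CoalgebraStruct.counit (R := k) (g - 1) = 0
          rw [map_sub, hg.counit_eq_one, Bialgebra.counit_one, sub_self]
        exact h1 hx
      · intro x hx
        let Q : A →ₐ[k] TensorProduct k (A ⧸ I) (A ⧸ I) :=
          (Algebra.TensorProduct.map (Ideal.Quotient.mkₐ k I) (Ideal.Quotient.mkₐ k I)).comp
            (Bialgebra.comulAlgHom k A)
        have h1 : I ≤ RingHom.ker (Q : A →+* TensorProduct k (A ⧸ I) (A ⧸ I)) := by
          refine Ideal.span_le.2 ?_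
          rintro _ rfl
          show Q (g - 1) = 0
          rw [map_sub, map_one]
          simp only [Q, AlgHom.comp_apply, Bialgebra.comulAlgHom_apply, hg.comul_eq_tmul_self,
            Algebra.TensorProduct.map_tmul, Ideal.Quotient.mkₐ_eq_mk, hmk]
          rw [Algebra.TensorProduct.one_def, sub_self]
        exact h1 hx
    refine Ideal.IsHopfIdeal.mk ?_
    have h1 : I ≤ I.comap (HopfAlgebra.antipodeAlgHom k A : A →+* A) := by
      refine Ideal.span_le.2 ?_
      rintro _ rfl
      show HopfAlgebra.antipodeAlgHom k A (g - 1) ∈ I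
      rw [map_sub, map_one, HopfAlgebra.antipodeAlgHom_apply, ← Ideal.Quotient.eq_zero_iff_mem,
        map_sub, map_one, sub_eq_zero]
      calc Ideal.Quotient.mk I (HopfAlgebraStruct.antipode k g)
          = Ideal.Quotient.mk I (HopfAlgebraStruct.antipode k g) * Ideal.Quotient.mk I g := by
            rw [hmk, mul_one]
        _ = 1 := by rw [← map_mul, hg.antipode_mul_cancel, map_one]
    intro x hx
    exact h1 hx
  have hIne : I ≠ ⊥ := by
    intro h
    have : g - 1 ∈ I := Ideal.subset_span rfl
    rw [h, Ideal.mem_bot, sub_eq_zero] at this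
    exact hg1 this
  have hIeq : I = RingHom.ker (Bialgebra.counitAlgHom k A) := (hsimple I hIH).resolve_left hIne
  -- the basis of group-like elements
  let b : Module.Basis {a : A | IsGroupLikeElem k a} k A :=
    Module.Basis.mk (linearIndepOn_isGroupLikeElem (R := k) (A := A)) (by
      have : Set.range (fun x : {a : A | IsGroupLikeElem k a} => id (x : A)) =
          {a : A | IsGroupLikeElem k a} := by
        ext a
        constructor
        · rintro ⟨x, rfl⟩; exact x.2
        · intro ha; exact ⟨⟨a, ha⟩, rfl⟩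
      rw [this, hspan])
  have hcoord : ∀ (x y : A) (hx : IsGroupLikeElem k x) (hy : IsGroupLikeElem k y),
      b.coord ⟨y, hy⟩ x = if x = y then 1 else 0 := by
    intro x y hx hy
    have hbx : x = b ⟨x, hx⟩ := by
      rw [Module.Basis.mk_apply]; rfl
    conv_lhs => rw [hbx]
    rw [Module.Basis.coord_apply, Module.Basis.repr_self, Finsupp.single_apply]
    by_cases hxy : x = y
    · subst hxy; simp
    · rw [if_neg hxy, if_neg]
      intro h
      exact hxy (congrArg Subtype.val h)
  have hall : ∀ h : A, IsGroupLikeElem k h → ∃ i : Fin p, g ^ (i : ℕ) = h := by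
    intro h hh
    have hmem : h - 1 ∈ I := by
      rw [hIeq, RingHom.mem_ker]
      show CoalgebraStruct.counit (R := k) (h - 1) = 0
      rw [map_sub, hh.counit_eq_one, Bialgebra.counit_one, sub_self]
    obtain ⟨a, ha⟩ := Ideal.mem_span_singleton'.1 hmem
    set σ : A := ∑ i ∈ Finset.range p, g ^ i with hσ
    have hσg : σ * (g - 1) = 0 := by rw [hσ, geom_sum_mul, hgp, sub_self]
    have hσh : σ * h = σ := by
      have h0 : σ * (h - 1) = 0 := by
        rw [← ha, ← mul_assoc, mul_comm σ a, mul_assoc, hσg, mul_zero]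
      rw [mul_sub, mul_one, sub_eq_zero] at h0
      exact h0
    by_contra hne
    push Not at hne
    have hL : b.coord ⟨h, hh⟩ (σ * h) = 1 := by
      rw [hσ, Finset.sum_mul, map_sum]
      rw [Finset.sum_eq_single 0]
      · rw [pow_zero, one_mul, hcoord h h hh hh, if_pos rfl]
      · intro i hi hi0
        rw [hcoord (g ^ i * h) h (hg.pow.mul hh) hh, if_neg]
        intro heq
        have h2 : g ^ i = 1 := by
          have hu := hh.isUnit
          have : g ^ i * h = 1 * h := by rw [heq, one_mul]
          exact hu.mul_right_cancel this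
        have := hinj i 0 (Finset.mem_range.1 hi) hp.pos (by rw [h2, pow_zero])
        exact hi0 this
      · intro h0
        exact absurd (Finset.mem_range.2 hp.pos) h0
    have hR : b.coord ⟨h, hh⟩ σ = 0 := by
      rw [hσ, map_sum]
      apply Finset.sum_eq_zero
      intro i hi
      rw [hcoord (g ^ i) h hg.pow hh, if_neg]
      exact hne ⟨i, Finset.mem_range.1 hi⟩
    rw [hσh, hR] at hL
    exact zero_ne_one hL
  have hspan' : ⊤ ≤ Submodule.span k (Set.range (fun i : Fin p => g ^ (i : ℕ))) := by
    rw [← hspan]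
    apply Submodule.span_le.2
    intro a ha
    obtain ⟨i, hi⟩ := hall a ha
    exact Submodule.subset_span ⟨i, hi⟩
  refine ⟨g, hg, hgp, hli, ?_⟩
  have := Module.finrank_eq_card_basis (Module.Basis.mk hli hspan')
  rw [this, Fintype.card_fin]

end Groth.Agent.S15066
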