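import Groth.Statements.S15064
import Groth.Agent.S15066
import Groth.Agent.Lib.helper12.Coeff

set_option autoImplicit false
set_option linter.style.haveILetI false
universe u
open scoped TensorProduct
open Hopf

namespace Groth.Agent.S15064

open TensorProduct

section aux
variable {k : Type u} [Field k] {A : Type u} [CommRing A] [HopfAlgebra k A]

/-- the counit kills primitive elements -/
lemma counit_eq_zero_of_prim (x : A)
    (hx : CoalgebraStruct.comul (R := k) x = x ⊗ₜ[k] (1 : A) + (1 : A) ⊗ₜ[k] x) :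
    CoalgebraStruct.counit (R := k) x = 0 := by
  have h := Coalgebra.rTensor_counit_comul (R := k) x
  rw [hx, map_add, LinearMap.rTensor_tmul, LinearMap.rTensor_tmul, Bialgebra.counit_one] at h
  have h2 : (CoalgebraStruct.counit (R := k) x) ⊗ₜ[k] (1 : A) = 0 := add_eq_right.1 h
  have h3 := congrArg (TensorProduct.lid k A) h2
  rw [TensorProduct.lid_tmul, map_zero] at h3
  have h4 := congrArg (CoalgebraStruct.counit (R := k)) h3
  rw [map_smul, Bialgebra.counit_one, map_zero, smul_eq_mul, mul_one] at h4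
  exact h4

/-- the antipode of a primitive element -/
lemma antipode_prim (x : A)
    (hx : CoalgebraStruct.comul (R := k) x = x ⊗ₜ[k] (1 : A) + (1 : A) ⊗ₜ[k] x) :
    HopfAlgebraStruct.antipode k x = -x := by
  have h := HopfAlgebra.mul_antipode_rTensor_comul_apply (R := k) x
  rw [hx, map_add, LinearMap.rTensor_tmul, LinearMap.rTensor_tmul, map_add,
    LinearMap.mul'_apply, LinearMap.mul'_apply, HopfAlgebra.antipode_one, mul_one, one_mul,
    counit_eq_zero_of_prim x hx, map_zero] at h
  exact eq_neg_of_add_eq_zero_left h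

/-- separation of `A ⊗ A` by pairs of functionals -/
lemma tensor_eq_zero_of_forall (t : A ⊗[k] A)
    (h : ∀ ψ φ : A →ₗ[k] k, LinearMap.mul' k k (TensorProduct.map ψ φ t) = 0) : t = 0 := by
  have h1 : t ∈ LinearMap.range ((⊥ : Submodule k A).subtype.lTensor A) := by
    rw [Groth.Agent.H12Coeff.mem_range_lTensor_iff]
    intro ψ
    rw [Submodule.mem_bot]
    rw [← Module.forall_dual_apply_eq_zero_iff k]
    intro φ
    have := h ψ φ
    have e : φ (Groth.Agent.H12Coeff.Lc A ψ t) = LinearMap.mul' k k (TensorProduct.map ψ φ t) := by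
      clear this h
      induction t using TensorProduct.induction_on with
      | zero => simp
      | add x y hx hy => simp only [map_add, hx, hy]
      | tmul a b => simp
    rw [e]; exact this
  obtain ⟨y, rfl⟩ := h1
  have : y = 0 := Subsingleton.elim _ _
  rw [this, map_zero]

end aux




section partC
variable {k : Type u} [Field k] {A : Type u} [CommRing A] [Algebra k A]

/-- powers below the nilpotency index are linearly independent -/
lemma linearIndependent_pow_of_nilpotent (x : A) (n : ℕ) (hn : x ^ n = 0)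
    (hmin : ∀ m < n, x ^ m ≠ 0) : LinearIndependent k (fun i : Fin n => x ^ (i : ℕ)) := by
  classical
  rw [Fintype.linearIndependent_iff]
  intro c hc
  have key : ∀ i : ℕ, ∀ hi : i < n, c ⟨i, hi⟩ = 0 := by
    intro i
    induction i using Nat.strong_induction_on with
    | _ i ih =>
      intro hi
      have h1 : x ^ (n - 1 - i) * ∑ j : Fin n, c j • x ^ (j : ℕ) = 0 := by rw [hc, mul_zero]
      rw [Finset.mul_sum, Finset.sum_eq_single ⟨i, hi⟩] at h1
      · rw [mul_smul_comm, ← pow_add] at h1
        have e : n - 1 - i + i = n - 1 := by omega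
        rw [e] at h1
        rcases smul_eq_zero.1 h1 with h | h
        · exact h
        · exact absurd h (hmin (n - 1) (by omega))
      · intro j _ hji
        rcases lt_or_gt_of_ne (fun h => hji (Fin.ext h) : (j : ℕ) ≠ i) with hlt | hgt
        · rw [ih j hlt j.2, zero_smul, mul_zero]
        · rw [mul_smul_comm, ← pow_add]
          have e : x ^ (n - 1 - i + (j : ℕ)) = 0 := by
            have : n ≤ n - 1 - i + (j : ℕ) := by omega
            exact pow_eq_zero_of_le this hn
          rw [e, smul_zero]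
      · intro h
        exact absurd (Finset.mem_univ _) h
  intro i
  exact key i i.2

end partC

section partA
variable {k : Type u} [Field k] {A : Type u} [CommRing A] [HopfAlgebra k A]
  [Coalgebra.IsCocomm k A] [FiniteDimensional k A]

/-- a local dual algebra of dimension `> 1` gives a nonzero primitive element -/
lemma exists_prim (hdual : IsLocalRing (WithConv (A →ₗ[k] k))) (hA : 1 < Module.finrank k A) :
    ∃ x : A, x ≠ 0 ∧
      CoalgebraStruct.comul (R := k) x = x ⊗ₜ[k] (1 : A) + (1 : A) ⊗ₜ[k] x := by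
  classical
  have hfinE : Module.Finite k (WithConv (A →ₗ[k] k)) :=
    Module.Finite.equiv (WithConv.linearEquiv k (A →ₗ[k] k)).symm
  have hartE : IsArtinianRing (WithConv (A →ₗ[k] k)) := IsArtinianRing.of_finite k _
  set e1 := Groth.Agent.S15066.ev1 k A with he1
  have hsurj : Function.Surjective (e1 : WithConv (A →ₗ[k] k) →+* k) := by
    intro c
    exact ⟨algebraMap k _ c, e1.commutes c⟩
  have hker : RingHom.ker (e1 : WithConv (A →ₗ[k] k) →+* k) =
      IsLocalRing.maximalIdeal (WithConv (A →ₗ[k] k)) := by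
    apply IsLocalRing.eq_maximalIdeal
    exact RingHom.ker_isMaximal_of_surjective _ hsurj
  have hnil : ∃ N : ℕ, (IsLocalRing.maximalIdeal (WithConv (A →ₗ[k] k))) ^ N = ⊥ := by
    have h := IsArtinianRing.isNilpotent_jacobson_bot (R := WithConv (A →ₗ[k] k))
    rw [IsLocalRing.jacobson_eq_maximalIdeal ⊥ bot_ne_top] at h
    exact h
  obtain ⟨M, hM⟩ : ∃ M : Ideal (WithConv (A →ₗ[k] k)),
      M = IsLocalRing.maximalIdeal (WithConv (A →ₗ[k] k)) := ⟨_, rfl⟩
  rw [← hM] at hker hnil
  have hMmem : ∀ ψ : WithConv (A →ₗ[k] k), ψ ∈ M ↔ ψ (1 : A) = 0 := by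
    intro ψ
    rw [← hker, RingHom.mem_ker]
    rfl
  obtain ⟨N, hN⟩ := hnil
  -- the subspace `M² + k·1`
  set W : Submodule k (WithConv (A →ₗ[k] k)) :=
    (M ^ 2).restrictScalars k ⊔ Submodule.span k {(1 : WithConv (A →ₗ[k] k))} with hW
  have hWlt : W < ⊤ := by
    rw [lt_top_iff_ne_top]
    intro hWtop
    have hMM : M ≤ M ^ 2 := by
      intro ψ hψ
      have hψW : ψ ∈ W := by rw [hWtop]; trivial
      rw [hW, Submodule.mem_sup] at hψW
      obtain ⟨μ, hμ, ν, hν, hsum⟩ := hψW
      obtain ⟨c, rfl⟩ := Submodule.mem_span_singleton.1 hν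
      have hμ' : μ ∈ M ^ 2 := hμ
      have hμM : μ ∈ M := Ideal.pow_le_self (by norm_num) hμ'
      have h1 : e1 ψ = 0 := (hMmem ψ).1 hψ
      have h2 : e1 μ = 0 := (hMmem μ).1 hμM
      rw [← hsum, map_add, h2, zero_add, map_smul, map_one, smul_eq_mul, mul_one] at h1
      rw [← hsum, h1, zero_smul, add_zero]
      exact hμ'
    have hMj : ∀ j : ℕ, M ≤ M ^ (j + 1) := by
      intro j
      induction j with
      | zero => exact (pow_one M).ge
      | succ j ih =>
        calc M ≤ M ^ 2 := hMM
          _ = M * M := pow_two M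
          _ ≤ M ^ (j + 1) * M := Ideal.mul_mono_left ih
          _ = M ^ (j + 1 + 1) := (pow_succ M (j + 1)).symm
    have hMbot : M = ⊥ := by
      rw [eq_bot_iff]
      calc M ≤ M ^ (N + 1) := hMj N
        _ ≤ M ^ N := Ideal.pow_le_pow_right (Nat.le_succ N)
        _ = ⊥ := hN
    -- then `E = k·1`
    have hE : (⊤ : Submodule k (WithConv (A →ₗ[k] k))) ≤
        Submodule.span k {(1 : WithConv (A →ₗ[k] k))} := by
      intro ψ _
      have h0 : ψ - e1 ψ • (1 : WithConv (A →ₗ[k] k)) ∈ M := by
        rw [hMmem]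
        have : e1 (ψ - e1 ψ • (1 : WithConv (A →ₗ[k] k))) = 0 := by
          rw [map_sub, map_smul, map_one, smul_eq_mul, mul_one, sub_self]
        exact this
      rw [hMbot, Ideal.mem_bot, sub_eq_zero] at h0
      rw [h0]
      exact Submodule.smul_mem _ _ (Submodule.mem_span_singleton_self _)
    have h1 := Submodule.finrank_mono hE
    have h2 : Module.finrank k (WithConv (A →ₗ[k] k)) = Module.finrank k A := by
      rw [(WithConv.linearEquiv k (A →ₗ[k] k)).finrank_eq]
      exact Subspace.dual_finrank_eq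
    have h3 : Module.finrank k (Submodule.span k {(1 : WithConv (A →ₗ[k] k))}) ≤ 1 := by
      have := finrank_span_le_card (R := k) ({(1 : WithConv (A →ₗ[k] k))} : Set _)
      simpa using this
    rw [finrank_top, h2] at h1
    omega
  obtain ⟨ξ, hξ0, hξW⟩ := Submodule.exists_le_ker_of_lt_top W hWlt
  have hξ1 : ξ 1 = 0 := by
    have : (1 : WithConv (A →ₗ[k] k)) ∈ W :=
      Submodule.mem_sup_right (Submodule.mem_span_singleton_self _)
    exact hξW this
  have hξ2 : ∀ ψ φ : WithConv (A →ₗ[k] k), ψ ∈ M → φ ∈ M → ξ (ψ * φ) = 0 := by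
    intro ψ φ hψ hφ
    have : ψ * φ ∈ W := by
      apply Submodule.mem_sup_left
      show ψ * φ ∈ M ^ 2
      rw [pow_two]
      exact Ideal.mul_mem_mul hψ hφ
    exact hξW this
  -- the element `x`
  set ξ' : Module.Dual k (Module.Dual k A) :=
    ξ ∘ₗ (WithConv.linearEquiv k (A →ₗ[k] k)).symm.toLinearMap with hξ'
  set x : A := (Module.evalEquiv k A).symm ξ' with hx
  have hxψ : ∀ ψ : WithConv (A →ₗ[k] k), ψ x = ξ ψ := by
    intro ψ
    have := Module.apply_evalEquiv_symm_apply k A ψ.ofConv ξ'
    rw [← hx] at this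
    exact this
  refine ⟨x, ?_, ?_⟩
  · intro hx0
    apply hξ0
    ext ψ
    rw [← hxψ ψ, hx0, LinearMap.zero_apply]
    exact map_zero ψ.ofConv
  · rw [← sub_eq_zero]
    apply tensor_eq_zero_of_forall
    intro ψ φ
    rw [map_sub, map_sub, map_add, map_add, TensorProduct.map_tmul, TensorProduct.map_tmul,
      LinearMap.mul'_apply, LinearMap.mul'_apply]
    have hconv : LinearMap.mul' k k (TensorProduct.map ψ φ (CoalgebraStruct.comul (R := k) x)) =
        (WithConv.toConv ψ * WithConv.toConv φ) x := rfl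
    rw [hconv, hxψ]
    set ψ' : WithConv (A →ₗ[k] k) := WithConv.toConv ψ with hψ'
    set φ' : WithConv (A →ₗ[k] k) := WithConv.toConv φ with hφ'
    set ψ₀ := ψ' - e1 ψ' • (1 : WithConv (A →ₗ[k] k)) with hψ₀
    set φ₀ := φ' - e1 φ' • (1 : WithConv (A →ₗ[k] k)) with hφ₀
    have hψ₀M : ψ₀ ∈ M := by
      rw [hMmem]
      have : e1 ψ₀ = 0 := by
        rw [hψ₀, map_sub, map_smul, map_one, smul_eq_mul, mul_one, sub_self]
      exact this
    have hφ₀M : φ₀ ∈ M := by
      rw [hMmem]
      have : e1 φ₀ = 0 := by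
        rw [hφ₀, map_sub, map_smul, map_one, smul_eq_mul, mul_one, sub_self]
      exact this
    have hdec : ψ' * φ' = ψ₀ * φ₀ + e1 ψ' • φ' + e1 φ' • ψ' -
        (e1 ψ' * e1 φ') • (1 : WithConv (A →ₗ[k] k)) := by
      rw [hψ₀, hφ₀]
      simp only [sub_mul, mul_sub, smul_mul_assoc, mul_smul_comm, one_mul, mul_one, smul_sub,
        smul_smul]
      rw [mul_comm (e1 φ') (e1 ψ')]
      abel
    rw [hdec, map_sub, map_add, map_add, hξ2 _ _ hψ₀M hφ₀M, map_smul, map_smul, map_smul, hξ1,
      ← hxψ ψ', ← hxψ φ']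
    have e1ψ : e1 ψ' = ψ 1 := rfl
    have e1φ : e1 φ' = φ 1 := rfl
    have hψx : ψ' x = ψ x := rfl
    have hφx : φ' x = φ x := rfl
    rw [e1ψ, e1φ, hψx, hφx]
    simp only [smul_eq_mul, mul_zero, sub_zero, zero_add]
    ring

end partA

/-- Let k be a field of characteristic p > 0 and A a finite-dimensional commutative and cocommutative
Hopf algebra over k (a finite commutative k-group G = Spec A) which is bi-infinitesimal — A is a
local ring and so is the dual algebra Hom_k(A, k) with the convolution product (G and its Cartier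
dual are connected) — with dim_k A > 1, and assume G is simple: every Hopf ideal of A is either zero
or the augmentation ideal (G has no closed subgroup schemes other than G and 1). Then G is
isomorphic to α_p: A has a primitive element x (Δ(x) = x ⊗ 1 + 1 ⊗ x) with x^p = 0 whose powers 1,
x, …, x^(p−1) are linearly independent over k, and dim_k A = p (so A = k[x]/(x^p) with x primitive). -/
theorem result (k : Type u) [Field k] (p : ℕ) [Fact p.Prime] [CharP k p]
    (A : Type u) [CommRing A] [HopfAlgebra k A] [Coalgebra.IsCocomm k A] [FiniteDimensional k A] [IsLocalRing A]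
    (hdual : IsLocalRing (WithConv (A →ₗ[k] k))) (hA : 1 < Module.finrank k A)
    (hsimple : ∀ I : Ideal A, I.IsHopfIdeal k → I = ⊥ ∨ I = RingHom.ker (Bialgebra.counitAlgHom k A)) :
    ∃ x : A, Coalgebra.comul x = x ⊗ₜ[k] (1 : A) + (1 : A) ⊗ₜ[k] x ∧ x ^ p = 0 ∧
      LinearIndependent k (fun i : Fin p => x ^ (i : ℕ)) ∧ Module.finrank k A = p := by
  classical
  have hp : p.Prime := Fact.out
  have hntA : Nontrivial A := Module.nontrivial_of_finrank_pos (R := k) (by omega)
  have hchar : CharP A p := charP_of_injective_algebraMap (algebraMap k A).injective p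
  have hntAA : Nontrivial (A ⊗[k] A) := by
    apply Module.nontrivial_of_finrank_pos (R := k)
    rw [Module.finrank_tensorProduct]
    exact Nat.mul_pos (by omega) (by omega)
  have hcharAA : CharP (A ⊗[k] A) p :=
    charP_of_injective_algebraMap (algebraMap k (A ⊗[k] A)).injective p
  -- augmentation ideal = maximal ideal, nilpotent
  have hsurj : Function.Surjective (Bialgebra.counitAlgHom k A : A →+* k) := by
    intro c
    exact ⟨algebraMap k A c, (Bialgebra.counitAlgHom k A).commutes c⟩
  have hker : RingHom.ker (Bialgebra.counitAlgHom k A : A →+* k) = IsLocalRing.maximalIdeal A := by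
    apply IsLocalRing.eq_maximalIdeal
    exact RingHom.ker_isMaximal_of_surjective _ hsurj
  have hart : IsArtinianRing A := IsArtinianRing.of_finite k A
  obtain ⟨N, hN⟩ : ∃ N : ℕ, (IsLocalRing.maximalIdeal A) ^ N = ⊥ := by
    have h := IsArtinianRing.isNilpotent_jacobson_bot (R := A)
    rw [IsLocalRing.jacobson_eq_maximalIdeal ⊥ bot_ne_top] at h
    exact h
  -- a nonzero primitive element
  obtain ⟨x₀, hx₀0, hx₀⟩ := exists_prim hdual hA
  have hprimpow : ∀ y : A,
      CoalgebraStruct.comul (R := k) y = y ⊗ₜ[k] (1 : A) + (1 : A) ⊗ₜ[k] y → ∀ j : ℕ,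
      CoalgebraStruct.comul (R := k) (y ^ p ^ j) =
        (y ^ p ^ j) ⊗ₜ[k] (1 : A) + (1 : A) ⊗ₜ[k] (y ^ p ^ j) := by
    intro y hy j
    have h1 : CoalgebraStruct.comul (R := k) (y ^ p ^ j) =
        (CoalgebraStruct.comul (R := k) y) ^ p ^ j := map_pow (Bialgebra.comulAlgHom k A) y _
    rw [h1, hy, add_pow_char_pow, Algebra.TensorProduct.tmul_pow, Algebra.TensorProduct.tmul_pow,
      one_pow]
  have hx₀nil : ∃ j : ℕ, x₀ ^ p ^ j = 0 := by
    have hmem : x₀ ∈ IsLocalRing.maximalIdeal A := by
      rw [← hker, RingHom.mem_ker]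
      exact counit_eq_zero_of_prim x₀ hx₀
    have h1 : x₀ ^ N = 0 := by
      have h := Ideal.pow_mem_pow hmem N
      rw [hN] at h
      exact h
    exact ⟨N, pow_eq_zero_of_le (Nat.lt_pow_self hp.one_lt).le h1⟩
  obtain ⟨x, hx0, hx, hxp⟩ : ∃ x : A, x ≠ 0 ∧
      CoalgebraStruct.comul (R := k) x = x ⊗ₜ[k] (1 : A) + (1 : A) ⊗ₜ[k] x ∧ x ^ p = 0 := by
    have hj1 : x₀ ^ p ^ (Nat.find hx₀nil) = 0 := Nat.find_spec hx₀nil
    have hj0 : Nat.find hx₀nil ≠ 0 := by
      intro h
      rw [h, pow_zero, pow_one] at hj1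
      exact hx₀0 hj1
    obtain ⟨j', hj'⟩ := Nat.exists_eq_succ_of_ne_zero hj0
    refine ⟨x₀ ^ p ^ j', ?_, hprimpow x₀ hx₀ j', ?_⟩
    · exact Nat.find_min hx₀nil (m := j') (by omega)
    · rw [← pow_mul, ← pow_succ, ← Nat.succ_eq_add_one, ← hj']
      exact hj1
  -- the nilpotency index is `p`
  have hmin : ∀ m < p, x ^ m ≠ 0 := by
    have hex : ∃ n : ℕ, x ^ n = 0 := ⟨p, hxp⟩
    have hn : x ^ (Nat.find hex) = 0 := Nat.find_spec hex
    have hnp : Nat.find hex ≤ p := Nat.find_min' hex hxp
    have hn0 : Nat.find hex ≠ 0 := by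
      intro h
      rw [h, pow_zero] at hn
      exact one_ne_zero hn
    have hn1 : Nat.find hex ≠ 1 := by
      intro h
      rw [h, pow_one] at hn
      exact hx0 hn
    have hnmin : ∀ m < Nat.find hex, x ^ m ≠ 0 := fun m hm => Nat.find_min hex hm
    suffices hnp' : Nat.find hex = p by
      intro m hm
      exact hnmin m (by omega)
    by_contra hne
    have hlt : Nat.find hex < p := lt_of_le_of_ne hnp hne
    generalize Nat.find hex = n at hn hnp hn0 hn1 hnmin hlt
    obtain ⟨ψ, hψ⟩ : ∃ ψ : A →ₗ[k] k, ψ (x ^ (n - 1)) = 1 :=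
      Module.Projective.exists_dual_eq_one k (hnmin (n - 1) (by omega))
    set ψ₁ : A →ₗ[k] k := ψ ∘ₗ LinearMap.mulLeft k (x ^ (n - 2)) with hψ₁
    set L : A ⊗[k] A →ₗ[k] k := LinearMap.mul' k k ∘ₗ TensorProduct.map ψ₁ ψ with hL
    have hLt : ∀ a b : A, L (a ⊗ₜ[k] b) = ψ (x ^ (n - 2) * a) * ψ b := by
      intro a b
      simp [hL, hψ₁]
    have h0 : CoalgebraStruct.comul (R := k) (x ^ n) = 0 := by rw [hn, map_zero]
    have h1 : CoalgebraStruct.comul (R := k) (x ^ n) =
        (CoalgebraStruct.comul (R := k) x) ^ n := map_pow (Bialgebra.comulAlgHom k A) x _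
    rw [h1, hx, add_pow] at h0
    have h2 := congrArg L h0
    rw [map_zero, map_sum] at h2
    rw [Finset.sum_eq_single 1] at h2
    · rw [pow_one, Algebra.TensorProduct.tmul_pow, one_pow, Algebra.TensorProduct.tmul_mul_tmul,
        mul_one, one_mul, Nat.choose_one_right, mul_comm, ← nsmul_eq_mul, map_nsmul, hLt,
        ← pow_succ] at h2
      have e : n - 2 + 1 = n - 1 := by omega
      rw [e, hψ, mul_one, nsmul_eq_mul, mul_one] at h2
      have hdvd : p ∣ n := (CharP.cast_eq_zero_iff k p n).1 h2
      have := Nat.le_of_dvd (by omega) hdvd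
      omega
    · intro m hm hm1
      rw [Algebra.TensorProduct.tmul_pow, Algebra.TensorProduct.tmul_pow, one_pow, one_pow,
        Algebra.TensorProduct.tmul_mul_tmul, mul_one, one_mul, mul_comm, ← nsmul_eq_mul,
        map_nsmul, hLt]
      rcases Nat.lt_or_ge m 1 with hlt1 | hge1
      · have hm0 : m = 0 := by omega
        subst hm0
        rw [Nat.sub_zero, hn, map_zero, mul_zero, smul_zero]
      · have hm2 : 2 ≤ m := by omega
        have e : x ^ (n - 2) * x ^ m = 0 := by
          rw [← pow_add]
          exact pow_eq_zero_of_le (by omega) hn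
        rw [e, map_zero, zero_mul, smul_zero]
    · intro h
      exact absurd (Finset.mem_range.2 (by omega)) h
  have hli : LinearIndependent k (fun i : Fin p => x ^ (i : ℕ)) :=
    linearIndependent_pow_of_nilpotent x p hxp hmin
  -- the Hopf ideal generated by `x`
  set I : Ideal A := Ideal.span {x} with hI
  have hmk : Ideal.Quotient.mk I x = 0 := by
    rw [Ideal.Quotient.eq_zero_iff_mem]
    exact Ideal.subset_span rfl
  have hIH : I.IsHopfIdeal k := by
    haveI hco : (I.restrictScalars k).IsCoideal := by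
      constructor
      · intro y hy
        have h1 : I ≤ RingHom.ker (Bialgebra.counitAlgHom k A : A →+* k) := by
          refine Ideal.span_le.2 ?_
          intro z hz
          rw [Set.mem_singleton_iff.1 hz]
          exact counit_eq_zero_of_prim x hx
        exact h1 hy
      · intro y hy
        let Q : A →ₐ[k] TensorProduct k (A ⧸ I) (A ⧸ I) :=
          (Algebra.TensorProduct.map (Ideal.Quotient.mkₐ k I) (Ideal.Quotient.mkₐ k I)).comp
            (Bialgebra.comulAlgHom k A)
        have h1 : I ≤ RingHom.ker (Q : A →+* TensorProduct k (A ⧸ I) (A ⧸ I)) := by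
          refine Ideal.span_le.2 ?_
          intro z hz
          rw [Set.mem_singleton_iff.1 hz]
          show Q x = 0
          simp only [Q, AlgHom.comp_apply, Bialgebra.comulAlgHom_apply, hx, map_add,
            Algebra.TensorProduct.map_tmul, Ideal.Quotient.mkₐ_eq_mk, hmk, map_one,
            TensorProduct.zero_tmul, TensorProduct.tmul_zero, add_zero]
        exact h1 hy
    refine Ideal.IsHopfIdeal.mk ?_
    have h1 : I ≤ I.comap (HopfAlgebra.antipodeAlgHom k A : A →+* A) := by
      refine Ideal.span_le.2 ?_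
      intro z hz
      rw [Set.mem_singleton_iff.1 hz]
      show HopfAlgebra.antipodeAlgHom k A x ∈ I
      rw [HopfAlgebra.antipodeAlgHom_apply, antipode_prim x hx]
      exact I.neg_mem (Ideal.subset_span rfl)
    intro y hy
    exact h1 hy
  have hIne : I ≠ ⊥ := by
    intro h
    have : x ∈ I := Ideal.subset_span rfl
    rw [h, Ideal.mem_bot] at this
    exact hx0 this
  have hIeq : I = RingHom.ker (Bialgebra.counitAlgHom k A) := (hsimple I hIH).resolve_left hIne
  -- spanning
  have hstep : ∀ m : ℕ, m ≤ p → ∀ a : A,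
      ∃ s ∈ Submodule.span k (Set.range (fun i : Fin p => x ^ (i : ℕ))), ∃ b : A,
        a = s + x ^ m * b := by
    intro m
    induction m with
    | zero =>
      intro _ a
      exact ⟨0, Submodule.zero_mem _, a, by rw [pow_zero, one_mul, zero_add]⟩
    | succ m ih =>
      intro hm a
      obtain ⟨s, hs, b, hb⟩ := ih (by omega) a
      have hmem : b - algebraMap k A (CoalgebraStruct.counit (R := k) b) ∈ I := by
        rw [hIeq, RingHom.mem_ker, map_sub]
        have : (Bialgebra.counitAlgHom k A) (algebraMap k A (CoalgebraStruct.counit (R := k) b)) =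
            CoalgebraStruct.counit (R := k) b := by
          rw [AlgHom.commutes]; rfl
        rw [this]
        exact sub_self _
      obtain ⟨c, hc⟩ := Ideal.mem_span_singleton'.1 hmem
      refine ⟨s + CoalgebraStruct.counit (R := k) b • x ^ m, ?_, c, ?_⟩
      · apply Submodule.add_mem _ hs
        apply Submodule.smul_mem
        exact Submodule.subset_span ⟨⟨m, by omega⟩, rfl⟩
      · have hb' : b = algebraMap k A (CoalgebraStruct.counit (R := k) b) + c * x := by
          rw [hc]; ring
        rw [hb]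
        conv_lhs => rw [hb']
        rw [Algebra.smul_def, pow_succ]
        ring
  have hspan' : ⊤ ≤ Submodule.span k (Set.range (fun i : Fin p => x ^ (i : ℕ))) := by
    intro a _
    obtain ⟨s, hs, b, hb⟩ := hstep p le_rfl a
    rw [hb, hxp, zero_mul, add_zero]
    exact hs
  refine ⟨x, hx, hxp, hli, ?_⟩
  have := Module.finrank_eq_card_basis (Module.Basis.mk hli hspan')
  rw [this, Fintype.card_fin]

end Groth.Agent.S15064
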