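import Groth.Statements.S15065
import Groth.Agent.Lib.helper12.FinEtale

set_option autoImplicit false
set_option linter.style.haveILetI false
universe u
open Hopf

namespace Groth.Agent.S15065

open TensorProduct

section aux
variable {k : Type u} [Field k] {A : Type u} [CommRing A] [HopfAlgebra k A]

/-- the ideal of functions vanishing on a subgroup of points -/
def subgroupIdeal (H : Subgroup (WithConv (A →ₐ[k] k))) : Ideal A :=
  ⨅ h : H, RingHom.ker ((h : WithConv (A →ₐ[k] k)).ofConv : A →+* k)

lemma mem_subgroupIdeal (H : Subgroup (WithConv (A →ₐ[k] k))) (a : A) :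
    a ∈ subgroupIdeal H ↔ ∀ h ∈ H, (h : WithConv (A →ₐ[k] k)).ofConv a = 0 := by
  rw [subgroupIdeal, Ideal.mem_iInf]
  constructor
  · intro h g hg
    exact h ⟨g, hg⟩
  · intro h g
    exact h g.1 g.2

/-- the span of the points of a subgroup -/
def subgroupSpan (H : Subgroup (WithConv (A →ₐ[k] k))) : Submodule k (Module.Dual k A) :=
  Submodule.span k ((fun h : WithConv (A →ₐ[k] k) => h.ofConv.toLinearMap) '' (H : Set _))

lemma subgroupIdeal_eq_coann (H : Subgroup (WithConv (A →ₐ[k] k))) :
    (subgroupIdeal H).restrictScalars k = (subgroupSpan H).dualCoannihilator := by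
  ext a
  rw [Submodule.restrictScalars_mem, mem_subgroupIdeal, Submodule.mem_dualCoannihilator]
  constructor
  · intro h φ hφ
    induction hφ using Submodule.span_induction with
    | mem φ hφ =>
      obtain ⟨g, hg, rfl⟩ := hφ
      exact h g hg
    | zero => rfl
    | add x y _ _ hx hy => rw [LinearMap.add_apply, hx, hy, add_zero]
    | smul c x _ hx => rw [LinearMap.smul_apply, hx, smul_zero]
  · intro h g hg
    exact h _ (Submodule.subset_span ⟨g, hg, rfl⟩)

/-- convolution of functionals in the span of a subgroup kills the ideal -/
lemma conv_span_apply (H : Subgroup (WithConv (A →ₐ[k] k))) (a : A) (ha : a ∈ subgroupIdeal H)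
    (ψ φ : Module.Dual k A) (hψ : ψ ∈ subgroupSpan H) (hφ : φ ∈ subgroupSpan H) :
    LinearMap.mul' k k (TensorProduct.map ψ φ (CoalgebraStruct.comul (R := k) a)) = 0 := by
  induction hψ using Submodule.span_induction with
  | mem ψ hψ =>
    obtain ⟨g, hg, rfl⟩ := hψ
    induction hφ using Submodule.span_induction with
    | mem φ hφ =>
      obtain ⟨g', hg', rfl⟩ := hφ
      have h1 := (mem_subgroupIdeal H a).1 ha (g * g') (H.mul_mem hg hg')
      exact h1
    | zero => simp
    | add x y _ _ hx hy =>
      rw [TensorProduct.map_add_right, LinearMap.add_apply, map_add, hx, hy, add_zero]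
    | smul c x _ hx =>
      rw [TensorProduct.map_smul_right, LinearMap.smul_apply, map_smul, hx, smul_zero]
  | zero => simp
  | add x y _ _ hx hy =>
    rw [TensorProduct.map_add_left, LinearMap.add_apply, map_add, hx, hy, add_zero]
  | smul c x _ hx =>
    rw [TensorProduct.map_smul_left, LinearMap.smul_apply, map_smul, hx, smul_zero]

variable [FiniteDimensional k A]

lemma subgroupSpan_eq_ann (H : Subgroup (WithConv (A →ₐ[k] k))) :
    ((subgroupIdeal H).restrictScalars k).dualAnnihilator = subgroupSpan H := by
  rw [subgroupIdeal_eq_coann]
  exact Subspace.dualCoannihilator_dualAnnihilator_eq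

theorem subgroupIdeal_isHopfIdeal (H : Subgroup (WithConv (A →ₐ[k] k))) :
    (subgroupIdeal H).IsHopfIdeal k := by
  haveI hco : ((subgroupIdeal H).restrictScalars k).IsCoideal := by
    constructor
    · intro a ha
      have h1 := (mem_subgroupIdeal H a).1 ha 1 H.one_mem
      exact h1
    · intro a ha
      apply Groth.Agent.H12FE.tensor_eq_zero_of_forall_dual
      intro ψ φ
      rw [← LinearMap.comp_apply (TensorProduct.map ψ φ), ← TensorProduct.map_comp]
      apply conv_span_apply H a ha
      · rw [← subgroupSpan_eq_ann, Submodule.mem_dualAnnihilator]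
        intro w hw
        rw [LinearMap.comp_apply, Submodule.mkQ_apply, (Submodule.Quotient.mk_eq_zero _).2 hw,
          map_zero]
      · rw [← subgroupSpan_eq_ann, Submodule.mem_dualAnnihilator]
        intro w hw
        rw [LinearMap.comp_apply, Submodule.mkQ_apply, (Submodule.Quotient.mk_eq_zero _).2 hw,
          map_zero]
  refine Ideal.IsHopfIdeal.mk ?_
  intro a ha
  rw [mem_subgroupIdeal] at ha ⊢
  intro h hh
  have h1 := ha h⁻¹ (H.inv_mem hh)
  exact h1

end aux


/-- Let k be an algebraically closed field and A a finite-dimensional commutative and cocommutative Hopf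
algebra over k which is reduced (a finite étale commutative k-group G = Spec A), with dim_k A > 1,
and assume G is simple: every Hopf ideal of A is either zero or the augmentation ideal (no closed
subgroup schemes other than G and 1). Then the order dim_k A is a prime number ℓ, so that G is the
constant group ℤ/ℓℤ. (The published statement lists the simple finite commutative groups over an
algebraically closed field of characteristic p > 0; the étale case does not use the characteristic
and is stated here for any algebraically closed field.) -/
theorem result (k : Type u) [Field k] [IsAlgClosed k] (A : Type u) [CommRing A] [HopfAlgebra k A]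
    [Coalgebra.IsCocomm k A] [FiniteDimensional k A] [IsReduced A] (hA : 1 < Module.finrank k A)
    (hsimple : ∀ I : Ideal A, I.IsHopfIdeal k → I = ⊥ ∨ I = RingHom.ker (Bialgebra.counitAlgHom k A)) :
    (Module.finrank k A).Prime := by
  classical
  haveI hfinG : Finite (WithConv (A →ₐ[k] k)) := by
    haveI : Finite (A →ₐ[k] k) := Finite.algHom k A k
    exact Finite.of_equiv _ (WithConv.equiv (A →ₐ[k] k)).symm
  have hcard : Nat.card (WithConv (A →ₐ[k] k)) = Module.finrank k A := by
    rw [Nat.card_congr (WithConv.equiv (A →ₐ[k] k))]
    exact Groth.Agent.H12FE.card_points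
  have hnt : Nontrivial (WithConv (A →ₐ[k] k)) := by
    rw [← Finite.one_lt_card_iff_nontrivial, hcard]
    exact hA
  have hli := linearIndependent_algHom_toLinearMap k A k
  haveI : IsSimpleGroup (WithConv (A →ₐ[k] k)) := by
    refine ⟨?_⟩
    intro H _
    rcases hsimple _ (subgroupIdeal_isHopfIdeal H) with h | h
    · -- `H = ⊤`
      right
      rw [eq_top_iff]
      intro g _
      have h1 : g.ofConv.toLinearMap ∈ subgroupSpan H := by
        rw [← subgroupSpan_eq_ann, h]
        have : ((⊥ : Ideal A).restrictScalars k) = (⊥ : Submodule k A) := by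
          ext a; simp
        rw [this, Submodule.dualAnnihilator_bot]
        trivial
      by_contra hg
      have h2 := hli.notMem_span_image (s := WithConv.ofConv '' (H : Set _)) (x := g.ofConv) (by
        rintro ⟨g', hg', hgg'⟩
        have : g' = g := WithConv.ofConv_injective hgg'
        rw [this] at hg'
        exact hg hg')
      apply h2
      have e : AlgHom.toLinearMap '' (WithConv.ofConv '' (H : Set (WithConv (A →ₐ[k] k)))) =
          (fun h : WithConv (A →ₐ[k] k) => h.ofConv.toLinearMap) '' (H : Set _) := by
        rw [Set.image_image]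
      rw [e]
      exact h1
    · -- `H = ⊥`
      left
      rw [eq_bot_iff]
      intro g hg
      rw [Subgroup.mem_bot]
      have h1 : RingHom.ker (Bialgebra.counitAlgHom k A : A →+* k) ≤
          RingHom.ker (g.ofConv : A →+* k) := by
        intro a ha
        have ha' : a ∈ subgroupIdeal H := by rw [h]; exact ha
        rw [RingHom.mem_ker]
        exact (mem_subgroupIdeal H a).1 ha' g hg
      have h2 := Groth.Agent.H12FE.point_eq_of_ker_le (Bialgebra.counitAlgHom k A) g.ofConv h1
      apply WithConv.ofConv_injective
      rw [← h2]
      ext a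
      rfl
  have := IsSimpleGroup.prime_card (α := WithConv (A →ₐ[k] k))
  rw [hcard] at this
  exact this

end Groth.Agent.S15065
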