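import Groth.Statements.S15068
import Mathlib


set_option autoImplicit false
universe u
open scoped TensorProduct
open Hopf

universe v w
namespace H14S15068

open IsLocalRing TensorProduct

section gen

variable {R : Type u} {C : Type v} [CommRing R] [CommRing C] [Algebra R C]

theorem residue_surj_of_retraction [Nontrivial R] [IsLocalRing C] (ε₀ : C →ₐ[R] R) :
    Function.Surjective (⇑(residue C) ∘ ⇑(algebraMap R C)) := by
  intro y
  obtain ⟨c, rfl⟩ := residue_surjective y
  refine ⟨ε₀ c, ?_⟩
  show residue _ (algebraMap R _ (ε₀ c)) = residue _ c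
  rw [← sub_eq_zero, ← map_sub, residue_eq_zero_iff]
  have hker : RingHom.ker ε₀.toRingHom ≠ ⊤ := RingHom.ker_ne_top _
  apply IsLocalRing.le_maximalIdeal hker
  rw [RingHom.mem_ker]
  change ε₀ (algebraMap R C (ε₀ c) - c) = 0
  rw [map_sub, AlgHom.commutes, Algebra.algebraMap_self_apply, sub_self]

theorem isLocalHom_of_integral [IsLocalRing R] [IsLocalRing C] [Algebra.IsIntegral R C] :
    IsLocalHom (algebraMap R C) := by
  have hcomap : (maximalIdeal C).comap (algebraMap R C) = maximalIdeal R :=
    IsLocalRing.eq_maximalIdeal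
      (Ideal.isMaximal_comap_of_isIntegral_of_isMaximal (maximalIdeal C))
  exact ((IsLocalRing.local_hom_TFAE (algebraMap R C)).out 0 4).mpr hcomap

theorem algebraMap_surj_of_unramified [IsLocalRing R] [IsLocalRing C] [Module.Finite R C]
    [Algebra.FormallyUnramified R C]
    (hres : Function.Surjective (⇑(residue C) ∘ ⇑(algebraMap R C))) :
    Function.Surjective (algebraMap R C) := by
  haveI : IsLocalHom (algebraMap R C) := isLocalHom_of_integral
  have hmap := Algebra.FormallyUnramified.map_maximalIdeal (R := R) (S := C)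
  have hle : (⊤ : Submodule R C) ≤ LinearMap.range (Algebra.linearMap R C) := by
    apply Submodule.le_of_le_smul_of_le_jacobson_bot (I := maximalIdeal R) Module.Finite.fg_top
    · rw [IsLocalRing.jacobson_eq_maximalIdeal ⊥ bot_ne_top]
    · intro c _
      obtain ⟨r, hr⟩ := hres (residue C c)
      have h1 : c - algebraMap R C r ∈ maximalIdeal C := by
        rw [← residue_eq_zero_iff, map_sub, sub_eq_zero]
        exact hr.symm
      rw [← hmap] at h1
      have h2 : c - algebraMap R C r ∈ maximalIdeal R • (⊤ : Submodule R C) := by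
        rw [Ideal.smul_top_eq_map]
        exact h1
      have h3 : c = algebraMap R C r + (c - algebraMap R C r) := by ring
      rw [h3]
      exact Submodule.add_mem_sup ⟨r, rfl⟩ h2
  intro c
  obtain ⟨r, hr⟩ := hle (Submodule.mem_top (x := c))
  exact ⟨r, hr⟩

end gen

section main

variable {R : Type u} [CommRing R] {A A'' : Type u} [CommRing A] [HopfAlgebra R A]
  [CommRing A''] [HopfAlgebra R A''] [Algebra A'' A] [IsScalarTower R A'' A]

theorem counit_J
    (hε : (Bialgebra.counitAlgHom R A).comp (IsScalarTower.toAlgHom R A'' A) =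
      Bialgebra.counitAlgHom R A'') :
    (RingHom.ker (Bialgebra.counitAlgHom R A'')).map (algebraMap A'' A) ≤
      RingHom.ker (Bialgebra.counitAlgHom R A) := by
  rw [Ideal.map_le_iff_le_comap]
  intro c hc
  rw [RingHom.mem_ker] at hc
  rw [Ideal.mem_comap, RingHom.mem_ker]
  have h := DFunLike.congr_fun hε c
  simp only [AlgHom.coe_comp, Function.comp_apply, IsScalarTower.coe_toAlgHom'] at h
  rw [h, hc]

theorem counit_K (e : A) (heε : Bialgebra.counitAlgHom R A e = 1) :
    Ideal.span ({1 - e} : Set A) ≤ RingHom.ker (Bialgebra.counitAlgHom R A) := by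
  rw [Ideal.span_le, Set.singleton_subset_iff]
  show (1 - e) ∈ RingHom.ker (Bialgebra.counitAlgHom R A)
  rw [RingHom.mem_ker, map_sub, map_one, heε, sub_self]

/-- the counit on `A/(J + (1-e))` -/
noncomputable def eps0
    (hε : (Bialgebra.counitAlgHom R A).comp (IsScalarTower.toAlgHom R A'' A) =
      Bialgebra.counitAlgHom R A'') (e : A) (heε : Bialgebra.counitAlgHom R A e = 1) :
    (A ⧸ ((RingHom.ker (Bialgebra.counitAlgHom R A'')).map (algebraMap A'' A) ⊔
      Ideal.span ({1 - e} : Set A))) →ₐ[R] R :=
  Ideal.Quotient.liftₐ _ (Bialgebra.counitAlgHom R A)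
    (fun _ ha => (RingHom.mem_ker).mp ((sup_le (counit_J hε) (counit_K e heε)) ha))

theorem surj0 [IsLocalRing R] [Module.Finite R A]
    (hε : (Bialgebra.counitAlgHom R A).comp (IsScalarTower.toAlgHom R A'' A) =
      Bialgebra.counitAlgHom R A'')
    [Algebra.FormallyUnramified R
      (A ⧸ (RingHom.ker (Bialgebra.counitAlgHom R A'')).map (algebraMap A'' A))]
    (e : A) (heε : Bialgebra.counitAlgHom R A e = 1)
    [IsLocalRing (A ⧸ Ideal.span ({1 - e} : Set A))] :
    Function.Surjective (algebraMap R
      (A ⧸ ((RingHom.ker (Bialgebra.counitAlgHom R A'')).map (algebraMap A'' A) ⊔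
      Ideal.span ({1 - e} : Set A)))) := by
  haveI : Nontrivial (A ⧸ ((RingHom.ker (Bialgebra.counitAlgHom R A'')).map (algebraMap A'' A) ⊔
      Ideal.span ({1 - e} : Set A))) := (eps0 hε e heε).toRingHom.domain_nontrivial
  haveI : IsLocalRing (A ⧸ ((RingHom.ker (Bialgebra.counitAlgHom R A'')).map (algebraMap A'' A) ⊔
      Ideal.span ({1 - e} : Set A))) :=
    IsLocalRing.of_surjective' (Ideal.Quotient.factor (le_sup_right :
      Ideal.span ({1 - e} : Set A) ≤ _)) (Ideal.Quotient.factor_surjective _)
  haveI : Algebra.FormallyUnramified R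
      (A ⧸ ((RingHom.ker (Bialgebra.counitAlgHom R A'')).map (algebraMap A'' A) ⊔
      Ideal.span ({1 - e} : Set A))) :=
    Algebra.FormallyUnramified.of_surjective (Ideal.Quotient.factorₐ R (le_sup_left :
      (RingHom.ker (Bialgebra.counitAlgHom R A'')).map (algebraMap A'' A) ≤ _))
      (Ideal.Quotient.factor_surjective (le_sup_left :
      (RingHom.ker (Bialgebra.counitAlgHom R A'')).map (algebraMap A'' A) ≤
        (RingHom.ker (Bialgebra.counitAlgHom R A'')).map (algebraMap A'' A) ⊔
      Ideal.span ({1 - e} : Set A)))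
  exact algebraMap_surj_of_unramified (residue_surj_of_retraction (eps0 hε e heε))

theorem main [IsLocalRing R] [Module.Finite R A] [Module.Flat A'' A] [IsLocalRing A'']
    (hε : (Bialgebra.counitAlgHom R A).comp (IsScalarTower.toAlgHom R A'' A) =
      Bialgebra.counitAlgHom R A'')
    [Algebra.FormallyUnramified R
      (A ⧸ (RingHom.ker (Bialgebra.counitAlgHom R A'')).map (algebraMap A'' A))]
    (e : A) (he : IsIdempotentElem e) (heε : Bialgebra.counitAlgHom R A e = 1)
    [IsLocalRing (A ⧸ Ideal.span ({1 - e} : Set A))] :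
    Function.Bijective ((Ideal.Quotient.mkₐ R (Ideal.span ({1 - e} : Set A))).comp
      (IsScalarTower.toAlgHom R A'' A)) := by
  have hcoe : ⇑((Ideal.Quotient.mkₐ R (Ideal.span ({1 - e} : Set A))).comp
      (IsScalarTower.toAlgHom R A'' A)) =
      ⇑(algebraMap A'' (A ⧸ Ideal.span ({1 - e} : Set A))) := by
    ext c
    rfl
  rw [hcoe]
  haveI : IsScalarTower R A'' (A ⧸ Ideal.span ({1 - e} : Set A)) := by
    apply IsScalarTower.of_algebraMap_eq
    intro r
    change Ideal.Quotient.mk _ (algebraMap R A r) =
      Ideal.Quotient.mk _ (algebraMap A'' A (algebraMap R A'' r))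
    rw [← IsScalarTower.algebraMap_apply R A'' A]
  haveI : Module.Finite A'' (A ⧸ Ideal.span ({1 - e} : Set A)) :=
    Module.Finite.of_restrictScalars_finite R A'' _
  haveI : Algebra.IsIntegral A'' (A ⧸ Ideal.span ({1 - e} : Set A)) := inferInstance
  haveI : IsLocalHom (algebraMap A'' (A ⧸ Ideal.span ({1 - e} : Set A))) :=
    isLocalHom_of_integral
  haveI : IsLocalization.Away e (A ⧸ Ideal.span ({1 - e} : Set A)) :=
    IsLocalization.Away.quotient_of_isIdempotentElem he
  haveI : Module.Flat A (A ⧸ Ideal.span ({1 - e} : Set A)) :=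
    IsLocalization.flat _ (Submonoid.powers e)
  haveI : Module.Flat A'' (A ⧸ Ideal.span ({1 - e} : Set A)) := Module.Flat.trans A'' A _
  haveI : Module.FaithfullyFlat A'' (A ⧸ Ideal.span ({1 - e} : Set A)) :=
    Module.FaithfullyFlat.of_flat_of_isLocalHom
  refine ⟨FaithfulSMul.algebraMap_injective A'' _, ?_⟩
  have hsurj := surj0 hε e heε
  have hle : (⊤ : Submodule A'' (A ⧸ Ideal.span ({1 - e} : Set A))) ≤
      LinearMap.range (Algebra.linearMap A'' (A ⧸ Ideal.span ({1 - e} : Set A))) := by
    apply Submodule.le_of_le_smul_of_le_jacobson_bot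
      (I := RingHom.ker (Bialgebra.counitAlgHom R A'')) Module.Finite.fg_top
    · rw [IsLocalRing.jacobson_eq_maximalIdeal ⊥ bot_ne_top]
      exact IsLocalRing.le_maximalIdeal (RingHom.ker_ne_top _)
    · intro b _
      obtain ⟨a, rfl⟩ := Ideal.Quotient.mk_surjective b
      obtain ⟨r, hr⟩ := hsurj (Ideal.Quotient.mk _ a)
      have h1 : a - algebraMap R A r ∈
          (RingHom.ker (Bialgebra.counitAlgHom R A'')).map (algebraMap A'' A) ⊔
            Ideal.span ({1 - e} : Set A) := by
        rw [← Ideal.Quotient.eq]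
        exact hr.symm
      obtain ⟨j, hj, k, hk, hjk⟩ := Submodule.mem_sup.mp h1
      have h2 : Ideal.Quotient.mk (Ideal.span ({1 - e} : Set A)) a =
          algebraMap A'' (A ⧸ Ideal.span ({1 - e} : Set A)) (algebraMap R A'' r) +
            Ideal.Quotient.mk (Ideal.span ({1 - e} : Set A)) j := by
        have h3 : a = algebraMap R A r + j + k := by
          rw [add_assoc, hjk]
          ring
        have h4 : Ideal.Quotient.mk (Ideal.span ({1 - e} : Set A)) k = 0 :=
          Ideal.Quotient.eq_zero_iff_mem.mpr hk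
        rw [h3, map_add, map_add, h4, add_zero, IsScalarTower.algebraMap_apply R A'' A]
        rfl
      rw [h2]
      have h6 : algebraMap A'' (A ⧸ Ideal.span ({1 - e} : Set A)) (algebraMap R A'' r) ∈
          LinearMap.range (Algebra.linearMap A'' (A ⧸ Ideal.span ({1 - e} : Set A))) :=
        ⟨algebraMap R A'' r, rfl⟩
      apply Submodule.add_mem_sup h6
      rw [Ideal.smul_top_eq_map]
      have h5 : (RingHom.ker (Bialgebra.counitAlgHom R A'')).map
          (algebraMap A'' (A ⧸ Ideal.span ({1 - e} : Set A))) =
          ((RingHom.ker (Bialgebra.counitAlgHom R A'')).map (algebraMap A'' A)).map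
            (Ideal.Quotient.mk (Ideal.span ({1 - e} : Set A))) := by
        rw [Ideal.map_map]
        rfl
      show Ideal.Quotient.mk (Ideal.span ({1 - e} : Set A)) j ∈
        (RingHom.ker (Bialgebra.counitAlgHom R A'')).map
          (algebraMap A'' (A ⧸ Ideal.span ({1 - e} : Set A)))
      rw [h5]
      exact Ideal.mem_map_of_mem _ hj
  intro b
  obtain ⟨c, hc⟩ := hle (Submodule.mem_top (x := b))
  exact ⟨c, hc⟩

end main

end H14S15068

namespace Groth.Agent.S15068

/-- Let R be a henselian Noetherian local ring, A and A'' commutative Hopf algebras over R which are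
finite and flat as R-modules, and A'' → A an R-algebra homomorphism compatible with
comultiplications and counits making A faithfully flat over A'' (a faithfully flat homomorphism π :
G → G'' of finite flat R-groups); let J ⊆ A be the ideal generated by the image of the augmentation
ideal of A'' (G' = Spec A/J = ker π, so 1 → G' → G → G'' → 1 is exact). Assume A'' is a local ring
(G'' connected) and A/J is étale over R (G' finite étale), and let e ∈ A be an idempotent with ε(e)
= 1 such that A/(1 − e) is local (G⁰ = Spec A/(1 − e), the unit component of G). Then the composite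
A'' → A → A/(1 − e) is bijective: the restriction G⁰ → G'' of π is an isomorphism, whose inverse
splits the extension, G ≅ G' × G''. -/
theorem result (R : Type u) [CommRing R] [HenselianLocalRing R]
    [IsNoetherianRing R] (A A'' : Type u) [CommRing A] [HopfAlgebra R A] [Module.Finite R A] [Module.Flat R A]
    [CommRing A''] [HopfAlgebra R A''] [Module.Finite R A''] [Module.Flat R A'']
    [Algebra A'' A] [IsScalarTower R A'' A] [Module.FaithfullyFlat A'' A]
    (hΔ : (Bialgebra.comulAlgHom R A).comp (IsScalarTower.toAlgHom R A'' A) =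
      (Algebra.TensorProduct.map (IsScalarTower.toAlgHom R A'' A) (IsScalarTower.toAlgHom R A'' A)).comp
        (Bialgebra.comulAlgHom R A''))
    (hε : (Bialgebra.counitAlgHom R A).comp (IsScalarTower.toAlgHom R A'' A) = Bialgebra.counitAlgHom R A'')
    [IsLocalRing A''] [Algebra.Etale R (A ⧸ (RingHom.ker (Bialgebra.counitAlgHom R A'')).map (algebraMap A'' A))]
    (e : A) (he : IsIdempotentElem e) (heε : Bialgebra.counitAlgHom R A e = 1)
    [IsLocalRing (A ⧸ Ideal.span ({1 - e} : Set A))] :
    Function.Bijective ((Ideal.Quotient.mkₐ R (Ideal.span ({1 - e} : Set A))).comp (IsScalarTower.toAlgHom R A'' A)) := by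
  exact H14S15068.main hε e he heε

end Groth.Agent.S15068
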