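import Groth.Statements.S15078
import Mathlib

set_option autoImplicit false
universe u v
open MovLem

namespace Groth.Agent.S15078

section Helpers

open Polynomial

section Gen
variable {R : Type*} [CommRing R]

/-- degree bound and top coefficient for a finite product -/
lemma prod_natDegree_coeff {ι : Type*} (s : Finset ι) (P : ι → R[X]) (n : ι → ℕ)
    (h : ∀ i ∈ s, (P i).natDegree ≤ n i) :
    (∏ i ∈ s, P i).natDegree ≤ ∑ i ∈ s, n i ∧
      (∏ i ∈ s, P i).coeff (∑ i ∈ s, n i) = ∏ i ∈ s, (P i).coeff (n i) := by
  classical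
  induction s using Finset.induction_on with
  | empty => simp
  | insert a s ha ih =>
    have h1 := h a (Finset.mem_insert_self a s)
    obtain ⟨ih1, ih2⟩ := ih (fun i hi => h i (Finset.mem_insert_of_mem hi))
    rw [Finset.prod_insert ha, Finset.sum_insert ha, Finset.prod_insert ha]
    refine ⟨natDegree_mul_le_of_le h1 ih1, ?_⟩
    rw [coeff_mul_add_eq_of_natDegree_le h1 ih1, ih2]

end Gen

section Main
variable {k : Type u} [Field k] {r : ℕ} {K : Type v} [Field K] [Algebra k K]
  (g : Fin r → K) (N : ℕ)

/-- the substitution homomorphism -/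
noncomputable def Φ : MvPolynomial (Fin r) k →ₐ[k] Polynomial (MvPolynomial (Fin r) K) :=
  MvPolynomial.aeval (fun i : Fin r => Polynomial.C (MvPolynomial.X i) +
    Polynomial.C (MvPolynomial.C (g i)) * Polynomial.X ^ N)

lemma lin_natDegree (i : Fin r) :
    (Polynomial.C (MvPolynomial.X i) + Polynomial.C (MvPolynomial.C (g i)) * Polynomial.X ^ N :
      Polynomial (MvPolynomial (Fin r) K)).natDegree ≤ N := by
  refine (natDegree_add_le _ _).trans (max_le ?_ ?_)
  · rw [natDegree_C]; exact Nat.zero_le _
  · exact natDegree_C_mul_X_pow_le _ _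

lemma lin_coeff (hN : 0 < N) (i : Fin r) :
    (Polynomial.C (MvPolynomial.X i) + Polynomial.C (MvPolynomial.C (g i)) * Polynomial.X ^ N :
      Polynomial (MvPolynomial (Fin r) K)).coeff N = MvPolynomial.C (g i) := by
  rw [coeff_add, coeff_C, if_neg hN.ne', zero_add, coeff_C_mul, coeff_X_pow, if_pos rfl, mul_one]

lemma Φ_monomial (α : Fin r →₀ ℕ) (c : k) :
    Φ g N (MvPolynomial.monomial α c) =
      Polynomial.C (MvPolynomial.C (algebraMap k K c)) *
        ∏ i : Fin r, (Polynomial.C (MvPolynomial.X i) +
          Polynomial.C (MvPolynomial.C (g i)) * Polynomial.X ^ N) ^ (α i) := by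
  rw [Φ, MvPolynomial.aeval_monomial, Finsupp.prod_fintype _ _ (fun i => pow_zero _)]
  congr 1

lemma Φ_monomial_natDegree (α : Fin r →₀ ℕ) (c : k) :
    (Φ g N (MvPolynomial.monomial α c)).natDegree ≤ N * α.degree := by
  rw [Φ_monomial]
  refine (natDegree_C_mul_le _ _).trans ?_
  have := (prod_natDegree_coeff Finset.univ
    (fun i : Fin r => (Polynomial.C (MvPolynomial.X i) +
          Polynomial.C (MvPolynomial.C (g i)) * Polynomial.X ^ N :
            Polynomial (MvPolynomial (Fin r) K)) ^ (α i)) (fun i => α i * N)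
    (fun i _ => natDegree_pow_le_of_le (α i) (lin_natDegree g N i))).1
  refine this.trans (le_of_eq ?_)
  rw [Finsupp.degree_eq_sum, Finset.mul_sum]
  exact Finset.sum_congr rfl fun i _ => mul_comm _ _

lemma Φ_monomial_coeff (hN : 0 < N) (α : Fin r →₀ ℕ) (c : k) :
    (Φ g N (MvPolynomial.monomial α c)).coeff (N * α.degree) =
      MvPolynomial.C (MvPolynomial.aeval g (MvPolynomial.monomial α c)) := by
  rw [Φ_monomial, coeff_C_mul]
  have := (prod_natDegree_coeff Finset.univ
    (fun i : Fin r => (Polynomial.C (MvPolynomial.X i) +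
          Polynomial.C (MvPolynomial.C (g i)) * Polynomial.X ^ N :
            Polynomial (MvPolynomial (Fin r) K)) ^ (α i)) (fun i => α i * N)
    (fun i _ => natDegree_pow_le_of_le (α i) (lin_natDegree g N i))).2
  have e : N * α.degree = ∑ i : Fin r, α i * N := by
    rw [Finsupp.degree_eq_sum, Finset.mul_sum]
    exact Finset.sum_congr rfl fun i _ => mul_comm _ _
  rw [e, this, MvPolynomial.aeval_monomial, Finsupp.prod_fintype _ _ (fun i => pow_zero _)]
  simp only [coeff_pow_of_natDegree_le (lin_natDegree g N _), lin_coeff g N hN]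
  rw [map_mul, map_prod]
  simp only [map_pow]

/-- Key lemma. -/
lemma Φ_coeff (hN : 0 < N) (p : MvPolynomial (Fin r) k) (D : ℕ) (hD : p.totalDegree ≤ D) :
    (Φ g N p).natDegree ≤ N * D ∧
      (Φ g N p).coeff (N * D) = MvPolynomial.C (MvPolynomial.aeval g (MvPolynomial.homogeneousComponent D p)) := by
  classical
  have hp : p = ∑ α ∈ p.support, MvPolynomial.monomial α (p.coeff α) := (MvPolynomial.support_sum_monomial_coeff p).symm
  have hdeg : ∀ α ∈ p.support, α.degree ≤ D := by
    intro α hα
    exact (MvPolynomial.le_totalDegree hα).trans hD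
  have hΦ : Φ g N p = ∑ α ∈ p.support, Φ g N (MvPolynomial.monomial α (p.coeff α)) := by
    conv_lhs => rw [hp]
    rw [map_sum]
  constructor
  · rw [hΦ]
    apply natDegree_sum_le_of_forall_le
    intro α hα
    exact (Φ_monomial_natDegree g N α _).trans (Nat.mul_le_mul_left N (hdeg α hα))
  · rw [hΦ, finset_sum_coeff, MvPolynomial.homogeneousComponent_apply, map_sum, map_sum,
      Finset.sum_filter]
    refine Finset.sum_congr rfl fun α hα => ?_
    split_ifs with h
    · rw [← h]
      exact Φ_monomial_coeff g N hN α _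
    · apply coeff_eq_zero_of_natDegree_lt
      refine lt_of_le_of_lt (Φ_monomial_natDegree g N α _) ?_
      have : α.degree < D := lt_of_le_of_ne (hdeg α hα) h
      exact Nat.mul_lt_mul_of_pos_left this hN

end Main

lemma homogeneousComponent_totalDegree_ne_zero {k : Type u} [Field k] {r : ℕ}
    (p : MvPolynomial (Fin r) k) (hp : p ≠ 0) :
    MvPolynomial.homogeneousComponent p.totalDegree p ≠ 0 := by
  have hne : p.support.Nonempty := by
    rw [Finset.nonempty_iff_ne_empty, Ne, MvPolynomial.support_eq_empty]; exact hp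
  obtain ⟨α, hα, hsup⟩ := Finset.exists_mem_eq_sup p.support hne (fun s => s.sum fun _ e => e)
  have hdeg : α.degree = p.totalDegree := by
    rw [MvPolynomial.totalDegree, hsup]; rfl
  intro h0
  have := MvPolynomial.coeff_homogeneousComponent p.totalDegree p α
  rw [h0, if_pos hdeg, MvPolynomial.coeff_zero] at this
  exact (MvPolynomial.mem_support_iff.1 hα) this.symm

theorem main {k : Type u} [Field k] (r m : ℕ)
    (f : Polynomial (MvPolynomial (Fin r) k)) (hf : f ≠ 0) :
    ∃ h : MvPolynomial (Fin r) k, h ≠ 0 ∧ ∃ s₀ : ℕ, ∀ s : ℕ, s₀ ≤ s →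
      ∀ (K : Type v) [Field K] [Algebra k K] (g : Fin r → K), MvPolynomial.aeval g h ≠ 0 →
        ∃ c : K, c ≠ 0 ∧
          (Polynomial.eval₂ (MvPolynomial.aeval (fun i : Fin r => Polynomial.C (MvPolynomial.X i) + Polynomial.C (MvPolynomial.C (g i)) * Polynomial.X ^ (s * (m + 1))) : MvPolynomial (Fin r) k →ₐ[k] Polynomial (MvPolynomial (Fin r) K)).toRingHom Polynomial.X f).leadingCoeff = MvPolynomial.C c := by
  classical
  have hsupp : f.support.Nonempty := by
    rw [Finset.nonempty_iff_ne_empty, Ne, Polynomial.support_eq_empty]; exact hf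
  let td : ℕ → ℕ := fun j => (f.coeff j).totalDegree
  obtain ⟨j₀, hj₀, hsup⟩ := Finset.exists_mem_eq_sup f.support hsupp td
  set d := f.support.sup td with hd
  have hS : (f.support.filter (fun j => td j = d)).Nonempty := ⟨j₀, by
    rw [Finset.mem_filter]; exact ⟨hj₀, hsup.symm⟩⟩
  set js := (f.support.filter (fun j => td j = d)).max' hS with hjs
  have hjs_mem := Finset.max'_mem _ hS
  rw [← hjs, Finset.mem_filter] at hjs_mem
  obtain ⟨hjs_supp, hjs_td⟩ := hjs_mem
  have hjs_ne : f.coeff js ≠ 0 := Polynomial.mem_support_iff.1 hjs_supp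
  refine ⟨MvPolynomial.homogeneousComponent d (f.coeff js), ?_, f.natDegree + 1, ?_⟩
  · rw [← hjs_td]
    exact homogeneousComponent_totalDegree_ne_zero _ hjs_ne
  intro s hs K _ _ g hg
  set N := s * (m + 1) with hNdef
  have hNs : s ≤ N := by
    rw [hNdef]; exact Nat.le_mul_of_pos_right s (Nat.succ_pos m)
  have hN : 0 < N := by omega
  have hjN : ∀ j ∈ f.support, j < N := by
    intro j hj
    have := Polynomial.le_natDegree_of_mem_supp j hj
    omega
  refine ⟨MvPolynomial.aeval g (MvPolynomial.homogeneousComponent d (f.coeff js)), hg, ?_⟩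
  have hG : Polynomial.eval₂ (Φ g N).toRingHom Polynomial.X f =
      ∑ j ∈ f.support, Φ g N (f.coeff j) * Polynomial.X ^ j := by
    rw [Polynomial.eval₂_eq_sum, Polynomial.sum_def]
    rfl
  change (Polynomial.eval₂ (Φ g N).toRingHom Polynomial.X f).leadingCoeff = _
  have htd_le : ∀ j ∈ f.support, td j ≤ d := fun j hj => Finset.le_sup (f := td) hj
  -- degree bounds for each term
  have hterm : ∀ j ∈ f.support, j ≠ js →
      (Φ g N (f.coeff j)).natDegree + j < N * d + js := by
    intro j hj hne
    have h1 := (Φ_coeff g N hN (f.coeff j) (td j) le_rfl).1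
    rcases lt_or_eq_of_le (htd_le j hj) with hlt | heq
    · have h2 : N * td j + N ≤ N * d := by
        calc N * td j + N = N * (td j + 1) := by ring
          _ ≤ N * d := Nat.mul_le_mul_left N hlt
      have := hjN j hj
      omega
    · have hjle : j ≤ js := Finset.le_max' _ j (by
        rw [Finset.mem_filter]; exact ⟨hj, heq⟩)
      have hjlt : j < js := lt_of_le_of_ne hjle hne
      rw [heq] at h1
      omega
  have hdeg : (Polynomial.eval₂ (Φ g N).toRingHom Polynomial.X f).natDegree ≤ N * d + js := by
    rw [hG]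
    apply natDegree_sum_le_of_forall_le
    intro j hj
    refine (natDegree_mul_le).trans ?_
    rw [natDegree_X_pow]
    by_cases hne : j = js
    · rw [hne]
      have h1 := (Φ_coeff g N hN (f.coeff js) d (le_of_eq hjs_td)).1
      omega
    · exact (hterm j hj hne).le
  have hcoeff : (Polynomial.eval₂ (Φ g N).toRingHom Polynomial.X f).coeff (N * d + js) =
      MvPolynomial.C (MvPolynomial.aeval g (MvPolynomial.homogeneousComponent d (f.coeff js))) := by
    rw [hG, finset_sum_coeff, Finset.sum_eq_single js]
    · rw [coeff_mul_X_pow]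
      exact (Φ_coeff g N hN (f.coeff js) d (le_of_eq hjs_td)).2
    · intro j hj hne
      rw [coeff_mul_X_pow']
      split_ifs with hle
      · apply coeff_eq_zero_of_natDegree_lt
        have := hterm j hj hne
        omega
      · rfl
    · intro h; exact absurd hjs_supp h
  have hCne : (MvPolynomial.C (MvPolynomial.aeval g (MvPolynomial.homogeneousComponent d (f.coeff js))) :
      MvPolynomial (Fin r) K) ≠ 0 := by
    rw [Ne, MvPolynomial.C_eq_zero]; exact hg
  have hnat := natDegree_eq_of_le_of_coeff_ne_zero hdeg (by rw [hcoeff]; exact hCne)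
  rw [Polynomial.leadingCoeff, hnat, hcoeff]

end Helpers

/-- Let k be an infinite perfect field, r, m ≥ 1, and let f be a nonzero polynomial in the variable t
with coefficients in the polynomial ring k[x_1, …, x_r]. Then there are a nonzero polynomial h in
k[x_1, …, x_r] and an integer s₀ such that for every s ≥ s₀, every field K over k and every point g
of K^r with h(g) ≠ 0, the polynomial obtained from f by the substitution x_i ↦ x_i + t^{s(m+1)} g_i,
t ↦ t has as leading coefficient in t a nonzero constant of K; in particular, after dividing by that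
constant it is monic in t over K[x_1, …, x_r]. (The published statement asks for a nonempty open
subset of affine r-space over k, independent of s, such that this holds at each of its points g with
residue field K = k(g); the locus h ≠ 0 used here is such an open subset, and every nonempty open
subset contains one of this form.) -/
theorem result
    {k : Type u} [Field k] [Infinite k] [PerfectField k] (r m : ℕ) (hr : 1 ≤ r) (hm : 1 ≤ m)
    (f : Polynomial (MvPolynomial (Fin r) k)) (hf : f ≠ 0) :
    ∃ h : MvPolynomial (Fin r) k, h ≠ 0 ∧ ∃ s₀ : ℕ, ∀ s : ℕ, s₀ ≤ s →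
      ∀ (K : Type v) [Field K] [Algebra k K] (g : Fin r → K), MvPolynomial.aeval g h ≠ 0 →
        ∃ c : K, c ≠ 0 ∧
          (Polynomial.eval₂ (MvPolynomial.aeval (fun i : Fin r => Polynomial.C (MvPolynomial.X i) + Polynomial.C (MvPolynomial.C (g i)) * Polynomial.X ^ (s * (m + 1))) : MvPolynomial (Fin r) k →ₐ[k] Polynomial (MvPolynomial (Fin r) K)).toRingHom Polynomial.X f).leadingCoeff = MvPolynomial.C c := by
  exact main r m f hf

end Groth.Agent.S15078
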