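import Groth.Statements.S15079
import Mathlib
import Groth.Agent.Lib.helper22.TwistedTranslate

set_option autoImplicit false
universe u v
open MovLem

namespace Groth.Agent.S15079

section Helpers

open Polynomial

section
variable {R : Type*} [CommRing R] [IsDomain R]

/-- quotient by a polynomial with unit leading coefficient is finite -/
lemma finite_quot (F : R[X]) (hu : IsUnit F.leadingCoeff) :
    Module.Finite R (R[X] ⧸ Ideal.span {F}) := by
  obtain ⟨u, hu⟩ := hu
  set F' := C (↑u⁻¹ : R) * F with hF'
  have hmonic : F'.Monic := by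
    rw [Monic, hF', leadingCoeff_mul, leadingCoeff_C, ← hu, Units.inv_mul]
  have hspan : Ideal.span {F} = Ideal.span {F'} := by
    apply le_antisymm
    · rw [Ideal.span_singleton_le_iff_mem, Ideal.mem_span_singleton]
      refine ⟨C (↑u : R), ?_⟩
      rw [hF', mul_comm, ← mul_assoc, ← C_mul, Units.mul_inv, C_1, one_mul]
    · rw [Ideal.span_singleton_le_iff_mem, Ideal.mem_span_singleton]
      exact ⟨C (↑u⁻¹ : R), by rw [hF', mul_comm]⟩
  rw [hspan]
  exact hmonic.finite_adjoinRoot

lemma injective_quot (F : R[X]) (hu : IsUnit F.leadingCoeff) (hdeg : 1 ≤ F.natDegree) :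
    Function.Injective ((Ideal.Quotient.mk (Ideal.span {F})).comp (algebraMap R R[X])) := by
  rw [injective_iff_map_eq_zero]
  intro a ha
  rw [RingHom.comp_apply, Ideal.Quotient.eq_zero_iff_mem, Ideal.mem_span_singleton] at ha
  obtain ⟨q, hq⟩ := ha
  have hC : algebraMap R R[X] a = C a := rfl
  rw [hC] at hq
  by_contra ha0
  have hq0 : q ≠ 0 := by
    rintro rfl
    rw [mul_zero] at hq
    exact ha0 (C_eq_zero.1 hq)
  have hF0 : F ≠ 0 := by
    rintro rfl
    simp at hdeg
  have := congrArg natDegree hq
  rw [natDegree_C, natDegree_mul hF0 hq0] at this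
  omega

end

theorem main {k : Type u} [Field k] (r m : ℕ)
    (f : Polynomial (MvPolynomial (Fin r) k)) (hirr : Irreducible f) (h0 : IsUnit (f.coeff 0)) :
    ∃ h : MvPolynomial (Fin r) k, h ≠ 0 ∧ ∃ s₀ : ℕ, ∀ s : ℕ, s₀ ≤ s →
      ∀ (K : Type v) [Field K] [Algebra k K] (g : Fin r → K), MvPolynomial.aeval g h ≠ 0 →
        ∀ F : Polynomial (MvPolynomial (Fin r) K),
          F = Polynomial.eval₂ (MvPolynomial.aeval (fun i : Fin r => Polynomial.C (MvPolynomial.X i) + Polynomial.C (MvPolynomial.C (g i)) * Polynomial.X ^ (s * (m + 1))) : MvPolynomial (Fin r) k →ₐ[k] Polynomial (MvPolynomial (Fin r) K)).toRingHom Polynomial.X f →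
          Module.Finite (MvPolynomial (Fin r) K) (Polynomial (MvPolynomial (Fin r) K) ⧸ Ideal.span {F}) ∧
          Function.Injective ((Ideal.Quotient.mk (Ideal.span {F})).comp (algebraMap (MvPolynomial (Fin r) K) (Polynomial (MvPolynomial (Fin r) K)))) := by
  have hf : f ≠ 0 := hirr.ne_zero
  have hdegf : 1 ≤ f.natDegree := by
    by_contra hlt
    have h00 : f.natDegree = 0 := by omega
    have hfC : f = C (f.coeff 0) := eq_C_of_natDegree_eq_zero h00
    apply hirr.not_isUnit
    rw [hfC]
    exact h0.map C
  obtain ⟨h, hh, s₀, hs₀⟩ := Groth.Agent.Lib.helper22.TwistedTranslate.main_strong.{u, v} r m f hf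
  refine ⟨h, hh, s₀, ?_⟩
  intro s hs K _ _ g hg F hF
  obtain ⟨c, hc, hlead, hnat⟩ := hs₀ s hs K g hg
  rw [← hF] at hlead hnat
  have hu : IsUnit F.leadingCoeff := by
    rw [hlead]
    exact (IsUnit.mk0 c hc).map MvPolynomial.C
  exact ⟨finite_quot F hu, injective_quot F hu (hdegf.trans hnat)⟩

end Helpers

/-- Let k be an infinite perfect field, r, m ≥ 1, and let f be an irreducible polynomial in t over
k[x_1, …, x_r] whose constant term in t is a unit of k[x_1, …, x_r], so that the hypersurface Z : f
= 0 in affine (r+1)-space with coordinates x_1, …, x_r, t is integral and does not meet the divisor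
t = 0 (the modulus condition in cubical degree one). Then there are a nonzero polynomial h in k[x_1,
…, x_r] and an integer s₀ such that for every s ≥ s₀, every field K over k and every point g of K^r
with h(g) ≠ 0, the translate of Z_K by the automorphism x_i ↦ x_i + t^{s(m+1)} g_i, t ↦ t is finite
and surjective over affine r-space over K: the quotient of K[x_1, …, x_r][t] by the translated
equation is a finitely generated K[x_1, …, x_r]-module and K[x_1, …, x_r] maps injectively into it.
(The published statement allows every nonzero point g of affine r-space; for r = 2 and f = x_1 t − 1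
the point g = (0, 1) translates Z to itself, which is not finite over the affine plane, so the
conclusion is stated here for g in a nonempty open subset h ≠ 0, which is what the published proof
establishes.) -/
theorem result
    {k : Type u} [Field k] [Infinite k] [PerfectField k] (r m : ℕ) (hr : 1 ≤ r) (hm : 1 ≤ m)
    (f : Polynomial (MvPolynomial (Fin r) k)) (hirr : Irreducible f) (h0 : IsUnit (f.coeff 0)) :
    ∃ h : MvPolynomial (Fin r) k, h ≠ 0 ∧ ∃ s₀ : ℕ, ∀ s : ℕ, s₀ ≤ s →
      ∀ (K : Type v) [Field K] [Algebra k K] (g : Fin r → K), MvPolynomial.aeval g h ≠ 0 →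
        ∀ F : Polynomial (MvPolynomial (Fin r) K),
          F = Polynomial.eval₂ (MvPolynomial.aeval (fun i : Fin r => Polynomial.C (MvPolynomial.X i) + Polynomial.C (MvPolynomial.C (g i)) * Polynomial.X ^ (s * (m + 1))) : MvPolynomial (Fin r) k →ₐ[k] Polynomial (MvPolynomial (Fin r) K)).toRingHom Polynomial.X f →
          Module.Finite (MvPolynomial (Fin r) K) (Polynomial (MvPolynomial (Fin r) K) ⧸ Ideal.span {F}) ∧
          Function.Injective ((Ideal.Quotient.mk (Ideal.span {F})).comp (algebraMap (MvPolynomial (Fin r) K) (Polynomial (MvPolynomial (Fin r) K)))) := by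
  exact main r m f hirr h0

end Groth.Agent.S15079
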