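import Groth.Statements.S15081
import Mathlib
import Groth.Agent.Lib.helper22.Shuffle

set_option autoImplicit false
open W4c2movlemaddchow

namespace Groth.Agent.S15081

section Helpers

open Groth.Agent.Lib.helper22.Shuffle Equiv

theorem main (r s t : ℕ) :
    Set.BijOn
      (fun p : Equiv.Perm (Fin (r + s + t)) × Equiv.Perm (Fin (s + t)) =>
        p.1 * W4c2movlemaddchow.extLeft r s t p.2)
      ({τ | W4c2movlemaddchow.IsShuffle₂ r (s + t) ((finCongr (Nat.add_assoc r s t)).permCongr τ)} ×ˢ
        {σ | W4c2movlemaddchow.IsShuffle₂ s t σ})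
      {ν | W4c2movlemaddchow.IsShuffle₃ r s t ν} := by
  have key := bijOn_mul_ext (m := r + s + t) (a := s + t) (r := s) (s := t)
    (embL r s t) (embL_strictMono r s t) (extLeft r s t) (extLeft_one _ _ _)
    (extLeft_mul _ _ _) (extLeft_embL _ _ _)
    (fun τ => Monotone (fun i : Fin r => τ (embF r s t i)))
    (fun τ σ => by simp only [Perm.mul_apply, extLeft_embF])
    (Fin.castAdd t) (Fin.natAdd s)
  have hS : ({τ | W4c2movlemaddchow.IsShuffle₂ r (s + t) ((finCongr (Nat.add_assoc r s t)).permCongr τ)} ×ˢ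
        {σ | W4c2movlemaddchow.IsShuffle₂ s t σ} : Set (Perm (Fin (r + s + t)) × Perm (Fin (s + t)))) =
      {τ | Monotone (fun x => τ (embL r s t x)) ∧ Monotone (fun i : Fin r => τ (embF r s t i))} ×ˢ
        {σ | Monotone (fun i => σ (Fin.castAdd t i)) ∧ Monotone (fun j => σ (Fin.natAdd s j))} := by
    ext ⟨τ, σ⟩
    simp only [Set.mem_prod, Set.mem_setOf_eq, isShuffle₂_permCongr_iff]
    rfl
  have hT : {ν | W4c2movlemaddchow.IsShuffle₃ r s t ν} =
      {ν : Perm (Fin (r + s + t)) | Monotone (fun i => ν (embL r s t (Fin.castAdd t i))) ∧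
        Monotone (fun j => ν (embL r s t (Fin.natAdd s j))) ∧
        Monotone (fun i : Fin r => ν (embF r s t i))} := by
    ext ν
    simp only [Set.mem_setOf_eq, embL_castAdd, embL_natAdd]
    unfold IsShuffle₃ embF
    tauto
  rw [hS, hT]
  exact key

end Helpers

/-- Let r, s, t ≥ 1. For an (r, s+t)-shuffle τ' of r+s+t letters and an (s, t)-shuffle σ' of the last
s+t letters, the composite τ' ∘ (id × σ'), where id × σ' fixes the first r letters and acts as σ' on
the last s+t, is an (r, s, t)-shuffle, and (τ', σ') ↦ τ' ∘ (id × σ') is a bijection from such pairs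
onto the set of all (r, s, t)-shuffles. (Shuffles are permutations monotone on each consecutive
block; composites apply the right-hand factor first.) -/
theorem result (r s t : ℕ) (hr : 1 ≤ r) (hs : 1 ≤ s) (ht : 1 ≤ t) :
    Set.BijOn
      (fun p : Equiv.Perm (Fin (r + s + t)) × Equiv.Perm (Fin (s + t)) =>
        p.1 * W4c2movlemaddchow.extLeft r s t p.2)
      ({τ | W4c2movlemaddchow.IsShuffle₂ r (s + t) ((finCongr (Nat.add_assoc r s t)).permCongr τ)} ×ˢ
        {σ | W4c2movlemaddchow.IsShuffle₂ s t σ})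
      {ν | W4c2movlemaddchow.IsShuffle₃ r s t ν} := by
  exact main r s t

end Groth.Agent.S15081
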