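import Groth.Statements.S15082
import Mathlib
import Groth.Agent.Lib.helper22.Shuffle
import Groth.Agent.S15080
import Groth.Agent.S15081

set_option autoImplicit false
open W4c2movlemaddchow

namespace Groth.Agent.S15082

section Helpers

open Groth.Agent.Lib.helper22.Shuffle Equiv

lemma sum_bijOn {m a : ℕ} (ext : Perm (Fin a) → Perm (Fin m))
    (hsign : ∀ σ, Perm.sign (ext σ) = Perm.sign σ)
    (p : Perm (Fin m) → Prop) (q : Perm (Fin a) → Prop) (w : Perm (Fin m) → Prop)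
    [DecidablePred p] [DecidablePred q] [DecidablePred w]
    (h : Set.BijOn (fun x : Perm (Fin m) × Perm (Fin a) => x.1 * ext x.2)
      ({τ | p τ} ×ˢ {σ | q σ}) {ν | w ν}) :
    ((∑ ν ∈ Finset.univ.filter w,
        MonoidAlgebra.single ν (((Equiv.Perm.sign ν : ℤˣ) : ℤ)) :
          MonoidAlgebra ℤ (Equiv.Perm (Fin m))) =
      ∑ τ ∈ Finset.univ.filter p,
        ∑ σ ∈ Finset.univ.filter q,
          MonoidAlgebra.single (τ * ext σ)
            (((Equiv.Perm.sign τ : ℤˣ) : ℤ) * ((Equiv.Perm.sign σ : ℤˣ) : ℤ))) := by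
  rw [← Finset.sum_product' (Finset.univ.filter p) (Finset.univ.filter q)
    (fun τ σ => MonoidAlgebra.single (τ * ext σ)
            (((Equiv.Perm.sign τ : ℤˣ) : ℤ) * ((Equiv.Perm.sign σ : ℤˣ) : ℤ)))]
  symm
  have hcoe : (↑(Finset.univ.filter p ×ˢ Finset.univ.filter q) : Set (Perm (Fin m) × Perm (Fin a))) =
      {τ | p τ} ×ˢ {σ | q σ} := by
    ext ⟨τ, σ⟩; simp
  have hcoe2 : (↑(Finset.univ.filter w) : Set (Perm (Fin m))) = {ν | w ν} := by
    ext ν; simp
  apply Finset.sum_nbij (fun x : Perm (Fin m) × Perm (Fin a) => x.1 * ext x.2)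
  · intro x hx
    have hx' : x ∈ ({τ | p τ} ×ˢ {σ | q σ} : Set _) := by rw [← hcoe]; exact hx
    have := h.mapsTo hx'
    simpa using this
  · rw [hcoe]; exact h.injOn
  · rw [hcoe, hcoe2]; exact h.surjOn
  · rintro ⟨τ, σ⟩ _
    simp only [map_mul, hsign, Units.val_mul]

theorem main (r s t : ℕ)
    (h1 : Set.BijOn
      (fun p : Equiv.Perm (Fin (r + s + t)) × Equiv.Perm (Fin (r + s)) =>
        p.1 * W4c2movlemaddchow.extRight (r + s) t p.2)
      ({τ | W4c2movlemaddchow.IsShuffle₂ (r + s) t τ} ×ˢ {σ | W4c2movlemaddchow.IsShuffle₂ r s σ})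
      {ν | W4c2movlemaddchow.IsShuffle₃ r s t ν})
    (h2 : Set.BijOn
      (fun p : Equiv.Perm (Fin (r + s + t)) × Equiv.Perm (Fin (s + t)) =>
        p.1 * W4c2movlemaddchow.extLeft r s t p.2)
      ({τ | W4c2movlemaddchow.IsShuffle₂ r (s + t) ((finCongr (Nat.add_assoc r s t)).permCongr τ)} ×ˢ
        {σ | W4c2movlemaddchow.IsShuffle₂ s t σ})
      {ν | W4c2movlemaddchow.IsShuffle₃ r s t ν}) :
    ((∑ ν ∈ Finset.univ.filter (W4c2movlemaddchow.IsShuffle₃ r s t),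
        MonoidAlgebra.single ν (((Equiv.Perm.sign ν : ℤˣ) : ℤ)) :
          MonoidAlgebra ℤ (Equiv.Perm (Fin (r + s + t)))) =
      ∑ τ ∈ Finset.univ.filter (W4c2movlemaddchow.IsShuffle₂ (r + s) t),
        ∑ σ ∈ Finset.univ.filter (W4c2movlemaddchow.IsShuffle₂ r s),
          MonoidAlgebra.single (τ * W4c2movlemaddchow.extRight (r + s) t σ)
            (((Equiv.Perm.sign τ : ℤˣ) : ℤ) * ((Equiv.Perm.sign σ : ℤˣ) : ℤ))) ∧
    ((∑ ν ∈ Finset.univ.filter (W4c2movlemaddchow.IsShuffle₃ r s t),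
        MonoidAlgebra.single ν (((Equiv.Perm.sign ν : ℤˣ) : ℤ)) :
          MonoidAlgebra ℤ (Equiv.Perm (Fin (r + s + t)))) =
      ∑ τ ∈ Finset.univ.filter (fun τ : Equiv.Perm (Fin (r + s + t)) =>
          W4c2movlemaddchow.IsShuffle₂ r (s + t) ((finCongr (Nat.add_assoc r s t)).permCongr τ)),
        ∑ σ ∈ Finset.univ.filter (W4c2movlemaddchow.IsShuffle₂ s t),
          MonoidAlgebra.single (τ * W4c2movlemaddchow.extLeft r s t σ)
            (((Equiv.Perm.sign τ : ℤˣ) : ℤ) * ((Equiv.Perm.sign σ : ℤˣ) : ℤ))) := by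
  constructor
  · exact sum_bijOn (extRight (r + s) t) (sign_extRight _ _) _ _ _ h1
  · exact sum_bijOn (extLeft r s t) (sign_extLeft _ _ _) _ _ _ h2

end Helpers

/-- Let r, s, t ≥ 1. In the group ring ℤ[S_{r+s+t}] the element Σ_ν sgn(ν) ν, summed over all (r, s,
t)-shuffles ν, equals Σ_τ Σ_σ sgn(τ) sgn(σ) τ ∘ (σ × id), summed over (r+s, t)-shuffles τ and (r,
s)-shuffles σ of the first r+s letters, and also equals Σ_{τ'} Σ_{σ'} sgn(τ') sgn(σ') τ' ∘ (id ×
σ'), summed over (r, s+t)-shuffles τ' and (s, t)-shuffles σ' of the last s+t letters. (Shuffles are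
permutations monotone on each consecutive block; composites apply the right-hand factor first.) -/
theorem result (r s t : ℕ) (hr : 1 ≤ r) (hs : 1 ≤ s) (ht : 1 ≤ t) :
    ((∑ ν ∈ Finset.univ.filter (W4c2movlemaddchow.IsShuffle₃ r s t),
        MonoidAlgebra.single ν (((Equiv.Perm.sign ν : ℤˣ) : ℤ)) :
          MonoidAlgebra ℤ (Equiv.Perm (Fin (r + s + t)))) =
      ∑ τ ∈ Finset.univ.filter (W4c2movlemaddchow.IsShuffle₂ (r + s) t),
        ∑ σ ∈ Finset.univ.filter (W4c2movlemaddchow.IsShuffle₂ r s),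
          MonoidAlgebra.single (τ * W4c2movlemaddchow.extRight (r + s) t σ)
            (((Equiv.Perm.sign τ : ℤˣ) : ℤ) * ((Equiv.Perm.sign σ : ℤˣ) : ℤ))) ∧
    ((∑ ν ∈ Finset.univ.filter (W4c2movlemaddchow.IsShuffle₃ r s t),
        MonoidAlgebra.single ν (((Equiv.Perm.sign ν : ℤˣ) : ℤ)) :
          MonoidAlgebra ℤ (Equiv.Perm (Fin (r + s + t)))) =
      ∑ τ ∈ Finset.univ.filter (fun τ : Equiv.Perm (Fin (r + s + t)) =>
          W4c2movlemaddchow.IsShuffle₂ r (s + t) ((finCongr (Nat.add_assoc r s t)).permCongr τ)),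
        ∑ σ ∈ Finset.univ.filter (W4c2movlemaddchow.IsShuffle₂ s t),
          MonoidAlgebra.single (τ * W4c2movlemaddchow.extLeft r s t σ)
            (((Equiv.Perm.sign τ : ℤˣ) : ℤ) * ((Equiv.Perm.sign σ : ℤˣ) : ℤ))) := by
  exact main r s t (Groth.Agent.S15080.result r s t hr hs ht) (Groth.Agent.S15081.result r s t hr hs ht)

end Groth.Agent.S15082
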