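import Groth.Statements.S15083
import Mathlib

set_option autoImplicit false
universe u
open MovLem

namespace Groth.Agent.S15083

section Helpers

open Matrix Polynomial

section
variable {K : Type u} [Field K] {ι : Type} [Fintype ι] [DecidableEq ι]

lemma whitehead (i j : ι) (hij : i ≠ j) (a : K) (ha : a ≠ 0) :
    transvection i j a * (transvection j i (-a⁻¹) * (transvection i j a *
      (transvection i j (-1) * (transvection j i 1 * transvection i j (-1))))) =
    diagonal (fun k => if k = i then a else if k = j then a⁻¹ else 1) := by
  have hji : j ≠ i := hij.symm
  ext x y
  by_cases hx : x = i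
  · subst hx
    simp only [transvection_mul_apply_same, transvection_mul_apply_of_ne _ _ _ _ hji,
      transvection_mul_apply_of_ne _ _ _ _ hij]
    simp only [transvection, Matrix.add_apply, Matrix.one_apply, Matrix.single_apply, diagonal_apply]
    by_cases hy : y = x
    · subst hy
      simp [hij, hji]
      right
      field_simp
      ring
    · by_cases hy' : y = j
      · subst hy'
        simp [hij, hji, hy]
        field_simp
        ring
      · simp [hij, hji, hy, hy', Ne.symm hy, Ne.symm hy']
  · by_cases hx' : x = j
    · subst hx'
      simp only [transvection_mul_apply_same, transvection_mul_apply_of_ne _ _ _ _ hji,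
        transvection_mul_apply_of_ne _ _ _ _ hij]
      simp only [transvection, Matrix.add_apply, Matrix.one_apply, Matrix.single_apply, diagonal_apply]
      by_cases hy : y = i
      · subst hy
        simp [hij, hji]
        field_simp
        ring
      · by_cases hy' : y = x
        · subst hy'
          simp [hij, hji, hy]
        · simp [hij, hji, hy, hy', Ne.symm hy, Ne.symm hy']
    · simp only [transvection_mul_apply_of_ne _ _ _ _ hx, transvection_mul_apply_of_ne _ _ _ _ hx']
      simp only [transvection, Matrix.add_apply, Matrix.one_apply, Matrix.single_apply, diagonal_apply]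
      by_cases hy : x = y
      · subst hy
        simp [hx, hx', Ne.symm hx, Ne.symm hx']
      · simp [hx, hx', Ne.symm hx, Ne.symm hx', hy]

/-- Path predicate. -/
def HasPath (A : Matrix ι ι K) : Prop :=
  ∃ M : Matrix ι ι K[X], M.det = 1 ∧ M.map (evalRingHom (0 : K)) = 1 ∧ M.map (evalRingHom (1 : K)) = A

lemma hasPath_one : HasPath (1 : Matrix ι ι K) :=
  ⟨1, det_one, by simp, by simp⟩

lemma hasPath_mul {A B : Matrix ι ι K} (hA : HasPath A) (hB : HasPath B) : HasPath (A * B) := by
  obtain ⟨M, hM1, hM2, hM3⟩ := hA
  obtain ⟨N, hN1, hN2, hN3⟩ := hB
  refine ⟨M * N, by rw [det_mul, hM1, hN1, one_mul], ?_, ?_⟩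
  · rw [Matrix.map_mul, hM2, hN2, one_mul]
  · rw [Matrix.map_mul, hM3, hN3]

lemma map_transvection {R S : Type*} [CommRing R] [CommRing S] (f : R →+* S) (i j : ι) (c : R) :
    (transvection i j c).map f = transvection i j (f c) := by
  ext x y
  simp only [transvection, Matrix.map_apply, Matrix.add_apply, Matrix.one_apply, Matrix.single_apply]
  split_ifs <;> simp

lemma hasPath_transvection (i j : ι) (hij : i ≠ j) (c : K) : HasPath (transvection i j c) := by
  refine ⟨transvection i j (C c * X), det_transvection_of_ne i j hij _, ?_, ?_⟩
  · rw [map_transvection]; simp
  · rw [map_transvection]; simp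

lemma hasPath_h (i j : ι) (hij : i ≠ j) (a : K) (ha : a ≠ 0) :
    HasPath (diagonal (fun k => if k = i then a else if k = j then a⁻¹ else 1) : Matrix ι ι K) := by
  rw [← whitehead i j hij a ha]
  have hji := hij.symm
  exact hasPath_mul (hasPath_transvection i j hij _) (hasPath_mul (hasPath_transvection j i hji _)
    (hasPath_mul (hasPath_transvection i j hij _) (hasPath_mul (hasPath_transvection i j hij _)
    (hasPath_mul (hasPath_transvection j i hji _) (hasPath_transvection i j hij _)))))

open Classical in
lemma hasPath_diagonal (n : ℕ) : ∀ D : ι → K, (∏ k, D k) = 1 →
    (Finset.univ.filter (fun k => D k ≠ 1)).card ≤ n → HasPath (diagonal D) := by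
  induction n with
  | zero =>
    intro D _ hcard
    have : ∀ k, D k = 1 := by
      intro k
      by_contra hk
      have : k ∈ Finset.univ.filter (fun k => D k ≠ 1) := by simp [hk]
      rw [Finset.card_eq_zero.1 (Nat.le_zero.1 hcard)] at this
      simp at this
    have hD : D = fun _ => 1 := funext this
    rw [hD, diagonal_one]
    exact hasPath_one
  | succ n ih =>
    intro D hprod hcard
    by_cases hall : ∀ k, D k = 1
    · have hD : D = fun _ => 1 := funext hall
      rw [hD, diagonal_one]
      exact hasPath_one
    · push_neg at hall
      obtain ⟨i, hi⟩ := hall
      -- there is another index j ≠ i with D j ≠ 1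
      have hex : ∃ j, j ≠ i ∧ D j ≠ 1 := by
        by_contra hno
        push_neg at hno
        have : ∏ k, D k = D i := by
          rw [Finset.prod_eq_single i]
          · intro b _ hb; exact hno b hb
          · intro h; exact absurd (Finset.mem_univ i) h
        rw [this] at hprod
        exact hi hprod
      obtain ⟨j, hji, hj⟩ := hex
      have hij : i ≠ j := hji.symm
      have hDi0 : D i ≠ 0 := by
        intro h0
        have : ∏ k, D k = 0 := Finset.prod_eq_zero (Finset.mem_univ i) h0
        rw [this] at hprod
        exact zero_ne_one hprod
      -- D' : replace D i by 1, D j by D j * D i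
      let D' : ι → K := fun k => if k = i then 1 else if k = j then D j * D i else D k
      have hDD' : diagonal D = diagonal D' *
          diagonal (fun k => if k = i then D i else if k = j then (D i)⁻¹ else 1) := by
        rw [diagonal_mul_diagonal]
        congr 1
        funext k
        simp only [D']
        by_cases hk : k = i
        · subst hk; simp
        · by_cases hk' : k = j
          · subst hk'
            simp [hk]
            field_simp
          · simp [hk, hk']
      have hprod' : ∏ k, D' k = 1 := by
        have h1 : (diagonal D).det = 1 := by rw [det_diagonal]; exact hprod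
        rw [hDD', det_mul, det_diagonal, det_diagonal] at h1
        have h2 : ∏ k, (if k = i then D i else if k = j then (D i)⁻¹ else 1) = 1 := by
          have := (hasPath_h (K := K) i j hij (D i) hDi0)
          obtain ⟨M, hM1, _, hM3⟩ := this
          have hdet : (M.map (evalRingHom (1 : K))).det = 1 := by
            have := congrArg (evalRingHom (1 : K)) hM1
            rw [RingHom.map_det] at this
            simpa using this
          rw [hM3, det_diagonal] at hdet
          exact hdet
        rw [h2, mul_one] at h1
        exact h1
      have hcard' : (Finset.univ.filter (fun k => D' k ≠ 1)).card ≤ n := by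
        have hsub : Finset.univ.filter (fun k => D' k ≠ 1) ⊆
            (Finset.univ.filter (fun k => D k ≠ 1)).erase i := by
          intro k hk
          simp only [Finset.mem_filter, Finset.mem_univ, true_and, D'] at hk
          simp only [Finset.mem_erase, Finset.mem_filter, Finset.mem_univ, true_and]
          by_cases hki : k = i
          · subst hki; simp at hk
          · refine ⟨hki, ?_⟩
            by_cases hkj : k = j
            · subst hkj; exact hj
            · simpa [hki, hkj] using hk
        have h1 := Finset.card_le_card hsub
        have h2 : i ∈ Finset.univ.filter (fun k => D k ≠ 1) := by simp [hi]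
        rw [Finset.card_erase_of_mem h2] at h1
        omega
      rw [hDD']
      exact hasPath_mul (ih D' hprod' hcard') (hasPath_h i j hij (D i) hDi0)

lemma hasPath_list (L : List (TransvectionStruct ι K)) :
    HasPath (L.map TransvectionStruct.toMatrix).prod := by
  induction L with
  | nil => simpa using hasPath_one
  | cons t L ih =>
    rw [List.map_cons, List.prod_cons]
    exact hasPath_mul (hasPath_transvection t.i t.j t.hij t.c) ih

theorem hasPath_of_det (A : Matrix ι ι K) (hA : A.det = 1) : HasPath A := by
  obtain ⟨L, L', D, hLD⟩ := Matrix.Pivot.exists_list_transvec_mul_diagonal_mul_list_transvec A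
  have hdet : (diagonal D).det = 1 := by
    have := congrArg Matrix.det hLD
    rw [hA, det_mul, det_mul, TransvectionStruct.det_toMatrix_prod,
      TransvectionStruct.det_toMatrix_prod, one_mul, mul_one] at this
    exact this.symm
  rw [det_diagonal] at hdet
  rw [hLD]
  exact hasPath_mul (hasPath_mul (hasPath_list L) (hasPath_diagonal _ D hdet le_rfl)) (hasPath_list L')

end

theorem main (K : Type u) [Field K] (r : ℕ)
    (A : Matrix.SpecialLinearGroup (Fin (r + 1)) K) :
    ∃ M : Matrix.SpecialLinearGroup (Fin (r + 1)) (Polynomial K),
      Matrix.SpecialLinearGroup.map (Polynomial.evalRingHom (0 : K)) M = 1 ∧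
      Matrix.SpecialLinearGroup.map (Polynomial.evalRingHom (1 : K)) M = A := by
  obtain ⟨M, hM1, hM2, hM3⟩ := hasPath_of_det (A : Matrix (Fin (r + 1)) (Fin (r + 1)) K) A.2
  refine ⟨⟨M, hM1⟩, ?_, ?_⟩
  · apply Subtype.ext
    exact hM2
  · apply Subtype.ext
    exact hM3

end Helpers

/-- Let K be a field and r ≥ 1. For every element A of the special linear group SL_{r+1}(K) there is an
algebraic path in SL_{r+1} from the identity to A defined over K: a matrix M of determinant 1 with
entries in the polynomial ring K[y] such that M(0) is the identity matrix and M(1) = A. (The
published statement takes K to be the function field of SL_{r+1} over the ground field, A its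
generic point viewed as a K-rational point, and the parameter space to be the projective line minus
the point 1, with endpoints 0 and ∞; this row gives the path for an arbitrary K-point A on the
affine line with endpoints 0 and 1, which is what the published construction provides before
composing with the coordinate change y ↦ y/(y − 1).) -/
theorem result
    (K : Type u) [Field K] (r : ℕ) (hr : 1 ≤ r)
    (A : Matrix.SpecialLinearGroup (Fin (r + 1)) K) :
    ∃ M : Matrix.SpecialLinearGroup (Fin (r + 1)) (Polynomial K),
      Matrix.SpecialLinearGroup.map (Polynomial.evalRingHom (0 : K)) M = 1 ∧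
      Matrix.SpecialLinearGroup.map (Polynomial.evalRingHom (1 : K)) M = A := by
  exact main K r A

end Groth.Agent.S15083
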