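import Groth.Statements.S15084
import Mathlib

set_option autoImplicit false
universe u
open MovLem

namespace Groth.Agent.S15084

/-- Let A be a Noetherian integrally closed domain with fraction field K, let B be a domain with
fraction field L, and let A → B be an injective ring homomorphism, with K → L the induced map of
fraction fields, such that Spec B → Spec A is surjective (every prime ideal of A is the contraction
of a prime ideal of B). If a ∈ K is such that its image in L lies in B, then a ∈ A. (The published
statement: for a surjective morphism f : Y → X of normal integral separated schemes of finite type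
over a perfect field and a Cartier divisor D on X, if f^*D is effective then D is effective; a
Cartier divisor is locally the divisor of a nonzero rational function a, effectivity of div(a) on a
normal scheme means that a is a regular function, and this row is that local statement, which is
what the published proof establishes.) -/
theorem result
    (A B K L : Type u) [CommRing A] [IsDomain A] [IsNoetherianRing A] [IsIntegrallyClosed A]
    [CommRing B] [IsDomain B] [Field K] [Field L]
    [Algebra A B] [Algebra A K] [IsFractionRing A K] [Algebra B L] [IsFractionRing B L]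
    [Algebra K L] [Algebra A L] [IsScalarTower A K L] [IsScalarTower A B L]
    (hinj : Function.Injective (algebraMap A B))
    (hsurj : ∀ p : Ideal A, p.IsPrime → ∃ q : Ideal B, q.IsPrime ∧ q.comap (algebraMap A B) = p)
    (a : K) (ha : algebraMap K L a ∈ (algebraMap B L).range) :
    a ∈ (algebraMap A K).range := by
  classical
  by_contra hcon
  set R : Submodule A K := LinearMap.range (Algebra.linearMap A K) with hR
  have hRmem : ∀ z : K, z ∈ R ↔ z ∈ (algebraMap A K).range := by
    intro z
    simp [hR, LinearMap.mem_range, Algebra.linearMap_apply]
  have haR : a ∉ R := fun h => hcon ((hRmem a).1 h)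
  -- the set of colon ideals
  let S : Set (Submodule A A) := {I | ∃ r : A, r • a ∉ R ∧ I = R.colon {r • a}}
  have hSne : S.Nonempty := ⟨R.colon {(1 : A) • a}, 1, by simpa using haR, rfl⟩
  have hnoeth : IsNoetherian A A := inferInstance
  obtain ⟨P, ⟨r, hra, hP⟩, hmax⟩ := (set_has_maximal_iff_noetherian.mpr hnoeth) S hSne
  set a' : K := r • a with ha'
  have hmemP : ∀ s : A, s ∈ P ↔ s • a' ∈ R := by
    intro s
    rw [hP, Submodule.mem_colon_singleton]
  -- image of a' in L lies in B
  obtain ⟨b, hb⟩ := ha
  have hb' : algebraMap K L a' = algebraMap B L (algebraMap A B r * b) := by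
    rw [ha', Algebra.smul_def, map_mul, map_mul, hb, ← IsScalarTower.algebraMap_apply,
      ← IsScalarTower.algebraMap_apply]
  -- P is prime
  have hPprime : Ideal.IsPrime (P : Ideal A) := by
    refine ⟨?_, ?_⟩
    · intro htop
      have : (1 : A) ∈ P := by rw [htop]; trivial
      rw [hmemP, one_smul] at this
      exact hra this
    · intro x y hxy
      by_contra hne
      push_neg at hne
      obtain ⟨hx, hy⟩ := hne
      have hxa : x • a' ∉ R := fun h => hx ((hmemP x).2 h)
      have hI : R.colon {(x * r) • a} ∈ S := ⟨x * r, by rwa [mul_smul], rfl⟩
      have hle : P ≤ R.colon {(x * r) • a} := by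
        intro s hs
        rw [Submodule.mem_colon_singleton, mul_smul, smul_comm]
        exact R.smul_mem x ((hmemP s).1 hs)
      have hyI : y ∈ R.colon {(x * r) • a} := by
        rw [Submodule.mem_colon_singleton, mul_smul, ← mul_smul y x, mul_comm y x]
        exact (hmemP _).1 hxy
      have := hmax _ hI
      rw [lt_iff_le_and_ne] at this
      push_neg at this
      have heq := this hle
      rw [← heq] at hyI
      exact hy hyI
  -- P ≠ ⊥
  obtain ⟨n, d, hd, hnd⟩ := IsFractionRing.div_surjective (A := A) a'
  have hdP : d ∈ P := by
    rw [hmemP]
    refine ⟨n, ?_⟩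
    rw [Algebra.linearMap_apply, ← hnd, Algebra.smul_def]
    have : algebraMap A K d ≠ 0 := by
      intro h0
      have := (IsFractionRing.injective A K) (h0.trans (map_zero _).symm)
      exact (nonZeroDivisors.ne_zero hd) this
    field_simp
  have hd0 : d ≠ 0 := nonZeroDivisors.ne_zero hd
  by_cases hcase : ∀ π ∈ P, ∃ s ∈ P, algebraMap A K s = π • a'
  · -- integrality
    let N : Submodule A K := Submodule.map (Algebra.linearMap A K) P
    have hNne : N ≠ ⊥ := by
      intro hbot
      have : algebraMap A K d ∈ N := ⟨d, hdP, rfl⟩
      rw [hbot, Submodule.mem_bot] at this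
      exact hd0 ((IsFractionRing.injective A K) (this.trans (map_zero _).symm))
    have hNfg : N.FG := Submodule.FG.map _ (IsNoetherian.noetherian P)
    have hint : IsIntegral A a' := by
      refine isIntegral_of_smul_mem_submodule (M := K) N hNne hNfg a' ?_
      rintro _ ⟨π, hπ, rfl⟩
      obtain ⟨s, hs, hs'⟩ := hcase π hπ
      refine ⟨s, hs, ?_⟩
      rw [Algebra.linearMap_apply, Algebra.linearMap_apply, hs', Algebra.smul_def, smul_eq_mul,
        mul_comm]
    obtain ⟨z, hz⟩ := IsIntegrallyClosed.isIntegral_iff.1 hint
    exact hra ((hRmem _).2 ⟨z, hz⟩)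
  · push_neg at hcase
    obtain ⟨π, hπ, hπ'⟩ := hcase
    obtain ⟨s, hs⟩ := (hmemP π).1 hπ
    rw [Algebra.linearMap_apply] at hs
    have hsP : s ∉ P := fun h => hπ' s h hs
    obtain ⟨q, hq, hqP⟩ := hsurj P hPprime
    have hkey : algebraMap A B s = algebraMap A B π * (algebraMap A B r * b) := by
      apply IsFractionRing.injective B L
      rw [map_mul, ← hb', ← IsScalarTower.algebraMap_apply, ← IsScalarTower.algebraMap_apply,
        IsScalarTower.algebraMap_apply A K L s, hs, Algebra.smul_def, map_mul,
        ← IsScalarTower.algebraMap_apply]
    have hπq : algebraMap A B π ∈ q := by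
      have : π ∈ q.comap (algebraMap A B) := by rw [hqP]; exact hπ
      exact this
    have hsq : s ∈ q.comap (algebraMap A B) := by
      rw [Ideal.mem_comap, hkey]
      exact q.mul_mem_right _ hπq
    rw [hqP] at hsq
    exact hsP hsq

end Groth.Agent.S15084
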