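import Groth.Statements.S15115
import Groth.Agent.Lib.helper12.Reynolds
import Groth.Agent.Lib.helper28.LinRed
import Groth.Agent.Lib.helper28.TotInt

set_option autoImplicit false
universe u
open HopfRep

namespace Groth.Agent.S15115

open TensorProduct Groth.Agent.H12Reynolds

section aux
variable {k : Type u} [Field k] {H : Type u} [CommRing H] [HopfAlgebra k H]

/-- the trivial comodule structure on the base field, as a local instance -/
@[reducible] noncomputable def ck : HopfRep.Comod k H k := HopfRep.Comod.trivial k H k

attribute [local instance] ck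

lemma isCoactAlg_trivial : GLin.IsCoactAlg k H k := by
  refine ⟨?_, ?_⟩
  · show (1 : k) ⊗ₜ[k] (1 : H) = 1
    rfl
  · intro f g
    show (f * g) ⊗ₜ[k] (1 : H) = (f ⊗ₜ[k] (1 : H)) * (g ⊗ₜ[k] (1 : H))
    rw [Algebra.TensorProduct.tmul_mul_tmul, mul_one]

variable (α : H →ₗ[k] k)

/-- the Reynolds operator of a total integral on a comodule -/
noncomputable def E (M : Type u) [AddCommGroup M] [Module k M] [HopfRep.Comod k H M] : M →ₗ[k] M :=
  TameAct.reynolds k H k M α

lemma E_eq (M : Type u) [AddCommGroup M] [Module k M] [HopfRep.Comod k H M] (m : M) :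
    E α M m = Phi (M := M) α (HopfRep.Comod.coact (k := k) (A := H) m) := rfl

lemma E_coact (hα : @Hoch.IsComodHom k _ H _ _ _ H _ _ _ k _ _ (HopfRep.Comod.trivial k H k) α)
    (M : Type u) [AddCommGroup M] [Module k M] [HopfRep.Comod k H M] (m : M) :
    HopfRep.Comod.coact (k := k) (A := H) (E α M m) = E α M m ⊗ₜ[k] (1 : H) := by
  haveI := isCoactAlg_trivial (k := k) (H := H)
  haveI : TameAct.IsHopfMod k H k M := Groth.Agent.Lib.helper28.TotInt.isHopfMod_trivial k H M
  exact coact_reynolds α hα m

lemma E_fixed (h1 : α 1 = 1)
    (M : Type u) [AddCommGroup M] [Module k M] [HopfRep.Comod k H M] (m : M)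
    (hm : m ∈ HopfRep.fixedPts k H M) : E α M m = m := by
  haveI := isCoactAlg_trivial (k := k) (H := H)
  haveI : TameAct.IsHopfMod k H k M := Groth.Agent.Lib.helper28.TotInt.isHopfMod_trivial k H M
  exact reynolds_of_fixed α h1 m hm

end aux

attribute [local instance] ck

open TensorProduct in
/-- Let k be an algebraically closed field, H a finite-dimensional commutative Hopf algebra over k all
of whose finite-dimensional comodules are semisimple (a finite linearly reductive group scheme G
over k), A a commutative k-algebra, and M an A-module with an H-coaction that is A-linear (G acts on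
M by A-module maps, A carrying the trivial action). Let A' be a commutative A-algebra and N = A' ⊗_A
M its base change, exhibited by an A-linear map φ : M → N, with the induced coaction: A'-linear and
compatible with φ. Then invariants commute with this base change: writing M^G for the A-submodule of
coinvariant elements of M, the natural map A' ⊗_A M^G → N, a' ⊗ m ↦ a' φ(m), is injective and its
image is exactly the set of coinvariant elements of N. (The published statement is the isomorphism
ρ^* π_* F → π'_* σ^* F for a tame Deligne–Mumford stack with coarse moduli space π and any base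
change ρ of the coarse space; this row is the statement about invariants to which its proof reduces
it, for modules that need not be finitely generated.) -/
theorem result (k : Type u) [Field k] [IsAlgClosed k]
    (H : Type u) [CommRing H] [HopfAlgebra k H] [Module.Finite k H] (hred : HopfRep.IsLinearlyReductive k H)
    (A : Type u) [CommRing A] [Algebra k A]
    (M : Type u) [AddCommGroup M] [Module k M] [Module A M] [IsScalarTower k A M] [HopfRep.Comod k H M]
    (hlin : ∀ (a : A) (m : M), HopfRep.Comod.coact (k := k) (A := H) (a • m) = a • HopfRep.Comod.coact (k := k) (A := H) m)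
    (A' : Type u) [CommRing A'] [Algebra k A'] [Algebra A A'] [IsScalarTower k A A']
    (N : Type u) [AddCommGroup N] [Module k N] [Module A N] [Module A' N]
    [IsScalarTower k A N] [IsScalarTower A A' N] [IsScalarTower k A' N] [HopfRep.Comod k H N]
    (φ : M →ₗ[A] N) (hφ : IsBaseChange A' φ)
    (hcomp : ∀ m : M, HopfRep.Comod.coact (k := k) (A := H) (φ m) =
      LinearMap.rTensor H (φ.restrictScalars k) (HopfRep.Comod.coact (k := k) (A := H) m))
    (hlinN : ∀ (a' : A') (n : N), HopfRep.Comod.coact (k := k) (A := H) (a' • n) = a' • HopfRep.Comod.coact (k := k) (A := H) n)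
    (P : Submodule A M) (hP : (P : Set M) = (HopfRep.fixedPts k H M : Set M)) :
    Function.Injective (TensorProduct.lift (((Algebra.lsmul A A N : A' →ₐ[A] Module.End A N).toLinearMap).compl₂ (φ ∘ₗ P.subtype))) ∧
      Set.range (TensorProduct.lift (((Algebra.lsmul A A N : A' →ₐ[A] Module.End A N).toLinearMap).compl₂ (φ ∘ₗ P.subtype))) =
        (HopfRep.fixedPts k H N : Set N) := by
  classical
  obtain ⟨α, hα, h1⟩ := Groth.Agent.Lib.helper28.LinRed.hasTotInt_of_isLinearlyReductive hred
  -- linearity of Phi
  have hPhiA : ∀ (a : A) (t : M ⊗[k] H), Phi (M := M) α (a • t) = a • Phi (M := M) α t := by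
    intro a t
    induction t using TensorProduct.induction_on with
    | zero => simp
    | add x y hx hy => simp only [smul_add, map_add, hx, hy]
    | tmul m h => rw [TensorProduct.smul_tmul', Phi_tmul, Phi_tmul, smul_comm]
  have hPhiA' : ∀ (a : A') (t : N ⊗[k] H), Phi (M := N) α (a • t) = a • Phi (M := N) α t := by
    intro a t
    induction t using TensorProduct.induction_on with
    | zero => simp
    | add x y hx hy => simp only [smul_add, map_add, hx, hy]
    | tmul m h => rw [TensorProduct.smul_tmul', Phi_tmul, Phi_tmul, smul_comm]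
  have hPhiφ : ∀ t : M ⊗[k] H, Phi (M := N) α (LinearMap.rTensor H (φ.restrictScalars k) t) =
      φ (Phi (M := M) α t) := by
    intro t
    induction t using TensorProduct.induction_on with
    | zero => simp
    | add x y hx hy => simp only [map_add, hx, hy]
    | tmul m h =>
      rw [LinearMap.rTensor_tmul, Phi_tmul, Phi_tmul]
      exact ((φ.restrictScalars k).map_smul _ m).symm
  have hEA : ∀ (a : A) (m : M), E α M (a • m) = a • E α M m := by
    intro a m
    rw [E_eq, E_eq, hlin, hPhiA]
  have hEA' : ∀ (a : A') (n : N), E α N (a • n) = a • E α N n := by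
    intro a n
    rw [E_eq, E_eq, hlinN, hPhiA']
  have hEφ : ∀ m : M, E α N (φ m) = φ (E α M m) := by
    intro m
    rw [E_eq, E_eq, hcomp, hPhiφ]
  have hEP : ∀ m : M, E α M m ∈ P := by
    intro m
    have : E α M m ∈ (P : Set M) := by
      rw [hP]
      exact E_coact α hα M m
    exact this
  have hPfix : ∀ p : P, (p : M) ∈ HopfRep.fixedPts k H M := by
    intro p
    have : (p : M) ∈ (P : Set M) := p.2
    rw [hP] at this
    exact this
  set ι := TensorProduct.lift (((Algebra.lsmul A A N : A' →ₐ[A] Module.End A N).toLinearMap).compl₂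
    (φ ∘ₗ P.subtype)) with hι
  have hιt : ∀ (a' : A') (p : P), ι (a' ⊗ₜ[A] p) = a' • φ (p : M) := by
    intro a' p
    simp [hι]
  have hιsmul : ∀ (a' : A') (t : A' ⊗[A] P), ι (a' • t) = a' • ι t := by
    intro a' t
    induction t using TensorProduct.induction_on with
    | zero => simp
    | add x y hx hy => simp only [smul_add, map_add, hx, hy]
    | tmul b p => rw [TensorProduct.smul_tmul', hιt, hιt, smul_eq_mul, mul_smul]
  refine ⟨?_, ?_⟩
  · -- injectivity through a retraction
    let eP : M →ₗ[A] P :=
      { toFun := fun m => ⟨E α M m, hEP m⟩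
        map_add' := fun x y => by ext; simp
        map_smul' := fun a x => by ext; simp [hEA] }
    let r : N →ₗ[A] A' ⊗[A] P :=
      (LinearMap.lTensor A' eP) ∘ₗ (hφ.equiv.symm.toLinearMap.restrictScalars A)
    have hr : ∀ t : A' ⊗[A] P, r (ι t) = t := by
      intro t
      induction t using TensorProduct.induction_on with
      | zero => simp
      | add x y hx hy => simp only [map_add, hx, hy]
      | tmul a' p =>
        rw [hιt]
        have h2 : hφ.equiv.symm (a' • φ (p : M)) = a' ⊗ₜ[A] (p : M) := by
          rw [map_smul, hφ.equiv_symm_apply, TensorProduct.smul_tmul', smul_eq_mul, mul_one]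
        show LinearMap.lTensor A' eP (hφ.equiv.symm (a' • φ (p : M))) = _
        rw [h2, LinearMap.lTensor_tmul]
        congr 1
        ext
        exact E_fixed α h1 M _ (hPfix p)
    exact Function.LeftInverse.injective hr
  · ext n
    constructor
    · rintro ⟨t, rfl⟩
      show ι t ∈ HopfRep.fixedPts k H N
      induction t using TensorProduct.induction_on with
      | zero => rw [map_zero]; exact Submodule.zero_mem _
      | add x y hx hy => rw [map_add]; exact Submodule.add_mem _ hx hy
      | tmul a' p =>
        rw [hιt]
        show HopfRep.Comod.coact (k := k) (A := H) (a' • φ (p : M)) = (a' • φ (p : M)) ⊗ₜ[k] (1 : H)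
        have hp : HopfRep.Comod.coact (k := k) (A := H) (p : M) = (p : M) ⊗ₜ[k] (1 : H) := hPfix p
        rw [hlinN, hcomp, hp, LinearMap.rTensor_tmul, TensorProduct.smul_tmul']
        rfl
    · intro hn
      have hn' : n ∈ HopfRep.fixedPts k H N := hn
      rw [← E_fixed α h1 N n hn']
      refine hφ.inductionOn n (motive := fun n => E α N n ∈ Set.range ι) ?_ ?_ ?_ ?_
      · exact ⟨0, by simp⟩
      · intro m
        refine ⟨(1 : A') ⊗ₜ[A] (⟨E α M m, hEP m⟩ : P), ?_⟩
        rw [hιt, one_smul, hEφ]
      · rintro a' n ⟨t, ht⟩
        exact ⟨a' • t, by rw [hιsmul, ht, hEA']⟩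
      · rintro n₁ n₂ ⟨t₁, h₁⟩ ⟨t₂, h₂⟩
        exact ⟨t₁ + t₂, by rw [map_add, h₁, h₂, map_add]⟩

end Groth.Agent.S15115
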