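import Groth.Statements.S15116
import Mathlib

set_option autoImplicit false
universe u v
open NRGIT

namespace Groth.Agent.S15116

section Helpers

open DirectSum

section
variable {k : Type u} [Field k] {A : Type v} [CommRing A] [Algebra k A] (𝒜 : ℤ → Submodule k A)
  [GradedAlgebra 𝒜]

/-- degree-zero component -/
noncomputable def P0 (x : A) : A := (decompose 𝒜 x 0 : A)

theorem P0_add (x y : A) : P0 𝒜 (x + y) = P0 𝒜 x + P0 𝒜 y := by
  simp [P0, decompose_add]

theorem P0_zero : P0 𝒜 (0 : A) = 0 := by simp [P0]

theorem P0_mul_of_mem (r s : A) (j : ℤ) (hs : s ∈ 𝒜 j) :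
    P0 𝒜 (r * s) = (decompose 𝒜 r (-j) : A) * s := by
  have := coe_decompose_mul_add_of_right_mem 𝒜 (i := -j) (j := j) (a := r) hs
  rw [neg_add_cancel] at this
  exact this

theorem main (hpos : ∀ i : ℤ, 0 < i → 𝒜 i = ⊥)
    (D : Derivation k A A) (l : ℤ) (hl : 0 < l)
    (hD : ∀ (i : ℤ) (a : A), a ∈ 𝒜 i → D a ∈ 𝒜 (i + l))
    (hfree : ∀ m : Ideal A, m.IsMaximal → (∀ i : ℤ, i < 0 → (𝒜 i : Set A) ⊆ m) → ∃ a : A, D a ∉ m) :
    ∃ f : A, D f = 1 := by
  classical
  have hzero : ∀ (i : ℤ) (a : A), 0 < i → a ∈ 𝒜 i → a = 0 := by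
    intro i a hi ha
    rw [hpos i hi] at ha
    exact (Submodule.mem_bot k).mp ha
  set G : Set A := (⋃ i : {i : ℤ // i < 0}, (𝒜 i.1 : Set A)) ∪ Set.range D with hG
  have hI : Ideal.span G = ⊤ := by
    by_contra hne
    obtain ⟨m, hm, hle⟩ := Ideal.exists_le_maximal _ hne
    obtain ⟨a, ha⟩ := hfree m hm (by
      intro i hi x hx
      apply hle
      apply Ideal.subset_span
      left
      exact Set.mem_iUnion.mpr ⟨⟨i, hi⟩, hx⟩)
    apply ha
    apply hle
    apply Ideal.subset_span
    right
    exact ⟨a, rfl⟩
  -- homogeneous pieces of `D b`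
  have hhom : ∀ (r : A) (j : ℤ) (b : A), b ∈ 𝒜 j → ∃ f, D f = P0 𝒜 (r * D b) := by
    intro r j b hb
    have hDb := hD j b hb
    rw [P0_mul_of_mem 𝒜 r (D b) (j + l) hDb]
    rcases lt_trichotomy (j + l) 0 with h | h | h
    · refine ⟨0, ?_⟩
      have : (decompose 𝒜 r (-(j + l)) : A) = 0 :=
        hzero (-(j + l)) _ (by omega) (SetLike.coe_mem _)
      rw [this, zero_mul, map_zero]
    · refine ⟨(decompose 𝒜 r 0 : A) * b, ?_⟩
      rw [h, neg_zero, Derivation.leibniz]
      have hr0 : D (decompose 𝒜 r 0 : A) = 0 := by
        apply hzero (0 + l) _ (by omega)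
        exact hD 0 _ (SetLike.coe_mem _)
      rw [hr0, smul_zero, add_zero, smul_eq_mul]
    · refine ⟨0, ?_⟩
      have : D b = 0 := hzero (j + l) _ h hDb
      rw [this, mul_zero, map_zero]
  have hp : ∀ x ∈ Ideal.span G, ∀ r : A, ∃ f, D f = P0 𝒜 (r * x) := by
    intro x hx
    induction hx using Submodule.span_induction with
    | mem s hs =>
      intro r
      rcases hs with hs | hs
      · obtain ⟨⟨i, hi⟩, hsi⟩ := Set.mem_iUnion.mp hs
        refine ⟨0, ?_⟩
        rw [P0_mul_of_mem 𝒜 r s i hsi]
        have : (decompose 𝒜 r (-i) : A) = 0 := hzero (-i) _ (by omega) (SetLike.coe_mem _)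
        rw [this, zero_mul, map_zero]
      · obtain ⟨a, rfl⟩ := hs
        have hsum := DirectSum.sum_support_decompose 𝒜 a
        have hDa : D a = ∑ i ∈ (decompose 𝒜 a).support, D (decompose 𝒜 a i : A) := by
          conv_lhs => rw [← hsum]
          rw [map_sum]
        have : ∀ j, ∃ f, D f = P0 𝒜 (r * D (decompose 𝒜 a j : A)) :=
          fun j => hhom r j _ (SetLike.coe_mem _)
        choose f hf using this
        refine ⟨∑ i ∈ (decompose 𝒜 a).support, f i, ?_⟩
        rw [map_sum, hDa, Finset.mul_sum]
        have hP0sum : ∀ (S : Finset ℤ) (g : ℤ → A),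
            P0 𝒜 (∑ i ∈ S, g i) = ∑ i ∈ S, P0 𝒜 (g i) := by
          intro S g
          induction S using Finset.induction_on with
          | empty => simp [P0_zero]
          | insert a S ha ih => rw [Finset.sum_insert ha, Finset.sum_insert ha, P0_add, ih]
        rw [hP0sum]
        exact Finset.sum_congr rfl fun i _ => hf i
    | zero =>
      intro r
      exact ⟨0, by rw [mul_zero, P0_zero, map_zero]⟩
    | add x y _ _ hx hy =>
      intro r
      obtain ⟨f, hf⟩ := hx r
      obtain ⟨g, hg⟩ := hy r
      exact ⟨f + g, by rw [map_add, hf, hg, mul_add, P0_add]⟩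
    | smul c x _ hx =>
      intro r
      obtain ⟨f, hf⟩ := hx (r * c)
      exact ⟨f, by rw [hf, smul_eq_mul, mul_assoc]⟩
  obtain ⟨f, hf⟩ := hp 1 (by rw [hI]; trivial) 1
  refine ⟨f, ?_⟩
  rw [hf, mul_one, P0]
  have h1 : (1 : A) ∈ 𝒜 0 := SetLike.GradedOne.one_mem
  rw [decompose_of_mem_same 𝒜 h1]

end

end Helpers

/-- Let k be a characteristic-zero field and A a commutative k-algebra, graded by the integers with all
pieces of positive degree zero, and D a k-derivation of A that raises degrees by a fixed positive
integer l. If no maximal ideal of A contains both every piece of negative degree and the image of D,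
then there is f with D f = 1. (The published statement is for an affine variety with an action of
the semidirect product of the additive and multiplicative groups, the multiplicative group acting on
the coordinate ring with non-positive weights and on the Lie algebra of the additive group with
positive weight: the derivation is a generator of that Lie algebra, the maximal ideals containing
the pieces of negative degree are the limit points under the multiplicative group, and a limit point
has trivial additive stabiliser exactly when the image of D is not contained in its ideal; this row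
keeps only this algebraic content, for any such graded algebra. The first assertion of the published
lemma, that every point has a limit in the variety under the multiplicative group as t → 0, is not
part of this row.) -/
theorem result (k : Type u) [Field k] [CharZero k]
    (A : Type v) [CommRing A] [Algebra k A] (𝒜 : ℤ → Submodule k A) [GradedAlgebra 𝒜]
    (hpos : ∀ i : ℤ, 0 < i → 𝒜 i = ⊥)
    (D : Derivation k A A) (l : ℤ) (hl : 0 < l)
    (hD : ∀ (i : ℤ) (a : A), a ∈ 𝒜 i → D a ∈ 𝒜 (i + l))
    (hfree : ∀ m : Ideal A, m.IsMaximal → (∀ i : ℤ, i < 0 → (𝒜 i : Set A) ⊆ m) → ∃ a : A, D a ∉ m) :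
    ∃ f : A, D f = 1 := by
  exact main 𝒜 hpos D l hl hD hfree

end Groth.Agent.S15116
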