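import Groth.Statements.S15117
import Groth.Agent.Lib.helper12.Coeff

set_option autoImplicit false
universe u v w
open TensorProduct
open NRGIT

namespace Groth.Agent.S15117

/-- Let k be a field, π : A → B a map of commutative bialgebras over k, W a right A-comodule and V ⊆ W a
subcomodule all of whose elements are coinvariant for the B-coaction induced through π. Then the
coaction of every v ∈ V lies in V ⊗ A' ⊆ W ⊗ A, where A' ⊆ A is the set of elements a with (π ⊗
id)(Δ a) = 1 ⊗ a, i.e. coinvariant for the coaction of B on A through π on the left factor; the row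
states membership in the span of the pure tensors w ⊗ a with w ∈ V and a ∈ A'. (The published
statement is for a linear algebraic group H over an algebraically closed field of characteristic
zero, a normal subgroup N and an H-stable space V of N-invariant sections of a linearised line
bundle, with the coaction landing in O(H)^N ⊗ V, where O(H)^N is the ring of functions on H
invariant under N acting by right multiplication; this row is the comodule form, for any bialgebra
map over a field, where normality of N is not needed.) -/
theorem result (k : Type u) [Field k]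
    (A B : Type v) [CommRing A] [CommRing B] [Bialgebra k A] [Bialgebra k B] (π : A →ₐc[k] B)
    (W : Type w) [AddCommGroup W] [Module k W] [HopfRep.Comod k A W]
    (V : Submodule k W) (hV : HopfRep.IsSubcomod (k := k) (A := A) V)
    (hfix : ∀ v ∈ V, (π.toLinearMap.lTensor W) (HopfRep.Comod.coact (k := k) (A := A) v) = v ⊗ₜ[k] (1 : B))
    (v : W) (hv : v ∈ V) :
    HopfRep.Comod.coact (k := k) (A := A) v ∈
      Submodule.span k {x : W ⊗[k] A | ∃ w ∈ V, ∃ a : A,
        (π.toLinearMap.rTensor A) (Coalgebra.comul (R := k) a) = (1 : B) ⊗ₜ[k] a ∧ x = w ⊗ₜ[k] a} := by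
  -- the submodule `A'`
  let L : A →ₗ[k] B ⊗[k] A := π.toLinearMap.rTensor A ∘ₗ CoalgebraStruct.comul (R := k) (A := A) -
    (TensorProduct.mk k B A 1)
  let A' : Submodule k A := LinearMap.ker L
  have hA' : ∀ a : A, a ∈ A' ↔
      (π.toLinearMap.rTensor A) (Coalgebra.comul (R := k) a) = (1 : B) ⊗ₜ[k] a := by
    intro a
    simp only [A', L, LinearMap.mem_ker, LinearMap.sub_apply, LinearMap.comp_apply,
      TensorProduct.mk_apply, sub_eq_zero]
  have hmem : HopfRep.Comod.coact (k := k) (A := A) v ∈
      LinearMap.range (TensorProduct.map V.subtype A'.subtype) := by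
    rw [Groth.Agent.H12Coeff.mem_range_map_iff]
    refine ⟨hV v hv, ?_⟩
    rw [Groth.Agent.H12Coeff.mem_range_lTensor_iff]
    intro φ
    rw [hA']
    obtain ⟨y, hy⟩ := hV v hv
    have h1 := LinearMap.congr_fun (Groth.Agent.H12Coeff.coef_isComodHom (C := A) φ) v
    simp only [LinearMap.comp_apply] at h1
    have h1' : Coalgebra.comul (R := k) (Groth.Agent.H12Coeff.coef (C := A) φ v) =
        (Groth.Agent.H12Coeff.coef (C := A) φ).rTensor A
          (HopfRep.Comod.coact (k := k) (A := A) v) := h1
    have hcoef : Groth.Agent.H12Coeff.Lc A φ (HopfRep.Comod.coact (k := k) (A := A) v) =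
        Groth.Agent.H12Coeff.coef (C := A) φ v := rfl
    rw [hcoef, h1', ← hy, ← LinearMap.comp_apply, ← LinearMap.rTensor_comp, ← LinearMap.comp_apply,
      ← LinearMap.rTensor_comp]
    have hψ : (π.toLinearMap ∘ₗ Groth.Agent.H12Coeff.coef (C := A) φ) ∘ₗ V.subtype =
        Algebra.linearMap k B ∘ₗ φ ∘ₗ V.subtype := by
      ext w
      simp only [LinearMap.comp_apply, Submodule.subtype_apply, Algebra.linearMap_apply]
      rw [Groth.Agent.H12Coeff.coef_apply]
      have := Groth.Agent.H12Coeff.Lc_lTensor (k := k) (V := W) π.toLinearMap φ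
        (HopfRep.Comod.coact (k := k) (A := A) (w : W))
      rw [← this, hfix w w.2, Groth.Agent.H12Coeff.Lc_tmul, Algebra.algebraMap_eq_smul_one]
    rw [hψ]
    have key : ∀ z : V ⊗[k] A, (Algebra.linearMap k B ∘ₗ φ ∘ₗ V.subtype).rTensor A z =
        (1 : B) ⊗ₜ[k] Groth.Agent.H12Coeff.Lc A (φ ∘ₗ V.subtype) z := by
      intro z
      induction z using TensorProduct.induction_on with
      | zero => simp
      | tmul w a =>
        simp only [LinearMap.rTensor_tmul, LinearMap.comp_apply, Submodule.subtype_apply,
          Algebra.linearMap_apply, Groth.Agent.H12Coeff.Lc_tmul]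
        rw [Algebra.algebraMap_eq_smul_one, TensorProduct.smul_tmul]
      | add x y hx hy => simp only [map_add, TensorProduct.tmul_add, hx, hy]
    rw [key, ← Groth.Agent.H12Coeff.Lc_rTensor, hy, hcoef]
  obtain ⟨z, hz⟩ := hmem
  rw [← hz]
  clear hz
  induction z using TensorProduct.induction_on with
  | zero => rw [map_zero]; exact Submodule.zero_mem _
  | tmul w a =>
    apply Submodule.subset_span
    exact ⟨w.1, w.2, a.1, (hA' a.1).1 a.2, rfl⟩
  | add x y hx hy => rw [map_add]; exact Submodule.add_mem _ hx hy

end Groth.Agent.S15117
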