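import Groth.Statements.S15121
import Mathlib
-- import your own Groth.Agent.* helpers here

set_option autoImplicit false
universe u v w
open InvQ

namespace Groth.Agent.S15121

namespace H5S15121


theorem main
    (k : Type u) [Field k]
    (A : Type v) [CommRing A] [Algebra k A]
    (Λ : Type w) [AddCommGroup Λ] [DecidableEq Λ]
    (𝒜 : Λ → Submodule k A) [GradedAlgebra 𝒜]
    (hpos : ∀ w : Λ, 𝒜 w ≠ ⊥ → 𝒜 (-w) ≠ ⊥ → w = 0)
    (δ : Derivation k A A)
    (d : Λ) (hhom : ∀ (w : Λ) (a : A), a ∈ 𝒜 w → δ a ∈ 𝒜 (w + d)) (hd : 𝒜 d = ⊥)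
    (hfix : ∀ m : Ideal A, m.IsMaximal → (∀ w : Λ, w ≠ 0 → (𝒜 w : Set A) ⊆ m) → ¬ (Set.range δ ⊆ m)) :
    ∃ s ∈ 𝒜 (-d), δ s = 1 := by
  classical
  set P : A →+ A := GradedRing.proj 𝒜 0 with hPdef
  have hP_same : ∀ x ∈ 𝒜 0, P x = x := fun x hx => by
    rw [hPdef, GradedRing.proj_apply]; exact DirectSum.decompose_of_mem_same 𝒜 hx
  have hP_ne : ∀ w : Λ, w ≠ 0 → ∀ x ∈ 𝒜 w, P x = 0 := fun w hw x hx => by
    rw [hPdef, GradedRing.proj_apply]; exact DirectSum.decompose_of_mem_ne 𝒜 hx hw
  have hP_mul : ∀ (v : Λ) (a : A), a ∈ 𝒜 v → ∀ x : A,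
      P (a * x) = a * ((DirectSum.decompose 𝒜 x (-v) : 𝒜 (-v)) : A) := by
    intro v a ha x
    rw [hPdef, GradedRing.proj_apply]
    have := DirectSum.coe_decompose_mul_add_of_left_mem 𝒜 (i := v) (j := -v) (b := x) ha
    rwa [add_neg_cancel] at this
  let S₀ : Submodule k A := (𝒜 (-d)).map (δ : A →ₗ[k] A)
  have hδ0 : ∀ c ∈ 𝒜 0, δ c = 0 := by
    intro c hc
    have := hhom 0 c hc
    rw [zero_add, hd] at this
    exact (Submodule.mem_bot k).1 this
  have hS₀mul : ∀ c ∈ 𝒜 0, ∀ y ∈ S₀, c * y ∈ S₀ := by
    rintro c hc _ ⟨e, he, rfl⟩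
    refine ⟨c * e, ?_, ?_⟩
    · have := SetLike.mul_mem_graded hc he
      rwa [zero_add] at this
    · change δ (c * e) = c * δ e
      rw [Derivation.leibniz, hδ0 c hc, smul_zero, add_zero, smul_eq_mul]
  let T : Ideal A :=
    { carrier := {x | P x ∈ S₀}
      add_mem' := fun {x y} hx hy => by
        change P (x + y) ∈ S₀
        rw [map_add]; exact S₀.add_mem hx hy
      zero_mem' := by
        change P 0 ∈ S₀
        rw [map_zero]; exact S₀.zero_mem
      smul_mem' := fun a x hx => by
        change P (a * x) ∈ S₀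
        induction a using DirectSum.Decomposition.inductionOn 𝒜 with
        | zero => rw [zero_mul, map_zero]; exact S₀.zero_mem
        | @homogeneous v a =>
          rw [hP_mul v a a.2 x]
          by_cases hv : v = 0
          · subst hv
            apply hS₀mul _ a.2
            have key : ∀ u : Λ, u = 0 → ((DirectSum.decompose 𝒜 x u : 𝒜 u) : A) = P x := by
              rintro u rfl
              rw [hPdef, GradedRing.proj_apply]
            rw [key (-0) neg_zero]; exact hx
          · by_cases ha0 : (a : A) = 0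
            · rw [ha0, zero_mul]; exact S₀.zero_mem
            · have h1 : 𝒜 v ≠ ⊥ := fun h => ha0 ((Submodule.mem_bot k).1 (h ▸ a.2))
              have h2 : ((DirectSum.decompose 𝒜 x (-v) : 𝒜 (-v)) : A) = 0 := by
                by_contra hne
                apply hv
                apply hpos v h1
                intro h
                exact hne ((Submodule.mem_bot k).1 (h ▸ (DirectSum.decompose 𝒜 x (-v)).2))
              rw [h2, mul_zero]; exact S₀.zero_mem
        | add a b ha hb =>
          rw [add_mul, map_add]; exact S₀.add_mem ha hb }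
  have hTmem : ∀ x : A, x ∈ T ↔ P x ∈ S₀ := fun x => Iff.rfl
  have hgen1 : ∀ w : Λ, w ≠ 0 → ∀ b ∈ 𝒜 w, b ∈ T := by
    intro w hw b hb
    rw [hTmem, hP_ne w hw b hb]; exact S₀.zero_mem
  have hgen2 : ∀ e : A, δ e ∈ T := by
    intro e
    rw [hTmem]
    induction e using DirectSum.Decomposition.inductionOn 𝒜 with
    | zero => rw [map_zero, map_zero]; exact S₀.zero_mem
    | @homogeneous w e =>
      by_cases hw : w + d = 0
      · have hwd : w = -d := eq_neg_of_add_eq_zero_left hw
        have h1 : δ (e : A) ∈ 𝒜 0 := hw ▸ hhom w e e.2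
        rw [hP_same _ h1]
        exact ⟨e, hwd ▸ e.2, rfl⟩
      · rw [hP_ne (w + d) hw _ (hhom w e e.2)]; exact S₀.zero_mem
    | add a b ha hb =>
      rw [map_add, map_add]; exact S₀.add_mem ha hb
  have hT : T = ⊤ := by
    by_contra hne
    obtain ⟨m, hm, hTm⟩ := Ideal.exists_le_maximal T hne
    exact hfix m hm (fun w hw x hx => hTm (hgen1 w hw x hx))
      (by rintro _ ⟨e, rfl⟩; exact hTm (hgen2 e))
  have h1 : (1 : A) ∈ T := hT ▸ Submodule.mem_top
  rw [hTmem, hP_same 1 (SetLike.one_mem_graded 𝒜)] at h1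
  obtain ⟨s, hs, hs1⟩ := h1
  exact ⟨s, hs, hs1⟩

end H5S15121

/-- Let k be a field of characteristic zero and A a commutative k-algebra graded by a finitely generated
free abelian group Λ (the character group of a torus acting on Spec A) whose grading monoid is
positive: if the pieces of degrees w and −w are both non-zero then w = 0. Let δ be a locally
nilpotent k-derivation of A (an action of the additive group) that is homogeneous of degree d, with
the piece of degree d equal to zero (the graded condition on the Lie algebra weight). Suppose that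
no maximal ideal of A contains both all graded pieces of non-zero degree and the image of δ (every
torus-fixed closed point has trivial stabiliser under the additive group). Then δ has a homogeneous
slice: some s of degree −d with δ s = 1. (The published statement is for the coordinate ring of an
affine variety over an algebraically closed field of characteristic zero and concludes moreover that
the quotient map by the additive group is a trivial principal bundle, which follows from the slice
by a standard argument not restated here; this row keeps the algebraic content, for any such graded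
algebra.) -/
theorem result
    (k : Type u) [Field k] [CharZero k]
    (A : Type v) [CommRing A] [Algebra k A]
    (Λ : Type w) [AddCommGroup Λ] [DecidableEq Λ] [Module.Free ℤ Λ] [Module.Finite ℤ Λ]
    (𝒜 : Λ → Submodule k A) [GradedAlgebra 𝒜]
    (hpos : ∀ w : Λ, 𝒜 w ≠ ⊥ → 𝒜 (-w) ≠ ⊥ → w = 0)
    (δ : Derivation k A A) (hnil : ∀ a : A, ∃ n : ℕ, ((δ : A →ₗ[k] A) ^ n) a = 0)
    (d : Λ) (hhom : ∀ (w : Λ) (a : A), a ∈ 𝒜 w → δ a ∈ 𝒜 (w + d)) (hd : 𝒜 d = ⊥)
    (hfix : ∀ m : Ideal A, m.IsMaximal → (∀ w : Λ, w ≠ 0 → (𝒜 w : Set A) ⊆ m) → ¬ (Set.range δ ⊆ m)) :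
    ∃ s ∈ 𝒜 (-d), δ s = 1 := by
  exact H5S15121.main k A Λ 𝒜 hpos δ d hhom hd hfix

end Groth.Agent.S15121
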