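import Groth.Statements.S15122
import Mathlib

set_option autoImplicit false
universe u v w
open GIT

namespace Groth.Agent.S15122

section Helpers

open DirectSum HomogeneousIdeal

theorem main
    (R : Type u) (A : Type v) (B : Type w) [CommRing R] [CommRing A] [CommRing B] [Algebra R A] [Algebra R B]
    [Algebra A B] [IsScalarTower R A B]
    (𝒜 : ℕ → Submodule R A) [GradedAlgebra 𝒜] (ℬ : ℕ → Submodule R B) [GradedAlgebra ℬ]
    (σ : A) (hσ0 : σ ∈ 𝒜 0) [IsLocalization.Away σ B]
    (ι : 𝒜 →+*ᵍ ℬ) (hι : ∀ a : A, ι a = algebraMap A B a) :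
    (HomogeneousIdeal.irrelevant 𝒜).map ι = HomogeneousIdeal.irrelevant ℬ := by
  apply le_antisymm
  · rw [map_le_iff_le_comap, irrelevant_le]
    intro i hi a ha
    replace ha : a ∈ 𝒜 i := ha
    show ι a ∈ HomogeneousIdeal.irrelevant ℬ
    have : ι a ∈ ℬ i := by
      have h := ι.map_directSumDecompose (x := a) (i := i)
      rw [decompose_of_mem_same 𝒜 ha] at h
      rw [h]
      exact SetLike.coe_mem _
    exact mem_irrelevant_of_mem ℬ hi this
  · rw [irrelevant_le]
    intro i hi b hb
    replace hb : b ∈ ℬ i := hb
    show b ∈ (HomogeneousIdeal.irrelevant 𝒜).toIdeal.map ι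
    obtain ⟨n, a, hna⟩ := IsLocalization.Away.surj σ b
    -- b * ι σ ^ n = ι a
    have hσB : ι σ ∈ ℬ 0 := by
      have h := ι.map_directSumDecompose (x := σ) (i := 0)
      rw [decompose_of_mem_same 𝒜 hσ0] at h
      rw [h]
      exact SetLike.coe_mem _
    have hpow : (ι σ) ^ n ∈ ℬ 0 := by
      have := SetLike.pow_mem_graded n hσB
      simpa using this
    have hmem : b * (ι σ) ^ n ∈ ℬ i := by
      have := SetLike.GradedMul.mul_mem hb hpow
      simpa using this
    have heq : b * (ι σ) ^ n = ι (decompose 𝒜 a i : A) := by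
      rw [ι.map_directSumDecompose, hι a, ← hna, ← hι σ, decompose_of_mem_same ℬ hmem]
    have hai : (decompose 𝒜 a i : A) ∈ HomogeneousIdeal.irrelevant 𝒜 :=
      mem_irrelevant_of_mem 𝒜 hi (SetLike.coe_mem _)
    have hunit : IsUnit (ι σ) := by
      rw [hι]; exact IsLocalization.Away.algebraMap_isUnit σ
    obtain ⟨u, hu⟩ := hunit
    have hb' : b = ι (decompose 𝒜 a i : A) * ((u⁻¹ : Bˣ) : B) ^ n := by
      rw [← heq, ← hu, mul_assoc, ← mul_pow, Units.mul_inv, one_pow, mul_one]
    rw [hb']
    exact Ideal.mul_mem_right _ _ (Ideal.mem_map_of_mem _ hai)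

end Helpers

/-- Let R be a commutative ring, A a commutative R-algebra graded by the natural numbers, σ a
homogeneous element of degree zero, and B the localisation of A away from σ, equipped with a grading
by the natural numbers for which the localisation map ι : A → B is a graded ring homomorphism (such
a grading is necessarily the one induced from A). Then the homogeneous ideal of B generated by the
image of the irrelevant ideal of A is the whole irrelevant ideal of B; in other words the induced
rational map from Proj B to Proj A is defined everywhere. (The published statement also assumes σ a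
non-zero-divisor, which this step does not use, and goes on to conclude that Proj B → Proj A is an
open immersion onto the basic open set of σ.) -/
theorem result
    (R : Type u) (A : Type v) (B : Type w) [CommRing R] [CommRing A] [CommRing B] [Algebra R A] [Algebra R B]
    [Algebra A B] [IsScalarTower R A B]
    (𝒜 : ℕ → Submodule R A) [GradedAlgebra 𝒜] (ℬ : ℕ → Submodule R B) [GradedAlgebra ℬ]
    (σ : A) (hσ0 : σ ∈ 𝒜 0) [IsLocalization.Away σ B]
    (ι : 𝒜 →+*ᵍ ℬ) (hι : ∀ a : A, ι a = algebraMap A B a) :
    (HomogeneousIdeal.irrelevant 𝒜).map ι = HomogeneousIdeal.irrelevant ℬ := by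
  exact main R A B 𝒜 ℬ σ hσ0 ι hι

end Groth.Agent.S15122
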