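import Groth.Statements.S15124
import Groth.Agent.Lib.helper29.AddDiag

set_option autoImplicit false
universe u v w
open InvQ

namespace Groth.Agent.S15124

open Groth.Agent.H29AddDiag Groth.Agent.H12Comod

theorem p_mul_eigen {k : Type u} [Field k] {Λ : Type v} [AddCommGroup Λ]
    {R : Type w} [CommRing R] [Algebra k R]
    [HopfRep.Comod k (AddMonoidAlgebra k Λ) R] [GLin.IsCoactAlg k (AddMonoidAlgebra k Λ) R]
    (m w : Λ) (a g : R)
    (hg : g ∈ HopfRep.eigenspace k (AddMonoidAlgebra k Λ) R (AddMonoidAlgebra.single w 1)) :
    p k m (a * g) = p k (m - w) a * g := by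
  have hg' : HopfRep.Comod.coact (k := k) (A := AddMonoidAlgebra k Λ) g =
      g ⊗ₜ[k] AddMonoidAlgebra.single w (1 : k) := hg
  show T R (coord k m) (HopfRep.Comod.coact (k := k) (A := AddMonoidAlgebra k Λ) (a * g)) =
    T R (coord k (m - w)) (HopfRep.Comod.coact (k := k) (A := AddMonoidAlgebra k Λ) a) * g
  rw [GLin.IsCoactAlg.coact_mul, hg']
  generalize HopfRep.Comod.coact (k := k) (A := AddMonoidAlgebra k Λ) a = t
  induction t using TensorProduct.induction_on with
  | zero => simp
  | tmul r c =>
    rw [Algebra.TensorProduct.tmul_mul_tmul, T_tmul, T_tmul]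
    have : coord k m (c * AddMonoidAlgebra.single w (1 : k)) = coord k (m - w) c := by
      show (c * AddMonoidAlgebra.single w (1 : k)).coeff m = c.coeff (m - w)
      rw [AddMonoidAlgebra.coeff_mul_single_apply, mul_one, sub_eq_add_neg]
    rw [this, smul_mul_assoc]
  | add x y hx hy => rw [add_mul, map_add, hx, hy, map_add, add_mul]

/-- Let k be an algebraically closed field of characteristic zero, Λ a finitely generated free abelian
group with group algebra k[Λ] (the coordinate Hopf algebra of a torus T), and R a reduced finitely
generated commutative k-algebra with a multiplicative coaction of k[Λ] (an action of T on the affine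
variety X = Spec R) whose grading monoid is positive: if R has non-zero eigenvectors of weights w
and −w then w = 0. Let I be the ideal of R generated by all eigenvectors of non-zero weight (the
ideal of the fixed-point subscheme X^T). Then the composite of the inclusion of the ring of
invariants R^T into R with the projection R → R/I is bijective: the fixed-point subscheme maps
isomorphically onto the affine quotient Spec R^T. (The published statement phrases this as: X^T is
affine and X → X^T is a good quotient; the good-quotient property itself is not restated here.) -/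
theorem result
    (k : Type u) [Field k] [IsAlgClosed k] [CharZero k]
    (Λ : Type v) [AddCommGroup Λ] [Module.Free ℤ Λ] [Module.Finite ℤ Λ]
    (R : Type w) [CommRing R] [Algebra k R] [Algebra.FiniteType k R] [IsReduced R]
    [HopfRep.Comod k (AddMonoidAlgebra k Λ) R] [GLin.IsCoactAlg k (AddMonoidAlgebra k Λ) R]
    (hpos : ∀ w : Λ, HopfRep.eigenspace k (AddMonoidAlgebra k Λ) R (AddMonoidAlgebra.single w 1) ≠ ⊥ →
      HopfRep.eigenspace k (AddMonoidAlgebra k Λ) R (AddMonoidAlgebra.single (-w) 1) ≠ ⊥ → w = 0) :
    Function.Bijective
      ((Ideal.Quotient.mkₐ k (Ideal.span {f : R | ∃ w : Λ, w ≠ 0 ∧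
          f ∈ HopfRep.eigenspace k (AddMonoidAlgebra k Λ) R (AddMonoidAlgebra.single w 1)})).comp
        (GLin.invariants k (AddMonoidAlgebra k Λ) R).val) := by
  classical
  set I : Ideal R := Ideal.span {f : R | ∃ w : Λ, w ≠ 0 ∧
    f ∈ HopfRep.eigenspace k (AddMonoidAlgebra k Λ) R (AddMonoidAlgebra.single w 1)} with hI
  have hmkp : ∀ (m : Λ) (f : R), m ≠ 0 → Ideal.Quotient.mk I (p k m f) = 0 := by
    intro m f hm
    rw [Ideal.Quotient.eq_zero_iff_mem]
    exact Ideal.subset_span ⟨m, hm, coact_p m f⟩
  have hp0inv : ∀ f : R, p k (0 : Λ) f ∈ GLin.invariants k (AddMonoidAlgebra k Λ) R := by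
    intro f
    have := coact_p (k := k) (0 : Λ) f
    show HopfRep.Comod.coact (k := k) (A := AddMonoidAlgebra k Λ) (p k (0 : Λ) f) = _
    rw [this, AddMonoidAlgebra.one_def]
  constructor
  · -- injective
    rw [injective_iff_map_eq_zero]
    intro f hf
    have hfI : (f : R) ∈ I := Ideal.Quotient.eq_zero_iff_mem.mp hf
    have key : ∀ g ∈ I, ∀ a : R, p k (0 : Λ) (a * g) = 0 := by
      intro g hg
      induction hg using Submodule.span_induction with
      | mem g hg =>
        obtain ⟨w, hw, hgw⟩ := hg
        intro a
        rw [p_mul_eigen 0 w a g hgw]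
        by_cases h1 : p k (0 - w) a = 0
        · rw [h1, zero_mul]
        · by_cases h2 : g = 0
          · rw [h2, mul_zero]
          · exfalso
            apply hw
            apply hpos w
            · intro hbot
              have : g ∈ (⊥ : Submodule k R) := hbot ▸ hgw
              exact h2 ((Submodule.mem_bot k).mp this)
            · intro hbot
              have hmem : p k (0 - w) a ∈ HopfRep.eigenspace k (AddMonoidAlgebra k Λ) R
                  (AddMonoidAlgebra.single (-w) 1) := by
                have := coact_p (k := k) (0 - w) a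
                rw [zero_sub] at this ⊢
                exact this
              rw [hbot] at hmem
              exact h1 ((Submodule.mem_bot k).mp hmem)
      | zero => intro a; rw [mul_zero, map_zero]
      | add x y _ _ hx hy => intro a; rw [mul_add, map_add, hx a, hy a, add_zero]
      | smul b x _ hx => intro a; rw [smul_eq_mul, ← mul_assoc]; exact hx (a * b)
    have h1 := key _ hfI 1
    rw [one_mul] at h1
    have h2 : p k (0 : Λ) (f : R) = f := by
      have hf' : HopfRep.Comod.coact (k := k) (A := AddMonoidAlgebra k Λ) (f : R) =
          (f : R) ⊗ₜ[k] (1 : AddMonoidAlgebra k Λ) := f.2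
      show T R (coord k (0 : Λ)) (HopfRep.Comod.coact (k := k) (A := AddMonoidAlgebra k Λ) (f : R)) = f
      rw [hf', T_tmul, AddMonoidAlgebra.one_def, coord_single, if_pos rfl, one_smul]
    apply Subtype.ext
    show (f : R) = 0
    rw [← h2, h1]
  · -- surjective
    intro q
    obtain ⟨f, rfl⟩ := Ideal.Quotient.mk_surjective q
    refine ⟨⟨p k (0 : Λ) f, hp0inv f⟩, ?_⟩
    show Ideal.Quotient.mk I (p k (0 : Λ) f) = Ideal.Quotient.mk I f
    conv_rhs => rw [sum_p (k := k) (M := Λ) f, map_sum]
    have h1 : ∀ m ∈ (ex (k := k) (M := Λ) f).support, Ideal.Quotient.mk I (p k m f) =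
        if m = 0 then Ideal.Quotient.mk I (p k (0 : Λ) f) else 0 := by
      intro m _
      split_ifs with hm
      · rw [hm]
      · exact hmkp m f hm
    rw [Finset.sum_congr rfl h1, Finset.sum_ite_eq']
    split_ifs with h0
    · rfl
    · rw [Finsupp.notMem_support_iff, ex_apply] at h0
      rw [h0, map_zero]

end Groth.Agent.S15124
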