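import Groth.Statements.S15126
import Mathlib

set_option autoImplicit false
universe u
open Formal

namespace Groth.Agent.S15126

section Helpers

open MvPowerSeries

section
variable (k : Type u) [Field k] (σ : Type) [DecidableEq σ]
  (R : Type u) [CommRing R] [Algebra (MvPowerSeries σ k) R]

/-- the generators -/
abbrev Gen := R × (σ →₀ ℕ)

/-- relations -/
inductive Rel : MvPolynomial (Gen σ R) k → Prop
  | add (r s : R) (α : σ →₀ ℕ) :
      Rel (MvPolynomial.X (r + s, α) - MvPolynomial.X (r, α) - MvPolynomial.X (s, α))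
  | mul (r s : R) (α : σ →₀ ℕ) :
      Rel (MvPolynomial.X (r * s, α) -
        ∑ p ∈ Finset.HasAntidiagonal.antidiagonal α, MvPolynomial.X (r, p.1) * MvPolynomial.X (s, p.2))
  | alg (c : MvPowerSeries σ k) (α : σ →₀ ℕ) :
      Rel (MvPolynomial.X (algebraMap (MvPowerSeries σ k) R c, α) - MvPolynomial.C (coeff α c))

noncomputable abbrev relIdeal : Ideal (MvPolynomial (Gen σ R) k) := Ideal.span {p | Rel k σ R p}

abbrev PP := MvPolynomial (Gen σ R) k ⧸ relIdeal k σ R

noncomputable def gen (r : R) (α : σ →₀ ℕ) : PP k σ R :=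
  Ideal.Quotient.mk (relIdeal k σ R) (MvPolynomial.X (r, α))

theorem gen_add (r s : R) (α : σ →₀ ℕ) : gen k σ R (r + s) α = gen k σ R r α + gen k σ R s α := by
  have : MvPolynomial.X (r + s, α) - MvPolynomial.X (r, α) - MvPolynomial.X (s, α) ∈ relIdeal k σ R :=
    Ideal.subset_span (Rel.add r s α)
  have h := (Ideal.Quotient.eq_zero_iff_mem).2 this
  rw [map_sub, map_sub, sub_sub, sub_eq_zero] at h
  rw [gen, h]; rfl

theorem gen_mul (r s : R) (α : σ →₀ ℕ) : gen k σ R (r * s) α =
    ∑ p ∈ Finset.HasAntidiagonal.antidiagonal α, gen k σ R r p.1 * gen k σ R s p.2 := by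
  have : MvPolynomial.X (r * s, α) -
        ∑ p ∈ Finset.HasAntidiagonal.antidiagonal α, MvPolynomial.X (r, p.1) * MvPolynomial.X (s, p.2) ∈
          relIdeal k σ R :=
    Ideal.subset_span (Rel.mul r s α)
  have h := (Ideal.Quotient.eq_zero_iff_mem).2 this
  rw [map_sub, sub_eq_zero] at h
  rw [gen, h, map_sum]
  simp only [map_mul]
  rfl

theorem gen_alg (c : MvPowerSeries σ k) (α : σ →₀ ℕ) :
    gen k σ R (algebraMap (MvPowerSeries σ k) R c) α = algebraMap k (PP k σ R) (coeff α c) := by
  have : MvPolynomial.X (algebraMap (MvPowerSeries σ k) R c, α) - MvPolynomial.C (coeff α c) ∈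
          relIdeal k σ R :=
    Ideal.subset_span (Rel.alg c α)
  have h := (Ideal.Quotient.eq_zero_iff_mem).2 this
  rw [map_sub, sub_eq_zero] at h
  rw [gen, h]
  rfl

/-- the universal map -/
noncomputable def uFun (r : R) : MvPowerSeries σ (PP k σ R) := fun α => gen k σ R r α

theorem coeff_uFun (r : R) (α : σ →₀ ℕ) : coeff α (uFun k σ R r) = gen k σ R r α := rfl

noncomputable def uHom : R →ₐ[MvPowerSeries σ k] MvPowerSeries σ (PP k σ R) :=
  AlgHom.ofLinearMap
    { toFun := uFun k σ R
      map_add' := fun r s => by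
        ext α
        rw [map_add, coeff_uFun, coeff_uFun, coeff_uFun, gen_add]
      map_smul' := fun c r => by
        ext α
        rw [RingHom.id_apply, Algebra.smul_def, Algebra.smul_def, coeff_uFun, gen_mul, coeff_mul]
        apply Finset.sum_congr rfl
        intro p _
        rw [gen_alg, coeff_uFun]
        rfl }
    (by
      ext α
      change coeff α (uFun k σ R 1) = _
      rw [coeff_uFun, ← map_one (algebraMap (MvPowerSeries σ k) R), gen_alg]
      rw [coeff_one, coeff_one]
      split_ifs <;> simp)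
    (fun r s => by
      ext α
      change coeff α (uFun k σ R (r * s)) = coeff α (uFun k σ R r * uFun k σ R s)
      rw [coeff_uFun, gen_mul, coeff_mul]
      rfl)

theorem coeff_uHom (r : R) (α : σ →₀ ℕ) : coeff α (uHom k σ R r) = gen k σ R r α := rfl

section univ
variable {k σ R}
variable (Q : Type u) [CommRing Q] [Algebra k Q]
  (f : R →ₐ[MvPowerSeries σ k] MvPowerSeries σ Q)

noncomputable def gPre : MvPolynomial (Gen σ R) k →ₐ[k] Q :=
  MvPolynomial.aeval (fun g : Gen σ R => coeff g.2 (f g.1))

theorem gPre_rel : ∀ a ∈ relIdeal k σ R, gPre Q f a = 0 := by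
  intro a ha
  have hle : relIdeal k σ R ≤ RingHom.ker (gPre Q f).toRingHom := by
    rw [relIdeal, Ideal.span_le]
    intro p hp
    rw [SetLike.mem_coe, RingHom.mem_ker]
    change gPre Q f p = 0
    cases hp with
    | add r s α =>
      simp only [gPre, map_sub, MvPolynomial.aeval_X, map_add]
      ring
    | mul r s α =>
      simp only [gPre, map_sub, MvPolynomial.aeval_X, map_mul, map_sum, coeff_mul]
      rw [sub_self]
    | alg c α =>
      simp only [gPre, map_sub, MvPolynomial.aeval_X, MvPolynomial.aeval_C]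
      rw [f.commutes]
      change coeff α (map (algebraMap k Q) c) - _ = 0
      rw [coeff_map, sub_self]
  exact hle ha

noncomputable def gHom : PP k σ R →ₐ[k] Q :=
  Ideal.Quotient.liftₐ (relIdeal k σ R) (gPre Q f) (gPre_rel Q f)

theorem gHom_gen (r : R) (α : σ →₀ ℕ) : gHom Q f (gen k σ R r α) = coeff α (f r) := by
  change gPre Q f (MvPolynomial.X (r, α)) = _
  rw [gPre, MvPolynomial.aeval_X]

theorem gHom_spec :
    (MvPowerSeries.map (σ := σ) (gHom Q f : PP k σ R →+* Q)).comp
      (uHom k σ R : R →+* MvPowerSeries σ (PP k σ R)) = (f : R →+* MvPowerSeries σ Q) := by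
  ext r α
  change coeff α (map (gHom Q f : PP k σ R →+* Q) (uHom k σ R r)) = coeff α (f r)
  rw [coeff_map, coeff_uHom]
  exact gHom_gen Q f r α

theorem gHom_unique (g' : PP k σ R →ₐ[k] Q)
    (h : (MvPowerSeries.map (σ := σ) (g' : PP k σ R →+* Q)).comp
      (uHom k σ R : R →+* MvPowerSeries σ (PP k σ R)) = (f : R →+* MvPowerSeries σ Q)) :
    g' = gHom Q f := by
  apply Ideal.Quotient.algHom_ext
  apply MvPolynomial.algHom_ext
  rintro ⟨r, α⟩
  change g' (gen k σ R r α) = gHom Q f (gen k σ R r α)
  rw [gHom_gen]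
  have := congrArg (fun φ : R →+* MvPowerSeries σ Q => coeff α (φ r)) h
  change coeff α (map (g' : PP k σ R →+* Q) (uHom k σ R r)) = coeff α (f r) at this
  rw [coeff_map, coeff_uHom] at this
  exact this

end univ

section countable
variable {k σ R}

theorem gen_mem_of_adjoin (s : Set R) (hs : Algebra.adjoin (MvPowerSeries σ k) s = ⊤)
    (P' : Subalgebra k (PP k σ R)) (hP' : ∀ r ∈ s, ∀ α, gen k σ R r α ∈ P') (r : R) (α : σ →₀ ℕ) :
    gen k σ R r α ∈ P' := by
  let S' : Subalgebra (MvPowerSeries σ k) R :=
    { carrier := {r | ∀ α, gen k σ R r α ∈ P'}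
      mul_mem' := fun {a b} ha hb α => by
        rw [gen_mul]
        exact Subalgebra.sum_mem _ fun p _ => Subalgebra.mul_mem _ (ha _) (hb _)
      add_mem' := fun {a b} ha hb α => by
        rw [gen_add]
        exact Subalgebra.add_mem _ (ha _) (hb _)
      algebraMap_mem' := fun c α => by
        rw [gen_alg]
        exact Subalgebra.algebraMap_mem _ _ }
  have hle : Algebra.adjoin (MvPowerSeries σ k) s ≤ S' := Algebra.adjoin_le hP'
  rw [hs] at hle
  exact hle (Algebra.mem_top (x := r)) α

theorem adjoin_gen_top (P' : Subalgebra k (PP k σ R)) (hP' : ∀ r α, gen k σ R r α ∈ P') :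
    P' = ⊤ := by
  rw [eq_top_iff]
  rintro x -
  obtain ⟨p, rfl⟩ := Ideal.Quotient.mk_surjective x
  induction p using MvPolynomial.induction_on with
  | C a => exact Subalgebra.algebraMap_mem P' a
  | add p q hp hq => rw [map_add]; exact Subalgebra.add_mem _ hp hq
  | mul_X p i hp =>
    rw [map_mul]
    exact Subalgebra.mul_mem _ hp (hP' i.1 i.2)

theorem countable_gen [Countable σ] (s : Set R) (hsc : s.Countable)
    (hs : Algebra.adjoin (MvPowerSeries σ k) s = ⊤) :
    ∃ t : Set (PP k σ R), t.Countable ∧ Algebra.adjoin k t = ⊤ := by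
  refine ⟨(fun p : R × (σ →₀ ℕ) => gen k σ R p.1 p.2) '' (s ×ˢ Set.univ), ?_, ?_⟩
  · exact (hsc.prod Set.countable_univ).image _
  · apply adjoin_gen_top
    intro r α
    apply gen_mem_of_adjoin s hs
    intro r hr α
    exact Algebra.subset_adjoin ⟨(r, α), ⟨hr, Set.mem_univ _⟩, rfl⟩

end countable

end

theorem main
    (k : Type u) [Field k] (n : ℕ) (hn : 0 < n)
    (R : Type u) [CommRing R] [Algebra (MvPowerSeries (Fin n) k) R] :
    ∃ (P : Type u) (_ : CommRing P) (_ : Algebra k P)
      (u : R →ₐ[MvPowerSeries (Fin n) k] MvPowerSeries (Fin n) P),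
      (∀ (Q : Type u) [CommRing Q] [Algebra k Q]
          (f : R →ₐ[MvPowerSeries (Fin n) k] MvPowerSeries (Fin n) Q),
          ∃! g : P →ₐ[k] Q,
            (MvPowerSeries.map (σ := Fin n) (g : P →+* Q)).comp (u : R →+* MvPowerSeries (Fin n) P) =
              (f : R →+* MvPowerSeries (Fin n) Q)) ∧
      ((∃ s : Set R, s.Countable ∧ Algebra.adjoin (MvPowerSeries (Fin n) k) s = ⊤) →
        ∃ t : Set P, t.Countable ∧ Algebra.adjoin k t = ⊤) := by
  refine ⟨PP k (Fin n) R, inferInstance, inferInstance, uHom k (Fin n) R, ?_, ?_⟩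
  · intro Q _ _ f
    exact ⟨gHom Q f, gHom_spec Q f, fun g' h => gHom_unique Q f g' h⟩
  · rintro ⟨s, hsc, hs⟩
    exact countable_gen s hsc hs

end Helpers

/-- Affine case. Let k be a field, n > 0, and R a commutative algebra over the power series ring
k[[z_1,…,z_n]]; for a commutative k-algebra Q regard Q[[z_1,…,z_n]] as a k[[z]]-algebra
coefficientwise. Then the functor Q ↦ Hom_{k[[z]]-alg}(R, Q[[z]]) on commutative k-algebras is
corepresentable: there exist a commutative k-algebra P and a k[[z]]-algebra homomorphism u : R →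
P[[z]] such that every k[[z]]-algebra homomorphism R → Q[[z]] arises from u by applying a unique
k-algebra homomorphism P → Q coefficientwise. If moreover R is countably generated as a
k[[z]]-algebra, P may be taken countably generated over k. (The published statement is for an adic
formal scheme Y over the formal disc Spf k[[z]], asserting that the sheaf of sections of Y over the
disc is a scheme, affine over the fibre of Y at the origin, and of pro-finite type when Y is; this
row is the case Y = Spf R, to which the published argument reduces, stated for the underlying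
algebra R; k is algebraically closed there, which is not used.) -/
theorem result
    (k : Type u) [Field k] (n : ℕ) (hn : 0 < n)
    (R : Type u) [CommRing R] [Algebra (MvPowerSeries (Fin n) k) R] :
    ∃ (P : Type u) (_ : CommRing P) (_ : Algebra k P)
      (u : R →ₐ[MvPowerSeries (Fin n) k] MvPowerSeries (Fin n) P),
      (∀ (Q : Type u) [CommRing Q] [Algebra k Q]
          (f : R →ₐ[MvPowerSeries (Fin n) k] MvPowerSeries (Fin n) Q),
          ∃! g : P →ₐ[k] Q,
            (MvPowerSeries.map (σ := Fin n) (g : P →+* Q)).comp (u : R →+* MvPowerSeries (Fin n) P) =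
              (f : R →+* MvPowerSeries (Fin n) Q)) ∧
      ((∃ s : Set R, s.Countable ∧ Algebra.adjoin (MvPowerSeries (Fin n) k) s = ⊤) →
        ∃ t : Set P, t.Countable ∧ Algebra.adjoin k t = ⊤) := by
  exact main k n hn R

end Groth.Agent.S15126
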