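import Groth.Statements.S15128
import Groth.Agent.Lib.helper21.LocalCrit

set_option autoImplicit false
universe u v
open CAlg

namespace Groth.Agent.S15128

open TensorProduct Groth.Agent.H21

theorem ker_residue (A : Type u) [CommRing A] [IsLocalRing A] :
    LinearMap.ker (Algebra.linearMap A (IsLocalRing.ResidueField A)) = IsLocalRing.maximalIdeal A := by
  ext a
  rw [LinearMap.mem_ker, Algebra.linearMap_apply]
  exact IsLocalRing.residue_eq_zero_iff a

section
variable (A : Type u) [CommRing A] [IsLocalRing A] {M : Type v} [AddCommGroup M] [Module A M]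

lemma one_tmul_eq_zero_iff' (x : M) :
    (1 : IsLocalRing.ResidueField A) ⊗ₜ[A] x = 0 ↔
      x ∈ IsLocalRing.maximalIdeal A • (⊤ : Submodule A M) :=
  one_tmul_eq_zero_iff (IsLocalRing.maximalIdeal A) x

lemma exists_one_tmul' (t : (IsLocalRing.ResidueField A) ⊗[A] M) :
    ∃ x : M, (1 : IsLocalRing.ResidueField A) ⊗ₜ[A] x = t :=
  exists_one_tmul (IsLocalRing.maximalIdeal A) t

end

theorem result
    (A : Type u) [CommRing A] [IsLocalRing A] [IsArtinianRing A]
    (P L : Type v) [AddCommGroup P] [Module A P] [AddCommGroup L] [Module A L]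
    [Module.Flat A P] [Module.Flat A L] (h : P →ₗ[A] L) :
    (Function.Injective (h.lTensor (IsLocalRing.ResidueField A)) → Function.Injective h) ∧
    (Function.Surjective (h.lTensor (IsLocalRing.ResidueField A)) → Function.Surjective h) := by
  have hnil := isNilpotent_maximalIdeal A
  constructor
  · intro hi
    set R₀ := LinearMap.range h with hR₀
    let h₀ : P →ₗ[A] R₀ := h.rangeRestrict
    have hh₀ : Function.Surjective h₀ := h.surjective_rangeRestrict
    have hfac : h = R₀.subtype ∘ₗ h₀ := by ext p; rfl
    -- a. ι ⊗ k injective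
    have ha : Function.Injective (R₀.subtype.lTensor (IsLocalRing.ResidueField A)) := by
      rw [injective_iff_map_eq_zero]
      intro w hw
      obtain ⟨v, rfl⟩ := LinearMap.lTensor_surjective (IsLocalRing.ResidueField A) hh₀ w
      have : h.lTensor (IsLocalRing.ResidueField A) v = 0 := by
        rw [hfac, LinearMap.lTensor_comp, LinearMap.comp_apply]; exact hw
      have hv : v = 0 := hi (by rw [this, map_zero])
      rw [hv, map_zero]
    -- b. C flat
    have hex : Function.Exact R₀.subtype R₀.mkQ := by
      intro y
      rw [Submodule.mkQ_apply, Submodule.Quotient.mk_eq_zero]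
      constructor
      · intro hy; exact ⟨⟨y, hy⟩, rfl⟩
      · rintro ⟨z, rfl⟩; exact z.2
    have hC : Module.Flat A (L ⧸ R₀) :=
      flat_of_lTensor_maximalIdeal_inj (L ⧸ R₀)
        (lTensor_inj_of_exact R₀.subtype R₀.mkQ (Submodule.mkQ_surjective _) hex
          (Algebra.linearMap A (IsLocalRing.ResidueField A)) IsLocalRing.residue_surjective
          (IsLocalRing.maximalIdeal A) (ker_residue A) ha)
    -- c. R₀ flat
    have hR : Module.Flat A R₀ :=
      flat_of_exact_left R₀.subtype R₀.mkQ Subtype.val_injective (Submodule.mkQ_surjective _) hex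
    -- d.
    set K := LinearMap.ker h₀ with hK
    have hexK : Function.Exact K.subtype h₀ := LinearMap.exact_subtype_ker_map h₀
    have hd : Function.Injective (K.subtype.lTensor (IsLocalRing.ResidueField A)) :=
      LinearMap.lTensor_injective_of_exact_of_flat h₀ hh₀ K.subtype Subtype.val_injective hexK (IsLocalRing.ResidueField A)
    -- e.
    have he : Function.Injective (h₀.lTensor (IsLocalRing.ResidueField A)) := by
      have : h.lTensor (IsLocalRing.ResidueField A) = (R₀.subtype.lTensor (IsLocalRing.ResidueField A)) ∘ₗ (h₀.lTensor (IsLocalRing.ResidueField A)) := by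
        rw [hfac, LinearMap.lTensor_comp]
      rw [this, LinearMap.coe_comp] at hi
      exact Function.Injective.of_comp hi
    have hzero : ∀ w : (IsLocalRing.ResidueField A) ⊗[A] K, w = 0 := by
      intro w
      apply hd
      rw [map_zero]
      apply he
      rw [map_zero, ← LinearMap.comp_apply, ← LinearMap.lTensor_comp]
      have : h₀ ∘ₗ K.subtype = 0 := LinearMap.ext fun x => LinearMap.mem_ker.mp x.2
      rw [this, LinearMap.lTensor_zero, LinearMap.zero_apply]
    -- f.
    have htop : (⊤ : Submodule A K) ≤ ⊥ ⊔ IsLocalRing.maximalIdeal A • (⊤ : Submodule A K) := by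
      intro x _
      rw [bot_sup_eq, ← one_tmul_eq_zero_iff']
      exact hzero _
    have hbot := top_le_of_isNilpotent _ hnil ⊥ htop
    rw [injective_iff_map_eq_zero]
    intro p hp
    have hpK : p ∈ K := by
      rw [hK, LinearMap.mem_ker]
      exact Subtype.ext hp
    have : (⟨p, hpK⟩ : K) ∈ (⊥ : Submodule A K) := hbot Submodule.mem_top
    rw [Submodule.mem_bot] at this
    exact congrArg Subtype.val this
  · intro hs
    have htop : (⊤ : Submodule A L) ≤
        LinearMap.range h ⊔ IsLocalRing.maximalIdeal A • (⊤ : Submodule A L) := by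
      intro y _
      obtain ⟨w, hw⟩ := hs ((1 : IsLocalRing.ResidueField A) ⊗ₜ[A] y)
      obtain ⟨p, rfl⟩ := exists_one_tmul' A w
      rw [LinearMap.lTensor_tmul] at hw
      have h3 : y - h p ∈ IsLocalRing.maximalIdeal A • (⊤ : Submodule A L) := by
        rw [← one_tmul_eq_zero_iff', TensorProduct.tmul_sub, hw, sub_self]
      have h4 : y = h p + (y - h p) := by abel
      rw [h4]
      exact Submodule.add_mem_sup ⟨p, rfl⟩ h3
    have := top_le_of_isNilpotent _ hnil _ htop
    intro y
    exact this Submodule.mem_top

end Groth.Agent.S15128
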