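import Groth.Statements.S15129
import Groth.Agent.Lib.helper21.LocalCrit

set_option autoImplicit false
universe u v
open CAlg

namespace Groth.Agent.S15129

theorem ker_residue (A : Type u) [CommRing A] [IsLocalRing A] :
    LinearMap.ker (Algebra.linearMap A (IsLocalRing.ResidueField A)) = IsLocalRing.maximalIdeal A := by
  ext a
  rw [LinearMap.mem_ker, Algebra.linearMap_apply]
  exact IsLocalRing.residue_eq_zero_iff a

theorem result
    (A : Type u) [CommRing A] [IsLocalRing A] [IsArtinianRing A]
    (M N P : Type v) [AddCommGroup M] [Module A M] [AddCommGroup N] [Module A N]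
    [AddCommGroup P] [Module A P] [Module.Flat A N] (f : M →ₗ[A] N) (g : N →ₗ[A] P)
    (hf : Function.Injective f) (hg : Function.Surjective g) (hfg : Function.Exact f g) :
    (Function.Injective (f.lTensor (IsLocalRing.ResidueField A)) → Module.Flat A P) ∧
    (Module.Flat A P → Module.Flat A M ∧ Function.Injective (f.lTensor (IsLocalRing.ResidueField A))) := by
  refine ⟨fun h => ?_, fun hP => ⟨?_, ?_⟩⟩
  · exact Groth.Agent.H21.flat_of_lTensor_maximalIdeal_inj P
      (Groth.Agent.H21.lTensor_inj_of_exact f g hg hfg
        (Algebra.linearMap A (IsLocalRing.ResidueField A)) IsLocalRing.residue_surjective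
        (IsLocalRing.maximalIdeal A) (ker_residue A) h)
  · exact Groth.Agent.H21.flat_of_exact_left f g hf hg hfg
  · exact LinearMap.lTensor_injective_of_exact_of_flat g hg f hf hfg _

end Groth.Agent.S15129
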