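import Groth.Statements.S15130
import Groth.Agent.S15128

set_option autoImplicit false
universe u v
open CAlg

namespace Groth.Agent.S15130

open TensorProduct Groth.Agent.H21

theorem result
    (A : Type u) [CommRing A] [IsLocalRing A] [IsArtinianRing A]
    (P Q R M : Type v) [AddCommGroup P] [Module A P] [AddCommGroup Q] [Module A Q]
    [AddCommGroup R] [Module A R] [AddCommGroup M] [Module A M]
    [Module.Flat A P] [Module.Flat A Q] [Module.Flat A R]
    (f : P →ₗ[A] Q) (g : Q →ₗ[A] R) (h : R →ₗ[A] M)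
    (hfg : g ∘ₗ f = 0) (hgh : Function.Exact g h) (hh : Function.Surjective h)
    (hred : Function.Exact (f.lTensor (IsLocalRing.ResidueField A)) (g.lTensor (IsLocalRing.ResidueField A))) :
    Module.Flat A M ∧ Function.Exact f g := by
  set B := LinearMap.range g with hB
  let g₀ : Q →ₗ[A] B := g.rangeRestrict
  have hg₀ : Function.Surjective g₀ := g.surjective_rangeRestrict
  have hgfac : g = B.subtype ∘ₗ g₀ := by ext q; rfl
  have hg₀f : g₀ ∘ₗ f = 0 :=
    LinearMap.ext fun p => Subtype.ext (by
      have := congrArg (fun φ => φ p) hfg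
      exact this)
  have hcomp : g.lTensor (IsLocalRing.ResidueField A) =
      (B.subtype.lTensor (IsLocalRing.ResidueField A)) ∘ₗ
        (g₀.lTensor (IsLocalRing.ResidueField A)) :=
    (congrArg (LinearMap.lTensor (IsLocalRing.ResidueField A)) hgfac).trans
      (LinearMap.lTensor_comp _ _ _)
  -- 0 → B → R → M → 0
  have hexB : Function.Exact B.subtype h := by
    intro r
    rw [hgh r]
    constructor
    · rintro ⟨q, rfl⟩; exact ⟨⟨g q, ⟨q, rfl⟩⟩, rfl⟩
    · rintro ⟨⟨_, ⟨q, rfl⟩⟩, rfl⟩; exact ⟨q, rfl⟩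
  have hBinj : Function.Injective (B.subtype.lTensor (IsLocalRing.ResidueField A)) := by
    rw [injective_iff_map_eq_zero]
    intro w hw
    obtain ⟨v, rfl⟩ := LinearMap.lTensor_surjective (IsLocalRing.ResidueField A) hg₀ w
    have hv : g.lTensor (IsLocalRing.ResidueField A) v = 0 := by
      rw [hcomp, LinearMap.comp_apply]; exact hw
    obtain ⟨u, rfl⟩ := (hred v).mp hv
    rw [← LinearMap.comp_apply, ← LinearMap.lTensor_comp, hg₀f, LinearMap.lTensor_zero,
      LinearMap.zero_apply]
  have hM : Module.Flat A M :=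
    flat_of_lTensor_maximalIdeal_inj M
      (lTensor_inj_of_exact B.subtype h hh hexB
        (Algebra.linearMap A (IsLocalRing.ResidueField A)) IsLocalRing.residue_surjective
        (IsLocalRing.maximalIdeal A) (Groth.Agent.S15128.ker_residue A) hBinj)
  have hBflat : Module.Flat A B :=
    flat_of_exact_left B.subtype h Subtype.val_injective hh hexB
  refine ⟨hM, ?_⟩
  -- exactness at Q
  set Z := LinearMap.ker g₀ with hZ
  have hexZ : Function.Exact Z.subtype g₀ := LinearMap.exact_subtype_ker_map g₀
  have hZflat : Module.Flat A Z :=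
    flat_of_exact_left Z.subtype g₀ Subtype.val_injective hg₀ hexZ
  have hZinj : Function.Injective (Z.subtype.lTensor (IsLocalRing.ResidueField A)) :=
    LinearMap.lTensor_injective_of_exact_of_flat g₀ hg₀ Z.subtype Subtype.val_injective hexZ _
  let f₀ : P →ₗ[A] Z := LinearMap.codRestrict Z f (fun p => by
    rw [hZ, LinearMap.mem_ker]
    exact congrArg (fun φ => φ p) hg₀f)
  have hffac : f = Z.subtype ∘ₗ f₀ := by ext p; rfl
  have hf₀surj : Function.Surjective (f₀.lTensor (IsLocalRing.ResidueField A)) := by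
    intro w
    have h1 : g.lTensor (IsLocalRing.ResidueField A)
        (Z.subtype.lTensor (IsLocalRing.ResidueField A) w) = 0 := by
      have : g₀ ∘ₗ Z.subtype = 0 := LinearMap.ext fun x => LinearMap.mem_ker.mp x.2
      rw [hcomp, LinearMap.comp_apply, ← LinearMap.comp_apply (f := LinearMap.lTensor _ g₀),
        ← LinearMap.lTensor_comp, this, LinearMap.lTensor_zero, LinearMap.zero_apply, map_zero]
    obtain ⟨u, hu⟩ := (hred _).mp h1
    refine ⟨u, hZinj ?_⟩
    rw [← hu, hffac, LinearMap.lTensor_comp, LinearMap.comp_apply]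
  have hf₀ : Function.Surjective f₀ := (Groth.Agent.S15128.result A P Z f₀).2 hf₀surj
  intro q
  constructor
  · intro hq
    have hqZ : q ∈ Z := by
      rw [hZ, LinearMap.mem_ker]
      exact Subtype.ext hq
    obtain ⟨p, hp⟩ := hf₀ ⟨q, hqZ⟩
    exact ⟨p, congrArg Subtype.val hp⟩
  · rintro ⟨p, rfl⟩
    exact congrArg (fun φ => φ p) hfg

end Groth.Agent.S15130
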