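import Groth.Statements.S15131
import Groth.Agent.Lib.helper19.ArtTorsor
import Groth.Agent.Lib.helper19.ArtInduction
import Groth.Prelude.Def_ArtFun4

set_option autoImplicit false
universe u v
open CategoryTheory
open ArtFun

namespace Groth.Agent.S15131

/-- Let k be a field and F a functor on local Artinian k-algebras with residue field k with F(k) a
single point, satisfying (H1) (the comparison map of A₁ ×_A A₂ is surjective when A₂ → A is a small
extension) and (H2) (it is bijective when A = k and A₂ = k[ε]). If the tangent space F(k[ε]) is a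
single point then F is the one-point functor: every F(A) has exactly one element. (The converse is
clear.) -/
theorem result
    {k : Type u} [Field k] (F : ArtFun.Art k k ⥤ Type v)
    (h0 : ArtFun.H0 F) (h1 : ArtFun.Hbar F) (h2 : ArtFun.Heps F)
    (ht : Subsingleton (ArtFun.TangentSpace F)) (A : ArtFun.Art k k) :
    Nonempty (F.obj A) ∧ Subsingleton (F.obj A) := by
  constructor
  · obtain ⟨x⟩ := h0.1
    exact ⟨F.map (ArtFun.Art.ofBase A) x⟩
  · have := Groth.Agent.Lib.helper19.art_surjective_induction
      (fun A₁ A₂ f => Function.Surjective f ∧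
        (Subsingleton (F.obj A₁) → Subsingleton (F.obj A₂)))
      (fun A₁ A₂ e he => ⟨(@Groth.Agent.Lib.helper19.art_bijective_of_isIso _ _ _ _ _ _ _ e he).2,
        fun h1 => ⟨fun x y => by
          have h2 : F.map e x = F.map e y := Subsingleton.elim _ _
          have := congrArg (F.map (inv e)) h2
          rwa [← Functor.map_comp_apply, ← Functor.map_comp_apply, IsIso.hom_inv_id,
            Functor.map_id_apply, Functor.map_id_apply] at this⟩⟩)
      (fun A₁ A₂ μ hμ => ⟨hμ.1, fun hA => ⟨fun y y' => by
        obtain ⟨P, p₁, p₂, hP⟩ := Groth.Agent.Lib.helper19.exists_isFibreProd μ μ hμ.1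
        obtain ⟨δ, Δ, hsq, hΔ1, hΔ2, hΔδ⟩ :=
          Groth.Agent.Lib.helper19.exists_torsor_square μ hμ p₁ p₂ hP
        obtain ⟨z, hz⟩ := h1 p₁ p₂ μ μ hP hμ ⟨(y, y'), Subsingleton.elim _ _⟩
        have hz1 : F.map p₁ z = y := congrArg (fun t => t.1.1) hz
        have hz2 : F.map p₂ z = y' := congrArg (fun t => t.1.2) hz
        have hzz : z = F.map Δ y := by
          apply (h2 p₁ δ hsq).1
          apply ArtFun.FibProd.ext
          · change F.map p₁ z = F.map p₁ (F.map Δ y)
            rw [hz1, ← Functor.map_comp_apply, hΔ1, Functor.map_id_apply]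
          · exact @Subsingleton.elim _ ht _ _
        rw [← hz2, hzz, ← Functor.map_comp_apply, hΔ2, Functor.map_id_apply]⟩⟩)
      (fun A₁ A₂ A₃ p q hp hq => ⟨hq.1.comp hp.1, fun h => hp.2 (hq.2 h)⟩)
      (ArtFun.Art.toBase A) A.res_surjective
    exact this.2 h0.2

end Groth.Agent.S15131
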