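import Groth.Statements.S15133
import Mathlib
import Groth.Agent.S15129
import Groth.Agent.S15130

set_option autoImplicit false
universe u
open CategoryTheory
open CAlg

namespace Groth.Agent.S15133

section Helpers

open TensorProduct

section
variable (A : Type u) [CommRing A] [IsLocalRing A] [IsArtinianRing A]

local notation "kk" => IsLocalRing.ResidueField A

theorem exact_precomp_surj {W F Q R : Type u} [AddCommGroup W] [Module A W] [AddCommGroup F] [Module A F]
    [AddCommGroup Q] [Module A Q] [AddCommGroup R] [Module A R]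
    (π : F →ₗ[A] W) (hπ : Function.Surjective π) (f : W →ₗ[A] Q) (g : Q →ₗ[A] R)
    (hred : Function.Exact (f.lTensor kk) (g.lTensor kk)) :
    Function.Exact ((f ∘ₗ π).lTensor kk) (g.lTensor kk) := by
  intro y
  rw [hred y]
  constructor
  · rintro ⟨x, rfl⟩
    obtain ⟨z, rfl⟩ := LinearMap.lTensor_surjective kk hπ x
    exact ⟨z, by rw [LinearMap.lTensor_comp, LinearMap.comp_apply]⟩
  · rintro ⟨z, rfl⟩
    exact ⟨π.lTensor kk z, by rw [LinearMap.lTensor_comp, LinearMap.comp_apply]⟩

theorem part1 {W Q R : Type u} [AddCommGroup W] [Module A W]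
    [AddCommGroup Q] [Module A Q] [AddCommGroup R] [Module A R] [Module.Flat A Q] [Module.Flat A R]
    (f : W →ₗ[A] Q) (g : Q →ₗ[A] R) (hfg : g ∘ₗ f = 0)
    (hred : Function.Exact (f.lTensor kk) (g.lTensor kk)) :
    Module.Flat A (R ⧸ LinearMap.range g) ∧
      ∀ y, g y = 0 → ∃ x, f x = y := by
  let π : (W →₀ A) →ₗ[A] W := Finsupp.linearCombination A id
  have hπ : Function.Surjective π := Finsupp.linearCombination_id_surjective A W
  have h := Groth.Agent.S15130.result A (W →₀ A) Q R (R ⧸ LinearMap.range g) (f ∘ₗ π) g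
    (LinearMap.range g).mkQ (by rw [← LinearMap.comp_assoc, hfg, LinearMap.zero_comp])
    (LinearMap.exact_map_mkQ_range g) (Submodule.mkQ_surjective _)
    (exact_precomp_surj A π hπ f g hred)
  refine ⟨h.1, fun y hy => ?_⟩
  obtain ⟨z, hz⟩ := (h.2 y).1 hy
  exact ⟨π z, hz⟩

theorem part2 {X0 X1 X2 : Type u} [AddCommGroup X0] [Module A X0]
    [AddCommGroup X1] [Module A X1] [AddCommGroup X2] [Module A X2] [Module.Flat A X1] [Module.Flat A X2]
    (d0 : X0 →ₗ[A] X1) (d1 : X1 →ₗ[A] X2) (h01 : d1 ∘ₗ d0 = 0)
    (hinj : Function.Injective (d0.lTensor kk))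
    (hred : Function.Exact (d0.lTensor kk) (d1.lTensor kk)) :
    Module.Flat A X0 := by
  obtain ⟨hM2, hex⟩ := part1 A d0 d1 h01 hred
  -- Z = range d1 flat
  have hZ : Module.Flat A (LinearMap.range d1) :=
    ((Groth.Agent.S15129.result A (LinearMap.range d1) X2 (X2 ⧸ LinearMap.range d1)
      (LinearMap.range d1).subtype (LinearMap.range d1).mkQ Subtype.val_injective
      (Submodule.mkQ_surjective _) (by
        have := LinearMap.exact_subtype_mkQ (LinearMap.range d1)
        exact this)).2 hM2).1
  -- B = ker d1 flat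
  have hB : Module.Flat A (LinearMap.ker d1) :=
    ((Groth.Agent.S15129.result A (LinearMap.ker d1) X1 (LinearMap.range d1)
      (LinearMap.ker d1).subtype d1.rangeRestrict Subtype.val_injective
      d1.surjective_rangeRestrict (by
        intro x
        constructor
        · intro hx
          refine ⟨⟨x, ?_⟩, rfl⟩
          rw [LinearMap.mem_ker]
          exact congrArg Subtype.val hx
        · rintro ⟨y, rfl⟩
          exact Subtype.ext y.2)).2 hZ).1
  let d0' : X0 →ₗ[A] LinearMap.ker d1 := LinearMap.codRestrict _ d0 (fun x => by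
    rw [LinearMap.mem_ker]
    exact congrArg (fun φ => φ x) h01)
  have hd0's : Function.Surjective d0' := by
    rintro ⟨b, hb⟩
    obtain ⟨x, hx⟩ := hex b hb
    exact ⟨x, Subtype.ext hx⟩
  have hfac : d0 = (LinearMap.ker d1).subtype ∘ₗ d0' := by ext x; rfl
  have hd0'i : Function.Injective (d0'.lTensor kk) := by
    have : d0.lTensor kk = ((LinearMap.ker d1).subtype.lTensor kk) ∘ₗ (d0'.lTensor kk) := by
      rw [← LinearMap.lTensor_comp, ← hfac]
    rw [this] at hinj
    exact Function.Injective.of_comp hinj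
  have hKi : Function.Injective ((LinearMap.ker d0').subtype.lTensor kk) :=
    LinearMap.lTensor_injective_of_exact_of_flat d0' hd0's (LinearMap.ker d0').subtype
      Subtype.val_injective (LinearMap.exact_subtype_ker_map d0') _
  have hK0 : ∀ x : LinearMap.ker d0', x = 0 := by
    have key : (⊤ : Submodule A (LinearMap.ker d0')) ≤ ⊥ := by
      apply Groth.Agent.H21.top_le_of_isNilpotent (IsLocalRing.maximalIdeal A)
        (Groth.Agent.H21.isNilpotent_maximalIdeal A)
      rintro x -
      refine Submodule.mem_sup_right ?_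
      rw [← Groth.Agent.S15128.one_tmul_eq_zero_iff']
      apply hKi
      rw [map_zero, LinearMap.lTensor_tmul]
      apply hd0'i
      rw [map_zero, LinearMap.lTensor_tmul]
      have : d0' ((LinearMap.ker d0').subtype x) = 0 := LinearMap.mem_ker.1 x.2
      rw [this, tmul_zero]
    intro x
    have := key (Submodule.mem_top (x := x))
    exact (Submodule.mem_bot A).1 this
  have hd0'inj : Function.Injective d0' := by
    rw [injective_iff_map_eq_zero]
    intro x hx
    have := hK0 ⟨x, LinearMap.mem_ker.2 hx⟩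
    exact congrArg Subtype.val this
  exact Module.Flat.of_linearEquiv (LinearEquiv.ofBijective d0' ⟨hd0'inj, hd0's⟩)

end

theorem exact_of_exactAt (A : Type u) [CommRing A] (K : Type u) [AddCommGroup K] [Module A K]
    (C : CochainComplex (ModuleCat.{u} A) ℕ) (j : ℕ)
    (h : (((MonoidalCategory.tensorLeft (ModuleCat.of A K)).mapHomologicalComplex
        (ComplexShape.up ℕ)).obj C).ExactAt (j+1)) :
    Function.Exact (LinearMap.lTensor K (C.d j (j+1)).hom)
      (LinearMap.lTensor K (C.d (j+1) (j+2)).hom) := by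
  rw [HomologicalComplex.exactAt_iff' _ j (j+1) (j+2) (by simp) (by simp)] at h
  rw [ShortComplex.ShortExact.moduleCat_exact_iff_function_exact] at h
  exact h

theorem inj_of_exactAt (A : Type u) [CommRing A] (K : Type u) [AddCommGroup K] [Module A K]
    (C : CochainComplex (ModuleCat.{u} A) ℕ)
    (h : (((MonoidalCategory.tensorLeft (ModuleCat.of A K)).mapHomologicalComplex
        (ComplexShape.up ℕ)).obj C).ExactAt 0) :
    Function.Injective (LinearMap.lTensor K (C.d 0 1).hom) := by
  rw [HomologicalComplex.exactAt_iff' _ 0 0 1 (by simp) (by simp)] at h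
  rw [ShortComplex.ShortExact.moduleCat_exact_iff_function_exact] at h
  have h0 : ((((MonoidalCategory.tensorLeft (ModuleCat.of A K)).mapHomologicalComplex
      (ComplexShape.up ℕ)).obj C).sc' 0 0 1).f = 0 := by
    change (((MonoidalCategory.tensorLeft (ModuleCat.of A K)).mapHomologicalComplex
      (ComplexShape.up ℕ)).obj C).d 0 0 = 0
    exact HomologicalComplex.shape _ _ _ (by simp)
  intro x y hxy
  have hz : LinearMap.lTensor K (C.d 0 1).hom (x - y) = 0 := by rw [map_sub, hxy, sub_self]
  obtain ⟨w, hw⟩ := (h (x - y)).1 hz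
  rw [h0] at hw
  have : x - y = 0 := hw.symm
  exact sub_eq_zero.1 this

theorem d_comp (A : Type u) [CommRing A] (C : CochainComplex (ModuleCat.{u} A) ℕ) (i j k : ℕ) :
    (C.d j k).hom ∘ₗ (C.d i j).hom = 0 := by
  rw [← ModuleCat.hom_comp, C.d_comp_d]
  rfl

theorem main
    (A : Type u) [CommRing A] [IsLocalRing A] [IsArtinianRing A] (n : ℕ) (hn : 0 < n)
    (C : CochainComplex (ModuleCat.{u} A) ℕ)
    (hflat : ∀ i, i ≤ n → Module.Flat A (C.X (i + 1)))
    (hred : ∀ j, j ≤ n →
      (((MonoidalCategory.tensorLeft (ModuleCat.of A (IsLocalRing.ResidueField A))).mapHomologicalComplex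
        (ComplexShape.up ℕ)).obj C).ExactAt j) :
    Module.Flat A (C.X 0) ∧ Module.Flat A (C.X (n + 1) ⧸ LinearMap.range (C.d n (n + 1)).hom) := by
  constructor
  · haveI := hflat 0 (Nat.zero_le _)
    haveI := hflat 1 hn
    exact part2 A (C.d 0 1).hom (C.d 1 2).hom (d_comp A C 0 1 2)
      (inj_of_exactAt A _ C (hred 0 (Nat.zero_le _)))
      (exact_of_exactAt A _ C 0 (hred 1 hn))
  · obtain ⟨m, rfl⟩ : ∃ m, n = m + 1 := ⟨n - 1, by omega⟩
    haveI := hflat m (by omega)
    haveI := hflat (m+1) le_rfl
    exact (part1 A (C.d m (m+1)).hom (C.d (m+1) (m+1+1)).hom (d_comp A C _ _ _)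
      (exact_of_exactAt A _ C m (hred (m+1) le_rfl))).1

end Helpers

/-- Let A be an Artinian local ring with residue field k, n ≥ 1, and 0 → I → P₀ → P₁ → ⋯ → Pₙ a complex
of A-modules with P₀, …, Pₙ flat whose reduction 0 → k ⊗ I → k ⊗ P₀ → ⋯ → k ⊗ Pₙ is exact. Then I
and coker(Pₙ₋₁ → Pₙ) are flat. The complex is written as a cochain complex C indexed by ℕ with C⁰ =
I and Cⁱ⁺¹ = Pᵢ; its terms in degrees above n + 1 play no role. (The published statement adds that I
maps onto the kernel of k ⊗ P₀ → k ⊗ P₁, which is already part of the exactness hypothesis, and is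
for local Artinian algebras over an algebraically closed field of characteristic zero having that
field as residue field; this row allows any Artinian local ring.) -/
theorem result
    (A : Type u) [CommRing A] [IsLocalRing A] [IsArtinianRing A] (n : ℕ) (hn : 0 < n)
    (C : CochainComplex (ModuleCat.{u} A) ℕ)
    (hflat : ∀ i, i ≤ n → Module.Flat A (C.X (i + 1)))
    (hred : ∀ j, j ≤ n →
      (((MonoidalCategory.tensorLeft (ModuleCat.of A (IsLocalRing.ResidueField A))).mapHomologicalComplex
        (ComplexShape.up ℕ)).obj C).ExactAt j) :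
    Module.Flat A (C.X 0) ∧ Module.Flat A (C.X (n + 1) ⧸ LinearMap.range (C.d n (n + 1)).hom) := by
  exact main A n hn C hflat hred

end Groth.Agent.S15133
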