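import Groth.Statements.S15146
import Mathlib
import Groth.Agent.Lib.helper22.PSClosed

set_option autoImplicit false
universe u
open HilbZeta

namespace Groth.Agent.S15146

/-- Let k be a field, s a natural number and R a k-subalgebra of the product of s copies of the power
series ring k[[x]], of finite codimension δ over k and local with residue field k (all components of
an element of R have the same constant term); write v_i for the x-adic order of the i-th component
of an s-tuple, and let c = (c_1, …, c_s) be the conductor exponents, so that an s-tuple f satisfies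
f·g ∈ R for every s-tuple g exactly when v_i(f) ≥ c_i for all i (over an algebraically closed field
such an R is precisely the completed local ring of a reduced curve singularity having s branches
sitting inside its normalisation, δ is its delta invariant and the conductor ideal is generated by
the x_i^{c_i}). If J is an ideal of R of finite colength which contains, for each i, an element f_i
with v_i(f_i) = l_i, then every s-tuple g with v_i(g) ≥ l_i + c_i for all i lies in R and belongs to
J. (The published statement is over an algebraically closed field; this row allows any field.) -/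
theorem result (k : Type u) [Field k] (s : ℕ)
    (R : Subalgebra k (Fin s → PowerSeries k))
    (hfin : Module.Finite k ((Fin s → PowerSeries k) ⧸ Subalgebra.toSubmodule R))
    (hloc : ∀ f ∈ R, ∀ i j : Fin s, PowerSeries.constantCoeff (f i) = PowerSeries.constantCoeff (f j))
    (c : Fin s → ℕ)
    (hc : ∀ f : Fin s → PowerSeries k,
      (∀ g : Fin s → PowerSeries k, g * f ∈ R) ↔ ∀ i, ((c i : ℕ) : ℕ∞) ≤ (f i).order)
    (J : Ideal ↥R) (hJ : Module.Finite k (↥R ⧸ J))
    (l : Fin s → ℕ) (hl : ∀ i : Fin s, ∃ f ∈ J, ((f : Fin s → PowerSeries k) i).order = ((l i : ℕ) : ℕ∞))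
    (g : Fin s → PowerSeries k) (hg : ∀ i : Fin s, ((l i + c i : ℕ) : ℕ∞) ≤ (g i).order) :
    ∃ hgR : g ∈ R, (⟨g, hgR⟩ : ↥R) ∈ J := by
  classical
  -- conductor membership gives membership in R
  have hcond : ∀ f : Fin s → PowerSeries k, (∀ i, ((c i : ℕ) : ℕ∞) ≤ (f i).order) → f ∈ R := by
    intro f hf
    have := (hc f).2 hf 1
    rwa [one_mul] at this
  have hgR : g ∈ R := by
    apply hcond
    intro i
    refine le_trans ?_ (hg i)
    exact_mod_cast Nat.le_add_left _ _
  refine ⟨hgR, ?_⟩
  choose F hFJ hF using hl
  -- quotients
  have hq : ∀ i : Fin s, ∃ q : PowerSeries k, q * ((F i : Fin s → PowerSeries k) i) = g i ∧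
      ((c i : ℕ) : ℕ∞) ≤ PowerSeries.order q := fun i =>
    Groth.Agent.Lib.helper22.PSClosed.exists_mul_eq_of_order_le _ (g i) (l i) (c i) (hF i) (hg i)
  choose q hq1 hq2 using hq
  have hsingle : ∀ i : Fin s, (Pi.single i (q i) : Fin s → PowerSeries k) ∈ R := by
    intro i
    apply hcond
    intro j
    by_cases hji : j = i
    · subst hji; rw [Pi.single_eq_same]; exact hq2 j
    · rw [Pi.single_eq_of_ne hji, PowerSeries.order_zero]; exact le_top
  have hsum : (⟨g, hgR⟩ : ↥R) = ∑ i : Fin s, (⟨Pi.single i (q i), hsingle i⟩ : ↥R) * F i := by
    apply Subtype.ext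
    rw [AddSubmonoidClass.coe_finset_sum]
    simp only [MulMemClass.coe_mul]
    funext j
    rw [Finset.sum_apply]
    rw [Finset.sum_eq_single j]
    · rw [Pi.mul_apply, Pi.single_eq_same, hq1]
    · intro i _ hij
      rw [Pi.mul_apply, Pi.single_eq_of_ne (Ne.symm hij), zero_mul]
    · intro h; exact absurd (Finset.mem_univ j) h
  rw [hsum]
  exact J.sum_mem (fun i _ => J.mul_mem_left _ (hFJ i))

end Groth.Agent.S15146
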