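import Groth.Statements.S15148
import Mathlib
import Groth.Agent.S15147

set_option autoImplicit false
universe u
open HilbZeta

namespace Groth.Agent.S15148

section Helpers

open Module

section general
variable {k : Type*} [Field k] {P : Type*} [AddCommGroup P] [Module k P]

theorem quot_le_of_le {U V : Submodule k P} (h : U ≤ V) [FiniteDimensional k (P ⧸ U)] :
    FiniteDimensional k (P ⧸ V) ∧ finrank k (P ⧸ V) ≤ finrank k (P ⧸ U) ∧
      (finrank k (P ⧸ V) = finrank k (P ⧸ U) → V ≤ U) := by
  let π : (P ⧸ U) →ₗ[k] (P ⧸ V) := Submodule.mapQ U V LinearMap.id (by simpa using h)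
  have hsurj : Function.Surjective π := by
    intro y
    obtain ⟨y, rfl⟩ := Submodule.Quotient.mk_surjective V y
    exact ⟨Submodule.Quotient.mk y, rfl⟩
  haveI : FiniteDimensional k (P ⧸ V) := Module.Finite.of_surjective π hsurj
  refine ⟨inferInstance, LinearMap.finrank_le_finrank_of_surjective hsurj, ?_⟩
  intro heq v hv
  have hinj : Function.Injective π :=
    (LinearMap.injective_iff_surjective_of_finrank_eq_finrank heq.symm).mpr hsurj
  have h0 : π (Submodule.Quotient.mk v) = 0 := by
    show (Submodule.Quotient.mk v : P ⧸ V) = 0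
    exact (Submodule.Quotient.mk_eq_zero V).mpr hv
  have := hinj (h0.trans (map_zero π).symm)
  exact (Submodule.Quotient.mk_eq_zero U).mp this

theorem finrank_tower {U V : Submodule k P} (h : U ≤ V) [FiniteDimensional k (P ⧸ U)] :
    finrank k (P ⧸ U) = finrank k (P ⧸ V) + finrank k (V.map U.mkQ) := by
  rw [← Submodule.finrank_quotient_add_finrank (V.map U.mkQ),
    (Submodule.quotientQuotientEquivQuotient U V h).finrank_eq]

end general

section ps
variable (k : Type u) [Field k] (s : ℕ)

/-- tuples with prescribed minimal orders -/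
def Fil (a : Fin s → ℕ) : Submodule k (Fin s → PowerSeries k) where
  carrier := {f | ∀ i, ((a i : ℕ) : ℕ∞) ≤ (f i).order}
  add_mem' := by
    intro f g hf hg i
    exact le_trans (le_min (hf i) (hg i)) (PowerSeries.min_order_le_order_add _ _)
  zero_mem' := by intro i; simp
  smul_mem' := by
    intro c f hf i
    show ((a i : ℕ) : ℕ∞) ≤ (c • f i).order
    apply PowerSeries.nat_le_order
    intro j hj
    rw [PowerSeries.coeff_smul, PowerSeries.coeff_of_lt_order j (lt_of_lt_of_le (by exact_mod_cast hj) (hf i)),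
      smul_zero]

theorem mem_Fil (a : Fin s → ℕ) (f : Fin s → PowerSeries k) :
    f ∈ Fil k s a ↔ ∀ i, ((a i : ℕ) : ℕ∞) ≤ (f i).order := Iff.rfl

/-- the truncated coefficient map -/
noncomputable def coeffMap (a : Fin s → ℕ) : (Fin s → PowerSeries k) →ₗ[k] ((i : Fin s) → Fin (a i) → k) where
  toFun f := fun i j => PowerSeries.coeff (j : ℕ) (f i)
  map_add' f g := by ext i j; simp
  map_smul' c f := by ext i j; simp

theorem ker_coeffMap (a : Fin s → ℕ) : LinearMap.ker (coeffMap k s a) = Fil k s a := by
  ext f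
  rw [LinearMap.mem_ker, mem_Fil]
  constructor
  · intro h i
    apply PowerSeries.nat_le_order
    intro j hj
    have := congrFun (congrFun h i) ⟨j, hj⟩
    exact this
  · intro h
    ext i j
    exact PowerSeries.coeff_of_lt_order _ (lt_of_lt_of_le (by exact_mod_cast j.2) (h i))

theorem coeffMap_surjective (a : Fin s → ℕ) : Function.Surjective (coeffMap k s a) := by
  intro t
  refine ⟨fun i => PowerSeries.mk fun j => if h : j < a i then t i ⟨j, h⟩ else 0, ?_⟩
  ext i j
  simp [coeffMap]

theorem finrank_quot_Fil (a : Fin s → ℕ) :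
    FiniteDimensional k ((Fin s → PowerSeries k) ⧸ Fil k s a) ∧
      finrank k ((Fin s → PowerSeries k) ⧸ Fil k s a) = ∑ i, a i := by
  have e := (coeffMap k s a).quotKerEquivOfSurjective (coeffMap_surjective k s a)
  rw [ker_coeffMap] at e
  refine ⟨Module.Finite.equiv e.symm, ?_⟩
  rw [e.finrank_eq, Module.finrank_pi_fintype]
  simp

theorem main
    (R : Subalgebra k (Fin s → PowerSeries k))
    (hfin : Module.Finite k ((Fin s → PowerSeries k) ⧸ Subalgebra.toSubmodule R))
    (hloc : ∀ f ∈ R, ∀ i j : Fin s, PowerSeries.constantCoeff (f i) = PowerSeries.constantCoeff (f j))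
    (c : Fin s → ℕ)
    (hc : ∀ f : Fin s → PowerSeries k,
      (∀ g : Fin s → PowerSeries k, g * f ∈ R) ↔ ∀ i, ((c i : ℕ) : ℕ∞) ≤ (f i).order)
    (I : Ideal ↥R) (hI : Module.Finite k (↥R ⧸ I)) (a : Fin s → ℕ)
    (ha : (∀ i : Fin s, Ideal.map ((Pi.evalAlgHom k (fun _ : Fin s => PowerSeries k) i).comp R.val) I = Ideal.span {PowerSeries.X ^ (a i)})) :
    (∑ i, a i) ≤ Module.finrank k (↥R ⧸ I) + Module.finrank k ((Fin s → PowerSeries k) ⧸ Subalgebra.toSubmodule R) ∧
    Module.finrank k (↥R ⧸ I) + Module.finrank k ((Fin s → PowerSeries k) ⧸ Subalgebra.toSubmodule R) ≤ (∑ i, a i) + ∑ i, c i ∧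
    (R ≠ ⊤ → Module.finrank k (↥R ⧸ I) + Module.finrank k ((Fin s → PowerSeries k) ⧸ Subalgebra.toSubmodule R) < (∑ i, a i) + ∑ i, c i) := by
  obtain ⟨h1, h2⟩ := Groth.Agent.S15147.result k s R hfin hloc c hc I hI a ha
  set P := (Fin s → PowerSeries k) with hP
  set I' : Submodule k P := Submodule.map R.val.toLinearMap (I.restrictScalars k) with hI'
  have hmemI' : ∀ f : P, f ∈ I' ↔ ∃ hf : f ∈ R, (⟨f, hf⟩ : ↥R) ∈ I := by
    intro f
    constructor
    · rintro ⟨g, hg, rfl⟩
      exact ⟨g.2, hg⟩
    · rintro ⟨hf, hfI⟩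
      exact ⟨⟨f, hf⟩, hfI, rfl⟩
  have hle1 : Fil k s (fun i => a i + c i) ≤ I' := by
    intro g hg
    rw [hmemI']
    exact h1 g hg
  have hle2 : I' ≤ Fil k s a := by
    rintro _ ⟨g, hg, rfl⟩
    exact h2 g hg
  have hle3 : I' ≤ Subalgebra.toSubmodule R := by
    rintro _ ⟨g, hg, rfl⟩
    exact g.2
  obtain ⟨hfin1, hdim1⟩ := finrank_quot_Fil k s (fun i => a i + c i)
  obtain ⟨hfin2, hdim2⟩ := finrank_quot_Fil k s a
  obtain ⟨hfinI, hleI, heqI⟩ := quot_le_of_le hle1
  obtain ⟨-, hleA, -⟩ := quot_le_of_le hle2
  -- dimension of P / I'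
  have hdimI : finrank k (P ⧸ I') =
      finrank k (P ⧸ Subalgebra.toSubmodule R) + finrank k (↥R ⧸ I) := by
    rw [finrank_tower hle3]
    congr 1
    let ψ : ↥R →ₗ[k] P ⧸ I' := I'.mkQ ∘ₗ R.val.toLinearMap
    have hrange : LinearMap.range ψ = (Subalgebra.toSubmodule R).map I'.mkQ := by
      rw [LinearMap.range_comp]
      congr 1
      ext f
      simp
    have hker : LinearMap.ker ψ = I.restrictScalars k := by
      ext f
      rw [LinearMap.mem_ker, LinearMap.comp_apply, Submodule.mkQ_apply,
        Submodule.Quotient.mk_eq_zero, hmemI']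
      constructor
      · rintro ⟨hf, hfI⟩
        exact hfI
      · intro hf
        exact ⟨f.2, hf⟩
    rw [← hrange, ← (LinearMap.quotKerEquivRange ψ).finrank_eq, hker]
    exact (Submodule.Quotient.restrictScalarsEquiv k I).finrank_eq
  rw [add_comm (finrank k (↥R ⧸ I)), ← hdimI]
  rw [hdim2] at hleA
  rw [hdim1, Finset.sum_add_distrib] at hleI
  refine ⟨hleA, hleI, ?_⟩
  intro hRtop
  rcases lt_or_eq_of_le hleI with hlt | heq
  · exact hlt
  exfalso
  rw [← Finset.sum_add_distrib, ← hdim1] at heq
  have hIle := heqI heq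
  -- all c i = 0
  have hc0 : ∀ i, c i = 0 := by
    intro i
    have hX : (PowerSeries.X ^ (a i) : PowerSeries k) ∈
        Ideal.map ((Pi.evalAlgHom k (fun _ : Fin s => PowerSeries k) i).comp R.val) I := by
      rw [ha i]; exact Ideal.subset_span rfl
    have hsub : Ideal.map ((Pi.evalAlgHom k (fun _ : Fin s => PowerSeries k) i).comp R.val) I ≤
        Ideal.span {(PowerSeries.X ^ (a i + c i) : PowerSeries k)} := by
      rw [Ideal.map_le_iff_le_comap]
      intro f hf
      rw [Ideal.mem_comap, Ideal.mem_span_singleton, PowerSeries.X_pow_dvd_iff]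
      have hfI' : (f : P) ∈ I' := (hmemI' _).mpr ⟨f.2, hf⟩
      have := hIle hfI' i
      intro j hj
      exact PowerSeries.coeff_of_lt_order j (lt_of_lt_of_le (by exact_mod_cast hj) this)
    have := hsub hX
    rw [Ideal.mem_span_singleton] at this
    rw [pow_dvd_pow_iff PowerSeries.X_ne_zero PowerSeries.X_prime.not_unit] at this
    omega
  apply hRtop
  rw [eq_top_iff]
  intro g _
  have := (hc 1).mpr (by intro i; rw [hc0 i]; simp)
  simpa using this g

end ps

end Helpers

/-- Let k be a field, s a natural number and R a k-subalgebra of the product of s copies of the power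
series ring k[[x]], of finite codimension δ over k and local with residue field k (all components of
an element of R have the same constant term); write v_i for the x-adic order of the i-th component
of an s-tuple, and let c = (c_1, …, c_s) be the conductor exponents, so that an s-tuple f satisfies
f·g ∈ R for every s-tuple g exactly when v_i(f) ≥ c_i for all i (over an algebraically closed field
such an R is precisely the completed local ring of a reduced curve singularity having s branches
sitting inside its normalisation, δ is its delta invariant and the conductor ideal is generated by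
the x_i^{c_i}), and put C = c_1 + ⋯ + c_s. Let I be an ideal of R of finite colength d with
branch-length vector a (for every i the ideal of k[[x]] generated by the i-th components of the
elements of I is (x^{a_i})). Then −δ ≤ d − Σ a_i ≤ C − δ, and the second inequality is strict when R
is not the whole product (the singularity is not smooth). (The published statement is over an
algebraically closed field; this row allows any field.) -/
theorem result (k : Type u) [Field k] (s : ℕ)
    (R : Subalgebra k (Fin s → PowerSeries k))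
    (hfin : Module.Finite k ((Fin s → PowerSeries k) ⧸ Subalgebra.toSubmodule R))
    (hloc : ∀ f ∈ R, ∀ i j : Fin s, PowerSeries.constantCoeff (f i) = PowerSeries.constantCoeff (f j))
    (c : Fin s → ℕ)
    (hc : ∀ f : Fin s → PowerSeries k,
      (∀ g : Fin s → PowerSeries k, g * f ∈ R) ↔ ∀ i, ((c i : ℕ) : ℕ∞) ≤ (f i).order)
    (I : Ideal ↥R) (hI : Module.Finite k (↥R ⧸ I)) (a : Fin s → ℕ)
    (ha : (∀ i : Fin s, Ideal.map ((Pi.evalAlgHom k (fun _ : Fin s => PowerSeries k) i).comp R.val) I = Ideal.span {PowerSeries.X ^ (a i)})) :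
    (∑ i, a i) ≤ Module.finrank k (↥R ⧸ I) + Module.finrank k ((Fin s → PowerSeries k) ⧸ Subalgebra.toSubmodule R) ∧
    Module.finrank k (↥R ⧸ I) + Module.finrank k ((Fin s → PowerSeries k) ⧸ Subalgebra.toSubmodule R) ≤ (∑ i, a i) + ∑ i, c i ∧
    (R ≠ ⊤ → Module.finrank k (↥R ⧸ I) + Module.finrank k ((Fin s → PowerSeries k) ⧸ Subalgebra.toSubmodule R) < (∑ i, a i) + ∑ i, c i) := by
  exact main k s R hfin hloc c hc I hI a ha

end Groth.Agent.S15148
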