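import Groth.Statements.S15149
import Mathlib
import Groth.Agent.S15148

set_option autoImplicit false
universe u
open HilbZeta

namespace Groth.Agent.S15149

section Helpers

open Module Groth.Agent.S15148

section general
variable {k : Type*} [Field k] {P : Type*} [AddCommGroup P] [Module k P]

/-- G1: extension of finite-dimensional quotients -/
theorem finite_quot_of_le {U V : Submodule k P} (h : U ≤ V) [FiniteDimensional k (P ⧸ V)]
    [FiniteDimensional k (V.map U.mkQ)] : FiniteDimensional k (P ⧸ U) := by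
  haveI : Module.Finite k ((P ⧸ U) ⧸ V.map U.mkQ) :=
    Module.Finite.equiv (Submodule.quotientQuotientEquivQuotient U V h).symm
  exact Module.Finite.of_submodule_quotient (V.map U.mkQ)

/-- shifting by an injective endomorphism with finite-codimensional range -/
theorem shift_quot (m : P →ₗ[k] P) (hm : Function.Injective m)
    [FiniteDimensional k (P ⧸ LinearMap.range m)] (U : Submodule k P) :
    (FiniteDimensional k (P ⧸ U) ↔ FiniteDimensional k (P ⧸ U.map m)) ∧
    (FiniteDimensional k (P ⧸ U) →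
      finrank k (P ⧸ U.map m) = finrank k (P ⧸ LinearMap.range m) + finrank k (P ⧸ U)) := by
  have hle : U.map m ≤ LinearMap.range m := by
    rintro _ ⟨f, _, rfl⟩; exact ⟨f, rfl⟩
  let ψ : P →ₗ[k] P ⧸ U.map m := (U.map m).mkQ ∘ₗ m
  have hrange : LinearMap.range ψ = (LinearMap.range m).map (U.map m).mkQ := by
    rw [LinearMap.range_comp]
  have hker : LinearMap.ker ψ = U := by
    ext f
    rw [LinearMap.mem_ker, LinearMap.comp_apply, Submodule.mkQ_apply,
      Submodule.Quotient.mk_eq_zero]
    constructor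
    · rintro ⟨g, hg, hgf⟩
      rw [← hm hgf]; exact hg
    · intro hf; exact ⟨f, hf, rfl⟩
  have e : (P ⧸ U) ≃ₗ[k] (LinearMap.range m).map (U.map m).mkQ := by
    have e1 := LinearMap.quotKerEquivRange ψ
    rw [hker, hrange] at e1
    exact e1
  have h1 : FiniteDimensional k (P ⧸ U) → FiniteDimensional k (P ⧸ U.map m) := by
    intro hU
    haveI : FiniteDimensional k ((LinearMap.range m).map (U.map m).mkQ) := Module.Finite.equiv e
    exact finite_quot_of_le hle
  have h2 : FiniteDimensional k (P ⧸ U.map m) → FiniteDimensional k (P ⧸ U) := by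
    intro hU
    exact Module.Finite.equiv e.symm
  refine ⟨⟨h1, h2⟩, ?_⟩
  intro hU
  haveI := h1 hU
  rw [finrank_tower hle, e.finrank_eq]

end general

section ps
variable (k : Type u) [Field k] (s : ℕ)

/-- the image in `P` of an ideal of `R` -/
noncomputable def img (R : Subalgebra k (Fin s → PowerSeries k)) (I : Ideal ↥R) :
    Submodule k (Fin s → PowerSeries k) :=
  Submodule.map R.val.toLinearMap (I.restrictScalars k)

theorem mem_img (R : Subalgebra k (Fin s → PowerSeries k)) (I : Ideal ↥R)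
    (f : Fin s → PowerSeries k) : f ∈ img k s R I ↔ ∃ hf : f ∈ R, (⟨f, hf⟩ : ↥R) ∈ I := by
  constructor
  · rintro ⟨g, hg, rfl⟩
    exact ⟨g.2, hg⟩
  · rintro ⟨hf, hfI⟩
    exact ⟨⟨f, hf⟩, hfI, rfl⟩

theorem img_le (R : Subalgebra k (Fin s → PowerSeries k)) (I : Ideal ↥R) :
    img k s R I ≤ Subalgebra.toSubmodule R := by
  rintro _ ⟨g, _, rfl⟩
  exact g.2

/-- `R / I ≃ R / I'` inside `P / I'` -/
noncomputable def quotEquiv (R : Subalgebra k (Fin s → PowerSeries k)) (I : Ideal ↥R) :
    (↥R ⧸ I) ≃ₗ[k] (Subalgebra.toSubmodule R).map (img k s R I).mkQ := by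
  let ψ : ↥R →ₗ[k] (Fin s → PowerSeries k) ⧸ img k s R I :=
    (img k s R I).mkQ ∘ₗ R.val.toLinearMap
  have hrange : LinearMap.range ψ = (Subalgebra.toSubmodule R).map (img k s R I).mkQ := by
    rw [LinearMap.range_comp]
    congr 1
    ext f
    simp
  have hker : LinearMap.ker ψ = I.restrictScalars k := by
    ext f
    rw [LinearMap.mem_ker, LinearMap.comp_apply, Submodule.mkQ_apply,
      Submodule.Quotient.mk_eq_zero, mem_img]
    constructor
    · rintro ⟨hf, hfI⟩
      exact hfI
    · intro hf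
      exact ⟨f.2, hf⟩
  have e1 := LinearMap.quotKerEquivRange ψ
  rw [hker, hrange] at e1
  exact (Submodule.Quotient.restrictScalarsEquiv k I).symm.trans e1

theorem dim_img (R : Subalgebra k (Fin s → PowerSeries k))
    [FiniteDimensional k ((Fin s → PowerSeries k) ⧸ Subalgebra.toSubmodule R)] (I : Ideal ↥R) :
    (FiniteDimensional k (↥R ⧸ I) ↔ FiniteDimensional k ((Fin s → PowerSeries k) ⧸ img k s R I)) ∧
    (FiniteDimensional k (↥R ⧸ I) →
      finrank k ((Fin s → PowerSeries k) ⧸ img k s R I) =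
        finrank k ((Fin s → PowerSeries k) ⧸ Subalgebra.toSubmodule R) + finrank k (↥R ⧸ I)) := by
  have h1 : FiniteDimensional k (↥R ⧸ I) →
      FiniteDimensional k ((Fin s → PowerSeries k) ⧸ img k s R I) := by
    intro h
    haveI : FiniteDimensional k ((Subalgebra.toSubmodule R).map (img k s R I).mkQ) :=
      Module.Finite.equiv (quotEquiv k s R I)
    exact finite_quot_of_le (img_le k s R I)
  have h2 : FiniteDimensional k ((Fin s → PowerSeries k) ⧸ img k s R I) →
      FiniteDimensional k (↥R ⧸ I) := by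
    intro h
    exact Module.Finite.equiv (quotEquiv k s R I).symm
  refine ⟨⟨h1, h2⟩, ?_⟩
  intro h
  haveI := h1 h
  rw [finrank_tower (img_le k s R I), (quotEquiv k s R I).finrank_eq]

/-- the element `ξ` -/
noncomputable def xi (j : Fin s) : Fin s → PowerSeries k := Pi.mulSingle j PowerSeries.X

/-- multiplication by `ξ` -/
noncomputable def mxi (j : Fin s) : (Fin s → PowerSeries k) →ₗ[k] (Fin s → PowerSeries k) :=
  LinearMap.mulLeft k (xi k s j)

theorem mxi_apply (j : Fin s) (f : Fin s → PowerSeries k) : mxi k s j f = xi k s j * f := rfl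

theorem xi_apply_self (j : Fin s) : xi k s j j = PowerSeries.X := by
  simp [xi]

theorem xi_apply_ne {i j : Fin s} (h : i ≠ j) : xi k s j i = 1 := by
  simp [xi, Pi.mulSingle_apply, h]

theorem xi_ne_zero (i j : Fin s) : xi k s j i ≠ 0 := by
  by_cases h : i = j
  · subst h; rw [xi_apply_self]; exact PowerSeries.X_ne_zero
  · rw [xi_apply_ne k s h]; exact one_ne_zero

theorem mxi_injective (j : Fin s) : Function.Injective (mxi k s j) := by
  intro f g h
  funext i
  have := congrFun h i
  rw [mxi_apply, mxi_apply, Pi.mul_apply, Pi.mul_apply] at this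
  exact mul_left_cancel₀ (xi_ne_zero k s i j) this

theorem range_mxi (j : Fin s) : LinearMap.range (mxi k s j) = Fil k s (Pi.single j 1) := by
  ext f
  rw [mem_Fil]
  constructor
  · rintro ⟨g, rfl⟩ i
    by_cases h : i = j
    · subst h
      rw [mxi_apply, Pi.mul_apply, xi_apply_self, Pi.single_eq_same, PowerSeries.order_mul,
        PowerSeries.order_X]
      exact le_self_add
    · rw [Pi.single_eq_of_ne h]
      simp
  · intro hf
    have hj := hf j
    rw [Pi.single_eq_same] at hj
    have hdvd : (PowerSeries.X : PowerSeries k) ^ 1 ∣ f j := by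
      rw [PowerSeries.X_pow_dvd_iff]
      intro m hm
      exact PowerSeries.coeff_of_lt_order m (lt_of_lt_of_le (by exact_mod_cast hm) hj)
    rw [pow_one] at hdvd
    obtain ⟨q, hq⟩ := hdvd
    refine ⟨Function.update f j q, ?_⟩
    funext i
    rw [mxi_apply, Pi.mul_apply]
    by_cases h : i = j
    · subst h
      rw [xi_apply_self, Function.update_self, hq]
    · rw [xi_apply_ne k s h, Function.update_of_ne h, one_mul]

theorem finrank_range_mxi (j : Fin s) :
    FiniteDimensional k ((Fin s → PowerSeries k) ⧸ LinearMap.range (mxi k s j)) ∧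
      finrank k ((Fin s → PowerSeries k) ⧸ LinearMap.range (mxi k s j)) = 1 := by
  rw [range_mxi]
  obtain ⟨h1, h2⟩ := finrank_quot_Fil k s (Pi.single j 1)
  refine ⟨h1, ?_⟩
  rw [h2, Finset.sum_pi_single']
  simp

theorem xi_mul_pow (j : Fin s) (a : Fin s → ℕ) (i : Fin s) :
    xi k s j i * PowerSeries.X ^ (a i) = PowerSeries.X ^ ((Function.update a j (a j + 1)) i) := by
  by_cases h : i = j
  · subst h
    rw [xi_apply_self, Function.update_self, pow_succ']
  · rw [xi_apply_ne k s h, Function.update_of_ne h, one_mul]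

theorem map_eval_of_img_eq (R : Subalgebra k (Fin s → PowerSeries k)) (I J : Ideal ↥R) (j : Fin s)
    (h : img k s R J = (img k s R I).map (mxi k s j)) (i : Fin s) :
    Ideal.map ((Pi.evalAlgHom k (fun _ : Fin s => PowerSeries k) i).comp R.val) J =
      Ideal.span {xi k s j i} *
        Ideal.map ((Pi.evalAlgHom k (fun _ : Fin s => PowerSeries k) i).comp R.val) I := by
  set π := (Pi.evalAlgHom k (fun _ : Fin s => PowerSeries k) i).comp R.val with hπ
  have hπa : ∀ f : ↥R, π f = (f : Fin s → PowerSeries k) i := fun f => rfl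
  apply le_antisymm
  · rw [Ideal.map_le_iff_le_comap]
    intro g hg
    rw [Ideal.mem_comap]
    have hg' : (g : Fin s → PowerSeries k) ∈ img k s R J := (mem_img k s R J _).2 ⟨g.2, hg⟩
    rw [h] at hg'
    obtain ⟨f', hf', hfg⟩ := hg'
    obtain ⟨hfR, hfI⟩ := (mem_img k s R I _).1 hf'
    have : π g = xi k s j i * π ⟨f', hfR⟩ := by
      rw [hπa, hπa, ← hfg, mxi_apply, Pi.mul_apply]
    rw [this]
    exact Ideal.mul_mem_mul (Ideal.mem_span_singleton_self _) (Ideal.mem_map_of_mem _ hfI)
  · rw [Ideal.span_singleton_mul_le_iff]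
    have hle : Ideal.map π I ≤
        Submodule.comap (LinearMap.mulLeft (PowerSeries k) (xi k s j i)) (Ideal.map π J) := by
      apply Ideal.span_le.2
      rintro _ ⟨f, hf, rfl⟩
      rw [SetLike.mem_coe, Submodule.mem_comap, LinearMap.mulLeft_apply]
      have hf' : mxi k s j (f : Fin s → PowerSeries k) ∈ img k s R J := by
        rw [h]
        exact Submodule.mem_map_of_mem ((mem_img k s R I _).2 ⟨f.2, hf⟩)
      obtain ⟨hR, hJ⟩ := (mem_img k s R J _).1 hf'
      have : xi k s j i * π f = π ⟨_, hR⟩ := by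
        rw [hπa, hπa]
        rfl
      rw [this]
      exact Ideal.mem_map_of_mem _ hJ
    intro z hz
    exact hle hz

theorem transfer (R : Subalgebra k (Fin s → PowerSeries k))
    (hfin : Module.Finite k ((Fin s → PowerSeries k) ⧸ Subalgebra.toSubmodule R))
    (I J : Ideal ↥R) (j : Fin s)
    (h : img k s R J = (img k s R I).map (mxi k s j)) (a : Fin s → ℕ) (d : ℕ) :
    (Module.Finite k (↥R ⧸ I) ∧ finrank k (↥R ⧸ I) = d ∧
      ∀ i : Fin s, Ideal.map ((Pi.evalAlgHom k (fun _ : Fin s => PowerSeries k) i).comp R.val) I =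
        Ideal.span {PowerSeries.X ^ (a i)}) ↔
    (Module.Finite k (↥R ⧸ J) ∧ finrank k (↥R ⧸ J) = d + 1 ∧
      ∀ i : Fin s, Ideal.map ((Pi.evalAlgHom k (fun _ : Fin s => PowerSeries k) i).comp R.val) J =
        Ideal.span {PowerSeries.X ^ ((Function.update a j (a j + 1)) i)}) := by
  obtain ⟨hfr, hr1⟩ := finrank_range_mxi k s j
  obtain ⟨hsq1, hsq2⟩ := shift_quot (mxi k s j) (mxi_injective k s j) (img k s R I)
  rw [← h] at hsq1 hsq2
  obtain ⟨hI1, hI2⟩ := dim_img k s R I
  obtain ⟨hJ1, hJ2⟩ := dim_img k s R J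
  have hfinIJ : Module.Finite k (↥R ⧸ I) ↔ Module.Finite k (↥R ⧸ J) :=
    hI1.trans (hsq1.trans hJ1.symm)
  have hdim : Module.Finite k (↥R ⧸ I) → finrank k (↥R ⧸ J) = finrank k (↥R ⧸ I) + 1 := by
    intro hI
    have e1 := hsq2 (hI1.1 hI)
    rw [hI2 hI, hJ2 (hfinIJ.1 hI), hr1] at e1
    omega
  have htype : ∀ i : Fin s,
      (Ideal.map ((Pi.evalAlgHom k (fun _ : Fin s => PowerSeries k) i).comp R.val) I =
        Ideal.span {PowerSeries.X ^ (a i)}) ↔
      (Ideal.map ((Pi.evalAlgHom k (fun _ : Fin s => PowerSeries k) i).comp R.val) J =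
        Ideal.span {PowerSeries.X ^ ((Function.update a j (a j + 1)) i)}) := by
    intro i
    rw [map_eval_of_img_eq k s R I J j h i, ← xi_mul_pow, ← Ideal.span_singleton_mul_span_singleton,
      Ideal.span_singleton_mul_right_inj (xi_ne_zero k s i j)]
  constructor
  · rintro ⟨hI, hd, ht⟩
    refine ⟨hfinIJ.1 hI, ?_, fun i => (htype i).1 (ht i)⟩
    rw [hdim hI, hd]
  · rintro ⟨hJ, hd, ht⟩
    have hI := hfinIJ.2 hJ
    refine ⟨hI, ?_, fun i => (htype i).2 (ht i)⟩
    have := hdim hI
    omega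

/-- an element with `j`-th component of order `≥ c j` and other components zero lies in `R` -/
theorem single_mem (R : Subalgebra k (Fin s → PowerSeries k)) (c : Fin s → ℕ)
    (hc : ∀ f : Fin s → PowerSeries k,
      (∀ g : Fin s → PowerSeries k, g * f ∈ R) ↔ ∀ i, ((c i : ℕ) : ℕ∞) ≤ (f i).order)
    (j : Fin s) (f : Fin s → PowerSeries k) (hj : ((c j : ℕ) : ℕ∞) ≤ (f j).order)
    (hne : ∀ i, i ≠ j → f i = 0) : f ∈ R := by
  have := (hc f).2 (by
    intro i
    by_cases h : i = j
    · subst h; exact hj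
    · rw [hne i h]; simp) 1
  rwa [one_mul] at this

theorem xi_mul_mem (R : Subalgebra k (Fin s → PowerSeries k)) (c : Fin s → ℕ)
    (hc : ∀ f : Fin s → PowerSeries k,
      (∀ g : Fin s → PowerSeries k, g * f ∈ R) ↔ ∀ i, ((c i : ℕ) : ℕ∞) ≤ (f i).order)
    (j : Fin s) (f : Fin s → PowerSeries k) (hf : f ∈ R) (hj : ((c j : ℕ) : ℕ∞) ≤ (f j).order) :
    xi k s j * f ∈ R := by
  have h1 : xi k s j * f - f ∈ R := by
    apply single_mem k s R c hc j
    · rw [Pi.sub_apply, Pi.mul_apply, xi_apply_self]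
      have : PowerSeries.X * f j - f j = (PowerSeries.X - 1) * f j := by ring
      rw [this, PowerSeries.order_mul]
      exact le_trans hj le_add_self
    · intro i hi
      rw [Pi.sub_apply, Pi.mul_apply, xi_apply_ne k s hi, one_mul, sub_self]
  have := R.add_mem hf h1
  rwa [add_sub_cancel] at this

theorem exists_div_xi (R : Subalgebra k (Fin s → PowerSeries k)) (c : Fin s → ℕ)
    (hc : ∀ f : Fin s → PowerSeries k,
      (∀ g : Fin s → PowerSeries k, g * f ∈ R) ↔ ∀ i, ((c i : ℕ) : ℕ∞) ≤ (f i).order)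
    (j : Fin s) (g : Fin s → PowerSeries k) (hg : g ∈ R)
    (hj : ((c j + 1 : ℕ) : ℕ∞) ≤ (g j).order) :
    ∃ f ∈ R, g = xi k s j * f := by
  have hdvd : (PowerSeries.X : PowerSeries k) ^ 1 ∣ g j := by
    rw [PowerSeries.X_pow_dvd_iff]
    intro m hm
    apply PowerSeries.coeff_of_lt_order m (lt_of_lt_of_le _ hj)
    exact_mod_cast (by omega : m < c j + 1)
  rw [pow_one] at hdvd
  obtain ⟨q, hq⟩ := hdvd
  have hqord : ((c j : ℕ) : ℕ∞) ≤ q.order := by
    apply PowerSeries.nat_le_order
    intro m hm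
    have : PowerSeries.coeff (m + 1) (g j) = 0 := by
      apply PowerSeries.coeff_of_lt_order (m + 1) (lt_of_lt_of_le _ hj)
      exact_mod_cast (by omega : m + 1 < c j + 1)
    rw [hq, PowerSeries.coeff_succ_X_mul] at this
    exact this
  have hgf : g = xi k s j * Function.update g j q := by
    funext i
    rw [Pi.mul_apply]
    by_cases h : i = j
    · subst h
      rw [xi_apply_self, Function.update_self, hq]
    · rw [xi_apply_ne k s h, Function.update_of_ne h, one_mul]
  refine ⟨Function.update g j q, ?_, hgf⟩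
  have h1 : Function.update g j q - g ∈ R := by
    apply single_mem k s R c hc j
    · rw [Pi.sub_apply, Function.update_self, hq]
      have : q - PowerSeries.X * q = (1 - PowerSeries.X) * q := by ring
      rw [this, PowerSeries.order_mul]
      exact le_trans hqord le_add_self
    · intro i hi
      rw [Pi.sub_apply, Function.update_of_ne hi, sub_self]
  have := R.add_mem hg h1
  rwa [add_sub_cancel] at this

theorem main
    (R : Subalgebra k (Fin s → PowerSeries k))
    (hfin : Module.Finite k ((Fin s → PowerSeries k) ⧸ Subalgebra.toSubmodule R))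
    (hloc : ∀ f ∈ R, ∀ i j : Fin s, PowerSeries.constantCoeff (f i) = PowerSeries.constantCoeff (f j))
    (c : Fin s → ℕ)
    (hc : ∀ f : Fin s → PowerSeries k,
      (∀ g : Fin s → PowerSeries k, g * f ∈ R) ↔ ∀ i, ((c i : ℕ) : ℕ∞) ≤ (f i).order)
    (j : Fin s) (d : ℕ) (a : Fin s → ℕ) (hj : c j ≤ a j) :
    (∀ I ∈ {I : Ideal ↥R | Module.Finite k (↥R ⧸ I) ∧ Module.finrank k (↥R ⧸ I) = d ∧ (∀ i : Fin s, Ideal.map ((Pi.evalAlgHom k (fun _ : Fin s => PowerSeries k) i).comp R.val) I = Ideal.span {PowerSeries.X ^ (a i)})},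
      ∃ J ∈ {I : Ideal ↥R | Module.Finite k (↥R ⧸ I) ∧ Module.finrank k (↥R ⧸ I) = d + 1 ∧ (∀ i : Fin s, Ideal.map ((Pi.evalAlgHom k (fun _ : Fin s => PowerSeries k) i).comp R.val) I = Ideal.span {PowerSeries.X ^ ((Function.update a j (a j + 1)) i)})},
        (Subtype.val '' (J : Set ↥R)) = (fun f => Pi.mulSingle j PowerSeries.X * f) '' (Subtype.val '' (I : Set ↥R))) ∧
    (∀ J ∈ {I : Ideal ↥R | Module.Finite k (↥R ⧸ I) ∧ Module.finrank k (↥R ⧸ I) = d + 1 ∧ (∀ i : Fin s, Ideal.map ((Pi.evalAlgHom k (fun _ : Fin s => PowerSeries k) i).comp R.val) I = Ideal.span {PowerSeries.X ^ ((Function.update a j (a j + 1)) i)})},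
      ∃ I ∈ {I : Ideal ↥R | Module.Finite k (↥R ⧸ I) ∧ Module.finrank k (↥R ⧸ I) = d ∧ (∀ i : Fin s, Ideal.map ((Pi.evalAlgHom k (fun _ : Fin s => PowerSeries k) i).comp R.val) I = Ideal.span {PowerSeries.X ^ (a i)})},
        (Subtype.val '' (J : Set ↥R)) = (fun f => Pi.mulSingle j PowerSeries.X * f) '' (Subtype.val '' (I : Set ↥R))) := by
  constructor
  · -- from I to J
    intro I hI
    rw [Set.mem_setOf_eq] at hI
    obtain ⟨hIfin, hId, hIt⟩ := hI
    obtain ⟨-, h2⟩ := Groth.Agent.S15147.result k s R hfin hloc c hc I hIfin a hIt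
    have hmulR : ∀ f ∈ I, xi k s j * (f : Fin s → PowerSeries k) ∈ R := by
      intro f hf
      apply xi_mul_mem k s R c hc j _ f.2
      exact le_trans (by exact_mod_cast hj) (h2 f hf j)
    let J : Ideal ↥R :=
      { carrier := {g : ↥R | ∃ f ∈ I, (g : Fin s → PowerSeries k) = xi k s j * (f : Fin s → PowerSeries k)}
        add_mem' := by
          rintro g₁ g₂ ⟨f₁, hf₁, h₁⟩ ⟨f₂, hf₂, h₂⟩
          refine ⟨f₁ + f₂, I.add_mem hf₁ hf₂, ?_⟩
          rw [Subalgebra.coe_add, Subalgebra.coe_add, h₁, h₂, mul_add]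
        zero_mem' := ⟨0, I.zero_mem, by simp⟩
        smul_mem' := by
          rintro r g ⟨f, hf, h₁⟩
          refine ⟨r * f, I.mul_mem_left r hf, ?_⟩
          rw [smul_eq_mul, Subalgebra.coe_mul, Subalgebra.coe_mul, h₁, mul_left_comm] }
    have hJmem : ∀ g : ↥R, g ∈ J ↔ ∃ f ∈ I, (g : Fin s → PowerSeries k) =
        xi k s j * (f : Fin s → PowerSeries k) := fun g => Iff.rfl
    have himg : img k s R J = (img k s R I).map (mxi k s j) := by
      ext g
      rw [mem_img, Submodule.mem_map]
      constructor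
      · rintro ⟨hg, hgJ⟩
        obtain ⟨f, hf, hgf⟩ := (hJmem _).1 hgJ
        exact ⟨f, (mem_img k s R I _).2 ⟨f.2, hf⟩, hgf.symm⟩
      · rintro ⟨f', hf', rfl⟩
        obtain ⟨hfR, hfI⟩ := (mem_img k s R I _).1 hf'
        exact ⟨hmulR ⟨f', hfR⟩ hfI, (hJmem _).2 ⟨⟨f', hfR⟩, hfI, rfl⟩⟩
    refine ⟨J, (transfer k s R hfin I J j himg a d).1 ⟨hIfin, hId, hIt⟩, ?_⟩
    ext g
    constructor
    · rintro ⟨g', hg', rfl⟩
      obtain ⟨f, hf, hgf⟩ := (hJmem _).1 hg'
      exact ⟨f, ⟨f, hf, rfl⟩, hgf.symm⟩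
    · rintro ⟨_, ⟨f, hf, rfl⟩, rfl⟩
      exact ⟨⟨_, hmulR f hf⟩, (hJmem _).2 ⟨f, hf, rfl⟩, rfl⟩
  · -- from J to I
    intro J hJ
    rw [Set.mem_setOf_eq] at hJ
    obtain ⟨hJfin, hJd, hJt⟩ := hJ
    obtain ⟨-, h2⟩ := Groth.Agent.S15147.result k s R hfin hloc c hc J hJfin _ hJt
    let I : Ideal ↥R :=
      { carrier := {f : ↥R | ∃ g ∈ J, (g : Fin s → PowerSeries k) = xi k s j * (f : Fin s → PowerSeries k)}
        add_mem' := by
          rintro f₁ f₂ ⟨g₁, hg₁, h₁⟩ ⟨g₂, hg₂, h₂⟩
          refine ⟨g₁ + g₂, J.add_mem hg₁ hg₂, ?_⟩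
          rw [Subalgebra.coe_add, Subalgebra.coe_add, h₁, h₂, mul_add]
        zero_mem' := ⟨0, J.zero_mem, by simp⟩
        smul_mem' := by
          rintro r f ⟨g, hg, h₁⟩
          refine ⟨r * g, J.mul_mem_left r hg, ?_⟩
          rw [smul_eq_mul, Subalgebra.coe_mul, Subalgebra.coe_mul, h₁, mul_left_comm] }
    have hImem : ∀ f : ↥R, f ∈ I ↔ ∃ g ∈ J, (g : Fin s → PowerSeries k) =
        xi k s j * (f : Fin s → PowerSeries k) := fun g => Iff.rfl
    have himg : img k s R J = (img k s R I).map (mxi k s j) := by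
      ext g
      rw [mem_img, Submodule.mem_map]
      constructor
      · rintro ⟨hg, hgJ⟩
        have hord := h2 _ hgJ j
        rw [Function.update_self] at hord
        obtain ⟨f, hfR, hgf⟩ := exists_div_xi k s R c hc j g hg
          (le_trans (by exact_mod_cast (by omega : c j + 1 ≤ a j + 1)) hord)
        refine ⟨f, (mem_img k s R I _).2 ⟨hfR, (hImem _).2 ⟨⟨g, hg⟩, hgJ, hgf⟩⟩, hgf.symm⟩
      · rintro ⟨f', hf', rfl⟩
        obtain ⟨hfR, hfI⟩ := (mem_img k s R I _).1 hf'
        obtain ⟨g, hg, hgf⟩ := (hImem _).1 hfI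
        have : mxi k s j f' = (g : Fin s → PowerSeries k) := hgf.symm
        rw [this]
        exact ⟨g.2, hg⟩
    refine ⟨I, (transfer k s R hfin I J j himg a d).2 ⟨hJfin, hJd, hJt⟩, ?_⟩
    ext g
    constructor
    · rintro ⟨g', hg', rfl⟩
      have hg'' : (g' : Fin s → PowerSeries k) ∈ img k s R J := (mem_img k s R J _).2 ⟨g'.2, hg'⟩
      rw [himg] at hg''
      obtain ⟨f', hf', hfg⟩ := hg''
      obtain ⟨hfR, hfI⟩ := (mem_img k s R I _).1 hf'
      exact ⟨f', ⟨⟨f', hfR⟩, hfI, rfl⟩, hfg⟩
    · rintro ⟨_, ⟨f, hf, rfl⟩, rfl⟩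
      obtain ⟨g, hg, hgf⟩ := (hImem _).1 hf
      exact ⟨g, hg, hgf⟩

end ps

end Helpers

/-- Let k be a field, s a natural number and R a k-subalgebra of the product of s copies of the power
series ring k[[x]], of finite codimension δ over k and local with residue field k (all components of
an element of R have the same constant term); write v_i for the x-adic order of the i-th component
of an s-tuple, and let c = (c_1, …, c_s) be the conductor exponents, so that an s-tuple f satisfies
f·g ∈ R for every s-tuple g exactly when v_i(f) ≥ c_i for all i (over an algebraically closed field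
such an R is precisely the completed local ring of a reduced curve singularity having s branches
sitting inside its normalisation, δ is its delta invariant and the conductor ideal is generated by
the x_i^{c_i}). Fix a branch j, a colength d and a branch-length vector a = (a_1, …, a_s) with a_j ≥
c_j, and let ξ be the s-tuple with x in the j-th place and 1 elsewhere. Call an ideal I of R of type
(d, a) when it has colength d and, for every i, the ideal of k[[x]] generated by the i-th components
of its elements is (x^{a_i}). Then multiplication by ξ is a bijection from the ideals of type (d, a)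
onto the ideals of type (d + 1, a + e_j), where a + e_j is a with its j-th entry raised by one: for
every ideal I of type (d, a) the set ξ·I is (the image of) an ideal of type (d + 1, a + e_j), and
every ideal of type (d + 1, a + e_j) is ξ·I for some ideal I of type (d, a). (The published
statement is the equality, in the Grothendieck ring of varieties, of the classes of the two
corresponding branch-length strata of the punctual Hilbert scheme; this row states the bijection on
ideals underlying it, which is what the argument establishes; the published statement is over an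
algebraically closed field, and this row allows any field.) -/
theorem result (k : Type u) [Field k] (s : ℕ)
    (R : Subalgebra k (Fin s → PowerSeries k))
    (hfin : Module.Finite k ((Fin s → PowerSeries k) ⧸ Subalgebra.toSubmodule R))
    (hloc : ∀ f ∈ R, ∀ i j : Fin s, PowerSeries.constantCoeff (f i) = PowerSeries.constantCoeff (f j))
    (c : Fin s → ℕ)
    (hc : ∀ f : Fin s → PowerSeries k,
      (∀ g : Fin s → PowerSeries k, g * f ∈ R) ↔ ∀ i, ((c i : ℕ) : ℕ∞) ≤ (f i).order)
    (j : Fin s) (d : ℕ) (a : Fin s → ℕ) (hj : c j ≤ a j) :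
    (∀ I ∈ {I : Ideal ↥R | Module.Finite k (↥R ⧸ I) ∧ Module.finrank k (↥R ⧸ I) = d ∧ (∀ i : Fin s, Ideal.map ((Pi.evalAlgHom k (fun _ : Fin s => PowerSeries k) i).comp R.val) I = Ideal.span {PowerSeries.X ^ (a i)})},
      ∃ J ∈ {I : Ideal ↥R | Module.Finite k (↥R ⧸ I) ∧ Module.finrank k (↥R ⧸ I) = d + 1 ∧ (∀ i : Fin s, Ideal.map ((Pi.evalAlgHom k (fun _ : Fin s => PowerSeries k) i).comp R.val) I = Ideal.span {PowerSeries.X ^ ((Function.update a j (a j + 1)) i)})},
        (Subtype.val '' (J : Set ↥R)) = (fun f => Pi.mulSingle j PowerSeries.X * f) '' (Subtype.val '' (I : Set ↥R))) ∧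
    (∀ J ∈ {I : Ideal ↥R | Module.Finite k (↥R ⧸ I) ∧ Module.finrank k (↥R ⧸ I) = d + 1 ∧ (∀ i : Fin s, Ideal.map ((Pi.evalAlgHom k (fun _ : Fin s => PowerSeries k) i).comp R.val) I = Ideal.span {PowerSeries.X ^ ((Function.update a j (a j + 1)) i)})},
      ∃ I ∈ {I : Ideal ↥R | Module.Finite k (↥R ⧸ I) ∧ Module.finrank k (↥R ⧸ I) = d ∧ (∀ i : Fin s, Ideal.map ((Pi.evalAlgHom k (fun _ : Fin s => PowerSeries k) i).comp R.val) I = Ideal.span {PowerSeries.X ^ (a i)})},
        (Subtype.val '' (J : Set ↥R)) = (fun f => Pi.mulSingle j PowerSeries.X * f) '' (Subtype.val '' (I : Set ↥R))) := by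
  exact main k s R hfin hloc c hc j d a hj

end Groth.Agent.S15149
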