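import Groth.Statements.S15150
import Mathlib

set_option autoImplicit false
universe u
open HilbZeta

namespace Groth.Agent.S15150

section Helpers

open Module TensorProduct

/-- In a commutative algebra of dimension `d` over a field, a nil ideal has `d`-th power zero. -/
theorem nil_pow_eq_bot (F C : Type*) [Field F] [CommRing C] [Algebra F C] [FiniteDimensional F C]
    (d : ℕ) (hd : finrank F C = d) (N : Ideal C) (hN : N ≤ nilradical C) : N ^ d = ⊥ := by
  haveI : IsArtinianRing C := IsArtinianRing.of_finite F C
  haveI : IsNoetherianRing C := inferInstance
  obtain ⟨n, hn⟩ := IsNoetherianRing.isNilpotent_nilradical C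
  have hNn : N ^ n = ⊥ := by
    rw [← le_bot_iff, ← Ideal.zero_eq_bot, ← hn]
    exact Ideal.pow_right_mono hN n
  have key : ∀ i, N ^ i = ⊥ ∨ finrank F ((N ^ i).restrictScalars F) + i ≤ d := by
    intro i
    induction i with
    | zero =>
      right
      rw [pow_zero, Ideal.one_eq_top, add_zero, ← hd]
      exact le_of_eq (LinearEquiv.finrank_eq (Submodule.topEquiv (R := F) (M := C))) |>.trans (le_refl _) |> fun h => by
        simpa using Submodule.finrank_le ((⊤ : Ideal C).restrictScalars F)
    | succ i ih =>
      rcases ih with h | h
      · left
        rw [pow_succ, h, Ideal.bot_mul]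
      · by_cases hi : N ^ i = ⊥
        · left; rw [pow_succ, hi, Ideal.bot_mul]
        by_cases heq : N ^ (i + 1) = N ^ i
        · exfalso
          have hall : ∀ j, N ^ (i + j) = N ^ i := by
            intro j
            induction j with
            | zero => rfl
            | succ j ihj =>
              rw [← add_assoc, pow_succ, ihj, ← pow_succ, heq]
          apply hi
          have := hall n
          rw [pow_add, hNn, Ideal.mul_bot] at this
          exact this.symm
        · right
          have hlt : (N ^ (i + 1)).restrictScalars F < (N ^ i).restrictScalars F := by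
            refine lt_of_le_of_ne ?_ ?_
            · intro x hx
              exact Ideal.pow_le_pow_right (Nat.le_succ i) hx
            · intro h'
              apply heq
              exact Submodule.restrictScalars_injective F C C h'
          have := Submodule.finrank_lt_finrank_of_lt hlt
          omega
  rcases key d with h | h
  · exact h
  · have h0 : finrank F ((N ^ d).restrictScalars F) = 0 := by omega
    have := Submodule.finrank_eq_zero.mp h0
    exact Submodule.restrictScalars_injective F C C (by simpa using this)

/-- an element of a finite projective module over a reduced ring vanishing in all fibres is zero -/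
theorem eq_zero_of_fibres (A : Type u) [CommRing A] [IsReduced A] (B : Type u) [AddCommGroup B]
    [Module A B] [Module.Projective A B] (b : B)
    (h : ∀ (p : Ideal A) [p.IsPrime], (1 : p.ResidueField) ⊗ₜ[A] b = 0) : b = 0 := by
  have hφ : ∀ φ : B →ₗ[A] A, φ b = 0 := by
    intro φ
    have hnil : φ b ∈ nilradical A := by
      rw [nilradical_eq_sInf, Ideal.mem_sInf]
      intro p hp
      haveI : p.IsPrime := hp
      have h1 := congrArg (LinearMap.lTensor p.ResidueField φ) (h p)
      rw [LinearMap.lTensor_tmul, map_zero] at h1
      have h2 := congrArg (TensorProduct.rid A p.ResidueField) h1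
      rw [TensorProduct.rid_tmul, map_zero, ← Algebra.algebraMap_eq_smul_one,
        Ideal.algebraMap_residueField_eq_zero] at h2
      exact h2
    rw [nilradical_eq_zero] at hnil
    exact hnil
  obtain ⟨s, hs⟩ := Module.projective_def'.mp (inferInstance : Module.Projective A B)
  have h1 : s b = 0 := by
    ext q
    exact hφ (Finsupp.lapply q ∘ₗ s)
  have h2 := congrFun (congrArg DFunLike.coe hs) b
  simp only [LinearMap.comp_apply, LinearMap.id_apply] at h2
  rw [← h2, h1, map_zero]

theorem main (A : Type u) [CommRing A] [IsReduced A]
    (S : Type u) [CommRing S] [Algebra A S] (π : S →ₐ[A] A) (I : Ideal S) (d : ℕ)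
    [Module.Finite A (S ⧸ I)] [Module.Projective A (S ⧸ I)]
    (hrank : ∀ p : PrimeSpectrum A, Module.rankAtStalk (R := A) (S ⧸ I) p = d)
    (hsupp : RingHom.ker π ≤ I.radical) :
    RingHom.ker π ^ d ≤ I := by
  intro y hy
  rw [← Ideal.Quotient.eq_zero_iff_mem]
  apply eq_zero_of_fibres A (S ⧸ I)
  intro p _
  let θ : S →+* p.ResidueField ⊗[A] (S ⧸ I) :=
    (Algebra.TensorProduct.includeRight : (S ⧸ I) →ₐ[A] p.ResidueField ⊗[A] (S ⧸ I)).toRingHom.comp
      (Ideal.Quotient.mk I)
  have hθ : ∀ x, θ x = (1 : p.ResidueField) ⊗ₜ[A] (Ideal.Quotient.mk I x) := fun x => rfl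
  have hdim : finrank p.ResidueField (p.ResidueField ⊗[A] (S ⧸ I)) = d := by
    rw [← hrank ⟨p, inferInstance⟩, Module.rankAtStalk_eq]
  have hN : Ideal.map θ (RingHom.ker π) ≤ nilradical (p.ResidueField ⊗[A] (S ⧸ I)) := by
    rw [Ideal.map, Ideal.span_le]
    rintro _ ⟨x, hx, rfl⟩
    obtain ⟨n, hn⟩ := hsupp hx
    refine ⟨n, ?_⟩
    rw [← map_pow, hθ, Ideal.Quotient.eq_zero_iff_mem.mpr hn, TensorProduct.tmul_zero]
    exact Ideal.zero_mem _
  have hpow := nil_pow_eq_bot p.ResidueField (p.ResidueField ⊗[A] (S ⧸ I)) d hdim _ hN
  rw [← Ideal.map_pow] at hpow
  have : θ y ∈ Ideal.map θ (RingHom.ker π ^ d) := Ideal.mem_map_of_mem θ hy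
  rw [hpow, Ideal.mem_bot] at this
  exact this

end Helpers

/-- Let A be a reduced commutative ring, S an A-algebra together with an A-algebra homomorphism π : S →
A (a section of Spec S → Spec A), with kernel m, and I an ideal of S such that S/I is a finite
projective A-module of constant rank d and m is contained in the radical of I (the finite flat
subscheme Spec S/I of degree d lies, as a set, on the section). Then m^d ⊆ I: the subscheme lies in
the (d−1)-st infinitesimal neighbourhood of the section. (The published statement is for a closed
subscheme, flat and proper of degree d over a Noetherian base, of a family of reduced curve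
singularities with a section, with no reducedness assumption on the base; over the dual numbers k[ε]
the ideal (x − ε) of k[ε][x] has quotient free of rank one and radical containing x but does not
contain x, so the base is taken reduced here, and the statement is given in its affine form, to
which the argument reduces at once; the curve hypotheses play no role and are dropped; the condition
that Spec S/I lies set-theoretically on the section, which the published argument deduces from
properness of Z inside the germ, is a hypothesis here.) -/
theorem result (A : Type u) [CommRing A] [IsReduced A]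
    (S : Type u) [CommRing S] [Algebra A S] (π : S →ₐ[A] A) (I : Ideal S) (d : ℕ)
    [Module.Finite A (S ⧸ I)] [Module.Projective A (S ⧸ I)]
    (hrank : ∀ p : PrimeSpectrum A, Module.rankAtStalk (R := A) (S ⧸ I) p = d)
    (hsupp : RingHom.ker π ≤ I.radical) :
    RingHom.ker π ^ d ≤ I := by
  exact main A S π I d hrank hsupp

end Groth.Agent.S15150
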