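import Groth.Statements.S15151
import Mathlib

set_option autoImplicit false
universe u
open CategoryTheory AlgebraicGeometry
open HilbZeta

namespace Groth.Agent.S15151

section Helpers

open AlgebraicGeometry CategoryTheory TopologicalSpace Opposite

/-- a section vanishing on all affine opens inside `W` vanishes -/
theorem eq_zero_of_affine {X : Scheme.{u}} (W : X.Opens) (s : Γ(X, W))
    (h : ∀ (V : X.Opens) (_ : IsAffineOpen V) (e : V ≤ W), X.presheaf.map (homOfLE e).op s = 0) :
    s = 0 := by
  fapply TopCat.Sheaf.eq_of_locally_eq' X.sheaf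
    (fun i : {V : X.affineOpens // V.1 ≤ W} => i.1.1) W (fun i => homOfLE i.2)
  · intro x hx
    obtain ⟨_, ⟨V, hV, rfl⟩, hxV, hVW⟩ := X.isBasis_affineOpens.exists_subset_of_mem_open hx W.2
    simp only [Opens.iSup_mk, Opens.carrier_eq_coe, Opens.mem_mk, Set.mem_iUnion, SetLike.mem_coe]
    exact ⟨⟨⟨V, hV⟩, hVW⟩, hxV⟩
  · intro i
    change X.presheaf.map _ s = X.presheaf.map _ 0
    rw [map_zero]
    exact h i.1.1 i.1.2 i.2

theorem main (k : Type u) [Field k]
    (X Y : Scheme.{u}) (f : X ⟶ Y) (g : Y ⟶ Spec (CommRingCat.of (Polynomial k)))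
    [QuasiCompact f] (hker : f.ker = ⊥) [Flat (f ≫ g)] : Flat g := by
  haveI : HasAffineProperty @Flat (sourceAffineLocally RingHom.Flat) :=
    HasRingHomProperty.HasAffineProperty @Flat
  rw [HasAffineProperty.iff_of_isAffine (P := @Flat)]
  intro U
  -- the base ring
  let e₀ : Γ(Spec (CommRingCat.of (Polynomial k)), ⊤) ≃+* Polynomial k :=
    (Scheme.ΓSpecIso (CommRingCat.of (Polynomial k))).commRingCatIsoToRingEquiv
  haveI : IsDomain Γ(Spec (CommRingCat.of (Polynomial k)), ⊤) := e₀.toMulEquiv.isDomain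
  haveI : IsPrincipalIdealRing Γ(Spec (CommRingCat.of (Polynomial k)), ⊤) :=
    IsPrincipalIdealRing.of_surjective e₀.symm.toRingHom e₀.symm.surjective
  set φ := (g.appLE ⊤ U le_top).hom with hφ
  -- injectivity of f.app U
  have hinj : Function.Injective (f.app U.1).hom := by
    rw [injective_iff_map_eq_zero]
    intro b hb
    have h1 : b ∈ RingHom.ker (f.app U.1).hom := hb
    rw [← Scheme.Hom.ker_apply, hker, Scheme.IdealSheafData.ideal_bot] at h1
    exact h1
  change @Module.Flat _ _ _ _ φ.toModule
  letI := φ.toAlgebra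
  rw [Module.Flat.flat_iff_torsion_eq_bot_of_isBezout, Submodule.eq_bot_iff]
  intro b hb
  obtain ⟨r, hr⟩ := (Submodule.mem_torsion_iff b).1 hb
  have hr0 : (r : Γ(Spec (CommRingCat.of (Polynomial k)), ⊤)) ≠ 0 := nonZeroDivisors.coe_ne_zero r
  have hrb : φ r * b = 0 := hr
  apply hinj
  rw [map_zero]
  apply eq_zero_of_affine
  intro V hV e
  -- restriction to V
  set ρ := (f.appLE U.1 V e).hom with hρ
  have hρb : X.presheaf.map (homOfLE e).op ((f.app U.1).hom b) = ρ b := rfl
  rw [hρb]
  set χ := ((f ≫ g).appLE ⊤ V le_top).hom with hχ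
  have hflat : χ.Flat := Scheme.Hom.flat_appLE (f ≫ g) (isAffineOpen_top _) hV le_top
  have hχ' : χ = ρ.comp φ := by
    rw [hχ, hρ, hφ, ← CommRingCat.hom_comp, Scheme.Hom.appLE_comp_appLE]
  have h2 : χ r * ρ b = 0 := by
    rw [hχ', RingHom.comp_apply, ← map_mul, hrb, map_zero]
  -- flat over a domain => torsion free
  letI := χ.toAlgebra
  haveI : Module.Flat Γ(Spec (CommRingCat.of (Polynomial k)), ⊤) Γ(X, V) := hflat
  have htf := Module.Flat.torsion_eq_bot (R := Γ(Spec (CommRingCat.of (Polynomial k)), ⊤))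
    (M := Γ(X, V))
  have hmem : ρ b ∈ Submodule.torsion Γ(Spec (CommRingCat.of (Polynomial k)), ⊤) Γ(X, V) := by
    rw [Submodule.mem_torsion_iff]
    exact ⟨r, h2⟩
  rw [htf] at hmem
  exact (Submodule.mem_bot _).1 hmem

end Helpers

/-- Let k be a field, and let f : X → Y and g : Y → Spec k[t] be morphisms of schemes with f
quasi-compact and with zero kernel ideal sheaf (Y is the scheme-theoretic image of f), such that the
composite X → Spec k[t] is flat. Then g is flat; in particular a k[t]-subalgebra of a flat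
k[t]-algebra is flat. (The published statement has no quasi-compactness hypothesis on f and is over
an algebraically closed field; this row assumes f quasi-compact and allows any field.) -/
theorem result (k : Type u) [Field k]
    (X Y : Scheme.{u}) (f : X ⟶ Y) (g : Y ⟶ Spec (CommRingCat.of (Polynomial k)))
    [QuasiCompact f] (hker : f.ker = ⊥) [Flat (f ≫ g)] : Flat g := by
  exact main k X Y f g hker

end Groth.Agent.S15151
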