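import Groth.Statements.S15159
import Mathlib

set_option autoImplicit false
open CAlg

namespace Groth.Agent.S15159

section Helpers

theorem layer (m : ℤ) (T : ℕ) :
    ∑ k ∈ Finset.range T, ((if (k:ℤ) + 1 ≤ m then (1:ℤ) else 0) - (if m ≤ -((k:ℤ)+1) then 1 else 0))
      = max (min m T) (-T) := by
  induction T with
  | zero => simp
  | succ T ih =>
    rw [Finset.sum_range_succ, ih]
    push_cast
    split_ifs <;> omega

theorem arithC {ι : Type} [Fintype ι] (d : ι → ℕ) (m : ι → ℤ)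
    (h0 : ∑ i, m i * (d i : ℤ) = 0)
    (h : ∀ k : ℕ, (∑ i with m i ≤ -((k:ℤ)+1), d i) ≤ ∑ i with (k:ℤ)+1 ≤ m i, d i) (k : ℕ) :
    (∑ i with m i ≤ -((k:ℤ)+1), d i) = ∑ i with (k:ℤ)+1 ≤ m i, d i := by
  classical
  set T := ∑ i, (m i).natAbs with hT
  have hbd : ∀ i, (m i).natAbs ≤ T := fun i =>
    Finset.single_le_sum (f := fun i => (m i).natAbs) (fun _ _ => Nat.zero_le _) (Finset.mem_univ i)
  have hlay : ∀ i, m i = ∑ k ∈ Finset.range T,
      ((if (k:ℤ) + 1 ≤ m i then (1:ℤ) else 0) - (if m i ≤ -((k:ℤ)+1) then 1 else 0)) := by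
    intro i
    rw [layer]
    have := hbd i
    omega
  have hsum : ∑ k ∈ Finset.range T, (((∑ i with (k:ℤ)+1 ≤ m i, d i : ℕ) : ℤ)
      - ((∑ i with m i ≤ -((k:ℤ)+1), d i : ℕ) : ℤ)) = 0 := by
    rw [← h0]
    have : ∀ i, m i * (d i : ℤ) = ∑ k ∈ Finset.range T,
      ((if (k:ℤ) + 1 ≤ m i then (1:ℤ) else 0) - (if m i ≤ -((k:ℤ)+1) then 1 else 0)) * (d i : ℤ) := by
      intro i
      rw [← Finset.sum_mul, ← hlay i]
    rw [Finset.sum_congr rfl (fun i _ => this i), Finset.sum_comm]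
    refine Finset.sum_congr rfl (fun k _ => ?_)
    simp only [sub_mul, Finset.sum_sub_distrib, ite_mul, one_mul, zero_mul, Finset.sum_filter,
      Nat.cast_sum, Nat.cast_ite, Nat.cast_zero]
  by_cases hk : k < T
  · have hz := (Finset.sum_eq_zero_iff_of_nonneg (fun k _ => by
      have := h k
      omega)).1 hsum k (Finset.mem_range.2 hk)
    have := h k
    omega
  · have h1 : (∑ i with m i ≤ -((k:ℤ)+1), d i) = 0 := by
      apply Finset.sum_eq_zero
      intro i hi
      have := hbd i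
      simp only [Finset.mem_filter, Finset.mem_univ, true_and] at hi
      omega
    have h2 : (∑ i with (k:ℤ)+1 ≤ m i, d i) = 0 := by
      apply Finset.sum_eq_zero
      intro i hi
      have := hbd i
      simp only [Finset.mem_filter, Finset.mem_univ, true_and] at hi
      omega
    rw [h1, h2]

theorem fin_step {ι : Type} [Fintype ι] (d : ι → ℕ) (m : ι → ℤ)
    (hG : ∀ k : ℕ, (∑ i with m i ≤ -((k:ℤ)+1), d i) = 0)
    (hF : ∀ k : ℕ, (∑ i with (k:ℤ)+1 ≤ m i, d i) = 0) (i : ι) (hi : m i ≠ 0) : d i = 0 := by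
  classical
  rcases lt_or_gt_of_ne hi with h | h
  · have := hG (-(m i) - 1).toNat
    rw [Finset.sum_eq_zero_iff] at this
    apply this i
    simp only [Finset.mem_filter, Finset.mem_univ, true_and]
    omega
  · have := hF ((m i) - 1).toNat
    rw [Finset.sum_eq_zero_iff] at this
    apply this i
    simp only [Finset.mem_filter, Finset.mem_univ, true_and]
    omega

theorem arith_s {ι : Type} [Fintype ι] (d : ι → ℕ) (m : ι → ℤ)
    (h0 : ∑ i, m i * (d i : ℤ) = 0)
    (h : ∀ k : ℕ, (∑ i with m i ≤ -((k:ℤ)+1), d i) = 0 ∨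
      (∑ i with m i ≤ -((k:ℤ)+1), d i) < ∑ i with (k:ℤ)+1 ≤ m i, d i) :
    ∀ i, m i ≠ 0 → d i = 0 := by
  have hC := arithC d m h0 (fun k => by rcases h k with h | h <;> omega)
  have hG : ∀ k : ℕ, (∑ i with m i ≤ -((k:ℤ)+1), d i) = 0 := by
    intro k
    have := hC k
    rcases h k with h | h <;> omega
  exact fin_step d m hG (fun k => by rw [← hC k]; exact hG k)

theorem arith_ss {ι : Type} [Fintype ι] (d : ι → ℕ) (m : ι → ℤ)
    (h0 : ∑ i, m i * (d i : ℤ) = 0)
    (h : ∀ k : ℕ, (∑ i with m i ≤ -((k:ℤ)+1), d i) ≤ ∑ i with (k:ℤ)+2 ≤ m i, d i) :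
    ∀ i, m i ≠ 0 → d i = 0 := by
  classical
  have hmono : ∀ k : ℕ, (∑ i with (k:ℤ)+2 ≤ m i, d i) ≤ ∑ i with (k:ℤ)+1 ≤ m i, d i := by
    intro k
    apply Finset.sum_le_sum_of_subset
    intro i hi
    simp only [Finset.mem_filter, Finset.mem_univ, true_and] at hi ⊢
    omega
  have hC := arithC d m h0 (fun k => (h k).trans (hmono k))
  have hstep : ∀ k : ℕ, (∑ i with (k:ℤ)+1 ≤ m i, d i) = ∑ i with ((k+1 : ℕ):ℤ)+1 ≤ m i, d i := by
    intro k
    have h1 := hC k
    have h2 := h k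
    have h3 := hmono k
    have : (∑ i with ((k+1 : ℕ):ℤ)+1 ≤ m i, d i) = ∑ i with (k:ℤ)+2 ≤ m i, d i := by
      apply Finset.sum_congr _ (fun _ _ => rfl)
      ext i
      simp only [Finset.mem_filter, Finset.mem_univ, true_and]
      push_cast
      omega
    omega
  have hall : ∀ k j : ℕ, (∑ i with (k:ℤ)+1 ≤ m i, d i) = ∑ i with ((k+j : ℕ):ℤ)+1 ≤ m i, d i := by
    intro k j
    induction j with
    | zero => rfl
    | succ j ih => rw [ih, hstep (k + j)]; rfl
  have hF : ∀ k : ℕ, (∑ i with (k:ℤ)+1 ≤ m i, d i) = 0 := by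
    intro k
    rw [hall k (∑ i, (m i).natAbs)]
    apply Finset.sum_eq_zero
    intro i hi
    have hbd : (m i).natAbs ≤ ∑ i, (m i).natAbs :=
      Finset.single_le_sum (f := fun i => (m i).natAbs) (fun _ _ => Nat.zero_le _) (Finset.mem_univ i)
    simp only [Finset.mem_filter, Finset.mem_univ, true_and, Nat.cast_add] at hi
    omega
  exact fin_step d m (fun k => by rw [hC k]; exact hF k) hF

open Module

variable {H W : Type} [AddCommGroup H] [Module ℂ H] [FiniteDimensional ℂ H]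
  [AddCommGroup W] [Module ℂ W]

theorem mem_perp (q : H →ₗ[ℂ] H →ₗ[ℂ] W) (V : Submodule ℂ H) (x : H) :
    x ∈ (⨅ (y : H) (_ : y ∈ V), LinearMap.ker (q.flip y) : Submodule ℂ H) ↔
      ∀ y ∈ V, q x y = 0 := by
  simp [Submodule.mem_iInf]

theorem finrank_total {ι : Type} [Fintype ι] [DecidableEq ι] (Hs : ι → Submodule ℂ H)
    (hint : DirectSum.IsInternal Hs) :
    Module.finrank ℂ H = ∑ i, Module.finrank ℂ (Hs i) := by
  rw [← Module.finrank_directSum,
    (LinearEquiv.ofBijective (DirectSum.coeLinearMap Hs) hint).finrank_eq]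

theorem finrank_sup_le {ι : Type} [DecidableEq ι] (Hs : ι → Submodule ℂ H) (S : Finset ι) :
    Module.finrank ℂ (S.sup Hs : Submodule ℂ H) ≤ ∑ i ∈ S, Module.finrank ℂ (Hs i) := by
  induction S using Finset.induction_on with
  | empty => simp
  | insert a S ha ih =>
    rw [Finset.sup_insert, Finset.sum_insert ha]
    exact (Submodule.finrank_add_le_finrank_add_finrank _ _).trans (by omega)

theorem finrank_sup_eq {ι : Type} [Fintype ι] [DecidableEq ι] (Hs : ι → Submodule ℂ H)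
    (hint : DirectSum.IsInternal Hs) (S : Finset ι) :
    Module.finrank ℂ (S.sup Hs : Submodule ℂ H) = ∑ i ∈ S, Module.finrank ℂ (Hs i) := by
  apply le_antisymm (finrank_sup_le Hs S)
  have h1 := finrank_total Hs hint
  have h2 : (S.sup Hs ⊔ Sᶜ.sup Hs : Submodule ℂ H) = ⊤ := by
    rw [← Finset.sup_union, Finset.union_compl, Finset.sup_univ_eq_iSup]
    exact hint.submodule_iSup_eq_top
  have h3 := Submodule.finrank_add_le_finrank_add_finrank (S.sup Hs) (Sᶜ.sup Hs)
  rw [h2, finrank_top] at h3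
  have h4 := finrank_sup_le Hs Sᶜ
  have h5 : ∑ i, Module.finrank ℂ (Hs i) =
      ∑ i ∈ S, Module.finrank ℂ (Hs i) + ∑ i ∈ Sᶜ, Module.finrank ℂ (Hs i) :=
    (Finset.sum_add_sum_compl S _).symm
  omega

theorem orth_sup {ι : Type} [DecidableEq ι] (q : H →ₗ[ℂ] H →ₗ[ℂ] W) (Hs : ι → Submodule ℂ H)
    (S S' : Finset ι)
    (h : ∀ i ∈ S, ∀ j ∈ S', ∀ x ∈ Hs i, ∀ y ∈ Hs j, q x y = 0) :
    ∀ x ∈ (S.sup Hs : Submodule ℂ H), ∀ y ∈ (S'.sup Hs : Submodule ℂ H), q x y = 0 := by
  have h1 : ∀ i ∈ S, ∀ x ∈ Hs i, ∀ y ∈ (S'.sup Hs : Submodule ℂ H), q x y = 0 := by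
    intro i hi x hx
    have : (S'.sup Hs : Submodule ℂ H) ≤ LinearMap.ker (q x) :=
      Finset.sup_le (fun j hj y hy => h i hi j hj x hx y hy)
    exact fun y hy => this hy
  intro x hx y hy
  have : (S.sup Hs : Submodule ℂ H) ≤ LinearMap.ker (q.flip y) :=
    Finset.sup_le (fun i hi x hx => by simpa using h1 i hi x hx y hy)
  simpa using this hx

/-- data for the forward direction -/
theorem fwd (s : W →ₗ[ℂ] W) (q : H →ₗ[ℂ] H →ₗ[ℂ] W) (hq : ∀ x y : H, q x y = s (q y x))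
    {ι : Type} [Fintype ι] [DecidableEq ι] (Hs : ι → Submodule ℂ H)
    (hint : DirectSum.IsInternal Hs) (m : ι → ℤ) (a b : ℤ) (hab : a ≤ b)
    (horth : ∀ i j, m i ≤ a → m j ≤ b → ∀ x ∈ Hs i, ∀ y ∈ Hs j, q x y = 0) :
    ∃ V : Submodule ℂ H, (∀ x ∈ V, ∀ y ∈ V, q x y = 0) ∧
      Module.finrank ℂ V = ∑ i with m i ≤ a, Module.finrank ℂ (Hs i) ∧
      ∑ i with m i ≤ b, Module.finrank ℂ (Hs i) ≤
        Module.finrank ℂ ↥(⨅ (y : H) (_ : y ∈ V), LinearMap.ker (q.flip y) : Submodule ℂ H) := by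
  classical
  set S : Finset ι := Finset.univ.filter (fun i => m i ≤ a) with hS
  set S' : Finset ι := Finset.univ.filter (fun i => m i ≤ b) with hS'
  have hSS' : S ⊆ S' := by
    intro i hi
    simp only [hS, hS', Finset.mem_filter, Finset.mem_univ, true_and] at hi ⊢
    omega
  have ho := orth_sup q Hs S S' (fun i hi j hj => horth i j (by simpa [hS] using hi)
    (by simpa [hS'] using hj))
  refine ⟨S.sup Hs, ?_, finrank_sup_eq Hs hint S, ?_⟩
  · intro x hx y hy
    exact ho x hx y (Finset.sup_mono (f := Hs) hSS' hy)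
  · rw [← finrank_sup_eq Hs hint S']
    apply Submodule.finrank_mono
    intro y hy
    rw [mem_perp]
    intro x hx
    rw [hq, ho x hx y hy, map_zero]

theorem bwd (s : W →ₗ[ℂ] W) (q : H →ₗ[ℂ] H →ₗ[ℂ] W) (hq : ∀ x y : H, q x y = s (q y x))
    (hq0 : q ≠ 0)
    (V : Submodule ℂ H) (hV : V ≠ ⊥) (hiso : ∀ x ∈ V, ∀ y ∈ V, q x y = 0) :
    ∃ (Hs : Fin 3 → Submodule ℂ H) (m : Fin 3 → ℤ), DirectSum.IsInternal Hs ∧
      (∑ i, m i * (Module.finrank ℂ (Hs i) : ℤ)) = 0 ∧ (∃ i, m i ≠ 0 ∧ Hs i ≠ ⊥) ∧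
      ∀ i j, (∃ x ∈ Hs i, ∃ y ∈ Hs j, q x y ≠ 0) →
        (m i + m j ≤ 0 → Module.finrank ℂ V + Module.finrank ℂ
          ↥(⨅ (y : H) (_ : y ∈ V), LinearMap.ker (q.flip y) : Submodule ℂ H)
            ≤ Module.finrank ℂ H) ∧
        (m i + m j < 0 → Module.finrank ℂ V + Module.finrank ℂ
          ↥(⨅ (y : H) (_ : y ∈ V), LinearMap.ker (q.flip y) : Submodule ℂ H)
            < Module.finrank ℂ H) := by
  set P : Submodule ℂ H := ⨅ (y : H) (_ : y ∈ V), LinearMap.ker (q.flip y) with hP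
  have hmemP : ∀ x, x ∈ P ↔ ∀ y ∈ V, q x y = 0 := fun x => mem_perp q V x
  have hVP : V ≤ P := fun x hx => (hmemP x).2 (fun y hy => hiso x hx y hy)
  obtain ⟨C, hC⟩ := Submodule.exists_isCompl V
  obtain ⟨V2, hV2⟩ := Submodule.exists_isCompl P
  set V1 : Submodule ℂ H := C ⊓ P with hV1
  have hsup1 : V ⊔ V1 = P := by
    rw [hV1, ← sup_inf_assoc_of_le C hVP, hC.sup_eq_top, top_inf_eq]
  have hdisj1 : V ⊓ V1 = ⊥ := by
    rw [hV1, ← inf_assoc, hC.inf_eq_bot, bot_inf_eq]
  have hd1 : finrank ℂ V + finrank ℂ V1 = finrank ℂ P := by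
    have := Submodule.finrank_sup_add_finrank_inf_eq V V1
    rw [hsup1, hdisj1, finrank_bot] at this
    omega
  have hd2 : finrank ℂ P + finrank ℂ V2 = finrank ℂ H := Submodule.finrank_add_eq_of_isCompl hV2
  have hV1P : V1 ≤ P := inf_le_right
  -- orthogonality facts
  have hPV : ∀ x ∈ P, ∀ y ∈ V, q x y = 0 := fun x hx => (hmemP x).1 hx
  have hVP' : ∀ x ∈ V, ∀ y ∈ P, q x y = 0 := fun x hx y hy => by
    rw [hq, hPV y hy x hx, map_zero]
  have hvpos : 0 < finrank ℂ V := by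
    rw [Nat.pos_iff_ne_zero]
    intro h0
    exact hV (Submodule.finrank_eq_zero.1 h0)
  have hnot : 0 < finrank ℂ V1 + finrank ℂ V2 := by
    rw [Nat.pos_iff_ne_zero]
    intro h0
    have h1 : finrank ℂ V1 = 0 := by omega
    have h2 : finrank ℂ V2 = 0 := by omega
    have hVH : finrank ℂ V = finrank ℂ H := by omega
    have hVtop : V = ⊤ := Submodule.eq_top_of_finrank_eq hVH
    apply hq0
    ext x y
    simpa using hiso x (hVtop ▸ Submodule.mem_top) y (hVtop ▸ Submodule.mem_top)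
  refine ⟨![V, V1, V2], ![-((finrank ℂ V1 : ℤ) + finrank ℂ V2), (finrank ℂ V : ℤ) - finrank ℂ V2,
    (finrank ℂ V : ℤ) + finrank ℂ V1], ?_, ?_, ?_, ?_⟩
  · rw [DirectSum.isInternal_submodule_iff_iSupIndep_and_iSup_eq_top]
    constructor
    · rw [iSupIndep_fin_three]
      simp only [Matrix.cons_val_zero, Matrix.cons_val_one, Matrix.cons_val_two,
        Matrix.head_cons, Matrix.tail_cons]
      refine ⟨?_, ?_, ?_⟩
      · rw [Submodule.disjoint_def]
        intro x hx hx'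
        obtain ⟨a, ha, b, hb, rfl⟩ := Submodule.mem_sup.1 hx'
        have hbP : b ∈ P := by
          have : b = (a + b) - a := by abel
          rw [this]
          exact P.sub_mem (hVP hx) (hV1P ha)
        have hb0 : b = 0 := by
          have := hV2.disjoint
          rw [Submodule.disjoint_def] at this
          exact this b hbP hb
        subst hb0
        rw [add_zero] at hx ⊢
        have : a ∈ V ⊓ V1 := ⟨hx, ha⟩
        rw [hdisj1] at this
        exact (Submodule.mem_bot ℂ).1 this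
      · rw [Submodule.disjoint_def]
        intro x hx hx'
        obtain ⟨b, hb, a, ha, rfl⟩ := Submodule.mem_sup.1 hx'
        have hbP : b ∈ P := by
          have : b = (b + a) - a := by abel
          rw [this]
          exact P.sub_mem (hV1P hx) (hVP ha)
        have hb0 : b = 0 := by
          have := hV2.disjoint
          rw [Submodule.disjoint_def] at this
          exact this b hbP hb
        subst hb0
        rw [zero_add] at hx ⊢
        have : a ∈ V ⊓ V1 := ⟨ha, hx⟩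
        rw [hdisj1] at this
        exact (Submodule.mem_bot ℂ).1 this
      · rw [hsup1]
        exact hV2.disjoint.symm
    · rw [iSup_fin_three]
      simp only [Matrix.cons_val_zero, Matrix.cons_val_one, Matrix.cons_val_two,
        Matrix.head_cons, Matrix.tail_cons]
      rw [hsup1, hV2.sup_eq_top]
  · rw [Fin.sum_univ_three]
    show (-((finrank ℂ V1 : ℤ) + finrank ℂ V2)) * (finrank ℂ V : ℤ)
      + ((finrank ℂ V : ℤ) - finrank ℂ V2) * (finrank ℂ V1 : ℤ)
      + ((finrank ℂ V : ℤ) + finrank ℂ V1) * (finrank ℂ V2 : ℤ) = 0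
    ring
  · refine ⟨0, ?_, ?_⟩
    · simp only [Matrix.cons_val_zero]
      omega
    · simpa using hV
  · intro i j ⟨x, hx, y, hy, hxy⟩
    fin_cases i <;> fin_cases j <;>
      simp only [Fin.zero_eta, Fin.mk_one, Fin.reduceFinMk, Matrix.cons_val_zero,
        Matrix.cons_val_one, Matrix.cons_val_two,
        Matrix.head_cons, Matrix.tail_cons] at hx hy ⊢
    · exact absurd (hiso x hx y hy) hxy
    · exact absurd (hVP' x hx y (hV1P hy)) hxy
    · constructor <;> intro h <;> omega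
    · exact absurd (hPV x (hV1P hx) y hy) hxy
    · constructor <;> intro h <;> omega
    · constructor <;> intro h <;> omega
    · constructor <;> intro h <;> omega
    · constructor <;> intro h <;> omega
    · constructor <;> intro h <;> omega


theorem main
    (W : Type) [AddCommGroup W] [Module ℂ W] [FiniteDimensional ℂ W]
    (s : W →ₗ[ℂ] W) (hs : s ∘ₗ s = LinearMap.id)
    (H : Type) [AddCommGroup H] [Module ℂ H] [FiniteDimensional ℂ H]
    (q : H →ₗ[ℂ] H →ₗ[ℂ] W) (hq : ∀ x y : H, q x y = s (q y x)) (hq0 : q ≠ 0) :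
    ((∀ V : Submodule ℂ H, V ≠ ⊥ → (∀ x ∈ V, ∀ y ∈ V, q x y = 0) →
        Module.finrank ℂ V + Module.finrank ℂ ↥(⨅ (y : H) (_ : y ∈ V), LinearMap.ker (q.flip y) : Submodule ℂ H) ≤ Module.finrank ℂ H) ↔
      (∀ (ι : Type) [Fintype ι] [DecidableEq ι] (Hs : ι → Submodule ℂ H) (m : ι → ℤ),
        DirectSum.IsInternal Hs → (∑ i, m i * (Module.finrank ℂ (Hs i) : ℤ)) = 0 →
        (∃ i, m i ≠ 0 ∧ Hs i ≠ ⊥) →
        ∃ i j, (∃ x ∈ Hs i, ∃ y ∈ Hs j, q x y ≠ 0) ∧ m i + m j ≤ 0)) ∧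
    ((∀ V : Submodule ℂ H, V ≠ ⊥ → (∀ x ∈ V, ∀ y ∈ V, q x y = 0) →
        Module.finrank ℂ V + Module.finrank ℂ ↥(⨅ (y : H) (_ : y ∈ V), LinearMap.ker (q.flip y) : Submodule ℂ H) < Module.finrank ℂ H) ↔
      (∀ (ι : Type) [Fintype ι] [DecidableEq ι] (Hs : ι → Submodule ℂ H) (m : ι → ℤ),
        DirectSum.IsInternal Hs → (∑ i, m i * (Module.finrank ℂ (Hs i) : ℤ)) = 0 →
        (∃ i, m i ≠ 0 ∧ Hs i ≠ ⊥) →
        ∃ i j, (∃ x ∈ Hs i, ∃ y ∈ Hs j, q x y ≠ 0) ∧ m i + m j < 0)) := by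
  refine ⟨⟨?_, ?_⟩, ⟨?_, ?_⟩⟩
  · intro hSS ι _ _ Hs m hint h0 hne
    by_contra hcon
    have horth : ∀ i j, m i + m j ≤ 0 → ∀ x ∈ Hs i, ∀ y ∈ Hs j, q x y = 0 := by
      intro i j hij x hx y hy
      by_contra hne'
      exact hcon ⟨i, j, ⟨x, hx, y, hy, hne'⟩, hij⟩
    have htot := finrank_total Hs hint
    have key := arith_ss (fun i => finrank ℂ (Hs i)) m h0 (fun k => ?_)
    · obtain ⟨i, hi, hib⟩ := hne
      exact hib (Submodule.finrank_eq_zero.1 (key i hi))
    · obtain ⟨V, hiso, hfr, hperp⟩ := fwd s q hq Hs hint m (-((k:ℤ)+1)) ((k:ℤ)+1) (by omega)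
        (fun i j hi hj => horth i j (by omega))
      have hsplit : ∑ i with m i ≤ (k:ℤ)+1, finrank ℂ (Hs i)
          + ∑ i with (k:ℤ)+2 ≤ m i, finrank ℂ (Hs i) = ∑ i, finrank ℂ (Hs i) := by
        rw [← Finset.sum_filter_add_sum_filter_not Finset.univ (fun i => m i ≤ (k:ℤ)+1)]
        congr 1
        apply Finset.sum_congr _ (fun _ _ => rfl)
        ext i
        simp only [Finset.mem_filter, Finset.mem_univ, true_and]
        omega
      by_cases hVb : V = ⊥
      · show ∑ i with m i ≤ -((k:ℤ)+1), finrank ℂ (Hs i) ≤ _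
        rw [← hfr, hVb, finrank_bot]
        exact Nat.zero_le _
      · have := hSS V hVb hiso
        show ∑ i with m i ≤ -((k:ℤ)+1), finrank ℂ (Hs i) ≤ ∑ i with (k:ℤ)+2 ≤ m i, finrank ℂ (Hs i)
        omega
  · intro hNC V hV hiso
    obtain ⟨Hs, m, hint, h0, hne, hall⟩ := bwd s q hq hq0 V hV hiso
    obtain ⟨i, j, hex, hij⟩ := hNC (Fin 3) Hs m hint h0 hne
    exact (hall i j hex).1 hij
  · intro hSS ι _ _ Hs m hint h0 hne
    by_contra hcon
    have horth : ∀ i j, m i + m j < 0 → ∀ x ∈ Hs i, ∀ y ∈ Hs j, q x y = 0 := by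
      intro i j hij x hx y hy
      by_contra hne'
      exact hcon ⟨i, j, ⟨x, hx, y, hy, hne'⟩, hij⟩
    have htot := finrank_total Hs hint
    have key := arith_s (fun i => finrank ℂ (Hs i)) m h0 (fun k => ?_)
    · obtain ⟨i, hi, hib⟩ := hne
      exact hib (Submodule.finrank_eq_zero.1 (key i hi))
    · obtain ⟨V, hiso, hfr, hperp⟩ := fwd s q hq Hs hint m (-((k:ℤ)+1)) (k:ℤ) (by omega)
        (fun i j hi hj => horth i j (by omega))
      have hsplit : ∑ i with m i ≤ (k:ℤ), finrank ℂ (Hs i)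
          + ∑ i with (k:ℤ)+1 ≤ m i, finrank ℂ (Hs i) = ∑ i, finrank ℂ (Hs i) := by
        rw [← Finset.sum_filter_add_sum_filter_not Finset.univ (fun i => m i ≤ (k:ℤ))]
        congr 1
        apply Finset.sum_congr _ (fun _ _ => rfl)
        ext i
        simp only [Finset.mem_filter, Finset.mem_univ, true_and]
        omega
      by_cases hVb : V = ⊥
      · left
        show ∑ i with m i ≤ -((k:ℤ)+1), finrank ℂ (Hs i) = 0
        rw [← hfr, hVb, finrank_bot]
      · right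
        have := hSS V hVb hiso
        show ∑ i with m i ≤ -((k:ℤ)+1), finrank ℂ (Hs i) < ∑ i with (k:ℤ)+1 ≤ m i, finrank ℂ (Hs i)
        omega
  · intro hNC V hV hiso
    obtain ⟨Hs, m, hint, h0, hne, hall⟩ := bwd s q hq hq0 V hV hiso
    obtain ⟨i, j, hex, hij⟩ := hNC (Fin 3) Hs m hint h0 hne
    exact (hall i j hex).2 hij

end Helpers

/-- Let W be a finite-dimensional complex vector space with an involution s, H a finite-dimensional
complex vector space and q : H → H → W a nonzero bilinear map with q(x)(y) = s(q(y)(x)). Write V^⊥ =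
{x | q(x)(y) = 0 for all y ∈ V} and call V totally isotropic when q vanishes on V × V. The pair (H,
q) is semistable (dim V + dim V^⊥ ≤ dim H for every nonzero totally isotropic subspace V),
respectively stable (strict inequality), if and only if the line of q is semistable, respectively
stable, for the action of SL(H), the latter being expressed through one-parameter subgroups: for
every decomposition H = ⊕_i H_i into subspaces with integer weights m_i such that Σ_i m_i dim H_i =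
0 and some nonzero H_i has nonzero weight, there are indices i, j with q(H_i, H_j) ≠ 0 and m_i + m_j
≤ 0, respectively m_i + m_j < 0. (The published statement speaks of semistability and stability of
the point of the projective space of such forms under SL(H); this row states the numerical condition
on one-parameter subgroups to which that is equivalent and which the published argument verifies.) -/
theorem result
    (W : Type) [AddCommGroup W] [Module ℂ W] [FiniteDimensional ℂ W]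
    (s : W →ₗ[ℂ] W) (hs : s ∘ₗ s = LinearMap.id)
    (H : Type) [AddCommGroup H] [Module ℂ H] [FiniteDimensional ℂ H]
    (q : H →ₗ[ℂ] H →ₗ[ℂ] W) (hq : ∀ x y : H, q x y = s (q y x)) (hq0 : q ≠ 0) :
    ((∀ V : Submodule ℂ H, V ≠ ⊥ → (∀ x ∈ V, ∀ y ∈ V, q x y = 0) →
        Module.finrank ℂ V + Module.finrank ℂ ↥(⨅ (y : H) (_ : y ∈ V), LinearMap.ker (q.flip y) : Submodule ℂ H) ≤ Module.finrank ℂ H) ↔
      (∀ (ι : Type) [Fintype ι] [DecidableEq ι] (Hs : ι → Submodule ℂ H) (m : ι → ℤ),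
        DirectSum.IsInternal Hs → (∑ i, m i * (Module.finrank ℂ (Hs i) : ℤ)) = 0 →
        (∃ i, m i ≠ 0 ∧ Hs i ≠ ⊥) →
        ∃ i j, (∃ x ∈ Hs i, ∃ y ∈ Hs j, q x y ≠ 0) ∧ m i + m j ≤ 0)) ∧
    ((∀ V : Submodule ℂ H, V ≠ ⊥ → (∀ x ∈ V, ∀ y ∈ V, q x y = 0) →
        Module.finrank ℂ V + Module.finrank ℂ ↥(⨅ (y : H) (_ : y ∈ V), LinearMap.ker (q.flip y) : Submodule ℂ H) < Module.finrank ℂ H) ↔
      (∀ (ι : Type) [Fintype ι] [DecidableEq ι] (Hs : ι → Submodule ℂ H) (m : ι → ℤ),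
        DirectSum.IsInternal Hs → (∑ i, m i * (Module.finrank ℂ (Hs i) : ℤ)) = 0 →
        (∃ i, m i ≠ 0 ∧ Hs i ≠ ⊥) →
        ∃ i j, (∃ x ∈ Hs i, ∃ y ∈ Hs j, q x y ≠ 0) ∧ m i + m j < 0)) := by
  exact main W s hs H q hq hq0

end Groth.Agent.S15159
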