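import Groth.Statements.S1516
import Mathlib

set_option autoImplicit false
universe u
open FlatMor

namespace Groth.Agent.S1516

section Helpers

open CategoryTheory CategoryTheory.Limits AlgebraicGeometry

theorem formallyUnramified_of_formallyEtaleHom {X S : Scheme.{u}} (f : X ⟶ S)
    (hf : MoreMor.IsFormallyEtaleHom f) : FormallyUnramified f := by
  apply FormallyUnramified.of_hom_ext
  intro R R' φ hφ hker g₁ g₂ h12 hgf
  -- identify R' with R ⧸ ker φ
  let I : Ideal R := RingHom.ker φ.hom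
  let e : R ⧸ I ≃+* R' := RingHom.quotientKerEquivOfSurjective hφ
  have he : φ = CommRingCat.ofHom (Ideal.Quotient.mk I) ≫ CommRingCat.ofHom e.toRingHom := by
    ext x
    simp [e, I]
  have hmk : Spec.map (CommRingCat.ofHom (Ideal.Quotient.mk I)) =
      Spec.map (CommRingCat.ofHom e.symm.toRingHom) ≫ Spec.map φ := by
    rw [he, ← Spec.map_comp]
    congr 1
    ext x
    simp
  obtain ⟨l, -, hl⟩ := hf R I hker
    (Spec.map (CommRingCat.ofHom (Ideal.Quotient.mk I)) ≫ g₁) (g₁ ≫ f)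
    (by rw [Category.assoc])
  have h1 : g₁ = l := hl g₁ ⟨rfl, rfl⟩
  have h2 : g₂ = l := hl g₂ ⟨by rw [hmk, Category.assoc, Category.assoc, h12], hgf.symm⟩
  rw [h1, h2]

theorem isNilpotent_ker_of_firstOrder {T T' : Scheme.{u}} (t : T ⟶ T')
    (ht : MoreMor.IsFirstOrderThickening t) : IsNilpotent t.ker :=
  ⟨2, by rw [pow_two]; exact ht.2⟩

/-- The kernel of the base change of a first order thickening along an open immersion is
nilpotent. -/
theorem isNilpotent_ker_pullback_snd {T T' P : Scheme.{u}} (t : T ⟶ T')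
    (ht : MoreMor.IsFirstOrderThickening t) (p : P ⟶ T') [IsOpenImmersion p] :
    IsNilpotent (pullback.snd t p).ker := by
  haveI : IsClosedImmersion t := ht.1.1
  refine ⟨2, ?_⟩
  rw [pow_two]
  apply Scheme.IdealSheafData.ext
  funext W
  rw [Scheme.IdealSheafData.ideal_mul, Pi.mul_apply,
    Scheme.ker_ideal_of_isPullback_of_isOpenImmersion t (pullback.snd t p) (pullback.fst t p) p
      (IsPullback.of_hasPullback t p).flip W]
  change _ = ⊥
  refine le_bot_iff.mp (Ideal.mul_le.mpr fun x hx y hy => ?_)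
  rw [Ideal.mem_comap] at hx hy
  have hxy : (p.appIso W).inv.hom x * (p.appIso W).inv.hom y ∈
      (t.ker * t.ker).ideal ⟨p ''ᵁ W, W.2.image_of_isOpenImmersion _⟩ := by
    rw [Scheme.IdealSheafData.ideal_mul, Pi.mul_apply]
    exact Ideal.mul_mem_mul hx hy
  rw [ht.2] at hxy
  have h0 : (p.appIso W).inv.hom (x * y) = 0 := by
    rw [map_mul]
    exact hxy
  have hinj : Function.Injective (p.appIso W).inv.hom :=
    (ConcreteCategory.bijective_of_isIso (p.appIso W).inv).1
  rw [Submodule.mem_bot]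
  exact hinj (h0.trans (map_zero _).symm)

theorem exists_local_lift {X S : Scheme.{u}} (f : X ⟶ S) (hf : MoreMor.IsFormallyEtaleHom f)
    {T T' : Scheme.{u}} (t : T ⟶ T') (ht : MoreMor.IsFirstOrderThickening t) (a : T ⟶ X)
    (b : T' ⟶ S) (w : t ≫ b = a ≫ f) (W' : T'.Opens) (hW' : IsAffineOpen W') :
    ∃ l : W'.toScheme ⟶ X, (t ∣_ W') ≫ l = (t ⁻¹ᵁ W').ι ≫ a ∧ l ≫ f = W'.ι ≫ b := by
  haveI : IsClosedImmersion t := ht.1.1
  have hW : IsAffineOpen (t ⁻¹ᵁ W') := hW'.preimage t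
  let I : Ideal Γ(T', W') := RingHom.ker (t.app W').hom
  have hI : I ^ 2 = ⊥ := by
    have := congr(($(ht.2)).ideal ⟨W', hW'⟩)
    rw [pow_two]
    simpa [I] using this
  have hsurj : Function.Surjective (t.app W').hom := t.app_surjective W' hW'
  let e : Γ(T', W') ⧸ I ≃+* Γ(T, t ⁻¹ᵁ W') := RingHom.quotientKerEquivOfSurjective hsurj
  have he : t.app W' =
      CommRingCat.ofHom (Ideal.Quotient.mk I) ≫ CommRingCat.ofHom e.toRingHom := by
    ext x
    simp [e, I]
  have hee : CommRingCat.ofHom e.toRingHom ≫ CommRingCat.ofHom e.symm.toRingHom = 𝟙 _ := by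
    ext x
    simp
  have hee' : CommRingCat.ofHom e.symm.toRingHom ≫ CommRingCat.ofHom e.toRingHom = 𝟙 _ := by
    ext x
    simp
  let aW : Spec (.of (Γ(T', W') ⧸ I)) ⟶ X :=
    Spec.map (CommRingCat.ofHom e.symm.toRingHom) ≫ hW.fromSpec ≫ a
  let bW : Spec (.of Γ(T', W')) ⟶ S := hW'.fromSpec ≫ b
  have happ : t.app W' = t.appLE W' (t ⁻¹ᵁ W') le_rfl := Scheme.Hom.app_eq_appLE _
  have hcond : Spec.map (CommRingCat.ofHom (Ideal.Quotient.mk I)) ≫ bW = aW ≫ f := by
    simp only [aW, bW, Category.assoc]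
    rw [← w, ← hW'.SpecMap_appLE_fromSpec_assoc t hW le_rfl, ← happ, ← Spec.map_comp_assoc]
    congr 2
    rw [he, Category.assoc, hee, Category.comp_id]
  obtain ⟨l₀, ⟨hl1, hl2⟩, -⟩ := hf Γ(T', W') I hI aW bW hcond
  refine ⟨hW'.isoSpec.hom ≫ l₀, ?_, ?_⟩
  · have hnat : (t ∣_ W') ≫ hW'.isoSpec.hom = hW.isoSpec.hom ≫ Spec.map (t.app W') := by
      rw [← cancel_mono hW'.fromSpec, Category.assoc, Category.assoc, hW'.isoSpec_hom_fromSpec,
        morphismRestrict_ι, happ, hW'.SpecMap_appLE_fromSpec t hW le_rfl,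
        hW.isoSpec_hom_fromSpec_assoc]
    rw [← Category.assoc, hnat, Category.assoc, he, Spec.map_comp, Category.assoc, hl1]
    simp only [aW]
    rw [← Spec.map_comp_assoc, hee', Spec.map_id]
    erw [Category.id_comp]
    rw [hW.isoSpec_hom_fromSpec_assoc]
  · rw [Category.assoc, hl2]
    simp only [bW]
    rw [hW'.isoSpec_hom_fromSpec_assoc]

theorem main {X S : Scheme.{u}} (f : X ⟶ S) (hf : MoreMor.IsFormallyEtaleHom f)
    {T T' : Scheme.{u}} (t : T ⟶ T') (ht : MoreMor.IsFirstOrderThickening t) (a : T ⟶ X)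
    (b : T' ⟶ S) (w : t ≫ b = a ≫ f) :
    ∃! l : T' ⟶ X, t ≫ l = a ∧ l ≫ f = b := by
  haveI := formallyUnramified_of_formallyEtaleHom f hf
  haveI : IsClosedImmersion t := ht.1.1
  have hnil := isNilpotent_ker_of_firstOrder t ht
  have huniq : ∀ l₁ l₂ : T' ⟶ X, t ≫ l₁ = a → l₁ ≫ f = b → t ≫ l₂ = a → l₂ ≫ f = b → l₁ = l₂ :=
    fun l₁ l₂ h1 h1' h2 h2' =>
      FormallyUnramified.hom_ext t hnil f (h1.trans h2.symm) (h1'.trans h2'.symm)
  choose l hl1 hl2 using fun W' : T'.affineOpens => exists_local_lift f hf t ht a b w W'.1 W'.2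
  let 𝒰 : T'.OpenCover := T'.openCoverOfIsOpenCover (fun W' : T'.affineOpens => W'.1)
    (iSup_affineOpens_eq_top T')
  have hglue : ∀ x y : T'.affineOpens,
      pullback.fst x.1.ι y.1.ι ≫ l x = pullback.snd x.1.ι y.1.ι ≫ l y := by
    intro x y
    let p : pullback x.1.ι y.1.ι ⟶ T' := pullback.fst x.1.ι y.1.ι ≫ x.1.ι
    haveI : IsOpenImmersion p := inferInstance
    have hnilP := isNilpotent_ker_pullback_snd t ht p
    have key : ∀ (z : T'.affineOpens) (r : pullback x.1.ι y.1.ι ⟶ z.1.toScheme)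
        (hr : r ≫ z.1.ι = p), pullback.snd t p ≫ r ≫ l z = pullback.fst t p ≫ a := by
      intro z r hr
      let q : pullback t p ⟶ (t ⁻¹ᵁ z.1).toScheme :=
        (isPullback_morphismRestrict t z.1).lift (pullback.snd t p ≫ r) (pullback.fst t p)
          (by rw [Category.assoc, hr, pullback.condition])
      have hq1 : q ≫ (t ∣_ z.1) = pullback.snd t p ≫ r := IsPullback.lift_fst _ _ _ _
      have hq2 : q ≫ (t ⁻¹ᵁ z.1).ι = pullback.fst t p := IsPullback.lift_snd _ _ _ _
      rw [← Category.assoc, ← hq1, Category.assoc, hl1, ← Category.assoc, hq2]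
    refine FormallyUnramified.hom_ext (pullback.snd t p) hnilP f ?_ ?_
    · exact (key x (pullback.fst _ _) rfl).trans
        (key y (pullback.snd _ _) pullback.condition.symm).symm
    · rw [Category.assoc, Category.assoc, hl2, hl2]
      exact pullback.condition_assoc _
  have hL : ∀ x : T'.affineOpens, x.1.ι ≫ 𝒰.glueMorphisms l hglue = l x :=
    fun x => 𝒰.ι_glueMorphisms l hglue x
  have hcovT : TopologicalSpace.IsOpenCover (fun W' : T'.affineOpens => t ⁻¹ᵁ W'.1) := by
    change ⨆ W' : T'.affineOpens, t ⁻¹ᵁ W'.1 = ⊤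
    rw [← Scheme.Hom.preimage_iSup, iSup_affineOpens_eq_top]
    rfl
  have hLa : t ≫ 𝒰.glueMorphisms l hglue = a := by
    refine Scheme.Cover.hom_ext (T.openCoverOfIsOpenCover _ hcovT) _ _ fun x => ?_
    change (t ⁻¹ᵁ x.1).ι ≫ t ≫ 𝒰.glueMorphisms l hglue = (t ⁻¹ᵁ x.1).ι ≫ a
    rw [← Category.assoc, ← morphismRestrict_ι, Category.assoc, hL, hl1]
  have hLf : 𝒰.glueMorphisms l hglue ≫ f = b := by
    refine Scheme.Cover.hom_ext 𝒰 _ _ fun x => ?_
    change x.1.ι ≫ 𝒰.glueMorphisms l hglue ≫ f = x.1.ι ≫ b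
    rw [← Category.assoc, hL, hl2]
  exact ⟨𝒰.glueMorphisms l hglue, ⟨hLa, hLf⟩, fun l' ⟨h1, h2⟩ => huniq l' _ h1 h2 hLa hLf⟩

end Helpers

open AlgebraicGeometry CategoryTheory Limits in
/-- Let f : X → S be formally étale (unique infinitesimal lifting against first order thickenings of
affine schemes). Then for every first order thickening t : T → T' of schemes and every commutative
square with T → X on top and T' → S at the bottom there is exactly one lift T' → X. -/
theorem result {X S : Scheme.{u}} (f : X ⟶ S) (hf : MoreMor.IsFormallyEtaleHom f)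
    {T T' : Scheme.{u}} (t : T ⟶ T') (ht : MoreMor.IsFirstOrderThickening t) (a : T ⟶ X) (b : T' ⟶ S) (w : t ≫ b = a ≫ f) :
    ∃! l : T' ⟶ X, t ≫ l = a ∧ l ≫ f = b := by
  exact main f hf t ht a b w

end Groth.Agent.S1516
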