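import Groth.Statements.S15162
import Mathlib

set_option autoImplicit false
open Matrix
open BddFin

namespace Groth.Agent.S15162

/-- A 2×2 integer matrix of determinant one with a nonzero fixed vector and finite order is 1. -/
theorem eq_one_of_det_one (M : Matrix (Fin 2) (Fin 2) ℤ) (hdet : M.det = 1)
    (v : Fin 2 → ℤ) (hv : v ≠ 0) (hMv : M *ᵥ v = v) (n : ℕ) (hn : 0 < n) (hMn : M ^ n = 1) :
    M = 1 := by
  have h0 : (M - 1).det = 0 := by
    rw [← Matrix.exists_mulVec_eq_zero_iff]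
    refine ⟨v, hv, ?_⟩
    rw [Matrix.sub_mulVec, hMv, Matrix.one_mulVec, sub_self]
  rw [Matrix.det_fin_two] at h0 hdet
  simp only [Matrix.sub_apply, Matrix.one_apply_eq, Matrix.one_apply_ne, ne_eq,
    Fin.isValue, Fin.reduceEq, not_false_eq_true, sub_zero, zero_ne_one] at h0
  have htr : M 0 0 + M 1 1 = 2 := by linarith
  have key : ∃ N : Matrix (Fin 2) (Fin 2) ℤ, M = 1 + N ∧ N * N = 0 := by
    refine ⟨M - 1, by abel, ?_⟩
    ext i j
    fin_cases i <;> fin_cases j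
    · simp [Matrix.mul_apply, Fin.sum_univ_two]
      linear_combination (M 0 0) * htr - hdet
    · simp [Matrix.mul_apply, Fin.sum_univ_two]
      linear_combination (M 0 1) * htr
    · simp [Matrix.mul_apply, Fin.sum_univ_two]
      linear_combination (M 1 0) * htr
    · simp [Matrix.mul_apply, Fin.sum_univ_two]
      linear_combination (M 1 1) * htr - hdet
  obtain ⟨N, hM, hN2⟩ := key
  have hpow : ∀ k : ℕ, M ^ k = 1 + (k : ℤ) • N := by
    intro k
    induction k with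
    | zero => simp
    | succ k ih =>
      rw [pow_succ, ih, hM, add_mul, mul_add, mul_add, smul_mul_assoc, smul_mul_assoc, hN2,
        smul_zero, add_zero, one_mul, mul_one, one_mul]
      push_cast
      rw [add_smul, one_smul]
      abel
  have h1 := hpow n
  rw [hMn] at h1
  have h2 : (n : ℤ) • N = 0 := by
    have : (1 : Matrix (Fin 2) (Fin 2) ℤ) + (n : ℤ) • N = 1 + 0 := by rw [← h1, add_zero]
    exact add_left_cancel this
  have hN0 : N = 0 := by
    ext i j
    have := congrFun (congrFun h2 i) j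
    simp only [Matrix.smul_apply, smul_eq_mul, Matrix.zero_apply] at this
    rcases mul_eq_zero.1 this with h | h
    · exfalso; have : (n : ℤ) ≠ 0 := by exact_mod_cast hn.ne'
      exact this h
    · simpa using h
  rw [hM, hN0, add_zero]

/-- Let Γ be a finite subgroup of GL_2(ℤ) acting on ℤ² by matrix multiplication. If every element of Γ
has a non-zero fixed vector in ℤ², then there is a non-zero vector of ℤ² fixed by all of Γ. -/
theorem result
    (Γ : Subgroup (Matrix.GeneralLinearGroup (Fin 2) ℤ)) [Finite Γ]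
    (h : ∀ γ ∈ Γ, ∃ v : Fin 2 → ℤ, v ≠ 0 ∧ (γ : Matrix (Fin 2) (Fin 2) ℤ) *ᵥ v = v) :
    ∃ v : Fin 2 → ℤ, v ≠ 0 ∧ ∀ γ ∈ Γ, (γ : Matrix (Fin 2) (Fin 2) ℤ) *ᵥ v = v := by
  have hn : 0 < Nat.card Γ := Nat.card_pos
  have hpowΓ : ∀ γ ∈ Γ, (γ : Matrix (Fin 2) (Fin 2) ℤ) ^ (Nat.card Γ) = 1 := by
    intro γ hγ
    have hfin : (⟨γ, hγ⟩ : Γ) ^ Nat.card Γ = 1 := pow_card_eq_one'
    have := congrArg (fun x : Γ => ((x : Matrix.GeneralLinearGroup (Fin 2) ℤ) : Matrix (Fin 2) (Fin 2) ℤ)) hfin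
    simp only [SubmonoidClass.coe_pow, Units.val_pow_eq_pow_val, OneMemClass.coe_one, Units.val_one] at this
    exact this
  have claimA : ∀ γ ∈ Γ, (γ : Matrix (Fin 2) (Fin 2) ℤ).det = 1 → γ = 1 := by
    intro γ hγ hdet
    obtain ⟨v, hv, hMv⟩ := h γ hγ
    have := eq_one_of_det_one _ hdet v hv hMv _ hn (hpowΓ γ hγ)
    exact Units.ext this
  have hdetunit : ∀ γ : Matrix.GeneralLinearGroup (Fin 2) ℤ,
      (γ : Matrix (Fin 2) (Fin 2) ℤ).det = 1 ∨ (γ : Matrix (Fin 2) (Fin 2) ℤ).det = -1 := by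
    intro γ
    have : IsUnit (γ : Matrix (Fin 2) (Fin 2) ℤ).det :=
      (Matrix.isUnit_iff_isUnit_det _).1 γ.isUnit
    exact Int.isUnit_iff.1 this
  by_cases hall : ∀ γ ∈ Γ, (γ : Matrix (Fin 2) (Fin 2) ℤ).det = 1
  · refine ⟨![1, 0], ?_, ?_⟩
    · intro h0
      have := congrFun h0 0
      simp at this
    · intro γ hγ
      rw [claimA γ hγ (hall γ hγ)]
      simp
  · push_neg at hall
    obtain ⟨γ₀, hγ₀, hdet₀⟩ := hall
    have hdet₀' : (γ₀ : Matrix (Fin 2) (Fin 2) ℤ).det = -1 := (hdetunit γ₀).resolve_left hdet₀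
    obtain ⟨v₀, hv₀, hMv₀⟩ := h γ₀ hγ₀
    refine ⟨v₀, hv₀, ?_⟩
    intro γ hγ
    rcases hdetunit γ with hd | hd
    · rw [claimA γ hγ hd]; simp
    · have hmem : γ₀⁻¹ * γ ∈ Γ := Γ.mul_mem (Γ.inv_mem hγ₀) hγ
      have hd1 : ((γ₀⁻¹ * γ : Matrix.GeneralLinearGroup (Fin 2) ℤ) : Matrix (Fin 2) (Fin 2) ℤ).det = 1 := by
        have e1 : ((γ₀ * (γ₀⁻¹ * γ) : Matrix.GeneralLinearGroup (Fin 2) ℤ) : Matrix (Fin 2) (Fin 2) ℤ).det
            = (γ : Matrix (Fin 2) (Fin 2) ℤ).det := by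
          rw [mul_inv_cancel_left]
        rw [Units.val_mul, Matrix.det_mul, hdet₀', hd] at e1
        linarith
      have := claimA _ hmem hd1
      have e : γ = γ₀ := by
        have := congrArg (fun x => γ₀ * x) this
        simpa using this
      rw [e]; exact hMv₀

end Groth.Agent.S15162
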