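import Groth.Statements.S15163
import Mathlib
import Groth.Agent.S15162

set_option autoImplicit false
open Matrix
open BddFin

namespace Groth.Agent.S15163

/-- Cayley–Hamilton for 2×2 matrices. -/
theorem sq_eq (M : Matrix (Fin 2) (Fin 2) ℤ) :
    M * M = M.trace • M - M.det • (1 : Matrix (Fin 2) (Fin 2) ℤ) := by
  ext i j
  simp only [Matrix.sub_apply, Matrix.smul_apply, smul_eq_mul, Matrix.mul_apply, Fin.sum_univ_two,
    Matrix.trace_fin_two, Matrix.det_fin_two, Matrix.one_apply]
  fin_cases i <;> fin_cases j <;> simp <;> ring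

theorem trace_rec (M : Matrix (Fin 2) (Fin 2) ℤ) (k : ℕ) :
    (M ^ (k + 2)).trace = M.trace * (M ^ (k + 1)).trace - M.det * (M ^ k).trace := by
  have : M ^ (k + 2) = M.trace • M ^ (k + 1) - M.det • M ^ k := by
    rw [pow_add, pow_two, sq_eq, mul_sub, Matrix.mul_smul, Matrix.mul_smul, mul_one, pow_succ]
  rw [this, Matrix.trace_sub, Matrix.trace_smul, Matrix.trace_smul, smul_eq_mul, smul_eq_mul]

/-- A 2×2 integer matrix of finite order with determinant ±1 has |trace| ≤ 2. -/
theorem abs_trace_le (M : Matrix (Fin 2) (Fin 2) ℤ) (hdet : M.det = 1 ∨ M.det = -1)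
    (n : ℕ) (hn : 0 < n) (hMn : M ^ n = 1) : |M.trace| ≤ 2 := by
  by_contra hlt
  push_neg at hlt
  have h3 : 3 ≤ |M.trace| := by omega
  have hdabs : |M.det| = 1 := by
    rcases hdet with h | h <;> simp [h]
  have key : ∀ k : ℕ, |(M ^ k).trace| < |(M ^ (k + 1)).trace| ∧ 2 ≤ |(M ^ (k + 1)).trace| := by
    intro k
    induction k with
    | zero =>
      simp only [pow_zero, zero_add, pow_one, Matrix.trace_one, Fintype.card_fin]
      constructor
      · have : |((2 : ℕ) : ℤ)| = 2 := by norm_num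
        rw [this]; omega
      · omega
    | succ k ih =>
      obtain ⟨ih1, ih2⟩ := ih
      have hrec := trace_rec M k
      have h1 : |M.trace * (M ^ (k + 1)).trace| = |M.trace| * |(M ^ (k + 1)).trace| := abs_mul _ _
      have h2 : |M.det * (M ^ k).trace| = |(M ^ k).trace| := by rw [abs_mul, hdabs, one_mul]
      have h4 : |M.trace * (M ^ (k + 1)).trace| - |M.det * (M ^ k).trace| ≤
          |(M ^ (k + 2)).trace| := by
        rw [hrec]; exact abs_sub_abs_le_abs_sub _ _
      rw [h1, h2] at h4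
      have h5 : 3 * |(M ^ (k + 1)).trace| ≤ |M.trace| * |(M ^ (k + 1)).trace| :=
        mul_le_mul_of_nonneg_right h3 (abs_nonneg _)
      constructor
      · show |(M ^ (k + 1)).trace| < |(M ^ (k + 1 + 1)).trace|
        have e : k + 1 + 1 = k + 2 := rfl
        rw [e]; linarith
      · show 2 ≤ |(M ^ (k + 1 + 1)).trace|
        have e : k + 1 + 1 = k + 2 := rfl
        rw [e]; linarith
  -- all traces of positive powers have absolute value > 2
  have key2 : ∀ k : ℕ, 2 < |(M ^ (k + 1)).trace| := by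
    intro k
    induction k with
    | zero => simp only [zero_add, pow_one]; omega
    | succ k ih => exact lt_trans ih (key (k + 1)).1
  obtain ⟨m, rfl⟩ : ∃ m, n = m + 1 := ⟨n - 1, by omega⟩
  have := key2 m
  rw [hMn, Matrix.trace_one, Fintype.card_fin] at this
  norm_num at this

/-- Let Γ be a finite subgroup of GL_2(ℤ) and d > 6 an integer. Suppose some vector w of (ℤ/dℤ)², with
m·w ≠ 0 for all 0 < m < d, is fixed by the reduction modulo d of every element of Γ. Then some
non-zero vector of ℤ² is fixed by all of Γ. -/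
theorem result
    (Γ : Subgroup (Matrix.GeneralLinearGroup (Fin 2) ℤ)) [Finite Γ] (d : ℕ) (hd : 6 < d)
    (w : Fin 2 → ZMod d) (hw : ∀ m : ℕ, 0 < m → m < d → m • w ≠ 0)
    (hfix : ∀ γ ∈ Γ, ((γ : Matrix (Fin 2) (Fin 2) ℤ).map (Int.castRingHom (ZMod d))) *ᵥ w = w) :
    ∃ v : Fin 2 → ℤ, v ≠ 0 ∧ ∀ γ ∈ Γ, (γ : Matrix (Fin 2) (Fin 2) ℤ) *ᵥ v = v := by
  apply Groth.Agent.S15162.result Γ
  intro γ hγ
  set M : Matrix (Fin 2) (Fin 2) ℤ := (γ : Matrix (Fin 2) (Fin 2) ℤ) with hM
  have hn : 0 < Nat.card Γ := Nat.card_pos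
  have hMn : M ^ (Nat.card Γ) = 1 := by
    have hfin : (⟨γ, hγ⟩ : Γ) ^ Nat.card Γ = 1 := pow_card_eq_one'
    have := congrArg (fun x : Γ => ((x : Matrix.GeneralLinearGroup (Fin 2) ℤ) : Matrix (Fin 2) (Fin 2) ℤ)) hfin
    simp only [SubmonoidClass.coe_pow, Units.val_pow_eq_pow_val, OneMemClass.coe_one, Units.val_one] at this
    exact this
  have hdet : M.det = 1 ∨ M.det = -1 := by
    have : IsUnit M.det := (Matrix.isUnit_iff_isUnit_det _).1 γ.isUnit
    exact Int.isUnit_iff.1 this
  have htr := abs_trace_le M hdet _ hn hMn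
  -- δ = det (M - 1)
  set δ : ℤ := (M - 1).det with hδ
  have hδval : δ = M.det - M.trace + 1 := by
    rw [hδ, Matrix.det_fin_two, Matrix.det_fin_two, Matrix.trace_fin_two]
    simp only [Matrix.sub_apply, Matrix.one_apply_eq, Matrix.one_apply_ne, ne_eq,
      Fin.isValue, Fin.reduceEq, not_false_eq_true, sub_zero, zero_ne_one]
    ring
  have hδabs : δ.natAbs ≤ 4 := by
    have h1 := abs_le.1 htr
    rcases hdet with h | h <;> rw [hδval, h] <;> omega
  -- δ • w = 0 in ZMod d
  have hδw : ((δ : ℤ) : ZMod d) • w = 0 := by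
    set A : Matrix (Fin 2) (Fin 2) (ZMod d) := (M - 1).map (Int.castRingHom (ZMod d)) with hA
    have hAw : A *ᵥ w = 0 := by
      have : A = M.map (Int.castRingHom (ZMod d)) - 1 := by
        rw [hA, Matrix.map_sub, Matrix.map_one] <;> simp
      rw [this, Matrix.sub_mulVec, hfix γ hγ, Matrix.one_mulVec, sub_self]
    have h1 : (A.adjugate * A) *ᵥ w = 0 := by
      rw [← Matrix.mulVec_mulVec, hAw, Matrix.mulVec_zero]
    rw [Matrix.adjugate_mul, Matrix.smul_mulVec, Matrix.one_mulVec] at h1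
    have h2 : A.det = ((δ : ℤ) : ZMod d) := by
      rw [hA, hδ]
      exact (RingHom.map_det (Int.castRingHom (ZMod d)) (M - 1)).symm
    rw [← h2]; exact h1
  have hδ0 : δ = 0 := by
    by_contra hne
    have hpos : 0 < δ.natAbs := Int.natAbs_pos.2 hne
    have hlt : δ.natAbs < d := by omega
    apply hw δ.natAbs hpos hlt
    ext i
    have := congrFun hδw i
    simp only [Pi.smul_apply, smul_eq_mul, Pi.zero_apply] at this ⊢
    rw [nsmul_eq_mul]
    rcases Int.natAbs_eq δ with h | h
    · have e : ((δ.natAbs : ℕ) : ZMod d) = ((δ : ℤ) : ZMod d) := by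
        conv_rhs => rw [h]
        simp
      rw [e]; exact this
    · have e : ((δ.natAbs : ℕ) : ZMod d) = -((δ : ℤ) : ZMod d) := by
        conv_rhs => rw [h]
        simp
      rw [e, neg_mul, this, neg_zero]
  have := (Matrix.exists_mulVec_eq_zero_iff (M := M - 1)).2 hδ0
  obtain ⟨v, hv, hv'⟩ := this
  refine ⟨v, hv, ?_⟩
  rw [Matrix.sub_mulVec, Matrix.one_mulVec, sub_eq_zero] at hv'
  exact hv'

end Groth.Agent.S15163
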