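import Groth.Statements.S15164
import Mathlib

set_option autoImplicit false
universe u v
open BddFin

namespace Groth.Agent.S15164

/-- Let K be a field of characteristic p > 2, V a finite-dimensional K-vector space and q a quadratic
form on V that does not represent zero (q x = 0 only for x = 0). Then the group of K-linear
automorphisms of V preserving q has no element of order p: if g preserves q and g ^ p = 1 then g =
1. (Non-degeneracy of q, also assumed in the published statement, follows from anisotropy since 2 is
invertible, so it is not repeated here.) -/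
theorem result
    (K : Type u) [Field K] (p : ℕ) [Fact p.Prime] [CharP K p] (hp : p ≠ 2)
    (V : Type v) [AddCommGroup V] [Module K V] [FiniteDimensional K V]
    (q : QuadraticForm K V) (hq : q.Anisotropic)
    (g : V ≃ₗ[K] V) (hg : ∀ x : V, q (g x) = q x) (hgp : g ^ p = 1) : g = 1 := by
  have hp2 : (2 : K) ≠ 0 := by
    intro h2
    have hdvd : (p : ℕ) ∣ 2 := by
      rw [← CharP.cast_eq_zero_iff K p]
      exact_mod_cast h2
    have hpp := (Fact.out : p.Prime)
    exact hp ((Nat.prime_dvd_prime_iff_eq hpp Nat.prime_two).1 hdvd)
  set G : Module.End K V := (g : V →ₗ[K] V) with hG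
  set N : Module.End K V := G - 1 with hN
  have hGapp : ∀ x, G x = g x := fun x => rfl
  have hGp : G ^ p = 1 := by
    ext x
    have h1 : ∀ n : ℕ, (G ^ n) x = (g ^ n) x := by
      intro n
      induction n generalizing x with
      | zero => simp
      | succ n ih => rw [pow_succ, pow_succ, Module.End.mul_apply, LinearEquiv.mul_apply, ih, hGapp]
    rw [h1, hgp]
    simp
  have hNp : N ^ p = 0 := by
    have h1 : ((Polynomial.X : Polynomial K) - 1) ^ p = Polynomial.X ^ p - 1 := by
      rw [sub_pow_char, one_pow]
    have h2 := congrArg (Polynomial.aeval G) h1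
    simpa [hGp] using h2
  have hNapp : ∀ x, N x = g x - x := fun x => by simp [hN, hG]
  by_contra hne
  have hN0 : N ≠ 0 := by
    intro h
    apply hne
    ext x
    have := hNapp x
    rw [h, LinearMap.zero_apply] at this
    simpa using (sub_eq_zero.1 this.symm)
  classical
  have hex : ∃ m, N ^ m = 0 := ⟨p, hNp⟩
  have hm0 : N ^ (Nat.find hex) = 0 := Nat.find_spec hex
  have hm2 : 2 ≤ Nat.find hex := by
    by_contra h
    have : Nat.find hex = 0 ∨ Nat.find hex = 1 := by omega
    rcases this with h | h
    · rw [h, pow_zero] at hm0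
      apply hN0
      calc N = N * 1 := (mul_one N).symm
        _ = 0 := by rw [hm0, mul_zero]
    · rw [h, pow_one] at hm0; exact hN0 hm0
  have hm1 : N ^ (Nat.find hex - 1) ≠ 0 := Nat.find_min hex (by omega)
  obtain ⟨u, hu⟩ : ∃ u, (N ^ (Nat.find hex - 1)) u ≠ 0 := by
    by_contra h
    push_neg at h
    apply hm1
    ext x
    simpa using h x
  obtain ⟨m, hm⟩ : ∃ m, Nat.find hex = m + 2 := ⟨Nat.find hex - 2, by omega⟩
  rw [hm] at hm0 hu
  have e0 : m + 2 - 1 = m + 1 := by omega
  rw [e0] at hu
  set w := (N ^ (m + 1)) u with hw
  set v := (N ^ m) u with hv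
  have hNv : N v = w := by
    rw [hv, hw, ← Module.End.mul_apply, ← pow_succ']
  have hNw : N w = 0 := by
    rw [hw, ← Module.End.mul_apply, ← pow_succ', hm0]; rfl
  have hgw : g w = w := by
    have := hNapp w
    rw [hNw] at this
    exact (sub_eq_zero.1 this.symm)
  have hgv : g v = v + w := by
    have := hNapp v
    rw [hNv] at this
    rw [this]; abel
  have e1 : q (v + w) = q v := by
    have := hg v
    rwa [hgv] at this
  have e2 : q (v + w + w) = q (v + w) := by
    have := hg (v + w)
    rwa [map_add, hgv, hgw] at this
  have p1 : QuadraticMap.polar q v w = q (v + w) - q v - q w := rfl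
  have p2 : QuadraticMap.polar q (v + w) w = q (v + w + w) - q (v + w) - q w := rfl
  have p3 : QuadraticMap.polar q (v + w) w = QuadraticMap.polar q v w + QuadraticMap.polar q w w :=
    QuadraticMap.polar_add_left q v w w
  have p4 : QuadraticMap.polar q w w = 2 * q w := by
    rw [QuadraticMap.polar_self q w, two_smul, two_mul]
  have hqw : 2 * q w = 0 := by
    rw [p2, p1, p4, e2, e1] at p3
    linear_combination -p3
  have hqw0 : q w = 0 := by
    rcases mul_eq_zero.1 hqw with h | h
    · exact absurd h hp2
    · exact h
  exact hu (hq w hqw0)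

end Groth.Agent.S15164
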