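import Groth.Statements.S15166
import Mathlib
import Groth.Agent.Lib.helper22.Isometry
import Groth.Agent.Lib.helper22.Involutions

set_option autoImplicit false
universe u v
open Polynomial
open BddFin

namespace Groth.Agent.S15166

/-- Let K be a field of characteristic different from 2 such that K contains all roots of unity (for
every n ≥ 1 the polynomial X^n − 1 splits into linear factors over K), V a finite-dimensional
K-vector space and q a quadratic form on V that does not represent zero. Then every finite subgroup
of the group of K-linear automorphisms of V preserving q is abelian and has order at most 2 ^ (dim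
V). (The published statement also covers perfect fields of characteristic 2; this row is the case of
characteristic ≠ 2.) -/
theorem result
    (K : Type u) [Field K] (hK : ∀ n : ℕ, 0 < n → (X ^ n - 1 : K[X]).Splits) (h2 : (2 : K) ≠ 0)
    (V : Type v) [AddCommGroup V] [Module K V] [FiniteDimensional K V]
    (q : QuadraticForm K V) (hq : q.Anisotropic)
    (G : Subgroup (V ≃ₗ[K] V)) [Finite G] (hG : ∀ g ∈ G, ∀ x : V, q (g x) = q x) :
    (∀ g ∈ G, ∀ h ∈ G, g * h = h * g) ∧ Nat.card G ≤ 2 ^ Module.finrank K V := by
  classical
  have hsq : ∀ g ∈ G, g ^ 2 = 1 := by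
    intro g hg
    have hfin : (⟨g, hg⟩ : G) ^ Nat.card G = 1 := pow_card_eq_one'
    have hgd : g ^ Nat.card G = 1 := by
      have := congrArg (fun x : G => (x : V ≃ₗ[K] V)) hfin
      simp only [SubmonoidClass.coe_pow, OneMemClass.coe_one] at this
      exact this
    exact Groth.Agent.Lib.helper22.Isometry.sq_eq_one K hK h2 V q hq g (hG g hg) (Nat.card G)
      Nat.card_pos hgd
  have hcomm : ∀ g ∈ G, ∀ h ∈ G, g * h = h * g := by
    intro g hg h hh
    have h1 := hsq g hg
    have h2' := hsq h hh
    have h3 := hsq (g * h) (G.mul_mem hg hh)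
    rw [pow_two] at h1 h2' h3
    calc g * h = g * ((g * h) * (g * h)) * h := by rw [h3, mul_one]
      _ = (g * g) * (h * g) * (h * h) := by group
      _ = h * g := by rw [h1, h2', one_mul, mul_one]
  refine ⟨hcomm, ?_⟩
  haveI := Fintype.ofFinite G
  set S : Finset (Module.End K V) :=
    Finset.univ.image (fun g : G => ((g : V ≃ₗ[K] V) : Module.End K V)) with hS
  have hinj : Function.Injective (fun g : G => ((g : V ≃ₗ[K] V) : Module.End K V)) := by
    intro a b hab
    apply Subtype.ext
    exact LinearEquiv.toLinearMap_injective hab
  have hcard : S.card = Nat.card G := by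
    rw [hS, Finset.card_image_of_injective _ hinj, Finset.card_univ, Nat.card_eq_fintype_card]
  rw [← hcard]
  apply Groth.Agent.Lib.helper22.Involutions.card_le K h2 (Module.finrank K V) V rfl S
  · intro f hf
    obtain ⟨g, _, rfl⟩ := Finset.mem_image.1 hf
    ext x
    have := congrArg (fun e : V ≃ₗ[K] V => e x) (hsq g.1 g.2)
    simpa [pow_two] using this
  · intro f hf f' hf'
    obtain ⟨g, _, rfl⟩ := Finset.mem_image.1 hf
    obtain ⟨g', _, rfl⟩ := Finset.mem_image.1 hf'
    ext x
    have := congrArg (fun e : V ≃ₗ[K] V => e x) (hcomm g.1 g.2 g'.1 g'.2)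
    simpa using this

end Groth.Agent.S15166
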