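import Groth.Statements.S15167
import Mathlib
import Groth.Agent.Lib.helper22.SubfieldDegree

set_option autoImplicit false
universe u v
open Polynomial
open BddFin

namespace Groth.Agent.S15167

section Helpers

open Groth.Agent.Lib.helper22.SimpleDim UniqueFactorizationMonoid

theorem main
    (K : Type u) [Field K] (hK : ∀ n : ℕ, 0 < n → (X ^ n - 1 : K[X]).Splits)
    (A : Type v) [Ring A] [Algebra K A] [Algebra.IsCentral K A] [IsSimpleRing A] [FiniteDimensional K A]
    (n : ℕ) (hn : Module.finrank K A = n ^ 2)
    (x : A) (hx : IsUnit x) (hxm : ∃ m : ℕ, 0 < m ∧ x ^ m ∈ (algebraMap K A).range) :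
    ∃ r : ℕ, 0 < r ∧ r ∣ n ∧ ∃ s : Multiset K, minpoly K x = (s.map fun a : K => X ^ r - C a).prod := by
  classical
  obtain ⟨m, hm, a, ha⟩ := hxm
  have hn0 : 0 < n := by
    rcases Nat.eq_zero_or_pos n with h0 | h0
    · exfalso
      rw [h0] at hn
      have : 0 < Module.finrank K A := Module.finrank_pos
      omega
    · exact h0
  have ha0 : a ≠ 0 := by
    rintro rfl
    rw [map_zero] at ha
    have : IsUnit (x ^ m) := hx.pow m
    rw [← ha] at this
    exact not_isUnit_zero this
  have hint : IsIntegral K x := Algebra.IsIntegral.isIntegral x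
  set f := minpoly K x with hf
  have hmonic : f.Monic := minpoly.monic hint
  have hf0 : f ≠ 0 := hmonic.ne_zero
  have hfdvd : f ∣ X ^ m - C a := by
    apply minpoly.dvd
    simp [ha]
  obtain ⟨r, hr0, hr⟩ := exists_common_degree K hK m hm a ha0
  have hF : ∀ g ∈ normalizedFactors f, g.natDegree = r ∧ ∃ b : K, g = X ^ r - C b := by
    intro g hg
    have hgirr : Irreducible g := irreducible_of_normalized_factor g hg
    have hgmonic : g.Monic := by
      have := normalize_normalized_factor g hg
      rw [← this]
      exact Polynomial.monic_normalize hgirr.ne_zero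
    exact hr g hgmonic hgirr ((dvd_of_mem_normalizedFactors hg).trans hfdvd)
  have hprod : (normalizedFactors f).prod = f := by
    rw [prod_normalizedFactors_eq hf0, hmonic.normalize_eq_self]
  refine ⟨r, hr0, ?_, (normalizedFactors f).map (fun g => - g.coeff 0), ?_⟩
  · -- r ∣ n
    let T : Module.End A A := LinearMap.toSpanSingleton A A x
    have hT0 : T.restrictScalars K = LinearMap.mulRight K x := by
      ext y; simp [T]
    have hT : Polynomial.aeval T (normalizedFactors f).prod = 0 := by
      rw [hprod]
      ext y
      rw [← aeval_restrictScalars_apply K A A T f 1, hT0, aeval_mulRight_apply, hf, minpoly.aeval,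
        mul_zero]
      rfl
    have h := mul_dvd_finrank_of_prod K A n hn r (normalizedFactors f)
      (fun g hg => ⟨irreducible_of_normalized_factor g hg, (hF g hg).1⟩) A T hT
    rw [hn, pow_two] at h
    exact (Nat.mul_dvd_mul_iff_left hn0).mp h
  · rw [Multiset.map_map]
    conv_lhs => rw [← hprod]
    congr 1
    conv_lhs => rw [← Multiset.map_id (normalizedFactors f)]
    apply Multiset.map_congr rfl
    intro g hg
    obtain ⟨-, b, hb⟩ := hF g hg
    simp only [Function.comp_apply]
    rw [hb]
    have : ¬ (0 = r) := fun h => hr0.ne h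
    simp [this]

end Helpers

/-- Let K be a field such that K contains all roots of unity (for every n ≥ 1 the polynomial X^n − 1
splits into linear factors over K), A a central simple K-algebra of dimension n ^ 2, and x an
invertible element of A some power x ^ m (m ≥ 1) of which lies in K. Then there are a positive
integer r dividing n and elements a_i of K such that the minimal polynomial of x over K is the
product of the polynomials X ^ r − a_i. -/
theorem result
    (K : Type u) [Field K] (hK : ∀ n : ℕ, 0 < n → (X ^ n - 1 : K[X]).Splits)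
    (A : Type v) [Ring A] [Algebra K A] [Algebra.IsCentral K A] [IsSimpleRing A] [FiniteDimensional K A]
    (n : ℕ) (hn : Module.finrank K A = n ^ 2)
    (x : A) (hx : IsUnit x) (hxm : ∃ m : ℕ, 0 < m ∧ x ^ m ∈ (algebraMap K A).range) :
    ∃ r : ℕ, 0 < r ∧ r ∣ n ∧ ∃ s : Multiset K, minpoly K x = (s.map fun a : K => X ^ r - C a).prod := by
  exact main K hK A n hn x hx hxm

end Groth.Agent.S15167
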