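import Groth.Statements.S15168
import Mathlib
import Groth.Agent.Lib.helper22.SubfieldDegree

set_option autoImplicit false
universe u v
open Polynomial
open BddFin

namespace Groth.Agent.S15168

section Helpers

open Groth.Agent.Lib.helper22.SimpleDim in
/-- `x ^ d ∈ K` for `d` the degree of `x`. -/
theorem pow_natDegree_mem
    (K : Type u) [Field K] (hK : ∀ n : ℕ, 0 < n → (X ^ n - 1 : K[X]).Splits)
    (A : Type v) [DivisionRing A] [Algebra K A] [FiniteDimensional K A]
    (x : A) (hx : x ≠ 0) (hxm : ∃ m : ℕ, 0 < m ∧ x ^ m ∈ (algebraMap K A).range) :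
    x ^ (minpoly K x).natDegree ∈ (algebraMap K A).range := by
  obtain ⟨m, hm, a, ha⟩ := hxm
  have hint : IsIntegral K x := Algebra.IsIntegral.isIntegral x
  set f := minpoly K x with hf
  have hirr : Irreducible f := minpoly.irreducible hint
  haveI : Fact (Irreducible f) := ⟨hirr⟩
  have hmonic : f.Monic := minpoly.monic hint
  let φ : AdjoinRoot f →ₐ[K] A :=
    Ideal.Quotient.liftₐ (Ideal.span {f}) (Polynomial.aeval x) (by
      intro p hp
      obtain ⟨c, rfl⟩ := Ideal.mem_span_singleton.mp hp
      rw [map_mul, hf, minpoly.aeval, zero_mul])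
  have hφroot : φ (AdjoinRoot.root f) = x := by
    show Polynomial.aeval x (X : K[X]) = x
    simp
  have hφinj : Function.Injective φ := φ.toRingHom.injective
  have hroot0 : AdjoinRoot.root f ≠ 0 := by
    intro h0
    apply hx
    rw [← hφroot, h0, map_zero]
  have hrootm : AdjoinRoot.root f ^ m = algebraMap K (AdjoinRoot f) a := by
    apply hφinj
    rw [map_pow, hφroot, AlgHom.commutes, ha]
  have hintr : IsIntegral K (AdjoinRoot.root f) := AdjoinRoot.isIntegral_root hirr.ne_zero
  have hminr : minpoly K (AdjoinRoot.root f) = f := by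
    rw [AdjoinRoot.minpoly_root hirr.ne_zero, hmonic.leadingCoeff, inv_one, C_1, mul_one]
  obtain ⟨c, hc⟩ := pow_natDegree_minpoly_mem K (AdjoinRoot f) hK (AdjoinRoot.root f) hroot0 hintr
    m hm a hrootm
  rw [hminr] at hc
  refine ⟨c, ?_⟩
  rw [← hφroot, ← map_pow, hc, AlgHom.commutes]

theorem main
    (K : Type u) [Field K] (hK : ∀ n : ℕ, 0 < n → (X ^ n - 1 : K[X]).Splits)
    (A : Type v) [DivisionRing A] [Algebra K A] [Algebra.IsCentral K A] [FiniteDimensional K A]
    (n : ℕ) (hn : Module.finrank K A = n ^ 2)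
    (x : A) (hxm : ∃ m : ℕ, 0 < m ∧ x ^ m ∈ (algebraMap K A).range) :
    x ^ n ∈ (algebraMap K A).range := by
  have hn0 : 0 < n := by
    rcases Nat.eq_zero_or_pos n with h0 | h0
    · exfalso
      rw [h0] at hn
      have : 0 < Module.finrank K A := Module.finrank_pos
      omega
    · exact h0
  by_cases hx : x = 0
  · rw [hx, zero_pow hn0.ne']
    exact ⟨0, map_zero _⟩
  have hd := Groth.Agent.Lib.helper22.SimpleDim.natDegree_minpoly_dvd K A n hn x
  obtain ⟨c, hc⟩ := pow_natDegree_mem K hK A x hx hxm
  obtain ⟨e, he⟩ := hd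
  refine ⟨c ^ e, ?_⟩
  rw [map_pow, hc, ← pow_mul, ← he]

end Helpers

/-- Let K be a field such that K contains all roots of unity (for every n ≥ 1 the polynomial X^n − 1
splits into linear factors over K), A a central division algebra of dimension n ^ 2 over K, and x an
element of A some power x ^ m (m ≥ 1) of which lies in K. Then x ^ n lies in K; that is, the order
of the class of x in the quotient of the unit group of A by that of K divides n. -/
theorem result
    (K : Type u) [Field K] (hK : ∀ n : ℕ, 0 < n → (X ^ n - 1 : K[X]).Splits)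
    (A : Type v) [DivisionRing A] [Algebra K A] [Algebra.IsCentral K A] [FiniteDimensional K A]
    (n : ℕ) (hn : Module.finrank K A = n ^ 2)
    (x : A) (hxm : ∃ m : ℕ, 0 < m ∧ x ^ m ∈ (algebraMap K A).range) :
    x ^ n ∈ (algebraMap K A).range := by
  exact main K hK A n hn x hxm

end Groth.Agent.S15168
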