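import Groth.Statements.S15169
import Mathlib
import Groth.Agent.Lib.helper22.DivAlg

set_option autoImplicit false
universe u v
open BddFin

namespace Groth.Agent.S15169

section Helpers

open Polynomial Module

open Groth.Agent.Lib.helper22.DivAlg

/-- step (a): a non-separable element `w` has `w ^ p ∈ K`, `w ∉ K`. -/
theorem pow_mem_of_not_separable
    (K : Type u) [Field K] (p : ℕ) [Fact p.Prime] [CharP K p]
    (A : Type v) [DivisionRing A] [Algebra K A] [Algebra.IsCentral K A] [FiniteDimensional K A]
    (hA : Module.finrank K A = p ^ 2) (w : A) (hw : ¬ IsSeparable K w) :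
    w ^ p ∈ (algebraMap K A).range ∧ w ∉ (algebraMap K A).range := by
  classical
  have hp : p.Prime := Fact.out
  have hint : IsIntegral K w := Algebra.IsIntegral.isIntegral w
  have hwK : w ∉ (algebraMap K A).range := by
    rintro ⟨k, rfl⟩
    exact hw (isSeparable_algebraMap k)
  refine ⟨?_, hwK⟩
  set m := minpoly K w with hm
  have hirr : Irreducible m := minpoly.irreducible hint
  have hder : derivative m = 0 := by
    by_contra h
    exact hw ((separable_iff_derivative_ne_zero hirr).2 h)
  have hexp : expand K p (contract p m) = m := expand_contract p hder hp.ne_zero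
  set g := contract p m with hg
  have hdeg : m.natDegree = g.natDegree * p := by rw [← hexp, natDegree_expand]
  -- degree bound
  set S := Algebra.adjoin K {w} with hS
  have hwS : w ∈ S := Algebra.subset_adjoin rfl
  have hfin : finrank K S = p := finrank_adjoin_singleton hp hA w hwK
  have hmin : minpoly K (⟨w, hwS⟩ : S) = m :=
    (minpoly.algHom_eq S.val Subtype.val_injective (⟨w, hwS⟩ : S)).symm
  have hle : m.natDegree ≤ p := by
    rw [← hmin, ← hfin]
    exact minpoly.natDegree_le _
  have hpos : 0 < m.natDegree := minpoly.natDegree_pos hint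
  have hg1 : g.natDegree = 1 := by
    have h1 : g.natDegree * p ≤ p := hdeg ▸ hle
    have h2 : 0 < g.natDegree * p := hdeg ▸ hpos
    have h3 : g.natDegree ≤ 1 := by
      by_contra h
      push_neg at h
      have : 2 * p ≤ g.natDegree * p := Nat.mul_le_mul_right p h
      have := hp.pos
      omega
    have h4 : g.natDegree ≠ 0 := by
      intro h; rw [h, zero_mul] at h2; exact lt_irrefl 0 h2
    omega
  obtain ⟨a, b, hab⟩ := exists_eq_X_add_C_of_natDegree_le_one hg1.le
  have ha : a ≠ 0 := by
    intro h0
    rw [hab, h0, C_0, zero_mul, zero_add, natDegree_C] at hg1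
    exact zero_ne_one hg1
  have h0 : aeval w m = 0 := minpoly.aeval K w
  rw [← hexp, hab] at h0
  simp only [map_add, map_mul, expand_C, expand_X, aeval_C, aeval_X, map_pow] at h0
  refine ⟨-b / a, ?_⟩
  have h5 : algebraMap K A a * w ^ p = - algebraMap K A b := eq_neg_of_add_eq_zero_left h0
  have ha' : algebraMap K A a ≠ 0 := by
    rw [Ne, map_eq_zero_iff _ (algebraMap K A).injective]; exact ha
  rw [map_div₀, map_neg, ← h5, Algebra.commutes a (w ^ p), mul_div_assoc, div_self ha', mul_one]

/-- `ad w ^ p = ad (w ^ p)` in characteristic `p`. -/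
theorem ad_pow (K : Type u) [Field K] (p : ℕ) [Fact p.Prime] [CharP K p]
    (A : Type v) [Ring A] [Nontrivial A] [Algebra K A] (w : A) :
    (LinearMap.mulLeft K w - LinearMap.mulRight K w) ^ p =
      LinearMap.mulLeft K (w ^ p) - LinearMap.mulRight K (w ^ p) := by
  haveI : CharP (Module.End K A) p :=
    charP_of_injective_algebraMap (FaithfulSMul.algebraMap_injective K (Module.End K A)) p
  rw [sub_pow_char_of_commute (p := p) (h := LinearMap.commute_mulLeft_right w w),
    LinearMap.pow_mulLeft, LinearMap.pow_mulRight]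

/-- step (b): if `w ^ p ∈ K` and `w ∉ K`, there is `u` with `w * u - u * w = 1`. -/
theorem exists_commutator_eq_one
    (K : Type u) [Field K] (p : ℕ) [Fact p.Prime] [CharP K p]
    (A : Type v) [DivisionRing A] [Algebra K A] [Algebra.IsCentral K A]
    (w : A) (hwp : w ^ p ∈ (algebraMap K A).range) (hwK : w ∉ (algebraMap K A).range) :
    ∃ u : A, w * u - u * w = 1 := by
  classical
  set D : Module.End K A := LinearMap.mulLeft K w - LinearMap.mulRight K w with hD
  have hDapp : ∀ z : A, D z = w * z - z * w := by intro z; simp [hD]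
  have hDp : D ^ p = 0 := by
    rw [hD, ad_pow]
    obtain ⟨c, hc⟩ := hwp
    rw [← hc]
    ext z
    simp [Algebra.commutes]
  have hD0 : D ≠ 0 := by
    intro h0
    apply hwK
    apply mem_range_of_forall_commute
    intro y
    have := hDapp y
    rw [h0, LinearMap.zero_apply] at this
    exact (sub_eq_zero.1 this.symm).symm
  obtain ⟨x, hx⟩ : ∃ x, D x ≠ 0 := by
    by_contra hcon
    push_neg at hcon
    exact hD0 (LinearMap.ext hcon)
  have hex : ∃ j, (D ^ j) x = 0 := ⟨p, by rw [hDp]; rfl⟩
  set j0 := Nat.find hex with hj0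
  have hj0spec : (D ^ j0) x = 0 := Nat.find_spec hex
  have hj0_0 : j0 ≠ 0 := by
    intro h
    rw [h, pow_zero, Module.End.one_apply] at hj0spec
    rw [hj0spec, map_zero] at hx
    exact hx rfl
  have hj0_1 : j0 ≠ 1 := by
    intro h
    rw [h, pow_one] at hj0spec
    exact hx hj0spec
  obtain ⟨j, hj⟩ : ∃ j, j0 = j + 2 := ⟨j0 - 2, by omega⟩
  set z := (D ^ j) x with hz
  set t := D z with ht
  have ht' : t = (D ^ (j + 1)) x := by
    rw [ht, hz, pow_succ', Module.End.mul_apply]
  have ht0 : t ≠ 0 := by
    rw [ht']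
    exact Nat.find_min hex (by omega)
  have hDt : D t = 0 := by
    rw [ht', ← Module.End.mul_apply, ← pow_succ', ← hj]
    exact hj0spec
  have hwt : w * t = t * w := by
    have := hDapp t
    rw [hDt] at this
    exact sub_eq_zero.1 this.symm
  have hwt' : w * t⁻¹ = t⁻¹ * w := (Commute.inv_right₀ (show Commute w t from hwt)).eq
  refine ⟨z * t⁻¹, ?_⟩
  have hzt : w * z - z * w = t := (hDapp z).symm
  calc w * (z * t⁻¹) - z * t⁻¹ * w = (w * z - z * w) * t⁻¹ := by
        rw [sub_mul, mul_assoc z, ← hwt']; noncomm_ring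
    _ = 1 := by rw [hzt, mul_inv_cancel₀ ht0]

theorem main
    (K : Type u) [Field K] (p : ℕ) [Fact p.Prime] [CharP K p]
    (A : Type v) [DivisionRing A] [Algebra K A] [Algebra.IsCentral K A] [FiniteDimensional K A]
    (hA : Module.finrank K A = p ^ 2) (h : ∃ v : A, ¬ IsSeparable K v) :
    ∃ v u : A, v ^ p ∈ (algebraMap K A).range ∧ u ^ p ∈ (algebraMap K A).range ∧ v * u - u * v = 1 ∧
      Algebra.adjoin K {v, u} = ⊤ := by
  classical
  have hp : p.Prime := Fact.out
  obtain ⟨w, hw⟩ := h
  obtain ⟨hwp, hwK⟩ := pow_mem_of_not_separable K p A hA w hw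
  obtain ⟨u, hu⟩ := exists_commutator_eq_one K p A w hwp hwK
  have hne : w * u ≠ u * w := by
    intro h
    rw [h, sub_self] at hu
    exact zero_ne_one hu
  have htop : Algebra.adjoin K {w, u} = ⊤ := adjoin_pair_eq_top hp hA w u hne
  refine ⟨w, u, hwp, ?_, hu, htop⟩
  -- u ^ p is central
  set D' : Module.End K A := LinearMap.mulLeft K u - LinearMap.mulRight K u with hD'
  have hD'app : ∀ z : A, D' z = u * z - z * u := by intro z; simp [hD']
  have hD'p : D' ^ p = LinearMap.mulLeft K (u ^ p) - LinearMap.mulRight K (u ^ p) := ad_pow K p A u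
  have h1 : D' w = -1 := by rw [hD'app, ← hu]; abel
  have h2 : D' (-1) = 0 := by rw [hD'app]; simp
  have h3 : (D' ^ p) w = 0 := by
    obtain ⟨k, hk⟩ : ∃ k, p = k + 2 := ⟨p - 2, by have := hp.two_le; omega⟩
    rw [hk, pow_succ, pow_succ, mul_assoc, Module.End.mul_apply, Module.End.mul_apply, h1, h2,
      map_zero]
  have h4 : u ^ p * w = w * u ^ p := by
    rw [hD'p] at h3
    simp only [LinearMap.sub_apply, LinearMap.mulLeft_apply, LinearMap.mulRight_apply] at h3
    exact sub_eq_zero.1 h3
  have h5 : u * u ^ p = u ^ p * u := by rw [← pow_succ, ← pow_succ']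
  apply mem_range_of_forall_commute
  intro y
  exact commute_of_mem_adjoin_pair (K := K) w u (u ^ p) h4.symm h5 y (by rw [htop]; trivial)

end Helpers

/-- (1) ⇒ (2): let K be a field with char K = p > 0 and A a central division K-algebra with dim_K A = p
^ 2. If some element of A is not separable over K, then there are v, u in A with v ^ p and u ^ p in
K and v * u - u * v = 1 which generate A as a K-algebra. -/
theorem result
    (K : Type u) [Field K] (p : ℕ) [Fact p.Prime] [CharP K p]
    (A : Type v) [DivisionRing A] [Algebra K A] [Algebra.IsCentral K A] [FiniteDimensional K A]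
    (hA : Module.finrank K A = p ^ 2) (h : ∃ v : A, ¬ IsSeparable K v) :
    ∃ v u : A, v ^ p ∈ (algebraMap K A).range ∧ u ^ p ∈ (algebraMap K A).range ∧ v * u - u * v = 1 ∧
      Algebra.adjoin K {v, u} = ⊤ := by
  exact main K p A hA h

end Groth.Agent.S15169
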