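import Groth.Statements.S1517
import Mathlib
-- import your own Groth.Agent.* helpers here

set_option autoImplicit false
universe u
open Brauer

namespace Groth.Agent.S1517

/-- Let A be a ring with no nontrivial two-sided ideals and M a nonzero right ideal, viewed as a right
A-module with endomorphism ring A'. Then every A'-linear endomorphism of M is right multiplication
by exactly one element of A; that is, the natural map from A to the bicommutant of M is a bijection. -/
theorem result (A : Type u) [Ring A] [IsSimpleRing A]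
    (M : Submodule Aᵐᵒᵖ A) (hM : M ≠ ⊥)
    (g : Module.End (Module.End Aᵐᵒᵖ M) M) :
    ∃! a : A, ∀ m : M, (g m : A) = (m : A) * a := by
  classical
  have hMr : ∀ (m : A) (b : A), m ∈ M → m * b ∈ M := by
    intro m b hm
    have := M.smul_mem (MulOpposite.op b) hm
    simpa using this
  -- the left ideal generated by M is two-sided, hence everything
  have hright : ∀ x ∈ Ideal.span (M : Set A), ∀ b : A, x * b ∈ Ideal.span (M : Set A) := by
    intro x hx b
    induction hx using Submodule.span_induction with
    | mem m hm => exact Ideal.subset_span (hMr m b hm)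
    | zero => rw [zero_mul]; exact Submodule.zero_mem _
    | add x y _ _ hx hy => rw [add_mul]; exact Submodule.add_mem _ hx hy
    | smul a x _ hx =>
      rw [smul_eq_mul, mul_assoc]
      exact Ideal.mul_mem_left _ a hx
  let J : TwoSidedIdeal A := TwoSidedIdeal.mk' (Ideal.span (M : Set A) : Set A)
    (Submodule.zero_mem _) (fun hx hy ↦ Submodule.add_mem _ hx hy)
    (fun hx ↦ Submodule.neg_mem _ hx) (fun {x y} hy ↦ Ideal.mul_mem_left _ x hy)
    (fun {x y} hx ↦ hright x hx y)
  have hJ : J = ⊤ := by
    rcases eq_bot_or_eq_top J with h | h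
    · exfalso
      apply hM
      rw [eq_bot_iff]
      intro m hm
      have : m ∈ J := (TwoSidedIdeal.mem_mk' _ _ _ _ _ _ m).mpr (Ideal.subset_span hm)
      rw [h] at this
      exact (TwoSidedIdeal.mem_bot A).mp this
    · exact h
  have h1 : (1 : A) ∈ Ideal.span (M : Set A) := by
    have : (1 : A) ∈ J := by rw [hJ]; trivial
    exact (TwoSidedIdeal.mem_mk' _ _ _ _ _ _ 1).mp this
  -- left multiplication by an element of M
  let lam : M → Module.End Aᵐᵒᵖ M := fun m ↦
    { toFun := fun x ↦ ⟨(m : A) * (x : A), hMr _ _ m.2⟩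
      map_add' := fun x y ↦ Subtype.ext (by simp [mul_add])
      map_smul' := fun r x ↦ Subtype.ext (by simp [mul_assoc]) }
  have hstar : ∀ m x : M, (g ⟨(m : A) * (x : A), hMr _ _ m.2⟩ : A) = (m : A) * (g x : A) := by
    intro m x
    have := g.map_smul (lam m) x
    have h2 : (lam m) • x = ⟨(m : A) * (x : A), hMr _ _ m.2⟩ := rfl
    have h3 : (lam m) • g x = ⟨(m : A) * (g x : A), hMr _ _ m.2⟩ := rfl
    rw [h2, h3] at this
    exact congrArg Subtype.val this
  -- write 1 as a combination
  obtain ⟨c, hc⟩ := (Finsupp.mem_span_iff_linearCombination A (M : Set A) 1).mp h1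
  rw [Finsupp.linearCombination_apply] at hc
  -- hc : c.sum (fun i a ↦ a • (i : A)) = 1
  let a : A := c.sum fun i ai ↦ ai * (g ⟨(i : A), i.2⟩ : A)
  have hex : ∀ m : M, (g m : A) = (m : A) * a := by
    intro m
    have hm1 : (m : A) = c.sum fun i ai ↦ ((m : A) * ai) * (i : A) := by
      conv_lhs => rw [← mul_one (m : A), ← hc]
      rw [Finsupp.mul_sum]
      simp [mul_assoc]
    have hgsum : ∀ (s : Finset ↥(M : Set A)) (F : ↥(M : Set A) → M),
        (g (∑ i ∈ s, F i) : A) = ∑ i ∈ s, (g (F i) : A) := by
      intro s F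
      rw [map_sum]
      simp
    have hmeq : m = ∑ i ∈ c.support,
        (⟨((m : A) * c i) * (i : A), hMr _ _ (hMr _ _ m.2)⟩ : M) := by
      apply Subtype.ext
      rw [Submodule.coe_sum]
      exact hm1
    conv_lhs => rw [hmeq]
    rw [hgsum]
    simp only [a, Finsupp.sum, Finset.mul_sum]
    refine Finset.sum_congr rfl fun i _ ↦ ?_
    have := hstar ⟨(m : A) * c i, hMr _ _ m.2⟩ ⟨(i : A), i.2⟩
    simp only at this
    rw [this, mul_assoc]
  refine ⟨a, hex, ?_⟩
  intro a' ha'
  have hdiff : ∀ m : M, (m : A) * (a' - a) = 0 := by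
    intro m
    rw [mul_sub, ← ha' m, ← hex m, sub_self]
  have : a' - a = 0 := by
    calc a' - a = 1 * (a' - a) := (one_mul _).symm
      _ = (c.sum fun i ai ↦ ai • (i : A)) * (a' - a) := by rw [hc]
      _ = 0 := by
        rw [Finsupp.sum, Finset.sum_mul]
        refine Finset.sum_eq_zero fun i _ ↦ ?_
        rw [smul_eq_mul, mul_assoc, hdiff ⟨(i : A), i.2⟩, mul_zero]
  exact sub_eq_zero.mp this

end Groth.Agent.S1517
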