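import Groth.Statements.S15170
import Mathlib
import Groth.Agent.Lib.helper22.DivAlg

set_option autoImplicit false
universe u v
open BddFin

namespace Groth.Agent.S15170

section Helpers

open Polynomial Module

theorem isGalois_of_roots {K L : Type*} [Field K] [Field L] [Algebra K L] [FiniteDimensional K L]
    (n : ℕ) (θ : L) (hgen : Algebra.adjoin K {θ} = ⊤) (hfin : finrank K L ≤ n) (Z : Finset L)
    (hZ : Z.card = n) (hroot : ∀ z ∈ Z, aeval z (minpoly K θ) = 0) :
    IsGalois K L ∧ finrank K L = n := by
  classical
  have hint : IsIntegral K θ := Algebra.IsIntegral.isIntegral θ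
  set m := minpoly K θ with hm
  have hm0 : m ≠ 0 := minpoly.ne_zero hint
  set mL := m.map (algebraMap K L) with hmL
  have hmL0 : mL ≠ 0 := by rw [hmL]; exact (Polynomial.map_ne_zero_iff (algebraMap K L).injective).2 hm0
  have hsub : Z.val ⊆ mL.roots := by
    intro z hz
    rw [mem_roots hmL0, IsRoot.def, hmL, eval_map_algebraMap]
    exact hroot z (by simpa using hz)
  have hle : Z.val ≤ mL.roots := (Multiset.le_iff_subset Z.nodup).2 hsub
  have h1 : Z.card ≤ Multiset.card mL.roots := Multiset.card_le_card hle
  have h2 : Multiset.card mL.roots ≤ mL.natDegree := card_roots' mL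
  have h3 : mL.natDegree = m.natDegree := natDegree_map _
  have h4 : m.natDegree ≤ finrank K L := minpoly.natDegree_le θ
  have hcard : Multiset.card mL.roots = mL.natDegree := by omega
  have hsplit : mL.Splits := splits_iff_card_roots.2 hcard
  have hroots : mL.roots = Z.val := (Multiset.eq_of_le_of_card_le hle (by rw [Finset.card_val]; omega)).symm
  have hsep : m.Separable := by
    rw [← Polynomial.separable_map (algebraMap K L), ← nodup_roots_iff_of_splits hmL0 hsplit, hroots]
    exact Z.nodup
  haveI : m.IsSplittingField K L := by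
    refine ⟨hsplit, ?_⟩
    rw [eq_top_iff, ← hgen]
    apply Algebra.adjoin_mono
    intro x hx
    rw [Set.mem_singleton_iff] at hx
    rw [hx, mem_rootSet]
    exact ⟨hm0, minpoly.aeval K θ⟩
  exact ⟨IsGalois.of_separable_splitting_field hsep, by omega⟩

theorem shift_pow {A : Type*} [Ring A] (θ v : A) (h1 : θ * v = v * (θ - 1)) (j : ℕ) :
    θ * v ^ j = v ^ j * (θ - j) := by
  induction j with
  | zero => simp
  | succ j ih =>
    rw [pow_succ, ← mul_assoc, ih, mul_assoc, mul_assoc]
    congr 1
    have : (θ - (j : A)) * v = v * (θ - ((j + 1 : ℕ) : A)) := by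
      rw [sub_mul, h1]; push_cast; noncomm_ring
      simp [Nat.cast_comm]
    exact this

theorem shift_aeval {K A : Type*} [Field K] [Ring A] [Algebra K A] (θ w s : A)
    (h1 : θ * w = w * s) (g : K[X]) :
    aeval θ g * w = w * aeval s g := by
  induction g using Polynomial.induction_on' with
  | add g1 g2 h1 h2 => rw [map_add, map_add, add_mul, mul_add, h1, h2]
  | monomial k r =>
    rw [aeval_monomial, aeval_monomial]
    have : θ ^ k * w = w * s ^ k := by
      induction k with
      | zero => simp
      | succ k ih => rw [pow_succ, mul_assoc, h1, ← mul_assoc, ih, mul_assoc, ← pow_succ]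
    rw [mul_assoc, this, ← mul_assoc, Algebra.commutes r w, mul_assoc]

theorem main
    (K : Type u) [Field K] (p : ℕ) [Fact p.Prime] [CharP K p]
    (A : Type v) [DivisionRing A] [Algebra K A] [Algebra.IsCentral K A] [FiniteDimensional K A]
    (hA : Module.finrank K A = p ^ 2) (v u : A) (hv : v ^ p ∈ (algebraMap K A).range)
    (hu : u ^ p ∈ (algebraMap K A).range) (hvu : v * u - u * v = 1) :
    ∃ (L : Type v) (_ : Field L) (_ : Algebra K L), IsGalois K L ∧ Module.finrank K L = p ∧
      Nonempty (L →ₐ[K] A) := by
  classical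
  have hp : p.Prime := Fact.out
  have hv0 : v ≠ 0 := by rintro rfl; simp at hvu
  set θ : A := v * u with hθ
  have h1 : θ * v = v * (θ - 1) := by
    have : u * v = v * u - 1 := by rw [← hvu]; abel
    rw [hθ, mul_assoc, this]
  have hroot : ∀ j : ℕ, aeval (θ - (j : A)) (minpoly K θ) = 0 := by
    intro j
    have h2 := shift_aeval (K := K) θ (v ^ j) (θ - j) (shift_pow θ v h1 j) (minpoly K θ)
    rw [minpoly.aeval, zero_mul] at h2
    exact (mul_eq_zero.1 h2.symm).resolve_left (pow_ne_zero j hv0)
  haveI : CharP A p := charP_of_injective_algebraMap (algebraMap K A).injective p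
  set S : Subalgebra K A := Algebra.adjoin K {θ} with hS
  have hθS : θ ∈ S := Algebra.subset_adjoin rfl
  have hmemS : ∀ j : ℕ, θ - (j : A) ∈ S := fun j => S.sub_mem hθS (natCast_mem S j)
  have hcomm : ∀ a ∈ ({θ} : Set A), ∀ b ∈ ({θ} : Set A), a * b = b * a := by
    intro a ha b hb; rw [Set.mem_singleton_iff] at ha hb; rw [ha, hb]
  letI : CommRing S := Algebra.adjoinCommRingOfComm K hcomm
  letI : Field S := fieldOfFiniteDimensional K S
  -- dimension
  have hfin : finrank K S ≤ p := by
    rcases Groth.Agent.Lib.helper22.DivAlg.finrank_eq_one_or_prime_or_sq hp hA S with h | h | h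
    · rw [h]; exact hp.one_le
    · exact h.le
    · exfalso
      have htop := Groth.Agent.Lib.helper22.DivAlg.eq_top_of_finrank_eq S (h.trans hA.symm)
      have hvS : v ∈ S := by rw [htop]; trivial
      have huS : u ∈ S := by rw [htop]; trivial
      have := congrArg Subtype.val (mul_comm (⟨v, hvS⟩ : S) ⟨u, huS⟩)
      have h' : v * u = u * v := this
      rw [hθ, h', sub_self] at hvu
      exact zero_ne_one hvu
  let θ' : S := ⟨θ, hθS⟩
  have hgen : Algebra.adjoin K {θ'} = ⊤ := by
    have := Algebra.adjoin_adjoin_coe_preimage (R := K) (s := ({θ} : Set A))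
    convert this using 2
    ext x
    simp only [Set.mem_singleton_iff, Set.mem_preimage]
    exact ⟨fun h => by rw [h], fun h => Subtype.ext h⟩
  have hmin : minpoly K θ' = minpoly K θ :=
    (minpoly.algHom_eq S.val Subtype.val_injective θ').symm
  let Z : Finset S := (Finset.range p).image (fun j : ℕ => (⟨θ - (j : A), hmemS j⟩ : S))
  have hZ : Z.card = p := by
    rw [Finset.card_image_of_injOn, Finset.card_range]
    intro i hi j hj hij
    have h3 : θ - (i : A) = θ - (j : A) := congrArg Subtype.val hij
    have h4 : (i : A) = (j : A) := sub_right_injective h3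
    exact CharP.natCast_injOn_Iio A p (by simpa using hi) (by simpa using hj) h4
  have hroot' : ∀ z ∈ Z, aeval z (minpoly K θ') = 0 := by
    intro z hz
    obtain ⟨j, _, rfl⟩ := Finset.mem_image.1 hz
    apply Subtype.val_injective
    have := Polynomial.aeval_algHom_apply S.val (⟨θ - (j : A), hmemS j⟩ : S) (minpoly K θ')
    rw [hmin] at this ⊢
    exact this.symm.trans (hroot j)
  obtain ⟨hgal, hdim⟩ := isGalois_of_roots (K := K) (L := S) p θ' hgen hfin Z hZ hroot'
  exact ⟨S, inferInstance, inferInstance, hgal, hdim, ⟨S.val⟩⟩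

end Helpers

/-- (2) ⇒ (3): let K be a field with char K = p > 0 and A a central division K-algebra with dim_K A = p
^ 2. If v, u in A satisfy v ^ p ∈ K, u ^ p ∈ K and v * u - u * v = 1, then some Galois extension L
of K with [L : K] = p admits a K-algebra embedding into A (so A has a Galois subfield of degree p
over K). -/
theorem result
    (K : Type u) [Field K] (p : ℕ) [Fact p.Prime] [CharP K p]
    (A : Type v) [DivisionRing A] [Algebra K A] [Algebra.IsCentral K A] [FiniteDimensional K A]
    (hA : Module.finrank K A = p ^ 2) (v u : A) (hv : v ^ p ∈ (algebraMap K A).range)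
    (hu : u ^ p ∈ (algebraMap K A).range) (hvu : v * u - u * v = 1) :
    ∃ (L : Type v) (_ : Field L) (_ : Algebra K L), IsGalois K L ∧ Module.finrank K L = p ∧
      Nonempty (L →ₐ[K] A) := by
  exact main K p A hA v u hv hu hvu

end Groth.Agent.S15170
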