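import Groth.Statements.S15171
import Mathlib

set_option autoImplicit false
universe u v w
open BddFin

namespace Groth.Agent.S15171

section Helpers

open Polynomial

/-- Artin–Schreier generator: a Galois extension of degree `p` in characteristic `p` contains
`θ ∉ K` with `θ ^ p - θ ∈ K`. -/
theorem exists_artinSchreier (K : Type u) [Field K] (p : ℕ) [Fact p.Prime] [CharP K p]
    (L : Type w) [Field L] [Algebra K L] [IsGalois K L]
    (hL : Module.finrank K L = p) :
    ∃ θ : L, θ ∉ Set.range (algebraMap K L) ∧ θ ^ p - θ ∈ Set.range (algebraMap K L) := by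
  classical
  have hp : p.Prime := Fact.out
  haveI : FiniteDimensional K L := Module.finite_of_finrank_pos (by rw [hL]; exact hp.pos)
  haveI : CharP L p := charP_of_injective_algebraMap (algebraMap K L).injective p
  have hcard : Nat.card Gal(L/K) = p := by rw [IsGalois.card_aut_eq_finrank, hL]
  haveI : Finite Gal(L/K) := Nat.finite_of_card_ne_zero (by rw [hcard]; exact hp.ne_zero)
  haveI : Nontrivial Gal(L/K) := by
    rw [← Finite.one_lt_card_iff_nontrivial, hcard]; exact hp.one_lt
  obtain ⟨σ, hσ⟩ := exists_ne (1 : Gal(L/K))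
  have hz : Subgroup.zpowers σ = ⊤ := zpowers_eq_top_of_prime_card hcard hσ
  have hfix : ∀ t : L, σ t = t → t ∈ Set.range (algebraMap K L) := by
    intro t ht
    rw [IsGalois.mem_range_algebraMap_iff_fixed]
    intro τ
    have hσmem : σ ∈ MulAction.stabilizer Gal(L/K) t := by
      rw [MulAction.mem_stabilizer_iff]; exact ht
    have : τ ∈ MulAction.stabilizer Gal(L/K) t := by
      have h1 : Subgroup.zpowers σ ≤ MulAction.stabilizer Gal(L/K) t :=
        (Subgroup.zpowers_le).2 hσmem
      rw [hz] at h1
      exact h1 (Subgroup.mem_top τ)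
    rw [MulAction.mem_stabilizer_iff] at this
    exact this
  have hσp : σ ^ p = 1 := by rw [← hcard]; exact pow_card_eq_one'
  set s : Module.End K L := σ.toLinearMap with hs
  haveI : CharP (Module.End K L) p :=
    charP_of_injective_algebraMap (FaithfulSMul.algebraMap_injective K (Module.End K L)) p
  have hsp : s ^ p = 1 := by
    rw [hs, ← AlgEquiv.pow_toLinearMap, hσp]; rfl
  set N : Module.End K L := s - 1 with hN
  have hNp : N ^ p = 0 := by
    rw [hN, sub_pow_char_of_commute (p := p) (h := Commute.one_right s), hsp, one_pow, sub_self]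
  have hNapp : ∀ z : L, N z = σ z - z := by
    intro z; simp [hN, hs]
  have hN0 : N ≠ 0 := by
    intro h0
    apply hσ
    ext z
    have := hNapp z
    rw [h0, LinearMap.zero_apply] at this
    simpa using (sub_eq_zero.1 this.symm)
  obtain ⟨x, hx⟩ : ∃ x, N x ≠ 0 := by
    by_contra hcon
    push_neg at hcon
    exact hN0 (LinearMap.ext hcon)
  have hex : ∃ j, (N ^ j) x = 0 := ⟨p, by rw [hNp]; rfl⟩
  set j0 := Nat.find hex with hj0
  have hj0spec : (N ^ j0) x = 0 := Nat.find_spec hex
  have hj0_0 : j0 ≠ 0 := by
    intro h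
    rw [h, pow_zero, Module.End.one_apply] at hj0spec
    rw [hj0spec, map_zero] at hx
    exact hx rfl
  have hj0_1 : j0 ≠ 1 := by
    intro h
    rw [h, pow_one] at hj0spec
    exact hx hj0spec
  obtain ⟨j, hj⟩ : ∃ j, j0 = j + 2 := ⟨j0 - 2, by omega⟩
  set θ0 := (N ^ j) x with hθ0
  set t := N θ0 with ht
  have ht' : t = (N ^ (j + 1)) x := by
    rw [ht, hθ0, pow_succ', Module.End.mul_apply]
  have ht0 : t ≠ 0 := by
    rw [ht']
    exact Nat.find_min hex (by omega)
  have hNt : N t = 0 := by
    rw [ht', ← Module.End.mul_apply, ← pow_succ', ← hj]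
    exact hj0spec
  have hσt : σ t = t := by
    have := hNapp t
    rw [hNt] at this
    exact (sub_eq_zero.1 this.symm)
  have hσθ0 : σ θ0 = θ0 + t := by
    have := hNapp θ0
    rw [← ht] at this
    rw [this]; ring
  refine ⟨t⁻¹ * θ0, ?_, ?_⟩
  · rintro ⟨k, hk⟩
    have h1 : σ (t⁻¹ * θ0) = t⁻¹ * θ0 := by rw [← hk]; exact σ.commutes k
    rw [map_mul, map_inv₀, hσt, hσθ0, mul_add, inv_mul_cancel₀ ht0] at h1
    exact one_ne_zero (add_eq_left.1 h1)
  · apply hfix
    have h1 : σ (t⁻¹ * θ0) = t⁻¹ * θ0 + 1 := by
      rw [map_mul, map_inv₀, hσt, hσθ0, mul_add, inv_mul_cancel₀ ht0]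
    rw [map_sub, map_pow, h1, add_pow_char, one_pow]
    ring

theorem exists_eigvec {K V ι : Type*} [Field K] [AddCommGroup V] [Module K V]
    (D : Module.End K V) (f : ι → K) (S : Finset ι) :
    ∀ (y : V), y ≠ 0 → (aeval D (∏ a ∈ S, (X - C (f a)))) y = 0 →
      ∃ a ∈ S, ∃ u : V, u ≠ 0 ∧ D u = f a • u := by
  classical
  induction S using Finset.induction_on with
  | empty =>
    intro y hy h
    simp at h
    exact absurd h hy
  | insert a S ha ih =>
    intro y hy h
    rw [Finset.prod_insert ha, map_mul, Module.End.mul_apply] at h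
    by_cases hz : (aeval D (∏ a ∈ S, (X - C (f a)))) y = 0
    · obtain ⟨b, hb, u, hu, hDu⟩ := ih y hy hz
      exact ⟨b, Finset.mem_insert_of_mem hb, u, hu, hDu⟩
    · refine ⟨a, Finset.mem_insert_self a S, _, hz, ?_⟩
      simp only [map_sub, aeval_X, aeval_C, LinearMap.sub_apply, Module.algebraMap_end_apply] at h
      exact sub_eq_zero.1 h

theorem prod_zmod (p : ℕ) [Fact p.Prime] :
    (X : (ZMod p)[X]) * ∏ a ∈ (Finset.univ.erase (0 : ZMod p)), (X - C a) = X ^ p - X := by
  have h1 : ((X ^ p - X : (ZMod p)[X]).roots.map fun a => X - C a).prod = X ^ p - X := by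
    apply Polynomial.prod_multiset_X_sub_C_of_monic_of_roots_card_eq
    · exact monic_X_pow_sub (by simpa using (Fact.out : p.Prime).one_lt)
    · have := FiniteField.roots_X_pow_card_sub_X (ZMod p)
      rw [ZMod.card] at this
      rw [this, FiniteField.X_pow_card_sub_X_natDegree_eq _ (Fact.out : p.Prime).one_lt]
      simp
  have h2 := FiniteField.roots_X_pow_card_sub_X (ZMod p)
  rw [ZMod.card] at h2
  rw [h2] at h1
  rw [← h1]
  change _ = ∏ a ∈ Finset.univ, (X - C a)
  rw [← Finset.mul_prod_erase Finset.univ _ (Finset.mem_univ (0 : ZMod p))]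
  simp

theorem comm_pow {K A : Type*} [Field K] [Ring A] [Algebra K A] (t u : A) (i : K)
    (h : t * u - u * t = i • u) (n : ℕ) :
    t * u ^ n - u ^ n * t = (n : K) • i • u ^ n := by
  induction n with
  | zero => simp
  | succ n ih =>
    have : t * u ^ (n + 1) - u ^ (n + 1) * t = (t * u ^ n - u ^ n * t) * u + u ^ n * (t * u - u * t) := by
      rw [pow_succ]; noncomm_ring
    rw [this, ih, h]
    simp only [smul_mul_assoc, mul_smul_comm, ← pow_succ]
    rw [Nat.cast_succ, add_smul, one_smul]

theorem comm_aeval {K A : Type*} [Field K] [Ring A] [Algebra K A] (t u : A) (i : K)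
    (h : t * u - u * t = i • u) (g : K[X]) :
    t * aeval u g - aeval u g * t = i • (u * aeval u (derivative g)) := by
  induction g using Polynomial.induction_on' with
  | add g1 g2 h1 h2 =>
    rw [map_add, derivative_add, map_add, mul_add, add_mul, mul_add, smul_add, ← h1, ← h2]
    abel
  | monomial n r =>
    rw [aeval_monomial, derivative_monomial, aeval_monomial]
    rcases n with _ | n
    · simp [Algebra.commutes]
    · have := comm_pow t u i h (n + 1)
      simp only [Nat.add_sub_cancel, ← Algebra.smul_def, mul_smul_comm, smul_mul_assoc]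
      rw [← smul_sub, this, ← pow_succ']
      simp only [smul_smul]
      congr 1
      push_cast
      ring

theorem main
    (K : Type u) [Field K] (p : ℕ) [Fact p.Prime] [CharP K p]
    (A : Type v) [DivisionRing A] [Algebra K A] [Algebra.IsCentral K A] [FiniteDimensional K A]
    (hA : Module.finrank K A = p ^ 2) (L : Type w) [Field L] [Algebra K L] [IsGalois K L]
    (hL : Module.finrank K L = p) (ι : L →ₐ[K] A) :
    ∃ v : A, ¬ IsSeparable K v := by
  classical
  have hp : p.Prime := Fact.out
  obtain ⟨θ, hθ1, c, hc⟩ := exists_artinSchreier K p L hL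
  set t : A := ι θ with ht
  have htp : t ^ p - t = algebraMap K A c := by
    rw [ht, ← map_pow, ← map_sub, ← hc, ι.commutes]
  have hιinj : Function.Injective ι := (ι : L →+* A).injective
  have htc : ¬ ∀ x : A, t * x = x * t := by
    intro hcomm
    have hmem : t ∈ Subalgebra.center K A := by
      rw [Subalgebra.mem_center_iff]
      intro b; exact (hcomm b).symm
    rw [Algebra.IsCentral.center_eq_bot, Algebra.mem_bot] at hmem
    obtain ⟨k, hk⟩ := hmem
    apply hθ1
    refine ⟨k, hιinj ?_⟩
    rw [ι.commutes, hk]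
  set D : Module.End K A := LinearMap.mulLeft K t - LinearMap.mulRight K t with hD
  have hDapp : ∀ z : A, D z = t * z - z * t := by
    intro z; simp [hD]
  haveI : CharP (Module.End K A) p :=
    charP_of_injective_algebraMap (FaithfulSMul.algebraMap_injective K (Module.End K A)) p
  have hDp : D ^ p = D := by
    rw [hD, sub_pow_char_of_commute (p := p) (h := LinearMap.commute_mulLeft_right t t),
      LinearMap.pow_mulLeft, LinearMap.pow_mulRight]
    have : t ^ p = t + algebraMap K A c := by rw [← htp]; abel
    rw [this]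
    ext z
    simp only [LinearMap.sub_apply, LinearMap.mulLeft_apply, LinearMap.mulRight_apply, add_mul,
      mul_add, Algebra.commutes]
    abel
  have hD0 : D ≠ 0 := by
    intro h0
    apply htc
    intro x
    have := hDapp x
    rw [h0, LinearMap.zero_apply] at this
    exact sub_eq_zero.1 this.symm
  obtain ⟨x, hx⟩ : ∃ x, D x ≠ 0 := by
    by_contra hcon
    push_neg at hcon
    exact hD0 (LinearMap.ext hcon)
  let φ : ZMod p →+* K := ZMod.castHom (dvd_refl p) K
  have hpoly : (X : K[X]) * ∏ a ∈ (Finset.univ.erase (0 : ZMod p)), (X - C (φ a)) = X ^ p - X := by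
    have := congrArg (Polynomial.map φ) (prod_zmod p)
    simpa [Polynomial.map_prod] using this
  have hq : (aeval D (∏ a ∈ (Finset.univ.erase (0 : ZMod p)), (X - C (φ a)))) (D x) = 0 := by
    have h1 : (aeval D (∏ a ∈ (Finset.univ.erase (0 : ZMod p)), (X - C (φ a)))) (D x)
        = (aeval D ((∏ a ∈ (Finset.univ.erase (0 : ZMod p)), (X - C (φ a))) * X)) x := by
      rw [map_mul, aeval_X, Module.End.mul_apply]
    rw [h1, mul_comm, hpoly, map_sub, map_pow, aeval_X, hDp, sub_self, LinearMap.zero_apply]
  obtain ⟨a, ha, u, hu0, hDu⟩ := exists_eigvec D (fun a => φ a) _ (D x) hx hq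
  have ha0 : a ≠ 0 := (Finset.mem_erase.1 ha).1
  have hi0 : φ a ≠ 0 := by
    intro h
    exact ha0 (φ.injective (h.trans (map_zero φ).symm))
  have hcomm : t * u - u * t = φ a • u := by rw [← hDapp]; exact hDu
  refine ⟨u, ?_⟩
  intro hsep
  have hint : IsIntegral K u := Algebra.IsIntegral.isIntegral u
  have h1 := comm_aeval t u (φ a) hcomm (minpoly K u)
  rw [minpoly.aeval, mul_zero, zero_mul, sub_zero] at h1
  have h2 : aeval u (derivative (minpoly K u)) = 0 := by
    rcases smul_eq_zero.1 h1.symm with h | h
    · exact absurd h hi0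
    · rcases mul_eq_zero.1 h with h | h
      · exact absurd h hu0
      · exact h
  have h3 : derivative (minpoly K u) = 0 := by
    by_contra hne
    have := minpoly.degree_le_of_ne_zero K u hne h2
    have hlt := Polynomial.degree_derivative_lt (minpoly.ne_zero hint)
    exact absurd this (not_le.2 hlt)
  have h4 : (minpoly K u).Separable := hsep
  rw [Polynomial.separable_def, h3, isCoprime_zero_right] at h4
  exact minpoly.not_isUnit K u h4

end Helpers

/-- (3) ⇒ (1): let K be a field with char K = p > 0 and A a central division K-algebra with dim_K A = p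
^ 2. If some Galois extension L of K with [L : K] = p admits a K-algebra embedding into A, then some
element of A is not separable over K. -/
theorem result
    (K : Type u) [Field K] (p : ℕ) [Fact p.Prime] [CharP K p]
    (A : Type v) [DivisionRing A] [Algebra K A] [Algebra.IsCentral K A] [FiniteDimensional K A]
    (hA : Module.finrank K A = p ^ 2) (L : Type w) [Field L] [Algebra K L] [IsGalois K L]
    (hL : Module.finrank K L = p) (ι : L →ₐ[K] A) :
    ∃ v : A, ¬ IsSeparable K v := by
  exact main K p A hA L hL ι

end Groth.Agent.S15171
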