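import Groth.Statements.S15172
import Mathlib

set_option autoImplicit false
universe u v
open Polynomial
open BddFin

namespace Groth.Agent.S15172

section Helpers

theorem main
    (L : Type u) [Field L] (p : ℕ) [Fact p.Prime] [CharP L p] (s : Finset L) (h0 : (0 : L) ∈ s)
    (hadd : ∀ a ∈ s, ∀ b ∈ s, a + b ∈ s) (R : Type v) [CommRing R] [Algebra L R] (x y : R) :
    aeval (x + y) (∏ a ∈ s, (X - C a)) = aeval x (∏ a ∈ s, (X - C a)) + aeval y (∏ a ∈ s, (X - C a)) := by
  classical
  have hp : p.Prime := Fact.out
  -- closure under nsmul and negation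
  have hnsmul : ∀ (k : ℕ), ∀ a ∈ s, k • a ∈ s := by
    intro k a ha
    induction k with
    | zero => simpa using h0
    | succ k ih => rw [succ_nsmul]; exact hadd _ ih _ ha
  have hneg : ∀ a ∈ s, -a ∈ s := by
    intro a ha
    have h1 : (p - 1) • a + a = 0 := by
      rw [← succ_nsmul, Nat.sub_add_cancel hp.one_le, nsmul_eq_mul, CharP.cast_eq_zero, zero_mul]
    have : -a = (p - 1) • a := by rw [neg_eq_iff_add_eq_zero, add_comm]; exact h1
    rw [this]; exact hnsmul _ a ha
  set f : L[X] := ∏ a ∈ s, (X - C a) with hf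
  have hfmonic : f.Monic := monic_prod_X_sub_C _ s
  have hfdeg : f.natDegree = s.card := by
    rw [hf, natDegree_prod_of_monic _ _ (fun a _ => monic_X_sub_C a)]
    simp
  have hcard : 1 ≤ s.card := Finset.card_pos.2 ⟨0, h0⟩
  -- translation invariance
  have htrans : ∀ b ∈ s, f.comp (X + C b) = f := by
    intro b hb
    rw [hf, prod_comp]
    refine Finset.prod_bij (fun a _ => a - b) ?_ ?_ ?_ ?_
    · intro a ha
      rw [sub_eq_add_neg]; exact hadd a ha _ (hneg b hb)
    · intro a1 _ a2 _ h; exact sub_left_injective h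
    · intro c hc
      exact ⟨c + b, hadd c hc b hb, by ring⟩
    · intro a ha
      simp only [sub_comp, X_comp, C_comp, map_sub]
      ring
  -- the two-variable polynomial
  set P1 : L[X][X] := (f.map C).comp (X + C X) with hP1
  set P2 : L[X][X] := f.map C with hP2
  have hP2monic : P2.Monic := hfmonic.map C
  have hP2deg : P2.natDegree = s.card := by rw [hP2, natDegree_map_eq_of_injective C_injective, hfdeg]
  have hXC : (X + C X : L[X][X]).Monic := monic_X_add_C _
  have hXCdeg : (X + C X : L[X][X]).natDegree = 1 := natDegree_X_add_C _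
  have hP1monic : P1.Monic := hP2monic.comp hXC (by rw [hXCdeg]; exact one_ne_zero)
  have hP1deg : P1.natDegree = s.card := by rw [hP1, natDegree_comp, hXCdeg, mul_one, hP2deg]
  set G : L[X][X] := P1 - P2 - C f with hG
  have hGzero : G = 0 := by
    by_cases hG0 : G = 0
    · exact hG0
    refine eq_zero_of_natDegree_lt_card_of_eval_eq_zero G (ι := s) (f := fun a => C (a : L)) ?_ ?_ ?_
    · intro a b h
      exact Subtype.ext (C_injective h)
    · intro a
      have h1 : P1.eval (C (a : L)) = f := by
        rw [hP1, eval_comp, eval_add, eval_X, eval_C, hP2, eval_map, add_comm]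
        exact htrans a a.2
      have h2 : P2.eval (C (a : L)) = 0 := by
        rw [hP2, eval_map, eval₂_hom]
        rw [hf, eval_prod, Finset.prod_eq_zero a.2 (by simp), map_zero]
      rw [hG, eval_sub, eval_sub, eval_C, h1, h2]
      ring
    · rw [Fintype.card_coe]
      rw [natDegree_lt_iff_degree_lt hG0]
      have hd1 : (P1 - P2).degree < (s.card : WithBot ℕ) := by
        have := degree_sub_lt (p := P1) (q := P2)
          (by rw [degree_eq_natDegree hP1monic.ne_zero, degree_eq_natDegree hP2monic.ne_zero, hP1deg, hP2deg])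
          hP1monic.ne_zero (by rw [hP1monic.leadingCoeff, hP2monic.leadingCoeff])
        rwa [degree_eq_natDegree hP1monic.ne_zero, hP1deg] at this
      have hd2 : (C f : L[X][X]).degree < (s.card : WithBot ℕ) := by
        refine lt_of_le_of_lt degree_C_le ?_
        exact_mod_cast hcard
      exact lt_of_le_of_lt (degree_sub_le _ _) (max_lt hd1 hd2)
  -- evaluate
  set φ : L[X] →+* R := (aeval y : L[X] →ₐ[L] R).toRingHom with hφ
  have hcomp : φ.comp C = algebraMap L R := by
    ext a; simp [hφ]
  have e2 : eval₂ φ x P2 = aeval x f := by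
    rw [hP2, eval₂_map, hcomp, aeval_def]
  have e1 : eval₂ φ x P1 = aeval (x + y) f := by
    rw [hP1, eval₂_comp, eval₂_add, eval₂_X, eval₂_C, hP2, eval₂_map, hcomp, aeval_def]
    simp [hφ]
  have e3 : eval₂ φ x (C f) = aeval y f := by
    rw [eval₂_C]; simp [hφ]
  have hev := congrArg (eval₂ φ x) hGzero
  rw [hG, eval₂_sub, eval₂_sub, e1, e2, e3, eval₂_zero, sub_sub, sub_eq_zero] at hev
  exact hev

end Helpers

/-- Let L be a field of characteristic p > 0 and s a finite subset of L containing 0 and closed under
addition (a finite additive subgroup). Then the polynomial f = ∏_{a ∈ s} (X - a) is additive: f (x +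
y) = f x + f y for all x, y in any commutative L-algebra (equivalently, as an identity of
polynomials in two variables). -/
theorem result
    (L : Type u) [Field L] (p : ℕ) [Fact p.Prime] [CharP L p] (s : Finset L) (h0 : (0 : L) ∈ s)
    (hadd : ∀ a ∈ s, ∀ b ∈ s, a + b ∈ s) (R : Type v) [CommRing R] [Algebra L R] (x y : R) :
    aeval (x + y) (∏ a ∈ s, (X - C a)) = aeval x (∏ a ∈ s, (X - C a)) + aeval y (∏ a ∈ s, (X - C a)) := by
  exact main L p s h0 hadd R x y

end Groth.Agent.S15172
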