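import Groth.Statements.S15173
import Mathlib
import Groth.Agent.Lib.helper22.DivAlg

set_option autoImplicit false
universe u v
open Polynomial
open BddFin

namespace Groth.Agent.S15173

section Helpers

theorem exists_large_relIndex {G : Type*} [CommGroup G] (N : Subgroup G) (p : ℕ) (hp : 0 < p)
    (hpow : ∀ g : G, g ^ p ∈ N) (hinf : Infinite (G ⧸ N)) (M : ℕ) :
    ∃ H : Subgroup G, N ≤ H ∧ M < N.relIndex H := by
  classical
  obtain ⟨T, hT⟩ := Infinite.exists_subset_card_eq (G ⧸ N) (M + 1)
  set F : Subgroup (G ⧸ N) := Subgroup.closure (T : Set (G ⧸ N)) with hF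
  haveI : Group.FG F := (Group.fg_iff_subgroup_fg F).2 ⟨T, rfl⟩
  have htors : IsMulTorsion F := by
    intro x
    rw [isOfFinOrder_iff_pow_eq_one]
    refine ⟨p, hp, ?_⟩
    apply Subtype.ext
    rw [Subgroup.coe_pow, Subgroup.coe_one]
    obtain ⟨g, hg⟩ := QuotientGroup.mk_surjective (x : G ⧸ N)
    rw [← hg, ← QuotientGroup.mk_pow, QuotientGroup.eq_one_iff]
    exact hpow g
  haveI : Finite F := CommGroup.finite_of_fg_isMulTorsion (G := F) htors
  have hcard : M + 1 ≤ Nat.card F := by
    rw [← hT]
    have hinj : Function.Injective (fun t : T => (⟨t.1, Subgroup.subset_closure t.2⟩ : F)) := by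
      intro a b h
      exact Subtype.ext (congrArg (fun z : F => (z : G ⧸ N)) h)
    have := Nat.card_le_card_of_injective _ hinj
    simpa using this
  refine ⟨F.comap (QuotientGroup.mk' N), ?_, ?_⟩
  · intro g hg
    rw [Subgroup.mem_comap, QuotientGroup.mk'_apply, (QuotientGroup.eq_one_iff g).2 hg]
    exact F.one_mem
  · have h1 : N = (⊥ : Subgroup (G ⧸ N)).comap (QuotientGroup.mk' N) := by
      rw [MonoidHom.comap_bot, QuotientGroup.ker_mk']
    have h2 : N.relIndex (F.comap (QuotientGroup.mk' N)) = Nat.card F := by
      have h3 : N.relIndex (F.comap (QuotientGroup.mk' N)) =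
          ((⊥ : Subgroup (G ⧸ N)).comap (QuotientGroup.mk' N)).relIndex
            (F.comap (QuotientGroup.mk' N)) := by
        congr 1
      rw [h3, Subgroup.relIndex_comap,
        Subgroup.map_comap_eq_self_of_surjective (QuotientGroup.mk'_surjective N),
        Subgroup.relIndex_bot_left]
    rw [h2]; omega

theorem main
    (K : Type u) [Field K] (p : ℕ) [Fact p.Prime] [CharP K p] (hK : ∀ n : ℕ, 0 < n → (X ^ n - 1 : K[X]).Splits)
    (A : Type v) [DivisionRing A] [Algebra K A] [Algebra.IsCentral K A] [FiniteDimensional K A]
    (w : A) (hw : w ^ p ∈ (algebraMap K A).range) (hwK : w ∉ (algebraMap K A).range) (N : ℕ) :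
    ∃ H : Subgroup Aˣ, (Units.map (algebraMap K A : K →* A)).range ≤ H ∧
      N < ((Units.map (algebraMap K A : K →* A)).range).relIndex H := by
  classical
  have hp : p.Prime := Fact.out
  -- K is infinite
  haveI hKinf : Infinite K := by
    by_contra hfin
    haveI : Finite K := not_infinite_iff_finite.1 hfin
    haveI : Finite A := Module.finite_of_finite K
    apply hwK
    apply Groth.Agent.Lib.helper22.DivAlg.mem_range_of_forall_commute
    intro y
    letI := littleWedderburn A
    exact mul_comm y w
  set S : Subalgebra K A := Algebra.adjoin K {w} with hS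
  have hwS : w ∈ S := Algebra.subset_adjoin rfl
  have hcomm : ∀ a ∈ ({w} : Set A), ∀ b ∈ ({w} : Set A), a * b = b * a := by
    intro a ha b hb; rw [Set.mem_singleton_iff] at ha hb; rw [ha, hb]
  letI : CommRing S := Algebra.adjoinCommRingOfComm K hcomm
  letI : Field S := fieldOfFiniteDimensional K S
  haveI : CharP S p := charP_of_injective_algebraMap (algebraMap K S).injective p
  let w' : S := ⟨w, hwS⟩
  have hw'K : w' ∉ (algebraMap K S).range := by
    rintro ⟨c, hc⟩
    apply hwK
    refine ⟨c, ?_⟩
    have := congrArg Subtype.val hc
    exact this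
  -- every element of S has p-th power in K
  have hpowS : ∀ a : S, a ^ p ∈ (algebraMap K S).range := by
    let T : Subalgebra K S :=
      { carrier := {a | a ^ p ∈ (algebraMap K S).range}
        mul_mem' := by
          rintro a b ⟨x, hx⟩ ⟨y, hy⟩
          exact ⟨x * y, by rw [map_mul, hx, hy, mul_pow]⟩
        add_mem' := by
          rintro a b ⟨x, hx⟩ ⟨y, hy⟩
          exact ⟨x + y, by rw [map_add, hx, hy, add_pow_char]⟩
        algebraMap_mem' := by
          intro c
          exact ⟨c ^ p, by rw [map_pow]⟩ }
    have hgen : Algebra.adjoin K {w'} = ⊤ := by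
      have := Algebra.adjoin_adjoin_coe_preimage (R := K) (s := ({w} : Set A))
      convert this using 2
      ext x
      simp only [Set.mem_singleton_iff, Set.mem_preimage]
      exact ⟨fun h => by rw [h], fun h => Subtype.ext h⟩
    have hT : T = ⊤ := by
      rw [eq_top_iff, ← hgen]
      apply Algebra.adjoin_le
      intro x hx
      rw [Set.mem_singleton_iff] at hx
      rw [hx]
      obtain ⟨c, hc⟩ := hw
      exact ⟨c, Subtype.ext (by simpa using hc)⟩
    intro a
    have : a ∈ T := by rw [hT]; trivial
    exact this
  set NL : Subgroup Sˣ := (Units.map (algebraMap K S : K →* S)).range with hNL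
  have hpowU : ∀ g : Sˣ, g ^ p ∈ NL := by
    intro g
    obtain ⟨c, hc⟩ := hpowS (g : S)
    have hc0 : c ≠ 0 := by
      rintro rfl
      rw [map_zero] at hc
      exact (pow_ne_zero p g.ne_zero) hc.symm
    refine ⟨Units.mk0 c hc0, ?_⟩
    apply Units.ext
    simpa using hc
  -- infinitely many classes
  have hne : ∀ c : K, (1 + algebraMap K S c * w' : S) ≠ 0 := by
    intro c h
    apply hw'K
    have hc0 : c ≠ 0 := by
      rintro rfl
      simp at h
    refine ⟨-c⁻¹, ?_⟩
    have h1 : algebraMap K S c * w' = -1 := by linear_combination h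
    have hc' : algebraMap K S c ≠ 0 := by
      rw [Ne, map_eq_zero_iff _ (algebraMap K S).injective]; exact hc0
    rw [map_neg, map_inv₀]
    field_simp
    linear_combination (-1 : S) * h1
  have hinf : Infinite (Sˣ ⧸ NL) := by
    refine Infinite.of_injective (fun c : K => (QuotientGroup.mk (Units.mk0 _ (hne c)) : Sˣ ⧸ NL)) ?_
    intro c c' h
    rw [QuotientGroup.eq] at h
    obtain ⟨l, hl⟩ := h
    have h1 : (1 + algebraMap K S c' * w' : S) = algebraMap K S (l : K) * (1 + algebraMap K S c * w') := by
      have := congrArg (fun z : Sˣ => (Units.mk0 _ (hne c) : Sˣ) * z) hl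
      simp only [mul_inv_cancel_left] at this
      have h2 := congrArg Units.val this
      simp only [Units.val_mul, Units.val_mk0, Units.coe_map, MonoidHom.coe_coe] at h2
      rw [← h2, mul_comm]
    have h3 : algebraMap K S (1 - l) + algebraMap K S (c' - l * c) * w' = 0 := by
      simp only [map_sub, map_mul, map_one]
      linear_combination h1
    have h4 : c' - l * c = 0 := by
      by_contra hne'
      apply hw'K
      refine ⟨-(1 - (l : K)) / (c' - l * c), ?_⟩
      have hc' : algebraMap K S (c' - l * c) ≠ 0 := by
        rw [Ne, map_eq_zero_iff _ (algebraMap K S).injective]; exact hne'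
      rw [map_div₀, map_neg]
      field_simp
      linear_combination (-1 : S) * h3
    rw [h4, map_zero, zero_mul, add_zero, map_eq_zero_iff _ (algebraMap K S).injective] at h3
    have h5 : (l : K) = 1 := (sub_eq_zero.1 h3).symm
    rw [h5, one_mul] at h4
    exact (sub_eq_zero.1 h4).symm
  obtain ⟨HL, hHL1, hHL2⟩ := exists_large_relIndex NL p hp.pos hpowU hinf N
  -- transfer
  let ι : Sˣ →* Aˣ := Units.map (S.val : S →* A)
  have hιinj : Function.Injective ι := Units.map_injective Subtype.val_injective
  have hNA : (Units.map (algebraMap K A : K →* A)).range = NL.map ι := by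
    rw [hNL, MonoidHom.map_range]
    congr 1
  refine ⟨HL.map ι, ?_, ?_⟩
  · rw [hNA]; exact Subgroup.map_mono hHL1
  · rw [hNA, Subgroup.relIndex_map_map_of_injective _ _ hιinj]
    exact hHL2

end Helpers

/-- Let K be a field of characteristic p > 0 such that K contains all roots of unity (for every n ≥ 1
the polynomial X^n − 1 splits into linear factors over K), and A a finite-dimensional central
division algebra over K. If A contains an element w not in K with w ^ p in K, then the quotient of
the unit group of A by that of K has unbounded finite subgroups: for every N there is a subgroup H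
of the units of A containing the units of K as a subgroup of finite index greater than N. (The
published statement assumes only that some element of A is inseparable over K and passes at once to
a purely inseparable subfield of degree p; this row assumes an element generating such a subfield
directly, which is what the rest of the printed argument uses.) -/
theorem result
    (K : Type u) [Field K] (p : ℕ) [Fact p.Prime] [CharP K p] (hK : ∀ n : ℕ, 0 < n → (X ^ n - 1 : K[X]).Splits)
    (A : Type v) [DivisionRing A] [Algebra K A] [Algebra.IsCentral K A] [FiniteDimensional K A]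
    (w : A) (hw : w ^ p ∈ (algebraMap K A).range) (hwK : w ∉ (algebraMap K A).range) (N : ℕ) :
    ∃ H : Subgroup Aˣ, (Units.map (algebraMap K A : K →* A)).range ≤ H ∧
      N < ((Units.map (algebraMap K A : K →* A)).range).relIndex H := by
  exact main K p hK A w hw hwK N

end Groth.Agent.S15173
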