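import Groth.Statements.S15177
import Mathlib
import Groth.Agent.Lib.helper12.Flag

set_option autoImplicit false
universe u v
open BddFin

namespace Groth.Agent.S15177

section Helpers

open TensorProduct Groth.Agent.H12Comod Groth.Agent.H12Flag WithConv

section act
variable {K : Type u} [Field K] {A : Type v} [CommRing A] [Bialgebra K A]
variable {V : Type v} [AddCommGroup V] [Module K V] [HopfRep.Comod K A V]

theorem act_eq (g : A →ₐ[K] K) (v : V) :
    HopfRep.Comod.act K A V g v = T V g.toLinearMap (HopfRep.Comod.coact (k := K) (A := A) v) := rfl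

theorem comp_S (φ ψ : A →ₗ[K] K) :
    ψ ∘ₗ S φ = (toConv ψ * toConv φ).ofConv := by
  rw [LinearMap.convMul_def, ofConv_toConv, S, ← LinearMap.comp_assoc, ← LinearMap.comp_assoc]
  have : ψ ∘ₗ T A φ = LinearMap.mul' K K ∘ₗ TensorProduct.map ψ φ := by
    ext c d
    simp [T, mul_comm]
  rw [this]

theorem act_mul (g h : WithConv (A →ₐ[K] K)) (v : V) :
    HopfRep.Comod.act K A V h.ofConv (HopfRep.Comod.act K A V g.ofConv v) =
      HopfRep.Comod.act K A V (h * g).ofConv v := by
  rw [act_eq, act_eq, act_eq, coact_T_coact]
  have h1 : T V h.ofConv.toLinearMap ∘ₗ (S (g.ofConv.toLinearMap)).lTensor V =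
      T V (h.ofConv.toLinearMap ∘ₗ S (g.ofConv.toLinearMap)) := by
    ext x c
    simp [T]
  have h2 := LinearMap.congr_fun h1 (HopfRep.Comod.coact (k := K) (A := A) v)
  rw [LinearMap.comp_apply] at h2
  rw [h2, comp_S]
  rfl

theorem act_one (v : V) :
    HopfRep.Comod.act K A V (1 : WithConv (A →ₐ[K] K)).ofConv v = v := by
  rw [act_eq]
  have hcu := LinearMap.congr_fun (HopfRep.Comod.counit_comp (k := K) (A := A) (V := V)) v
  simp only [LinearMap.comp_apply, LinearMap.flip_apply, TensorProduct.mk_apply] at hcu
  have : (1 : WithConv (A →ₐ[K] K)).ofConv.toLinearMap = CoalgebraStruct.counit (R := K) (A := A) := by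
    ext a
    simp [AlgHom.convOne_def]
  rw [this]
  simp only [T, LinearMap.comp_apply, LinearEquiv.coe_coe]
  rw [hcu]
  simp

theorem act_pow (g : WithConv (A →ₐ[K] K)) (n : ℕ) (v : V) :
    HopfRep.Comod.act K A V (g ^ n).ofConv v = (HopfRep.Comod.act K A V g.ofConv ^ n) v := by
  induction n generalizing v with
  | zero => rw [pow_zero, pow_zero, act_one]; rfl
  | succ n ih =>
    rw [pow_succ, ← act_mul, ih, pow_succ]
    rfl

end act

section lin

open Polynomial

/-- an endomorphism `T` with `T ^ r = 1` (`r` invertible) and `T - 1` nilpotent is the identity -/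
theorem eq_one_of_pow_eq_one {K : Type*} [Field K] {V : Type*} [AddCommGroup V] [Module K V]
    (T : Module.End K V) (r n : ℕ) (hr : (r : K) ≠ 0) (hT : T ^ r = 1) (hN : (T - 1) ^ n = 0) :
    T = 1 := by
  set q : K[X] := ∑ i ∈ Finset.range r, X ^ i with hq
  have hq1 : (X - 1) * q = X ^ r - 1 := mul_geom_sum X r
  have hqe : q.eval 1 = (r : K) := by
    simp [hq, eval_finset_sum]
  have hcop : IsCoprime (X - 1 : K[X]) q := by
    have hdiv := modByMonic_add_div q (X - C (1 : K))
    rw [modByMonic_X_sub_C_eq_C_eval, hqe] at hdiv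
    refine ⟨-(C ((r : K)⁻¹) * (q /ₘ (X - C 1))), C ((r : K)⁻¹), ?_⟩
    have h2 : C ((r : K)⁻¹) * q = C ((r : K)⁻¹) * (C (r : K) + (X - C 1) * (q /ₘ (X - C 1))) := by
      rw [hdiv]
    rw [h2, mul_add, ← C_mul, inv_mul_cancel₀ hr, C_1]
    ring
  have hcop' : IsCoprime ((X - 1 : K[X]) ^ n) q := hcop.pow_left
  obtain ⟨u, w, huw⟩ := hcop'
  have h1 := congrArg (Polynomial.aeval T) huw
  simp only [map_add, map_mul, map_pow, map_sub, aeval_X, map_one] at h1
  rw [hN, mul_zero, zero_add] at h1
  have h2 := congrArg (Polynomial.aeval T) hq1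
  simp only [map_mul, map_pow, map_sub, aeval_X, map_one] at h2
  rw [hT, sub_self] at h2
  have h3 : T - 1 = 0 := by
    calc T - 1 = (T - 1) * (Polynomial.aeval T w * Polynomial.aeval T q) := by rw [h1, mul_one]
      _ = Polynomial.aeval T w * ((T - 1) * Polynomial.aeval T q) := by
          have hc : (T - 1) * Polynomial.aeval T w = Polynomial.aeval T w * (T - 1) := by
            have : Polynomial.aeval T ((X - 1) * w) = Polynomial.aeval T (w * (X - 1)) := by
              rw [mul_comm]
            simpa only [map_mul, map_sub, aeval_X, map_one] using this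
          rw [← mul_assoc, hc, mul_assoc]
      _ = 0 := by rw [h2, mul_zero]
  exact sub_eq_zero.mp h3

end lin

section main
variable (K : Type u) [Field K] (A : Type v) [CommRing A] [HopfAlgebra K A]

theorem T_rTensor_subtype {V : Type v} [AddCommGroup V] [Module K V] (X : Submodule K V)
    (φ : A →ₗ[K] K) (s : X ⊗[K] A) :
    T V φ (X.subtype.rTensor A s) = ((T X φ s : X) : V) := by
  induction s using TensorProduct.induction_on with
  | zero => simp
  | tmul x c => simp
  | add x y hx hy => simp only [map_add, hx, hy, Submodule.coe_add]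

theorem counit_T (φ : A →ₗ[K] K) (t : A ⊗[K] A) :
    CoalgebraStruct.counit (R := K) (A := A) (T A φ t) =
      φ (TensorProduct.lid K A ((CoalgebraStruct.counit (R := K) (A := A)).rTensor A t)) := by
  induction t using TensorProduct.induction_on with
  | zero => simp
  | tmul x c => simp [mul_comm]
  | add x y hx hy => simp only [map_add, hx, hy]

theorem main (hU : HopfRep.IsUnipotent K A)
    (g : WithConv (A →ₐ[K] K)) (hg : IsOfFinOrder g) (hcop : ((orderOf g : ℕ) : K) ≠ 0) : g = 1 := by
  have hkey : ∀ a : A, g.ofConv a = CoalgebraStruct.counit (R := K) (A := A) a := by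
    intro a
    obtain ⟨W, hWfin, haW, hWsub⟩ := exists_finite_subcomod (k := K) (C := A) (V := A) a
    letI cW : HopfRep.Comod K A W := ComodSub.Comod.restr (HopfRep.Comod.regular K A) W hWsub
    obtain ⟨F, hmono, hF0, hFdim, hFsub, hFtriv⟩ :=
      exists_flag (k := K) (A := A) True (step_of_isUnipotent hU True) (Module.finrank K W) W rfl
    set Tg : Module.End K W := HopfRep.Comod.act K A W g.ofConv with hTg
    have hstep : ∀ i, ∀ v ∈ F (i + 1), (Tg - 1) v ∈ F i := by
      intro i v hv
      obtain ⟨s, hs⟩ := hFtriv trivial i v hv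
      have h1 : (Tg - 1) v = T W g.ofConv.toLinearMap
          (HopfRep.Comod.coact (k := K) (A := A) v - v ⊗ₜ[K] (1 : A)) := by
        rw [map_sub, T_tmul, LinearMap.sub_apply, hTg, act_eq]
        simp
      rw [h1, ← hs, T_rTensor_subtype]
      exact Submodule.coe_mem _
    have hpow : ∀ j i, ∀ v ∈ F (i + j), ((Tg - 1) ^ j) v ∈ F i := by
      intro j
      induction j with
      | zero => intro i v hv; simpa using hv
      | succ j ih =>
        intro i v hv
        rw [pow_succ, Module.End.mul_apply]
        apply ih i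
        apply hstep (i + j)
        rw [add_assoc]; exact hv
    have htop : F (Module.finrank K W) = ⊤ := by
      apply Submodule.eq_top_of_finrank_eq
      rw [hFdim, min_self]
    have hnil : (Tg - 1) ^ (Module.finrank K W) = 0 := by
      ext v
      have h := hpow (Module.finrank K W) 0 v (by rw [zero_add, htop]; trivial)
      rw [hF0, Submodule.mem_bot] at h
      rw [h]; rfl
    have hTr : Tg ^ (orderOf g) = 1 := by
      ext v
      rw [hTg, ← act_pow, pow_orderOf_eq_one, act_one]
      rfl
    have hT1 : Tg = 1 := eq_one_of_pow_eq_one Tg _ _ hcop hTr hnil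
    have h1 : Tg ⟨a, haW⟩ = ⟨a, haW⟩ := by rw [hT1]; rfl
    rw [hTg, act_eq] at h1
    have h2 := congrArg (fun w : W => (w : A)) h1
    simp only at h2
    rw [← T_rTensor_subtype, ComodSub.restr_coact_coe] at h2
    have h3 := counit_T K A g.ofConv.toLinearMap
      ((HopfRep.Comod.regular K A).coact a)
    rw [h2] at h3
    rw [h3]
    show _ = g.ofConv.toLinearMap (TensorProduct.lid K A
      ((CoalgebraStruct.counit (R := K) (A := A)).rTensor A (CoalgebraStruct.comul a)))
    rw [Coalgebra.rTensor_counit_comul]
    simp
  apply WithConv.ext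
  apply AlgHom.ext
  intro a
  rw [hkey a]
  simp [AlgHom.convOne_def]

end main

end Helpers

/-- Let K be a field and Γ a unipotent linear algebraic group over K, given here by its coordinate Hopf
algebra A (a finitely generated, formally smooth commutative Hopf algebra over K all of whose
non-zero finite-dimensional comodules have a non-zero fixed vector). Then the group Γ(K) of K-points
(K-algebra maps A → K under convolution) has no non-trivial element of finite order coprime to the
characteristic of K: an element of finite order whose order is non-zero in K is the identity. -/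
theorem result
    (K : Type u) [Field K] (A : Type v) [CommRing A] [HopfAlgebra K A] [Algebra.FiniteType K A]
    [Algebra.FormallySmooth K A] (hU : HopfRep.IsUnipotent K A)
    (g : WithConv (A →ₐ[K] K)) (hg : IsOfFinOrder g) (hcop : ((orderOf g : ℕ) : K) ≠ 0) : g = 1 := by
  exact main K A hU g hg hcop

end Groth.Agent.S15177
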