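import Groth.Statements.S15179
import Mathlib

set_option autoImplicit false
universe u
attribute [local instance] MvPolynomial.gradedAlgebra
open BddFin

namespace Groth.Agent.S15179

section Helpers

theorem abstract_group {U Λ G : Type*} [CommGroup U] [CommGroup Λ] [Group G] [Finite G]
    (c : Λ →* U) (t : U)
    (hS : ∀ x : U, ∃ (l : Λ) (n : ℤ), x = c l * t ^ n)
    (hU : ∀ (l : Λ) (n : ℤ), c l * t ^ n = 1 → l = 1 ∧ n = 0)
    (Γ : G →* Monoid.End U) (hΓc : ∀ g l, Γ g (c l) = c l)
    (hinj : ∀ g h, Γ g t = Γ h t → g = h)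
    (S : U →* U) (s : Λ →* Λ) (hSc : ∀ l, S (c l) = c (s l)) (hSt : S t = t⁻¹)
    (hcomm : ∀ g x, S (Γ g x) = Γ g (S x))
    (hfix : ∀ (l : Λ) (k : ℕ), 0 < k → l ^ k = 1 → s l = l)
    (ε : Λ) (htwo : ∀ l : Λ, l ^ 2 = 1 → l = 1 ∨ l = ε) :
    (∀ g : G, g ^ 2 = 1) ∧ Nat.card G ≤ 4 := by
  classical
  have huniq : ∀ (l l' : Λ) (n n' : ℤ), c l * t ^ n = c l' * t ^ n' → l = l' ∧ n = n' := by
    intro l l' n n' h
    have : c (l / l') * t ^ (n - n') = 1 := by
      rw [map_div, zpow_sub, ← div_eq_mul_inv, div_mul_div_comm, h, div_self']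
    obtain ⟨h1, h2⟩ := hU _ _ this
    exact ⟨div_eq_one.1 h1, sub_eq_zero.1 h2⟩
  choose lam n hΓt using fun g => hS (Γ g t)
  have hgen : ∀ g l m, Γ g (c l * t ^ m) = c (l * lam g ^ m) * t ^ (n g * m) := by
    intro g l m
    rw [map_mul, map_zpow, hΓc, hΓt, mul_zpow, ← map_zpow, ← zpow_mul, map_mul, mul_assoc]
  have hmul : ∀ g h, lam (g * h) = lam h * lam g ^ n h ∧ n (g * h) = n g * n h := by
    intro g h
    have h1 : Γ (g * h) t = Γ g (Γ h t) := by rw [map_mul]; rfl
    rw [hΓt h, hgen, hΓt (g * h)] at h1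
    exact huniq _ _ _ _ h1
  have hΓ1 : Γ 1 t = t := by rw [map_one]; rfl
  have hone : lam 1 = 1 ∧ n 1 = 1 := by
    have h1 := hΓ1
    rw [hΓt 1] at h1
    have : c (lam 1) * t ^ n 1 = c 1 * t ^ (1 : ℤ) := by rw [h1, map_one, one_mul, zpow_one]
    exact huniq _ _ _ _ this
  have hn : ∀ g, n g = 1 ∨ n g = -1 := by
    intro g
    have := (hmul g g⁻¹).2
    rw [mul_inv_cancel, hone.2] at this
    exact Int.eq_one_or_neg_one_of_mul_eq_one this.symm
  have hs : ∀ g, s (lam g) = (lam g)⁻¹ := by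
    intro g
    have h1 := hcomm g t
    rw [hΓt, map_mul, map_zpow, hSc, hSt, map_inv, hΓt, mul_inv, ← map_inv, inv_zpow,
      ← zpow_neg] at h1
    exact (huniq _ _ _ _ h1).1
  have hpow : ∀ g, n g = 1 → ∀ k : ℕ, lam (g ^ k) = lam g ^ k ∧ n (g ^ k) = 1 := by
    intro g hg k
    induction k with
    | zero => simpa using hone
    | succ k ih =>
      obtain ⟨h1, h2⟩ := hmul (g ^ k) g
      rw [pow_succ]
      refine ⟨?_, ?_⟩
      · rw [h1, hg, zpow_one, ih.1, pow_succ, mul_comm]
      · rw [h2, ih.2, hg, mul_one]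
  have hlam2 : ∀ g, n g = 1 → lam g ^ 2 = 1 := by
    intro g hg
    have hk := orderOf_pos g
    have h1 := (hpow g hg (orderOf g)).1
    rw [pow_orderOf_eq_one, hone.1] at h1
    have h2 := hfix (lam g) (orderOf g) hk h1.symm
    rw [hs g] at h2
    rw [pow_two]
    nth_rewrite 1 [← h2]
    exact inv_mul_cancel _
  have hsq : ∀ g : G, g ^ 2 = 1 := by
    intro g
    apply hinj
    rw [hΓ1, hΓt]
    obtain ⟨h1, h2⟩ := hmul g g
    rw [pow_two, h1, h2]
    rcases hn g with h | h
    · rw [h, zpow_one, ← pow_two, hlam2 g h, map_one, one_mul, mul_one, zpow_one]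
    · rw [h, zpow_neg_one, mul_inv_cancel, map_one, one_mul]
      norm_num
  refine ⟨hsq, ?_⟩
  -- cardinality
  obtain ⟨g₀, hg₀⟩ : ∃ g₀ : G, (∃ g, n g = -1) → n g₀ = -1 := by
    by_cases h : ∃ g, n g = -1
    · obtain ⟨g, hg⟩ := h
      exact ⟨g, fun _ => hg⟩
    · exact ⟨1, fun h' => absurd h' h⟩
  let k : G → G := fun g => if n g = 1 then 1 else g₀
  have hk : ∀ g, n (g * k g) = 1 := by
    intro g
    simp only [k]
    split_ifs with h
    · rw [mul_one, h]
    · have h' : n g = -1 := (hn g).resolve_left h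
      rw [(hmul g g₀).2, h', hg₀ ⟨g, h'⟩]
      norm_num
  let φ : G → Bool × Bool := fun g => (decide (n g = 1), decide (lam (g * k g) = 1))
  have hφ : Function.Injective φ := by
    intro g h hgh
    simp only [φ, Prod.mk.injEq, decide_eq_decide] at hgh
    obtain ⟨h1, h2⟩ := hgh
    have hkk : k g = k h := by
      simp only [k]
      by_cases hg : n g = 1
      · rw [if_pos hg, if_pos (h1.1 hg)]
      · rw [if_neg hg, if_neg (fun hh => hg (h1.2 hh))]
    have hl : lam (g * k g) = lam (h * k h) := by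
      rcases htwo _ (hlam2 _ (hk g)) with e1 | e1
      · rw [e1, h2.1 e1]
      · rcases htwo _ (hlam2 _ (hk h)) with e2 | e2
        · rw [e2, h2.2 e2]
        · rw [e1, e2]
    have : g * k g = h * k h := by
      apply hinj
      rw [hΓt, hΓt, hl, hk g, hk h]
    rw [hkk] at this
    exact mul_right_cancel this
  calc Nat.card G ≤ Nat.card (Bool × Bool) := Nat.card_le_card_of_injective φ hφ
    _ = 4 := by simp

section Laurent
open LaurentPolynomial
variable {L : Type u} [Field L]

theorem laurent_ringHom_ext {S : Type*} [Semiring S] (f g : L[T;T⁻¹] →+* S)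
    (hC : ∀ l, f (C l) = g (C l)) (hT : f (T 1) = g (T 1)) : f = g := by
  apply IsLocalization.ringHom_ext (Submonoid.powers (Polynomial.X : Polynomial L))
  apply Polynomial.ringHom_ext
  · intro l
    simp only [RingHom.comp_apply, LaurentPolynomial.algebraMap_eq_toLaurent,
      Polynomial.toLaurent_C]
    exact hC l
  · simp only [RingHom.comp_apply, LaurentPolynomial.algebraMap_eq_toLaurent,
      Polynomial.toLaurent_X]
    exact hT

/-- units of the Laurent polynomial ring over a field are monomials -/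
theorem laurent_unit_form (f : L[T;T⁻¹]) (hf : IsUnit f) :
    ∃ (c : L) (n : ℤ), c ≠ 0 ∧ f = C c * T n := by
  obtain ⟨g, hfg⟩ := hf.exists_right_inv
  obtain ⟨n, F, hF⟩ := exists_T_pow f
  obtain ⟨m, G, hG⟩ := exists_T_pow g
  have hFG : F * G = Polynomial.X ^ (n + m) := by
    apply Polynomial.toLaurent_injective
    rw [map_mul, hF, hG, Polynomial.toLaurent_X_pow]
    calc f * T n * (g * T m) = (f * g) * (T n * T m) := by ring
      _ = T ((n + m : ℕ) : ℤ) := by rw [hfg, one_mul, ← T_add]; push_cast; rfl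
  have hdvd : F ∣ Polynomial.X ^ (n + m) := ⟨G, hFG.symm⟩
  obtain ⟨i, -, hi⟩ := (dvd_prime_pow Polynomial.prime_X _).1 hdvd
  obtain ⟨e, he⟩ := hi.symm
  obtain ⟨c, hc, hce⟩ := Polynomial.isUnit_iff.1 e.isUnit
  refine ⟨c, (i : ℤ) - n, hc.ne_zero, ?_⟩
  have : f * T n = C c * T i := by
    rw [← hF, ← he, ← hce, mul_comm, map_mul, Polynomial.toLaurent_C, Polynomial.toLaurent_X_pow]
  calc f = f * T n * T (-n) := by rw [mul_assoc, ← T_add, add_neg_cancel, T_zero, mul_one]
    _ = C c * T i * T (-n) := by rw [this]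
    _ = C c * T (i - n) := by rw [mul_assoc, ← T_add, sub_eq_add_neg]

theorem laurent_C_mul_T_inj {c c' : L} {n n' : ℤ} (hc : c ≠ 0)
    (h : (C c * T n : L[T;T⁻¹]) = C c' * T n') : c = c' ∧ n = n' := by
  rw [← single_eq_C_mul_T, ← single_eq_C_mul_T, AddMonoidAlgebra.single_inj] at h
  rcases h with ⟨h1, h2⟩ | ⟨h1, _⟩
  · exact ⟨h2, h1⟩
  · exact absurd h1 hc

end Laurent




section Iso
open LaurentPolynomial TensorProduct
variable {K : Type u} [Field K] {A : Type u} [CommRing A] [Algebra K A]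
  {L : Type u} [Field L] [Algebra K L]

theorem iso_exists (a b c : K) (α β : L) (u v w : A)
    (ha : a ≠ 0) (hαβ : α ≠ β)
    (hs : algebraMap K L a * (α + β) = -algebraMap K L b)
    (hp : algebraMap K L a * (α * β) = algebraMap K L c)
    (r1 : u * w = v * v) (r2 : a • u + b • v + c • w = 1)
    (hgen : ∀ f₁ f₂ : A →ₐ[K] A ⊗[K] L, f₁ u = f₂ u → f₁ v = f₂ v → f₁ w = f₂ w → f₁ = f₂)
    (ψ : A →ₐ[K] L[T;T⁻¹])
    (hψu : C (algebraMap K L a * (β - α) ^ 2) * ψ u = (C β * T 1 - C α) ^ 2 * T (-1))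
    (hψv : C (algebraMap K L a * (β - α) ^ 2) * ψ v = (C β * T 1 - C α) * (T 1 - 1) * T (-1))
    (hψw : C (algebraMap K L a * (β - α) ^ 2) * ψ w = (T 1 - 1) ^ 2 * T (-1)) :
    ∃ Ξ : A ⊗[K] L ≃+* L[T;T⁻¹], (∀ l : L, Ξ (1 ⊗ₜ l) = C l) ∧
      Ξ ((1 ⊗ₜ algebraMap K L a) * (u ⊗ₜ 1 - 2 * (v ⊗ₜ α) + w ⊗ₜ (α ^ 2))) = T 1 ∧
      Ξ ((1 ⊗ₜ algebraMap K L a) * (u ⊗ₜ 1 - 2 * (v ⊗ₜ β) + w ⊗ₜ (β ^ 2))) = T (-1) := by
  set a' : L := algebraMap K L a with ha'
  have ha'0 : a' ≠ 0 := by
    rw [ha']; exact (map_ne_zero (algebraMap K L)).2 ha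
  have hδ : β - α ≠ 0 := sub_ne_zero.2 (Ne.symm hαβ)
  set e : L := (a' * (β - α) ^ 2)⁻¹ with he
  have hee : e * (a' * (β - α) ^ 2) = 1 := inv_mul_cancel₀ (mul_ne_zero ha'0 (pow_ne_zero 2 hδ))
  -- the ring B
  let ι : L →ₐ[K] A ⊗[K] L := Algebra.TensorProduct.includeRight
  let j : A →ₐ[K] A ⊗[K] L := Algebra.TensorProduct.includeLeft
  have hι : ∀ l, ι l = 1 ⊗ₜ l := fun l => rfl
  have hj : ∀ x, j x = x ⊗ₜ 1 := fun x => rfl
  have htm : ∀ (x : A) (l : L), x ⊗ₜ[K] l = j x * ι l := by
    intro x l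
    rw [hι, hj, Algebra.TensorProduct.tmul_mul_tmul, mul_one, one_mul]
  set U := j u with hU
  set V := j v with hV
  set W := j w with hW
  have R1 : U * W = V * V := by rw [hU, hW, hV, ← map_mul, r1, map_mul]
  have R2 : ι a' * U - ι a' * (ι α + ι β) * V + ι a' * ι α * ι β * W = 1 := by
    have := congrArg j r2
    rw [map_add, map_add, map_smul, map_smul, map_smul, map_one, Algebra.smul_def,
      Algebra.smul_def, Algebra.smul_def, ← ι.commutes, ← ι.commutes, ← ι.commutes, ← hp] at this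
    have hb : ι (algebraMap K L b) = -(ι a' * (ι α + ι β)) := by
      rw [← map_add, ← map_mul, ← map_neg, hs, neg_neg]
    rw [hb, map_mul, map_mul] at this
    rw [← this]
    ring
  set τ := ι a' * (U - 2 * ι α * V + ι α ^ 2 * W) with hτ
  set τ' := ι a' * (U - 2 * ι β * V + ι β ^ 2 * W) with hτ'
  have hττ' : τ * τ' = 1 := by
    rw [hτ, hτ']
    linear_combination (ι a') ^ 2 * (ι β - ι α) ^ 2 * R1 +
      (ι a' * U - ι a' * (ι α + ι β) * V + ι a' * ι α * ι β * W + 1) * R2
  let τU : (A ⊗[K] L)ˣ := ⟨τ, τ', hττ', by rw [mul_comm]; exact hττ'⟩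
  -- the two maps
  let θ : L[T;T⁻¹] →+* A ⊗[K] L := LaurentPolynomial.eval₂ (ι : L →+* A ⊗[K] L) τU
  let ψL : A ⊗[K] L →ₐ[K] L[T;T⁻¹] :=
    Algebra.TensorProduct.productMap ψ (Algebra.ofId L (L[T;T⁻¹]) |>.restrictScalars K)
  have hψL_tmul : ∀ (x : A) (l : L), ψL (x ⊗ₜ l) = ψ x * C l := by
    intro x l
    rw [Algebra.TensorProduct.productMap_apply_tmul]
    rfl
  have hψLι : ∀ l, ψL (ι l) = C l := by
    intro l
    rw [hι, hψL_tmul, map_one, one_mul]
  have hψLj : ∀ x, ψL (j x) = ψ x := by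
    intro x
    rw [hj, hψL_tmul, map_one, mul_one]
  have hθC : ∀ l, θ (C l) = ι l := fun l => LaurentPolynomial.eval₂_C _ _ l
  have hθT : θ (T 1) = τ := by
    have := LaurentPolynomial.eval₂_T (ι : L →+* A ⊗[K] L) τU 1
    rw [zpow_one] at this
    exact this
  have hθTi : θ (T (-1)) = τ' := by
    have := LaurentPolynomial.eval₂_T (ι : L →+* A ⊗[K] L) τU (-1)
    rw [zpow_neg_one] at this
    exact this
  have hTT : (T 1 : L[T;T⁻¹]) * T (-1) = 1 := by
    rw [← T_add, add_neg_cancel, T_zero]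
  have hE : (C e : L[T;T⁻¹]) * C (a' * (β - α) ^ 2) = 1 := by
    rw [← map_mul, hee, map_one]
  have hEB : ι e * (ι a' * (ι β - ι α) ^ 2) = 1 := by
    rw [← map_sub, ← map_pow, ← map_mul, ← map_mul, hee, map_one]
  have hu' : ψ u = C e * ((C β * T 1 - C α) ^ 2 * T (-1)) := by
    rw [← hψu, ← mul_assoc, hE, one_mul]
  have hv' : ψ v = C e * ((C β * T 1 - C α) * (T 1 - 1) * T (-1)) := by
    rw [← hψv, ← mul_assoc, hE, one_mul]
  have hw' : ψ w = C e * ((T 1 - 1) ^ 2 * T (-1)) := by
    rw [← hψw, ← mul_assoc, hE, one_mul]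
  -- first composite
  have h1 : (ψL : A ⊗[K] L →+* L[T;T⁻¹]).comp θ = RingHom.id _ := by
    apply laurent_ringHom_ext
    · intro l
      rw [RingHom.comp_apply, hθC, RingHom.id_apply]
      exact hψLι l
    · rw [RingHom.comp_apply, hθT, RingHom.id_apply]
      have e1 : ψL τ = C a' * (ψ u - 2 * C α * ψ v + C α ^ 2 * ψ w) := by
        rw [hτ]
        change ψL _ = _
        rw [map_mul, map_add, map_sub, map_mul, map_mul, map_mul, map_pow, hψLι, hψLι,
          map_ofNat, hU, hV, hW, hψLj, hψLj, hψLj]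
      change ψL τ = T 1
      rw [e1]
      have hD : (C (a' * (β - α) ^ 2) : L[T;T⁻¹]) = C a' * (C β - C α) ^ 2 := by
        rw [map_mul, map_pow, map_sub]
      have key : C (a' * (β - α) ^ 2) * (C a' * (ψ u - 2 * C α * ψ v + C α ^ 2 * ψ w))
          = C (a' * (β - α) ^ 2) * T 1 := by
        rw [hD] at hψu hψv hψw ⊢
        linear_combination C a' * hψu - 2 * C a' * C α * hψv + C a' * C α ^ 2 * hψw
          + C a' * (C β - C α) ^ 2 * T 1 * hTT
      calc C a' * (ψ u - 2 * C α * ψ v + C α ^ 2 * ψ w)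
          = C e * (C (a' * (β - α) ^ 2) * (C a' * (ψ u - 2 * C α * ψ v + C α ^ 2 * ψ w))) := by
            rw [← mul_assoc, hE, one_mul]
        _ = T 1 := by rw [key, ← mul_assoc, hE, one_mul]
  -- second composite
  have h2 : θ.comp (ψL : A ⊗[K] L →+* L[T;T⁻¹]) = RingHom.id _ := by
    let F : A ⊗[K] L →ₐ[K] A ⊗[K] L :=
      { toRingHom := θ.comp (ψL : A ⊗[K] L →+* L[T;T⁻¹])
        commutes' := fun k => by
          change θ (ψL (algebraMap K _ k)) = _
          rw [ψL.commutes, ← ι.commutes, IsScalarTower.algebraMap_apply K L (L[T;T⁻¹])]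
          exact hθC _ }
    have hF : ∀ z, F z = θ (ψL z) := fun z => rfl
    have : F = AlgHom.id K _ := by
      apply Algebra.TensorProduct.ext
      · apply hgen
        · change F (j u) = j u
          rw [hF, hψLj, hu', map_mul, map_mul, map_pow, map_sub, map_mul, hθC, hθC, hθC, hθT, hθTi]
          rw [hτ, hτ'] at hττ' ⊢
          linear_combination ι e * (ι β ^ 2 * (ι a' * (U - 2 * ι α * V + ι α ^ 2 * W))
            - 2 * ι α * ι β) * hττ' + 2 * ι e * ι α * ι β * R2 + U * hEB
        · change F (j v) = j v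
          rw [hF, hψLj, hv', map_mul, map_mul, map_mul, map_sub, map_sub, map_mul, map_one,
            hθC, hθC, hθC, hθT, hθTi]
          rw [hτ, hτ'] at hττ' ⊢
          linear_combination ι e * (ι β * (ι a' * (U - 2 * ι α * V + ι α ^ 2 * W))
            - ι α - ι β) * hττ' + ι e * (ι α + ι β) * R2 + V * hEB
        · change F (j w) = j w
          rw [hF, hψLj, hw', map_mul, map_mul, map_pow, map_sub, map_one, hθC, hθT, hθTi]
          rw [hτ, hτ'] at hττ' ⊢
          linear_combination ι e * ((ι a' * (U - 2 * ι α * V + ι α ^ 2 * W)) - 2) * hττ'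
            + 2 * ι e * R2 + W * hEB
      · ext l
        change F (ι l) = ι l
        rw [hF, hψLι, hθC]
    refine RingHom.ext (fun z => ?_)
    have := DFunLike.congr_fun this z
    exact this
  refine ⟨RingEquiv.ofRingHom (ψL : A ⊗[K] L →+* L[T;T⁻¹]) θ h1 h2, ?_, ?_, ?_⟩
  · intro l
    exact hψLι l
  · have e1 : (1 ⊗ₜ[K] a' : A ⊗[K] L) * (u ⊗ₜ 1 - 2 * (v ⊗ₜ α) + w ⊗ₜ (α ^ 2)) = τ := by
      rw [hτ, htm v α, htm w (α ^ 2), ← hι, ← hj, map_pow]
      ring
    rw [e1]
    have := RingHom.congr_fun h1 (T 1)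
    rw [RingHom.comp_apply, hθT] at this
    exact this
  · have e1 : (1 ⊗ₜ[K] a' : A ⊗[K] L) * (u ⊗ₜ 1 - 2 * (v ⊗ₜ β) + w ⊗ₜ (β ^ 2)) = τ' := by
      rw [hτ', htm v β, htm w (β ^ 2), ← hι, ← hj, map_pow]
      ring
    rw [e1]
    have := RingHom.congr_fun h1 (T (-1))
    rw [RingHom.comp_apply, hθTi] at this
    exact this

end Iso


section Irr
open MvPolynomial
variable {K : Type u} [Field K] {q : MvPolynomial (Fin 2) K}

theorem not_irr_of_linear_factors (hirr : Irreducible q) (f g : MvPolynomial (Fin 2) K)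
    (hf : f.IsHomogeneous 1) (hg : g.IsHomogeneous 1) (hfg : q = f * g) : False := by
  have hq0 : q ≠ 0 := hirr.ne_zero
  have hf0 : f ≠ 0 := by rintro rfl; exact hq0 (by rw [hfg, zero_mul])
  have hg0 : g ≠ 0 := by rintro rfl; exact hq0 (by rw [hfg, mul_zero])
  rcases hirr.isUnit_or_isUnit hfg with h | h
  · have := (isUnit_iff_totalDegree_of_isReduced.1 h).2
    rw [hf.totalDegree hf0] at this
    exact one_ne_zero this
  · have := (isUnit_iff_totalDegree_of_isReduced.1 h).2
    rw [hg.totalDegree hg0] at this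
    exact one_ne_zero this

theorem lin_hom (r s : K) : (C r * X 0 + C s * X 1 : MvPolynomial (Fin 2) K).IsHomogeneous 1 :=
  (isHomogeneous_C_mul_X r 0).add (isHomogeneous_C_mul_X s 1)

theorem a_ne_zero (hirr : Irreducible q) (a b c : K)
    (hqd : q = C a * X 0 ^ 2 + C b * (X 0 * X 1) + C c * X 1 ^ 2) : a ≠ 0 := by
  rintro rfl
  apply not_irr_of_linear_factors hirr (C 0 * X 0 + C 1 * X 1) (C b * X 0 + C c * X 1)
    (lin_hom 0 1) (lin_hom b c)
  rw [hqd]
  simp only [map_zero, zero_mul, zero_add, map_one, one_mul]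
  ring

theorem no_root (hirr : Irreducible q) (a b c : K)
    (hqd : q = C a * X 0 ^ 2 + C b * (X 0 * X 1) + C c * X 1 ^ 2) (r : K) :
    a * r ^ 2 + b * r + c ≠ 0 := by
  intro hr
  apply not_irr_of_linear_factors hirr (C 1 * X 0 + C (-r) * X 1) (C a * X 0 + C (a * r + b) * X 1)
    (lin_hom 1 (-r)) (lin_hom a (a * r + b))
  have hc : c = -(a * r ^ 2 + b * r) := by linear_combination hr
  rw [hqd, hc]
  simp only [map_one, one_mul, map_neg, map_add, map_mul, map_pow]
  ring

end Irr

section QuadExt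
open Polynomial

theorem quad_irreducible {K : Type u} [Field K] (a b c : K) (ha : a ≠ 0)
    (hroot : ∀ r : K, a * r ^ 2 + b * r + c ≠ 0) :
    Irreducible (C a * X ^ 2 + C b * X + C c : K[X]) := by
  apply irreducible_of_degree_le_three_of_not_isRoot
  · rw [natDegree_quadratic ha]
    decide
  · intro r hr
    apply hroot r
    simpa [IsRoot] using hr

theorem other_root {L : Type*} [Field L] (a' b' c' α : L) (ha'0 : a' ≠ 0)
    (hαroot : a' * α ^ 2 + b' * α + c' = 0) (hdisc : b' ^ 2 - 4 * a' * c' ≠ 0) :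
    ∃ β : L, β = -(a'⁻¹ * b') - α ∧ a' * (α + β) = -b' ∧ a' * (α * β) = c' ∧
      a' * β ^ 2 + b' * β + c' = 0 ∧ α ≠ β := by
  refine ⟨-(a'⁻¹ * b') - α, rfl, ?_, ?_, ?_, ?_⟩
  · field_simp; ring
  · have : a' * (α * (-(a'⁻¹ * b') - α)) = -(a' * α ^ 2 + b' * α) := by
      field_simp; ring
    rw [this]
    linear_combination -hαroot
  · have : a' * (-(a'⁻¹ * b') - α) ^ 2 + b' * (-(a'⁻¹ * b') - α) + c'
        = a' * α ^ 2 + b' * α + c' := by
      field_simp; ring
    rw [this, hαroot]
  · intro h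
    have h1 : 2 * a' * α + b' = 0 := by
      have : a' * α = a' * (-(a'⁻¹ * b') - α) := by rw [← h]
      have h2 : a' * (-(a'⁻¹ * b') - α) = -b' - a' * α := by field_simp
      linear_combination this + h2
    apply hdisc
    linear_combination (2 * a' * α + b') * h1 - 4 * a' * hαroot

theorem eval₂_quad {K : Type*} [Field K] {S : Type*} [CommRing S] (a b c : K) (p : K[X])
    (hp : p = C a * X ^ 2 + C b * X + C c) (i : K →+* S) (x : S) :
    p.eval₂ i x = i a * x ^ 2 + i b * x + i c := by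
  subst hp
  simp only [eval₂_add, eval₂_mul, eval₂_pow, eval₂_C, eval₂_X]

theorem quad_ext_exists (K : Type u) [Field K] (a b c : K) (ha : a ≠ 0) (p : K[X])
    (hp : p = C a * X ^ 2 + C b * X + C c)
    (hirr : Irreducible p) (hdisc : b ^ 2 - 4 * a * c ≠ 0) :
    ∃ (L : Type u) (_ : Field L) (_ : Algebra K L) (α β : L) (σ : L →ₐ[K] L),
      algebraMap K L a * (α + β) = -algebraMap K L b ∧
      algebraMap K L a * (α * β) = algebraMap K L c ∧ α ≠ β ∧ σ α = β ∧ σ β = α := by
  haveI : Fact (Irreducible p) := ⟨hirr⟩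
  have ha'0 : algebraMap K (AdjoinRoot p) a ≠ 0 := (map_ne_zero (algebraMap K (AdjoinRoot p))).2 ha
  have hαroot : algebraMap K (AdjoinRoot p) a * (AdjoinRoot.root p) ^ 2
      + algebraMap K (AdjoinRoot p) b * AdjoinRoot.root p + algebraMap K (AdjoinRoot p) c = 0 := by
    have := AdjoinRoot.eval₂_root p
    rw [eval₂_quad a b c p hp] at this
    exact this
  have hdisc' : (algebraMap K (AdjoinRoot p) b) ^ 2
      - 4 * algebraMap K (AdjoinRoot p) a * algebraMap K (AdjoinRoot p) c ≠ 0 := by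
    intro h3
    apply hdisc
    apply (algebraMap K (AdjoinRoot p)).injective
    rw [map_zero, map_sub, map_pow, map_mul, map_mul, map_ofNat]
    exact h3
  obtain ⟨β, hβ, hsum, hprod, hβroot, hne⟩ := other_root _ _ _ _ ha'0 hαroot hdisc'
  have hβeval : p.eval₂ (Algebra.ofId K (AdjoinRoot p)) β = 0 := by
    rw [eval₂_quad a b c p hp]
    exact hβroot
  let σ : AdjoinRoot p →ₐ[K] AdjoinRoot p :=
    AdjoinRoot.liftAlgHom p (Algebra.ofId K (AdjoinRoot p)) β hβeval
  have hσα : σ (AdjoinRoot.root p) = β := AdjoinRoot.liftAlgHom_root p _ β hβeval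
  refine ⟨AdjoinRoot p, inferInstance, inferInstance, AdjoinRoot.root p, β, σ, hsum, hprod, hne,
    hσα, ?_⟩
  rw [hβ, map_sub, map_neg, map_mul, map_inv₀, hσα, σ.commutes, σ.commutes, hβ]
  ring

end QuadExt

section Quad
open MvPolynomial
variable {K : Type u} [Field K] {q : MvPolynomial (Fin 2) K}

theorem deg_two_cases (m : Fin 2 →₀ ℕ) (h : m 0 + m 1 = 2) :
    m = Finsupp.single 0 2 ∨ m = Finsupp.single 0 1 + Finsupp.single 1 1 ∨
      m = Finsupp.single 1 2 := by
  have h0 : m 0 = 2 ∨ m 0 = 1 ∨ m 0 = 0 := by omega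
  rcases h0 with h0 | h0 | h0
  · left
    ext i
    fin_cases i
    · simp [h0]
    · simp; omega
  · right; left
    ext i
    fin_cases i
    · simp [h0]
    · simp; omega
  · right; right
    ext i
    fin_cases i
    · simp [h0]
    · simp; omega

theorem q_decomp (hq : q.IsHomogeneous 2) :
    q = C (q.coeff (Finsupp.single 0 2)) * X 0 ^ 2
      + C (q.coeff (Finsupp.single 0 1 + Finsupp.single 1 1)) * (X 0 * X 1)
      + C (q.coeff (Finsupp.single 1 2)) * X 1 ^ 2 := by
  classical
  have e1 : (X 0 : MvPolynomial (Fin 2) K) ^ 2 = monomial (Finsupp.single 0 2) 1 :=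
    X_pow_eq_monomial
  have e3 : (X 1 : MvPolynomial (Fin 2) K) ^ 2 = monomial (Finsupp.single 1 2) 1 :=
    X_pow_eq_monomial
  have e2 : (X 0 * X 1 : MvPolynomial (Fin 2) K)
      = monomial (Finsupp.single 0 1 + Finsupp.single 1 1) 1 := by
    rw [X, X, monomial_mul, one_mul]
  have d12 : (Finsupp.single 0 2 : Fin 2 →₀ ℕ) ≠ Finsupp.single 0 1 + Finsupp.single 1 1 := by
    intro h
    have := DFunLike.congr_fun h 0
    simp at this
  have d13 : (Finsupp.single 0 2 : Fin 2 →₀ ℕ) ≠ Finsupp.single 1 2 := by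
    intro h
    have := DFunLike.congr_fun h 0
    simp at this
  have d23 : (Finsupp.single 0 1 + Finsupp.single 1 1 : Fin 2 →₀ ℕ) ≠ Finsupp.single 1 2 := by
    intro h
    have := DFunLike.congr_fun h 0
    simp at this
  ext m
  rw [e1, e2, e3, coeff_add, coeff_add, coeff_C_mul, coeff_C_mul, coeff_C_mul,
    coeff_monomial, coeff_monomial, coeff_monomial]
  by_cases hm : m 0 + m 1 = 2
  · rcases deg_two_cases m hm with rfl | rfl | rfl
    · simp [d12.symm, d13.symm]
    · simp [d12, d23.symm]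
    · simp [d13, d23]
  · have hc : coeff m q = 0 := by
      apply hq.coeff_eq_zero
      rw [Finsupp.degree_eq_sum, Fin.sum_univ_two]
      exact hm
    have n1 : Finsupp.single 0 2 ≠ m := by
      rintro rfl
      simp at hm
    have n2 : Finsupp.single 0 1 + Finsupp.single 1 1 ≠ m := by
      rintro rfl
      simp at hm
    have n3 : Finsupp.single 1 2 ≠ m := by
      rintro rfl
      simp at hm
    simp [hc, n1, n2, n3]

end Quad

section RingA
open MvPolynomial
variable {K : Type u} [Field K] (q : MvPolynomial (Fin 2) K)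

local notation "𝒜" => MvPolynomial.homogeneousSubmodule (Fin 2) K
local notation "AA" => HomogeneousLocalization.Away (MvPolynomial.homogeneousSubmodule (Fin 2) K) q

/-- the K-algebra structure extending the given scalar action -/
noncomputable def algK : Algebra K AA where
  algebraMap :=
    { toFun := fun k => k • (1 : AA)
      map_one' := by
        apply HomogeneousLocalization.val_injective
        rw [HomogeneousLocalization.val_smul, one_smul]
      map_mul' := fun x y => by
        apply HomogeneousLocalization.val_injective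
        rw [HomogeneousLocalization.val_smul, HomogeneousLocalization.val_mul,
          HomogeneousLocalization.val_smul, HomogeneousLocalization.val_smul,
          HomogeneousLocalization.val_one, smul_mul_assoc, one_mul, mul_smul]
      map_zero' := by
        apply HomogeneousLocalization.val_injective
        rw [HomogeneousLocalization.val_smul, zero_smul, HomogeneousLocalization.val_zero]
      map_add' := fun x y => by
        apply HomogeneousLocalization.val_injective
        rw [HomogeneousLocalization.val_smul, HomogeneousLocalization.val_add,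
          HomogeneousLocalization.val_smul, HomogeneousLocalization.val_smul, add_smul] }
  commutes' := fun k z => mul_comm _ _
  smul_def' := fun k z => by
    apply HomogeneousLocalization.val_injective
    change (k • z).val = ((k • (1 : AA)) * z).val
    rw [HomogeneousLocalization.val_smul, HomogeneousLocalization.val_mul,
      HomogeneousLocalization.val_smul, HomogeneousLocalization.val_one, smul_mul_assoc, one_mul]


variable {q} (hq : q.IsHomogeneous 2)

include hq in
theorem hq_mem : q ∈ 𝒜 2 := hq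

open Classical in
/-- the fraction `f / q ^ k` (zero if `f` is not homogeneous of degree `2k`). -/
noncomputable def frac (k : ℕ) (f : MvPolynomial (Fin 2) K) : AA :=
  if hf : f ∈ 𝒜 (k • 2) then HomogeneousLocalization.Away.mk 𝒜 (hq_mem hq) k f hf else 0

theorem frac_val (k : ℕ) (f : MvPolynomial (Fin 2) K) (hf : f.IsHomogeneous (2 * k)) :
    (frac hq k f).val = Localization.mk f (⟨q ^ k, k, rfl⟩ : Submonoid.powers q) := by
  have hf' : f ∈ 𝒜 (k • 2) := by
    rw [smul_eq_mul, mul_comm]; exact hf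
  rw [frac, dif_pos hf']
  rfl

theorem frac_mul (k l : ℕ) (f g : MvPolynomial (Fin 2) K) (hf : f.IsHomogeneous (2 * k))
    (hg : g.IsHomogeneous (2 * l)) : frac hq (k + l) (f * g) = frac hq k f * frac hq l g := by
  apply HomogeneousLocalization.val_injective
  have hfg : (f * g).IsHomogeneous (2 * (k + l)) := by
    rw [mul_add]; exact hf.mul hg
  rw [HomogeneousLocalization.val_mul, frac_val hq _ _ hfg, frac_val hq _ _ hf, frac_val hq _ _ hg,
    Localization.mk_mul]
  congr 1
  exact Subtype.ext (pow_add q k l)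

theorem frac_add (k : ℕ) (f g : MvPolynomial (Fin 2) K) (hf : f.IsHomogeneous (2 * k))
    (hg : g.IsHomogeneous (2 * k)) : frac hq k (f + g) = frac hq k f + frac hq k g := by
  apply HomogeneousLocalization.val_injective
  rw [HomogeneousLocalization.val_add, frac_val hq _ _ (hf.add hg), frac_val hq _ _ hf,
    frac_val hq _ _ hg, Localization.add_mk_self]

theorem frac_smul (k : ℕ) (c : K) (f : MvPolynomial (Fin 2) K) (hf : f.IsHomogeneous (2 * k)) :
    frac hq k (c • f) = c • frac hq k f := by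
  apply HomogeneousLocalization.val_injective
  have hcf : (c • f).IsHomogeneous (2 * k) := by
    rw [MvPolynomial.smul_eq_C_mul]
    simpa using (isHomogeneous_C (Fin 2) c).mul hf
  rw [HomogeneousLocalization.val_smul, frac_val hq _ _ hcf, frac_val hq _ _ hf,
    Localization.smul_mk]

theorem frac_zero_one : frac hq 0 1 = 1 := by
  apply HomogeneousLocalization.val_injective
  rw [frac_val hq 0 1 (by simpa using isHomogeneous_one (Fin 2) K), HomogeneousLocalization.val_one]
  exact Localization.mk_self (⟨q ^ 0, 0, rfl⟩ : Submonoid.powers q)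

theorem frac_one_q : frac hq 1 q = 1 := by
  apply HomogeneousLocalization.val_injective
  rw [frac_val hq 1 q (by simpa using hq), HomogeneousLocalization.val_one]
  have : (⟨q ^ 1, 1, rfl⟩ : Submonoid.powers q) = ⟨q, 1, pow_one q⟩ := Subtype.ext (pow_one q)
  rw [this]
  exact Localization.mk_self (⟨q, 1, pow_one q⟩ : Submonoid.powers q)

theorem frac_surj (z : AA) : ∃ (k : ℕ) (f : MvPolynomial (Fin 2) K), f.IsHomogeneous (2 * k) ∧
    frac hq k f = z := by
  obtain ⟨n, a, ha, rfl⟩ := HomogeneousLocalization.Away.mk_surjective 𝒜 (hq_mem hq) z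
  refine ⟨n, a, ?_, ?_⟩
  · have : a ∈ 𝒜 (n • 2) := ha
    rw [smul_eq_mul, mul_comm] at this
    exact this
  · rw [frac, dif_pos ha]

attribute [local instance] algK

/-- `f ↦ (degree-2k part of f) / q^k`, a `K`-linear map. -/
noncomputable def FL (k : ℕ) : MvPolynomial (Fin 2) K →ₗ[K] AA where
  toFun f := frac hq k (homogeneousComponent (2 * k) f)
  map_add' f g := by
    rw [map_add, frac_add hq k _ _ (homogeneousComponent_isHomogeneous _ _)
      (homogeneousComponent_isHomogeneous _ _)]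
  map_smul' c f := by
    rw [map_smul, frac_smul hq k _ _ (homogeneousComponent_isHomogeneous _ _)]
    rfl

theorem FL_apply_of_hom (k : ℕ) (f : MvPolynomial (Fin 2) K) (hf : f.IsHomogeneous (2 * k)) :
    FL hq k f = frac hq k f := by
  change frac hq k (homogeneousComponent (2 * k) f) = _
  rw [homogeneousComponent_eq_self hf]

theorem xy_hom (i j : ℕ) : ((X 0 : MvPolynomial (Fin 2) K) ^ i * X 1 ^ j).IsHomogeneous (i + j) :=
  (isHomogeneous_X_pow 0 i).mul (isHomogeneous_X_pow 1 j)

theorem gen_mono {S : Type*} [CommRing S] (f₁ f₂ : AA →+* S)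
    (hu : f₁ (frac hq 1 (X 0 ^ 2)) = f₂ (frac hq 1 (X 0 ^ 2)))
    (hv : f₁ (frac hq 1 (X 0 * X 1)) = f₂ (frac hq 1 (X 0 * X 1)))
    (hw : f₁ (frac hq 1 (X 1 ^ 2)) = f₂ (frac hq 1 (X 1 ^ 2))) :
    ∀ (k i j : ℕ), i + j = 2 * k →
      f₁ (frac hq k (X 0 ^ i * X 1 ^ j)) = f₂ (frac hq k (X 0 ^ i * X 1 ^ j)) := by
  intro k
  induction k with
  | zero =>
    intro i j hij
    obtain rfl : i = 0 := by omega
    obtain rfl : j = 0 := by omega
    simp only [pow_zero, mul_one, frac_zero_one, map_one]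
  | succ k ih =>
    intro i j hij
    by_cases hi : 2 ≤ i
    · have e : (X 0 : MvPolynomial (Fin 2) K) ^ i * X 1 ^ j
          = X 0 ^ 2 * (X 0 ^ (i - 2) * X 1 ^ j) := by
        rw [← mul_assoc, ← pow_add]
        congr 2
        omega
      have h1 := frac_mul hq 1 k _ _ (isHomogeneous_X_pow (R := K) (0 : Fin 2) 2)
        (by have := xy_hom (K := K) (i - 2) j; rwa [show i - 2 + j = 2 * k by omega] at this)
      rw [e, show k + 1 = 1 + k by ring, h1, map_mul, map_mul, ih (i - 2) j (by omega), hu]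
    · by_cases hj : 2 ≤ j
      · have e : (X 0 : MvPolynomial (Fin 2) K) ^ i * X 1 ^ j
            = X 1 ^ 2 * (X 0 ^ i * X 1 ^ (j - 2)) := by
          rw [mul_left_comm, ← pow_add]
          congr 2
          omega
        have h1 := frac_mul hq 1 k _ _ (isHomogeneous_X_pow (R := K) (1 : Fin 2) 2)
          (by have := xy_hom (K := K) i (j - 2); rwa [show i + (j - 2) = 2 * k by omega] at this)
        rw [e, show k + 1 = 1 + k by ring, h1, map_mul, map_mul, ih i (j - 2) (by omega), hw]
      · obtain rfl : k = 0 := by omega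
        obtain rfl : i = 1 := by omega
        obtain rfl : j = 1 := by omega
        simp only [pow_one]
        exact hv

theorem alg_ext {S : Type*} [CommRing S] [Algebra K S] (f₁ f₂ : AA →ₐ[K] S)
    (hu : f₁ (frac hq 1 (X 0 ^ 2)) = f₂ (frac hq 1 (X 0 ^ 2)))
    (hv : f₁ (frac hq 1 (X 0 * X 1)) = f₂ (frac hq 1 (X 0 * X 1)))
    (hw : f₁ (frac hq 1 (X 1 ^ 2)) = f₂ (frac hq 1 (X 1 ^ 2))) : f₁ = f₂ := by
  ext z
  obtain ⟨k, f, hf, rfl⟩ := frac_surj hq z
  have key : f₁.toLinearMap ∘ₗ FL hq k = f₂.toLinearMap ∘ₗ FL hq k := by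
    apply MvPolynomial.linearMap_ext
    intro m
    apply LinearMap.ext_ring
    simp only [LinearMap.comp_apply, AlgHom.toLinearMap_apply]
    by_cases hm : m.degree = 2 * k
    · have hmono : (monomial m (1 : K)) = X 0 ^ (m 0) * X 1 ^ (m 1) := by
        rw [monomial_eq, Finsupp.prod_fintype _ _ (fun i => by simp), Fin.prod_univ_two]
        simp
      have hdeg : m 0 + m 1 = 2 * k := by
        rw [← hm, Finsupp.degree_eq_sum, Fin.sum_univ_two]
      rw [hmono, FL_apply_of_hom hq k _ (hdeg ▸ xy_hom (m 0) (m 1))]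
      exact gen_mono hq f₁.toRingHom f₂.toRingHom hu hv hw k (m 0) (m 1) hdeg
    · have : FL hq k (monomial m (1 : K)) = 0 := by
        change frac hq k (homogeneousComponent (2 * k) (monomial m (1 : K))) = 0
        rw [homogeneousComponent_of_mem (isHomogeneous_monomial (1 : K) rfl), if_neg (Ne.symm hm)]
        rw [frac]
        split_ifs <;> first | rfl | (apply HomogeneousLocalization.val_injective; simp [Localization.mk_zero])
      rw [this, map_zero, map_zero]
  have := LinearMap.congr_fun key f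
  simpa only [LinearMap.comp_apply, AlgHom.toLinearMap_apply, FL_apply_of_hom hq k f hf] using this

theorem rel1 : frac hq 1 (X 0 ^ 2) * frac hq 1 (X 1 ^ 2)
    = frac hq 1 (X 0 * X 1) * frac hq 1 (X 0 * X 1) := by
  have hxy : (X 0 * X 1 : MvPolynomial (Fin 2) K).IsHomogeneous (2 * 1) :=
    (isHomogeneous_X K (0 : Fin 2)).mul (isHomogeneous_X K (1 : Fin 2))
  rw [← frac_mul hq 1 1 _ _ (isHomogeneous_X_pow (R := K) (0 : Fin 2) 2)
    (isHomogeneous_X_pow (R := K) (1 : Fin 2) 2), ← frac_mul hq 1 1 _ _ hxy hxy]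
  congr 1
  ring

theorem rel2 (a b c : K) (hqd : q = C a * X 0 ^ 2 + C b * (X 0 * X 1) + C c * X 1 ^ 2) :
    a • frac hq 1 (X 0 ^ 2) + b • frac hq 1 (X 0 * X 1) + c • frac hq 1 (X 1 ^ 2) = 1 := by
  have hxy : (X 0 * X 1 : MvPolynomial (Fin 2) K).IsHomogeneous (2 * 1) :=
    (isHomogeneous_X K (0 : Fin 2)).mul (isHomogeneous_X K (1 : Fin 2))
  have hx2 : ((X 0 : MvPolynomial (Fin 2) K) ^ 2).IsHomogeneous (2 * 1) :=
    isHomogeneous_X_pow (R := K) (0 : Fin 2) 2
  have hy2 : ((X 1 : MvPolynomial (Fin 2) K) ^ 2).IsHomogeneous (2 * 1) :=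
    isHomogeneous_X_pow (R := K) (1 : Fin 2) 2
  have hs : ∀ (c : K) (f : MvPolynomial (Fin 2) K), f.IsHomogeneous (2 * 1) →
      (c • f).IsHomogeneous (2 * 1) := by
    intro c f hf
    rw [MvPolynomial.smul_eq_C_mul]
    simpa using (isHomogeneous_C (Fin 2) c).mul hf
  rw [← frac_smul hq 1 a _ hx2, ← frac_smul hq 1 b _ hxy, ← frac_smul hq 1 c _ hy2,
    ← frac_add hq 1 _ _ (hs a _ hx2) (hs b _ hxy),
    ← frac_add hq 1 _ _ ((hs a _ hx2).add (hs b _ hxy)) (hs c _ hy2)]
  rw [MvPolynomial.smul_eq_C_mul, MvPolynomial.smul_eq_C_mul, MvPolynomial.smul_eq_C_mul, ← hqd]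
  exact frac_one_q hq

theorem psi_exists (a b c : K) (hqd : q = C a * X 0 ^ 2 + C b * (X 0 * X 1) + C c * X 1 ^ 2)
    {L : Type u} [Field L] [Algebra K L] (α β : L) (ha : a ≠ 0) (hαβ : α ≠ β)
    (hs : algebraMap K L a * (α + β) = -algebraMap K L b)
    (hp : algebraMap K L a * (α * β) = algebraMap K L c) :
    ∃ ψ : AA →ₐ[K] LaurentPolynomial L,
      LaurentPolynomial.C (algebraMap K L a * (β - α) ^ 2) * ψ (frac hq 1 (X 0 ^ 2))
        = (LaurentPolynomial.C β * LaurentPolynomial.T 1 - LaurentPolynomial.C α) ^ 2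
          * LaurentPolynomial.T (-1) ∧
      LaurentPolynomial.C (algebraMap K L a * (β - α) ^ 2) * ψ (frac hq 1 (X 0 * X 1))
        = (LaurentPolynomial.C β * LaurentPolynomial.T 1 - LaurentPolynomial.C α)
          * (LaurentPolynomial.T 1 - 1) * LaurentPolynomial.T (-1) ∧
      LaurentPolynomial.C (algebraMap K L a * (β - α) ^ 2) * ψ (frac hq 1 (X 1 ^ 2))
        = (LaurentPolynomial.T 1 - 1) ^ 2 * LaurentPolynomial.T (-1) := by
  set a' : L := algebraMap K L a with ha'
  have ha'0 : a' ≠ 0 := by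
    rw [ha']; exact (map_ne_zero (algebraMap K L)).2 ha
  have hδ : β - α ≠ 0 := sub_ne_zero.2 (Ne.symm hαβ)
  set t : LaurentPolynomial L := LaurentPolynomial.T 1 with ht
  set ti : LaurentPolynomial L := LaurentPolynomial.T (-1) with hti
  let X' : LaurentPolynomial L := LaurentPolynomial.C β * t - LaurentPolynomial.C α
  let Y' : LaurentPolynomial L := t - 1
  let Φ : MvPolynomial (Fin 2) K →ₐ[K] LaurentPolynomial L := MvPolynomial.aeval ![X', Y']
  have hΦ0 : Φ (X 0) = X' := by simp [Φ]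
  have hΦ1 : Φ (X 1) = Y' := by simp [Φ]
  have hΦC : ∀ k : K, Φ (C k) = LaurentPolynomial.C (algebraMap K L k) := by
    intro k
    rw [MvPolynomial.algHom_C, LaurentPolynomial.algebraMap_apply]
  have hTT : t * ti = 1 := by
    rw [ht, hti, ← LaurentPolynomial.T_add, add_neg_cancel, LaurentPolynomial.T_zero]
  have hΦq : Φ q = LaurentPolynomial.C (a' * (β - α) ^ 2) * t := by
    have hb : LaurentPolynomial.C (algebraMap K L b)
        = -(LaurentPolynomial.C a' * (LaurentPolynomial.C α + LaurentPolynomial.C β)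
          : LaurentPolynomial L) := by
      rw [← map_add, ← map_mul, ← map_neg, hs, neg_neg]
    have hc : LaurentPolynomial.C (algebraMap K L c)
        = (LaurentPolynomial.C a' * (LaurentPolynomial.C α * LaurentPolynomial.C β)
          : LaurentPolynomial L) := by
      rw [← map_mul, ← map_mul, hp]
    rw [hqd, map_add, map_add, map_mul, map_mul, map_mul, map_mul, map_pow, map_pow, hΦ0, hΦ1,
      hΦC, hΦC, hΦC, hb, hc, map_mul, map_pow, map_sub]
    simp only [X', Y']
    ring
  have hunit : IsUnit (Φ q) := by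
    rw [hΦq]
    apply IsUnit.mul
    · exact (IsUnit.mk0 _ (mul_ne_zero ha'0 (pow_ne_zero 2 hδ))).map LaurentPolynomial.C
    · exact LaurentPolynomial.isUnit_T 1
  let lift : Localization.Away q →+* LaurentPolynomial L :=
    IsLocalization.Away.lift (S := Localization.Away q) q
      (g := (Φ : MvPolynomial (Fin 2) K →+* LaurentPolynomial L)) hunit
  have hlift : ∀ f, lift (algebraMap _ _ f) = Φ f := fun f =>
    IsLocalization.Away.lift_eq q hunit f
  let ψ₀ : AA →+* LaurentPolynomial L := lift.comp (algebraMap AA (Localization.Away q))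
  have hspec : ∀ (k : ℕ) (f : MvPolynomial (Fin 2) K), f.IsHomogeneous (2 * k) →
      Φ f = (Φ q) ^ k * ψ₀ (frac hq k f) := by
    intro k f hf
    have h1 : ψ₀ (frac hq k f)
        = lift (Localization.mk f (⟨q ^ k, k, rfl⟩ : Submonoid.powers q)) := by
      change lift ((frac hq k f).val) = _
      rw [frac_val hq k f hf]
    have h2 : Localization.mk f (⟨q ^ k, k, rfl⟩ : Submonoid.powers q)
        * algebraMap _ (Localization.Away q) (q ^ k) = algebraMap _ _ f := by
      rw [Localization.mk_eq_mk']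
      exact IsLocalization.mk'_spec _ f (⟨q ^ k, k, rfl⟩ : Submonoid.powers q)
    have h3 := congrArg lift h2
    rw [map_mul, hlift, hlift, ← h1, map_pow] at h3
    rw [← h3, mul_comm]
  have hcomm : ∀ k : K, ψ₀ (algebraMap K AA k) = algebraMap K (LaurentPolynomial L) k := by
    intro k
    have e1 : algebraMap K AA k = frac hq 0 (C k) := by
      change k • (1 : AA) = _
      rw [← frac_zero_one hq, ← frac_smul hq 0 k 1 (by simpa using isHomogeneous_one (Fin 2) K),
        MvPolynomial.smul_eq_C_mul, mul_one]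
    have := hspec 0 (C k) (by simpa using isHomogeneous_C (Fin 2) k)
    rw [pow_zero, one_mul] at this
    rw [e1, ← this, MvPolynomial.algHom_C]
  let ψ : AA →ₐ[K] LaurentPolynomial L := { toRingHom := ψ₀, commutes' := hcomm }
  have hψ : ∀ z, ψ z = ψ₀ z := fun z => rfl
  have hxy : (X 0 * X 1 : MvPolynomial (Fin 2) K).IsHomogeneous (2 * 1) :=
    (isHomogeneous_X K (0 : Fin 2)).mul (isHomogeneous_X K (1 : Fin 2))
  have hx2 : ((X 0 : MvPolynomial (Fin 2) K) ^ 2).IsHomogeneous (2 * 1) :=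
    isHomogeneous_X_pow (R := K) (0 : Fin 2) 2
  have hy2 : ((X 1 : MvPolynomial (Fin 2) K) ^ 2).IsHomogeneous (2 * 1) :=
    isHomogeneous_X_pow (R := K) (1 : Fin 2) 2
  refine ⟨ψ, ?_, ?_, ?_⟩
  · have := hspec 1 _ hx2
    rw [pow_one, hΦq, map_pow, hΦ0] at this
    rw [hψ]
    linear_combination (-ti) * this
      - LaurentPolynomial.C (a' * (β - α) ^ 2) * ψ₀ (frac hq 1 (X 0 ^ 2)) * hTT
  · have := hspec 1 _ hxy
    rw [pow_one, hΦq, map_mul, hΦ0, hΦ1] at this
    rw [hψ]
    linear_combination (-ti) * this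
      - LaurentPolynomial.C (a' * (β - α) ^ 2) * ψ₀ (frac hq 1 (X 0 * X 1)) * hTT
  · have := hspec 1 _ hy2
    rw [pow_one, hΦq, map_pow, hΦ1] at this
    rw [hψ]
    linear_combination (-ti) * this
      - LaurentPolynomial.C (a' * (β - α) ^ 2) * ψ₀ (frac hq 1 (X 1 ^ 2)) * hTT

end RingA


section Main
open TensorProduct

theorem main
    (K : Type u) [Field K] (hK : ∀ n : ℕ, 0 < n → (Polynomial.X ^ n - 1 : Polynomial K).Splits)
    (q : MvPolynomial (Fin 2) K) (hq : q.IsHomogeneous 2) (hirr : Irreducible q)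
    (hdisc : (q.coeff (Finsupp.single 0 1 + Finsupp.single 1 1)) ^ 2 -
      4 * q.coeff (Finsupp.single 0 2) * q.coeff (Finsupp.single 1 2) ≠ 0)
    (G : Subgroup (HomogeneousLocalization.Away (MvPolynomial.homogeneousSubmodule (Fin 2) K) q ≃+* HomogeneousLocalization.Away (MvPolynomial.homogeneousSubmodule (Fin 2) K) q)) [Finite G]
    (hG : ∀ g ∈ G, ∀ (k : K) (z : HomogeneousLocalization.Away (MvPolynomial.homogeneousSubmodule (Fin 2) K) q), g (k • z) = k • g z) :
    (∀ g ∈ G, g ^ 2 = 1) ∧ Nat.card G ≤ 4 := by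
  classical
  letI := algK q
  set a : K := q.coeff (Finsupp.single 0 2) with ha_def
  set b : K := q.coeff (Finsupp.single 0 1 + Finsupp.single 1 1) with hb_def
  set c : K := q.coeff (Finsupp.single 1 2) with hc_def
  have hqd := q_decomp hq
  rw [← ha_def, ← hb_def, ← hc_def] at hqd
  have ha := a_ne_zero hirr a b c hqd
  have hroot := no_root hirr a b c hqd
  have hpirr := quad_irreducible a b c ha hroot
  obtain ⟨L, _, _, α, β, σ, hs, hp, hαβ, hσα, hσβ⟩ :=
    quad_ext_exists K a b c ha _ rfl hpirr hdisc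
  obtain ⟨ψ, hψu, hψv, hψw⟩ := psi_exists hq a b c hqd α β ha hαβ hs hp
  obtain ⟨Ξ, hΞC, hΞτ, hΞτ'⟩ := iso_exists a b c α β _ _ _ ha hαβ hs hp (rel1 hq)
    (rel2 hq a b c hqd) (fun f₁ f₂ => alg_ext hq f₁ f₂) ψ hψu hψv hψw
  set u := frac hq 1 (MvPolynomial.X 0 ^ 2) with hu
  set v := frac hq 1 (MvPolynomial.X 0 * MvPolynomial.X 1) with hv
  set w := frac hq 1 (MvPolynomial.X 1 ^ 2) with hw
  set a' : L := algebraMap K L a with ha'
  set τ : HomogeneousLocalization.Away (MvPolynomial.homogeneousSubmodule (Fin 2) K) q ⊗[K] L :=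
    (1 ⊗ₜ a') * (u ⊗ₜ 1 - 2 * (v ⊗ₜ α) + w ⊗ₜ (α ^ 2)) with hτ
  set τ' : HomogeneousLocalization.Away (MvPolynomial.homogeneousSubmodule (Fin 2) K) q ⊗[K] L :=
    (1 ⊗ₜ a') * (u ⊗ₜ 1 - 2 * (v ⊗ₜ β) + w ⊗ₜ (β ^ 2)) with hτ'
  have hTT : (LaurentPolynomial.T 1 : LaurentPolynomial L) * LaurentPolynomial.T (-1) = 1 := by
    rw [← LaurentPolynomial.T_add, add_neg_cancel, LaurentPolynomial.T_zero]
  have hττ' : τ * τ' = 1 := by
    apply Ξ.injective
    rw [map_mul, hΞτ, hΞτ', map_one, hTT]
  let τU : (HomogeneousLocalization.Away (MvPolynomial.homogeneousSubmodule (Fin 2) K) q ⊗[K] L)ˣ :=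
    ⟨τ, τ', hττ', by rw [mul_comm]; exact hττ'⟩
  let TU : (LaurentPolynomial L)ˣ :=
    ⟨LaurentPolynomial.T 1, LaurentPolynomial.T (-1), hTT, by rw [mul_comm]; exact hTT⟩
  have hTUz : ∀ n : ℤ, ((TU ^ n : (LaurentPolynomial L)ˣ) : LaurentPolynomial L)
      = LaurentPolynomial.T n := by
    intro n
    induction n using Int.induction_on with
    | zero => rw [zpow_zero, Units.val_one, LaurentPolynomial.T_zero]
    | succ n ih => rw [zpow_add_one, Units.val_mul, ih, LaurentPolynomial.T_add]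
    | pred n ih =>
      rw [zpow_sub_one, Units.val_mul, ih, sub_eq_add_neg, LaurentPolynomial.T_add]
      rfl
  have hΞU : Units.map (Ξ : _ →* LaurentPolynomial L) τU = TU := Units.ext hΞτ
  have hΞpow : ∀ n : ℤ, Ξ ((τU ^ n : _ˣ) : _) = LaurentPolynomial.T n := by
    intro n
    have h1 : Units.map (Ξ : _ →* LaurentPolynomial L) (τU ^ n) = TU ^ n := by
      rw [map_zpow, hΞU]
    have h2 := congrArg Units.val h1
    rw [hTUz] at h2
    exact h2
  -- the maps
  let ι : L →ₐ[K] HomogeneousLocalization.Away (MvPolynomial.homogeneousSubmodule (Fin 2) K) q ⊗[K] L :=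
    Algebra.TensorProduct.includeRight
  have hι : ∀ l, ι l = 1 ⊗ₜ l := fun l => rfl
  let cU : Lˣ →* (HomogeneousLocalization.Away (MvPolynomial.homogeneousSubmodule (Fin 2) K) q ⊗[K] L)ˣ :=
    Units.map (ι : L →* _)
  have hcU : ∀ l : Lˣ, ((cU l : _ˣ) : _) = (1 : HomogeneousLocalization.Away (MvPolynomial.homogeneousSubmodule (Fin 2) K) q) ⊗ₜ[K] (l : L) := fun l => rfl
  have hS : ∀ x : (HomogeneousLocalization.Away (MvPolynomial.homogeneousSubmodule (Fin 2) K) q ⊗[K] L)ˣ,
      ∃ (l : Lˣ) (n : ℤ), x = cU l * τU ^ n := by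
    intro x
    have hux : IsUnit (Ξ (x : _)) := x.isUnit.map Ξ
    obtain ⟨lam, n, hlam, hx⟩ := laurent_unit_form _ hux
    refine ⟨Units.mk0 lam hlam, n, Units.ext ?_⟩
    apply Ξ.injective
    rw [Units.val_mul, map_mul, hΞpow, hx, hcU, hΞC]
    rfl
  have hU : ∀ (l : Lˣ) (n : ℤ), cU l * τU ^ n = 1 → l = 1 ∧ n = 0 := by
    intro l n h
    have h1 := congrArg (fun x : _ˣ => Ξ (x : _)) h
    simp only [Units.val_mul, map_mul, Units.val_one, map_one] at h1
    rw [hΞpow, hcU, hΞC] at h1
    have h2 : LaurentPolynomial.C (l : L) * LaurentPolynomial.T n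
        = LaurentPolynomial.C 1 * LaurentPolynomial.T 0 := by
      rw [h1, map_one, LaurentPolynomial.T_zero, mul_one]
    obtain ⟨e1, e2⟩ := laurent_C_mul_T_inj l.ne_zero h2
    exact ⟨Units.ext e1, e2⟩
  -- the group action
  let gA : G → (HomogeneousLocalization.Away (MvPolynomial.homogeneousSubmodule (Fin 2) K) q
      →ₐ[K] HomogeneousLocalization.Away (MvPolynomial.homogeneousSubmodule (Fin 2) K) q) :=
    fun g =>
    { toRingHom := (g.1 : _ ≃+* _).toRingHom
      commutes' := fun k => by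
        change g.1 (k • (1 : HomogeneousLocalization.Away
          (MvPolynomial.homogeneousSubmodule (Fin 2) K) q)) = k • 1
        rw [hG g.1 g.2, map_one] }
  have hgA : ∀ (g : G) x, gA g x = g.1 x := fun g x => rfl
  let gB : G → (HomogeneousLocalization.Away (MvPolynomial.homogeneousSubmodule (Fin 2) K) q ⊗[K] L
      →ₐ[K] HomogeneousLocalization.Away (MvPolynomial.homogeneousSubmodule (Fin 2) K) q ⊗[K] L) :=
    fun g => Algebra.TensorProduct.map (gA g) (AlgHom.id K L)
  have hgB : ∀ (g : G) x (l : L), gB g (x ⊗ₜ l) = (g.1 x) ⊗ₜ l := fun g x l => rfl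
  have hgB_mul : ∀ g h : G, ∀ z, gB (g * h) z = gB g (gB h z) := by
    intro g h z
    induction z using TensorProduct.induction_on with
    | zero => simp
    | tmul x l => rw [hgB, hgB, hgB]; rfl
    | add x y hx hy => rw [map_add, map_add, map_add, hx, hy]
  have hgB_one : ∀ z, gB 1 z = z := by
    intro z
    induction z using TensorProduct.induction_on with
    | zero => simp
    | tmul x l => rw [hgB]; rfl
    | add x y hx hy => rw [map_add, hx, hy]
  let Γ : G →* Monoid.End (HomogeneousLocalization.Away (MvPolynomial.homogeneousSubmodule (Fin 2) K) q ⊗[K] L)ˣ :=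
    { toFun := fun g => Units.map (gB g : _ →* _)
      map_one' := by
        apply MonoidHom.ext
        intro x
        apply Units.ext
        exact hgB_one _
      map_mul' := fun g h => by
        apply MonoidHom.ext
        intro x
        apply Units.ext
        exact hgB_mul g h _ }
  have hΓ : ∀ (g : G) (x : _ˣ), ((Γ g x : _ˣ) : _) = gB g (x : _) := fun g x => rfl
  have hΓc : ∀ (g : G) (l : Lˣ), Γ g (cU l) = cU l := by
    intro g l
    apply Units.ext
    rw [hΓ, hcU, hgB, map_one]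
  have hΞsymmC : ∀ l : L, Ξ.symm (LaurentPolynomial.C l) = 1 ⊗ₜ l := by
    intro l
    rw [RingEquiv.symm_apply_eq, hΞC]
  have hΞsymmT : Ξ.symm (LaurentPolynomial.T 1) = τ := by
    rw [RingEquiv.symm_apply_eq, hΞτ]
  have hinj : ∀ g h : G, Γ g τU = Γ h τU → g = h := by
    intro g h hgh
    have h1 : gB g τ = gB h τ := congrArg Units.val hgh
    have h2 : ((gB g).toRingHom.comp Ξ.symm.toRingHom)
        = (gB h).toRingHom.comp Ξ.symm.toRingHom := by
      apply laurent_ringHom_ext
      · intro l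
        change gB g (Ξ.symm (LaurentPolynomial.C l)) = gB h (Ξ.symm (LaurentPolynomial.C l))
        rw [hΞsymmC, hgB, hgB, map_one, map_one]
      · change gB g (Ξ.symm (LaurentPolynomial.T 1)) = gB h (Ξ.symm (LaurentPolynomial.T 1))
        rw [hΞsymmT]
        exact h1
    apply Subtype.ext
    apply RingEquiv.ext
    intro x
    have h3 : gB g (Ξ.symm (Ξ (x ⊗ₜ 1))) = gB h (Ξ.symm (Ξ (x ⊗ₜ 1))) :=
      RingHom.congr_fun h2 (Ξ (x ⊗ₜ 1))
    rw [RingEquiv.symm_apply_apply, hgB, hgB] at h3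
    exact Algebra.TensorProduct.includeLeft_injective (S := K) (algebraMap K L).injective h3
  -- conjugation
  let conjB : HomogeneousLocalization.Away (MvPolynomial.homogeneousSubmodule (Fin 2) K) q ⊗[K] L
      →ₐ[K] HomogeneousLocalization.Away (MvPolynomial.homogeneousSubmodule (Fin 2) K) q ⊗[K] L :=
    Algebra.TensorProduct.map (AlgHom.id K _) σ
  have hconjB : ∀ x (l : L), conjB (x ⊗ₜ l) = x ⊗ₜ σ l := fun x l => rfl
  let S : (HomogeneousLocalization.Away (MvPolynomial.homogeneousSubmodule (Fin 2) K) q ⊗[K] L)ˣ →*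
      (HomogeneousLocalization.Away (MvPolynomial.homogeneousSubmodule (Fin 2) K) q ⊗[K] L)ˣ :=
    Units.map (conjB : _ →* _)
  let s : Lˣ →* Lˣ := Units.map (σ : L →* L)
  have hSc : ∀ l : Lˣ, S (cU l) = cU (s l) := by
    intro l
    apply Units.ext
    change conjB ((cU l : _ˣ) : _) = _
    rw [hcU, hconjB]
    rfl
  have hσa' : σ a' = a' := by rw [ha', σ.commutes]
  have hSt : S τU = τU⁻¹ := by
    apply Units.ext
    change conjB τ = τ'
    rw [hτ, hτ', map_mul, map_add, map_sub, map_mul, map_ofNat, hconjB, hconjB, hconjB, hconjB,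
      map_pow, hσα, hσa', map_one]
  have hcomm : ∀ (g : G) (x : _ˣ), S (Γ g x) = Γ g (S x) := by
    intro g x
    apply Units.ext
    change conjB (gB g (x : _)) = gB g (conjB (x : _))
    generalize (x : HomogeneousLocalization.Away (MvPolynomial.homogeneousSubmodule (Fin 2) K) q ⊗[K] L) = z
    induction z using TensorProduct.induction_on with
    | zero => simp
    | tmul y l => rw [hgB, hconjB, hconjB, hgB]
    | add y z hy hz => rw [map_add, map_add, map_add, map_add, hy, hz]
  have hfix : ∀ (l : Lˣ) (k : ℕ), 0 < k → l ^ k = 1 → s l = l := by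
    intro l k hk hlk
    apply Units.ext
    change σ (l : L) = l
    have hroot : ((Polynomial.X ^ k - 1 : Polynomial K).map (algebraMap K L)).IsRoot (l : L) := by
      have : ((l : L)) ^ k = 1 := by
        have := congrArg Units.val hlk
        simpa using this
      simp [Polynomial.IsRoot, this]
    have hne : (Polynomial.X ^ k - 1 : Polynomial K) ≠ 0 := by
      have := Polynomial.X_pow_sub_C_ne_zero hk (1 : K)
      simpa using this
    obtain ⟨κ, hκ⟩ := (hK k hk).mem_range_of_isRoot hne hroot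
    rw [← hκ]
    exact σ.commutes κ
  have htwo : ∀ l : Lˣ, l ^ 2 = 1 → l = 1 ∨ l = -1 := by
    intro l hl
    have h1 : (l : L) * (l : L) = 1 := by
      have := congrArg Units.val hl
      simpa [pow_two] using this
    rcases mul_self_eq_one_iff.1 h1 with h | h
    · left; exact Units.ext h
    · right; exact Units.ext (by simpa using h)
  obtain ⟨r1, r2⟩ := abstract_group cU τU hS hU Γ hΓc hinj S s hSc hSt hcomm hfix (-1) htwo
  refine ⟨fun g hg => ?_, r2⟩
  have := r1 ⟨g, hg⟩
  exact congrArg Subtype.val this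

end Main

end Helpers

/-- Let K be a field such that K contains all roots of unity (for every n ≥ 1 the polynomial X^n − 1
splits into linear factors over K). Let q be an irreducible binary quadratic form over K with
non-zero discriminant, so that its zero locus in the projective line over K is a single closed point
with separable quadratic residue field over K (a pair of distinct conjugate geometric points), and
let U be the complement of that point: the affine curve whose coordinate ring is the ring of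
degree-0 fractions f / q ^ k (f a binary form of degree 2k). Then for every finite group G of
K-automorphisms of U (K-linear ring automorphisms of its coordinate ring), every g ∈ G satisfies g ^
2 = 1 and G has at most 4 elements. -/
theorem result
    (K : Type u) [Field K] (hK : ∀ n : ℕ, 0 < n → (Polynomial.X ^ n - 1 : Polynomial K).Splits)
    (q : MvPolynomial (Fin 2) K) (hq : q.IsHomogeneous 2) (hirr : Irreducible q)
    (hdisc : (q.coeff (Finsupp.single 0 1 + Finsupp.single 1 1)) ^ 2 -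
      4 * q.coeff (Finsupp.single 0 2) * q.coeff (Finsupp.single 1 2) ≠ 0)
    (G : Subgroup (HomogeneousLocalization.Away (MvPolynomial.homogeneousSubmodule (Fin 2) K) q ≃+* HomogeneousLocalization.Away (MvPolynomial.homogeneousSubmodule (Fin 2) K) q)) [Finite G]
    (hG : ∀ g ∈ G, ∀ (k : K) (z : HomogeneousLocalization.Away (MvPolynomial.homogeneousSubmodule (Fin 2) K) q), g (k • z) = k • g z) :
    (∀ g ∈ G, g ^ 2 = 1) ∧ Nat.card G ≤ 4 := by
  exact main K hK q hq hirr hdisc G hG

end Groth.Agent.S15179
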