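import Groth.Statements.S15183
import Mathlib
import Groth.Agent.Lib.helper22.RootsOfUnity

set_option autoImplicit false
universe u v
open Polynomial
open BddFin

namespace Groth.Agent.S15183

section Helpers

open Groth.Agent.Lib.helper22.RootsOfUnity

theorem main
    (K : Type u) [Field K] (hK : ∀ n : ℕ, 0 < n → (X ^ n - 1 : K[X]).Splits)
    (A : Type v) [Ring A] [Algebra K A] [Algebra.IsCentral K A] [IsSimpleRing A] [FiniteDimensional K A]
    (hA : ∃ y : A, y ≠ 0 ∧ ¬ IsUnit y) (d : ℕ) (hd : 0 < d) (hdK : (d : K) ≠ 0) :
    ∃ x : A, IsUnit x ∧ x ^ d ∈ (algebraMap K A).range ∧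
      ∀ k : ℕ, 0 < k → k < d → x ^ k ∉ (algebraMap K A).range := by
  classical
  obtain ⟨ζ, hζ⟩ := exists_isPrimitiveRoot_of_splits d hd hdK (hK d hd)
  haveI : IsArtinianRing A := IsArtinianRing.of_finite K A
  obtain ⟨n, hn, D, _, _, _, ⟨e⟩⟩ := IsSimpleRing.exists_algEquiv_matrix_divisionRing_finite K A
  obtain ⟨y, hy0, hyu⟩ := hA
  rcases n with _ | _ | n
  · exact absurd rfl hn.out
  · -- n = 1 : every nonzero element is a unit
    exfalso
    apply hyu
    haveI : Subsingleton (Fin (0 + 1)) := by rw [Nat.zero_add]; infer_instance
    have hy' : e y ≠ 0 := by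
      intro h; exact hy0 (e.injective (h.trans (map_zero e).symm))
    have h00 : e y 0 0 ≠ 0 := by
      intro h
      apply hy'
      ext i j
      rw [Subsingleton.elim i 0, Subsingleton.elim j 0, h]; rfl
    have hunit : IsUnit (e y) := by
      refine ⟨⟨e y, Matrix.of fun _ _ => (e y 0 0)⁻¹, ?_, ?_⟩, rfl⟩
      · ext i j
        rw [Subsingleton.elim i 0, Subsingleton.elim j 0]
        simp [Matrix.mul_apply, mul_inv_cancel₀ h00]
      · ext i j
        rw [Subsingleton.elim i 0, Subsingleton.elim j 0]
        simp [Matrix.mul_apply, inv_mul_cancel₀ h00]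
    have := hunit.map e.symm
    simpa using this
  · -- n + 2
    let ζD : D := algebraMap K D ζ
    let f : Fin (n + 2) → D := fun i => if i = 0 then ζD else 1
    let M : Matrix (Fin (n + 2)) (Fin (n + 2)) D := Matrix.diagonal f
    have hMpow : ∀ k : ℕ, M ^ k = Matrix.diagonal (fun i => if i = 0 then ζD ^ k else 1) := by
      intro k
      rw [Matrix.diagonal_pow]
      congr 1
      ext i
      simp only [Pi.pow_apply, f]
      split_ifs <;> simp
    have hMd : M ^ d = 1 := by
      rw [hMpow, ← Matrix.diagonal_one]
      congr 1
      ext i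
      simp only [ζD, ← map_pow, hζ.pow_eq_one, map_one]
      split_ifs <;> rfl
    refine ⟨e.symm M, ?_, ?_, ?_⟩
    · apply IsUnit.of_pow_eq_one (n := d) _ hd.ne'
      rw [← map_pow, hMd, map_one]
    · refine ⟨1, ?_⟩
      rw [map_one, ← map_pow, hMd, map_one]
    · intro k hk hkd ⟨c, hc⟩
      have h1 : algebraMap K _ c = M ^ k := by
        have := congrArg e hc
        rw [← map_pow, e.apply_symm_apply, e.commutes] at this
        exact this
      rw [hMpow, Matrix.algebraMap_eq_diagonal] at h1
      have h2 := Matrix.diagonal_injective h1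
      have h3 := congrFun h2 0
      have h4 := congrFun h2 1
      simp only [Pi.algebraMap_apply, if_true] at h3 h4
      rw [if_neg (by simp)] at h4
      rw [h4] at h3
      have h5 : ζ ^ k = 1 := by
        apply (algebraMap K D).injective
        rw [map_pow, map_one]; exact h3.symm
      exact (hζ.pow_ne_one_of_pos_of_lt hk.ne' hkd) h5

end Helpers

/-- Let K be a field such that K contains all roots of unity (for every n ≥ 1 the polynomial X^n − 1
splits into linear factors over K), and A a finite-dimensional central simple K-algebra which is not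
a division algebra (some non-zero element is not a unit). Then the quotient of the unit group of A
by that of K has elements of every finite order invertible in K: for every d ≥ 1 with d ≠ 0 in K
there is a unit x of A with x ^ d in K and x ^ k not in K for 0 < k < d. (The published assertion is
phrased for the automorphism group of the Severi–Brauer variety of A, which is isomorphic to the
units of A modulo those of K; this row is the algebra-side statement its proof establishes.) -/
theorem result
    (K : Type u) [Field K] (hK : ∀ n : ℕ, 0 < n → (X ^ n - 1 : K[X]).Splits)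
    (A : Type v) [Ring A] [Algebra K A] [Algebra.IsCentral K A] [IsSimpleRing A] [FiniteDimensional K A]
    (hA : ∃ y : A, y ≠ 0 ∧ ¬ IsUnit y) (d : ℕ) (hd : 0 < d) (hdK : (d : K) ≠ 0) :
    ∃ x : A, IsUnit x ∧ x ^ d ∈ (algebraMap K A).range ∧
      ∀ k : ℕ, 0 < k → k < d → x ^ k ∉ (algebraMap K A).range := by
  exact main K hK A hA d hd hdK

end Groth.Agent.S15183
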