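import Groth.Statements.S15184
import Mathlib
import Groth.Agent.S15171
import Groth.Agent.Lib.helper22.SubfieldDegree
import Groth.Agent.Lib.helper22.DivAlg

set_option autoImplicit false
universe u v
open BddFin

namespace Groth.Agent.S15184

section Helpers

open Polynomial Groth.Agent.Lib.helper22.SimpleDim Groth.Agent.Lib.helper22.DivAlg

section basic
variable (K : Type u) [Field K] (p : ℕ) [Fact p.Prime]
    (A : Type v) [DivisionRing A] [Algebra K A] [Algebra.IsCentral K A] [FiniteDimensional K A]
    (hA : Module.finrank K A = p ^ 2)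

include hA in
theorem exists_not_mem_range : ∃ x : A, x ∉ (algebraMap K A).range := by
  by_contra hcon
  push_neg at hcon
  have hp : p.Prime := Fact.out
  have h1 : (⊥ : Subalgebra K A) = ⊤ := by
    apply le_antisymm le_top
    intro x _
    rw [Algebra.mem_bot]
    exact hcon x
  rw [Subalgebra.bot_eq_top_iff_finrank_eq_one, hA] at h1
  have : 1 < p ^ 2 := Nat.one_lt_pow (by norm_num) hp.one_lt
  omega

include hA in
theorem natDegree_minpoly_eq (x : A) (hx : x ∉ (algebraMap K A).range) :
    (minpoly K x).natDegree = p := by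
  have hp : p.Prime := Fact.out
  have h := natDegree_minpoly_dvd K A p hA x
  rcases (Nat.dvd_prime hp).mp h with h1 | h1
  · exfalso
    exact hx (minpoly.natDegree_eq_one_iff.mp h1)
  · exact h1

include hA in
theorem not_separable_of_pow_mem [CharP K p] (w : A) (hw : w ∉ (algebraMap K A).range)
    (hwp : w ^ p ∈ (algebraMap K A).range) : ¬ IsSeparable K w := by
  have hp : p.Prime := Fact.out
  obtain ⟨c, hc⟩ := hwp
  intro hsep
  have hdeg := natDegree_minpoly_eq K p A hA w hw
  have hint : IsIntegral K w := Algebra.IsIntegral.isIntegral w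
  have hdvd : minpoly K w ∣ X ^ p - C c := by
    apply minpoly.dvd
    simp [hc]
  have heq : X ^ p - C c = minpoly K w :=
    Polynomial.eq_of_monic_of_dvd_of_natDegree_le (minpoly.monic hint)
      (monic_X_pow_sub_C c hp.ne_zero) hdvd (by rw [natDegree_X_pow_sub_C, hdeg])
  have hs : (X ^ p - C c : K[X]).Separable := heq ▸ hsep
  have hder : derivative (X ^ p - C c : K[X]) = 0 := by
    rw [derivative_sub, derivative_C, derivative_X_pow, sub_zero]
    rw [CharP.cast_eq_zero K p, map_zero, zero_mul]
  rw [Polynomial.separable_def, hder, isCoprime_zero_right] at hs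
  have := natDegree_eq_zero_of_isUnit hs
  rw [natDegree_X_pow_sub_C] at this
  exact hp.ne_zero this

include hA in
theorem mem_adjoin_of_commute (x w : A) (hx : x ∉ (algebraMap K A).range) (hxw : w * x = x * w) :
    w ∈ Algebra.adjoin K {x} := by
  have hp : p.Prime := Fact.out
  have h1 := finrank_adjoin_singleton hp hA x hx
  have hle : Algebra.adjoin K {x} ≤ Algebra.adjoin K {x, w} :=
    Algebra.adjoin_mono (by intro a ha; rw [Set.mem_singleton_iff] at ha; subst ha; simp)
  have hxS : x ∈ Algebra.adjoin K {x, w} := Algebra.subset_adjoin (by simp)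
  have hwS : w ∈ Algebra.adjoin K {x, w} := Algebra.subset_adjoin (by simp)
  rcases finrank_eq_one_or_prime_or_sq hp hA (Algebra.adjoin K {x, w}) with h | h | h
  · exfalso
    rw [Subalgebra.finrank_eq_one_iff] at h
    rw [h, Algebra.mem_bot] at hxS
    exact hx hxS
  · have heq : Subalgebra.toSubmodule (Algebra.adjoin K {x}) =
        Subalgebra.toSubmodule (Algebra.adjoin K {x, w}) := by
      apply Submodule.eq_of_le_of_finrank_eq
      · exact hle
      · show Module.finrank K (Algebra.adjoin K {x}) = Module.finrank K (Algebra.adjoin K {x, w})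
        rw [h1, h]
    have : w ∈ Subalgebra.toSubmodule (Algebra.adjoin K {x, w}) := hwS
    rw [← heq] at this
    exact this
  · exfalso
    have htop := eq_top_of_finrank_eq (Algebra.adjoin K {x, w}) (h.trans hA.symm)
    apply hx
    apply mem_range_of_forall_commute
    intro y
    have hy : y ∈ Algebra.adjoin K {x, w} := by rw [htop]; exact Algebra.mem_top
    exact commute_of_mem_adjoin_pair x w x rfl hxw y hy

include hA in
theorem exists_of_splits [CharP K p] (x : A) (hx : x ∉ (algebraMap K A).range)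
    (hsep : IsSeparable K x)
    (hirr : Irreducible (minpoly K x))
    (hsp : ((minpoly K x).map (algebraMap K (AdjoinRoot (minpoly K x)))).Splits) :
    ∃ v : A, ¬ IsSeparable K v := by
  have hint : IsIntegral K x := Algebra.IsIntegral.isIntegral x
  haveI : Fact (Irreducible (minpoly K x)) := ⟨hirr⟩
  let ι : AdjoinRoot (minpoly K x) →ₐ[K] A :=
    Ideal.Quotient.liftₐ (Ideal.span {minpoly K x}) (Polynomial.aeval x) (by
      intro q hq
      obtain ⟨c, rfl⟩ := Ideal.mem_span_singleton.mp hq
      rw [map_mul, minpoly.aeval, zero_mul])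
  have hL : Module.finrank K (AdjoinRoot (minpoly K x)) = p := by
    rw [← natDegree_minpoly_eq K p A hA x hx]
    exact finrank_quotient_span_eq_natDegree
  haveI : IsSplittingField K (AdjoinRoot (minpoly K x)) (minpoly K x) := by
    refine ⟨hsp, ?_⟩
    rw [eq_top_iff, ← AdjoinRoot.adjoinRoot_eq_top]
    apply Algebra.adjoin_mono
    intro a ha
    rw [Set.mem_singleton_iff] at ha
    subst ha
    rw [mem_rootSet]
    refine ⟨minpoly.ne_zero hint, ?_⟩
    rw [AdjoinRoot.aeval_eq]
    exact AdjoinRoot.mk_self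
  haveI : IsGalois K (AdjoinRoot (minpoly K x)) :=
    IsGalois.of_separable_splitting_field (p := minpoly K x) hsep
  exact Groth.Agent.S15171.result K p A hA (AdjoinRoot (minpoly K x)) hL ι

end basic



theorem splits_of_isRoot {F : Type*} [Field F] (P : F[X]) (a : F) (ha : P.IsRoot a)
    (h : (P /ₘ (X - C a)).Splits) : P.Splits := by
  rw [← mul_divByMonic_eq_iff_isRoot.mpr ha]
  exact (Splits.X_sub_C a).mul h

theorem natDegree_divByMonic_X_sub_C {F : Type*} [Field F] (P : F[X]) (a : F) :
    (P /ₘ (X - C a)).natDegree = P.natDegree - 1 := by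
  rw [natDegree_divByMonic _ (monic_X_sub_C a), natDegree_X_sub_C]

theorem splits_two {F : Type*} [Field F] (P : F[X]) (hP : P.natDegree = 2) (a : F)
    (ha : P.IsRoot a) : P.Splits := by
  apply splits_of_isRoot P a ha
  apply Splits.of_natDegree_le_one
  rw [natDegree_divByMonic_X_sub_C, hP]

theorem splits_three {F : Type*} [Field F] (P : F[X]) (hP : P.natDegree = 3) (a b : F)
    (ha : P.IsRoot a) (hb : P.IsRoot b) (hab : b ≠ a) : P.Splits := by
  apply splits_of_isRoot P a ha
  have hb' : (P /ₘ (X - C a)).IsRoot b := by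
    have h1 := mul_divByMonic_eq_iff_isRoot.mpr ha
    have h2 : eval b P = 0 := hb
    rw [← h1, eval_mul, eval_sub, eval_X, eval_C] at h2
    rcases mul_eq_zero.mp h2 with h | h
    · exact absurd (sub_eq_zero.mp h) hab
    · exact h
  apply splits_two _ _ b hb'
  rw [natDegree_divByMonic_X_sub_C, hP]


section cubic
variable {K : Type u} [Field K] {A : Type v} [Ring A] [Algebra K A]

theorem cubic1 (x x' : A) (c₂ c₁ c₀ : K) :
    (x' - x) * x' * x' + (x + c₂ • 1) * ((x' - x) * x') + (x * x + c₂ • x + c₁ • 1) * (x' - x) =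
      (x' ^ 3 + c₂ • x' ^ 2 + c₁ • x' + c₀ • 1) - (x ^ 3 + c₂ • x ^ 2 + c₁ • x + c₀ • 1) := by
  simp only [pow_succ, pow_zero, one_mul, mul_add, add_mul, mul_sub, sub_mul, smul_mul_assoc,
    mul_smul_comm, mul_one, one_mul, smul_sub, smul_add, mul_assoc]
  abel

theorem cubic2 (x x₂ : A) (c₂ c₁ : K) :
    (x * x₂ - x₂ * x) * x₂ - (-(c₂ • (1 : A)) - x - x₂) * (x * x₂ - x₂ * x) =
      x * (x₂ * x₂ + (x + c₂ • 1) * x₂ + (x * x + c₂ • x + c₁ • 1)) -
        (x₂ * x₂ + (x + c₂ • 1) * x₂ + (x * x + c₂ • x + c₁ • 1)) * x := by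
  simp only [mul_add, add_mul, mul_sub, sub_mul, smul_mul_assoc, neg_mul, mul_neg,
    mul_smul_comm, mul_one, one_mul, smul_sub, smul_add, mul_assoc]
  abel

theorem cubic3 (x x₂ : A) (c₂ c₁ : K) :
    (x * x₂ - x₂ * x) * (-(c₂ • (1 : A)) - x - x₂) - x * (x * x₂ - x₂ * x) =
      x₂ * (x₂ * x₂ + (x + c₂ • 1) * x₂ + (x * x + c₂ • x + c₁ • 1)) -
        (x₂ * x₂ + (x + c₂ • 1) * x₂ + (x * x + c₂ • x + c₁ • 1)) * x₂ := by
  simp only [mul_add, add_mul, mul_sub, sub_mul, smul_mul_assoc, neg_mul, mul_neg,
    mul_smul_comm, mul_one, one_mul, smul_sub, smul_add, mul_assoc]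
  abel

end cubic


section main
variable (K : Type u) [Field K] (p : ℕ) [Fact p.Prime]
    (A : Type v) [DivisionRing A] [Algebra K A] [Algebra.IsCentral K A] [FiniteDimensional K A]

theorem semiconj_aeval (y x x' : A) (h : y * x = x' * y) (q : K[X]) :
    y * Polynomial.aeval x q = Polynomial.aeval x' q * y := by
  induction q using Polynomial.induction_on' with
  | add q₁ q₂ h₁ h₂ => rw [map_add, map_add, mul_add, add_mul, h₁, h₂]
  | monomial n c =>
    have hs : SemiconjBy y x x' := h
    have hn : y * x ^ n = x' ^ n * y := hs.pow_right n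
    rw [Polynomial.aeval_monomial, Polynomial.aeval_monomial, ← mul_assoc,
      ← Algebra.commutes c y, mul_assoc, hn, mul_assoc]

theorem aeval_cubic (f : K[X]) (hf : f.Monic) (hdeg : f.natDegree = 3) (u : A) :
    Polynomial.aeval u f = u ^ 3 + f.coeff 2 • u ^ 2 + f.coeff 1 • u + f.coeff 0 • 1 := by
  rw [Polynomial.aeval_eq_sum_range, hdeg]
  have h3 : f.coeff 3 = 1 := by rw [← hdeg]; exact hf.coeff_natDegree
  simp only [Finset.sum_range_succ, Finset.sum_range_zero, zero_add, pow_zero, pow_one, h3,
    one_smul]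
  abel

theorem aeval_derivative_cubic (f : K[X]) (hf : f.Monic) (hdeg : f.natDegree = 3) (u : A) :
    Polynomial.aeval u (derivative f) =
      u * u + (u + f.coeff 2 • 1) * u + (u * u + f.coeff 2 • u + f.coeff 1 • 1) := by
  have h3 : f.coeff 3 = 1 := by rw [← hdeg]; exact hf.coeff_natDegree
  have hfe : f = X ^ 3 + C (f.coeff 2) * X ^ 2 + C (f.coeff 1) * X + C (f.coeff 0) := by
    conv_lhs => rw [f.as_sum_range, hdeg]
    simp only [Finset.sum_range_succ, Finset.sum_range_zero, zero_add, h3]
    simp only [← C_mul_X_pow_eq_monomial, pow_zero, pow_one, mul_one, map_one, one_mul]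
    abel
  rw [hfe]
  simp only [derivative_add, derivative_mul, derivative_C, derivative_X_pow, derivative_X,
    zero_mul, zero_add, mul_one, map_add, map_mul, map_pow, aeval_X, aeval_C, add_zero]
  simp only [Algebra.algebraMap_eq_smul_one, coeff_add, coeff_X_pow, coeff_C_mul, coeff_C,
    coeff_X]
  norm_num
  simp only [pow_succ, pow_zero, one_mul, add_mul, smul_mul_assoc, mul_add, mul_smul_comm, mul_one,
    one_mul]
  module

theorem exists_embedding (x : A) :
    ∃ ι : AdjoinRoot (minpoly K x) →ₐ[K] A, ∀ q, ι (AdjoinRoot.mk _ q) = Polynomial.aeval x q :=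
  ⟨Ideal.Quotient.liftₐ (Ideal.span {minpoly K x}) (Polynomial.aeval x) (by
      intro q hq
      obtain ⟨c, rfl⟩ := Ideal.mem_span_singleton.mp hq
      rw [map_mul, minpoly.aeval, zero_mul]), fun _ => rfl⟩

theorem case_two [CharP K 2] [Fact (Nat.Prime 2)] (hA : Module.finrank K A = 2 ^ 2)
    (hall : ∀ v : A, IsSeparable K v) : False := by
  obtain ⟨x, hx⟩ := exists_not_mem_range K 2 A hA
  have hint : IsIntegral K x := Algebra.IsIntegral.isIntegral x
  have hirr : Irreducible (minpoly K x) := minpoly.irreducible hint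
  have hdeg := natDegree_minpoly_eq K 2 A hA x hx
  haveI : Fact (Irreducible (minpoly K x)) := ⟨hirr⟩
  have hsp : ((minpoly K x).map (algebraMap K (AdjoinRoot (minpoly K x)))).Splits := by
    apply splits_two _ (by rw [natDegree_map, hdeg]) (AdjoinRoot.root _)
    rw [IsRoot, eval_map_algebraMap, AdjoinRoot.aeval_eq]
    exact AdjoinRoot.mk_self
  obtain ⟨v, hv⟩ := exists_of_splits K 2 A hA x hx (hall x) hirr hsp
  exact hv (hall v)

theorem case_three [CharP K 3] [Fact (Nat.Prime 3)] (hA : Module.finrank K A = 3 ^ 2)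
    (hall : ∀ v : A, IsSeparable K v) : False := by
  have hp3 : Nat.Prime 3 := Fact.out
  obtain ⟨x, hx⟩ := exists_not_mem_range K 3 A hA
  have hint : IsIntegral K x := Algebra.IsIntegral.isIntegral x
  have hirr : Irreducible (minpoly K x) := minpoly.irreducible hint
  have hmonic : (minpoly K x).Monic := minpoly.monic hint
  have hdeg := natDegree_minpoly_eq K 3 A hA x hx
  haveI : Fact (Irreducible (minpoly K x)) := ⟨hirr⟩
  set f := minpoly K x with hf
  set c₂ := f.coeff 2 with hc₂
  set c₁ := f.coeff 1 with hc₁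
  set c₀ := f.coeff 0 with hc₀
  have hFx : Polynomial.aeval x f = 0 := minpoly.aeval K x
  -- a non-commuting element
  obtain ⟨y, hy⟩ : ∃ y : A, y * x ≠ x * y := by
    by_contra hcon
    push_neg at hcon
    exact hx (mem_range_of_forall_commute x hcon)
  have hy0 : y ≠ 0 := by
    rintro rfl
    simp at hy
  set x' := y * x * y⁻¹ with hx'
  have hsemi1 : y * x = x' * y := by
    rw [hx', mul_assoc, inv_mul_cancel₀ hy0, mul_one]
  have hFx' : Polynomial.aeval x' f = 0 := by
    have h := semiconj_aeval K A y x x' hsemi1 f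
    rw [hFx, mul_zero] at h
    rcases mul_eq_zero.mp h.symm with h | h
    · exact h
    · exact absurd h hy0
  set t := x' - x with ht
  have ht0 : t ≠ 0 := by
    intro h0
    have hxx : x' = x := sub_eq_zero.mp h0
    rw [hxx] at hsemi1
    exact hy hsemi1
  set x₂ := t * x' * t⁻¹ with hx₂
  have hsemi2 : t * x' = x₂ * t := by
    rw [hx₂, mul_assoc, inv_mul_cancel₀ ht0, mul_one]
  have hFx₂ : Polynomial.aeval x₂ f = 0 := by
    have h := semiconj_aeval K A t x' x₂ hsemi2 f
    rw [hFx', mul_zero] at h
    rcases mul_eq_zero.mp h.symm with h | h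
    · exact h
    · exact absurd h ht0
  -- the key relation (*)
  set E := x₂ * x₂ + (x + c₂ • 1) * x₂ + (x * x + c₂ • x + c₁ • 1) with hE
  have hE0 : E = 0 := by
    have h1 : E * t = (x' - x) * x' * x' + (x + c₂ • 1) * ((x' - x) * x')
        + (x * x + c₂ • x + c₁ • 1) * (x' - x) := by
      rw [hE, add_mul, add_mul, mul_assoc x₂ x₂ t, ← hsemi2, ← mul_assoc x₂ t x', ← hsemi2,
        mul_assoc (x + c₂ • 1) x₂ t, ← hsemi2]
    rw [cubic1 x x' c₂ c₁ c₀, ← aeval_cubic K A f hmonic hdeg, ← aeval_cubic K A f hmonic hdeg,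
      hFx, hFx', sub_zero] at h1
    rcases mul_eq_zero.mp h1 with h | h
    · exact h
    · exact absurd h ht0
  set z := x * x₂ - x₂ * x with hz
  set x₃ := -(c₂ • (1 : A)) - x - x₂ with hx₃
  have hz2 : z * x₂ = x₃ * z := by
    have := cubic2 x x₂ c₂ c₁
    rw [← hE, hE0, mul_zero, zero_mul, sub_zero] at this
    exact sub_eq_zero.mp this
  have hz3 : z * x₃ = x * z := by
    have := cubic3 x x₂ c₂ c₁
    rw [← hE, hE0, mul_zero, zero_mul, sub_zero] at this
    exact sub_eq_zero.mp this
  have hz1 : z * x = x₂ * z := by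
    have hxe : x = -(c₂ • (1 : A)) - x₂ - x₃ := by rw [hx₃]; abel
    have h2 : x₂ = -(c₂ • (1 : A)) - x - x₃ := by rw [hx₃]; abel
    calc z * x = z * (-(c₂ • (1 : A)) - x₂ - x₃) := by rw [← hxe]
      _ = -(c₂ • z) - z * x₂ - z * x₃ := by
          simp only [mul_sub, mul_neg, mul_smul_comm, mul_one]
      _ = -(c₂ • z) - x₃ * z - x * z := by rw [hz2, hz3]
      _ = (-(c₂ • (1 : A)) - x - x₃) * z := by
          simp only [sub_mul, neg_mul, smul_mul_assoc, one_mul]; abel
      _ = x₂ * z := by rw [← h2]
  by_cases hz0 : z = 0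
  · -- x₂ commutes with x
    have hcomm : x₂ * x = x * x₂ := (sub_eq_zero.mp hz0).symm
    have hne : x₂ ≠ x := by
      intro heq
      have hder : Polynomial.aeval x (derivative f) = 0 := by
        rw [aeval_derivative_cubic K A f hmonic hdeg, ← hE0, hE, heq]
      have hsep : f.Separable := hall x
      have hd0 : derivative f ≠ 0 := by
        intro h0
        rw [Polynomial.separable_def, h0, isCoprime_zero_right] at hsep
        exact minpoly.not_isUnit K x hsep
      have h1 := minpoly.degree_le_of_ne_zero K x hd0 hder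
      have h2 := Polynomial.degree_derivative_lt (minpoly.ne_zero hint)
      exact absurd h1 (not_le.2 h2)
    have hmem := mem_adjoin_of_commute K 3 A hA x x₂ hx hcomm
    rw [Algebra.adjoin_singleton_eq_range_aeval] at hmem
    obtain ⟨q, hq⟩ := hmem
    obtain ⟨ι, hι⟩ := exists_embedding K A x
    have hιinj : Function.Injective ι := (ι : AdjoinRoot (minpoly K x) →+* A).injective
    set ξ : AdjoinRoot (minpoly K x) := AdjoinRoot.mk _ q with hξ
    have hιξ : ι ξ = x₂ := by rw [hξ, hι]; exact hq
    have hιroot : ι (AdjoinRoot.root _) = x := by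
      have := hι X
      rwa [aeval_X] at this
    have hsp : ((minpoly K x).map (algebraMap K (AdjoinRoot (minpoly K x)))).Splits := by
      apply splits_three _ (by rw [natDegree_map]; exact hdeg) (AdjoinRoot.root _) ξ
      · rw [IsRoot, eval_map_algebraMap, AdjoinRoot.aeval_eq]
        exact AdjoinRoot.mk_self
      · rw [IsRoot, eval_map_algebraMap]
        apply hιinj
        rw [← Polynomial.aeval_algHom_apply, hιξ, map_zero]
        exact hFx₂
      · intro h
        apply hne
        rw [← hιξ, h, hιroot]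
    obtain ⟨v, hv⟩ := exists_of_splits K 3 A hA x hx (hall x) hirr hsp
    exact hv (hall v)
  · -- z is purely inseparable
    have hzx : x * z ≠ z * x := by
      intro h
      rw [hz1] at h
      have hxx : x = x₂ := mul_right_cancel₀ hz0 h
      apply hz0
      rw [hz, ← hxx, sub_self]
    have hz3x : x * z ^ 3 = z ^ 3 * x := by
      have e1 : z ^ 3 * x = z * (z * (z * x)) := by
        rw [pow_succ, pow_succ, pow_one]; simp only [mul_assoc]
      rw [e1, hz1, ← mul_assoc z x₂ z, hz2, mul_assoc x₃ z z, ← mul_assoc z x₃ (z * z), hz3]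
      rw [pow_succ, pow_succ, pow_one]; simp only [mul_assoc]
    have htop := adjoin_pair_eq_top hp3 hA x z hzx
    have hcen : z ^ 3 ∈ (algebraMap K A).range := by
      apply mem_range_of_forall_commute
      intro a
      have ha : a ∈ Algebra.adjoin K {x, z} := by rw [htop]; exact Algebra.mem_top
      exact commute_of_mem_adjoin_pair x z (z ^ 3) hz3x (by rw [← pow_succ', ← pow_succ]) a ha
    have hzK : z ∉ (algebraMap K A).range := by
      rintro ⟨k, hk⟩
      apply hzx
      rw [← hk]
      exact (Algebra.commutes k x).symm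
    exact not_separable_of_pow_mem K 3 A hA z hzK hcen (hall z)

theorem main' [CharP K p]
    (hA : Module.finrank K A = p ^ 2) (hp : p = 2 ∨ p = 3) :
    ∃ v : A, ¬ IsSeparable K v := by
  by_contra hcon
  push_neg at hcon
  rcases hp with rfl | rfl
  · exact case_two K A hA hcon
  · exact case_three K A hA hcon

end main

end Helpers

/-- Let K be a field with char K = p > 0 and A a central division K-algebra with dim_K A = p ^ 2. If p =
2 or p = 3, then some element of A is not separable over K. -/
theorem result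
    (K : Type u) [Field K] (p : ℕ) [Fact p.Prime] [CharP K p]
    (A : Type v) [DivisionRing A] [Algebra K A] [Algebra.IsCentral K A] [FiniteDimensional K A]
    (hA : Module.finrank K A = p ^ 2) (hp : p = 2 ∨ p = 3) :
    ∃ v : A, ¬ IsSeparable K v := by
  exact main' K p A hA hp

end Groth.Agent.S15184
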