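import Groth.Statements.S15185
import Mathlib
import Groth.Agent.S15168

set_option autoImplicit false
universe u v
open Polynomial
open BddFin

namespace Groth.Agent.S15185

section Helpers

open TensorProduct

/-- the size of the splitting matrix algebra -/
theorem size_eq (K : Type u) [Field K] (A : Type v) [Ring A] [Algebra K A] [FiniteDimensional K A]
    (K' : Type u) [Field K'] [Algebra K K'] (n n₁ : ℕ) (hA : Module.finrank K A = n ^ 2)
    (φ : K' ⊗[K] A ≃ₐ[K'] Matrix (Fin n₁) (Fin n₁) K') : n₁ = n := by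
  have h1 : Module.finrank K' (K' ⊗[K] A) = n ^ 2 := by
    rw [Module.finrank_baseChange, hA]
  have h2 : Module.finrank K' (Matrix (Fin n₁) (Fin n₁) K') = n₁ ^ 2 := by
    rw [Module.finrank_matrix]; simp [pow_two]
  have h3 := φ.toLinearEquiv.finrank_eq
  rw [h1, h2] at h3
  exact (Nat.pow_left_injective (n := 2) (by norm_num) h3).symm

/-- `N y ^ q = c ^ n` if `y ^ q = c` -/
theorem redNorm_pow (K : Type u) [Field K] (A : Type v) [Ring A] [Algebra K A]
    (K' : Type u) [Field K'] [Algebra K K'] (n : ℕ)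
    (φ : K' ⊗[K] A ≃ₐ[K'] Matrix (Fin n) (Fin n) K') (y : A) (q : ℕ) (c : K)
    (hy : y ^ q = algebraMap K A c) :
    Matrix.det (φ (1 ⊗ₜ[K] y)) ^ q = algebraMap K K' c ^ n := by
  rw [← Matrix.det_pow, ← map_pow, Algebra.TensorProduct.tmul_pow, one_pow, hy]
  have h1 : (1 : K') ⊗ₜ[K] (algebraMap K A c) = algebraMap K' (K' ⊗[K] A) (algebraMap K K' c) := by
    rw [Algebra.TensorProduct.algebraMap_apply, Algebra.algebraMap_eq_smul_one (A := A),
      TensorProduct.tmul_smul, TensorProduct.smul_tmul']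
    congr 1
    simp [Algebra.smul_def]
  rw [h1, AlgEquiv.commutes, Matrix.algebraMap_eq_diagonal, Matrix.det_diagonal]
  simp

/-- roots of unity of order prime to `p` are `p^m`-th powers -/
theorem exists_pow_eq (K : Type u) [Field K] (q n' : ℕ) (hcop : Nat.Coprime q n') (ζ : K)
    (hζ : ζ ^ n' = 1) : ∃ ξ : K, ξ ^ q = ζ := by
  rcases Nat.lt_or_ge 1 n' with h1 | h1
  · obtain ⟨u, -, hu⟩ := Nat.exists_mul_mod_eq_one_of_coprime hcop h1
    refine ⟨ζ ^ u, ?_⟩
    rw [← pow_mul, mul_comm, pow_eq_pow_mod _ hζ, hu, pow_one]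
  · interval_cases n'
    · simp at hcop
      subst hcop
      exact ⟨ζ, pow_one _⟩
    · rw [pow_one] at hζ
      exact ⟨1, by rw [one_pow, hζ]⟩

theorem main
    (K : Type u) [Field K] (p : ℕ) [Fact p.Prime] [CharP K p] (hK : ∀ n : ℕ, 0 < n → (X ^ n - 1 : K[X]).Splits)
    (A : Type v) [DivisionRing A] [Algebra K A] [Algebra.IsCentral K A] [FiniteDimensional K A]
    (n n' m : ℕ) (hA : Module.finrank K A = n ^ 2) (hn : n = n' * p ^ m) (hn' : ¬ p ∣ n')
    (N : A →* K) (hN : CSAGal.IsRedNorm K A N)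
    (x : A) (hx : x ≠ 0) (hxr : ∃ r : ℕ, 0 < r ∧ x ^ r ∈ (algebraMap K A).range)
    (hNx : ∃ b : K, b ≠ 0 ∧ N x = b ^ (p ^ m)) :
    x ^ n' ∈ (algebraMap K A).range := by
  obtain ⟨K', _, _, _, n₁, φ, hφ⟩ := hN
  obtain ⟨b, hb0, hb⟩ := hNx
  have hn₁ : n₁ = n := size_eq K A K' n n₁ hA φ
  subst hn₁
  obtain ⟨c, hc⟩ := Groth.Agent.S15168.result K hK A n₁ hA x hxr
  have hp : p.Prime := Fact.out
  set y := x ^ n' with hy
  have hyq : y ^ (p ^ m) = algebraMap K A c := by
    rw [hy, ← pow_mul, ← hn, hc]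
  have h1 := redNorm_pow K A K' n₁ φ y (p ^ m) c hyq
  rw [← hφ, ← map_pow, ← map_pow] at h1
  have h2 : N y ^ (p ^ m) = c ^ n₁ := by
    apply (algebraMap K K').injective
    rw [map_pow (algebraMap K K') c, ← h1]
    exact congrArg _ (map_pow N y _).symm
  have h3 : N y = c ^ n' := by
    have : N y ^ (p ^ m) = (c ^ n') ^ (p ^ m) := by rw [h2, ← pow_mul, ← hn]
    exact (frobenius_inj K p).iterate m |> fun hinj => by
      apply hinj
      rw [iterate_frobenius, iterate_frobenius, this]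
  have h4 : N y = (b ^ (p ^ m)) ^ n' := by rw [hy, map_pow, hb]
  have hbq : b ^ (p ^ m) ≠ 0 := pow_ne_zero _ hb0
  set ζ := c / b ^ (p ^ m) with hζdef
  have hζ : ζ ^ n' = 1 := by
    rw [hζdef, div_pow, ← h3, h4, div_self (pow_ne_zero _ hbq)]
  have hcop : Nat.Coprime (p ^ m) n' := Nat.Coprime.pow_left m ((Nat.Prime.coprime_iff_not_dvd hp).mpr hn')
  obtain ⟨ξ, hξ⟩ := exists_pow_eq K (p ^ m) n' hcop ζ hζ
  have hcξ : c = (ξ * b) ^ (p ^ m) := by
    rw [mul_pow, hξ, hζdef, div_mul_cancel₀ _ hbq]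
  haveI : CharP A p := charP_of_injective_algebraMap (FaithfulSMul.algebraMap_injective K A) p
  have hcomm : Commute y (algebraMap K A (ξ * b)) := (Algebra.commutes _ _).symm
  have h5 : (y - algebraMap K A (ξ * b)) ^ (p ^ m) = 0 := by
    rw [sub_pow_char_pow_of_commute (p := p) (h := hcomm), hyq, hcξ, map_pow, sub_self]
  have h6 : y - algebraMap K A (ξ * b) = 0 := pow_eq_zero_iff (pow_ne_zero _ hp.ne_zero) |>.mp h5
  exact ⟨ξ * b, (sub_eq_zero.mp h6).symm⟩

end Helpers

/-- Let K be a field of characteristic p > 0 such that K contains all roots of unity (for every n ≥ 1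
the polynomial X^n − 1 splits into linear factors over K), A a central division algebra of dimension
n ^ 2 over K, and write n = n' · p ^ m with n' prime to p; let N be the reduced norm of A. Consider
the kernel of the homomorphism from the units of A modulo those of K to Kˣ/(Kˣ)^(p^m) induced by N.
Every element of finite order of that kernel has order dividing n': if x ≠ 0 in A has x ^ r in K for
some r ≥ 1 and N x is a (p ^ m)-th power of a non-zero element of K, then x ^ n' lies in K. -/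
theorem result
    (K : Type u) [Field K] (p : ℕ) [Fact p.Prime] [CharP K p] (hK : ∀ n : ℕ, 0 < n → (X ^ n - 1 : K[X]).Splits)
    (A : Type v) [DivisionRing A] [Algebra K A] [Algebra.IsCentral K A] [FiniteDimensional K A]
    (n n' m : ℕ) (hA : Module.finrank K A = n ^ 2) (hn : n = n' * p ^ m) (hn' : ¬ p ∣ n')
    (N : A →* K) (hN : CSAGal.IsRedNorm K A N)
    (x : A) (hx : x ≠ 0) (hxr : ∃ r : ℕ, 0 < r ∧ x ^ r ∈ (algebraMap K A).range)
    (hNx : ∃ b : K, b ≠ 0 ∧ N x = b ^ (p ^ m)) :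
    x ^ n' ∈ (algebraMap K A).range := by
  exact main K p hK A n n' m hA hn hn' N hN x hx hxr hNx

end Groth.Agent.S15185
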