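import Groth.Statements.S15224
import Mathlib

set_option autoImplicit false
open Finset
open W4c2rk2extmaps

namespace Groth.Agent.S15224

/-- In a commutative ℚ-algebra R let y be an element and put c_k = y^k / k! for every k. Then for k ≥ 2,
Σ_{i=1}^{k-1} (-1)^(i-1) c_i c_(k-i) + (-1)^(k-1) c_k = c_k. (The published statement concerns the
Chern classes of a specific vector bundle on a Jacobian, which are of the form c_k = (4θ)^k / k!;
the printed argument establishes the identity for every sequence of this form in a commutative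
ℚ-algebra, which is the form stated here.) -/
theorem result (R : Type*) [CommRing R] [Algebra ℚ R] (y : R)
    (c : ℕ → R) (hc : ∀ k : ℕ, c k = ((Nat.factorial k : ℚ)⁻¹) • y ^ k)
    (k : ℕ) (hk : 2 ≤ k) :
    (∑ i ∈ Finset.Ico 1 k, (-1 : R) ^ (i - 1) * c i * c (k - i)) + (-1 : R) ^ (k - 1) * c k = c k := by
  -- the rational identity
  have hq : (∑ i ∈ Finset.Ico 1 k, (-1 : ℚ) ^ (i - 1) * (k.choose i : ℚ)) + (-1 : ℚ) ^ (k - 1) = 1 := by
    have h0 := Int.alternating_sum_range_choose (n := k)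
    have hk0 : k ≠ 0 := by omega
    rw [if_neg hk0] at h0
    have h1 : (∑ m ∈ Finset.range (k + 1), ((-1 : ℚ) ^ m * (k.choose m : ℚ))) = 0 := by
      have := congrArg (Int.cast : ℤ → ℚ) h0
      push_cast at this
      exact this
    rw [Finset.sum_range_succ, Finset.range_eq_Ico, Finset.sum_eq_sum_Ico_succ_bot (by omega)] at h1
    simp only [pow_zero, Nat.choose_zero_right, Nat.cast_one, mul_one, Nat.choose_self, zero_add] at h1
    have h2 : ∑ i ∈ Finset.Ico 1 k, (-1 : ℚ) ^ (i - 1) * (k.choose i : ℚ)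
        = - ∑ i ∈ Finset.Ico 1 k, (-1 : ℚ) ^ i * (k.choose i : ℚ) := by
      rw [← Finset.sum_neg_distrib]
      apply Finset.sum_congr rfl
      intro i hi
      rw [Finset.mem_Ico] at hi
      obtain ⟨j, rfl⟩ : ∃ j, i = j + 1 := ⟨i - 1, by omega⟩
      simp [pow_succ]
    have h3 : (-1 : ℚ) ^ (k - 1) = - (-1 : ℚ) ^ k := by
      obtain ⟨j, rfl⟩ : ∃ j, k = j + 1 := ⟨k - 1, by omega⟩
      simp [pow_succ]
    rw [h2, h3]
    linarith
  have hfac : ∀ i, i ≤ k → ((Nat.factorial i : ℚ)⁻¹) * ((Nat.factorial (k - i) : ℚ)⁻¹)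
      = (k.choose i : ℚ) * ((Nat.factorial k : ℚ)⁻¹) := by
    intro i hi
    have h := Nat.choose_mul_factorial_mul_factorial hi
    have h' : (k.choose i : ℚ) * (Nat.factorial i : ℚ) * (Nat.factorial (k - i) : ℚ) = (Nat.factorial k : ℚ) := by
      exact_mod_cast h
    have hi0 : (Nat.factorial i : ℚ) ≠ 0 := by exact_mod_cast Nat.factorial_ne_zero i
    have hki0 : (Nat.factorial (k - i) : ℚ) ≠ 0 := by exact_mod_cast Nat.factorial_ne_zero (k - i)
    have hk0 : (Nat.factorial k : ℚ) ≠ 0 := by exact_mod_cast Nat.factorial_ne_zero k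
    field_simp
    linarith
  have key : ∀ i ∈ Finset.Ico 1 k, (-1 : R) ^ (i - 1) * c i * c (k - i)
      = (((-1 : ℚ) ^ (i - 1) * (k.choose i : ℚ)) * ((Nat.factorial k : ℚ)⁻¹)) • y ^ k := by
    intro i hi
    rw [Finset.mem_Ico] at hi
    calc (-1 : R) ^ (i - 1) * c i * c (k - i)
        = (-1 : R) ^ (i - 1) * (((k.choose i : ℚ) * ((Nat.factorial k : ℚ)⁻¹)) • y ^ k) := by
          rw [hc i, hc (k - i), mul_assoc, smul_mul_smul_comm, ← pow_add, Nat.add_sub_cancel' hi.2.le,
            hfac i hi.2.le]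
      _ = ((-1 : ℚ) ^ (i - 1)) • (((k.choose i : ℚ) * ((Nat.factorial k : ℚ)⁻¹)) • y ^ k) := by
          rw [Algebra.smul_def ((-1 : ℚ) ^ (i - 1))]
          simp
      _ = _ := by rw [← mul_smul, mul_assoc]
  have key2 : (-1 : R) ^ (k - 1) * c k = ((-1 : ℚ) ^ (k - 1) * ((Nat.factorial k : ℚ)⁻¹)) • y ^ k := by
    rw [hc k, mul_smul, Algebra.smul_def ((-1 : ℚ) ^ (k - 1))]
    simp
  rw [Finset.sum_congr rfl key, key2, ← Finset.sum_smul, ← Finset.sum_mul, ← add_smul, ← add_mul, hq, one_mul,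
    hc k]

end Groth.Agent.S15224
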