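import Groth.Statements.S15229
import Mathlib
import Groth.Agent.S15224

set_option autoImplicit false
open Finset
open W4c2rk2extmaps

namespace Groth.Agent.S15229

/-- In a commutative ℚ-algebra R let θ, η be elements and g a natural number, and put c_k = (4θ)^k / k!.
Suppose θ^(g+1) = 0 and that η satisfies the relation η^(g+1) = Σ_{i=1}^{g+1} (-1)^(i-1) c_i
η^(g+1-i). Then η^(g+k) θ^(g-k) = c_k η^g θ^(g-k) for every 1 ≤ k ≤ g. (The published statement
concerns the first Chern class η of the tautological line bundle on a projective bundle P(U) over a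
g-dimensional Jacobian, with c_k the Chern classes of U, which are (4θ)^k / k!; there θ^(g+1)
vanishes for dimension reasons and the displayed relation is the projective-bundle relation, and the
printed argument derives the identity from exactly these three inputs, which is the form stated
here.) -/
theorem result (R : Type*) [CommRing R] [Algebra ℚ R]
    (θ η : R) (g : ℕ) (c : ℕ → R) (hc : ∀ k : ℕ, c k = ((Nat.factorial k : ℚ)⁻¹) • ((4 : R) * θ) ^ k)
    (hθ : θ ^ (g + 1) = 0)
    (hrel : η ^ (g + 1) = ∑ i ∈ Finset.Ico 1 (g + 2), (-1 : R) ^ (i - 1) * c i * η ^ (g + 1 - i))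
    (k : ℕ) (hk1 : 1 ≤ k) (hkg : k ≤ g) :
    η ^ (g + k) * θ ^ (g - k) = c k * η ^ g * θ ^ (g - k) := by
  -- c_i is a multiple of θ^i
  have hca : ∀ i : ℕ, ∃ a : R, c i = a * θ ^ i := by
    intro i
    refine ⟨algebraMap ℚ R ((Nat.factorial i : ℚ)⁻¹) * 4 ^ i, ?_⟩
    rw [hc i, Algebra.smul_def, mul_pow, mul_assoc]
  choose a ha using hca
  -- the altsum identity
  have halt : ∀ k : ℕ, 1 ≤ k →
      (∑ i ∈ Finset.Ico 1 k, (-1 : R) ^ (i - 1) * c i * c (k - i)) + (-1 : R) ^ (k - 1) * c k = c k := by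
    intro k hk
    rcases Nat.lt_or_ge k 2 with h2 | h2
    · have : k = 1 := by omega
      subst this
      simp
    · exact Groth.Agent.S15224.result R ((4 : R) * θ) c hc k h2
  induction k using Nat.strong_induction_on with
  | _ k ih =>
    -- multiply the relation by η^(k-1) θ^(g-k)
    have h1 : η ^ (g + k) * θ ^ (g - k) =
        ∑ i ∈ Finset.Ico 1 (g + 2), (-1 : R) ^ (i - 1) * c i * η ^ (g + 1 - i) * (η ^ (k - 1) * θ ^ (g - k)) := by
      rw [← Finset.sum_mul, ← hrel, ← mul_assoc, ← pow_add]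
      congr 2
      omega
    rw [h1, ← Finset.sum_Ico_consecutive _ (show 1 ≤ k + 1 by omega) (show k + 1 ≤ g + 2 by omega)]
    have hz : ∑ i ∈ Finset.Ico (k + 1) (g + 2),
        (-1 : R) ^ (i - 1) * c i * η ^ (g + 1 - i) * (η ^ (k - 1) * θ ^ (g - k)) = 0 := by
      apply Finset.sum_eq_zero
      intro i hi
      rw [Finset.mem_Ico] at hi
      have : θ ^ i * θ ^ (g - k) = 0 := by
        rw [← pow_add]
        have : i + (g - k) = (g + 1) + (i - k - 1) := by omega
        rw [this, pow_add, hθ, zero_mul]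
      rw [ha i]
      calc (-1 : R) ^ (i - 1) * (a i * θ ^ i) * η ^ (g + 1 - i) * (η ^ (k - 1) * θ ^ (g - k))
          = (-1 : R) ^ (i - 1) * a i * η ^ (g + 1 - i) * η ^ (k - 1) * (θ ^ i * θ ^ (g - k)) := by ring
        _ = 0 := by rw [this, mul_zero]
    rw [hz, add_zero, Finset.sum_Ico_succ_top hk1]
    have hterms : ∀ i ∈ Finset.Ico 1 k,
        (-1 : R) ^ (i - 1) * c i * η ^ (g + 1 - i) * (η ^ (k - 1) * θ ^ (g - k)) =
          ((-1 : R) ^ (i - 1) * c i * c (k - i)) * (η ^ g * θ ^ (g - k)) := by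
      intro i hi
      rw [Finset.mem_Ico] at hi
      have hih := ih (k - i) (by omega) (by omega) (by omega)
      have e1 : η ^ (g + 1 - i) * η ^ (k - 1) = η ^ (g + (k - i)) := by
        rw [← pow_add]; congr 1; omega
      have e2 : θ ^ i * θ ^ (g - k) = θ ^ (g - (k - i)) := by
        rw [← pow_add]; congr 1; omega
      calc (-1 : R) ^ (i - 1) * c i * η ^ (g + 1 - i) * (η ^ (k - 1) * θ ^ (g - k))
          = (-1 : R) ^ (i - 1) * a i * (η ^ (g + 1 - i) * η ^ (k - 1)) * (θ ^ i * θ ^ (g - k)) := by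
            rw [ha i]; ring
        _ = (-1 : R) ^ (i - 1) * a i * (η ^ (g + (k - i)) * θ ^ (g - (k - i))) := by
            rw [e1, e2]; ring
        _ = (-1 : R) ^ (i - 1) * a i * (c (k - i) * η ^ g * θ ^ (g - (k - i))) := by rw [hih]
        _ = (-1 : R) ^ (i - 1) * a i * (c (k - i) * η ^ g * (θ ^ i * θ ^ (g - k))) := by rw [e2]
        _ = ((-1 : R) ^ (i - 1) * c i * c (k - i)) * (η ^ g * θ ^ (g - k)) := by
            rw [ha i]; ring
    rw [Finset.sum_congr rfl hterms, ← Finset.sum_mul]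
    have e3 : η ^ (g + 1 - k) * (η ^ (k - 1) * θ ^ (g - k)) = η ^ g * θ ^ (g - k) := by
      rw [← mul_assoc, ← pow_add]; congr 2; omega
    rw [mul_assoc ((-1 : R) ^ (k - 1) * c k), e3, ← add_mul, halt k hk1, mul_assoc]

end Groth.Agent.S15229
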