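import Groth.Statements.S15231
import Mathlib
import Groth.Agent.Lib.helper2.LTensorT
import Groth.Agent.Lib.helper2.KProjRes
import Groth.Agent.Lib.helper4.FlatCx4
-- import your own Groth.Agent.* helpers here

set_option autoImplicit false
universe u
open CategoryTheory CategoryTheory.Limits
attribute [local instance] HasDerivedCategory.standard
open DRing

namespace Groth.Agent.S15231


open DerivedCategory MonoidalCategory CohIII
open Groth.Agent.Lib.helper2 Groth.Agent.H4FlatCx

section Aux

variable {R : Type u} [CommRing R]

lemma isZero_T_of_subsingleton (E : DRing.Cx R) (i : ℤ) (N : Type u) [AddCommGroup N] [Module R N]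
    [Subsingleton N] : IsZero ((TFun E i).obj (ModuleCat.of R N)) := by
  change IsZero ((tensorObj E (ModuleCat.of R N)).homology i)
  rw [← HomologicalComplex.exactAt_iff_isZero_homology]
  apply ShortComplex.exact_of_isZero_X₂
  have : Subsingleton (TensorProduct R (E.X i) N) := inferInstance
  exact ModuleCat.isZero_of_subsingleton (ModuleCat.of R (TensorProduct R (E.X i) N))

lemma shortExact_sub {M : Type u} [AddCommGroup M] [Module R M] (N' : Submodule R M) :
    (ShortComplex.mk (ModuleCat.ofHom N'.subtype) (ModuleCat.ofHom N'.mkQ) (by
      ext x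
      simp)).ShortExact := by
  refine { exact := ?_, mono_f := ?_, epi_g := ?_ }
  · rw [ShortComplex.ShortExact.moduleCat_exact_iff_function_exact]
    intro x
    simp only [ModuleCat.hom_ofHom]
    constructor
    · intro hx
      exact ⟨⟨x, by simpa using hx⟩, rfl⟩
    · rintro ⟨y, rfl⟩
      simp
  · rw [ModuleCat.mono_iff_injective]
    exact N'.injective_subtype
  · rw [ModuleCat.epi_iff_surjective]
    exact N'.mkQ_surjective

lemma isZero_T_of_finiteLength [IsLocalRing R] (E : DRing.Cx R) (hE : ∀ j, Module.Flat R (E.X j))
    (i : ℤ) (h0 : IsZero ((TFun E i).obj (ModuleCat.of R (IsLocalRing.ResidueField R))))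
    (N : Type u) [AddCommGroup N] [Module R N] (hN : IsFiniteLength R N) :
    IsZero ((TFun E i).obj (ModuleCat.of R N)) := by
  induction hN with
  | of_subsingleton => exact isZero_T_of_subsingleton E i _
  | @of_simple_quotient M _ _ N' hs _ ih =>
    have hex := exact₂ E hE _ (shortExact_sub N') i
    have hq : IsZero ((TFun E i).obj (ModuleCat.of R (M ⧸ N'))) := by
      obtain ⟨m, hm, ⟨e⟩⟩ := isSimpleModule_iff_quot_maximal.mp hs
      have hm' : m = IsLocalRing.maximalIdeal R := IsLocalRing.eq_maximalIdeal hm
      subst hm'
      exact h0.of_iso ((TFun E i).mapIso e.toModuleIso)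
    exact hex.isZero_X₂ (ih.eq_of_src _ _) (hq.eq_of_tgt _ _)

end Aux

/-- Let R be a Noetherian local commutative ring with residue field κ, let P be any object of D(R) and
a, b integers. Suppose that H^i(P ⊗^L_R κ) = 0 for every i outside [a, b] (over the field κ this
says exactly that P ⊗^L_R κ has tor amplitude in [a, b] as an object of D(κ)). Then for every
R-module N of finite length, H^i(P ⊗^L_R N) = 0 for every i outside [a, b]. The derived base change
to κ and the derived tensor products with R-modules are the total left derived functors on D(R),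
assumed to exist for every R-module (as they do). -/
theorem result (R : Type u) [CommRing R] [IsNoetherianRing R]
    [IsLocalRing R] [DRing.HasLBaseChange (IsLocalRing.residue R)] [∀ M : ModuleCat.{u} R, DRing.HasLTensor R M]
    (P : Dual.D R) (a b : ℤ)
    (h : ∀ i : ℤ, (i < a ∨ b < i) →
      Subsingleton (Dual.HD (IsLocalRing.ResidueField R) ((DRing.LBaseChange (IsLocalRing.residue R)).obj P) i))
    (N : Type u) [AddCommGroup N] [Module R N] (hN : IsFiniteLength R N) (i : ℤ) (hi : i < a ∨ b < i) :
    Subsingleton (Dual.HD R ((DRing.LTensor R (ModuleCat.of R N)).obj P) i) := by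
  obtain ⟨E, hEK, hEfl, ⟨e⟩⟩ := KProjRes.exists_kprojective_flat R P
  have inst : DRing.HasLBaseChange (algebraMap R (IsLocalRing.ResidueField R)) :=
    (inferInstance : DRing.HasLBaseChange (IsLocalRing.residue R))
  have h0 : IsZero ((TFun E i).obj (ModuleCat.of R (IsLocalRing.ResidueField R))) := by
    have hs : Subsingleton ((DerivedCategory.homologyFunctor
        (ModuleCat.{u} (IsLocalRing.ResidueField R)) i).obj
        ((DRing.LBaseChange (algebraMap R (IsLocalRing.ResidueField R))).obj P)) := h i hi
    exact LTensorT.isZero_T_of_LBaseChange (IsLocalRing.ResidueField R) E e i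
      (ModuleCat.isZero_of_subsingleton _)
  have h1 := isZero_T_of_finiteLength E hEfl i h0 N hN
  exact ModuleCat.subsingleton_of_isZero (h1.of_iso (LTensorT.homIso (ModuleCat.of R N) E e i))

end Groth.Agent.S15231
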