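import Groth.Statements.S15232
import Mathlib
import Groth.Agent.Lib.helper17.FiberLB
import Groth.Agent.Lib.helper17.FiberGlobal
import Groth.Agent.Lib.helper17.FiberOfTA

set_option autoImplicit false
universe u
open CategoryTheory CategoryTheory.Limits
attribute [local instance] HasDerivedCategory.standard
open DRing

namespace Groth.Agent.S15232

/-- Let R be a Noetherian commutative ring and I an ideal contained in the Jacobson radical of R, and
assume the derived base change D(R) → D(R/I) exists. Let P be a pseudo-coherent object of D(R) and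
a, b integers. If P ⊗^L_R R/I has tor amplitude in [a, b] as an object of D(R/I), then P has tor
amplitude in [a, b] as an object of D(R). Tor amplitude is taken in the flat-representative form
(isomorphic in the derived category to a complex of flat modules vanishing outside [a, b]). -/
theorem result (R : Type u) [CommRing R] [IsNoetherianRing R]
    (I : Ideal R) (hI : I ≤ Ideal.jacobson (⊥ : Ideal R)) [DRing.HasLBaseChange (Ideal.Quotient.mk I)]
    (P : Dual.D R) (hP : DRing.IsPseudoCoherent' R P) (a b : ℤ)
    (h : DRing.HasTorAmplitudeIn (R ⧸ I) a b ((DRing.LBaseChange (Ideal.Quotient.mk I)).obj P)) :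
    DRing.HasTorAmplitudeIn R a b P := by
  obtain ⟨E, b0, hEb, hE, ⟨e⟩⟩ := hP
  have := Groth.Agent.Lib.helper17.FiberLB.isKProjective_of_pc E b0 hEb hE
  have h' : DRing.HasTorAmplitudeIn (R ⧸ I) a b
      (DerivedCategory.Q.obj ((Groth.Agent.Lib.helper2.KPc.bcCx (Ideal.Quotient.mk I)).obj E)) :=
    Groth.Agent.Lib.helper17.DRingTA.torAmp_of_iso h
      ((DRing.LBaseChange (Ideal.Quotient.mk I)).mapIso e.symm ≪≫
        Groth.Agent.Lib.helper2.KPc.LBaseChangeIso (Ideal.Quotient.mk I) E)
  have htor : DRing.HasTorAmplitudeIn R a b (DRing.toD E) := by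
    refine Groth.Agent.Lib.helper17.FiberGlobal.torAmp_of_fiber_global R E b0 hEb hE a b ?_
    intro m hm i hi
    have hIm : I ≤ m := hI.trans (sInf_le ⟨bot_le, hm⟩)
    exact Groth.Agent.Lib.helper17.FiberOfTA.isZero_fiber_of_torAmp_quot I m hIm E b0 hEb hE a b h' i hi
  exact Groth.Agent.Lib.helper17.DRingTA.torAmp_of_iso htor e

end Groth.Agent.S15232
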