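import Groth.Statements.S15233
import Mathlib

set_option autoImplicit false
universe u
open CategoryTheory CategoryTheory.Limits Opposite
open CohSite

namespace Groth.Agent.S15233

/-- Let C be a small category with a Grothendieck topology J, and let B be a class of objects forming a
prebasis: for every object V and every covering sieve S of V, the arrows of S whose domain lies in B
generate a covering sieve of V. If F is a presheaf of abelian groups on C such that F(U) = 0 for
every object U in B, then the sheafification of F is zero. -/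
theorem result {C : Type u} [SmallCategory C] (J : GrothendieckTopology C)
    (B : ObjectProperty C)
    (hB : ∀ (V : C) (S : Sieve V), S ∈ J V →
      Sieve.generate (fun (U : C) => {g : U ⟶ V | S.arrows g ∧ B U}) ∈ J V)
    (F : Cᵒᵖ ⥤ AddCommGrpCat.{u}) (hF : ∀ U : C, B U → IsZero (F.obj (op U))) :
    IsZero ((presheafToSheaf J AddCommGrpCat.{u}).obj F) := by
  have huniq : ∀ φ ψ : F ⟶ ((presheafToSheaf J AddCommGrpCat.{u}).obj F).obj, φ = ψ := by
    intro φ ψ
    ext V s
    have hsh : Presieve.IsSheaf J
        (((presheafToSheaf J AddCommGrpCat.{u}).obj F).obj ⋙ forget AddCommGrpCat) :=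
      (isSheaf_iff_isSheaf_of_type _ _).1
        ((Presheaf.isSheaf_iff_isSheaf_forget J _ (forget AddCommGrpCat)).1
          ((presheafToSheaf J AddCommGrpCat.{u}).obj F).property)
    have hcov := hB V.unop ⊤ (J.top_mem _)
    refine (hsh.isSeparated _ hcov).ext ?_
    rintro W a ⟨U, h, g, ⟨-, hU⟩, rfl⟩
    have : Subsingleton (F.obj (op U)) := AddCommGrpCat.subsingleton_of_isZero (hF U hU)
    have hz : F.map g.op s = 0 := Subsingleton.elim _ _
    have e1 : ((presheafToSheaf J AddCommGrpCat.{u}).obj F).obj.map g.op (φ.app V s) = 0 := by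
      rw [← NatTrans.naturality_apply φ g.op s, hz, map_zero]
    have e2 : ((presheafToSheaf J AddCommGrpCat.{u}).obj F).obj.map g.op (ψ.app V s) = 0 := by
      rw [← NatTrans.naturality_apply ψ g.op s, hz, map_zero]
    show ((presheafToSheaf J AddCommGrpCat.{u}).obj F).obj.map (h ≫ g).op (φ.app V s) =
      ((presheafToSheaf J AddCommGrpCat.{u}).obj F).obj.map (h ≫ g).op (ψ.app V s)
    rw [op_comp, Functor.map_comp]
    show ((presheafToSheaf J AddCommGrpCat.{u}).obj F).obj.map h.op
        (((presheafToSheaf J AddCommGrpCat.{u}).obj F).obj.map g.op (φ.app V s)) =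
      ((presheafToSheaf J AddCommGrpCat.{u}).obj F).obj.map h.op
        (((presheafToSheaf J AddCommGrpCat.{u}).obj F).obj.map g.op (ψ.app V s))
    rw [e1, e2]
  rw [IsZero.iff_id_eq_zero]
  apply ((sheafificationAdjunction J AddCommGrpCat.{u}).homEquiv F _).injective
  exact huniq _ _

end Groth.Agent.S15233
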