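import Groth.Statements.S15235
import Mathlib

set_option autoImplicit false
universe u
open CategoryTheory Opposite
open HomAlg3

namespace Groth.Agent.S15235

/-- Let (G_j) be an inverse system of abelian groups indexed by the natural numbers, with transition
maps G_{j+1} → G_j, and let j₀ be a natural number such that the transition map G_{j+1} → G_j is
surjective for every j ≥ j₀. Then: (a) the system satisfies the Mittag-Leffler condition; (b) the
evaluation map from the inverse limit (realised as the set of compatible families) to G_{j₀} is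
surjective; (c) if in addition the transition maps G_{j+1} → G_j are injective for every j ≥ j₀,
that evaluation map is bijective. (The published statement indexes the system by the negative
integers and assumes j₀ ≥ 1; this row indexes it by the natural numbers and allows j₀ = 0, which
changes nothing.) -/
theorem result (G : ℕᵒᵖ ⥤ AddCommGrpCat.{u})
    (j₀ : ℕ) (hs : ∀ j : ℕ, j₀ ≤ j → Function.Surjective (G.map (homOfLE (Nat.le_succ j)).op).hom) :
    (G ⋙ forget AddCommGrpCat.{u}).IsMittagLeffler ∧
      Function.Surjective (fun s : (G ⋙ forget AddCommGrpCat.{u}).sections => s.1 (op j₀)) ∧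
      ((∀ j : ℕ, j₀ ≤ j → Function.Injective (G.map (homOfLE (Nat.le_succ j)).op).hom) →
        Function.Bijective (fun s : (G ⋙ forget AddCommGrpCat.{u}).sections => s.1 (op j₀))) := by
  set F := G ⋙ forget AddCommGrpCat.{u} with hFdef
  have hsF : ∀ j : ℕ, j₀ ≤ j → Function.Surjective (F.map (homOfLE (Nat.le_succ j)).op) :=
    fun j hj => hs j hj
  have hcomp : ∀ (a b c : ℕ) (hab : a ≤ b) (hbc : b ≤ c) (x : F.obj (op c)),
      F.map (homOfLE hab).op (F.map (homOfLE hbc).op x) = F.map (homOfLE (hab.trans hbc)).op x := by
    intro a b c hab hbc x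
    rw [← Functor.map_comp_apply]
    rfl
  have hid : ∀ (a : ℕ) (h : a ≤ a) (x : F.obj (op a)), F.map (homOfLE h).op x = x := by
    intro a h x
    have : (homOfLE h).op = 𝟙 (op a) := Subsingleton.elim _ _
    rw [this, Functor.map_id_apply]
  have hsurj : ∀ (a b : ℕ) (hab : a ≤ b), j₀ ≤ a → Function.Surjective (F.map (homOfLE hab).op) := by
    intro a b hab ha
    induction b, hab using Nat.le_induction with
    | base => intro x; exact ⟨x, hid a _ x⟩
    | succ b hab ih =>
      intro x
      obtain ⟨y, rfl⟩ := ih x
      obtain ⟨z, rfl⟩ := hsF b (ha.trans hab) y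
      exact ⟨z, (hcomp a b (b + 1) hab (Nat.le_succ b) z).symm⟩
  have hEval : Function.Surjective (fun s : F.sections => s.1 (op j₀)) := by
    intro x
    let pre : (n : ℕ) → F.obj (op (j₀ + n)) := fun n =>
      Nat.rec (motive := fun n => F.obj (op (j₀ + n))) x
        (fun n y => (hsF (j₀ + n) (Nat.le_add_right _ _) y).choose) n
    have hpre_succ : ∀ n, F.map (homOfLE (Nat.le_succ (j₀ + n))).op (pre (n + 1)) = pre n :=
      fun n => (hsF (j₀ + n) (Nat.le_add_right _ _) (pre n)).choose_spec
    have hpre : ∀ (n n' : ℕ) (h : n ≤ n'),
        F.map (homOfLE (Nat.add_le_add_left h j₀)).op (pre n') = pre n := by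
      intro n n' h
      induction n', h using Nat.le_induction with
      | base => exact hid _ _ _
      | succ n' h ih =>
        rw [← ih, ← hpre_succ n', hcomp]
    let s : ∀ j : ℕᵒᵖ, F.obj j := fun j =>
      F.map (homOfLE (Nat.le_add_left (unop j) j₀)).op (pre (unop j))
    refine ⟨⟨s, ?_⟩, ?_⟩
    · intro j j' f
      induction j using Opposite.rec with
      | op b =>
        induction j' using Opposite.rec with
        | op a =>
          have hab : a ≤ b := f.unop.le
          have hf : f = (homOfLE hab).op := Subsingleton.elim _ _
          rw [hf]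
          show F.map (homOfLE hab).op (F.map (homOfLE (Nat.le_add_left b j₀)).op (pre b)) =
            F.map (homOfLE (Nat.le_add_left a j₀)).op (pre a)
          rw [hcomp, ← hpre a b hab, hcomp]
    · exact hpre 0 j₀ (Nat.zero_le _)
  refine ⟨?_, hEval, ?_⟩
  · -- Mittag-Leffler
    intro j
    induction j using Opposite.rec with
    | op a =>
      refine ⟨op (max a j₀), (homOfLE (le_max_left a j₀)).op, ?_⟩
      intro k g
      induction k using Opposite.rec with
      | op b =>
        have hab : a ≤ b := g.unop.le
        have hg : g = (homOfLE hab).op := Subsingleton.elim _ _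
        rw [hg]
        rcases le_total b (max a j₀) with hb | hb
        · rintro _ ⟨x, rfl⟩
          exact ⟨F.map (homOfLE hb).op x, hcomp a b _ hab hb x⟩
        · rintro _ ⟨x, rfl⟩
          obtain ⟨y, rfl⟩ := hsurj (max a j₀) b hb (le_max_right a j₀) x
          exact ⟨y, (hcomp a _ b (le_max_left a j₀) hb y).symm⟩
  · intro hinj
    have hinjF : ∀ j : ℕ, j₀ ≤ j → Function.Injective (F.map (homOfLE (Nat.le_succ j)).op) :=
      fun j hj => hinj j hj
    have hinj' : ∀ (a b : ℕ) (hab : a ≤ b), j₀ ≤ a → Function.Injective (F.map (homOfLE hab).op) := by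
      intro a b hab ha
      induction b, hab using Nat.le_induction with
      | base => intro x y h; rwa [hid, hid] at h
      | succ b hab ih =>
        intro x y h
        rw [← hcomp a b (b + 1) hab (Nat.le_succ b), ← hcomp a b (b + 1) hab (Nat.le_succ b)] at h
        exact hinjF b (ha.trans hab) (ih h)
    refine ⟨?_, hEval⟩
    intro s t h
    apply Subtype.ext
    funext j
    induction j using Opposite.rec with
    | op n =>
      rcases le_total n j₀ with hn | hn
      · rw [← s.2 (homOfLE hn).op, ← t.2 (homOfLE hn).op]
        exact congrArg _ h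
      · apply hinj' j₀ n hn le_rfl
        rw [s.2 (homOfLE hn).op, t.2 (homOfLE hn).op]
        exact h

end Groth.Agent.S15235
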