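import Groth.Statements.S15260
import Mathlib

set_option autoImplicit false
universe u
open CategoryTheory CategoryTheory.Limits AlgebraicGeometry TopologicalSpace
open W4c2seshadripos

namespace Groth.Agent.S15260

theorem comp_ess {R S T : Type u} [CommRing R] [CommRing S] [CommRing T] (φ : R →+* S) (ψ : S →+* T)
    (hφ : φ.EssFiniteType) (hψ : ψ.EssFiniteType) : (ψ.comp φ).EssFiniteType := by
  algebraize [φ, ψ, ψ.comp φ]
  exact Algebra.EssFiniteType.comp R S T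

/-- Say a morphism of schemes h : S → T is locally essentially of finite type when for every affine open
U = Spec A of T the preimage h⁻¹(U) is covered by affine opens V = Spec B of S with A → B
essentially of finite type (a localization of a finite-type A-algebra; this is the every-affine-open
form of the notion). If f : X → Y and g : Y → Z are locally essentially of finite type then so is f
≫ g. (The published statement also covers the quasi-compact variant, essentially of finite type;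
that case follows since quasi-compact morphisms are stable under composition.) -/
theorem result {X Y Z : Scheme.{u}} (f : X ⟶ Y) (g : Y ⟶ Z)
    (hf : ∀ U : Y.affineOpens, ∃ T : Set X.affineOpens, (⋃ V ∈ T, ((V : X.Opens) : Set ↥X)) = ((f ⁻¹ᵁ (U : Y.Opens)) : Set ↥X) ∧
        ∀ V ∈ T, ∃ e : (V : X.Opens) ≤ f ⁻¹ᵁ (U : Y.Opens), (f.appLE (U : Y.Opens) (V : X.Opens) e).hom.EssFiniteType)
    (hg : ∀ U : Z.affineOpens, ∃ T : Set Y.affineOpens, (⋃ V ∈ T, ((V : Y.Opens) : Set ↥Y)) = ((g ⁻¹ᵁ (U : Z.Opens)) : Set ↥Y) ∧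
        ∀ V ∈ T, ∃ e : (V : Y.Opens) ≤ g ⁻¹ᵁ (U : Z.Opens), (g.appLE (U : Z.Opens) (V : Y.Opens) e).hom.EssFiniteType)
    (U : Z.affineOpens) :
    ∃ T : Set X.affineOpens, (⋃ V ∈ T, ((V : X.Opens) : Set ↥X)) = (((f ≫ g) ⁻¹ᵁ (U : Z.Opens)) : Set ↥X) ∧
        ∀ V ∈ T, ∃ e : (V : X.Opens) ≤ (f ≫ g) ⁻¹ᵁ (U : Z.Opens), ((f ≫ g).appLE (U : Z.Opens) (V : X.Opens) e).hom.EssFiniteType := by
  classical
  obtain ⟨T₁, hcov₁, hT₁⟩ := hg U
  choose T₂ hcov₂ hT₂ using hf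
  refine ⟨{W | ∃ V ∈ T₁, W ∈ T₂ V}, ?_, ?_⟩
  · ext x
    constructor
    · intro hx
      obtain ⟨W, ⟨V, hV, hW⟩, hxW⟩ := Set.mem_iUnion₂.1 hx
      have h1 : x ∈ ((f ⁻¹ᵁ (V : Y.Opens)) : Set ↥X) := by
        rw [← hcov₂ V]
        exact Set.mem_biUnion hW hxW
      have h2 : f.base x ∈ ((g ⁻¹ᵁ (U : Z.Opens)) : Set ↥Y) := by
        rw [← hcov₁]
        exact Set.mem_biUnion hV h1
      exact h2
    · intro hx
      have h2 : f.base x ∈ ((g ⁻¹ᵁ (U : Z.Opens)) : Set ↥Y) := hx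
      rw [← hcov₁] at h2
      obtain ⟨V, hV, hxV⟩ := Set.mem_iUnion₂.1 h2
      have h1 : x ∈ ((f ⁻¹ᵁ (V : Y.Opens)) : Set ↥X) := hxV
      rw [← hcov₂ V] at h1
      obtain ⟨W, hW, hxW⟩ := Set.mem_iUnion₂.1 h1
      exact Set.mem_iUnion₂.2 ⟨W, ⟨V, hV, hW⟩, hxW⟩
  · rintro W ⟨V, hV, hW⟩
    obtain ⟨e₁, h₁⟩ := hT₁ V hV
    obtain ⟨e₂, h₂⟩ := hT₂ V W hW
    refine ⟨e₂.trans ((TopologicalSpace.Opens.map f.base).map (homOfLE e₁)).le, ?_⟩
    rw [← Scheme.Hom.appLE_comp_appLE f g _ _ _ e₁ e₂]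
    exact comp_ess _ _ h₁ h₂

end Groth.Agent.S15260
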