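import Groth.Statements.S15285
import Mathlib

set_option autoImplicit false
universe v v' u u'
open PicCat

namespace Groth.Agent.S15285
open CategoryTheory MonoidalCategory

section helpers



section
variable {C : Type u} [Category.{v} C] [MonoidalCategory C] [IsGroupoid C]
    {D : Type u'} [Category.{v'} D] [MonoidalCategory D] [IsGroupoid D]
    (hC : ∀ X : C, (tensorLeft X).IsEquivalence ∧ (tensorRight X).IsEquivalence)
    (hD : ∀ X : D, (tensorLeft X).IsEquivalence ∧ (tensorRight X).IsEquivalence)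
    (F : C ⥤ D) [F.LaxMonoidal]
    (h1 : Function.Bijective (fun φ : 𝟙_ C ⟶ 𝟙_ C => F.map φ))

include hC hD h1 in
theorem A_inj (X : C) (t t' : X ⊗ 𝟙_ C ⟶ X ⊗ 𝟙_ C) (h : F.map t = F.map t') : t = t' := by
  have := (hC X).1
  have := (hD (F.obj X)).1
  obtain ⟨φ, rfl⟩ := (tensorLeft X).map_surjective t
  obtain ⟨φ', rfl⟩ := (tensorLeft X).map_surjective t'
  change F.map (X ◁ φ) = F.map (X ◁ φ') at h
  change X ◁ φ = X ◁ φ'
  have h2 : F.obj X ◁ F.map φ ≫ Functor.LaxMonoidal.μ F X (𝟙_ C) =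
      F.obj X ◁ F.map φ' ≫ Functor.LaxMonoidal.μ F X (𝟙_ C) := by
    rw [Functor.LaxMonoidal.μ_natural_right, Functor.LaxMonoidal.μ_natural_right, h]
  have h3 : F.obj X ◁ F.map φ = F.obj X ◁ F.map φ' := (cancel_mono _).1 h2
  have h4 : F.map φ = F.map φ' := (tensorLeft (F.obj X)).map_injective h3
  rw [h1.1 h4]

include hC hD h1 in
theorem A_surj (X : C) (s : F.obj (X ⊗ 𝟙_ C) ⟶ F.obj (X ⊗ 𝟙_ C)) : ∃ t, F.map t = s := by
  have := (hC X).1
  have := (hD (F.obj X)).1
  obtain ⟨ψ, hψ⟩ := (tensorLeft (F.obj X)).map_surjective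
    (Functor.LaxMonoidal.μ F X (𝟙_ C) ≫ s ≫ inv (Functor.LaxMonoidal.μ F X (𝟙_ C)))
  obtain ⟨φ, rfl⟩ := h1.2 ψ
  refine ⟨X ◁ φ, ?_⟩
  change F.obj X ◁ F.map φ = _ at hψ
  rw [← cancel_epi (Functor.LaxMonoidal.μ F X (𝟙_ C)), ← Functor.LaxMonoidal.μ_natural_right, hψ]
  simp

include hC hD h1 in
theorem map_bij {X Y : C} (g : X ⟶ Y) :
    Function.Bijective (F.map : (X ⟶ Y) → (F.obj X ⟶ F.obj Y)) := by
  let a : X ⊗ 𝟙_ C ⟶ X := (ρ_ X).hom
  constructor
  · intro f f' hff
    have h2 : F.map (a ≫ f ≫ inv g ≫ inv a) = F.map (a ≫ f' ≫ inv g ≫ inv a) := by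
      simp only [F.map_comp, hff]
    have h3 := A_inj hC hD F h1 X _ _ h2
    have h4 : f ≫ inv g ≫ inv a = f' ≫ inv g ≫ inv a := (cancel_epi a).1 h3
    have h5 : f ≫ (inv g ≫ inv a) = f' ≫ (inv g ≫ inv a) := h4
    exact (cancel_mono _).1 h5
  · intro h
    obtain ⟨t, ht⟩ := A_surj hC hD F h1 X (F.map a ≫ h ≫ F.map (inv g) ≫ F.map (inv a))
    refine ⟨inv a ≫ t ≫ a ≫ g, ?_⟩
    simp only [F.map_comp, ht, Category.assoc]
    simp only [← F.map_comp_assoc, ← F.map_comp, IsIso.inv_hom_id, F.map_id, Category.id_comp,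
      Category.comp_id]
    simp

end



end helpers

open CategoryTheory MonoidalCategory in
/-- Let C and D be Picard categories (monoidal groupoids in which tensoring on either side with any
object is an equivalence of categories) and F : C ⥤ D a lax monoidal functor. If F induces a
bijection on isomorphism classes of objects (it is essentially surjective, and F X ≅ F Y only when X
≅ Y) and a bijection on endomorphisms of the unit object, then F is an equivalence of categories. -/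
theorem result
    {C : Type u} [Category.{v} C] [MonoidalCategory C] [IsGroupoid C]
    {D : Type u'} [Category.{v'} D] [MonoidalCategory D] [IsGroupoid D]
    (hC : ∀ X : C, (tensorLeft X).IsEquivalence ∧ (tensorRight X).IsEquivalence)
    (hD : ∀ X : D, (tensorLeft X).IsEquivalence ∧ (tensorRight X).IsEquivalence)
    (F : C ⥤ D) [F.LaxMonoidal] [F.EssSurj]
    (h0 : ∀ X Y : C, Nonempty (F.obj X ≅ F.obj Y) → Nonempty (X ≅ Y))
    (h1 : Function.Bijective (fun φ : 𝟙_ C ⟶ 𝟙_ C => F.map φ)) :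
    F.IsEquivalence := by
  have : F.Faithful := ⟨fun {X Y} f f' h => (map_bij hC hD F h1 f).1 h⟩
  have : F.Full := ⟨fun {X Y} h => by
    obtain ⟨e⟩ := h0 X Y ⟨asIso h⟩
    exact (map_bij hC hD F h1 e.hom).2 h⟩
  exact { }

end Groth.Agent.S15285
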