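import Groth.Statements.S15286
import Mathlib

set_option autoImplicit false
universe v v' u u'
open PicCat

namespace Groth.Agent.S15286
open CategoryTheory MonoidalCategory

section helpers



section Act
variable {D : Type u'} [Category.{v'} D] [MonoidalCategory D]

/-- the action of an endomorphism of the unit on an object -/
def act (Z : D) (φ : 𝟙_ D ⟶ 𝟙_ D) : Z ⟶ Z := (λ_ Z).inv ≫ (φ ▷ Z) ≫ (λ_ Z).hom

theorem act_id (Z : D) : act Z (𝟙 _) = 𝟙 Z := by simp [act]

theorem act_comp (Z : D) (φ ψ : 𝟙_ D ⟶ 𝟙_ D) : act Z (φ ≫ ψ) = act Z φ ≫ act Z ψ := by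
  simp [act]

theorem act_naturality {Z Z' : D} (f : Z ⟶ Z') (φ : 𝟙_ D ⟶ 𝟙_ D) :
    act Z φ ≫ f = f ≫ act Z' φ := by
  unfold act
  rw [Category.assoc, Category.assoc, ← leftUnitor_naturality, ← Category.assoc (φ ▷ Z),
    ← whisker_exchange, Category.assoc, ← Category.assoc, ← Category.assoc,
    ← leftUnitor_inv_naturality]
  simp only [Category.assoc]

theorem act_comm (Z : D) (φ ψ : 𝟙_ D ⟶ 𝟙_ D) : act Z φ ≫ act Z ψ = act Z ψ ≫ act Z φ :=
  act_naturality (act Z ψ) φ

theorem act_tensor_left (Z Z' : D) (φ : 𝟙_ D ⟶ 𝟙_ D) : act (Z ⊗ Z') φ = act Z φ ▷ Z' := by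
  unfold act
  simp

theorem act_tensor_right [BraidedCategory D] (Z Z' : D) (φ : 𝟙_ D ⟶ 𝟙_ D) :
    act (Z ⊗ Z') φ = Z ◁ act Z' φ := by
  rw [← cancel_mono (β_ Z Z').hom, act_naturality, act_tensor_left,
    BraidedCategory.braiding_naturality_right]

theorem act_tensorHom [BraidedCategory D] (Z Z' : D) (φ ψ : 𝟙_ D ⟶ 𝟙_ D) :
    act Z φ ⊗ₘ act Z' ψ = act (Z ⊗ Z') (φ ≫ ψ) := by
  rw [MonoidalCategory.tensorHom_def, ← act_tensor_left, ← act_tensor_right, act_comp]

theorem act_bijective (Z : D) (hZ : (tensorRight Z).IsEquivalence) :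
    Function.Bijective (act Z) := by
  haveI := hZ
  have hb : Function.Bijective
      (fun φ : 𝟙_ D ⟶ 𝟙_ D => (tensorRight Z).map φ) :=
    (Functor.FullyFaithful.ofFullyFaithful (tensorRight Z)).map_bijective _ _
  constructor
  · intro φ ψ h
    apply hb.1
    unfold act at h
    rw [cancel_epi, cancel_mono] at h
    exact h
  · intro f
    obtain ⟨φ, hφ⟩ := hb.2 ((λ_ Z).hom ≫ f ≫ (λ_ Z).inv)
    refine ⟨φ, ?_⟩
    have hφ' : φ ▷ Z = (λ_ Z).hom ≫ f ≫ (λ_ Z).inv := hφ
    unfold act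
    rw [hφ']
    simp

end Act


section Main
variable {C : Type u} [Category.{v} C] [MonoidalCategory C] [IsGroupoid C]
    {D : Type u'} [Category.{v'} D] [MonoidalCategory D] [BraidedCategory D] [IsGroupoid D]
    (hD : ∀ X : D, (tensorLeft X).IsEquivalence ∧ (tensorRight X).IsEquivalence)
    (F G : C ⥤ D) [F.LaxMonoidal] [G.LaxMonoidal] (θ₀ : F ⟶ G) [NatTrans.IsMonoidal θ₀]

include hD in
theorem end_comm (φ ψ : 𝟙_ D ⟶ 𝟙_ D) : φ ≫ ψ = ψ ≫ φ := by
  apply (act_bijective (𝟙_ D) (hD _).2).1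
  rw [act_comp, act_comp, act_comm]

omit [IsGroupoid C] in
/-- the tensor compatibility for a twisted transformation -/
theorem tensor_twist (X Y : C) (a b : 𝟙_ D ⟶ 𝟙_ D) :
    ((θ₀.app X ≫ act (G.obj X) a) ⊗ₘ (θ₀.app Y ≫ act (G.obj Y) b)) ≫ Functor.LaxMonoidal.μ G X Y =
      Functor.LaxMonoidal.μ F X Y ≫ θ₀.app (X ⊗ Y) ≫ act (G.obj (X ⊗ Y)) (a ≫ b) := by
  rw [← MonoidalCategory.tensorHom_comp_tensorHom, act_tensorHom, Category.assoc, act_naturality,
    ← Category.assoc, ← NatTrans.IsMonoidal.tensor, Category.assoc]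

end Main



end helpers

open CategoryTheory MonoidalCategory in
/-- Let C be a Picard category, D a commutative (braided) Picard category, F, G : C ⥤ D lax monoidal
functors and θ₀ : F ⟶ G a monoidal natural transformation. Identify an endomorphism φ of the unit of
D with the automorphism λ⁻¹ ≫ (φ ▷ Z) ≫ λ of any object Z. Then the monoidal natural transformations
F ⟶ G form a torsor under the monoid homomorphisms χ from the monoid of isomorphism classes of C to
End(𝟙_D): every monoidal θ : F ⟶ G is X ↦ θ₀_X ≫ (action of χ[X] on G X) for a unique such χ, and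
for every χ this formula defines a monoidal natural transformation. (The published statement allows
D non-commutative; for a non-braided monoidal groupoid the classes so obtained are crossed rather
than plain homomorphisms, so D is taken braided here.) -/
theorem result
    {C : Type u} [Category.{v} C] [MonoidalCategory C] [IsGroupoid C]
    {D : Type u'} [Category.{v'} D] [MonoidalCategory D] [BraidedCategory D] [IsGroupoid D]
    (hC : ∀ X : C, (tensorLeft X).IsEquivalence ∧ (tensorRight X).IsEquivalence)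
    (hD : ∀ X : D, (tensorLeft X).IsEquivalence ∧ (tensorRight X).IsEquivalence)
    (F G : C ⥤ D) [F.LaxMonoidal] [G.LaxMonoidal] (θ₀ : F ⟶ G) [NatTrans.IsMonoidal θ₀] :
    (∀ θ : F ⟶ G, NatTrans.IsMonoidal θ →
      ∃! χ : Skeleton C →* End (𝟙_ D), ∀ X : C,
        θ.app X = θ₀.app X ≫ (λ_ (G.obj X)).inv ≫
          ((χ (toSkeleton X) : 𝟙_ D ⟶ 𝟙_ D) ▷ G.obj X) ≫ (λ_ (G.obj X)).hom) ∧
    (∀ χ : Skeleton C →* End (𝟙_ D), ∃ θ : F ⟶ G, NatTrans.IsMonoidal θ ∧ ∀ X : C,
        θ.app X = θ₀.app X ≫ (λ_ (G.obj X)).inv ≫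
          ((χ (toSkeleton X) : 𝟙_ D ⟶ 𝟙_ D) ▷ G.obj X) ≫ (λ_ (G.obj X)).hom) := by
  have hiso : ∀ {X Y : D} (f : X ⟶ Y), IsIso f := fun f => IsGroupoid.all_isIso f
  have hbij : ∀ Z : D, Function.Bijective (act Z) := fun Z => act_bijective Z (hD Z).2
  have hsk : ∀ {X Y : C} (f : X ⟶ Y), toSkeleton X = toSkeleton Y := fun {X Y} f =>
    toSkeleton_eq_toSkeleton_iff.2 ⟨@asIso _ _ _ _ f (IsGroupoid.all_isIso f)⟩
  constructor
  · intro θ hθ
    have hc : ∀ X : C, ∃ φ : 𝟙_ D ⟶ 𝟙_ D, act (G.obj X) φ = inv (θ₀.app X) ≫ θ.app X :=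
      fun X => (hbij _).2 _
    choose c hc using hc
    have hc' : ∀ X, θ.app X = θ₀.app X ≫ act (G.obj X) (c X) := by
      intro X
      rw [hc X, IsIso.hom_inv_id_assoc]
    have hinv : ∀ {X Y : C} (f : X ⟶ Y), c X = c Y := by
      intro X Y f
      apply (hbij (G.obj Y)).1
      haveI := hiso (G.map f)
      haveI := hiso (θ₀.app X)
      rw [← cancel_epi (G.map f), ← act_naturality, ← cancel_epi (θ₀.app X)]
      have h1 := θ.naturality f
      have h2 := θ₀.naturality f
      rw [hc' X, hc' Y, ← Category.assoc, h2, Category.assoc, Category.assoc] at h1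
      exact h1.symm
    have c_one : c (𝟙_ C) = 𝟙 _ := by
      apply (hbij (G.obj (𝟙_ C))).1
      rw [act_id]
      have h1 := NatTrans.IsMonoidal.unit (τ := θ)
      have h2 := NatTrans.IsMonoidal.unit (τ := θ₀)
      rw [hc' (𝟙_ C), ← Category.assoc, h2] at h1
      haveI := hiso (Functor.LaxMonoidal.ε G)
      rw [← cancel_epi (Functor.LaxMonoidal.ε G), h1, Category.comp_id]
    have c_mul : ∀ X Y : C, c (X ⊗ Y) = c X ≫ c Y := by
      intro X Y
      apply (hbij (G.obj (X ⊗ Y))).1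
      have h1 := NatTrans.IsMonoidal.tensor (τ := θ) X Y
      rw [hc' X, hc' Y, hc' (X ⊗ Y), tensor_twist] at h1
      haveI := hiso (Functor.LaxMonoidal.μ F X Y)
      haveI := hiso (θ₀.app (X ⊗ Y))
      rw [cancel_epi, cancel_epi] at h1
      exact h1
    have hcsk : ∀ X : C, c ((fromSkeleton C).obj (toSkeleton X)) = c X :=
      fun X => hinv (fromSkeletonToSkeletonIso X).hom
    let χ : Skeleton C →* End (𝟙_ D) :=
      { toFun := fun s => c ((fromSkeleton C).obj s)
        map_one' := by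
          rw [Skeleton.one_eq, hcsk, c_one]
          rfl
        map_mul' := by
          intro s s'
          rw [End.mul_def]
          conv_lhs => rw [← toSkeleton_fromSkeleton_obj s, ← toSkeleton_fromSkeleton_obj s',
            ← Skeleton.toSkeleton_tensorObj, hcsk, c_mul]
          exact end_comm hD _ _ }
    have hχ : ∀ X : C, χ (toSkeleton X) = c X := hcsk
    refine ⟨χ, ?_, ?_⟩
    · intro X
      change θ.app X = θ₀.app X ≫ act (G.obj X) (χ (toSkeleton X))
      rw [hχ, hc']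
    · intro χ' hχ'
      apply MonoidHom.ext
      intro s
      rw [← toSkeleton_fromSkeleton_obj s, hχ]
      apply (hbij (G.obj ((fromSkeleton C).obj s))).1
      have h1 : θ.app ((fromSkeleton C).obj s) = θ₀.app ((fromSkeleton C).obj s) ≫
          act (G.obj ((fromSkeleton C).obj s)) (χ' (toSkeleton ((fromSkeleton C).obj s))) :=
        hχ' _
      rw [hc'] at h1
      haveI := hiso (θ₀.app ((fromSkeleton C).obj s))
      rw [cancel_epi] at h1
      exact h1.symm
  · intro χ
    let θ : F ⟶ G :=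
      { app := fun X => θ₀.app X ≫ act (G.obj X) (χ (toSkeleton X))
        naturality := by
          intro X Y f
          rw [hsk f, Category.assoc, act_naturality, ← Category.assoc, θ₀.naturality,
            Category.assoc] }
    refine ⟨θ, ⟨?_, ?_⟩, fun X => rfl⟩
    · change Functor.LaxMonoidal.ε F ≫ θ₀.app (𝟙_ C) ≫ act (G.obj (𝟙_ C)) (χ (toSkeleton (𝟙_ C))) = _
      rw [← Skeleton.one_eq, map_one, End.one_def, act_id, Category.comp_id,
        NatTrans.IsMonoidal.unit]
    · intro X Y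
      change Functor.LaxMonoidal.μ F X Y ≫ θ₀.app (X ⊗ Y) ≫
        act (G.obj (X ⊗ Y)) (χ (toSkeleton (X ⊗ Y))) =
        ((θ₀.app X ≫ act (G.obj X) (χ (toSkeleton X))) ⊗ₘ
          (θ₀.app Y ≫ act (G.obj Y) (χ (toSkeleton Y)))) ≫ Functor.LaxMonoidal.μ G X Y
      rw [tensor_twist, Skeleton.toSkeleton_tensorObj, map_mul, End.mul_def, end_comm hD]

end Groth.Agent.S15286
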