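import Groth.Statements.S15293
import Mathlib

set_option autoImplicit false
universe u
open DeRham

namespace Groth.Agent.S15293

section helpers
open exteriorPower

variable (R S A B : Type u) [CommRing R] [CommRing S] [CommRing A] [CommRing B]
    [Algebra R S] [Algebra R A] [Algebra R B] [Algebra A B] [Algebra S B]
    [IsScalarTower R A B] [IsScalarTower R S B]

/-- the `A`-module structure on the `p`-forms of `B` over `S` -/
noncomputable local instance modA (p : ℕ) : Module A ↥(⋀[B]^p (Ω[B⁄S])) :=
  Module.compHom _ (algebraMap A B)

lemma modA_smul (p : ℕ) (a : A) (x : ↥(⋀[B]^p (Ω[B⁄S]))) :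
    a • x = algebraMap A B a • x := rfl

/-- the alternating map -/
noncomputable def altMap (p : ℕ) :
    (Ω[A⁄R]) [⋀^Fin p]→ₗ[A] ↥(⋀[B]^p (Ω[B⁄S])) :=
  { toFun := fun m => ιMulti B p (fun i => KaehlerDifferential.map R S A B (m i))
    map_update_add' := by
      intro _ m i x y
      have h : ∀ v, (fun j => KaehlerDifferential.map R S A B (Function.update m i v j)) =
          Function.update (fun j => KaehlerDifferential.map R S A B (m j)) i
            (KaehlerDifferential.map R S A B v) := by
        intro v; ext j
        by_cases hj : j = i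
        · subst hj; simp
        · simp [Function.update_of_ne hj]
      rw [h, h, h, map_add, AlternatingMap.map_update_add]
    map_update_smul' := by
      intro _ m i a x
      have h : ∀ v, (fun j => KaehlerDifferential.map R S A B (Function.update m i v j)) =
          Function.update (fun j => KaehlerDifferential.map R S A B (m j)) i
            (KaehlerDifferential.map R S A B v) := by
        intro v; ext j
        by_cases hj : j = i
        · subst hj; simp
        · simp [Function.update_of_ne hj]
      rw [h, h, map_smul, ← algebraMap_smul B a (KaehlerDifferential.map R S A B x),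
        AlternatingMap.map_update_smul]
      rfl
    map_eq_zero_of_eq' := by
      intro m i j hij hne
      exact AlternatingMap.map_eq_zero_of_eq _ _ (by rw [hij]) hne }

/-- the linear map -/
noncomputable def linMap (p : ℕ) :
    ↥(⋀[A]^p (Ω[A⁄R])) →ₗ[A] ↥(⋀[B]^p (Ω[B⁄S])) :=
  alternatingMapLinearEquiv (altMap R S A B p)

lemma linMap_ιMulti (p : ℕ) (m : Fin p → Ω[A⁄R]) :
    linMap R S A B p (ιMulti A p m) = altMap R S A B p m :=
  exteriorPower.alternatingMapLinearEquiv_apply_ιMulti _ _

/-- the additive map -/
noncomputable def psi (p : ℕ) : ↥(⋀[A]^p (Ω[A⁄R])) →+ ↥(⋀[B]^p (Ω[B⁄S])) :=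
  (linMap R S A B p).toAddMonoidHom

lemma psi_spec : DeRham.IsCxMap (KaehlerDifferential.D R A) (KaehlerDifferential.D S B)
    (algebraMap A B) (psi R S A B) := by
  intro p b₀ b
  unfold psi
  simp only [LinearMap.toAddMonoidHom_coe]
  unfold DeRham.gen
  rw [map_smul, linMap_ιMulti, modA_smul]
  show _ • ιMulti B p (fun i => KaehlerDifferential.map R S A B (KaehlerDifferential.D R A (b i))) = _
  simp only [KaehlerDifferential.map_D]

end helpers

open exteriorPower in
/-- For a commutative square of ring maps R → A → B, R → S → B (B an algebra over R, A and S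
compatibly), there is a family of additive maps ψ_p from the p-forms of A over R to the p-forms of B
over S, p ≥ 0, which is the map of de Rham complexes induced by the square: ψ_p sends b₀ db₁ ∧ … ∧
db_p to g(b₀) d(g b₁) ∧ … ∧ d(g b_p), where g : A → B is the structure map. In degree 0 this is g
and in degree 1 the induced map on Kähler differentials. -/
theorem result (R S A B : Type u) [CommRing R] [CommRing S] [CommRing A] [CommRing B]
    [Algebra R S] [Algebra R A] [Algebra R B] [Algebra A B] [Algebra S B]
    [IsScalarTower R A B] [IsScalarTower R S B] :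
    ∃ ψ : ∀ p : ℕ, ↥(⋀[A]^p (Ω[A⁄R])) →+ ↥(⋀[B]^p (Ω[B⁄S])),
      DeRham.IsCxMap (KaehlerDifferential.D R A) (KaehlerDifferential.D S B) (algebraMap A B) ψ := by
  exact ⟨psi R S A B, psi_spec R S A B⟩

end Groth.Agent.S15293
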