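import Groth.Statements.S15297
import Mathlib
import Groth.Agent.Lib.helper23.DeRhamLib

set_option autoImplicit false
universe u
open DeRham

namespace Groth.Agent.S15297

open exteriorPower in
/-- Let R → A be a ring map and d a de Rham differential of the Kähler differentials of A over R. Then
each d from p-forms to (p+1)-forms, an R-linear map between A-modules, is a differential operator of
order at most 1 relative to R → A: every commutator of d with multiplication by an element of A is
A-linear. -/
theorem result (R A : Type u) [CommRing R] [CommRing A] [Algebra R A]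
    (d : ∀ p : ℕ, ↥(⋀[A]^p (Ω[A⁄R])) →ₗ[R] ↥(⋀[A]^(p + 1) (Ω[A⁄R])))
    (hd : DeRham.IsDiff (KaehlerDifferential.D R A) d) (p : ℕ) :
    Diff16.IsDiffOpLE R A ↥(⋀[A]^p (Ω[A⁄R])) ↥(⋀[A]^(p + 1) (Ω[A⁄R])) 1 (d p) := by
  intro a c m
  have key : ∀ (b₀' : A) (b : Fin p → A),
      Diff16.commutator R A _ _ (d p) a (DeRham.gen (KaehlerDifferential.D R A) p b₀' b) =
        b₀' • exteriorPower.ιMulti A (p + 1)
          (Fin.cons (KaehlerDifferential.D R A a) (fun i => KaehlerDifferential.D R A (b i))) := by
    intro b₀' b
    unfold Diff16.commutator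
    simp only [LinearMap.sub_apply, LinearMap.comp_apply, LinearMap.restrictScalars_apply,
      LinearMap.lsmul_apply]
    have h1 : a • DeRham.gen (KaehlerDifferential.D R A) p b₀' b =
        DeRham.gen (KaehlerDifferential.D R A) p (a * b₀') b := by
      unfold DeRham.gen; rw [smul_smul]
    rw [h1, hd.1, hd.1, Derivation.leibniz]
    have e1 := (exteriorPower.ιMulti A (p + 1) (M := Ω[A⁄R])).toMultilinearMap.cons_add
      (fun i => KaehlerDifferential.D R A (b i)) (a • KaehlerDifferential.D R A b₀')
      (b₀' • KaehlerDifferential.D R A a)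
    have e2 := (exteriorPower.ιMulti A (p + 1) (M := Ω[A⁄R])).toMultilinearMap.cons_smul
      (fun i => KaehlerDifferential.D R A (b i)) a (KaehlerDifferential.D R A b₀')
    have e3 := (exteriorPower.ιMulti A (p + 1) (M := Ω[A⁄R])).toMultilinearMap.cons_smul
      (fun i => KaehlerDifferential.D R A (b i)) b₀' (KaehlerDifferential.D R A a)
    simp only [AlternatingMap.coe_multilinearMap] at e1 e2 e3
    rw [e1, e2, e3]
    abel
  refine Lib.helper23.DeRhamLib.gen_induction_kaehler R A p
    (fun m => Diff16.commutator R A _ _ (d p) a (c • m) = c • Diff16.commutator R A _ _ (d p) a m)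
    (by simp) (fun x y hx hy => by rw [smul_add, map_add, map_add, hx, hy, smul_add]) ?_ m
  intro b₀ b
  have h2 : c • DeRham.gen (KaehlerDifferential.D R A) p b₀ b =
      DeRham.gen (KaehlerDifferential.D R A) p (c * b₀) b := by
    unfold DeRham.gen; rw [smul_smul]
  show Diff16.commutator R A _ _ (d p) a (c • _) = c • Diff16.commutator R A _ _ (d p) a _
  rw [h2, key, key, mul_smul]

end Groth.Agent.S15297
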