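import Groth.Statements.S15298
import Mathlib
import Groth.Agent.Lib.helper20.PSEval

set_option autoImplicit false
universe u
open CAlg

namespace Groth.Agent.S15298

/-- Let k be a field, A a Noetherian k-algebra and x a non-zero-divisor of A such that A is separated
and complete for the (x)-adic topology, and assume that B = A/xA is formally smooth over k. Then A
is a power series ring over B in the variable x: there is a k-algebra isomorphism e : B[[T]] ≅ A
with e(T) = x whose reduction modulo x is the constant-coefficient map, i.e. e(f) ≡ f(0) mod x for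
every power series f. -/
theorem result (k A : Type u) [Field k]
    [CommRing A] [Algebra k A] [IsNoetherianRing A] (x : A) (hx : x ∈ nonZeroDivisors A)
    [IsAdicComplete (Ideal.span {x}) A] [Algebra.FormallySmooth k (A ⧸ Ideal.span {x})] :
    ∃ e : PowerSeries (A ⧸ Ideal.span {x}) ≃ₐ[k] A,
      e PowerSeries.X = x ∧
      ∀ f : PowerSeries (A ⧸ Ideal.span {x}),
        Ideal.Quotient.mk (Ideal.span {x}) (e f) = PowerSeries.constantCoeff f := by
  classical
  obtain ⟨s, hs⟩ := Algebra.FormallySmooth.exists_mkₐ_comp_eq_of_isAdicComplete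
    (R := k) (A := A ⧸ Ideal.span {x}) (S := A) (I := Ideal.span {x}) (AlgHom.id k _)
  have hs' : ∀ b, Ideal.Quotient.mk (Ideal.span {x}) (s b) = b := fun b => by
    have h0 := AlgHom.congr_fun hs b
    simpa using h0
  have hinj : Function.Injective (Groth.Agent.Lib.helper20.PSEval.evalHom s.toRingHom
      (Ideal.span {x}) x (Ideal.mem_span_singleton_self x)) :=
    Groth.Agent.Lib.helper20.PSEval.evalHom_injective s.toRingHom x hx (fun b hb => by
      have h0 := hs' b
      rw [← h0, Ideal.Quotient.eq_zero_iff_mem]
      exact hb)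
  have hsurj : Function.Surjective (Groth.Agent.Lib.helper20.PSEval.evalHom s.toRingHom
      (Ideal.span {x}) x (Ideal.mem_span_singleton_self x)) :=
    Groth.Agent.Lib.helper20.PSEval.evalHom_surjective s.toRingHom x (fun z =>
      ⟨Ideal.Quotient.mk _ z, by
        rw [← Ideal.Quotient.eq]
        exact (hs' _).symm⟩)
  have hcomm : ∀ r : k, Groth.Agent.Lib.helper20.PSEval.evalHom s.toRingHom
      (Ideal.span {x}) x (Ideal.mem_span_singleton_self x)
      (algebraMap k (PowerSeries (A ⧸ Ideal.span {x})) r) = algebraMap k A r := by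
    intro r
    rw [PowerSeries.algebraMap_apply, Groth.Agent.Lib.helper20.PSEval.evalHom_C]
    exact s.commutes r
  refine ⟨AlgEquiv.ofBijective
    ({ Groth.Agent.Lib.helper20.PSEval.evalHom s.toRingHom
        (Ideal.span {x}) x (Ideal.mem_span_singleton_self x) with commutes' := hcomm } :
      PowerSeries (A ⧸ Ideal.span {x}) →ₐ[k] A) ⟨hinj, hsurj⟩, ?_, ?_⟩
  · exact Groth.Agent.Lib.helper20.PSEval.evalHom_X _ _ _ _
  · intro f
    have h1 := Groth.Agent.Lib.helper20.PSEval.evalHom_sub_mem s.toRingHom (Ideal.span {x}) x
      (Ideal.mem_span_singleton_self x) f 1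
    rw [Finset.sum_range_one, pow_zero, mul_one, pow_one, ← Ideal.Quotient.eq] at h1
    show Ideal.Quotient.mk (Ideal.span {x}) (Groth.Agent.Lib.helper20.PSEval.evalHom s.toRingHom
      (Ideal.span {x}) x (Ideal.mem_span_singleton_self x) f) = _
    rw [h1]
    show Ideal.Quotient.mk (Ideal.span {x}) (s (PowerSeries.coeff 0 f)) = _
    rw [hs', PowerSeries.coeff_zero_eq_constantCoeff_apply]

end Groth.Agent.S15298
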