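import Groth.Statements.S15315
import Mathlib

set_option autoImplicit false
universe u
open ArLef

namespace Groth.Agent.S15315

/-- For a Noetherian commutative ring A, elements a, b with a a non-zero-divisor on A/(b), and an ideal
I, one has length(A/(aI + bA)) = length(A/(a, b)) + length(A/(I + bA)) as extended natural numbers;
in particular when two of the three quotients have finite length so does the third. -/
theorem result (A : Type u) [CommRing A] [IsNoetherianRing A] (a b : A) (I : Ideal A)
    (ha : IsSMulRegular (A ⧸ Ideal.span ({b} : Set A)) a) :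
    Module.length A (A ⧸ (Ideal.span {a} * I ⊔ Ideal.span {b})) =
      Module.length A (A ⧸ Ideal.span ({a, b} : Set A)) + Module.length A (A ⧸ (I ⊔ Ideal.span {b})) := by
  set J₁ : Ideal A := Ideal.span {a} * I ⊔ Ideal.span {b} with hJ₁
  set J₂ : Ideal A := Ideal.span ({a, b} : Set A) with hJ₂
  set J₃ : Ideal A := I ⊔ Ideal.span {b} with hJ₃
  have h31 : J₃ ≤ Submodule.comap (LinearMap.lsmul A A a) J₁ := by
    intro x hx
    rw [hJ₃, Submodule.mem_sup] at hx
    obtain ⟨i, hi, y, hy, rfl⟩ := hx
    rw [Ideal.mem_span_singleton'] at hy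
    obtain ⟨c, rfl⟩ := hy
    simp only [Submodule.mem_comap, LinearMap.lsmul_apply, smul_eq_mul, mul_add]
    apply Ideal.add_mem
    · exact Ideal.mem_sup_left (Ideal.mul_mem_mul (Ideal.mem_span_singleton_self a) hi)
    · apply Ideal.mem_sup_right
      rw [Ideal.mem_span_singleton']
      exact ⟨a * c, by ring⟩
  have h12 : J₁ ≤ Submodule.comap (LinearMap.id : A →ₗ[A] A) J₂ := by
    rw [Submodule.comap_id]
    apply sup_le
    · refine Ideal.mul_le_left.trans ?_
      rw [Ideal.span_le]
      intro x hx
      rw [Set.mem_singleton_iff] at hx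
      subst hx
      exact Ideal.subset_span (by simp)
    · rw [Ideal.span_le]
      intro x hx
      rw [Set.mem_singleton_iff] at hx
      subst hx
      exact Ideal.subset_span (by simp)
  let φ : (A ⧸ J₃) →ₗ[A] (A ⧸ J₁) := Submodule.mapQ J₃ J₁ (LinearMap.lsmul A A a) h31
  let ψ : (A ⧸ J₁) →ₗ[A] (A ⧸ J₂) := Submodule.mapQ J₁ J₂ LinearMap.id h12
  have hφ : ∀ x : A, φ (Submodule.Quotient.mk x) = Submodule.Quotient.mk (a * x) := fun x => rfl
  have hψ : ∀ x : A, ψ (Submodule.Quotient.mk x) = Submodule.Quotient.mk x := fun x => rfl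
  have hinj : Function.Injective φ := by
    rw [injective_iff_map_eq_zero]
    intro y
    obtain ⟨x, rfl⟩ := Submodule.Quotient.mk_surjective _ y
    rw [hφ, Submodule.Quotient.mk_eq_zero, Submodule.Quotient.mk_eq_zero]
    intro hx
    rw [hJ₁, Submodule.mem_sup] at hx
    obtain ⟨s, hs, t, ht, hst⟩ := hx
    rw [Ideal.mem_span_singleton_mul] at hs
    obtain ⟨i, hi, rfl⟩ := hs
    have h1 : a * (x - i) ∈ Ideal.span ({b} : Set A) := by
      have : a * (x - i) = t := by rw [mul_sub, ← hst]; ring
      rw [this]; exact ht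
    have h2 : (Submodule.Quotient.mk (x - i) : A ⧸ Ideal.span ({b} : Set A)) = 0 := by
      apply ha
      show a • (Submodule.Quotient.mk (x - i) : A ⧸ Ideal.span ({b} : Set A)) = a • 0
      rw [smul_zero, ← Submodule.Quotient.mk_smul, Submodule.Quotient.mk_eq_zero]
      exact h1
    rw [Submodule.Quotient.mk_eq_zero] at h2
    have : x = i + (x - i) := by ring
    rw [this, hJ₃]
    exact Ideal.add_mem _ (Ideal.mem_sup_left hi) (Ideal.mem_sup_right h2)
  have hsurj : Function.Surjective ψ := by
    intro y
    obtain ⟨x, rfl⟩ := Submodule.Quotient.mk_surjective _ y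
    exact ⟨Submodule.Quotient.mk x, hψ x⟩
  have hex : Function.Exact φ ψ := by
    intro y
    obtain ⟨z, rfl⟩ := Submodule.Quotient.mk_surjective _ y
    rw [hψ, Submodule.Quotient.mk_eq_zero]
    constructor
    · intro hz
      rw [hJ₂, Ideal.mem_span_pair] at hz
      obtain ⟨u, v, rfl⟩ := hz
      refine ⟨Submodule.Quotient.mk u, ?_⟩
      rw [hφ]
      rw [Submodule.Quotient.eq]
      have : a * u - (u * a + v * b) = -(v * b) := by ring
      rw [this]
      apply Ideal.neg_mem_iff _ |>.2
      apply Ideal.mem_sup_right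
      rw [Ideal.mem_span_singleton']
      exact ⟨v, rfl⟩
    · rintro ⟨y', hy'⟩
      obtain ⟨u, rfl⟩ := Submodule.Quotient.mk_surjective _ y'
      rw [hφ, Submodule.Quotient.eq] at hy'
      have hau : a * u ∈ J₂ := by
        rw [hJ₂, Ideal.mem_span_pair]
        exact ⟨u, 0, by ring⟩
      have hz : z = a * u - (a * u - z) := by ring
      rw [hz]
      exact Ideal.sub_mem _ hau (h12 hy')
  exact (Module.length_eq_add_of_exact φ ψ hinj hsurj hex).trans (add_comm _ _)

end Groth.Agent.S15315
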