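import Groth.Statements.S15319
import Mathlib

set_option autoImplicit false
universe u
open ArLef ArLef.NodeAlg

namespace Groth.Agent.S15319

open MvPowerSeries in
theorem lemmaA {B : Type u} [CommRing B] [IsDomain B] (π : B) (hπ0 : π ≠ 0) (hπu : ¬ IsUnit π)
    (j : ℕ) (F : MvPowerSeries (Fin 2) B) :
    F * (X 0 * X 1 - C π) ≠ C (π ^ j) := by
  classical
  intro heq
  set d : Fin 2 →₀ ℕ := Finsupp.single 0 1 + Finsupp.single 1 1 with hd
  have hXX : (X 0 * X 1 : MvPowerSeries (Fin 2) B) = monomial d 1 := by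
    rw [X_def, X_def, monomial_mul_monomial, mul_one]
  have hd0 : d ≠ 0 := by
    intro h
    have := DFunLike.congr_fun h 0
    simp [hd] at this
  have hk0 : π ^ j = -(coeff 0 F * π) := by
    have h1 := congrArg (coeff (0 : Fin 2 →₀ ℕ)) heq
    rw [mul_sub, map_sub, hXX, coeff_mul_monomial, if_neg (by
      intro hle
      exact hd0 (le_antisymm hle bot_le)), coeff_mul_C, coeff_C, if_pos rfl] at h1
    rw [← h1]; ring
  have hk : ∀ k : ℕ, coeff (k • d) F = coeff ((k + 1) • d) F * π := by
    intro k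
    have h1 := congrArg (coeff ((k + 1) • d)) heq
    have h2 : (k + 1) • d = k • d + d := succ_nsmul d k
    have h3 : (k + 1) • d ≠ 0 := by
      rw [h2]
      intro h
      have h4 := DFunLike.congr_fun h 0
      simp [hd] at h4
    rw [mul_sub, map_sub, hXX, coeff_C, if_neg h3, coeff_mul_C] at h1
    conv at h1 => lhs; lhs; rw [h2, coeff_add_mul_monomial]
    rw [mul_one] at h1
    exact sub_eq_zero.1 h1
  have hall : ∀ k : ℕ, coeff 0 F = coeff (k • d) F * π ^ k := by
    intro k
    induction k with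
    | zero => simp
    | succ k ih => rw [ih, hk k, pow_succ]; ring
  have h5 : π ^ j * (1 + coeff (j • d) F * π) = 0 := by
    have := hall j
    rw [this] at hk0
    linear_combination hk0
  rcases mul_eq_zero.1 h5 with h | h
  · exact hπ0 (pow_eq_zero_iff (n := j) (by
      intro hj
      rw [hj, pow_zero] at h
      exact one_ne_zero h) |>.1 h)
  · apply hπu
    exact IsUnit.of_mul_eq_one (-(coeff (j • d) F)) (by linear_combination (-1 : B) * h)

open MvPowerSeries in
theorem lemmaB {B : Type u} [CommRing B] [IsLocalRing B] (π γ : B) (hγ : IsUnit γ) (hπu : ¬ IsUnit π)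
    (j : ℕ) (hj : 1 ≤ j) (a' b' : MvPowerSeries (Fin 2) B) :
    IsUnit (C γ - X 0 * b' - X 1 * a' - C (π ^ j) * (a' * b') : MvPowerSeries (Fin 2) B) := by
  rw [isUnit_iff_constantCoeff]
  have h1 : constantCoeff (C γ - X 0 * b' - X 1 * a' - C (π ^ j) * (a' * b') : MvPowerSeries (Fin 2) B)
      = γ - π ^ j * constantCoeff (a' * b') := by
    simp
  rw [h1]
  have hnu : ¬ IsUnit (π ^ j * constantCoeff (a' * b')) := by
    intro h
    have h2 : IsUnit (π ^ j) := isUnit_of_mul_isUnit_left h
    exact hπu ((isUnit_pow_iff (by omega)).1 h2)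
  rcases IsLocalRing.isUnit_or_isUnit_of_isUnit_add
    (a := γ - π ^ j * constantCoeff (a' * b')) (b := π ^ j * constantCoeff (a' * b'))
    (by simpa using hγ) with h | h
  · exact h
  · exact absurd h hnu

/-- Let B be a discrete valuation ring with uniformizer π, N = B[[t, e]]/(te - π) the complete local
ring of a semi-stable arithmetic surface over B at a singular point of the closed fibre, and σ a
ring automorphism of N sending π to π + γ π^j with γ a unit of B and j ≥ 1 (σ lies over an
automorphism τ of B with v(τ(π) - π) = j). Then the fixed-point ideal of σ is not contained in (π^j)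
= (t^j e^j): the two branches through the point cannot both occur with multiplicity j in the
divisorial part of the fixed locus. (The published setting has B complete with algebraically closed
residue field.) -/
theorem result (B : Type u) [CommRing B] [IsDomain B] [IsDiscreteValuationRing B] (π : B) (hπ : Irreducible π)
    (j : ℕ) (hj : 1 ≤ j) (γ : B) (hγ : IsUnit γ)
    (σ : ArLef.NodeAlg B π ≃+* ArLef.NodeAlg B π)
    (hσ : σ (algebraMap B (ArLef.NodeAlg B π) π) = algebraMap B (ArLef.NodeAlg B π) (π + γ * π ^ j)) :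
    ¬ ArLef.fixIdeal σ ≤ Ideal.span ({algebraMap B (ArLef.NodeAlg B π) (π ^ j)} : Set (ArLef.NodeAlg B π)) := by
  classical
  intro hle
  have hπ0 : π ≠ 0 := hπ.ne_zero
  have hπu : ¬ IsUnit π := hπ.not_isUnit
  have hamap : ∀ b : B, algebraMap B (ArLef.NodeAlg B π) b =
      Ideal.Quotient.mk _ (MvPowerSeries.C b : MvPowerSeries (Fin 2) B) := by
    intro b
    rfl
  have hte : ArLef.NodeAlg.t π * ArLef.NodeAlg.e π = algebraMap B (ArLef.NodeAlg B π) π := by
    rw [hamap, ← map_mul, Ideal.Quotient.eq]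
    exact Ideal.subset_span rfl
  have ht : σ (ArLef.NodeAlg.t π) - ArLef.NodeAlg.t π ∈
      Ideal.span ({algebraMap B (ArLef.NodeAlg B π) (π ^ j)} : Set (ArLef.NodeAlg B π)) :=
    hle (Ideal.subset_span ⟨_, rfl⟩)
  have he : σ (ArLef.NodeAlg.e π) - ArLef.NodeAlg.e π ∈
      Ideal.span ({algebraMap B (ArLef.NodeAlg B π) (π ^ j)} : Set (ArLef.NodeAlg B π)) :=
    hle (Ideal.subset_span ⟨_, rfl⟩)
  obtain ⟨a, ha⟩ := Ideal.mem_span_singleton'.1 ht
  obtain ⟨b, hb⟩ := Ideal.mem_span_singleton'.1 he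
  obtain ⟨a', rfl⟩ := Ideal.Quotient.mk_surjective a
  obtain ⟨b', rfl⟩ := Ideal.Quotient.mk_surjective b
  have hprod : σ (ArLef.NodeAlg.t π) * σ (ArLef.NodeAlg.e π) =
      algebraMap B (ArLef.NodeAlg B π) π +
        algebraMap B (ArLef.NodeAlg B π) γ * algebraMap B (ArLef.NodeAlg B π) (π ^ j) := by
    rw [← map_mul, hte, hσ, map_add, map_mul]
  have hzero : algebraMap B (ArLef.NodeAlg B π) (π ^ j) *
      Ideal.Quotient.mk _ (MvPowerSeries.C γ - MvPowerSeries.X 0 * b' - MvPowerSeries.X 1 * a' -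
        MvPowerSeries.C (π ^ j) * (a' * b') : MvPowerSeries (Fin 2) B) = 0 := by
    have h1 : σ (ArLef.NodeAlg.t π) = ArLef.NodeAlg.t π +
        Ideal.Quotient.mk _ a' * algebraMap B (ArLef.NodeAlg B π) (π ^ j) := by
      rw [ha]; ring
    have h2 : σ (ArLef.NodeAlg.e π) = ArLef.NodeAlg.e π +
        Ideal.Quotient.mk _ b' * algebraMap B (ArLef.NodeAlg B π) (π ^ j) := by
      rw [hb]; ring
    rw [h1, h2] at hprod
    simp only [map_sub, map_mul, ← hamap]
    linear_combination (-1 : ArLef.NodeAlg B π) * hprod + hte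
  have hu := (lemmaB π γ hγ hπu j hj a' b').map
    (Ideal.Quotient.mk (Ideal.span {(MvPowerSeries.X 0 * MvPowerSeries.X 1 - MvPowerSeries.C π :
      MvPowerSeries (Fin 2) B)}))
  have hP : algebraMap B (ArLef.NodeAlg B π) (π ^ j) = 0 := by
    obtain ⟨v, hv⟩ := hu
    rw [← hv] at hzero
    exact (Units.mul_left_eq_zero v).1 hzero
  rw [hamap, Ideal.Quotient.eq_zero_iff_mem] at hP
  obtain ⟨F, hF⟩ := Ideal.mem_span_singleton'.1 hP
  exact lemmaA π hπ0 hπu j F hF

end Groth.Agent.S15319
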