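import Groth.Statements.S15322
import Mathlib

set_option autoImplicit false
universe u
open CategoryTheory AlgebraicGeometry CategoryTheory.Limits
open ArLef

namespace Groth.Agent.S15322

/-- Let f : D → C be a morphism, τ an automorphism of C and σ an automorphism of D with σ f = f τ; call
σ a good lifting of τ when the fixed-point scheme of σ is the full preimage of that of τ, i.e. every
morphism z : Z → D with z f τ = z f has z σ = z. If f is etale, separated and surjective with D
connected and the fixed-point scheme of τ is non-empty (some point of C, with its residue field, is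
fixed by τ), then τ has at most one good lifting. (The published statement is for a finite etale
cover of smooth projective irreducible curves over a field and a non-trivial τ; the argument uses
only the hypotheses stated here.) -/
theorem result {C D : Scheme.{u}} (f : D ⟶ C) [Etale f] [IsSeparated f] [Surjective f]
    [ConnectedSpace D] (τ : C ≅ C) (σ σ' : D ≅ D)
    (hσ : σ.hom ≫ f = f ≫ τ.hom) (hσ' : σ'.hom ≫ f = f ≫ τ.hom)
    (good : ∀ (Z : Scheme.{u}) (z : Z ⟶ D), z ≫ f ≫ τ.hom = z ≫ f → z ≫ σ.hom = z)
    (good' : ∀ (Z : Scheme.{u}) (z : Z ⟶ D), z ≫ f ≫ τ.hom = z ≫ f → z ≫ σ'.hom = z)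
    (x : C) (hx : C.fromSpecResidueField x ≫ τ.hom = C.fromSpecResidueField x) :
    σ = σ' := by
  have hab : σ.hom ≫ f = σ'.hom ≫ f := by rw [hσ, hσ']
  obtain ⟨d, rfl⟩ := f.surjective x
  have hz : D.fromSpecResidueField d ≫ f ≫ τ.hom = D.fromSpecResidueField d ≫ f := by
    rw [← Category.assoc, ← Scheme.Hom.SpecMap_residueFieldMap_fromSpecResidueField,
      Category.assoc, hx]
  have hza : D.fromSpecResidueField d ≫ σ.hom = D.fromSpecResidueField d ≫ σ'.hom := by
    rw [good _ _ hz, good' _ _ hz]
  have hlift : D.fromSpecResidueField d ≫ pullback.lift σ.hom σ'.hom hab =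
      (D.fromSpecResidueField d ≫ σ.hom) ≫ pullback.diagonal f := by
    apply pullback.hom_ext
    · simp only [Category.assoc, pullback.lift_fst, pullback.diagonal_fst, Category.comp_id]
    · simp only [Category.assoc, pullback.lift_snd, pullback.diagonal_snd, Category.comp_id]
      exact hza.symm
  have : IsOpenImmersion (pullback.diagonal f) := inferInstance
  have : IsClosedImmersion (pullback.diagonal f) := inferInstance
  have : IsOpenImmersion (pullback.fst (pullback.lift σ.hom σ'.hom hab) (pullback.diagonal f)) :=
    inferInstance
  have : IsClosedImmersion (pullback.fst (pullback.lift σ.hom σ'.hom hab) (pullback.diagonal f)) :=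
    inferInstance
  have hopen : IsOpen (Set.range
      (pullback.fst (pullback.lift σ.hom σ'.hom hab) (pullback.diagonal f)).base) :=
    (pullback.fst (pullback.lift σ.hom σ'.hom hab) (pullback.diagonal f)).isOpenEmbedding.isOpen_range
  have hclosed : IsClosed (Set.range
      (pullback.fst (pullback.lift σ.hom σ'.hom hab) (pullback.diagonal f)).base) :=
    (pullback.fst (pullback.lift σ.hom σ'.hom hab)
      (pullback.diagonal f)).isClosedEmbedding.isClosed_range
  have hne : (Set.range
      (pullback.fst (pullback.lift σ.hom σ'.hom hab) (pullback.diagonal f)).base).Nonempty := by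
    obtain ⟨pt⟩ : Nonempty ↥(Spec (D.residueField d)) := inferInstance
    exact ⟨_, ⟨(pullback.lift (D.fromSpecResidueField d) (D.fromSpecResidueField d ≫ σ.hom) hlift).base pt,
      rfl⟩⟩
  have huniv := IsClopen.eq_univ ⟨hclosed, hopen⟩ hne
  have : Surjective (pullback.fst (pullback.lift σ.hom σ'.hom hab) (pullback.diagonal f)) :=
    ⟨Set.range_eq_univ.1 huniv⟩
  have : IsIso (pullback.fst (pullback.lift σ.hom σ'.hom hab) (pullback.diagonal f)) :=
    (isIso_iff_isOpenImmersion_and_surjective _).2 ⟨inferInstance, inferInstance⟩
  have key : pullback.fst (pullback.lift σ.hom σ'.hom hab) (pullback.diagonal f) ≫ σ.hom =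
      pullback.fst (pullback.lift σ.hom σ'.hom hab) (pullback.diagonal f) ≫ σ'.hom := by
    have h1 : pullback.fst (pullback.lift σ.hom σ'.hom hab) (pullback.diagonal f) ≫
        pullback.lift σ.hom σ'.hom hab =
        pullback.snd (pullback.lift σ.hom σ'.hom hab) (pullback.diagonal f) ≫ pullback.diagonal f :=
      pullback.condition
    have h2 := congrArg (· ≫ pullback.fst f f) h1
    have h3 := congrArg (· ≫ pullback.snd f f) h1
    simp only [Category.assoc, pullback.lift_fst, pullback.lift_snd, pullback.diagonal_fst,
      pullback.diagonal_snd, Category.comp_id] at h2 h3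
    rw [h2, h3]
  ext1
  exact (cancel_epi _).1 key

end Groth.Agent.S15322
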