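import Groth.Statements.S15326
import Mathlib

set_option autoImplicit false
universe u
open ArLef

namespace Groth.Agent.S15326

/-- Let A be a commutative ring, t an element generating a prime ideal (a local equation of an
irreducible component C of the closed fibre), v an element outside (t) with π = vt the uniformizer,
and σ a ring automorphism of A with σ(vt) = vt whose fixed-point ideal is contained in (t^i) for
some i ≥ 1 (C has multiplicity at least i in the fixed locus). Then σ(t) - t lies in t^(i+1) A_(t),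
the localization at the prime (t): σ - 1 vanishes on (t)/(t^(i+1)) at the generic point of C. -/
theorem result (A : Type u) [CommRing A] (t v : A)
    [ht : (Ideal.span ({t} : Set A)).IsPrime] (hv : v ∉ Ideal.span ({t} : Set A))
    (σ : A ≃+* A) (hσ : σ (v * t) = v * t) (i : ℕ) (hi : 1 ≤ i)
    (hI : ArLef.fixIdeal σ ≤ Ideal.span ({t ^ i} : Set A)) :
    algebraMap A (Localization.AtPrime (Ideal.span ({t} : Set A))) (σ t - t) ∈
      Ideal.span ({algebraMap A (Localization.AtPrime (Ideal.span ({t} : Set A))) (t ^ (i + 1))} :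
        Set (Localization.AtPrime (Ideal.span ({t} : Set A)))) := by
  have hmem : ∀ a : A, σ a - a ∈ Ideal.span ({t ^ i} : Set A) := fun a =>
    hI (Ideal.subset_span ⟨a, rfl⟩)
  obtain ⟨x, hx⟩ := Ideal.mem_span_singleton'.1 (hmem t)
  obtain ⟨y, hy⟩ := Ideal.mem_span_singleton'.1 (hmem v)
  obtain ⟨i', rfl⟩ : ∃ i', i = i' + 1 := ⟨i - 1, by omega⟩
  -- `v * (σ t - t) = - t ^ (i+1) * (y + t^(i-1) x y)`
  have hkey : v * (σ t - t) = t ^ (i' + 1 + 1) * (-(y + t ^ i' * x * y)) := by
    have h1 : σ t = t + x * t ^ (i' + 1) := by rw [hx]; ring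
    have h2 : σ v = v + y * t ^ (i' + 1) := by rw [hy]; ring
    have h3 := hσ
    rw [map_mul, h1, h2] at h3
    rw [h1]
    linear_combination h3
  have hvu : IsUnit (algebraMap A (Localization.AtPrime (Ideal.span ({t} : Set A))) v) :=
    IsLocalization.map_units _ (⟨v, hv⟩ : (Ideal.span ({t} : Set A)).primeCompl)
  obtain ⟨w, hw⟩ := hvu.exists_left_inv
  rw [Ideal.mem_span_singleton']
  refine ⟨w * algebraMap A _ (-(y + t ^ i' * x * y)), ?_⟩
  have h4 := congrArg (algebraMap A (Localization.AtPrime (Ideal.span ({t} : Set A)))) hkey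
  rw [map_mul, map_mul] at h4
  calc w * algebraMap A _ (-(y + t ^ i' * x * y)) * algebraMap A _ (t ^ (i' + 1 + 1))
      = w * (algebraMap A _ (t ^ (i' + 1 + 1)) * algebraMap A _ (-(y + t ^ i' * x * y))) := by ring
    _ = w * (algebraMap A _ v * algebraMap A _ (σ t - t)) := by rw [h4]
    _ = (w * algebraMap A _ v) * algebraMap A _ (σ t - t) := by ring
    _ = algebraMap A _ (σ t - t) := by rw [hw, one_mul]

end Groth.Agent.S15326
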