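import Groth.Statements.S15327
import Mathlib

set_option autoImplicit false
open ArLef ArLef.BlowupGraph
open Matrix

namespace Groth.Agent.S15327

section helpers

variable {n : ℕ} (G : ArLef.BlowupGraph n)

lemma ttN_of_lt (k m : ℕ) (h : m < k) : G.ttN k m = 0 := by
  rw [ttN]; simp [h]

lemma ttN_self (k : ℕ) : G.ttN k k = 1 := by
  rw [ttN]; simp

lemma ttN_of_gt (k m : ℕ) (h : k < m) : G.ttN k m = ∑ p ∈ G.parN m, G.ttN k p := by
  rw [ttN]
  have h1 : ¬ m < k := by omega
  have h2 : m ≠ k := by omega
  simp only [h1, h2, if_false]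
  exact Finset.sum_attach (G.parN m) (fun p => G.ttN k p)

lemma tt_rec (k m : Fin n) :
    G.tt k m = (if k = m then 1 else 0) + ∑ p ∈ G.par m, G.tt k p := by
  unfold tt
  have hpar : G.parN m.1 = (G.par m).map Fin.valEmbedding := by
    unfold parN; simp [m.2]
  rcases lt_trichotomy m.1 k.1 with h | h | h
  · rw [ttN_of_lt G _ _ h]
    have : k ≠ m := by intro e; subst e; omega
    rw [if_neg this, zero_add]
    symm; apply Finset.sum_eq_zero
    intro p hp
    exact ttN_of_lt G _ _ (lt_trans (G.par_lt m p hp) h)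
  · have : k = m := Fin.ext h.symm
    subst this
    rw [ttN_self, if_pos rfl]
    symm; rw [add_eq_left]; apply Finset.sum_eq_zero
    intro p hp
    exact ttN_of_lt G _ _ (G.par_lt k p hp)
  · rw [ttN_of_gt G _ _ h, hpar, Finset.sum_map]
    have : k ≠ m := by intro e; subst e; omega
    rw [if_neg this, zero_add]
    rfl

/-- incidence matrix of `par` -/
noncomputable def A : Matrix (Fin n) (Fin n) ℚ := fun p m => if p ∈ G.par m then 1 else 0
/-- total transform matrix -/
noncomputable def T : Matrix (Fin n) (Fin n) ℚ := fun k m => (G.tt k m : ℚ)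

lemma T_mul_Q : T G * (1 - A G) = 1 := by
  rw [Matrix.mul_sub, Matrix.mul_one, sub_eq_iff_eq_add]
  ext k m
  simp only [Matrix.add_apply, Matrix.mul_apply, T, A, Matrix.one_apply]
  rw [tt_rec G k m]
  push_cast
  congr 1
  simp

lemma Q_mul_T : (1 - A G) * T G = 1 := by
  rw [mul_eq_one_comm]; exact T_mul_Q G

lemma QQt : (1 - A G) * (1 - A G)ᵀ = 1 - (A G)ᵀ - A G + A G * (A G)ᵀ := by
  rw [Matrix.transpose_sub, Matrix.transpose_one]
  noncomm_ring

lemma A_self (p : Fin n) : A G p p = 0 := by
  unfold A
  rw [if_neg]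
  intro h
  exact lt_irrefl _ (G.par_lt p p h)

lemma A_of_le (p q : Fin n) (h : q ≤ p) : A G p q = 0 := by
  unfold A
  rw [if_neg]
  intro h'
  exact absurd (G.par_lt q p h') (not_lt.mpr h)

lemma AAt_apply (p q : Fin n) :
    (A G * (A G)ᵀ) p q = ((Finset.univ.filter fun k => p ∈ G.par k ∧ q ∈ G.par k).card : ℚ) := by
  simp only [Matrix.mul_apply, Matrix.transpose_apply, A]
  rw [Finset.card_filter]
  push_cast
  apply Finset.sum_congr rfl
  intro k _
  by_cases h1 : p ∈ G.par k <;> by_cases h2 : q ∈ G.par k <;> simp [h1, h2]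

lemma both_mem_iff (p q k : Fin n) (hpq : p ≠ q) :
    (p ∈ G.par k ∧ q ∈ G.par k) ↔ G.par k = {p, q} := by
  constructor
  · rintro ⟨h1, h2⟩
    symm
    apply Finset.eq_of_subset_of_card_le
    · intro x hx
      simp only [Finset.mem_insert, Finset.mem_singleton] at hx
      rcases hx with rfl | rfl <;> assumption
    · rw [Finset.card_pair hpq]; exact G.card_le_two k
  · intro h; rw [h]; simp

lemma Adj_symm (p q : Fin n) : G.Adj p q ↔ G.Adj q p := by
  unfold Adj
  exact or_comm

lemma mat_offdiag (p q : Fin n) (h : p < q) :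
    G.mat p q = A G p q - (A G * (A G)ᵀ) p q := by
  have hne : p ≠ q := ne_of_lt h
  unfold mat
  rw [if_neg hne, AAt_apply]
  have hadj : G.Adj p q ↔ (p ∈ G.par q ∧ ∀ m, q < m → G.par m ≠ {p, q}) := by
    unfold Adj
    constructor
    · rintro (h1 | h1)
      · exact h1
      · exact absurd (G.par_lt p q h1.1) (not_lt.mpr h.le)
    · intro h1; exact Or.inl h1
  by_cases hpq : p ∈ G.par q
  · by_cases hm : ∀ m, q < m → G.par m ≠ {p, q}
    · rw [if_pos (hadj.mpr ⟨hpq, hm⟩)]
      have : (Finset.univ.filter fun k => p ∈ G.par k ∧ q ∈ G.par k) = ∅ := by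
        rw [Finset.filter_eq_empty_iff]
        intro k _ hk
        exact hm k (G.par_lt k q hk.2) ((both_mem_iff G p q k hne).mp hk)
      rw [this]
      simp [A, hpq]
    · rw [if_neg (fun h' => hm (hadj.mp h').2)]
      push Not at hm
      obtain ⟨m, hqm, hm⟩ := hm
      have : (Finset.univ.filter fun k => p ∈ G.par k ∧ q ∈ G.par k) = {m} := by
        ext k
        simp only [Finset.mem_filter, Finset.mem_univ, true_and, Finset.mem_singleton]
        constructor
        · intro hk
          have hk' := (both_mem_iff G p q k hne).mp hk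
          have hqk : q < k := G.par_lt k q hk.2
          rcases lt_trichotomy k m with h1 | h1 | h1
          · have hm' := (both_mem_iff G p q m hne).mpr hm
            exact absurd hk' ((G.meet_of_two m p q hm'.1 hm'.2 h).2 k hqk h1)
          · exact h1
          · exact absurd hm ((G.meet_of_two k p q hk.1 hk.2 h).2 m hqm h1)
        · rintro rfl
          exact (both_mem_iff G p q k hne).mpr hm
      rw [this]
      simp [A, hpq]
  · rw [if_neg (fun h' => hpq (hadj.mp h').1)]
    have : (Finset.univ.filter fun k => p ∈ G.par k ∧ q ∈ G.par k) = ∅ := by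
      rw [Finset.filter_eq_empty_iff]
      intro k _ hk
      exact hpq (G.meet_of_two k p q hk.1 hk.2 h).1
    rw [this]
    simp [A, hpq]

lemma AAt_symm (p q : Fin n) : (A G * (A G)ᵀ) p q = (A G * (A G)ᵀ) q p := by
  simp only [Matrix.mul_apply, Matrix.transpose_apply]
  exact Finset.sum_congr rfl (fun k _ => mul_comm _ _)

lemma mat_symm (p q : Fin n) : G.mat p q = G.mat q p := by
  unfold mat
  by_cases h : p = q
  · subst h; rfl
  · rw [if_neg h, if_neg (Ne.symm h)]
    by_cases h' : G.Adj p q
    · rw [if_pos h', if_pos ((Adj_symm G p q).mp h')]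
    · rw [if_neg h', if_neg (fun h'' => h' ((Adj_symm G p q).mpr h''))]

lemma mat_eq : G.mat = -((1 - A G) * (1 - A G)ᵀ) := by
  rw [QQt]
  ext p q
  simp only [Matrix.neg_apply, Matrix.add_apply, Matrix.sub_apply, Matrix.one_apply,
    Matrix.transpose_apply]
  rcases lt_trichotomy p q with h | h | h
  · rw [mat_offdiag G p q h, if_neg (ne_of_lt h), A_of_le G q p h.le]
    ring
  · subst h
    rw [if_pos rfl, A_self, AAt_apply]
    unfold mat selfInt
    rw [if_pos rfl]
    push_cast
    have : (Finset.univ.filter fun k => p ∈ G.par k ∧ p ∈ G.par k)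
        = (Finset.univ.filter fun m => p ∈ G.par m) := by
      ext k; simp
    rw [this]
    ring
  · rw [mat_symm, mat_offdiag G q p h, if_neg (ne_of_gt h), A_of_le G p q h.le, AAt_symm]
    ring

lemma mat_mul_N : G.mat * ((T G)ᵀ * T G) = -1 := by
  rw [mat_eq, Matrix.neg_mul, Matrix.mul_assoc, ← Matrix.mul_assoc _ (T G)ᵀ, ← Matrix.transpose_mul,
    T_mul_Q, Matrix.transpose_one, Matrix.one_mul, Q_mul_T]

lemma N_symm (i j : Fin n) : ((T G)ᵀ * T G) i j = ((T G)ᵀ * T G) j i := by
  simp only [Matrix.mul_apply, Matrix.transpose_apply]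
  exact Finset.sum_congr rfl (fun k _ => mul_comm _ _)

lemma N_apply (i j : Fin n) : ((T G)ᵀ * T G) i j = (G.mult i j : ℚ) := by
  simp only [Matrix.mul_apply, Matrix.transpose_apply, T, mult]
  push_cast
  rfl

lemma isUnit_sub (I : Finset (Fin n)) :
    IsUnit (G.mat.submatrix (fun x : I => x.1) (fun x : I => x.1)).det := by
  rw [isUnit_iff_ne_zero]
  intro hdet
  obtain ⟨v, hv, hBv⟩ := Matrix.exists_mulVec_eq_zero_iff.mpr hdet
  apply hv
  set R : Matrix I (Fin n) ℚ := (1 - A G).submatrix (fun x : I => x.1) id with hR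
  have hB : G.mat.submatrix (fun x : I => x.1) (fun x : I => x.1) = -(R * Rᵀ) := by
    rw [mat_eq, hR]
    ext a b
    simp [Matrix.mul_apply]
  have h1 : (v ᵥ* R) ⬝ᵥ (v ᵥ* R) = 0 := by
    have : v ⬝ᵥ ((R * Rᵀ) *ᵥ v) = 0 := by
      have h2 : (R * Rᵀ) *ᵥ v = 0 := by
        rw [hB, Matrix.neg_mulVec, neg_eq_zero] at hBv
        exact hBv
      rw [h2, dotProduct_zero]
    rw [← Matrix.mulVec_mulVec, Matrix.dotProduct_mulVec, Matrix.mulVec_transpose] at this
    exact this
  have h2 : v ᵥ* R = 0 := dotProduct_self_eq_zero.mp h1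
  have h3 : R * (T G).submatrix id (fun x : I => x.1) = 1 := by
    rw [hR, ← Matrix.submatrix_mul _ _ _ id _ Function.bijective_id, Q_mul_T,
      Matrix.submatrix_one _ Subtype.val_injective]
  calc v = v ᵥ* (1 : Matrix I I ℚ) := (Matrix.vecMul_one v).symm
    _ = (v ᵥ* R) ᵥ* (T G).submatrix id (fun x : I => x.1) := by
        rw [← h3, Matrix.vecMul_vecMul]
    _ = 0 := by rw [h2, Matrix.zero_vecMul]

end helpers

/-- Let Φ be the labelled dual graph of the exceptional curves of n successive blow-ups of closed points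
starting from a regular surface with algebraically closed residue fields (vertices = exceptional
curves in order of creation, labels = intersection numbers), I any set of vertices (the curves
contracted to a normal surface) and σ a permutation of the vertices preserving all intersection
numbers and the set I. Let e_{ij} be the multiplicity of E_i × E_j in the fibre square of the
composite blow-down (the sum over k of c^k_i c^k_j, c^k the total transform of the k-th exceptional
curve) and (E_i · E_j)_I Mumford's rational intersection number of the images after contracting I.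
Then the sum over i, j outside I of e_{ij} (σ E_i · E_j)_I equals minus the number of σ-fixed
vertices outside I. (Stated for the dual graphs realized with all residue fields equal to the base
field, which is the case the published argument realizes geometrically.) -/
theorem result (n : ℕ) (G : ArLef.BlowupGraph n) (I : Finset (Fin n))
    (σ : Equiv.Perm (Fin n)) (hσ : ∀ i j : Fin n, G.mat (σ i) (σ j) = G.mat i j)
    (hσI : ∀ i : Fin n, σ i ∈ I ↔ i ∈ I) :
    G.lNum I σ = ArLef.BlowupGraph.rNum I σ := by
  classical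
  have hWB : (G.mat.submatrix (fun x : I => x.1) (fun x : I => x.1))⁻¹ *
      (G.mat.submatrix (fun x : I => x.1) (fun x : I => x.1)) = 1 :=
    Matrix.nonsing_inv_mul _ (isUnit_sub G I)
  -- the pairing as a matrix
  have hP : ∀ i j, G.pairing I i j =
      (G.mat - (G.mat.submatrix id (fun x : I => x.1)) *
        (G.mat.submatrix (fun x : I => x.1) (fun x : I => x.1))⁻¹ *
        (G.mat.submatrix (fun x : I => x.1) id)) i j := by
    intro i j
    simp only [pairing, Matrix.sub_apply, Matrix.mul_apply, Matrix.submatrix_apply, id,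
      Finset.sum_mul]
    rw [Finset.sum_comm]
  have hP0 : ∀ i (c : I), G.pairing I i c.1 = 0 := by
    intro i c
    have key : (G.mat.submatrix id (fun x : I => x.1)) *
        (G.mat.submatrix (fun x : I => x.1) (fun x : I => x.1))⁻¹ *
        (G.mat.submatrix (fun x : I => x.1) (fun x : I => x.1)) =
        G.mat.submatrix id (fun x : I => x.1) := by
      rw [Matrix.mul_assoc, hWB, Matrix.mul_one]
    have h := congrFun (congrFun key i) c
    rw [Matrix.mul_apply] at h
    rw [hP, Matrix.sub_apply, Matrix.mul_apply, sub_eq_zero]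
    exact h.symm
  have hPN : ∀ i' i, i ∉ I → ∑ j, G.pairing I i' j * ((T G)ᵀ * T G) j i =
      -(if i' = i then 1 else 0) := by
    intro i' i hi
    have e1 : (G.mat.submatrix (fun x : I => x.1) id) * ((T G)ᵀ * T G) =
        (-1 : Matrix (Fin n) (Fin n) ℚ).submatrix (fun x : I => x.1) id := by
      rw [← mat_mul_N G, Matrix.submatrix_mul G.mat _ (fun x : I => x.1) id id
        Function.bijective_id, Matrix.submatrix_id_id]
    have e2 : ∑ j, G.pairing I i' j * ((T G)ᵀ * T G) j i =
        ((G.mat - (G.mat.submatrix id (fun x : I => x.1)) *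
        (G.mat.submatrix (fun x : I => x.1) (fun x : I => x.1))⁻¹ *
        (G.mat.submatrix (fun x : I => x.1) id)) * ((T G)ᵀ * T G)) i' i := by
      rw [Matrix.mul_apply]
      exact Finset.sum_congr rfl (fun j _ => by rw [hP])
    rw [e2, Matrix.sub_mul, Matrix.mul_assoc _ _ ((T G)ᵀ * T G), e1, mat_mul_N, Matrix.sub_apply,
      Matrix.neg_apply, Matrix.one_apply, Matrix.mul_apply]
    have : ∀ b : I, ((G.mat.submatrix id (fun x : I => x.1)) *
        (G.mat.submatrix (fun x : I => x.1) (fun x : I => x.1))⁻¹) i' b *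
        ((-1 : Matrix (Fin n) (Fin n) ℚ).submatrix (fun x : I => x.1) id) b i = 0 := by
      intro b
      have hb : b.1 ≠ i := fun h => hi (h ▸ b.2)
      simp [hb]
    rw [Finset.sum_eq_zero (fun b _ => this b), sub_zero]
  have inner : ∀ i, i ∉ I →
      ∑ j ∈ Finset.univ.filter (fun j => j ∉ I), (G.mult i j : ℚ) * G.pairing I (σ i) j =
        -(if σ i = i then 1 else 0) := by
    intro i hi
    rw [← hPN (σ i) i hi, Finset.sum_filter]
    apply Finset.sum_congr rfl
    intro j _
    by_cases hj : j ∈ I
    · rw [if_neg (not_not.mpr hj)]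
      have := hP0 (σ i) ⟨j, hj⟩
      simp only at this
      rw [this, zero_mul]
    · rw [if_pos hj, ← N_apply, N_symm, mul_comm]
  unfold lNum rNum
  rw [Finset.sum_congr rfl (fun i hi => inner i (Finset.mem_filter.mp hi).2),
    Finset.sum_neg_distrib, Finset.sum_boole, Finset.filter_filter]

end Groth.Agent.S15327
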