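import Groth.Statements.S15344
import Mathlib

set_option autoImplicit false
universe u
open CategoryTheory CategoryTheory.Limits AlgebraicGeometry
open Mor

namespace Groth.Agent.S15344

section Helpers
open CategoryTheory CategoryTheory.Limits AlgebraicGeometry

/-- A monomorphism from a nonempty scheme to the spectrum of a field has a section. -/
lemma exists_section_of_mono_field (k : Type u) [Field k] {P : Scheme.{u}}
    (h : P ⟶ Spec (CommRingCat.of k)) [Mono h] [Nonempty P] :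
    ∃ s : Spec (CommRingCat.of k) ⟶ P, s ≫ h = 𝟙 _ := by
  obtain ⟨p⟩ := ‹Nonempty P›
  obtain ⟨_, ⟨U, hU, rfl⟩, hpU, -⟩ := P.isBasis_affineOpens.exists_subset_of_mem_open
    (Set.mem_univ p) isOpen_univ
  replace hU : IsAffineOpen U := hU
  haveI : IsAffine U := hU
  haveI : Nonempty U := ⟨⟨p, hpU⟩⟩
  haveI : Mono ((Scheme.Opens.ι U) ≫ h) := mono_comp _ _
  haveI : Surjective ((Scheme.Opens.ι U) ≫ h) := ⟨fun x => ⟨⟨p, hpU⟩, Subsingleton.elim _ _⟩⟩
  haveI : QuasiCompact ((Scheme.Opens.ι U) ≫ h) := inferInstance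
  haveI : Flat ((Scheme.Opens.ι U) ≫ h) := inferInstance
  haveI : IsIso ((Scheme.Opens.ι U) ≫ h) := Flat.isIso_of_surjective_of_mono _
  exact ⟨inv ((Scheme.Opens.ι U) ≫ h) ≫ (Scheme.Opens.ι U), by simp⟩

open IsLocalRing in
set_option backward.isDefEq.respectTransparency.types false in
lemma backward {X Y : Scheme.{u}} (f : Y ⟶ X) [Mono f]
    (H : ∀ S : ValuativeCommSq f,
        (∃ l₀ : Spec (CommRingCat.of (IsLocalRing.ResidueField S.R)) ⟶ Y,
            l₀ ≫ f = Spec.map (CommRingCat.ofHom (IsLocalRing.residue S.R)) ≫ S.i₂) →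
          S.commSq.HasLift)
    (X' : Scheme.{u}) (g : X' ⟶ X) (y₀ y₁ : ↥(pullback f g))
    (hsp : (pullback.snd f g).base y₁ ⤳ (pullback.snd f g).base y₀) : y₁ ⤳ y₀ := by
  let φ : X'.presheaf.stalk ((pullback.snd f g) y₀) ⟶ (pullback f g).residueField y₁ :=
    X'.presheaf.stalkSpecializes hsp ≫ (pullback.snd f g).stalkMap y₁ ≫ (pullback f g).residue y₁
  obtain ⟨A, hA, hA_local⟩ := exists_factor_valuationRing φ.hom
  let ψ : X'.presheaf.stalk ((pullback.snd f g) y₀) ⟶ .of A :=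
    CommRingCat.ofHom (φ.hom.codRestrict _ hA)
  have w : (pullback f g).fromSpecResidueField y₁ ≫ pullback.snd f g =
      Spec.map (CommRingCat.ofHom (algebraMap A ((pullback f g).residueField y₁))) ≫
        Spec.map ψ ≫ X'.fromSpecStalk ((pullback.snd f g) y₀) := by
    rw [Scheme.fromSpecResidueField, Category.assoc, ← Scheme.SpecMap_stalkMap_fromSpecStalk,
      ← Scheme.SpecMap_stalkSpecializes_fromSpecStalk hsp]
    simp_rw [← Spec.map_comp_assoc]
    rfl
  obtain ⟨i₂', hi₂'⟩ : ∃ i₂' : Spec (.of A) ⟶ X',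
      i₂' = Spec.map ψ ≫ X'.fromSpecStalk ((pullback.snd f g) y₀) := ⟨_, rfl⟩
  have hcl : i₂' (closedPoint A) = (pullback.snd f g) y₀ := by
    rw [hi₂']
    show (X'.fromSpecStalk _) (Spec.map ψ (closedPoint A)) = _
    have : Spec.map ψ (closedPoint A) = closedPoint (X'.presheaf.stalk _) :=
      comap_closedPoint (S := A) (φ.hom.codRestrict A.toSubring hA)
    rw [this, X'.fromSpecStalk_closedPoint]
  obtain ⟨r, hrdef⟩ : ∃ r : Spec (.of (ResidueField A)) ⟶ Spec (.of A),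
      r = Spec.map (CommRingCat.ofHom (residue A)) := ⟨_, rfl⟩
  have hr : ∀ pt, r pt = closedPoint A := fun pt => by
    rw [hrdef]; exact PrimeSpectrum.comap_residue A pt
  haveI : Nonempty ↥(pullback (pullback.snd f g) (r ≫ i₂')) := by
    obtain ⟨z, -, -⟩ := Scheme.Pullback.exists_preimage_pullback (f := pullback.snd f g)
      (g := r ≫ i₂') y₀ (closedPoint (ResidueField A)) (by rw [Scheme.Hom.comp_apply, hr, hcl])
    exact ⟨z⟩
  obtain ⟨s, hs⟩ := exists_section_of_mono_field (ResidueField A)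
    (pullback.snd (pullback.snd f g) (r ≫ i₂'))
  obtain ⟨l₀', hl₀'def⟩ : ∃ l₀' : Spec (.of (ResidueField A)) ⟶ pullback f g,
    l₀' = s ≫ pullback.fst (pullback.snd f g) (r ≫ i₂') := ⟨_, rfl⟩
  have hl₀' : l₀' ≫ pullback.snd f g = r ≫ i₂' := by
    rw [hl₀'def, Category.assoc, pullback.condition, ← Category.assoc, hs, Category.id_comp]
  have hw' : ((pullback f g).fromSpecResidueField y₁ ≫ pullback.fst f g) ≫ f =
      Spec.map (CommRingCat.ofHom (algebraMap A ((pullback f g).residueField y₁))) ≫ (i₂' ≫ g) := by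
    rw [Category.assoc, pullback.condition, ← Category.assoc, w, hi₂']
    simp only [Category.assoc]
  let S : ValuativeCommSq f :=
    { R := A, K := (pullback f g).residueField y₁,
      i₁ := (pullback f g).fromSpecResidueField y₁ ≫ pullback.fst f g,
      i₂ := i₂' ≫ g, commSq := ⟨hw'⟩ }
  obtain ⟨l, hl₁, hl₂⟩ := (H S ⟨l₀' ≫ pullback.fst f g, by
      rw [Category.assoc, pullback.condition, ← Category.assoc, hl₀', hrdef, Category.assoc]⟩).exists_lift
  dsimp only [S] at hl₁ hl₂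
  obtain ⟨l', hl'def⟩ : ∃ l' : Spec (.of A) ⟶ pullback f g, l' = pullback.lift l i₂' hl₂ := ⟨_, rfl⟩
  have hl'₁ : Spec.map (CommRingCat.ofHom (algebraMap A ((pullback f g).residueField y₁))) ≫ l' =
      (pullback f g).fromSpecResidueField y₁ := by
    apply pullback.hom_ext
    · rw [hl'def, Category.assoc, pullback.lift_fst, hl₁]
    · rw [hl'def, Category.assoc, pullback.lift_snd, w, hi₂']
  have h1 : l' (closedPoint A) = y₀ := by
    apply (pullback.snd f g).injective
    rw [← Scheme.Hom.comp_apply, hl'def, pullback.lift_snd]; exact hcl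
  have h2 : y₁ = l' (Spec.map (CommRingCat.ofHom (algebraMap A ((pullback f g).residueField y₁)))
      (closedPoint ((pullback f g).residueField y₁))) := by
    rw [← Scheme.Hom.comp_apply, hl'₁, Scheme.fromSpecResidueField_apply]
  have h3 := (specializes_closedPoint (R := A)
    (Spec.map (CommRingCat.ofHom (algebraMap A ((pullback f g).residueField y₁)))
      (closedPoint ((pullback f g).residueField y₁)))).map l'.continuous
  rw [← h2, h1] at h3
  exact h3

open IsLocalRing in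
set_option backward.isDefEq.respectTransparency.types false in
lemma forward {X Y : Scheme.{u}} (f : Y ⟶ X) [Mono f]
    (H : ∀ (X' : Scheme.{u}) (g : X' ⟶ X) (y₀ y₁ : ↥(pullback f g)),
        (pullback.snd f g).base y₁ ⤳ (pullback.snd f g).base y₀ → y₁ ⤳ y₀)
    (S : ValuativeCommSq f)
    (l₀ : Spec (CommRingCat.of (IsLocalRing.ResidueField S.R)) ⟶ Y)
    (hl₀ : l₀ ≫ f = Spec.map (CommRingCat.ofHom (IsLocalRing.residue S.R)) ≫ S.i₂) :
    S.commSq.HasLift := by
  obtain ⟨σ, hσ⟩ : ∃ σ : Spec (.of S.K) ⟶ pullback f S.i₂,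
      σ = pullback.lift S.i₁ (Spec.map (CommRingCat.ofHom (algebraMap S.R S.K))) S.commSq.w :=
    ⟨_, rfl⟩
  obtain ⟨σ₀, hσ₀⟩ : ∃ σ₀ : Spec (.of (ResidueField S.R)) ⟶ pullback f S.i₂,
      σ₀ = pullback.lift l₀ (Spec.map (CommRingCat.ofHom (residue S.R))) hl₀ := ⟨_, rfl⟩
  obtain ⟨y₁, hy₁⟩ : ∃ y₁, y₁ = σ (closedPoint S.K) := ⟨_, rfl⟩
  obtain ⟨y₀, hy₀def⟩ : ∃ y₀, y₀ = σ₀ (closedPoint (ResidueField S.R)) := ⟨_, rfl⟩
  have hy₀ : (pullback.snd f S.i₂) y₀ = closedPoint S.R := by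
    rw [hy₀def, ← Scheme.Hom.comp_apply, hσ₀, pullback.lift_snd]
    exact PrimeSpectrum.comap_residue _ _
  have hsp : y₁ ⤳ y₀ := H _ S.i₂ y₀ y₁ (by rw [hy₀]; exact specializes_closedPoint _)
  obtain ⟨_, ⟨W, hW, rfl⟩, hy₀W, -⟩ := (pullback f S.i₂).isBasis_affineOpens.exists_subset_of_mem_open
    (Set.mem_univ y₀) isOpen_univ
  replace hW : IsAffineOpen W := hW
  have hy₁W : y₁ ∈ W := hsp.mem_open W.2 hy₀W
  have hrange : Set.range σ ⊆ Set.range hW.fromSpec := by
    rw [hW.range_fromSpec]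
    rintro _ ⟨pt, rfl⟩
    rw [Subsingleton.elim pt (closedPoint S.K), ← hy₁]
    exact hy₁W
  obtain ⟨σ', hσ'⟩ : ∃ σ' : Spec (.of S.K) ⟶ Spec Γ(pullback f S.i₂, W), σ' ≫ hW.fromSpec = σ :=
    ⟨IsOpenImmersion.lift hW.fromSpec σ hrange, IsOpenImmersion.lift_fac _ _ _⟩
  -- ring maps
  obtain ⟨ψ, hψ⟩ : ∃ ψ : Γ(pullback f S.i₂, W) ⟶ CommRingCat.of S.K, Spec.map ψ = σ' :=
    ⟨Spec.preimage σ', Spec.map_preimage _⟩
  obtain ⟨φ, hφ⟩ : ∃ φ : CommRingCat.of S.R ⟶ Γ(pullback f S.i₂, W),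
      Spec.map φ = hW.fromSpec ≫ pullback.snd f S.i₂ := ⟨Spec.preimage _, Spec.map_preimage _⟩
  have hφψ : φ ≫ ψ = CommRingCat.ofHom (algebraMap S.R S.K) := by
    apply Spec.map_injective
    rw [Spec.map_comp, hψ, hφ, ← Category.assoc, hσ', hσ, pullback.lift_snd]
  have hφψ' : ∀ r : S.R, ψ.hom (φ.hom r) = algebraMap S.R S.K r := fun r => by
    have := congrArg (fun t => t.hom r) hφψ
    simpa using this
  -- points
  obtain ⟨p₀, hp₀⟩ : ∃ p₀ : Spec Γ(pullback f S.i₂, W), hW.fromSpec p₀ = y₀ := by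
    have : y₀ ∈ Set.range hW.fromSpec := by rw [hW.range_fromSpec]; exact hy₀W
    exact this
  have hp₁ : hW.fromSpec (σ' (closedPoint S.K)) = y₁ := by
    rw [← Scheme.Hom.comp_apply, hσ', hy₁]
  have hsp' : σ' (closedPoint S.K) ⤳ p₀ := by
    rw [← hW.fromSpec.isOpenEmbedding.isInducing.specializes_iff, hp₁, hp₀]
    exact hsp
  have hle : (σ' (closedPoint S.K)).asIdeal ≤ p₀.asIdeal :=
    (PrimeSpectrum.le_iff_specializes _ _).mpr hsp'
  have hker : ∀ b : Γ(pullback f S.i₂, W), ψ.hom b = 0 → b ∈ p₀.asIdeal := by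
    intro b hb
    apply hle
    rw [← hψ]
    show ψ.hom b ∈ (closedPoint S.K).asIdeal
    rw [hb]; exact zero_mem _
  have hmax : ∀ m : S.R, m ∈ maximalIdeal S.R → φ.hom m ∈ p₀.asIdeal := by
    intro m hm
    have h1 : (Spec.map φ) p₀ = closedPoint S.R := by
      rw [hφ, Scheme.Hom.comp_apply, hp₀, hy₀]
    have h2 : m ∈ ((Spec.map φ) p₀).asIdeal := by rw [h1]; exact hm
    exact h2
  have hinj : Function.Injective (algebraMap S.R S.K) := IsFractionRing.injective S.R S.K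
  have key : ∀ b : Γ(pullback f S.i₂, W), ∃ r : S.R, algebraMap S.R S.K r = ψ.hom b := by
    intro b
    rcases ValuationRing.isInteger_or_isInteger S.R (ψ.hom b) with ⟨r, hr⟩ | ⟨m, hm⟩
    · exact ⟨r, hr⟩
    · by_cases hx : ψ.hom b = 0
      · exact ⟨0, by rw [hx, map_zero]⟩
      by_cases hu : IsUnit m
      · obtain ⟨u, rfl⟩ := hu
        refine ⟨((u⁻¹ : S.Rˣ) : S.R), ?_⟩
        have h1 : algebraMap S.R S.K ((u⁻¹ : S.Rˣ) : S.R) * algebraMap S.R S.K (u : S.R) = 1 := by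
          rw [← map_mul, Units.inv_mul, map_one]
        have hm' : algebraMap S.R S.K (u : S.R) = (ψ.hom b)⁻¹ := hm
        rw [hm'] at h1
        field_simp at h1
        exact h1
      · exfalso
        have hmm : m ∈ maximalIdeal S.R := (mem_maximalIdeal m).mpr hu
        have h1 : ψ.hom (b * φ.hom m - 1) = 0 := by
          have hm' : algebraMap S.R S.K m = (ψ.hom b)⁻¹ := hm
          rw [map_sub, map_mul, map_one, hφψ', hm', mul_inv_cancel₀ hx, sub_self]
        have h2 := hker _ h1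
        have h3 : b * φ.hom m ∈ p₀.asIdeal := Ideal.mul_mem_left _ _ (hmax m hmm)
        have h4 : (1 : Γ(pullback f S.i₂, W)) ∈ p₀.asIdeal := by
          have := p₀.asIdeal.sub_mem h3 h2
          simpa using this
        exact p₀.2.ne_top ((Ideal.eq_top_iff_one _).mpr h4)
  choose ρf hρf using key
  let ρ : Γ(pullback f S.i₂, W) →+* S.R :=
    { toFun := ρf
      map_one' := hinj (by rw [hρf, map_one, map_one])
      map_mul' := fun a b => hinj (by rw [hρf, map_mul, map_mul, hρf, hρf])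
      map_zero' := hinj (by rw [hρf, map_zero, map_zero])
      map_add' := fun a b => hinj (by rw [hρf, map_add, map_add, hρf, hρf]) }
  have hρφ : φ ≫ CommRingCat.ofHom ρ = 𝟙 _ := by
    ext r
    apply hinj
    show algebraMap S.R S.K (ρf (φ.hom r)) = algebraMap S.R S.K r
    rw [hρf, hφψ']
  obtain ⟨sec, hsecdef⟩ : ∃ sec : Spec (.of S.R) ⟶ pullback f S.i₂,
      sec = Spec.map (CommRingCat.ofHom ρ) ≫ hW.fromSpec := ⟨_, rfl⟩
  have hsec : sec ≫ pullback.snd f S.i₂ = 𝟙 _ := by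
    rw [hsecdef, Category.assoc, ← hφ, ← Spec.map_comp, hρφ, Spec.map_id]
  have hl₂ : (sec ≫ pullback.fst f S.i₂) ≫ f = S.i₂ := by
    rw [Category.assoc, pullback.condition, ← Category.assoc, hsec, Category.id_comp]
  have hl₁ : Spec.map (CommRingCat.ofHom (algebraMap S.R S.K)) ≫ (sec ≫ pullback.fst f S.i₂) =
      S.i₁ := by
    rw [← cancel_mono f, Category.assoc, hl₂, S.commSq.w]
  exact ⟨⟨⟨sec ≫ pullback.fst f S.i₂, hl₁, hl₂⟩⟩⟩

theorem main {X Y : Scheme.{u}} (f : Y ⟶ X) [Mono f] :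
    (∀ (X' : Scheme.{u}) (g : X' ⟶ X) (y₀ y₁ : ↥(pullback f g)),
        (pullback.snd f g).base y₁ ⤳ (pullback.snd f g).base y₀ → y₁ ⤳ y₀) ↔
      ∀ S : ValuativeCommSq f,
        (∃ l₀ : Spec (CommRingCat.of (IsLocalRing.ResidueField S.R)) ⟶ Y,
            l₀ ≫ f = Spec.map (CommRingCat.ofHom (IsLocalRing.residue S.R)) ≫ S.i₂) →
          S.commSq.HasLift :=
  ⟨fun H S ⟨l₀, hl₀⟩ => forward f H S l₀ hl₀,
    fun H X' g y₀ y₁ h => backward f H X' g y₀ y₁ h⟩

end Helpers


/-- Let f : Y ⟶ X be a monomorphism of schemes, X quasi-separated. Then the projection Y ×_X X' ⟶ X'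
reflects specializations (if the image of y₁ specializes to the image of y₀ then y₁ specializes to
y₀) after every base change X' ⟶ X if and only if, for every valuation ring A with fraction field K
and every commutative square Spec K ⟶ Y, Spec A ⟶ X over f such that, in addition, some morphism
from the spectrum of the residue field of A to Y lies over Spec A ⟶ X, the square admits a lift Spec
A ⟶ Y. -/
theorem result {X Y : Scheme.{u}} [QuasiSeparatedSpace ↥X]
    (f : Y ⟶ X) [Mono f] :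
    (∀ (X' : Scheme.{u}) (g : X' ⟶ X) (y₀ y₁ : ↥(pullback f g)),
        (pullback.snd f g).base y₁ ⤳ (pullback.snd f g).base y₀ → y₁ ⤳ y₀) ↔
      ∀ S : ValuativeCommSq f,
        (∃ l₀ : Spec (CommRingCat.of (IsLocalRing.ResidueField S.R)) ⟶ Y,
            l₀ ≫ f = Spec.map (CommRingCat.ofHom (IsLocalRing.residue S.R)) ≫ S.i₂) →
          S.commSq.HasLift := by
  exact main f

end Groth.Agent.S15344
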