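import Groth.Statements.S15345
import Groth.Agent.Lib.helper11.LimPB
import Groth.Agent.Lib.helper11.LfpConv

set_option autoImplicit false
universe u
open CategoryTheory CategoryTheory.Limits AlgebraicGeometry
open Mor

namespace Groth.Agent.S15345

open Groth.Agent.Lib.helper28.FPColim Groth.Agent.Lib.helper11.LfpConv
  Groth.Agent.Lib.helper11 TopologicalSpace in
/-- Let f : Y ⟶ X be a morphism of schemes, X quasi-separated. If for every morphism X' ⟶ X locally of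
finite type the projection Y ×_X X' ⟶ X' reflects specializations (the image of y₁ specializing to
the image of y₀ forces y₁ to specialize to y₀), then the same holds for every morphism X' ⟶ X. (The
published statement assumes moreover that f is a monomorphism; this row does not.) -/
theorem result {X Y : Scheme.{u}} [QuasiSeparatedSpace ↥X]
    (f : Y ⟶ X)
    (h : ∀ (X' : Scheme.{u}) (g : X' ⟶ X) [LocallyOfFiniteType g] (y₀ y₁ : ↥(pullback f g)),
      (pullback.snd f g).base y₁ ⤳ (pullback.snd f g).base y₀ → y₁ ⤳ y₀) :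
    ∀ (X' : Scheme.{u}) (g : X' ⟶ X) (y₀ y₁ : ↥(pullback f g)),
        (pullback.snd f g).base y₁ ⤳ (pullback.snd f g).base y₀ → y₁ ⤳ y₀ := by
  intro X' g y₀ y₁ hsp
  have hex : ∃ (U : X.Opens) (V : X'.Opens), IsAffineOpen U ∧ IsAffineOpen V ∧
      (pullback.snd f g) y₀ ∈ V ∧ V ≤ g ⁻¹ᵁ U := by
    obtain ⟨_, ⟨U, hU, rfl⟩, hgU, -⟩ := X.isBasis_affineOpens.exists_subset_of_mem_open
      (Set.mem_univ (g ((pullback.snd f g) y₀))) isOpen_univ
    obtain ⟨_, ⟨V, hV, rfl⟩, htV, hVU⟩ := X'.isBasis_affineOpens.exists_subset_of_mem_open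
      (show (pullback.snd f g) y₀ ∈ ((g ⁻¹ᵁ U : X'.Opens) : Set X') from hgU) (g ⁻¹ᵁ U).2
    exact ⟨U, V, hU, hV, htV, hVU⟩
  obtain ⟨U, V, hU, hV, hx₀V, hVU⟩ := hex
  have hx₁V : (pullback.snd f g) y₁ ∈ V := hsp.mem_open V.2 hx₀V
  let v₀ : (V : Scheme.{u}) := ⟨_, hx₀V⟩
  let v₁ : (V : Scheme.{u}) := ⟨_, hx₁V⟩
  have hv : v₁ ⤳ v₀ := by
    rw [← V.ι.isOpenEmbedding.isInducing.specializes_iff]
    exact hsp
  letI : Algebra Γ(X, U) Γ(X', V) := (g.appLE U V hVU).hom.toAlgebra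
  let iU : Spec Γ(X, U) ⟶ X := hU.fromSpec
  let p : Spec (CommRingCat.of Γ(X', V)) ⟶ X :=
    Spec.map (CommRingCat.ofHom (algebraMap Γ(X, U) Γ(X', V))) ≫ iU
  have hsq : hV.fromSpec ≫ g = p :=
    (IsAffineOpen.SpecMap_appLE_fromSpec g hU hV hVU).symm
  have hfac : V.ι ≫ g = hV.isoSpec.hom ≫ p := by
    rw [← hsq, ← Category.assoc, IsAffineOpen.isoSpec_hom_fromSpec]
  let E := DS Γ(X, U) Γ(X', V)
  let τ : ∀ j, E.obj j ⟶ X := fun j => (tS Γ(X, U) Γ(X', V) iU).app j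
  have hτ : ∀ {j k : (Idx Γ(X, U) Γ(X', V))ᵒᵖ} (φ : j ⟶ k), E.map φ ≫ τ k = τ j := by
    intro j k φ
    have := (tS Γ(X, U) Γ(X', V) iU).naturality φ
    dsimp only [Functor.const_obj_obj, Functor.const_obj_map] at this
    rw [Category.comp_id] at this
    exact this
  let cE := cS Γ(X, U) Γ(X', V)
  have hcE : IsLimit cE := hcS Γ(X, U) Γ(X', V)
  have hp : ∀ j, cE.π.app j ≫ τ j = p := fun j => cS_tS Γ(X, U) Γ(X', V) iU j
  -- comparison maps
  let θ : pullback p f ⟶ pullback f g :=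
    pullback.lift (pullback.snd p f) (pullback.fst p f ≫ hV.fromSpec) (by
      rw [Category.assoc, hsq, pullback.condition])
  have hθ2 : θ ≫ pullback.snd f g = pullback.fst p f ≫ hV.fromSpec := pullback.lift_snd _ _ _
  have hθ1 : θ ≫ pullback.fst f g = pullback.snd p f := pullback.lift_fst _ _ _
  let n : pullback f (V.ι ≫ g) ⟶ pullback f g :=
    pullback.lift (pullback.fst _ _) (pullback.snd _ _ ≫ V.ι) (by
      rw [Category.assoc, pullback.condition])
  have hn1 : n ≫ pullback.fst f g = pullback.fst f (V.ι ≫ g) := pullback.lift_fst _ _ _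
  have hn2 : n ≫ pullback.snd f g = pullback.snd f (V.ι ≫ g) ≫ V.ι := pullback.lift_snd _ _ _
  let ρ : pullback f (V.ι ≫ g) ⟶ pullback p f :=
    pullback.lift (pullback.snd _ _ ≫ hV.isoSpec.hom) (pullback.fst _ _) (by
      rw [Category.assoc, ← hfac, pullback.condition])
  have hρ1 : ρ ≫ pullback.fst p f = pullback.snd _ _ ≫ hV.isoSpec.hom := pullback.lift_fst _ _ _
  have hρθ : ρ ≫ θ = n := by
    apply pullback.hom_ext
    · rw [Category.assoc, hθ1, pullback.lift_snd, pullback.lift_fst]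
    · rw [Category.assoc, hθ2, pullback.lift_snd, pullback.lift_fst_assoc, Category.assoc,
        IsAffineOpen.isoSpec_hom_fromSpec]
  have hpb : IsPullback n (pullback.snd f (V.ι ≫ g)) (pullback.snd f g) V.ι := by
    refine IsPullback.of_right ?_ hn2 (IsPullback.of_hasPullback f g)
    rw [hn1]
    exact IsPullback.of_hasPullback f (V.ι ≫ g)
  -- lift the points
  have lift : ∀ (y : ↥(pullback f g)) (v : (V : Scheme.{u})), (pullback.snd f g) y = V.ι v →
      ∃ z : ↥(pullback f (V.ι ≫ g)), n z = y ∧ pullback.snd f (V.ι ≫ g) z = v := by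
    intro y v hyv
    obtain ⟨w, hw1, hw2⟩ := Scheme.Pullback.exists_preimage_pullback (f := pullback.snd f g)
      (g := V.ι) y v hyv
    refine ⟨hpb.isoPullback.inv w, ?_, ?_⟩
    · show (hpb.isoPullback.inv ≫ n) w = y
      rw [hpb.isoPullback_inv_fst]
      exact hw1
    · show (hpb.isoPullback.inv ≫ pullback.snd f (V.ι ≫ g)) w = v
      rw [hpb.isoPullback_inv_snd]
      exact hw2
  obtain ⟨z₀, hz₀1, hz₀2⟩ := lift y₀ v₀ rfl
  obtain ⟨z₁, hz₁1, hz₁2⟩ := lift y₁ v₁ rfl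
  rw [specializes_iff_forall_open]
  intro O hO hy₀O
  let OB : Set ↥(pullback p f) := θ ⁻¹' O
  have hOB : IsOpen OB := hO.preimage θ.continuous
  have hθρ : ∀ z : ↥(pullback f (V.ι ≫ g)), θ (ρ z) = n z := by
    intro z
    show (ρ ≫ θ) z = n z
    rw [hρθ]
  have hw₀ : ρ z₀ ∈ OB := by
    show θ (ρ z₀) ∈ O
    rw [hθρ, hz₀1]
    exact hy₀O
  -- the basis of the limit
  have hA : ∀ {i j : (Idx Γ(X, U) Γ(X', V))ᵒᵖ} (φ : i ⟶ j),
      IsAffineHom ((LimPB.XS E τ hτ f).map φ) := fun φ => LimPB.isAffineHom_map E τ hτ f φ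
  have hB := isBasis_preimage_isAffineOpen (LimPB.XS E τ hτ f) (LimPB.cX E τ hτ cE p hp f)
    (LimPB.hcX E τ hτ cE hcE p hp f)
  have hB' : IsTopologicalBasis _ := hB
  obtain ⟨_, ⟨_, ⟨j, W₀, -, rfl⟩, rfl⟩, hzW, hWO⟩ := hB'.exists_subset_of_mem_open hw₀ hOB
  let πj : pullback p f ⟶ pullback (τ j) f := (LimPB.cX E τ hτ cE p hp f).π.app j
  let cj : Spec (CommRingCat.of Γ(X', V)) ⟶ E.obj j := cE.π.app j
  have hπ1 : πj ≫ pullback.fst (τ j) f = pullback.fst p f ≫ cj := LimPB.π_fst E τ hτ cE p hp f j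
  let W : Set ↥(pullback (τ j) f) := (W₀ : Set ↥((LimPB.XS E τ hτ f).obj j))
  have hW : IsOpen W := W₀.isOpen
  have hzW' : πj (ρ z₀) ∈ W := hzW
  have hWO' : ∀ w : ↥(pullback p f), πj w ∈ W → w ∈ OB := fun w hw => hWO hw
  -- apply the hypothesis at stage `j`
  haveI : LocallyOfFiniteType (τ j) := by
    show LocallyOfFiniteType (Spec.map ((DD Γ(X, U) Γ(X', V)).obj j.unop).hom ≫ iU)
    haveI : LocallyOfFinitePresentation (Spec.map ((DD Γ(X, U) Γ(X', V)).obj j.unop).hom) :=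
      (HasRingHomProperty.Spec_iff (P := @LocallyOfFinitePresentation)).mpr
        (DD_fp Γ(X, U) Γ(X', V) j.unop)
    infer_instance
  let sy := (pullbackSymmetry (τ j) f)
  have hfstπ : ∀ z : ↥(pullback f (V.ι ≫ g)),
      pullback.fst (τ j) f (πj (ρ z)) = cj (hV.isoSpec.hom (pullback.snd f (V.ι ≫ g) z)) := by
    intro z
    show (ρ ≫ πj ≫ pullback.fst (τ j) f) z = (pullback.snd f (V.ι ≫ g) ≫ hV.isoSpec.hom ≫ cj) z
    rw [hπ1, reassoc_of% hρ1]
  have hsnd : ∀ w : ↥(pullback (τ j) f),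
      (pullback.snd f (τ j)) (sy.hom w) = pullback.fst (τ j) f w := by
    intro w
    show (sy.hom ≫ pullback.snd f (τ j)) w = _
    rw [pullbackSymmetry_hom_comp_snd]
  have hspj : (pullback.snd f (τ j)).base (sy.hom (πj (ρ z₁))) ⤳
      (pullback.snd f (τ j)).base (sy.hom (πj (ρ z₀))) := by
    show (pullback.snd f (τ j)) (sy.hom (πj (ρ z₁))) ⤳ (pullback.snd f (τ j)) (sy.hom (πj (ρ z₀)))
    rw [hsnd, hsnd, hfstπ, hfstπ, hz₀2, hz₁2]
    exact (hv.map hV.isoSpec.hom.continuous).map cj.continuous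
  have hsp' := h (E.obj j) (τ j) _ _ hspj
  have hsp'' : πj (ρ z₁) ⤳ πj (ρ z₀) := by
    have := hsp'.map sy.inv.continuous
    have e : ∀ w : ↥(pullback (τ j) f), sy.inv (sy.hom w) = w := by
      intro w
      show (sy.hom ≫ sy.inv) w = w
      rw [Iso.hom_inv_id]
      rfl
    rwa [e, e] at this
  have hz₁W : πj (ρ z₁) ∈ W := hsp''.mem_open hW hzW'
  have := hWO' _ hz₁W
  have h3 : θ (ρ z₁) ∈ O := this
  rw [hθρ, hz₁1] at h3
  exact h3

end Groth.Agent.S15345
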