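import Groth.Statements.S15347
import Mathlib

set_option autoImplicit false
universe u
open CategoryTheory CategoryTheory.Limits AlgebraicGeometry
open Mor

namespace Groth.Agent.S15347

section helpers
open CategoryTheory CategoryTheory.Limits AlgebraicGeometry

theorem part1 {X Y : Scheme.{u}} (f : Y ⟶ X) [IsImmersion f] (S : ValuativeCommSq f)
    (l₀ : Spec (CommRingCat.of (IsLocalRing.ResidueField S.R)) ⟶ Y)
    (hl₀ : l₀ ≫ f = Spec.map (CommRingCat.ofHom (IsLocalRing.residue S.R)) ≫ S.i₂) :
    S.commSq.HasLift := by
  let f' := pullback.snd f S.i₂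
  have hc : IsLocalRing.closedPoint S.R ∈ Set.range f' := by
    let l₀' := pullback.lift l₀ (Spec.map (CommRingCat.ofHom (IsLocalRing.residue S.R))) hl₀
    refine ⟨l₀' (IsLocalRing.closedPoint _), ?_⟩
    rw [← Scheme.Hom.comp_apply, pullback.lift_snd]
    exact IsLocalRing.comap_closedPoint (IsLocalRing.residue S.R)
  let m := pullback.lift S.i₁ (Spec.map (CommRingCat.ofHom (algebraMap S.R S.K))) S.commSq.w
  have hg : (Spec.map (CommRingCat.ofHom (algebraMap S.R S.K))) (IsLocalRing.closedPoint S.K) ∈
      Set.range f' := by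
    refine ⟨m (IsLocalRing.closedPoint _), ?_⟩
    rw [← Scheme.Hom.comp_apply, pullback.lift_snd]
  have hspec : ∀ y : Spec (CommRingCat.of S.R),
      (Spec.map (CommRingCat.ofHom (algebraMap S.R S.K))) (IsLocalRing.closedPoint S.K) ⤳ y := by
    intro y
    refine (PrimeSpectrum.le_iff_specializes _ y).1 ?_
    intro r hr
    have hr' : algebraMap S.R S.K r ∈ IsLocalRing.maximalIdeal S.K := hr
    rw [IsLocalRing.maximalIdeal_eq_bot, Ideal.mem_bot] at hr'
    have : r = 0 := (IsFractionRing.injective S.R S.K) (by rw [hr', map_zero])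
    rw [this]; exact y.asIdeal.zero_mem
  have hrange : Set.range f' = Set.univ := by
    obtain ⟨U, Z, hU, hZ, hUZ⟩ := f'.isLocallyClosed_range
    rw [hUZ] at hc hg ⊢
    have hUtop : U = Set.univ := by
      have := (IsLocalRing.closed_point_mem_iff (U := ⟨U, hU⟩)).1 hc.1
      exact congrArg (fun V : TopologicalSpace.Opens _ => V.carrier) this
    have hZtop : Z = Set.univ := by
      rw [Set.eq_univ_iff_forall]
      intro y
      exact (hspec y).mem_closed hZ hg.2
    rw [hUtop, hZtop, Set.inter_self]
  haveI : IsClosedImmersion f' := IsClosedImmersion.of_isPreimmersion f' (by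
    rw [hrange]; exact isClosed_univ)
  haveI : Surjective f' := ⟨by rw [← Set.range_eq_univ]; exact hrange⟩
  haveI : IsIso f' := isIso_of_isClosedImmersion_of_surjective f'
  refine ⟨⟨{ l := inv f' ≫ pullback.fst f S.i₂, fac_left := ?_, fac_right := ?_ }⟩⟩
  · have hm : m = Spec.map (CommRingCat.ofHom (algebraMap S.R S.K)) ≫ inv f' := by
      rw [IsIso.eq_comp_inv]; exact pullback.lift_snd _ _ _
    rw [← Category.assoc, ← hm]
    exact pullback.lift_fst _ _ _
  · rw [Category.assoc, pullback.condition, IsIso.inv_hom_id_assoc]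

theorem part2 {X Y : Scheme.{u}} (f : Y ⟶ X) [IsImmersion f]
    (A : Type u) [CommRing A] [IsDomain A] (s : Spec (CommRingCat.of A) ⟶ X)
    (D : Set ↥(Spec (CommRingCat.of A))) (hD : Dense D)
    (hpt : ∀ p ∈ D, ∃ l : Spec ((Spec (CommRingCat.of A)).residueField p) ⟶ Y,
            l ≫ f = (Spec (CommRingCat.of A)).fromSpecResidueField p ≫ s) :
    ∃ U : (Spec (CommRingCat.of A)).Opens, (U : Set ↥(Spec (CommRingCat.of A))).Nonempty ∧
            ∃ l : (U : Scheme.{u}) ⟶ Y, l ≫ f = U.ι ≫ s := by
  classical
  let ι : pullback f s ⟶ Spec (CommRingCat.of A) := pullback.snd f s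
  have hDrange : D ⊆ Set.range ι := by
    intro p hp
    obtain ⟨l, hl⟩ := hpt p hp
    let l' : Spec ((Spec (CommRingCat.of A)).residueField p) ⟶ pullback f s :=
      pullback.lift l ((Spec (CommRingCat.of A)).fromSpecResidueField p) hl
    have hl' : l' ≫ ι = (Spec (CommRingCat.of A)).fromSpecResidueField p := pullback.lift_snd _ _ _
    refine ⟨l' (IsLocalRing.closedPoint ((Spec (CommRingCat.of A)).residueField p)), ?_⟩
    rw [← Scheme.Hom.comp_apply, hl']
    exact (Spec (CommRingCat.of A)).fromSpecResidueField_apply p _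
  let j : pullback f s ⟶ ι.coborderRange := ι.liftCoborder
  have hj : j ≫ ι.coborderRange.ι = ι := ι.liftCoborder_ι
  have hj' : ∀ e, ι.coborderRange.ι (j e) = ι e := by
    intro e
    rw [← Scheme.Hom.comp_apply, hj]
  have hrangej : Set.range j = ι.coborderRange.ι ⁻¹' (Set.range ι) := by
    ext u
    constructor
    · rintro ⟨e, rfl⟩
      exact ⟨e, (hj' e).symm⟩
    · rintro ⟨e, he⟩
      refine ⟨e, ?_⟩
      apply ι.coborderRange.ι.isOpenEmbedding.injective
      rw [hj']
      exact he
  have hdense : Dense (Set.range j) := by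
    rw [hrangej]
    exact (hD.mono hDrange).preimage ι.coborderRange.ι.isOpenEmbedding.isOpenMap
  have hclosed : IsClosed (Set.range j) := j.isClosedEmbedding.isClosed_range
  have hsurj : Function.Surjective j := by
    rw [← Set.range_eq_univ, ← hclosed.closure_eq]
    exact hdense.closure_eq
  haveI : Surjective j := ⟨hsurj⟩
  haveI : IsIso j := isIso_of_isClosedImmersion_of_surjective j
  refine ⟨ι.coborderRange, ?_, inv j ≫ pullback.fst f s, ?_⟩
  · obtain ⟨p, hp⟩ := hD.nonempty
    exact ⟨p, subset_coborder (hDrange hp)⟩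
  · have h1 : ι.coborderRange.ι = inv j ≫ ι := by
      rw [IsIso.eq_inv_comp]; exact hj
    rw [h1, Category.assoc, Category.assoc, pullback.condition]

end helpers

/-- Let f : Y ⟶ X be an immersion of schemes. Then: for every valuation ring A with fraction field K and
every commutative square Spec K ⟶ Y, Spec A ⟶ X over f such that some morphism from the spectrum of
the residue field of A to Y lies over Spec A ⟶ X, the square admits a lift; and for every integral
domain A and every morphism s : Spec A ⟶ X such that the points of a dense subset of Spec A lift to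
Y (the residue field of each such point maps to Y over s), there is a nonempty open subscheme U of
Spec A with a morphism U ⟶ Y over s. (The published statement is for a representable, locally
finitely presented morphism of algebraic stacks with locally Noetherian target and a quasi-compact
immersion, and also lists that f is a monomorphism; this row is the case of schemes, for any
immersion and any target.) -/
theorem result {X Y : Scheme.{u}} (f : Y ⟶ X) [IsImmersion f] :
    (∀ S : ValuativeCommSq f,
        (∃ l₀ : Spec (CommRingCat.of (IsLocalRing.ResidueField S.R)) ⟶ Y,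
            l₀ ≫ f = Spec.map (CommRingCat.ofHom (IsLocalRing.residue S.R)) ≫ S.i₂) →
          S.commSq.HasLift) ∧
      ∀ (A : Type u) [CommRing A] [IsDomain A] (s : Spec (CommRingCat.of A) ⟶ X) (D : Set ↥(Spec (CommRingCat.of A))),
        Dense D →
        (∀ p ∈ D, ∃ l : Spec ((Spec (CommRingCat.of A)).residueField p) ⟶ Y,
            l ≫ f = (Spec (CommRingCat.of A)).fromSpecResidueField p ≫ s) →
          ∃ U : (Spec (CommRingCat.of A)).Opens, (U : Set ↥(Spec (CommRingCat.of A))).Nonempty ∧
            ∃ l : (U : Scheme.{u}) ⟶ Y, l ≫ f = U.ι ≫ s := by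
  refine ⟨?_, ?_⟩
  · rintro S ⟨l₀, hl₀⟩
    exact part1 f S l₀ hl₀
  · intro A _ _ s D hD hpt
    exact part2 f A s D hD hpt

end Groth.Agent.S15347
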