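import Groth.Statements.S1535
import Mathlib
import Groth.Agent.Lib.helper20.SmoothStalk

set_option autoImplicit false
universe u
open CategoryTheory CategoryTheory.Limits AlgebraicGeometry
open Variety

namespace Groth.Agent.S1535

/-- If X is smooth over a field then every local ring of X is a regular local ring. -/
theorem result (k : Type u) [Field k] (X : Scheme.{u}) [X.Over (Spec (CommRingCat.of k))] [Smooth (X ↘ (Spec (CommRingCat.of k)))] (x : X) :
    IsRegularLocalRing (X.presheaf.stalk x) := by
  have hx : x ∈ (X ↘ (Spec (CommRingCat.of k))).smoothLocus := by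
    rw [(X ↘ (Spec (CommRingCat.of k))).smoothLocus_eq_top]
    trivial
  rw [Groth.Agent.Lib.helper20.SmoothStalk.stalk_regular_iff (X ↘ (Spec (CommRingCat.of k))) x hx]
  set y := (X ↘ (Spec (CommRingCat.of k))).base x with hy
  have hU : IsAffineOpen (⊤ : (Spec (CommRingCat.of k)).Opens) := isAffineOpen_top _
  letI := (Spec (CommRingCat.of k)).presheaf.algebra_section_stalk
    (U := (⊤ : (Spec (CommRingCat.of k)).Opens)) ⟨y, trivial⟩
  haveI := hU.isLocalization_stalk ⟨y, trivial⟩
  haveI : IsRegularRing k := inferInstance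
  haveI : IsRegularRing Γ(Spec (CommRingCat.of k), ⊤) :=
    IsRegularRing.of_ringEquiv (R := k)
      (Scheme.ΓSpecIso (CommRingCat.of k)).symm.commRingCatIsoToRingEquiv
  exact Groth.Agent.Lib.helper20.RegSmoothPt.regular_of_isLocalization
    Γ(Spec (CommRingCat.of k), ⊤) ((Spec (CommRingCat.of k)).presheaf.stalk y)
    (hU.primeIdealOf ⟨y, trivial⟩).asIdeal.primeCompl

end Groth.Agent.S1535
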