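import Groth.Statements.S15354
import Mathlib

set_option autoImplicit false
universe u
open CategoryTheory CategoryTheory.Limits AlgebraicGeometry
open Mor

namespace Groth.Agent.S15354

section helpers
open CategoryTheory AlgebraicGeometry

theorem aux {Y : Scheme.{u}} {R K : CommRingCat.{u}} (ι : R ⟶ K) (hι : Function.Injective ι.hom)
    (y₁ y₂ : Y) (h : y₁ = y₂) (φ : Y.presheaf.stalk y₁ ⟶ R) (ψ : Y.presheaf.stalk y₂ ⟶ R)
    (hK : Spec.map ι ≫ (Spec.map φ ≫ Y.fromSpecStalk y₁) =
      Spec.map ι ≫ (Spec.map ψ ≫ Y.fromSpecStalk y₂)) :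
    Spec.map φ ≫ Y.fromSpecStalk y₁ = Spec.map ψ ≫ Y.fromSpecStalk y₂ := by
  subst h
  rw [← Category.assoc, ← Category.assoc, cancel_mono, ← Spec.map_comp, ← Spec.map_comp,
    Spec.map_injective.eq_iff] at hK
  have : φ = ψ := by
    ext x
    apply hι
    have := congrArg (fun g => g.hom x) hK
    simpa using this
  rw [this]

end helpers

/-- Let f : Y ⟶ X be a morphism of schemes, A a valuation ring with fraction field K and residue field
k, and ξ, η : Spec A ⟶ Y two A-points of Y over the same A-point of X. If ξ and η restrict to the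
same K-point and to the same k-point of Y, then ξ = η. (The published statement is an equivalence,
for algebraic spaces locally of finite presentation over a Noetherian scheme, between local
separatedness of f and conditions (a), (b); this row is the necessity of (a) in the case of schemes,
where no hypothesis on f is needed.) -/
theorem result {X Y : Scheme.{u}} (f : Y ⟶ X)
    (A : Type u) [CommRing A] [IsDomain A] [ValuationRing A] (K : Type u) [Field K] [Algebra A K]
    [IsFractionRing A K] (ξ η : Spec (CommRingCat.of A) ⟶ Y) (hf : ξ ≫ f = η ≫ f)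
    (hK : Spec.map (CommRingCat.ofHom (algebraMap A K)) ≫ ξ = Spec.map (CommRingCat.ofHom (algebraMap A K)) ≫ η)
    (hk : Spec.map (CommRingCat.ofHom (IsLocalRing.residue A)) ≫ ξ =
      Spec.map (CommRingCat.ofHom (IsLocalRing.residue A)) ≫ η) :
    ξ = η := by
  have hx : ξ (IsLocalRing.closedPoint A) = η (IsLocalRing.closedPoint A) := by
    have h := congrArg (fun g : Spec (CommRingCat.of (IsLocalRing.ResidueField A)) ⟶ Y =>
      g (IsLocalRing.closedPoint (IsLocalRing.ResidueField A))) hk
    simp only [Scheme.Hom.comp_apply] at h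
    have hc : Spec.map (CommRingCat.ofHom (IsLocalRing.residue A))
        (IsLocalRing.closedPoint (IsLocalRing.ResidueField A)) = IsLocalRing.closedPoint A :=
      IsLocalRing.comap_closedPoint (IsLocalRing.residue A)
    rw [hc] at h
    exact h
  have e1 := Scheme.Spec_stalkClosedPointTo_fromSpecStalk ξ
  have e2 := Scheme.Spec_stalkClosedPointTo_fromSpecStalk η
  rw [← e1, ← e2]
  apply aux (CommRingCat.ofHom (algebraMap A K)) (IsFractionRing.injective A K) _ _ hx
  rw [e1, e2]
  exact hK

end Groth.Agent.S15354
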