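import Groth.Statements.S15355
import Mathlib

set_option autoImplicit false
universe u
open CategoryTheory CategoryTheory.Limits AlgebraicGeometry
open Mor

namespace Groth.Agent.S15355

/-- Let f : Y ⟶ X be a morphism of schemes, A an integral domain and ξ, η : Spec A ⟶ Y two A-points of Y
over the same A-point of X. If ξ and η induce the same κ(p)-point of Y at every point p of some
dense subset of Spec A, then ξ and η agree on a nonempty open subscheme of Spec A. (The published
statement is an equivalence, for algebraic spaces locally of finite presentation over a Noetherian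
scheme, between local separatedness of f and conditions (a), (b); this row is the necessity of (b)
in the case of schemes, where no hypothesis on f is needed.) -/
theorem result {X Y : Scheme.{u}} (f : Y ⟶ X)
    (A : Type u) [CommRing A] [IsDomain A] (ξ η : Spec (CommRingCat.of A) ⟶ Y) (hf : ξ ≫ f = η ≫ f)
    (D : Set ↥(Spec (CommRingCat.of A))) (hD : Dense D)
    (hpt : ∀ p ∈ D, (Spec (CommRingCat.of A)).fromSpecResidueField p ≫ ξ =
      (Spec (CommRingCat.of A)).fromSpecResidueField p ≫ η) :
    ∃ U : (Spec (CommRingCat.of A)).Opens, (U : Set ↥(Spec (CommRingCat.of A))).Nonempty ∧ U.ι ≫ ξ = U.ι ≫ η := by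
  classical
  let ι : equalizer ξ η ⟶ Spec (CommRingCat.of A) := equalizer.ι ξ η
  have hDrange : D ⊆ Set.range ι := by
    intro p hp
    have hcond := hpt p hp
    let l : Spec ((Spec (CommRingCat.of A)).residueField p) ⟶ equalizer ξ η := equalizer.lift ((Spec (CommRingCat.of A)).fromSpecResidueField p) hcond
    have hl : l ≫ ι = (Spec (CommRingCat.of A)).fromSpecResidueField p := equalizer.lift_ι _ _
    refine ⟨l (IsLocalRing.closedPoint ((Spec (CommRingCat.of A)).residueField p)), ?_⟩
    rw [← Scheme.Hom.comp_apply, hl]
    exact (Spec (CommRingCat.of A)).fromSpecResidueField_apply p _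
  let j : equalizer ξ η ⟶ ι.coborderRange := ι.liftCoborder
  have hj : j ≫ ι.coborderRange.ι = ι := ι.liftCoborder_ι
  have hj' : ∀ e, ι.coborderRange.ι (j e) = ι e := by
    intro e
    rw [← Scheme.Hom.comp_apply, hj]
  have hrangej : Set.range j = ι.coborderRange.ι ⁻¹' (Set.range ι) := by
    ext u
    constructor
    · rintro ⟨e, rfl⟩
      exact ⟨e, (hj' e).symm⟩
    · rintro ⟨e, he⟩
      refine ⟨e, ?_⟩
      apply ι.coborderRange.ι.isOpenEmbedding.injective
      rw [hj']
      exact he
  have hdense : Dense (Set.range j) := by
    rw [hrangej]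
    exact (hD.mono hDrange).preimage ι.coborderRange.ι.isOpenEmbedding.isOpenMap
  have hclosed : IsClosed (Set.range j) := j.isClosedEmbedding.isClosed_range
  have hsurj : Function.Surjective j := by
    rw [← Set.range_eq_univ, ← hclosed.closure_eq]
    exact hdense.closure_eq
  haveI : Surjective j := ⟨hsurj⟩
  haveI : IsIso j := isIso_of_isClosedImmersion_of_surjective j
  refine ⟨ι.coborderRange, ?_, ?_⟩
  · obtain ⟨p, hp⟩ := hD.nonempty
    exact ⟨p, subset_coborder (hDrange hp)⟩
  · have h1 : ι.coborderRange.ι = inv j ≫ ι := by
      rw [IsIso.eq_inv_comp]; exact hj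
    rw [h1, Category.assoc, Category.assoc, equalizer.condition]

end Groth.Agent.S15355
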