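import Groth.Statements.S15361
import Mathlib

set_option autoImplicit false
open GalCoh

namespace Groth.Agent.S15361

open Matrix Polynomial

section basics
variable {R : Type*} [CommRing R]

theorem ch2 (m : Matrix (Fin 2) (Fin 2) R) : m * m = m.trace • m - m.det • (1 : Matrix (Fin 2) (Fin 2) R) := by
  ext i j
  fin_cases i <;> fin_cases j <;>
    simp [Matrix.mul_apply, Fin.sum_univ_two, Matrix.trace_fin_two, Matrix.det_fin_two] <;> ring

end basics

section field
variable {K : Type*} [Field K]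

theorem nil2 (N : Matrix (Fin 2) (Fin 2) K) (k : ℕ) (hN : N ^ k = 0) : N * N = 0 := by
  have hdet : N.det = 0 := by
    have := congrArg Matrix.det hN
    rw [Matrix.det_pow, Matrix.det_zero] at this
    exact pow_eq_zero_iff (by
      rintro rfl
      rw [pow_zero] at hN
      have := congrFun (congrFun hN 0) 0
      simp at this) |>.1 this
  have hsq : N * N = N.trace • N := by
    rw [ch2, hdet, zero_smul, sub_zero]
  have hpow : ∀ j : ℕ, N ^ (j + 1) = N.trace ^ j • N := by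
    intro j
    induction j with
    | zero => simp
    | succ j ih =>
      rw [pow_succ, ih, Matrix.smul_mul, hsq, smul_smul, ← pow_succ]
  cases k with
  | zero =>
    rw [pow_zero] at hN
    have := congrFun (congrFun hN 0) 0
    simp at this
  | succ k =>
    rw [hpow k] at hN
    rcases smul_eq_zero.1 hN with h | h
    · have : N.trace = 0 := by
        by_cases hk : k = 0
        · subst hk; simp at h
        · exact (pow_eq_zero_iff hk).1 h
      rw [hsq, this, zero_smul]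
    · rw [h, zero_mul]

end field

section fwd
variable (p : ℕ) [Fact p.Prime]

/-- the elements x + y M -/
def el (n₀ x y : ZMod p) : Matrix (Fin 2) (Fin 2) (ZMod p) := !![x, -n₀ * y; y, x + y]

theorem el_add (n₀ x y x' y' : ZMod p) : el p n₀ x y + el p n₀ x' y' = el p n₀ (x + x') (y + y') := by
  ext i j; fin_cases i <;> fin_cases j <;> simp [el] <;> ring

theorem el_mul (n₀ x y x' y' : ZMod p) :
    el p n₀ x y * el p n₀ x' y' = el p n₀ (x * x' - n₀ * y * y') (x * y' + x' * y + y * y') := by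
  ext i j; fin_cases i <;> fin_cases j <;> simp [el, Matrix.mul_apply, Fin.sum_univ_two] <;> ring

theorem el_one (n₀ : ZMod p) : (1 : Matrix (Fin 2) (Fin 2) (ZMod p)) = el p n₀ 1 0 := by
  ext i j; fin_cases i <;> fin_cases j <;> simp [el]

theorem el_zero (n₀ : ZMod p) : (0 : Matrix (Fin 2) (Fin 2) (ZMod p)) = el p n₀ 0 0 := by
  ext i j; fin_cases i <;> fin_cases j <;> simp [el]

theorem el_neg (n₀ x y : ZMod p) : - el p n₀ x y = el p n₀ (-x) (-y) := by
  ext i j; fin_cases i <;> fin_cases j <;> simp [el]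
  ring

theorem el_inj (n₀ x y x' y' : ZMod p) (h : el p n₀ x y = el p n₀ x' y') : x = x' ∧ y = y' := by
  have h1 := congrFun (congrFun h 0) 0
  have h2 := congrFun (congrFun h 1) 0
  simp [el] at h1 h2
  exact ⟨h1, h2⟩

/-- the subring -/
def Esub (n₀ : ZMod p) : Subring (Matrix (Fin 2) (Fin 2) (ZMod p)) where
  carrier := {m | ∃ x y, m = el p n₀ x y}
  mul_mem' := by
    rintro _ _ ⟨x, y, rfl⟩ ⟨x', y', rfl⟩
    exact ⟨_, _, el_mul p n₀ x y x' y'⟩
  one_mem' := ⟨1, 0, el_one p n₀⟩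
  add_mem' := by
    rintro _ _ ⟨x, y, rfl⟩ ⟨x', y', rfl⟩
    exact ⟨_, _, el_add p n₀ x y x' y'⟩
  zero_mem' := ⟨0, 0, el_zero p n₀⟩
  neg_mem' := by
    rintro _ ⟨x, y, rfl⟩
    exact ⟨_, _, el_neg p n₀ x y⟩

theorem exists_n₀ : ∃ n₀ : ZMod p, ∀ z : ZMod p, z ^ 2 - z + n₀ ≠ 0 := by
  let g : ZMod p → ZMod p := fun x => x - x ^ 2
  have hninj : ¬ Function.Injective g := by
    intro h
    have : (0 : ZMod p) = 1 := h (by simp [g])
    exact zero_ne_one this
  have hnsurj : ¬ Function.Surjective g := fun h => hninj (Finite.injective_iff_surjective.2 h)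
  rw [Function.Surjective] at hnsurj
  push_neg at hnsurj
  obtain ⟨n₀, hn₀⟩ := hnsurj
  refine ⟨n₀, fun z hz => hn₀ z ?_⟩
  show z - z ^ 2 = n₀
  linear_combination -hz

theorem D_ne_zero (n₀ : ZMod p) (hn₀ : ∀ z : ZMod p, z ^ 2 - z + n₀ ≠ 0) (x y : ZMod p)
    (hxy : ¬ (x = 0 ∧ y = 0)) : x ^ 2 + x * y + n₀ * y ^ 2 ≠ 0 := by
  intro h
  by_cases hy : y = 0
  · subst hy
    simp at h
    exact hxy ⟨h, rfl⟩
  · apply hn₀ (-x / y)
    field_simp
    linear_combination h

theorem el_inv (n₀ : ZMod p) (hn₀ : ∀ z : ZMod p, z ^ 2 - z + n₀ ≠ 0) (x y : ZMod p)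
    (hxy : ¬ (x = 0 ∧ y = 0)) :
    el p n₀ x y * el p n₀ ((x + y) / (x ^ 2 + x * y + n₀ * y ^ 2)) (-y / (x ^ 2 + x * y + n₀ * y ^ 2)) = 1 := by
  have hD := D_ne_zero p n₀ hn₀ x y hxy
  set D := x ^ 2 + x * y + n₀ * y ^ 2 with hDdef
  rw [el_mul, el_one p n₀]
  congr 1
  · rw [show x * ((x + y) / D) - n₀ * y * (-y / D) = D / D by rw [hDdef]; ring, div_self hD]
  · rw [show x * (-y / D) + (x + y) / D * y + y * (-y / D) = 0 by ring]


theorem Esub_isField (n₀ : ZMod p) (hn₀ : ∀ z : ZMod p, z ^ 2 - z + n₀ ≠ 0) :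
    IsField (Esub p n₀) where
  exists_pair_ne := ⟨0, 1, by
    intro h
    have := congrArg Subtype.val h
    simp at this⟩
  mul_comm := by
    rintro ⟨_, x, y, rfl⟩ ⟨_, x', y', rfl⟩
    apply Subtype.ext
    show el p n₀ x y * el p n₀ x' y' = el p n₀ x' y' * el p n₀ x y
    rw [el_mul, el_mul]
    congr 1 <;> ring
  mul_inv_cancel := by
    rintro ⟨_, x, y, rfl⟩ ha
    have hxy : ¬ (x = 0 ∧ y = 0) := by
      rintro ⟨rfl, rfl⟩
      apply ha
      apply Subtype.ext
      exact (el_zero p n₀).symm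
    refine ⟨⟨el p n₀ ((x + y) / (x ^ 2 + x * y + n₀ * y ^ 2))
      (-y / (x ^ 2 + x * y + n₀ * y ^ 2)), _, _, rfl⟩, ?_⟩
    apply Subtype.ext
    exact el_inv p n₀ hn₀ x y hxy

theorem Esub_card (n₀ : ZMod p) : Nat.card (Esub p n₀) = p ^ 2 := by
  have e : (ZMod p × ZMod p) ≃ Esub p n₀ := Equiv.ofBijective
    (fun xy => ⟨el p n₀ xy.1 xy.2, xy.1, xy.2, rfl⟩) ⟨by
      rintro ⟨x, y⟩ ⟨x', y'⟩ h
      have := el_inj p n₀ x y x' y' (congrArg Subtype.val h)
      exact Prod.ext this.1 this.2, by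
      rintro ⟨_, x, y, rfl⟩
      exact ⟨(x, y), rfl⟩⟩
  rw [← Nat.card_congr e, Nat.card_prod, Nat.card_eq_fintype_card, ZMod.card, sq]

/-- the unit group of a subring of matrices which is a field, as a subgroup of GL -/
def Csub (E : Subring (Matrix (Fin 2) (Fin 2) (ZMod p))) (hE : IsField E) :
    Subgroup (GL (Fin 2) (ZMod p)) where
  carrier := {g | (g : Matrix (Fin 2) (Fin 2) (ZMod p)) ∈ E}
  mul_mem' := by
    intro a b ha hb
    show ((a * b : GL (Fin 2) (ZMod p)) : Matrix (Fin 2) (Fin 2) (ZMod p)) ∈ E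
    rw [Units.val_mul]
    exact E.mul_mem ha hb
  one_mem' := by
    show ((1 : GL (Fin 2) (ZMod p)) : Matrix (Fin 2) (Fin 2) (ZMod p)) ∈ E
    rw [Units.val_one]
    exact E.one_mem
  inv_mem' := by
    intro a ha
    show ((a⁻¹ : GL (Fin 2) (ZMod p)) : Matrix (Fin 2) (Fin 2) (ZMod p)) ∈ E
    have hne : (⟨a.1, ha⟩ : E) ≠ 0 := by
      intro h
      have h1 : (a : Matrix (Fin 2) (Fin 2) (ZMod p)) = 0 := congrArg Subtype.val h
      have h2 := a.mul_inv
      rw [h1, zero_mul] at h2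
      exact zero_ne_one h2
    obtain ⟨b, hb⟩ := hE.mul_inv_cancel hne
    have h3 : (a : Matrix (Fin 2) (Fin 2) (ZMod p)) * b.1 = 1 := congrArg Subtype.val hb
    have h4 : ((a⁻¹ : GL (Fin 2) (ZMod p)) : Matrix (Fin 2) (Fin 2) (ZMod p)) = b.1 := by
      have := congrArg (fun m => ((a⁻¹ : GL (Fin 2) (ZMod p)) : Matrix (Fin 2) (Fin 2) (ZMod p)) * m) h3
      simp only [← mul_assoc, Units.inv_mul, one_mul, mul_one] at this
      exact this.symm
    rw [h4]
    exact b.2

theorem Csub_set (E : Subring (Matrix (Fin 2) (Fin 2) (ZMod p))) (hE : IsField E) :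
    (E : Set (Matrix (Fin 2) (Fin 2) (ZMod p))) =
      insert 0 ((fun g : GL (Fin 2) (ZMod p) => (g : Matrix (Fin 2) (Fin 2) (ZMod p))) ''
        (Csub p E hE : Set (GL (Fin 2) (ZMod p)))) := by
  ext m
  constructor
  · intro hm
    by_cases h0 : m = 0
    · exact Or.inl h0
    · right
      have hne : (⟨m, hm⟩ : E) ≠ 0 := fun h => h0 (congrArg Subtype.val h)
      obtain ⟨b, hb⟩ := hE.mul_inv_cancel hne
      have h3 : m * b.1 = 1 := congrArg Subtype.val hb
      have h4 : b.1 * m = 1 := by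
        have := hE.mul_comm ⟨m, hm⟩ b
        rw [hb] at this
        exact (congrArg Subtype.val this).symm
      exact ⟨⟨m, b.1, h3, h4⟩, hm, rfl⟩
  · rintro (rfl | ⟨g, hg, rfl⟩)
    · exact E.zero_mem
    · exact hg

theorem p_dvd_card : p ∣ Nat.card (GL (Fin 2) (ZMod p)) := by
  have hdet : (!![1, 1; 0, 1] : Matrix (Fin 2) (Fin 2) (ZMod p)).det ≠ 0 := by
    simp [Matrix.det_fin_two]
  let u : GL (Fin 2) (ZMod p) := Matrix.GeneralLinearGroup.mkOfDetNeZero _ hdet
  have hpow : ∀ k : ℕ, ((u ^ k : GL (Fin 2) (ZMod p)) : Matrix (Fin 2) (Fin 2) (ZMod p)) =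
      !![1, (k : ZMod p); 0, 1] := by
    intro k
    induction k with
    | zero =>
      ext i j; fin_cases i <;> fin_cases j <;> simp
    | succ k ih =>
      rw [pow_succ, Units.val_mul, ih]
      ext i j; fin_cases i <;> fin_cases j <;>
        simp [u, Matrix.GeneralLinearGroup.mkOfDetNeZero, Matrix.mul_apply, Fin.sum_univ_two]
      ring
  have hord : orderOf u = p := by
    apply orderOf_eq_prime
    · apply Units.ext
      rw [hpow p]
      ext i j; fin_cases i <;> fin_cases j <;> simp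
    · intro h
      have := congrArg (fun g : GL (Fin 2) (ZMod p) => (g : Matrix (Fin 2) (Fin 2) (ZMod p)) 0 1) h
      simp [u, Matrix.GeneralLinearGroup.mkOfDetNeZero] at this
  have := orderOf_dvd_natCard u
  rwa [hord] at this

end fwd

section bwd
variable (p : ℕ) [Fact p.Prime] (H : Subgroup (GL (Fin 2) (ZMod p)))

theorem exists_unipotent (hp : p ∣ Nat.card H) :
    ∃ N : Matrix (Fin 2) (Fin 2) (ZMod p), N ≠ 0 ∧ N * N = 0 ∧
      ∀ a : ZMod p, ∃ h ∈ H, (h : Matrix (Fin 2) (Fin 2) (ZMod p)) = 1 + a • N := by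
  obtain ⟨⟨u, huH⟩, hu⟩ := exists_prime_orderOf_dvd_card' (G := H) p hp
  have hord : orderOf u = p := (Subgroup.orderOf_mk u huH).symm.trans hu
  set N : Matrix (Fin 2) (Fin 2) (ZMod p) := (u : Matrix (Fin 2) (Fin 2) (ZMod p)) - 1 with hN
  have hup : (u : Matrix (Fin 2) (Fin 2) (ZMod p)) ^ p = 1 := by
    have h1 := pow_orderOf_eq_one u
    rw [hord] at h1
    rw [← Units.val_pow_eq_pow_val, h1, Units.val_one]
  have hNp : N ^ p = 0 := by
    rw [hN, sub_pow_char_of_commute p (Commute.one_right _), hup, one_pow, sub_self]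
  have hNN : N * N = 0 := nil2 N p hNp
  have hN0 : N ≠ 0 := by
    intro h0
    have h1 : (u : Matrix (Fin 2) (Fin 2) (ZMod p)) = 1 := sub_eq_zero.1 (hN ▸ h0)
    have h2 : u = 1 := Units.ext h1
    rw [h2, orderOf_one] at hord
    exact (Fact.out : p.Prime).one_lt.ne hord
  have hu1 : (u : Matrix (Fin 2) (Fin 2) (ZMod p)) = 1 + N := by rw [hN]; abel
  have hpow : ∀ k : ℕ, ((u ^ k : GL (Fin 2) (ZMod p)) : Matrix (Fin 2) (Fin 2) (ZMod p)) =
      1 + (k : ZMod p) • N := by
    intro k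
    induction k with
    | zero => simp
    | succ k ih =>
      rw [pow_succ, Units.val_mul, ih, hu1, mul_add, mul_one, add_mul, one_mul, Matrix.smul_mul,
        hNN, smul_zero, add_zero, Nat.cast_succ, add_smul, one_smul, add_assoc]
  refine ⟨N, hN0, hNN, fun a => ⟨u ^ a.val, H.pow_mem huH _, ?_⟩⟩
  rw [hpow, ZMod.natCast_zmod_val]


variable (C : Subgroup (GL (Fin 2) (ZMod p))) (E : Subring (Matrix (Fin 2) (Fin 2) (ZMod p)))
  (hcard : Nat.card E = p ^ 2)
  (hset : (E : Set (Matrix (Fin 2) (Fin 2) (ZMod p))) =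
    insert 0 ((fun g : GL (Fin 2) (ZMod p) => (g : Matrix (Fin 2) (Fin 2) (ZMod p))) ''
      (C : Set (GL (Fin 2) (ZMod p)))))

include hset in
theorem mem_C_of_ne (e : Matrix (Fin 2) (Fin 2) (ZMod p)) (he : e ∈ E) (h0 : e ≠ 0) :
    ∃ c ∈ C, (c : Matrix (Fin 2) (Fin 2) (ZMod p)) = e := by
  have : e ∈ (E : Set (Matrix (Fin 2) (Fin 2) (ZMod p))) := he
  rw [hset] at this
  rcases this with h | ⟨c, hc, rfl⟩
  · exact absurd h h0
  · exact ⟨c, hc, rfl⟩

include hset in
theorem C_sub_E (c : GL (Fin 2) (ZMod p)) (hc : c ∈ C) :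
    (c : Matrix (Fin 2) (Fin 2) (ZMod p)) ∈ E := by
  have : (c : Matrix (Fin 2) (Fin 2) (ZMod p)) ∈ (E : Set (Matrix (Fin 2) (Fin 2) (ZMod p))) := by
    rw [hset]; exact Or.inr ⟨c, hc, rfl⟩
  exact this

include hset hcard in
theorem transitive (x y : Fin 2 → ZMod p) (hx : x ≠ 0) (hy : y ≠ 0) :
    ∃ c ∈ C, (c : Matrix (Fin 2) (Fin 2) (ZMod p)) *ᵥ x = y := by
  let f : E → (Fin 2 → ZMod p) := fun e => e.1 *ᵥ x
  have hinj : Function.Injective f := by
    intro e e' h
    by_contra hne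
    have h1 : (e.1 - e'.1) *ᵥ x = 0 := by
      rw [Matrix.sub_mulVec]; exact sub_eq_zero.2 h
    have h2 : e.1 - e'.1 ≠ 0 := fun h0 => hne (Subtype.ext (sub_eq_zero.1 h0))
    obtain ⟨c, -, hc⟩ := mem_C_of_ne p C E hset _ (E.sub_mem e.2 e'.2) h2
    rw [← hc] at h1
    have h3 := congrArg (fun v => ((c⁻¹ : GL (Fin 2) (ZMod p)) : Matrix (Fin 2) (Fin 2) (ZMod p)) *ᵥ v) h1
    simp only [Matrix.mulVec_mulVec, Matrix.mulVec_zero] at h3
    rw [← Units.val_mul, inv_mul_cancel, Units.val_one, Matrix.one_mulVec] at h3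
    exact hx h3
  have hbij : Function.Bijective f := by
    apply hinj.bijective_of_nat_card_le
    rw [hcard, Nat.card_eq_fintype_card, Fintype.card_fun, ZMod.card, Fintype.card_fin]
  obtain ⟨e, he⟩ := hbij.2 y
  have he0 : e.1 ≠ 0 := by
    intro h0
    apply hy
    rw [← he]
    show e.1 *ᵥ x = 0
    rw [h0, Matrix.zero_mulVec]
  obtain ⟨c, hcC, hc⟩ := mem_C_of_ne p C E hset _ e.2 he0
  exact ⟨c, hcC, by rw [hc]; exact he⟩


omit [Fact p.Prime] in
theorem shape {K : Type*} [Field K] (M : Matrix (Fin 2) (Fin 2) K) (i j : Fin 2) (hij : i ≠ j)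
    (hk : M *ᵥ Pi.single i 1 = 0) (hsq : M * M = 0) :
    M = (M i j) • Matrix.single i j (1 : K) := by
  rw [Matrix.mulVec_single_one] at hk
  have hc : ∀ k, M k i = 0 := fun k => congrFun hk k
  have hjj : M j j = 0 := by
    have h1 := congrFun (congrFun hsq j) j
    rw [Matrix.mul_apply, Fin.sum_univ_two] at h1
    fin_cases i <;> fin_cases j
    · exact absurd rfl hij
    · simp only [Fin.zero_eta, Fin.mk_one, Fin.isValue] at hc h1 ⊢
      rw [hc 1, zero_mul, zero_add] at h1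
      exact mul_self_eq_zero.1 h1
    · simp only [Fin.zero_eta, Fin.mk_one, Fin.isValue] at hc h1 ⊢
      rw [hc 0, zero_mul, add_zero] at h1
      exact mul_self_eq_zero.1 h1
    · exact absurd rfl hij
  ext a b
  fin_cases i <;> fin_cases j
  · exact absurd rfl hij
  · simp only [Fin.zero_eta, Fin.mk_one, Fin.isValue] at hc hjj ⊢
    fin_cases a <;> fin_cases b <;> simp [hc, hjj, Matrix.single]
  · simp only [Fin.zero_eta, Fin.mk_one, Fin.isValue] at hc hjj ⊢
    fin_cases a <;> fin_cases b <;> simp [hc, hjj, Matrix.single]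
  · exact absurd rfl hij

include hset hcard in
theorem transv_mem (hCH : C ≤ H) (N : Matrix (Fin 2) (Fin 2) (ZMod p)) (hN0 : N ≠ 0)
    (hNN : N * N = 0)
    (hNH : ∀ a : ZMod p, ∃ h ∈ H, (h : Matrix (Fin 2) (Fin 2) (ZMod p)) = 1 + a • N)
    (i j : Fin 2) (hij : i ≠ j) (a : ZMod p) :
    ∃ h ∈ H, (h : Matrix (Fin 2) (Fin 2) (ZMod p)) = Matrix.transvection i j a := by
  -- vector v with N v ≠ 0
  obtain ⟨v, hv⟩ : ∃ v : Fin 2 → ZMod p, N *ᵥ v ≠ 0 := by
    by_contra hcon
    push_neg at hcon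
    apply hN0
    ext a b
    have := congrFun (hcon (Pi.single b 1)) a
    rw [Matrix.mulVec_single_one] at this
    exact this
  set w := N *ᵥ v with hw
  have hNw : N *ᵥ w = 0 := by rw [hw, Matrix.mulVec_mulVec, hNN, Matrix.zero_mulVec]
  have hei : (Pi.single i 1 : Fin 2 → ZMod p) ≠ 0 := by
    intro h
    have := congrFun h i
    simp at this
  obtain ⟨c, hcC, hc⟩ := transitive p C E hcard hset w (Pi.single i 1) hv hei
  set cm : Matrix (Fin 2) (Fin 2) (ZMod p) := (c : Matrix (Fin 2) (Fin 2) (ZMod p)) with hcm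
  set ci : Matrix (Fin 2) (Fin 2) (ZMod p) :=
    ((c⁻¹ : GL (Fin 2) (ZMod p)) : Matrix (Fin 2) (Fin 2) (ZMod p)) with hci
  have hci1 : ci * cm = 1 := by rw [hci, hcm, ← Units.val_mul, inv_mul_cancel, Units.val_one]
  have hci2 : cm * ci = 1 := by rw [hci, hcm, ← Units.val_mul, mul_inv_cancel, Units.val_one]
  set N' := cm * N * ci with hN'
  have hN'k : N' *ᵥ Pi.single i 1 = 0 := by
    rw [← hc, hN', Matrix.mulVec_mulVec, mul_assoc, mul_assoc, hci1, mul_one,
      ← Matrix.mulVec_mulVec, hNw, Matrix.mulVec_zero]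
  have hN'sq : N' * N' = 0 := by
    rw [hN']
    calc cm * N * ci * (cm * N * ci) = cm * N * (ci * cm) * N * ci := by simp only [mul_assoc]
      _ = 0 := by rw [hci1, mul_one, mul_assoc cm N N, hNN, mul_zero, zero_mul]
  have hN'0 : N' ≠ 0 := by
    intro h0
    apply hN0
    have : N = ci * N' * cm := by
      rw [hN']
      calc N = (ci * cm) * N * (ci * cm) := by rw [hci1, one_mul, mul_one]
        _ = ci * (cm * N * ci) * cm := by simp only [mul_assoc]
    rw [this, h0, mul_zero, zero_mul]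
  obtain ⟨b, hshape⟩ : ∃ b : ZMod p, N' = b • Matrix.single i j (1 : ZMod p) :=
    ⟨_, shape N' i j hij hN'k hN'sq⟩
  have hb : b ≠ 0 := by
    intro h0
    apply hN'0
    rw [hshape, h0, zero_smul]
  obtain ⟨h₀, hh₀, hh₀m⟩ := hNH (a / b)
  refine ⟨c * h₀ * c⁻¹, H.mul_mem (H.mul_mem (hCH hcC) hh₀) (H.inv_mem (hCH hcC)), ?_⟩
  rw [Units.val_mul, Units.val_mul, hh₀m, Matrix.transvection]
  show cm * (1 + (a / b) • N) * ci = 1 + Matrix.single i j a
  rw [mul_add, mul_one, add_mul, hci2, Matrix.mul_smul, Matrix.smul_mul, ← hN']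
  have hfin : (a / b) • N' = Matrix.single i j a := by
    rw [hshape, smul_smul, div_mul_cancel₀ _ hb, Matrix.smul_single, smul_eq_mul, mul_one]
  rw [hfin]


omit [Fact p.Prime] in
theorem diag_eq {K : Type*} [Field K] (d : K) (hd : d ≠ 0) :
    Matrix.diagonal (fun i : Fin 2 => if i = 0 then d else d⁻¹) =
      Matrix.transvection 0 1 d * Matrix.transvection 1 0 (-d⁻¹) * Matrix.transvection 0 1 d *
        (Matrix.transvection 0 1 (-1) * Matrix.transvection 1 0 1 * Matrix.transvection 0 1 (-1)) := by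
  ext i j
  fin_cases i <;> fin_cases j
  all_goals simp [Matrix.transvection, Matrix.single, Matrix.mul_apply, Fin.sum_univ_two,
    Matrix.diagonal, Matrix.one_apply]
  · left; rw [mul_inv_cancel₀ hd]; ring
  · rw [mul_inv_cancel₀ hd]; ring
  · rw [inv_mul_cancel₀ hd]; ring

theorem sl_le (T : ∀ (i j : Fin 2), i ≠ j → ∀ a : ZMod p,
      ∃ h ∈ H, (h : Matrix (Fin 2) (Fin 2) (ZMod p)) = Matrix.transvection i j a)
    (g : GL (Fin 2) (ZMod p)) (hg : (g : Matrix (Fin 2) (Fin 2) (ZMod p)).det = 1) : g ∈ H := by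
  have hone : ∃ h ∈ H, (h : Matrix (Fin 2) (Fin 2) (ZMod p)) = 1 := ⟨1, H.one_mem, Units.val_one⟩
  have hmul : ∀ m m' : Matrix (Fin 2) (Fin 2) (ZMod p),
      (∃ h ∈ H, (h : Matrix (Fin 2) (Fin 2) (ZMod p)) = m) →
      (∃ h ∈ H, (h : Matrix (Fin 2) (Fin 2) (ZMod p)) = m') →
      ∃ h ∈ H, (h : Matrix (Fin 2) (Fin 2) (ZMod p)) = m * m' := by
    rintro m m' ⟨h, hh, rfl⟩ ⟨h', hh', rfl⟩
    exact ⟨h * h', H.mul_mem hh hh', Units.val_mul _ _⟩
  have hlist : ∀ L : List (Matrix.TransvectionStruct (Fin 2) (ZMod p)),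
      ∃ h ∈ H, (h : Matrix (Fin 2) (Fin 2) (ZMod p)) =
        (L.map Matrix.TransvectionStruct.toMatrix).prod := by
    intro L
    induction L with
    | nil => simp
    | cons t L ih =>
      rw [List.map_cons, List.prod_cons]
      exact hmul _ _ (T t.i t.j t.hij t.c) ih
  obtain ⟨L, L', D, hM⟩ :=
    Matrix.Pivot.exists_list_transvec_mul_diagonal_mul_list_transvec
      (g : Matrix (Fin 2) (Fin 2) (ZMod p))
  have hdet : D 0 * D 1 = 1 := by
    have := congrArg Matrix.det hM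
    rw [hg, Matrix.det_mul, Matrix.det_mul, Matrix.TransvectionStruct.det_toMatrix_prod,
      Matrix.TransvectionStruct.det_toMatrix_prod, one_mul, mul_one, Matrix.det_diagonal,
      Fin.prod_univ_two] at this
    exact this.symm
  have hD0 : D 0 ≠ 0 := by
    intro h0; rw [h0, zero_mul] at hdet; exact zero_ne_one hdet
  have hDeq : D = fun i : Fin 2 => if i = 0 then D 0 else (D 0)⁻¹ := by
    funext i
    fin_cases i
    · simp
    · simp only [Fin.mk_one, Fin.isValue, one_ne_zero, if_false]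
      exact eq_inv_of_mul_eq_one_right hdet
  have hdiag : ∃ h ∈ H, (h : Matrix (Fin 2) (Fin 2) (ZMod p)) = Matrix.diagonal D := by
    rw [hDeq, diag_eq (D 0) hD0]
    have t01 := T 0 1 (by decide)
    have t10 := T 1 0 (by decide)
    exact hmul _ _ (hmul _ _ (hmul _ _ (t01 _) (t10 _)) (t01 _))
      (hmul _ _ (hmul _ _ (t01 _) (t10 _)) (t01 _))
  obtain ⟨h, hh, hhm⟩ := hmul _ _ (hmul _ _ (hlist L) hdiag) (hlist L')
  rw [← hM] at hhm
  have : h = g := Units.ext hhm
  rw [← this]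
  exact hh

end bwd

section bwd2
variable (p : ℕ) [Fact p.Prime]
variable (C : Subgroup (GL (Fin 2) (ZMod p))) (E : Subring (Matrix (Fin 2) (Fin 2) (ZMod p)))
  (hset : (E : Set (Matrix (Fin 2) (Fin 2) (ZMod p))) =
    insert 0 ((fun g : GL (Fin 2) (ZMod p) => (g : Matrix (Fin 2) (Fin 2) (ZMod p))) ''
      (C : Set (GL (Fin 2) (ZMod p)))))

theorem scalar_mem (a : ZMod p) : a • (1 : Matrix (Fin 2) (Fin 2) (ZMod p)) ∈ E := by
  have h1 : a • (1 : Matrix (Fin 2) (Fin 2) (ZMod p)) = a.val • (1 : Matrix (Fin 2) (Fin 2) (ZMod p)) := by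
    rw [← Nat.cast_smul_eq_nsmul (ZMod p), ZMod.natCast_zmod_val]
  rw [h1]
  exact nsmul_mem E.one_mem _

include hset in
theorem no_zero_div (a b : Matrix (Fin 2) (Fin 2) (ZMod p)) (ha : a ∈ E) (hb : b ∈ E)
    (hab : a * b = 0) : a = 0 ∨ b = 0 := by
  by_contra hcon
  push_neg at hcon
  obtain ⟨c, -, rfl⟩ := mem_C_of_ne p C E hset _ ha hcon.1
  apply hcon.2
  have := congrArg (fun m => ((c⁻¹ : GL (Fin 2) (ZMod p)) : Matrix (Fin 2) (Fin 2) (ZMod p)) * m) hab
  simp only [← mul_assoc, mul_zero] at this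
  rwa [← Units.val_mul, inv_mul_cancel, Units.val_one, one_mul] at this

theorem prod_X_sub_C_zmod : ∏ a : ZMod p, (X - Polynomial.C a) = (X ^ p - X : (ZMod p)[X]) := by
  have hmonic : (X ^ p - X : (ZMod p)[X]).Monic := by
    apply monic_X_pow_sub
    rw [degree_X]
    exact_mod_cast (Fact.out : p.Prime).one_lt
  have hroots := FiniteField.roots_X_pow_card_sub_X (ZMod p)
  rw [ZMod.card] at hroots
  have hcard : Multiset.card (X ^ p - X : (ZMod p)[X]).roots = (X ^ p - X : (ZMod p)[X]).natDegree := by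
    rw [hroots]
    have := FiniteField.X_pow_card_sub_X_natDegree_eq (ZMod p) (Fact.out : p.Prime).one_lt
    rw [this]
    simp [ZMod.card]
  have := prod_multiset_X_sub_C_of_monic_of_roots_card_eq hmonic hcard
  rw [hroots] at this
  rw [← this]
  rfl

include hset in
theorem scalar_of_pow_eq (m : Matrix (Fin 2) (Fin 2) (ZMod p)) (hm : m ∈ E) (hmp : m ^ p = m) :
    ∃ a : ZMod p, m = a • 1 := by
  by_contra hcon
  push_neg at hcon
  have h1 : aeval m (∏ a : ZMod p, (X - Polynomial.C a)) = 0 := by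
    rw [prod_X_sub_C_zmod, map_sub, map_pow, aeval_X, hmp, sub_self]
  rw [← Finset.prod_map_toList, map_list_prod, List.map_map] at h1
  have h2 : ((Finset.univ : Finset (ZMod p)).toList.map
      ((aeval m) ∘ fun a => (X - Polynomial.C a : (ZMod p)[X]))).prod ∈ E ∧
      ((Finset.univ : Finset (ZMod p)).toList.map
      ((aeval m) ∘ fun a => (X - Polynomial.C a : (ZMod p)[X]))).prod ≠ 0 := by
    apply List.prod_induction (fun x => x ∈ E ∧ x ≠ 0)
    · rintro a b ⟨ha, ha0⟩ ⟨hb, hb0⟩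
      refine ⟨E.mul_mem ha hb, fun h => ?_⟩
      rcases no_zero_div p C E hset a b ha hb h with h | h
      · exact ha0 h
      · exact hb0 h
    · exact ⟨E.one_mem, one_ne_zero⟩
    · intro x hx
      rw [List.mem_map] at hx
      obtain ⟨a, -, rfl⟩ := hx
      rw [Function.comp_apply, map_sub, aeval_X, aeval_C, Algebra.algebraMap_eq_smul_one]
      exact ⟨E.sub_mem hm (scalar_mem p E a), sub_ne_zero.2 (hcon a)⟩
  exact h2.2 h1

include hset in
theorem pow_succ_eq_det (m : Matrix (Fin 2) (Fin 2) (ZMod p)) (hm : m ∈ E) :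
    m ^ (p + 1) = m.det • 1 := by
  have hch := ch2 m
  have hch' : (m ^ p) * (m ^ p) = m.trace • (m ^ p) - m.det • 1 := by
    have h1 : (m * m) ^ p = (m ^ p) * (m ^ p) := by
      rw [(Commute.refl m).mul_pow]
    rw [← h1, hch, sub_pow_char_of_commute p, _root_.smul_pow, _root_.smul_pow, one_pow,
      ZMod.pow_card, ZMod.pow_card]
    exact (Commute.one_right _).smul_left _ |>.smul_right _
  have hcomm : m ^ p * m = m * m ^ p := ((Commute.refl m).pow_left p).eq
  have hprod : (m ^ p - m) * (m ^ p + m - m.trace • 1) = 0 := by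
    have : (m ^ p - m) * (m ^ p + m - m.trace • 1) =
        m ^ p * m ^ p - m * m + (m ^ p * m - m * m ^ p) - m.trace • (m ^ p) + m.trace • m := by
      simp only [sub_mul, mul_sub, mul_add, Matrix.mul_smul, mul_one]
      abel
    rw [this, hch', hch, hcomm]
    abel
  have hmp : m ^ p ∈ E := E.pow_mem hm p
  rcases no_zero_div p C E hset _ _ (E.sub_mem hmp hm)
    (E.sub_mem (E.add_mem hmp hm) (scalar_mem p E m.trace)) hprod with h | h
  · -- m^p = m
    obtain ⟨a, rfl⟩ := scalar_of_pow_eq p C E hset m hm (sub_eq_zero.1 h)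
    rw [_root_.smul_pow, one_pow, pow_succ, ZMod.pow_card, Matrix.det_smul, Matrix.det_one, mul_one,
      Fintype.card_fin, sq]
  · have h' : m ^ p = m.trace • 1 - m := by
      have := sub_eq_zero.1 h
      rw [← this]; abel
    rw [pow_succ, h', sub_mul, Matrix.smul_mul, one_mul, hch]
    abel


include hset in
theorem card_C (hcard : Nat.card E = p ^ 2) : Nat.card C = p ^ 2 - 1 := by
  have h1 : Nat.card E = (E : Set (Matrix (Fin 2) (Fin 2) (ZMod p))).ncard :=
    (Nat.card_coe_set_eq _)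
  rw [hset, Set.ncard_insert_of_notMem, Set.ncard_image_of_injective _ Units.val_injective] at h1
  · have h2 : (C : Set (GL (Fin 2) (ZMod p))).ncard = Nat.card C :=
      (Nat.card_coe_set_eq _).symm
    rw [h2, hcard] at h1
    omega
  · rintro ⟨c, -, hc⟩
    have h2 := c.mul_inv
    rw [show (c : Matrix (Fin 2) (Fin 2) (ZMod p)) = 0 from hc, zero_mul] at h2
    exact zero_ne_one h2

include hset in
theorem det_surj (hE : IsField E) (hcard : Nat.card E = p ^ 2) (d : (ZMod p)ˣ) :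
    ∃ c ∈ C, Matrix.GeneralLinearGroup.det c = d := by
  classical
  let φ : C →* (ZMod p)ˣ := Matrix.GeneralLinearGroup.det.comp C.subtype
  have hp1 : 1 < p := (Fact.out : p.Prime).one_lt
  have hsurj : Function.Surjective φ := by
    apply MonoidHom.surjective_of_card_ker_le_div
    rw [card_C p C E hset hcard, Nat.card_units, Nat.card_zmod]
    have hdiv : (p ^ 2 - 1) / (p - 1) = p + 1 := by
      apply Nat.div_eq_of_eq_mul_left (by omega)
      have : p ^ 2 - 1 = (p + 1) * (p - 1) := by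
        obtain ⟨q, rfl⟩ : ∃ q, p = q + 1 := ⟨p - 1, by omega⟩
        simp only [Nat.add_sub_cancel]
        ring_nf
        omega
      exact this
    rw [hdiv]
    letI : Field E := hE.toField
    let S : Finset E := (nthRoots (p + 1) (1 : E)).toFinset
    have hS : S.card ≤ p + 1 :=
      (Multiset.toFinset_card_le _).trans (card_nthRoots _ _)
    let ι : φ.ker → S := fun k => ⟨⟨(k.1.1 : Matrix (Fin 2) (Fin 2) (ZMod p)),
      C_sub_E p C E hset k.1.1 k.1.2⟩, by
        rw [Multiset.mem_toFinset, mem_nthRoots (Nat.succ_pos p)]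
        apply Subtype.ext
        rw [SubmonoidClass.coe_pow]
        show (k.1.1 : Matrix (Fin 2) (Fin 2) (ZMod p)) ^ (p + 1) = 1
        rw [pow_succ_eq_det p C E hset _ (C_sub_E p C E hset k.1.1 k.1.2)]
        have hk : φ k.1 = 1 := k.2
        have hk' : (k.1.1 : Matrix (Fin 2) (Fin 2) (ZMod p)).det = 1 := by
          have := congrArg Units.val hk
          exact this
        rw [hk', one_smul]⟩
    have hι : Function.Injective ι := by
      intro k k' h
      have h1 : (k.1.1 : Matrix (Fin 2) (Fin 2) (ZMod p)) = k'.1.1 :=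
        congrArg (fun s : S => (s.1.1 : Matrix (Fin 2) (Fin 2) (ZMod p))) h
      exact Subtype.ext (Subtype.ext (Units.ext h1))
    calc Nat.card φ.ker ≤ Nat.card S := Nat.card_le_card_of_injective ι hι
      _ = S.card := by rw [Nat.card_eq_fintype_card, Fintype.card_coe]
      _ ≤ p + 1 := hS
  obtain ⟨c, hc⟩ := hsurj d
  exact ⟨c.1, c.2, hc⟩

end bwd2


theorem result' (p : ℕ) [Fact p.Prime]
    (H : Subgroup (GL (Fin 2) (ZMod p))) :
    H = ⊤ ↔
      (∃ (C : Subgroup (GL (Fin 2) (ZMod p))) (E : Subring (Matrix (Fin 2) (Fin 2) (ZMod p))),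
          C ≤ H ∧ IsField E ∧ Nat.card E = p ^ 2 ∧
            (E : Set (Matrix (Fin 2) (Fin 2) (ZMod p))) =
              insert 0 ((fun g : GL (Fin 2) (ZMod p) => (g : Matrix (Fin 2) (Fin 2) (ZMod p))) ''
                (C : Set (GL (Fin 2) (ZMod p))))) ∧
        p ∣ Nat.card H := by
  constructor
  · rintro rfl
    obtain ⟨n₀, hn₀⟩ := exists_n₀ p
    refine ⟨⟨Csub p (Esub p n₀) (Esub_isField p n₀ hn₀), Esub p n₀, le_top,
      Esub_isField p n₀ hn₀, Esub_card p n₀, Csub_set p _ _⟩, ?_⟩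
    rw [Subgroup.card_top]
    exact p_dvd_card p
  · rintro ⟨⟨C, E, hCH, hE, hcard, hset⟩, hp⟩
    obtain ⟨N, hN0, hNN, hNH⟩ := exists_unipotent p H hp
    have T := transv_mem p H C E hcard hset hCH N hN0 hNN hNH
    rw [eq_top_iff]
    intro g _
    obtain ⟨c, hcC, hc⟩ := det_surj p C E hset hE hcard (Matrix.GeneralLinearGroup.det g)
    have hdet : ((c⁻¹ * g : GL (Fin 2) (ZMod p)) : Matrix (Fin 2) (Fin 2) (ZMod p)).det = 1 := by
      have h1 : Matrix.GeneralLinearGroup.det (c⁻¹ * g) = 1 := by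
        rw [map_mul, map_inv, hc, inv_mul_cancel]
      exact congrArg Units.val h1
    have h2 := sl_le p H T (c⁻¹ * g) hdet
    have h3 : g = c * (c⁻¹ * g) := by group
    rw [h3]
    exact H.mul_mem (hCH hcC) h2

/-- Let p be a prime and H a subgroup of GL₂(𝔽_p). Then H = GL₂(𝔽_p) if and only if (i) some non-split
Cartan subgroup lies in H, i.e. some subgroup C ≤ H such that C ∪ {0} is a subfield of the matrix
algebra M₂(𝔽_p) with p² elements, and (ii) p divides the order of H. -/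
theorem result (p : ℕ) [Fact p.Prime]
    (H : Subgroup (GL (Fin 2) (ZMod p))) :
    H = ⊤ ↔
      (∃ (C : Subgroup (GL (Fin 2) (ZMod p))) (E : Subring (Matrix (Fin 2) (Fin 2) (ZMod p))),
          C ≤ H ∧ IsField E ∧ Nat.card E = p ^ 2 ∧
            (E : Set (Matrix (Fin 2) (Fin 2) (ZMod p))) =
              insert 0 ((fun g : GL (Fin 2) (ZMod p) => (g : Matrix (Fin 2) (Fin 2) (ZMod p))) ''
                (C : Set (GL (Fin 2) (ZMod p))))) ∧
        p ∣ Nat.card H := by
  exact result' p H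

end Groth.Agent.S15361
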