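import Groth.Statements.S15362
import Mathlib
import Groth.Agent.Lib.helper25.IsocL

set_option autoImplicit false
universe u v w
open CAlg

namespace Groth.Agent.S15362

namespace S15362aux

open Groth.Agent.Lib.helper25

/-- Lang: for a Frobenius-semilinear endomorphism of a finite-dimensional space over an
algebraically closed field, `φ - 1` is surjective (no injectivity needed). -/
theorem exists_sub_eq (p : ℕ) [Fact p.Prime] {k : Type u} [Field k] [IsAlgClosed k] [CharP k p] :
    ∀ (n : ℕ) (V : Type w) [AddCommGroup V] [Module k V] [FiniteDimensional k V]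
      (φ : V →ₛₗ[frobenius k p] V), Module.finrank k V = n → ∀ y : V, ∃ s : V, φ s - s = y := by
  intro n
  induction n using Nat.strong_induction_on with
  | _ n ih =>
    intro V _ _ _ φ hn y
    have hp2 : 2 ≤ p := (Fact.out : p.Prime).two_le
    have hε : ∀ x : k, frobenius k p x = x ^ p := fun x => frobenius_def p x
    by_cases hinj : Function.Injective φ
    · exact IsocL.exists_sub_eq hp2 hε φ hinj y
    · set K := LinearMap.ker φ with hK
      have hKne : K ≠ ⊥ := fun h => hinj (LinearMap.ker_eq_bot.1 h)
      have hKstab : K ≤ K.comap φ := by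
        intro x hx
        rw [Submodule.mem_comap, LinearMap.mem_ker.1 hx]
        exact K.zero_mem
      let φq : (V ⧸ K) →ₛₗ[frobenius k p] (V ⧸ K) := K.mapQ K φ hKstab
      have hφq : ∀ x, φq (K.mkQ x) = K.mkQ (φ x) := fun x => rfl
      have hlt : Module.finrank k (V ⧸ K) < n := by
        have h1 := Submodule.finrank_quotient_add_finrank K
        have h2 : 1 ≤ Module.finrank k K := Submodule.one_le_finrank_iff.mpr hKne
        omega
      obtain ⟨sq, hsq⟩ := ih _ hlt (V ⧸ K) φq rfl (K.mkQ y)
      obtain ⟨s, rfl⟩ := K.mkQ_surjective sq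
      rw [hφq, ← map_sub, ← sub_eq_zero, ← map_sub, Submodule.mkQ_apply,
        Submodule.Quotient.mk_eq_zero] at hsq
      -- z := φ s - s - y ∈ K
      refine ⟨s + (φ s - s - y), ?_⟩
      rw [map_add, LinearMap.mem_ker.1 hsq]
      abel

end S15362aux

/-- For an algebraically closed field L of characteristic p > 0, a commutative L-algebra R integral over
L, and a finitely presented R-module M carrying an additive endomorphism φ with φ(r·m) = r^p·φ(m)
for r ∈ R, m ∈ M, the map m ↦ φ(m) − m is onto. (R is taken of exponential characteristic p so that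
its Frobenius is a ring endomorphism; for a non-zero L-algebra this is automatic.) -/
theorem result (p : ℕ) [Fact p.Prime]
    (L : Type u) [Field L] [IsAlgClosed L] [CharP L p]
    (R : Type v) [CommRing R] [Algebra L R] [Algebra.IsIntegral L R] [ExpChar R p]
    (M : Type w) [AddCommGroup M] [Module R M] [Module.FinitePresentation R M]
    (φ : M →ₛₗ[frobenius R p] M) :
    Function.Surjective fun m : M => φ m - m := by
  classical
  intro m
  -- `L`-module structure on `M`
  letI : Module L M := Module.compHom M (algebraMap L R)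
  have hLsmul : ∀ (c : L) (x : M), c • x = algebraMap L R c • x := fun c x => rfl
  haveI : IsScalarTower L R M := ⟨fun c r x => by
    rw [hLsmul, Algebra.smul_def, mul_smul]⟩
  haveI : Module.Finite R M := inferInstance
  obtain ⟨n, g, hg⟩ := Module.Finite.exists_fin (R := R) (M := M)
  have hmem : ∀ x : M, ∃ c : Fin n → R, x = ∑ j, c j • g j := by
    intro x
    have : x ∈ Submodule.span R (Set.range g) := by rw [hg]; trivial
    rw [Submodule.mem_span_range_iff_exists_fun] at this
    obtain ⟨c, hc⟩ := this
    exact ⟨c, hc.symm⟩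
  choose r hr using fun j => hmem (φ (g j))
  obtain ⟨c, hc⟩ := hmem m
  let S₀ : Set R := Set.range (fun jl : Fin n × Fin n => r jl.1 jl.2) ∪ Set.range c
  have hS₀ : S₀.Finite := (Set.finite_range _).union (Set.finite_range _)
  let R₁ := Algebra.adjoin L S₀
  have hR₁fg : R₁.toSubmodule.FG :=
    fg_adjoin_of_finite hS₀ (fun x _ => Algebra.IsIntegral.isIntegral x)
  obtain ⟨T, hT⟩ := hR₁fg
  let N : Submodule L M :=
    Submodule.span L (Set.image2 (fun (t : R) (j : Fin n) => t • g j) (T : Set R) Set.univ)
  haveI : FiniteDimensional L N :=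
    FiniteDimensional.span_of_finite L (Set.Finite.image2 _ T.finite_toSet Set.finite_univ)
  have hN1' : ∀ t ∈ Submodule.span L (T : Set R), ∀ j, t • g j ∈ N := by
    intro t ht j
    induction ht using Submodule.span_induction with
    | mem x hx => exact Submodule.subset_span ⟨x, hx, j, trivial, rfl⟩
    | zero => rw [zero_smul]; exact N.zero_mem
    | add x y _ _ hx hy => rw [add_smul]; exact N.add_mem hx hy
    | smul a x _ hx => rw [smul_assoc]; exact N.smul_mem a hx
  have hN1 : ∀ t ∈ R₁, ∀ j, t • g j ∈ N := by
    intro t ht j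
    apply hN1'
    rw [hT]
    exact ht
  have hφN : ∀ x ∈ N, φ x ∈ N := by
    intro x hx
    induction hx using Submodule.span_induction with
    | mem y hy =>
      obtain ⟨t, ht, j, -, rfl⟩ := hy
      have htR₁ : t ∈ R₁ := by
        have : t ∈ Submodule.span L (T : Set R) := Submodule.subset_span ht
        rw [hT] at this
        exact this
      rw [map_smulₛₗ, frobenius_def, hr j, Finset.smul_sum]
      refine N.sum_mem fun l _ => ?_
      rw [smul_smul]
      apply hN1
      exact R₁.mul_mem (R₁.pow_mem htR₁ p) (Algebra.subset_adjoin (Or.inl ⟨(j, l), rfl⟩))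
    | zero => rw [map_zero]; exact N.zero_mem
    | add y z _ _ hy hz => rw [map_add]; exact N.add_mem hy hz
    | smul a y _ hy =>
      rw [hLsmul, map_smulₛₗ, frobenius_def, ← map_pow, ← hLsmul]
      exact N.smul_mem _ hy
  have hmN : m ∈ N := by
    rw [hc]
    refine N.sum_mem fun j _ => ?_
    exact hN1 _ (Algebra.subset_adjoin (Or.inr ⟨j, rfl⟩)) j
  let φN : N →ₛₗ[frobenius L p] N :=
    { toFun := fun x => ⟨φ x.1, hφN x.1 x.2⟩
      map_add' := fun x y => Subtype.ext (by simp)
      map_smul' := fun a x => Subtype.ext (by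
        change φ (a • x.1) = (frobenius L p a) • φ x.1
        rw [hLsmul, map_smulₛₗ, frobenius_def, hLsmul, frobenius_def, map_pow]) }
  obtain ⟨s, hs⟩ := S15362aux.exists_sub_eq p _ N φN rfl ⟨m, hmN⟩
  exact ⟨s.1, congrArg Subtype.val hs⟩

end Groth.Agent.S15362
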