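import Groth.Statements.S15363
import Mathlib

set_option autoImplicit false
universe u
open CategoryTheory AlgebraicGeometry
open SekSuwa

namespace Groth.Agent.S15363

section Helpers

open CategoryTheory AlgebraicGeometry SekSuwa Limits

variable (R : Type u) [CommRing R] (lam : R) (N : ℕ) (h : DivCond lam N)

/-- ring-level statement -/
theorem ring_case (B : Type u) [CommRing B] [Algebra R B] [Module.Flat R B]
    (φ γ : AK R lam N h →ₐ[R] B)
    (hu : φ (1 + lam • AK.t) = γ (1 + lam • AK.t)) : φ = γ := by
  have hreg : IsSMulRegular B lam := Module.Flat.isSMulRegular_of_nonZeroDivisors h.nzd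
  have ht : φ AK.t = γ AK.t := by
    rw [map_add, map_add, map_one, map_one, map_smul, map_smul] at hu
    exact hreg (add_left_cancel hu)
  apply AK.algHom_ext ht
  -- inverses
  have e1 : (1 + lam • (AK.t : AK R lam N h)) * AK.inv = 1 := by
    have := congrArg (AK.mkHom R lam N h) (A.u_mul_inv (R := R) (lam := lam))
    rw [map_mul, map_one, A.u, map_add, map_one, map_smul] at this
    exact this
  have h1 : φ (1 + lam • AK.t) * φ AK.inv = 1 := by rw [← map_mul, e1, map_one]
  have h2 : γ (1 + lam • AK.t) * γ AK.inv = 1 := by rw [← map_mul, e1, map_one]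
  rw [hu] at h1
  calc φ AK.inv = (γ (1 + lam • AK.t) * γ AK.inv) * φ AK.inv := by rw [h2, one_mul]
    _ = γ AK.inv * (γ (1 + lam • AK.t) * φ AK.inv) := by ring
    _ = γ AK.inv := by rw [h1, mul_one]

theorem cat_case (B : CommRingCat.{u}) (ρ : CommRingCat.of R ⟶ B) (hρ : ρ.hom.Flat)
    (φ γ : CommRingCat.of (AK R lam N h) ⟶ B)
    (h1 : CommRingCat.ofHom (algebraMap R (AK R lam N h)) ≫ φ = ρ)
    (h2 : CommRingCat.ofHom (algebraMap R (AK R lam N h)) ≫ γ = ρ)
    (h3 : CommRingCat.ofHom (alphaNHom R lam N h :
        MonoidAlgebra R (Multiplicative (ZMod N)) →+* AK R lam N h) ≫ φ =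
      CommRingCat.ofHom (alphaNHom R lam N h :
        MonoidAlgebra R (Multiplicative (ZMod N)) →+* AK R lam N h) ≫ γ) : φ = γ := by
  letI : Algebra R B := ρ.hom.toAlgebra
  haveI : Module.Flat R B := hρ
  let φ' : AK R lam N h →ₐ[R] B := { φ.hom with
    commutes' := fun r => by
      have := congrArg (fun f => f.hom r) h1
      exact this }
  let γ' : AK R lam N h →ₐ[R] B := { γ.hom with
    commutes' := fun r => by
      have := congrArg (fun f => f.hom r) h2
      exact this }
  have key : φ' = γ' := by
    apply ring_case
    have := congrArg (fun f => f.hom (MonoidAlgebra.single (Multiplicative.ofAdd (1 : ZMod N)) 1)) h3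
    simp only [CommRingCat.hom_comp, CommRingCat.hom_ofHom, RingHom.comp_apply] at this
    have e : (alphaNHom R lam N h : MonoidAlgebra R (Multiplicative (ZMod N)) →+* AK R lam N h)
        (MonoidAlgebra.single (Multiplicative.ofAdd (1 : ZMod N)) 1) = 1 + lam • AK.t :=
      alphaNHom_single_one R lam N h
    rw [e] at this
    exact this
  ext x
  exact congrArg (fun f : AK R lam N h →ₐ[R] B => f x) key

theorem main (p : ℕ) (h : SekSuwa.DivCond lam p)
    (G : Over (Spec (CommRingCat.of R))) [Flat G.hom] (f g : G ⟶ SekSuwa.GK R lam p h)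
    (hfg : f ≫ SekSuwa.alphaN R lam p h = g ≫ SekSuwa.alphaN R lam p h) : f = g := by
  apply Over.OverMorphism.ext
  refine Scheme.Cover.hom_ext G.left.affineCover _ _ fun i => ?_
  set j := G.left.affineCover.f i with hj
  -- all maps are Spec.map of something
  have hGK : (SekSuwa.GK R lam p h).hom =
      Spec.map (CommRingCat.ofHom (algebraMap R (AK R lam p h))) := rfl
  have hα : (SekSuwa.alphaN R lam p h).left = Spec.map (CommRingCat.ofHom
      (alphaNHom R lam p h : MonoidAlgebra R (Multiplicative (ZMod p)) →+* AK R lam p h)) := rfl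
  have hf : j ≫ f.left = Spec.map (Spec.preimage (j ≫ f.left)) := (Spec.map_preimage _).symm
  have hg : j ≫ g.left = Spec.map (Spec.preimage (j ≫ g.left)) := (Spec.map_preimage _).symm
  have hρ : j ≫ G.hom = Spec.map (Spec.preimage (j ≫ G.hom)) := (Spec.map_preimage _).symm
  rw [hf, hg]
  congr 1
  refine cat_case R lam p h _ (Spec.preimage (j ≫ G.hom)) ?_ _ _ ?_ ?_ ?_
  · rw [← Flat.SpecMap_iff, ← hρ]
    haveI : IsOpenImmersion j := by rw [hj]; infer_instance
    haveI : Flat j := inferInstance
    exact MorphismProperty.comp_mem (W := @Flat) _ _ ‹Flat j› ‹Flat G.hom›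
  · apply Spec.map_injective
    rw [Spec.map_comp, ← hf, ← hρ, ← hGK]
    exact (Category.assoc j f.left (GK R lam p h).hom).trans
      (congrArg (fun k => j ≫ k) (Over.w f))
  · apply Spec.map_injective
    rw [Spec.map_comp, ← hg, ← hρ, ← hGK]
    exact (Category.assoc j g.left (GK R lam p h).hom).trans
      (congrArg (fun k => j ≫ k) (Over.w g))
  · apply Spec.map_injective
    rw [Spec.map_comp, Spec.map_comp, ← hf, ← hg, ← hα]
    have e : f.left ≫ (alphaN R lam p h).left = g.left ≫ (alphaN R lam p h).left :=
      congrArg (fun k => k.left) hfg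
    exact (Category.assoc j f.left _).trans ((congrArg (fun k => j ≫ k) e).trans
      (Category.assoc j g.left _).symm)

end Helpers

/-- Let R be an integral domain, p a prime and λ ∈ R a non-zero element with λ^p dividing (1 + λX)^p −
1, so that the congruence group scheme G_λ = Spec R[T]/(P_λ(T)) of level λ and its homomorphism θ_λ
: G_λ → μ_p, X ↦ 1 + λT, are defined. For every scheme G flat over Spec R, composition with θ_λ is
injective on R-morphisms G → G_λ; in particular θ_λ induces an injective map from the homomorphisms
G → G_λ of a flat R-group scheme G to its homomorphisms G → μ_p. (The published statement is over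
the ring of integers of an algebraic closure of a complete discretely valued field of mixed
characteristic, for finite flat commutative group schemes killed by p; the published argument, that
θ_λ is an isomorphism on the generic fibre and G is flat, gives the form stated here.) -/
theorem result (R : Type u) [CommRing R] [IsDomain R]
    (p : ℕ) [Fact p.Prime] (lam : R) (h : SekSuwa.DivCond lam p)
    (G : Over (Spec (CommRingCat.of R))) [Flat G.hom]
    (f g : G ⟶ SekSuwa.GK R lam p h)
    (hfg : f ≫ SekSuwa.alphaN R lam p h = g ≫ SekSuwa.alphaN R lam p h) : f = g := by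
  exact main R lam p h G f g hfg

end Groth.Agent.S15363
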