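import Groth.Statements.S15365
import Mathlib
-- import your own Groth.Agent.* helpers here

set_option autoImplicit false
universe u
open scoped BigOperators
open CAlg

namespace Groth.Agent.S15365

namespace H5S15365

open MvPolynomial Algebra


section general

variable {R : Type*} {S : Type*} {ι σ : Type*} [CommRing R] [CommRing S] [Algebra R S]
  [Finite σ] (P : Algebra.PreSubmersivePresentation R S ι σ)

lemma aevalDifferential_comp :
    P.aevalDifferential ∘ₗ (Finsupp.linearEquivFunOnFinite S S σ).toLinearMap =
      P.cotangentComplexAux ∘ₗ Algebra.Presentation.differentials.hom₁ P.toPresentation := by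
  classical
  ext r i
  simp only [LinearMap.coe_comp, LinearEquiv.coe_coe, Function.comp_apply,
    Finsupp.lsingle_apply]
  rw [Algebra.Presentation.differentials.hom₁_single, P.cotangentComplexAux_apply]
  have : (Finsupp.linearEquivFunOnFinite S S σ) (Finsupp.single r 1) = Pi.single r 1 := by
    ext j
    simp [Finsupp.single_apply, Pi.single_apply, eq_comm]
  rw [this, P.aevalDifferential_single]

lemma aevalDifferential_surjective [Subsingleton (Ω[S⁄R])] :
    Function.Surjective P.aevalDifferential := by
  have h1 : Function.Surjective P.toExtension.cotangentComplex := by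
    intro y
    have := (P.toExtension.exact_cotangentComplex_toKaehler y).mp (Subsingleton.elim _ _)
    exact this
  have h2 : Function.Surjective P.cotangentComplexAux := by
    intro w
    obtain ⟨c, hc⟩ := h1 (P.cotangentSpaceBasis.repr.symm
      (Finsupp.mapDomain P.map ((Finsupp.linearEquivFunOnFinite S S σ).symm w)))
    refine ⟨c, ?_⟩
    simp only [Algebra.PreSubmersivePresentation.cotangentComplexAux, LinearMap.coe_comp,
      LinearEquiv.coe_coe, Function.comp_apply, hc, LinearEquiv.apply_symm_apply]
    rw [Finsupp.lcomapDomain_apply, Finsupp.comapDomain_mapDomain _ P.map_inj]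
    simp
  have h3 : Function.Surjective
      (P.cotangentComplexAux ∘ₗ Algebra.Presentation.differentials.hom₁ P.toPresentation) :=
    h2.comp (Algebra.Presentation.differentials.surjective_hom₁ _)
  rw [← aevalDifferential_comp] at h3
  exact Function.Surjective.of_comp h3

lemma isUnit_jacobian_of_subsingleton [Subsingleton (Ω[S⁄R])] : IsUnit P.jacobian := by
  rw [P.isUnit_jacobian_iff_aevalDifferential_bijective]
  exact OrzechProperty.bijective_of_surjective_endomorphism _ (aevalDifferential_surjective P)

end general

end H5S15365

namespace H5S15365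

open MvPolynomial Algebra


variable (p : ℕ) [Fact p.Prime] (A : Type u) [CommRing A] [CharP A p] (n : ℕ)
  (h : Matrix (Fin n) (Fin n) A)

/-- the relations. -/
noncomputable def rel (j : Fin n) : MvPolynomial (Fin n) A :=
  (X j : MvPolynomial (Fin n) A) ^ p - ∑ i : Fin n, C (h i j) * X i

/-- the naive presentation -/
noncomputable def pres : Algebra.PreSubmersivePresentation A
    (MvPolynomial (Fin n) A ⧸ Ideal.span (Set.range (rel p A n h))) (Fin n) (Fin n) :=
  Algebra.PreSubmersivePresentation.naive (v := rel p A n h) id Function.injective_id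

lemma pderiv_rel (i j : Fin n) : pderiv i (rel p A n h j) = - C (h i j) := by
  classical
  have hp0 : (p : MvPolynomial (Fin n) A) = 0 := by
    have : (p : MvPolynomial (Fin n) A) = C (p : A) := by simp
    rw [this, CharP.cast_eq_zero, map_zero]
  simp only [rel, map_sub, map_sum, Derivation.leibniz, pderiv_C, smul_zero, add_zero,
    Derivation.leibniz_pow, pderiv_X, smul_eq_mul, nsmul_eq_mul, hp0, zero_mul, zero_sub]
  congr 1
  rw [Finset.sum_eq_single i]
  · simp
  · intro b _ hb
    simp [Pi.single_apply, hb.symm]
  · simp

lemma jacobian_eq :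
    (pres p A n h).jacobian = (-1) ^ n * algebraMap A _ h.det := by
  classical
  rw [Algebra.PreSubmersivePresentation.jacobian_eq_jacobiMatrix_det]
  have : (pres p A n h).jacobiMatrix = - (C (σ := Fin n)).mapMatrix h := by
    apply Matrix.ext
    intro i j
    rw [pres, Algebra.PreSubmersivePresentation.jacobiMatrix_naive]
    simp [pderiv_rel]
  rw [this, Matrix.det_neg, ← RingHom.map_det, map_mul, map_pow, map_neg, map_one]
  simp only [Fintype.card_fin]
  rfl

end H5S15365

namespace H5S15365

open MvPolynomial Algebra


variable (p : ℕ) [Fact p.Prime] (A : Type u) [CommRing A] [CharP A p] (n : ℕ)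
  (h : Matrix (Fin n) (Fin n) A)

/-- the retraction `X ↦ 0`. -/
noncomputable def retr :
    (MvPolynomial (Fin n) A ⧸ Ideal.span (Set.range (rel p A n h))) →ₐ[A] A :=
  Ideal.Quotient.liftₐ _ (aeval (fun _ => (0 : A))) (by
    intro a ha
    have hle : Ideal.span (Set.range (rel p A n h)) ≤
        RingHom.ker (aeval (fun _ : Fin n => (0 : A))).toRingHom := by
      rw [Ideal.span_le]
      rintro _ ⟨j, rfl⟩
      have hp : p ≠ 0 := (Fact.out : p.Prime).ne_zero
      simp [rel, hp]
    exact hle ha)

theorem main :
    Algebra.Etale A (MvPolynomial (Fin n) A ⧸ Ideal.span (Set.range (rel p A n h))) ↔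
      IsUnit h.det := by
  constructor
  · intro hE
    haveI : Subsingleton (Ω[(MvPolynomial (Fin n) A ⧸ Ideal.span (Set.range (rel p A n h)))⁄A]) :=
      inferInstance
    have hj := isUnit_jacobian_of_subsingleton (pres p A n h)
    rw [jacobian_eq] at hj
    have hd := (IsUnit.mul_iff.mp hj).2
    have := hd.map (retr p A n h)
    simpa using this
  · intro hd
    have hj : IsUnit (pres p A n h).jacobian := by
      rw [jacobian_eq]
      have hu : IsUnit ((-1 : MvPolynomial (Fin n) A ⧸ Ideal.span (Set.range (rel p A n h))) ^ n) :=
        IsUnit.of_mul_eq_one ((-1) ^ n) (by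
          rw [← mul_pow]
          have : (-1 : MvPolynomial (Fin n) A ⧸ Ideal.span (Set.range (rel p A n h))) * (-1) = 1 := by
            ring
          rw [this, one_pow])
      exact hu.mul (hd.map _)
    let SP : Algebra.SubmersivePresentation A
        (MvPolynomial (Fin n) A ⧸ Ideal.span (Set.range (rel p A n h))) (Fin n) (Fin n) :=
      { toPreSubmersivePresentation := pres p A n h
        jacobian_isUnit := hj }
    haveI : Algebra.IsStandardSmoothOfRelativeDimension 0 A
        (MvPolynomial (Fin n) A ⧸ Ideal.span (Set.range (rel p A n h))) :=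
      SP.isStandardSmoothOfRelativeDimension (by simp [Algebra.Presentation.dimension])
    infer_instance

end H5S15365

/-- Let A be a commutative ring of characteristic p > 0 and (h_{ij})_{1 ≤ i,j ≤ n} a square matrix over
A, the matrix of a commutative p-Lie algebra (L, φ) with L free with basis e_1, …, e_n and φ(e_j) =
Σ_i h_{ij} e_i. The associated finite group scheme Spec A[X_1, …, X_n]/(X_j^p − Σ_i h_{ij} X_i)_{1 ≤
j ≤ n} is étale over A if and only if the matrix (h_{ij}) is invertible, i.e. its determinant is a
unit of A. Only the algebra structure enters this assertion. -/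
theorem result (p : ℕ) [Fact p.Prime]
    (A : Type u) [CommRing A] [CharP A p] (n : ℕ) (h : Matrix (Fin n) (Fin n) A) :
    Algebra.Etale A (MvPolynomial (Fin n) A ⧸ Ideal.span (Set.range fun j : Fin n =>
        (MvPolynomial.X j : MvPolynomial (Fin n) A) ^ p -
          ∑ i : Fin n, MvPolynomial.C (h i j) * MvPolynomial.X i)) ↔
      IsUnit h.det := by
  exact H5S15365.main p A n h

end Groth.Agent.S15365
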