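import Groth.Statements.S15367
import Mathlib

set_option autoImplicit false
universe u v
open TensorProduct
open CAlg

namespace Groth.Agent.S15367
open scoped DirectSum

section helpers


theorem homQuot (R : Type u) [CommRing R] [IsDomain R] (a q r : R) (h : a = q * r) (ha : a ≠ 0) :
    Nonempty (((R ⧸ (Submodule.span R {q})) →ₗ[R] (R ⧸ Ideal.span {a})) ≃ₗ[R]
      (R ⧸ (Submodule.span R {q}))) := by
  subst h
  have hq : q ≠ 0 := left_ne_zero_of_mul ha
  have hr : r ≠ 0 := right_ne_zero_of_mul ha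
  set S := R ⧸ Ideal.span {q * r} with hS
  have h0 : Submodule.span R {q} ≤ LinearMap.ker
      (LinearMap.toSpanSingleton R S (Ideal.Quotient.mk (Ideal.span {q * r}) r)) := by
    rw [Submodule.span_le, Set.singleton_subset_iff]
    change LinearMap.toSpanSingleton R S _ q = 0
    rw [LinearMap.toSpanSingleton_apply]
    change Ideal.Quotient.mk _ (q • r) = 0
    rw [Ideal.Quotient.eq_zero_iff_mem, smul_eq_mul]
    exact Ideal.mem_span_singleton_self _
  set φ₀ : (R ⧸ (Submodule.span R {q})) →ₗ[R] S := (Submodule.span R {q}).liftQ _ h0 with hφ₀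
  have hφ₀1 : ∀ z : R, φ₀ (Submodule.Quotient.mk z) = Ideal.Quotient.mk (Ideal.span {q * r}) (z * r) := by
    intro z
    rw [hφ₀, Submodule.liftQ_apply, LinearMap.toSpanSingleton_apply]
    rfl
  have h1 : Submodule.span R {q} ≤ LinearMap.ker
      (LinearMap.toSpanSingleton R ((R ⧸ (Submodule.span R {q})) →ₗ[R] S) φ₀) := by
    rw [Submodule.span_le, Set.singleton_subset_iff]
    change LinearMap.toSpanSingleton R _ _ q = 0
    rw [LinearMap.toSpanSingleton_apply]
    apply Submodule.linearMap_qext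
    apply LinearMap.ext_ring
    simp only [LinearMap.coe_comp, Function.comp_apply, Submodule.mkQ_apply, LinearMap.smul_apply,
      LinearMap.zero_apply, hφ₀1]
    change Ideal.Quotient.mk _ (q • (1 * r)) = 0
    rw [Ideal.Quotient.eq_zero_iff_mem, smul_eq_mul, one_mul]
    exact Ideal.mem_span_singleton_self _
  set Φ := (Submodule.span R {q}).liftQ _ h1 with hΦ
  have hinj : Function.Injective Φ := by
    rw [← LinearMap.ker_eq_bot, hΦ]
    apply Submodule.ker_liftQ_eq_bot
    intro z hz
    rw [LinearMap.mem_ker, LinearMap.toSpanSingleton_apply] at hz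
    have h2 := LinearMap.congr_fun hz (Submodule.Quotient.mk 1)
    rw [LinearMap.smul_apply, hφ₀1, LinearMap.zero_apply, one_mul] at h2
    change Ideal.Quotient.mk _ (z • r) = 0 at h2
    rw [Ideal.Quotient.eq_zero_iff_mem, Ideal.mem_span_singleton, smul_eq_mul] at h2
    obtain ⟨c, hc⟩ := h2
    rw [Submodule.mem_span_singleton]
    refine ⟨c, ?_⟩
    apply mul_right_cancel₀ hr
    rw [hc, smul_eq_mul]; ring
  have hsurj : Function.Surjective Φ := by
    intro f
    obtain ⟨y, hy⟩ := Ideal.Quotient.mk_surjective (f (Submodule.Quotient.mk 1))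
    have h3 : q • (Submodule.Quotient.mk 1 : R ⧸ (Submodule.span R {q})) = 0 := by
      rw [← Submodule.Quotient.mk_smul, Submodule.Quotient.mk_eq_zero, smul_eq_mul, mul_one]
      exact Submodule.mem_span_singleton_self _
    have h4 : q • f (Submodule.Quotient.mk 1) = 0 := by rw [← map_smul, h3, map_zero]
    rw [← hy] at h4
    change Ideal.Quotient.mk _ (q • y) = 0 at h4
    rw [Ideal.Quotient.eq_zero_iff_mem, Ideal.mem_span_singleton, smul_eq_mul] at h4
    obtain ⟨c, hc⟩ := h4
    have hy' : y = r * c := by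
      apply mul_left_cancel₀ hq
      rw [hc]; ring
    refine ⟨Submodule.Quotient.mk c, ?_⟩
    rw [hΦ, Submodule.liftQ_apply, LinearMap.toSpanSingleton_apply]
    apply Submodule.linearMap_qext
    apply LinearMap.ext_ring
    simp only [LinearMap.coe_comp, Function.comp_apply, Submodule.mkQ_apply, LinearMap.smul_apply,
      hφ₀1, ← hy, hy']
    change Ideal.Quotient.mk _ (c • (1 * r)) = _
    rw [smul_eq_mul, one_mul, mul_comm c r]
  exact ⟨(LinearEquiv.ofBijective Φ ⟨hinj, hsurj⟩).symm⟩

theorem dual_iso (R : Type u) [CommRing R] [IsDomain R] [IsPrincipalIdealRing R] (a : R) (ha : a ≠ 0)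
    (M : Type v) [AddCommGroup M] [Module R M] [Module.Finite R M] (hM : ∀ m : M, a • m = 0) :
    Nonempty ((M →ₗ[R] (R ⧸ Ideal.span {a})) ≃ₗ[R] M) := by
  classical
  have htors : Module.IsTorsion R M := by
    intro x
    exact ⟨⟨a, mem_nonZeroDivisors_of_ne_zero ha⟩, hM x⟩
  obtain ⟨ι, _, p, hp, e, ⟨ε⟩⟩ := Module.equiv_directSum_of_isTorsion htors
  have hdvd : ∀ i, p i ^ e i ∣ a := by
    intro i
    have h1 := hM (ε.symm (DirectSum.of (fun i => R ⧸ Submodule.span R {p i ^ e i}) i
      (Submodule.Quotient.mk 1)))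
    rw [← map_smul, LinearEquiv.map_eq_zero_iff] at h1
    have h2 : DirectSum.of (fun i => R ⧸ Submodule.span R {p i ^ e i}) i
        (a • Submodule.Quotient.mk 1) = 0 := by
      rw [← h1]
      exact (DirectSum.lof R ι (fun i => R ⧸ Submodule.span R {p i ^ e i}) i).map_smul a _
    have h3 := DirectSum.of_injective (β := fun i => R ⧸ Submodule.span R {p i ^ e i}) i
      (h2.trans (map_zero _).symm)
    rw [← Submodule.Quotient.mk_smul, Submodule.Quotient.mk_eq_zero, smul_eq_mul, mul_one,
      Submodule.mem_span_singleton] at h3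
    obtain ⟨c, hc⟩ := h3
    exact ⟨c, by rw [← hc, smul_eq_mul, mul_comm]⟩
  have hiso : ∀ i, Nonempty (((R ⧸ (Submodule.span R {p i ^ e i})) →ₗ[R] (R ⧸ Ideal.span {a})) ≃ₗ[R]
      (R ⧸ (Submodule.span R {p i ^ e i}))) := by
    intro i
    obtain ⟨r, hr⟩ := hdvd i
    exact homQuot R a _ r hr ha
  have ε' : M ≃ₗ[R] (∀ i, R ⧸ Submodule.span R {p i ^ e i}) :=
    ε.trans (DirectSum.linearEquivFunOnFintype R ι _)
  have e1 : (M →ₗ[R] (R ⧸ Ideal.span {a})) ≃ₗ[R]
      ((∀ i, R ⧸ Submodule.span R {p i ^ e i}) →ₗ[R] (R ⧸ Ideal.span {a})) :=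
    LinearEquiv.congrLeft (R ⧸ Ideal.span {a}) R ε'
  have e2 : ((∀ i, R ⧸ Submodule.span R {p i ^ e i}) →ₗ[R] (R ⧸ Ideal.span {a})) ≃ₗ[R]
      (∀ i, (R ⧸ Submodule.span R {p i ^ e i}) →ₗ[R] (R ⧸ Ideal.span {a})) :=
    (LinearMap.lsum R (fun i => R ⧸ Submodule.span R {p i ^ e i}) R).symm
  have e3 : (∀ i, (R ⧸ Submodule.span R {p i ^ e i}) →ₗ[R] (R ⧸ Ideal.span {a})) ≃ₗ[R]
      (∀ i, R ⧸ Submodule.span R {p i ^ e i}) :=
    LinearEquiv.piCongrRight (fun i => (hiso i).some)
  exact ⟨e1 ≪≫ₗ e2 ≪≫ₗ e3 ≪≫ₗ ε'.symm⟩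



end helpers

/-- Let R be a discrete valuation ring with uniformizer π and residue field k, n ≥ 0, and M₀ a finitely
generated module over R/πⁿR, viewed as an R-module killed by πⁿ; put M₀* = Hom_R(M₀, R/πⁿR). Then
dim_k(M₀*/πM₀*) = dim_k(M₀/πM₀). The published lemma is stated for a finitely presented module over
the quotient of the ring of integers of an algebraic closure of K by the elements of valuation ≥ t,
with its dual into that quotient ring, and the published proof reduces it by descent to exactly this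
statement over the valuation ring of a finite extension of K; the row states that step. -/
theorem result
    (R : Type u) [CommRing R] [IsDomain R] [IsDiscreteValuationRing R] (ϖ : R) (hϖ : Irreducible ϖ) (n : ℕ)
    (M : Type v) [AddCommGroup M] [Module R M] [Module.Finite R M] (hM : ∀ m : M, ϖ ^ n • m = 0) :
    Module.finrank (IsLocalRing.ResidueField R)
        (IsLocalRing.ResidueField R ⊗[R] (M →ₗ[R] (R ⧸ Ideal.span {ϖ ^ n}))) =
      Module.finrank (IsLocalRing.ResidueField R) (IsLocalRing.ResidueField R ⊗[R] M) := by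
  obtain ⟨ε⟩ := dual_iso R (ϖ ^ n) (pow_ne_zero _ hϖ.ne_zero) M hM
  exact LinearEquiv.finrank_eq (LinearEquiv.baseChange R (IsLocalRing.ResidueField R) _ _ ε)

end Groth.Agent.S15367
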