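import Groth.Statements.S1537
import Mathlib
import Groth.Agent.S1559
import Groth.Agent.S2502

set_option autoImplicit false
universe u
open CategoryTheory CategoryTheory.Limits AlgebraicGeometry
open Variety

namespace Groth.Agent.S1537

section Aux
open CategoryTheory CategoryTheory.Limits AlgebraicGeometry TensorProduct Polynomial Algebra.TensorProduct

/-- If `k` is algebraically closed in `L`, a monic irreducible polynomial over `k` stays irreducible
over `L`. -/
theorem irreducible_map {k L : Type u} [Field k] [Field L] [Algebra k L]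
    (hL : ∀ a : L, IsIntegral k a → a ∈ (algebraMap k L).range)
    {f : k[X]} (hf : f.Monic) (hirr : Irreducible f) :
    Irreducible (f.map (algebraMap k L)) := by
  have hlift : ∀ g : L[X], g.Monic → g ∣ f.map (algebraMap k L) →
      ∃ g₀ : k[X], g₀.map (algebraMap k L) = g := by
    intro g hg hd
    have h1 := integralClosure.mem_lifts_of_monic_of_dvd_map L hf hg hd
    rw [lifts_iff_coeff_lifts] at h1
    have h2 : g ∈ lifts (algebraMap k L) := by
      rw [lifts_iff_coeff_lifts]
      intro n
      obtain ⟨c, hc⟩ := h1 n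
      have : IsIntegral k (c : L) := c.2
      have h3 := hL c this
      rw [← hc]
      exact h3
    exact h2
  rw [Monic.irreducible_iff_natDegree (hf.map _)]
  refine ⟨fun h => ?_, ?_⟩
  · have : f = 1 := by
      apply Polynomial.map_injective (algebraMap k L) (algebraMap k L).injective
      rw [h, Polynomial.map_one]
    exact hirr.not_isUnit (this ▸ isUnit_one)
  · intro g h hg hh hgh
    obtain ⟨g₀, rfl⟩ := hlift g hg ⟨h, hgh.symm⟩
    obtain ⟨h₀, rfl⟩ := hlift h hh ⟨g₀.map (algebraMap k L), by rw [← hgh, mul_comm]⟩
    have hinj := Polynomial.map_injective (algebraMap k L) (algebraMap k L).injective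
    have hfe : f = g₀ * h₀ := hinj (by rw [Polynomial.map_mul, hgh])
    rcases hirr.isUnit_or_isUnit hfe with hu | hu
    · left
      rw [natDegree_map]
      exact natDegree_eq_zero_of_isUnit hu
    · right
      rw [natDegree_map]
      exact natDegree_eq_zero_of_isUnit hu



theorem isDomain_adjoinRoot_of_equiv {T L : Type u} [CommRing T] [Field L] (ρ : T ≃+* L) (q : T[X])
    (h : Irreducible (q.map (ρ : T →+* L))) : IsDomain (AdjoinRoot q) := by
  have hprime : Prime q := by
    rw [← MulEquiv.prime_iff (Polynomial.mapEquiv ρ).toMulEquiv]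
    show Prime (Polynomial.mapEquiv ρ q)
    rw [Polynomial.mapEquiv_apply]
    exact h.prime
  have hq0 : q ≠ 0 := hprime.ne_zero
  haveI : (Ideal.span {q}).IsPrime := (Ideal.span_singleton_prime hq0).2 hprime
  show IsDomain (T[X] ⧸ Ideal.span {q})
  infer_instance

theorem isDomain_tensor_adjoinRoot {k L : Type u} [Field k] [Field L] [Algebra k L]
    {f : k[X]} (hirr : Irreducible (f.map (algebraMap k L))) :
    IsDomain (L ⊗[k] AdjoinRoot f) := by
  let e := AdjoinRoot.tensorAlgEquiv (R := k) (S := k) (T := L) f _ rfl
  let ρ : L ⊗[k] k ≃+* L := (Algebra.TensorProduct.rid k L L).toRingEquiv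
  haveI := isDomain_adjoinRoot_of_equiv ρ (f.map (includeRight : k →ₐ[k] L ⊗[k] k).toRingHom) (by
    rw [Polynomial.map_map]
    convert hirr using 2
    ext a
    simp [ρ, Algebra.algebraMap_eq_smul_one])
  exact e.toMulEquiv.isDomain



theorem isDomain_tensor_finite {k L : Type u} [Field k] [Field L] [Algebra k L]
    (hL : ∀ a : L, IsIntegral k a → a ∈ (algebraMap k L).range)
    (F : Type u) [Field F] [Algebra k F] [FiniteDimensional k F] [Algebra.IsSeparable k F] :
    IsDomain (L ⊗[k] F) := by
  let pb := Field.powerBasisOfFiniteOfSeparable k F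
  set f := minpoly k pb.gen with hf
  have hmonic : f.Monic := minpoly.monic (pb.isIntegral_gen)
  have hirr : Irreducible f := minpoly.irreducible (pb.isIntegral_gen)
  have hf0 : f ≠ 0 := hmonic.ne_zero
  let e₁ : AdjoinRoot f ≃ₐ[k] F :=
    PowerBasis.equivOfMinpoly (AdjoinRoot.powerBasis hf0) pb
      (by rw [AdjoinRoot.minpoly_powerBasis_gen_of_monic hmonic hf0])
  haveI := isDomain_tensor_adjoinRoot (irreducible_map hL hmonic hirr)
  let e₂ : L ⊗[k] AdjoinRoot f ≃ₐ[L] L ⊗[k] F :=
    Algebra.TensorProduct.congr AlgEquiv.refl e₁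
  exact e₂.symm.toMulEquiv.isDomain



theorem isDomain_tensor_separable {k L : Type u} [Field k] [Field L] [Algebra k L]
    (hL : ∀ a : L, IsIntegral k a → a ∈ (algebraMap k L).range)
    (K' : Type u) [Field K'] [Algebra k K'] [Algebra.IsSeparable k K'] :
    IsDomain (L ⊗[k] K') := by
  haveI : Algebra.IsAlgebraic k K' := inferInstance
  haveI : Algebra.IsIntegral k K' := inferInstance
  have key : ∀ a b : L ⊗[k] K', a * b = 0 → a = 0 ∨ b = 0 := by
    intro a b hab
    obtain ⟨N', hfin, hN'⟩ := TensorProduct.exists_finite_submodule_right_of_setFinite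
      ({a, b} : Set (L ⊗[k] K')) (Set.toFinite _)
    obtain ⟨S, hS⟩ := (Module.Finite.iff_fg.1 hfin)
    let F : IntermediateField k K' := IntermediateField.adjoin k (S : Set K')
    haveI : FiniteDimensional k F :=
      IntermediateField.finiteDimensional_adjoin (fun x _ => Algebra.IsIntegral.isIntegral x)
    have hle : N' ≤ F.toSubalgebra.toSubmodule := by
      rw [← hS, Submodule.span_le]
      intro x hx
      exact IntermediateField.subset_adjoin k _ hx
    let φ := Algebra.TensorProduct.map (AlgHom.id k L) F.val
    have hφinj : Function.Injective φ :=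
      Module.Flat.lTensor_preserves_injective_linearMap (M := L) F.val.toLinearMap F.val.injective
    have hcomp : ∀ c₀ : L ⊗[k] N', φ (LinearMap.lTensor L (Submodule.inclusion hle) c₀) =
        LinearMap.lTensor L N'.subtype c₀ := by
      intro c₀
      induction c₀ using TensorProduct.induction_on with
      | zero => simp
      | tmul l n => simp [φ]
      | add x y hx hy => simp only [map_add, hx, hy]
    have hrange : ∀ c ∈ ({a, b} : Set (L ⊗[k] K')), ∃ c' : L ⊗[k] F, φ c' = c := by
      intro c hc
      obtain ⟨c₀, rfl⟩ := hN' hc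
      exact ⟨_, hcomp c₀⟩
    obtain ⟨a', rfl⟩ := hrange a (by simp)
    obtain ⟨b', rfl⟩ := hrange b (by simp)
    have hdom : IsDomain (L ⊗[k] F) := isDomain_tensor_finite hL F
    have h0 : a' * b' = 0 := hφinj (by rw [map_mul, hab, map_zero])
    rcases (@IsDomain.to_noZeroDivisors _ _ hdom).eq_zero_or_eq_zero_of_mul_eq_zero h0 with h | h
    · left; rw [h, map_zero]
    · right; rw [h, map_zero]
  haveI : NoZeroDivisors (L ⊗[k] K') := ⟨fun {a b} h => key a b h⟩
  exact NoZeroDivisors.to_isDomain _


theorem fromSpecResidueField_comp (k : Type u) [Field k] (X : Scheme.{u})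
    [X.Over (Spec (CommRingCat.of k))] (x : X) :
    X.fromSpecResidueField x ≫ (X ↘ Spec (CommRingCat.of k)) =
      Spec.map (CommRingCat.ofHom (Curv2.resMap k X x)) := by
  apply ext_to_Spec
  have h1 : (X.fromSpecResidueField x).appTop =
      X.presheaf.germ ⊤ x trivial ≫ X.residue x ≫ (Scheme.ΓSpecIso (X.residueField x)).inv := by
    rw [Scheme.fromSpecResidueField, Scheme.Hom.comp_appTop, Scheme.fromSpecStalk_appTop,
      Scheme.ΓSpecIso_inv_naturality]
    simp
  simp only [Scheme.Γ_map, Quiver.Hom.unop_op, Scheme.Hom.comp_appTop, h1]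
  have h2 := Scheme.ΓSpecIso_inv_naturality (CommRingCat.ofHom (Curv2.resMap k X x))
  refine Eq.trans ?_ h2
  have h3 : CommRingCat.ofHom (Curv2.resMap k X x) =
      (Scheme.ΓSpecIso (CommRingCat.of k)).inv ≫ (X ↘ Spec (CommRingCat.of k)).appTop ≫
        X.presheaf.germ ⊤ x trivial ≫ X.residue x := by
    ext a
    simp [Curv2.resMap, Curv2.stalkMap, Coh.toGlobal]
  rw [h3]
  simp only [Category.assoc]
  rfl


theorem geomConn_spec_of_algClosedIn {k L : Type u} [Field k] [Field L] [Algebra k L]
    (hL : ∀ a : L, IsIntegral k a → a ∈ (algebraMap k L).range) :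
    GeometricallyConnected (Spec.map (CommRingCat.ofHom (algebraMap k L))) := by
  letI : (Spec (CommRingCat.of L)).Over (Spec (CommRingCat.of k)) :=
    ⟨Spec.map (CommRingCat.ofHom (algebraMap k L))⟩
  haveI : ConnectedSpace (Curv2.bc k (Spec (CommRingCat.of L)) (SeparableClosure k)) := by
    haveI := isDomain_tensor_separable hL (SeparableClosure k)
    have e := pullbackSpecIso k L (SeparableClosure k)
    haveI : IrreducibleSpace (Spec (CommRingCat.of (L ⊗[k] SeparableClosure k))) := inferInstance
    haveI : ConnectedSpace (Spec (CommRingCat.of (L ⊗[k] SeparableClosure k))) := inferInstance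
    exact e.inv.surjective.connectedSpace e.inv.continuous
  exact Groth.Agent.S1559.main k (Spec (CommRingCat.of L))

theorem main (k : Type u) [Field k] (X : Scheme.{u}) [X.Over (Spec (CommRingCat.of k))] [ConnectedSpace X]
    (x : X) (hx : ∀ a : X.residueField x, (Curv2.resMap k X x).IsIntegralElem a → a ∈ (Curv2.resMap k X x).range) :
    GeometricallyConnected (X ↘ (Spec (CommRingCat.of k))) := by
  letI : Algebra k (X.residueField x) := (Curv2.resMap k X x).toAlgebra
  have hL : ∀ a : X.residueField x, IsIntegral k a → a ∈ (algebraMap k (X.residueField x)).range :=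
    fun a ha => hx a ha
  haveI : GeometricallyConnected (X.fromSpecResidueField x ≫ (X ↘ Spec (CommRingCat.of k))) := by
    rw [fromSpecResidueField_comp]
    exact geomConn_spec_of_algClosedIn hL
  exact Groth.Agent.S2502.result (X.fromSpecResidueField x) (X ↘ Spec (CommRingCat.of k))

end Aux

/-- A connected k-scheme is geometrically connected as soon as it has a point whose residue field
contains no element integral over k other than the elements of k. -/
theorem result (k : Type u) [Field k] (X : Scheme.{u}) [X.Over (Spec (CommRingCat.of k))] [ConnectedSpace X]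
    (x : X) (hx : ∀ a : X.residueField x, (Curv2.resMap k X x).IsIntegralElem a → a ∈ (Curv2.resMap k X x).range) :
    GeometricallyConnected (X ↘ (Spec (CommRingCat.of k))) := by
  exact main k X x hx

end Groth.Agent.S1537
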