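import Groth.Statements.S4619
import Mathlib
import Groth.Agent.S1537

set_option autoImplicit false
open CategoryTheory AlgebraicGeometry
universe u
open FBase

namespace Groth.Agent.S4619

section Aux
open CategoryTheory CategoryTheory.Limits AlgebraicGeometry TensorProduct Polynomial Algebra.TensorProduct

/-- Monic divisors over `L` of a separable monic polynomial over `k` have coefficients separable
over `k`. -/
theorem coeff_isSeparable {k L : Type u} [Field k] [Field L] [Algebra k L]
    {f : k[X]} (hf : f.Monic) (hsep : f.Separable) {g : L[X]} (hg : g.Monic)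
    (hd : g ∣ f.map (algebraMap k L)) (n : ℕ) : IsSeparable k (g.coeff n) := by
  have h1 := (SplittingField.splits g).mem_lift_of_roots_mem_range (hg.map _)
    (algebraMap (separableClosure k g.SplittingField) g.SplittingField) (fun a ha => by
      suffices hmem : a ∈ separableClosure k g.SplittingField from ⟨⟨a, hmem⟩, rfl⟩
      rw [mem_separableClosure_iff]
      have hroot : aeval a f = 0 := by
        have h2 : (f.map (algebraMap k L)).map (algebraMap L g.SplittingField) =
            f.map (algebraMap k g.SplittingField) := by
          rw [Polynomial.map_map, ← IsScalarTower.algebraMap_eq]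
        have h3 : g.map (algebraMap L g.SplittingField) ∣ f.map (algebraMap k g.SplittingField) := by
          rw [← h2]; exact Polynomial.map_dvd _ hd
        have h4 : (f.map (algebraMap k g.SplittingField)).IsRoot a := by
          obtain ⟨q, hq⟩ := h3
          rw [hq]
          have h5 := (Polynomial.mem_roots ((hg.map _).ne_zero)).1 ha
          rw [IsRoot, eval_mul, h5.eq_zero, zero_mul]
        rw [IsRoot, Polynomial.eval_map, ← Polynomial.aeval_def] at h4
        exact h4
      exact hsep.of_dvd (minpoly.dvd k a hroot))
  rw [lifts_iff_coeff_lifts] at h1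
  obtain ⟨c, hc⟩ := h1 n
  rw [coeff_map] at hc
  have hcs : IsSeparable k (c : g.SplittingField) := (mem_separableClosure_iff).1 c.2
  have : IsSeparable k (algebraMap L g.SplittingField (g.coeff n)) := by
    rw [← hc]; exact hcs
  unfold IsSeparable at this ⊢
  rwa [minpoly.algebraMap_eq (algebraMap L g.SplittingField).injective] at this

/-- If `k` is separably closed in `L`, a separable monic irreducible polynomial over `k` stays
irreducible over `L`. -/
theorem irreducible_map_sep {k L : Type u} [Field k] [Field L] [Algebra k L]
    (hL : separableClosure k L = ⊥)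
    {f : k[X]} (hf : f.Monic) (hirr : Irreducible f) (hsep : f.Separable) :
    Irreducible (f.map (algebraMap k L)) := by
  have hlift : ∀ g : L[X], g.Monic → g ∣ f.map (algebraMap k L) →
      ∃ g₀ : k[X], g₀.map (algebraMap k L) = g := by
    intro g hg hd
    have h2 : g ∈ lifts (algebraMap k L) := by
      rw [lifts_iff_coeff_lifts]
      intro n
      have h3 : g.coeff n ∈ separableClosure k L :=
        mem_separableClosure_iff.2 (coeff_isSeparable hf hsep hg hd n)
      rw [hL, IntermediateField.mem_bot] at h3
      exact h3
    exact h2
  rw [Monic.irreducible_iff_natDegree (hf.map _)]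
  refine ⟨fun h => ?_, ?_⟩
  · have : f = 1 := by
      apply Polynomial.map_injective (algebraMap k L) (algebraMap k L).injective
      rw [h, Polynomial.map_one]
    exact hirr.not_isUnit (this ▸ isUnit_one)
  · intro g h hg hh hgh
    obtain ⟨g₀, rfl⟩ := hlift g hg ⟨h, hgh.symm⟩
    obtain ⟨h₀, rfl⟩ := hlift h hh ⟨g₀.map (algebraMap k L), by rw [← hgh, mul_comm]⟩
    have hinj := Polynomial.map_injective (algebraMap k L) (algebraMap k L).injective
    have hfe : f = g₀ * h₀ := hinj (by rw [Polynomial.map_mul, hgh])
    rcases hirr.isUnit_or_isUnit hfe with hu | hu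
    · left
      rw [natDegree_map]
      exact natDegree_eq_zero_of_isUnit hu
    · right
      rw [natDegree_map]
      exact natDegree_eq_zero_of_isUnit hu

theorem isDomain_tensor_finite {k L : Type u} [Field k] [Field L] [Algebra k L]
    (hL : separableClosure k L = ⊥)
    (F : Type u) [Field F] [Algebra k F] [FiniteDimensional k F] [Algebra.IsSeparable k F] :
    IsDomain (L ⊗[k] F) := by
  let pb := Field.powerBasisOfFiniteOfSeparable k F
  set f := minpoly k pb.gen with hf
  have hmonic : f.Monic := minpoly.monic (pb.isIntegral_gen)
  have hirr : Irreducible f := minpoly.irreducible (pb.isIntegral_gen)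
  have hsep : f.Separable := Algebra.IsSeparable.isSeparable k pb.gen
  have hf0 : f ≠ 0 := hmonic.ne_zero
  let e₁ : AdjoinRoot f ≃ₐ[k] F :=
    PowerBasis.equivOfMinpoly (AdjoinRoot.powerBasis hf0) pb
      (by rw [AdjoinRoot.minpoly_powerBasis_gen_of_monic hmonic hf0])
  haveI := Groth.Agent.S1537.isDomain_tensor_adjoinRoot (irreducible_map_sep hL hmonic hirr hsep)
  let e₂ : L ⊗[k] AdjoinRoot f ≃ₐ[L] L ⊗[k] F :=
    Algebra.TensorProduct.congr AlgEquiv.refl e₁
  exact e₂.symm.toMulEquiv.isDomain

theorem isDomain_tensor_separable {k L : Type u} [Field k] [Field L] [Algebra k L]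
    (hL : separableClosure k L = ⊥)
    (K' : Type u) [Field K'] [Algebra k K'] [Algebra.IsSeparable k K'] :
    IsDomain (L ⊗[k] K') := by
  haveI : Algebra.IsAlgebraic k K' := inferInstance
  haveI : Algebra.IsIntegral k K' := inferInstance
  have key : ∀ a b : L ⊗[k] K', a * b = 0 → a = 0 ∨ b = 0 := by
    intro a b hab
    obtain ⟨N', hfin, hN'⟩ := TensorProduct.exists_finite_submodule_right_of_setFinite
      ({a, b} : Set (L ⊗[k] K')) (Set.toFinite _)
    obtain ⟨S, hS⟩ := (Module.Finite.iff_fg.1 hfin)
    let F : IntermediateField k K' := IntermediateField.adjoin k (S : Set K')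
    haveI : FiniteDimensional k F :=
      IntermediateField.finiteDimensional_adjoin (fun x _ => Algebra.IsIntegral.isIntegral x)
    have hle : N' ≤ F.toSubalgebra.toSubmodule := by
      rw [← hS, Submodule.span_le]
      intro x hx
      exact IntermediateField.subset_adjoin k _ hx
    let φ := Algebra.TensorProduct.map (AlgHom.id k L) F.val
    have hφinj : Function.Injective φ :=
      Module.Flat.lTensor_preserves_injective_linearMap (M := L) F.val.toLinearMap F.val.injective
    have hcomp : ∀ c₀ : L ⊗[k] N', φ (LinearMap.lTensor L (Submodule.inclusion hle) c₀) =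
        LinearMap.lTensor L N'.subtype c₀ := by
      intro c₀
      induction c₀ using TensorProduct.induction_on with
      | zero => simp
      | tmul l n => simp [φ]
      | add x y hx hy => simp only [map_add, hx, hy]
    have hrange : ∀ c ∈ ({a, b} : Set (L ⊗[k] K')), ∃ c' : L ⊗[k] F, φ c' = c := by
      intro c hc
      obtain ⟨c₀, rfl⟩ := hN' hc
      exact ⟨_, hcomp c₀⟩
    obtain ⟨a', rfl⟩ := hrange a (by simp)
    obtain ⟨b', rfl⟩ := hrange b (by simp)
    have hdom : IsDomain (L ⊗[k] F) := isDomain_tensor_finite hL F
    have h0 : a' * b' = 0 := hφinj (by rw [map_mul, hab, map_zero])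
    rcases (@IsDomain.to_noZeroDivisors _ _ hdom).eq_zero_or_eq_zero_of_mul_eq_zero h0 with h | h
    · left; rw [h, map_zero]
    · right; rw [h, map_zero]
  haveI : NoZeroDivisors (L ⊗[k] K') := ⟨fun {a b} h => key a b h⟩
  exact NoZeroDivisors.to_isDomain _

theorem geomConn_spec_of_sepClosedIn {k L : Type u} [Field k] [Field L] [Algebra k L]
    (hL : separableClosure k L = ⊥) :
    GeometricallyConnected (Spec.map (CommRingCat.ofHom (algebraMap k L))) := by
  letI : (Spec (CommRingCat.of L)).Over (Spec (CommRingCat.of k)) :=
    ⟨Spec.map (CommRingCat.ofHom (algebraMap k L))⟩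
  haveI : ConnectedSpace (Curv2.bc k (Spec (CommRingCat.of L)) (SeparableClosure k)) := by
    haveI := isDomain_tensor_separable hL (SeparableClosure k)
    have e := pullbackSpecIso k L (SeparableClosure k)
    haveI : IrreducibleSpace (Spec (CommRingCat.of (L ⊗[k] SeparableClosure k))) := inferInstance
    haveI : ConnectedSpace (Spec (CommRingCat.of (L ⊗[k] SeparableClosure k))) := inferInstance
    exact e.inv.surjective.connectedSpace e.inv.continuous
  exact Groth.Agent.S1559.main k (Spec (CommRingCat.of L))

theorem main {k : Type u} [Field k] {X : Scheme.{u}}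
    [ConnectedSpace X] (f : X ⟶ Spec (CommRingCat.of k)) (x : X)
    (hx : FBase.ResidueFieldProp f x (fun K _ _ => separableClosure k K = ⊥)) :
    GeometricallyConnected f := by
  obtain ⟨φ, hφ, hP⟩ := hx
  letI : Algebra k (X.residueField x) := φ.toAlgebra
  haveI : GeometricallyConnected (X.fromSpecResidueField x ≫ f) := by
    rw [← hφ]
    exact geomConn_spec_of_sepClosedIn hP
  exact Groth.Agent.S2502.result (X.fromSpecResidueField x) f

end Aux

/-- For a connected scheme: let X be a connected scheme over a field k and x a point of X whose residue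
field κ(x) is a primary extension of k, i.e. the separable algebraic closure of k in κ(x) is k
itself (this holds in particular when x is a k-rational point). Then X is geometrically connected
over k. (The published statement concerns the connected component of x in an arbitrary scheme over
k; this row takes X connected.) -/
theorem result {k : Type u} [Field k] {X : Scheme.{u}}
    [ConnectedSpace X] (f : X ⟶ Spec (CommRingCat.of k)) (x : X)
    (hx : FBase.ResidueFieldProp f x (fun K _ _ => separableClosure k K = ⊥)) :
    GeometricallyConnected f := by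
  exact main f x hx

end Groth.Agent.S4619
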