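import Groth.Statements.S7594
import Mathlib
import Groth.Agent.S1540

set_option autoImplicit false
universe u
open CategoryTheory CategoryTheory.Limits AlgebraicGeometry
open Variety

namespace Groth.Agent.S7594

section Aux
open CategoryTheory CategoryTheory.Limits AlgebraicGeometry TensorProduct Polynomial

section
variable {k : Type u} [Field k] {X : Scheme.{u}} [IrreducibleSpace X]
  (f : X ⟶ Spec (CommRingCat.of k)) {B : Scheme.{u}} (b : B ⟶ Spec (CommRingCat.of k))

/-- If `X ×_k B` is irreducible and `B → Spec k` is surjective, the base change of the generic point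
of `X` to `B` is irreducible. -/
theorem irreducible_generic_of_irreducible [Surjective b] [IrreducibleSpace ↥(pullback f b)] :
    IrreducibleSpace ↥(pullback (X.fromSpecResidueField (genericPoint X) ≫ f) b) := by
  set i := X.fromSpecResidueField (genericPoint X) with hi
  let g : pullback (i ≫ f) b ⟶ pullback f b :=
    pullback.lift (pullback.fst (i ≫ f) b ≫ i) (pullback.snd (i ≫ f) b)
      (by rw [Category.assoc, pullback.condition])
  have hpb : IsPullback g (pullback.fst (i ≫ f) b) (pullback.fst f b) i := by
    refine IsPullback.of_right (h₁₂ := pullback.snd f b) (h₂₂ := f) (v₁₃ := b) ?_ ?_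
      (IsPullback.of_hasPullback f b).flip
    · have : g ≫ pullback.snd f b = pullback.snd (i ≫ f) b := pullback.lift_snd _ _ _
      rw [this]
      exact (IsPullback.of_hasPullback (i ≫ f) b).flip
    · exact pullback.lift_fst _ _ _
  haveI hgi : IsPreimmersion g :=
    MorphismProperty.of_isPullback (P := @IsPreimmersion) hpb.flip inferInstance
  set p := pullback.fst f b with hp
  have hg : Set.range g = p ⁻¹' {genericPoint X} := by
    rw [← Scheme.range_fromSpecResidueField]
    ext w
    constructor
    · rintro ⟨y, rfl⟩
      refine ⟨pullback.fst (i ≫ f) b y, ?_⟩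
      rw [← Scheme.Hom.comp_apply, ← Scheme.Hom.comp_apply, hpb.w]
    · rintro ⟨z, hz⟩
      obtain ⟨y, hy1, -⟩ := AlgebraicGeometry.Scheme.exists_preimage_of_isPullback hpb w z hz.symm
      exact ⟨y, hy1⟩
  set η := genericPoint ↥(pullback f b) with hη
  have hηc : closure ({η} : Set ↥(pullback f b)) = Set.univ := (genericPoint_spec _).def
  have hpη : p η = genericPoint X := by
    have h1 : IsGenericPoint (p η) (⊤ : Set X) := by
      show closure {p η} = Set.univ
      apply Set.eq_univ_of_univ_subset
      intro x _
      obtain ⟨y, rfl⟩ := p.surjective x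
      have : y ∈ closure ({η} : Set ↥(pullback f b)) := hηc ▸ trivial
      have h2 := image_closure_subset_closure_image p.continuous ⟨y, this, rfl⟩
      rwa [Set.image_singleton] at h2
    exact h1.eq (genericPoint_spec X)
  have hηmem : η ∈ Set.range g := by rw [hg]; exact hpη
  have hirr : IsIrreducible (Set.range g) := by
    have hsub : Set.range g ⊆ closure ({η} : Set ↥(pullback f b)) := hηc ▸ Set.subset_univ _
    have hcl : closure (Set.range g) = closure ({η} : Set ↥(pullback f b)) :=
      subset_antisymm (closure_minimal hsub isClosed_closure)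
        (closure_mono (Set.singleton_subset_iff.2 hηmem))
    refine ⟨⟨η, hηmem⟩, ?_⟩
    rw [← isPreirreducible_iff_closure, hcl, isPreirreducible_iff_closure]
    exact isIrreducible_singleton.isPreirreducible
  haveI : IrreducibleSpace ↥(Set.range g) := Subtype.irreducibleSpace hirr
  let e := g.isEmbedding.toHomeomorph
  exact Groth.Agent.S7590.irreducibleSpace_of_surj e.symm e.symm.continuous e.symm.surjective

end

theorem mem_range_of_nilradical_prime' {k L : Type u} [Field k] [Field L] [Algebra k L] (a : L)
    (hsep : IsSeparable k a)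
    (hP : (nilradical (L ⊗[k] AdjoinRoot (minpoly k a))).IsPrime) :
    a ∈ (algebraMap k L).range := by
  have hint : IsIntegral k a := hsep.isIntegral
  set m := minpoly k a with hm
  have hirr : Irreducible m := minpoly.irreducible hint
  haveI : Fact (Irreducible m) := ⟨hirr⟩
  set R := L ⊗[k] AdjoinRoot m with hR
  set θ : R := (1 : L) ⊗ₜ[k] AdjoinRoot.root m with hθ
  set g := m.map (algebraMap k L) with hg
  have hroot : g.IsRoot a := by
    rw [Polynomial.IsRoot, hg, Polynomial.eval_map, ← Polynomial.aeval_def]; exact minpoly.aeval k a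
  obtain ⟨h, hgh⟩ := dvd_iff_isRoot.2 hroot
  have hsepg : g.Separable := Separable.map hsep
  have hg0 : g ≠ 0 := hsepg.ne_zero
  have hh0 : h ≠ 0 := by rintro rfl; rw [mul_zero] at hgh; exact hg0 hgh
  have hha : h.eval a ≠ 0 := by
    intro h0
    obtain ⟨h', hh'⟩ := dvd_iff_isRoot.2 (show h.IsRoot a from h0)
    have : (X - C a) * (X - C a) ∣ g := ⟨h', by rw [hgh, hh', mul_assoc]⟩
    exact not_isUnit_X_sub_C a (hsepg.squarefree _ this)
  -- θ is a root of g in R
  have hθg : aeval θ g = 0 := by
    rw [hg, aeval_map_algebraMap]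
    have : θ = (Algebra.TensorProduct.includeRight : AdjoinRoot m →ₐ[k] R) (AdjoinRoot.root m) := rfl
    rw [this, aeval_algHom_apply, AdjoinRoot.aeval_eq, AdjoinRoot.mk_self, map_zero]
  set u := aeval θ (X - C a) with hu
  set v := aeval θ h with hv
  have huv : u * v = 0 := by rw [hu, hv, ← map_mul, ← hgh, hθg]
  -- the multiplication map to L
  let σ₁ : AdjoinRoot m →ₐ[k] L := AdjoinRoot.liftAlgHom m (Algebra.ofId k L) a (by
    show eval₂ (algebraMap k L) a m = 0
    rw [← aeval_def]; exact minpoly.aeval k a)
  let μ : R →ₐ[L] L := Algebra.TensorProduct.lift (AlgHom.id L L) σ₁ (fun _ _ => Commute.all _ _)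
  have hμθ : μ θ = a := by
    show Algebra.TensorProduct.lift (AlgHom.id L L) σ₁ _ ((1:L) ⊗ₜ[k] AdjoinRoot.root m) = a
    rw [Algebra.TensorProduct.lift_tmul, map_one, one_mul]
    exact AdjoinRoot.liftAlgHom_root (p := m) (Algebra.ofId k L) a _
  have hμv : μ v = h.eval a := by
    rw [hv, ← aeval_algHom_apply, hμθ, coe_aeval_eq_eval]
  have hv_not : ¬ IsNilpotent v := by
    rintro ⟨N, hN⟩
    have := congrArg μ hN
    rw [map_pow, map_zero, hμv] at this
    exact hha (IsNilpotent.eq_zero ⟨N, this⟩)
  have hu_nil : IsNilpotent u := by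
    have h1 : u * v ∈ nilradical R := by rw [huv]; exact zero_mem _
    rcases hP.mem_or_mem h1 with h2 | h2
    · exact mem_nilradical.1 h2
    · exact absurd (mem_nilradical.1 h2) hv_not
  -- h has degree zero
  have hdeg : h.degree = 0 := by
    by_contra hne
    obtain ⟨a₂, ha₂⟩ := IsAlgClosed.exists_aeval_eq_zero (AlgebraicClosure L) h hne
    have hgm : aeval a₂ m = 0 := by
      have h1 : aeval a₂ g = 0 := by rw [hgh, map_mul, ha₂, mul_zero]
      rwa [hg, aeval_map_algebraMap] at h1
    let σ₂ : AdjoinRoot m →ₐ[k] AlgebraicClosure L :=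
      AdjoinRoot.liftAlgHom m (Algebra.ofId k (AlgebraicClosure L)) a₂ (by
        show eval₂ (algebraMap k (AlgebraicClosure L)) a₂ m = 0
        rw [← aeval_def]; exact hgm)
    let ν : R →ₐ[L] AlgebraicClosure L :=
      Algebra.TensorProduct.lift (Algebra.ofId L (AlgebraicClosure L)) σ₂ (fun _ _ => Commute.all _ _)
    have hνθ : ν θ = a₂ := by
      show Algebra.TensorProduct.lift (Algebra.ofId L (AlgebraicClosure L)) σ₂ _
        ((1:L) ⊗ₜ[k] AdjoinRoot.root m) = a₂
      rw [Algebra.TensorProduct.lift_tmul, map_one, one_mul]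
      exact AdjoinRoot.liftAlgHom_root (p := m) (Algebra.ofId k (AlgebraicClosure L)) a₂ _
    have hνu : ν u = a₂ - algebraMap L (AlgebraicClosure L) a := by
      rw [hu, ← aeval_algHom_apply, hνθ]
      simp
    obtain ⟨N, hN⟩ := hu_nil
    have h3 := congrArg ν hN
    rw [map_pow, map_zero, hνu] at h3
    have h4 : a₂ = algebraMap L (AlgebraicClosure L) a :=
      sub_eq_zero.1 (IsNilpotent.eq_zero ⟨N, h3⟩)
    rw [h4, aeval_algebraMap_apply, coe_aeval_eq_eval] at ha₂
    exact hha ((algebraMap L (AlgebraicClosure L)).injective (ha₂.trans (map_zero _).symm))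
  have hnat : m.natDegree = 1 := by
    have h1 : g.natDegree = 1 := by
      rw [hgh, natDegree_mul (X_sub_C_ne_zero a) hh0, natDegree_X_sub_C,
        natDegree_eq_of_degree_eq_some hdeg]
      rfl
    rwa [hg, natDegree_map] at h1
  exact (minpoly.natDegree_eq_one_iff).1 hnat


/-- If the nilradical of `L ⊗_k L` is prime, then `k` is separably closed in `L`. -/
theorem mem_range_of_nilradical_prime_self {k L : Type u} [Field k] [Field L] [Algebra k L] (a : L)
    (hsep : IsSeparable k a) (hP : (nilradical (L ⊗[k] L)).IsPrime) :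
    a ∈ (algebraMap k L).range := by
  have hint : IsIntegral k a := hsep.isIntegral
  have hirr : Irreducible (minpoly k a) := minpoly.irreducible hint
  haveI : Fact (Irreducible (minpoly k a)) := ⟨hirr⟩
  let σ₁ : AdjoinRoot (minpoly k a) →ₐ[k] L :=
    AdjoinRoot.liftAlgHom (minpoly k a) (Algebra.ofId k L) a (by
      show eval₂ (algebraMap k L) a (minpoly k a) = 0
      rw [← Polynomial.aeval_def]; exact minpoly.aeval k a)
  let φ := Algebra.TensorProduct.map (AlgHom.id k L) σ₁
  have hφinj : Function.Injective φ :=
    Module.Flat.lTensor_preserves_injective_linearMap (M := L) σ₁.toLinearMap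
      (σ₁ : AdjoinRoot (minpoly k a) →+* L).injective
  have hcomap : nilradical (L ⊗[k] AdjoinRoot (minpoly k a)) =
      (nilradical (L ⊗[k] L)).comap φ := by
    ext x
    rw [Ideal.mem_comap, mem_nilradical, mem_nilradical]
    constructor
    · intro hx; exact hx.map φ
    · rintro ⟨N, hN⟩
      refine ⟨N, hφinj ?_⟩
      rw [map_pow, hN, map_zero]
  apply mem_range_of_nilradical_prime' a hsep
  rw [hcomap]
  exact Ideal.IsPrime.comap φ


section
attribute [local instance] Curv2.resAlgebra

theorem main (k : Type u) [Field k] (X : Scheme.{u}) [X.Over (Spec (CommRingCat.of k))] :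
    GeometricallyIrreducible (X ↘ (Spec (CommRingCat.of k))) ↔
      IrreducibleSpace ↥(pullback (X ↘ (Spec (CommRingCat.of k))) (X ↘ (Spec (CommRingCat.of k)))) := by
  constructor
  · intro hGI
    haveI : IrreducibleSpace X :=
      GeometricallyIrreducible.irreducibleSpace_of_subsingleton (f := X ↘ (Spec (CommRingCat.of k)))
    haveI : UniversallyOpen (X ↘ (Spec (CommRingCat.of k))) := inferInstance
    infer_instance
  · intro hirr
    set f := X ↘ (Spec (CommRingCat.of k)) with hf
    haveI : Nonempty ↥(pullback f f) := inferInstance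
    obtain ⟨z₀⟩ := this
    haveI : Nonempty X := ⟨pullback.fst f f z₀⟩
    haveI : Surjective f := ⟨fun y => ⟨pullback.fst f f z₀, Subsingleton.elim _ _⟩⟩
    haveI : IrreducibleSpace X :=
      Groth.Agent.S7590.irreducibleSpace_of_surj (pullback.fst f f) (pullback.fst f f).continuous
        (pullback.fst f f).surjective
    have hcomp : X.fromSpecResidueField (genericPoint X) ≫ f =
        Spec.map (CommRingCat.ofHom (algebraMap k (X.residueField (genericPoint X)))) :=
      Groth.Agent.S1537.fromSpecResidueField_comp k X (genericPoint X)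
    set c := Spec.map (CommRingCat.ofHom (algebraMap k (X.residueField (genericPoint X)))) with hc
    have h1 := irreducible_generic_of_irreducible f f
    rw [hcomp] at h1
    haveI h2 : IrreducibleSpace ↥(pullback f c) :=
      Groth.Agent.S7590.irreducibleSpace_of_surj (pullbackSymmetry c f).hom
        (pullbackSymmetry c f).hom.continuous (pullbackSymmetry c f).hom.surjective
    haveI : Surjective c := ⟨fun y => ⟨default, Subsingleton.elim _ _⟩⟩
    have h3 := irreducible_generic_of_irreducible f c
    rw [hcomp] at h3
    have e := pullbackSpecIso k (X.residueField (genericPoint X)) (X.residueField (genericPoint X))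
    have h4 : IrreducibleSpace ↥(Spec (CommRingCat.of
        (X.residueField (genericPoint X) ⊗[k] X.residueField (genericPoint X)))) :=
      Groth.Agent.S7590.irreducibleSpace_of_surj e.hom e.hom.continuous e.hom.surjective
    have hP := PrimeSpectrum.irreducibleSpace_iff_isPrime_nilradical.1 h4
    refine (Groth.Agent.S1540.main k X).2 (fun a hsep => ?_)
    obtain ⟨c', hc'⟩ := mem_range_of_nilradical_prime_self a hsep hP
    exact ⟨c', hc'⟩

end

end Aux

/-- A scheme X over a field k is geometrically irreducible over k precisely when the fibre product X ×_k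
X of X with itself is an irreducible scheme. -/
theorem result (k : Type u) [Field k] (X : Scheme.{u}) [X.Over (Spec (CommRingCat.of k))] :
    GeometricallyIrreducible (X ↘ (Spec (CommRingCat.of k))) ↔ IrreducibleSpace ↥(pullback (X ↘ (Spec (CommRingCat.of k))) (X ↘ (Spec (CommRingCat.of k)))) := by
  exact main k X

end Groth.Agent.S7594
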