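import Groth.Statements.S1539
import Mathlib
import Groth.Agent.S1540
import Groth.Agent.S7594

set_option autoImplicit false
universe u
open CategoryTheory CategoryTheory.Limits AlgebraicGeometry
open Variety

namespace Groth.Agent.S1539

section Aux
open CategoryTheory CategoryTheory.Limits AlgebraicGeometry TensorProduct Polynomial

section
attribute [local instance] Curv2.resAlgebra

theorem fin_sep_adjoinRoot {k L : Type u} [Field k] [Field L] [Algebra k L] (a : L)
    (hsep : IsSeparable k a) [Fact (Irreducible (minpoly k a))] :
    FiniteDimensional k (AdjoinRoot (minpoly k a)) ∧ Algebra.IsSeparable k (AdjoinRoot (minpoly k a)) := by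
  have hint : IsIntegral k a := hsep.isIntegral
  let e : AdjoinRoot (minpoly k a) ≃ₐ[k] IntermediateField.adjoin k ({a} : Set L) :=
    IntermediateField.adjoinRootEquivAdjoin k hint
  haveI : FiniteDimensional k (IntermediateField.adjoin k ({a} : Set L)) :=
    IntermediateField.adjoin.finiteDimensional hint
  haveI : Algebra.IsSeparable k (IntermediateField.adjoin k ({a} : Set L)) :=
    (IntermediateField.isSeparable_adjoin_simple_iff_isSeparable k L).2 hsep
  exact ⟨Module.Finite.equiv e.symm.toLinearEquiv, Algebra.IsSeparable.of_algHom k _ e.toAlgHom⟩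

theorem main (k : Type u) [Field k] (X : Scheme.{u}) [X.Over (Spec (CommRingCat.of k))]
    (h : ∀ (k' : Type u) [Field k'] [Algebra k k'] [FiniteDimensional k k'] [Algebra.IsSeparable k k'],
      IrreducibleSpace (Curv2.bc k X k')) :
    GeometricallyIrreducible (X ↘ (Spec (CommRingCat.of k))) := by
  set f := X ↘ (Spec (CommRingCat.of k)) with hf
  haveI h0 : IrreducibleSpace ↥(Curv2.bc k X k) := h k
  haveI : IrreducibleSpace X :=
    Groth.Agent.S7590.irreducibleSpace_of_surj (Curv2.bcFst k X k) (Curv2.bcFst k X k).continuous
      (Curv2.bcFst k X k).surjective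
  have hcomp : X.fromSpecResidueField (genericPoint X) ≫ f =
      Spec.map (CommRingCat.ofHom (algebraMap k (X.residueField (genericPoint X)))) :=
    Groth.Agent.S1537.fromSpecResidueField_comp k X (genericPoint X)
  refine (Groth.Agent.S1540.main k X).2 (fun a hsep => ?_)
  have hint : IsIntegral k a := hsep.isIntegral
  haveI : Fact (Irreducible (minpoly k a)) := ⟨minpoly.irreducible hint⟩
  obtain ⟨hfin, hsepK⟩ := fin_sep_adjoinRoot a hsep
  haveI := hfin
  haveI := hsepK
  haveI h1 : IrreducibleSpace ↥(Curv2.bc k X (AdjoinRoot (minpoly k a))) := h (AdjoinRoot (minpoly k a))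
  set b := Spec.map (CommRingCat.ofHom (algebraMap k (AdjoinRoot (minpoly k a)))) with hb
  haveI : Surjective b := ⟨fun y => ⟨default, Subsingleton.elim _ _⟩⟩
  haveI h1' : IrreducibleSpace ↥(pullback f b) := h1
  have h3 := Groth.Agent.S7594.irreducible_generic_of_irreducible f b
  rw [hcomp] at h3
  have e := pullbackSpecIso k (X.residueField (genericPoint X)) (AdjoinRoot (minpoly k a))
  have h4 : IrreducibleSpace ↥(Spec (CommRingCat.of
      (X.residueField (genericPoint X) ⊗[k] AdjoinRoot (minpoly k a)))) :=
    Groth.Agent.S7590.irreducibleSpace_of_surj e.hom e.hom.continuous e.hom.surjective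
  have hP := PrimeSpectrum.irreducibleSpace_iff_isPrime_nilradical.1 h4
  obtain ⟨c', hc'⟩ := Groth.Agent.S7594.mem_range_of_nilradical_prime' a hsep hP
  exact ⟨c', hc'⟩

end

end Aux

/-- If X_{k'} is irreducible for every finite separable field extension k' of k, then X is geometrically
irreducible over k. -/
theorem result (k : Type u) [Field k] (X : Scheme.{u}) [X.Over (Spec (CommRingCat.of k))]
    (h : ∀ (k' : Type u) [Field k'] [Algebra k k'] [FiniteDimensional k k'] [Algebra.IsSeparable k k'],
      IrreducibleSpace (Curv2.bc k X k')) :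
    GeometricallyIrreducible (X ↘ (Spec (CommRingCat.of k))) := by
  exact main k X h

end Groth.Agent.S1539
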