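import Groth.Statements.S15391
import Mathlib

set_option autoImplicit false
universe u
open TensorProduct
open TorFree

namespace Groth.Agent.S15391

/-- Let R be a reduced Noetherian commutative ring, M a finitely generated torsion-free R-module (no
non-zero element of M is annihilated by a non-zero-divisor of R), and t an element of M whose image
1 ⊗ t in the fibre κ(p) ⊗_R M vanishes for every prime ideal p of R, κ(p) being the residue field at
p. Then t = 0. This is the affine form of the claim that a global section of a coherent torsion-free
module on a reduced Noetherian scheme which vanishes in every fibre is zero. -/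
theorem result (R : Type u) [CommRing R] [IsReduced R] [IsNoetherianRing R]
    (M : Type u) [AddCommGroup M] [Module R M] [Module.Finite R M] [Module.IsTorsionFree R M]
    (t : M) (ht : ∀ p : PrimeSpectrum R, (1 : p.asIdeal.ResidueField) ⊗ₜ[R] t = (0 : p.asIdeal.ResidueField ⊗[R] M)) :
    t = 0 := by
  classical
  -- Step A: for each minimal prime `p`, some `s ∉ p` kills `t`.
  have hA : ∀ p ∈ minimalPrimes R, ∃ s ∉ p, s • t = 0 := by
    intro p hp
    haveI : p.IsPrime := hp.1.1
    have hmax : IsLocalRing.maximalIdeal (Localization.AtPrime p) = ⊥ := by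
      have h1 := IsLocalization.AtPrime.radical_map_of_mem_minimalPrimes
        (A := Localization.AtPrime p) p ⊥ hp
      rw [Ideal.map_bot, IsLocalization.AtPrime.map_eq_maximalIdeal] at h1
      rw [← h1]
      exact nilradical_eq_zero _
    have hbij : Function.Bijective (algebraMap (Localization.AtPrime p) p.ResidueField) := by
      refine ⟨?_, IsLocalRing.residue_surjective⟩
      rw [injective_iff_map_eq_zero]
      intro x hx
      have : x ∈ IsLocalRing.maximalIdeal (Localization.AtPrime p) := by
        rw [← IsLocalRing.ker_residue]
        exact hx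
      rw [hmax] at this
      exact this
    let e : Localization.AtPrime p ≃ₐ[R] p.ResidueField :=
      AlgEquiv.ofBijective (IsScalarTower.toAlgHom R (Localization.AtPrime p) p.ResidueField) hbij
    haveI : IsLocalization p.primeCompl p.ResidueField :=
      IsLocalization.isLocalization_of_algEquiv p.primeCompl e
    haveI : IsLocalizedModule p.primeCompl (TensorProduct.mk R p.ResidueField M 1) :=
      (isLocalizedModule_iff_isBaseChange p.primeCompl p.ResidueField _).2
        (TensorProduct.isBaseChange R M p.ResidueField)
    have h0 := ht ⟨p, inferInstance⟩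
    obtain ⟨c, hc⟩ := (IsLocalizedModule.eq_zero_iff p.primeCompl
      (TensorProduct.mk R p.ResidueField M 1)).1 h0
    exact ⟨c.1, c.2, hc⟩
  -- Step B: prime avoidance
  have hfin : (minimalPrimes R).Finite := minimalPrimes.finite_of_isNoetherianRing R
  have hnot : ¬ (((Submodule.span R {t}).annihilator : Set R) ⊆
      ⋃ p ∈ (hfin.toFinset : Set (Ideal R)), (p : Set R)) := by
    rw [Ideal.subset_union_prime (R := R) (f := fun p : Ideal R => p) ⊥ ⊥]
    · rintro ⟨p, hp, hle⟩
      rw [Set.Finite.mem_toFinset] at hp
      obtain ⟨s, hsp, hst⟩ := hA p hp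
      exact hsp (hle (Submodule.mem_annihilator_span_singleton _ _ |>.2 hst))
    · intro p hp _ _
      rw [Set.Finite.mem_toFinset] at hp
      exact hp.1.1
  rw [Set.not_subset] at hnot
  obtain ⟨s, hs, hsnot⟩ := hnot
  have hst : s • t = 0 := (Submodule.mem_annihilator_span_singleton _ _).1 hs
  have hsmin : ∀ p ∈ minimalPrimes R, s ∉ p := by
    intro p hp hsp
    apply hsnot
    simp only [Set.mem_iUnion]
    exact ⟨p, by simpa using hp, hsp⟩
  have hreg : IsRegular s := by
    rw [isRegular_iff_mem_nonZeroDivisors, mem_nonZeroDivisors_iff_right]
    intro y hy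
    have : y ∈ sInf (minimalPrimes R) := by
      rw [Ideal.mem_sInf]
      intro p hp
      have hp' : p.IsPrime := hp.1.1
      have : y * s ∈ p := by rw [hy]; exact p.zero_mem
      exact (hp'.mem_or_mem this).resolve_right (hsmin p hp)
    rw [minimalPrimes, Ideal.sInf_minimalPrimes] at this
    have h2 : (⊥ : Ideal R).radical = ⊥ := nilradical_eq_zero R
    rw [h2] at this
    exact this
  have := Module.IsTorsionFree.isSMulRegular (M := M) hreg
  exact this (by show s • t = s • 0; rw [hst, smul_zero])

end Groth.Agent.S15391
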