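import Groth.Statements.S15411
import Mathlib
import Groth.Agent.Lib.helper12.EqDescent

set_option autoImplicit false
set_option linter.style.haveILetI false
universe u
open scoped TensorProduct
open Hopf

namespace Groth.Agent.S15411

/-- Let K be a field and let finitely many commutative K-algebras be given in two layers, K_i for each
vertex i and K_k for each edge k, with K-algebra maps from K_{l k} and from K_{r k} into K_k for
every edge k, such that K is the equalizer of the system: every family (x_i) whose two images in K_k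
agree for every k comes from exactly one element of K. Let A and B be commutative K-bialgebras
(coordinate rings of affine group or monoid schemes over K) and let u_i : K_i ⊗ B ≅ K_i ⊗ A be
isomorphisms of K_i-bialgebras such that, for every edge k, the base changes of u_{l k} and u_{r k}
to K_k agree. Then there is exactly one isomorphism of K-bialgebras v : B ≅ A inducing every u_i,
that is with u_i (1 ⊗ b) = 1 ⊗ v b. (The published statement is for the system obtained from a
finite inverse factorization system of fields by base change to a finite separable extension K, and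
for linear algebraic groups; this row keeps from that setting only what the argument uses: K is a
field and is the equalizer of the finite system, and the group schemes are affine.) -/
theorem result
    (K : Type u) [Field K] (ιv ιe : Type u) [Finite ιv] [Finite ιe]
    (Kv : ιv → Type u) [∀ i, CommRing (Kv i)] [∀ i, Algebra K (Kv i)]
    (Ke : ιe → Type u) [∀ k, CommRing (Ke k)] [∀ k, Algebra K (Ke k)]
    (l r : ιe → ιv) (ρl : ∀ k, Kv (l k) →ₐ[K] Ke k) (ρr : ∀ k, Kv (r k) →ₐ[K] Ke k)
    (hlim : ∀ x : (∀ i, Kv i), (∀ k, ρl k (x (l k)) = ρr k (x (r k))) →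
      ∃! a : K, ∀ i, algebraMap K (Kv i) a = x i)
    (A B : Type u) [CommRing A] [CommRing B] [Bialgebra K A] [Bialgebra K B]
    (u : ∀ i, (Kv i ⊗[K] B) ≃ₐc[Kv i] (Kv i ⊗[K] A))
    (hu : ∀ (k : ιe) (b : B),
      Algebra.TensorProduct.map (ρl k) (AlgHom.id K A) (u (l k) (1 ⊗ₜ[K] b)) =
        Algebra.TensorProduct.map (ρr k) (AlgHom.id K A) (u (r k) (1 ⊗ₜ[K] b))) :
    ∃! v : B ≃ₐc[K] A, ∀ (i : ιv) (b : B), u i (1 ⊗ₜ[K] b) = 1 ⊗ₜ[K] v b := by
  classical
  obtain ⟨i₀, hi₀⟩ := H12EqD.exists_injective ρl ρr hlim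
  have hvex : ∀ b : B, ∃ m : A, ∀ i, (1 : Kv i) ⊗ₜ[K] m = u i (1 ⊗ₜ[K] b) := by
    intro b
    apply H12EqD.exists_glue ρl ρr hlim A (fun i => u i (1 ⊗ₜ[K] b))
    intro k
    exact hu k b
  choose v hv using hvex
  have hwex : ∀ a : A, ∃ m : B, ∀ i, (1 : Kv i) ⊗ₜ[K] m = (u i).symm (1 ⊗ₜ[K] a) := by
    intro a
    apply H12EqD.exists_glue ρl ρr hlim B (fun i => (u i).symm (1 ⊗ₜ[K] a))
    intro k
    exact H12EqD.inverse_compat (ρl k) (ρr k) (u (l k)).toCoalgEquiv.toLinearEquiv
      (u (r k)).toCoalgEquiv.toLinearEquiv (fun b => hu k b) a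
  choose w hw using hwex
  obtain ⟨fv, hfv⟩ := H12BD.exists_bialgHom_of_values hi₀ (u i₀ : _ →ₐc[Kv i₀] _) v
    (fun b => (hv b i₀).symm)
  obtain ⟨fw, hfw⟩ := H12BD.exists_bialgHom_of_values hi₀ ((u i₀).symm : _ →ₐc[Kv i₀] _) w
    (fun a => (hw a i₀).symm)
  have injA := H12BD.one_tmul_injective (S := Kv i₀) hi₀ A
  have injB := H12BD.one_tmul_injective (S := Kv i₀) hi₀ B
  have h1 : fv.comp fw = BialgHom.id K A := by
    apply BialgHom.ext
    intro a
    apply injA
    show (1 : Kv i₀) ⊗ₜ[K] fv (fw a) = (1 : Kv i₀) ⊗ₜ[K] a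
    rw [hfv, hfw, hv, hw, BialgEquiv.apply_symm_apply]
  have h2 : fw.comp fv = BialgHom.id K B := by
    apply BialgHom.ext
    intro b
    apply injB
    show (1 : Kv i₀) ⊗ₜ[K] fw (fv b) = (1 : Kv i₀) ⊗ₜ[K] b
    rw [hfw, hfv, hw, hv, BialgEquiv.symm_apply_apply]
  refine ⟨BialgEquiv.ofBialgHom fv fw h1 h2, ?_, ?_⟩
  · intro i b
    show u i (1 ⊗ₜ[K] b) = 1 ⊗ₜ[K] fv b
    rw [hfv, hv]
  · intro v' hv'
    apply BialgEquiv.ext
    intro b
    apply injA
    show (1 : Kv i₀) ⊗ₜ[K] v' b = (1 : Kv i₀) ⊗ₜ[K] fv b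
    rw [← hv' i₀ b, hfv, hv]

end Groth.Agent.S15411
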