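import Groth.Statements.S15412
import Mathlib

set_option autoImplicit false
universe w v u
open CategoryTheory Opposite
open Bitors

namespace Groth.Agent.S15412

/-- On a site, let G and H be sheaves of groups and P a sheaf of sets with a left G-action which is
simply transitive on every set of sections P(U). The right H-actions on P that are compatible with
restriction, commute with the G-action and are simply transitive on every P(U) (for P a G-torsor:
the structures of (G, H)-bitorsor on P) correspond exactly to the families of group isomorphisms φ_p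
: H(U) ≃ G(U), one for each section p of P over each U, compatible with restriction and with φ_{g·p}
= g φ_p g⁻¹ (the equivariant maps from P to the sheaf of isomorphisms from H to G); the
correspondence is the rule p · h = φ_p(h) · p, and the statement is that every right structure
arises by this rule from exactly one family and every family from exactly one right structure. (The
published statement takes P a left G-torsor; only the simple transitivity of the G-action on
sections enters, so local existence of sections is not assumed.) -/
theorem result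
    {C : Type u} [Category.{v} C] {J : GrothendieckTopology C}
    (G H : Sheaf J GrpCat.{w}) (P : NonAbH1.GSheaf G) (hP : P.IsPseudoTorsor) :
    (∀ ρ : Bitors.RightStr P H, ∃! φ : Bitors.IsomFamily P H,
        ∀ (U : Cᵒᵖ) (p : P.P.obj.obj U) (h : H.obj.obj U), ρ.rsmul p h = P.smul (φ.φ p h) p) ∧
    (∀ φ : Bitors.IsomFamily P H, ∃! ρ : Bitors.RightStr P H,
        ∀ (U : Cᵒᵖ) (p : P.P.obj.obj U) (h : H.obj.obj U), ρ.rsmul p h = P.smul (φ.φ p h) p) := by
  classical
  -- freeness of the `G`-action
  have hfree : ∀ (U : Cᵒᵖ) (p : P.P.obj.obj U) (g g' : G.obj.obj U),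
      P.smul g p = P.smul g' p → g = g' := by
    intro U p g g' h
    obtain ⟨g₀, _, huniq⟩ := hP U p (P.smul g p)
    rw [huniq g rfl, huniq g' h.symm]
  constructor
  · intro ρ
    -- the element `φ_p(h)`
    choose ψ hψ₀ hψuniq using fun (U : Cᵒᵖ) (p : P.P.obj.obj U) (h : H.obj.obj U) =>
      hP U p (ρ.rsmul p h)
    have hψ : ∀ (U : Cᵒᵖ) (p : P.P.obj.obj U) (h : H.obj.obj U),
        P.smul (ψ U p h) p = ρ.rsmul p h := hψ₀
    have hψmul : ∀ (U : Cᵒᵖ) (p : P.P.obj.obj U) (h h' : H.obj.obj U),
        ψ U p (h * h') = ψ U p h * ψ U p h' := by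
      intro U p h h'
      apply hfree U p
      rw [hψ, ρ.rsmul_mul, P.mul_smul, hψ U p h', ← ρ.smul_rsmul, hψ U p h]
    have hψinj : ∀ (U : Cᵒᵖ) (p : P.P.obj.obj U), Function.Injective (ψ U p) := by
      intro U p h h' hh
      obtain ⟨h₀, _, huniq⟩ := ρ.existsUnique_rsmul p (ρ.rsmul p h)
      rw [huniq h rfl, huniq h' (by
        show ρ.rsmul p h' = ρ.rsmul p h
        rw [← hψ U p h', ← hh, hψ U p h])]
    have hψsurj : ∀ (U : Cᵒᵖ) (p : P.P.obj.obj U), Function.Surjective (ψ U p) := by
      intro U p g
      obtain ⟨h, hh, _⟩ := ρ.existsUnique_rsmul p (P.smul g p)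
      refine ⟨h, hfree U p _ _ ?_⟩
      rw [hψ, hh]
    let φ : Bitors.IsomFamily P H :=
      { φ := fun {U} p => MulEquiv.ofBijective
          (MonoidHom.mk' (ψ U p) (hψmul U p)) ⟨hψinj U p, hψsurj U p⟩
        map_φ := by
          intro U V f p h
          show G.obj.map f (ψ U p h) = ψ V (P.P.obj.map f p) (H.obj.map f h)
          apply hfree V (P.P.obj.map f p)
          rw [← P.map_smul, hψ, hψ, ρ.map_rsmul]
        φ_smul := by
          intro U g p h
          show ψ U (P.smul g p) h = g * ψ U p h * g⁻¹
          apply hfree U (P.smul g p)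
          rw [hψ, ρ.smul_rsmul, ← hψ U p h, ← P.mul_smul, ← P.mul_smul]
          congr 1
          group }
    refine ⟨φ, fun U p h => (hψ U p h).symm, ?_⟩
    intro φ' hφ'
    have : ∀ (U : Cᵒᵖ) (p : P.P.obj.obj U), φ'.φ p = φ.φ p := by
      intro U p
      ext h
      apply hfree U p
      rw [← hφ' U p h]
      exact (hψ U p h).symm
    cases φ' with
    | mk φ'' m1 m2 =>
      have h2 : @φ'' = @Bitors.IsomFamily.φ _ _ _ _ _ _ φ := by
        funext U p
        exact this U p
      subst h2
      rfl
  · intro φ
    let ρ : Bitors.RightStr P H :=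
      { rsmul := fun {U} p h => P.smul (φ.φ p h) p
        rsmul_one := by
          intro U p
          rw [map_one, P.one_smul]
        rsmul_mul := by
          intro U p h h'
          rw [map_mul, φ.φ_smul, ← P.mul_smul]
          congr 1
          group
        map_rsmul := by
          intro U V f p h
          rw [P.map_smul, φ.map_φ]
        smul_rsmul := by
          intro U g p h
          rw [φ.φ_smul, ← P.mul_smul, ← P.mul_smul]
          congr 1
          group
        existsUnique_rsmul := by
          intro U p q
          obtain ⟨g, hg, huniq⟩ := hP U p q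
          refine ⟨(φ.φ p).symm g, ?_, ?_⟩
          · show P.smul (φ.φ p ((φ.φ p).symm g)) p = q
            rw [MulEquiv.apply_symm_apply, hg]
          · intro h hh
            have := huniq _ hh
            rw [← this, MulEquiv.symm_apply_apply] }
    refine ⟨ρ, fun U p h => rfl, ?_⟩
    intro ρ' hρ'
    cases ρ' with
    | mk r a1 a2 a3 a4 a5 =>
      have h2 : @r = @Bitors.RightStr.rsmul _ _ _ _ _ _ ρ := by
        funext U p h
        exact hρ' U p h
      subst h2
      rfl

end Groth.Agent.S15412
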