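import Groth.Statements.S1542
import Mathlib
import Groth.Agent.S1541

set_option autoImplicit false
universe u
open CategoryTheory CategoryTheory.Limits AlgebraicGeometry
open Variety

namespace Groth.Agent.S1542

/-- Geometric reducedness at a point passes to every generisation of that point. -/
theorem result (k : Type u) [Field k] (X : Scheme.{u}) [X.Over (Spec (CommRingCat.of k))] (x x' : X) (h : x' ⤳ x)
    (hx : Curv2.IsGeomReducedAt k X x) : Curv2.IsGeomReducedAt k X x' := by
  letI := Curv2.stalkAlgebra k X x
  haveI : Algebra.IsGeometricallyReduced k (X.presheaf.stalk x) := (Groth.Agent.S1541.result k X x).mp hx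
  intro k' _ _ z hz
  haveI : AlgebraicGeometry.IsReduced (Spec (CommRingCat.of k')) := by
    rw [affine_isReduced_iff]; infer_instance
  exact Groth.Agent.Lib.helper7.StalkBC.isReduced_stalk_pullback_of_specializes
    (X ↘ Spec (CommRingCat.of k)) x (Groth.Agent.S1541.hφ_stalk k X x)
    (Spec.map (CommRingCat.ofHom (algebraMap k k'))) z (by
      have : Curv2.bcFst k X k' z = x' := hz
      show Curv2.bcFst k X k' z ⤳ x
      rw [this]; exact h)

end Groth.Agent.S1542
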