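import Groth.Statements.S15423
import Mathlib
import Groth.Agent.Lib.helper24.GrMinRes2

set_option autoImplicit false
universe u
open GrSyz

namespace Groth.Agent.S15423

namespace Groth.Agent.S15423.Aux

theorem iInf_coe_of_le (s : WithBot (WithTop ℤ)) :
    ⨅ (r : ℤ) (_ : s ≤ ((r : WithTop ℤ) : WithBot (WithTop ℤ))),
      ((r : WithTop ℤ) : WithBot (WithTop ℤ)) = s := by
  apply le_antisymm
  · induction s using WithBot.recBotCoe with
    | bot =>
      rw [le_bot_iff]
      by_contra h
      obtain ⟨y, hy⟩ := WithBot.ne_bot_iff_exists.mp h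
      have h1 : ∀ r : ℤ, ((y : WithTop ℤ) : WithBot (WithTop ℤ)) ≤ ((r : WithTop ℤ) : WithBot (WithTop ℤ)) := by
        intro r
        rw [hy]
        exact iInf₂_le (f := fun (r : ℤ) (_ : (⊥ : WithBot (WithTop ℤ)) ≤ ((r : WithTop ℤ) : WithBot (WithTop ℤ))) => ((r : WithTop ℤ) : WithBot (WithTop ℤ))) r bot_le
      induction y using WithTop.recTopCoe with
      | top =>
        have := WithBot.coe_le_coe.mp (h1 0)
        rw [top_le_iff] at this
        exact WithTop.coe_ne_top this
      | coe n =>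
        have := WithTop.coe_le_coe.mp (WithBot.coe_le_coe.mp (h1 (n - 1)))
        omega
    | coe y =>
      induction y using WithTop.recTopCoe with
      | top => exact le_top
      | coe n => exact iInf₂_le (f := fun (r : ℤ) (_ : (((n : ℤ) : WithTop ℤ) : WithBot (WithTop ℤ)) ≤ ((r : WithTop ℤ) : WithBot (WithTop ℤ))) => ((r : WithTop ℤ) : WithBot (WithTop ℤ))) n le_rfl
  · exact le_iInf₂ fun r hr => hr

end Groth.Agent.S15423.Aux

/-- Let k be a field, S = k[x_0, …, x_r] graded by degree, 𝔪 = (x_0, …, x_r), M a finitely generated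
ℤ-graded S-module and F a minimal graded free resolution of M by finite-rank free modules with
homogeneous bases (all matrix entries in 𝔪). Then the Castelnuovo–Mumford regularity of M (an
extended integer) is the supremum over i ≥ 0 of t_i − i, where t_i is the largest degree of a basis
vector of F_i, that is the largest nonzero degree of Tor_i^S(M, k) (−∞ when F_i = 0). In particular
the value does not depend on the minimal resolution chosen. -/
theorem result (k : Type u) [Field k] (r : ℕ)
    (M : Type u) [AddCommGroup M] [Module k M] [Module (MvPolynomial (Fin (r + 1)) k) M]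
    [IsScalarTower k (MvPolynomial (Fin (r + 1)) k) M] [Module.Finite (MvPolynomial (Fin (r + 1)) k) M]
    (ℳ : ℤ → Submodule k M) [DirectSum.Decomposition ℳ] [SetLike.GradedSMul (GrSyz.stdGr k (Fin (r + 1))) ℳ]
    (F : GrSyz.FreeRes (GrSyz.stdGr k (Fin (r + 1))) ℳ) (hF : F.IsMinimal (GrSyz.irrel (GrSyz.stdGr k (Fin (r + 1)))).toIdeal) :
    GrSyz.reg (GrSyz.stdGr k (Fin (r + 1))) ℳ (GrSyz.irrel (GrSyz.stdGr k (Fin (r + 1)))).toIdeal =
      ⨆ i : ℕ, WithBot.map (fun t : ℤ => ((t - (i : ℤ) : ℤ) : WithTop ℤ)) (F.maxGenDeg i) := by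
  classical
  have aux : ∀ (G : GrSyz.FreeRes (GrSyz.stdGr k (Fin (r + 1))) ℳ) (i : ℕ) (n : ℤ),
      WithBot.map (fun t : ℤ => ((t - (i : ℤ) : ℤ) : WithTop ℤ)) (G.maxGenDeg i) ≤
        ((n : WithTop ℤ) : WithBot (WithTop ℤ)) ↔ ∀ b : Fin (G.rk i), G.deg i b ≤ n + i := by
    intro G i n
    have h1 : (∀ b : Fin (G.rk i), G.deg i b ≤ n + i) ↔ G.maxGenDeg i ≤ ((n + i : ℤ) : WithBot ℤ) := by
      unfold GrSyz.FreeRes.maxGenDeg
      rw [Finset.sup_le_iff]
      simp only [Finset.mem_univ, true_imp_iff, WithBot.coe_le_coe]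
    rw [h1]
    generalize G.maxGenDeg i = x
    induction x using WithBot.recBotCoe with
    | bot => simp
    | coe t =>
      rw [WithBot.map_coe, WithBot.coe_le_coe, WithBot.coe_le_coe, WithTop.coe_le_coe]
      omega
  set s := ⨆ i : ℕ, WithBot.map (fun t : ℤ => ((t - (i : ℤ) : ℤ) : WithTop ℤ)) (F.maxGenDeg i) with hs
  have key : ∀ n : ℤ, GrSyz.IsRegLE (GrSyz.stdGr k (Fin (r + 1))) ℳ
      (GrSyz.irrel (GrSyz.stdGr k (Fin (r + 1)))).toIdeal n ↔
      s ≤ ((n : WithTop ℤ) : WithBot (WithTop ℤ)) := by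
    intro n
    rw [hs, iSup_le_iff]
    constructor
    · rintro ⟨F', hF', hgen⟩ i
      rw [aux]
      intro b
      have hb : 0 < F.betti i (F.deg i b) := by
        unfold GrSyz.FreeRes.betti
        rw [Finset.card_pos]
        exact ⟨b, by simp⟩
      rw [Groth.Agent.Lib.helper24.GrMinRes.betti_eq F F' hF hF' i (F.deg i b)] at hb
      unfold GrSyz.FreeRes.betti at hb
      rw [Finset.card_pos] at hb
      obtain ⟨b', hb'⟩ := hb
      rw [Finset.mem_filter] at hb'
      rw [← hb'.2]
      exact hgen i b'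
    · intro h
      refine ⟨F, hF, fun i b => ?_⟩
      exact (aux F i n).mp (h i) b
  unfold GrSyz.reg
  simp only [key]
  exact Groth.Agent.S15423.Aux.iInf_coe_of_le s

end Groth.Agent.S15423
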