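import Groth.Statements.S15426
import Groth.Agent.Lib.helper21.LC9

set_option autoImplicit false
universe u
open LocCoh CategoryTheory

namespace Groth.Agent.S15426

/-- Let A be a commutative ring, I an ideal, M an A-module and i ≥ 0. Every element of the local
cohomology module H^i_I(M), the direct limit over n of Ext^i_A(A/I^n, M), is annihilated by some
power of I. -/
theorem result (A : Type u) [CommRing A] (I : Ideal A) (i : ℕ)
    (M : Type u) [AddCommGroup M] [Module A M] :
    LocCoh.IsPowerTorsion I (LocCoh.H I i M) := by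
  intro x
  obtain ⟨n, y, rfl⟩ := Groth.Agent.H21.LC.ιH_surj I i (ModuleCat.of A M) x
  refine ⟨n, fun a ha => ?_⟩
  rw [← map_smul]
  have h1 : a • y = (CategoryTheory.Abelian.Ext.mk₀ (a • 𝟙 (Groth.Agent.H21.LC.Q I n))).comp y (zero_add i) := by
    rw [CategoryTheory.Abelian.Ext.mk₀_smul, CategoryTheory.Abelian.Ext.smul_comp,
      CategoryTheory.Abelian.Ext.mk₀_id_comp]
  have h2 : a • 𝟙 (Groth.Agent.H21.LC.Q I n) = 0 := by
    refine ModuleCat.hom_ext (LinearMap.ext fun m => ?_)
    exact Groth.Agent.H21.LC.Q_smul_eq_zero I n a ha m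
  rw [h1, h2, CategoryTheory.Abelian.Ext.mk₀_zero, CategoryTheory.Abelian.Ext.zero_comp, map_zero]

end Groth.Agent.S15426
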