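import Groth.Statements.S15427
import Mathlib

set_option autoImplicit false
universe u
open GrSyz

namespace Groth.Agent.S15427

/-- elements of the irrelevant ideal have no constant term -/
theorem constantCoeff_eq_zero_of_mem_irrel (k : Type u) [Field k] (σ : Type) (p : MvPolynomial σ k)
    (hp : p ∈ (GrSyz.irrel (GrSyz.stdGr k σ)).toIdeal) : MvPolynomial.constantCoeff p = 0 := by
  have hle : (GrSyz.irrel (GrSyz.stdGr k σ)).toIdeal ≤
      RingHom.ker (MvPolynomial.constantCoeff : MvPolynomial σ k →+* k) := by
    show Ideal.span _ ≤ _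
    rw [Ideal.span_le]
    rintro q ⟨n, hn, hq⟩
    rw [SetLike.mem_coe, RingHom.mem_ker]
    rw [GrSyz.mem_stdGr_iff] at hq
    by_contra hne
    have := hq (d := 0) hne
    rw [map_zero] at this
    omega
  exact hle hp

theorem one_notMem_irrel (k : Type u) [Field k] (σ : Type) :
    (1 : MvPolynomial σ k) ∉ (GrSyz.irrel (GrSyz.stdGr k σ)).toIdeal := by
  intro h
  have := constantCoeff_eq_zero_of_mem_irrel k σ 1 h
  rw [map_one] at this
  exact one_ne_zero this

/-- a homogeneous element outside the irrelevant ideal is a unit -/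
theorem isUnit_of_mem_stdGr_of_notMem_irrel (k : Type u) [Field k] (σ : Type)
    (p : MvPolynomial σ k) (m : ℤ) (hpm : p ∈ GrSyz.stdGr k σ m)
    (hp : p ∉ (GrSyz.irrel (GrSyz.stdGr k σ)).toIdeal) : IsUnit p := by
  classical
  have hm : ¬ 0 < m := fun hm => hp (Ideal.subset_span ⟨m, hm, hpm⟩)
  have hC : p = MvPolynomial.C (MvPolynomial.coeff 0 p) := by
    ext d
    rw [MvPolynomial.coeff_C]
    by_cases hd : 0 = d
    · subst hd; simp
    · rw [if_neg hd]
      by_contra hne
      rw [GrSyz.mem_stdGr_iff] at hpm
      have hw := hpm hne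
      have : ∃ i, d i ≠ 0 := by
        by_contra hall
        push Not at hall
        exact hd (Finsupp.ext fun i => (hall i).symm)
      obtain ⟨i, hi⟩ := this
      have hpos : 0 < d i := Nat.pos_of_ne_zero hi
      have : (0 : ℤ) < Finsupp.weight (fun _ : σ => (1 : ℤ)) d := by
        rw [Finsupp.weight_apply, Finsupp.sum]
        apply Finset.sum_pos'
        · intro j _; positivity
        · refine ⟨i, Finsupp.mem_support_iff.2 hi, ?_⟩
          simp only [mul_one, nsmul_eq_mul]
          exact_mod_cast hpos
      omega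
  rw [hC]
  apply IsUnit.map
  rw [isUnit_iff_ne_zero]
  intro h0
  apply hp
  rw [hC, h0, map_zero]
  exact Ideal.zero_mem _

/-- irredundancy from "relations have coefficients in a proper ideal" -/
theorem notMem_span_of_ker {R : Type u} [CommRing R] {M : Type u} [AddCommGroup M] [Module R M]
    {n : ℕ} (f : Fin n → M) (𝔪 : Ideal R) (h1 : (1 : R) ∉ 𝔪)
    (hker : ∀ v : Fin n → R, ∑ j, v j • f j = 0 → ∀ j, v j ∈ 𝔪) (b : Fin n) :
    f b ∉ Submodule.span R (f '' {b' | b' ≠ b}) := by
  classical
  intro hmem
  obtain ⟨l, hl, hsum⟩ := (Finsupp.mem_span_image_iff_linearCombination R).1 hmem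
  have hlb : l b = 0 := by
    rw [Finsupp.mem_supported'] at hl
    exact hl b (by simp)
  rw [Finsupp.linearCombination_apply, Finsupp.sum_fintype _ _ (by simp)] at hsum
  have hv : ∑ j, ((if j = b then (1 : R) else 0) - l j) • f j = 0 := by
    simp only [sub_smul, Finset.sum_sub_distrib, ite_smul, one_smul, zero_smul,
      Finset.sum_ite_eq', Finset.mem_univ, if_true]
    rw [hsum, sub_self]
  have := hker _ hv b
  rw [if_pos rfl, hlb, sub_zero] at this
  exact h1 this

/-- redundancy from a relation with a unit coefficient -/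
theorem mem_span_of_sum_eq_zero {R : Type u} [CommRing R] {M : Type u} [AddCommGroup M] [Module R M]
    {n : ℕ} (f : Fin n → M) (q : Fin n → R) (a : Fin n) (hq : IsUnit (q a))
    (h : ∑ i, q i • f i = 0) : f a ∈ Submodule.span R (f '' {i | i ≠ a}) := by
  classical
  obtain ⟨u, hu⟩ := hq.exists_left_inv
  rw [← Finset.add_sum_erase _ _ (Finset.mem_univ a)] at h
  have h1 : f a = u • (-(∑ i ∈ Finset.univ.erase a, q i • f i)) := by
    rw [← eq_neg_of_add_eq_zero_left h, smul_smul, hu, one_smul]
  rw [h1]
  apply Submodule.smul_mem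
  apply Submodule.neg_mem
  apply Submodule.sum_mem
  intro i hi
  apply Submodule.smul_mem
  apply Submodule.subset_span
  exact ⟨i, (Finset.mem_erase.1 hi).1, rfl⟩

/-- Let k be a field, S = k[x_0, …, x_r] graded by degree, 𝔪 = (x_0, …, x_r), M a finitely generated
ℤ-graded S-module and F a graded free resolution of M by free modules of finite rank with chosen
homogeneous bases, written as matrices d_i : F_{i+1} → F_i together with the images aug b ∈ M of the
basis of F_0. Then F is a minimal complex (every matrix entry lies in 𝔪) if and only if every map of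
the resolution carries its basis to an irredundant (minimal) family of generators of its image: for
each b, aug b is not in the S-span of the remaining aug b', and for each i and each column of d_i,
that column is not in the S-span of the remaining columns. -/
theorem result (k : Type u) [Field k] (r : ℕ)
    (M : Type u) [AddCommGroup M] [Module k M] [Module (MvPolynomial (Fin (r + 1)) k) M]
    [IsScalarTower k (MvPolynomial (Fin (r + 1)) k) M] [Module.Finite (MvPolynomial (Fin (r + 1)) k) M]
    (ℳ : ℤ → Submodule k M) [DirectSum.Decomposition ℳ] [SetLike.GradedSMul (GrSyz.stdGr k (Fin (r + 1))) ℳ]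
    (F : GrSyz.FreeRes (GrSyz.stdGr k (Fin (r + 1))) ℳ) :
    F.IsMinimal (GrSyz.irrel (GrSyz.stdGr k (Fin (r + 1)))).toIdeal ↔
      ((∀ b : Fin (F.rk 0), F.aug b ∉ Submodule.span (MvPolynomial (Fin (r + 1)) k) (F.aug '' {b' | b' ≠ b})) ∧
        ∀ (i : ℕ) (b : Fin (F.rk (i + 1))),
          (fun a => F.d i a b) ∉ Submodule.span (MvPolynomial (Fin (r + 1)) k) ((fun b' a => F.d i a b') '' {b' | b' ≠ b})) := by
  classical
  constructor
  · intro hF
    have hcomp : ∀ (i : ℕ) (w : Fin (F.rk (i + 1)) → MvPolynomial (Fin (r + 1)) k)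
        (j : Fin (F.rk i)), (F.d i).mulVec w j ∈
          (GrSyz.irrel (GrSyz.stdGr k (Fin (r + 1)))).toIdeal := by
      intro i w j
      rw [Matrix.mulVec, dotProduct]
      exact Ideal.sum_mem _ fun c _ => Ideal.mul_mem_right _ _ (hF i j c)
    constructor
    · intro b
      apply notMem_span_of_ker F.aug _ (one_notMem_irrel k (Fin (r + 1)))
      intro v hv j
      have hvker : v ∈ LinearMap.ker (Fintype.linearCombination (MvPolynomial (Fin (r + 1)) k)
          F.aug) := by
        rw [LinearMap.mem_ker, Fintype.linearCombination_apply]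
        exact hv
      rw [F.exact_zero] at hvker
      obtain ⟨w, rfl⟩ := hvker
      exact hcomp 0 w j
    · intro i b
      apply notMem_span_of_ker (fun b' a => F.d i a b') _ (one_notMem_irrel k (Fin (r + 1)))
      intro v hv j
      have hvker : v ∈ LinearMap.ker (Matrix.mulVecLin (F.d i)) := by
        rw [LinearMap.mem_ker, Matrix.mulVecLin_apply]
        funext a
        have := congrFun hv a
        simp only [Finset.sum_apply, Pi.smul_apply, smul_eq_mul, Pi.zero_apply] at this
        rw [Matrix.mulVec, dotProduct, Pi.zero_apply, ← this]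
        exact Finset.sum_congr rfl fun c _ => mul_comm _ _
      rw [F.exact_succ i] at hvker
      obtain ⟨w, rfl⟩ := hvker
      exact hcomp (i + 1) w j
  · rintro ⟨h0, h1⟩ i a b
    by_contra hnot
    have hu := isUnit_of_mem_stdGr_of_notMem_irrel k (Fin (r + 1)) _ _ (F.d_mem i a b) hnot
    -- the column `b` of `d i`
    have hcolrange : (fun a' => F.d i a' b) ∈ LinearMap.range (Matrix.mulVecLin (F.d i)) := by
      refine ⟨Pi.single b 1, ?_⟩
      rw [Matrix.mulVecLin_apply, Matrix.mulVec_single_one]
      rfl
    cases i with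
    | zero =>
      rw [← F.exact_zero, LinearMap.mem_ker, Fintype.linearCombination_apply] at hcolrange
      exact h0 a (mem_span_of_sum_eq_zero F.aug (fun a' => F.d 0 a' b) a hu hcolrange)
    | succ j =>
      rw [← F.exact_succ j, LinearMap.mem_ker, Matrix.mulVecLin_apply] at hcolrange
      refine h1 j a (mem_span_of_sum_eq_zero (fun b' a'' => F.d j a'' b')
        (fun a' => F.d (j + 1) a' b) a hu ?_)
      funext a''
      have := congrFun hcolrange a''
      rw [Matrix.mulVec, dotProduct, Pi.zero_apply] at this
      simp only [Finset.sum_apply, Pi.smul_apply, smul_eq_mul, Pi.zero_apply]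
      rw [← this]
      exact Finset.sum_congr rfl fun c _ => mul_comm _ _

end Groth.Agent.S15427
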