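import Groth.Statements.S15429
import Mathlib
import Groth.Agent.Lib.helper24.GrHilb

set_option autoImplicit false
universe u
open GrSyz

namespace Groth.Agent.S15429

namespace S15429aux
open Groth.Agent.Lib.helper24.GrHilb Polynomial

/-- the polynomial `x ↦ C(x + r, r)`. -/
noncomputable def Q (r : ℕ) : ℚ[X] :=
  C ((r.factorial : ℚ)⁻¹) * (ascPochhammer ℚ r).comp (X + 1)

theorem Q_eval (r : ℕ) (n : ℤ) (hn : -(r : ℤ) ≤ n) : (Q r).eval (n : ℚ) = (H r n : ℚ) := by
  unfold Q H
  rw [eval_mul, eval_C, eval_comp, eval_add, eval_X, eval_one]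
  split_ifs with h0
  · obtain ⟨N, rfl⟩ := Int.eq_ofNat_of_zero_le h0
    rw [Int.toNat_natCast]
    have h1 : (((N : ℤ) : ℚ) + 1) = ((N + 1 : ℕ) : ℚ) := by push_cast; ring
    rw [h1, ← ascPochhammer_eval_cast, ascPochhammer_nat_eq_ascFactorial,
      Nat.ascFactorial_eq_factorial_mul_choose, add_comm N r, Nat.choose_symm_add]
    push_cast
    have : (r.factorial : ℚ) ≠ 0 := by exact_mod_cast r.factorial_ne_zero
    field_simp
  · -- `n + 1 = -(j)` with `j < r`
    have hj : ∃ j : ℕ, j < r ∧ (n : ℚ) + 1 = -(j : ℚ) := by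
      refine ⟨(-n - 1).toNat, ?_, ?_⟩
      · omega
      · have : ((-n - 1).toNat : ℤ) = -n - 1 := Int.toNat_of_nonneg (by omega)
        have h2 : (((-n - 1).toNat : ℕ) : ℚ) = ((-n - 1 : ℤ) : ℚ) := by exact_mod_cast this
        rw [h2]
        push_cast
        ring
    obtain ⟨j, hjr, hj⟩ := hj
    rw [hj, ascPochhammer_eval_neg_coe_nat_of_lt hjr]
    simp

end S15429aux

/-- Let k be a field, S = k[x_0, …, x_r] graded by degree and M a ℤ-graded S-module with a finite graded
free resolution 0 → F_m → … → F_0 → M → 0 by free modules of finite rank with homogeneous bases, the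
basis vectors of F_i having degrees a_{i,b}. Then there is a polynomial P with rational
coefficients, the Hilbert polynomial of M, with dim_k M_d = P(d) for every integer d such that d ≥
a_{i,b} − r for all i and b. -/
theorem result (k : Type u) [Field k] (r : ℕ)
    (M : Type u) [AddCommGroup M] [Module k M] [Module (MvPolynomial (Fin (r + 1)) k) M]
    [IsScalarTower k (MvPolynomial (Fin (r + 1)) k) M] [Module.Finite (MvPolynomial (Fin (r + 1)) k) M]
    (ℳ : ℤ → Submodule k M) [DirectSum.Decomposition ℳ] [SetLike.GradedSMul (GrSyz.stdGr k (Fin (r + 1))) ℳ]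
    (F : GrSyz.FreeRes (GrSyz.stdGr k (Fin (r + 1))) ℳ) (m : ℕ) (hF : F.HasLengthLE m) :
    ∃ P : Polynomial ℚ, ∀ d : ℤ, (∀ (i : ℕ) (b : Fin (F.rk i)), F.deg i b - (r : ℤ) ≤ d) →
      ((Module.finrank k ↥(ℳ d) : ℤ) : ℚ) = P.eval (d : ℚ) := by
  refine ⟨∑ i ∈ Finset.range (m + 1), Polynomial.C ((-1 : ℚ) ^ i) *
    ∑ b : Fin (F.rk i), (S15429aux.Q r).comp (Polynomial.X - Polynomial.C ((F.deg i b : ℤ) : ℚ)),
    fun d hd => ?_⟩
  rw [Groth.Agent.Lib.helper24.GrHilb.hilbert ℳ F m hF d, Polynomial.eval_finsetSum]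
  push_cast
  refine Finset.sum_congr rfl fun i _ => ?_
  rw [Polynomial.eval_mul, Polynomial.eval_C, Polynomial.eval_finsetSum]
  congr 1
  refine Finset.sum_congr rfl fun b _ => ?_
  rw [Polynomial.eval_comp, Polynomial.eval_sub, Polynomial.eval_X, Polynomial.eval_C]
  have := S15429aux.Q_eval r (d - F.deg i b) (by have := hd i b; omega)
  rw [← this]
  push_cast
  rfl

end Groth.Agent.S15429
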