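import Groth.Statements.S1543
import Mathlib
import Groth.Agent.S1544

set_option autoImplicit false
universe u
open CategoryTheory CategoryTheory.Limits AlgebraicGeometry
open Variety

namespace Groth.Agent.S1543
attribute [local instance] Curv2.stalkAlgebra


open TensorProduct in
theorem isReduced_tensorProduct_of_jointly_injective {k : Type*} [Field k] (A K : Type*) [CommRing A]
    [Field K] [Algebra k A] [Algebra k K] {I : Type*} (B : I → Type*) [∀ i, CommRing (B i)]
    [∀ i, Algebra k (B i)] (φ : ∀ i, A →ₐ[k] B i)
    (hinj : ∀ a : A, (∀ i, φ i a = 0) → a = 0)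
    (hred : ∀ i, _root_.IsReduced (B i ⊗[k] K)) : _root_.IsReduced (A ⊗[k] K) := by
  classical
  constructor
  intro y hy
  let b := Module.Free.chooseBasis k K
  have hnat : ∀ (i : I) (z : A ⊗[k] K) (j),
      (TensorProduct.equivFinsuppOfBasisRight b (Algebra.TensorProduct.map (φ i) (AlgHom.id k K) z)) j =
        φ i ((TensorProduct.equivFinsuppOfBasisRight b z) j) := by
    intro i z j
    induction z using TensorProduct.induction_on with
    | zero => simp
    | tmul m n =>
      rw [Algebra.TensorProduct.map_tmul, TensorProduct.equivFinsuppOfBasisRight_apply_tmul_apply,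
        TensorProduct.equivFinsuppOfBasisRight_apply_tmul_apply, map_smul]
      rfl
    | add z w hz hw =>
      rw [map_add, map_add, map_add, Finsupp.add_apply, Finsupp.add_apply, hz, hw, map_add]
  have hzero : ∀ i, Algebra.TensorProduct.map (φ i) (AlgHom.id k K) y = 0 := by
    intro i
    haveI := hred i
    exact (hy.map (Algebra.TensorProduct.map (φ i) (AlgHom.id k K))).eq_zero
  apply (TensorProduct.equivFinsuppOfBasisRight (M := A) b).injective
  rw [map_zero]
  ext j
  apply hinj
  intro i
  rw [← hnat, hzero, map_zero]
  rfl


theorem eq_of_specializes_of_closure_mem {T : Type*} [TopologicalSpace T] [T0Space T] {y y' : T}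
    (hy : closure {y} ∈ irreducibleComponents T) (h : y' ⤳ y) : y' = y := by
  have h1 : closure {y} ⊆ closure {y'} := specializes_iff_closure_subset.1 h
  have h2 : closure {y'} ⊆ closure {y} := hy.2 isIrreducible_singleton.closure h1
  exact (h.antisymm (specializes_iff_closure_subset.2 h2)).eq

theorem exists_maximal_generization {T : Type*} [TopologicalSpace T] [QuasiSober T] [T0Space T] (y : T) :
    ∃ y' : T, y' ⤳ y ∧ closure {y'} ∈ irreducibleComponents T := by
  have hirr : IsIrreducible (irreducibleComponent y) := isIrreducible_irreducibleComponent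
  have hcl : IsClosed (irreducibleComponent y) := isClosed_irreducibleComponent
  obtain ⟨η, hη⟩ := QuasiSober.sober hirr hcl
  have hcl' : closure {η} = irreducibleComponent y := hη.def
  refine ⟨η, ?_, ?_⟩
  · rw [specializes_iff_mem_closure, hcl']
    exact mem_irreducibleComponent
  · rw [hcl']
    exact irreducibleComponent_mem_irreducibleComponents y

/-- In a reduced scheme, an element of `𝒪_{X,x}` vanishing in the local rings of all generic points
specializing to `x` is zero. -/
theorem eq_zero_of_stalkSpecializes_eq_zero (X : Scheme.{u}) [IsReduced X] (x : X)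
    (a : X.presheaf.stalk x)
    (ha : ∀ (η : X) (hη : η ⤳ x), closure ({η} : Set X) ∈ irreducibleComponents (X : Type u) →
      (X.presheaf.stalkSpecializes hη).hom a = 0) : a = 0 := by
  have hnil : a ∈ nilradical (X.presheaf.stalk x) := by
    rw [nilradical, ← Ideal.sInf_minimalPrimes, Ideal.mem_sInf]
    intro 𝔭 h𝔭
    haveI : 𝔭.IsPrime := h𝔭.1.1
    let j := X.fromSpecStalk x
    let t : Spec (X.presheaf.stalk x) := ⟨𝔭, inferInstance⟩
    let η := j t
    have hηx : η ⤳ x := by
      have : η ∈ Set.range j := ⟨t, rfl⟩
      rw [Scheme.range_fromSpecStalk] at this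
      exact this
    have hmax : ∀ y : X, y ⤳ η → y = η := by
      intro y hy
      have hyx : y ⤳ x := hy.trans hηx
      have : y ∈ Set.range j := by rw [Scheme.range_fromSpecStalk]; exact hyx
      obtain ⟨t', rfl⟩ := this
      have h1 : t' ⤳ t := (j.isEmbedding.isInducing.specializes_iff).mp hy
      have h2 : t'.asIdeal ≤ 𝔭 := (PrimeSpectrum.le_iff_specializes t' t).mpr h1
      have h3 : t'.asIdeal = 𝔭 := le_antisymm h2 (h𝔭.2 ⟨t'.isPrime, bot_le⟩ h2)
      have h4 : t' = t := PrimeSpectrum.ext h3
      rw [h4]
    have hηgen : closure ({η} : Set X) ∈ irreducibleComponents (X : Type u) := by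
      obtain ⟨η', hη'η, hη'⟩ := exists_maximal_generization η
      rw [← hmax η' hη'η]
      exact hη'
    have h0 := ha η hηx hηgen
    have hcomp := Scheme.SpecMap_stalkSpecializes_fromSpecStalk (X := X) hηx
    have hpt : Spec.map (X.presheaf.stalkSpecializes hηx)
        (IsLocalRing.closedPoint (X.presheaf.stalk η)) = t := by
      apply j.isEmbedding.injective
      show (Spec.map (X.presheaf.stalkSpecializes hηx) ≫ X.fromSpecStalk x)
        (IsLocalRing.closedPoint (X.presheaf.stalk η)) = η
      rw [hcomp]
      exact Scheme.fromSpecStalk_closedPoint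
    have hideal : (IsLocalRing.maximalIdeal (X.presheaf.stalk η)).comap
        (X.presheaf.stalkSpecializes hηx).hom = 𝔭 := congrArg PrimeSpectrum.asIdeal hpt
    rw [← hideal, Ideal.mem_comap, h0]
    exact Ideal.zero_mem _
  have hred : _root_.IsReduced (X.presheaf.stalk x) := inferInstance
  exact (nilradical_eq_bot_iff.mpr hred) ▸ hnil |> fun h => by simpa using h

/-- A reduced scheme over k which is geometrically reduced at every generic point of an irreducible
component is geometrically reduced over k. -/
theorem result (k : Type u) [Field k] (X : Scheme.{u}) [X.Over (Spec (CommRingCat.of k))] [IsReduced X]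
    (h : ∀ Z ∈ irreducibleComponents (X : Type u), ∀ η : X, IsGenericPoint η Z → Curv2.IsGeomReducedAt k X η) :
    GeometricallyReduced (X ↘ (Spec (CommRingCat.of k))) := by
  apply Groth.Agent.S1544.geometricallyReduced_of_geomReducedAt
  intro x
  rw [Groth.Agent.S1541.result, Algebra.isGeometricallyReduced_field_iff]
  let I := {η : X // η ⤳ x ∧ closure ({η} : Set X) ∈ irreducibleComponents (X : Type u)}
  let φ : ∀ i : I, X.presheaf.stalk x →ₐ[k] X.presheaf.stalk i.1 := fun i =>
    { (X.presheaf.stalkSpecializes i.2.1).hom with
      commutes' := by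
        intro r
        show (X.presheaf.stalkSpecializes i.2.1).hom
          ((X.presheaf.germ ⊤ x trivial).hom _) = (X.presheaf.germ ⊤ i.1 trivial).hom _
        rw [← CommRingCat.comp_apply, TopCat.Presheaf.germ_stalkSpecializes] }
  have h1 : _root_.IsReduced (TensorProduct k (X.presheaf.stalk x) (AlgebraicClosure k)) := by
    refine isReduced_tensorProduct_of_jointly_injective (X.presheaf.stalk x) (AlgebraicClosure k)
      (fun i : I => X.presheaf.stalk i.1) φ ?_ ?_
    · intro a ha
      apply eq_zero_of_stalkSpecializes_eq_zero X x a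
      intro η hη hgen
      exact ha ⟨η, hη, hgen⟩
    · intro i
      haveI : Algebra.IsGeometricallyReduced k (X.presheaf.stalk i.1) :=
        (Groth.Agent.S1541.result k X i.1).mp
          (h _ i.2.2 i.1 isGenericPoint_closure)
      exact Groth.Agent.Lib.helper7.GeomRed2.isReduced_tensorProduct (X.presheaf.stalk i.1)
        (AlgebraicClosure k)
  exact isReduced_of_injective
    (Algebra.TensorProduct.comm k (AlgebraicClosure k) (X.presheaf.stalk x)).toAlgHom
    (AlgEquiv.injective _)

end Groth.Agent.S1543
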