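import Groth.Statements.S15430
import Mathlib
import Groth.Agent.Lib.helper24.GrMinRes2

set_option autoImplicit false
universe u
open GrSyz

namespace Groth.Agent.S15430

namespace Groth.Agent.S15430.Aux
open CategoryTheory

/-- dimension shifting along a surjection from a finite free module -/
theorem pd_shift {R : Type u} [CommRing R] {m : ℕ} {N : Type u} [AddCommGroup N] [Module R N]
    (p : (Fin m → R) →ₗ[R] N) (hp : Function.Surjective p) (n : ℕ) :
    HasProjectiveDimensionLE (ModuleCat.of R N) (n + 1) ↔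
      HasProjectiveDimensionLE (ModuleCat.of R ↥(LinearMap.ker p)) n := by
  have hS := LinearMap.shortExact_shortComplexKer hp
  have hproj : Projective (ModuleCat.of R (Fin m → R)) :=
    (IsProjective.iff_projective _).mp inferInstance
  exact hS.hasProjectiveDimensionLT_X₃_iff n hproj

theorem pd_shift' {R : Type u} [CommRing R] {m : ℕ} {N : Type u} [AddCommGroup N] [Module R N]
    (p : (Fin m → R) →ₗ[R] N) (hp : Function.Surjective p)
    (K : Submodule R (Fin m → R)) (hK : LinearMap.ker p = K) (n : ℕ) :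
    HasProjectiveDimensionLE (ModuleCat.of R N) (n + 1) ↔
      HasProjectiveDimensionLE (ModuleCat.of R ↥K) n := by
  subst hK
  exact pd_shift p hp n

theorem proj_iff {R : Type u} [CommRing R] (N : Type u) [AddCommGroup N] [Module R N] :
    HasProjectiveDimensionLE (ModuleCat.of R N) 0 ↔ Module.Projective R N := by
  rw [← projective_iff_hasProjectiveDimensionLE_zero]
  exact (IsProjective.iff_projective N).symm

theorem matrix_eq_zero_of_projective {R : Type u} [CommRing R] [IsNoetherianRing R] [IsDomain R]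
    (𝔪 : Ideal R) (h𝔪 : 𝔪 ≠ ⊤) {m m' : ℕ} {W : Type u} [AddCommGroup W] [Module R W]
    [Module.Projective R W]
    (p : (Fin m → R) →ₗ[R] W) (hp : Function.Surjective p)
    (D : Matrix (Fin m) (Fin m') R) (hD : ∀ a b, D a b ∈ 𝔪)
    (hker : LinearMap.ker p = LinearMap.range (Matrix.mulVecLin D)) : D = 0 := by
  classical
  obtain ⟨s, hs⟩ := Module.projective_lifting_property p LinearMap.id hp
  have hps : ∀ w, p (s w) = w := fun w => LinearMap.congr_fun hs w
  have hmem : ∀ a : Fin m, (Pi.single a 1 - s (p (Pi.single a 1)) : Fin m → R) ∈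
      LinearMap.range (Matrix.mulVecLin D) := by
    intro a
    rw [← hker, LinearMap.mem_ker, map_sub, hps, sub_self]
  choose u hu using hmem
  let U : Matrix (Fin m') (Fin m) R := fun b' a => u a b'
  have key : ∀ z : Fin m → R, p z = 0 → D.mulVec (U.mulVec z) = z := by
    intro z hz
    have h1 : z = ∑ a, z a • (Pi.single a 1 : Fin m → R) := by
      ext i; simp [Finset.sum_apply, Pi.single_apply]
    have h2 : U.mulVec z = ∑ a, z a • u a := by
      ext b'; simp [Matrix.mulVec, dotProduct, U, Finset.sum_apply, mul_comm]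
    have h3 : ∀ a, D.mulVec (u a) = Pi.single a 1 - s (p (Pi.single a 1)) := fun a => hu a
    have h4 : ∑ a, z a • s (p (Pi.single a 1)) = s (p z) := by
      conv_rhs => rw [h1]
      simp [map_sum]
    rw [h2, Matrix.mulVec_sum]
    simp_rw [Matrix.mulVec_smul, h3, smul_sub, Finset.sum_sub_distrib]
    rw [← h1, h4, hz, map_zero, sub_zero]
  have hDUD : D * U * D = D := by
    have h : ∀ y, (D * U * D).mulVec y = D.mulVec y := by
      intro y
      rw [← Matrix.mulVec_mulVec, ← Matrix.mulVec_mulVec]
      apply key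
      have : D.mulVec y ∈ LinearMap.ker p := by rw [hker]; exact ⟨y, rfl⟩
      exact this
    ext a b
    have := congr_fun (h (Pi.single b 1)) a
    simpa [Matrix.mulVec_single_one] using this
  set C : Matrix (Fin m') (Fin m') R := U * D with hCdef
  have hDC : D * C = D := by rw [hCdef, ← Matrix.mul_assoc]; exact hDUD
  have hC : ∀ i j, C i j ∈ 𝔪 := by
    intro i j
    rw [hCdef, Matrix.mul_apply]
    exact Ideal.sum_mem _ fun a _ => Ideal.mul_mem_left _ _ (hD a j)
  have hCn : ∀ n : ℕ, ∀ i j, (C ^ n) i j ∈ 𝔪 ^ n := by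
    intro n
    induction n with
    | zero => intro i j; rw [pow_zero (𝔪), Ideal.one_eq_top]; exact Submodule.mem_top
    | succ n ih =>
      intro i j
      rw [pow_succ' C, pow_succ' 𝔪, Matrix.mul_apply]
      exact Ideal.sum_mem _ fun l _ => Ideal.mul_mem_mul (hC i l) (ih l j)
  have hDn : ∀ n : ℕ, D * C ^ n = D := by
    intro n
    induction n with
    | zero => simp
    | succ n ih => rw [pow_succ', ← Matrix.mul_assoc, hDC, ih]
  ext a b
  have hmem : D a b ∈ ⨅ n : ℕ, 𝔪 ^ n := by
    rw [Submodule.mem_iInf]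
    intro n
    rw [← hDn n, Matrix.mul_apply]
    exact Ideal.sum_mem _ fun l _ => Ideal.mul_mem_left _ _ (hCn n l b)
  rw [Ideal.iInf_pow_eq_bot_of_isDomain 𝔪 h𝔪] at hmem
  simpa using hmem

theorem rk_zero_of_range_top {R : Type u} [CommRing R] (𝔪 : Ideal R) (h𝔪 : 𝔪 ≠ ⊤) {m m' : ℕ}
    (D : Matrix (Fin m) (Fin m') R) (hD : ∀ a b, D a b ∈ 𝔪)
    (htop : LinearMap.range (Matrix.mulVecLin D) = ⊤) : m = 0 := by
  classical
  by_contra hm
  have a0 : Fin m := ⟨0, Nat.pos_of_ne_zero hm⟩
  have h1 : (Pi.single a0 1 : Fin m → R) ∈ LinearMap.range (Matrix.mulVecLin D) := by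
    rw [htop]; exact Submodule.mem_top
  obtain ⟨y, hy⟩ := h1
  have h2 := congr_fun hy a0
  rw [Matrix.mulVecLin_apply, Pi.single_eq_same] at h2
  apply h𝔪
  rw [Ideal.eq_top_iff_one, ← h2]
  show ∑ b, D a0 b * y b ∈ 𝔪
  exact Ideal.sum_mem _ fun b _ => Ideal.mul_mem_right _ _ (hD a0 b)

end Groth.Agent.S15430.Aux

open CategoryTheory in

/-- Let k be a field, S = k[x_0, …, x_r] graded by degree, 𝔪 = (x_0, …, x_r), M a finitely generated
ℤ-graded S-module and F a minimal graded free resolution of M by free modules of finite rank with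
homogeneous bases (all matrix entries in 𝔪). Then the length of F is the projective dimension of M:
for every natural number n, all terms F_i with i > n vanish if and only if M has projective
dimension at most n as an S-module (all Ext^i_S(M, −) with i > n vanish). -/
theorem result (k : Type u) [Field k] (r : ℕ)
    (M : Type u) [AddCommGroup M] [Module k M] [Module (MvPolynomial (Fin (r + 1)) k) M]
    [IsScalarTower k (MvPolynomial (Fin (r + 1)) k) M] [Module.Finite (MvPolynomial (Fin (r + 1)) k) M]
    (ℳ : ℤ → Submodule k M) [DirectSum.Decomposition ℳ] [SetLike.GradedSMul (GrSyz.stdGr k (Fin (r + 1))) ℳ]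
    (F : GrSyz.FreeRes (GrSyz.stdGr k (Fin (r + 1))) ℳ) (hF : F.IsMinimal (GrSyz.irrel (GrSyz.stdGr k (Fin (r + 1)))).toIdeal) (n : ℕ) :
    F.HasLengthLE n ↔ CategoryTheory.HasProjectiveDimensionLE (ModuleCat.of (MvPolynomial (Fin (r + 1)) k) M) n := by
  classical
  have h𝔪 : (GrSyz.irrel (GrSyz.stdGr k (Fin (r + 1)))).toIdeal ≠ ⊤ := by
    intro h
    have h1 : (1 : MvPolynomial (Fin (r + 1)) k) ∈ (GrSyz.irrel (GrSyz.stdGr k (Fin (r + 1)))).toIdeal := by
      rw [h]; exact Submodule.mem_top
    have := Groth.Agent.Lib.helper24.GrMinRes.constantCoeff_of_mem_irrel h1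
    simp at this
  -- syzygy chain
  have claim0 : ∀ n : ℕ, HasProjectiveDimensionLE (ModuleCat.of (MvPolynomial (Fin (r + 1)) k) M) (n + 1) ↔
      HasProjectiveDimensionLE (ModuleCat.of (MvPolynomial (Fin (r + 1)) k)
        ↥(LinearMap.range (Matrix.mulVecLin (F.d 0)))) n := fun n =>
    Groth.Agent.S15430.Aux.pd_shift' (Fintype.linearCombination _ F.aug) F.aug_surjective _ F.exact_zero n
  have claimS : ∀ i n : ℕ, HasProjectiveDimensionLE (ModuleCat.of (MvPolynomial (Fin (r + 1)) k)
        ↥(LinearMap.range (Matrix.mulVecLin (F.d i)))) (n + 1) ↔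
      HasProjectiveDimensionLE (ModuleCat.of (MvPolynomial (Fin (r + 1)) k)
        ↥(LinearMap.range (Matrix.mulVecLin (F.d (i + 1))))) n := fun i n =>
    Groth.Agent.S15430.Aux.pd_shift' (Matrix.mulVecLin (F.d i)).rangeRestrict
      (LinearMap.surjective_rangeRestrict _) _
      ((LinearMap.ker_rangeRestrict _).trans (F.exact_succ i)) n
  have chain : ∀ i n : ℕ, HasProjectiveDimensionLE (ModuleCat.of (MvPolynomial (Fin (r + 1)) k) M) (i + 1 + n) ↔
      HasProjectiveDimensionLE (ModuleCat.of (MvPolynomial (Fin (r + 1)) k)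
        ↥(LinearMap.range (Matrix.mulVecLin (F.d i)))) n := by
    intro i
    induction i with
    | zero => intro n; rw [show 0 + 1 + n = n + 1 by ring]; exact claim0 n
    | succ i ih =>
      intro n
      rw [show i + 1 + 1 + n = i + 1 + (n + 1) by ring, ih (n + 1)]
      exact claimS i n
  -- propagation of vanishing
  have step1 : ∀ i : ℕ, LinearMap.ker (Matrix.mulVecLin (F.d i)) = ⊤ → F.rk (i + 1) = 0 := by
    intro i hi
    rw [F.exact_succ i] at hi
    exact Groth.Agent.S15430.Aux.rk_zero_of_range_top _ h𝔪 (F.d (i + 1)) (hF (i + 1)) hi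
  have step2 : ∀ i : ℕ, F.rk i = 0 → LinearMap.ker (Matrix.mulVecLin (F.d i)) = ⊤ := by
    intro i hi
    rw [eq_top_iff]
    intro x _
    rw [LinearMap.mem_ker]
    funext a
    exact absurd a.2 (by omega)
  have prop : LinearMap.ker (Matrix.mulVecLin (F.d n)) = ⊤ → F.HasLengthLE n := by
    intro h0
    have : ∀ j : ℕ, LinearMap.ker (Matrix.mulVecLin (F.d (n + j))) = ⊤ := by
      intro j
      induction j with
      | zero => exact h0
      | succ j ih => exact step2 _ (step1 _ ih)
    intro i hi
    obtain ⟨j, rfl⟩ : ∃ j, i = n + j + 1 := ⟨i - n - 1, by omega⟩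
    exact step1 _ (this j)
  have ker_top_of_zero : F.d n = 0 → LinearMap.ker (Matrix.mulVecLin (F.d n)) = ⊤ := by
    intro h
    rw [h, eq_top_iff]
    intro x _
    rw [LinearMap.mem_ker]
    simp
  have range_bot : ∀ i : ℕ, F.rk (i + 1) = 0 → LinearMap.range (Matrix.mulVecLin (F.d i)) = ⊥ := by
    intro i hi
    rw [eq_bot_iff]
    rintro x ⟨y, rfl⟩
    have : y = 0 := by funext b; exact absurd b.2 (by omega)
    rw [this, map_zero]
    exact Submodule.zero_mem _
  constructor
  · intro hlen
    have hrk : F.rk (n + 1) = 0 := hlen (n + 1) (Nat.lt_succ_self n)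
    cases n with
    | zero =>
      rw [Groth.Agent.S15430.Aux.proj_iff]
      have hinj : Function.Injective (Fintype.linearCombination (MvPolynomial (Fin (r + 1)) k) F.aug) := by
        rw [← LinearMap.ker_eq_bot, F.exact_zero]
        exact range_bot 0 hrk
      exact Module.Projective.of_equiv (LinearEquiv.ofBijective _ ⟨hinj, F.aug_surjective⟩)
    | succ i =>
      rw [show i + 1 = i + 1 + 0 by ring, chain i 0, Groth.Agent.S15430.Aux.proj_iff]
      have hinj : Function.Injective (Matrix.mulVecLin (F.d i)).rangeRestrict := by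
        rw [← LinearMap.ker_eq_bot, LinearMap.ker_rangeRestrict, F.exact_succ i]
        exact range_bot (i + 1) hrk
      exact Module.Projective.of_equiv
        (LinearEquiv.ofBijective _ ⟨hinj, LinearMap.surjective_rangeRestrict _⟩)
  · intro hpd
    apply prop
    apply ker_top_of_zero
    cases n with
    | zero =>
      rw [Groth.Agent.S15430.Aux.proj_iff] at hpd
      exact Groth.Agent.S15430.Aux.matrix_eq_zero_of_projective _ h𝔪
        (Fintype.linearCombination _ F.aug) F.aug_surjective (F.d 0) (hF 0) F.exact_zero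
    | succ i =>
      rw [show i + 1 = i + 1 + 0 by ring, chain i 0, Groth.Agent.S15430.Aux.proj_iff] at hpd
      exact Groth.Agent.S15430.Aux.matrix_eq_zero_of_projective _ h𝔪
        (Matrix.mulVecLin (F.d i)).rangeRestrict (LinearMap.surjective_rangeRestrict _)
        (F.d (i + 1)) (hF (i + 1)) ((LinearMap.ker_rangeRestrict _).trans (F.exact_succ i))

end Groth.Agent.S15430
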