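import Groth.Statements.S15431
import Mathlib

set_option autoImplicit false
universe u
open GrSyz

namespace Groth.Agent.S15431

/-- elements of the irrelevant ideal have no constant term -/
theorem constantCoeff_eq_zero_of_mem_irrel (k : Type u) [Field k] (σ : Type) (p : MvPolynomial σ k)
    (hp : p ∈ (GrSyz.irrel (GrSyz.stdGr k σ)).toIdeal) : MvPolynomial.constantCoeff p = 0 := by
  have hle : (GrSyz.irrel (GrSyz.stdGr k σ)).toIdeal ≤
      RingHom.ker (MvPolynomial.constantCoeff : MvPolynomial σ k →+* k) := by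
    show Ideal.span _ ≤ _
    rw [Ideal.span_le]
    rintro q ⟨n, hn, hq⟩
    rw [SetLike.mem_coe, RingHom.mem_ker]
    rw [GrSyz.mem_stdGr_iff] at hq
    by_contra hne
    have := hq (d := 0) hne
    rw [map_zero] at this
    omega
  exact hle hp

/-- a homogeneous element of degree `≤ 0` in the irrelevant ideal is zero -/
theorem eq_zero_of_mem_stdGr_of_mem_irrel (k : Type u) [Field k] (σ : Type) (p : MvPolynomial σ k)
    (m : ℤ) (hm : m ≤ 0) (hpm : p ∈ GrSyz.stdGr k σ m)
    (hp : p ∈ (GrSyz.irrel (GrSyz.stdGr k σ)).toIdeal) : p = 0 := by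
  classical
  ext d
  rw [MvPolynomial.coeff_zero]
  by_contra hne
  rw [GrSyz.mem_stdGr_iff] at hpm
  have hw := hpm hne
  have hd : d = 0 := by
    ext i
    by_contra hi
    have hpos : 0 < d i := Nat.pos_of_ne_zero hi
    have : (0 : ℤ) < Finsupp.weight (fun _ : σ => (1 : ℤ)) d := by
      rw [Finsupp.weight_apply, Finsupp.sum]
      apply Finset.sum_pos'
      · intro j _; positivity
      · refine ⟨i, Finsupp.mem_support_iff.2 hi, ?_⟩
        simp only [mul_one, nsmul_eq_mul]
        exact_mod_cast hpos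
    omega
  subst hd
  exact hne (constantCoeff_eq_zero_of_mem_irrel k σ p hp)

/-- Let k be a field, S = k[x_0, …, x_r] graded by degree, 𝔪 = (x_0, …, x_r), M a finitely generated
ℤ-graded S-module and F a minimal graded free resolution of M by free modules of finite rank with
homogeneous bases (all matrix entries in 𝔪), so that its basis degrees give the graded Betti
numbers. If for some i the graded Betti numbers β_{i,j} vanish for all j < d, that is every basis
vector of F_i has degree at least d, then β_{i+1,j+1} = 0 for all j < d: every basis vector of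
F_{i+1} has degree at least d + 1. -/
theorem result (k : Type u) [Field k] (r : ℕ)
    (M : Type u) [AddCommGroup M] [Module k M] [Module (MvPolynomial (Fin (r + 1)) k) M]
    [IsScalarTower k (MvPolynomial (Fin (r + 1)) k) M] [Module.Finite (MvPolynomial (Fin (r + 1)) k) M]
    (ℳ : ℤ → Submodule k M) [DirectSum.Decomposition ℳ] [SetLike.GradedSMul (GrSyz.stdGr k (Fin (r + 1))) ℳ]
    (F : GrSyz.FreeRes (GrSyz.stdGr k (Fin (r + 1))) ℳ) (hF : F.IsMinimal (GrSyz.irrel (GrSyz.stdGr k (Fin (r + 1)))).toIdeal) (i : ℕ) (d : ℤ)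
    (h : ∀ a : Fin (F.rk i), d ≤ F.deg i a) (b : Fin (F.rk (i + 1))) :
    d + 1 ≤ F.deg (i + 1) b := by
  classical
  by_contra hlt
  push Not at hlt
  have hcol : ∀ a : Fin (F.rk i), F.d i a b = 0 := by
    intro a
    apply eq_zero_of_mem_stdGr_of_mem_irrel k (Fin (r + 1)) _ (F.deg (i + 1) b - F.deg i a)
    · have := h a; omega
    · exact F.d_mem i a b
    · exact hF i a b
  have hker : (Pi.single b 1 : Fin (F.rk (i + 1)) → MvPolynomial (Fin (r + 1)) k) ∈
      LinearMap.ker (Matrix.mulVecLin (F.d i)) := by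
    rw [LinearMap.mem_ker, Matrix.mulVecLin_apply, Matrix.mulVec_single_one]
    funext a
    exact hcol a
  rw [F.exact_succ i] at hker
  obtain ⟨v, hv⟩ := hker
  have hvb := congrFun hv b
  rw [Matrix.mulVecLin_apply, Pi.single_eq_same] at hvb
  have hmem : (F.d (i + 1)).mulVec v b ∈
      (GrSyz.irrel (GrSyz.stdGr k (Fin (r + 1)))).toIdeal := by
    rw [Matrix.mulVec, dotProduct]
    exact Ideal.sum_mem _ fun c _ => Ideal.mul_mem_right _ _ (hF (i + 1) b c)
  rw [hvb] at hmem
  have := constantCoeff_eq_zero_of_mem_irrel k (Fin (r + 1)) 1 hmem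
  rw [map_one] at this
  exact one_ne_zero this

end Groth.Agent.S15431
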