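import Groth.Statements.S15436
import Mathlib
import Groth.Agent.Lib.helper24.GrMinRes2
import Groth.Agent.Lib.helper21.TorLib

set_option autoImplicit false
universe u
open GrSyz

namespace Groth.Agent.S15436

namespace Groth.Agent.S15436.Aux
open CategoryTheory MonoidalCategory Groth.Agent.H21.TorLib TensorProduct

theorem lTensor_subtype_zero {R : Type u} [CommRing R] (𝔪 : Ideal R) {m : ℕ}
    (K : Submodule R (Fin m → R))
    (hK : ∀ x ∈ K, ∀ a, x a ∈ 𝔪) : LinearMap.lTensor (R ⧸ 𝔪) K.subtype = 0 := by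
  classical
  apply TensorProduct.ext'
  intro q z
  rw [LinearMap.lTensor_tmul, LinearMap.zero_apply, Submodule.subtype_apply]
  have h1 : (z : Fin m → R) = ∑ a, (z : Fin m → R) a • (Pi.single a 1 : Fin m → R) := by
    ext i; simp [Finset.sum_apply, Pi.single_apply]
  rw [h1, TensorProduct.tmul_sum]
  refine Finset.sum_eq_zero fun a _ => ?_
  rw [TensorProduct.tmul_smul, TensorProduct.smul_tmul']
  have : (z : Fin m → R) a • q = 0 := by
    rw [Algebra.smul_def, Ideal.Quotient.algebraMap_eq,
      Ideal.Quotient.eq_zero_iff_mem.2 (hK z z.2 a), zero_mul]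
  rw [this, TensorProduct.zero_tmul]

theorem length_congr {R : Type u} [CommRing R] {X : Type u} [AddCommGroup X] [Module R X]
    (Q : ModuleCat.{u} R) {K K' : Submodule R X} (h : K = K') (i : ℕ) :
    Module.length R (T i Q (ModuleCat.of R ↥K)) = Module.length R (T i Q (ModuleCat.of R ↥K')) := by
  subst h; rfl

theorem step {R : Type u} [CommRing R] (𝔪 : Ideal R) [h𝔪 : 𝔪.IsMaximal] {m : ℕ} {W : Type u}
    [AddCommGroup W] [Module R W]
    (p : (Fin m → R) →ₗ[R] W) (hp : Function.Surjective p)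
    (hK : ∀ x ∈ LinearMap.ker p, ∀ a, x a ∈ 𝔪) :
    (∀ n : ℕ, Module.length R (T (n + 1) (ModuleCat.of R (R ⧸ 𝔪)) (ModuleCat.of R W)) =
      Module.length R (T n (ModuleCat.of R (R ⧸ 𝔪)) (ModuleCat.of R ↥(LinearMap.ker p)))) ∧
    Module.length R (T 0 (ModuleCat.of R (R ⧸ 𝔪)) (ModuleCat.of R W)) = m := by
  set Q := ModuleCat.of R (R ⧸ 𝔪) with hQ
  set S := LinearMap.shortComplexKer p with hSdef
  have hS : S.ShortExact := LinearMap.shortExact_shortComplexKer hp
  have hproj : Projective S.X₂ := (IsProjective.iff_projective (Fin m → R)).mp inferInstance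
  have hz : Q ◁ S.f = 0 := by
    apply ModuleCat.hom_ext
    exact lTensor_subtype_zero 𝔪 _ hK
  refine ⟨fun n => ?_, ?_⟩
  · cases n with
    | zero =>
      obtain ⟨-, -, δ, w₁, w₂, e₁, e₂⟩ := les₂ Q S hS 0
      have hm : Mono δ := mono_of_exact _ δ w₁ e₁ (isZero_of_projective_right Q S.X₂ 0)
      have h0 : T₂ 0 Q S.f = 0 := by
        have := tor0Iso_naturality₂ Q S.f
        rw [hz, Limits.comp_zero] at this
        rw [← cancel_mono (tor0Iso Q S.X₂).hom, this, Limits.zero_comp]
      have he : Epi δ := e₂.epi_f h0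
      have : IsIso δ := isIso_of_mono_of_epi δ
      exact (asIso δ).toLinearEquiv.length_eq
    | succ n =>
      obtain ⟨e⟩ := nonempty_iso_shift₂ Q S hS n (isZero_of_projective_right Q S.X₂ n)
        (isZero_of_projective_right Q S.X₂ (n + 1))
      exact e.toLinearEquiv.length_eq
  · rw [(tor0Iso Q (ModuleCat.of R W)).toLinearEquiv.length_eq]
    have hinj : Function.Injective (LinearMap.lTensor (R ⧸ 𝔪) p) := by
      rw [← LinearMap.ker_eq_bot]
      have hex := lTensor_exact (R ⧸ 𝔪) (LinearMap.exact_subtype_ker_map p) hp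
      rw [hex.linearMap_ker_eq, lTensor_subtype_zero 𝔪 _ hK, LinearMap.range_zero]
    have hsurj := LinearMap.lTensor_surjective (R ⧸ 𝔪) hp
    let e1 := LinearEquiv.ofBijective _ ⟨hinj, hsurj⟩
    show Module.length R ((R ⧸ 𝔪) ⊗[R] W) = m
    have : IsSimpleModule R (R ⧸ 𝔪) := isSimpleModule_iff_isCoatom.mpr (Ideal.isMaximal_def.mp h𝔪)
    rw [← e1.length_eq, (TensorProduct.piScalarRight R R (R ⧸ 𝔪) (Fin m)).length_eq,
      Module.length_pi_of_fintype]
    simp [Module.length_eq_one]

end Groth.Agent.S15436.Aux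

open CategoryTheory Groth.Agent.H21.TorLib Groth.Agent.Lib.helper24.GrMinRes in

/-- Let k be a field, S = k[x_0, …, x_r] graded by degree, 𝔪 = (x_0, …, x_r), M a finitely generated
ℤ-graded S-module and F a minimal graded free resolution of M by free modules of finite rank with
homogeneous bases (all matrix entries in 𝔪). Then for every i the rank of F_i (the number of
elements of a minimal generating set of the i-th syzygy module) equals the length, i.e. the
dimension over k = S/𝔪, of Tor_i^S(S/𝔪, M), where Tor_i is the i-th left derived functor of S/𝔪 ⊗_S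
− on S-modules. (The published statement is the degree-by-degree refinement: F_i has exactly dim_k
Tor_i^S(k, M)_j basis vectors of degree j; the grading on Tor is not available here, so the counts
are summed over j.) -/
theorem result (k : Type u) [Field k] (r : ℕ)
    (M : Type u) [AddCommGroup M] [Module k M] [Module (MvPolynomial (Fin (r + 1)) k) M]
    [IsScalarTower k (MvPolynomial (Fin (r + 1)) k) M] [Module.Finite (MvPolynomial (Fin (r + 1)) k) M]
    (ℳ : ℤ → Submodule k M) [DirectSum.Decomposition ℳ] [SetLike.GradedSMul (GrSyz.stdGr k (Fin (r + 1))) ℳ]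
    (F : GrSyz.FreeRes (GrSyz.stdGr k (Fin (r + 1))) ℳ) (hF : F.IsMinimal (GrSyz.irrel (GrSyz.stdGr k (Fin (r + 1)))).toIdeal) (i : ℕ) :
    Module.length (MvPolynomial (Fin (r + 1)) k)
        (((CategoryTheory.Tor (ModuleCat.{u} (MvPolynomial (Fin (r + 1)) k)) i).obj
            (ModuleCat.of (MvPolynomial (Fin (r + 1)) k) ((MvPolynomial (Fin (r + 1)) k) ⧸ (GrSyz.irrel (GrSyz.stdGr k (Fin (r + 1)))).toIdeal))).obj
          (ModuleCat.of (MvPolynomial (Fin (r + 1)) k) M)) = (F.rk i : ℕ∞) := by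
  classical
  have h1not : (1 : MvPolynomial (Fin (r + 1)) k) ∉ (GrSyz.irrel (GrSyz.stdGr k (Fin (r + 1)))).toIdeal := by
    intro h1
    have := constantCoeff_of_mem_irrel h1
    simp at this
  haveI hmax : (GrSyz.irrel (GrSyz.stdGr k (Fin (r + 1)))).toIdeal.IsMaximal := by
    rw [Ideal.isMaximal_iff]
    refine ⟨h1not, fun J x hJ hx hxJ => ?_⟩
    obtain ⟨c, hc, hdec⟩ := exists_unit_of_notMem hx
    have hx0 : x - (DirectSum.decompose (GrSyz.stdGr k (Fin (r + 1))) x 0 : MvPolynomial (Fin (r + 1)) k) ∈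
        (GrSyz.irrel (GrSyz.stdGr k (Fin (r + 1)))).toIdeal := by
      apply mem_irrel_of_decompose_zero
      rw [DirectSum.decompose_sub, DirectSum.sub_apply, DirectSum.decompose_coe,
        DirectSum.of_eq_same]
      simp
    have hcJ : (MvPolynomial.C c : MvPolynomial (Fin (r + 1)) k) ∈ J := by
      have := J.sub_mem hxJ (hJ hx0)
      rw [sub_sub_cancel, hdec] at this
      exact this
    have : (1 : MvPolynomial (Fin (r + 1)) k) = MvPolynomial.C c⁻¹ * MvPolynomial.C c := by
      rw [← map_mul, inv_mul_cancel₀ hc, map_one]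
    rw [this]
    exact J.mul_mem_left _ hcJ
  have hK0 : ∀ x ∈ LinearMap.ker (Fintype.linearCombination (MvPolynomial (Fin (r + 1)) k) F.aug),
      ∀ a, x a ∈ (GrSyz.irrel (GrSyz.stdGr k (Fin (r + 1)))).toIdeal := by
    intro x hx a
    rw [F.exact_zero] at hx
    obtain ⟨y, rfl⟩ := hx
    show ∑ b, F.d 0 a b * y b ∈ _
    exact Ideal.sum_mem _ fun b _ => Ideal.mul_mem_right _ _ (hF 0 a b)
  have hKS : ∀ j : ℕ, ∀ x ∈ LinearMap.ker (Matrix.mulVecLin (F.d j)).rangeRestrict,
      ∀ a, x a ∈ (GrSyz.irrel (GrSyz.stdGr k (Fin (r + 1)))).toIdeal := by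
    intro j x hx a
    rw [LinearMap.ker_rangeRestrict, F.exact_succ j] at hx
    obtain ⟨y, rfl⟩ := hx
    show ∑ b, F.d (j + 1) a b * y b ∈ _
    exact Ideal.sum_mem _ fun b _ => Ideal.mul_mem_right _ _ (hF (j + 1) a b)
  obtain ⟨s0a, s0b⟩ := Groth.Agent.S15436.Aux.step _ (Fintype.linearCombination _ F.aug)
    F.aug_surjective hK0
  have sS := fun j : ℕ => Groth.Agent.S15436.Aux.step _ (Matrix.mulVecLin (F.d j)).rangeRestrict
    (LinearMap.surjective_rangeRestrict _) (hKS j)
  have P : ∀ i j : ℕ, Module.length (MvPolynomial (Fin (r + 1)) k)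
      (T i (ModuleCat.of (MvPolynomial (Fin (r + 1)) k) ((MvPolynomial (Fin (r + 1)) k) ⧸ (GrSyz.irrel (GrSyz.stdGr k (Fin (r + 1)))).toIdeal))
        (ModuleCat.of (MvPolynomial (Fin (r + 1)) k) ↥(LinearMap.range (Matrix.mulVecLin (F.d j))))) =
      (F.rk (j + 1 + i) : ℕ∞) := by
    intro i
    induction i with
    | zero => intro j; exact (sS j).2
    | succ i ih =>
      intro j
      rw [(sS j).1 i, Groth.Agent.S15436.Aux.length_congr _
        ((LinearMap.ker_rangeRestrict _).trans (F.exact_succ j)) i, ih (j + 1)]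
      congr 2
      ring
  cases i with
  | zero => exact s0b
  | succ i =>
    show Module.length _ (T (i + 1) _ _) = _
    rw [s0a i, Groth.Agent.S15436.Aux.length_congr _ F.exact_zero i, P i 0]
    congr 2
    ring

end Groth.Agent.S15436
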