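import Groth.Statements.S15437
import Mathlib
import Groth.Agent.Lib.helper24.GrHilb

set_option autoImplicit false
universe u
open GrSyz

namespace Groth.Agent.S15437

namespace S15437aux
open Groth.Agent.Lib.helper24.GrHilb

/-- the binomial weight in the statement's form. -/
def h (r : ℕ) (j d : ℤ) : ℤ := if j ≤ d then ((Nat.choose (r + (d - j).toNat) r : ℕ) : ℤ) else 0

theorem h_eq (r : ℕ) (j d : ℤ) : h r j d = (H r (d - j) : ℤ) := by
  unfold h H
  simp only [sub_nonneg]
  split_ifs <;> simp

theorem h_self (r : ℕ) (j : ℤ) : h r j j = 1 := by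
  unfold h
  simp

theorem h_of_lt (r : ℕ) (j d : ℤ) (hjd : d < j) : h r j d = 0 := by
  unfold h
  rw [if_neg (not_le.2 hjd)]

end S15437aux

/-- Let k be a field, S = k[x_0, …, x_r] graded by degree and M a ℤ-graded S-module with a finite graded
free resolution F of length at most m by free modules of finite rank with homogeneous bases; write
β_{i,j} for the number of basis vectors of F_i of degree j (the graded Betti numbers when F is
minimal) and B_j = Σ_{i ≤ m} (−1)^i β_{i,j}. Then for every integer d, dim_k M_d = Σ_j B_j C(r + d −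
j, r), where a binomial with d < j counts as zero and only finitely many j contribute; and the B_j
are recovered from the Hilbert function by B_j = dim_k M_j − Σ_{n < j} B_n C(r + j − n, r). (Stated
for any finite graded free resolution; the published statement takes the minimal one.) -/
theorem result (k : Type u) [Field k] (r : ℕ)
    (M : Type u) [AddCommGroup M] [Module k M] [Module (MvPolynomial (Fin (r + 1)) k) M]
    [IsScalarTower k (MvPolynomial (Fin (r + 1)) k) M] [Module.Finite (MvPolynomial (Fin (r + 1)) k) M]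
    (ℳ : ℤ → Submodule k M) [DirectSum.Decomposition ℳ] [SetLike.GradedSMul (GrSyz.stdGr k (Fin (r + 1))) ℳ]
    (F : GrSyz.FreeRes (GrSyz.stdGr k (Fin (r + 1))) ℳ) (m : ℕ) (hF : F.HasLengthLE m) :
    (∀ d : ℤ, (Module.finrank k ↥(ℳ d) : ℤ) =
        ∑ᶠ j : ℤ, (∑ i ∈ Finset.range (m + 1), (-1 : ℤ) ^ i * (F.betti i j : ℤ)) *
          (if j ≤ d then ((Nat.choose (r + (d - j).toNat) r : ℕ) : ℤ) else 0)) ∧
      ∀ j : ℤ, (∑ i ∈ Finset.range (m + 1), (-1 : ℤ) ^ i * (F.betti i j : ℤ)) =
        (Module.finrank k ↥(ℳ j) : ℤ) -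
          ∑ᶠ n : ℤ, (if n < j then (∑ i ∈ Finset.range (m + 1), (-1 : ℤ) ^ i * (F.betti i n : ℤ)) * ((Nat.choose (r + (j - n).toNat) r : ℕ) : ℤ) else 0) := by
  classical
  -- notation
  set B : ℤ → ℤ := fun j => ∑ i ∈ Finset.range (m + 1), (-1 : ℤ) ^ i * (F.betti i j : ℤ) with hBdef
  let T : Finset ℤ := (Finset.range (m + 1)).biUnion (fun i => Finset.univ.image (F.deg i))
  have hbetti0 : ∀ i ∈ Finset.range (m + 1), ∀ j ∉ T, F.betti i j = 0 := by
    intro i hi j hj
    unfold GrSyz.FreeRes.betti
    rw [Finset.card_eq_zero, Finset.filter_eq_empty_iff]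
    intro b _ hb
    apply hj
    rw [Finset.mem_biUnion]
    exact ⟨i, hi, Finset.mem_image.2 ⟨b, Finset.mem_univ _, hb⟩⟩
  have hB0 : ∀ j ∉ T, B j = 0 := by
    intro j hj
    rw [hBdef]
    refine Finset.sum_eq_zero fun i hi => ?_
    rw [hbetti0 i hi j hj]
    simp
  -- regrouping for each i
  have hregroup : ∀ (d : ℤ) (i : ℕ), i ∈ Finset.range (m + 1) →
      ∑ b : Fin (F.rk i), (Groth.Agent.Lib.helper24.GrHilb.H r (d - F.deg i b) : ℤ) =
        ∑ j ∈ T, (F.betti i j : ℤ) * S15437aux.h r j d := by
    intro d i hi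
    have h1 := Finset.sum_comp (s := (Finset.univ : Finset (Fin (F.rk i))))
      (fun j : ℤ => S15437aux.h r j d) (F.deg i)
    simp only [S15437aux.h_eq] at h1
    rw [h1]
    have hsub : Finset.univ.image (F.deg i) ⊆ T := by
      intro j hj
      rw [Finset.mem_biUnion]
      exact ⟨i, hi, hj⟩
    rw [← Finset.sum_subset hsub]
    · refine Finset.sum_congr rfl fun j _ => ?_
      rw [nsmul_eq_mul, S15437aux.h_eq]
      rfl
    · intro j _ hj
      have : F.betti i j = 0 := by
        unfold GrSyz.FreeRes.betti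
        rw [Finset.card_eq_zero, Finset.filter_eq_empty_iff]
        intro b _ hb
        exact hj (Finset.mem_image.2 ⟨b, Finset.mem_univ _, hb⟩)
      rw [this]
      simp
  have hmain : ∀ d : ℤ, (Module.finrank k ↥(ℳ d) : ℤ) = ∑ j ∈ T, B j * S15437aux.h r j d := by
    intro d
    rw [Groth.Agent.Lib.helper24.GrHilb.hilbert ℳ F m hF d]
    rw [Finset.sum_congr rfl fun i hi => by rw [hregroup d i hi]]
    simp only [Finset.mul_sum]
    rw [Finset.sum_comm]
    refine Finset.sum_congr rfl fun j _ => ?_
    rw [hBdef]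
    simp only [Finset.sum_mul]
    refine Finset.sum_congr rfl fun i _ => ?_
    ring
  have hfin1 : ∀ d : ℤ, ∑ᶠ j : ℤ, B j * S15437aux.h r j d = ∑ j ∈ T, B j * S15437aux.h r j d := by
    intro d
    apply finsum_eq_sum_of_support_subset
    intro j hj
    by_contra hjT
    apply hj
    change B j * _ = 0
    rw [hB0 j hjT, zero_mul]
  refine ⟨fun d => ?_, fun j => ?_⟩
  · rw [hmain d, ← hfin1 d]
    rfl
  · have hfin2 : ∑ᶠ n : ℤ, (if n < j then B n * ((Nat.choose (r + (j - n).toNat) r : ℕ) : ℤ) else 0) =
        ∑ n ∈ T, (if n < j then B n * ((Nat.choose (r + (j - n).toNat) r : ℕ) : ℤ) else 0) := by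
      apply finsum_eq_sum_of_support_subset
      intro n hn
      by_contra hnT
      apply hn
      change (if n < j then _ else _) = 0
      rw [hB0 n hnT]
      simp
    change B j = _ - ∑ᶠ n : ℤ, (if n < j then B n * ((Nat.choose (r + (j - n).toNat) r : ℕ) : ℤ) else 0)
    rw [hfin2, hmain j]
    -- split the sum over T
    have hsplit : ∀ n ∈ T, B n * S15437aux.h r n j =
        (if n < j then B n * ((Nat.choose (r + (j - n).toNat) r : ℕ) : ℤ) else 0) +
          (if n = j then B j else 0) := by
      intro n _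
      rcases lt_trichotomy n j with h | h | h
      · rw [if_pos h, if_neg (ne_of_lt h), add_zero]
        unfold S15437aux.h
        rw [if_pos (le_of_lt h)]
      · subst h
        rw [if_neg (lt_irrefl _), if_pos rfl, zero_add, S15437aux.h_self, mul_one]
      · rw [if_neg (not_lt.2 (le_of_lt h)), if_neg (ne_of_gt h), add_zero,
          S15437aux.h_of_lt r n j h, mul_zero]
    rw [Finset.sum_congr rfl hsplit, Finset.sum_add_distrib, add_sub_cancel_left,
      Finset.sum_ite_eq' T j]
    split_ifs with hjT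
    · rfl
    · exact hB0 j hjT

end Groth.Agent.S15437
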