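import Groth.Statements.S15444
import Mathlib
import Groth.Agent.Lib.helper12.WeilPt

set_option autoImplicit false
universe u v
open CategoryTheory AlgebraicGeometry
open WeilCoh

namespace Groth.Agent.S15444


open Groth.Agent.Lib.helper12.WeilPt in
private lemma finrank_eq_one_of_bijective {A B : Type*} [CommRing A] [CommRing B] [Nontrivial A]
    (φ : A →+* B) (h : Function.Bijective φ) :
    letI := φ.toAlgebra; Module.finrank A B = 1 := by
  letI := φ.toAlgebra
  have hb : Function.Bijective (Algebra.linearMap A B) := h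
  rw [← (LinearEquiv.ofBijective (Algebra.linearMap A B) hb).finrank_eq, Module.finrank_self]

private lemma residueFieldMap_surjective_of_section {S X : Scheme.{u}} (g : S ⟶ X) (f : X ⟶ S)
    (h : g ≫ f = 𝟙 S) (s : S) :
    Function.Surjective (g.residueFieldMap s).hom := by
  have key : ∀ (e : S ⟶ S), e = 𝟙 S → Function.Bijective (e.residueFieldMap s).hom := by
    intro e he
    subst he
    rw [Scheme.residueFieldMap_id]
    exact Function.bijective_id
  have h1 := key (g ≫ f) h
  rw [Scheme.residueFieldMap_comp] at h1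
  intro y
  obtain ⟨z, hz⟩ := h1.2 y
  exact ⟨(f.residueFieldMap (g s)).hom z, hz⟩

/-- For a Weil cohomology theory H^* (coefficients in K of characteristic zero, on nonsingular connected
projective varieties over an algebraically closed field k), such a variety X and a closed point x ∈
X, one has Tr_X(cl(x)) = 1. -/
theorem result (k : Type u) [Field k] [IsAlgClosed k] (K : Type v) [Field K] [CharZero K]
    (T : WeilCoh.Theory k K) (X : WeilCoh.Var k) (x : ↥X.obj.left)
    (hx : IsClosed ({x} : Set ↥X.obj.left)) : T.tr X (T.cl X x) = 1 := by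
  classical
  haveI hsm : Smooth X.obj.hom := X.property.1
  haveI : LocallyOfFiniteType X.obj.hom := inferInstance
  let g0 : Spec (CommRingCat.of k) ⟶ X.obj.left := pointOfClosedPoint X.obj.hom x hx
  have hg0 : g0 ≫ X.obj.hom = 𝟙 _ := pointOfClosedPoint_comp X.obj.hom x hx
  let g : Groth.Agent.Lib.helper12.WeilPt.pt k ⟶ X :=
    ObjectProperty.homMk (Over.homMk g0 hg0)
  let s : (Groth.Agent.Lib.helper12.WeilPt.pt k).obj.left := IsLocalRing.closedPoint k
  have hsm_g : sm g = g0 := rfl
  have hgs : sm g s = x := by
    rw [hsm_g]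
    exact pointOfClosedPoint_apply X.obj.hom x hx s
  haveI hsub : Subsingleton (PrimeSpectrum k) := inferInstance
  have hp : pdim (Groth.Agent.Lib.helper12.WeilPt.pt k).obj.left s = 0 := by
    unfold pdim
    haveI : Subsingleton (Groth.Agent.Lib.helper12.WeilPt.pt k).obj.left := hsub
    exact Groth.Agent.Lib.helper12.WeilPt.natDim_of_subsingleton _
  have hone : (1 : T.H X) ∈ T.gr X (2 * (pdim (Groth.Agent.Lib.helper12.WeilPt.pt k).obj.left s : ℤ)) := by
    rw [hp]
    have h0 : (2 * ((0 : ℕ) : ℤ)) = 0 := by norm_num
    rw [h0]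
    exact (T.gradedMul X).toGradedOne.one_mem
  have hpush := T.cl_push g s 1 hone
  obtain ⟨hcl, htr⟩ := T.point (Groth.Agent.Lib.helper12.WeilPt.pt k)
    (Groth.Agent.Lib.helper12.WeilPt.dim_pt k)
  rw [hcl s, map_one, mul_one, htr, mul_one, hgs] at hpush
  have hdeg : (sm g).residueDegree s = 1 := by
    rw [hsm_g]
    have hsurj := residueFieldMap_surjective_of_section g0 X.obj.hom hg0 s
    have hinj : Function.Injective (g0.residueFieldMap s).hom :=
      (g0.residueFieldMap s).hom.injective
    exact finrank_eq_one_of_bijective (g0.residueFieldMap s).hom ⟨hinj, hsurj⟩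
  rw [hdeg, Nat.cast_one, one_mul] at hpush
  exact hpush.symm

end Groth.Agent.S15444
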