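import Groth.Statements.S15459
import Mathlib
import Groth.Agent.S15444

set_option autoImplicit false
universe u v
open CategoryTheory AlgebraicGeometry
open WeilCoh

namespace Groth.Agent.S15459


open Groth.Agent.Lib.helper12.WeilPt

theorem finrank_eq_one_of_bijective {A B : Type*} [CommRing A] [CommRing B] [Nontrivial A]
    (φ : A →+* B) (h : Function.Bijective φ) :
    letI := φ.toAlgebra; Module.finrank A B = 1 := by
  letI := φ.toAlgebra
  have hb : Function.Bijective (Algebra.linearMap A B) := h
  rw [← (LinearEquiv.ofBijective (Algebra.linearMap A B) hb).finrank_eq, Module.finrank_self]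

/-- Objects of `Var k` are separated over `Spec k`. -/
theorem isSeparated_of_var (k : Type u) [Field k] (X : WeilCoh.Var k) : IsSeparated X.obj.hom := by
  obtain ⟨n, i, hi, hcomp⟩ := X.property.2.1
  rw [← hcomp]
  infer_instance

/-- A point of a separated scheme over an algebraically closed field `k` whose residue field has
transcendence degree zero over the residue field of the image point is closed, of residue
degree one. -/
theorem closed_of_trdeg_zero (k : Type u) [Field k] [IsAlgClosed k] (X : Scheme.{u})
    (p : X ⟶ Spec (CommRingCat.of k)) [IsSeparated p] (x : X)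
    (htr : (letI := (p.residueFieldMap x).hom.toAlgebra
      Algebra.trdeg ((Spec (CommRingCat.of k)).residueField (p x)) (X.residueField x)) = 0) :
    IsClosed ({x} : Set X) ∧ p.residueDegree x = 1 := by
  letI := (p.residueFieldMap x).hom.toAlgebra
  have halg : Algebra.IsAlgebraic ((Spec (CommRingCat.of k)).residueField (p x))
      (X.residueField x) := trdeg_eq_zero_iff.mp htr
  have hy : IsClosed ({p x} : Set (Spec (CommRingCat.of k))) := by
    haveI : Subsingleton (Spec (CommRingCat.of k)) :=
      (inferInstance : Subsingleton (PrimeSpectrum k))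
    have h1 : ({p x} : Set (Spec (CommRingCat.of k))) = Set.univ :=
      Set.eq_univ_of_forall (fun y => Subsingleton.elim (p x) y ▸ Set.mem_singleton _)
    rw [h1]; exact isClosed_univ
  let e := residueFieldIsoBase (𝟙 (Spec (CommRingCat.of k))) (p x) hy
  haveI : IsAlgClosed ((Spec (CommRingCat.of k)).residueField (p x)) :=
    IsAlgClosed.of_ringEquiv _ _ e.symm.commRingCatIsoToRingEquiv
  have hI : Algebra.IsIntegral ((Spec (CommRingCat.of k)).residueField (p x))
      (X.residueField x) := inferInstance
  have hint : (p.residueFieldMap x).hom.IsIntegral := fun a => hI.isIntegral a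
  have hbij : Function.Bijective (p.residueFieldMap x).hom :=
    IsAlgClosed.ringHom_bijective_of_isIntegral _ hint
  refine ⟨?_, ?_⟩
  · have h1 : IsClosedImmersion (Spec.map (p.residueFieldMap x)) :=
      IsClosedImmersion.spec_of_surjective _ hbij.2
    have h2 : IsClosedImmersion ((Spec (CommRingCat.of k)).fromSpecResidueField (p x)) :=
      isClosed_singleton_iff_isClosedImmersion.mp hy
    have h3 : IsClosedImmersion (X.fromSpecResidueField x ≫ p) := by
      rw [← Scheme.Hom.SpecMap_residueFieldMap_fromSpecResidueField]
      infer_instance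
    exact isClosed_singleton_iff_isClosedImmersion.mpr
      (IsClosedImmersion.of_comp (X.fromSpecResidueField x) p)
  · exact finrank_eq_one_of_bijective (p.residueFieldMap x).hom hbij

/-- Points of δ-dimension zero on an object of `Var k` are closed of residue degree one. -/
theorem closed_of_delta_zero (k : Type u) [Field k] [IsAlgClosed k] (X : WeilCoh.Var k)
    (δ : ↥X.obj.left → ℤ) (hδ : Cyc.DeltaCompat X.obj.hom δ (fun _ => 0)) (x : X.obj.left)
    (hx : δ x = 0) : IsClosed ({x} : Set X.obj.left) ∧ X.obj.hom.residueDegree x = 1 := by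
  haveI := isSeparated_of_var k X
  obtain ⟨n, hn, hδn⟩ := hδ x
  have hn0 : n = 0 := by
    have : (n : ℤ) = 0 := by rw [hx] at hδn; simpa using hδn.symm
    exact_mod_cast this
  subst hn0
  refine closed_of_trdeg_zero k X.obj.left X.obj.hom x ?_
  rw [hn]; simp

/-- Support of a cycle on a quasi-compact object is finite. -/
theorem finite_support (k : Type u) [Field k] (X : WeilCoh.Var k) [QuasiCompact X.obj.hom]
    (α : AlgebraicCycle X.obj.left ℤ) : (Function.support (fun x => α x)).Finite := by
  haveI : CompactSpace X.obj.left := (quasiCompact_iff_compactSpace X.obj.hom).mp inferInstance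
  have := α.locallyFiniteSupport.finite_inter_support_of_isCompact (isCompact_univ)
  rw [Set.univ_inter] at this
  exact this

/-- The trace of the class of a zero-cycle is the sum of its coefficients. -/
theorem tr_clCyc (k : Type u) [Field k] [IsAlgClosed k] (K : Type v) [Field K] [CharZero K]
    (T : WeilCoh.Theory k K) (X : WeilCoh.Var k) [QuasiCompact X.obj.hom]
    (δ : ↥X.obj.left → ℤ) (hδ : Cyc.DeltaCompat X.obj.hom δ (fun _ => 0))
    (α : AlgebraicCycle X.obj.left ℤ) (hα : α ∈ Cyc.Zk X.obj.left δ 0) :
    T.tr X (T.clCyc X α) = ((∑ᶠ x : X.obj.left, α x : ℤ) : K) := by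
  have hfin := finite_support k X α
  have hfin' : (Function.support (fun ξ : X.obj.left => ((α ξ : ℤ) : K) • T.cl X ξ)).Finite := by
    refine hfin.subset ?_
    intro ξ hξ
    rw [Function.mem_support] at hξ ⊢
    intro h0
    apply hξ
    rw [h0, Int.cast_zero, zero_smul]
  have hterm : ∀ ξ : X.obj.left, T.tr X (((α ξ : ℤ) : K) • T.cl X ξ) = ((α ξ : ℤ) : K) := by
    intro ξ
    by_cases h0 : α ξ = 0
    · rw [h0, Int.cast_zero, zero_smul, map_zero]
    · have hδξ : δ ξ = 0 := by
        by_contra h
        exact h0 (hα ξ h)
      rw [map_smul, Groth.Agent.S15444.result k K T X ξ (closed_of_delta_zero k X δ hδ ξ hδξ).1,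
        smul_eq_mul, mul_one]
  have h1 : T.tr X (T.clCyc X α) = ∑ᶠ ξ : X.obj.left, T.tr X (((α ξ : ℤ) : K) • T.cl X ξ) :=
    (T.tr X).toAddMonoidHom.map_finsum hfin'
  rw [h1]
  simp_rw [hterm]
  exact ((Int.castAddHom K).map_finsum hfin).symm

/-- In the case r = 1, to which the general case reduces once the cycle class map is known to be a ring
homomorphism: for a Weil cohomology theory H^* (coefficients in K of characteristic zero, on
nonsingular connected projective varieties over an algebraically closed field k), such a variety X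
and a 0-cycle α on X, the intersection number (α) = deg(α) equals Tr_X(cl(α)). The dimension
function δ on X is the one induced from weight 0 on Spec k and deg is the degree of 0-cycles over k. -/
theorem result (k : Type u) [Field k] [IsAlgClosed k] (K : Type v) [Field K] [CharZero K]
    (T : WeilCoh.Theory k K) (X : WeilCoh.Var k) [QuasiCompact X.obj.hom]
    (δ : ↥X.obj.left → ℤ) (hδ : Cyc.DeltaCompat X.obj.hom δ (fun _ => 0))
    (α : AlgebraicCycle X.obj.left ℤ) (hα : α ∈ Cyc.Zk X.obj.left δ 0) :
    (ChowOps.deg X.obj.hom δ α : K) = T.tr X (T.clCyc X α) := by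
  classical
  rw [tr_clCyc k K T X δ hδ α hα]
  have hdeg : ChowOps.deg X.obj.hom δ α =
      ∑ᶠ x ∈ (⇑X.obj.hom) ⁻¹' {IsLocalRing.closedPoint k},
        α x * ((AlgebraicCycle.mapCoeff X.obj.hom δ (fun _ => (0 : ℤ)) x : ℕ) : ℤ) := rfl
  rw [hdeg]
  have hpre : (⇑X.obj.hom) ⁻¹' {IsLocalRing.closedPoint k} = Set.univ := by
    haveI : Subsingleton (Spec (CommRingCat.of k)) :=
      (inferInstance : Subsingleton (PrimeSpectrum k))
    apply Set.eq_univ_of_forall
    intro x
    exact Subsingleton.elim _ _
  rw [hpre, finsum_mem_univ]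
  have hterm2 : ∀ x : X.obj.left,
      α x * ((AlgebraicCycle.mapCoeff X.obj.hom δ (fun _ => (0 : ℤ)) x : ℕ) : ℤ) = α x := by
    intro x
    by_cases h0 : α x = 0
    · rw [h0, zero_mul]
    · have hδx : δ x = 0 := by
        by_contra h
        exact h0 (hα x h)
      have hm : AlgebraicCycle.mapCoeff X.obj.hom δ (fun _ => (0 : ℤ)) x =
          X.obj.hom.residueDegree x := if_pos hδx
      rw [hm, (closed_of_delta_zero k X δ hδ x hδx).2, Nat.cast_one, mul_one]
  simp_rw [hterm2]

end Groth.Agent.S15459
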