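import Groth.Statements.S15441
import Mathlib
import Groth.Agent.S15459

set_option autoImplicit false
universe u v
open WeilCoh

namespace Groth.Agent.S15441

open AlgebraicGeometry CategoryTheory in
/-- Let k be an algebraically closed field of characteristic zero, K a field of characteristic zero and
T a Weil cohomology theory over k with coefficients in K, defined on connected smooth projective
varieties over k; let X be such a variety, δ the weight function on X induced from weight 0 on the
point Spec k, and α a zero-cycle on X for δ. Then α is homologically equivalent to zero for T, i.e.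
its cycle class in the cohomology of X vanishes, if and only if the degree of α over k is zero. -/
theorem result (k : Type u) [Field k] [IsAlgClosed k]
    [CharZero k] (K : Type v) [Field K] [CharZero K] (T : WeilCoh.Theory k K) (X : WeilCoh.Var k)
    [QuasiCompact X.obj.hom] (δ : ↥X.obj.left → ℤ) (hδ : Cyc.DeltaCompat X.obj.hom δ (fun _ => 0))
    (α : AlgebraicCycle X.obj.left ℤ) (hα : α ∈ Cyc.Zk X.obj.left δ 0) :
    T.IsHomEquivZero X α ↔ ChowOps.deg X.obj.hom δ α = 0 := by
  classical
  have hdeg := Groth.Agent.S15459.result k K T X δ hδ α hα
  unfold TheoryOn.IsHomEquivZero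
  constructor
  · intro h
    rw [h, map_zero] at hdeg
    exact_mod_cast hdeg
  · intro h
    rw [h, Int.cast_zero] at hdeg
    have hmem : T.clCyc X α ∈ T.gr X (2 * (dim X.obj.left : ℤ)) := by
      unfold TheoryOn.clCyc
      refine finsum_induction (fun y => y ∈ T.gr X (2 * (dim X.obj.left : ℤ)))
        (Submodule.zero_mem _) (fun x y hx hy => Submodule.add_mem _ hx hy) ?_
      intro ξ
      by_cases h0 : α ξ = 0
      · rw [h0, Int.cast_zero, zero_smul]
        exact Submodule.zero_mem _
      · have hδξ : δ ξ = 0 := by
          by_contra hne
          exact h0 (hα ξ hne)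
        have hcl := (Groth.Agent.S15459.closed_of_delta_zero k X δ hδ ξ hδξ).1
        have hp : pdim X.obj.left ξ = 0 := by
          unfold pdim
          rw [hcl.closure_eq]
          exact Groth.Agent.Lib.helper12.WeilPt.natDim_of_subsingleton _
        have hc : codim X.obj.left ξ = dim X.obj.left := by
          unfold codim
          rw [hp, Nat.sub_zero]
        have := T.cl_mem X ξ
        rw [hc] at this
        exact Submodule.smul_mem _ _ this
    have hinj := (T.tr_bijective X).1
    have h0 : (⟨T.clCyc X α, hmem⟩ : T.gr X (2 * (dim X.obj.left : ℤ))) = 0 := by
      apply hinj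
      rw [map_zero]
      exact hdeg.symm
    exact congrArg Subtype.val h0

end Groth.Agent.S15441
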