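import Groth.Statements.S15442
import Mathlib

set_option autoImplicit false
universe u v
open CategoryTheory AlgebraicGeometry
open WeilCoh

namespace Groth.Agent.S15442

/-- Let H^* be a Weil cohomology theory, with coefficient field K of characteristic zero, on nonsingular
connected projective varieties over the algebraically closed field k, and X such a variety. Then the
structure morphism K → H^0(X) is an isomorphism: c ↦ c · 1 is a bijection from K onto the degree-0
part of the cohomology ring. -/
theorem result (k : Type u) [Field k] [IsAlgClosed k] (K : Type v) [Field K] [CharZero K]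
    (T : WeilCoh.Theory k K) (X : WeilCoh.Var k) :
    Function.Bijective (fun c : K =>
      (⟨c • (1 : T.H X), (T.gr X 0).smul_mem c (SetLike.one_mem_graded (T.gr X))⟩ : ↥(T.gr X 0))) := by
  classical
  set d : ℤ := 2 * (WeilCoh.dim X.obj.left : ℤ) with hd
  have hperf := T.duality X 0 d (by simp [hd])
  have htr := T.tr_bijective X
  let φ : K →ₗ[K] ↥(T.gr X 0) :=
    { toFun := fun c => ⟨c • (1 : T.H X), (T.gr X 0).smul_mem c (SetLike.one_mem_graded (T.gr X))⟩
      map_add' := by intro a b; ext; simp [add_smul]
      map_smul' := by intro a b; ext; simp [mul_smul] }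
  show Function.Bijective φ
  have e1 : ↥(T.gr X d) ≃ₗ[K] K := LinearEquiv.ofBijective _ htr
  have e2 : ↥(T.gr X 0) ≃ₗ[K] Module.Dual K ↥(T.gr X d) := by
    haveI := hperf
    exact (WeilCoh.pairing K (T.gr X 0) (T.gr X d) (T.tr X)).toPerfPair
  have hfin : Module.finrank K ↥(T.gr X 0) = 1 := by
    rw [e2.finrank_eq, Subspace.dual_finrank_eq, e1.finrank_eq, Module.finrank_self]
  have hinj : Function.Injective φ := by
    rw [← LinearMap.ker_eq_bot, LinearMap.ker_eq_bot']
    intro c hc
    by_contra hne
    have h1 : (1 : T.H X) = 0 := by
      have := congrArg Subtype.val hc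
      simp [φ] at this
      exact this.resolve_left hne
    obtain ⟨a, ha⟩ := htr.2 1
    have : (a : T.H X) = 0 := by rw [← mul_one (a : T.H X), h1, mul_zero]
    simp [LinearMap.domRestrict_apply, this] at ha
  exact ⟨hinj, (LinearMap.injective_iff_surjective_of_finrank_eq_finrank
    (by rw [hfin, Module.finrank_self])).1 hinj⟩

end Groth.Agent.S15442
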