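import Groth.Statements.S15446
import Mathlib
import Groth.Agent.Lib.helper23.WeilCohLib

set_option autoImplicit false
universe u v
open CategoryTheory AlgebraicGeometry
open WeilCoh

namespace Groth.Agent.S15446

/-- For a Weil cohomology theory H^* (coefficients in K of characteristic zero, on nonsingular connected
projective varieties over an algebraically closed field k), a morphism f : X → Y of such varieties,
α ∈ H^i(X) and γ ∈ H^j(Y), one has f_*(α ∪ f^*(γ)) = f_*(α) ∪ γ, where f_* is the push-forward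
defined by Tr_Y(f_*(α) ∪ β) = Tr_X(α ∪ f^*(β)). -/
theorem result (k : Type u) [Field k] [IsAlgClosed k] (K : Type v) [Field K] [CharZero K]
    (T : WeilCoh.Theory k K) (X Y : WeilCoh.Var k) (f : X ⟶ Y) (i j : ℤ)
    (a : ↥(T.gr X i)) (c : ↥(T.gr Y j)) :
    (T.push f (i + j) ⟨(a : T.H X) * T.pull f c, SetLike.mul_mem_graded a.2 (T.pull_mem f j c c.2)⟩ : T.H Y) =
      (T.push f i a : T.H Y) * c := by
  have hmem1 := (T.push f (i + j) ⟨(a : T.H X) * T.pull f c,
    SetLike.mul_mem_graded a.2 (T.pull_mem f j c c.2)⟩).2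
  have hmem2 : (T.push f i a : T.H Y) * c ∈ T.gr Y
      (i + 2 * (WeilCoh.dim Y.obj.left : ℤ) - 2 * (WeilCoh.dim X.obj.left : ℤ) + j) :=
    SetLike.mul_mem_graded (T.push f i a).2 c.2
  refine Lib.helper23.WeilCohLib.ext_of_tr T Y
    (i + j + 2 * (WeilCoh.dim Y.obj.left : ℤ) - 2 * (WeilCoh.dim X.obj.left : ℤ))
    (2 * (WeilCoh.dim X.obj.left : ℤ) - (i + j)) (by ring) _ _ hmem1
    (Lib.helper23.WeilCohLib.mem_of_eq T (by ring) hmem2) ?_
  intro β hβ
  rw [Lib.helper23.WeilCohLib.push_spec T f (i + j) _ β _ rfl hβ]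
  have h2 := Lib.helper23.WeilCohLib.push_spec T f i a ((c : T.H Y) * β)
    (j + (2 * (WeilCoh.dim X.obj.left : ℤ) - (i + j))) (by ring)
    (SetLike.mul_mem_graded c.2 hβ)
  rw [← mul_assoc] at h2
  rw [h2]
  simp [mul_assoc]

end Groth.Agent.S15446
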