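import Groth.Statements.S19414
import Mathlib
import Groth.Agent.S15459
import Groth.Agent.Lib.helper12.WeilGraph
import Groth.Agent.Lib.helper7.DimSch11

set_option autoImplicit false
universe u v
open CategoryTheory AlgebraicGeometry
open WeilCoh

namespace Groth.Agent.S19414


open Groth.Agent.Lib.helper12.WeilGraph Groth.Agent.Lib.helper23.WeilCohLib

theorem natDim_closure_section {A B : Type u} [TopologicalSpace A] [TopologicalSpace B]
    (d : A → B) (p : B → A) (hd : Continuous d) (hp : Continuous p) (hpd : ∀ x, p (d x) = x)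
    (hcl : IsClosed (Set.range d)) (η : A) :
    natDim ↥(closure ({d η} : Set B)) = natDim ↥(closure ({η} : Set A)) := by
  have h1 : ∀ x ∈ closure ({η} : Set A), d x ∈ closure ({d η} : Set B) := by
    intro x hx
    have := image_closure_subset_closure_image hd (s := ({η} : Set A)) ⟨x, hx, rfl⟩
    rwa [Set.image_singleton] at this
  have h2 : ∀ y ∈ closure ({d η} : Set B), p y ∈ closure ({η} : Set A) := by
    intro y hy
    have := image_closure_subset_closure_image hp (s := ({d η} : Set B)) ⟨y, hy, rfl⟩
    rwa [Set.image_singleton, hpd] at this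
  have h3 : ∀ y ∈ closure ({d η} : Set B), d (p y) = y := by
    intro y hy
    have hsub : closure ({d η} : Set B) ⊆ Set.range d :=
      closure_minimal (Set.singleton_subset_iff.mpr ⟨η, rfl⟩) hcl
    obtain ⟨x, rfl⟩ := hsub hy
    rw [hpd]
  let e : ↥(closure ({η} : Set A)) ≃ₜ ↥(closure ({d η} : Set B)) :=
    { toFun := fun x => ⟨d x.1, h1 x.1 x.2⟩
      invFun := fun y => ⟨p y.1, h2 y.1 y.2⟩
      left_inv := fun x => Subtype.ext (hpd x.1)
      right_inv := fun y => Subtype.ext (h3 y.1 y.2)
      continuous_toFun := (hd.comp continuous_subtype_val).subtype_mk _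
      continuous_invFun := (hp.comp continuous_subtype_val).subtype_mk _ }
  unfold natDim
  rw [IsHomeomorph.topologicalKrullDim_eq _ e.isHomeomorph]

theorem pdim_le_dim (k : Type u) [Field k] (X : WeilCoh.Var k) (ξ : X.obj.left) :
    pdim X.obj.left ξ ≤ dim X.obj.left := by
  letI : X.obj.left.Over (Spec (CommRingCat.of k)) := ⟨X.obj.hom⟩
  haveI : Smooth X.obj.hom := X.property.1
  haveI : LocallyOfFiniteType (X.obj.left ↘ Spec (CommRingCat.of k)) :=
    (inferInstance : LocallyOfFiniteType X.obj.hom)
  haveI : IrreducibleSpace ↥X.obj.left := X.property.2.2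
  have h1 := Groth.Agent.Lib.helper7.DimSch.topologicalKrullDim_closure_singleton k X.obj.left ξ
  have h2 := Groth.Agent.Lib.helper7.DimSch.topologicalKrullDim_closure_singleton k X.obj.left
    (genericPoint ↥X.obj.left)
  have h3 : dim X.obj.left = pdim X.obj.left (genericPoint ↥X.obj.left) :=
    (pdim_genericPoint _).symm
  have h4 := Groth.Agent.Lib.helper7.DimSch.trdegNat_le_of_specializes k X.obj.left
    (genericPoint ↥X.obj.left) ξ (genericPoint_specializes ξ)
  rw [h3]
  unfold pdim natDim
  rw [h1, h2]
  exact h4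

theorem isClosed_range_section (k : Type u) [Field k] {X Y P : WeilCoh.Var k} (p : P ⟶ X)
    (q : P ⟶ Y) (hP : WeilCoh.IsProd p q) (d : X ⟶ P) (hdp : d ≫ p = 𝟙 X) :
    IsClosed (Set.range (sm d)) := by
  haveI hsepY : IsSeparated Y.obj.hom := Groth.Agent.S15459.isSeparated_of_var k Y
  haveI hsep : IsSeparated (sm p) :=
    MorphismProperty.of_isPullback (P := @IsSeparated) hP.flip hsepY
  haveI : IsClosedImmersion (sm d ≫ sm p) := by
    rw [sm_section k d p hdp]; infer_instance
  haveI : IsClosedImmersion (sm d) := IsClosedImmersion.of_comp (sm d) (sm p)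
  exact (sm d).isClosedEmbedding.isClosed_range

/-- Let H be a Weil cohomology theory with coefficients in a field K of characteristic zero on
nonsingular connected projective varieties over an algebraically closed field k, X such a variety, P
= X × X with its projections p and q, and d : X → P the diagonal (the section of p and of q). For a
closed irreducible subset Z ⊆ X with generic point η and a class α ∈ H^i(X), the cohomological
correspondence given by the class of the diagonal image d(Z) ⊆ P acts on α as cup product with the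
class of Z: q_*(p^*(α) · cl_P(d(Z))) = α · cl_X(Z) in the total cohomology ring of X. The
push-forward q_* (Gysin map, defined through Poincaré duality) is taken on the homogeneous component
of degree i + 2 codim_P(d(Z)) that contains p^*(α) · cl_P(d(Z)). The published statement takes Z to
be a smooth hyperplane section, in which case cup product with cl_X(Z) is the Lefschetz operator L
and the identity says that L is given by an algebraic correspondence; it is stated here for every
closed irreducible Z, which is what the argument establishes. -/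
theorem result (k : Type u) [Field k] [IsAlgClosed k]
    (K : Type v) [Field K] [CharZero K] (T : WeilCoh.Theory k K) (X P : WeilCoh.Var k)
    (p q : P ⟶ X) (hP : WeilCoh.IsProd p q) (d : X ⟶ P) (hdp : d ≫ p = 𝟙 X) (hdq : d ≫ q = 𝟙 X)
    (η : ↥X.obj.left) (i : ℤ) (a : ↥(T.gr X i)) :
    (T.push q (i + 2 * (WeilCoh.codim P.obj.left (WeilCoh.sm d η) : ℤ))
        ⟨T.pull p (a : T.H X) * T.cl P (WeilCoh.sm d η),
          SetLike.mul_mem_graded (T.pull_mem p i a a.2) (T.cl_mem P (WeilCoh.sm d η))⟩ : T.H X) =
      (a : T.H X) * T.cl X η := by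
  classical
  have hdP : dim P.obj.left = dim X.obj.left + dim X.obj.left := dim_prod k K T p q hP
  have hple : pdim X.obj.left η ≤ dim X.obj.left := pdim_le_dim k X η
  have hsec : sm d ≫ sm p = 𝟙 _ := sm_section k d p hdp
  have hpdx : ∀ x : X.obj.left, (sm p) ((sm d) x) = x := fun x => by
    rw [← Scheme.Hom.comp_apply, hsec]; rfl
  have hpd : pdim P.obj.left (sm d η) = pdim X.obj.left η :=
    natDim_closure_section (sm d) (sm p) (sm d).continuous (sm p).continuous hpdx
      (isClosed_range_section k p q hP d hdp) η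
  have hcP : (codim P.obj.left (sm d η) : ℤ) =
      2 * (dim X.obj.left : ℤ) - (pdim X.obj.left η : ℤ) := by
    unfold codim
    rw [hpd, hdP, Nat.cast_sub (by omega)]
    push_cast; ring
  have hcX : (codim X.obj.left η : ℤ) = (dim X.obj.left : ℤ) - (pdim X.obj.left η : ℤ) := by
    unfold codim
    rw [Nat.cast_sub hple]
  have hmem1 := (T.push q (i + 2 * (WeilCoh.codim P.obj.left (WeilCoh.sm d η) : ℤ))
    ⟨T.pull p (a : T.H X) * T.cl P (WeilCoh.sm d η),
      SetLike.mul_mem_graded (T.pull_mem p i a a.2) (T.cl_mem P (WeilCoh.sm d η))⟩).2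
  refine ext_of_tr T X (i + 2 * (codim X.obj.left η : ℤ))
    (2 * (dim X.obj.left : ℤ) - (i + 2 * (codim X.obj.left η : ℤ))) (by ring) _ _
    (mem_of_eq T (by rw [hcP, hcX, hdP]; push_cast; ring) hmem1)
    (SetLike.mul_mem_graded a.2 (T.cl_mem X η)) ?_
  intro γ hγ
  rw [push_spec T q _ _ γ _ (by rw [hcP, hcX, hdP]; push_cast; ring) hγ]
  show T.tr P (T.pull p (a : T.H X) * T.cl P (sm d η) * T.pull q γ) =
    T.tr X ((a : T.H X) * T.cl X η * γ)
  have hc1 := T.gradedComm P _ _ _ _ (T.pull_mem p i a a.2) (T.cl_mem P (sm d η))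
  have hs1 : (-1 : K) ^ (i.natAbs * (2 * (codim P.obj.left (sm d η) : ℤ)).natAbs) = 1 := by
    have h2 : (2 * (codim P.obj.left (sm d η) : ℤ)).natAbs = 2 * codim P.obj.left (sm d η) := by
      omega
    rw [h2]
    exact Even.neg_one_pow ⟨i.natAbs * codim P.obj.left (sm d η), by ring⟩
  have hc2 := T.gradedComm X _ _ _ _ a.2 (T.cl_mem X η)
  have hs2 : (-1 : K) ^ (i.natAbs * (2 * (codim X.obj.left η : ℤ)).natAbs) = 1 := by
    have h2 : (2 * (codim X.obj.left η : ℤ)).natAbs = 2 * codim X.obj.left η := by omega
    rw [h2]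
    exact Even.neg_one_pow ⟨i.natAbs * codim X.obj.left η, by ring⟩
  rw [hc1, hs1, one_smul, hc2, hs2, one_smul, mul_assoc, mul_assoc]
  have hb : T.pull p (a : T.H X) * T.pull q γ ∈ T.gr P (2 * (pdim X.obj.left η : ℤ)) :=
    mem_of_eq T (by rw [hcX]; ring)
      (SetLike.mul_mem_graded (T.pull_mem p i a a.2) (T.pull_mem q _ γ hγ))
  have hpush := T.cl_push d η _ hb
  rw [residueDegree_eq_one_of_section (sm d) (sm p) hsec η, Nat.cast_one, one_mul,
    map_mul (T.pull d), pull_section k K T d p hdp, pull_section k K T d q hdq] at hpush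
  exact hpush.symm

end Groth.Agent.S19414
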