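import Groth.Statements.S15448
import Mathlib
import Groth.Agent.S19414

set_option autoImplicit false
universe u v
open CategoryTheory AlgebraicGeometry
open WeilCoh

namespace Groth.Agent.S15448


open Groth.Agent.Lib.helper12.WeilGraph Groth.Agent.Lib.helper23.WeilCohLib

/-- A finite residue field extension does not change the dimension of the closure of a point. -/
theorem pdim_eq_of_residueDegree_ne_zero (k : Type u) [Field k] {X Y : WeilCoh.Var k} (f : X ⟶ Y)
    (ξ : X.obj.left) (hdeg : (sm f).residueDegree ξ ≠ 0) :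
    pdim Y.obj.left (sm f ξ) = pdim X.obj.left ξ := by
  letI : X.obj.left.Over (Spec (CommRingCat.of k)) := ⟨X.obj.hom⟩
  letI : Y.obj.left.Over (Spec (CommRingCat.of k)) := ⟨Y.obj.hom⟩
  haveI : Smooth X.obj.hom := X.property.1
  haveI : Smooth Y.obj.hom := Y.property.1
  haveI : LocallyOfFiniteType (X.obj.left ↘ Spec (CommRingCat.of k)) :=
    (inferInstance : LocallyOfFiniteType X.obj.hom)
  haveI : LocallyOfFiniteType (Y.obj.left ↘ Spec (CommRingCat.of k)) :=
    (inferInstance : LocallyOfFiniteType Y.obj.hom)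
  have hf : sm f ≫ (Y.obj.left ↘ Spec (CommRingCat.of k)) =
      (X.obj.left ↘ Spec (CommRingCat.of k)) := Over.w f.hom
  have h1 := Groth.Agent.Lib.helper7.DimSch.topologicalKrullDim_closure_singleton k X.obj.left ξ
  have h2 := Groth.Agent.Lib.helper7.DimSch.topologicalKrullDim_closure_singleton k Y.obj.left
    (sm f ξ)
  -- the tower
  letI a1 : Algebra k (Y.obj.left.residueField (sm f ξ)) := Curv2.resAlgebra k Y.obj.left _
  letI a2 : Algebra (Y.obj.left.residueField (sm f ξ)) (X.obj.left.residueField ξ) :=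
    ((sm f).residueFieldMap ξ).hom.toAlgebra
  letI a3 : Algebra k (X.obj.left.residueField ξ) := Curv2.resAlgebra k X.obj.left ξ
  haveI : IsScalarTower k (Y.obj.left.residueField (sm f ξ)) (X.obj.left.residueField ξ) :=
    IsScalarTower.of_algebraMap_eq (fun a =>
      (Groth.Agent.Lib.helper7.DimSch.residueFieldMap_resMap k Y.obj.left X.obj.left (sm f) hf ξ
        a).symm)
  have hadd := trdeg_add_eq k (Y.obj.left.residueField (sm f ξ)) (A := X.obj.left.residueField ξ)
  have hfin : Module.Finite (Y.obj.left.residueField (sm f ξ)) (X.obj.left.residueField ξ) :=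
    Module.finite_of_finrank_pos (Nat.pos_of_ne_zero hdeg)
  haveI : Algebra.IsAlgebraic (Y.obj.left.residueField (sm f ξ)) (X.obj.left.residueField ξ) :=
    Algebra.IsAlgebraic.of_finite _ _
  rw [trdeg_eq_zero (R := Y.obj.left.residueField (sm f ξ)) (A := X.obj.left.residueField ξ),
    add_zero] at hadd
  have h3 : Groth.Agent.Lib.helper7.DimSch.trdegNat k Y.obj.left (sm f ξ) =
      Groth.Agent.Lib.helper7.DimSch.trdegNat k X.obj.left ξ := by
    unfold Groth.Agent.Lib.helper7.DimSch.trdegNat
    rw [hadd]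
  unfold pdim natDim
  rw [h1, h2, h3]

/-- For a Weil cohomology theory H^* (coefficients in K of characteristic zero, on nonsingular connected
projective varieties over an algebraically closed field k), a morphism f : X → Y of such varieties
and an irreducible closed subvariety Z ⊆ X, f_*(cl(Z)) = deg(Z/f(Z)) · cl(f(Z)). Here Z is given by
its generic point ξ, f(Z) is the closed irreducible subset with generic point f(ξ), and deg(Z/f(Z))
is the degree of κ(ξ) over κ(f(ξ)), equal to 0 when this extension is infinite, i.e. when dim f(Z) <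
dim Z; both sides are read in the total cohomology ring of Y. -/
theorem result (k : Type u) [Field k] [IsAlgClosed k] (K : Type v) [Field K] [CharZero K]
    (T : WeilCoh.Theory k K) (X Y : WeilCoh.Var k) (f : X ⟶ Y)
    (ξ : ↥X.obj.left) :
    (T.push f (2 * (WeilCoh.codim X.obj.left ξ : ℤ)) ⟨T.cl X ξ, T.cl_mem X ξ⟩ : T.H Y) =
      ((WeilCoh.sm f).residueDegree ξ : K) • T.cl Y (WeilCoh.sm f ξ) := by
  classical
  have hpleX : pdim X.obj.left ξ ≤ dim X.obj.left := Groth.Agent.S19414.pdim_le_dim k X ξ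
  have hpleY : pdim Y.obj.left (sm f ξ) ≤ dim Y.obj.left :=
    Groth.Agent.S19414.pdim_le_dim k Y (sm f ξ)
  have hcX : (codim X.obj.left ξ : ℤ) = (dim X.obj.left : ℤ) - (pdim X.obj.left ξ : ℤ) := by
    unfold codim
    rw [Nat.cast_sub hpleX]
  have hcY : (codim Y.obj.left (sm f ξ) : ℤ) =
      (dim Y.obj.left : ℤ) - (pdim Y.obj.left (sm f ξ) : ℤ) := by
    unfold codim
    rw [Nat.cast_sub hpleY]
  have hmem1 := (T.push f (2 * (WeilCoh.codim X.obj.left ξ : ℤ)) ⟨T.cl X ξ, T.cl_mem X ξ⟩).2
  have hR : ((WeilCoh.sm f).residueDegree ξ : K) • T.cl Y (WeilCoh.sm f ξ) ∈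
      T.gr Y (2 * (codim X.obj.left ξ : ℤ) + 2 * (dim Y.obj.left : ℤ) -
        2 * (dim X.obj.left : ℤ)) := by
    by_cases hdeg : (sm f).residueDegree ξ = 0
    · rw [hdeg, Nat.cast_zero, zero_smul]
      exact Submodule.zero_mem _
    · have hp := pdim_eq_of_residueDegree_ne_zero k f ξ hdeg
      refine Submodule.smul_mem _ _ (mem_of_eq T ?_ (T.cl_mem Y (sm f ξ)))
      rw [hcY, hcX, hp]; ring
  refine ext_of_tr T Y (2 * (codim X.obj.left ξ : ℤ) + 2 * (dim Y.obj.left : ℤ) -
      2 * (dim X.obj.left : ℤ)) (2 * (pdim X.obj.left ξ : ℤ)) (by rw [hcX]; ring) _ _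
    hmem1 hR ?_
  intro b hb
  rw [push_spec T f _ _ b _ (by rw [hcX]; ring) hb]
  show T.tr X (T.cl X ξ * T.pull f b) = _
  rw [T.cl_push f ξ b hb, smul_mul_assoc, map_smul, smul_eq_mul]

end Groth.Agent.S15448
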