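import Groth.Statements.S15449
import Mathlib
import Groth.Agent.Lib.helper23.WeilCohLib

set_option autoImplicit false
universe u v
open CategoryTheory AlgebraicGeometry
open WeilCoh

namespace Groth.Agent.S15449

/-- For a Weil cohomology theory H^* (coefficients in K of characteristic zero, on nonsingular connected
projective varieties over an algebraically closed field k), such varieties X and Y with product X ×
Y and projections p, q, and α ∈ H^i(Y): p_*(q^*(α)) = Tr_Y(α) (as a multiple of 1 ∈ H^0(X)) if i = 2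
dim Y, and p_*(q^*(α)) = 0 otherwise. The product is any object Q with morphisms p : Q → X, q : Q →
Y forming a cartesian square over Spec k; both sides are read in the total cohomology ring of X. -/
theorem result (k : Type u) [Field k] [IsAlgClosed k] (K : Type v) [Field K] [CharZero K]
    (T : WeilCoh.Theory k K) (X Y Q : WeilCoh.Var k) (p : Q ⟶ X) (q : Q ⟶ Y)
    (hQ : WeilCoh.IsProd p q) (i : ℤ) (a : ↥(T.gr Y i)) :
    (i = 2 * (WeilCoh.dim Y.obj.left : ℤ) →
      (T.push p i ⟨T.pull q a, T.pull_mem q i a a.2⟩ : T.H X) = algebraMap K (T.H X) (T.tr Y a)) ∧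
    (i ≠ 2 * (WeilCoh.dim Y.obj.left : ℤ) →
      (T.push p i ⟨T.pull q a, T.pull_mem q i a a.2⟩ : T.H X) = 0) := by
  -- dimension of the product
  have hdim : 2 * (WeilCoh.dim Q.obj.left : ℤ) =
      2 * (WeilCoh.dim X.obj.left : ℤ) + 2 * (WeilCoh.dim Y.obj.left : ℤ) := by
    obtain ⟨a₀, ha₀⟩ := (T.tr_bijective X).2 1
    obtain ⟨b₀, hb₀⟩ := (T.tr_bijective Y).2 1
    have h1 := T.tr_prod p q hQ a₀ b₀ a₀.2 b₀.2
    have ha₀' : T.tr X a₀ = 1 := ha₀
    have hb₀' : T.tr Y b₀ = 1 := hb₀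
    rw [ha₀', hb₀', mul_one] at h1
    by_contra hne
    have hmem : T.pull p a₀ * T.pull q b₀ ∈ T.gr Q
        (2 * (WeilCoh.dim X.obj.left : ℤ) + 2 * (WeilCoh.dim Y.obj.left : ℤ)) :=
      SetLike.mul_mem_graded (T.pull_mem p _ _ a₀.2) (T.pull_mem q _ _ b₀.2)
    have := T.tr_vanish Q _ _ hmem (fun h => hne h.symm)
    rw [this] at h1
    exact zero_ne_one h1
  constructor
  · intro hi
    have hmem1 := (T.push p i ⟨T.pull q a, T.pull_mem q i a a.2⟩).2
    have hmem2 : algebraMap K (T.H X) (T.tr Y a) ∈ T.gr X 0 := by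
      rw [Algebra.algebraMap_eq_smul_one]
      exact (T.gr X 0).smul_mem _ (SetLike.one_mem_graded (T.gr X))
    refine Lib.helper23.WeilCohLib.ext_of_tr T X 0 (2 * (WeilCoh.dim X.obj.left : ℤ)) (by ring) _ _
      (Lib.helper23.WeilCohLib.mem_of_eq T (by omega) hmem1) hmem2 ?_
    intro β hβ
    rw [Lib.helper23.WeilCohLib.push_spec T p i _ β _ (by omega) hβ]
    have ha' : (a : T.H Y) ∈ T.gr Y (2 * (WeilCoh.dim Y.obj.left : ℤ)) := hi ▸ a.2
    have hcomm := T.gradedComm Q _ _ _ _ (T.pull_mem q _ _ ha') (T.pull_mem p _ _ hβ)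
    have hsign : ((-1 : K) ^ ((2 * (WeilCoh.dim Y.obj.left : ℤ)).natAbs *
        (2 * (WeilCoh.dim X.obj.left : ℤ)).natAbs)) = 1 := by
      have : (2 * (WeilCoh.dim Y.obj.left : ℤ)).natAbs = 2 * WeilCoh.dim Y.obj.left := by
        simp [Int.natAbs_mul]
      rw [this, mul_assoc, pow_mul]
      simp
    rw [hsign, one_smul] at hcomm
    show T.tr Q (T.pull q a * T.pull p β) = _
    rw [hcomm, T.tr_prod p q hQ β a hβ ha']
    rw [Algebra.algebraMap_eq_smul_one, smul_mul_assoc, one_mul, map_smul, smul_eq_mul, mul_comm]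
  · intro hi
    rcases lt_or_gt_of_ne hi with hlt | hgt
    · have hmem1 := (T.push p i ⟨T.pull q a, T.pull_mem q i a a.2⟩).2
      exact Lib.helper23.WeilCohLib.eq_zero_of_mem T X _ _ hmem1 (Or.inl (by omega))
    · have ha0 : (a : T.H Y) = 0 := by
        exact Lib.helper23.WeilCohLib.eq_zero_of_mem T Y _ _ a.2 (Or.inr hgt)
      have : (⟨T.pull q a, T.pull_mem q i a a.2⟩ : ↥(T.gr Q i)) = 0 := by
        ext
        simp [ha0]
      rw [this, map_zero]
      rfl

end Groth.Agent.S15449
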