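import Groth.Statements.S1545
import Mathlib
import Groth.Agent.Lib.helper7.CommonPt

set_option autoImplicit false
universe u
open CategoryTheory CategoryTheory.Limits AlgebraicGeometry
open Variety

namespace Groth.Agent.S1545

section Aux
open CategoryTheory CategoryTheory.Limits AlgebraicGeometry TensorProduct
open Groth.Agent.Lib.helper7.CommonPt

theorem gen {k : Type u} [Field k] (X : Scheme.{u}) [X.Over (Spec (CommRingCat.of k))] (x : X)
    (H : Curv2.IsGeomReducedAt k X x) {L : Type u} [Field L]
    (b : Spec (CommRingCat.of L) ⟶ Spec (CommRingCat.of k))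
    (y : ↥(pullback (X ↘ Spec (CommRingCat.of k)) b))
    (hy : pullback.fst (X ↘ Spec (CommRingCat.of k)) b y = x) :
    _root_.IsReduced ((pullback (X ↘ Spec (CommRingCat.of k)) b).presheaf.stalk y) := by
  obtain ⟨φ, rfl⟩ := Spec.map_surjective b
  letI : Algebra k L := φ.hom.toAlgebra
  exact H L y hy

theorem main (k : Type u) [Field k] (X : Scheme.{u}) [X.Over (Spec (CommRingCat.of k))] (k' : Type u) [Field k'] [Algebra k k']
    (x : X) (x' : Curv2.bc k X k') (hx : Curv2.bcFst k X k' x' = x) :
    Curv2.IsGeomReducedAt k X x ↔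
      @Curv2.IsGeomReducedAt k' _ (Curv2.bc k X k') ⟨Curv2.bcSnd k X k'⟩ x' := by
  set f := X ↘ Spec (CommRingCat.of k) with hf
  set bK := Spec.map (CommRingCat.ofHom (algebraMap k k')) with hbK
  constructor
  · intro H L _ _ x₂ hx₂
    set bL' := Spec.map (CommRingCat.ofHom (algebraMap k' L)) with hbL'
    let e := pullbackLeftPullbackSndIso f bK bL'
    have h1 : pullback.fst f (bL' ≫ bK) (e.hom x₂) = x := by
      rw [← Scheme.Hom.comp_apply, pullbackLeftPullbackSndIso_hom_fst, Scheme.Hom.comp_apply,
        ← hx]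
      exact congrArg _ hx₂
    have hdom := gen X _ H (bL' ≫ bK) (e.hom x₂) h1
    have := isReduced_of_flat e.inv (e.hom x₂) hdom
    rwa [← Scheme.Hom.comp_apply, e.hom_inv_id] at this
  · intro H' L _ _ x₁ hx₁
    set bL := Spec.map (CommRingCat.ofHom (algebraMap k L)) with hbL
    have h0 : pullback.fst f bL x₁ = pullback.fst f bK x' := hx₁.trans hx.symm
    obtain ⟨κ, _, cA, cB, heq, m, hm1, hm2⟩ := exists_common f bL bK x₁ x' h0
    haveI : Flat cA := flat_of_field cA
    haveI : Flat (ψ f bL cA) :=
      MorphismProperty.of_isPullback (P := @Flat) (isPullback_ψ f bL cA).flip inferInstance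
    obtain ⟨E, hE⟩ := exists_iso f bL bK cA cB heq
    have h2 : pullback.fst (pullback.snd f bK) cB (E.inv m) = x' := by
      rw [← Scheme.Hom.comp_apply, hE]; exact hm2
    obtain ⟨φ, rfl⟩ := Spec.map_surjective cB
    letI : Algebra k' κ := φ.hom.toAlgebra
    have hdom : _root_.IsReduced ((pullback (pullback.snd f bK) (Spec.map φ)).presheaf.stalk (E.inv m)) :=
      H' κ (E.inv m) h2
    have hdom2 := isReduced_of_flat E.hom (E.inv m) hdom
    rw [← Scheme.Hom.comp_apply, E.inv_hom_id] at hdom2
    have hdom3 := isReduced_of_flat (ψ f bL cA) m hdom2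
    rw [hm1] at hdom3
    exact hdom3

end Aux

/-- For a field extension k' of k, a point x of X and a point x' of X_{k'} over x, X is geometrically
reduced at x if and only if X_{k'} is geometrically reduced at x' (over k'). -/
theorem result (k : Type u) [Field k] (X : Scheme.{u}) [X.Over (Spec (CommRingCat.of k))] (k' : Type u) [Field k'] [Algebra k k']
    (x : X) (x' : Curv2.bc k X k') (hx : Curv2.bcFst k X k' x' = x) :
    Curv2.IsGeomReducedAt k X x ↔
      @Curv2.IsGeomReducedAt k' _ (Curv2.bc k X k') ⟨Curv2.bcSnd k X k'⟩ x' := by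
  exact main k X k' x x' hx

end Groth.Agent.S1545
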