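import Groth.Statements.S15451
import Mathlib
import Groth.Agent.Lib.helper12.WeilGraph

set_option autoImplicit false
universe u v
open CategoryTheory AlgebraicGeometry
open WeilCoh

namespace Groth.Agent.S15451


open Groth.Agent.Lib.helper12.WeilGraph Groth.Agent.Lib.helper23.WeilCohLib

theorem neg_one_pow_eq_of_even_add (K : Type v) [Field K] (a b : ℕ) (h : Even (a + b)) :
    (-1 : K) ^ a = (-1) ^ b := by
  rw [neg_one_pow_eq_pow_mod_two (n := a), neg_one_pow_eq_pow_mod_two (n := b)]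
  obtain ⟨c, hc⟩ := h
  have : a % 2 = b % 2 := by omega
  rw [this]

universe w

theorem kunnethMap_tmul (K : Type v) [Field K] {A B C : Type w} [Ring A] [Algebra K A] [Ring B]
    [Algebra K B] [Ring C] [Algebra K C] (p : A →ₐ[K] C) (q : B →ₐ[K] C) (a : A) (b : B) :
    kunnethMap K p q (a ⊗ₜ[K] b) = p a * q b := by
  simp [kunnethMap]

theorem termcalc (k : Type u) [Field k] [IsAlgClosed k] (K : Type v) [Field K] [CharZero K]
    (T : WeilCoh.Theory k K) {X Y P : WeilCoh.Var k} (p : P ⟶ X) (q : P ⟶ Y) (u s : ℤ)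
    (e' a : T.H X) (f' b : T.H Y) (hf' : f' ∈ T.gr Y u) (ha : a ∈ T.gr X s) :
    T.pull p e' * T.pull q f' * (T.pull p a * T.pull q b) =
      ((-1 : K) ^ (u.natAbs * s.natAbs)) • (T.pull p (e' * a) * T.pull q (f' * b)) := by
  have hcomm := T.gradedComm P u s (T.pull q f') (T.pull p a) (T.pull_mem q u f' hf')
    (T.pull_mem p s a ha)
  calc T.pull p e' * T.pull q f' * (T.pull p a * T.pull q b)
      = T.pull p e' * (T.pull q f' * T.pull p a) * T.pull q b := by simp only [mul_assoc]
    _ = T.pull p e' * (((-1 : K) ^ (u.natAbs * s.natAbs)) • (T.pull p a * T.pull q f')) *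
          T.pull q b := by rw [hcomm]
    _ = ((-1 : K) ^ (u.natAbs * s.natAbs)) • (T.pull p (e' * a) * T.pull q (f' * b)) := by
        rw [mul_smul_comm, smul_mul_assoc, map_mul, map_mul]
        simp only [mul_assoc]

/-- Reduction of an identity of functionals on `H P` to decomposable homogeneous tensors. -/
theorem ext_kunneth (k : Type u) [Field k] [IsAlgClosed k] (K : Type v) [Field K] [CharZero K]
    (T : WeilCoh.Theory k K) {X Y P : WeilCoh.Var k} (p : P ⟶ X) (q : P ⟶ Y)
    (hP : WeilCoh.IsProd p q) (L : T.H P →ₗ[K] K)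
    (h : ∀ (s t : ℤ) (a : T.H X) (b : T.H Y), a ∈ T.gr X s → b ∈ T.gr Y t →
      L (T.pull p a * T.pull q b) = 0) (β : T.H P) : L β = 0 := by
  have key : ∀ (a : T.H X) (b : T.H Y), L (T.pull p a * T.pull q b) = 0 := by
    intro a b
    have ha : a ∈ ⨆ i, T.gr X i := by
      rw [(T.decomp X).submodule_iSup_eq_top]; trivial
    have hb : b ∈ ⨆ i, T.gr Y i := by
      rw [(T.decomp Y).submodule_iSup_eq_top]; trivial
    refine Submodule.iSup_induction (T.gr X)
      (motive := fun a => L (T.pull p a * T.pull q b) = 0) ha ?_ ?_ ?_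
    · intro s a ha
      refine Submodule.iSup_induction (T.gr Y)
        (motive := fun b => L (T.pull p a * T.pull q b) = 0) hb ?_ ?_ ?_
      · intro t b hb
        exact h s t a b ha hb
      · rw [map_zero, mul_zero, map_zero]
      · intro x y hx hy
        rw [map_add, mul_add, map_add, hx, hy, add_zero]
    · rw [map_zero, zero_mul, map_zero]
    · intro x y hx hy
      rw [map_add, add_mul, map_add, hx, hy, add_zero]
  obtain ⟨z, rfl⟩ := (T.kunneth p q hP).2 β
  induction z using TensorProduct.induction_on with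
  | zero => rw [map_zero, map_zero]
  | tmul a b => rw [kunnethMap_tmul]; exact key a b
  | add x y hx hy => rw [map_add, map_add, hx, hy, add_zero]

/-- Let H^* be a Weil cohomology theory (coefficients in K of characteristic zero, on nonsingular
connected projective varieties over an algebraically closed field k), φ an endomorphism of such a
variety X of dimension n, p, q the projections of X × X and Γ_φ the graph of φ. If (e^r_i)_i is a
basis of H^r(X) and (f^{2n−r}_i)_i the dual basis of H^{2n−r}(X) for Poincaré duality,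
Tr_X(f^{2n−r}_ℓ ∪ e^r_i) = δ_{i,ℓ}, for every 0 ≤ r ≤ 2n, then cl(Γ_φ) = Σ_{r=0}^{2n} Σ_i
p^*(φ^*(e^r_i)) ∪ q^*(f^{2n−r}_i) in H^{2n}(X × X). Here X × X is any object P with a cartesian
square p, q : P → X over Spec k, Γ_φ is the closure of the image of the generic point of X under the
section j = (id, φ) of p, and the f^{2n−r}_i are any family satisfying the duality relations. -/
theorem result (k : Type u) [Field k] [IsAlgClosed k] (K : Type v) [Field K] [CharZero K]
    (T : WeilCoh.Theory k K)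
    (X P : WeilCoh.Var k) [IrreducibleSpace ↥X.obj.left] (φ : X ⟶ X)
    (p q : P ⟶ X) (hP : WeilCoh.IsProd p q) (j : X ⟶ P) (hjp : j ≫ p = 𝟙 X) (hjq : j ≫ q = φ)
    (ι : ℕ → Type) [∀ r, Fintype (ι r)] [∀ r, DecidableEq (ι r)]
    (e : (r : ℕ) → Module.Basis (ι r) K ↥(T.gr X (r : ℤ)))
    (f : (r : ℕ) → ι r → ↥(T.gr X (2 * (WeilCoh.dim X.obj.left : ℤ) - r)))
    (hef : ∀ r, r ≤ 2 * WeilCoh.dim X.obj.left → ∀ i l : ι r,
      T.tr X ((f r l : T.H X) * (e r i : T.H X)) = if i = l then 1 else 0) :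
    T.cl P (WeilCoh.sm j (genericPoint ↥X.obj.left)) =
      ∑ r ∈ Finset.range (2 * WeilCoh.dim X.obj.left + 1), ∑ i : ι r,
        T.pull p (T.pull φ (e r i : T.H X)) * T.pull q (f r i : T.H X) := by
  classical
  have hc : codim P.obj.left (sm j (genericPoint ↥X.obj.left)) = dim X.obj.left :=
    codim_section k K T p q hP j hjp
  have hdP : dim P.obj.left = dim X.obj.left + dim X.obj.left := dim_prod k K T p q hP
  have hL : T.cl P (sm j (genericPoint ↥X.obj.left)) ∈ T.gr P (2 * (dim X.obj.left : ℤ)) :=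
    mem_of_eq T (by rw [hc]) (T.cl_mem P _)
  have hR : (∑ r ∈ Finset.range (2 * WeilCoh.dim X.obj.left + 1), ∑ i : ι r,
        T.pull p (T.pull φ (e r i : T.H X)) * T.pull q (f r i : T.H X)) ∈
      T.gr P (2 * (dim X.obj.left : ℤ)) := by
    refine Submodule.sum_mem _ (fun r _ => Submodule.sum_mem _ (fun i _ => ?_))
    exact mem_of_eq T (by ring) (SetLike.mul_mem_graded
      (T.pull_mem p _ _ (T.pull_mem φ _ _ (e r i).2)) (T.pull_mem q _ _ (f r i).2))
  refine ext_of_tr T P (2 * (dim X.obj.left : ℤ)) (2 * (dim X.obj.left : ℤ))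
    (by rw [hdP]; push_cast; ring) _ _ hL hR ?_
  intro β _
  -- the functional measuring the difference
  let D : T.H P := T.cl P (sm j (genericPoint ↥X.obj.left)) -
    ∑ r ∈ Finset.range (2 * WeilCoh.dim X.obj.left + 1), ∑ i : ι r,
        T.pull p (T.pull φ (e r i : T.H X)) * T.pull q (f r i : T.H X)
  have hD : D ∈ T.gr P (2 * (dim X.obj.left : ℤ)) := Submodule.sub_mem _ hL hR
  suffices hsuff : (T.tr P).comp (LinearMap.mulLeft K D) β = 0 by
    have h2 : T.tr P (D * β) = 0 := hsuff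
    rw [sub_mul, map_sub, sub_eq_zero] at h2
    exact h2
  refine ext_kunneth k K T p q hP _ ?_ β
  intro s t a b ha hb
  show T.tr P (D * (T.pull p a * T.pull q b)) = 0
  have hab : T.pull p a * T.pull q b ∈ T.gr P (s + t) :=
    SetLike.mul_mem_graded (T.pull_mem p s a ha) (T.pull_mem q t b hb)
  by_cases hst : s + t = 2 * (dim X.obj.left : ℤ)
  swap
  · exact T.tr_vanish P _ _ (SetLike.mul_mem_graded hD hab) (by rw [hdP]; push_cast; omega)
  by_cases ht : 0 ≤ t ∧ t ≤ 2 * (dim X.obj.left : ℤ)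
  swap
  · have hb0 : b = 0 := eq_zero_of_mem T X t b hb (by omega)
    rw [hb0, map_zero, mul_zero, mul_zero, map_zero]
  obtain ⟨t₀, rfl⟩ := Int.eq_ofNat_of_zero_le ht.1
  have ht₀ : t₀ ≤ 2 * dim X.obj.left := by omega
  obtain rfl : s = 2 * (dim X.obj.left : ℤ) - (t₀ : ℤ) := by omega
  -- expand b in the basis
  obtain ⟨c, hbc⟩ : ∃ c : ι t₀ → K, b = ∑ l, c l • ((e t₀ l : ↥(T.gr X (t₀ : ℤ))) : T.H X) := by
    refine ⟨fun l => (e t₀).repr ⟨b, hb⟩ l, ?_⟩
    have h1 := (e t₀).sum_repr ⟨b, hb⟩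
    have h2 : b = ((∑ i, ((e t₀).repr ⟨b, hb⟩) i • (e t₀) i : ↥(T.gr X (t₀ : ℤ))) : T.H X) :=
      (congrArg Subtype.val h1).symm
    rw [Submodule.coe_sum] at h2
    simp only [Submodule.coe_smul] at h2
    exact h2
  have hfb : ∀ i : ι t₀, T.tr X ((f t₀ i : T.H X) * b) = c i := by
    intro i
    rw [hbc, Finset.mul_sum, map_sum]
    simp_rw [mul_smul_comm, map_smul, smul_eq_mul, hef t₀ ht₀ _ i]
    simp
  have hφb : ∀ a' : T.H X, T.tr X (T.pull φ b * a') =
      ∑ l, c l * T.tr X (T.pull φ (e t₀ l : T.H X) * a') := by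
    intro a'
    rw [hbc, map_sum, Finset.sum_mul, map_sum]
    simp_rw [map_smul, smul_mul_assoc, map_smul, smul_eq_mul]
  -- left hand side
  have hLHS : T.tr P (T.cl P (sm j (genericPoint ↥X.obj.left)) * (T.pull p a * T.pull q b)) =
      ((-1 : K) ^ ((2 * (dim X.obj.left : ℤ) - (t₀ : ℤ)).natAbs * ((t₀ : ℕ) : ℤ).natAbs)) *
        ∑ l, c l * T.tr X (T.pull φ (e t₀ l : T.H X) * a) := by
    rw [tr_cl_section_mul k K T j p hjp _ (mem_of_eq T hst hab), map_mul,
      pull_section k K T j p hjp, pull_pull k K T j q, hjq,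
      T.gradedComm X _ _ a (T.pull φ b) ha (T.pull_mem φ _ b hb), map_smul, smul_eq_mul, hφb]
  -- right hand side
  have hterm : ∀ (r : ℕ) (i : ι r),
      T.tr P (T.pull p (T.pull φ (e r i : T.H X)) * T.pull q (f r i : T.H X) *
        (T.pull p a * T.pull q b)) =
      ((-1 : K) ^ ((2 * (dim X.obj.left : ℤ) - (r : ℤ)).natAbs *
        (2 * (dim X.obj.left : ℤ) - (t₀ : ℤ)).natAbs)) *
        T.tr P (T.pull p (T.pull φ (e r i : T.H X) * a) * T.pull q ((f r i : T.H X) * b)) := by
    intro r i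
    rw [termcalc k K T p q _ _ _ a _ b (f r i).2 ha, map_smul, smul_eq_mul]
  have hRHS : T.tr P ((∑ r ∈ Finset.range (2 * WeilCoh.dim X.obj.left + 1), ∑ i : ι r,
        T.pull p (T.pull φ (e r i : T.H X)) * T.pull q (f r i : T.H X)) *
        (T.pull p a * T.pull q b)) =
      ((-1 : K) ^ ((2 * (dim X.obj.left : ℤ) - (t₀ : ℤ)).natAbs *
        (2 * (dim X.obj.left : ℤ) - (t₀ : ℤ)).natAbs)) *
        ∑ l, c l * T.tr X (T.pull φ (e t₀ l : T.H X) * a) := by
    rw [Finset.sum_mul, map_sum, Finset.sum_eq_single t₀]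
    · rw [Finset.sum_mul, map_sum, Finset.mul_sum]
      refine Finset.sum_congr rfl (fun i _ => ?_)
      rw [hterm t₀ i, T.tr_prod p q hP _ _
        (mem_of_eq T (by ring) (SetLike.mul_mem_graded (T.pull_mem φ _ _ (e t₀ i).2) ha))
        (mem_of_eq T (by ring) (SetLike.mul_mem_graded (f t₀ i).2 hb)), hfb i]
      ring
    · intro r hr hne
      rw [Finset.sum_mul, map_sum]
      refine Finset.sum_eq_zero (fun i _ => ?_)
      rw [hterm r i]
      by_cases hlt : r < t₀
      · have h0 : (f r i : T.H X) * b = 0 :=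
          eq_zero_of_mem T X _ _ (SetLike.mul_mem_graded (f r i).2 hb) (Or.inr (by omega))
        rw [h0, map_zero, mul_zero, map_zero, mul_zero]
      · have h0 : T.pull φ (e r i : T.H X) * a = 0 :=
          eq_zero_of_mem T X _ _ (SetLike.mul_mem_graded (T.pull_mem φ _ _ (e r i).2) ha)
            (Or.inr (by omega))
        rw [h0, map_zero, zero_mul, map_zero, mul_zero]
    · intro hnot
      exact absurd (Finset.mem_range.mpr (by omega)) hnot
  show T.tr P ((T.cl P (sm j (genericPoint ↥X.obj.left)) -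
    ∑ r ∈ Finset.range (2 * WeilCoh.dim X.obj.left + 1), ∑ i : ι r,
        T.pull p (T.pull φ (e r i : T.H X)) * T.pull q (f r i : T.H X)) *
      (T.pull p a * T.pull q b)) = 0
  rw [sub_mul, map_sub, hLHS, hRHS, sub_eq_zero]
  congr 1
  have hm : (2 * (dim X.obj.left : ℤ) - (t₀ : ℤ)).natAbs = 2 * dim X.obj.left - t₀ := by omega
  have ht' : ((t₀ : ℕ) : ℤ).natAbs = t₀ := Int.natAbs_natCast t₀
  rw [hm, ht']
  apply neg_one_pow_eq_of_even_add
  refine ⟨(2 * dim X.obj.left - t₀) * dim X.obj.left, ?_⟩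
  have h3 : (2 * dim X.obj.left - t₀) + t₀ = 2 * dim X.obj.left := by omega
  calc (2 * dim X.obj.left - t₀) * t₀ + (2 * dim X.obj.left - t₀) * (2 * dim X.obj.left - t₀)
      = (2 * dim X.obj.left - t₀) * ((2 * dim X.obj.left - t₀) + t₀) := by ring
    _ = (2 * dim X.obj.left - t₀) * (2 * dim X.obj.left) := by rw [h3]
    _ = _ := by ring

end Groth.Agent.S15451
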