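import Groth.Statements.S15450
import Mathlib
import Groth.Agent.S15451

set_option autoImplicit false
universe u v
open CategoryTheory AlgebraicGeometry
open WeilCoh

namespace Groth.Agent.S15450


open Groth.Agent.Lib.helper12.WeilGraph Groth.Agent.Lib.helper23.WeilCohLib

/-- A basis of `H^r(X)`. -/
noncomputable def eB (k : Type u) [Field k] [IsAlgClosed k] (K : Type v) [Field K] [CharZero K]
    (T : WeilCoh.Theory k K) (X : WeilCoh.Var k) (r : ℕ) :
    Module.Basis (Fin (Module.finrank K ↥(T.gr X (r : ℤ)))) K ↥(T.gr X (r : ℤ)) :=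
  Module.finBasis K _

/-- The dual family in `H^{2n-r}(X)` for Poincaré duality. -/
noncomputable def fB (k : Type u) [Field k] [IsAlgClosed k] (K : Type v) [Field K] [CharZero K]
    (T : WeilCoh.Theory k K) (X : WeilCoh.Var k) (r : ℕ)
    (l : Fin (Module.finrank K ↥(T.gr X (r : ℤ)))) :
    ↥(T.gr X (2 * (WeilCoh.dim X.obj.left : ℤ) - r)) :=
  haveI := T.duality X (2 * (WeilCoh.dim X.obj.left : ℤ) - r) r (by ring)
  (pairing K (T.gr X (2 * (WeilCoh.dim X.obj.left : ℤ) - r)) (T.gr X r)
    (T.tr X)).toPerfPair.symm ((eB k K T X r).coord l)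

theorem fB_spec (k : Type u) [Field k] [IsAlgClosed k] (K : Type v) [Field K] [CharZero K]
    (T : WeilCoh.Theory k K) (X : WeilCoh.Var k) (r : ℕ)
    (l : Fin (Module.finrank K ↥(T.gr X (r : ℤ)))) (x : ↥(T.gr X (r : ℤ))) :
    T.tr X ((fB k K T X r l : T.H X) * (x : T.H X)) = (eB k K T X r).repr x l := by
  haveI := T.duality X (2 * (WeilCoh.dim X.obj.left : ℤ) - r) r (by ring)
  have h := LinearMap.apply_symm_toPerfPair_self
    (pairing K (T.gr X (2 * (WeilCoh.dim X.obj.left : ℤ) - r)) (T.gr X r) (T.tr X))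
    ((eB k K T X r).coord l)
  have h2 : T.tr X ((fB k K T X r l : T.H X) * (x : T.H X)) = (eB k K T X r).coord l x :=
    LinearMap.congr_fun h x
  rw [h2, Module.Basis.coord_apply]

theorem sign_aux (K : Type v) [Field K] (n r : ℕ) (hr : r ≤ 2 * n) :
    (-1 : K) ^ (((r : ℕ) : ℤ).natAbs * (2 * (n : ℤ) - (r : ℤ)).natAbs) = (-1) ^ r := by
  have h1 : ((r : ℕ) : ℤ).natAbs = r := Int.natAbs_natCast r
  have h2 : (2 * (n : ℤ) - (r : ℤ)).natAbs = 2 * n - r := by omega
  rw [h1, h2]
  apply Groth.Agent.S15451.neg_one_pow_eq_of_even_add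
  rcases Nat.even_or_odd r with ⟨c, hc⟩ | ⟨c, hc⟩
  · refine ⟨c * (2 * n - r) + c, ?_⟩
    rw [hc]; ring
  · have hm : 2 * n - r + 1 = 2 * (n - c) := by omega
    refine ⟨r * (n - c), ?_⟩
    calc r * (2 * n - r) + r = r * (2 * n - r + 1) := by ring
      _ = r * (2 * (n - c)) := by rw [hm]
      _ = r * (n - c) + r * (n - c) := by ring

/-- Let H^* be a Weil cohomology theory (coefficients in K of characteristic zero, on nonsingular
connected projective varieties over an algebraically closed field k), φ an endomorphism of such a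
variety X, and Γ_φ, Δ ⊂ X × X the graph of φ and the diagonal. Then (Γ_φ · Δ) = Σ_{i=0}^{2 dim X}
(−1)^i trace(φ^* | H^i(X)). The intersection number is written in the form Tr_{X×X}(cl(Γ_φ) ∪ cl(Δ))
that the argument establishes (it equals the Chow-ring intersection number once the cycle class map
is known to be a ring homomorphism compatible with degrees); X × X is any object P with a cartesian
square p, q : P → X over Spec k, Γ_φ and Δ are the closures of the images of the generic point of X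
under the sections j = (id, φ) and d = (id, id) of p. -/
theorem result (k : Type u) [Field k] [IsAlgClosed k] (K : Type v) [Field K] [CharZero K]
    (T : WeilCoh.Theory k K)
    (X P : WeilCoh.Var k) [IrreducibleSpace ↥X.obj.left] (φ : X ⟶ X)
    (p q : P ⟶ X) (hP : WeilCoh.IsProd p q) (j d : X ⟶ P)
    (hjp : j ≫ p = 𝟙 X) (hjq : j ≫ q = φ) (hdp : d ≫ p = 𝟙 X) (hdq : d ≫ q = 𝟙 X) :
    T.tr P (T.cl P (WeilCoh.sm j (genericPoint ↥X.obj.left)) * T.cl P (WeilCoh.sm d (genericPoint ↥X.obj.left))) =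
      ∑ i ∈ Finset.range (2 * WeilCoh.dim X.obj.left + 1),
        (-1 : K) ^ i * LinearMap.trace K ↥(T.gr X (i : ℤ)) (T.pullDeg φ (i : ℤ)) := by
  classical
  have hef : ∀ r, r ≤ 2 * WeilCoh.dim X.obj.left →
      ∀ i l : Fin (Module.finrank K ↥(T.gr X (r : ℤ))),
      T.tr X ((fB k K T X r l : T.H X) * (eB k K T X r i : T.H X)) = if i = l then 1 else 0 := by
    intro r _ i l
    rw [fB_spec, Module.Basis.repr_self, Finsupp.single_apply]
  have hΓ := Groth.Agent.S15451.result k K T X P φ p q hP j hjp hjq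
    (fun r => Fin (Module.finrank K ↥(T.gr X (r : ℤ)))) (eB k K T X) (fB k K T X) hef
  have hcj : codim P.obj.left (sm j (genericPoint ↥X.obj.left)) = dim X.obj.left :=
    codim_section k K T p q hP j hjp
  have hcd : codim P.obj.left (sm d (genericPoint ↥X.obj.left)) = dim X.obj.left :=
    codim_section k K T p q hP d hdp
  have hΓmem : T.cl P (sm j (genericPoint ↥X.obj.left)) ∈ T.gr P (2 * (dim X.obj.left : ℤ)) :=
    mem_of_eq T (by rw [hcj]) (T.cl_mem P _)
  have hΔmem : T.cl P (sm d (genericPoint ↥X.obj.left)) ∈ T.gr P (2 * (dim X.obj.left : ℤ)) :=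
    mem_of_eq T (by rw [hcd]) (T.cl_mem P _)
  have hcomm := T.gradedComm P _ _ _ _ hΓmem hΔmem
  have hsign : (-1 : K) ^ ((2 * (dim X.obj.left : ℤ)).natAbs * (2 * (dim X.obj.left : ℤ)).natAbs)
      = 1 := by
    have h2 : (2 * (dim X.obj.left : ℤ)).natAbs = 2 * dim X.obj.left := by omega
    rw [h2, mul_assoc, pow_mul]
    simp
  rw [hcomm, hsign, one_smul, tr_cl_section_mul k K T d p hdp _ hΓmem, hΓ, map_sum, map_sum]
  refine Finset.sum_congr rfl (fun r hr => ?_)
  have hr' : r ≤ 2 * dim X.obj.left := by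
    have := Finset.mem_range.mp hr
    omega
  rw [map_sum, map_sum]
  have hterm : ∀ i : Fin (Module.finrank K ↥(T.gr X (r : ℤ))),
      T.tr X (T.pull d (T.pull p (T.pull φ (eB k K T X r i : T.H X)) *
        T.pull q (fB k K T X r i : T.H X))) =
      (-1 : K) ^ r * (eB k K T X r).repr (T.pullDeg φ (r : ℤ) (eB k K T X r i)) i := by
    intro i
    rw [map_mul, pull_section k K T d p hdp, pull_section k K T d q hdq,
      T.gradedComm X _ _ _ _ (T.pull_mem φ _ _ (eB k K T X r i).2) (fB k K T X r i).2, map_smul,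
      smul_eq_mul, sign_aux K (dim X.obj.left) r hr']
    have hx : ((T.pullDeg φ (r : ℤ) (eB k K T X r i) : ↥(T.gr X (r : ℤ))) : T.H X) =
        T.pull φ (eB k K T X r i : T.H X) := rfl
    rw [← hx, fB_spec]
  rw [Finset.sum_congr rfl (fun i _ => hterm i), ← Finset.mul_sum,
    LinearMap.trace_eq_matrix_trace K (eB k K T X r), Matrix.trace]
  congr 1
  refine Finset.sum_congr rfl (fun i _ => ?_)
  rw [Matrix.diag_apply, LinearMap.toMatrix_apply]

end Groth.Agent.S15450
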