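import Groth.Statements.S15458
import Mathlib
import Groth.Agent.S15448

set_option autoImplicit false
universe u v
open CategoryTheory AlgebraicGeometry
open WeilCoh

namespace Groth.Agent.S15458


open Groth.Agent.Lib.helper12.WeilGraph Groth.Agent.Lib.helper23.WeilCohLib

theorem finiteType_polyGrading (n : ℕ) (R : Type u) [CommRing R] :
    Algebra.FiniteType (CohB1.polyGrading n R 0) (MvPolynomial (Fin (n + 1)) R) := by
  have h1 : Algebra.FiniteType R (MvPolynomial (Fin (n + 1)) R) := inferInstance
  have h2 : IsScalarTower R (CohB1.polyGrading n R 0) (MvPolynomial (Fin (n + 1)) R) := by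
    refine IsScalarTower.of_algebraMap_eq (R := R) (S := CohB1.polyGrading n R 0)
      (A := MvPolynomial (Fin (n + 1)) R) (fun r => ?_)
    rfl
  exact Algebra.FiniteType.of_restrictScalars_finiteType R _ _

theorem quasiCompact_toSpec (n : ℕ) (R : Type u) [CommRing R] :
    QuasiCompact (CohB1.ProjSpace.toSpec n R) := by
  haveI := finiteType_polyGrading n R
  unfold CohB1.ProjSpace.toSpec
  have h1 : QuasiCompact (Proj.toSpecZero (CohB1.polyGrading n R)) := inferInstance
  have h2 : QuasiCompact (Spec.map (CommRingCat.ofHom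
      (algebraMap R ↥(CohB1.polyGrading n R 0)))) := inferInstance
  exact MorphismProperty.comp_mem _ _ _ h1 h2

theorem quasiCompact_toBase (n : ℕ) (S : Scheme.{u}) :
    QuasiCompact (CohB1.ProjSpaceOver.toBase n S) := by
  unfold CohB1.ProjSpaceOver.toBase
  exact MorphismProperty.pullback_snd _ _ (quasiCompact_toSpec n (ULift.{u} ℤ))

theorem compactSpace_var (k : Type u) [Field k] (X : WeilCoh.Var k) :
    CompactSpace X.obj.left := by
  obtain ⟨n, i, hi, hcomp⟩ := X.property.2.1
  haveI := quasiCompact_toBase n (Spec (CommRingCat.of k))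
  haveI : QuasiCompact X.obj.hom := by
    rw [← hcomp]; infer_instance
  exact (quasiCompact_iff_compactSpace X.obj.hom).mp inferInstance

theorem delta_eq_of_residueDegree_ne_zero {X Y S : Scheme.{u}} (f : X ⟶ Y) (q : Y ⟶ S)
    (p : X ⟶ S) (hp : f ≫ q = p) (δX : X → ℤ) (δY : Y → ℤ) (δS : S → ℤ)
    (hX : Cyc.DeltaCompat p δX δS) (hY : Cyc.DeltaCompat q δY δS) (x : X)
    (hdeg : f.residueDegree x ≠ 0) : δX x = δY (f x) := by
  subst hp
  obtain ⟨n, hn, hδ⟩ := hX x
  obtain ⟨m, hm, hδ'⟩ := hY (f x)
  letI A1 : Algebra (S.residueField (q (f x))) (Y.residueField (f x)) :=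
    (q.residueFieldMap (f x)).hom.toAlgebra
  letI A2 : Algebra (Y.residueField (f x)) (X.residueField x) :=
    (f.residueFieldMap x).hom.toAlgebra
  letI A3 : Algebra (S.residueField (q (f x))) (X.residueField x) :=
    ((f ≫ q).residueFieldMap x).hom.toAlgebra
  haveI : IsScalarTower (S.residueField (q (f x))) (Y.residueField (f x)) (X.residueField x) :=
    IsScalarTower.of_algebraMap_eq (fun a => by
      show ((f ≫ q).residueFieldMap x).hom a =
        (f.residueFieldMap x).hom ((q.residueFieldMap (f x)).hom a)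
      rw [Scheme.residueFieldMap_comp]; rfl)
  have hadd := trdeg_add_eq (S.residueField (q (f x))) (Y.residueField (f x))
    (A := X.residueField x)
  have hfin : Module.Finite (Y.residueField (f x)) (X.residueField x) :=
    Module.finite_of_finrank_pos (Nat.pos_of_ne_zero hdeg)
  haveI : Algebra.IsAlgebraic (Y.residueField (f x)) (X.residueField x) :=
    Algebra.IsAlgebraic.of_finite _ _
  rw [trdeg_eq_zero (R := Y.residueField (f x)) (A := X.residueField x), add_zero] at hadd
  have hnm : (n : Cardinal) = m := by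
    rw [← hn, ← hm]; exact hadd.symm
  have hnm' : n = m := by exact_mod_cast hnm
  rw [hδ, hδ', hnm']
  rfl

section Theory

variable (k : Type u) [Field k] [IsAlgClosed k] (K : Type v) [Field K] [CharZero K]
  (T : WeilCoh.Theory k K)

/-- Push-forward identity against arbitrary (not necessarily homogeneous) classes. -/
theorem star {X Y : WeilCoh.Var k} (f : X ⟶ Y) (x : X.obj.left) (b : T.H Y) :
    T.tr X (T.cl X x * T.pull f b) =
      ((sm f).residueDegree x : K) * T.tr Y (T.cl Y (sm f x) * b) := by
  have hb : b ∈ ⨆ i, T.gr Y i := by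
    rw [(T.decomp Y).submodule_iSup_eq_top]; trivial
  refine Submodule.iSup_induction (T.gr Y)
    (motive := fun b => T.tr X (T.cl X x * T.pull f b) =
      ((sm f).residueDegree x : K) * T.tr Y (T.cl Y (sm f x) * b)) hb ?_ ?_ ?_
  · intro j b hb
    by_cases hj : j = 2 * (pdim X.obj.left x : ℤ)
    · subst hj
      exact T.cl_push f x b hb
    · have hpleX := Groth.Agent.S19414.pdim_le_dim k X x
      have hcX : (codim X.obj.left x : ℤ) = (dim X.obj.left : ℤ) - (pdim X.obj.left x : ℤ) := by
        unfold codim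
        rw [Nat.cast_sub hpleX]
      have h0 : T.tr X (T.cl X x * T.pull f b) = 0 :=
        T.tr_vanish X _ _ (SetLike.mul_mem_graded (T.cl_mem X x) (T.pull_mem f j b hb))
          (by rw [hcX]; omega)
      rw [h0]
      by_cases hdeg : (sm f).residueDegree x = 0
      · rw [hdeg, Nat.cast_zero, zero_mul]
      · have hp := Groth.Agent.S15448.pdim_eq_of_residueDegree_ne_zero k f x hdeg
        have hpleY := Groth.Agent.S19414.pdim_le_dim k Y (sm f x)
        have hcY : (codim Y.obj.left (sm f x) : ℤ) =
            (dim Y.obj.left : ℤ) - (pdim Y.obj.left (sm f x) : ℤ) := by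
          unfold codim
          rw [Nat.cast_sub hpleY]
        rw [T.tr_vanish Y _ _ (SetLike.mul_mem_graded (T.cl_mem Y (sm f x)) hb)
          (by rw [hcY, hp]; omega), mul_zero]
  · rw [map_zero, mul_zero, map_zero, mul_zero, map_zero, mul_zero]
  · intro b1 b2 h1 h2
    rw [map_add (T.pull f), mul_add, map_add (T.tr X), h1, h2, mul_add (T.cl Y (sm f x)),
      map_add (T.tr Y), mul_add]

theorem tr_clCyc_mul (Z : WeilCoh.Var k) (γ : AlgebraicCycle Z.obj.left ℤ)
    (hfin : (Function.support (fun z => γ z)).Finite) (c : T.H Z) :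
    T.tr Z (T.clCyc Z γ * c) = ∑ᶠ z : Z.obj.left, ((γ z : ℤ) : K) * T.tr Z (T.cl Z z * c) := by
  have hfin1 : (Function.support (fun z : Z.obj.left => ((γ z : ℤ) : K) • T.cl Z z)).Finite := by
    refine hfin.subset ?_
    intro z hz
    rw [Function.mem_support] at hz ⊢
    intro h0
    apply hz
    rw [h0, Int.cast_zero, zero_smul]
  have hfin2 : (Function.support
      (fun z : Z.obj.left => ((γ z : ℤ) : K) • T.cl Z z * c)).Finite := by
    refine hfin1.subset ?_
    intro z hz
    rw [Function.mem_support] at hz ⊢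
    intro h0
    apply hz
    rw [h0, zero_mul]
  unfold TheoryOn.clCyc
  rw [finsum_mul' _ _ hfin1]
  have h1 : T.tr Z (∑ᶠ z : Z.obj.left, ((γ z : ℤ) : K) • T.cl Z z * c) =
      ∑ᶠ z : Z.obj.left, T.tr Z (((γ z : ℤ) : K) • T.cl Z z * c) :=
    (T.tr Z).toAddMonoidHom.map_finsum hfin2
  rw [h1]
  refine finsum_congr (fun z => ?_)
  rw [smul_mul_assoc, map_smul, smul_eq_mul]

end Theory

/-- The cycle class map is compatible with push-forward: for a Weil cohomology theory H^* (coefficients
in K of characteristic zero, on nonsingular connected projective varieties over an algebraically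
closed field k), a morphism f : X → Y of such varieties and a cycle α on X, f_*(cl(α)) = cl(f_*(α)).
Stated through the identity characterising the cohomological push-forward: Tr_Y(cl(f_* α) ∪ β) =
Tr_X(cl(α) ∪ f^*(β)) for every β ∈ H^*(Y), where f_* α is the proper push-forward of cycles (the
coefficient of [V] goes to deg(V/f(V)) [f(V)], and to 0 when f(V) has smaller dimension) for the
dimension functions δ_X, δ_Y induced from weight 0 on Spec k. -/
theorem result (k : Type u) [Field k] [IsAlgClosed k] (K : Type v) [Field K] [CharZero K]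
    (T : WeilCoh.Theory k K) (X Y : WeilCoh.Var k) (f : X ⟶ Y)
    [QuasiCompact (WeilCoh.sm f)]
    (δX : ↥X.obj.left → ℤ) (hδX : Cyc.DeltaCompat X.obj.hom δX (fun _ => 0))
    (δY : ↥Y.obj.left → ℤ) (hδY : Cyc.DeltaCompat Y.obj.hom δY (fun _ => 0))
    (α : AlgebraicCycle X.obj.left ℤ) (b : T.H Y) :
    T.tr Y (T.clCyc Y (AlgebraicCycle.map (WeilCoh.sm f) δX δY α) * b) =
      T.tr X (T.clCyc X α * T.pull f b) := by
  classical
  haveI := compactSpace_var k X
  haveI := compactSpace_var k Y
  have hfinα : (Function.support (fun x => α x)).Finite := by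
    have := α.locallyFiniteSupport.finite_inter_support_of_isCompact (isCompact_univ)
    rw [Set.univ_inter] at this
    exact this
  have hfinβ : (Function.support
      (fun y => (AlgebraicCycle.map (WeilCoh.sm f) δX δY α) y)).Finite := by
    have := (AlgebraicCycle.map (WeilCoh.sm f) δX δY α).locallyFiniteSupport.finite_inter_support_of_isCompact
      (isCompact_univ)
    rw [Set.univ_inter] at this
    exact this
  rw [tr_clCyc_mul k K T Y _ hfinβ b, tr_clCyc_mul k K T X α hfinα (T.pull f b)]
  simp_rw [star k K T f _ b]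
  -- notation
  set t : Y.obj.left → K := fun y => T.tr Y (T.cl Y y * b) with ht
  have hβy : ∀ y : Y.obj.left, (AlgebraicCycle.map (WeilCoh.sm f) δX δY α) y =
      ∑ᶠ x ∈ (⇑(sm f)) ⁻¹' {y},
        α x * ((AlgebraicCycle.mapCoeff (sm f) δX δY x : ℕ) : ℤ) := fun y => rfl
  let s : Finset X.obj.left := hfinα.toFinset
  have hs : ∀ x, x ∈ s ↔ α x ≠ 0 := fun x => by
    simp [s, Function.mem_support]
  have hβy' : ∀ y : Y.obj.left, (AlgebraicCycle.map (WeilCoh.sm f) δX δY α) y =
      ∑ x ∈ s.filter (fun x => (sm f) x = y),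
        α x * ((AlgebraicCycle.mapCoeff (sm f) δX δY x : ℕ) : ℤ) := by
    intro y
    rw [hβy y]
    apply finsum_mem_eq_sum_of_inter_support_eq
    ext x
    simp only [Set.mem_inter_iff, Set.mem_preimage, Set.mem_singleton_iff, Function.mem_support,
      Finset.coe_filter, Set.mem_ofPred_eq]
    constructor
    · rintro ⟨h1, h2⟩
      refine ⟨⟨(hs x).mpr ?_, h1⟩, h2⟩
      intro h0
      apply h2
      rw [h0, zero_mul]
    · rintro ⟨⟨_, h1⟩, h2⟩
      exact ⟨h1, h2⟩
  -- left side as a finite sum over the image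
  have hL : (∑ᶠ y : Y.obj.left,
      (((AlgebraicCycle.map (WeilCoh.sm f) δX δY α) y : ℤ) : K) * t y) =
      ∑ y ∈ s.image (sm f),
        (((AlgebraicCycle.map (WeilCoh.sm f) δX δY α) y : ℤ) : K) * t y := by
    apply finsum_eq_sum_of_support_subset
    intro y hy
    rw [Function.mem_support] at hy
    rw [Finset.mem_coe, Finset.mem_image]
    by_contra hne
    apply hy
    have : s.filter (fun x => (sm f) x = y) = ∅ := by
      rw [Finset.filter_eq_empty_iff]
      intro x hx hxy
      exact hne ⟨x, hx, hxy⟩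
    rw [hβy' y, this, Finset.sum_empty, Int.cast_zero, zero_mul]
  have hR : (∑ᶠ x : X.obj.left, ((α x : ℤ) : K) *
      (((sm f).residueDegree x : K) * t ((sm f) x))) =
      ∑ x ∈ s, ((α x : ℤ) : K) * (((sm f).residueDegree x : K) * t ((sm f) x)) := by
    apply finsum_eq_sum_of_support_subset
    intro x hx
    rw [Function.mem_support] at hx
    rw [Finset.mem_coe, hs]
    intro h0
    apply hx
    rw [h0, Int.cast_zero, zero_mul]
  rw [hL, hR]
  rw [← Finset.sum_fiberwise_of_maps_to (s := s) (t := s.image (sm f)) (g := (sm f))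
    (fun x hx => Finset.mem_image_of_mem _ hx)]
  refine Finset.sum_congr rfl (fun y _ => ?_)
  rw [hβy' y, Int.cast_sum, Finset.sum_mul]
  refine Finset.sum_congr rfl (fun x hx => ?_)
  have hxy : (sm f) x = y := (Finset.mem_filter.mp hx).2
  rw [Int.cast_mul, Int.cast_natCast, hxy]
  have hm : ((AlgebraicCycle.mapCoeff (sm f) δX δY x : ℕ) : K) * t y =
      ((sm f).residueDegree x : K) * t y := by
    by_cases hδ : δX x = δY ((sm f) x)
    · have : AlgebraicCycle.mapCoeff (sm f) δX δY x = (sm f).residueDegree x := if_pos hδ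
      rw [this]
    · have h1 : AlgebraicCycle.mapCoeff (sm f) δX δY x = 0 := if_neg hδ
      have h2 : (sm f).residueDegree x = 0 := by
        by_contra hne
        exact hδ (delta_eq_of_residueDegree_ne_zero (sm f) Y.obj.hom X.obj.hom (Over.w f.hom)
          δX δY _ hδX hδY x hne)
      rw [h1, h2]
  rw [mul_assoc, hm]

end Groth.Agent.S15458
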