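import Groth.Statements.S15465
import Mathlib

set_option autoImplicit false
universe v u
open HomAlg

namespace Groth.Agent.S15465

open CategoryTheory CategoryTheory.Limits in
/-- In an abelian category let 0 → A₂ → B₂ → C₂ → 0 (maps i₂, π₂), 0 → A₁ → A₂ → A₃ → 0 (maps i₁, p₁)
and 0 → C₁ → C₂ → C₃ → 0 (maps j, q) be short exact sequences, let α = i₁ ≫ i₂ : A₁ → B₂ and β = π₂
≫ q : B₂ → C₃, and let K = ker β / im α be the homology object of the complex A₁ → B₂ → C₃. Let f :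
A₃ → K be the map induced by i₂ (the unique map whose composite with p₁ is the homology class of the
cycle i₂) and g : K → C₁ the map induced by π₂ (the unique map whose composite with j is the map K →
C₂ induced by π₂). Then 0 → A₃ → K → C₁ → 0, with maps f and g, is a short exact sequence. (The
hypotheses w, h₂, h₃ are consequences of i₂ ≫ π₂ = 0, carried so that the maps can be named; the
published statement assumes in addition that the category has enough injective objects, which plays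
no role in this assertion.) -/
theorem result
    {C : Type u} [Category.{v} C] [Abelian C] {A₁ A₂ A₃ B₂ C₁ C₂ C₃ : C}
    (i₁ : A₁ ⟶ A₂) (p₁ : A₂ ⟶ A₃) (wA : i₁ ≫ p₁ = 0) (hA : (ShortComplex.mk i₁ p₁ wA).ShortExact)
    (i₂ : A₂ ⟶ B₂) (π₂ : B₂ ⟶ C₂) (wB : i₂ ≫ π₂ = 0) (hB : (ShortComplex.mk i₂ π₂ wB).ShortExact)
    (j : C₁ ⟶ C₂) (q : C₂ ⟶ C₃) (wC : j ≫ q = 0) (hC : (ShortComplex.mk j q wC).ShortExact)
    (w : (i₁ ≫ i₂) ≫ (π₂ ≫ q) = 0) (h₂ : i₂ ≫ (π₂ ≫ q) = 0) (h₃ : (i₁ ≫ i₂) ≫ π₂ = 0)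
    (f : A₃ ⟶ (CategoryTheory.ShortComplex.mk (i₁ ≫ i₂) (π₂ ≫ q) w).homology)
    (g : (CategoryTheory.ShortComplex.mk (i₁ ≫ i₂) (π₂ ≫ q) w).homology ⟶ C₁)
    (hf : p₁ ≫ f = (CategoryTheory.ShortComplex.mk (i₁ ≫ i₂) (π₂ ≫ q) w).liftCycles i₂ h₂ ≫ (CategoryTheory.ShortComplex.mk (i₁ ≫ i₂) (π₂ ≫ q) w).homologyπ)
    (hg : g ≫ j = (CategoryTheory.ShortComplex.mk (i₁ ≫ i₂) (π₂ ≫ q) w).homologyι ≫ (CategoryTheory.ShortComplex.mk (i₁ ≫ i₂) (π₂ ≫ q) w).descOpcycles π₂ h₃) :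
    ∃ wfg : f ≫ g = 0, (ShortComplex.mk f g wfg).ShortExact := by
  have : Mono i₁ := hA.mono_f
  have : Epi p₁ := hA.epi_g
  have : Mono i₂ := hB.mono_f
  have : Epi π₂ := hB.epi_g
  have : Mono j := hC.mono_f
  have : Epi q := hC.epi_g
  have wfg : f ≫ g = 0 := by
    rw [← cancel_epi p₁, ← cancel_mono j]
    simp only [Category.assoc, comp_zero, zero_comp]
    rw [hg, reassoc_of% hf, ShortComplex.homology_π_ι_assoc, ShortComplex.liftCycles_i_assoc,
      ShortComplex.p_descOpcycles]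
    exact wB
  refine ⟨wfg, ShortComplex.ShortExact.mk' ?_ ?_ ?_⟩
  · -- exactness
    rw [ShortComplex.exact_iff_exact_up_to_refinements]
    intro A k hk
    dsimp at k hk ⊢
    obtain ⟨A', π, hπ, z, hz⟩ := surjective_up_to_refinements_of_epi
      (ShortComplex.mk (i₁ ≫ i₂) (π₂ ≫ q) w).homologyπ k
    have hb0 : (z ≫ (ShortComplex.mk (i₁ ≫ i₂) (π₂ ≫ q) w).iCycles) ≫ π₂ = 0 := by
      have h1 : z ≫ (ShortComplex.mk (i₁ ≫ i₂) (π₂ ≫ q) w).homologyπ ≫ g ≫ j = 0 := by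
        rw [← reassoc_of% hz, reassoc_of% hk, zero_comp, comp_zero]
      rw [hg, ShortComplex.homology_π_ι_assoc, ShortComplex.p_descOpcycles] at h1
      rw [Category.assoc]
      exact h1
    obtain ⟨A'', π', hπ', a, ha⟩ := hB.exact.exact_up_to_refinements _ hb0
    dsimp at a ha
    refine ⟨A'', π' ≫ π, epi_comp _ _, a ≫ p₁, ?_⟩
    have h2 : a ≫ (ShortComplex.mk (i₁ ≫ i₂) (π₂ ≫ q) w).liftCycles i₂ h₂ = π' ≫ z := by
      rw [← cancel_mono (ShortComplex.mk (i₁ ≫ i₂) (π₂ ≫ q) w).iCycles, Category.assoc,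
        ShortComplex.liftCycles_i, Category.assoc, ← ha]
    rw [Category.assoc, hz, Category.assoc, hf, reassoc_of% h2]
  · -- mono
    apply Preadditive.mono_of_cancel_zero
    intro P x hx
    obtain ⟨P', π, hπ, y, hy⟩ := surjective_up_to_refinements_of_epi p₁ x
    have h1 : (y ≫ (ShortComplex.mk (i₁ ≫ i₂) (π₂ ≫ q) w).liftCycles i₂ h₂) ≫
        (ShortComplex.mk (i₁ ≫ i₂) (π₂ ≫ q) w).homologyπ = 0 := by
      rw [Category.assoc, ← hf, ← reassoc_of% hy, hx, comp_zero]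
    have hex : (ShortComplex.mk (ShortComplex.mk (i₁ ≫ i₂) (π₂ ≫ q) w).toCycles
        (ShortComplex.mk (i₁ ≫ i₂) (π₂ ≫ q) w).homologyπ (by simp)).Exact :=
      ShortComplex.exact_of_g_is_cokernel _ (ShortComplex.mk (i₁ ≫ i₂) (π₂ ≫ q) w).homologyIsCokernel
    obtain ⟨P'', π', hπ', z, hz⟩ := hex.exact_up_to_refinements _ h1
    dsimp at z hz
    have h3 : (π' ≫ y) ≫ i₂ = (z ≫ i₁) ≫ i₂ := by
      have h4 := congrArg (· ≫ (ShortComplex.mk (i₁ ≫ i₂) (π₂ ≫ q) w).iCycles) hz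
      simpa using h4
    have h4 : π' ≫ y = z ≫ i₁ := (cancel_mono i₂).1 h3
    have h5 : (π' ≫ π) ≫ x = 0 := by
      rw [Category.assoc, hy, ← Category.assoc, h4, Category.assoc, wA, comp_zero]
    have : Epi (π' ≫ π) := epi_comp _ _
    exact (cancel_epi (π' ≫ π)).1 (by rw [h5, comp_zero])
  · -- epi
    rw [epi_iff_surjective_up_to_refinements]
    intro A c
    dsimp at c ⊢
    obtain ⟨A', π, hπ, b, hb⟩ := surjective_up_to_refinements_of_epi π₂ (c ≫ j)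
    have hbβ : b ≫ (π₂ ≫ q) = 0 := by
      rw [← reassoc_of% hb, wC, comp_zero, comp_zero]
    refine ⟨A', π, hπ, (ShortComplex.mk (i₁ ≫ i₂) (π₂ ≫ q) w).liftCycles b hbβ ≫
      (ShortComplex.mk (i₁ ≫ i₂) (π₂ ≫ q) w).homologyπ, ?_⟩
    rw [← cancel_mono j, Category.assoc, hb, Category.assoc, Category.assoc, hg,
      ShortComplex.homology_π_ι_assoc, ShortComplex.liftCycles_i_assoc, ShortComplex.p_descOpcycles]

end Groth.Agent.S15465
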