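import Groth.Statements.S1547
import Mathlib
import Groth.Agent.S7590

set_option autoImplicit false
universe u
open CategoryTheory CategoryTheory.Limits AlgebraicGeometry
open Variety

namespace Groth.Agent.S1547

section Aux
open CategoryTheory CategoryTheory.Limits AlgebraicGeometry TensorProduct

theorem eq_preimage_image (k : Type u) [Field k] (X : Scheme.{u}) [X.Over (Spec (CommRingCat.of k))]
    [IsSepClosed k] (K : Type u) [Field K] [Algebra k K]
    (T : Set (Curv2.bc k X K : Type u)) (hT : T ∈ irreducibleComponents (Curv2.bc k X K : Type u)) :
    T = (Curv2.bcFst k X K).base ⁻¹' ((Curv2.bcFst k X K).base '' T) := by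
  set p := Curv2.bcFst k X K with hp
  have hTi : IsIrreducible T := hT.1
  have hpT : IsIrreducible (p.base '' T) := hTi.image _ p.continuous.continuousOn
  obtain ⟨Z, hZ, hsub⟩ := exists_mem_irreducibleComponents_subset_of_isIrreducible _ hpT
  have hZc : IsClosed Z := isClosed_of_mem_irreducibleComponents Z hZ
  have hpre := Groth.Agent.S7590.isIrreducible_preimage (X ↘ Spec (CommRingCat.of k)) K Z hZc hZ.1
  have hTsub : T ⊆ p.base ⁻¹' Z := fun t ht => hsub ⟨t, ht, rfl⟩
  have hle : p.base ⁻¹' Z ⊆ T := hT.2 hpre hTsub
  have hTeq : T = p.base ⁻¹' Z := le_antisymm hTsub hle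
  have himg : p.base '' T = Z := by
    rw [hTeq]
    exact Set.image_preimage_eq _ p.surjective
  rw [himg]
  exact hTeq

theorem main (k : Type u) [Field k] (X : Scheme.{u}) [X.Over (Spec (CommRingCat.of k))] [IsSepClosed k] (K : Type u) [Field K] [Algebra k K]
    (T T' : Set (Curv2.bc k X K : Type u)) (hT : T ∈ irreducibleComponents (Curv2.bc k X K : Type u))
    (hT' : T' ∈ irreducibleComponents (Curv2.bc k X K : Type u))
    (h : (Curv2.bcFst k X K).base '' T = (Curv2.bcFst k X K).base '' T') : T = T' := by
  rw [eq_preimage_image k X K T hT, eq_preimage_image k X K T' hT', h]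

end Aux

/-- Let k be a separably closed field, X a scheme over k and K any field extension of k. Then taking
images along the projection X_K → X is injective on irreducible components: two irreducible
components of X_K with the same image in X are equal. (Together with surjectivity on irreducible
components, stated separately, this gives a bijection of irreducible components.) -/
theorem result (k : Type u) [Field k] (X : Scheme.{u}) [X.Over (Spec (CommRingCat.of k))] [IsSepClosed k] (K : Type u) [Field K] [Algebra k K]
    (T T' : Set (Curv2.bc k X K : Type u)) (hT : T ∈ irreducibleComponents (Curv2.bc k X K : Type u))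
    (hT' : T' ∈ irreducibleComponents (Curv2.bc k X K : Type u))
    (h : (Curv2.bcFst k X K).base '' T = (Curv2.bcFst k X K).base '' T') : T = T' := by
  exact main k X K T T' hT hT' h

end Groth.Agent.S1547
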