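import Groth.Statements.S15488
import Mathlib

set_option autoImplicit false
universe u
open IsoNat

namespace Groth.Agent.S15488

section helpers
variable {A : Type u} [CommRing A] {G : Type u} [Group G] [Finite G] (g : G) (l : A)

theorem exists_pow (z : G) (hz : z ∈ Subgroup.zpowers g) : ∃ k : ℕ, g ^ k = z := by
  rw [← mem_powers_iff_mem_zpowers] at hz
  exact (Submonoid.mem_powers_iff _ _).1 hz

theorem pow_well (hl : l ^ orderOf g = 1) (a b : ℕ) (h : g ^ a = g ^ b) : l ^ a = l ^ b := by
  rw [pow_eq_pow_iff_modEq] at h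
  rw [pow_eq_pow_mod a hl, pow_eq_pow_mod b hl, show a % orderOf g = b % orderOf g from h]

end helpers

/-- Let A be a nontrivial commutative ring, G a finite group, g an element of G of order ν and l an
element of A with l ^ ν = 1. In the free A-module of functions G → A (the regular representation, g
acting by translation v ↦ v(g·)), the submodule of v with v(g h) = l v(h) for all h is a direct
summand, free of rank |G| / ν (stated as: free, rank · ν = |G|, and a complementary submodule
exists). (The published statement is over an arbitrary ring and also covers Hom(A^N, −) of the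
regular representation, which follows; nontriviality of A is needed for the rank to be meaningful.) -/
theorem result
    (A : Type u) [CommRing A] [Nontrivial A] (G : Type u) [Group G] [Finite G]
    (g : G) (l : A) (hl : l ^ orderOf g = 1) :
    Module.Free A (LinearMap.ker (LinearMap.funLeft A A (fun h : G => g * h) - l • LinearMap.id)) ∧
      Module.finrank A (LinearMap.ker (LinearMap.funLeft A A (fun h : G => g * h) - l • LinearMap.id)) * orderOf g = Nat.card G ∧
      ∃ E' : Submodule A (G → A), IsCompl (LinearMap.ker (LinearMap.funLeft A A (fun h : G => g * h) - l • LinearMap.id)) E' := by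
  classical
  obtain ⟨T, hT, h1T⟩ := Subgroup.exists_isComplement_right (Subgroup.zpowers g) 1
  set E := LinearMap.ker (LinearMap.funLeft A A (fun h : G => g * h) - l • LinearMap.id) with hE
  have memE : ∀ v : G → A, v ∈ E ↔ ∀ h, v (g * h) = l * v h := by
    intro v
    simp only [hE, LinearMap.mem_ker, LinearMap.sub_apply, LinearMap.smul_apply,
      LinearMap.id_apply, sub_eq_zero]
    rw [funext_iff]
    simp [LinearMap.funLeft_apply]
  have hex : ∀ x : G, ∃ k : ℕ, g ^ k = ((hT.equiv x).1 : G) :=
    fun x => exists_pow g _ (hT.equiv x).1.2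
  choose ee hee using hex
  have hP1 : ∀ x, g ^ ee x * ((hT.equiv x).2 : G) = x := fun x => by
    rw [hee]; exact hT.equiv_fst_mul_equiv_snd x
  have hP2a : ∀ x, (hT.equiv (g * x)).2 = (hT.equiv x).2 := fun x => by
    rw [hT.equiv_mul_left_of_mem (Subgroup.mem_zpowers g)]
  have hP2b : ∀ x, l ^ ee (g * x) = l * l ^ ee x := fun x => by
    rw [← pow_succ']
    apply pow_well g l hl
    rw [hee, hT.equiv_mul_left_of_mem (Subgroup.mem_zpowers g), pow_succ', hee]
    rfl
  have hP3a : ∀ t (ht : t ∈ T), (hT.equiv t).2 = ⟨t, ht⟩ := fun t ht =>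
    hT.equiv_snd_eq_self_of_mem_of_one_mem (Subgroup.one_mem _) ht
  have hP3b : ∀ t ∈ T, l ^ ee t = 1 := fun t ht => by
    rw [← pow_zero l]
    apply pow_well g l hl
    rw [hee, hT.equiv_fst_eq_one_of_mem_of_one_mem (Subgroup.one_mem _) ht, pow_zero]
  let ext0 : (T → A) →ₗ[A] (G → A) :=
    { toFun := fun w x => l ^ ee x * w (hT.equiv x).2
      map_add' := by intros; ext; simp [mul_add]
      map_smul' := by intros; ext; simp [mul_left_comm] }
  have hext_mem : ∀ w, ext0 w ∈ E := by
    intro w; rw [memE]; intro h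
    show l ^ ee (g * h) * w (hT.equiv (g * h)).2 = l * (l ^ ee h * w (hT.equiv h).2)
    rw [hP2a, hP2b, mul_assoc]
  let ext1 : (T → A) →ₗ[A] E := ext0.codRestrict E hext_mem
  let R : (G → A) →ₗ[A] (T → A) := LinearMap.funLeft A A (fun t : T => (t : G))
  have hF2 : ∀ w, R (ext0 w) = w := by
    intro w; ext t
    show l ^ ee (t : G) * w (hT.equiv t).2 = w t
    rw [hP3b _ t.2, hP3a _ t.2, one_mul]
  have hpow : ∀ v ∈ E, ∀ (k : ℕ) (y : G), v (g ^ k * y) = l ^ k * v y := by
    intro v hv k
    rw [memE] at hv
    induction k with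
    | zero => intro y; simp
    | succ k ih => intro y; rw [pow_succ', mul_assoc, hv, ih, pow_succ', mul_assoc]
  have hF1 : ∀ v ∈ E, ext0 (R v) = v := by
    intro v hv; ext x
    show l ^ ee x * v ((hT.equiv x).2 : G) = v x
    rw [← hpow v hv, hP1]
  let e : E ≃ₗ[A] (T → A) := LinearEquiv.ofLinear (R ∘ₗ E.subtype) ext1
    (LinearMap.ext fun w => hF2 w)
    (LinearMap.ext fun v => Subtype.ext (hF1 v.1 v.2))
  haveI : Fintype T := Fintype.ofFinite T
  refine ⟨Module.Free.of_equiv e.symm, ?_, ?_⟩
  · rw [e.finrank_eq, Module.finrank_fintype_fun_eq_card, ← Nat.card_eq_fintype_card]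
    have h1 := hT.card_mul_card
    have h2 : Nat.card ((Subgroup.zpowers g : Subgroup G) : Set G) = orderOf g := Nat.card_zpowers g
    rw [h2] at h1
    rw [mul_comm]; exact h1
  · refine ⟨LinearMap.ker (ext1 ∘ₗ R), LinearMap.isCompl_of_proj (f := ext1 ∘ₗ R) ?_⟩
    intro v
    exact Subtype.ext (hF1 v.1 v.2)

end Groth.Agent.S15488
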