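import Groth.Statements.S15491
import Mathlib

set_option autoImplicit false
universe v u
open CategoryTheory CategoryTheory.Functor
open IsoNat

namespace Groth.Agent.S15491

section helpers
open CategoryTheory.Limits CategoryTheory.Limits.CategoricalPullback

universe v₁ v₂ v₃ v₄ u₁ u₂ u₃ u₄
variable {A : Type u₁} {B : Type u₂} {D : Type u₃} {X : Type u₄} [Category.{v₁} A]
  [Category.{v₂} B] [Category.{v₃} D] [Category.{v₄} X]
variable (T : X ⥤ A) (L : X ⥤ D) (F : A ⥤ B) (G : D ⥤ B) (e : T ⋙ F ≅ L ⋙ G)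

/-- the comparison functor -/
abbrev Φ : X ⥤ F ⊡ G := (CatCommSqOver.toFunctorToCategoricalPullback F G X).obj ⟨T, L, e⟩

theorem faithful_iff : (Φ T L F G e).Faithful ↔
    ∀ (a b : X) (f f' : a ⟶ b), T.map f = T.map f' → L.map f = L.map f' → f = f' := by
  constructor
  · intro h a b f f' h1 h2
    apply (Φ T L F G e).map_injective
    ext
    · exact h1
    · exact h2
  · intro h
    constructor
    intro a b f f' hff
    exact h a b f f' (congrArg (·.fst) hff) (congrArg (·.snd) hff)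

theorem full_iff : (Φ T L F G e).Full ↔
    ∀ (a b : X) (u : T.obj a ⟶ T.obj b) (v : L.obj a ⟶ L.obj b),
      F.map u ≫ e.hom.app b = e.hom.app a ≫ G.map v → ∃ f : a ⟶ b, T.map f = u ∧ L.map f = v := by
  constructor
  · intro h a b u v w
    obtain ⟨f, hf⟩ := (Φ T L F G e).map_surjective
      (⟨u, v, w⟩ : (Φ T L F G e).obj a ⟶ (Φ T L F G e).obj b)
    exact ⟨f, congrArg (·.fst) hf, congrArg (·.snd) hf⟩
  · intro h
    constructor
    intro a b m
    obtain ⟨f, h1, h2⟩ := h a b m.fst m.snd m.w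
    refine ⟨f, ?_⟩
    ext
    · exact h1
    · exact h2

theorem essSurj_iff : (Φ T L F G e).EssSurj ↔
    ∀ (x : A) (y : D) (φ : F.obj x ≅ G.obj y), ∃ (a : X) (γ : T.obj a ≅ x) (δ : L.obj a ≅ y),
      F.map γ.hom ≫ φ.hom = e.hom.app a ≫ G.map δ.hom := by
  constructor
  · intro h x y φ
    obtain ⟨a, ⟨i⟩⟩ := h.mem_essImage ⟨x, y, φ⟩
    exact ⟨a, (π₁ F G).mapIso i, (π₂ F G).mapIso i, i.hom.w⟩
  · intro h
    constructor
    intro z
    obtain ⟨a, γ, δ, w⟩ := h z.fst z.snd z.iso
    exact ⟨a, ⟨mkIso γ δ w⟩⟩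

end helpers

/-- Pasting of 2-cartesian squares, stated in the 2-category of categories. Consider functors t : A → B,
t' : A' → B', t'' : A'' → B'' and l : A → A', r : B → B', l' : A' → A'', r' : B' → B'' with natural
isomorphisms e₁ : t ⋙ r ≅ l ⋙ t' and e₂ : t' ⋙ r' ≅ l' ⋙ t''. If the lower square (t', l', r', t'',
e₂) is 2-cartesian (its comparison functor to the 2-fibre product is an equivalence), then the upper
square (t, l, r, t', e₁) is 2-cartesian if and only if the outer rectangle (t, l ⋙ l', r ⋙ r', t'')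
with the pasted isomorphism is. (The published statement is for an arbitrary 2-category whose
2-morphisms are invertible; this row is the case of categories, functors and natural isomorphisms.) -/
theorem result
    {A B A' B' A'' B'' : Type u} [Category.{v} A] [Category.{v} B] [Category.{v} A'] [Category.{v} B']
    [Category.{v} A''] [Category.{v} B'']
    (t : A ⥤ B) (l : A ⥤ A') (r : B ⥤ B') (t' : A' ⥤ B') (l' : A' ⥤ A'') (r' : B' ⥤ B'') (t'' : A'' ⥤ B'')
    (e₁ : t ⋙ r ≅ l ⋙ t') (e₂ : t' ⋙ r' ≅ l' ⋙ t'')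
    (h₂ : FibCat.IsTwoCart t' l' r' t'' e₂) :
    FibCat.IsTwoCart t l r t' e₁ ↔
      FibCat.IsTwoCart t (l ⋙ l') (r ⋙ r') t''
        ((Functor.associator t r r').symm ≪≫ isoWhiskerRight e₁ r' ≪≫ Functor.associator l t' r' ≪≫
          isoWhiskerLeft l e₂ ≪≫ (Functor.associator l l' t'').symm) := by
  have he₃ : ∀ a, ((Functor.associator t r r').symm ≪≫ isoWhiskerRight e₁ r' ≪≫
      Functor.associator l t' r' ≪≫ isoWhiskerLeft l e₂ ≪≫
      (Functor.associator l l' t'').symm).hom.app a =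
      r'.map (e₁.hom.app a) ≫ e₂.hom.app (l.obj a) := by
    intro a; simp
  unfold FibCat.IsTwoCart at h₂ ⊢
  have F2 := (faithful_iff t' l' r' t'' e₂).1 h₂.faithful
  have U2 := (full_iff t' l' r' t'' e₂).1 h₂.full
  have S2 := (essSurj_iff t' l' r' t'' e₂).1 h₂.essSurj
  have nat1 : ∀ {a b : A} (f : a ⟶ b),
      t'.map (l.map f) = e₁.inv.app a ≫ r.map (t.map f) ≫ e₁.hom.app b := by
    intro a b f
    have := e₁.hom.naturality f
    simp only [Functor.comp_map] at this
    rw [this, Iso.inv_hom_id_app_assoc]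
  have nat2 : ∀ {a b : A'} (f : a ⟶ b),
      r'.map (t'.map f) ≫ e₂.hom.app b = e₂.hom.app a ≫ t''.map (l'.map f) := by
    intro a b f
    exact e₂.hom.naturality f
  constructor
  · intro h₁
    have F1 := (faithful_iff t l r t' e₁).1 h₁.faithful
    have U1 := (full_iff t l r t' e₁).1 h₁.full
    have S1 := (essSurj_iff t l r t' e₁).1 h₁.essSurj
    refine { faithful := (faithful_iff _ _ _ _ _).2 ?_, full := (full_iff _ _ _ _ _).2 ?_,
             essSurj := (essSurj_iff _ _ _ _ _).2 ?_ }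
    · intro a b f f' h1 h2
      apply F1 _ _ f f' h1
      apply F2 _ _ _ _ _ h2
      rw [nat1, nat1, h1]
    · intro a b u w hw
      rw [he₃, he₃] at hw
      simp only [Functor.comp_map, Category.assoc] at hw
      obtain ⟨v, hv1, hv2⟩ := U2 _ _ (e₁.inv.app a ≫ r.map u ≫ e₁.hom.app b) w (by
        simp only [Functor.map_comp, Category.assoc]
        rw [hw, ← Functor.map_comp_assoc, Iso.inv_hom_id_app]
        simp)
      obtain ⟨f, hf1, hf2⟩ := U1 _ _ u v (by rw [hv1]; simp)
      exact ⟨f, hf1, by simp [hf2, hv2]⟩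
    · intro x y φ
      obtain ⟨a', α, β, hαβ⟩ := S2 (r.obj x) y φ
      obtain ⟨a, γ, δ, hγδ⟩ := S1 x a' α.symm
      refine ⟨a, γ, l'.mapIso δ ≪≫ β, ?_⟩
      rw [he₃]
      simp only [Functor.comp_map, Iso.trans_hom, Functor.mapIso_hom, Functor.map_comp,
        Category.assoc]
      rw [← reassoc_of% (nat2 δ.hom), ← hαβ, ← Functor.map_comp_assoc, ← hγδ]
      simp
  · intro h₃
    have F3 := (faithful_iff _ _ _ _ _).1 h₃.faithful
    have U3 := (full_iff _ _ _ _ _).1 h₃.full
    have S3 := (essSurj_iff _ _ _ _ _).1 h₃.essSurj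
    refine { faithful := (faithful_iff _ _ _ _ _).2 ?_, full := (full_iff _ _ _ _ _).2 ?_,
             essSurj := (essSurj_iff _ _ _ _ _).2 ?_ }
    · intro a b f f' h1 h2
      apply F3 _ _ f f' h1
      simp [h2]
    · intro a b u v hw
      obtain ⟨f, hf1, hf2⟩ := U3 _ _ u (l'.map v) (by
        rw [he₃, he₃]
        simp only [Functor.comp_map, Category.assoc]
        rw [← nat2, ← Functor.map_comp_assoc, ← Functor.map_comp_assoc, hw])
      refine ⟨f, hf1, ?_⟩
      apply F2 _ _ _ _ _ hf2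
      rw [nat1, hf1, hw, Iso.inv_hom_id_app_assoc]
    · intro x y ψ
      obtain ⟨a, γ, ε, hγε⟩ := S3 x (l'.obj y) (r'.mapIso ψ ≪≫ e₂.app y)
      rw [he₃] at hγε
      simp only [Functor.comp_map, Iso.trans_hom, Functor.mapIso_hom, Iso.app_hom,
        Category.assoc] at hγε
      -- iso Φ₂(l a) ≅ Φ₂ y
      have hw : r'.map (e₁.symm.app a ≪≫ r.mapIso γ ≪≫ ψ).hom ≫ e₂.hom.app y =
          e₂.hom.app (l.obj a) ≫ t''.map ε.hom := by
        simp only [Iso.trans_hom, Iso.app_hom, Iso.symm_hom, Functor.mapIso_hom, Functor.map_comp,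
          Category.assoc]
        rw [hγε, ← Functor.map_comp_assoc, Iso.inv_hom_id_app]
        simp
      haveI := h₂.faithful
      haveI := h₂.full
      let j : (Φ t' l' r' t'' e₂).obj (l.obj a) ≅ (Φ t' l' r' t'' e₂).obj y :=
        CategoryTheory.Limits.CategoricalPullback.mkIso
          (e₁.symm.app a ≪≫ r.mapIso γ ≪≫ ψ) ε hw
      let δ : l.obj a ≅ y := (Φ t' l' r' t'' e₂).preimageIso j
      have hδ : (Φ t' l' r' t'' e₂).map δ.hom = j.hom := by simp [δ]
      have hδ1 : t'.map δ.hom = e₁.inv.app a ≫ r.map γ.hom ≫ ψ.hom := by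
        have := congrArg (·.fst) hδ
        exact this
      refine ⟨a, γ, δ, ?_⟩
      rw [hδ1]
      simp

end Groth.Agent.S15491
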