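import Groth.Statements.S15494
import Mathlib

set_option autoImplicit false
universe u v
open Dieud

namespace Groth.Agent.S15494

section helpers
variable {W : Type u} [CommRing W] (σ : W →+* W) (p : ℕ) {M : Type v} [AddCommGroup M] [Module W M]
  (F : M →+ M)

/-- the general term -/
def tm (a : ℕ → ℕ → W) (e1 : M) (d n i j : ℕ) : M :=
  ((p : W) ^ (j - d) * (⇑σ)^[n - j] (a i j)) • (⇑F)^[n + i - j - 1] e1

theorem F_tm (hF : ∀ (w : W) (m : M), F (w • m) = σ w • F m) (a : ℕ → ℕ → W) (e1 : M)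
    (d n i j : ℕ) (hi : 1 ≤ i) (hj : j ≤ n) :
    F (tm σ p F a e1 d n i j) = tm σ p F a e1 d (n + 1) i j := by
  unfold tm
  rw [hF, map_mul, map_pow, map_natCast]
  have h1 : n + 1 - j = (n - j) + 1 := by omega
  have h2 : n + 1 + i - j - 1 = (n + i - j - 1) + 1 := by omega
  rw [h1, h2, Function.iterate_succ_apply', Function.iterate_succ_apply']

theorem iter_e (d : ℕ) (e : ℕ → M) (h1 : ∀ i : ℕ, 1 ≤ i → i < d → F (e i) = e (i + 1)) :
    ∀ i : ℕ, 1 ≤ i → i ≤ d → (⇑F)^[i - 1] (e 1) = e i := by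
  intro i hi
  induction i, hi using Nat.le_induction with
  | base => intro _; rfl
  | succ i hi ih =>
    intro hid
    have : i + 1 - 1 = (i - 1) + 1 := by omega
    rw [this, Function.iterate_succ_apply', ih (by omega), h1 i hi (by omega)]

theorem tm_diag (a : ℕ → ℕ → W) (e1 : M) (d n i : ℕ) (hi : 1 ≤ i) :
    tm σ p F a e1 d n i n = ((p : W) ^ (n - d) * a i n) • (⇑F)^[i - 1] e1 := by
  unfold tm
  have h2 : n + i - n - 1 = i - 1 := by omega
  rw [Nat.sub_self, h2, Function.iterate_zero, id]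

theorem mainA (hF : ∀ (w : W) (m : M), F (w • m) = σ w • F m)
    (d c : ℕ) (hd : 0 < d)
    (a : ℕ → ℕ → W) (e : ℕ → M)
    (h1 : ∀ i : ℕ, 1 ≤ i → i < d → F (e i) = e (i + 1))
    (h2 : F (e d) = (∑ i ∈ Finset.Icc 1 d, a i d • e i) + e (d + 1))
    (h3 : ∀ j : ℕ, d < j → j < d + c →
      F (e j) = (∑ i ∈ Finset.Icc 1 d, ((p : W) * a i j) • e i) + (p : W) • e (j + 1)) :
    ∀ m : ℕ, m < c → (⇑F)^[d + m] (e 1) =
      (∑ i ∈ Finset.Icc 1 d, ∑ j ∈ Finset.Icc d (d + m), tm σ p F a (e 1) d (d + m) i j)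
        + (p : W) ^ m • e (d + m + 1) := by
  intro m
  induction m with
  | zero =>
    intro _
    have hd1 : d + 0 = (d - 1) + 1 := by omega
    rw [hd1, Function.iterate_succ_apply', iter_e F d e h1 d hd le_rfl, h2]
    have hd2 : d - 1 + 1 = d := by omega
    rw [hd2, pow_zero, one_smul]
    congr 1
    apply Finset.sum_congr rfl
    intro i hi
    rw [Finset.mem_Icc] at hi
    rw [Finset.Icc_self, Finset.sum_singleton, tm_diag σ p F a (e 1) d d i hi.1,
      iter_e F d e h1 i hi.1 hi.2, Nat.sub_self, pow_zero, one_mul]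
  | succ m ih =>
    intro hm
    have ih' := ih (by omega)
    have hdm : d + (m + 1) = (d + m) + 1 := by omega
    rw [hdm, Function.iterate_succ_apply', ih', map_add, map_sum]
    have hp : F ((p : W) ^ m • e (d + m + 1)) = (p : W) ^ m • F (e (d + m + 1)) := by
      rw [hF, map_pow, map_natCast]
    rw [hp, h3 (d + m + 1) (by omega) (by omega), smul_add, Finset.smul_sum, ← add_assoc]
    congr 1
    · rw [← Finset.sum_add_distrib]
      apply Finset.sum_congr rfl
      intro i hi
      rw [Finset.mem_Icc] at hi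
      rw [Finset.sum_Icc_succ_top (by omega : d ≤ d + m + 1), map_sum]
      congr 1
      · apply Finset.sum_congr rfl
        intro j hj
        rw [Finset.mem_Icc] at hj
        exact F_tm σ p F hF a (e 1) d (d + m) i j hi.1 hj.2
      · rw [tm_diag σ p F a (e 1) d (d + m + 1) i hi.1, iter_e F d e h1 i hi.1 hi.2, smul_smul]
        congr 1
        have : d + m + 1 - d = m + 1 := by omega
        rw [this, pow_succ]
        ring
    · rw [smul_smul, ← pow_succ]

end helpers

/-- Let W be a commutative ring with a ring endomorphism σ, p a natural number, M a W-module and F an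
additive self-map of M with F (w • m) = σ w • F m. Let d ≥ 1, c ≥ 1, h = d + c, and let e_1, …, e_h,
… be vectors of M on which F acts through a display matrix in normal form: F e_i = e_{i+1} for 1 ≤ i
< d; F e_d = Σ_{i=1}^{d} a_{i,d} e_i + e_{d+1}; F e_j = Σ_{i=1}^{d} p a_{i,j} e_i + p e_{j+1} for d
< j < h; F e_h = Σ_{i=1}^{d} p a_{i,h} e_i. Then F^h e_1 = Σ_{i=1}^{d} Σ_{j=d}^{h} p^{j-d}
σ^{h-j}(a_{i,j}) F^{h+i-j-1} e_1. (The published statement is for the Dieudonné module of a
p-divisible group of dimension d and height h over the Witt ring of a field of characteristic p,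
with σ the Frobenius and e_1, …, e_h a basis; this row keeps only the relations which the printed
computation uses, so W, σ, p and the vectors are arbitrary.) -/
theorem result
    (W : Type u) [CommRing W] (σ : W →+* W) (p : ℕ)
    (M : Type v) [AddCommGroup M] [Module W M]
    (F : M →+ M) (hF : ∀ (w : W) (m : M), F (w • m) = σ w • F m)
    (d c : ℕ) (hd : 0 < d) (hc : 0 < c)
    (a : ℕ → ℕ → W) (e : ℕ → M)
    (h1 : ∀ i : ℕ, 1 ≤ i → i < d → F (e i) = e (i + 1))
    (h2 : F (e d) = (∑ i ∈ Finset.Icc 1 d, a i d • e i) + e (d + 1))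
    (h3 : ∀ j : ℕ, d < j → j < d + c →
      F (e j) = (∑ i ∈ Finset.Icc 1 d, ((p : W) * a i j) • e i) + (p : W) • e (j + 1))
    (h4 : F (e (d + c)) = ∑ i ∈ Finset.Icc 1 d, ((p : W) * a i (d + c)) • e i) :
    (⇑F)^[d + c] (e 1) = ∑ i ∈ Finset.Icc 1 d, ∑ j ∈ Finset.Icc d (d + c),
      ((p : W) ^ (j - d) * (⇑σ)^[d + c - j] (a i j)) • (⇑F)^[d + c + i - j - 1] (e 1) := by
  obtain ⟨c', rfl⟩ : ∃ c', c = c' + 1 := ⟨c - 1, by omega⟩
  have hA := mainA σ p F hF d (c' + 1) hd a e h1 h2 h3 c' (by omega)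
  have hdc : d + (c' + 1) = (d + c') + 1 := by omega
  have hp : F ((p : W) ^ c' • e (d + c' + 1)) = (p : W) ^ c' • F (e (d + c' + 1)) := by
    rw [hF, map_pow, map_natCast]
  rw [hdc] at h4 ⊢
  rw [Function.iterate_succ_apply', hA, map_add, map_sum, hp, h4, Finset.smul_sum,
    ← Finset.sum_add_distrib]
  apply Finset.sum_congr rfl
  intro i hi
  rw [Finset.mem_Icc] at hi
  rw [Finset.sum_Icc_succ_top (by omega : d ≤ d + c' + 1), map_sum]
  congr 1
  · apply Finset.sum_congr rfl
    intro j hj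
    rw [Finset.mem_Icc] at hj
    exact F_tm σ p F hF a (e 1) d (d + c') i j hi.1 hj.2
  · have := tm_diag σ p F a (e 1) d (d + c' + 1) i hi.1
    unfold tm at this
    rw [this, iter_e F d e h1 i hi.1 hi.2, smul_smul]
    congr 1
    have : d + c' + 1 - d = c' + 1 := by omega
    rw [this, pow_succ]
    ring

end Groth.Agent.S15494
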