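import Groth.Statements.S15495
import Mathlib

set_option autoImplicit false
universe u
open CAlg

namespace Groth.Agent.S15495

/-- In an Artinian local ring R whose maximal ideal m contains the prime number p, the multiplicative
group 1 + m is annihilated under some power of p: there is n with (1 + x)^(p^n) = 1 for every x in
m. (The published text makes this assertion inside a proof, for Artinian local algebras over the
Witt ring of a perfect field of characteristic p; only p ∈ m and the nilpotence of m are used.) -/
theorem result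
    (R : Type u) [CommRing R] [IsLocalRing R] [IsArtinianRing R]
    (p : ℕ) (hp : p.Prime) (hpm : (p : R) ∈ IsLocalRing.maximalIdeal R) :
    ∃ n : ℕ, ∀ x ∈ IsLocalRing.maximalIdeal R, (1 + x) ^ (p ^ n) = 1 := by
  set m := IsLocalRing.maximalIdeal R with hm
  -- nilpotency of the maximal ideal
  have hnil : IsNilpotent m := by
    have := IsArtinianRing.isNilpotent_jacobson_bot (R := R)
    rwa [IsLocalRing.jacobson_eq_maximalIdeal ⊥ bot_ne_top] at this
  obtain ⟨N, hN⟩ := hnil
  -- key step
  have key : ∀ (k : ℕ) (x : R), x ∈ m ^ k → x ∈ m → (1 + x) ^ p - 1 ∈ m ^ (k + 1) := by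
    intro k x hxk hx
    have hgs := geom_sum_mul (1 + x) p
    have hs : (∑ i ∈ Finset.range p, (1 + x) ^ i) ∈ m := by
      rw [← Ideal.Quotient.eq_zero_iff_mem, map_sum]
      have h1 : Ideal.Quotient.mk m (1 + x) = 1 := by
        rw [map_add, map_one, Ideal.Quotient.eq_zero_iff_mem.mpr hx, add_zero]
      simp only [map_pow, h1, one_pow, Finset.sum_const, Finset.card_range, nsmul_eq_mul, mul_one]
      have : ((p : R ⧸ m)) = Ideal.Quotient.mk m (p : R) := by simp
      rw [this, Ideal.Quotient.eq_zero_iff_mem]
      exact hpm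
    rw [← hgs, add_sub_cancel_left, pow_succ']
    exact Ideal.mul_mem_mul hs hxk
  have ind : ∀ (j : ℕ) (x : R), x ∈ m → ∃ y ∈ m ^ (j + 1), (1 + x) ^ (p ^ j) = 1 + y := by
    intro j
    induction j with
    | zero => intro x hx; exact ⟨x, by simpa using hx, by simp⟩
    | succ j ih =>
      intro x hx
      obtain ⟨y, hy, hxy⟩ := ih x hx
      have hym : y ∈ m := Ideal.pow_le_self (by omega) hy
      refine ⟨(1 + y) ^ p - 1, key (j + 1) y hy hym, ?_⟩
      rw [pow_succ, pow_mul, hxy]
      ring
  refine ⟨N, fun x hx => ?_⟩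
  obtain ⟨y, hy, hxy⟩ := ind N x hx
  have : y ∈ m ^ N := Ideal.pow_le_pow_right (Nat.le_succ N) hy
  rw [hN] at this
  have hy0 : y = 0 := by simpa using this
  rw [hxy, hy0, add_zero]

end Groth.Agent.S15495
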