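import Groth.Statements.S15496
import Mathlib

set_option autoImplicit false
universe u
open CAlg

namespace Groth.Agent.S15496

/-- Let R be a local ring with maximal ideal m, p a prime number lying in m, and suppose the residue
field of R is perfect, i.e. every element is a p-th power; let n ≥ 0. Then every unit of R is the
product of a p^n-th power of a unit and an element of 1 + m, and an element of 1 + m which is a
p^n-th power of a unit is a p^n-th power of an element of 1 + m; so the inclusion of 1 + m in the
unit group induces a bijection between (1 + m)/(1 + m)^(p^n) and Rˣ/(Rˣ)^(p^n). (The published text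
derives this equality of quotients, inside a proof, from perfectness of the base field K for all
Artinian local algebras over its Witt ring, whose residue fields need not be perfect; this row
assumes the residue field of R perfect of characteristic p, which the equality needs, and does not
assume R Artinian.) -/
theorem result
    (R : Type u) [CommRing R] [IsLocalRing R] (p : ℕ) (hp : p.Prime)
    (hpm : (p : R) ∈ IsLocalRing.maximalIdeal R)
    (hperf : ∀ a : IsLocalRing.ResidueField R, ∃ b : IsLocalRing.ResidueField R, b ^ p = a)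
    (n : ℕ) :
    (∀ u : Rˣ, ∃ v : Rˣ, ∃ x ∈ IsLocalRing.maximalIdeal R, (u : R) = (v : R) ^ (p ^ n) * (1 + x)) ∧
    (∀ x ∈ IsLocalRing.maximalIdeal R, (∃ v : Rˣ, (v : R) ^ (p ^ n) = 1 + x) →
      ∃ y ∈ IsLocalRing.maximalIdeal R, (1 + y) ^ (p ^ n) = 1 + x) := by
  set m := IsLocalRing.maximalIdeal R with hm
  let κ := IsLocalRing.ResidueField R
  have hres : ∀ r : R, IsLocalRing.residue R r = 0 ↔ r ∈ m := fun r => IsLocalRing.residue_eq_zero_iff r
  have hp0 : ((p : ℕ) : κ) = 0 := by
    have : ((p : ℕ) : κ) = IsLocalRing.residue R (p : R) := by simp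
    rw [this, hres]; exact hpm
  have : Fact p.Prime := ⟨hp⟩
  have : CharP κ p := (CharP.charP_iff_prime_eq_zero hp).mpr hp0
  have hperf' : ∀ (n : ℕ) (a : κ), ∃ b : κ, b ^ (p ^ n) = a := by
    intro n
    induction n with
    | zero => intro a; exact ⟨a, by simp⟩
    | succ n ih =>
      intro a
      obtain ⟨b', hb'⟩ := ih a
      obtain ⟨b, hb⟩ := hperf b'
      exact ⟨b, by rw [pow_succ', pow_mul, hb, hb']⟩
  constructor
  · intro u
    obtain ⟨b, hb⟩ := hperf' n (IsLocalRing.residue R (u : R))
    obtain ⟨v₀, hv₀⟩ := IsLocalRing.residue_surjective b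
    have hu_ne : IsLocalRing.residue R (u : R) ≠ 0 := by
      rw [Ne, hres]
      exact fun h => (IsLocalRing.mem_maximalIdeal _).mp h u.isUnit
    have hb_ne : b ≠ 0 := by
      rintro rfl
      rw [zero_pow (pow_pos hp.pos n).ne'] at hb
      exact hu_ne hb.symm
    have hv₀_unit : IsUnit v₀ := by
      by_contra hnu
      have : v₀ ∈ m := (IsLocalRing.mem_maximalIdeal _).mpr hnu
      rw [← hres, hv₀] at this
      exact hb_ne this
    obtain ⟨v, rfl⟩ := hv₀_unit
    refine ⟨v, (↑(v⁻¹ ^ (p ^ n)) : R) * u - 1, ?_, ?_⟩
    · rw [← hres, map_sub, map_one, sub_eq_zero, map_mul, ← hb, ← hv₀, ← map_pow, ← map_mul,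
        ← Units.val_pow_eq_pow_val, ← Units.val_mul, inv_pow, inv_mul_cancel, Units.val_one, map_one]
    · rw [add_sub_cancel, ← mul_assoc, ← Units.val_pow_eq_pow_val, ← Units.val_mul, inv_pow,
        mul_inv_cancel, Units.val_one, one_mul]
  · rintro x hx ⟨v, hv⟩
    refine ⟨(v : R) - 1, ?_, by rw [add_sub_cancel, hv]⟩
    rw [← hres, map_sub, map_one]
    have h1 : (IsLocalRing.residue R (v : R)) ^ (p ^ n) = 1 := by
      rw [← map_pow, hv, map_add, map_one, (hres x).mpr hx, add_zero]
    have h2 : (IsLocalRing.residue R (v : R) - 1) ^ (p ^ n) = 0 := by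
      rw [sub_pow_char_pow, h1, one_pow, sub_self]
    exact pow_eq_zero_iff (pow_pos hp.pos n).ne' |>.mp h2

end Groth.Agent.S15496
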