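import Groth.Statements.S15498
import Mathlib

set_option autoImplicit false
open NewtonPoly

namespace Groth.Agent.S15498

section helpers

theorem no_diag (m n : ℕ) (hmn : Nat.Coprime m n) (u v : ℕ) (hu : 1 ≤ u) (hun : u < n) :
    v * n ≠ u * m := by
  intro h
  have h1 : n ∣ u * m := ⟨v, by rw [← h]; ring⟩
  have h2 : n ∣ u := Nat.Coprime.dvd_of_dvd_mul_right hmn.symm h1
  exact absurd (Nat.le_of_dvd (by omega) h2) (by omega)

theorem refl_lt (m n u v : ℕ) (hu2 : u < n) (hv2 : v < m) (hlt : u * m < v * n) :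
    (m - v) * n < (n - u) * m := by
  have h1 : (m - v) * n = m * n - v * n := Nat.sub_mul _ _ _
  have h2 : (n - u) * m = m * n - u * m := by rw [Nat.sub_mul, Nat.mul_comm n m]
  have h3 : v * n ≤ m * n := Nat.mul_le_mul_right _ (by omega)
  have h4 : u * m ≤ m * n := by rw [Nat.mul_comm m n]; exact Nat.mul_le_mul_right _ (by omega)
  rw [h1, h2]; omega

theorem refl_lt' (m n u v : ℕ) (hu2 : u < n) (hv2 : v < m) (hlt : v * n < u * m) :
    (n - u) * m < (m - v) * n := by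
  have h1 : (m - v) * n = m * n - v * n := Nat.sub_mul _ _ _
  have h2 : (n - u) * m = m * n - u * m := by rw [Nat.sub_mul, Nat.mul_comm n m]
  have h3 : v * n ≤ m * n := Nat.mul_le_mul_right _ (by omega)
  have h4 : u * m ≤ m * n := by rw [Nat.mul_comm m n]; exact Nat.mul_le_mul_right _ (by omega)
  rw [h1, h2]; omega

theorem half (m n : ℕ) (hmn : Nat.Coprime m n) :
    2 * ((Finset.Ico 1 n ×ˢ Finset.Ico 1 m).filter
      (fun uv : ℕ × ℕ => uv.2 * n < uv.1 * m)).card = (n - 1) * (m - 1) := by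
  set R := Finset.Ico 1 n ×ˢ Finset.Ico 1 m with hR
  have hcard : R.card = (n - 1) * (m - 1) := by simp [hR, Finset.card_product, Nat.card_Ico]
  have hsplit := Finset.card_filter_add_card_filter_not (s := R)
    (fun uv : ℕ × ℕ => uv.2 * n < uv.1 * m)
  have hB : (R.filter (fun uv : ℕ × ℕ => ¬ uv.2 * n < uv.1 * m)).card =
      (R.filter (fun uv : ℕ × ℕ => uv.2 * n < uv.1 * m)).card := by
    apply Finset.card_nbij' (fun uv => (n - uv.1, m - uv.2)) (fun uv => (n - uv.1, m - uv.2))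
    · rintro ⟨u, v⟩ huv
      simp only [Finset.coe_filter, Set.mem_ofPred_eq, hR, Finset.mem_product, Finset.mem_Ico]
        at huv ⊢
      obtain ⟨⟨⟨hu1, hu2⟩, hv1, hv2⟩, hlt⟩ := huv
      refine ⟨⟨⟨by omega, by omega⟩, by omega, by omega⟩, ?_⟩
      have hne := no_diag m n hmn u v hu1 hu2
      exact refl_lt m n u v hu2 hv2 (by omega)
    · rintro ⟨u, v⟩ huv
      simp only [Finset.coe_filter, Set.mem_ofPred_eq, hR, Finset.mem_product, Finset.mem_Ico]
        at huv ⊢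
      obtain ⟨⟨⟨hu1, hu2⟩, hv1, hv2⟩, hlt⟩ := huv
      refine ⟨⟨⟨by omega, by omega⟩, by omega, by omega⟩, ?_⟩
      have := refl_lt' m n u v hu2 hv2 hlt
      omega
    · rintro ⟨u, v⟩ huv
      simp only [Finset.coe_filter, Set.mem_ofPred_eq, hR, Finset.mem_product, Finset.mem_Ico]
        at huv
      obtain ⟨⟨⟨hu1, hu2⟩, hv1, hv2⟩, hlt⟩ := huv
      ext <;> simp <;> omega
    · rintro ⟨u, v⟩ huv
      simp only [Finset.coe_filter, Set.mem_ofPred_eq, hR, Finset.mem_product, Finset.mem_Ico]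
        at huv
      obtain ⟨⟨⟨hu1, hu2⟩, hv1, hv2⟩, hlt⟩ := huv
      ext <;> simp <;> omega
  omega

theorem count' (m n : ℕ) (hm : 0 < m) (hn : 0 < n) :
    ((Finset.range (n + 1) ×ˢ Finset.range (m + 1)).filter
      (fun uv : ℕ × ℕ => 1 ≤ uv.1 ∧ uv.2 * n < uv.1 * m)).card =
    ((Finset.Ico 1 n ×ˢ Finset.Ico 1 m).filter
      (fun uv : ℕ × ℕ => uv.2 * n < uv.1 * m)).card + n + (m - 1) := by
  set S' := (Finset.range (n + 1) ×ˢ Finset.range (m + 1)).filter
      (fun uv : ℕ × ℕ => 1 ≤ uv.1 ∧ uv.2 * n < uv.1 * m) with hS'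
  have h1 := Finset.card_filter_add_card_filter_not (s := S') (fun uv : ℕ × ℕ => uv.2 = 0)
  have h2 := Finset.card_filter_add_card_filter_not
    (s := S'.filter (fun uv : ℕ × ℕ => ¬ uv.2 = 0)) (fun uv : ℕ × ℕ => uv.1 = n)
  have hrow : S'.filter (fun uv : ℕ × ℕ => uv.2 = 0) = Finset.Icc 1 n ×ˢ {0} := by
    ext ⟨u, v⟩
    simp only [hS', Finset.mem_filter, Finset.mem_product, Finset.mem_range, Finset.mem_Icc,
      Finset.mem_singleton]
    constructor
    · rintro ⟨⟨⟨hu, hv⟩, hu1, hlt⟩, rfl⟩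
      exact ⟨⟨hu1, by omega⟩, rfl⟩
    · rintro ⟨⟨hu1, hu2⟩, rfl⟩
      refine ⟨⟨⟨by omega, by omega⟩, hu1, ?_⟩, rfl⟩
      rw [Nat.zero_mul]; exact Nat.mul_pos (by omega) hm
  have hcol : (S'.filter (fun uv : ℕ × ℕ => ¬ uv.2 = 0)).filter (fun uv : ℕ × ℕ => uv.1 = n) =
      {n} ×ˢ Finset.Ico 1 m := by
    ext ⟨u, v⟩
    simp only [hS', Finset.mem_filter, Finset.mem_product, Finset.mem_range, Finset.mem_Ico,
      Finset.mem_singleton]
    constructor
    · rintro ⟨⟨⟨⟨hu, hv⟩, hu1, hlt⟩, hv0⟩, rfl⟩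
      refine ⟨rfl, by omega, ?_⟩
      rw [Nat.mul_comm u m] at hlt
      exact Nat.lt_of_mul_lt_mul_right hlt
    · rintro ⟨rfl, hv1, hv2⟩
      refine ⟨⟨⟨⟨by omega, by omega⟩, hn, ?_⟩, by omega⟩, rfl⟩
      rw [Nat.mul_comm u m]
      exact Nat.mul_lt_mul_of_pos_right hv2 hn
  have hA : (S'.filter (fun uv : ℕ × ℕ => ¬ uv.2 = 0)).filter (fun uv : ℕ × ℕ => ¬ uv.1 = n) =
      (Finset.Ico 1 n ×ˢ Finset.Ico 1 m).filter (fun uv : ℕ × ℕ => uv.2 * n < uv.1 * m) := by
    ext ⟨u, v⟩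
    simp only [hS', Finset.mem_filter, Finset.mem_product, Finset.mem_range, Finset.mem_Ico]
    constructor
    · rintro ⟨⟨⟨⟨hu, hv⟩, hu1, hlt⟩, hv0⟩, hun⟩
      refine ⟨⟨⟨hu1, by omega⟩, by omega, ?_⟩, hlt⟩
      have h3 : u * m ≤ n * m := Nat.mul_le_mul_right _ (by omega)
      have h4 : v * n < m * n := by rw [Nat.mul_comm m n]; omega
      exact Nat.lt_of_mul_lt_mul_right h4
    · rintro ⟨⟨⟨hu1, hu2⟩, hv1, hv2⟩, hlt⟩
      exact ⟨⟨⟨⟨by omega, by omega⟩, hu1, hlt⟩, by omega⟩, by omega⟩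
  rw [hrow] at h1
  rw [hcol, hA] at h2
  simp only [Finset.card_product, Finset.card_singleton, Nat.card_Icc, Nat.card_Ico] at h1 h2
  omega

end helpers

/-- Let m, n ≥ 1 be coprime, h = m + n, δ the segment from (0,0) to (h,m) (the isoclinic Newton polygon
of slope m/h) and ρ the ordinary polygon with n slopes 0 followed with m slopes 1, so ρ(i) = max(0,
i − n). The integer points (i,j), 0 ≤ i ≤ h, on or above ρ and strictly below δ — that is max(0, i −
n) ≤ j and j·h < i·m — are (m−1)(n−1)/2 + (m+n−1) in number (which equals mn − r for r =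
(m−1)(n−1)/2). (The published text works under m ≥ n > 0 coprime; the inequality m ≥ n is not used
and not assumed.) -/
theorem result
    (m n : ℕ) (hm : 0 < m) (hn : 0 < n) (hmn : Nat.Coprime m n) :
    ((Finset.range (m + n + 1) ×ˢ Finset.range (m + 1)).filter
      (fun ij : ℕ × ℕ => ij.1 ≤ ij.2 + n ∧ ij.2 * (m + n) < ij.1 * m)).card
      = (m - 1) * (n - 1) / 2 + (m + n - 1) := by
  have hbij : ((Finset.range (m + n + 1) ×ˢ Finset.range (m + 1)).filter
      (fun ij : ℕ × ℕ => ij.1 ≤ ij.2 + n ∧ ij.2 * (m + n) < ij.1 * m)).card =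
      ((Finset.range (n + 1) ×ˢ Finset.range (m + 1)).filter
      (fun uv : ℕ × ℕ => 1 ≤ uv.1 ∧ uv.2 * n < uv.1 * m)).card := by
    apply Finset.card_nbij' (fun ij => (ij.1 - ij.2, ij.2)) (fun uv => (uv.1 + uv.2, uv.2))
    · rintro ⟨i, j⟩ hij
      simp only [Finset.coe_filter, Set.mem_ofPred_eq, Finset.mem_product, Finset.mem_range]
        at hij ⊢
      obtain ⟨⟨hi, hj⟩, hle, hlt⟩ := hij
      have hji : j < i := by
        by_contra hcon
        have : i * m ≤ j * (m + n) := by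
          calc i * m ≤ j * m := Nat.mul_le_mul_right _ (by omega)
            _ ≤ j * (m + n) := Nat.mul_le_mul_left _ (by omega)
        omega
      refine ⟨⟨by omega, hj⟩, by omega, ?_⟩
      have h1 : (i - j) * m = i * m - j * m := Nat.sub_mul _ _ _
      have h2 : j * (m + n) = j * m + j * n := Nat.mul_add _ _ _
      rw [h1]; omega
    · rintro ⟨u, v⟩ huv
      simp only [Finset.coe_filter, Set.mem_ofPred_eq, Finset.mem_product, Finset.mem_range]
        at huv ⊢
      obtain ⟨⟨hu, hv⟩, hu1, hlt⟩ := huv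
      refine ⟨⟨by omega, hv⟩, by omega, ?_⟩
      have h1 : (u + v) * m = u * m + v * m := Nat.add_mul _ _ _
      have h2 : v * (m + n) = v * m + v * n := Nat.mul_add _ _ _
      rw [h1, h2]; omega
    · rintro ⟨i, j⟩ hij
      simp only [Finset.coe_filter, Set.mem_ofPred_eq, Finset.mem_product, Finset.mem_range]
        at hij
      obtain ⟨⟨hi, hj⟩, hle, hlt⟩ := hij
      have hji : j < i := by
        by_contra hcon
        have : i * m ≤ j * (m + n) := by
          calc i * m ≤ j * m := Nat.mul_le_mul_right _ (by omega)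
            _ ≤ j * (m + n) := Nat.mul_le_mul_left _ (by omega)
        omega
      ext <;> simp <;> omega
    · rintro ⟨u, v⟩ huv
      ext <;> simp
  rw [hbij, count' m n hm hn]
  have h := half m n hmn
  have hc : (m - 1) * (n - 1) = (n - 1) * (m - 1) := Nat.mul_comm _ _
  rw [hc]
  omega

end Groth.Agent.S15498
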