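import Groth.Statements.S15504
import Mathlib

set_option autoImplicit false
universe u v
open FrobAlg

namespace Groth.Agent.S15504

theorem isArtinian_of_torsion {R : Type u} {M : Type v} [CommRing R] [IsDomain R] [IsNoetherianRing R]
    [Ring.KrullDimLE 1 R] [AddCommGroup M] [Module R M] [Module.Finite R M]
    (hM : Module.IsTorsion R M) : IsArtinian R M := by
  classical
  obtain ⟨a, ha, hkill⟩ : ∃ a : R, a ∈ nonZeroDivisors R ∧ ∀ m : M, a • m = 0 := by
    obtain ⟨s, hs⟩ := (Module.finite_def.1 ‹Module.Finite R M›)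
    choose c hc using fun x : M => hM (x := x)
    refine ⟨∏ g ∈ s, (c g : R), Submonoid.prod_mem _ (fun g _ => (c g).2), ?_⟩
    intro m
    have hm : m ∈ Submodule.span R (s : Set M) := hs ▸ Submodule.mem_top
    induction hm using Submodule.span_induction with
    | mem x hx =>
      rw [← Finset.mul_prod_erase s _ hx, mul_comm, mul_smul]
      have h1 : (c x : R) • x = 0 := hc x
      rw [h1, smul_zero]
    | zero => simp
    | add x y _ _ hx hy => rw [smul_add, hx, hy, add_zero]
    | smul r x _ hx => rw [smul_comm, hx, smul_zero]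
  have hfl : IsFiniteLength R (R ⧸ Ideal.span {a}) := isFiniteLength_quotient_span_singleton (R := R) ha
  have hart : IsArtinian R (R ⧸ Ideal.span {a}) := (isFiniteLength_iff_isNoetherian_isArtinian.1 hfl).2
  have : IsArtinianRing (R ⧸ Ideal.span {a}) := isArtinian_of_tower R hart
  have hT : Module.IsTorsionBySet R M (Ideal.span {a} : Ideal R) := by
    rw [Module.isTorsionBySet_span_singleton_iff]
    exact hkill
  let _ := hT.module
  have : Module.Finite (R ⧸ Ideal.span {a}) M := Module.Finite.of_restrictScalars_finite R _ M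
  have : IsArtinian (R ⧸ Ideal.span {a}) M := inferInstance
  exact (LinearMap.isArtinian_iff_of_bijective hT.semilinearMap Function.bijective_id).2 inferInstance

theorem fitting {R : Type u} {M : Type v} [CommRing R] [AddCommGroup M] [Module R M]
    [IsNoetherian R M] [IsArtinian R M] (e : R ≃+* R) (φ : M →ₛₗ[(e : R →+* R)] M) :
    ∃ Ms Mn : Submodule R M, IsCompl Ms Mn ∧ Set.MapsTo φ Ms Ms ∧ Set.MapsTo φ Mn Mn ∧
      Set.BijOn φ Ms Ms ∧ ∃ r : ℕ, ∀ x ∈ Mn, (⇑φ)^[r] x = 0 := by
  classical
  have hiter : ∀ (n : ℕ) (a : R) (x : M), (⇑φ)^[n] (a • x) = ((⇑e)^[n] a) • (⇑φ)^[n] x := by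
    intro n
    induction n with
    | zero => intro a x; rfl
    | succ n ih =>
      intro a x
      rw [Function.iterate_succ_apply, Function.iterate_succ_apply, Function.iterate_succ_apply,
        map_smulₛₗ, ih]
      rfl
  let K : ℕ → Submodule R M := fun n =>
    { carrier := {x | (⇑φ)^[n] x = 0}
      zero_mem' := iterate_map_zero φ n
      add_mem' := fun {x y} hx hy => by
        show (⇑φ)^[n] (x + y) = 0
        rw [iterate_map_add, show (⇑φ)^[n] x = 0 from hx, show (⇑φ)^[n] y = 0 from hy, add_zero]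
      smul_mem' := fun a x hx => by
        show (⇑φ)^[n] (a • x) = 0
        rw [hiter, show (⇑φ)^[n] x = 0 from hx, smul_zero] }
  let I : ℕ → Submodule R M := fun n =>
    { carrier := Set.range (⇑φ)^[n]
      zero_mem' := ⟨0, iterate_map_zero φ n⟩
      add_mem' := by
        rintro _ _ ⟨x, rfl⟩ ⟨y, rfl⟩
        exact ⟨x + y, iterate_map_add φ n x y⟩
      smul_mem' := by
        rintro a _ ⟨x, rfl⟩
        refine ⟨((⇑e.symm)^[n] a) • x, ?_⟩
        rw [hiter]
        congr 1
        exact (Function.LeftInverse.iterate (f := ⇑e.symm) (g := ⇑e) e.apply_symm_apply n) a }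
  have hKmem : ∀ n x, x ∈ K n ↔ (⇑φ)^[n] x = 0 := fun n x => Iff.rfl
  have hImem : ∀ n x, x ∈ I n ↔ ∃ y, (⇑φ)^[n] y = x := fun n x => Iff.rfl
  have hKmono : Monotone K := by
    apply monotone_nat_of_le_succ
    intro n x hx
    rw [hKmem] at hx ⊢
    rw [Function.iterate_succ_apply', hx, map_zero]
  have hImono : Antitone I := by
    apply antitone_nat_of_succ_le
    intro n x hx
    rw [hImem] at hx ⊢
    obtain ⟨y, rfl⟩ := hx
    exact ⟨φ y, (Function.iterate_succ_apply _ n y).symm⟩
  obtain ⟨n₁, h₁⟩ := monotone_stabilizes_iff_noetherian.mpr (inferInstance : IsNoetherian R M)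
    ⟨K, hKmono⟩
  obtain ⟨n₂, h₂⟩ := IsArtinian.monotone_stabilizes (R := R) (M := M)
    ⟨fun n => OrderDual.toDual (I n), fun a b hab => hImono hab⟩
  set r := max (max n₁ n₂) 1 with hr
  have hK : ∀ m, r ≤ m → K m = K r := by
    intro m hm
    have e1 : K n₁ = K m := h₁ m (by omega)
    have e2 : K n₁ = K r := h₁ r (by omega)
    rw [← e1, e2]
  have hI : ∀ m, r ≤ m → I m = I r := by
    intro m hm
    have e1 : I n₂ = I m := OrderDual.toDual.injective (h₂ m (by omega))
    have e2 : I n₂ = I r := OrderDual.toDual.injective (h₂ r (by omega))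
    rw [← e1, e2]
  have hdisj : ∀ x, x ∈ I r → x ∈ K r → x = 0 := by
    intro x hxI hxK
    rw [hImem] at hxI
    obtain ⟨y, rfl⟩ := hxI
    rw [hKmem, ← Function.iterate_add_apply] at hxK
    have hy : y ∈ K (r + r) := (hKmem _ _).2 hxK
    rw [hK (r + r) (by omega)] at hy
    exact (hKmem _ _).1 hy
  have hmapI : Set.MapsTo φ (I r) (I r) := by
    intro x hx
    obtain ⟨y, rfl⟩ := (hImem _ _).1 hx
    exact (hImem _ _).2 ⟨φ y, (Function.iterate_succ_apply _ r y).trans
      (Function.iterate_succ_apply' _ r y)⟩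
  refine ⟨I r, K r, ⟨?_, ?_⟩, hmapI, ?_, ⟨hmapI, ?_, ?_⟩, r, fun x hx => (hKmem _ _).1 hx⟩
  · rw [Submodule.disjoint_def]
    exact hdisj
  · rw [codisjoint_iff, eq_top_iff]
    intro x _
    have h3 : (⇑φ)^[r] x ∈ I r := (hImem _ _).2 ⟨x, rfl⟩
    rw [← hI (r + r) (by omega)] at h3
    obtain ⟨y, hy⟩ := (hImem _ _).1 h3
    rw [Function.iterate_add_apply] at hy
    have h4 : x = (⇑φ)^[r] y + (x - (⇑φ)^[r] y) := by abel
    rw [h4]
    refine Submodule.add_mem_sup ((hImem _ _).2 ⟨y, rfl⟩) ((hKmem _ _).2 ?_)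
    rw [iterate_map_sub, hy, sub_self]
  · intro x hx
    rw [SetLike.mem_coe, hKmem] at hx ⊢
    rw [← Function.iterate_succ_apply, Function.iterate_succ_apply', hx, map_zero]
  · intro x hx x' hx' hxx'
    have hd : x - x' ∈ I r := (I r).sub_mem hx hx'
    have hd1 : x - x' ∈ K 1 := by
      rw [hKmem, Function.iterate_one, map_sub, hxx', sub_self]
    have hd2 : x - x' ∈ K r := hKmono (by omega : 1 ≤ r) hd1
    exact sub_eq_zero.1 (hdisj _ hd hd2)
  · intro y hy
    have h3 : y ∈ I (r + 1) := by rw [hI (r + 1) (by omega)]; exact hy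
    obtain ⟨z, rfl⟩ := (hImem _ _).1 h3
    exact ⟨(⇑φ)^[r] z, (hImem _ _).2 ⟨z, rfl⟩, (Function.iterate_succ_apply' _ r z).symm⟩

/-- Let k be an algebraically closed field of characteristic p, W = W(k) the ring of p-typical Witt
vectors, M a finitely generated torsion W-module and φ a p⁻¹-linear endomorphism of M (additive,
with φ(a·m) = σ⁻¹(a)·φ(m) for the Frobenius automorphism σ of W). Then M = M_s ⊕ M_n for two
φ-stable submodules, with φ bijective on M_s and nilpotent on M_n (one iterate of φ kills M_n). -/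
theorem result (p : ℕ) [Fact p.Prime]
    (k : Type u) [Field k] [CharP k p] [IsAlgClosed k]
    (M : Type v) [AddCommGroup M] [Module (WittVector p k) M] [Module.Finite (WittVector p k) M]
    (hM : Module.IsTorsion (WittVector p k) M)
    (φ : M →ₛₗ[((WittVector.frobeniusEquiv p k).symm : WittVector p k →+* WittVector p k)] M) :
    ∃ Ms Mn : Submodule (WittVector p k) M, IsCompl Ms Mn ∧
      Set.MapsTo φ Ms Ms ∧ Set.MapsTo φ Mn Mn ∧ Set.BijOn φ Ms Ms ∧
      ∃ r : ℕ, ∀ x ∈ Mn, (⇑φ)^[r] x = 0 := by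
  have : IsArtinian (WittVector p k) M := isArtinian_of_torsion hM
  exact fitting (WittVector.frobeniusEquiv p k).symm φ

end Groth.Agent.S15504
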