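import Groth.Statements.S15505
import Mathlib

set_option autoImplicit false
universe u v w
open FrobAlg

namespace Groth.Agent.S15505

theorem fix_iff (p : ℕ) [Fact p.Prime] (k : Type u) [Field k] [CharP k p] (a : k) :
    a ^ p = a ↔ ∃ c : ZMod p, ZMod.castHom (dvd_refl p) k c = a := by
  have hp : p.Prime := Fact.out
  constructor
  · intro ha
    classical
    let f : ZMod p →+* k := ZMod.castHom (dvd_refl p) k
    let P : Polynomial k := Polynomial.X ^ p - Polynomial.X
    have hP0 : P ≠ 0 := FiniteField.X_pow_card_sub_X_ne_zero k hp.one_lt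
    have hPdeg : P.natDegree = p := FiniteField.X_pow_card_sub_X_natDegree_eq k hp.one_lt
    let S : Finset k := Finset.univ.image f
    have hScard : S.card = p := by
      rw [Finset.card_image_of_injective _ f.injective, Finset.card_univ, ZMod.card]
    have hSsub : S ⊆ P.roots.toFinset := by
      intro x hx
      obtain ⟨c, -, rfl⟩ := Finset.mem_image.mp hx
      rw [Multiset.mem_toFinset, Polynomial.mem_roots hP0]
      simp only [P, Polynomial.IsRoot, Polynomial.eval_sub, Polynomial.eval_pow, Polynomial.eval_X]
      rw [← map_pow, ZMod.pow_card, sub_self]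
    have hle : P.roots.toFinset.card ≤ S.card := by
      rw [hScard]
      calc P.roots.toFinset.card ≤ Multiset.card P.roots := Multiset.toFinset_card_le _
        _ ≤ P.natDegree := Polynomial.card_roots' P
        _ = p := hPdeg
    have hEq : S = P.roots.toFinset := Finset.eq_of_subset_of_card_le hSsub hle
    have haroot : a ∈ P.roots.toFinset := by
      rw [Multiset.mem_toFinset, Polynomial.mem_roots hP0]
      simp only [P, Polynomial.IsRoot, Polynomial.eval_sub, Polynomial.eval_pow, Polynomial.eval_X]
      rw [ha, sub_self]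
    rw [← hEq] at haroot
    obtain ⟨c, -, hc⟩ := Finset.mem_image.mp haroot
    exact ⟨c, hc⟩
  · rintro ⟨c, rfl⟩
    rw [← map_pow, ZMod.pow_card]

/-- Let k be an algebraically closed field of characteristic p, V a k-vector space, φ a p⁻¹-linear
endomorphism of V (additive, φ(a·v) = a^{1/p}·φ(v)) and b a finite basis of V consisting of vectors
fixed by φ. Then the vectors fixed by φ are exactly the combinations of the b_i with coefficients in
the prime field: v is fixed if and only if v = Σ c_i·b_i with all c_i in the image of ℤ/p. -/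
theorem result (p : ℕ) [Fact p.Prime]
    (k : Type u) [Field k] [CharP k p] [IsAlgClosed k]
    (V : Type v) [AddCommGroup V] [Module k V]
    (φ : V →ₛₗ[((frobeniusEquiv k p).symm : k →+* k)] V)
    {ι : Type w} [Fintype ι] (b : Module.Basis ι k V) (hb : ∀ i, φ (b i) = b i) (v : V) :
    φ v = v ↔ ∃ c : ι → ZMod p, v = ∑ i, (ZMod.castHom (dvd_refl p) k (c i)) • b i := by
  have hσfix : ∀ a : k, ((frobeniusEquiv k p).symm : k →+* k) a = a ↔ a ^ p = a := by
    intro a
    constructor
    · intro h
      have h1 : (((frobeniusEquiv k p).symm : k →+* k) a) ^ p = a := frobeniusEquiv_symm_pow_p k p a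
      rw [h] at h1
      exact h1
    · intro h
      have h1 : frobeniusEquiv k p a = a := by rw [frobeniusEquiv_apply, frobenius_def, h]
      show (frobeniusEquiv k p).symm a = a
      rw [RingEquiv.symm_apply_eq, h1]
  have hφ : ∀ a : ι → k, φ (∑ i, a i • b i) = ∑ i, ((frobeniusEquiv k p).symm : k →+* k) (a i) • b i := by
    intro a
    rw [map_sum]
    apply Finset.sum_congr rfl
    intro i _
    rw [map_smulₛₗ, hb]
  constructor
  · intro hv
    have hrepr : v = ∑ i, b.repr v i • b i := (b.sum_repr v).symm
    have h2 : ∑ i, ((frobeniusEquiv k p).symm : k →+* k) (b.repr v i) • b i = ∑ i, b.repr v i • b i := by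
      rw [← hφ, ← hrepr, hv]
    have h3 : ∀ i, ((frobeniusEquiv k p).symm : k →+* k) (b.repr v i) = b.repr v i := by
      intro i
      have := congrArg (fun w => b.repr w i) h2
      simp only [Module.Basis.repr_sum_self] at this
      exact this
    have h4 : ∀ i, ∃ c : ZMod p, ZMod.castHom (dvd_refl p) k c = b.repr v i := fun i =>
      (fix_iff p k _).mp ((hσfix _).mp (h3 i))
    choose c hc using h4
    refine ⟨c, ?_⟩
    conv_lhs => rw [hrepr]
    apply Finset.sum_congr rfl
    intro i _
    rw [hc]
  · rintro ⟨c, rfl⟩
    rw [hφ]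
    apply Finset.sum_congr rfl
    intro i _
    rw [(hσfix _).mpr ((fix_iff p k _).mpr ⟨c i, rfl⟩)]

end Groth.Agent.S15505
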