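import Groth.Statements.S15506
import Mathlib

set_option autoImplicit false
universe u
open CategoryTheory AlgebraicGeometry
open EtBase

namespace Groth.Agent.S15506

section Aux
open AlgebraicGeometry CategoryTheory Limits TopologicalSpace

theorem lqf_of_unram {X Y : Scheme.{u}} (f : X ⟶ Y)
    [LocallyOfFiniteType f] [FormallyUnramified f] : LocallyQuasiFinite f := by
  refine ⟨fun {U} hU {V} hV e => ?_⟩
  have h1 : (f.appLE U V e).hom.FiniteType := f.finiteType_appLE hU hV e
  have h2 : (f.appLE U V e).hom.FormallyUnramified := f.formallyUnramified_appLE hU hV e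
  algebraize [(f.appLE U V e).hom]
  have : Algebra.FiniteType Γ(Y, U) Γ(X, V) := h1
  have : Algebra.FormallyUnramified Γ(Y, U) Γ(X, V) := h2
  exact (inferInstance : Algebra.QuasiFinite Γ(Y, U) Γ(X, V))

theorem isClosed_pt (k : Type u) [Field k] (Z : Scheme.{u}) (f : Z ⟶ Spec (CommRingCat.of k))
    [Etale f] (z : Z) : IsClosed ({z} : Set Z) := by
  haveI : LocallyQuasiFinite f := lqf_of_unram f
  have hd := f.isDiscrete_preimage_singleton (f.base z)
  haveI := hd.to_subtype
  have hcl : IsClosed (f.base ⁻¹' {f.base z}) := by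
    have : ({f.base z} : Set ↥(Spec (CommRingCat.of k))) = Set.univ := by
      ext y; simp [Subsingleton.elim y (f.base z)]
    rw [this]; exact isClosed_univ.preimage f.continuous
  have := hcl.isClosedEmbedding_subtypeVal.isClosedMap _
    (isClosed_discrete ({⟨z, rfl⟩} : Set (f.base ⁻¹' {f.base z})))
  simpa using this

theorem mem_range_of_alg (K Ω : Type u) [Field K] [Field Ω] [IsAlgClosed K] [Algebra K Ω]
    (x : Ω) (hx : IsIntegral K x) : x ∈ (algebraMap K Ω).range :=
  minpoly.mem_range_of_degree_eq_one K x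
    (IsAlgClosed.degree_eq_one_of_irreducible K (minpoly.irreducible hx))


theorem part1 (K Ω : Type u) [Field K] [Field Ω] [Algebra K Ω] (Z : Scheme.{u})
    (g₁ g₂ : Spec (CommRingCat.of K) ⟶ Z)
    (h : Spec.map (CommRingCat.ofHom (algebraMap K Ω)) ≫ g₁ =
      Spec.map (CommRingCat.ofHom (algebraMap K Ω)) ≫ g₂) : g₁ = g₂ := by
  haveI : Flat (Spec.map (CommRingCat.ofHom (algebraMap K Ω))) := by
    rw [HasRingHomProperty.Spec_iff (P := @Flat)]
    exact RingHom.flat_algebraMap_iff.mpr inferInstance
  haveI : Surjective (Spec.map (CommRingCat.ofHom (algebraMap K Ω))) := by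
    constructor
    intro y
    exact ⟨IsLocalRing.closedPoint Ω, Subsingleton.elim _ _⟩
  haveI := Flat.epi_of_flat_of_surjective (Spec.map (CommRingCat.ofHom (algebraMap K Ω)))
  exact (cancel_epi _).mp h

theorem part2 (k K Ω : Type u) [Field k] [Field K] [Field Ω] [Algebra k K] [IsAlgClosed K]
    [Algebra K Ω] [Algebra k Ω] [IsScalarTower k K Ω]
    (Z : Scheme.{u}) (f : Z ⟶ Spec (CommRingCat.of k)) [Etale f]
    (h : Spec (CommRingCat.of Ω) ⟶ Z)
    (hh : h ≫ f = Spec.map (CommRingCat.ofHom (algebraMap k Ω))) :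
    ∃ g : Spec (CommRingCat.of K) ⟶ Z, g ≫ f = Spec.map (CommRingCat.ofHom (algebraMap k K)) ∧
      Spec.map (CommRingCat.ofHom (algebraMap K Ω)) ≫ g = h := by
  have eh := Scheme.descResidueField_stalkClosedPointTo_fromSpecResidueField Ω Z h
  set z := h.base (IsLocalRing.closedPoint Ω) with hz
  set ψ : Z.residueField z ⟶ CommRingCat.of Ω :=
    Scheme.descResidueField (Scheme.stalkClosedPointTo h) with hψ
  have hx : IsClosed ({z} : Set Z) := isClosed_pt k Z f z
  haveI : IsClosedImmersion (Z.fromSpecResidueField z) :=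
    isClosed_singleton_iff_isClosedImmersion.mp hx
  have hfin : IsFinite (Z.fromSpecResidueField z ≫ f) :=
    isFinite_iff_locallyOfFiniteType_of_jacobsonSpace.mpr inferInstance
  let φ₀ : CommRingCat.of k ⟶ Z.residueField z := Spec.preimage (Z.fromSpecResidueField z ≫ f)
  have hφ₀ : Spec.map φ₀ = Z.fromSpecResidueField z ≫ f := Spec.map_preimage _
  have hfinite : φ₀.hom.Finite := by
    rw [← IsFinite.SpecMap_iff, hφ₀]; exact hfin
  have hcomp : φ₀ ≫ ψ = CommRingCat.ofHom (algebraMap k Ω) := by
    apply Spec.map_injective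
    rw [Spec.map_comp, hφ₀, ← Category.assoc, eh, hh]
  letI := φ₀.hom.toAlgebra
  haveI : Module.Finite k (Z.residueField z) := hfinite
  haveI : Algebra.IsIntegral k (Z.residueField z) := Algebra.IsIntegral.of_finite _ _
  let ψa : Z.residueField z →ₐ[k] Ω :=
    { ψ.hom with commutes' := fun c => congr($hcomp c) }
  have hrange : ∀ a, ψ.hom a ∈ (algebraMap K Ω).range := by
    intro a
    apply mem_range_of_alg
    have h1 : IsIntegral k (ψa a) := (Algebra.IsIntegral.isIntegral a).map ψa
    exact h1.tower_top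
  let e : K ≃+* (algebraMap K Ω).range :=
    RingEquiv.ofBijective (algebraMap K Ω).rangeRestrict
      ⟨fun a b hab => (algebraMap K Ω).injective (congrArg Subtype.val hab),
        (algebraMap K Ω).rangeRestrict_surjective⟩
  let ψ' : Z.residueField z →+* K := e.symm.toRingHom.comp (ψ.hom.codRestrict _ hrange)
  have hψ' : ∀ a, algebraMap K Ω (ψ' a) = ψ.hom a := by
    intro a
    have : e (ψ' a) = ψ.hom.codRestrict _ hrange a := e.apply_symm_apply _
    exact congrArg Subtype.val this
  refine ⟨Spec.map (CommRingCat.ofHom ψ') ≫ Z.fromSpecResidueField z, ?_, ?_⟩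
  · rw [Category.assoc, ← hφ₀, ← Spec.map_comp]
    congr 1
    ext c
    apply (algebraMap K Ω).injective
    show algebraMap K Ω (ψ' (φ₀.hom c)) = algebraMap K Ω (algebraMap k K c)
    rw [hψ', ← IsScalarTower.algebraMap_apply]
    exact congr($hcomp c)
  · rw [← Category.assoc, ← Spec.map_comp, ← eh]
    congr 2
    ext a
    exact hψ' a


theorem main (k K Ω : Type u) [Field k] [Field K] [Field Ω] [Algebra k K] [IsAlgClosed K]
    [Algebra K Ω] [Algebra k Ω] [IsScalarTower k K Ω]
    (Z : Scheme.{u}) (f : Z ⟶ Spec (CommRingCat.of k)) [Etale f] :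
    (∀ g₁ g₂ : Spec (CommRingCat.of K) ⟶ Z,
        g₁ ≫ f = Spec.map (CommRingCat.ofHom (algebraMap k K)) →
        g₂ ≫ f = Spec.map (CommRingCat.ofHom (algebraMap k K)) →
        Spec.map (CommRingCat.ofHom (algebraMap K Ω)) ≫ g₁ = Spec.map (CommRingCat.ofHom (algebraMap K Ω)) ≫ g₂ →
        g₁ = g₂) ∧
    (∀ h : Spec (CommRingCat.of Ω) ⟶ Z, h ≫ f = Spec.map (CommRingCat.ofHom (algebraMap k Ω)) →
        ∃ g : Spec (CommRingCat.of K) ⟶ Z, g ≫ f = Spec.map (CommRingCat.ofHom (algebraMap k K)) ∧
          Spec.map (CommRingCat.ofHom (algebraMap K Ω)) ≫ g = h) :=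
  ⟨fun g₁ g₂ _ _ h => part1 K Ω Z g₁ g₂ h, fun h hh => part2 k K Ω Z f h hh⟩

end Aux

/-- Let k be a field, K an algebraic closure of k (an algebraically closed field algebraic over k), Ω a
field containing K, and Z a scheme étale over Spec k. Composition with Spec Ω → Spec K is a
bijection from the k-morphisms Spec K → Z onto the k-morphisms Spec Ω → Z: two k-morphisms Spec K →
Z that agree on Spec Ω are equal, and every k-morphism Spec Ω → Z factors through Spec K. (The
published statement is the case where k has characteristic zero with a chosen embedding of its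
algebraic closure into the complex numbers, Ω = ℂ, and Z is the scheme of isomorphisms between two
K3 surfaces over k, known there to be étale over k; this row states the fact about an arbitrary
étale k-scheme that the argument establishes.) -/
theorem result
    (k K Ω : Type u) [Field k] [Field K] [Field Ω] [Algebra k K] [IsAlgClosed K] [Algebra.IsAlgebraic k K]
    [Algebra K Ω] [Algebra k Ω] [IsScalarTower k K Ω]
    (Z : Scheme.{u}) (f : Z ⟶ Spec (CommRingCat.of k)) [AlgebraicGeometry.Etale f] :
    (∀ g₁ g₂ : Spec (CommRingCat.of K) ⟶ Z,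
        g₁ ≫ f = Spec.map (CommRingCat.ofHom (algebraMap k K)) →
        g₂ ≫ f = Spec.map (CommRingCat.ofHom (algebraMap k K)) →
        Spec.map (CommRingCat.ofHom (algebraMap K Ω)) ≫ g₁ = Spec.map (CommRingCat.ofHom (algebraMap K Ω)) ≫ g₂ →
        g₁ = g₂) ∧
    (∀ h : Spec (CommRingCat.of Ω) ⟶ Z, h ≫ f = Spec.map (CommRingCat.ofHom (algebraMap k Ω)) →
        ∃ g : Spec (CommRingCat.of K) ⟶ Z, g ≫ f = Spec.map (CommRingCat.ofHom (algebraMap k K)) ∧
          Spec.map (CommRingCat.ofHom (algebraMap K Ω)) ≫ g = h) := by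
  exact main k K Ω Z f

end Groth.Agent.S15506
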