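import Groth.Statements.S15512
-- import your own Groth.Agent.* helpers here
import Mathlib
import Groth.Agent.Lib.helper6.ExtTop
import Groth.Agent.S0563

set_option autoImplicit false
universe u
open CategoryTheory
open CAlg

namespace Groth.Agent.S15512

/-- Let A be a Noetherian ring which is regular (its localization at every maximal ideal is a regular
local ring) and of finite Krull dimension, M a finitely generated A-module and d a natural number.
If Ext^i_A(M, A) vanishes for every i > d, then the projective dimension of M is at most d. -/
theorem result (A : Type u) [CommRing A]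
    [IsNoetherianRing A] (hreg : ∀ m : MaximalSpectrum A, IsRegularLocalRing (Localization.AtPrime m.asIdeal))
    (hdim : ringKrullDim A < ⊤) (M : Type u) [AddCommGroup M] [Module A M] [Module.Finite A M] (d : ℕ)
    (h : ∀ i : ℕ, d < i → Subsingleton (Abelian.Ext (ModuleCat.of A M) (ModuleCat.of A A) i)) :
    HasProjectiveDimensionLT (ModuleCat.of A M) (d + 1) := by
  obtain ⟨n, hn⟩ : ∃ n : ℕ, ringKrullDim A ≤ n := by
    generalize ringKrullDim A = x at hdim
    induction x with
    | bot => exact ⟨0, bot_le⟩
    | coe x =>
      induction x with
      | top => exact absurd hdim (lt_irrefl _)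
      | coe k => exact ⟨k, le_rfl⟩
  have hfin : HasProjectiveDimensionLE (ModuleCat.of A M) n := by
    rw [ModuleCat.hasProjectiveDimensionLE_iff_forall_maximalSpectrum]
    intro m
    haveI := hreg m
    obtain ⟨e, he⟩ := Groth.Agent.H5.RegLoc.exists_nat_dim (Localization.AtPrime m.asIdeal)
    have h1 : ringKrullDim (Localization.AtPrime m.asIdeal) ≤ ringKrullDim A := by
      rw [IsLocalization.AtPrime.ringKrullDim_eq_height m.asIdeal]
      exact Ideal.height_le_ringKrullDim_of_ne_top m.isMaximal.ne_top
    have h2 : e ≤ n := by
      have := (he ▸ h1).trans hn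
      exact_mod_cast this
    have h3 := Groth.Agent.S0563.result (Localization.AtPrime m.asIdeal) e he
      ((ModuleCat.of A M).localizedModule m.asIdeal.primeCompl)
    exact hasProjectiveDimensionLT_of_ge _ (e + 1) (n + 1) (by omega)
  exact Groth.Agent.Lib.helper6.ExtTop.hasProjectiveDimensionLT_of_ext_vanish
    (ModuleCat.of A M) d h (n + 1) hfin

end Groth.Agent.S15512
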