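import Groth.Statements.S15524
import Groth.Agent.Lib.helper13.PowerSumBound

set_option autoImplicit false
open Finset
open Zeta

namespace Groth.Agent.S15524

/-- Let q ≥ 1 and let α_1, …, α_{2g} be complex numbers permuted by α ↦ q/α, i.e. α_{σ(i)} α_i = q for a
permutation σ of the indices; these play the role of the inverse roots of the numerator of the zeta
function of a curve over a field with q elements, for which #X(F_{q^N}) = q^N + 1 − Σ_i α_i^N. If
for some d ≥ 1 and real C one has |Σ_i α_i^{dN}| ≤ C q^{dN/2} for every N ≥ 1, then |α_i|^2 = q for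
every i (the Riemann hypothesis for the curve). -/
theorem result {g : ℕ} (q : ℕ) (hq : 0 < q)
    (α : Fin (2 * g) → ℂ) (σ : Equiv.Perm (Fin (2 * g))) (hσ : ∀ i, α (σ i) * α i = q)
    (d : ℕ) (hd : 0 < d) (C : ℝ)
    (hC : ∀ N : ℕ, 1 ≤ N → ‖∑ i, α i ^ (d * N)‖ ≤ C * (q : ℝ) ^ ((d : ℝ) * N / 2))
    (i : Fin (2 * g)) : ‖α i‖ ^ 2 = q := by
  have hq' : (0 : ℝ) < (q : ℝ) := by exact_mod_cast hq
  set s : ℝ := (q : ℝ) ^ ((d : ℝ) / 2) with hs
  have hs0 : 0 < s := Real.rpow_pos_of_pos hq' _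
  have hsN : ∀ N : ℕ, s ^ N = (q : ℝ) ^ ((d : ℝ) * N / 2) := by
    intro N
    rw [hs, ← Real.rpow_natCast, ← Real.rpow_mul hq'.le]
    congr 1
    ring
  have hs2 : s ^ 2 = (q : ℝ) ^ d := by
    rw [hsN 2, ← Real.rpow_natCast]
    congr 1
    push_cast
    ring
  -- normalised numbers
  let β : Fin (2 * g) → ℂ := fun i => α i ^ d / (s : ℂ)
  have hβ : ∀ r : ℕ, 1 ≤ r → ‖∑ i, β i ^ r‖ ≤ C := by
    intro r hr
    have h1 : ∑ i, β i ^ r = (∑ i, α i ^ (d * r)) / ((s : ℂ) ^ r) := by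
      rw [Finset.sum_div]
      apply Finset.sum_congr rfl
      intro i _
      simp only [β]
      rw [div_pow, ← pow_mul]
    rw [h1, norm_div, norm_pow, Complex.norm_real, Real.norm_of_nonneg hs0.le]
    rw [div_le_iff₀ (pow_pos hs0 r), hsN r]
    exact hC r hr
  have key : ∀ i, ‖α i‖ ^ 2 ≤ (q : ℝ) := by
    intro i
    have h1 := Groth.Agent.Lib.helper13.PowerSumBound.norm_le_one_of_bounded β C hβ i
    simp only [β] at h1
    rw [norm_div, norm_pow, Complex.norm_real, Real.norm_of_nonneg hs0.le,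
      div_le_one hs0] at h1
    have h2 : (‖α i‖ ^ 2) ^ d ≤ (q : ℝ) ^ d := by
      rw [← hs2, ← pow_mul, mul_comm, pow_mul]
      exact pow_le_pow_left₀ (by positivity) h1 2
    exact le_of_pow_le_pow_left₀ hd.ne' hq'.le h2
  apply le_antisymm (key i)
  have h3 : ‖α (σ i)‖ * ‖α i‖ = (q : ℝ) := by
    rw [← norm_mul, hσ i, Complex.norm_natCast]
  have h4 : (q : ℝ) * (q : ℝ) ≤ (q : ℝ) * ‖α i‖ ^ 2 := by
    calc (q : ℝ) * (q : ℝ) = (‖α (σ i)‖ * ‖α i‖) ^ 2 := by rw [h3]; ring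
      _ = ‖α (σ i)‖ ^ 2 * ‖α i‖ ^ 2 := by ring
      _ ≤ (q : ℝ) * ‖α i‖ ^ 2 := mul_le_mul_of_nonneg_right (key (σ i)) (by positivity)
  exact le_of_mul_le_mul_left h4 hq'

end Groth.Agent.S15524
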