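import Groth.Statements.S15525
import Mathlib

set_option autoImplicit false
universe u
open Zeta

namespace Groth.Agent.S15525

open Polynomial in
/-- reversal of a product of linear factors with unimodular roots -/
theorem reverse_prod_roots (s : Multiset ℂ) (hs : ∀ z ∈ s, ‖z‖ = 1) :
    (-1 : ℂ[X]) ^ (Multiset.card s) * C (s.prod)⁻¹ * (s.map (fun z => X - C z)).prod.reverse
      = (s.map (fun z => X - C ((starRingEnd ℂ) z))).prod := by
  induction s using Multiset.induction_on with
  | empty =>
    simp
    rw [← C_1, reverse_C]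
  | cons a s ih =>
    have ha : ‖a‖ = 1 := hs a (Multiset.mem_cons_self a s)
    have ha0 : a ≠ 0 := by
      intro h; rw [h] at ha; simp at ha
    have ih' := ih (fun z hz => hs z (Multiset.mem_cons_of_mem hz))
    rw [Multiset.map_cons, Multiset.prod_cons, Multiset.map_cons, Multiset.prod_cons,
      Multiset.card_cons, Multiset.prod_cons, reverse_mul_of_domain, ← ih']
    have hrev : (X - C a : ℂ[X]).reverse = 1 - C a * X := by
      have : (X - C a : ℂ[X]) = X + C (-a) := by simp [sub_eq_add_neg]
      have hX : reverse (X : ℂ[X]) = 1 := by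
        have h1 := reverse_mul_X (1 : ℂ[X])
        rw [one_mul] at h1
        rw [h1, ← C_1, reverse_C]
      rw [this, reverse_add_C, hX]
      simp [sub_eq_add_neg]
    have hconj : (starRingEnd ℂ) a = a⁻¹ := (Complex.inv_eq_conj ha).symm
    rw [hrev, hconj, mul_inv, C_mul]
    have hCa : (C a : ℂ[X]) * C a⁻¹ = 1 := by rw [← C_mul, mul_inv_cancel₀ ha0, C_1]
    linear_combination ((-1 : ℂ[X]) ^ (Multiset.card s) * C (s.prod)⁻¹ *
      (s.map (fun z => X - C z)).prod.reverse * X) * hCa

open Polynomial in
/-- complex version -/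
theorem main_complex {r : ℕ} (A : Matrix (Fin r) (Fin r) ℂ)
    (hA : ∀ z ∈ A.charpoly.roots, ‖z‖ = 1) (n : ℕ) :
    ((Matrix.fromBlocks A 0 0 (A⁻¹).transpose).charpoly.coeff n).im = 0 := by
  have hsplit : A.charpoly.Splits := IsAlgClosed.splits _
  have hmonic : A.charpoly.Monic := Matrix.charpoly_monic A
  have hprod := hsplit.eq_prod_roots_of_monic hmonic
  have hdet : A.det = A.charpoly.roots.prod := Matrix.det_eq_prod_roots_charpoly A
  have hdet0 : A.det ≠ 0 := by
    rw [hdet]
    intro h0
    rw [Multiset.prod_eq_zero_iff] at h0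
    have := hA 0 h0
    simp at this
  have hunit : IsUnit A := (Matrix.isUnit_iff_isUnit_det A).2 (isUnit_iff_ne_zero.2 hdet0)
  have hcard : Multiset.card A.charpoly.roots = r := by
    rw [← hsplit.natDegree_eq_card_roots, Matrix.charpoly_natDegree_eq_dim, Fintype.card_fin]
  have hinv : A⁻¹.charpoly = A.charpoly.map (starRingEnd ℂ) := by
    rw [Matrix.charpoly_inv A hunit, ← Matrix.reverse_charpoly, Ring.inverse_eq_inv', Fintype.card_fin]
    conv_rhs => rw [hprod]
    rw [Polynomial.map_multiset_prod, Multiset.map_map]
    have := reverse_prod_roots A.charpoly.roots hA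
    rw [hcard, ← hprod, ← hdet] at this
    rw [this]
    congr 1
    apply Multiset.map_congr rfl
    intro z _
    simp
  have hchar : (Matrix.fromBlocks A 0 0 (A⁻¹).transpose).charpoly
      = A.charpoly * A.charpoly.map (starRingEnd ℂ) := by
    rw [Matrix.charpoly_fromBlocks_zero₁₂, Matrix.charpoly_transpose, hinv]
  rw [hchar, ← Complex.conj_eq_iff_im]
  have : (starRingEnd ℂ) ((A.charpoly * A.charpoly.map (starRingEnd ℂ)).coeff n)
      = ((A.charpoly * A.charpoly.map (starRingEnd ℂ)).map (starRingEnd ℂ)).coeff n := by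
    rw [Polynomial.coeff_map]
  rw [this, Polynomial.map_mul, Polynomial.map_map]
  have hid : (starRingEnd ℂ).comp (starRingEnd ℂ) = RingHom.id ℂ := by
    ext z; simp
  rw [hid, Polynomial.map_id, mul_comm]

/-- Let L be a field with a ring embedding ι into ℂ and M an r × r matrix over L all of whose
eigenvalues, the complex roots of its characteristic polynomial mapped along ι, have absolute value
1. Then every coefficient of the characteristic polynomial of the block-diagonal matrix with blocks
M and the inverse transpose of M is mapped by ι into ℝ. This is the pointwise content of the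
assertion that for a lisse sheaf F pure of weight 0 the sum of F and its dual is real, the Frobenius
of the dual acting by the inverse transpose. -/
theorem result (L : Type u) [Field L] (ι : L →+* ℂ)
    {r : ℕ} (M : Matrix (Fin r) (Fin r) L)
    (hM : ∀ z ∈ ((Matrix.charpoly M).map ι).roots, ‖z‖ = 1) (n : ℕ) :
    (ι ((Matrix.fromBlocks M 0 0 (M⁻¹).transpose).charpoly.coeff n)).im = 0 := by
  classical
  have hcoeff : ι ((Matrix.fromBlocks M 0 0 (M⁻¹).transpose).charpoly.coeff n)
      = ((Matrix.fromBlocks M 0 0 (M⁻¹).transpose).map ι).charpoly.coeff n := by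
    rw [Matrix.charpoly_map, Polynomial.coeff_map]
  have hinvmap : (M⁻¹).map ι = (M.map ι)⁻¹ := by
    by_cases hd : M.det = 0
    · have h1 : M⁻¹ = 0 := by
        rw [Matrix.inv_def, hd]; simp
      have h2 : (M.map ι)⁻¹ = 0 := by
        have : (M.map ι).det = 0 := by
          rw [← RingHom.mapMatrix_apply, ← RingHom.map_det, hd, map_zero]
        rw [Matrix.inv_def, this]; simp
      rw [h1, h2]; simp
    · have hu : IsUnit M.det := isUnit_iff_ne_zero.2 hd
      symm
      apply Matrix.inv_eq_right_inv
      rw [← Matrix.map_mul, Matrix.mul_nonsing_inv M hu]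
      simp
  have hmap : (Matrix.fromBlocks M 0 0 (M⁻¹).transpose).map ι
      = Matrix.fromBlocks (M.map ι) 0 0 ((M.map ι)⁻¹).transpose := by
    rw [Matrix.fromBlocks_map, Matrix.transpose_map, hinvmap]
    simp
  rw [hcoeff, hmap]
  apply main_complex
  intro z hz
  apply hM
  rwa [← Matrix.charpoly_map]

end Groth.Agent.S15525
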