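import Groth.Statements.S15526
import Mathlib

set_option autoImplicit false
universe u
open MvPolynomial
open CAlg

namespace Groth.Agent.S15526

/-- The abstract spanning statement. -/
theorem aux (R : Type u) [CommRing R] (g : ℕ) (P : Polynomial R) (hP : P.Monic)
    (hdeg : P.natDegree = 2 * g + 1) (A : Type u) [CommRing A] [Algebra R A] (x y z : A)
    (hyz : y * z = 1) (hy2 : y ^ 2 = Polynomial.aeval x P) (a b c : ℕ) :
    x ^ a * y ^ b * z ^ c ∈ Submodule.span R {t : A | ∃ i n : ℕ, i ≤ 2 * g ∧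
      (t = x ^ i * y ^ n ∨ t = x ^ i * z ^ n)} := by
  classical
  set W := Submodule.span R {t : A | ∃ i n : ℕ, i ≤ 2 * g ∧
      (t = x ^ i * y ^ n ∨ t = x ^ i * z ^ n)} with hW
  let u : Aˣ := ⟨y, z, hyz, by rw [mul_comm]; exact hyz⟩
  have hu_nat : ∀ m : ℕ, ((u ^ (m : ℤ) : Aˣ) : A) = y ^ m := by
    intro m; rw [zpow_natCast, Units.val_pow_eq_pow_val]
  have hu_neg : ∀ m : ℕ, ((u ^ (-(m : ℤ)) : Aˣ) : A) = z ^ m := by
    intro m
    rw [zpow_neg, zpow_natCast, ← inv_pow, Units.val_pow_eq_pow_val]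
    rfl
  have hy2' : y ^ 2 = x ^ (2 * g + 1) +
      ∑ i ∈ Finset.range (2 * g + 1), P.coeff i • x ^ i := by
    rw [hy2]
    conv_lhs => rw [hP.as_sum, hdeg]
    simp only [map_add, map_pow, Polynomial.aeval_X, map_sum, map_mul, Polynomial.aeval_C]
    congr 1
    refine Finset.sum_congr rfl fun i _ => ?_
    rw [Algebra.smul_def]
  have hgen : ∀ i ≤ 2 * g, ∀ n : ℤ, x ^ i * ((u ^ n : Aˣ) : A) ∈ W := by
    intro i hi n
    obtain ⟨m, rfl | rfl⟩ := Int.eq_nat_or_neg n
    · rw [hu_nat]
      exact Submodule.subset_span ⟨i, m, hi, Or.inl rfl⟩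
    · rw [hu_neg]
      exact Submodule.subset_span ⟨i, m, hi, Or.inr rfl⟩
  have hmain : ∀ (a : ℕ) (n : ℤ), x ^ a * ((u ^ n : Aˣ) : A) ∈ W := by
    intro a
    induction a using Nat.strong_induction_on with
    | _ a ih =>
      intro n
      by_cases ha : a ≤ 2 * g
      · exact hgen a ha n
      · obtain ⟨a', rfl⟩ : ∃ a', a = a' + (2 * g + 1) := ⟨a - (2 * g + 1), by omega⟩
        have hx : x ^ (2 * g + 1) = y ^ 2 -
            ∑ i ∈ Finset.range (2 * g + 1), P.coeff i • x ^ i := by
          rw [hy2']; ring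
        have hy2u : y ^ 2 * ((u ^ n : Aˣ) : A) = ((u ^ (n + 2) : Aˣ) : A) := by
          rw [zpow_add, mul_comm (u ^ n), Units.val_mul]
          rfl
        have : x ^ (a' + (2 * g + 1)) * ((u ^ n : Aˣ) : A) =
            x ^ a' * ((u ^ (n + 2) : Aˣ) : A) -
              ∑ i ∈ Finset.range (2 * g + 1), P.coeff i • (x ^ (a' + i) * ((u ^ n : Aˣ) : A)) := by
          rw [pow_add, hx, ← hy2u, mul_sub, sub_mul, mul_assoc]
          congr 1
          rw [Finset.mul_sum, Finset.sum_mul]
          refine Finset.sum_congr rfl fun i _ => ?_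
          rw [pow_add, Algebra.smul_def, Algebra.smul_def]
          ring
        rw [this]
        apply Submodule.sub_mem
        · exact ih a' (by omega) _
        · refine Submodule.sum_mem _ fun i hi => Submodule.smul_mem _ _ (ih _ ?_ _)
          have := Finset.mem_range.1 hi
          omega
  have : x ^ a * y ^ b * z ^ c = x ^ a * ((u ^ ((b : ℤ) - c) : Aˣ) : A) := by
    rw [sub_eq_add_neg, zpow_add, Units.val_mul, hu_nat, hu_neg, mul_assoc]
  rw [this]
  exact hmain a _

/-- Let R be a commutative ring, P ∈ R[x] a monic polynomial of degree 2g + 1, and A = R[x, y, z]/(y^2 −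
P(x), yz − 1). Then every element of A is a finite sum Σ_n Q_n(x) y^n over integers n, negative
powers of y meaning powers of z, with each Q_n ∈ R[x] of degree at most 2g: the R-submodule of A
spanned by the classes of x^i y^n and x^i z^n with i ≤ 2g and n ≥ 0 is all of A. (The published
statement takes for R the ring of Witt vectors of a finite field and for P a lift of a separable
polynomial; the argument uses only that P is monic of degree 2g + 1.) -/
theorem result (R : Type u) [CommRing R] (g : ℕ)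
    (P : Polynomial R) (hP : P.Monic) (hdeg : P.natDegree = 2 * g + 1) :
    Submodule.span R {a : MvPolynomial (Fin 3) R ⧸
        Ideal.span ({X 1 ^ 2 - Polynomial.aeval (X 0 : MvPolynomial (Fin 3) R) P, X 1 * X 2 - 1} :
          Set (MvPolynomial (Fin 3) R)) |
        ∃ i n : ℕ, i ≤ 2 * g ∧
          (a = Ideal.Quotient.mk _ (X 0 ^ i * X 1 ^ n) ∨ a = Ideal.Quotient.mk _ (X 0 ^ i * X 2 ^ n))} =
      ⊤ := by
  classical
  rw [eq_top_iff]
  rintro t -
  obtain ⟨p, rfl⟩ := Ideal.Quotient.mk_surjective t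
  have hyz : (Ideal.Quotient.mk (Ideal.span ({X 1 ^ 2 - Polynomial.aeval (X 0 : MvPolynomial (Fin 3) R) P,
      X 1 * X 2 - 1} : Set (MvPolynomial (Fin 3) R))) (X 1)) *
      (Ideal.Quotient.mk _ (X 2)) = 1 := by
    rw [← map_mul, ← map_one (Ideal.Quotient.mk _), Ideal.Quotient.eq]
    exact Ideal.subset_span (by simp)
  have hy2 : (Ideal.Quotient.mk (Ideal.span ({X 1 ^ 2 - Polynomial.aeval (X 0 : MvPolynomial (Fin 3) R) P,
      X 1 * X 2 - 1} : Set (MvPolynomial (Fin 3) R))) (X 1)) ^ 2 =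
      Polynomial.aeval (Ideal.Quotient.mk _ (X 0)) P := by
    have := Polynomial.aeval_algHom_apply (Ideal.Quotient.mkₐ R (Ideal.span
      ({X 1 ^ 2 - Polynomial.aeval (X 0 : MvPolynomial (Fin 3) R) P,
      X 1 * X 2 - 1} : Set (MvPolynomial (Fin 3) R)))) (X 0) P
    rw [Ideal.Quotient.mkₐ_eq_mk] at this
    rw [this, ← map_pow, Ideal.Quotient.eq]
    exact Ideal.subset_span (by simp)
  have haux := aux R g P hP hdeg _ _ _ _ hyz hy2
  induction p using MvPolynomial.induction_on' with
  | monomial s r =>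
    have : (Ideal.Quotient.mk (Ideal.span ({X 1 ^ 2 - Polynomial.aeval (X 0 : MvPolynomial (Fin 3) R) P,
      X 1 * X 2 - 1} : Set (MvPolynomial (Fin 3) R)))) (monomial s r) =
        r • ((Ideal.Quotient.mk _ (X 0)) ^ (s 0) * (Ideal.Quotient.mk _ (X 1)) ^ (s 1) *
          (Ideal.Quotient.mk _ (X 2)) ^ (s 2)) := by
      rw [← map_pow, ← map_pow, ← map_pow, ← map_mul, ← map_mul,
        ← Ideal.Quotient.mkₐ_eq_mk R, ← map_smul]
      congr 1
      rw [MvPolynomial.monomial_eq, Finsupp.prod_fintype _ _ (by simp), Fin.prod_univ_three,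
        MvPolynomial.smul_eq_C_mul]
    rw [this]
    refine Submodule.smul_mem _ _ ?_
    have haux' := haux (s 0) (s 1) (s 2)
    simp only [map_mul, map_pow]
    exact haux' 
  | add p q hp hq =>
    rw [map_add]
    exact Submodule.add_mem _ hp hq

end Groth.Agent.S15526
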