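import Groth.Statements.S15546
import Mathlib

set_option autoImplicit false
open scoped TensorProduct
universe u
open Unram

namespace Groth.Agent.S15546

/-- Let E be a finite extension of a field k which is not separable over k, and K an algebraic closure
of k. Then E ⊗_k K has a nonzero nilpotent element. -/
theorem result (k E K : Type u) [Field k] [Field E]
    [Algebra k E] [FiniteDimensional k E] [Field K] [Algebra k K] [IsAlgClosure k K]
    (h : ¬ Algebra.IsSeparable k E) : ∃ x : E ⊗[k] K, x ≠ 0 ∧ IsNilpotent x := by
  classical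
  by_contra hno
  push Not at hno
  apply h
  haveI : IsAlgClosed K := IsAlgClosure.isAlgClosed k
  haveI : IsReduced (E ⊗[k] K) := ⟨fun x hx => by
    by_contra hx0
    exact hno x hx0 hx⟩
  haveI : IsReduced (K ⊗[k] E) :=
    isReduced_of_injective (Algebra.TensorProduct.comm k K E).toRingEquiv.toRingHom
      (Algebra.TensorProduct.comm k K E).injective
  haveI : IsArtinianRing (K ⊗[k] E) := IsArtinianRing.of_finite K _
  have e := (IsArtinianRing.equivPi (K ⊗[k] E)).restrictScalars K
  haveI : ∀ I : MaximalSpectrum (K ⊗[k] E),
      Algebra.FormallyUnramified K ((K ⊗[k] E) ⧸ I.asIdeal) := by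
    intro I
    letI : Field ((K ⊗[k] E) ⧸ I.asIdeal) := Ideal.Quotient.field _
    haveI : Algebra.IsSeparable K ((K ⊗[k] E) ⧸ I.asIdeal) :=
      Algebra.IsAlgebraic.isSeparable_of_perfectField
    exact Algebra.FormallyUnramified.of_isSeparable K _
  haveI : Algebra.FormallyUnramified K (Π I : MaximalSpectrum (K ⊗[k] E),
      (K ⊗[k] E) ⧸ I.asIdeal) := by
    rw [Algebra.FormallyUnramified.pi_iff]
    infer_instance
  haveI : Algebra.FormallyUnramified K (K ⊗[k] E) := Algebra.FormallyUnramified.of_equiv e.symm
  haveI : Algebra.FormallyUnramified k E :=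
    Algebra.FormallyUnramified.of_formallyUnramified_tensorProduct_of_faithfullyFlat K
  exact Algebra.FormallyUnramified.isSeparable k E

end Groth.Agent.S15546
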