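import Groth.Statements.S15549
import Mathlib
import Groth.Agent.Lib.helper24.GrAnn

set_option autoImplicit false
universe u
open CategoryTheory AlgebraicGeometry
open LocCoh

namespace Groth.Agent.S15549



/-- Let R be a Noetherian commutative ring, positively graded by additive subgroups R_d, with irrelevant
ideal R_+ and X = Proj R, and let M be a graded R-module which is the direct sum of its pieces M_i,
i ≥ 0 (non-negatively graded here). For every i and every m ∈ M_i, the global section of M(i)~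
defined by m (the value m/1 at every point) is zero if and only if some power of R_+ annihilates m.
Equivalently, degree by degree, the kernel of the canonical map from M to the direct sum over all n
of Γ(X, M(n)~) is the R_+-power-torsion submodule H^0_{R_+}(M). -/
theorem result {R σ : Type u} [CommRing R] [IsNoetherianRing R] [SetLike σ R] [AddSubgroupClass σ R]
    (𝒜 : ℕ → σ) [GradedRing 𝒜] {M τ : Type u} [AddCommGroup M] [Module R M] [SetLike τ M] [AddSubgroupClass τ M]
    (ℳ : ℕ → τ) [SetLike.GradedSMul 𝒜 ℳ] [DirectSum.Decomposition ℳ]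
    (i : ℕ) (m : ℳ i) :
    GrMod.alpha 𝒜 ℳ i m = 0 ↔
      ∃ k : ℕ, ∀ r : R, r ∈ (HomogeneousIdeal.irrelevant 𝒜).toIdeal ^ k → r • (m : M) = 0 := by
  classical
  constructor
  · intro h0
    have hpt : ∀ x : ProjectiveSpectrum 𝒜, ∃ u : R, u ∉ x.asHomogeneousIdeal ∧ u • (m : M) = 0 := by
      intro x
      have h1 : GrMod.globalOf 𝒜 ℳ m = 0 := h0
      have h2 : (((GrMod.globalOf 𝒜 ℳ m).1 ⟨x, trivial⟩ : GrMod.tildeAt 𝒜 ℳ i x) :
          GrMod.LocMod 𝒜 (M := M) x) = 0 := by
        rw [h1]
        rfl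
      change LocalizedModule.mk (m : M) 1 = (0 : GrMod.LocMod 𝒜 (M := M) x) at h2
      rw [← LocalizedModule.zero_mk 1, LocalizedModule.mk_eq] at h2
      obtain ⟨u, hu⟩ := h2
      refine ⟨u.1, u.2, ?_⟩
      have hu' : u • (1 : x.asHomogeneousIdeal.toIdeal.primeCompl) • (m : M) = 0 := by
        rw [hu, smul_zero, smul_zero]
      rw [one_smul] at hu'
      exact hu'
    exact Groth.Agent.Lib.helper24.GrAnn.exists_pow_irrelevant_smul_eq_zero 𝒜 ℳ
      (IsNoetherian.noetherian _) m.2 hpt
  · rintro ⟨k, hk⟩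
    change GrMod.globalOf 𝒜 ℳ m = 0
    refine Subtype.ext (funext fun x => Subtype.ext ?_)
    change LocalizedModule.mk (m : M) 1 = (0 : GrMod.LocMod 𝒜 (M := M) x.1)
    obtain ⟨e, t, he, ht, htx⟩ := Groth.Agent.Lib.helper24.GrAnn.exists_homog_notMem 𝒜 x.1
    have htirr : t ∈ (HomogeneousIdeal.irrelevant 𝒜).toIdeal := by
      show t ∈ HomogeneousIdeal.irrelevant 𝒜
      rw [HomogeneousIdeal.mem_irrelevant_iff, GradedRing.proj_apply]
      exact DirectSum.decompose_of_mem_ne 𝒜 ht (by omega)
    have hkill : t ^ k • (m : M) = 0 := hk _ (Ideal.pow_mem_pow htirr k)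
    have htk : t ^ k ∈ x.1.asHomogeneousIdeal.toIdeal.primeCompl := by
      intro hmem
      exact htx (x.1.isPrime.mem_of_pow_mem k hmem)
    rw [← LocalizedModule.zero_mk 1, LocalizedModule.mk_eq]
    refine ⟨⟨t ^ k, htk⟩, ?_⟩
    simp only [one_smul, smul_zero]
    exact hkill

end Groth.Agent.S15549
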