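import Groth.Statements.S15560
import Mathlib

set_option autoImplicit false
universe u v w
open KronMod

namespace Groth.Agent.S15560

/-- Let f be a Kronecker module with n arrows over a field K, from a space V of dimension d₋₁ > 0 to a
space W of dimension d₀ > 0. If n·d₋₁ < d₀ or n·d₀ < d₋₁, then f is not semistable; that is, there
are no semistable Kronecker modules of dimension vector (d₋₁, d₀). (The published statement assumes
K algebraically closed of characteristic zero and n ≥ 2; this row allows any field K and any number
n of arrows.) -/
theorem result (K : Type u) [Field K] (V : Type v) (W : Type w)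
    [AddCommGroup V] [Module K V] [FiniteDimensional K V]
    [AddCommGroup W] [Module K W] [FiniteDimensional K W]
    (n : ℕ) (f : Fin n → (V →ₗ[K] W))
    (hV : 0 < Module.finrank K V) (hW : 0 < Module.finrank K W)
    (h : n * Module.finrank K V < Module.finrank K W ∨ n * Module.finrank K W < Module.finrank K V) :
    ¬ KronMod.IsSemistable f := by
  intro hss
  obtain ⟨_, hss⟩ := hss
  rcases h with h | h
  · -- sum map
    let S : (Fin n → V) →ₗ[K] W := ∑ j, (f j).comp (LinearMap.proj j)
    have hS : ∀ v, S v = ∑ j, f j (v j) := by
      intro v; simp [S, LinearMap.sum_apply]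
    have hsub : KronMod.IsSubrep f ⊤ (LinearMap.range S) := by
      intro j
      rintro _ ⟨v, -, rfl⟩
      refine ⟨Pi.single j v, ?_⟩
      rw [hS]
      rw [Finset.sum_eq_single j]
      · simp
      · intro b _ hb; simp [Pi.single_eq_of_ne hb]
      · intro hj; exact absurd (Finset.mem_univ j) hj
    have hle : Module.finrank K (LinearMap.range S) ≤ n * Module.finrank K V := by
      calc Module.finrank K (LinearMap.range S) ≤ Module.finrank K (Fin n → V) := LinearMap.finrank_range_le S
        _ = n * Module.finrank K V := by simp [Module.finrank_pi_fintype]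
    have hne1 : ¬ ((⊤ : Submodule K V) = ⊥ ∧ LinearMap.range S = ⊥) := by
      rintro ⟨h1, -⟩
      have : Module.finrank K (⊤ : Submodule K V) = 0 := by rw [h1]; simp
      rw [finrank_top] at this
      omega
    have hne2 : ¬ ((⊤ : Submodule K V) = ⊤ ∧ LinearMap.range S = ⊤) := by
      rintro ⟨-, h2⟩
      rw [h2, finrank_top] at hle
      omega
    have := hss ⊤ (LinearMap.range S) hsub hne1 hne2
    rw [finrank_top] at this
    have h3 : Module.finrank K W ≤ Module.finrank K (LinearMap.range S) := by
      rw [mul_comm] at this
      exact Nat.le_of_mul_le_mul_left this hV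
    omega
  · let P : V →ₗ[K] (Fin n → W) := LinearMap.pi f
    have hsub : KronMod.IsSubrep f (LinearMap.ker P) ⊥ := by
      intro j
      rintro _ ⟨v, hv, rfl⟩
      have : P v = 0 := hv
      have hj : P v j = 0 := by rw [this]; rfl
      simpa [P] using hj
    have hrn := LinearMap.finrank_range_add_finrank_ker P
    have hle : Module.finrank K (LinearMap.range P) ≤ n * Module.finrank K W := by
      calc Module.finrank K (LinearMap.range P) ≤ Module.finrank K (Fin n → W) := Submodule.finrank_le _
        _ = n * Module.finrank K W := by simp [Module.finrank_pi_fintype]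
    have hker : 0 < Module.finrank K (LinearMap.ker P) := by omega
    have hne1 : ¬ (LinearMap.ker P = ⊥ ∧ (⊥ : Submodule K W) = ⊥) := by
      rintro ⟨h1, -⟩
      rw [h1] at hker
      simp at hker
    have hne2 : ¬ (LinearMap.ker P = ⊤ ∧ (⊥ : Submodule K W) = ⊤) := by
      rintro ⟨-, h2⟩
      have : Module.finrank K (⊥ : Submodule K W) = Module.finrank K W := by rw [h2, finrank_top]
      simp at this
      omega
    have := hss (LinearMap.ker P) ⊥ hsub hne1 hne2
    rw [finrank_bot, mul_zero] at this
    have h0 := Nat.le_zero.mp this
    rcases Nat.mul_eq_zero.mp h0 with h0 | h0 <;> omega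

end Groth.Agent.S15560
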