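import Groth.Statements.S15561
import Mathlib

set_option autoImplicit false
universe u v w
open KronMod

namespace Groth.Agent.S15561

/-- Let f be a Kronecker module with n arrows over a field K, from V of dimension d₋₁ > 0 to W of
dimension n·d₋₁. Then f is semistable if and only if the sum map Vⁿ → W sending (v_j)_j to Σ_j
f_j(v_j) is bijective, i.e. every arrow f_j is injective and W is the direct sum of the images
f_j(V). (The published statement assumes K algebraically closed of characteristic zero and n ≥ 2;
this row allows any field K and any number n of arrows.) -/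
theorem result (K : Type u) [Field K] (V : Type v) (W : Type w)
    [AddCommGroup V] [Module K V] [FiniteDimensional K V]
    [AddCommGroup W] [Module K W] [FiniteDimensional K W]
    (n : ℕ) (f : Fin n → (V →ₗ[K] W))
    (hV : 0 < Module.finrank K V) (hW : Module.finrank K W = n * Module.finrank K V) :
    KronMod.IsSemistable f ↔ Function.Bijective (fun v : Fin n → V => ∑ j, f j (v j)) := by
  let S : (Fin n → V) →ₗ[K] W := ∑ j, (f j).comp (LinearMap.proj j)
  have hS : ∀ v, S v = ∑ j, f j (v j) := by
    intro v; simp [S, LinearMap.sum_apply]
  have hSfun : (fun v : Fin n → V => ∑ j, f j (v j)) = ⇑S := by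
    funext v; exact (hS v).symm
  rw [hSfun]
  have hdim : Module.finrank K (Fin n → V) = Module.finrank K W := by
    rw [hW]; simp [Module.finrank_pi_fintype]
  constructor
  · rintro ⟨_, hss⟩
    have hsub : KronMod.IsSubrep f ⊤ (LinearMap.range S) := by
      intro j
      rintro _ ⟨v, -, rfl⟩
      refine ⟨Pi.single j v, ?_⟩
      rw [hS]
      rw [Finset.sum_eq_single j]
      · simp
      · intro b _ hb; simp [Pi.single_eq_of_ne hb]
      · intro hj; exact absurd (Finset.mem_univ j) hj
    have hsurj : Function.Surjective S := by
      rw [← LinearMap.range_eq_top]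
      by_contra hne
      have hne1 : ¬ ((⊤ : Submodule K V) = ⊥ ∧ LinearMap.range S = ⊥) := by
        rintro ⟨h1, -⟩
        have : Module.finrank K (⊤ : Submodule K V) = 0 := by rw [h1]; simp
        rw [finrank_top] at this
        omega
      have hne2 : ¬ ((⊤ : Submodule K V) = ⊤ ∧ LinearMap.range S = ⊤) := fun h => hne h.2
      have := hss ⊤ (LinearMap.range S) hsub hne1 hne2
      rw [finrank_top, mul_comm] at this
      have h3 : Module.finrank K W ≤ Module.finrank K (LinearMap.range S) :=
        Nat.le_of_mul_le_mul_left this hV
      exact hne (Submodule.eq_top_of_finrank_eq (le_antisymm (Submodule.finrank_le _) h3))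
    exact ⟨(LinearMap.injective_iff_surjective_of_finrank_eq_finrank hdim).mpr hsurj, hsurj⟩
  · intro hbij
    refine ⟨by omega, fun V' W' hsub _ _ => ?_⟩
    let T : (Fin n → V') →ₗ[K] W := ∑ j, ((f j).comp V'.subtype).comp (LinearMap.proj j)
    have hT : ∀ v, T v = S (fun j => (v j : V)) := by
      intro v; simp [T, hS, LinearMap.sum_apply]
    have hTinj : Function.Injective T := by
      rw [← LinearMap.ker_eq_bot, LinearMap.ker_eq_bot']
      intro v hv
      rw [hT] at hv
      have h0 : (fun j => (v j : V)) = 0 := by
        apply hbij.1
        rw [hv, map_zero]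
      funext j
      have := congrFun h0 j
      exact Subtype.ext this
    have hTrange : LinearMap.range T ≤ W' := by
      rintro _ ⟨v, rfl⟩
      rw [hT, hS]
      exact Submodule.sum_mem _ fun j _ => hsub j ⟨(v j : V), (v j).2, rfl⟩
    have h1 : Module.finrank K (LinearMap.range T) = n * Module.finrank K V' := by
      rw [LinearMap.finrank_range_of_inj hTinj]; simp [Module.finrank_pi_fintype]
    have h2 : n * Module.finrank K V' ≤ Module.finrank K W' := h1 ▸ Submodule.finrank_mono hTrange
    rw [hW]
    calc n * Module.finrank K V * Module.finrank K V' = Module.finrank K V * (n * Module.finrank K V') := by ring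
      _ ≤ Module.finrank K V * Module.finrank K W' := Nat.mul_le_mul_left _ h2

end Groth.Agent.S15561
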