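import Groth.Statements.S15562
import Mathlib
import Groth.Agent.S15561

set_option autoImplicit false
universe u v w
open KronMod

namespace Groth.Agent.S15562

/-- Over a field K, for V of dimension d₋₁ > 0 and W of dimension n·d₋₁, semistable Kronecker modules
with n arrows from V to W exist, and any two of them are isomorphic as Kronecker modules; in other
words the moduli space K(n; d₋₁, n·d₋₁) of semistable Kronecker modules is a single point. (The
published statement assumes K algebraically closed of characteristic zero and n ≥ 2; this row allows
any field K and any number n of arrows.) -/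
theorem result (K : Type u) [Field K] (V : Type v) (W : Type w)
    [AddCommGroup V] [Module K V] [FiniteDimensional K V]
    [AddCommGroup W] [Module K W] [FiniteDimensional K W]
    (n : ℕ) (hV : 0 < Module.finrank K V) (hW : Module.finrank K W = n * Module.finrank K V) :
    (∃ f : Fin n → (V →ₗ[K] W), KronMod.IsSemistable f) ∧
    ∀ f f' : Fin n → (V →ₗ[K] W), KronMod.IsSemistable f → KronMod.IsSemistable f' →
      KronMod.AreIso f f' := by
  have hdim : Module.finrank K (Fin n → V) = Module.finrank K W := by
    rw [hW]; simp [Module.finrank_pi_fintype]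
  have hsum : ∀ (f : Fin n → (V →ₗ[K] W)) (E : (Fin n → V) →ₗ[K] W),
      (∀ j v, f j v = E (Pi.single j v)) → ∀ u : Fin n → V, ∑ j, f j (u j) = E u := by
    intro f E hf u
    simp_rw [hf]
    rw [← map_sum]
    congr 1
    funext i
    simp [Finset.sum_apply, Pi.single_apply]
  constructor
  · let E : (Fin n → V) ≃ₗ[K] W := LinearEquiv.ofFinrankEq _ _ hdim
    refine ⟨fun j => E.toLinearMap.comp (LinearMap.single K (fun _ => V) j), ?_⟩
    rw [Groth.Agent.S15561.result K V W n _ hV hW]
    have : (fun v : Fin n → V => ∑ j, (E.toLinearMap.comp (LinearMap.single K (fun _ => V) j)) (v j)) = ⇑E := by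
      funext u
      exact hsum _ E.toLinearMap (fun j v => rfl) u
    rw [this]
    exact E.bijective
  · intro f f' hf hf'
    have hb := (Groth.Agent.S15561.result K V W n f hV hW).mp hf
    have hb' := (Groth.Agent.S15561.result K V W n f' hV hW).mp hf'
    let S : (Fin n → V) →ₗ[K] W := ∑ j, (f j).comp (LinearMap.proj j)
    have hS : ∀ v, S v = ∑ j, f j (v j) := by
      intro v; simp [S, LinearMap.sum_apply]
    let S' : (Fin n → V) →ₗ[K] W := ∑ j, (f' j).comp (LinearMap.proj j)
    have hS' : ∀ v, S' v = ∑ j, f' j (v j) := by
      intro v; simp [S', LinearMap.sum_apply]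
    have hSb : Function.Bijective S := by
      have : ⇑S = (fun v : Fin n → V => ∑ j, f j (v j)) := funext hS
      rw [this]; exact hb
    have hSb' : Function.Bijective S' := by
      have : ⇑S' = (fun v : Fin n → V => ∑ j, f' j (v j)) := funext hS'
      rw [this]; exact hb'
    let E := LinearEquiv.ofBijective S hSb
    let E' := LinearEquiv.ofBijective S' hSb'
    have hE : ∀ j v, E (Pi.single j v) = f j v := by
      intro j v
      change S (Pi.single j v) = f j v
      rw [hS, Finset.sum_eq_single j]
      · simp
      · intro b _ hb; simp [Pi.single_eq_of_ne hb]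
      · intro hj; exact absurd (Finset.mem_univ j) hj
    have hE' : ∀ j v, E' (Pi.single j v) = f' j v := by
      intro j v
      change S' (Pi.single j v) = f' j v
      rw [hS', Finset.sum_eq_single j]
      · simp
      · intro b _ hb; simp [Pi.single_eq_of_ne hb]
      · intro hj; exact absurd (Finset.mem_univ j) hj
    refine ⟨LinearEquiv.refl K V, E.symm.trans E', fun j => ?_⟩
    ext v
    simp only [LinearMap.coe_comp, LinearEquiv.coe_coe, Function.comp_apply, LinearEquiv.trans_apply,
      LinearEquiv.refl_apply]
    rw [← hE j v, LinearEquiv.symm_apply_apply, hE']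

end Groth.Agent.S15562
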