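import Groth.Statements.S15563
import Mathlib
import Groth.Agent.S15561

set_option autoImplicit false
universe u v w
open KronMod

namespace Groth.Agent.S15563

theorem sub_bot_or_top (K : Type u) [Field K] (V : Type v) [AddCommGroup V] [Module K V]
    [FiniteDimensional K V] (hV : Module.finrank K V = 1) (S : Submodule K V) : S = ⊥ ∨ S = ⊤ := by
  have hle : Module.finrank K S ≤ 1 := hV ▸ Submodule.finrank_le S
  rcases Nat.le_one_iff_eq_zero_or_eq_one.mp hle with h | h
  · left; exact Submodule.finrank_eq_zero.mp h
  · right; exact Submodule.eq_top_of_finrank_eq (h.trans hV.symm)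

/-- Let f be a Kronecker module with n arrows over a field K, from V of dimension d₋₁ > 0 to W of
dimension n·d₋₁. Then f is stable if and only if f is semistable and d₋₁ = 1: for d₋₁ = 1 every
semistable module is stable (so the stable locus of K(n; 1, n) is the one point), while for d₋₁ > 1
no module is stable. (The published statement assumes K algebraically closed of characteristic zero
and n ≥ 2; this row allows any field K and any number n of arrows.) -/
theorem result (K : Type u) [Field K] (V : Type v) (W : Type w)
    [AddCommGroup V] [Module K V] [FiniteDimensional K V]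
    [AddCommGroup W] [Module K W] [FiniteDimensional K W]
    (n : ℕ) (f : Fin n → (V →ₗ[K] W))
    (hV : 0 < Module.finrank K V) (hW : Module.finrank K W = n * Module.finrank K V) :
    KronMod.IsStable f ↔ (KronMod.IsSemistable f ∧ Module.finrank K V = 1) := by
  have hst_ss : KronMod.IsStable f → KronMod.IsSemistable f := by
    rintro ⟨h0, h⟩
    exact ⟨h0, fun V' W' hs h1 h2 => (h V' W' hs h1 h2).le⟩
  have hchar := Groth.Agent.S15561.result K V W n f hV hW
  constructor
  · intro hst
    refine ⟨hst_ss hst, ?_⟩
    by_contra hne
    have hV2 : 2 ≤ Module.finrank K V := by omega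
    have hbij := hchar.mp (hst_ss hst)
    -- pick a nonzero vector
    have : ∃ v : V, v ≠ 0 := by
      have : Nontrivial V := Module.nontrivial_of_finrank_pos (R := K) hV
      exact exists_ne 0
    obtain ⟨v, hv⟩ := this
    let L : Submodule K V := K ∙ v
    have hL1 : Module.finrank K L = 1 := finrank_span_singleton hv
    let T : (Fin n → L) →ₗ[K] W := ∑ j, ((f j).comp L.subtype).comp (LinearMap.proj j)
    have hT : ∀ u, T u = ∑ j, f j (u j : V) := by
      intro u; simp [T, LinearMap.sum_apply]
    have hsub : KronMod.IsSubrep f L (LinearMap.range T) := by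
      intro j
      rintro _ ⟨x, hx, rfl⟩
      refine ⟨Pi.single j ⟨x, hx⟩, ?_⟩
      rw [hT, Finset.sum_eq_single j]
      · simp
      · intro b _ hb; simp [Pi.single_eq_of_ne hb]
      · intro hj; exact absurd (Finset.mem_univ j) hj
    have hle : Module.finrank K (LinearMap.range T) ≤ n := by
      calc Module.finrank K (LinearMap.range T) ≤ Module.finrank K (Fin n → L) := LinearMap.finrank_range_le T
        _ = n := by simp [Module.finrank_pi_fintype, hL1]
    have hne1 : ¬ (L = ⊥ ∧ LinearMap.range T = ⊥) := by
      rintro ⟨h1, -⟩
      rw [h1, finrank_bot] at hL1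
      omega
    have hne2 : ¬ (L = ⊤ ∧ LinearMap.range T = ⊤) := by
      rintro ⟨h1, -⟩
      rw [h1, finrank_top] at hL1
      omega
    have := hst.2 L (LinearMap.range T) hsub hne1 hne2
    rw [hL1, hW, mul_one] at this
    have h2 : Module.finrank K V * Module.finrank K (LinearMap.range T) ≤ Module.finrank K V * n :=
      Nat.mul_le_mul_left _ hle
    rw [mul_comm n] at this
    omega
  · rintro ⟨hss, hV1⟩
    have hbij := hchar.mp hss
    refine ⟨hss.1, fun V' W' hsub h1 h2 => ?_⟩
    rcases sub_bot_or_top K V hV1 V' with rfl | rfl
    · have hW' : W' ≠ ⊥ := fun h => h1 ⟨rfl, h⟩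
      have hpos : 0 < Module.finrank K W' := by
        rw [Nat.pos_iff_ne_zero]
        intro h0
        exact hW' (Submodule.finrank_eq_zero.mp h0)
      rw [finrank_bot, hV1]
      omega
    · exfalso
      apply h2
      refine ⟨rfl, ?_⟩
      rw [eq_top_iff]
      intro w _
      obtain ⟨u, rfl⟩ := hbij.2 w
      exact Submodule.sum_mem _ fun j _ => hsub j ⟨u j, Submodule.mem_top, rfl⟩

end Groth.Agent.S15563
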