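import Groth.Statements.S15564
import Mathlib

set_option autoImplicit false
universe u v w
open KronMod

namespace Groth.Agent.S15564

theorem sub_bot_or_top (K : Type u) [Field K] (V : Type v) [AddCommGroup V] [Module K V]
    [FiniteDimensional K V] (hV : Module.finrank K V = 1) (S : Submodule K V) : S = ⊥ ∨ S = ⊤ := by
  have hle : Module.finrank K S ≤ 1 := hV ▸ Submodule.finrank_le S
  rcases Nat.le_one_iff_eq_zero_or_eq_one.mp hle with h | h
  · left; exact Submodule.finrank_eq_zero.mp h
  · right; exact Submodule.eq_top_of_finrank_eq (h.trans hV.symm)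

/-- For a Kronecker module f with n arrows over a field K between one-dimensional spaces V and W,
semistability, stability and f ≠ 0 are equivalent: the semistable locus and the stable locus of
dimension vector (1, 1) are both the complement of the zero module. (The published statement assumes
K algebraically closed of characteristic zero and n ≥ 2; this row allows any field K and any n.) -/
theorem result (K : Type u) [Field K] (V : Type v) (W : Type w)
    [AddCommGroup V] [Module K V] [FiniteDimensional K V]
    [AddCommGroup W] [Module K W] [FiniteDimensional K W]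
    (n : ℕ) (f : Fin n → (V →ₗ[K] W))
    (hV : Module.finrank K V = 1) (hW : Module.finrank K W = 1) :
    (KronMod.IsSemistable f ↔ f ≠ 0) ∧ (KronMod.IsStable f ↔ f ≠ 0) := by
  have hst_ss : KronMod.IsStable f → KronMod.IsSemistable f := by
    rintro ⟨h0, h⟩
    exact ⟨h0, fun V' W' hs h1 h2 => (h V' W' hs h1 h2).le⟩
  have hss_ne : KronMod.IsSemistable f → f ≠ 0 := by
    rintro ⟨_, h⟩ hf
    have hsub : KronMod.IsSubrep f ⊤ ⊥ := by
      intro j
      rintro _ ⟨v, -, rfl⟩
      simp [hf]
    have h1 : ¬ ((⊤ : Submodule K V) = ⊥ ∧ (⊥ : Submodule K W) = ⊥) := by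
      rintro ⟨h1, -⟩
      have : Module.finrank K (⊤ : Submodule K V) = 0 := by rw [h1]; simp
      rw [finrank_top] at this; omega
    have h2 : ¬ ((⊤ : Submodule K V) = ⊤ ∧ (⊥ : Submodule K W) = ⊤) := by
      rintro ⟨-, h2⟩
      have : Module.finrank K (⊥ : Submodule K W) = Module.finrank K W := by rw [h2, finrank_top]
      rw [finrank_bot] at this; omega
    have := h ⊤ ⊥ hsub h1 h2
    rw [finrank_top, finrank_bot, hV, hW] at this
    omega
  have hne_st : f ≠ 0 → KronMod.IsStable f := by
    intro hf
    have : ∃ j, f j ≠ 0 := by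
      by_contra hcon
      push Not at hcon
      exact hf (funext hcon)
    obtain ⟨j, hj⟩ := this
    have : ∃ v, f j v ≠ 0 := by
      by_contra hcon
      push Not at hcon
      exact hj (LinearMap.ext hcon)
    obtain ⟨v, hv⟩ := this
    refine ⟨by omega, fun V' W' hsub h1 h2 => ?_⟩
    rcases sub_bot_or_top K V hV V' with rfl | rfl <;> rcases sub_bot_or_top K W hW W' with rfl | rfl
    · exact absurd ⟨rfl, rfl⟩ h1
    · rw [finrank_top, finrank_bot, hV, hW]; omega
    · exfalso
      have := hsub j ⟨v, Submodule.mem_top, rfl⟩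
      exact hv ((Submodule.mem_bot K).mp this)
    · exact absurd ⟨rfl, rfl⟩ h2
  exact ⟨⟨hss_ne, fun h => hst_ss (hne_st h)⟩, ⟨fun h => hss_ne (hst_ss h), hne_st⟩⟩

end Groth.Agent.S15564
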