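import Groth.Statements.S15565
import Mathlib

set_option autoImplicit false
universe u v w
open KronMod

namespace Groth.Agent.S15565

/-- Over an algebraically closed field K, a Kronecker module with two arrows between spaces V and W of
the same dimension k ≥ 2 is never stable: the stable locus of dimension vector (k, k) for the
Kronecker quiver with two arrows is empty. (The published statement also assumes characteristic
zero; this row does not.) -/
theorem result (K : Type u) [Field K] [IsAlgClosed K] (V : Type v) (W : Type w)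
    [AddCommGroup V] [Module K V] [FiniteDimensional K V]
    [AddCommGroup W] [Module K W] [FiniteDimensional K W]
    (f : Fin 2 → (V →ₗ[K] W)) (k : ℕ) (hk : 2 ≤ k)
    (hV : Module.finrank K V = k) (hW : Module.finrank K W = k) :
    ¬ KronMod.IsStable f := by
  rintro ⟨_, hst⟩
  have hVW : Module.finrank K V = Module.finrank K W := by rw [hV, hW]
  -- find a nonzero v and a vector w with f 0 v, f 1 v ∈ span {w}
  have key : ∃ (v : V) (w : W), v ≠ 0 ∧ f 0 v ∈ (K ∙ w) ∧ f 1 v ∈ (K ∙ w) := by
    by_cases hinj : Function.Injective (f 0)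
    · have hbij : Function.Bijective (f 0) :=
        ⟨hinj, (LinearMap.injective_iff_surjective_of_finrank_eq_finrank hVW).mp hinj⟩
      let e : V ≃ₗ[K] W := LinearEquiv.ofBijective (f 0) hbij
      let g : Module.End K V := e.symm.toLinearMap.comp (f 1)
      have : Nontrivial V := Module.nontrivial_of_finrank_pos (R := K) (by omega)
      obtain ⟨c, hc⟩ := Module.End.exists_eigenvalue g
      obtain ⟨v, hv⟩ := hc.exists_hasEigenvector
      refine ⟨v, f 0 v, hv.2, Submodule.mem_span_singleton_self _, ?_⟩
      have h1 : g v = c • v := hv.apply_eq_smul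
      have h2 : f 1 v = c • f 0 v := by
        have : e (g v) = f 1 v := by simp [g]
        rw [← this, h1, map_smul]
        rfl
      rw [h2]
      exact Submodule.smul_mem _ _ (Submodule.mem_span_singleton_self _)
    · have : ∃ v, v ≠ 0 ∧ f 0 v = 0 := by
        rw [← LinearMap.ker_eq_bot, Submodule.eq_bot_iff] at hinj
        push Not at hinj
        obtain ⟨v, hv, hv0⟩ := hinj
        exact ⟨v, hv0, hv⟩
      obtain ⟨v, hv, hv0⟩ := this
      refine ⟨v, f 1 v, hv, ?_, Submodule.mem_span_singleton_self _⟩
      rw [hv0]; exact Submodule.zero_mem _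
  obtain ⟨v, w, hv, h0, h1⟩ := key
  have hL1 : Module.finrank K (K ∙ v) = 1 := finrank_span_singleton hv
  have hsub : KronMod.IsSubrep f (K ∙ v) (K ∙ w) := by
    intro j
    rintro _ ⟨x, hx, rfl⟩
    obtain ⟨c, rfl⟩ := Submodule.mem_span_singleton.mp hx
    rw [map_smul]
    apply Submodule.smul_mem
    fin_cases j
    · exact h0
    · exact h1
  have hne1 : ¬ ((K ∙ v) = ⊥ ∧ (K ∙ w) = ⊥) := by
    rintro ⟨e1, -⟩
    rw [e1, finrank_bot] at hL1; omega
  have hne2 : ¬ ((K ∙ v) = ⊤ ∧ (K ∙ w) = ⊤) := by
    rintro ⟨e1, -⟩
    rw [e1, finrank_top] at hL1; omega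
  have := hst _ _ hsub hne1 hne2
  have hw1 : Module.finrank K (K ∙ w) ≤ 1 := by
    by_cases hw : w = 0
    · rw [hw, Submodule.span_zero_singleton, finrank_bot]; omega
    · rw [finrank_span_singleton hw]
  rw [hL1, hV, hW] at this
  have : k * Module.finrank K (K ∙ w) ≤ k * 1 := Nat.mul_le_mul_left _ hw1
  omega

end Groth.Agent.S15565
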