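import Groth.Statements.S15566
import Mathlib

set_option autoImplicit false
universe u v w
open KronMod

namespace Groth.Agent.S15566

theorem mem_span_of_not_injective {K : Type u} {V : Type v} {W : Type w} [Field K]
    [AddCommGroup V] [Module K V] [AddCommGroup W] [Module K W]
    (h : V →ₗ[K] W) (hinj : ¬ Function.Injective h) (v₁ v₂ : V)
    (hspan : ∀ x : V, ∃ α β : K, x = α • v₁ + β • v₂) (hv₂ : h v₂ ≠ 0) :
    ∃ c : K, h v₁ = c • h v₂ := by
  rw [← LinearMap.ker_eq_bot, Submodule.eq_bot_iff] at hinj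
  push Not at hinj
  obtain ⟨x, hx, hx0⟩ := hinj
  obtain ⟨α, β, rfl⟩ := hspan x
  have hx' : α • h v₁ + β • h v₂ = 0 := by
    have := LinearMap.mem_ker.1 hx
    simpa using this
  have hα : α ≠ 0 := by
    rintro rfl
    have h1 : β • h v₂ = 0 := by simpa using hx'
    rcases smul_eq_zero.1 h1 with hβ | hβ
    · apply hx0
      simp [hβ]
    · exact hv₂ hβ
  refine ⟨-(β / α), ?_⟩
  have h2 : α • h v₁ = -(β • h v₂) := eq_neg_of_add_eq_zero_left hx'
  calc h v₁ = α⁻¹ • (α • h v₁) := by rw [smul_smul, inv_mul_cancel₀ hα, one_smul]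
    _ = α⁻¹ • (-(β • h v₂)) := by rw [h2]
    _ = (-(β / α)) • h v₂ := by
      rw [smul_neg, smul_smul, neg_smul]
      congr 2
      field_simp

/-- Case of dimension vector (2, 2). Over an algebraically closed field K, if a Kronecker module f with
n arrows between two-dimensional spaces V and W is semistable, then some linear combination Σ_j z_j
f_j of its arrows is a linear isomorphism V → W (equivalently, the determinant of the generic
combination is not identically zero): the semistable locus of dimension vector (2, 2) lies in the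
open set of modules whose generic combination is invertible. (The published statement, over an
algebraically closed field of characteristic zero, covers dimension vectors (1, 1) and (2, 2) for
every n ≥ 2 and (k, k) for two arrows; this row states the (2, 2) case, for any n and without the
characteristic assumption.) -/
theorem result (K : Type u) [Field K] [IsAlgClosed K] (V : Type v) (W : Type w)
    [AddCommGroup V] [Module K V] [FiniteDimensional K V]
    [AddCommGroup W] [Module K W] [FiniteDimensional K W]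
    (n : ℕ) (f : Fin n → (V →ₗ[K] W))
    (hV : Module.finrank K V = 2) (hW : Module.finrank K W = 2)
    (hf : KronMod.IsSemistable f) :
    ∃ z : Fin n → K, Function.Bijective ((∑ j, z j • f j : V →ₗ[K] W) : V → W) := by
  classical
  by_contra hcon
  push Not at hcon
  obtain ⟨hpos, hss⟩ := hf
  have hfin : Module.finrank K V = Module.finrank K W := by rw [hV, hW]
  have hninj : ∀ h : V →ₗ[K] W, (∃ z : Fin n → K, h = ∑ j, z j • f j) → ¬ Function.Injective h := by
    rintro h ⟨z, rfl⟩ hinj
    exact hcon z ⟨hinj, (LinearMap.injective_iff_surjective_of_finrank_eq_finrank hfin).1 hinj⟩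
  have hc1 : ∀ a, ∃ z : Fin n → K, f a = ∑ j, z j • f j := by
    intro a
    refine ⟨Pi.single a 1, ?_⟩
    simp [Pi.single_apply]
  have hcadd : ∀ h h' : V →ₗ[K] W, (∃ z : Fin n → K, h = ∑ j, z j • f j) →
      (∃ z : Fin n → K, h' = ∑ j, z j • f j) → ∃ z : Fin n → K, h + h' = ∑ j, z j • f j := by
    rintro h h' ⟨z, rfl⟩ ⟨z', rfl⟩
    refine ⟨z + z', ?_⟩
    simp [add_smul, Finset.sum_add_distrib]
  have : Nontrivial V := Module.nontrivial_of_finrank_pos (R := K) (by omega)
  have hWtop : (⊥ : Submodule K W) ≠ ⊤ := by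
    intro h
    have h1 := congrArg (fun S : Submodule K W => Module.finrank K S) h
    simp only [finrank_bot, finrank_top, hW] at h1
    omega
  have hA : ∀ v : V, v ≠ 0 → ∃ j, f j v ≠ 0 := by
    intro v hv
    by_contra hall
    push Not at hall
    have hsub : KronMod.IsSubrep f (K ∙ v) ⊥ := by
      intro j
      rw [Submodule.map_span, Set.image_singleton, hall j]
      simp
    have h1 := hss (K ∙ v) ⊥ hsub
      (by rintro ⟨h, _⟩; exact hv (by simpa using h))
      (by rintro ⟨_, h⟩; exact hWtop h)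
    rw [finrank_span_singleton hv, finrank_bot, hV, hW] at h1
    omega
  obtain ⟨v₁, hv₁⟩ : ∃ v : V, v ≠ 0 := exists_ne 0
  obtain ⟨a, ha⟩ := hA v₁ hv₁
  obtain ⟨v₂, hv₂k, hv₂⟩ : ∃ v₂, f a v₂ = 0 ∧ v₂ ≠ 0 := by
    have h1 := hninj (f a) (hc1 a)
    rw [← LinearMap.ker_eq_bot, Submodule.eq_bot_iff] at h1
    push Not at h1
    obtain ⟨x, hx, hx0⟩ := h1
    exact ⟨x, hx, hx0⟩
  have hli : LinearIndependent K ![v₁, v₂] := by
    rw [LinearIndependent.pair_iff]
    intro s t hst
    have h1 := congrArg (f a) hst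
    simp only [map_add, map_smul, hv₂k, smul_zero, add_zero, map_zero] at h1
    have hs : s = 0 := by
      rcases smul_eq_zero.1 h1 with h | h
      · exact h
      · exact absurd h ha
    subst hs
    simp only [zero_smul, zero_add] at hst
    refine ⟨rfl, ?_⟩
    rcases smul_eq_zero.1 hst with h | h
    · exact h
    · exact absurd h hv₂
  have hspan : ∀ x : V, ∃ α β : K, x = α • v₁ + β • v₂ := by
    have htop : Submodule.span K (Set.range ![v₁, v₂]) = ⊤ :=
      hli.span_eq_top_of_card_eq_finrank' (by simp [hV])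
    intro x
    have h1 : x ∈ Submodule.span K (Set.range ![v₁, v₂]) := htop ▸ Submodule.mem_top
    rw [Matrix.range_cons, Matrix.range_cons, Matrix.range_empty, Set.union_empty] at h1
    obtain ⟨α, β, h⟩ := Submodule.mem_span_pair.1 h1
    exact ⟨α, β, h.symm⟩
  have hstep2 : ∀ h : V →ₗ[K] W, (∃ z : Fin n → K, h = ∑ j, z j • f j) → h v₂ ≠ 0 →
      (∃ c : K, h v₁ = c • f a v₁) ∧ (∃ c : K, h v₂ = c • f a v₁) := by
    intro h hh hhv
    obtain ⟨c₁, hc₁⟩ := mem_span_of_not_injective h (hninj h hh) v₁ v₂ hspan hhv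
    have h1 : (f a + h) v₂ ≠ 0 := by simpa [hv₂k] using hhv
    obtain ⟨c₂, hc₂⟩ := mem_span_of_not_injective (f a + h) (hninj _ (hcadd _ _ (hc1 a) hh))
      v₁ v₂ hspan h1
    have e : f a v₁ + c₁ • h v₂ = c₂ • h v₂ := by
      have h2 := hc₂
      simp only [LinearMap.add_apply, hv₂k, zero_add, hc₁] at h2
      exact h2
    have hw : f a v₁ = (c₂ - c₁) • h v₂ := by
      rw [sub_smul, ← e]; abel
    have hne : c₂ - c₁ ≠ 0 := by
      intro h0
      rw [h0, zero_smul] at hw
      exact ha hw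
    have hv2w : h v₂ = (c₂ - c₁)⁻¹ • f a v₁ := by
      rw [hw, smul_smul, inv_mul_cancel₀ hne, one_smul]
    exact ⟨⟨c₁ * (c₂ - c₁)⁻¹, by rw [hc₁, hv2w, smul_smul]⟩, ⟨_, hv2w⟩⟩
  obtain ⟨c, hc⟩ := hA v₂ hv₂
  have hc2 := hstep2 (f c) (hc1 c) hc
  have hall : ∀ b, (∃ t : K, f b v₁ = t • f a v₁) ∧ (∃ t : K, f b v₂ = t • f a v₁) := by
    intro b
    by_cases hb : f b v₂ = 0
    · have h3 := hstep2 (f b + f c) (hcadd _ _ (hc1 b) (hc1 c)) (by simpa [hb] using hc)
      obtain ⟨⟨t₁, ht₁⟩, _⟩ := h3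
      obtain ⟨⟨s₁, hs₁⟩, _⟩ := hc2
      refine ⟨⟨t₁ - s₁, ?_⟩, ⟨0, by simp [hb]⟩⟩
      have h4 : f b v₁ = (f b + f c) v₁ - f c v₁ := by simp
      rw [h4, ht₁, hs₁, sub_smul]
    · exact hstep2 (f b) (hc1 b) hb
  have hsub : KronMod.IsSubrep f ⊤ (K ∙ f a v₁) := by
    intro j
    rintro _ ⟨x, -, rfl⟩
    obtain ⟨α, β, rfl⟩ := hspan x
    obtain ⟨⟨t₁, ht₁⟩, ⟨t₂, ht₂⟩⟩ := hall j
    rw [map_add, map_smul, map_smul, ht₁, ht₂, smul_smul, smul_smul, ← add_smul]
    exact Submodule.smul_mem _ _ (Submodule.mem_span_singleton_self _)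
  have h1 := hss ⊤ (K ∙ f a v₁) hsub
    (by rintro ⟨h, _⟩; exact top_ne_bot h)
    (by
      rintro ⟨_, h⟩
      have h2 := congrArg (fun S : Submodule K W => Module.finrank K S) h
      simp only [finrank_span_singleton ha, finrank_top, hW] at h2
      omega)
  rw [finrank_span_singleton ha, finrank_top, hV, hW] at h1
  omega

end Groth.Agent.S15566
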