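import Groth.Statements.S15567
import Mathlib

set_option autoImplicit false
universe u v w
open KronMod

namespace Groth.Agent.S15567

section helpers
open Module

variable {K : Type u} [Field K] {V : Type v} {W : Type w}
    [AddCommGroup V] [Module K V] [FiniteDimensional K V]
    [AddCommGroup W] [Module K W] [FiniteDimensional K W] {n : ℕ}

/-- common shape of (semi)stability -/
def Cond (r : ℕ → ℕ → Prop) {V : Type v} {W : Type w} [AddCommGroup V] [Module K V]
    [AddCommGroup W] [Module K W] (f : Fin n → (V →ₗ[K] W)) : Prop :=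
  0 < Module.finrank K V + Module.finrank K W ∧
  ∀ (V' : Submodule K V) (W' : Submodule K W), KronMod.IsSubrep f V' W' →
    ¬ (V' = ⊥ ∧ W' = ⊥) → ¬ (V' = ⊤ ∧ W' = ⊤) →
    r (Module.finrank K W * Module.finrank K V') (Module.finrank K V * Module.finrank K W')

theorem subrepA (f : Fin n → (V →ₗ[K] W)) (V' : Submodule K V) (W' : Submodule K W)
    (hsub : KronMod.IsSubrep f V' W') :
    KronMod.IsSubrep (fun j => (f j).dualMap) W'.dualAnnihilator V'.dualAnnihilator := by
  intro j
  rintro _ ⟨φ, hφ, rfl⟩
  rw [Submodule.mem_dualAnnihilator]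
  intro v hv
  rw [LinearMap.dualMap_apply]
  exact (Submodule.mem_dualAnnihilator φ).mp hφ _ (hsub j ⟨v, hv, rfl⟩)

theorem subrepB (f : Fin n → (V →ₗ[K] W)) (A : Submodule K (Module.Dual K W))
    (B : Submodule K (Module.Dual K V))
    (hsub : KronMod.IsSubrep (fun j => (f j).dualMap) A B) :
    KronMod.IsSubrep f B.dualCoannihilator A.dualCoannihilator := by
  intro j
  rintro _ ⟨v, hv, rfl⟩
  rw [Submodule.mem_dualCoannihilator]
  intro φ hφ
  have h1 : (f j).dualMap φ ∈ B := hsub j ⟨φ, hφ, rfl⟩
  have h2 := (Submodule.mem_dualCoannihilator _).mp hv _ h1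
  rwa [LinearMap.dualMap_apply] at h2

theorem eq_bot_iff_finrank {U : Type*} [AddCommGroup U] [Module K U] [FiniteDimensional K U]
    (S : Submodule K U) : S = ⊥ ↔ finrank K S = 0 := Submodule.finrank_eq_zero.symm

theorem eq_top_iff_finrank {U : Type*} [AddCommGroup U] [Module K U] [FiniteDimensional K U]
    (S : Submodule K U) : S = ⊤ ↔ finrank K S = finrank K U :=
  ⟨fun h => by rw [h, finrank_top], fun h => Submodule.eq_top_of_finrank_eq h⟩

theorem cond_iff (r : ℕ → ℕ → Prop)
    (hr : ∀ x x' y y' : ℕ, r ((y + y') * x) ((x + x') * y) ↔ r ((x + x') * y') ((y + y') * x'))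
    (f : Fin n → (V →ₗ[K] W)) :
    Cond r f ↔ Cond r (fun j => (f j).dualMap) := by
  constructor
  · rintro ⟨h0, h⟩
    refine ⟨by rw [Subspace.dual_finrank_eq, Subspace.dual_finrank_eq]; omega, fun A B hsub h1 h2 => ?_⟩
    have hs := subrepB f A B hsub
    have hA := Subspace.finrank_add_finrank_dualCoannihilator_eq A
    have hB := Subspace.finrank_add_finrank_dualCoannihilator_eq B
    have hn1 : ¬ (B.dualCoannihilator = ⊥ ∧ A.dualCoannihilator = ⊥) := by
      rintro ⟨e1, e2⟩
      apply h2
      rw [eq_bot_iff_finrank] at e1 e2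
      rw [eq_top_iff_finrank, eq_top_iff_finrank, Subspace.dual_finrank_eq, Subspace.dual_finrank_eq]
      omega
    have hn2 : ¬ (B.dualCoannihilator = ⊤ ∧ A.dualCoannihilator = ⊤) := by
      rintro ⟨e1, e2⟩
      apply h1
      rw [eq_top_iff_finrank] at e1 e2
      rw [eq_bot_iff_finrank, eq_bot_iff_finrank]
      omega
    have := h _ _ hs hn1 hn2
    rw [Subspace.dual_finrank_eq, Subspace.dual_finrank_eq, ← hA, ← hB]
    rw [← hA, ← hB] at this
    have h3 := (hr (finrank K B.dualCoannihilator) (finrank K B) (finrank K A.dualCoannihilator) (finrank K A)).mp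
    rw [add_comm (finrank K A), add_comm (finrank K B)]
    rw [add_comm (finrank K A), add_comm (finrank K B)] at this
    exact h3 this
  · rintro ⟨h0, h⟩
    refine ⟨by rw [Subspace.dual_finrank_eq, Subspace.dual_finrank_eq] at h0; omega, fun V' W' hsub h1 h2 => ?_⟩
    have hs := subrepA f V' W' hsub
    have hV := Subspace.finrank_add_finrank_dualAnnihilator_eq V'
    have hW := Subspace.finrank_add_finrank_dualAnnihilator_eq W'
    have hn1 : ¬ (W'.dualAnnihilator = ⊥ ∧ V'.dualAnnihilator = ⊥) := by
      rintro ⟨e1, e2⟩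
      apply h2
      rw [eq_bot_iff_finrank] at e1 e2
      rw [eq_top_iff_finrank, eq_top_iff_finrank]
      omega
    have hn2 : ¬ (W'.dualAnnihilator = ⊤ ∧ V'.dualAnnihilator = ⊤) := by
      rintro ⟨e1, e2⟩
      apply h1
      rw [eq_top_iff_finrank, Subspace.dual_finrank_eq] at e1 e2
      rw [eq_bot_iff_finrank, eq_bot_iff_finrank]
      omega
    have := h _ _ hs hn1 hn2
    rw [Subspace.dual_finrank_eq, Subspace.dual_finrank_eq, ← hV, ← hW] at this
    rw [← hV, ← hW]
    exact (hr _ _ _ _).mpr this

end helpers

/-- Duality of Kronecker modules. Let f be a Kronecker module with n arrows over a field K, from V to W,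
both finite-dimensional. The dual module has arrows the transposes f_j^∨ : W^∨ → V^∨, so its
dimension vector is (d₀, d₋₁). Then f is semistable if and only if its dual is, and f is stable if
and only if its dual is. This is the module-level content of the isomorphism K(n; d₋₁, d₀) ≅ K(n;
d₀, d₋₁) of moduli spaces, stated here without the moduli spaces. (The published statement assumes K
algebraically closed of characteristic zero and n ≥ 2; this row allows any field K and any number n
of arrows.) -/
theorem result (K : Type u) [Field K] (V : Type v) (W : Type w)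
    [AddCommGroup V] [Module K V] [FiniteDimensional K V]
    [AddCommGroup W] [Module K W] [FiniteDimensional K W]
    (n : ℕ) (f : Fin n → (V →ₗ[K] W)) :
    (KronMod.IsSemistable f ↔ KronMod.IsSemistable (fun j => (f j).dualMap)) ∧
    (KronMod.IsStable f ↔ KronMod.IsStable (fun j => (f j).dualMap)) := by
  constructor
  · exact cond_iff (· ≤ ·) (fun x x' y y' => by constructor <;> intro h <;> nlinarith) f
  · exact cond_iff (· < ·) (fun x x' y y' => by constructor <;> intro h <;> nlinarith) f

end Groth.Agent.S15567
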