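import Groth.Statements.S15568
import Mathlib

set_option autoImplicit false
universe u
open QuiverStab

namespace Groth.Agent.S15568

/-- the linear functional `θ ↦ θ · d'` -/
noncomputable def ell {I : Type u} [Fintype I] (d' : I → ℕ) (θ : I → ℝ) : ℝ := ∑ i, θ i * (d' i : ℝ)

theorem ell_cont {I : Type u} [Fintype I] (d' : I → ℕ) : Continuous (ell d') := by
  unfold ell
  apply continuous_finsetSum
  intro i _
  exact (continuous_apply i).mul continuous_const

theorem ell_lin {I : Type u} [Fintype I] (d' : I → ℕ) (a b : ℝ) (x y : I → ℝ) :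
    ell d' (a • x + b • y) = a * ell d' x + b * ell d' y := by
  simp only [ell, Pi.add_apply, Pi.smul_apply, smul_eq_mul, Finset.mul_sum,
    ← Finset.sum_add_distrib]
  apply Finset.sum_congr rfl
  intro i _
  ring

theorem comb_neg {a b x y : ℝ} (ha : 0 ≤ a) (hb : 0 ≤ b) (hab : a + b = 1) (hx : x < 0) (hy : y < 0) :
    a * x + b * y < 0 := by
  rcases eq_or_lt_of_le ha with rfl | ha'
  · have hb1 : b = 1 := by linarith
    subst hb1
    simpa using hy
  · nlinarith [mul_neg_of_pos_of_neg ha' hx, mul_nonpos_of_nonneg_of_nonpos hb hy.le]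

theorem comb_pos {a b x y : ℝ} (ha : 0 ≤ a) (hb : 0 ≤ b) (hab : a + b = 1) (hx : 0 < x) (hy : 0 < y) :
    0 < a * x + b * y := by
  have := comb_neg ha hb hab (neg_lt_zero.2 hx) (neg_lt_zero.2 hy)
  linarith

theorem main {I : Type u} [Fintype I] (d : I → ℕ) (θ₁ θ₂ : I → ℝ)
    (h₁ : ell d θ₁ = 0) (h₂ : ell d θ₂ = 0) :
    (∀ d' : I → ℕ, d' ≤ d → SignType.sign (ell d' θ₁) = SignType.sign (ell d' θ₂)) ↔
    ∃ J₁ : Set (I → ℕ), J₁ ⊆ {d' | d' ≤ d ∧ ¬ ∃ m : ℕ, d = m • d'} ∧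
      θ₂ ∈ connectedComponentIn
        {θ : I → ℝ | ell d θ = 0 ∧ (∀ d₁ ∈ J₁, ell d₁ θ = 0) ∧
          ∀ d₂ : I → ℕ, d₂ ≤ d → (¬ ∃ m : ℕ, d = m • d₂) → d₂ ∉ J₁ → ell d₂ θ ≠ 0} θ₁ := by
  constructor
  · intro H
    refine ⟨{d' | (d' ≤ d ∧ ¬ ∃ m : ℕ, d = m • d') ∧ ell d' θ₁ = 0}, fun d' h => h.1, ?_⟩
    have hseg : segment ℝ θ₁ θ₂ ⊆ {θ : I → ℝ | ell d θ = 0 ∧
        (∀ d₁ ∈ {d' | (d' ≤ d ∧ ¬ ∃ m : ℕ, d = m • d') ∧ ell d' θ₁ = 0}, ell d₁ θ = 0) ∧
          ∀ d₂ : I → ℕ, d₂ ≤ d → (¬ ∃ m : ℕ, d = m • d₂) →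
            d₂ ∉ {d' | (d' ≤ d ∧ ¬ ∃ m : ℕ, d = m • d') ∧ ell d' θ₁ = 0} → ell d₂ θ ≠ 0} := by
      rintro θ ⟨a, b, ha, hb, hab, rfl⟩
      refine ⟨?_, ?_, ?_⟩
      · rw [ell_lin, h₁, h₂]; ring
      · rintro d₁ ⟨⟨hd1, _⟩, h0⟩
        have h0' : ell d₁ θ₂ = 0 := by
          have := H d₁ hd1
          rw [h0, sign_zero] at this
          exact sign_eq_zero_iff.1 this.symm
        rw [ell_lin, h0, h0']; ring
      · intro d₂ hd2 hm hJ
        have hne : ell d₂ θ₁ ≠ 0 := fun h0 => hJ ⟨⟨hd2, hm⟩, h0⟩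
        have hs := H d₂ hd2
        rw [ell_lin]
        rcases lt_or_gt_of_ne hne with hneg | hpos
        · have h2neg : ell d₂ θ₂ < 0 := by
            rw [← sign_eq_neg_one_iff, ← hs, sign_eq_neg_one_iff]; exact hneg
          exact (comb_neg ha hb hab hneg h2neg).ne
        · have h2pos : 0 < ell d₂ θ₂ := by
            rw [← sign_eq_one_iff, ← hs, sign_eq_one_iff]; exact hpos
          exact (comb_pos ha hb hab hpos h2pos).ne'
    exact (convex_segment θ₁ θ₂).isPreconnected.subset_connectedComponentIn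
      (left_mem_segment ℝ θ₁ θ₂) hseg (right_mem_segment ℝ θ₁ θ₂)
  · rintro ⟨J₁, hJ₁, hmem⟩
    set S : Set (I → ℝ) := {θ : I → ℝ | ell d θ = 0 ∧ (∀ d₁ ∈ J₁, ell d₁ θ = 0) ∧
          ∀ d₂ : I → ℕ, d₂ ≤ d → (¬ ∃ m : ℕ, d = m • d₂) → d₂ ∉ J₁ → ell d₂ θ ≠ 0} with hS
    have hC : IsPreconnected (connectedComponentIn S θ₁) := isPreconnected_connectedComponentIn
    have hCS : connectedComponentIn S θ₁ ⊆ S := connectedComponentIn_subset S θ₁
    have hθ₁S : θ₁ ∈ S := by
      by_contra hn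
      rw [connectedComponentIn_eq_empty hn] at hmem
      exact hmem
    have hθ₁C : θ₁ ∈ connectedComponentIn S θ₁ := mem_connectedComponentIn hθ₁S
    intro d' hd'
    by_cases hm : ∃ m : ℕ, d = m • d'
    · obtain ⟨m, hm⟩ := hm
      have key : ∀ θ : I → ℝ, ell d θ = (m : ℝ) * ell d' θ := by
        intro θ
        simp only [ell, Finset.mul_sum]
        apply Finset.sum_congr rfl
        intro i _
        rw [hm]
        simp only [Pi.smul_apply, smul_eq_mul, Nat.cast_mul]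
        ring
      rcases Nat.eq_zero_or_pos m with rfl | hmpos
      · have hd0 : d = 0 := by rw [hm]; simp
        have hd'0 : d' = 0 := by
          ext i
          have := hd' i
          rw [hd0] at this
          simpa using this
        simp [ell, hd'0]
      · have hm0 : (m : ℝ) ≠ 0 := by exact_mod_cast hmpos.ne'
        have e1 : ell d' θ₁ = 0 := by
          have := key θ₁; rw [h₁] at this
          rcases mul_eq_zero.1 this.symm with h | h
          · exact absurd h hm0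
          · exact h
        have e2 : ell d' θ₂ = 0 := by
          have := key θ₂; rw [h₂] at this
          rcases mul_eq_zero.1 this.symm with h | h
          · exact absurd h hm0
          · exact h
        rw [e1, e2]
    · by_cases hJ : d' ∈ J₁
      · rw [(hCS hθ₁C).2.1 d' hJ, (hCS hmem).2.1 d' hJ]
      · have hne : ∀ θ ∈ connectedComponentIn S θ₁, ell d' θ ≠ 0 := fun θ hθ =>
          (hCS hθ).2.2 d' hd' hm hJ
        have ivt1 := hC.intermediate_value hθ₁C hmem (ell_cont d').continuousOn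
        have ivt2 := hC.intermediate_value hmem hθ₁C (ell_cont d').continuousOn
        have n1 := hne θ₁ hθ₁C
        have n2 := hne θ₂ hmem
        rcases lt_or_gt_of_ne n1 with a1 | a1 <;> rcases lt_or_gt_of_ne n2 with a2 | a2
        · rw [sign_neg a1, sign_neg a2]
        · exfalso
          obtain ⟨θ, hθ, h0⟩ := ivt1 ⟨a1.le, a2.le⟩
          exact hne θ hθ h0
        · exfalso
          obtain ⟨θ, hθ, h0⟩ := ivt2 ⟨a2.le, a1.le⟩
          exact hne θ hθ h0
        · rw [sign_pos a1, sign_pos a2]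

/-- Walls and chambers for stability weights of a quiver. Let I be the finite vertex set, d ∈ ℕ^I a
dimension vector, and call two weights θ₁, θ₂ ∈ ℝ^I orthogonal to d numerically equivalent when, for
every d′ ≤ d in ℕ^I, the numbers θ₁·d′ and θ₂·d′ are both positive, both negative or both zero. The
walls are the hyperplanes W(d′) = {θ ⊥ d : θ·d′ = 0} of d^⊥ for d′ ≤ d such that d is not a multiple
of d′. Then θ₁ and θ₂ are numerically equivalent if and only if there is a set J₁ of such d′ for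
which θ₁ and θ₂ lie in the same connected component of the locally closed subset of d^⊥ consisting
of the weights lying on W(d₁) for every d₁ ∈ J₁ and off W(d₂) for every other wall W(d₂). (Only the
quiver's vertex set enters; multiples are taken with natural-number factors.) -/
theorem result
    (I : Type u) [Fintype I] (d : I → ℕ) (θ₁ θ₂ : I → ℝ)
    (h₁ : ∑ i, θ₁ i * (d i : ℝ) = 0) (h₂ : ∑ i, θ₂ i * (d i : ℝ) = 0) :
    (∀ d' : I → ℕ, d' ≤ d →
        SignType.sign (∑ i, θ₁ i * (d' i : ℝ)) = SignType.sign (∑ i, θ₂ i * (d' i : ℝ))) ↔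
    ∃ J₁ : Set (I → ℕ), J₁ ⊆ {d' | d' ≤ d ∧ ¬ ∃ m : ℕ, d = m • d'} ∧
      θ₂ ∈ connectedComponentIn
        {θ : I → ℝ | ∑ i, θ i * (d i : ℝ) = 0 ∧ (∀ d₁ ∈ J₁, ∑ i, θ i * (d₁ i : ℝ) = 0) ∧
          ∀ d₂ : I → ℕ, d₂ ≤ d → (¬ ∃ m : ℕ, d = m • d₂) → d₂ ∉ J₁ →
            ∑ i, θ i * (d₂ i : ℝ) ≠ 0} θ₁ := by
  exact main d θ₁ θ₂ h₁ h₂

end Groth.Agent.S15568
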