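import Groth.Statements.S15572
import Mathlib

set_option autoImplicit false
universe u v w
open KronMod

namespace Groth.Agent.S15572

/-- Let f be a Kronecker module with n arrows over a field K, from V of dimension n·d₀ to W of dimension
d₀ > 0. Then f is semistable if and only if the map V → Wⁿ sending v to (f_j(v))_j is bijective,
i.e. the arrows have zero common kernel. This is the characterisation dual to the one for dimension
vector (d₋₁, n·d₋₁), where the sum map Vⁿ → W is bijective. (The published statement assumes K
algebraically closed of characteristic zero and n ≥ 2; this row allows any field K and any number n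
of arrows.) -/
theorem result (K : Type u) [Field K] (V : Type v) (W : Type w)
    [AddCommGroup V] [Module K V] [FiniteDimensional K V]
    [AddCommGroup W] [Module K W] [FiniteDimensional K W]
    (n : ℕ) (f : Fin n → (V →ₗ[K] W))
    (hW : 0 < Module.finrank K W) (hV : Module.finrank K V = n * Module.finrank K W) :
    KronMod.IsSemistable f ↔ Function.Bijective (fun v : V => fun j : Fin n => f j v) := by
  let P : V →ₗ[K] (Fin n → W) := LinearMap.pi f
  have hPfun : (fun v : V => fun j : Fin n => f j v) = ⇑P := by
    funext v; rfl
  rw [hPfun]
  have hdim : Module.finrank K V = Module.finrank K (Fin n → W) := by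
    rw [hV]; simp [Module.finrank_pi_fintype]
  constructor
  · rintro ⟨_, hss⟩
    have hsub : KronMod.IsSubrep f (LinearMap.ker P) ⊥ := by
      intro j
      rintro _ ⟨v, hv, rfl⟩
      have : P v = 0 := hv
      have hj : P v j = 0 := by rw [this]; rfl
      simpa [P] using hj
    have hinj : Function.Injective P := by
      rw [← LinearMap.ker_eq_bot]
      by_contra hne
      have hne1 : ¬ (LinearMap.ker P = ⊥ ∧ (⊥ : Submodule K W) = ⊥) := fun h => hne h.1
      have hne2 : ¬ (LinearMap.ker P = ⊤ ∧ (⊥ : Submodule K W) = ⊤) := by
        rintro ⟨-, h2⟩
        have : Module.finrank K (⊥ : Submodule K W) = Module.finrank K W := by rw [h2, finrank_top]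
        rw [finrank_bot] at this
        omega
      have := hss (LinearMap.ker P) ⊥ hsub hne1 hne2
      rw [finrank_bot, mul_zero] at this
      have h0 := Nat.le_zero.mp this
      rcases Nat.mul_eq_zero.mp h0 with h0 | h0
      · omega
      · exact hne (Submodule.finrank_eq_zero.mp h0)
    exact ⟨hinj, (LinearMap.injective_iff_surjective_of_finrank_eq_finrank hdim).mp hinj⟩
  · intro hbij
    refine ⟨by omega, fun V' W' hsub _ _ => ?_⟩
    have hmem : ∀ j, ∀ x ∈ V', f j x ∈ W' := fun j x hx => hsub j ⟨x, hx, rfl⟩
    let T : V' →ₗ[K] (Fin n → W') := LinearMap.pi fun j => (f j).restrict (hmem j)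
    have hTinj : Function.Injective T := by
      rw [← LinearMap.ker_eq_bot, LinearMap.ker_eq_bot']
      intro v hv
      have h0 : P (v : V) = 0 := by
        funext j
        have := congrFun hv j
        have h' : ((T v j : W') : W) = 0 := by rw [this]; rfl
        simpa [T, P] using h'
      have : (v : V) = 0 := hbij.1 (by rw [h0, map_zero])
      exact Subtype.ext this
    have h1 : Module.finrank K V' ≤ n * Module.finrank K W' := by
      have := LinearMap.finrank_le_finrank_of_injective hTinj
      simpa [Module.finrank_pi_fintype] using this
    rw [hV]
    calc Module.finrank K W * Module.finrank K V' ≤ Module.finrank K W * (n * Module.finrank K W') :=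
          Nat.mul_le_mul_left _ h1
      _ = n * Module.finrank K W * Module.finrank K W' := by ring

end Groth.Agent.S15572
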