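import Groth.Statements.S15569
import Mathlib
import Groth.Agent.S15572

set_option autoImplicit false
universe u v w
open KronMod

namespace Groth.Agent.S15569

/-- Over a field K, for W of dimension d₀ > 0 and V of dimension n·d₀, semistable Kronecker modules with
n arrows from V to W exist, and any two of them are isomorphic as Kronecker modules: the moduli
space K(n; n·d₀, d₀) is a single point. This is the case dual to dimension vector (d₋₁, n·d₋₁). (The
published statement assumes K algebraically closed of characteristic zero and n ≥ 2; this row allows
any field K and any number n of arrows.) -/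
theorem result (K : Type u) [Field K] (V : Type v) (W : Type w)
    [AddCommGroup V] [Module K V] [FiniteDimensional K V]
    [AddCommGroup W] [Module K W] [FiniteDimensional K W]
    (n : ℕ) (hW : 0 < Module.finrank K W) (hV : Module.finrank K V = n * Module.finrank K W) :
    (∃ f : Fin n → (V →ₗ[K] W), KronMod.IsSemistable f) ∧
    ∀ f f' : Fin n → (V →ₗ[K] W), KronMod.IsSemistable f → KronMod.IsSemistable f' →
      KronMod.AreIso f f' := by
  have hdim : Module.finrank K V = Module.finrank K (Fin n → W) := by
    rw [hV]; simp [Module.finrank_pi_fintype]
  constructor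
  · let E : V ≃ₗ[K] (Fin n → W) := LinearEquiv.ofFinrankEq _ _ hdim
    refine ⟨fun j => (LinearMap.proj j).comp E.toLinearMap, ?_⟩
    rw [Groth.Agent.S15572.result K V W n _ hW hV]
    have : (fun v : V => fun j : Fin n => ((LinearMap.proj j).comp E.toLinearMap : V →ₗ[K] W) v) = ⇑E := by
      funext v j
      rfl
    rw [this]
    exact E.bijective
  · intro f f' hf hf'
    have hb := (Groth.Agent.S15572.result K V W n f hW hV).mp hf
    have hb' := (Groth.Agent.S15572.result K V W n f' hW hV).mp hf'
    let E : V ≃ₗ[K] (Fin n → W) := LinearEquiv.ofBijective (LinearMap.pi f) hb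
    let E' : V ≃ₗ[K] (Fin n → W) := LinearEquiv.ofBijective (LinearMap.pi f') hb'
    have hE : ∀ v j, E v j = f j v := fun v j => rfl
    have hE' : ∀ v j, E' v j = f' j v := fun v j => rfl
    refine ⟨E.trans E'.symm, LinearEquiv.refl K W, fun j => ?_⟩
    ext v
    simp only [LinearMap.coe_comp, LinearEquiv.coe_coe, Function.comp_apply, LinearEquiv.trans_apply,
      LinearEquiv.refl_apply]
    rw [← hE', LinearEquiv.apply_symm_apply, hE]

end Groth.Agent.S15569
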