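import Groth.Statements.S15570
import Mathlib
import Groth.Agent.S15572

set_option autoImplicit false
universe u v w
open KronMod

namespace Groth.Agent.S15570

theorem sub_bot_or_top (K : Type u) [Field K] (V : Type v) [AddCommGroup V] [Module K V]
    [FiniteDimensional K V] (hV : Module.finrank K V = 1) (S : Submodule K V) : S = ⊥ ∨ S = ⊤ := by
  have hle : Module.finrank K S ≤ 1 := hV ▸ Submodule.finrank_le S
  rcases Nat.le_one_iff_eq_zero_or_eq_one.mp hle with h | h
  · left; exact Submodule.finrank_eq_zero.mp h
  · right; exact Submodule.eq_top_of_finrank_eq (h.trans hV.symm)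

/-- Let f be a Kronecker module with n arrows over a field K, from V of dimension n·d₀ to W of dimension
d₀ > 0. Then f is stable if and only if f is semistable and d₀ = 1: for d₀ = 1 every semistable
module is stable (the stable locus of K(n; n, 1) is the one point), while for d₀ > 1 no module is
stable. This is the case dual to dimension vector (d₋₁, n·d₋₁). (The published statement assumes K
algebraically closed of characteristic zero and n ≥ 2; this row allows any field K and any number n
of arrows.) -/
theorem result (K : Type u) [Field K] (V : Type v) (W : Type w)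
    [AddCommGroup V] [Module K V] [FiniteDimensional K V]
    [AddCommGroup W] [Module K W] [FiniteDimensional K W]
    (n : ℕ) (f : Fin n → (V →ₗ[K] W))
    (hW : 0 < Module.finrank K W) (hV : Module.finrank K V = n * Module.finrank K W) :
    KronMod.IsStable f ↔ (KronMod.IsSemistable f ∧ Module.finrank K W = 1) := by
  have hst_ss : KronMod.IsStable f → KronMod.IsSemistable f := by
    rintro ⟨h0, h⟩
    exact ⟨h0, fun V' W' hs h1 h2 => (h V' W' hs h1 h2).le⟩
  have hchar := Groth.Agent.S15572.result K V W n f hW hV
  constructor
  · intro hst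
    refine ⟨hst_ss hst, ?_⟩
    by_contra hne
    have hW2 : 2 ≤ Module.finrank K W := by omega
    have hbij := hchar.mp (hst_ss hst)
    let Pe : V ≃ₗ[K] (Fin n → W) := LinearEquiv.ofBijective (LinearMap.pi f) hbij
    have hPe : ∀ v j, Pe v j = f j v := fun v j => rfl
    have : ∃ w : W, w ≠ 0 := by
      have : Nontrivial W := Module.nontrivial_of_finrank_pos (R := K) hW
      exact exists_ne 0
    obtain ⟨w, hw⟩ := this
    let L : Submodule K W := K ∙ w
    have hL1 : Module.finrank K L = 1 := finrank_span_singleton hw
    let V' : Submodule K V := ⨅ j, L.comap (f j)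
    have hV'mem : ∀ v, v ∈ V' ↔ ∀ j, f j v ∈ L := by
      intro v; simp [V', Submodule.mem_iInf]
    have hsub : KronMod.IsSubrep f V' L := by
      intro j
      rintro _ ⟨x, hx, rfl⟩
      exact (hV'mem x).mp hx j
    let Q : (Fin n → L) →ₗ[K] V := Pe.symm.toLinearMap.comp (LinearMap.pi fun j => L.subtype.comp (LinearMap.proj j))
    have hQ : ∀ u j, f j (Q u) = (u j : W) := by
      intro u j
      rw [← hPe]
      simp [Q]
    have hQinj : Function.Injective Q := by
      rw [← LinearMap.ker_eq_bot, LinearMap.ker_eq_bot']
      intro u hu
      funext j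
      have := hQ u j
      rw [hu, map_zero] at this
      exact Subtype.ext this.symm
    have hQrange : LinearMap.range Q ≤ V' := by
      rintro _ ⟨u, rfl⟩
      rw [hV'mem]
      intro j
      rw [hQ]
      exact (u j).2
    have hge : n ≤ Module.finrank K V' := by
      have h1 : Module.finrank K (LinearMap.range Q) = n := by
        rw [LinearMap.finrank_range_of_inj hQinj]; simp [Module.finrank_pi_fintype, hL1]
      exact h1 ▸ Submodule.finrank_mono hQrange
    have hne1 : ¬ (V' = ⊥ ∧ L = ⊥) := by
      rintro ⟨-, h1⟩
      rw [h1, finrank_bot] at hL1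
      omega
    have hne2 : ¬ (V' = ⊤ ∧ L = ⊤) := by
      rintro ⟨-, h1⟩
      rw [h1, finrank_top] at hL1
      omega
    have := hst.2 V' L hsub hne1 hne2
    rw [hL1, hV, mul_one] at this
    have h2 : Module.finrank K W * n ≤ Module.finrank K W * Module.finrank K V' :=
      Nat.mul_le_mul_left _ hge
    rw [mul_comm n] at this
    omega
  · rintro ⟨hss, hW1⟩
    have hbij := hchar.mp hss
    refine ⟨hss.1, fun V' W' hsub h1 h2 => ?_⟩
    rcases sub_bot_or_top K W hW1 W' with rfl | rfl
    · exfalso
      apply h1
      refine ⟨?_, rfl⟩
      rw [eq_bot_iff]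
      intro v hv
      rw [Submodule.mem_bot]
      apply hbij.1
      funext j
      have := hsub j ⟨v, hv, rfl⟩
      rw [Submodule.mem_bot] at this
      simp [this]
    · have hV' : V' ≠ ⊤ := fun h => h2 ⟨h, rfl⟩
      have hlt : Module.finrank K V' < Module.finrank K V := Submodule.finrank_lt hV'
      rw [finrank_top, hW1]
      omega

end Groth.Agent.S15570
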