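import Groth.Statements.S15576
import Mathlib
import Groth.Agent.Lib.helper23.RInvLib

set_option autoImplicit false
universe u v
open RInv

namespace Groth.Agent.S15576

/-- Let `R` be a commutative ring with an involution `lam` whose fixed ring `S` is local. If the
automorphism induced by `lam` on `R` modulo its Jacobson radical is not the identity, then `R` is a
quadratic etale `S`-algebra. -/
theorem result (S : Type u) (R : Type v) [CommRing S] [CommRing R]
    [Algebra S R] (lam : R ≃+* R) (hlam : Function.Involutive lam) (hS : RInv.IsFixedRing S R lam)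
    [IsLocalRing S] (h : ∃ r : R, lam r - r ∉ Ring.jacobson R) : RInv.IsQuadEtale S R := by
  obtain ⟨r, hr⟩ := h
  set d := lam r - r with hd
  have hld : lam d = -d := by rw [hd, map_sub, hlam r]; ring
  have hfix : lam (d ^ 2) = d ^ 2 := by rw [map_pow, hld]; ring
  rcases Lib.helper23.RInvLib.isUnit_or_mem_jacobson_of_fixed lam hlam hS (d ^ 2) hfix with hu | hj
  · have hdu : IsUnit d := (isUnit_pow_iff (by norm_num)).1 hu
    apply Lib.helper23.RInvLib.isQuadEtale_of_unit lam hlam hS r
    have : r - lam r = -d := by rw [hd]; ring
    rw [this]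
    exact hdu.neg
  · exact absurd (Lib.helper23.RInvLib.mem_jacobson_of_pow_mem d 2 hj) hr

end Groth.Agent.S15576
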