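import Groth.Statements.S15579
import Mathlib

set_option autoImplicit false
universe u v
open RInv

namespace Groth.Agent.S15579

set_option backward.inferInstanceAs.wrap.data false in
/-- For a local ring `S` with maximal ideal `m` and a quadratic etale `S`-algebra `R`, the Jacobson
radical of `R` is `mR`. -/
theorem result (S : Type u) (R : Type v) [CommRing S]
    [CommRing R] [Algebra S R] [IsLocalRing S] (hq : RInv.IsQuadEtale S R) :
    Ring.jacobson R = (IsLocalRing.maximalIdeal S).map (algebraMap S R) := by
  obtain ⟨hfin, hproj, hunr, hrank⟩ := hq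
  apply le_antisymm
  · apply Ring.jacobson_le_of_eq_bot
    let : Algebra (IsLocalRing.ResidueField S) (R ⧸ (IsLocalRing.maximalIdeal S).map (algebraMap S R)) :=
      (inferInstanceAs <| Algebra (S ⧸ _) _)
    have : IsScalarTower S (IsLocalRing.ResidueField S) (R ⧸ (IsLocalRing.maximalIdeal S).map (algebraMap S R)) :=
      (inferInstanceAs <| IsScalarTower S (S ⧸ _) _)
    have : Algebra.FormallyUnramified R (R ⧸ (IsLocalRing.maximalIdeal S).map (algebraMap S R)) := .quotient _
    have : Algebra.FormallyUnramified S (R ⧸ (IsLocalRing.maximalIdeal S).map (algebraMap S R)) := .comp _ R _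
    have : Algebra.FormallyUnramified (IsLocalRing.ResidueField S) (R ⧸ (IsLocalRing.maximalIdeal S).map (algebraMap S R)) :=
      .of_restrictScalars S _ _
    have : Algebra.EssFiniteType (IsLocalRing.ResidueField S) (R ⧸ (IsLocalRing.maximalIdeal S).map (algebraMap S R)) := .of_comp S _ _
    have : Module.Finite (IsLocalRing.ResidueField S) (R ⧸ (IsLocalRing.maximalIdeal S).map (algebraMap S R)) :=
      Algebra.FormallyUnramified.finite_of_free _ _
    have : IsReduced (R ⧸ (IsLocalRing.maximalIdeal S).map (algebraMap S R)) :=
      Algebra.FormallyUnramified.isReduced_of_field (IsLocalRing.ResidueField S) (R ⧸ (IsLocalRing.maximalIdeal S).map (algebraMap S R))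
    have : IsArtinianRing (R ⧸ (IsLocalRing.maximalIdeal S).map (algebraMap S R)) := isArtinian_of_tower (IsLocalRing.ResidueField S) inferInstance
    rw [← Ideal.jacobson_bot, IsArtinianRing.jacobson_eq_radical, ← Ideal.zero_eq_bot, ← nilradical,
      nilradical_eq_zero]
  · rw [Ring.jacobson_eq_sInf_isMaximal]
    apply le_sInf
    intro M hM
    haveI : M.IsMaximal := hM
    rw [Ideal.map_le_iff_le_comap]
    haveI : Algebra.IsIntegral S R := Algebra.IsIntegral.of_finite S R
    have hmax : (M.comap (algebraMap S R)).IsMaximal :=
      Ideal.isMaximal_comap_of_isIntegral_of_isMaximal M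
    exact (IsLocalRing.eq_maximalIdeal hmax).ge

end Groth.Agent.S15579
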