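import Groth.Statements.S15580
import Mathlib
import Groth.Agent.Lib.helper23.RInvLib
import Groth.Agent.S15574

set_option autoImplicit false
universe u v
open RInv

namespace Groth.Agent.S15580

/-- Let `S` be a local ring, `R` a quadratic etale `S`-algebra and `lam` an involution of `R` with fixed
ring `S`. Then every unit `r` of `R` with `lam r * r = 1` can be written `a⁻¹ * lam a` for a unit
`a` of `R`. -/
theorem result (S : Type u) (R : Type v) [CommRing S] [CommRing R]
    [Algebra S R] (lam : R ≃+* R) (hlam : Function.Involutive lam) (hS : RInv.IsFixedRing S R lam)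
    [IsLocalRing S] (hq : RInv.IsQuadEtale S R) (r : Rˣ) (hr : lam r * r = 1) :
    ∃ a : Rˣ, (r : R) = (a⁻¹ : Rˣ) * lam a := by
  obtain ⟨r₀, hr₀⟩ := Groth.Agent.S15574.result S R lam hlam hS hq
  haveI : Nontrivial R := hS.1.nontrivial
  obtain ⟨M, hM⟩ := Ideal.exists_maximal R
  have hlr : lam (lam (r : R)) = r := hlam _
  -- the candidate `a x = x + lam r * lam x`
  have key : ∀ x : R, lam (x + lam r * lam x) = r * (x + lam r * lam x) := by
    intro x
    rw [map_add, map_mul, hlr, hlam x]
    linear_combination (-(lam x)) * hr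
  have hex : ∃ x : R, x + lam r * lam x ∉ M := by
    by_contra hall
    push Not at hall
    have h1 := hall 1
    have h2 := hall r₀
    rw [map_one, mul_one] at h1
    have h3 : r₀ - lam r₀ ∈ M := by
      have : r₀ - lam r₀ = (r₀ + lam r * lam r₀) - (1 + lam r) * lam r₀ := by ring
      rw [this]
      exact M.sub_mem h2 (M.mul_mem_right _ h1)
    exact hM.ne_top (Ideal.eq_top_of_isUnit_mem _ h3 hr₀)
  obtain ⟨x, hx⟩ := hex
  set a := x + lam r * lam x with ha
  have hla : lam a = r * a := key x
  have hfix : lam (a * lam a) = a * lam a := by rw [map_mul, hlam a]; ring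
  have hunit : IsUnit (a * lam a) := by
    rcases Lib.helper23.RInvLib.isUnit_or_mem_jacobson_of_fixed lam hlam hS _ hfix with hu | hj
    · exact hu
    · exfalso
      have hjM : a * lam a ∈ M := by
        rw [Ring.jacobson_eq_sInf_isMaximal, Ideal.mem_sInf] at hj
        exact hj hM
      rw [hla] at hjM
      have hprime := hM.isPrime
      rcases hprime.mem_or_mem hjM with h | h
      · exact hx h
      · rcases hprime.mem_or_mem h with h | h
        · exact hM.ne_top (Ideal.eq_top_of_isUnit_mem _ h r.isUnit)
        · exact hx h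
  have hau : IsUnit a := isUnit_of_mul_isUnit_left hunit
  obtain ⟨au, hau'⟩ := hau
  refine ⟨au, ?_⟩
  rw [hau', hla, ← mul_assoc, mul_comm _ (r : R), mul_assoc, ← hau', Units.inv_mul, mul_one]

end Groth.Agent.S15580
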