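import Groth.Statements.S15581
import Mathlib
import Groth.Agent.Lib.helper23.RInvLib

set_option autoImplicit false
universe u v
open RInv

namespace Groth.Agent.S15581

/-- Let `A` be a commutative ring with an involution `lam` whose fixed ring `B` is local with `2`
invertible. Then `Jac(A)^2 ⊆ Jac(B) A`. -/
theorem result (B : Type u) (A : Type v) [CommRing B]
    [CommRing A] [Algebra B A] (lam : A ≃+* A) (hlam : Function.Involutive lam)
    (hB : RInv.IsFixedRing B A lam) [IsLocalRing B] (h2 : IsUnit (2 : B)) :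
    (Ring.jacobson A) ^ 2 ≤ (IsLocalRing.maximalIdeal B).map (algebraMap B A) := by
  have hnt : Nontrivial A := hB.1.nontrivial
  haveI : RingHomSurjective (lam : A →+* A) := ⟨lam.surjective⟩
  have hlamJ : ∀ x ∈ Ring.jacobson A, lam x ∈ Ring.jacobson A :=
    fun x hx => Ring.le_comap_jacobson (lam : A →+* A) hx
  obtain ⟨t, ht⟩ := h2.exists_right_inv
  have key : ∀ c : A, c ∈ Ring.jacobson A → lam c = c →
      c ∈ (IsLocalRing.maximalIdeal B).map (algebraMap B A) := by
    intro c hc hfix
    obtain ⟨b, rfl⟩ := (hB.2 c).1 hfix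
    apply Ideal.mem_map_of_mem
    by_contra hb
    have hbu : IsUnit b := IsLocalRing.notMem_maximalIdeal.1 hb
    have : IsUnit (algebraMap B A b) := hbu.map _
    exact (Ring.jacobson_lt_top (R := A)).ne (Ideal.eq_top_of_isUnit_mem _ hc this)
  rw [sq, Ideal.mul_le]
  intro x hx y hy
  set T := algebraMap B A t with hTdef
  have hT : 2 * T = 1 := by
    rw [hTdef, ← map_ofNat (algebraMap B A) 2, ← map_mul, ht, map_one]
  have hTfix : lam T = T := Lib.helper23.RInvLib.lam_algebraMap lam hB t
  have hlx := hlamJ x hx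
  have hly := hlamJ y hy
  have e : x * y = T * (x + lam x) * y + T * (x - lam x) * (T * (y + lam y))
      + T * (x - lam x) * (T * (y - lam y)) := by
    linear_combination (-(x * y + T * (x - lam x) * y)) * hT
  rw [e]
  refine Ideal.add_mem _ (Ideal.add_mem _ ?_ ?_) ?_
  · apply Ideal.mul_mem_right
    apply key
    · exact Ideal.mul_mem_left _ _ (Ideal.add_mem _ hx hlx)
    · rw [map_mul, map_add, hlam x, hTfix]; ring
  · apply Ideal.mul_mem_left
    apply key
    · exact Ideal.mul_mem_left _ _ (Ideal.add_mem _ hy hly)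
    · rw [map_mul, map_add, hlam y, hTfix]; ring
  · apply key
    · exact Ideal.mul_mem_right _ _ (Ideal.mul_mem_left _ _ (Ideal.sub_mem _ hx hlx))
    · rw [map_mul, map_mul, map_mul, map_sub, map_sub, hlam x, hlam y, hTfix]; ring

end Groth.Agent.S15581
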