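import Groth.Statements.S15582
import Mathlib

set_option autoImplicit false
universe u
open CategoryTheory TopologicalSpace
open CohTop

namespace Groth.Agent.S15582

section Helpers
open CategoryTheory Opposite TopologicalSpace

open scoped AlgebraicGeometry

/-- Sections of a sheaf of types over the empty open form a subsingleton. -/
theorem subsingleton_of_eq_bot {X : TopCat.{u}} (F : X.Sheaf (Type u)) {U : Opens X} (h : U = ⊥) :
    Subsingleton (F.1.obj (op U)) := by
  have hT := F.isTerminalOfEqEmpty h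
  constructor
  intro a b
  have := hT.hom_ext (TypeCat.ofHom (fun _ : PUnit.{u+1} => a)) (TypeCat.ofHom (fun _ => b))
  simpa using types_congr_hom this PUnit.unit

theorem map_map {X : TopCat.{u}} (P : (Opens X)ᵒᵖ ⥤ Type u) {A B C : Opens X} (h1 : B ≤ A)
    (h2 : C ≤ B) (t : P.obj (op A)) :
    P.map (homOfLE h2).op (P.map (homOfLE h1).op t) = P.map (homOfLE (h2.trans h1)).op t :=
  (Functor.map_comp_apply P (homOfLE h1).op (homOfLE h2).op t).symm

theorem main {X Y : TopCat.{u}} (π : X ⟶ Y)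
    (h1 : ∀ (y : Y) (U : Set X), IsOpen U → π ⁻¹' {y} ⊆ U →
      ∃ V : Set Y, IsOpen V ∧ y ∈ V ∧ π ⁻¹' V ⊆ U)
    (h2 : ∀ y : Y, (π ⁻¹' {y}).Finite ∧ ∃ U : X → Set X,
      (∀ x ∈ π ⁻¹' {y}, IsOpen (U x) ∧ x ∈ U x) ∧ (π ⁻¹' {y}).PairwiseDisjoint U) :
    (TopCat.Sheaf.pushforward (Type u) π).PreservesEpimorphisms := by
  constructor
  intro F G φ hφ
  rw [← TopCat.Sheaf.isLocallySurjective_iff_epi] at hφ ⊢
  rw [TopCat.Presheaf.isLocallySurjective_iff] at hφ ⊢
  intro V t y hy
  obtain ⟨-, Usep, hUsep, hdisj⟩ := h2 y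
  let PV : Opens X := (Opens.map π).obj V
  let S : Set X := π ⁻¹' {y}
  have hSPV : ∀ x ∈ S, x ∈ PV := by
    intro x hx
    change π x ∈ V
    rw [show π x = y from hx]; exact hy
  -- local lifts
  have hloc : ∀ i : S, ∃ (W : Opens X) (hW : W ≤ PV) (s : F.1.obj (op W)),
      φ.hom.app (op W) s = G.1.map (homOfLE hW).op t ∧ i.1 ∈ W ∧ (W : Set X) ⊆ Usep i.1 := by
    intro i
    obtain ⟨W, hW, ⟨s, hs⟩, hxW⟩ := hφ PV t i.1 (hSPV i.1 i.2)
    let W' : Opens X := W ⊓ ⟨Usep i.1, (hUsep i.1 i.2).1⟩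
    have hW' : W' ≤ W := inf_le_left
    refine ⟨W', hW'.trans hW, F.1.map (homOfLE hW').op s, ?_, ⟨hxW, (hUsep i.1 i.2).2⟩,
      fun z hz => hz.2⟩
    have := types_congr_hom (φ.hom.naturality (homOfLE hW').op) s
    simp only [types_comp_apply] at this
    rw [this, hs]
    exact map_map G.1 hW hW' t
  choose W hWPV sf hsf hiW hWU using hloc
  have hbot : ∀ i j : S, i ≠ j → W i ⊓ W j = ⊥ := by
    intro i j hij
    ext z
    simp only [Opens.coe_inf, Set.mem_inter_iff, SetLike.mem_coe, Opens.coe_bot,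
      Set.mem_empty_iff_false, iff_false, not_and]
    intro hzi hzj
    have hd := hdisj i.2 j.2 (fun h => hij (Subtype.ext h))
    exact Set.disjoint_left.1 hd (hWU i hzi) (hWU j hzj)
  have hcompat : TopCat.Presheaf.IsCompatible F.1 W sf := by
    intro i j
    by_cases hij : i = j
    · subst hij; rfl
    · have := subsingleton_of_eq_bot F (hbot i j hij)
      exact Subsingleton.elim _ _
  obtain ⟨s, hs, -⟩ := F.existsUnique_gluing W sf hcompat
  have hWWPV : iSup W ≤ PV := iSup_le hWPV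
  have hφs : φ.hom.app (op (iSup W)) s = G.1.map (homOfLE hWWPV).op t := by
    apply G.eq_of_locally_eq W
    intro i
    have hn := types_congr_hom (φ.hom.naturality (Opens.leSupr W i).op) s
    simp only [types_comp_apply] at hn
    rw [← hn, hs i, hsf i]
    exact (map_map G.1 hWWPV (Opens.leSupr W i).le t).symm
  have hSWW : S ⊆ (iSup W : Opens X) := by
    intro x hx
    exact Opens.mem_iSup.2 ⟨⟨x, hx⟩, hiW ⟨x, hx⟩⟩
  obtain ⟨V₀, hV₀, hyV₀, hV₀W⟩ := h1 y (iSup W : Opens X) (iSup W).2 hSWW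
  let V' : Opens Y := V ⊓ ⟨V₀, hV₀⟩
  have hV'V : V' ≤ V := inf_le_left
  have hPV' : (Opens.map π).obj V' ≤ iSup W := by
    intro x hx
    exact hV₀W hx.2
  refine ⟨V', hV'V, ⟨F.1.map (homOfLE hPV').op s, ?_⟩, ⟨hy, hyV₀⟩⟩
  have hn := types_congr_hom (φ.hom.naturality (homOfLE hPV').op) s
  simp only [types_comp_apply] at hn
  change φ.hom.app (op ((Opens.map π).obj V')) (F.1.map (homOfLE hPV').op s) = _
  rw [hn, hφs]
  exact map_map G.1 hWWPV hPV' t

end Helpers


/-- Let `π : X → Y` be a continuous map such that every open set containing a fibre `π⁻¹(y)` contains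
the preimage of an open neighbourhood of `y`, and such that every fibre is finite with its points
separated by pairwise disjoint open sets of `X`. Then the direct image of sheaves of sets along `π`
preserves epimorphisms. -/
theorem result
    {X Y : TopCat.{u}} (π : X ⟶ Y)
    (h1 : ∀ (y : Y) (U : Set X), IsOpen U → π ⁻¹' {y} ⊆ U →
      ∃ V : Set Y, IsOpen V ∧ y ∈ V ∧ π ⁻¹' V ⊆ U)
    (h2 : ∀ y : Y, (π ⁻¹' {y}).Finite ∧ ∃ U : X → Set X,
      (∀ x ∈ π ⁻¹' {y}, IsOpen (U x) ∧ x ∈ U x) ∧ (π ⁻¹' {y}).PairwiseDisjoint U) :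
    (TopCat.Sheaf.pushforward (Type u) π).PreservesEpimorphisms := by
  exact main π h1 h2

end Groth.Agent.S15582
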