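import Groth.Statements.S15585
import Mathlib

set_option autoImplicit false
universe u v
open RInv

namespace Groth.Agent.S15585

/-- A reduced commutative algebra of dimension 2 over a field is a field or `k × k`. -/
theorem dim_two (k : Type u) (A : Type v) [Field k] [CommRing A] [Algebra k A]
    (hdim : Module.finrank k A = 2) [IsReduced A] :
    IsField A ∨ Nonempty (A ≃ₐ[k] k × k) := by
  classical
  by_cases hF : IsField A
  · exact Or.inl hF
  right
  haveI : Nontrivial A := Module.nontrivial_of_finrank_pos (R := k) (by omega)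
  haveI : Module.Finite k A := Module.finite_of_finrank_pos (by omega)
  -- a nonzero non-unit
  have hex : ∃ a : A, a ≠ 0 ∧ ∀ b, a * b ≠ 1 := by
    by_contra hno
    push Not at hno
    exact hF ⟨exists_pair_ne A, mul_comm, fun {a} ha => hno a ha⟩
  obtain ⟨a, ha0, hau⟩ := hex
  have hinj : Function.Injective (algebraMap k A) := (algebraMap k A).injective
  -- `1, a` linearly independent
  have hli : LinearIndependent k ![(1 : A), a] := by
    rw [LinearIndependent.pair_iff]
    intro x y hxy
    by_cases hy : y = 0
    · subst hy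
      rw [zero_smul, add_zero] at hxy
      rcases smul_eq_zero.1 hxy with h | h
      · exact ⟨h, rfl⟩
      · exact absurd h one_ne_zero
    · exfalso
      have h1 : a = algebraMap k A (-(y⁻¹ * x)) := by
        have : y • a = -(x • (1 : A)) := by linear_combination (exp := 1) hxy
        have h2 := congrArg (fun z => y⁻¹ • z) this
        simp only [smul_smul, inv_mul_cancel₀ hy, one_smul, smul_neg] at h2
        rw [h2, Algebra.algebraMap_eq_smul_one, neg_smul]
      have hc : -(y⁻¹ * x) ≠ 0 := by
        intro h
        rw [h, map_zero] at h1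
        exact ha0 h1
      apply hau (algebraMap k A (-(y⁻¹ * x))⁻¹)
      rw [h1, ← map_mul, mul_inv_cancel₀ hc, map_one]
  have hspan : ⊤ ≤ Submodule.span k (Set.range ![(1 : A), a]) := by
    have := hli.span_eq_top_of_card_eq_finrank' (by simp [hdim])
    rw [this]
  have ha2 : a ^ 2 ∈ Submodule.span k (Set.range ![(1 : A), a]) := hspan trivial
  simp only [Matrix.range_cons, Matrix.range_empty, Set.union_empty, Set.union_singleton] at ha2
  rw [Submodule.mem_span_pair] at ha2
  obtain ⟨α, β, hαβ⟩ := ha2
  -- `β = 0`
  have hβ : β = 0 := by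
    by_contra hβ
    apply hau ((a - α • 1) * (β⁻¹ • 1))
    have : a * (a - α • 1) = β • (1 : A) := by
      rw [← sub_eq_zero]
      have := hαβ
      simp only [Algebra.smul_def, mul_one] at this ⊢
      linear_combination -this
    rw [← mul_assoc, this, Algebra.smul_def, Algebra.smul_def, mul_one, mul_one, ← map_mul,
      mul_inv_cancel₀ hβ, map_one]
  subst hβ
  rw [zero_smul, add_zero] at hαβ
  -- now `α • a = a ^ 2`
  have hα : α ≠ 0 := by
    rintro rfl
    rw [zero_smul] at hαβ
    exact ha0 (IsReduced.eq_zero _ ⟨2, hαβ.symm⟩)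
  set e : A := α⁻¹ • a with he
  have hee : e * e = e := by
    rw [he, smul_mul_smul_comm, ← pow_two a, ← hαβ, smul_smul, mul_assoc, inv_mul_cancel₀ hα,
      mul_one]
  have he0 : e ≠ 0 := by
    rw [he]
    exact smul_ne_zero (inv_ne_zero hα) ha0
  have he1 : 1 - e ≠ 0 := by
    intro h
    apply hau (α⁻¹ • 1)
    rw [mul_smul_comm, mul_one, ← he]
    exact (sub_eq_zero.1 h).symm
  have hee' : e * (1 - e) = 0 := by rw [mul_sub, mul_one, hee, sub_self]
  have hee'' : (1 - e) * (1 - e) = 1 - e := by
    rw [sub_mul, one_mul, mul_sub, mul_one, hee, sub_self, sub_zero]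
  let φ : k × k →ₐ[k] A :=
    { toFun := fun x => x.1 • e + x.2 • (1 - e)
      map_one' := by simp
      map_mul' := by
        intro x y
        simp only [Prod.fst_mul, Prod.snd_mul, Algebra.smul_def]
        simp only [map_mul]
        linear_combination
          (-(algebraMap k A x.1 * algebraMap k A y.1)
            + algebraMap k A x.1 * algebraMap k A y.2 + algebraMap k A x.2 * algebraMap k A y.1
            - 2 * algebraMap k A x.2 * algebraMap k A y.2 + algebraMap k A x.2 * algebraMap k A y.2) * hee
      map_zero' := by simp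
      map_add' := by
        intro x y
        simp only [Prod.fst_add, Prod.snd_add, add_smul]
        abel
      commutes' := by
        intro c
        simp only [Algebra.algebraMap_eq_smul_one, Prod.smul_fst, Prod.smul_snd, Prod.fst_one,
          Prod.snd_one, smul_eq_mul, mul_one]
        rw [← smul_add]
        simp }
  have hφinj : Function.Injective φ := by
    rw [injective_iff_map_eq_zero]
    rintro ⟨x, y⟩ hxy
    have hxy' : x • e + y • (1 - e) = 0 := hxy
    have h1 := congrArg (fun z => z * e) hxy'
    have h2 := congrArg (fun z => z * (1 - e)) hxy'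
    simp only [add_mul, smul_mul_assoc, hee, hee'', zero_mul, hee', mul_comm (1 - e) e,
      smul_zero, add_zero, zero_add] at h1 h2
    rcases smul_eq_zero.1 h1 with h | h
    · rcases smul_eq_zero.1 h2 with h' | h'
      · rw [h, h']; rfl
      · exact absurd h' he1
    · exact absurd h he0
  have hφsurj : Function.Surjective φ := by
    have := (LinearMap.injective_iff_surjective_of_finrank_eq_finrank (f := φ.toLinearMap)
      (by rw [Module.finrank_prod, Module.finrank_self, hdim])).1 hφinj
    exact this
  exact ⟨(AlgEquiv.ofBijective φ ⟨hφinj, hφsurj⟩).symm⟩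

/-- For a local ring `S` (maximal ideal `m`, residue field `k`) and a quadratic etale `S`-algebra `R`,
the ring `R/mR` is a field that is a separable extension of `k` of degree 2, or else it is
isomorphic as a `k`-algebra to `k × k`. -/
theorem result (S : Type u) (R : Type v) [CommRing S]
    [CommRing R] [Algebra S R] [IsLocalRing S] (hq : RInv.IsQuadEtale S R) :
    (IsField (R ⧸ (IsLocalRing.maximalIdeal S).map (algebraMap S R)) ∧
      Module.finrank (S ⧸ IsLocalRing.maximalIdeal S)
        (R ⧸ (IsLocalRing.maximalIdeal S).map (algebraMap S R)) = 2 ∧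
      Algebra.IsSeparable (S ⧸ IsLocalRing.maximalIdeal S)
        (R ⧸ (IsLocalRing.maximalIdeal S).map (algebraMap S R))) ∨
    Nonempty ((R ⧸ (IsLocalRing.maximalIdeal S).map (algebraMap S R)) ≃ₐ[S ⧸ IsLocalRing.maximalIdeal S]
      ((S ⧸ IsLocalRing.maximalIdeal S) × (S ⧸ IsLocalRing.maximalIdeal S))) := by
  obtain ⟨hfin, hproj, hunr, hrank⟩ := hq
  letI : Field (S ⧸ IsLocalRing.maximalIdeal S) := Ideal.Quotient.field _
  haveI : Module.Free S R := Module.free_of_flat_of_isLocalRing
  have hrk : Module.finrank S R = 2 := by
    have := hrank (IsLocalRing.closedPoint S)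
    rw [Module.rankAtStalk_eq_finrank_of_free] at this
    exact_mod_cast this
  have hdim : Module.finrank (S ⧸ IsLocalRing.maximalIdeal S)
      (R ⧸ (IsLocalRing.maximalIdeal S).map (algebraMap S R)) = 2 := by
    rw [IsLocalRing.finrank_quotient_map, hrk]
  haveI : Algebra.FormallyUnramified S
      (R ⧸ (IsLocalRing.maximalIdeal S).map (algebraMap S R)) := inferInstance
  haveI : Algebra.FormallyUnramified (S ⧸ IsLocalRing.maximalIdeal S)
      (R ⧸ (IsLocalRing.maximalIdeal S).map (algebraMap S R)) :=
    Algebra.FormallyUnramified.of_restrictScalars S _ _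
  haveI : Module.Finite (S ⧸ IsLocalRing.maximalIdeal S)
      (R ⧸ (IsLocalRing.maximalIdeal S).map (algebraMap S R)) :=
    Module.Finite.of_restrictScalars_finite S _ _
  haveI : IsReduced (R ⧸ (IsLocalRing.maximalIdeal S).map (algebraMap S R)) :=
    Algebra.FormallyUnramified.isReduced_of_field (S ⧸ IsLocalRing.maximalIdeal S) _
  rcases dim_two (S ⧸ IsLocalRing.maximalIdeal S)
    (R ⧸ (IsLocalRing.maximalIdeal S).map (algebraMap S R)) hdim with hF | hE
  · left
    refine ⟨hF, hdim, ?_⟩
    letI := hF.toField
    exact Algebra.FormallyUnramified.isSeparable (S ⧸ IsLocalRing.maximalIdeal S)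
      (R ⧸ (IsLocalRing.maximalIdeal S).map (algebraMap S R))
  · right
    exact hE

end Groth.Agent.S15585
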