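import Groth.Statements.S15587
import Mathlib
import Groth.Agent.Lib.helper23.RInvLoc
import Groth.Agent.S15576

set_option autoImplicit false
universe u v
open scoped TensorProduct
open RInv

namespace Groth.Agent.S15587

open Groth.Agent.Lib.helper23.RInvLib Groth.Agent.Lib.helper23.RInvLoc

attribute [local instance] Algebra.TensorProduct.rightAlgebra

/-- (b) ⇔ (d): let `R` be a commutative ring with an involution `lam` and fixed ring `S`, so that `Spec
R → Spec S` is a good quotient by the involution, and let `p` be a prime of `S`. Then `p` is a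
branch point, i.e. the localisation `S_p ⊗_S R` is not quadratic etale over `S_p`, if and only if
exactly one prime `q` of `R` lies over `p` and `lam` induces the identity on the residue field of
`q` (equivalently `lam r - r ∈ q` for all `r`). This is the affine-local form of the statement for a
good quotient of schemes, to which the general case reduces since such quotients are affine
morphisms. -/
theorem result (S : Type u) (R : Type v) [CommRing S] [CommRing R]
    [Algebra S R] (lam : R ≃+* R) (hlam : Function.Involutive lam) (hS : RInv.IsFixedRing S R lam)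
    (p : PrimeSpectrum S) :
    ¬ RInv.IsQuadEtale (Localization.AtPrime p.asIdeal) (Localization.AtPrime p.asIdeal ⊗[S] R) ↔
      ∃ q : PrimeSpectrum R, q.asIdeal.comap (algebraMap S R) = p.asIdeal ∧
        (∀ q' : PrimeSpectrum R, q'.asIdeal.comap (algebraMap S R) = p.asIdeal → q' = q) ∧
        ∀ r : R, lam r - r ∈ q.asIdeal := by
  classical
  have hflat : Module.Flat S (Localization.AtPrime p.asIdeal) :=
    IsLocalization.flat _ p.asIdeal.primeCompl
  have hfix := isFixedRing_lamBC lam (Localization.AtPrime p.asIdeal) hS hlam (Or.inl hflat)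
  have hinv := lamBC_involutive lam (Localization.AtPrime p.asIdeal) hS hlam
  constructor
  · intro hnq
    -- `lam` is trivial modulo the Jacobson radical of `T`
    have hjac : ∀ x : Localization.AtPrime p.asIdeal ⊗[S] R,
        lamBC lam hS (Localization.AtPrime p.asIdeal) x - x ∈
          Ring.jacobson (Localization.AtPrime p.asIdeal ⊗[S] R) := by
      intro x
      by_contra hx
      exact hnq (Groth.Agent.S15576.result _ _ _ hinv hfix ⟨x, hx⟩)
    haveI hloc : IsLocalRing (Localization.AtPrime p.asIdeal ⊗[S] R) :=
      isLocalRing_of_sub_mem_jacobson _ hinv hfix hjac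
    set T := Localization.AtPrime p.asIdeal ⊗[S] R with hT
    set lamT := lamBC lam hS (Localization.AtPrime p.asIdeal) with hlamT
    set 𝔪 := IsLocalRing.maximalIdeal T with h𝔪
    have hjac𝔪 : Ring.jacobson T ≤ 𝔪 := by
      rw [Ring.jacobson_eq_sInf_isMaximal]
      exact sInf_le (IsLocalRing.maximalIdeal.isMaximal T)
    let q : PrimeSpectrum R := ⟨𝔪.comap (algebraMap R T), inferInstance⟩
    -- (c) `lam r - r ∈ q`
    have hc : ∀ r : R, lam r - r ∈ q.asIdeal := by
      intro r
      show algebraMap R T (lam r - r) ∈ 𝔪
      rw [rightAlgebraMap_apply, TensorProduct.tmul_sub, ← lamBC_tmul lam _ hS]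
      exact hjac𝔪 (hjac _)
    -- (a) `q` lies over `p`
    have ha : q.asIdeal.comap (algebraMap S R) = p.asIdeal := by
      ext s
      rw [Ideal.mem_comap]
      show algebraMap R T (algebraMap S R s) ∈ 𝔪 ↔ _
      have hs1 : algebraMap R T (algebraMap S R s) =
          algebraMap (Localization.AtPrime p.asIdeal) T
            (algebraMap S (Localization.AtPrime p.asIdeal) s) := by
        rw [rightAlgebraMap_apply, Algebra.TensorProduct.algebraMap_apply,
          Algebra.algebraMap_self, RingHom.id_apply, Algebra.algebraMap_eq_smul_one (A := R),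
          ← TensorProduct.smul_tmul, Algebra.smul_def, mul_one]
      rw [hs1]
      constructor
      · intro hmem
        by_contra hsp
        have hu : IsUnit (algebraMap S (Localization.AtPrime p.asIdeal) s) :=
          IsLocalization.map_units _ (⟨s, hsp⟩ : p.asIdeal.primeCompl)
        exact (IsLocalRing.maximalIdeal.isMaximal T).ne_top
          (Ideal.eq_top_of_isUnit_mem _ hmem (hu.map _))
      · intro hsp
        apply algebraMap_mem_of_isMaximal lamT hinv hfix 𝔪 (IsLocalRing.maximalIdeal.isMaximal T)
        rw [← IsLocalization.AtPrime.map_eq_maximalIdeal p.asIdeal]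
        exact Ideal.mem_map_of_mem _ hsp
    refine ⟨q, ha, ?_, hc⟩
    intro q' hq'
    -- `q'` is disjoint from the image of `S \ p`
    have hdisj : Disjoint (Algebra.algebraMapSubmonoid R p.asIdeal.primeCompl : Set R)
        (q'.asIdeal : Set R) := by
      rw [Set.disjoint_left]
      rintro _ ⟨t, ht, rfl⟩ hmem
      apply ht
      rw [← hq']
      exact hmem
    have hq'T := IsLocalization.comap_map_of_isPrime_disjoint
      (Algebra.algebraMapSubmonoid R p.asIdeal.primeCompl) T q'.2 hdisj
    have hprime := IsLocalization.isPrime_of_isPrime_disjoint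
      (Algebra.algebraMapSubmonoid R p.asIdeal.primeCompl) T q'.asIdeal q'.2 hdisj
    have hle : q'.asIdeal ≤ q.asIdeal := by
      rw [← hq'T]
      exact Ideal.comap_mono (IsLocalRing.le_maximalIdeal hprime.ne_top)
    apply PrimeSpectrum.ext
    apply le_antisymm hle
    intro x hx
    have hlx : lam x ∈ q.asIdeal := by
      have := q.asIdeal.add_mem (hc x) hx
      rwa [sub_add_cancel] at this
    obtain ⟨a, ha'⟩ := (hS.2 (x + lam x)).1 (by rw [map_add, hlam x]; ring)
    obtain ⟨b, hb'⟩ := (hS.2 (x * lam x)).1 (by rw [map_mul, hlam x]; ring)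
    have hap : a ∈ p.asIdeal := by
      rw [← ha, Ideal.mem_comap, ha']
      exact q.asIdeal.add_mem hx hlx
    have hbp : b ∈ p.asIdeal := by
      rw [← ha, Ideal.mem_comap, hb']
      exact q.asIdeal.mul_mem_right _ hx
    rw [← hq', Ideal.mem_comap] at hap hbp
    have hx2 : x ^ 2 ∈ q'.asIdeal := by
      have : x ^ 2 = algebraMap S R a * x - algebraMap S R b := by
        rw [ha', hb']; ring
      rw [this]
      exact q'.asIdeal.sub_mem (q'.asIdeal.mul_mem_right _ hap) hbp
    exact q'.2.mem_of_pow_mem 2 hx2
  · rintro ⟨q, hqp, -, hq⟩ hqe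
    obtain ⟨x, hx⟩ := Groth.Agent.S15574.result _ _ _ hinv hfix hqe
    obtain ⟨r, hr⟩ := exists_isUnit_one_tmul lam _ p.asIdeal.primeCompl hS x hx
    obtain ⟨r', s, hs, h⟩ := exists_mul_eq_algebraMap_of_isUnit _ p.asIdeal.primeCompl _ hr
    apply hs
    rw [← hqp, SetLike.mem_coe, Ideal.mem_comap, ← h]
    apply Ideal.mul_mem_right
    have := hq r
    rw [← neg_sub] at this
    exact (Ideal.neg_mem_iff _).1 this

end Groth.Agent.S15587
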