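import Groth.Statements.S15589
import Mathlib
import Groth.Agent.S15587
import Groth.Agent.S15588

set_option autoImplicit false
universe u v
open scoped TensorProduct
open RInv

namespace Groth.Agent.S15589

/-- Let `R` be a commutative ring with an involution `lam` and fixed ring `S`, `W ⊆ Spec S` the branch
locus (primes `p` with `S_p ⊗_S R` not quadratic etale over `S_p`), `I` its vanishing ideal and `J =
rad(IR)`. Then `Spec(R/J) → Spec(S/I)` is a homeomorphism; if `2` is a unit of `S`, the ring map
`S/I → R/J` is moreover bijective, so the reduced preimage of the branch locus maps isomorphically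
onto it. Affine-local form of the statement for a good quotient of schemes by an involution (the
hypothesis `I ≤ J ∩ S` holds automatically and only serves to write down the map). -/
theorem result (S : Type u) (R : Type v) [CommRing S] [CommRing R]
    [Algebra S R] (lam : R ≃+* R) (hlam : Function.Involutive lam) (hS : RInv.IsFixedRing S R lam)
    (W : Set (PrimeSpectrum S))
    (hW : W = {p : PrimeSpectrum S | ¬ RInv.IsQuadEtale (Localization.AtPrime p.asIdeal) (Localization.AtPrime p.asIdeal ⊗[S] R)})
    (J : Ideal R) (hJ : J = ((PrimeSpectrum.vanishingIdeal W).map (algebraMap S R)).radical)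
    (hIJ : PrimeSpectrum.vanishingIdeal W ≤ J.comap (algebraMap S R)) :
    IsHomeomorph (PrimeSpectrum.comap (Ideal.quotientMap J (algebraMap S R) hIJ)) ∧
      (IsUnit (2 : S) → Function.Bijective (Ideal.quotientMap J (algebraMap S R) hIJ)) := by
  have hlamJ : ∀ r : R, lam r - r ∈ J := fun r => by
    rw [hJ]; exact Groth.Agent.S15588.result S R lam hlam hS W hW r
  have hcomap : J.comap (algebraMap S R) ≤ PrimeSpectrum.vanishingIdeal W := by
    intro s hs
    rw [PrimeSpectrum.mem_vanishingIdeal]
    intro P hP
    have hP' := hP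
    rw [hW] at hP'
    obtain ⟨q, hqP, -, -⟩ := (Groth.Agent.S15587.result S R lam hlam hS P).1 hP'
    have hIP : PrimeSpectrum.vanishingIdeal W ≤ P.asIdeal :=
      fun x hx => (PrimeSpectrum.mem_vanishingIdeal _ _).1 hx P hP
    have hJq : J ≤ q.asIdeal := by
      rw [hJ]
      refine q.2.radical_le_iff.2 (Ideal.map_le_iff_le_comap.2 ?_)
      rw [hqP]; exact hIP
    rw [← hqP]
    exact hJq hs
  have hinj : Function.Injective (Ideal.quotientMap J (algebraMap S R) hIJ) :=
    Ideal.quotientMap_injective' hcomap
  refine ⟨?_, fun h2 => ⟨hinj, ?_⟩⟩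
  · apply PrimeSpectrum.isHomeomorph_comap
    · intro x
      obtain ⟨r, rfl⟩ := Ideal.Quotient.mk_surjective x
      obtain ⟨b, hb⟩ := (hS.2 (r * lam r)).1 (by rw [map_mul, hlam r]; ring)
      refine ⟨2, by norm_num, Ideal.Quotient.mk _ b, ?_⟩
      rw [Ideal.quotientMap_mk, hb, ← map_pow, Ideal.Quotient.eq]
      have : r * lam r - r ^ 2 = r * (lam r - r) := by ring
      rw [this]
      exact J.mul_mem_left _ (hlamJ r)
    · rw [(RingHom.injective_iff_ker_eq_bot _).1 hinj]
      exact bot_le
  · intro x
    obtain ⟨r, rfl⟩ := Ideal.Quotient.mk_surjective x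
    obtain ⟨u, hu⟩ := h2.exists_left_inv
    obtain ⟨a, ha⟩ := (hS.2 (r + lam r)).1 (by rw [map_add, hlam r]; ring)
    refine ⟨Ideal.Quotient.mk _ (u * a), ?_⟩
    rw [Ideal.quotientMap_mk, Ideal.Quotient.eq, map_mul, ha]
    have h2' : algebraMap S R u * 2 = 1 := by
      rw [← map_ofNat (algebraMap S R) 2, ← map_mul, hu, map_one]
    have : algebraMap S R u * (r + lam r) - r = algebraMap S R u * (lam r - r) := by
      linear_combination r * h2'
    rw [this]
    exact J.mul_mem_left _ (hlamJ r)

end Groth.Agent.S15589
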