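import Groth.Statements.S15590
import Mathlib

set_option autoImplicit false
universe u v
open CAlg

namespace Groth.Agent.S15590

/-- Let A → B be an injective homomorphism of commutative rings which makes B a finite flat A-module,
and suppose B is a Dedekind domain (Noetherian, integrally closed, of Krull dimension at most one; a
field is allowed). Then A is a Dedekind domain. -/
theorem result (A : Type u) (B : Type v)
    [CommRing A] [CommRing B] [Algebra A B] [IsDedekindDomain B]
    (hinj : Function.Injective (algebraMap A B)) [Module.Finite A B] [Module.Flat A B] :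
    IsDedekindDomain A := by
  classical
  have : Algebra.IsIntegral A B := Algebra.IsIntegral.of_finite A B
  have : IsDomain A := hinj.isDomain (algebraMap A B)
  have hker : RingHom.ker (algebraMap A B) = ⊥ := (RingHom.injective_iff_ker_eq_bot _).1 hinj
  have hff : Module.FaithfullyFlat A B := Module.FaithfullyFlat.of_comap_surjective (by
    intro P
    obtain ⟨Q, -, hQ, hQP⟩ := Ideal.exists_ideal_over_prime_of_isIntegral P.asIdeal (⊥ : Ideal B) (by
      rw [← RingHom.ker_eq_comap_bot, hker]; exact bot_le)
    exact ⟨⟨Q, hQ⟩, PrimeSpectrum.ext hQP⟩)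
  have hnoeth : IsNoetherianRing A := by
    have hsm : StrictMono (Ideal.map (algebraMap A B)) :=
      (show Monotone (Ideal.map (algebraMap A B)) from fun _ _ h => Ideal.map_mono h).strictMono_of_injective
        Ideal.map_injective_of_faithfullyFlat
    have hB : WellFoundedGT (Ideal B) := isNoetherian_iff'.1 (inferInstance : IsNoetherianRing B)
    exact isNoetherian_iff'.2 hsm.wellFoundedGT
  have hdim : Ring.DimensionLEOne A := ⟨by
    intro p hp0 hpp
    obtain ⟨Q, -, hQ, hQp⟩ := Ideal.exists_ideal_over_prime_of_isIntegral p (⊥ : Ideal B) (by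
      rw [← RingHom.ker_eq_comap_bot, hker]; exact bot_le)
    have hQ0 : Q ≠ ⊥ := by
      rintro rfl
      apply hp0
      rw [← hQp, ← RingHom.ker_eq_comap_bot, hker]
    have hQmax : Q.IsMaximal := hQ.isMaximal hQ0
    rw [← hQp]
    exact Ideal.isMaximal_comap_of_isIntegral_of_isMaximal Q⟩
  have hginj : Function.Injective ((algebraMap B (FractionRing B)).comp (algebraMap A B)) :=
    (IsFractionRing.injective B (FractionRing B)).comp hinj
  have hic : ∀ {x : FractionRing A}, IsIntegral A x → ∃ y, algebraMap A (FractionRing A) y = x := by
    intro x hx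
    obtain ⟨P, hPm, hP⟩ := hx
    have hιx : IsIntegral B (IsFractionRing.lift (K := FractionRing A) hginj x) := by
      refine ⟨P.map (algebraMap A B), hPm.map _, ?_⟩
      rw [Polynomial.eval₂_map]
      have hcomp : (algebraMap B (FractionRing B)).comp (algebraMap A B) =
          (IsFractionRing.lift (K := FractionRing A) hginj).comp (algebraMap A (FractionRing A)) := by
        ext a
        simp [IsFractionRing.lift_algebraMap]
      have h4 : Polynomial.eval₂ ((IsFractionRing.lift (K := FractionRing A) hginj).comp
          (algebraMap A (FractionRing A))) (IsFractionRing.lift (K := FractionRing A) hginj x) P = 0 := by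
        rw [← Polynomial.hom_eval₂, hP, map_zero]
      rwa [← hcomp] at h4
    obtain ⟨b, hb⟩ := (isIntegrallyClosed_iff (FractionRing B)).1 inferInstance hιx
    obtain ⟨⟨a, s⟩, hxs⟩ := IsLocalization.surj (nonZeroDivisors A) x
    simp only at hxs
    have h1 := congrArg (IsFractionRing.lift (K := FractionRing A) hginj) hxs
    rw [map_mul, IsFractionRing.lift_algebraMap, IsFractionRing.lift_algebraMap, ← hb] at h1
    simp only [RingHom.comp_apply] at h1
    rw [← map_mul] at h1
    have h2 : b * algebraMap A B s = algebraMap A B a := IsFractionRing.injective B (FractionRing B) h1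
    have h3 : a ∈ (Ideal.map (algebraMap A B) (Ideal.span {(s : A)})).comap (algebraMap A B) := by
      rw [Ideal.mem_comap, Ideal.map_span, Set.image_singleton, ← h2]
      exact Ideal.mul_mem_left _ _ (Ideal.subset_span rfl)
    rw [Ideal.comap_map_eq_self_of_faithfullyFlat] at h3
    obtain ⟨c, hc⟩ := Ideal.mem_span_singleton'.1 h3
    refine ⟨c, ?_⟩
    have hs0 : algebraMap A (FractionRing A) (s : A) ≠ 0 := by
      intro h0
      have := (IsFractionRing.injective A (FractionRing A)) (h0.trans (map_zero _).symm)
      exact nonZeroDivisors.coe_ne_zero s this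
    apply mul_right_cancel₀ hs0
    rw [hxs, ← map_mul, hc]
  exact { toIsDomain := inferInstance
          toIsDedekindRing := (isDedekindRing_iff A (FractionRing A)).2 ⟨hnoeth, hdim, hic⟩ }

end Groth.Agent.S15590
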