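import Groth.Statements.S15596
import Mathlib

set_option autoImplicit false
universe u
open CategoryTheory MonoidalCategory CartesianMonoidalCategory MonObj GrpObj AlgebraicGeometry
open AlgGrp

namespace Groth.Agent.S15596

/-- Let k be an algebraically closed field, H a smooth k-group scheme of finite type, and U a dense open
subset of H. Then every k-rational point h of H is of the form u₂ · u₁⁻¹ for k-rational points u₁,
u₂ of H whose underlying points lie in U. -/
theorem result (k : Type u) [Field k] [IsAlgClosed k]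
    (H : Over (Spec (CommRingCat.of k))) [GrpObj H] [Smooth H.hom] [QuasiCompact H.hom]
    (U : H.left.Opens) (hU : Dense (U : Set ↥H.left)) (h : 𝟙_ (Over (Spec (CommRingCat.of k))) ⟶ H) :
    ∃ u₁ u₂ : 𝟙_ (Over (Spec (CommRingCat.of k))) ⟶ H,
      u₁.left.base (IsLocalRing.closedPoint k) ∈ U ∧ u₂.left.base (IsLocalRing.closedPoint k) ∈ U ∧
        h = u₂ * u₁⁻¹ := by
  classical
  set pt := IsLocalRing.closedPoint k with hpt
  -- left translation
  let L : (𝟙_ (Over (Spec (CommRingCat.of k))) ⟶ H) → (H ⟶ H) := fun a =>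
    lift (toUnit H ≫ a) (𝟙 H) ≫ μ[H]
  have hL : ∀ (a : 𝟙_ (Over (Spec (CommRingCat.of k))) ⟶ H) (T : Over (Spec (CommRingCat.of k)))
      (x : T ⟶ H), x ≫ L a = (toUnit T ≫ a) * x := by
    intro a T x
    change x ≫ (lift (toUnit H ≫ a) (𝟙 H) ≫ μ[H]) = _
    rw [CategoryTheory.Hom.mul_def, ← Category.assoc, comp_lift]
    congr 2
    rw [← Category.assoc, toUnit_unique (x ≫ toUnit H) (toUnit T)]
  have hLL : ∀ a b : 𝟙_ (Over (Spec (CommRingCat.of k))) ⟶ H, L a ≫ L b = L (b * a) := by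
    intro a b
    have h1 : L a = (toUnit H ≫ a) * 𝟙 H := by
      have := hL a H (𝟙 H)
      rwa [Category.id_comp] at this
    have h2 : L (b * a) = (toUnit H ≫ (b * a)) * 𝟙 H := by
      have := hL (b * a) H (𝟙 H)
      rwa [Category.id_comp] at this
    rw [hL b H (L a), h1, h2, MonObj.comp_mul, _root_.mul_assoc]
  have hL1 : L 1 = 𝟙 H := by
    have := hL 1 H (𝟙 H)
    rw [Category.id_comp] at this
    rw [this, MonObj.comp_one, _root_.one_mul]
  let e : H ≅ H :=
    { hom := L h⁻¹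
      inv := L h
      hom_inv_id := by rw [hLL, mul_inv_cancel, hL1]
      inv_hom_id := by rw [hLL, inv_mul_cancel, hL1] }
  let eh : H.left ≃ₜ H.left := Scheme.homeoOfIso ((Over.forget _).mapIso e)
  have heh : ∀ y, eh y = (L h⁻¹).left.base y := fun y => rfl
  -- the dense open V
  have hV1 : Dense (eh ⁻¹' (U : Set H.left)) := hU.preimage eh.isOpenMap
  have hV1o : IsOpen (eh ⁻¹' (U : Set H.left)) := U.2.preimage eh.continuous
  have hV : Dense ((U : Set H.left) ∩ eh ⁻¹' (U : Set H.left)) :=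
    hU.inter_of_isOpen_left hV1 U.2
  have hVo : IsOpen ((U : Set H.left) ∩ eh ⁻¹' (U : Set H.left)) := U.2.inter hV1o
  have hne : Nonempty H.left := ⟨η[H].left.base pt⟩
  have hVne : ((U : Set H.left) ∩ eh ⁻¹' (U : Set H.left)).Nonempty := hV.nonempty
  have hloft : LocallyOfFiniteType H.hom := inferInstance
  have : JacobsonSpace H.left := LocallyOfFiniteType.jacobsonSpace H.hom
  obtain ⟨x, ⟨hxU, hxV⟩, hx⟩ := nonempty_inter_closedPoints hVne hVo.isLocallyClosed
  rw [mem_closedPoints_iff] at hx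
  let u₂ : 𝟙_ (Over (Spec (CommRingCat.of k))) ⟶ H :=
    Over.homMk (pointOfClosedPoint H.hom x hx) (by simp)
  have hu₂ : u₂.left.base pt = x := pointOfClosedPoint_apply H.hom x hx pt
  refine ⟨h⁻¹ * u₂, u₂, ?_, ?_, ?_⟩
  · have h1 : h⁻¹ * u₂ = u₂ ≫ L h⁻¹ := by
      rw [hL, toUnit_unique (toUnit _) (𝟙 _), Category.id_comp]
    rw [h1]
    have h2 : (u₂ ≫ L h⁻¹).left.base pt = (L h⁻¹).left.base (u₂.left.base pt) := by simp
    rw [h2, hu₂, ← heh]
    exact hxV
  · rw [hu₂]; exact hxU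
  · group

end Groth.Agent.S15596
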