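import Groth.Statements.S18981
import Mathlib
import Groth.Prelude.Def_ChGrp
import Groth.Prelude.Def_W4c6nonredquotmfGoodQuot
import Groth.Agent.S14586
-- import your own Groth.Agent.* helpers here

set_option autoImplicit false
universe u
open CategoryTheory MonoidalCategory CartesianMonoidalCategory MonObj AlgebraicGeometry Topology
open NRQuot

namespace Groth.Agent.S18981

open CategoryTheory MonoidalCategory CartesianMonoidalCategory MonObj GrpObj AlgebraicGeometry CategoryTheory.Limits

namespace H5S18981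

open Groth.Agent.S14586.H5S14586

/-- a closed point of an orbit of a rational point (over an algebraically closed field) is a
translate by a rational point -/
theorem exists_pt (k : Type u) [Field k] [IsAlgClosed k]
    (G X : Over (Spec (CommRingCat.of k))) [GrpObj G] [LocallyOfFiniteType G.hom]
    (a : AlgGrp.Action G X) (x : 𝟙_ (Over (Spec (CommRingCat.of k))) ⟶ X)
    (z : X.left) (hz : IsClosed ({z} : Set X.left))
    (hzO : z ∈ Set.range (a.orbitMap x).left.base) :
    ∃ gm : 𝟙_ (Over (Spec (CommRingCat.of k))) ⟶ G,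
      (lift gm x ≫ a.act).left.base (IsLocalRing.closedPoint k) = z := by
  haveI : JacobsonSpace G.left := LocallyOfFiniteType.jacobsonSpace G.hom
  have hne : ((a.orbitMap x).left.base ⁻¹' {z}).Nonempty := by
    obtain ⟨g, hg⟩ := hzO
    exact ⟨g, hg⟩
  have hcl : IsClosed ((a.orbitMap x).left.base ⁻¹' {z}) :=
    hz.preimage (a.orbitMap x).left.continuous
  obtain ⟨g₁, hg₁, hg₁c⟩ := nonempty_inter_closedPoints hne hcl.isLocallyClosed
  let gm : 𝟙_ (Over (Spec (CommRingCat.of k))) ⟶ G :=
    Over.homMk (pointOfClosedPoint G.hom g₁ hg₁c) (pointOfClosedPoint_comp G.hom g₁ hg₁c)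
  refine ⟨gm, ?_⟩
  have h1 : lift gm x ≫ a.act = gm ≫ a.orbitMap x := by
    rw [AlgGrp.Action.comp_orbitMap]
    congr 2
  rw [h1, Over.comp_left, Scheme.Hom.comp_base, TopCat.comp_app]
  have h2 : gm.left.base (IsLocalRing.closedPoint k) = g₁ :=
    pointOfClosedPoint_apply G.hom g₁ hg₁c _
  rw [h2]
  exact hg₁


theorem main (k : Type u) [Field k] [IsAlgClosed k]
    (G X Y : Over (Spec (CommRingCat.of k))) [GrpObj G] [LocallyOfFiniteType G.hom]
    [LocallyOfFiniteType X.hom]
    (a : AlgGrp.Action G X) (φ : X ⟶ Y) (h : NRQuot.IsGoodQuot a φ)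
    (hcl : ∀ x : 𝟙_ (Over (Spec (CommRingCat.of k))) ⟶ X, IsClosed (Set.range (a.orbitMap x).left.base))
    (x₁ x₂ : 𝟙_ (Over (Spec (CommRingCat.of k))) ⟶ X) (hφ : x₁ ≫ φ = x₂ ≫ φ) :
    ∃ g : 𝟙_ (Over (Spec (CommRingCat.of k))) ⟶ G, lift g x₁ ≫ a.act = x₂ := by
  haveI : JacobsonSpace X.left := LocallyOfFiniteType.jacobsonSpace X.hom
  let pt : ↥(𝟙_ (Over (Spec (CommRingCat.of k)))).left := IsLocalRing.closedPoint k
  -- the orbits contain the points
  have hmem : ∀ x : 𝟙_ (Over (Spec (CommRingCat.of k))) ⟶ X,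
      x.left.base pt ∈ Set.range (a.orbitMap x).left.base := by
    intro x
    refine ⟨η[G].left.base pt, ?_⟩
    have h1 : η[G] ≫ a.orbitMap x = x := by
      rw [AlgGrp.Action.comp_orbitMap]
      have : toUnit (𝟙_ (Over (Spec (CommRingCat.of k)))) = 𝟙 _ := toUnit_unique _ _
      rw [this, Category.id_comp]
      exact AlgGrp.Action.lift_one_act a x
    have := congrArg (fun m => m.left.base pt) h1
    exact this
  let W : ULift.{u} Bool → Set ↥X.left := fun b =>
    if b.down then Set.range (a.orbitMap x₁).left.base else Set.range (a.orbitMap x₂).left.base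
  have hWcl : ∀ i, IsClosed (W i) := by
    rintro ⟨b⟩
    cases b
    · exact hcl x₂
    · exact hcl x₁
  have hWinv : ∀ i, NRQuot.IsInvariantSet a (W i) := by
    rintro ⟨b⟩
    cases b
    · exact stable_orbit a x₂
    · exact stable_orbit a x₁
  have hinter := h.inter (ULift.{u} Bool) W hWcl hWinv
  have hy : φ.left.base (x₁.left.base pt) ∈ ⋂ i, φ.left.base '' (W i) := by
    rw [Set.mem_iInter]
    rintro ⟨b⟩
    cases b
    · refine ⟨x₂.left.base pt, hmem x₂, ?_⟩
      have := congrArg (fun m => m.left.base pt) hφ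
      exact this.symm
    · exact ⟨x₁.left.base pt, hmem x₁, rfl⟩
  rw [← hinter] at hy
  obtain ⟨z₀, hz₀, -⟩ := hy
  have hz₁ : z₀ ∈ Set.range (a.orbitMap x₁).left.base := (Set.mem_iInter.1 hz₀) ⟨true⟩
  have hz₂ : z₀ ∈ Set.range (a.orbitMap x₂).left.base := (Set.mem_iInter.1 hz₀) ⟨false⟩
  obtain ⟨z, ⟨hzO₁, hzO₂⟩, hzc⟩ := nonempty_inter_closedPoints
    (Z := Set.range (a.orbitMap x₁).left.base ∩ Set.range (a.orbitMap x₂).left.base)
    ⟨z₀, hz₁, hz₂⟩ ((hcl x₁).inter (hcl x₂)).isLocallyClosed
  obtain ⟨g₁, hg₁⟩ := exists_pt k G X a x₁ z hzc hzO₁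
  obtain ⟨g₂, hg₂⟩ := exists_pt k G X a x₂ z hzc hzO₂
  have hw : lift g₁ x₁ ≫ a.act = lift g₂ x₂ ≫ a.act := by
    apply Over.OverMorphism.ext
    refine ext_of_apply_closedPoint_eq X.hom ?_ ?_ (hg₁.trans hg₂.symm)
    · exact Over.w (lift g₁ x₁ ≫ a.act)
    · exact Over.w (lift g₂ x₂ ≫ a.act)
  refine ⟨g₂⁻¹ * g₁, ?_⟩
  rw [AlgGrp.Action.lift_mul_act, hw, ← AlgGrp.Action.lift_mul_act, inv_mul_cancel,
    AlgGrp.Action.lift_one_act]

end H5S18981

/-- Over an algebraically closed field k of characteristic zero, let G be an affine group scheme of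
finite type over k acting on a k-scheme X locally of finite type, and let φ : X → Y be a good
quotient (affine and invariant, functions on every open of Y are exactly the invariant functions on
its preimage, invariant closed subsets have closed images, images commute with intersections of
families of invariant closed subsets). If the orbit of every k-point of X is closed in X, then φ is
a geometric quotient; this row states the one clause that a good quotient lacks: fibres are orbits,
read on k-points — two k-points of X with the same image in Y are translates of each other by a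
k-point of G. (Surjectivity and submersiveness of a good quotient are the content of the companion
statement on good quotients; X locally of finite type is what the argument on closed points uses.) -/
theorem result
    (k : Type u) [Field k] [IsAlgClosed k] [CharZero k]
    (G X Y : Over (Spec (CommRingCat.of k))) [GrpObj G] [IsAffine G.left] [LocallyOfFiniteType G.hom]
    [LocallyOfFiniteType X.hom]
    (a : AlgGrp.Action G X) (φ : X ⟶ Y) (h : NRQuot.IsGoodQuot a φ)
    (hcl : ∀ x : 𝟙_ (Over (Spec (CommRingCat.of k))) ⟶ X, IsClosed (Set.range (a.orbitMap x).left.base))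
    (x₁ x₂ : 𝟙_ (Over (Spec (CommRingCat.of k))) ⟶ X) (hφ : x₁ ≫ φ = x₂ ≫ φ) :
    ∃ g : 𝟙_ (Over (Spec (CommRingCat.of k))) ⟶ G, lift g x₁ ≫ a.act = x₂ := by
  exact H5S18981.main k G X Y a φ h hcl x₁ x₂ hφ

end Groth.Agent.S18981
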