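import Groth.Statements.S15598
import Mathlib
import Groth.Prelude.Def_ChGrp
import Groth.Agent.S18981
import Groth.Agent.S14645
import Groth.Agent.Lib.helper4.NoethTop
-- import your own Groth.Agent.* helpers here

set_option autoImplicit false
universe u
open CategoryTheory MonoidalCategory CartesianMonoidalCategory MonObj GrpObj AlgebraicGeometry
open AlgGrp

namespace Groth.Agent.S15598

open CategoryTheory MonoidalCategory CartesianMonoidalCategory MonObj GrpObj AlgebraicGeometry CategoryTheory.Limits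

namespace H5S15598

section topc
open Topology TopologicalSpace
variable {Y : Type*} [TopologicalSpace Y]

theorem cons_dichotomy {O : Set Y} (hO : IsOpen O) (hirr : IsIrreducible O) {s : Set Y}
    (hs : IsConstructible s) :
    (∃ V, IsOpen V ∧ V.Nonempty ∧ V ⊆ O ∧ V ⊆ s) ∨
      (∃ V, IsOpen V ∧ V.Nonempty ∧ V ⊆ O ∧ V ⊆ sᶜ) := by
  induction hs using IsConstructible.empty_union_induction with
  | open_retrocompact U hUo hUc =>
    by_cases h : (O ∩ U).Nonempty
    · exact Or.inl ⟨O ∩ U, hO.inter hUo, h, Set.inter_subset_left, Set.inter_subset_right⟩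
    · refine Or.inr ⟨O, hO, hirr.nonempty, le_rfl, ?_⟩
      intro y hy hyU
      exact h ⟨y, hy, hyU⟩
  | union s hs t ht ihs iht =>
    rcases ihs with ⟨V, h1, h2, h3, h4⟩ | ⟨V, h1, h2, h3, h4⟩
    · exact Or.inl ⟨V, h1, h2, h3, h4.trans Set.subset_union_left⟩
    · rcases iht with ⟨V', h1', h2', h3', h4'⟩ | ⟨V', h1', h2', h3', h4'⟩
      · exact Or.inl ⟨V', h1', h2', h3', h4'.trans Set.subset_union_right⟩
      · have hn1 : (O ∩ V).Nonempty := by
          obtain ⟨z, hz⟩ := h2
          exact ⟨z, h3 hz, hz⟩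
        have hn2 : (O ∩ V').Nonempty := by
          obtain ⟨z, hz⟩ := h2'
          exact ⟨z, h3' hz, hz⟩
        obtain ⟨y, hyO, hyV, hyV'⟩ := hirr.isPreirreducible V V' h1 h1' hn1 hn2
        refine Or.inr ⟨V ∩ V', h1.inter h1', ⟨y, hyV, hyV'⟩, Set.inter_subset_left.trans h3, ?_⟩
        rw [Set.compl_union]
        exact fun z hz => ⟨h4 hz.1, h4' hz.2⟩
  | compl s hs ih =>
    rcases ih with h | h
    · right
      simpa using h
    · left
      exact h

end topc

section trans
variable {S : Scheme.{u}} {G X : Over S} [GrpObj G] (a : AlgGrp.Action G X)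

/-- left translation of `G` by a rational point -/
noncomputable def Lg (c : 𝟙_ (Over S) ⟶ G) : G ⟶ G := (toUnit G ≫ c) * 𝟙 G

/-- translation of `X` by a rational point -/
noncomputable def Rx (c : 𝟙_ (Over S) ⟶ G) : X ⟶ X := lift (toUnit X ≫ c) (𝟙 X) ≫ a.act

theorem Lg_comp (c d : 𝟙_ (Over S) ⟶ G) : Lg c ≫ Lg d = Lg (d * c) := by
  simp only [Lg, MonObj.comp_mul, Category.comp_id]
  rw [← Category.assoc, toUnit_unique (_ ≫ toUnit G) (toUnit G), _root_.mul_assoc]

theorem Lg_one : Lg (1 : 𝟙_ (Over S) ⟶ G) = 𝟙 G := by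
  simp [Lg]

theorem pt_Lg (c d : 𝟙_ (Over S) ⟶ G) : d ≫ Lg c = c * d := by
  simp only [Lg, MonObj.comp_mul, Category.comp_id]
  rw [← Category.assoc, toUnit_unique (d ≫ toUnit G) (𝟙 _), Category.id_comp]

theorem Rx_comp (c d : 𝟙_ (Over S) ⟶ G) : Rx a c ≫ Rx a d = Rx a (d * c) := by
  simp only [Rx]
  rw [Category.assoc, ← Category.assoc a.act, comp_lift, Category.comp_id,
    ← Category.assoc a.act, toUnit_unique (a.act ≫ toUnit X) (toUnit (G ⊗ X))]
  rw [← Category.assoc, comp_lift, ← Category.assoc,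
    toUnit_unique ((lift (toUnit X ≫ c) (𝟙 X)) ≫ toUnit (G ⊗ X)) (toUnit X),
    MonObj.comp_mul, AlgGrp.Action.lift_mul_act]

theorem Rx_one : Rx a (1 : 𝟙_ (Over S) ⟶ G) = 𝟙 X := by
  simp only [Rx, MonObj.comp_one]
  exact AlgGrp.Action.lift_one_act a (𝟙 X)

theorem Lg_orbit (x₀ : 𝟙_ (Over S) ⟶ X) (c : 𝟙_ (Over S) ⟶ G) :
    Lg c ≫ a.orbitMap x₀ = a.orbitMap x₀ ≫ Rx a c := by
  have h1 : a.orbitMap x₀ = lift (𝟙 G) (toUnit G ≫ x₀) ≫ a.act := by
    have := AlgGrp.Action.comp_orbitMap a (𝟙 G) x₀
    rwa [Category.id_comp] at this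
  rw [Lg, AlgGrp.Action.comp_orbitMap, AlgGrp.Action.lift_mul_act, ← h1]
  simp only [Rx]
  rw [← Category.assoc, comp_lift, Category.comp_id, ← Category.assoc,
    toUnit_unique (_ ≫ toUnit X) (toUnit G)]

end trans


section top
variable {k : Type u} [Field k] {G X : Over (Spec (CommRingCat.of k))} [GrpObj G]
  (a : AlgGrp.Action G X)

theorem lg_inv_left (c : 𝟙_ (Over (Spec (CommRingCat.of k))) ⟶ G) (z : G.left) :
    (Lg c⁻¹).left.base ((Lg c).left.base z) = z := by
  have h := Lg_comp c c⁻¹
  rw [inv_mul_cancel, Lg_one] at h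
  exact congrArg (fun m => m.left.base z) h

theorem lg_inv_right (c : 𝟙_ (Over (Spec (CommRingCat.of k))) ⟶ G) (z : G.left) :
    (Lg c).left.base ((Lg c⁻¹).left.base z) = z := by
  have h := Lg_comp c⁻¹ c
  rw [mul_inv_cancel, Lg_one] at h
  exact congrArg (fun m => m.left.base z) h

theorem rx_inv_left (c : 𝟙_ (Over (Spec (CommRingCat.of k))) ⟶ G) (z : X.left) :
    (Rx a c⁻¹).left.base ((Rx a c).left.base z) = z := by
  have h := Rx_comp a c c⁻¹
  rw [inv_mul_cancel, Rx_one] at h
  exact congrArg (fun m => m.left.base z) h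

theorem rx_inv_right (c : 𝟙_ (Over (Spec (CommRingCat.of k))) ⟶ G) (z : X.left) :
    (Rx a c).left.base ((Rx a c⁻¹).left.base z) = z := by
  have h := Rx_comp a c⁻¹ c
  rw [mul_inv_cancel, Rx_one] at h
  exact congrArg (fun m => m.left.base z) h

theorem lg_pt (c d : 𝟙_ (Over (Spec (CommRingCat.of k))) ⟶ G)
    (t : ↥(𝟙_ (Over (Spec (CommRingCat.of k)))).left) :
    (Lg c).left.base (d.left.base t) = (c * d).left.base t :=
  congrArg (fun m => m.left.base t) (pt_Lg c d)

theorem one_eq_eta : (1 : 𝟙_ (Over (Spec (CommRingCat.of k))) ⟶ G) = η[G] := by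
  rw [Hom.one_def, toUnit_unique (toUnit _) (𝟙 _), Category.id_comp]

theorem lg_image_comp (c : 𝟙_ (Over (Spec (CommRingCat.of k))) ⟶ G)
    (t : ↥(𝟙_ (Over (Spec (CommRingCat.of k)))).left) :
    (Lg c).left.base '' connectedComponent (η[G].left.base t) = connectedComponent (c.left.base t) := by
  have h1 : (Lg c).left.base (η[G].left.base t) = c.left.base t := by
    rw [← one_eq_eta, lg_pt, _root_.mul_one]
  have h2 : (Lg c⁻¹).left.base (c.left.base t) = η[G].left.base t := by
    rw [lg_pt, inv_mul_cancel, one_eq_eta]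
  apply Set.Subset.antisymm
  · have := (Lg c).left.continuous.image_connectedComponent_subset (η[G].left.base t)
    rwa [h1] at this
  · intro z hz
    have := (Lg c⁻¹).left.continuous.image_connectedComponent_subset (c.left.base t)
    rw [h2] at this
    exact ⟨(Lg c⁻¹).left.base z, this ⟨z, hz, rfl⟩, lg_inv_right c z⟩

theorem pi_lg (x₀ : 𝟙_ (Over (Spec (CommRingCat.of k))) ⟶ X)
    (c : 𝟙_ (Over (Spec (CommRingCat.of k))) ⟶ G) (g : G.left) :
    (a.orbitMap x₀).left.base ((Lg c).left.base g) = (Rx a c).left.base ((a.orbitMap x₀).left.base g) :=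
  congrArg (fun m => m.left.base g) (Lg_orbit a x₀ c)


theorem kpt_of_closed [IsAlgClosed k] [LocallyOfFiniteType G.hom] (g : G.left)
    (hg : IsClosed ({g} : Set G.left)) :
    ∃ c : 𝟙_ (Over (Spec (CommRingCat.of k))) ⟶ G, ∀ t, c.left.base t = g :=
  ⟨Over.homMk (pointOfClosedPoint G.hom g hg) (pointOfClosedPoint_comp G.hom g hg),
    fun t => pointOfClosedPoint_apply G.hom g hg t⟩

theorem same_comp (x₀ : 𝟙_ (Over (Spec (CommRingCat.of k))) ⟶ X)
    (H : Over (Spec (CommRingCat.of k))) [GrpObj H] (i : H ⟶ G) [IsMonHom i]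
    (hH : ∀ (T : Over (Spec (CommRingCat.of k))) (g : T ⟶ G),
      (∃ h : T ⟶ H, h ≫ i = g) ↔ g ≫ a.orbitMap x₀ = toUnit T ≫ x₀)
    [ConnectedSpace ↥H.left]
    (c c' : 𝟙_ (Over (Spec (CommRingCat.of k))) ⟶ G)
    (hcc : c ≫ a.orbitMap x₀ = c' ≫ a.orbitMap x₀)
    (t : ↥(𝟙_ (Over (Spec (CommRingCat.of k)))).left) :
    c'.left.base t ∈ connectedComponent (c.left.base t) := by
  have hst : (c⁻¹ * c') ≫ a.orbitMap x₀ = toUnit _ ≫ x₀ := by
    rw [AlgGrp.Action.comp_orbitMap, AlgGrp.Action.lift_mul_act, ← AlgGrp.Action.comp_orbitMap,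
      ← hcc, AlgGrp.Action.comp_orbitMap, ← AlgGrp.Action.lift_mul_act, inv_mul_cancel,
      AlgGrp.Action.lift_one_act]
  obtain ⟨h, hh⟩ := (hH _ _).2 hst
  have hc' : c' = c * (h ≫ i) := by rw [hh, mul_inv_cancel_left]
  have hi : ∀ w : H.left, i.left.base w ∈ connectedComponent (η[G].left.base t) := by
    intro w
    have h1 : i.left.base (η[H].left.base t) = η[G].left.base t :=
      congrArg (fun m => m.left.base t) (IsMonHom.one_hom i)
    have := i.left.continuous.image_connectedComponent_subset (η[H].left.base t)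
    rw [h1] at this
    apply this
    refine ⟨w, ?_, rfl⟩
    rw [PreconnectedSpace.connectedComponent_eq_univ]
    trivial
  rw [hc', ← lg_pt, ← lg_image_comp c t]
  exact ⟨_, hi _, rfl⟩

end top


open TopologicalSpace in
theorem main (k : Type u) [Field k] [IsAlgClosed k]
    (G X : Over (Spec (CommRingCat.of k))) [GrpObj G] [LocallyOfFiniteType G.hom] [QuasiCompact G.hom]
    [LocallyOfFiniteType X.hom] [ConnectedSpace ↥X.left] (a : AlgGrp.Action G X)
    (x₀ : 𝟙_ (Over (Spec (CommRingCat.of k))) ⟶ X)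
    (hsurj : Surjective (a.orbitMap x₀).left)
    (H : Over (Spec (CommRingCat.of k))) [GrpObj H] (i : H ⟶ G) [IsMonHom i]
    (hH : ∀ (T : Over (Spec (CommRingCat.of k))) (g : T ⟶ G),
      (∃ h : T ⟶ H, h ≫ i = g) ↔ g ≫ a.orbitMap x₀ = toUnit T ≫ x₀)
    [ConnectedSpace ↥H.left] : ConnectedSpace ↥G.left := by
  let pt : ↥(𝟙_ (Over (Spec (CommRingCat.of k)))).left := IsLocalRing.closedPoint k
  haveI : IsLocallyNoetherian G.left := LocallyOfFiniteType.isLocallyNoetherian G.hom
  haveI : CompactSpace G.left := QuasiCompact.compactSpace_of_compactSpace G.hom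
  haveI : IsNoetherian G.left := {}
  haveI : NoetherianSpace G.left := inferInstance
  haveI : JacobsonSpace G.left := LocallyOfFiniteType.jacobsonSpace G.hom
  haveI : JacobsonSpace X.left := LocallyOfFiniteType.jacobsonSpace X.hom
  haveI : IsLocallyNoetherian X.left := LocallyOfFiniteType.isLocallyNoetherian X.hom
  obtain ⟨π, hπ⟩ : ∃ π : G ⟶ X, π = a.orbitMap x₀ := ⟨_, rfl⟩
  rw [← hπ] at hsurj
  have hπs : Function.Surjective π.left.base := hsurj.surj
  haveI : CompactSpace X.left := by
    constructor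
    rw [← Set.range_eq_univ.2 hπs]
    exact isCompact_range π.left.continuous
  haveI : IsNoetherian X.left := {}
  haveI : NoetherianSpace X.left := inferInstance
  haveI : LocallyOfFiniteType π.left := by
    haveI : LocallyOfFiniteType (π.left ≫ X.hom) := by rw [Over.w]; infer_instance
    exact locallyOfFiniteType_of_comp π.left X.hom
  haveI : QuasiCompact π.left := by
    haveI : QuasiCompact (π.left ≫ X.hom) := by rw [Over.w]; infer_instance
    exact QuasiCompact.of_comp π.left X.hom
  haveI : LocallyOfFinitePresentation π.left :=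
    LocallyOfFinitePresentation.iff_locallyOfFiniteType.2 inferInstance
  have hcons : ∀ M : Set G.left, Topology.IsConstructible M →
      Topology.IsConstructible (π.left.base '' M) := fun M hM => π.left.isConstructible_image hM
  have hallc : ∀ M : Set G.left, IsOpen M → Topology.IsConstructible M := fun M hM =>
    IsRetrocompact.isConstructible hM (fun U _ _ => NoetherianSpace.isCompact _)
  have hallcX : ∀ M : Set X.left, IsOpen M → Topology.IsConstructible M := fun M hM =>
    IsRetrocompact.isConstructible hM (fun U _ _ => NoetherianSpace.isCompact _)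
  set e := η[G].left.base pt with he
  set E := connectedComponent e with hE
  have hEo : IsOpen E := Groth.Agent.H4Top.isOpen_connectedComponent_of_noetherian e
  have hEc : IsClosed E := isClosed_connectedComponent
  -- closed points in fibres
  have hclpt : ∀ (M : Set G.left), IsClosed M → ∀ z, IsClosed ({z} : Set X.left) →
      (∃ g₀ ∈ M, π.left.base g₀ = z) →
      ∃ g ∈ M, IsClosed ({g} : Set G.left) ∧ π.left.base g = z := by
    rintro M hM z hz ⟨g₀, hg₀M, hg₀⟩
    have hcl : IsClosed (π.left.base ⁻¹' {z} ∩ M) := (hz.preimage π.left.continuous).inter hM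
    obtain ⟨g, ⟨hg1, hg2⟩, hgc⟩ := nonempty_inter_closedPoints (Z := π.left.base ⁻¹' {z} ∩ M) ⟨g₀, hg₀, hg₀M⟩ hcl.isLocallyClosed
    exact ⟨g, hg2, hgc, hg1⟩
  have hkeq : ∀ c c' : 𝟙_ (Over (Spec (CommRingCat.of k))) ⟶ G,
      π.left.base (c.left.base pt) = π.left.base (c'.left.base pt) → c ≫ π = c' ≫ π := by
    intro c c' h
    apply Over.OverMorphism.ext
    exact ext_of_apply_closedPoint_eq X.hom (Over.w _) (Over.w _) h
  have hsame : ∀ g g' : G.left, IsClosed ({g} : Set G.left) → IsClosed ({g'} : Set G.left) →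
      π.left.base g = π.left.base g' → g' ∈ connectedComponent g := by
    intro g g' hg hg' hgg
    obtain ⟨c, hc⟩ := kpt_of_closed g hg
    obtain ⟨c', hc'⟩ := kpt_of_closed g' hg'
    have h1 : c ≫ π = c' ≫ π := hkeq c c' (by rw [hc, hc']; exact hgg)
    rw [hπ] at h1
    have := same_comp a x₀ H i hH c c' h1 pt
    rwa [hc, hc'] at this
  -- E(k)
  have hEk : ∀ c : 𝟙_ (Over (Spec (CommRingCat.of k))) ⟶ G, c.left.base pt ∈ E →
      (Lg c).left.base '' E = E := by
    intro c hc
    rw [hE, he, lg_image_comp c pt]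
    exact connectedComponent_eq hc |>.symm
  obtain ⟨A, hA⟩ : ∃ A : Set X.left, A = π.left.base '' E := ⟨_, rfl⟩
  obtain ⟨B, hB⟩ : ∃ B : Set X.left, B = π.left.base '' Eᶜ := ⟨_, rfl⟩
  have hAc : Topology.IsConstructible A := by rw [hA]; exact hcons E (hallc E hEo)
  have hBc : Topology.IsConstructible B := by
    rw [hB]; exact hcons Eᶜ (hallc Eᶜ hEc.isOpen_compl)
  have hAB : A ∩ B = ∅ := by
    have h1 : (A ∩ B)ᶜ = Set.univ := by
      apply Groth.Agent.S14645.H5S14645.univ_of_closedPoints (hAc.inter hBc).compl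
      intro z hz hzAB
      obtain ⟨hzA, hzB⟩ := hzAB
      rw [hA] at hzA
      rw [hB] at hzB
      obtain ⟨g₀, hg₀E, hg₀⟩ := hzA
      obtain ⟨g₁, hg₁E, hg₁⟩ := hzB
      obtain ⟨g, hgE, hgc, hgz⟩ := hclpt E hEc z hz ⟨g₀, hg₀E, hg₀⟩
      obtain ⟨g', hg'E, hg'c, hg'z⟩ := hclpt Eᶜ hEo.isClosed_compl z hz ⟨g₁, hg₁E, hg₁⟩
      have h2 := hsame g g' hgc hg'c (hgz.trans hg'z.symm)
      rw [← connectedComponent_eq hgE] at h2
      exact hg'E h2
    rw [← Set.compl_univ, ← h1, compl_compl]
  have hAuB : A ∪ B = Set.univ := by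
    rw [hA, hB, ← Set.image_union, Set.union_compl_self, Set.image_univ, Set.range_eq_univ.2 hπs]
  have hpilg : ∀ (c : 𝟙_ (Over (Spec (CommRingCat.of k))) ⟶ G) (g : G.left),
      π.left.base ((Lg c).left.base g) = (Rx a c).left.base (π.left.base g) := by
    rw [hπ]; exact pi_lg a x₀
  have heE : e ∈ E := mem_connectedComponent
  -- E(k) is a subgroup
  have hEinv : ∀ c : 𝟙_ (Over (Spec (CommRingCat.of k))) ⟶ G, c.left.base pt ∈ E →
      c⁻¹.left.base pt ∈ E := by
    intro c hc
    have h1 : e ∈ (Lg c).left.base '' E := by rw [hEk c hc]; exact heE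
    obtain ⟨g, hgE, hg⟩ := h1
    have h2 : (Lg c⁻¹).left.base e = g := by rw [← hg]; exact lg_inv_left c g
    have h3 : (Lg c⁻¹).left.base e = c⁻¹.left.base pt := by
      rw [he, ← one_eq_eta, lg_pt, _root_.mul_one]
    rw [← h3, h2]; exact hgE
  have hEmul : ∀ c d : 𝟙_ (Over (Spec (CommRingCat.of k))) ⟶ G, c.left.base pt ∈ E →
      d.left.base pt ∈ E → (c * d).left.base pt ∈ E := by
    intro c d hc hd
    rw [← lg_pt, ← hEk c hc]
    exact ⟨_, hd, rfl⟩
  -- translation invariance of A
  have hrxA : ∀ c : 𝟙_ (Over (Spec (CommRingCat.of k))) ⟶ G, c.left.base pt ∈ E →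
      (Rx a c).left.base '' A ⊆ A := by
    intro c hc
    rw [hA]
    rintro _ ⟨_, ⟨g, hg, rfl⟩, rfl⟩
    rw [← hpilg c g]
    refine ⟨(Lg c).left.base g, ?_, rfl⟩
    rw [← hEk c hc]
    exact ⟨g, hg, rfl⟩
  have himpre : ∀ (c : 𝟙_ (Over (Spec (CommRingCat.of k))) ⟶ G) (M : Set X.left),
      (Rx a c).left.base '' M = (Rx a c⁻¹).left.base ⁻¹' M := by
    intro c M
    exact congrFun (Set.image_eq_preimage_of_inverse (rx_inv_left a c) (rx_inv_right a c)) M
  have hrxopen : ∀ (c : 𝟙_ (Over (Spec (CommRingCat.of k))) ⟶ G) (M : Set X.left),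
      IsOpen M → IsOpen ((Rx a c).left.base '' M) := by
    intro c M hM
    rw [himpre]
    exact hM.preimage (Rx a c⁻¹).left.continuous
  -- every component's image is a translate of A
  have hcompE : ∀ g : G.left, ∃ c : 𝟙_ (Over (Spec (CommRingCat.of k))) ⟶ G,
      π.left.base '' connectedComponent g = (Rx a c).left.base '' A := by
    intro g
    obtain ⟨g₁, hg₁, hg₁c⟩ := nonempty_inter_closedPoints (Z := connectedComponent g)
      ⟨g, mem_connectedComponent⟩ isClosed_connectedComponent.isLocallyClosed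
    obtain ⟨c, hc⟩ := kpt_of_closed g₁ hg₁c
    refine ⟨c, ?_⟩
    have hcomp : connectedComponent g = (Lg c).left.base '' E := by
      rw [hE, he, lg_image_comp c pt, hc pt]
      exact connectedComponent_eq hg₁
    rw [hcomp, hA, Set.image_image, Set.image_image]
    exact Set.image_congr (fun z _ => hpilg c z)
  -- interior of A is nonempty
  have hVne : (interior A).Nonempty := by
    obtain ⟨x1⟩ : Nonempty X.left := inferInstance
    obtain ⟨o, ho, hone, hoZ⟩ :=
      NoetherianSpace.exists_isOpen_nonempty_subset_irreducibleComponent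
        (irreducibleComponent x1) (irreducibleComponent_mem_irreducibleComponents x1)
    have hoirr : IsIrreducible o :=
      ⟨hone, (isIrreducible_irreducibleComponent).isPreirreducible.open_subset ho hoZ⟩
    have hξ : IsGenericPoint hoirr.genericPoint (closure o) :=
      hoirr.isGenericPoint_genericPoint_closure
    obtain ⟨g, hg⟩ := hπs hoirr.genericPoint
    obtain ⟨c, hc⟩ := hcompE g
    have hA₁c : Topology.IsConstructible (π.left.base '' connectedComponent g) :=
      hcons _ (hallc _ (Groth.Agent.H4Top.isOpen_connectedComponent_of_noetherian g))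
    have hξA₁ : hoirr.genericPoint ∈ π.left.base '' connectedComponent g :=
      ⟨g, mem_connectedComponent, hg⟩
    rcases cons_dichotomy ho hoirr hA₁c with ⟨V, hV1, hV2, hV3, hV4⟩ | ⟨V, hV1, hV2, hV3, hV4⟩
    · obtain ⟨v, hv⟩ := hV2
      refine ⟨(Rx a c⁻¹).left.base v, ?_⟩
      have hWo : IsOpen ((Rx a c).left.base ⁻¹' V) := hV1.preimage (Rx a c).left.continuous
      have hWA : (Rx a c).left.base ⁻¹' V ⊆ A := by
        intro w hw
        have h1 : (Rx a c).left.base w ∈ (Rx a c).left.base '' A := by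
          rw [← hc]; exact hV4 hw
        obtain ⟨a', ha', h2⟩ := h1
        have h3 : a' = w := by
          rw [← rx_inv_left a c a', h2, rx_inv_left a c w]
        rwa [← h3]
      apply interior_maximal hWA hWo
      show (Rx a c).left.base ((Rx a c⁻¹).left.base v) ∈ V
      rw [rx_inv_right]; exact hv
    · have h1 : hoirr.genericPoint ∈ V := by
        rw [hξ.mem_open_set_iff hV1]
        obtain ⟨v, hv⟩ := hV2
        exact ⟨v, subset_closure (hV3 hv), hv⟩
      exact absurd hξA₁ (hV4 h1)
  -- interior of A is stable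
  have hVst : ∀ c : 𝟙_ (Over (Spec (CommRingCat.of k))) ⟶ G, c.left.base pt ∈ E →
      (Rx a c).left.base '' interior A ⊆ interior A := by
    intro c hc
    apply interior_maximal _ (hrxopen c _ isOpen_interior)
    exact (Set.image_mono interior_subset).trans (hrxA c hc)
  -- A is open
  have hAo : IsOpen A := by
    obtain ⟨v, hvV, hvc⟩ := nonempty_inter_closedPoints (Z := interior A) hVne
      isOpen_interior.isLocallyClosed
    have hvA : v ∈ A := interior_subset hvV
    have h1 : (A \ interior A)ᶜ = Set.univ := by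
      apply Groth.Agent.S14645.H5S14645.univ_of_closedPoints
        (hAc.sdiff (hallcX _ isOpen_interior)).compl
      intro u hu huAV
      obtain ⟨huA, huV⟩ := huAV
      apply huV
      rw [hA] at huA hvA
      obtain ⟨g, hgE, hgc, hgu⟩ := hclpt E hEc u hu huA
      obtain ⟨g', hg'E, hg'c, hg'v⟩ := hclpt E hEc v hvc hvA
      obtain ⟨cg, hcg⟩ := kpt_of_closed g hgc
      obtain ⟨cg', hcg'⟩ := kpt_of_closed g' hg'c
      have hcE : (cg * cg'⁻¹).left.base pt ∈ E := by
        apply hEmul
        · rw [hcg]; exact hgE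
        · apply hEinv; rw [hcg']; exact hg'E
      have h2 : (Rx a (cg * cg'⁻¹)).left.base v = u := by
        rw [← hg'v, ← hpilg, ← hcg' pt, lg_pt, inv_mul_cancel_right, hcg pt, hgu]
      rw [← h2]
      exact hVst _ hcE ⟨v, hvV, rfl⟩
    have h2 : A ⊆ interior A := by
      intro z hz
      by_contra hzV
      have : z ∈ (A \ interior A)ᶜ := by rw [h1]; trivial
      exact this ⟨hz, hzV⟩
    exact subset_interior_iff_isOpen.1 h2
  -- B is open
  have hBo : IsOpen B := by
    rw [isOpen_iff_forall_mem_open]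
    intro b hb
    rw [hB] at hb
    obtain ⟨g, hgE, hgb⟩ := hb
    obtain ⟨c, hc⟩ := hcompE g
    refine ⟨π.left.base '' connectedComponent g, ?_, ?_, ⟨g, mem_connectedComponent, hgb⟩⟩
    · rw [hB]
      apply Set.image_mono
      intro z hz hzE
      apply hgE
      have h1 : connectedComponent g = connectedComponent z := connectedComponent_eq hz
      have h2 : E = connectedComponent z := connectedComponent_eq hzE
      rw [h2, ← h1]; exact mem_connectedComponent
    · rw [hc]; exact hrxopen c A hAo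
  -- conclusion
  have hAcl : IsClosed A := by
    have : A = Bᶜ := by
      ext z
      constructor
      · intro hz hzB
        have : z ∈ A ∩ B := ⟨hz, hzB⟩
        rw [hAB] at this; exact this
      · intro hz
        have : z ∈ A ∪ B := by rw [hAuB]; trivial
        rcases this with h | h
        · exact h
        · exact absurd h hz
    rw [this]; exact hBo.isClosed_compl
  have hAuniv : A = Set.univ := by
    rcases isClopen_iff.1 (⟨hAcl, hAo⟩ : IsClopen A) with h | h
    · exfalso
      have : π.left.base e ∈ A := by rw [hA]; exact ⟨e, heE, rfl⟩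
      rw [h] at this; exact this
    · exact h
  have hEuniv : E = Set.univ := by
    rw [Set.eq_univ_iff_forall]
    intro g
    by_contra hg
    have h1 : π.left.base g ∈ B := by rw [hB]; exact ⟨g, hg, rfl⟩
    have h2 : π.left.base g ∈ A ∩ B := ⟨by rw [hAuniv]; trivial, h1⟩
    rw [hAB] at h2; exact h2
  exact connectedSpace_iff_connectedComponent.2 ⟨e, hEuniv⟩

end H5S15598

/-- Let k be an algebraically closed field, G a k-group scheme of finite type, and X a smooth connected
k-scheme with an action of G. Suppose that for some k-point x₀ of X the orbit map g ↦ g · x₀ from G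
to X is surjective, and that the stabilizer of x₀, a subgroup scheme H ⟶ G whose points are exactly
the points g of G with g · x₀ = x₀, is connected. Then G is connected. (Stated over an algebraically
closed field, to which the general case reduces since a k-group scheme of finite type is connected
exactly when it is geometrically connected.) -/
theorem result (k : Type u) [Field k] [IsAlgClosed k]
    (G X : Over (Spec (CommRingCat.of k))) [GrpObj G] [LocallyOfFiniteType G.hom] [QuasiCompact G.hom]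
    [Smooth X.hom] [ConnectedSpace ↥X.left] (a : AlgGrp.Action G X) (x₀ : 𝟙_ (Over (Spec (CommRingCat.of k))) ⟶ X)
    (hsurj : Surjective (a.orbitMap x₀).left)
    (H : Over (Spec (CommRingCat.of k))) [GrpObj H] (i : H ⟶ G) [IsMonHom i] [Mono i]
    (hH : ∀ (T : Over (Spec (CommRingCat.of k))) (g : T ⟶ G), (∃ h : T ⟶ H, h ≫ i = g) ↔ g ≫ a.orbitMap x₀ = toUnit T ≫ x₀)
    [ConnectedSpace ↥H.left] : ConnectedSpace ↥G.left := by
  haveI : LocallyOfFiniteType X.hom := inferInstance
  exact H5S15598.main k G X a x₀ hsurj H i hH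

end Groth.Agent.S15598
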