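import Groth.Statements.S3024
import Mathlib
import Groth.Agent.S18825
import Groth.Agent.Lib.helper7.StalkBC
-- import your own Groth.Agent.* helpers here

set_option autoImplicit false
universe u
open CategoryTheory MonoidalCategory CartesianMonoidalCategory MonObj GrpObj AlgebraicGeometry TensorProduct
open SGA3

namespace Groth.Agent.S3024

open CategoryTheory MonoidalCategory CartesianMonoidalCategory MonObj GrpObj AlgebraicGeometry CategoryTheory.Limits

namespace H5S3024

theorem mem_range_of_maximal {X Y : Scheme.{u}} (f : X ⟶ Y) [IsSchemeTheoreticallyDominant f]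
    [QuasiCompact f] (y : Y) (hy : ∀ y', y' ⤳ y → y' = y) : y ∈ Set.range f := by
  haveI : Flat (Y.fromSpecStalk y) := Groth.Agent.Lib.helper7.StalkBC.flat_fromSpecStalk Y y
  haveI : IsSchemeTheoreticallyDominant (pullback.snd f (Y.fromSpecStalk y)) := inferInstance
  haveI : QuasiCompact (pullback.snd f (Y.fromSpecStalk y)) := inferInstance
  have hd : DenseRange (pullback.snd f (Y.fromSpecStalk y)) :=
    (pullback.snd f (Y.fromSpecStalk y)).denseRange
  haveI : Nonempty (Spec (Y.presheaf.stalk y)) := inferInstance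
  obtain ⟨z⟩ := hd.nonempty
  refine ⟨pullback.fst f _ z, ?_⟩
  have h1 : f (pullback.fst f _ z) = Y.fromSpecStalk y (pullback.snd f _ z) := by
    rw [← Scheme.Hom.comp_apply, pullback.condition, Scheme.Hom.comp_apply]
  rw [h1]
  apply hy
  have : Y.fromSpecStalk y (pullback.snd f _ z) ∈ Set.range (Y.fromSpecStalk y) := ⟨_, rfl⟩
  rwa [Scheme.range_fromSpecStalk] at this

theorem exists_maximal_point (Y : Scheme.{u}) [Nonempty Y] : ∃ gp : Y, ∀ y', y' ⤳ gp → y' = gp := by
  obtain ⟨y₀⟩ := ‹Nonempty Y›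
  have hirr := isIrreducible_irreducibleComponent (x := y₀)
  have hcl := isClosed_irreducibleComponent (x := y₀)
  obtain ⟨gp, hη⟩ := QuasiSober.sober hirr hcl
  refine ⟨gp, fun y' hy' => ?_⟩
  have h1 : irreducibleComponent y₀ ⊆ closure {y'} := by
    rw [← hη.def]
    exact specializes_iff_closure_subset.1 hy'
  have hmem := irreducibleComponent_mem_irreducibleComponents y₀
  have h2 : closure {y'} = irreducibleComponent y₀ :=
    (hmem.2 (isIrreducible_singleton.closure) h1).antisymm h1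
  exact IsGenericPoint.eq (h2 : IsGenericPoint y' _) hη


open Groth.Agent.S18825.H5S18825 in
theorem surj_of_sd (K : Type u) [Field K] (H G : Over (Spec (CommRingCat.of K)))
    [GrpObj H] [GrpObj G] (ψ : H ⟶ G) [IsMonHom ψ] [IsSchemeTheoreticallyDominant ψ.left]
    [QuasiCompact ψ.left] : Function.Surjective ψ.left := by
  intro x
  let T : Over (Spec (CommRingCat.of K)) := Over.mk (G.left.fromSpecResidueField x ≫ G.hom)
  let xt : T ⟶ G := Over.homMk (G.left.fromSpecResidueField x) rfl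
  let ψ' : T ⊗ G ⟶ G := (fst T G ≫ xt)⁻¹ * (snd T G)
  let τ : T ⊗ G ⟶ T ⊗ G := lift (fst T G) ((fst T G ≫ xt) * snd T G)
  let σ : T ⊗ G ⟶ T ⊗ G := lift (fst T G) ψ'
  let Γ : T ⊗ G ⟶ G ⊗ G := lift ψ' (snd T G)
  let qG : G ⊗ G ⟶ G := (snd G G) * (fst G G)⁻¹
  let qH : H ⊗ H ⟶ H := (snd H H) * (fst H H)⁻¹
  have hτ : τ ≫ ψ' = snd T G := by
    simp [τ, ψ', MonObj.comp_mul, GrpObj.comp_inv]
  have hτσ : τ ≫ σ = 𝟙 _ := by
    apply CartesianMonoidalCategory.hom_ext
    · simp [τ, σ]
    · simp [τ, σ, ψ', MonObj.comp_mul, GrpObj.comp_inv]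
  have hστ : σ ≫ τ = 𝟙 _ := by
    apply CartesianMonoidalCategory.hom_ext
    · simp [τ, σ]
    · simp [τ, σ, ψ', MonObj.comp_mul, GrpObj.comp_inv]
  haveI : IsIso τ := ⟨σ, hτσ, hστ⟩
  have hΓq : Γ ≫ qG = fst T G ≫ xt := by
    simp [Γ, qG, ψ', MonObj.comp_mul, GrpObj.comp_inv]
  have hψq : (ψ ⊗ₘ ψ) ≫ qG = qH ≫ ψ := by
    simp [qG, qH, MonObj.comp_mul, GrpObj.comp_inv, MonObj.mul_comp, GrpObj.inv_comp]
  -- a maximal point of T ⊗ G
  haveI : Nonempty (T ⊗ G).left :=
    ⟨(lift (𝟙 T) xt).left (IsLocalRing.closedPoint (G.left.residueField x))⟩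
  obtain ⟨w, hwmax⟩ := exists_maximal_point (T ⊗ G).left
  haveI := (sd_whiskerLeft ψ T).1
  haveI := (sd_whiskerLeft ψ T).2
  haveI : IsIso τ.left := inferInstanceAs (IsIso ((Over.forget _).map τ))
  haveI : IsSchemeTheoreticallyDominant ((T ◁ ψ) ≫ τ).left := by
    rw [Over.comp_left]; infer_instance
  haveI : QuasiCompact ((T ◁ ψ) ≫ τ).left := by
    rw [Over.comp_left]; infer_instance
  obtain ⟨v₂, hv₂⟩ := mem_range_of_maximal (T ◁ ψ).left w hwmax
  obtain ⟨v₁, hv₁⟩ := mem_range_of_maximal ((T ◁ ψ) ≫ τ).left w hwmax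
  have hwN2 : (snd T G).left w ∈ Set.range ψ.left := by
    refine ⟨(snd T H).left v₂, ?_⟩
    rw [← hv₂, ← Scheme.Hom.comp_apply, ← Scheme.Hom.comp_apply, ← Over.comp_left,
      ← Over.comp_left, whiskerLeft_snd]
  have hwN1 : ψ'.left w ∈ Set.range ψ.left := by
    refine ⟨(snd T H).left v₁, ?_⟩
    rw [← hv₁, ← Scheme.Hom.comp_apply, ← Scheme.Hom.comp_apply, ← Over.comp_left,
      ← Over.comp_left, Category.assoc, hτ, whiskerLeft_snd]
  have hΓfst : Γ ≫ fst G G = ψ' := by simp [Γ]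
  have hΓsnd : Γ ≫ snd G G = snd T G := by simp [Γ]
  have hrange : Γ.left w ∈ Set.range (ψ ⊗ₘ ψ).left := by
    rw [Over.tensorHom_left, Scheme.Pullback.range_map]
    refine ⟨?_, ?_⟩
    · show (fst G G).left (Γ.left w) ∈ Set.range ψ.left
      rw [← Scheme.Hom.comp_apply, ← Over.comp_left, hΓfst]
      exact hwN1
    · show (snd G G).left (Γ.left w) ∈ Set.range ψ.left
      rw [← Scheme.Hom.comp_apply, ← Over.comp_left, hΓsnd]
      exact hwN2
  obtain ⟨v, hv⟩ := hrange
  have hxw : (fst T G ≫ xt).left w = x := by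
    rw [Over.comp_left, Scheme.Hom.comp_apply]
    exact Scheme.fromSpecResidueField_apply _ _
  refine ⟨qH.left v, ?_⟩
  rw [← Scheme.Hom.comp_apply, ← Over.comp_left, ← hψq, Over.comp_left, Scheme.Hom.comp_apply, hv,
    ← Scheme.Hom.comp_apply, ← Over.comp_left, hΓq, hxw]


theorem sd_toImage {X Y : Scheme.{u}} (f : X ⟶ Y) [QuasiCompact f] :
    IsSchemeTheoreticallyDominant f.toImage := by
  rw [isSchemeTheoreticallyDominant_iff]
  refine Scheme.IdealSheafData.ext_of_iSup_eq_top
    (fun U : Y.affineOpens ↦ ⟨f.imageι ⁻¹ᵁ U.1, U.2.preimage f.imageι⟩) ?_ ?_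
  · simp only
    rw [← Scheme.Hom.preimage_iSup, iSup_affineOpens_eq_top Y]
    rfl
  · intro U
    rw [Scheme.Hom.ker_apply, Scheme.IdealSheafData.ideal_bot]
    exact (RingHom.injective_iff_ker_eq_bot _).1 (f.toImage_app_injective U)

open Groth.Agent.S18825.H5S18825 in
theorem main (k : Type u) [Field k] (H G : Over (Spec (CommRingCat.of k))) [GrpObj H] [GrpObj G]
    (f : H ⟶ G) [IsMonHom f] [QuasiCompact f.left] :
    ∃ (H' : Over (Spec (CommRingCat.of k))) (_ : GrpObj H') (i : H' ⟶ G) (f' : H ⟶ H'),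
      IsMonHom i ∧ IsMonHom f' ∧ f' ≫ i = f ∧ IsClosedImmersion i.left ∧
      f'.left.ker = ⊥ ∧ QuasiCompact f'.left ∧ Surjective f'.left := by
  obtain ⟨K, i, g, hgi, hi, hsd, hqc⟩ : ∃ (K : Over (Spec (CommRingCat.of k))) (i : K ⟶ G)
      (g : H ⟶ K), g ≫ i = f ∧ IsClosedImmersion i.left ∧
        IsSchemeTheoreticallyDominant g.left ∧ QuasiCompact g.left := by
    refine ⟨Over.mk (f.left.imageι ≫ G.hom), Over.homMk f.left.imageι rfl,
      Over.homMk f.left.toImage ?_, ?_, ?_, ?_, ?_⟩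
    · simp only [Over.mk_hom]
      rw [Scheme.Hom.toImage_imageι_assoc, Over.w]
    · apply Over.OverMorphism.ext
      simp only [Over.comp_left, Over.homMk_left]
      exact f.left.toImage_imageι
    · simp only [Over.homMk_left]; infer_instance
    · simp only [Over.homMk_left]; exact sd_toImage f.left
    · simp only [Over.homMk_left]; infer_instance
  letI : GrpObj K := grpK f i g hgi
  haveI : IsMonHom i := ⟨one_compat f i g hgi, mulK_spec f i g hgi⟩
  haveI : Mono i.left := inferInstance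
  haveI : Mono i := Over.mono_of_mono_left i
  haveI : IsMonHom g := ⟨rfl, by
    rw [← cancel_mono i, mul_compat f i g hgi, Category.assoc]
    congr 1
    exact (mulK_spec f i g hgi).symm⟩
  exact ⟨K, inferInstance, i, g, inferInstance, inferInstance, hgi, hi, g.left.ker_eq_bot, hqc,
    ⟨surj_of_sd k H K g⟩⟩

end H5S3024

/-- Let f : H → G be a quasi-compact homomorphism of group schemes over a field k. Then f factors as a
homomorphism f' : H → H' followed by a homomorphism i : H' → G which is a closed immersion (H' is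
the schematic image of f, a closed subgroup scheme of G), with f' schematically dominant,
quasi-compact and surjective. -/
theorem result (k : Type u) [Field k] (H G : Over (Spec (CommRingCat.of k))) [GrpObj H] [GrpObj G]
    (f : H ⟶ G) [IsMonHom f] [QuasiCompact f.left] :
    ∃ (H' : Over (Spec (CommRingCat.of k))) (_ : GrpObj H') (i : H' ⟶ G) (f' : H ⟶ H'),
      IsMonHom i ∧ IsMonHom f' ∧ f' ≫ i = f ∧ IsClosedImmersion i.left ∧
      f'.left.ker = ⊥ ∧ QuasiCompact f'.left ∧ Surjective f'.left := by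
  exact H5S3024.main k H G f

end Groth.Agent.S3024
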