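import Groth.Statements.S15604
import Mathlib
import Groth.Agent.S3024
import Groth.Agent.Lib.helper15.EtaleRedStalk
-- import your own Groth.Agent.* helpers here

set_option autoImplicit false
universe u
open CategoryTheory MonoidalCategory CartesianMonoidalCategory MonObj GrpObj AlgebraicGeometry
open AlgGrp

namespace Groth.Agent.S15604

open CategoryTheory MonoidalCategory CartesianMonoidalCategory MonObj GrpObj AlgebraicGeometry CategoryTheory.Limits

namespace H5S15604

theorem isReduced_of_smooth_field {L : Type u} [Field L] {X : Scheme.{u}}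
    (a : X ⟶ Spec (CommRingCat.of L)) [Smooth a] : IsReduced X := by
  haveI : ∀ x : X, _root_.IsReduced (X.presheaf.stalk x) := fun x =>
    Groth.Agent.Lib.H15.isReduced_stalk_of_smooth a x inferInstance
  exact isReduced_of_isReduced_stalk X

theorem main (k : Type u) [Field k] (G G' : Over (Spec (CommRingCat.of k))) [GrpObj G] [GrpObj G']
    [Smooth G.hom] [QuasiCompact G.hom] [LocallyOfFiniteType G'.hom]
    (f : G ⟶ G') [IsMonHom f] (H : Scheme.{u}) (i : H ⟶ G'.left) [IsClosedImmersion i]
    [IsReduced H] (hH : Set.range i.base = Set.range f.left.base) : Smooth (i ≫ G'.hom) := by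
  haveI : IsLocallyNoetherian G'.left := LocallyOfFiniteType.isLocallyNoetherian G'.hom
  haveI : QuasiCompact f.left := by
    haveI : QuasiCompact (f.left ≫ G'.hom) := by rw [Over.w]; infer_instance
    exact QuasiCompact.of_comp f.left G'.hom
  obtain ⟨K, hK, iK, g, hiK, hg, hgi, hcl, hker, hqc, hsurj⟩ := Groth.Agent.S3024.H5S3024.main k G G' f
  haveI : IsSchemeTheoreticallyDominant g.left := ⟨hker⟩
  haveI : LocallyOfFiniteType K.hom := by rw [← Over.w iK]; infer_instance
  haveI : IsReduced G.left := isReduced_of_smooth_field G.hom
  haveI : IsReduced K.left := IsSchemeTheoreticallyDominant.isReduced g.left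
  haveI : GeometricallyReduced K.hom := by
    constructor
    intro L _ y Z fst snd hpb
    have sq1 := IsPullback.of_hasPullback g.left fst
    haveI : Flat y := inferInstance
    haveI : Flat fst := MorphismProperty.of_isPullback (P := @Flat) hpb.flip inferInstance
    haveI : IsSchemeTheoreticallyDominant (pullback.snd g.left fst) :=
      IsSchemeTheoreticallyDominant.of_isPullback sq1
    haveI : QuasiCompact (pullback.snd g.left fst) := inferInstance
    have sq2 := sq1.paste_vert hpb
    rw [Over.w g] at sq2
    haveI : Smooth (pullback.snd g.left fst ≫ snd) :=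
      MorphismProperty.of_isPullback (P := @Smooth) sq2 inferInstance
    haveI : IsReduced (pullback g.left fst) := isReduced_of_smooth_field (pullback.snd g.left fst ≫ snd)
    exact IsSchemeTheoreticallyDominant.isReduced (pullback.snd g.left fst)
  haveI : GrpObj (Over.mk K.hom) := hK
  haveI : Smooth K.hom := smooth_of_grpObj K.hom
  -- the iso H ≅ K.left
  have hr : Set.range i = Set.range iK.left := by
    have e1 : Set.range i = Set.range f.left := hH
    rw [e1, ← hgi, Over.comp_left]
    ext z
    constructor
    · rintro ⟨x, rfl⟩
      exact ⟨g.left x, by simp⟩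
    · rintro ⟨y, rfl⟩
      obtain ⟨x, rfl⟩ := hsurj.surj y
      exact ⟨x, by simp⟩
  haveI : Surjective (pullback.fst i iK.left) := by
    constructor
    intro h
    obtain ⟨y, hy⟩ : i h ∈ Set.range iK.left := hr ▸ ⟨h, rfl⟩
    obtain ⟨z, hz1, hz2⟩ := Scheme.Pullback.exists_preimage_pullback h y hy.symm
    exact ⟨z, hz1⟩
  haveI : Surjective (pullback.snd i iK.left) := by
    constructor
    intro y
    obtain ⟨h, hh⟩ : iK.left y ∈ Set.range i := hr ▸ ⟨y, rfl⟩
    obtain ⟨z, hz1, hz2⟩ := Scheme.Pullback.exists_preimage_pullback h y hh
    exact ⟨z, hz2⟩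
  haveI : IsIso (pullback.fst i iK.left) := isIso_of_isClosedImmersion_of_surjective _
  haveI : IsIso (pullback.snd i iK.left) := isIso_of_isClosedImmersion_of_surjective _
  have e : i ≫ G'.hom = inv (pullback.fst i iK.left) ≫ pullback.snd i iK.left ≫ K.hom := by
    rw [IsIso.eq_inv_comp, ← Category.assoc, pullback.condition, Category.assoc, Over.w]
  rw [e]
  infer_instance

end H5S15604

/-- Let k be a field and f : G ⟶ G' a homomorphism of k-group schemes of finite type, with G smooth over
k. The image of f is closed (not asserted here); with its reduced induced structure it is smooth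
over k: every reduced closed subscheme H of G' whose underlying set is the set-theoretic image of f
is smooth over k. -/
theorem result (k : Type u) [Field k]
    (G G' : Over (Spec (CommRingCat.of k))) [GrpObj G] [GrpObj G'] [Smooth G.hom] [QuasiCompact G.hom]
    [LocallyOfFiniteType G'.hom] [QuasiCompact G'.hom] (f : G ⟶ G') [IsMonHom f]
    (H : Scheme.{u}) (i : H ⟶ G'.left) [IsClosedImmersion i] [IsReduced H]
    (hH : Set.range i.base = Set.range f.left.base) : Smooth (i ≫ G'.hom) := by
  exact H5S15604.main k G G' f H i hH

end Groth.Agent.S15604
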