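import Groth.Statements.S15605
import Mathlib

set_option autoImplicit false
universe u
open TensorProduct
open AGF

namespace Groth.Agent.S15605

/-- Affine form. Let k be a field, A and A' finitely generated commutative k-algebras and S, S' sets of
k-algebra homomorphisms A → k, A' → k. The closure of a set of rational points of Spec A is cut out
by the intersection of their kernels. Compatibility of these closures with products: in A ⊗_k A',
the intersection over (σ, σ') ∈ S × S' of the kernels of σ ⊗ σ' : A ⊗_k A' → k equals the ideal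
generated by the images of ⋂_{σ} ker σ and of ⋂_{σ'} ker σ'. -/
theorem result (k A A' : Type u) [Field k] [CommRing A] [Algebra k A]
    [Algebra.FiniteType k A] [CommRing A'] [Algebra k A'] [Algebra.FiniteType k A']
    (S : Set (A →ₐ[k] k)) (S' : Set (A' →ₐ[k] k)) :
    (⨅ σ ∈ S, ⨅ σ' ∈ S', RingHom.ker ((Algebra.TensorProduct.lmul' (S := k) k).comp
        (Algebra.TensorProduct.map σ σ'))) =
      Ideal.map (Algebra.TensorProduct.includeLeft : A →ₐ[k] A ⊗[k] A') (⨅ σ ∈ S, RingHom.ker σ) ⊔
        Ideal.map (Algebra.TensorProduct.includeRight : A' →ₐ[k] A ⊗[k] A') (⨅ σ' ∈ S', RingHom.ker σ') := by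
  classical
  -- evaluation maps `id ⊗ σ'`
  let ev : (A' →ₐ[k] k) → (A ⊗[k] A' →ₗ[k] A) := fun σ' =>
    (TensorProduct.rid k A).toLinearMap ∘ₗ (σ'.toLinearMap.lTensor A)
  have hev : ∀ (σ' : A' →ₐ[k] k) (a : A) (a' : A'), ev σ' (a ⊗ₜ[k] a') = σ' a' • a := by
    intro σ' a a'
    simp [ev]
  have hcomp : ∀ (σ : A →ₐ[k] k) (σ' : A' →ₐ[k] k) (x : A ⊗[k] A'),
      σ (ev σ' x) = ((Algebra.TensorProduct.lmul' (S := k) k).comp
        (Algebra.TensorProduct.map σ σ')) x := by
    intro σ σ' x
    induction x using TensorProduct.induction_on with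
    | zero => simp
    | tmul a a' => simp [hev, mul_comm]
    | add x y hx hy => simp only [map_add, hx, hy]
  apply le_antisymm
  · intro x hx
    simp only [Ideal.mem_iInf, RingHom.mem_ker] at hx
    -- a projection onto `I`
    obtain ⟨g, hg⟩ := LinearMap.exists_leftInverse_of_injective
      ((⨅ σ ∈ S, RingHom.ker σ : Ideal A).restrictScalars k).subtype
      (Submodule.ker_subtype _)
    let pI : A →ₗ[k] A := ((⨅ σ ∈ S, RingHom.ker σ : Ideal A).restrictScalars k).subtype ∘ₗ g
    have hpI : ∀ a, pI a ∈ (⨅ σ ∈ S, RingHom.ker σ : Ideal A) := fun a => (g a).2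
    have hpI' : ∀ a ∈ (⨅ σ ∈ S, RingHom.ker σ : Ideal A), pI a = a := by
      intro a ha
      have := congrArg (fun f => (f ⟨a, ha⟩ : A)) hg
      exact this
    let pC : A →ₗ[k] A := LinearMap.id - pI
    have hpC : ∀ a, pC a = a - pI a := fun a => rfl
    have hx_split : x = (pI.rTensor A') x + (pC.rTensor A') x := by
      rw [← LinearMap.add_apply, ← LinearMap.rTensor_add, add_sub_cancel,
        LinearMap.rTensor_id, LinearMap.id_apply]
    rw [hx_split]
    apply Ideal.add_mem
    · apply Ideal.mem_sup_left
      have : ∀ z : A ⊗[k] A', (pI.rTensor A') z ∈ Ideal.map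
          (Algebra.TensorProduct.includeLeft : A →ₐ[k] A ⊗[k] A') (⨅ σ ∈ S, RingHom.ker σ) := by
        intro z
        induction z using TensorProduct.induction_on with
        | zero => simp
        | tmul a a' =>
          rw [LinearMap.rTensor_tmul]
          have : pI a ⊗ₜ[k] a' = (Algebra.TensorProduct.includeLeft : A →ₐ[k] A ⊗[k] A') (pI a) *
              ((1 : A) ⊗ₜ[k] a') := by simp
          rw [this]
          exact Ideal.mul_mem_right _ _ (Ideal.mem_map_of_mem _ (hpI a))
        | add x y hx hy => rw [map_add]; exact Ideal.add_mem _ hx hy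
      exact this x
    · apply Ideal.mem_sup_right
      set y := (pC.rTensor A') x with hy
      -- `(id ⊗ σ') y = 0`
      have hevy : ∀ σ' ∈ S', ev σ' y = 0 := by
        intro σ' hσ'
        have h1 : ∀ z : A ⊗[k] A', ev σ' ((pC.rTensor A') z) = pC (ev σ' z) := by
          intro z
          induction z using TensorProduct.induction_on with
          | zero => simp
          | tmul a a' => rw [LinearMap.rTensor_tmul, hev, hev, map_smul]
          | add x y hx hy => simp only [map_add, hx, hy]
        rw [hy, h1]
        have h2 : ev σ' x ∈ (⨅ σ ∈ S, RingHom.ker σ : Ideal A) := by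
          simp only [Ideal.mem_iInf, RingHom.mem_ker]
          intro σ hσ
          rw [hcomp]
          exact hx σ hσ σ' hσ'
        rw [hpC, hpI' _ h2, sub_self]
      -- expand `y` in a basis of `A`
      let ℬ := Module.Free.chooseBasis k A
      obtain ⟨c, hc⟩ := TensorProduct.eq_repr_basis_left (N := A') ℬ y
      have hcI : ∀ i, c i ∈ (⨅ σ' ∈ S', RingHom.ker σ' : Ideal A') := by
        intro i
        simp only [Ideal.mem_iInf, RingHom.mem_ker]
        intro σ' hσ'
        have h1 := hevy σ' hσ'
        rw [← hc, Finsupp.sum, map_sum] at h1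
        simp only [hev] at h1
        by_cases hi : i ∈ c.support
        · exact (linearIndependent_iff'.1 ℬ.linearIndependent) c.support (fun j => σ' (c j)) h1 i hi
        · rw [Finsupp.notMem_support_iff.1 hi, map_zero]
      rw [← hc, Finsupp.sum]
      refine Ideal.sum_mem _ fun i _ => ?_
      have : ℬ i ⊗ₜ[k] c i = (ℬ i ⊗ₜ[k] (1 : A')) *
          (Algebra.TensorProduct.includeRight : A' →ₐ[k] A ⊗[k] A') (c i) := by
        simp
      rw [this]
      exact Ideal.mul_mem_left _ _ (Ideal.mem_map_of_mem _ (hcI i))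
  · apply sup_le
    · rw [Ideal.map_le_iff_le_comap]
      intro a ha
      rw [Ideal.mem_comap]
      simp only [Ideal.mem_iInf, RingHom.mem_ker] at ha ⊢
      intro σ hσ σ' hσ'
      simp [ha σ hσ]
    · rw [Ideal.map_le_iff_le_comap]
      intro a ha
      rw [Ideal.mem_comap]
      simp only [Ideal.mem_iInf, RingHom.mem_ker] at ha ⊢
      intro σ hσ σ' hσ'
      simp [ha σ' hσ']

end Groth.Agent.S15605
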