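import Groth.Statements.S15610
import Mathlib

set_option autoImplicit false
universe u
open SchFin SchFin.RSpace

namespace Groth.Agent.S15610

open SchFin

theorem spec_conn_iff (R : Type u) [CommRing R] :
    ConnectedSpace (PrimeSpectrum R) ↔
      Nontrivial R ∧ ∀ e : R, IsIdempotentElem e → e = 0 ∨ e = 1 := by
  rw [connectedSpace_iff_clopen, PrimeSpectrum.nonempty_iff_nontrivial]
  constructor
  · rintro ⟨hn, h⟩
    refine ⟨hn, fun e he => ?_⟩
    have hc : IsClopen (PrimeSpectrum.basicOpen e : Set (PrimeSpectrum R)) :=
      PrimeSpectrum.isClopen_iff.2 ⟨e, he, rfl⟩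
    rcases h _ hc with h0 | h1
    · left
      apply PrimeSpectrum.basicOpen_injOn_isIdempotentElem he IsIdempotentElem.zero
      rw [PrimeSpectrum.basicOpen_zero]
      exact TopologicalSpace.Opens.ext h0
    · right
      apply PrimeSpectrum.basicOpen_injOn_isIdempotentElem he IsIdempotentElem.one
      rw [PrimeSpectrum.basicOpen_one]
      exact TopologicalSpace.Opens.ext h1
  · rintro ⟨hn, h⟩
    refine ⟨hn, fun s hs => ?_⟩
    obtain ⟨e, he, rfl⟩ := PrimeSpectrum.isClopen_iff.1 hs
    rcases h e he with rfl | rfl
    · left
      rw [PrimeSpectrum.basicOpen_zero]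
      rfl
    · right
      rw [PrimeSpectrum.basicOpen_one]
      rfl

open SchFin in
/-- A schematic finite space is well-connected (the prime spectrum of its ring of global sections is
connected and the prime spectrum of the ring of each point is connected) if and only if its poset of
points is non-empty and connected and the prime spectrum of the ring of each point is connected. -/
theorem result (X : RSpace.{u})
    (hX : X.IsSchematic) : X.IsWellConnected ↔ (X.IsTopConnected ∧ X.IsPwConnected) := by
  classical
  unfold RSpace.IsWellConnected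
  refine and_congr_left fun hpw => ?_
  have hnt : ∀ p : X.pt, Nontrivial (X.ring p) := fun p => ((spec_conn_iff _).1 (hpw p)).1
  have hid : ∀ (p : X.pt) (e : X.ring p), IsIdempotentElem e → e = 0 ∨ e = 1 :=
    fun p => ((spec_conn_iff _).1 (hpw p)).2
  unfold RSpace.IsConnected RSpace.IsTopConnected
  rw [spec_conn_iff]
  constructor
  · rintro ⟨hn, h⟩
    have hne : Nonempty X.pt := by
      by_contra hemp
      rw [not_nonempty_iff] at hemp
      obtain ⟨a, b, hab⟩ := hn
      apply hab
      apply Subtype.ext
      funext q
      exact (hemp.false q.1).elim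
    refine ⟨hne, fun p q => ?_⟩
    by_contra hpq
    have hcompat : ∀ (r r' : (Set.univ : Set X.pt)) (hr : r.1 ≤ r'.1),
        (Relation.EqvGen (fun a b : X.pt => a ≤ b) p r.1 ↔
          Relation.EqvGen (fun a b : X.pt => a ≤ b) p r'.1) := by
      intro r r' hr
      constructor
      · intro h1
        exact Relation.EqvGen.trans _ _ _ h1 (Relation.EqvGen.rel _ _ hr)
      · intro h1
        exact Relation.EqvGen.trans _ _ _ h1 (Relation.EqvGen.symm _ _ (Relation.EqvGen.rel _ _ hr))
    let e : X.sectRing Set.univ :=
      ⟨fun r => if Relation.EqvGen (fun a b : X.pt => a ≤ b) p r.1 then 1 else 0, by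
        intro r r' hr
        show X.res hr (if _ then 1 else 0) = if _ then 1 else 0
        by_cases h1 : Relation.EqvGen (fun a b : X.pt => a ≤ b) p r.1
        · rw [if_pos h1, if_pos ((hcompat r r' hr).1 h1), map_one]
        · rw [if_neg h1, if_neg (fun h2 => h1 ((hcompat r r' hr).2 h2)), map_zero]⟩
    have he : IsIdempotentElem e := by
      apply Subtype.ext
      funext r
      show (if _ then (1 : X.ring r.1) else 0) * (if _ then 1 else 0) = if _ then 1 else 0
      split_ifs <;> simp
    rcases h e he with h0 | h1
    · have h2 := congrArg (fun s : X.sectRing Set.univ => s.1 ⟨p, trivial⟩) h0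
      simp only [e] at h2
      rw [if_pos (Relation.EqvGen.refl _)] at h2
      exact one_ne_zero h2
    · have h2 := congrArg (fun s : X.sectRing Set.univ => s.1 ⟨q, trivial⟩) h1
      simp only [e] at h2
      rw [if_neg hpq] at h2
      exact zero_ne_one h2
  · rintro ⟨⟨p₀⟩, hconn⟩
    constructor
    · refine ⟨0, 1, fun h01 => ?_⟩
      have h2 := congrArg (fun s : X.sectRing Set.univ => s.1 ⟨p₀, trivial⟩) h01
      exact zero_ne_one h2
    · intro e he
      have hpt : ∀ r : (Set.univ : Set X.pt), e.1 r = 0 ∨ e.1 r = 1 := by
        intro r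
        apply hid
        have h2 := congrArg (fun s : X.sectRing Set.univ => s.1 r) he
        exact h2
      have hstep : ∀ a b : X.pt, a ≤ b → (e.1 ⟨a, trivial⟩ = 0 ↔ e.1 ⟨b, trivial⟩ = 0) := by
        intro a b hab
        have hres : X.res hab (e.1 ⟨a, trivial⟩) = e.1 ⟨b, trivial⟩ := e.2 ⟨a, trivial⟩ ⟨b, trivial⟩ hab
        constructor
        · intro h0
          rw [← hres, h0, map_zero]
        · intro h0
          rcases hpt ⟨a, trivial⟩ with h1 | h1
          · exact h1
          · exfalso
            rw [h1, map_one, h0] at hres
            exact one_ne_zero hres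
      have hall : ∀ a b : X.pt, Relation.EqvGen (fun a b : X.pt => a ≤ b) a b →
          (e.1 ⟨a, trivial⟩ = 0 ↔ e.1 ⟨b, trivial⟩ = 0) := by
        intro a b hab
        induction hab with
        | rel a b h => exact hstep a b h
        | refl a => exact Iff.rfl
        | symm a b _ ih => exact ih.symm
        | trans a b c _ _ ih1 ih2 => exact ih1.trans ih2
      rcases hpt ⟨p₀, trivial⟩ with h0 | h1
      · left
        apply Subtype.ext
        funext r
        exact (hall p₀ r.1 (hconn p₀ r.1)).1 h0
      · right
        apply Subtype.ext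
        funext r
        rcases hpt r with h2 | h2
        · exfalso
          have h3 := (hall p₀ r.1 (hconn p₀ r.1)).2 h2
          rw [h1] at h3
          exact one_ne_zero h3
        · exact h2

end Groth.Agent.S15610
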