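import Groth.Statements.S15613
import Mathlib
import Groth.Agent.S15611

set_option autoImplicit false
universe u
open SchFin SchFin.GeomPt

namespace Groth.Agent.S15613

open SchFin TensorProduct

/-- a ring map out of the ring of `x'` extending `toField`, from a prime lying over its kernel -/
theorem exists_extension {A B Ω : Type u} [CommRing A] [CommRing B] [Field Ω] (f : A →+* B)
    (t : A →+* Ω) (P : Ideal B) [P.IsPrime] (hP : P.comap f = RingHom.ker t)
    (hbij : Function.Bijective (Localization.localRingHom (P.comap f) P f rfl)) :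
    ∃ θ : B →+* Ω, θ.comp f = t := by
  let e := RingEquiv.ofBijective _ hbij
  have hunit : ∀ y : (P.comap f).primeCompl, IsUnit (t y) := by
    intro y
    rw [isUnit_iff_ne_zero]
    intro h0
    exact y.2 ((SetLike.ext_iff.1 hP (y : A)).2 h0)
  let ℓ : Localization.AtPrime (P.comap f) →+* Ω := IsLocalization.lift hunit
  refine ⟨ℓ.comp ((e.symm : _ →+* _).comp (algebraMap B (Localization.AtPrime P))), ?_⟩
  ext a
  simp only [RingHom.comp_apply]
  have h1 : algebraMap B (Localization.AtPrime P) (f a) =
      e (algebraMap A (Localization.AtPrime (P.comap f)) a) :=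
    (Localization.localRingHom_to_map (P.comap f) P f rfl a).symm
  rw [h1]
  simp only [RingHom.coe_coe, RingEquiv.symm_apply_apply]
  exact IsLocalization.lift_eq hunit a

open SchFin in
/-- For a geometric point of a schematic finite space with values in an algebraically closed field,
hitting the point x with ring map from the ring of x to the field, the kernel of that ring map does
not lift to any point strictly above x: no prime of the ring of such a point contracts to it along
the restriction map. -/
theorem result (X : RSpace.{u}) (hX : X.IsSchematic) {Ω : Type u} [Field Ω]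
    [IsAlgClosed Ω] (ξ : GeomPt X Ω) {x' : X.pt} (hx : ξ.base < x') (P : Ideal (X.ring x')) [P.IsPrime] :
    P.comap (X.res hx.le) ≠ RingHom.ker ξ.toField := by
  classical
  intro hcontra
  have hx' : ¬ x' ≤ ξ.base := fun hle => absurd (le_antisymm hx.le hle) hx.ne
  obtain ⟨θ, hθ⟩ := exists_extension (X.res hx.le) ξ.toField P hcontra
    (Groth.Agent.S15611.result X hX hx.le P)
  obtain ⟨_, _, hall⟩ := ξ.isSchematic
  have hbc := (hall 0 PUnit.unit PUnit.unit (le_refl _) ξ.base x' hx.le).2
  set U : Set (RSpace.point Ω).pt := ξ.hom.wedge PUnit.unit ξ.base with hUdef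
  set U' : Set (RSpace.point Ω).pt := ξ.hom.wedge PUnit.unit x' with hU'def
  set φ : Coef (RSpace.point Ω) U (X.ring ξ.base) :=
    Coef.ofHom ξ.hom ξ.base U (ξ.hom.wedge_subset_pre PUnit.unit ξ.base) with hφ
  set φ' : Coef (RSpace.point Ω) U' (X.ring x') :=
    Coef.ofHom ξ.hom x' U' (ξ.hom.wedge_subset_pre PUnit.unit x') with hφ'
  have hU'empty : ∀ q, q ∉ U' := fun q hq => hx' hq.2
  have hsub : Subsingleton (H φ' (RSpace.point Ω).str 0) := by
    constructor
    intro a b
    obtain ⟨a, rfl⟩ := Submodule.Quotient.mk_surjective _ a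
    obtain ⟨b, rfl⟩ := Submodule.Quotient.mk_surjective _ b
    congr 1
    apply Subtype.ext
    funext σ
    exact absurd (σ (Fin.last 0)).2 (hU'empty _)
  unfold IsBCAlong at hbc
  letI : Algebra (X.ring ξ.base) (X.ring x') := (X.res hx.le).toAlgebra
  letI : Module (X.ring ξ.base) (H φ' (RSpace.point Ω).str 0) :=
    Module.compHom (H φ' (RSpace.point Ω).str 0) (X.res hx.le)
  haveI : IsScalarTower (X.ring ξ.base) (X.ring x') (H φ' (RSpace.point Ω).str 0) :=
    IsScalarTower.of_algebraMap_smul fun _ _ => rfl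
  have hsubT : Subsingleton (X.ring x' ⊗[X.ring ξ.base] H φ (RSpace.point Ω).str 0) :=
    hbc.equiv.toEquiv.subsingleton
  have hU : ∀ q ∈ U, (PUnit.unit : (RSpace.point Ω).pt) ≤ q := fun q _ => le_refl _
  let m₁ : H φ (RSpace.point Ω).str 0 := H.mk φ (RSpace.point Ω).str 0
    ⟨Groth.Agent.S15634.constCochain φ PUnit.unit hU 1,
      Groth.Agent.S15634.constCochain_mem φ PUnit.unit hU 1⟩
  let p₀ : U := ⟨PUnit.unit, ⟨le_refl _, le_refl _⟩⟩
  letI : Algebra (X.ring ξ.base) Ω := ξ.toField.toAlgebra
  let evlin : ↥(cocycles φ (RSpace.point Ω).str 0) →ₗ[X.ring ξ.base] Ω :=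
    { toFun := fun c => c.1 (Groth.Agent.S15634.pointChain p₀)
      map_add' := fun c c' => rfl
      map_smul' := fun r c => by
        have h1 : @id Ω (φ.map p₀ r) = ξ.toField r :=
          congrArg (ξ.hom.app PUnit.unit) (X.res_self ξ.base r)
        exact congrArg (fun w : Ω => w * @id Ω (c.1 (Groth.Agent.S15634.pointChain p₀))) h1 }
  have hle : (cobdry φ (RSpace.point Ω).str 0).comap (cocycles φ (RSpace.point Ω).str 0).subtype ≤
      LinearMap.ker evlin := by
    intro c hc
    have hc0 : c.1 = 0 := by
      have : c.1 ∈ (⊥ : Submodule (X.ring ξ.base) (Cochain φ (RSpace.point Ω).str 0)) := hc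
      simpa using this
    show c.1 (Groth.Agent.S15634.pointChain p₀) = 0
    rw [hc0]
    rfl
  let ev : H φ (RSpace.point Ω).str 0 →ₗ[X.ring ξ.base] Ω := Submodule.liftQ _ evlin hle
  have hev1 : ev m₁ = 1 := rfl
  have hevsmul : ∀ (r : X.ring ξ.base) (m : H φ (RSpace.point Ω).str 0),
      ev (r • m) = ξ.toField r * ev m := by
    intro r m
    rw [map_smul]
    rfl
  let F : X.ring x' →+ H φ (RSpace.point Ω).str 0 →+ Ω :=
    ((AddMonoidHom.mul (R := Ω)).comp θ.toAddMonoidHom).compl₂ ev.toAddMonoidHom
  have hF : ∀ a m, F a m = θ a * ev m := fun a m => rfl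
  have hbal : ∀ (r : X.ring ξ.base) (a : X.ring x') (m : H φ (RSpace.point Ω).str 0),
      F (r • a) m = F a (r • m) := by
    intro r a m
    rw [hF, hF, hevsmul]
    have h1 : r • a = X.res hx.le r * a := rfl
    have h2 : θ (X.res hx.le r) = ξ.toField r := RingHom.congr_fun hθ r
    rw [h1, map_mul, h2]
    ring
  have key : (1 : X.ring x') ⊗ₜ[X.ring ξ.base] m₁ = 0 := Subsingleton.elim _ _
  have key2 := congrArg (TensorProduct.liftAddHom F hbal) key
  rw [TensorProduct.liftAddHom_tmul, hF, hev1, map_one, map_zero, mul_one] at key2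
  exact one_ne_zero key2

end Groth.Agent.S15613
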