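import Groth.Statements.S15615
import Mathlib
import Groth.Agent.Lib.helper23.SchFinLib

set_option autoImplicit false
universe u
open SchFin SchFin.RSpace

namespace Groth.Agent.S15615

open SchFin in
/-- In a schematic finite space, the relation on pairs (a point together with a prime of its ring) under
which two pairs are related when some pair at a point above both restricts to each of them is an
equivalence relation. (The published statement does not carry the hypothesis that, for every two
points that lie above a common point and whose minimal open sets meet, the product of the rings over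
the intersection of these minimal open sets is faithfully flat over the ring of sections on it; the
published proof obtains this fact from properties of affine schematic spaces recalled there without
proof, and this row carries it explicitly.) -/
theorem result (X : RSpace.{u}) (hX : X.IsSchematic)
    (hff : ∀ s a b : X.pt, s ≤ a → s ≤ b → (X.up a ∩ X.up b).Nonempty →
      Module.FaithfullyFlat (X.sectRing (X.up a ∩ X.up b)) ((q : ↥(X.up a ∩ X.up b)) → X.ring q.1)) :
    Equivalence X.PairRel := by
  refine ⟨?_, ?_, ?_⟩
  · intro a
    refine ⟨a.1, le_refl _, le_refl _, a.2, ?_, ?_⟩ <;>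
    · apply PrimeSpectrum.ext
      ext t
      show X.res (le_refl a.1) t ∈ a.2.asIdeal ↔ t ∈ a.2.asIdeal
      rw [X.res_self]
  · rintro a b ⟨z, hx, hy, r, h1, h2⟩
    exact ⟨z, hy, hx, r, h2, h1⟩
  · rintro a b c ⟨z, hx, hy, r, h1, h2⟩ ⟨z', hx', hy', r', h1', h2'⟩
    have hrel : X.PairRel ⟨z, r⟩ ⟨z', r'⟩ :=
      Groth.Agent.Lib.helper23.SchFinLib.pairRel_of_comap_eq X hX hff hy hx' r r' (h2.trans h1'.symm)
    obtain ⟨w, hzw, hz'w, rw', hw1, hw2⟩ := hrel
    refine ⟨w, hx.trans hzw, hy'.trans hz'w, rw', ?_, ?_⟩
    · rw [← h1]
      change _ = PrimeSpectrum.comap (X.res hx) (⟨z, r⟩ : X.Pair).2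
      rw [← hw1]
      apply PrimeSpectrum.ext
      ext t
      show X.res (hx.trans hzw) t ∈ rw'.asIdeal ↔ X.res hzw (X.res hx t) ∈ rw'.asIdeal
      rw [X.res_comp]
    · rw [← h2']
      change _ = PrimeSpectrum.comap (X.res hy') (⟨z', r'⟩ : X.Pair).2
      rw [← hw2]
      apply PrimeSpectrum.ext
      ext t
      show X.res (hy'.trans hz'w) t ∈ rw'.asIdeal ↔ X.res hz'w (X.res hy' t) ∈ rw'.asIdeal
      rw [X.res_comp]

end Groth.Agent.S15615
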