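import Groth.Statements.S15616
import Mathlib
import Groth.Agent.S15615

set_option autoImplicit false
universe u
open SchFin SchFin.RSpace

namespace Groth.Agent.S15616

open SchFin in
/-- In a schematic finite space every schematic point, that is, every class of pairs (a point with a
prime of its ring), has exactly one representative whose point lies above the points of all
representatives of the class. (The published statement does not carry the hypothesis that, for every
two points that lie above a common point and whose minimal open sets meet, the product of the rings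
over the intersection of these minimal open sets is faithfully flat over the ring of sections on it;
the published proof obtains this fact from properties of affine schematic spaces recalled there
without proof, and this row carries it explicitly.) -/
theorem result (X : RSpace.{u}) (hX : X.IsSchematic)
    (hff : ∀ s a b : X.pt, s ≤ a → s ≤ b → (X.up a ∩ X.up b).Nonempty →
      Module.FaithfullyFlat (X.sectRing (X.up a ∩ X.up b)) ((q : ↥(X.up a ∩ X.up b)) → X.ring q.1))
    (c : X.SchPt) :
    ∃! a : X.Pair, Quot.mk X.PairRel a = c ∧ ∀ b : X.Pair, Quot.mk X.PairRel b = c → b.1 ≤ a.1 := by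
  classical
  have heq : Equivalence X.PairRel := Groth.Agent.S15615.result X hX hff
  have hq : ∀ a b : X.Pair, Quot.mk X.PairRel a = Quot.mk X.PairRel b ↔ X.PairRel a b := by
    intro a b
    rw [Quot.eq, heq.eqvGen_iff]
  obtain ⟨a₀, rfl⟩ := Quot.exists_rep c
  let S : Set X.pt := {p | ∃ P : PrimeSpectrum (X.ring p), X.PairRel ⟨p, P⟩ a₀}
  have hSne : S.Nonempty := ⟨a₀.1, a₀.2, heq.refl _⟩
  have hSfin : S.Finite := Set.toFinite S
  obtain ⟨m, hm⟩ := hSfin.exists_maximal hSne
  obtain ⟨⟨Pm, hPm⟩, hmax⟩ := hm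
  have hdir : ∀ p ∈ S, p ≤ m := by
    rintro p ⟨P, hP⟩
    have hrel : X.PairRel ⟨m, Pm⟩ ⟨p, P⟩ := heq.trans hPm (heq.symm hP)
    obtain ⟨z, hx, hy, r, h1, h2⟩ := hrel
    have hzS : z ∈ S := by
      refine ⟨r, heq.trans ?_ hPm⟩
      refine ⟨z, le_refl z, hx, r, ?_, h1⟩
      apply PrimeSpectrum.ext
      ext t
      show X.res (le_refl z) t ∈ r.asIdeal ↔ t ∈ r.asIdeal
      rw [X.res_self]
    exact le_trans hy (hmax hzS hx)
  refine ⟨⟨m, Pm⟩, ⟨(hq _ _).2 hPm, ?_⟩, ?_⟩
  · intro b hb
    exact hdir b.1 ⟨b.2, (hq _ _).1 hb⟩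
  · rintro ⟨m', P'⟩ ⟨h1, h2⟩
    have hm'S : m' ∈ S := ⟨P', (hq _ _).1 h1⟩
    have hle1 : m' ≤ m := hdir m' hm'S
    have hle2 : m ≤ m' := h2 ⟨m, Pm⟩ ((hq _ _).2 hPm)
    have hmm : m' = m := le_antisymm hle1 hle2
    subst hmm
    have hrel : X.PairRel ⟨m', P'⟩ ⟨m', Pm⟩ := heq.trans ((hq _ _).1 h1) (heq.symm hPm)
    obtain ⟨z, hx, hy, r, e1, e2⟩ := hrel
    have : P' = Pm := e1.symm.trans e2
    rw [this]

end Groth.Agent.S15616
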