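import Groth.Statements.S15622
import Mathlib
import Groth.Agent.Lib.helper23.FEtProd

set_option autoImplicit false
universe u
open SchFin SchFin.FEt

namespace Groth.Agent.S15622

open SchFin CategoryTheory CategoryTheory.Limits in
/-- For a schematic finite space, the category of étale covers (quasi-coherent algebras whose value at
every point is finite and étale over the ring of that point) has a terminal object and has binary
products. (In the published statement: finite direct products, the terminal object being the zero
algebra.) -/
theorem result (X : RSpace.{u}) (hX : X.IsSchematic) :
    HasTerminal (FEt X) ∧ HasBinaryProducts (FEt X) :=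
  ⟨Groth.Agent.Lib.helper23.FEtLib.hasTerminal_FEt X, Groth.Agent.Lib.helper23.FEtLib.hasBinaryProducts_FEt X⟩

end Groth.Agent.S15622
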