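import Groth.Statements.S15625
import Mathlib
import Groth.Agent.Lib.helper23.FEtQuot

set_option autoImplicit false
universe u
open SchFin SchFin.FEt

namespace Groth.Agent.S15625

open SchFin CategoryTheory in
/-- Over a schematic finite space, every morphism of étale covers factors, inside the category of étale
covers, as a morphism that is surjective at every point followed by one that is injective at every
point (in particular as an epimorphism followed by a monomorphism; the middle object is the quotient
by the kernel). -/
theorem result (X : RSpace.{u}) (hX : X.IsSchematic) {A B : FEt X}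
    (f : A ⟶ B) :
    ∃ (Q : FEt X) (g : A ⟶ Q) (h : Q ⟶ B), g ≫ h = f ∧ (∀ p : X.pt, Function.Surjective (g.hom.app p)) ∧
      ∀ p : X.pt, Function.Injective (h.hom.app p) := by
  obtain ⟨e, he, h1, h2, hres⟩ :=
    Groth.Agent.Lib.helper23.FEtLib.exists_kerIdem hX.1 A.property B.property f.hom
  have hres' : ∀ {p q : X.pt} (h : p ≤ q), A.obj.res h (e p) = e q := fun h => hres h
  let Q : FEt X := ⟨Groth.Agent.Lib.helper23.FEtLib.quotAlg A.obj e hres',
    Groth.Agent.Lib.helper23.FEtLib.quotAlg_isEtCover A.obj e hres' A.property he⟩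
  let g : A ⟶ Q := ObjectProperty.homMk (Groth.Agent.Lib.helper23.FEtLib.quotMk A.obj e hres')
  let h : Q ⟶ B := ObjectProperty.homMk
    (Groth.Agent.Lib.helper23.FEtLib.quotLift (hres := hres') f.hom h1)
  refine ⟨Q, g, h, ?_, ?_, ?_⟩
  · apply ObjectProperty.hom_ext
    exact Groth.Agent.Lib.helper23.FEtLib.quotMk_quotLift (hres := hres') f.hom h1
  · intro p
    exact Groth.Agent.Lib.helper23.FEtLib.quotMk_surjective A.obj e hres' p
  · intro p
    rw [injective_iff_map_eq_zero]
    intro b hb
    obtain ⟨a, rfl⟩ := Groth.Agent.Lib.helper23.FEtLib.quotMk_surjective A.obj e hres' p b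
    have hfa : f.hom.app p a = 0 := hb
    rw [Groth.Agent.Lib.helper23.FEtLib.quotMk_eq_zero_iff]
    exact ⟨a, h2 p a hfa⟩

end Groth.Agent.S15625
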