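import Groth.Statements.S15627
import Mathlib
import Groth.Agent.Lib.helper23.SchFinLib2

set_option autoImplicit false
universe u
open SchFin SchFin.GeomPt

namespace Groth.Agent.S15627

open SchFin in
/-- Let X be a schematic finite space and Ω an algebraically closed field. Given a pair (x, P) of a
point and a prime of its ring which is the maximal representative of its class (every related pair
sits at a point below x) and a ring map φ from the residue field of P to Ω, there is exactly one
geometric point of X with values in Ω that hits x and whose ring map from the ring of x to Ω is φ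
composed with the passage to the residue field. (The published statement is the resulting bijection
between geometric points with values in Ω and schematic points equipped with an embedding of their
residue field into Ω.) (The published statement does not carry the hypothesis that, for every two
points that lie above a common point and whose minimal open sets meet, the product of the rings over
the intersection of these minimal open sets is faithfully flat over the ring of sections on it; the
published proof obtains this fact from properties of affine schematic spaces recalled there without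
proof, and this row carries it explicitly.) -/
theorem result (X : RSpace.{u}) (hX : X.IsSchematic)
    (hff : ∀ s a b : X.pt, s ≤ a → s ≤ b → (X.up a ∩ X.up b).Nonempty →
      Module.FaithfullyFlat (X.sectRing (X.up a ∩ X.up b)) ((q : ↥(X.up a ∩ X.up b)) → X.ring q.1))
    (Ω : Type u) [Field Ω] [IsAlgClosed Ω] (a : X.Pair) (ha : ∀ b : X.Pair, X.PairRel a b → b.1 ≤ a.1)
    (φ : a.κ →+* Ω) :
    ∃! ξ : GeomPt X Ω, (⟨ξ.base, ξ.toField⟩ : Σ x : X.pt, (X.ring x →+* Ω)) =
      ⟨a.1, φ.comp (algebraMap (X.ring a.1) a.κ)⟩ := by
  classical
  set t₀ : X.ring a.1 →+* Ω := φ.comp (algebraMap (X.ring a.1) a.κ) with ht₀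
  have hker : RingHom.ker t₀ = a.2.asIdeal := by
    ext r
    rw [RingHom.mem_ker]
    show φ (algebraMap (X.ring a.1) a.κ r) = 0 ↔ _
    rw [map_eq_zero_iff φ φ.injective, Ideal.algebraMap_residueField_eq_zero]
  refine ⟨⟨Groth.Agent.Lib.helper23.SchFinLib.homOf a.1 t₀,
    Groth.Agent.Lib.helper23.SchFinLib.homOf_isSchematic hX hff a ha t₀ hker⟩, rfl, ?_⟩
  rintro ⟨⟨fn, mono, app, compat⟩, hs⟩ h
  change (⟨fn PUnit.unit, app PUnit.unit⟩ : Σ x : X.pt, (X.ring x →+* Ω)) = ⟨a.1, t₀⟩ at h
  obtain ⟨x, hx⟩ : ∃ x, fn = fun _ => x := ⟨fn PUnit.unit, funext fun _ => rfl⟩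
  subst hx
  obtain ⟨t, ht⟩ : ∃ t : X.ring x →+* Ω, app = fun _ => t := ⟨app PUnit.unit, funext fun _ => rfl⟩
  subst ht
  obtain ⟨rfl, h2⟩ := Sigma.mk.inj_iff.1 h
  have h3 : t = t₀ := eq_of_heq h2
  subst h3
  rfl

end Groth.Agent.S15627
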