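import Groth.Statements.S15628
import Mathlib
import Groth.Agent.Lib.helper23.FEtSplit

set_option autoImplicit false
universe u
open SchFin SchFin.FEt

namespace Groth.Agent.S15628

open SchFin CategoryTheory CategoryTheory.Limits in
/-- Over a schematic finite space, a morphism f from an étale cover A to an étale cover B which is
surjective at every point identifies B with a direct factor of A: there are an étale cover D and a
morphism from A to D which together with f exhibit A as the product of B and D in the category of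
étale covers. (The published statement assumes f an epimorphism of étale covers and first shows that
epimorphisms are exactly the pointwise surjective morphisms, a step resting on an extension result
for quasi-coherent modules recalled there without proof; this row takes f surjective at every
point.) -/
theorem result (X : RSpace.{u}) (hX : X.IsSchematic)
    {A B : FEt X} (f : A ⟶ B) (hf : ∀ p : X.pt, Function.Surjective (f.hom.app p)) :
    ∃ (D : FEt X) (π : A ⟶ D), Nonempty (IsLimit (BinaryFan.mk f π)) := by
  obtain ⟨e, he, h1, h2, hres⟩ :=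
    Groth.Agent.Lib.helper23.FEtLib.exists_kerIdem hX.1 A.property B.property f.hom
  have hres' : ∀ {p q : X.pt} (h : p ≤ q), A.obj.res h (1 - e p) = 1 - e q := fun h =>
    Groth.Agent.Lib.helper23.FEtLib.hres_one_sub e h (hres h)
  let D : FEt X := ⟨Groth.Agent.Lib.helper23.FEtLib.quotAlg A.obj (fun p => 1 - e p) hres',
    Groth.Agent.Lib.helper23.FEtLib.quotAlg_isEtCover A.obj (fun p => 1 - e p) hres' A.property
      (fun p => (he p).one_sub)⟩
  let π0 : A.obj ⟶ D.obj := Groth.Agent.Lib.helper23.FEtLib.quotMk A.obj (fun p => 1 - e p) hres'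
  let π : A ⟶ D := ObjectProperty.homMk π0
  have hbij : ∀ p, Function.Bijective
      ((Groth.Agent.Lib.helper23.FEtLib.prodLift f.hom π0).app p) := fun p =>
    Groth.Agent.Lib.helper23.FEtLib.pair_bijective f.hom e he h1 h2 hres' hf p
  let inv : Groth.Agent.Lib.helper23.FEtLib.prodAlg B.obj D.obj ⟶ A.obj :=
    Groth.Agent.Lib.helper23.FEtLib.invOfBijective
      (Groth.Agent.Lib.helper23.FEtLib.prodLift f.hom π0) hbij
  have hinv1 : Groth.Agent.Lib.helper23.FEtLib.prodLift f.hom π0 ≫ inv = 𝟙 A.obj :=
    Groth.Agent.Lib.helper23.FEtLib.comp_invOfBijective _ hbij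
  have hinv2 : inv ≫ Groth.Agent.Lib.helper23.FEtLib.prodLift f.hom π0 = 𝟙 _ :=
    Groth.Agent.Lib.helper23.FEtLib.invOfBijective_comp _ hbij
  have hf1 : inv ≫ f.hom = Groth.Agent.Lib.helper23.FEtLib.prodFst B.obj D.obj := by
    rw [← Groth.Agent.Lib.helper23.FEtLib.prodLift_fst f.hom π0, ← Category.assoc, hinv2,
      Category.id_comp]
  have hf2 : inv ≫ π0 = Groth.Agent.Lib.helper23.FEtLib.prodSnd B.obj D.obj := by
    rw [← Groth.Agent.Lib.helper23.FEtLib.prodLift_snd f.hom π0, ← Category.assoc, hinv2,
      Category.id_comp]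
  refine ⟨D, π, ⟨BinaryFan.IsLimit.mk _
    (fun {T} u v => ObjectProperty.homMk
      (Groth.Agent.Lib.helper23.FEtLib.prodLift u.hom v.hom ≫ inv)) ?_ ?_ ?_⟩⟩
  · intro T u v
    apply ObjectProperty.hom_ext
    show (Groth.Agent.Lib.helper23.FEtLib.prodLift u.hom v.hom ≫ inv) ≫ f.hom = u.hom
    rw [Category.assoc, hf1, Groth.Agent.Lib.helper23.FEtLib.prodLift_fst]
  · intro T u v
    apply ObjectProperty.hom_ext
    show (Groth.Agent.Lib.helper23.FEtLib.prodLift u.hom v.hom ≫ inv) ≫ π0 = v.hom
    rw [Category.assoc, hf2, Groth.Agent.Lib.helper23.FEtLib.prodLift_snd]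
  · intro T u v m hm1 hm2
    apply ObjectProperty.hom_ext
    show m.hom = Groth.Agent.Lib.helper23.FEtLib.prodLift u.hom v.hom ≫ inv
    have e1 : m.hom ≫ f.hom = u.hom := congrArg (fun w => w.hom) hm1
    have e2 : m.hom ≫ π0 = v.hom := congrArg (fun w => w.hom) hm2
    have e3 : m.hom ≫ Groth.Agent.Lib.helper23.FEtLib.prodLift f.hom π0 =
        Groth.Agent.Lib.helper23.FEtLib.prodLift u.hom v.hom := by
      apply Groth.Agent.Lib.helper23.FEtLib.prod_hom_ext
      · rw [Category.assoc, Groth.Agent.Lib.helper23.FEtLib.prodLift_fst,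
          Groth.Agent.Lib.helper23.FEtLib.prodLift_fst, e1]
      · rw [Category.assoc, Groth.Agent.Lib.helper23.FEtLib.prodLift_snd,
          Groth.Agent.Lib.helper23.FEtLib.prodLift_snd, e2]
    rw [← e3, Category.assoc, hinv1]
    exact (Category.comp_id m.hom).symm

end Groth.Agent.S15628
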