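import Groth.Statements.S15629
import Mathlib
import Groth.Agent.Lib.helper23.InvAlg

set_option autoImplicit false
universe u
open SchFin SchFin.FEt

namespace Groth.Agent.S15629

open SchFin CategoryTheory CategoryTheory.Limits in
/-- Over a well-connected schematic finite space, the category of étale covers has, for every finite
group G, limits of diagrams indexed by the one-object category of G; that is, for every action of G
on an étale cover A there is an étale cover (the invariants of A, pointwise) through which exactly
the G-invariant morphisms into A factor. (The published statement speaks of contravariant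
categorical quotients by finite subgroups of the automorphism group; an action through a group
homomorphism has the same invariants as its image.) (This row carries as a hypothesis the local
triviality of étale covers — for every étale cover A there are a quasi-coherent algebra B, finite
and faithfully flat at every point, and a natural number n with B_p ⊗ A_p isomorphic to B_p^n as a
B_p-algebra at every point p — which holds for well-connected schematic spaces, the published proof
of that fact going by way of an equivalence of quasi-coherent modules along qc-isomorphisms recalled
without proof; the published statement does not carry it.) -/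
theorem result (X : RSpace.{u}) (hX : X.IsSchematic) (hwc : X.IsWellConnected)
    (hlt : ∀ A : FEt X, ∃ (B : Alg X) (n : ℕ), B.IsCovering ∧
      ∀ p : X.pt, Nonempty (TensorProduct (X.ring p) (B.carrier p) (A.obj.carrier p) ≃ₐ[B.carrier p] (Fin n → B.carrier p)))
    (G : Type u) [Group G] [Finite G] : HasLimitsOfShape (SingleObj G) (FEt X) := by
  constructor
  intro K
  let A : FEt X := K.obj (SingleObj.star G)
  let ρ : G → (A.obj ⟶ A.obj) := fun g =>
    (K.map (X := SingleObj.star G) (Y := SingleObj.star G) g).hom
  have hlt' : ∀ p : X.pt, ∃ (T : Type u) (_ : CommRing T) (_ : Algebra (X.ring p) T) (n : ℕ),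
      Module.FaithfullyFlat (X.ring p) T ∧
      Nonempty (TensorProduct (X.ring p) T (A.obj.carrier p) ≃ₐ[T] (Fin n → T)) := by
    intro p
    obtain ⟨B, n, hB, hn⟩ := hlt A
    exact ⟨B.carrier p, inferInstance, inferInstance, n, (hB.2 p).2, hn p⟩
  let I : FEt X := ⟨Groth.Agent.Lib.helper23.FEtLib.invAlg A.obj ρ,
    Groth.Agent.Lib.helper23.FEtLib.invAlg_isEtCover A.obj ρ hX.1 A.property hlt'⟩
  let ι : I ⟶ A := ObjectProperty.homMk (Groth.Agent.Lib.helper23.FEtLib.invIncl A.obj ρ)
  have hι : ∀ g : G, ι ≫ K.map (X := SingleObj.star G) (Y := SingleObj.star G) g = ι := by
    intro g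
    apply ObjectProperty.hom_ext
    exact Groth.Agent.Lib.helper23.FEtLib.invIncl_comp A.obj ρ g
  let c : Cone K :=
    { pt := I
      π :=
        { app := fun _ => ι
          naturality := fun _ _ g => (Category.id_comp ι).trans (hι g).symm } }
  have hs : ∀ (s : Cone K) (g : G),
      (s.π.app (SingleObj.star G)).hom ≫ ρ g = (s.π.app (SingleObj.star G)).hom := by
    intro s g
    have := s.π.naturality (X := SingleObj.star G) (Y := SingleObj.star G) g
    have e : s.π.app (SingleObj.star G) =
        s.π.app (SingleObj.star G) ≫ K.map (X := SingleObj.star G) (Y := SingleObj.star G) g :=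
      (Category.id_comp _).symm.trans this
    exact (congrArg (fun w => w.hom) e).symm
  refine ⟨⟨⟨c,
    { lift := fun s => ObjectProperty.homMk
        (Groth.Agent.Lib.helper23.FEtLib.invLift (s.π.app (SingleObj.star G)).hom (hs s))
      fac := fun s j => by
        apply ObjectProperty.hom_ext
        exact Groth.Agent.Lib.helper23.FEtLib.invLift_incl (s.π.app (SingleObj.star G)).hom (hs s)
      uniq := fun s m hm => by
        apply ObjectProperty.hom_ext
        apply Groth.Agent.Lib.helper23.FEtLib.inv_hom_ext
        refine Eq.trans ?_ (Groth.Agent.Lib.helper23.FEtLib.invLift_incl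
          (s.π.app (SingleObj.star G)).hom (hs s)).symm
        exact congrArg (fun w => w.hom) (hm (SingleObj.star G)) }⟩⟩⟩

end Groth.Agent.S15629
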