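import Groth.Statements.S15632
import Mathlib
import Groth.Agent.S15628
import Groth.Agent.Lib.helper23.QuotCat
import Groth.Agent.Lib.helper23.FibIso

set_option autoImplicit false
universe u
open SchFin SchFin.GeomPt

namespace Groth.Agent.S15632

open SchFin CategoryTheory in
/-- For a well-connected schematic finite space and a geometric point with values in an algebraically
closed field, the opposite of the category of étale covers, with the fibre functor at that point (an
étale cover A goes to the prime spectrum of Ω ⊗ A_x, x the point hit), is a Galois category: a
pre-Galois category for which that functor is a fibre functor. (The published statement assumes the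
space only connected and reduces to the well-connected case through a pointwise construction and a
comparison of geometric points resting on a result recalled without proof; this row takes the space
well-connected. It carries two hypotheses the published statement does not: the local triviality of
étale covers — for every étale cover A, a quasi-coherent algebra B, finite and faithfully flat at
every point, and n with B_p ⊗ A_p isomorphic to B_p^n as B_p-algebras at every point — and the
pointwise surjectivity of epimorphisms of étale covers; both hold for every such space, each being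
proved in the published text by way of a result on quasi-coherent modules recalled without proof.) -/
theorem result (X : RSpace.{u}) (hX : X.IsSchematic)
    (hwc : X.IsWellConnected)
    (hlt : ∀ A : FEt X, ∃ (B : Alg X) (n : ℕ), B.IsCovering ∧
      ∀ p : X.pt, Nonempty (TensorProduct (X.ring p) (B.carrier p) (A.obj.carrier p) ≃ₐ[B.carrier p] (Fin n → B.carrier p)))
    (hepi : ∀ (A B : FEt X) (f : A ⟶ B), Epi f → ∀ p : X.pt, Function.Surjective (f.hom.app p))
    {Ω : Type u} [Field Ω] [IsAlgClosed Ω] (ξ : GeomPt X Ω) :
    ∃ h : PreGaloisCategory (FEt X)ᵒᵖ, @PreGaloisCategory.FiberFunctor (FEt X)ᵒᵖ _ h ξ.fibFunctor := by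
  have hltA : ∀ A : FEt X, Groth.Agent.Lib.helper23.FEtLib.LocTriv A.obj := by
    intro A p
    obtain ⟨B, n, hB, hn⟩ := hlt A
    exact ⟨B.carrier p, inferInstance, inferInstance, n, (hB.2 p).2, hn p⟩
  have h : PreGaloisCategory (FEt X)ᵒᵖ :=
    { hasTerminal := by
        haveI := Groth.Agent.Lib.helper23.FEtLib.hasInitial_FEt X
        exact Limits.hasTerminal_op_of_hasInitial
      hasPullbacks := by
        haveI := Groth.Agent.Lib.helper23.FEtLib.hasPushouts_FEt X
        exact Limits.hasPullbacks_opposite
      hasFiniteCoproducts := by
        haveI := Groth.Agent.Lib.helper23.FEtLib.hasFiniteProducts_FEt X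
        exact Limits.hasFiniteCoproducts_opposite
      hasQuotientsByFiniteGroups := fun G _ _ =>
        ⟨fun K => Groth.Agent.Lib.helper23.FEtLib.hasColimit_singleObj_op K hX.1 (hltA _)⟩
      monoInducesIsoOnDirectSummand := by
        intro Xo Yo i hi
        haveI : Epi i.unop := unop_epi_of_mono i
        obtain ⟨D, π, ⟨hl⟩⟩ := Groth.Agent.S15628.result X hX i.unop
          (hepi _ _ i.unop inferInstance)
        refine ⟨Opposite.op D, π.op, ⟨Limits.BinaryCofan.IsColimit.mk _
          (fun {T} f g => (Limits.BinaryFan.IsLimit.lift' hl f.unop g.unop).1.op) ?_ ?_ ?_⟩⟩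
        · intro T f g
          apply Quiver.Hom.unop_inj
          exact (Limits.BinaryFan.IsLimit.lift' hl f.unop g.unop).2.1
        · intro T f g
          apply Quiver.Hom.unop_inj
          exact (Limits.BinaryFan.IsLimit.lift' hl f.unop g.unop).2.2
        · intro T f g m h1 h2
          apply Quiver.Hom.unop_inj
          apply Limits.BinaryFan.IsLimit.hom_ext hl
          · refine Eq.trans ?_ (Limits.BinaryFan.IsLimit.lift' hl f.unop g.unop).2.1.symm
            exact congrArg Quiver.Hom.unop h1
          · refine Eq.trans ?_ (Limits.BinaryFan.IsLimit.lift' hl f.unop g.unop).2.2.symm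
            exact congrArg Quiver.Hom.unop h2 }
  refine ⟨h, ?_⟩
  exact
    { preservesTerminalObjects := Groth.Agent.Lib.helper23.FEtLib.preservesTerminal_fibFunctor ξ
      preservesPullbacks := Groth.Agent.Lib.helper23.FEtLib.preservesPullbacks_fibFunctor ξ
      preservesFiniteCoproducts :=
        Groth.Agent.Lib.helper23.FEtLib.preservesFiniteCoproducts_fibFunctor ξ
      preservesEpis := Groth.Agent.Lib.helper23.FEtLib.preservesEpimorphisms_fibFunctor ξ hX.1
      preservesQuotientsByFiniteGroups := fun G _ _ =>
        ⟨fun {K} => Groth.Agent.Lib.helper23.FEtLib.preservesColimit_singleObj_fibFunctor K hX.1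
          (hltA _) ξ⟩
      reflectsIsos := Groth.Agent.Lib.helper23.FEtLib.reflectsIsomorphisms_fibFunctor ξ hX.1 hwc }

end Groth.Agent.S15632
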