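import Groth.Statements.S15706
import Mathlib

set_option autoImplicit false
universe u
open CAlg

namespace Groth.Agent.S15706

/-- Let A be a Noetherian ring with Serre's property (S_1), stated here in the equivalent form that
every associated prime of A is a minimal prime of A. Let I be an ideal of A and b an element of A/I
which is regular (a non-zero-divisor) in A/I. Then b is the image of a regular element of A. -/
theorem result (A : Type u) [CommRing A]
    [IsNoetherianRing A] (hS1 : ∀ p ∈ associatedPrimes A A, p ∈ minimalPrimes A) (I : Ideal A)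
    (b : A ⧸ I) (hb : b ∈ nonZeroDivisors (A ⧸ I)) :
    ∃ a : A, a ∈ nonZeroDivisors A ∧ Ideal.Quotient.mk I a = b := by
  classical
  obtain ⟨a₀, rfl⟩ := Ideal.Quotient.mk_surjective b
  have hfin : (minimalPrimes A).Finite := minimalPrimes.finite_of_isNoetherianRing A
  -- no minimal prime contains both `a₀` and `I`
  have hno : ∀ p ∈ minimalPrimes A, ¬ (a₀ ∈ p ∧ I ≤ p) := by
    rintro p hp ⟨ha, hIp⟩
    have hpI : p ∈ I.minimalPrimes := by
      refine ⟨⟨hp.1.1, hIp⟩, ?_⟩
      intro q hq hqp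
      exact hp.2 ⟨hq.1, bot_le⟩ hqp
    rw [Ideal.minimalPrimes_eq_comap] at hpI
    obtain ⟨q', hq', rfl⟩ := hpI
    have ha' : Ideal.Quotient.mk I a₀ ∈ q' := ha
    exact notMem_nonZeroDivisors_of_mem_mem_minimalPrimes ha' hq' hb
  let S : Finset (Ideal A) := hfin.toFinset.filter (fun p => a₀ ∈ p)
  let T : Finset (Ideal A) := hfin.toFinset.filter (fun p => a₀ ∉ p)
  have hS : ∀ p, p ∈ S ↔ p ∈ minimalPrimes A ∧ a₀ ∈ p := by
    intro p; simp [S]
  have hT : ∀ p, p ∈ T ↔ p ∈ minimalPrimes A ∧ a₀ ∉ p := by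
    intro p; simp [T]
  have hJ : ¬ (((I * ∏ t ∈ T, t : Ideal A) : Set A) ⊆ ⋃ s ∈ (↑S : Set (Ideal A)), (s : Set A)) := by
    rw [Ideal.subset_union_prime (f := fun s : Ideal A => s) ⊥ ⊥
      (fun s hs _ _ => ((hS s).mp hs).1.1.1)]
    rintro ⟨s, hs, hle⟩
    obtain ⟨hsmin, has⟩ := (hS s).mp hs
    have hsprime : s.IsPrime := hsmin.1.1
    rcases (Ideal.IsPrime.mul_le hsprime).mp hle with h | h
    · exact hno s hsmin ⟨has, h⟩
    · obtain ⟨t, ht, hts⟩ := (Ideal.IsPrime.prod_le hsprime).mp h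
      obtain ⟨htmin, hat⟩ := (hT t).mp ht
      have : s ≤ t := hsmin.2 ⟨htmin.1.1, bot_le⟩ hts
      exact hat (this has)
  rw [Set.not_subset] at hJ
  obtain ⟨y, hyJ, hyS⟩ := hJ
  have hyI : y ∈ I := Ideal.mul_le_left hyJ
  have hyT : ∀ t ∈ T, y ∈ t := by
    intro t ht
    have h1 : y ∈ ∏ t ∈ T, t := Ideal.mul_le_right hyJ
    have h2 : (∏ t ∈ T, t : Ideal A) ≤ T.inf (fun t => t) := Ideal.prod_le_inf
    have h3 : T.inf (fun t : Ideal A => t) ≤ t := Finset.inf_le (f := fun t : Ideal A => t) ht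
    exact h3 (h2 h1)
  refine ⟨a₀ + y, ?_, ?_⟩
  · by_contra hnz
    have hmem : a₀ + y ∈ ((nonZeroDivisors A : Set A))ᶜ := hnz
    rw [← biUnion_associatedPrimes_eq_compl_nonZeroDivisors A] at hmem
    simp only [Set.mem_iUnion, SetLike.mem_coe, exists_prop] at hmem
    obtain ⟨p, hpass, hap⟩ := hmem
    have hpmin := hS1 p hpass
    by_cases ha : a₀ ∈ p
    · have hyp : y ∈ p := by
        have := p.sub_mem hap ha
        rwa [add_sub_cancel_left] at this
      apply hyS
      simp only [Set.mem_iUnion, SetLike.mem_coe, exists_prop]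
      exact ⟨p, (Finset.mem_coe.mpr ((hS p).mpr ⟨hpmin, ha⟩)), hyp⟩
    · have hyp : y ∈ p := hyT p ((hT p).mpr ⟨hpmin, ha⟩)
      apply ha
      have := p.sub_mem hap hyp
      rwa [add_sub_cancel_right] at this
  · rw [map_add, Ideal.Quotient.eq_zero_iff_mem.mpr hyI, add_zero]

end Groth.Agent.S15706
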