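import Groth.Statements.S15708
import Mathlib

set_option autoImplicit false
universe u v
open CAlg

namespace Groth.Agent.S15708

section helpers

variable {R : Type u} {A : Type v} [CommRing R] [CommRing A] [Algebra R A]
  (𝒜 : ℕ → Submodule R A) [GradedRing 𝒜]

/-- a homogeneous element outside `p₀` lying in every `p ∈ P'` that is not
"homogeneously contained" in `p₀`. -/
theorem exists_w (p₀ : Ideal A) (hp₀ : p₀.IsPrime) (P' : Finset (Ideal A)) :
    ∃ (e : ℕ) (w : A), w ∈ 𝒜 e ∧ w ∉ p₀ ∧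
      ∀ p ∈ P', (∃ (f : ℕ) (x : A), x ∈ 𝒜 f ∧ x ∈ p ∧ x ∉ p₀) → w ∈ p := by
  classical
  induction P' using Finset.induction_on with
  | empty =>
    exact ⟨0, 1, SetLike.one_mem_graded 𝒜, fun h => hp₀.ne_top ((Ideal.eq_top_iff_one _).mpr h),
      fun p hp => absurd hp (Finset.notMem_empty p)⟩
  | insert p P'' hp ih =>
    obtain ⟨e, w, hwe, hw0, hw⟩ := ih
    by_cases hx : ∃ (f : ℕ) (x : A), x ∈ 𝒜 f ∧ x ∈ p ∧ x ∉ p₀
    · obtain ⟨f, x, hxf, hxp, hx0⟩ := hx
      refine ⟨e + f, w * x, SetLike.mul_mem_graded hwe hxf, ?_, ?_⟩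
      · intro h
        rcases hp₀.mem_or_mem h with h | h
        · exact hw0 h
        · exact hx0 h
      · intro q hq hqx
        rcases Finset.mem_insert.mp hq with rfl | hq
        · exact Ideal.mul_mem_left _ _ hxp
        · exact Ideal.mul_mem_right _ _ (hw q hq hqx)
    · refine ⟨e, w, hwe, hw0, ?_⟩
      intro q hq hqx
      rcases Finset.mem_insert.mp hq with rfl | hq
      · exact absurd hqx hx
      · exact hw q hq hqx

theorem hpa (J : Ideal A) (P : Finset (Ideal A)) (hprime : ∀ p ∈ P, p.IsPrime)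
    (hex : ∀ p ∈ P, ∃ (n : ℕ) (z : A), 0 < n ∧ z ∈ 𝒜 n ∧ z ∈ J ∧ z ∉ p) :
    ∃ (n : ℕ) (z : A), 0 < n ∧ z ∈ 𝒜 n ∧ z ∈ J ∧ ∀ p ∈ P, z ∉ p := by
  classical
  induction P using Finset.induction_on with
  | empty =>
    exact ⟨1, 0, Nat.one_pos, Submodule.zero_mem _, Submodule.zero_mem _,
      fun p hp => absurd hp (Finset.notMem_empty p)⟩
  | insert p₀ P' hp₀P ih =>
    have hp₀ : p₀.IsPrime := hprime p₀ (Finset.mem_insert_self _ _)
    obtain ⟨n', z', hn', hz'n, hz'J, hz'⟩ := ih (fun p hp => hprime p (Finset.mem_insert_of_mem hp))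
      (fun p hp => hex p (Finset.mem_insert_of_mem hp))
    by_cases hz0 : z' ∈ p₀
    · obtain ⟨m₀, w₀, hm₀, hw₀m, hw₀J, hw₀⟩ := hex p₀ (Finset.mem_insert_self _ _)
      obtain ⟨e, w₁, hw₁e, hw₁0, hw₁⟩ := exists_w 𝒜 p₀ hp₀ P'
      -- w := w₀ * w₁ of degree m := m₀ + e
      have hwm : w₀ * w₁ ∈ 𝒜 (m₀ + e) := SetLike.mul_mem_graded hw₀m hw₁e
      have hwJ : w₀ * w₁ ∈ J := Ideal.mul_mem_right _ _ hw₀J
      have hw0 : w₀ * w₁ ∉ p₀ := by
        intro h
        rcases hp₀.mem_or_mem h with h | h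
        · exact hw₀ h
        · exact hw₁0 h
      have hmpos : 0 < m₀ + e := by omega
      refine ⟨n' * (m₀ + e), z' ^ (m₀ + e) + (w₀ * w₁) ^ n', Nat.mul_pos hn' hmpos, ?_, ?_, ?_⟩
      · apply Submodule.add_mem
        · have := SetLike.pow_mem_graded (m₀ + e) hz'n
          rwa [smul_eq_mul, mul_comm] at this
        · have := SetLike.pow_mem_graded n' hwm
          rwa [smul_eq_mul] at this
      · apply Ideal.add_mem
        · exact Ideal.pow_mem_of_mem _ hz'J _ hmpos
        · exact Ideal.pow_mem_of_mem _ hwJ _ hn'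
      · intro p hp hzp
        have hzhom : z' ^ (m₀ + e) + (w₀ * w₁) ^ n' ∈ 𝒜 (n' * (m₀ + e)) := by
          apply Submodule.add_mem
          · have := SetLike.pow_mem_graded (m₀ + e) hz'n
            rwa [smul_eq_mul, mul_comm] at this
          · have := SetLike.pow_mem_graded n' hwm
            rwa [smul_eq_mul] at this
        have hz_notp₀ : z' ^ (m₀ + e) + (w₀ * w₁) ^ n' ∉ p₀ := by
          intro h
          have h1 : z' ^ (m₀ + e) ∈ p₀ := Ideal.pow_mem_of_mem _ hz0 _ hmpos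
          have h2 : (w₀ * w₁) ^ n' ∈ p₀ := by
            have := p₀.sub_mem h h1
            rwa [add_sub_cancel_left] at this
          exact hw0 (hp₀.mem_of_pow_mem _ h2)
        rcases Finset.mem_insert.mp hp with rfl | hpP
        · exact hz_notp₀ hzp
        · have hpprime : p.IsPrime := hprime p hp
          by_cases hx : ∃ (f : ℕ) (x : A), x ∈ 𝒜 f ∧ x ∈ p ∧ x ∉ p₀
          · have hwp : w₀ * w₁ ∈ p := Ideal.mul_mem_left _ _ (hw₁ p hpP hx)
            have h1 : (w₀ * w₁) ^ n' ∈ p := Ideal.pow_mem_of_mem _ hwp _ hn'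
            have h2 : z' ^ (m₀ + e) ∈ p := by
              have := p.sub_mem hzp h1
              rwa [add_sub_cancel_right] at this
            exact hz' p hpP (hpprime.mem_of_pow_mem _ h2)
          · exact hx ⟨_, _, hzhom, hzp, hz_notp₀⟩
    · refine ⟨n', z', hn', hz'n, hz'J, ?_⟩
      intro p hp
      rcases Finset.mem_insert.mp hp with rfl | hp
      · exact hz0
      · exact hz' p hp

end helpers

/-- Let A be a Noetherian commutative ring graded by the natural numbers, J a homogeneous ideal, and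
p_1, ..., p_r finitely many prime ideals such that no p_i contains the irrelevant ideal A_+ and no
p_i contains J. Then there is a homogeneous element z of positive degree with z in J and z in no
p_i. -/
theorem result {R : Type u} {A : Type v} [CommRing R] [CommRing A]
    [Algebra R A] [IsNoetherianRing A] (𝒜 : ℕ → Submodule R A) [GradedRing 𝒜]
    (J : Ideal A) (hJ : J.IsHomogeneous 𝒜) (P : Finset (Ideal A))
    (hP : ∀ p ∈ P, p.IsPrime ∧ ¬ (HomogeneousIdeal.irrelevant 𝒜).toIdeal ≤ p ∧ ¬ J ≤ p) :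
    ∃ (z : A) (n : ℕ), 0 < n ∧ z ∈ 𝒜 n ∧ z ∈ J ∧ ∀ p ∈ P, z ∉ p := by
  classical
  have hex : ∀ p ∈ P, ∃ (n : ℕ) (z : A), 0 < n ∧ z ∈ 𝒜 n ∧ z ∈ J ∧ z ∉ p := by
    intro p hp
    obtain ⟨hprime, hirr, hJp⟩ := hP p hp
    -- homogeneous element of J outside p
    obtain ⟨x, hxJ, hxp⟩ := SetLike.not_le_iff_exists.mp hJp
    have h1 : ∃ i, (DirectSum.decompose 𝒜 x i : A) ∉ p := by
      by_contra hcon
      push Not at hcon
      apply hxp
      rw [← DirectSum.sum_support_decompose 𝒜 x]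
      exact Ideal.sum_mem _ (fun i _ => hcon i)
    obtain ⟨i, hi⟩ := h1
    -- homogeneous element of positive degree outside p
    obtain ⟨u, huI, hup⟩ := SetLike.not_le_iff_exists.mp hirr
    have h2 : ∃ j, (DirectSum.decompose 𝒜 u j : A) ∉ p := by
      by_contra hcon
      push Not at hcon
      apply hup
      rw [← DirectSum.sum_support_decompose 𝒜 u]
      exact Ideal.sum_mem _ (fun i _ => hcon i)
    obtain ⟨j, hj⟩ := h2
    have hj0 : j ≠ 0 := by
      rintro rfl
      apply hj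
      have : GradedRing.proj 𝒜 0 u = 0 := (HomogeneousIdeal.mem_irrelevant_iff 𝒜 u).mp huI
      rw [GradedRing.proj_apply] at this
      rw [this]
      exact Submodule.zero_mem _
    refine ⟨i + j, (DirectSum.decompose 𝒜 x i : A) * (DirectSum.decompose 𝒜 u j : A), by omega,
      SetLike.mul_mem_graded (Submodule.coe_mem _) (Submodule.coe_mem _),
      Ideal.mul_mem_right _ _ (hJ i hxJ), ?_⟩
    intro h
    rcases hprime.mem_or_mem h with h | h
    · exact hi h
    · exact hj h
  obtain ⟨n, z, hn, hzn, hzJ, hz⟩ := hpa 𝒜 J P (fun p hp => (hP p hp).1) hex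
  exact ⟨z, n, hn, hzn, hzJ, hz⟩

end Groth.Agent.S15708
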