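import Groth.Statements.S15717
import Groth.Agent.Lib.helper9.Depth7
import Groth.Agent.Lib.helper9.SemiLocalDim

set_option autoImplicit false
universe u
open CAlg

namespace Groth.Agent.S15717

open RingTheory.Sequence Groth.Agent.Lib.helper9.Depth LocCoh Pointwise

lemma smul_top_self {R : Type u} [CommRing R] (K : Ideal R) :
    K • (⊤ : Submodule R R) = K := by
  rw [smul_eq_mul, Ideal.mul_top]

lemma supportDim_quot {R : Type u} [CommRing R] (K : Ideal R) :
    Module.supportDim R (R ⧸ (K • (⊤ : Submodule R R))) = ringKrullDim (R ⧸ K) := by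
  rw [Module.supportDim_eq_of_equiv (Submodule.quotEquivOfEq _ _ (smul_top_self K))]
  exact Module.supportDim_quotient_eq_ringKrullDim K

lemma quot_ne_top {R : Type u} [CommRing R] [IsLocalRing R] [IsNoetherianRing R] (K : Ideal R) :
    ringKrullDim (R ⧸ K) ≠ ⊤ :=
  (lt_of_le_of_lt (ringKrullDim_quotient_le K) ringKrullDim_lt_top).ne

lemma add_natCast_cancel {a b : WithBot ℕ∞} (n : ℕ) (ha : a ≠ ⊤) (hb : b ≠ ⊤)
    (h : a + (n : WithBot ℕ∞) = b + (n : WithBot ℕ∞)) : a = b := by
  cases a with
  | bot =>
    cases b with
    | bot => rfl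
    | coe b =>
      exfalso
      rw [WithBot.bot_add] at h
      exact WithBot.bot_ne_coe (a := b + (n : ℕ∞)) (by rw [h]; rfl)
  | coe a =>
    cases b with
    | bot =>
      exfalso
      rw [WithBot.bot_add] at h
      exact WithBot.coe_ne_bot (a := a + (n : ℕ∞)) (by rw [← h]; rfl)
    | coe b =>
      have ha' : a ≠ ⊤ := fun h' => ha (by rw [h']; rfl)
      have hb' : b ≠ ⊤ := fun h' => hb (by rw [h']; rfl)
      have h' : ((a + (n : ℕ∞) : ℕ∞) : WithBot ℕ∞) = ((b + (n : ℕ∞) : ℕ∞) : WithBot ℕ∞) := by
        exact_mod_cast h
      have h'' : a + (n : ℕ∞) = b + (n : ℕ∞) := WithBot.coe_injective h'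
      have : a = b := by
        lift a to ℕ using ha'
        lift b to ℕ using hb'
        have : a + n = b + n := by exact_mod_cast h''
        have : a = b := by omega
        rw [this]
      rw [this]

/-- Let R be a Cohen–Macaulay local ring and I an ideal of R with R/I equidimensional (all minimal
primes p over I have the same dim R/p). Then there is a regular sequence r_1, ..., r_n in I such
that the closed subscheme V(r_1, ..., r_n) of Spec R, a local complete intersection, contains V(I),
has the same dimension as V(I), and has the irreducible components of V(I) among its irreducible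
components: dim R/(r_1, ..., r_n) = dim R/I and every minimal prime over I is a minimal prime over
(r_1, ..., r_n). The sequence is asked to be weakly regular (each r_i a non-zero-divisor modulo the
previous ones), which for I proper is the same as regular and which also covers I = R with the
sequence (1). -/
theorem result (R : Type u) [CommRing R]
    [LocCoh.IsCohenMacaulayLocalRing R] (I : Ideal R)
    (hI : ∀ p ∈ I.minimalPrimes, ringKrullDim (R ⧸ p) = ringKrullDim (R ⧸ I)) :
    ∃ rs : List R, RingTheory.Sequence.IsWeaklyRegular R rs ∧ Ideal.ofList rs ≤ I ∧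
      ringKrullDim (R ⧸ Ideal.ofList rs) = ringKrullDim (R ⧸ I) ∧
      I.minimalPrimes ⊆ (Ideal.ofList rs).minimalPrimes := by
  by_cases hItop : I = ⊤
  · subst hItop
    refine ⟨[1], ?_, le_top, ?_, ?_⟩
    · rw [isWeaklyRegular_singleton_iff]
      exact IsSMulRegular.one (M := R)
    · have : Ideal.ofList ([1] : List R) = ⊤ := by
        rw [Ideal.ofList_singleton]
        exact Ideal.span_singleton_one
      rw [this]
    · rw [Ideal.minimalPrimes_top]
      exact Set.empty_subset _
  · have hM : IsCohenMacaulayModule R R :=
      LocCoh.IsCohenMacaulayLocalRing.supportDim_eq_depth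
    have hIM : I • (⊤ : Submodule R R) ≠ ⊤ := by
      rw [smul_top_self]; exact hItop
    have hIm : I ≤ IsLocalRing.maximalIdeal R := IsLocalRing.le_maximalIdeal hItop
    obtain ⟨rs, -, hreg, hmem, hmax⟩ := exists_maximal_extension (I := I) R hIM []
      (IsWeaklyRegular.nil R R) (by simp)
    have hlen := length_eq_idealDepth_of_maximal rs R hIM hreg hmem hmax
    have hJI : Ideal.ofList rs ≤ I := by
      rw [Ideal.ofList, Ideal.span_le]
      intro x hx
      exact hmem x hx
    have hmemm : ∀ x ∈ rs, x ∈ IsLocalRing.maximalIdeal R := fun x hx => hIm (hmem x hx)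
    have h1 := supportDim_quot_ofList_add_length (M := R) rs hmemm hreg
    have h2 := supportDim_eq_add_idealDepth_of_isCohenMacaulayModule I hItop R hM
    rw [← hlen] at h2
    rw [supportDim_quot] at h1 h2
    have hdim : ringKrullDim (R ⧸ Ideal.ofList rs) = ringKrullDim (R ⧸ I) := by
      refine add_natCast_cancel rs.length ?_ ?_ ?_
      · exact quot_ne_top _
      · exact quot_ne_top _
      · rw [h1]; exact h2
    refine ⟨rs, hreg, hJI, hdim, ?_⟩
    intro p hp
    haveI hpp : p.IsPrime := hp.1.1
    obtain ⟨q, hq, hqp⟩ := Ideal.exists_minimalPrimes_le (hJI.trans hp.1.2)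
    haveI hqp' : q.IsPrime := hq.1.1
    have hCMq : IsCohenMacaulayModule R (R ⧸ Ideal.ofList rs) :=
      (isCohenMacaulayModule_congr (Submodule.quotEquivOfEq _ _ (smul_top_self _))).1
        (isCohenMacaulayModule_quot_ofList hM rs hmemm hreg)
    have hqass : q ∈ associatedPrimes R (R ⧸ Ideal.ofList rs) := by
      apply Module.associatedPrimes.minimalPrimes_annihilator_subset_associatedPrimes
      rw [Ideal.annihilator_quotient]
      exact hq
    have hdq := ringKrullDim_quotient_eq_supportDim_of_isCohenMacaulayModule hCMq hqass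
    rw [Module.supportDim_quotient_eq_ringKrullDim, hdim, ← hI p hp] at hdq
    have hqeq : q = p := by
      by_contra hne
      have hlt : q < p := lt_of_le_of_ne hqp hne
      have := ringKrullDim_quotient_add_one_le_of_lt hlt
      rw [hdq] at this
      have hnt : ringKrullDim (R ⧸ p) ≠ ⊤ := quot_ne_top _
      have hnb : ringKrullDim (R ⧸ p) ≠ ⊥ := by
        haveI : Nontrivial (R ⧸ p) := Ideal.Quotient.nontrivial_iff.mpr hpp.ne_top
        intro h'
        have := ringKrullDim_nonneg_of_nontrivial (R := R ⧸ p)
        rw [h'] at this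
        exact absurd this (by simp)
      cases hd : ringKrullDim (R ⧸ p) with
      | bot => exact hnb hd
      | coe m =>
        rw [hd] at this hnt
        have hm : m ≠ ⊤ := fun h' => hnt (by rw [h']; rfl)
        lift m to ℕ using hm
        have h3 : ((m + 1 : ℕ) : WithBot ℕ∞) ≤ ((m : ℕ) : WithBot ℕ∞) := by
          exact_mod_cast this
        have : m + 1 ≤ m := by exact_mod_cast h3
        omega
    rw [← hqeq]
    exact hq

end Groth.Agent.S15717
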