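import Groth.Statements.S15724
import Mathlib
import Groth.Agent.Lib.helper23.Wt

set_option autoImplicit false
universe u
open W4c2invhilbsl2

namespace Groth.Agent.S15724

/-- Grade the polynomial ring k[X₀,…,X₄] over a field k by ℤ × ℤ/m, giving X₀ weight (1,0), X₁ and X₂
weight (−p,−1), and X₃ and X₄ weight (q,1), where 0 < p < q are coprime integers and m ≥ 1, and let
P be the principal ideal generated by the weight-zero element X₀^(q−p) − X₁X₄ + X₂X₃ (the equation
of an affine hypersurface). Then every polynomial homogeneous of the weight of X₁ is congruent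
modulo P to some a·X₁ + b·X₂ with a and b homogeneous of weight zero, and every polynomial
homogeneous of the weight of X₃ is congruent modulo P to some a·X₃ + b·X₄ with a and b homogeneous
of weight zero. Equivalently, in the coordinate ring of the hypersurface the weight pieces of the
weights of X₁ and of X₃ are generated over the weight-zero subring (the ring of invariants of the
diagonal action of a one-dimensional torus times the group of m-th roots of unity with these
weights) by X₁, X₂ and by X₃, X₄ respectively. (For the weight of X₁ the congruence is already an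
equality in the polynomial ring; for the weight of X₃ the hypersurface equation is needed, e.g.
X₀^(q+p)X₁ has that weight when m divides 2.) -/
theorem result (k : Type u) [Field k] (p q m : ℕ) (hp : 0 < p) (hpq : p < q) (hcop : Nat.Coprime p q) (hm : 0 < m) (f : MvPolynomial (Fin 5) k) :
    (f ∈ MvPolynomial.weightedHomogeneousSubmodule k (W4c2invhilbsl2.wt5 p q m) (W4c2invhilbsl2.wt5 p q m 1) →
      ∃ a b : MvPolynomial (Fin 5) k, a ∈ MvPolynomial.weightedHomogeneousSubmodule k (W4c2invhilbsl2.wt5 p q m) 0 ∧ b ∈ MvPolynomial.weightedHomogeneousSubmodule k (W4c2invhilbsl2.wt5 p q m) 0 ∧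
        f - (a * MvPolynomial.X (1 : Fin 5) + b * MvPolynomial.X (2 : Fin 5)) ∈ Ideal.span {MvPolynomial.X (0 : Fin 5) ^ (q - p) - MvPolynomial.X 1 * MvPolynomial.X 4 + MvPolynomial.X 2 * MvPolynomial.X 3}) ∧
    (f ∈ MvPolynomial.weightedHomogeneousSubmodule k (W4c2invhilbsl2.wt5 p q m) (W4c2invhilbsl2.wt5 p q m 3) →
      ∃ a b : MvPolynomial (Fin 5) k, a ∈ MvPolynomial.weightedHomogeneousSubmodule k (W4c2invhilbsl2.wt5 p q m) 0 ∧ b ∈ MvPolynomial.weightedHomogeneousSubmodule k (W4c2invhilbsl2.wt5 p q m) 0 ∧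
        f - (a * MvPolynomial.X (3 : Fin 5) + b * MvPolynomial.X (4 : Fin 5)) ∈ Ideal.span {MvPolynomial.X (0 : Fin 5) ^ (q - p) - MvPolynomial.X 1 * MvPolynomial.X 4 + MvPolynomial.X 2 * MvPolynomial.X 3}) := by
  classical
  have hzero : ∀ x : MvPolynomial (Fin 5) k, x = 0 →
      x ∈ Ideal.span {MvPolynomial.X (0 : Fin 5) ^ (q - p) - MvPolynomial.X 1 * MvPolynomial.X 4 + MvPolynomial.X 2 * MvPolynomial.X 3} := by
    rintro x rfl; exact Submodule.zero_mem _
  have hp' : (0 : ℤ) < p := by exact_mod_cast hp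
  have hq' : (0 : ℤ) < q := by exact_mod_cast (lt_trans hp hpq)
  have hw12 : W4c2invhilbsl2.wt5 p q m 2 = W4c2invhilbsl2.wt5 p q m 1 := by
    simp [W4c2invhilbsl2.wt5]
  have hw34 : W4c2invhilbsl2.wt5 p q m 4 = W4c2invhilbsl2.wt5 p q m 3 := by
    simp [W4c2invhilbsl2.wt5]
  constructor
  · revert f
    apply Groth.Agent.Lib.helper23.Wt.whs_induction k (W4c2invhilbsl2.wt5 p q m) _
      (fun f => ∃ a b : MvPolynomial (Fin 5) k, a ∈ MvPolynomial.weightedHomogeneousSubmodule k (W4c2invhilbsl2.wt5 p q m) 0 ∧ b ∈ MvPolynomial.weightedHomogeneousSubmodule k (W4c2invhilbsl2.wt5 p q m) 0 ∧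
        f - (a * MvPolynomial.X (1 : Fin 5) + b * MvPolynomial.X (2 : Fin 5)) ∈ Ideal.span {MvPolynomial.X (0 : Fin 5) ^ (q - p) - MvPolynomial.X 1 * MvPolynomial.X 4 + MvPolynomial.X 2 * MvPolynomial.X 3})
    · exact ⟨0, 0, Submodule.zero_mem _, Submodule.zero_mem _, by simp⟩
    · rintro f g ⟨a, b, ha, hb, hf⟩ ⟨a', b', ha', hb', hg⟩
      refine ⟨a + a', b + b', Submodule.add_mem _ ha ha', Submodule.add_mem _ hb hb', ?_⟩
      convert Ideal.add_mem _ hf hg using 1
      ring
    · rintro t f ⟨a, b, ha, hb, hf⟩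
      refine ⟨t • a, t • b, Submodule.smul_mem _ t ha, Submodule.smul_mem _ t hb, ?_⟩
      convert Ideal.mul_mem_left _ (MvPolynomial.C t) hf using 1
      simp only [MvPolynomial.smul_eq_C_mul]
      ring
    · intro d hd
      have hd' := hd
      rw [Groth.Agent.Lib.helper23.Wt.weight_wt5] at hd'
      have h1 : (d 0 : ℤ) - p * ((d 1 : ℤ) + d 2) + q * ((d 3 : ℤ) + d 4) = -(p : ℤ) := by
        have := congrArg Prod.fst hd'
        simpa [W4c2invhilbsl2.wt5] using this
      have hD1 : 1 ≤ d 1 + d 2 := by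
        by_contra hcon
        have h3 : d 1 = 0 := by omega
        have h4 : d 2 = 0 := by omega
        rw [h3, h4] at h1
        simp at h1
        have : (0 : ℤ) ≤ (q : ℤ) * ((d 3 : ℤ) + d 4) := by positivity
        have : (0 : ℤ) ≤ (d 0 : ℤ) := by positivity
        linarith
      rcases (show 1 ≤ d 1 ∨ 1 ≤ d 2 by omega) with hi | hi
      · obtain ⟨r, hr, hrd⟩ := Groth.Agent.Lib.helper23.Wt.factor_X k (W4c2invhilbsl2.wt5 p q m) d 1 hi _ hd
        rw [sub_self] at hr
        exact ⟨r, 0, hr, Submodule.zero_mem _, hzero _ (by rw [hrd]; ring)⟩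
      · obtain ⟨r, hr, hrd⟩ := Groth.Agent.Lib.helper23.Wt.factor_X k (W4c2invhilbsl2.wt5 p q m) d 2 hi _ hd
        rw [hw12, sub_self] at hr
        exact ⟨0, r, Submodule.zero_mem _, hr, hzero _ (by rw [hrd]; ring)⟩
  · revert f
    apply Groth.Agent.Lib.helper23.Wt.whs_induction k (W4c2invhilbsl2.wt5 p q m) _
      (fun f => ∃ a b : MvPolynomial (Fin 5) k, a ∈ MvPolynomial.weightedHomogeneousSubmodule k (W4c2invhilbsl2.wt5 p q m) 0 ∧ b ∈ MvPolynomial.weightedHomogeneousSubmodule k (W4c2invhilbsl2.wt5 p q m) 0 ∧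
        f - (a * MvPolynomial.X (3 : Fin 5) + b * MvPolynomial.X (4 : Fin 5)) ∈ Ideal.span {MvPolynomial.X (0 : Fin 5) ^ (q - p) - MvPolynomial.X 1 * MvPolynomial.X 4 + MvPolynomial.X 2 * MvPolynomial.X 3})
    · exact ⟨0, 0, Submodule.zero_mem _, Submodule.zero_mem _, by simp⟩
    · rintro f g ⟨a, b, ha, hb, hf⟩ ⟨a', b', ha', hb', hg⟩
      refine ⟨a + a', b + b', Submodule.add_mem _ ha ha', Submodule.add_mem _ hb hb', ?_⟩
      convert Ideal.add_mem _ hf hg using 1
      ring
    · rintro t f ⟨a, b, ha, hb, hf⟩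
      refine ⟨t • a, t • b, Submodule.smul_mem _ t ha, Submodule.smul_mem _ t hb, ?_⟩
      convert Ideal.mul_mem_left _ (MvPolynomial.C t) hf using 1
      simp only [MvPolynomial.smul_eq_C_mul]
      ring
    · intro d hd
      have hd' := hd
      rw [Groth.Agent.Lib.helper23.Wt.weight_wt5] at hd'
      have h1 : (d 0 : ℤ) - p * ((d 1 : ℤ) + d 2) + q * ((d 3 : ℤ) + d 4) = (q : ℤ) := by
        have := congrArg Prod.fst hd'
        simpa [W4c2invhilbsl2.wt5] using this
      by_cases hD3 : 1 ≤ d 3 + d 4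
      · rcases (show 1 ≤ d 3 ∨ 1 ≤ d 4 by omega) with hi | hi
        · obtain ⟨r, hr, hrd⟩ := Groth.Agent.Lib.helper23.Wt.factor_X k (W4c2invhilbsl2.wt5 p q m) d 3 hi _ hd
          rw [sub_self] at hr
          exact ⟨r, 0, hr, Submodule.zero_mem _, hzero _ (by rw [hrd]; ring)⟩
        · obtain ⟨r, hr, hrd⟩ := Groth.Agent.Lib.helper23.Wt.factor_X k (W4c2invhilbsl2.wt5 p q m) d 4 hi _ hd
          rw [hw34, sub_self] at hr
          exact ⟨0, r, Submodule.zero_mem _, hr, hzero _ (by rw [hrd]; ring)⟩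
      · have h3 : d 3 = 0 := by omega
        have h4 : d 4 = 0 := by omega
        rw [h3, h4] at h1
        simp at h1
        have hc : q - p ≤ d 0 := by
          have : (0 : ℤ) ≤ (p : ℤ) * ((d 1 : ℤ) + d 2) := by positivity
          have h5 : (q : ℤ) ≤ (d 0 : ℤ) := by linarith
          have h6 : q ≤ d 0 := by exact_mod_cast h5
          omega
        obtain ⟨r, hr, hrd⟩ := Groth.Agent.Lib.helper23.Wt.factor_Xpow k (W4c2invhilbsl2.wt5 p q m) d 0 (q - p) hc _ hd
        have hr' := (MvPolynomial.mem_weightedHomogeneousSubmodule k _ _ _).mp hr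
        have e1 : W4c2invhilbsl2.wt5 p q m 3 - (q - p) • W4c2invhilbsl2.wt5 p q m 0 + W4c2invhilbsl2.wt5 p q m 1 = 0 := by
          simp [W4c2invhilbsl2.wt5, Nat.cast_sub hpq.le]
        have e2 : W4c2invhilbsl2.wt5 p q m 3 - (q - p) • W4c2invhilbsl2.wt5 p q m 0 + W4c2invhilbsl2.wt5 p q m 2 = 0 := by
          simp [W4c2invhilbsl2.wt5, Nat.cast_sub hpq.le]
        have hrX1 : r * MvPolynomial.X (1 : Fin 5) ∈ MvPolynomial.weightedHomogeneousSubmodule k (W4c2invhilbsl2.wt5 p q m) 0 := by
          rw [MvPolynomial.mem_weightedHomogeneousSubmodule]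
          have h : MvPolynomial.IsWeightedHomogeneous (W4c2invhilbsl2.wt5 p q m) (r * MvPolynomial.X (1 : Fin 5))
              (W4c2invhilbsl2.wt5 p q m 3 - (q - p) • W4c2invhilbsl2.wt5 p q m 0 + W4c2invhilbsl2.wt5 p q m 1) :=
            hr'.mul (MvPolynomial.isWeightedHomogeneous_X k (W4c2invhilbsl2.wt5 p q m) (1 : Fin 5))
          rw [e1] at h
          exact h
        have hrX2 : r * MvPolynomial.X (2 : Fin 5) ∈ MvPolynomial.weightedHomogeneousSubmodule k (W4c2invhilbsl2.wt5 p q m) 0 := by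
          rw [MvPolynomial.mem_weightedHomogeneousSubmodule]
          have h : MvPolynomial.IsWeightedHomogeneous (W4c2invhilbsl2.wt5 p q m) (r * MvPolynomial.X (2 : Fin 5))
              (W4c2invhilbsl2.wt5 p q m 3 - (q - p) • W4c2invhilbsl2.wt5 p q m 0 + W4c2invhilbsl2.wt5 p q m 2) :=
            hr'.mul (MvPolynomial.isWeightedHomogeneous_X k (W4c2invhilbsl2.wt5 p q m) (2 : Fin 5))
          rw [e2] at h
          exact h
        refine ⟨-(r * MvPolynomial.X (2 : Fin 5)), r * MvPolynomial.X (1 : Fin 5),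
          Submodule.neg_mem _ hrX2, hrX1, ?_⟩
        rw [hrd, Ideal.mem_span_singleton]
        exact ⟨r, by ring⟩

end Groth.Agent.S15724
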