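import Groth.Statements.S15725
import Mathlib
import Groth.Agent.Lib.helper23.Wt

set_option autoImplicit false
universe u
open W4c2invhilbsl2

namespace Groth.Agent.S15725

/-- Grade the polynomial ring k[X₀,X₁,X₂] over a field k by ℤ × ℤ/m, giving X₀ weight (1,0), X₁ weight
(−p,−1) and X₂ weight (q,1), where 0 < p < q are coprime integers and m ≥ 1 (this three-variable
ring stands for the subring k[X₀,X₁,Xⱼ], j = 3 or 4, of the five-variable ring with the same
weights). Then every polynomial homogeneous of weight (q−p, 0) can be written a·X₀^(q−p) + b·X₁X₂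
with a and b homogeneous of weight zero; in other words the weight-(q−p, 0) piece is generated by
X₀^(q−p) and X₁X₂ as a module over the weight-zero subring. -/
theorem result (k : Type u) [Field k] (p q m : ℕ) (hp : 0 < p) (hpq : p < q) (hcop : Nat.Coprime p q) (hm : 0 < m) (f : MvPolynomial (Fin 3) k)
    (hf : f ∈ MvPolynomial.weightedHomogeneousSubmodule k (W4c2invhilbsl2.wt3 p q m) ((q : ℤ) - (p : ℤ), (0 : ZMod m))) :
    ∃ a b : MvPolynomial (Fin 3) k, a ∈ MvPolynomial.weightedHomogeneousSubmodule k (W4c2invhilbsl2.wt3 p q m) 0 ∧ b ∈ MvPolynomial.weightedHomogeneousSubmodule k (W4c2invhilbsl2.wt3 p q m) 0 ∧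
      f = a * MvPolynomial.X (0 : Fin 3) ^ (q - p) + b * (MvPolynomial.X (1 : Fin 3) * MvPolynomial.X (2 : Fin 3)) := by
  classical
  revert f
  apply Groth.Agent.Lib.helper23.Wt.whs_induction k (W4c2invhilbsl2.wt3 p q m) _
    (fun f => ∃ a b : MvPolynomial (Fin 3) k, a ∈ MvPolynomial.weightedHomogeneousSubmodule k (W4c2invhilbsl2.wt3 p q m) 0 ∧ b ∈ MvPolynomial.weightedHomogeneousSubmodule k (W4c2invhilbsl2.wt3 p q m) 0 ∧
      f = a * MvPolynomial.X (0 : Fin 3) ^ (q - p) + b * (MvPolynomial.X (1 : Fin 3) * MvPolynomial.X (2 : Fin 3)))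
  · exact ⟨0, 0, Submodule.zero_mem _, Submodule.zero_mem _, by simp⟩
  · rintro f g ⟨a, b, ha, hb, rfl⟩ ⟨a', b', ha', hb', rfl⟩
    exact ⟨a + a', b + b', Submodule.add_mem _ ha ha', Submodule.add_mem _ hb hb', by ring⟩
  · rintro c f ⟨a, b, ha, hb, rfl⟩
    exact ⟨c • a, c • b, Submodule.smul_mem _ c ha, Submodule.smul_mem _ c hb, by
      simp only [smul_add, smul_mul_assoc]⟩
  · intro d hd
    rw [Groth.Agent.Lib.helper23.Wt.weight_wt3, Prod.mk.injEq] at hd
    obtain ⟨h1, h2⟩ := hd
    by_cases hc : q - p ≤ d 0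
    · have hle : Finsupp.single (0 : Fin 3) (q - p) ≤ d :=
        Groth.Agent.Lib.helper23.Wt.single_le 0 _ d hc
      refine ⟨MvPolynomial.monomial (d - Finsupp.single (0 : Fin 3) (q - p)) 1, 0,
        Groth.Agent.Lib.helper23.Wt.monomial_mem k _ _ 0 ?_, Submodule.zero_mem _, ?_⟩
      · rw [Groth.Agent.Lib.helper23.Wt.weight_sub _ _ _ hle, Groth.Agent.Lib.helper23.Wt.weight_wt3,
          Groth.Agent.Lib.helper23.Wt.weight_wt3]
        ext
        · simp [Nat.cast_sub hpq.le]; linarith
        · simp; exact h2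
      · rw [zero_mul, add_zero, Groth.Agent.Lib.helper23.Wt.monomial_factor k d _ hle,
          MvPolynomial.X_pow_eq_monomial]
    · push Not at hc
      have hp1 : (0 : ℤ) ≤ (p : ℤ) * d 1 := by positivity
      have hd0 : ((d 0 : ℕ) : ℤ) < (q : ℤ) - p := by
        have : ((q - p : ℕ) : ℤ) = (q : ℤ) - p := Nat.cast_sub hpq.le
        rw [← this]; exact_mod_cast hc
      have hd2 : 1 ≤ d 2 := by
        by_contra hcon
        have : d 2 = 0 := by omega
        rw [this] at h1
        simp at h1
        linarith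
      have hd1 : 1 ≤ d 1 := by
        by_contra hcon
        have : d 1 = 0 := by omega
        rw [this] at h1
        simp at h1
        have : (q : ℤ) * 1 ≤ (q : ℤ) * d 2 := by
          apply mul_le_mul_of_nonneg_left _ (by positivity)
          exact_mod_cast hd2
        have hp' : (0 : ℤ) < p := by exact_mod_cast hp
        linarith
      have hle : Finsupp.single (1 : Fin 3) 1 + Finsupp.single (2 : Fin 3) 1 ≤ d := by
        intro i
        fin_cases i <;> simp <;> omega
      refine ⟨0, MvPolynomial.monomial (d - (Finsupp.single (1 : Fin 3) 1 + Finsupp.single (2 : Fin 3) 1)) 1,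
        Submodule.zero_mem _, Groth.Agent.Lib.helper23.Wt.monomial_mem k _ _ 0 ?_, ?_⟩
      · rw [Groth.Agent.Lib.helper23.Wt.weight_sub _ _ _ hle, Groth.Agent.Lib.helper23.Wt.weight_wt3,
          Groth.Agent.Lib.helper23.Wt.weight_wt3]
        ext
        · simp; linarith
        · simp; exact h2
      · rw [zero_mul, zero_add, Groth.Agent.Lib.helper23.Wt.monomial_factor k d _ hle]
        congr 1
        rw [MvPolynomial.monomial_add_single, pow_one]
        rfl

end Groth.Agent.S15725
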