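import Groth.Statements.S15726
import Mathlib
import Groth.Agent.Lib.helper23.Wt

set_option autoImplicit false
universe u
open W4c2invhilbsl2

namespace Groth.Agent.S15726

/-- Grade the polynomial ring k[X₀,…,X₄] over a field k by ℤ × ℤ/m, giving X₀ weight (1,0), X₁ and X₂
weight (−p,−1), and X₃ and X₄ weight (q,1), where 0 < p < q are coprime integers and m ≥ 1. Then
modulo the principal ideal generated by the weight-zero element X₀^(q−p) − X₁X₄ + X₂X₃ (the equation
of an affine hypersurface), every polynomial homogeneous of weight (q−p, 0) is congruent to a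
combination a₁₃X₁X₃ + a₁₄X₁X₄ + a₂₃X₂X₃ + a₂₄X₂X₄ whose four coefficients are homogeneous of weight
zero. Equivalently, in the coordinate ring of the hypersurface the weight-(q−p, 0) piece is
generated over the weight-zero subring (the invariant ring of the diagonal action with these
weights) by the span of the four products XₐX_b with a ∈ {1,2} and b ∈ {3,4}. (The published
statement is over the complex numbers; this row takes any field.) -/
theorem result (k : Type u) [Field k] (p q m : ℕ) (hp : 0 < p) (hpq : p < q) (hcop : Nat.Coprime p q) (hm : 0 < m) (f : MvPolynomial (Fin 5) k)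
    (hf : f ∈ MvPolynomial.weightedHomogeneousSubmodule k (W4c2invhilbsl2.wt5 p q m) ((q : ℤ) - (p : ℤ), (0 : ZMod m))) :
    ∃ a₁₃ a₁₄ a₂₃ a₂₄ : MvPolynomial (Fin 5) k,
      a₁₃ ∈ MvPolynomial.weightedHomogeneousSubmodule k (W4c2invhilbsl2.wt5 p q m) 0 ∧ a₁₄ ∈ MvPolynomial.weightedHomogeneousSubmodule k (W4c2invhilbsl2.wt5 p q m) 0 ∧ a₂₃ ∈ MvPolynomial.weightedHomogeneousSubmodule k (W4c2invhilbsl2.wt5 p q m) 0 ∧ a₂₄ ∈ MvPolynomial.weightedHomogeneousSubmodule k (W4c2invhilbsl2.wt5 p q m) 0 ∧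
      f - (a₁₃ * (MvPolynomial.X (1 : Fin 5) * MvPolynomial.X 3) + a₁₄ * (MvPolynomial.X (1 : Fin 5) * MvPolynomial.X 4) +
          a₂₃ * (MvPolynomial.X (2 : Fin 5) * MvPolynomial.X 3) + a₂₄ * (MvPolynomial.X (2 : Fin 5) * MvPolynomial.X 4)) ∈
        Ideal.span {MvPolynomial.X (0 : Fin 5) ^ (q - p) - MvPolynomial.X 1 * MvPolynomial.X 4 + MvPolynomial.X 2 * MvPolynomial.X 3} := by
  classical
  revert f
  apply Groth.Agent.Lib.helper23.Wt.whs_induction k (W4c2invhilbsl2.wt5 p q m) _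
    (fun f => ∃ a₁₃ a₁₄ a₂₃ a₂₄ : MvPolynomial (Fin 5) k,
      a₁₃ ∈ MvPolynomial.weightedHomogeneousSubmodule k (W4c2invhilbsl2.wt5 p q m) 0 ∧ a₁₄ ∈ MvPolynomial.weightedHomogeneousSubmodule k (W4c2invhilbsl2.wt5 p q m) 0 ∧ a₂₃ ∈ MvPolynomial.weightedHomogeneousSubmodule k (W4c2invhilbsl2.wt5 p q m) 0 ∧ a₂₄ ∈ MvPolynomial.weightedHomogeneousSubmodule k (W4c2invhilbsl2.wt5 p q m) 0 ∧
      f - (a₁₃ * (MvPolynomial.X (1 : Fin 5) * MvPolynomial.X 3) + a₁₄ * (MvPolynomial.X (1 : Fin 5) * MvPolynomial.X 4) +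
          a₂₃ * (MvPolynomial.X (2 : Fin 5) * MvPolynomial.X 3) + a₂₄ * (MvPolynomial.X (2 : Fin 5) * MvPolynomial.X 4)) ∈
        Ideal.span {MvPolynomial.X (0 : Fin 5) ^ (q - p) - MvPolynomial.X 1 * MvPolynomial.X 4 + MvPolynomial.X 2 * MvPolynomial.X 3})
  · exact ⟨0, 0, 0, 0, Submodule.zero_mem _, Submodule.zero_mem _, Submodule.zero_mem _,
      Submodule.zero_mem _, by simp⟩
  · rintro f g ⟨a, b, c, e, ha, hb, hc, he, hf⟩ ⟨a', b', c', e', ha', hb', hc', he', hg⟩
    refine ⟨a + a', b + b', c + c', e + e', Submodule.add_mem _ ha ha', Submodule.add_mem _ hb hb',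
      Submodule.add_mem _ hc hc', Submodule.add_mem _ he he', ?_⟩
    convert Ideal.add_mem _ hf hg using 1
    ring
  · rintro t f ⟨a, b, c, e, ha, hb, hc, he, hf⟩
    refine ⟨t • a, t • b, t • c, t • e, Submodule.smul_mem _ t ha, Submodule.smul_mem _ t hb,
      Submodule.smul_mem _ t hc, Submodule.smul_mem _ t he, ?_⟩
    convert Ideal.mul_mem_left _ (MvPolynomial.C t) hf using 1
    simp only [MvPolynomial.smul_eq_C_mul]
    ring
  · intro d hd
    have hd' := hd
    rw [Groth.Agent.Lib.helper23.Wt.weight_wt5, Prod.mk.injEq] at hd'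
    obtain ⟨h1, h2⟩ := hd'
    have hw0 : (q - p) • W4c2invhilbsl2.wt5 p q m 0 = ((q : ℤ) - (p : ℤ), (0 : ZMod m)) := by
      simp [W4c2invhilbsl2.wt5, Nat.cast_sub hpq.le]
    have hw13 : W4c2invhilbsl2.wt5 p q m 1 + W4c2invhilbsl2.wt5 p q m 3 = ((q : ℤ) - (p : ℤ), (0 : ZMod m)) := by
      simp [W4c2invhilbsl2.wt5]; ring
    have hw14 : W4c2invhilbsl2.wt5 p q m 1 + W4c2invhilbsl2.wt5 p q m 4 = ((q : ℤ) - (p : ℤ), (0 : ZMod m)) := by
      simp [W4c2invhilbsl2.wt5]; ring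
    have hw23 : W4c2invhilbsl2.wt5 p q m 2 + W4c2invhilbsl2.wt5 p q m 3 = ((q : ℤ) - (p : ℤ), (0 : ZMod m)) := by
      simp [W4c2invhilbsl2.wt5]; ring
    have hw24 : W4c2invhilbsl2.wt5 p q m 2 + W4c2invhilbsl2.wt5 p q m 4 = ((q : ℤ) - (p : ℤ), (0 : ZMod m)) := by
      simp [W4c2invhilbsl2.wt5]; ring
    by_cases hc : q - p ≤ d 0
    · obtain ⟨r, hr, hrd⟩ := Groth.Agent.Lib.helper23.Wt.factor_Xpow k (W4c2invhilbsl2.wt5 p q m) d 0 (q - p) hc _ hd
      rw [hw0, sub_self] at hr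
      refine ⟨0, r, -r, 0, Submodule.zero_mem _, hr, Submodule.neg_mem _ hr, Submodule.zero_mem _, ?_⟩
      rw [hrd, Ideal.mem_span_singleton]
      exact ⟨r, by ring⟩
    · push Not at hc
      have hd0 : ((d 0 : ℕ) : ℤ) < (q : ℤ) - p := by
        have : ((q - p : ℕ) : ℤ) = (q : ℤ) - p := Nat.cast_sub hpq.le
        rw [← this]; exact_mod_cast hc
      have hp' : (0 : ℤ) < p := by exact_mod_cast hp
      have hD3 : 1 ≤ d 3 + d 4 := by
        by_contra hcon
        have h3 : d 3 = 0 := by omega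
        have h4 : d 4 = 0 := by omega
        rw [h3, h4] at h1
        have : (0 : ℤ) ≤ (p : ℤ) * ((d 1 : ℤ) + d 2) := by positivity
        simp at h1
        linarith
      have hD1 : 1 ≤ d 1 + d 2 := by
        by_contra hcon
        have h3 : d 1 = 0 := by omega
        have h4 : d 2 = 0 := by omega
        rw [h3, h4] at h1
        simp at h1
        have : (q : ℤ) * 1 ≤ (q : ℤ) * ((d 3 : ℤ) + d 4) := by
          apply mul_le_mul_of_nonneg_left _ (by positivity)
          exact_mod_cast hD3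
        linarith
      have hzero : ∀ x : MvPolynomial (Fin 5) k, x = 0 →
          x ∈ Ideal.span {MvPolynomial.X (0 : Fin 5) ^ (q - p) - MvPolynomial.X 1 * MvPolynomial.X 4 + MvPolynomial.X 2 * MvPolynomial.X 3} := by
        rintro x rfl; exact Submodule.zero_mem _
      rcases (show 1 ≤ d 1 ∨ 1 ≤ d 2 by omega) with hi | hi <;>
      rcases (show 1 ≤ d 3 ∨ 1 ≤ d 4 by omega) with hj | hj
      · obtain ⟨r, hr, hrd⟩ := Groth.Agent.Lib.helper23.Wt.factor_XX k (W4c2invhilbsl2.wt5 p q m) d 1 3 (by decide) hi hj _ hd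
        rw [hw13, sub_self] at hr
        exact ⟨r, 0, 0, 0, hr, Submodule.zero_mem _, Submodule.zero_mem _, Submodule.zero_mem _,
          hzero _ (by rw [hrd]; ring)⟩
      · obtain ⟨r, hr, hrd⟩ := Groth.Agent.Lib.helper23.Wt.factor_XX k (W4c2invhilbsl2.wt5 p q m) d 1 4 (by decide) hi hj _ hd
        rw [hw14, sub_self] at hr
        exact ⟨0, r, 0, 0, Submodule.zero_mem _, hr, Submodule.zero_mem _, Submodule.zero_mem _,
          hzero _ (by rw [hrd]; ring)⟩
      · obtain ⟨r, hr, hrd⟩ := Groth.Agent.Lib.helper23.Wt.factor_XX k (W4c2invhilbsl2.wt5 p q m) d 2 3 (by decide) hi hj _ hd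
        rw [hw23, sub_self] at hr
        exact ⟨0, 0, r, 0, Submodule.zero_mem _, Submodule.zero_mem _, hr, Submodule.zero_mem _,
          hzero _ (by rw [hrd]; ring)⟩
      · obtain ⟨r, hr, hrd⟩ := Groth.Agent.Lib.helper23.Wt.factor_XX k (W4c2invhilbsl2.wt5 p q m) d 2 4 (by decide) hi hj _ hd
        rw [hw24, sub_self] at hr
        exact ⟨0, 0, 0, r, Submodule.zero_mem _, Submodule.zero_mem _, Submodule.zero_mem _, hr,
          hzero _ (by rw [hrd]; ring)⟩

end Groth.Agent.S15726
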