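import Groth.Statements.S15738
import Mathlib

set_option autoImplicit false
universe u
open W4c2invhilbsl2

namespace Groth.Agent.S15738

section helpers

variable {A : Type*} [CommRing A] (u x y : A)

theorem L1 (D t a b c : ℕ) :
    u ^ (a + D * t) * x ^ b * y ^ c - u ^ a * x ^ (b + t) * y ^ (c + t) ∈
      Ideal.span {u ^ D - x * y} := by
  have h : u ^ (a + D * t) * x ^ b * y ^ c - u ^ a * x ^ (b + t) * y ^ (c + t)
      = (u ^ a * x ^ b * y ^ c) * ((u ^ D) ^ t - (x * y) ^ t) := by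
    rw [pow_add, pow_add, pow_add, pow_mul, mul_pow]; ring
  rw [h]
  apply Ideal.mul_mem_left
  rw [Ideal.mem_span_singleton]
  exact sub_dvd_pow_sub_pow _ _ _

theorem L2 (p q : ℕ) (hpq : p < q) (d0 d1 d2 e0 e1 e2 : ℕ)
    (hn : (e0 : ℤ) - (p : ℤ) * e1 + (q : ℤ) * e2 = (d0 : ℤ) - (p : ℤ) * d1 + (q : ℤ) * d2)
    (hc : (d1 : ℤ) - d2 = (e1 : ℤ) - e2) :
    u ^ d0 * x ^ d1 * y ^ d2 - u ^ e0 * x ^ e1 * y ^ e2 ∈ Ideal.span {u ^ (q - p) - x * y} := by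
  have hD : ((q - p : ℕ) : ℤ) = (q : ℤ) - p := Nat.cast_sub hpq.le
  rcases le_total d1 e1 with h | h
  · obtain ⟨t, rfl⟩ := Nat.exists_eq_add_of_le h
    have he2 : e2 = d2 + t := by
      have : (e2 : ℤ) = d2 + t := by push_cast at hc; linarith
      exact_mod_cast this
    subst he2
    have hd0 : d0 = e0 + (q - p) * t := by
      have : (d0 : ℤ) = e0 + ((q : ℤ) - p) * t := by push_cast at hn; linarith
      rw [← hD] at this
      exact_mod_cast this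
    subst hd0
    exact L1 u x y (q - p) t e0 d1 d2
  · obtain ⟨t, rfl⟩ := Nat.exists_eq_add_of_le h
    have hd2 : d2 = e2 + t := by
      have : (d2 : ℤ) = e2 + t := by push_cast at hc; linarith
      exact_mod_cast this
    subst hd2
    have he0 : e0 = d0 + (q - p) * t := by
      have : (e0 : ℤ) = d0 + ((q : ℤ) - p) * t := by push_cast at hn; linarith
      rw [← hD] at this
      exact_mod_cast this
    subst he0
    have := L1 u x y (q - p) t d0 e1 e2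
    rw [← Ideal.neg_mem_iff, neg_sub] at this
    exact this

/-- the case `c ≥ c'` -/
theorem L4 (p q m : ℕ) (hpq : p < q) (d0 d1 d2 e0 e1 e2 s : ℕ)
    (hn : (e0 : ℤ) - (p : ℤ) * e1 + (q : ℤ) * e2 = (d0 : ℤ) - (p : ℤ) * d1 + (q : ℤ) * d2)
    (hc : ((d1 : ℤ) - d2) - ((e1 : ℤ) - e2) = (m : ℤ) * s) :
    u ^ d0 * x ^ d1 * y ^ d2 - u ^ e0 * x ^ e1 * y ^ e2 * (u ^ (m * p) * x ^ m) ^ s ∈
      Ideal.span {u ^ (q - p) - x * y} := by
  have h : u ^ e0 * x ^ e1 * y ^ e2 * (u ^ (m * p) * x ^ m) ^ s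
      = u ^ (e0 + m * p * s) * x ^ (e1 + m * s) * y ^ e2 := by
    rw [mul_pow, ← pow_mul, ← pow_mul, pow_add, pow_add]; ring
  rw [h]
  apply L2 u x y p q hpq
  · push_cast; linarith
  · push_cast; linarith

theorem L3 (M w : A) (s : ℕ) : M * w ^ s - M ∈ Ideal.span {1 - w} := by
  have : M * w ^ s - M = (-M) * (1 ^ s - w ^ s) := by rw [one_pow]; ring
  rw [this]
  apply Ideal.mul_mem_left
  rw [Ideal.mem_span_singleton]
  exact sub_dvd_pow_sub_pow _ _ _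

theorem L5 (p q m : ℕ) (hpq : p < q) (d0 d1 d2 e0 e1 e2 s : ℕ)
    (hn : (e0 : ℤ) - (p : ℤ) * e1 + (q : ℤ) * e2 = (d0 : ℤ) - (p : ℤ) * d1 + (q : ℤ) * d2)
    (hc : ((d1 : ℤ) - d2) - ((e1 : ℤ) - e2) = (m : ℤ) * s) :
    u ^ d0 * x ^ d1 * y ^ d2 - u ^ e0 * x ^ e1 * y ^ e2 ∈
      Ideal.span {u ^ (q - p) - x * y, 1 - u ^ (m * p) * x ^ m} := by
  have h1 := L4 u x y p q m hpq d0 d1 d2 e0 e1 e2 s hn hc
  have h2 := L3 (u ^ e0 * x ^ e1 * y ^ e2) (u ^ (m * p) * x ^ m) s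
  have h1' : u ^ d0 * x ^ d1 * y ^ d2 - u ^ e0 * x ^ e1 * y ^ e2 * (u ^ (m * p) * x ^ m) ^ s ∈
      Ideal.span {u ^ (q - p) - x * y, 1 - u ^ (m * p) * x ^ m} :=
    Ideal.span_mono (by intro z hz; rw [Set.mem_singleton_iff] at hz; rw [hz]; simp) h1
  have h2' : u ^ e0 * x ^ e1 * y ^ e2 * (u ^ (m * p) * x ^ m) ^ s - u ^ e0 * x ^ e1 * y ^ e2 ∈
      Ideal.span {u ^ (q - p) - x * y, 1 - u ^ (m * p) * x ^ m} :=
    Ideal.span_mono (by intro z hz; rw [Set.mem_singleton_iff] at hz; rw [hz]; simp) h2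
  have := Ideal.add_mem _ h1' h2'
  rwa [sub_add_sub_cancel] at this

end helpers

/-- Let k be a field and m ≥ 1; for a monomial X₀^d₀X₁^d₁X₂^d₂ of the polynomial ring in X₀, X₁, X₂ (X₂
standing for Xⱼ, j = 3 or 4, of the five-variable ring) put n = d₀ − p·d₁ + q·d₂ (its weight for the
torus diag(t, t^(−p), t^q)), c = d₁ − d₂ and ω = p·d₁ − q·d₂, so that d₀ = n + ω; here 0 < p < q are
coprime integers. Take two monomials X₀^d₀X₁^d₁X₂^d₂ and X₀^e₀X₁^e₁X₂^e₂ with the same n and with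
values c, c' of c congruent modulo m (so both lie in the same ℤ × ℤ/m-weight piece for the weights
(1,0), (−p,−1), (q,1)). Then: (i) if c = c', the difference of the two monomials lies in the
principal ideal (X₀^(q−p) − X₁X₂); (ii) if c' < c, the monomial X₀^d₀X₁^d₁X₂^d₂ lies in the ideal
(X₀^(q−p) − X₁X₂, X₀^(mp)X₁^m); (iii) in all cases the difference lies in the ideal (X₀^(q−p) −
X₁X₂, 1 − X₀^(mp)X₁^m). -/
theorem result (k : Type u) [Field k] (p q m : ℕ) (hp : 0 < p) (hpq : p < q) (hcop : Nat.Coprime p q) (hm : 0 < m)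
    (d0 d1 d2 e0 e1 e2 : ℕ) (hn : (e0 : ℤ) - (p : ℤ) * e1 + (q : ℤ) * e2 = (d0 : ℤ) - (p : ℤ) * d1 + (q : ℤ) * d2)
    (hc : (m : ℤ) ∣ ((d1 : ℤ) - d2) - ((e1 : ℤ) - e2)) :
    ((d1 : ℤ) - d2 = (e1 : ℤ) - e2 →
      (MvPolynomial.X (0 : Fin 3) ^ d0 * MvPolynomial.X (1 : Fin 3) ^ d1 * MvPolynomial.X (2 : Fin 3) ^ d2 - MvPolynomial.X (0 : Fin 3) ^ e0 * MvPolynomial.X (1 : Fin 3) ^ e1 * MvPolynomial.X (2 : Fin 3) ^ e2 : MvPolynomial (Fin 3) k) ∈ Ideal.span {MvPolynomial.X (0 : Fin 3) ^ (q - p) - MvPolynomial.X (1 : Fin 3) * MvPolynomial.X (2 : Fin 3)}) ∧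
    ((e1 : ℤ) - e2 < (d1 : ℤ) - d2 →
      (MvPolynomial.X (0 : Fin 3) ^ d0 * MvPolynomial.X (1 : Fin 3) ^ d1 * MvPolynomial.X (2 : Fin 3) ^ d2 : MvPolynomial (Fin 3) k) ∈ Ideal.span {MvPolynomial.X (0 : Fin 3) ^ (q - p) - MvPolynomial.X (1 : Fin 3) * MvPolynomial.X (2 : Fin 3), MvPolynomial.X (0 : Fin 3) ^ (m * p) * MvPolynomial.X (1 : Fin 3) ^ m}) ∧
    ((MvPolynomial.X (0 : Fin 3) ^ d0 * MvPolynomial.X (1 : Fin 3) ^ d1 * MvPolynomial.X (2 : Fin 3) ^ d2 - MvPolynomial.X (0 : Fin 3) ^ e0 * MvPolynomial.X (1 : Fin 3) ^ e1 * MvPolynomial.X (2 : Fin 3) ^ e2 : MvPolynomial (Fin 3) k) ∈ Ideal.span {MvPolynomial.X (0 : Fin 3) ^ (q - p) - MvPolynomial.X (1 : Fin 3) * MvPolynomial.X (2 : Fin 3), 1 - MvPolynomial.X (0 : Fin 3) ^ (m * p) * MvPolynomial.X (1 : Fin 3) ^ m}) := by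
  refine ⟨?_, ?_, ?_⟩
  · intro hcc
    exact L2 _ _ _ p q hpq d0 d1 d2 e0 e1 e2 hn hcc
  · intro hlt
    obtain ⟨s', hs'⟩ := hc
    have hs'pos : 0 < s' := by
      have hm' : (0 : ℤ) < m := by exact_mod_cast hm
      by_contra hcon
      push Not at hcon
      have : (m : ℤ) * s' ≤ 0 := mul_nonpos_of_nonneg_of_nonpos hm'.le hcon
      linarith
    obtain ⟨s, rfl⟩ : ∃ s : ℕ, s' = s := ⟨s'.toNat, by omega⟩
    have hs1 : 1 ≤ s := by exact_mod_cast hs'pos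
    have h1 := L4 (MvPolynomial.X (0 : Fin 3) : MvPolynomial (Fin 3) k) (MvPolynomial.X 1) (MvPolynomial.X 2)
      p q m hpq d0 d1 d2 e0 e1 e2 s hn hs'
    have h1' := Ideal.span_mono (s := {(MvPolynomial.X (0 : Fin 3) : MvPolynomial (Fin 3) k) ^ (q - p) - MvPolynomial.X 1 * MvPolynomial.X 2})
      (t := {MvPolynomial.X (0 : Fin 3) ^ (q - p) - MvPolynomial.X (1 : Fin 3) * MvPolynomial.X (2 : Fin 3), MvPolynomial.X (0 : Fin 3) ^ (m * p) * MvPolynomial.X (1 : Fin 3) ^ m})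
      (by intro z hz; rw [Set.mem_singleton_iff] at hz; rw [hz]; simp) h1
    have h2 : (MvPolynomial.X (0 : Fin 3) : MvPolynomial (Fin 3) k) ^ e0 * MvPolynomial.X 1 ^ e1 * MvPolynomial.X 2 ^ e2 *
        (MvPolynomial.X 0 ^ (m * p) * MvPolynomial.X 1 ^ m) ^ s ∈
        Ideal.span {MvPolynomial.X (0 : Fin 3) ^ (q - p) - MvPolynomial.X (1 : Fin 3) * MvPolynomial.X (2 : Fin 3), MvPolynomial.X (0 : Fin 3) ^ (m * p) * MvPolynomial.X (1 : Fin 3) ^ m} := by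
      apply Ideal.mul_mem_left
      obtain ⟨s0, rfl⟩ := Nat.exists_eq_add_of_le hs1
      rw [pow_add, pow_one]
      apply Ideal.mul_mem_right
      exact Ideal.subset_span (by simp)
    have := Ideal.add_mem _ h1' h2
    rwa [sub_add_cancel] at this
  · obtain ⟨s', hs'⟩ := hc
    rcases le_total 0 s' with hs | hs
    · obtain ⟨s, rfl⟩ : ∃ s : ℕ, s' = s := ⟨s'.toNat, by omega⟩
      exact L5 _ _ _ p q m hpq d0 d1 d2 e0 e1 e2 s hn hs'
    · obtain ⟨s, hs⟩ : ∃ s : ℕ, -s' = s := ⟨(-s').toNat, by omega⟩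
      have := L5 (MvPolynomial.X (0 : Fin 3) : MvPolynomial (Fin 3) k) (MvPolynomial.X 1) (MvPolynomial.X 2)
        p q m hpq e0 e1 e2 d0 d1 d2 s hn.symm (by rw [← hs]; linarith)
      rw [← Ideal.neg_mem_iff, neg_sub] at this
      exact this

end Groth.Agent.S15738
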