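import Groth.Statements.S15727
import Mathlib
import Groth.Agent.Lib.helper23.Wt
import Groth.Agent.S15738

set_option autoImplicit false
universe u
open W4c2invhilbsl2

namespace Groth.Agent.S15727

section helpers

open MvPolynomial Groth.Agent.Lib.helper23

theorem key (k : Type u) [Field k] (p q m : ℕ) (hpq : p < q) (s : k) (d e : Fin 5 →₀ ℕ) (j : ℕ)
    (hd2 : d 2 = 0) (hd3 : d 3 = 0) (he2 : e 2 = 0) (he3 : e 3 = 0)
    (hn : (e 0 : ℤ) - (p : ℤ) * e 1 + (q : ℤ) * e 4 = (d 0 : ℤ) - (p : ℤ) * d 1 + (q : ℤ) * d 4)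
    (hc : ((d 1 : ℤ) - d 4) - ((e 1 : ℤ) - e 4) = (m : ℤ) * j) :
    monomial d (1 : k) - s ^ j • monomial e (1 : k) ∈ W4c2invhilbsl2.idealI k p q m s := by
  have h1 := Groth.Agent.S15738.L4 (X (0 : Fin 5) : MvPolynomial (Fin 5) k) (X 1) (X 4)
    p q m hpq (d 0) (d 1) (d 4) (e 0) (e 1) (e 4) j hn hc
  have h1' : (X (0 : Fin 5) : MvPolynomial (Fin 5) k) ^ d 0 * X 1 ^ d 1 * X 4 ^ d 4 -
      X 0 ^ e 0 * X 1 ^ e 1 * X 4 ^ e 4 * (X 0 ^ (m * p) * X 1 ^ m) ^ j ∈
      W4c2invhilbsl2.idealI k p q m s := by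
    refine Ideal.span_mono ?_ h1
    intro z hz; rw [Set.mem_singleton_iff] at hz; rw [hz]; simp
  have h2 : (X (0 : Fin 5) : MvPolynomial (Fin 5) k) ^ e 0 * X 1 ^ e 1 * X 4 ^ e 4 *
      ((X 0 ^ (m * p) * X 1 ^ m) ^ j - (C s) ^ j) ∈ W4c2invhilbsl2.idealI k p q m s := by
    apply Ideal.mul_mem_left
    have h3 : (X (0 : Fin 5) : MvPolynomial (Fin 5) k) ^ (m * p) * X 1 ^ m - C s ∈
        W4c2invhilbsl2.idealI k p q m s := by
      rw [← Ideal.neg_mem_iff, neg_sub]
      exact Ideal.subset_span (by simp)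
    obtain ⟨r, hr⟩ := sub_dvd_pow_sub_pow ((X (0 : Fin 5) : MvPolynomial (Fin 5) k) ^ (m * p) * X 1 ^ m) (C s) j
    rw [hr]
    exact Ideal.mul_mem_right _ _ h3
  have := Ideal.add_mem _ h1' h2
  convert this using 1
  rw [Wt.monomial5_eq, Wt.monomial5_eq, hd2, hd3, he2, he3, smul_eq_C_mul, C_pow]
  ring

theorem zero_case (k : Type u) [Field k] (p q m : ℕ) (s : k) (d : Fin 5 →₀ ℕ)
    (h : d 2 ≠ 0 ∨ d 3 ≠ 0) : monomial d (1 : k) ∈ W4c2invhilbsl2.idealI k p q m s := by
  rw [Wt.monomial5_eq]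
  have hX2 : (X (2 : Fin 5) : MvPolynomial (Fin 5) k) ∈ W4c2invhilbsl2.idealI k p q m s :=
    Ideal.subset_span (by simp)
  have hX3 : (X (3 : Fin 5) : MvPolynomial (Fin 5) k) ∈ W4c2invhilbsl2.idealI k p q m s :=
    Ideal.subset_span (by simp)
  rcases h with h | h
  · apply Ideal.mul_mem_right; apply Ideal.mul_mem_right; apply Ideal.mul_mem_left
    exact Ideal.pow_mem_of_mem _ hX2 _ (Nat.pos_of_ne_zero h)
  · apply Ideal.mul_mem_right; apply Ideal.mul_mem_left
    exact Ideal.pow_mem_of_mem _ hX3 _ (Nat.pos_of_ne_zero h)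

end helpers

/-- Let k be an algebraically closed field, 0 < p < q coprime integers and m ≥ 1, and grade k[X₀,…,X₄]
by ℤ × ℤ/m, giving X₀ weight (1,0), X₁ and X₂ weight (−p,−1), and X₃ and X₄ weight (q,1). For s ∈ k
let I_s be the ideal (X₀^(q−p) − X₁X₄, X₂, X₃, s − X₀^(mp)X₁^m), whose generators are homogeneous
(the last one of weight zero). Then for every weight ν the image in k[X₀,…,X₄]/I_s of the
homogeneous polynomials of weight ν is a k-vector space of dimension at most 1. (The published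
statement asserts that this dimension equals 1 for every ν and every s, namely that the quotient has
the Hilbert function of the regular representation of the grading group; this row states the upper
bound, the half obtained from the monomial analysis of the weight pieces, while the lower bound
there is drawn from the moduli interpretation of these ideals. The published statement is over the
complex numbers; this row takes any algebraically closed field, which is what the reduction to s =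
0, 1 by rescaling the variables uses.) -/
theorem result (k : Type u) [Field k] [IsAlgClosed k] (p q m : ℕ) (hp : 0 < p) (hpq : p < q) (hcop : Nat.Coprime p q) (hm : 0 < m) (s : k) (ν : ℤ × ZMod m) :
    Module.rank k (W4c2invhilbsl2.piece k (W4c2invhilbsl2.wt5 p q m) (W4c2invhilbsl2.idealI k p q m s) ν) ≤ 1 := by
  unfold W4c2invhilbsl2.piece
  rw [Groth.Agent.Lib.helper23.Wt.whs_eq_span, Submodule.map_span]
  apply Groth.Agent.Lib.helper23.Wt.rank_span_le_one
  rintro _ ⟨_, ⟨d, hd, rfl⟩, rfl⟩ _ ⟨_, ⟨e, he, rfl⟩, rfl⟩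
  simp only [Set.mem_ofPred_eq] at hd he
  by_cases hdz : d 2 ≠ 0 ∨ d 3 ≠ 0
  · refine ⟨0, Or.inr ?_⟩
    rw [zero_smul]
    exact Ideal.Quotient.eq_zero_iff_mem.mpr (zero_case k p q m s d hdz)
  by_cases hez : e 2 ≠ 0 ∨ e 3 ≠ 0
  · refine ⟨0, Or.inl ?_⟩
    rw [zero_smul]
    exact Ideal.Quotient.eq_zero_iff_mem.mpr (zero_case k p q m s e hez)
  push Not at hdz hez
  obtain ⟨hd2, hd3⟩ := hdz
  obtain ⟨he2, he3⟩ := hez
  rw [Groth.Agent.Lib.helper23.Wt.weight_wt5] at hd he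
  have hde := hd.trans he.symm
  rw [Prod.mk.injEq] at hde
  obtain ⟨h1, h2⟩ := hde
  rw [hd2, hd3, he2, he3] at h1 h2
  simp only [Nat.cast_zero, add_zero, zero_add] at h1 h2
  have hdvd : (m : ℤ) ∣ ((d 1 : ℤ) - d 4) - ((e 1 : ℤ) - e 4) := by
    rw [← ZMod.intCast_zmod_eq_zero_iff_dvd]
    push_cast
    linear_combination h2 * (-1)
  obtain ⟨z, hz⟩ := hdvd
  rcases le_total 0 z with hz0 | hz0
  · obtain ⟨j, rfl⟩ : ∃ j : ℕ, z = j := ⟨z.toNat, by omega⟩
    refine ⟨s ^ j, Or.inr ?_⟩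
    have := key k p q m hpq s d e j hd2 hd3 he2 he3 h1.symm hz
    rw [← LinearMap.map_smul, ← sub_eq_zero, ← LinearMap.map_sub]
    exact Ideal.Quotient.eq_zero_iff_mem.mpr this
  · obtain ⟨j, hj⟩ : ∃ j : ℕ, -z = j := ⟨(-z).toNat, by omega⟩
    refine ⟨s ^ j, Or.inl ?_⟩
    have := key k p q m hpq s e d j he2 he3 hd2 hd3 h1 (by rw [← hj]; linarith)
    rw [← LinearMap.map_smul, ← sub_eq_zero, ← LinearMap.map_sub]
    exact Ideal.Quotient.eq_zero_iff_mem.mpr this

end Groth.Agent.S15727
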