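import Groth.Statements.S15739
import Mathlib

set_option autoImplicit false
universe u
open W4c2invhilbsl2

namespace Groth.Agent.S15739


theorem nt (p q m : ℕ) (hp : 0 < p) (hpq : p < q) (hcop : Nat.Coprime p q) (hm : 0 < m)
    (d0 d1 d2 e0 e1 e2 : ℕ) (hn : (e0 : ℤ) - (p : ℤ) * e1 + (q : ℤ) * e2 = (d0 : ℤ) - (p : ℤ) * d1 + (q : ℤ) * d2)
    (hcd : (m : ℤ) ∣ (d1 : ℤ) - d2) (hce : (m : ℤ) ∣ (e1 : ℤ) - e2)
    (hd0 : d0 < Nat.gcd m (q - p)) (he0 : e0 < Nat.gcd m (q - p)) :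
    d0 = e0 ∧ ∃ T : ℤ, ((e1 : ℤ) - e2) - ((d1 : ℤ) - d2) = (m : ℤ) * ((q - p) / Nat.gcd m (q - p) : ℕ) * T ∧
      (e1 : ℤ) = d1 + ((m / Nat.gcd m (q - p) * q : ℕ) : ℤ) * T ∧
      (e2 : ℤ) = d2 + ((m / Nat.gcd m (q - p) * p : ℕ) : ℤ) * T := by
  set D := q - p with hDdef
  set g := Nat.gcd m D with hg
  have hDpos : 0 < D := Nat.sub_pos_of_lt hpq
  have hgpos : 0 < g := Nat.gcd_pos_of_pos_left _ hm
  have hDcast : ((D : ℕ) : ℤ) = (q : ℤ) - p := Nat.cast_sub hpq.le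
  obtain ⟨a, ha⟩ : g ∣ m := Nat.gcd_dvd_left m D
  obtain ⟨b, hb⟩ : g ∣ D := Nat.gcd_dvd_right m D
  have hma : m / g = a := by rw [ha]; exact Nat.mul_div_cancel_left a hgpos
  have hDb : D / g = b := by rw [hb]; exact Nat.mul_div_cancel_left b hgpos
  rw [hma, hDb]
  have hbpos : 0 < b := by
    rcases Nat.eq_zero_or_pos b with h | h
    · rw [h, mul_zero] at hb; omega
    · exact h
  obtain ⟨c1, hc1⟩ := hcd
  obtain ⟨c2, hc2⟩ := hce
  -- key identity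
  have hkey : (e0 : ℤ) - d0 = (p : ℤ) * (((e1 : ℤ) - e2) - ((d1 : ℤ) - d2)) - (D : ℤ) * ((e2 : ℤ) - d2) := by
    rw [hDcast]; linarith
  have hgd : (g : ℤ) ∣ (e0 : ℤ) - d0 := by
    rw [hkey, hc1, hc2]
    have h1 : (g : ℤ) ∣ (m : ℤ) := by exact_mod_cast Nat.gcd_dvd_left m D
    have h2 : (g : ℤ) ∣ (D : ℤ) := by exact_mod_cast Nat.gcd_dvd_right m D
    apply dvd_sub
    · apply Dvd.dvd.mul_left
      apply dvd_sub <;> exact Dvd.dvd.mul_right h1 _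
    · exact Dvd.dvd.mul_right h2 _
  have h00 : (e0 : ℤ) - d0 = 0 := by
    apply Int.eq_zero_of_abs_lt_dvd hgd
    rw [abs_lt]
    constructor <;> [skip; skip] <;> omega
  have hde : d0 = e0 := by omega
  refine ⟨hde, ?_⟩
  -- D ∣ c' - c
  set Δ : ℤ := ((e1 : ℤ) - e2) - ((d1 : ℤ) - d2) with hΔ
  have hpΔ : (p : ℤ) * Δ = (D : ℤ) * ((e2 : ℤ) - d2) := by rw [h00] at hkey; linarith
  have hcopD : Nat.Coprime D p := ((Nat.coprime_sub_self_right hpq.le).mpr hcop).symm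
  have hDΔ : (D : ℤ) ∣ Δ := by
    have h1 : (D : ℤ) ∣ (p : ℤ) * Δ := ⟨_, hpΔ⟩
    have hcop' : IsCoprime (D : ℤ) (p : ℤ) := Nat.isCoprime_iff_coprime.mpr hcopD
    exact hcop'.dvd_of_dvd_mul_left h1
  have hmΔ : (m : ℤ) ∣ Δ := by
    rw [hΔ, hc1, hc2]; exact ⟨c2 - c1, by ring⟩
  have hlcm : ((Nat.lcm m D : ℕ) : ℤ) ∣ Δ := by
    rw [Int.natCast_dvd] at hDΔ hmΔ ⊢
    exact Nat.lcm_dvd hmΔ hDΔ
  have hlcm_eq : Nat.lcm m D = m * b := by
    have h1 := Nat.gcd_mul_lcm m D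
    rw [← hg] at h1
    have : g * Nat.lcm m D = g * (m * b) := by
      rw [h1]
      conv_lhs => rw [hb]
      ring
    exact Nat.eq_of_mul_eq_mul_left hgpos this
  rw [hlcm_eq] at hlcm
  obtain ⟨T, hT⟩ := hlcm
  push_cast at hT
  refine ⟨T, hT, ?_⟩
  -- e2 - d2 = a p T
  have hgb : ((g : ℤ) * b) ≠ 0 := by positivity
  have h2 : (e2 : ℤ) - d2 = (a : ℤ) * p * T := by
    have : ((g : ℤ) * b) * ((e2 : ℤ) - d2) = ((g : ℤ) * b) * ((a : ℤ) * p * T) := by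
      have hD' : (D : ℤ) = (g : ℤ) * b := by exact_mod_cast hb
      have hm' : (m : ℤ) = (g : ℤ) * a := by exact_mod_cast ha
      rw [← hD', ← hpΔ, hT, hm', hD']; ring
    exact mul_left_cancel₀ hgb this
  have h1 : (e1 : ℤ) - d1 = (a : ℤ) * q * T := by
    have hD' : (D : ℤ) = (g : ℤ) * b := by exact_mod_cast hb
    have hm' : (m : ℤ) = (g : ℤ) * a := by exact_mod_cast ha
    have : (e1 : ℤ) - d1 = Δ + ((e2 : ℤ) - d2) := by rw [hΔ]; ring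
    rw [this, h2, hT, hm']
    have hq : (q : ℤ) = p + (g : ℤ) * b := by rw [← hD', hDcast]; ring
    rw [hq]; ring
  constructor
  · push_cast; linarith
  · push_cast; linarith

theorem G1 {A : Type*} [CommRing A] (u x y : A) (d0 d1 d2 a b t : ℕ) :
    u ^ d0 * x ^ (d1 + a * t) * y ^ (d2 + b * t) = u ^ d0 * x ^ d1 * y ^ d2 * (x ^ a * y ^ b) ^ t := by
  rw [pow_add, pow_add, pow_mul, pow_mul, mul_pow]; ring

theorem G2 {A : Type*} [CommRing A] (M z : A) (t : ℕ) : M * z ^ t - M ∈ Ideal.span {1 - z} := by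
  have : M * z ^ t - M = (-M) * (1 ^ t - z ^ t) := by rw [one_pow]; ring
  rw [this]
  apply Ideal.mul_mem_left
  rw [Ideal.mem_span_singleton]
  exact sub_dvd_pow_sub_pow _ _ _

/-- Let k be a field and m ≥ 1, put g = gcd(m, q−p), a = m/g and b = (q−p)/g; for a monomial
X₀^d₀X₁^d₁X₂^d₂ of the polynomial ring in X₀, X₁, X₂ (X₂ standing for Xⱼ, j = 3 or 4, of the
five-variable ring) put n = d₀ − p·d₁ + q·d₂ (its weight for the torus diag(t, t^(−p), t^q)), c = d₁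
− d₂ and ω = p·d₁ − q·d₂, so that d₀ = n + ω; here 0 < p < q are coprime integers. Take two
monomials X₀^d₀X₁^d₁X₂^d₂ and X₀^e₀X₁^e₁X₂^e₂ with the same n, where 0 ≤ n < q − p, whose values c
and c' of c are both divisible by m, and with d₀ < g and e₀ < g (so each has the least ω for its
pair (n, c), as g ≤ q − p). Then: (i) d₀ = e₀, i.e. the two values of ω agree, and m·b divides c −
c'; (ii) if c < c', then X₀^e₀X₁^e₁X₂^e₂ is a multiple of X₀^d₀X₁^d₁X₂^d₂ · X₁^(aq)X₂^(ap); (iii)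
the difference of the two monomials lies in the principal ideal (1 − X₁^(aq)X₂^(ap)). -/
theorem result (k : Type u) [Field k] (p q m : ℕ) (hp : 0 < p) (hpq : p < q) (hcop : Nat.Coprime p q) (hm : 0 < m)
    (d0 d1 d2 e0 e1 e2 : ℕ) (hn : (e0 : ℤ) - (p : ℤ) * e1 + (q : ℤ) * e2 = (d0 : ℤ) - (p : ℤ) * d1 + (q : ℤ) * d2)
    (hn0 : 0 ≤ (d0 : ℤ) - (p : ℤ) * d1 + (q : ℤ) * d2) (hnq : (d0 : ℤ) - (p : ℤ) * d1 + (q : ℤ) * d2 < (q : ℤ) - p)
    (hcd : (m : ℤ) ∣ (d1 : ℤ) - d2) (hce : (m : ℤ) ∣ (e1 : ℤ) - e2)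
    (hd0 : d0 < Nat.gcd m (q - p)) (he0 : e0 < Nat.gcd m (q - p)) :
    (d0 = e0 ∧ ((m : ℤ) * ((q - p) / Nat.gcd m (q - p) : ℕ)) ∣ ((d1 : ℤ) - d2) - ((e1 : ℤ) - e2)) ∧
    ((d1 : ℤ) - d2 < (e1 : ℤ) - e2 →
      (MvPolynomial.X (0 : Fin 3) ^ d0 * MvPolynomial.X (1 : Fin 3) ^ d1 * MvPolynomial.X (2 : Fin 3) ^ d2 * (MvPolynomial.X (1 : Fin 3) ^ (m / Nat.gcd m (q - p) * q) * MvPolynomial.X (2 : Fin 3) ^ (m / Nat.gcd m (q - p) * p)) : MvPolynomial (Fin 3) k) ∣ MvPolynomial.X (0 : Fin 3) ^ e0 * MvPolynomial.X (1 : Fin 3) ^ e1 * MvPolynomial.X (2 : Fin 3) ^ e2) ∧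
    ((MvPolynomial.X (0 : Fin 3) ^ e0 * MvPolynomial.X (1 : Fin 3) ^ e1 * MvPolynomial.X (2 : Fin 3) ^ e2 - MvPolynomial.X (0 : Fin 3) ^ d0 * MvPolynomial.X (1 : Fin 3) ^ d1 * MvPolynomial.X (2 : Fin 3) ^ d2 : MvPolynomial (Fin 3) k) ∈
      Ideal.span {(1 : MvPolynomial (Fin 3) k) - MvPolynomial.X (1 : Fin 3) ^ (m / Nat.gcd m (q - p) * q) * MvPolynomial.X (2 : Fin 3) ^ (m / Nat.gcd m (q - p) * p)}) := by
  obtain ⟨hde, T, hT, h1, h2⟩ := nt p q m hp hpq hcop hm d0 d1 d2 e0 e1 e2 hn hcd hce hd0 he0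
  refine ⟨⟨hde, ⟨-T, by linarith⟩⟩, ?_, ?_⟩
  · intro hlt
    have hTpos : 0 < T := by
      by_contra hcon
      push Not at hcon
      have hnn : (0 : ℤ) ≤ (m : ℤ) * ((q - p) / Nat.gcd m (q - p) : ℕ) := by positivity
      have := mul_nonpos_of_nonneg_of_nonpos hnn hcon
      linarith
    obtain ⟨t, rfl⟩ : ∃ t : ℕ, T = t := ⟨T.toNat, by omega⟩
    have ht1 : 1 ≤ t := by exact_mod_cast hTpos
    have he1 : e1 = d1 + (m / Nat.gcd m (q - p) * q) * t := by exact_mod_cast h1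
    have he2 : e2 = d2 + (m / Nat.gcd m (q - p) * p) * t := by exact_mod_cast h2
    rw [he1, he2, ← hde, G1]
    apply mul_dvd_mul_left
    exact dvd_pow_self _ (by omega)
  · rcases le_total 0 T with hT0 | hT0
    · obtain ⟨t, rfl⟩ : ∃ t : ℕ, T = t := ⟨T.toNat, by omega⟩
      have he1 : e1 = d1 + (m / Nat.gcd m (q - p) * q) * t := by exact_mod_cast h1
      have he2 : e2 = d2 + (m / Nat.gcd m (q - p) * p) * t := by exact_mod_cast h2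
      rw [he1, he2, ← hde, G1]
      exact G2 _ _ _
    · obtain ⟨t, ht⟩ : ∃ t : ℕ, -T = t := ⟨(-T).toNat, by omega⟩
      have hT' : T = -(t : ℤ) := by omega
      have hd1 : d1 = e1 + (m / Nat.gcd m (q - p) * q) * t := by
        have : (d1 : ℤ) = e1 + ((m / Nat.gcd m (q - p) * q : ℕ) : ℤ) * t := by rw [h1, hT']; ring
        exact_mod_cast this
      have hd2 : d2 = e2 + (m / Nat.gcd m (q - p) * p) * t := by
        have : (d2 : ℤ) = e2 + ((m / Nat.gcd m (q - p) * p : ℕ) : ℤ) * t := by rw [h2, hT']; ring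
        exact_mod_cast this
      rw [hd1, hd2, hde, G1, ← Ideal.neg_mem_iff, neg_sub]
      exact G2 _ _ _

end Groth.Agent.S15739
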