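import Groth.Statements.S15728
import Mathlib
import Groth.Agent.Lib.helper23.Wt
import Groth.Agent.Lib.helper23.Mono
import Groth.Agent.S15739

set_option autoImplicit false
universe u
open W4c2invhilbsl2

namespace Groth.Agent.S15728

section helpers

open MvPolynomial Groth.Agent.Lib.helper23

theorem key (k : Type u) [Field k] (p q m : ℕ) (s : k) (d e : Fin 5 →₀ ℕ) (t : ℕ)
    (hd2 : d 2 = 0) (hd4 : d 4 = 0) (he2 : e 2 = 0) (he4 : e 4 = 0)
    (h0 : d 0 = e 0) (h1 : e 1 = d 1 + (m / Nat.gcd m (q - p) * q) * t)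
    (h3 : e 3 = d 3 + (m / Nat.gcd m (q - p) * p) * t) :
    monomial e (1 : k) - s ^ t • monomial d (1 : k) ∈ W4c2invhilbsl2.idealJ k p q m s := by
  have hW : (X (1 : Fin 5) : MvPolynomial (Fin 5) k) ^ (m / Nat.gcd m (q - p) * q) *
      X 3 ^ (m / Nat.gcd m (q - p) * p) - C s ∈ W4c2invhilbsl2.idealJ k p q m s := by
    rw [← Ideal.neg_mem_iff, neg_sub]
    exact Ideal.subset_span (by simp)
  obtain ⟨r, hr⟩ := sub_dvd_pow_sub_pow ((X (1 : Fin 5) : MvPolynomial (Fin 5) k) ^ (m / Nat.gcd m (q - p) * q) *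
      X 3 ^ (m / Nat.gcd m (q - p) * p)) (C s) t
  have h2 : (X (0 : Fin 5) : MvPolynomial (Fin 5) k) ^ d 0 * X 1 ^ d 1 * X 3 ^ d 3 *
      (((X (1 : Fin 5) : MvPolynomial (Fin 5) k) ^ (m / Nat.gcd m (q - p) * q) *
      X 3 ^ (m / Nat.gcd m (q - p) * p)) ^ t - (C s) ^ t) ∈ W4c2invhilbsl2.idealJ k p q m s := by
    apply Ideal.mul_mem_left
    rw [hr]
    exact Ideal.mul_mem_right _ _ hW
  convert h2 using 1
  rw [Wt.monomial5_eq, Wt.monomial5_eq, hd2, hd4, he2, he4, smul_eq_C_mul, C_pow, ← h0, h1, h3,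
    mul_sub, ← Groth.Agent.S15739.G1]
  ring

theorem zero_case (k : Type u) [Field k] (p q m : ℕ) (s : k) (d : Fin 5 →₀ ℕ)
    (h : d 2 ≠ 0 ∨ d 4 ≠ 0 ∨ Nat.gcd m (q - p) ≤ d 0) :
    monomial d (1 : k) ∈ W4c2invhilbsl2.idealJ k p q m s := by
  rw [Wt.monomial5_eq]
  have hX2 : (X (2 : Fin 5) : MvPolynomial (Fin 5) k) ∈ W4c2invhilbsl2.idealJ k p q m s :=
    Ideal.subset_span (by simp)
  have hX4 : (X (4 : Fin 5) : MvPolynomial (Fin 5) k) ∈ W4c2invhilbsl2.idealJ k p q m s :=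
    Ideal.subset_span (by simp)
  have hX0 : (X (0 : Fin 5) : MvPolynomial (Fin 5) k) ^ Nat.gcd m (q - p) ∈ W4c2invhilbsl2.idealJ k p q m s :=
    Ideal.subset_span (by simp)
  rcases h with h | h | h
  · apply Ideal.mul_mem_right; apply Ideal.mul_mem_right; apply Ideal.mul_mem_left
    exact Ideal.pow_mem_of_mem _ hX2 _ (Nat.pos_of_ne_zero h)
  · apply Ideal.mul_mem_left
    exact Ideal.pow_mem_of_mem _ hX4 _ (Nat.pos_of_ne_zero h)
  · apply Ideal.mul_mem_right; apply Ideal.mul_mem_right; apply Ideal.mul_mem_right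
    apply Ideal.mul_mem_right
    exact Ideal.pow_mem_of_pow_mem (I := W4c2invhilbsl2.idealJ k p q m s) hX0 h

end helpers

/-- Let k be an algebraically closed field, 0 < p < q coprime integers and m ≥ 1; put g = gcd(m, q−p)
and a = m/g, and grade k[X₀,…,X₄] by ℤ × ℤ/m, giving X₀ weight (1,0), X₁ and X₂ weight (−p,−1), and
X₃ and X₄ weight (q,1). For s ∈ k let J_s be the ideal (X₀^g, X₂, X₄, s − X₁^(aq)X₃^(ap)), whose
generators are homogeneous (the last one of weight zero). Then for every weight ν the image in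
k[X₀,…,X₄]/J_s of the homogeneous polynomials of weight ν is a k-vector space of dimension at most
1. (The published statement asserts that this dimension equals 1 for every ν and every s; this row
states the upper bound, the half obtained from the monomial analysis of the weight pieces, while the
lower bound there is drawn from the moduli interpretation of these ideals. The published statement
is over the complex numbers; this row takes any algebraically closed field, which is what the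
reduction to s = 0, 1 by rescaling the variables uses.) -/
theorem result (k : Type u) [Field k] [IsAlgClosed k] (p q m : ℕ) (hp : 0 < p) (hpq : p < q) (hcop : Nat.Coprime p q) (hm : 0 < m) (s : k) (ν : ℤ × ZMod m) :
    Module.rank k (W4c2invhilbsl2.piece k (W4c2invhilbsl2.wt5 p q m) (W4c2invhilbsl2.idealJ k p q m s) ν) ≤ 1 := by
  unfold W4c2invhilbsl2.piece
  rw [Groth.Agent.Lib.helper23.Wt.whs_eq_span, Submodule.map_span]
  apply Groth.Agent.Lib.helper23.Wt.rank_span_le_one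
  rintro _ ⟨_, ⟨d, hd, rfl⟩, rfl⟩ _ ⟨_, ⟨e, he, rfl⟩, rfl⟩
  simp only [Set.mem_ofPred_eq] at hd he
  by_cases hdz : d 2 ≠ 0 ∨ d 4 ≠ 0 ∨ Nat.gcd m (q - p) ≤ d 0
  · refine ⟨0, Or.inr ?_⟩
    rw [zero_smul]
    exact Ideal.Quotient.eq_zero_iff_mem.mpr (zero_case k p q m s d hdz)
  by_cases hez : e 2 ≠ 0 ∨ e 4 ≠ 0 ∨ Nat.gcd m (q - p) ≤ e 0
  · refine ⟨0, Or.inl ?_⟩
    rw [zero_smul]
    exact Ideal.Quotient.eq_zero_iff_mem.mpr (zero_case k p q m s e hez)
  push Not at hdz hez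
  obtain ⟨hd2, hd4, hd0⟩ := hdz
  obtain ⟨he2, he4, he0⟩ := hez
  rw [Groth.Agent.Lib.helper23.Wt.weight_wt5] at hd he
  have hde := hd.trans he.symm
  rw [Prod.mk.injEq] at hde
  obtain ⟨h1, h2⟩ := hde
  rw [hd2, hd4, he2, he4] at h1 h2
  simp only [Nat.cast_zero, add_zero] at h1 h2
  have hdvd : (m : ℤ) ∣ ((e 1 : ℤ) - e 3) - ((d 1 : ℤ) - d 3) := by
    rw [← ZMod.intCast_zmod_eq_zero_iff_dvd]
    push_cast
    linear_combination h2
  obtain ⟨h00, T, -, hT1, hT3⟩ := Groth.Agent.Lib.helper23.Mono.nt' p q m hp hpq hcop hm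
    (d 0) (d 1) (d 3) (e 0) (e 1) (e 3) h1.symm hdvd hd0 he0
  rcases le_total 0 T with hz0 | hz0
  · obtain ⟨t, rfl⟩ : ∃ t : ℕ, T = t := ⟨T.toNat, by omega⟩
    refine ⟨s ^ t, Or.inl ?_⟩
    have := key k p q m s d e t hd2 hd4 he2 he4 h00 (by exact_mod_cast hT1) (by exact_mod_cast hT3)
    rw [← LinearMap.map_smul, ← sub_eq_zero, ← LinearMap.map_sub]
    exact Ideal.Quotient.eq_zero_iff_mem.mpr this
  · obtain ⟨t, ht⟩ : ∃ t : ℕ, -T = t := ⟨(-T).toNat, by omega⟩
    refine ⟨s ^ t, Or.inr ?_⟩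
    have e1 : (d 1 : ℤ) = e 1 + ((m / Nat.gcd m (q - p) * q : ℕ) : ℤ) * t := by
      rw [← ht, hT1]; ring
    have e3 : (d 3 : ℤ) = e 3 + ((m / Nat.gcd m (q - p) * p : ℕ) : ℤ) * t := by
      rw [← ht, hT3]; ring
    have := key k p q m s e d t he2 he4 hd2 hd4 h00.symm (by exact_mod_cast e1) (by exact_mod_cast e3)
    rw [← LinearMap.map_smul, ← sub_eq_zero, ← LinearMap.map_sub]
    exact Ideal.Quotient.eq_zero_iff_mem.mpr this

end Groth.Agent.S15728
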