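import Groth.Statements.S15733
import Mathlib
import Groth.Agent.Lib.helper23.HJ
import Groth.Agent.S15734

set_option autoImplicit false
open W4c2invhilbsl2

namespace Groth.Agent.S15733

/-- Let 0 < p < q be coprime integers and m ≥ 1 such that q − p does not divide m; put g = gcd(m, q−p),
b = (q−p)/g, α = ⌊mp/(q−p)⌋, β = the remainder of mp modulo q−p and t = (q−p−β)/g, so that 1 ≤ t <
b, and let b/t = c₁ − 1/(c₂ − 1/(⋯ − 1/c_r)) be the negative-regular (Hirzebruch–Jung) continued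
fraction expansion with every cᵢ ≥ 2; set P₀ = 0, P₁ = 1, Q₀ = −1, Q₁ = 0, Pᵢ = cᵢ₋₁Pᵢ₋₁ − Pᵢ₋₂, Qᵢ
= cᵢ₋₁Qᵢ₋₁ − Qᵢ₋₂ for 2 ≤ i ≤ r+1, and eᵢ = (α+1+m)Pᵢ − Qᵢ, lᵢ = (α+1)Pᵢ − Qᵢ, nᵢ = q·lᵢ − p·eᵢ,
which are non-negative integers for 0 ≤ i ≤ r+1. Then for every 1 < i ≤ r and every integer x with 0
< x < Pᵢ, the remainder of pmx + nᵢ on division by q − p equals nᵢ plus the remainder of pmx on
division by q − p (in particular nᵢ + (pmx mod (q−p)) < q − p). -/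
theorem result (p q m : ℕ) (hp : 0 < p) (hpq : p < q) (hcop : Nat.Coprime p q) (hm : 0 < m) (hnt : ¬ (q - p ∣ m)) (c : List ℤ) (hc : W4c2invhilbsl2.IsHJDigits p q m c) (i : ℕ) (hi : 1 < i) (hir : i ≤ c.length)
    (x : ℤ) (hx0 : 0 < x) (hx : x < W4c2invhilbsl2.hjP c i) :
    Int.emod ((p : ℤ) * m * x + W4c2invhilbsl2.nN p q m c i) ((q : ℤ) - p) = W4c2invhilbsl2.nN p q m c i + Int.emod ((p : ℤ) * m * x) ((q : ℤ) - p) := by
  have hlow := ((Groth.Agent.S15734.result p q m hp hpq hcop hm hnt c hc).2 i hi hir x hx0 hx).1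
  obtain ⟨hc2, hval⟩ := hc
  obtain ⟨hg, ht, htb, hcopZ, hgb, hn⟩ := Groth.Agent.Lib.helper23.HJ.bridgeZ p q m hpq hcop hm hnt
  have hb : 0 < (W4c2invhilbsl2.bB p q m : ℤ) := lt_trans ht htb
  have hval' : HJFrac.hjVal c = (((W4c2invhilbsl2.bB p q m : ℤ)) : ℚ) / (((W4c2invhilbsl2.tT p q m : ℤ)) : ℚ) := by
    push_cast; exact hval
  have hdiv : ∀ i, W4c2invhilbsl2.nN p q m c i / (W4c2invhilbsl2.gcdK p q m : ℤ) =
      Groth.Agent.Lib.helper23.HJ.tS (W4c2invhilbsl2.bB p q m : ℤ) (W4c2invhilbsl2.tT p q m : ℤ) c i := by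
    intro i
    rw [hn c i, Int.mul_ediv_cancel_left _ hg.ne']
  have hpos := Groth.Agent.Lib.helper23.HJ.tS_pos _ _ c hc2 hval' hb
  have hlt := Groth.Agent.Lib.helper23.HJ.tS_lt _ _ c hc2 hval' hb
  obtain ⟨h1, h2, h3, h4, h5, h6⟩ := Groth.Agent.Lib.helper23.HJ.bridge p q m hpq hcop hm hnt
  have hd0 : 0 < q - p := by omega
  have hβd : m * p % (q - p) < q - p := Nat.mod_lt _ hd0
  have hgt : (W4c2invhilbsl2.gcdK p q m : ℤ) * W4c2invhilbsl2.tT p q m =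
      (q : ℤ) - p - ((m * p % (q - p) : ℕ) : ℤ) := by
    rw [← Nat.cast_mul, h3, Nat.cast_sub hβd.le, Nat.cast_sub hpq.le]
  have hα : (m : ℤ) * p = ((q : ℤ) - p) * (W4c2invhilbsl2.alpha p q m : ℤ) + ((m * p % (q - p) : ℕ) : ℤ) := by
    have := Nat.div_add_mod (m * p) (q - p)
    unfold W4c2invhilbsl2.alpha
    rw [← Nat.cast_sub hpq.le]
    exact_mod_cast this.symm
  obtain ⟨j, rfl⟩ : ∃ j, i = j + 2 := ⟨i - 2, by omega⟩
  have e2 : j + 2 - 1 = j + 1 := by omega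
  rw [e2, hdiv] at hlow
  have hlow' : Groth.Agent.Lib.helper23.HJ.tS (W4c2invhilbsl2.bB p q m : ℤ) (W4c2invhilbsl2.tT p q m : ℤ) c (j + 1) ≤
      ((W4c2invhilbsl2.tT p q m : ℤ) * x) % (W4c2invhilbsl2.bB p q m : ℤ) := hlow
  have hρb := Int.emod_lt_of_pos ((W4c2invhilbsl2.tT p q m : ℤ) * x) hb
  have hρe := Int.emod_add_mul_ediv ((W4c2invhilbsl2.tT p q m : ℤ) * x) (W4c2invhilbsl2.bB p q m : ℤ)
  obtain ⟨ρ, hρ⟩ : ∃ ρ, ρ = ((W4c2invhilbsl2.tT p q m : ℤ) * x) % (W4c2invhilbsl2.bB p q m : ℤ) := ⟨_, rfl⟩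
  obtain ⟨y, hy⟩ : ∃ y, y = ((W4c2invhilbsl2.tT p q m : ℤ) * x) / (W4c2invhilbsl2.bB p q m : ℤ) := ⟨_, rfl⟩
  rw [← hρ] at hlow' hρb hρe
  rw [← hy] at hρe
  have htt := hlt (j + 1) (by omega)
  have hti := hpos (j + 2) hir
  obtain ⟨d, hd⟩ : ∃ d, d = (q : ℤ) - p := ⟨_, rfl⟩
  rw [← hd] at hgb hgt hα ⊢
  have hdpos : 0 < d := by rw [hd]; omega
  have hni := hn c (j + 2)
  obtain ⟨T2, hT2⟩ : ∃ T2, T2 = Groth.Agent.Lib.helper23.HJ.tS (W4c2invhilbsl2.bB p q m : ℤ) (W4c2invhilbsl2.tT p q m : ℤ) c (j + 2) := ⟨_, rfl⟩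
  obtain ⟨T1, hT1⟩ : ∃ T1, T1 = Groth.Agent.Lib.helper23.HJ.tS (W4c2invhilbsl2.bB p q m : ℤ) (W4c2invhilbsl2.tT p q m : ℤ) c (j + 1) := ⟨_, rfl⟩
  rw [← hT2] at hni hti htt
  rw [← hT1] at htt hlow'
  rw [hni]
  -- main identity
  have hA : (p : ℤ) * m * x = d * ((W4c2invhilbsl2.alpha p q m : ℤ) * x + x - y - 1) +
      (d - (W4c2invhilbsl2.gcdK p q m : ℤ) * ρ) := by
    linear_combination x * hα + x * hgt + (W4c2invhilbsl2.gcdK p q m : ℤ) * hρe - y * hgb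
  have hgρ1 : (W4c2invhilbsl2.gcdK p q m : ℤ) * ρ < d := by
    rw [← hgb]; exact mul_lt_mul_of_pos_left hρb hg
  have hgρ0 : (W4c2invhilbsl2.gcdK p q m : ℤ) * T2 < (W4c2invhilbsl2.gcdK p q m : ℤ) * ρ :=
    mul_lt_mul_of_pos_left (lt_of_lt_of_le htt hlow') hg
  have hgT : 0 < (W4c2invhilbsl2.gcdK p q m : ℤ) * T2 := mul_pos hg hti
  show ((p : ℤ) * m * x + _) % d = _ + ((p : ℤ) * m * x) % d
  rw [hA]
  rw [add_assoc, Int.mul_add_emod_self_left, Int.mul_add_emod_self_left,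
    Int.emod_eq_of_lt (by linarith) (by linarith), Int.emod_eq_of_lt (by linarith) (by linarith)]
  ring

end Groth.Agent.S15733
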