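import Groth.Statements.S15729
import Mathlib
import Groth.Agent.Lib.helper23.Wt
import Groth.Agent.Lib.helper23.HJ
import Groth.Agent.S15733

set_option autoImplicit false
universe u
open W4c2invhilbsl2

namespace Groth.Agent.S15729

/-- Let 0 < p < q be coprime integers and m ≥ 1 such that q − p does not divide m; put g = gcd(m, q−p),
b = (q−p)/g, α = ⌊mp/(q−p)⌋, β = the remainder of mp modulo q−p and t = (q−p−β)/g, so that 1 ≤ t <
b, and let b/t = c₁ − 1/(c₂ − 1/(⋯ − 1/c_r)) be the negative-regular (Hirzebruch–Jung) continued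
fraction expansion with every cᵢ ≥ 2; set P₀ = 0, P₁ = 1, Q₀ = −1, Q₁ = 0, Pᵢ = cᵢ₋₁Pᵢ₋₁ − Pᵢ₋₂, Qᵢ
= cᵢ₋₁Qᵢ₋₁ − Qᵢ₋₂ for 2 ≤ i ≤ r+1, and eᵢ = (α+1+m)Pᵢ − Qᵢ, lᵢ = (α+1)Pᵢ − Qᵢ, nᵢ = q·lᵢ − p·eᵢ,
which are non-negative integers for 0 ≤ i ≤ r+1. Grade the polynomial ring k[X₀,X₁,X₂] over a field
k by ℤ × ℤ/m with weights (1,0), (−p,−1), (q,1) (it stands for k[X₀,X₁,Xⱼ], j = 3 or 4, inside the
five-variable ring). Then for every 1 ≤ i ≤ r, every polynomial homogeneous of weight (nᵢ, 0) can be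
written a·X₀^(nᵢ) + b·X₁^(eᵢ)X₂^(lᵢ) with a and b homogeneous of weight zero; that is, the
weight-(nᵢ,0) piece is generated over the weight-zero subring by X₀^(nᵢ) and X₁^(eᵢ)X₂^(lᵢ). -/
theorem result (k : Type u) [Field k] (p q m : ℕ) (hp : 0 < p) (hpq : p < q) (hcop : Nat.Coprime p q) (hm : 0 < m) (hnt : ¬ (q - p ∣ m)) (c : List ℤ) (hc : W4c2invhilbsl2.IsHJDigits p q m c) (i : ℕ) (hi : 1 ≤ i) (hir : i ≤ c.length)
    (f : MvPolynomial (Fin 3) k) (hf : f ∈ MvPolynomial.weightedHomogeneousSubmodule k (W4c2invhilbsl2.wt3 p q m) (W4c2invhilbsl2.nN p q m c i, (0 : ZMod m))) :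
    ∃ a b : MvPolynomial (Fin 3) k, a ∈ MvPolynomial.weightedHomogeneousSubmodule k (W4c2invhilbsl2.wt3 p q m) 0 ∧ b ∈ MvPolynomial.weightedHomogeneousSubmodule k (W4c2invhilbsl2.wt3 p q m) 0 ∧
      f = a * MvPolynomial.X (0 : Fin 3) ^ (W4c2invhilbsl2.nN p q m c i).toNat +
        b * (MvPolynomial.X (1 : Fin 3) ^ (W4c2invhilbsl2.eE p q m c i).toNat * MvPolynomial.X (2 : Fin 3) ^ (W4c2invhilbsl2.lL p q m c i).toNat) := by
  classical
  have hS : ∀ x : ℤ, 0 < x → x < W4c2invhilbsl2.hjP c i →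
      Int.emod ((p : ℤ) * m * x + W4c2invhilbsl2.nN p q m c i) ((q : ℤ) - p) =
        W4c2invhilbsl2.nN p q m c i + Int.emod ((p : ℤ) * m * x) ((q : ℤ) - p) := by
    intro x hx0 hx
    rcases Nat.lt_or_ge 1 i with h | h
    · exact Groth.Agent.S15733.result p q m hp hpq hcop hm hnt c hc i h hir x hx0 hx
    · have : i = 1 := by omega
      subst this
      simp [W4c2invhilbsl2.hjP] at hx
      omega
  obtain ⟨hc2, hval⟩ := hc
  obtain ⟨hg, ht, htb, hcopZ, hgb, hn⟩ := Groth.Agent.Lib.helper23.HJ.bridgeZ p q m hpq hcop hm hnt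
  have hb : 0 < (W4c2invhilbsl2.bB p q m : ℤ) := lt_trans ht htb
  have hval' : HJFrac.hjVal c = (((W4c2invhilbsl2.bB p q m : ℤ)) : ℚ) / (((W4c2invhilbsl2.tT p q m : ℤ)) : ℚ) := by
    push_cast; exact hval
  have hpos := Groth.Agent.Lib.helper23.HJ.tS_pos _ _ c hc2 hval' hb i hir
  have hlet := Groth.Agent.Lib.helper23.HJ.tS_le_t _ _ c hc2 hval' hb i hi hir
  have hn0 : 0 < W4c2invhilbsl2.nN p q m c i := by rw [hn c i]; exact mul_pos hg hpos
  have hnq : W4c2invhilbsl2.nN p q m c i < (q : ℤ) - p := by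
    rw [hn c i, ← hgb]
    exact mul_lt_mul_of_pos_left (lt_of_le_of_lt hlet htb) hg
  have hlpos := Groth.Agent.Lib.helper23.HJ.lL_pos p q m c hc2 i (by omega)
  have hPnn := Groth.Agent.Lib.helper23.HJ.hjP_nonneg c hc2 i (by omega)
  have heE := Groth.Agent.Lib.helper23.HJ.eE_eq p q m c i
  have hepos : 1 ≤ W4c2invhilbsl2.eE p q m c i := by
    rw [heE]
    have : (0 : ℤ) ≤ (m : ℤ) * W4c2invhilbsl2.hjP c i := by positivity
    linarith
  have hnn := Groth.Agent.Lib.helper23.HJ.nN_eq p q m c i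
  obtain ⟨N, hN⟩ : ∃ N : ℕ, (N : ℤ) = W4c2invhilbsl2.nN p q m c i := ⟨_, Int.toNat_of_nonneg hn0.le⟩
  obtain ⟨E, hE⟩ : ∃ E : ℕ, (E : ℤ) = W4c2invhilbsl2.eE p q m c i := ⟨_, Int.toNat_of_nonneg (by linarith)⟩
  obtain ⟨L, hL⟩ : ∃ L : ℕ, (L : ℤ) = W4c2invhilbsl2.lL p q m c i := ⟨_, Int.toNat_of_nonneg (by linarith)⟩
  have hN' : (W4c2invhilbsl2.nN p q m c i).toNat = N := by rw [← hN]; simp
  have hE' : (W4c2invhilbsl2.eE p q m c i).toNat = E := by rw [← hE]; simp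
  have hL' : (W4c2invhilbsl2.lL p q m c i).toNat = L := by rw [← hL]; simp
  rw [hN', hE', hL']
  have hw0 : N • W4c2invhilbsl2.wt3 p q m 0 = (W4c2invhilbsl2.nN p q m c i, (0 : ZMod m)) := by
    simp [W4c2invhilbsl2.wt3, hN]
  have hw12 : E • W4c2invhilbsl2.wt3 p q m 1 + L • W4c2invhilbsl2.wt3 p q m 2 =
      (W4c2invhilbsl2.nN p q m c i, (0 : ZMod m)) := by
    simp only [W4c2invhilbsl2.wt3, Matrix.cons_val_one, Matrix.cons_val_two, Matrix.cons_val_zero]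
    ext
    · simp [hE, hL, hnn]; ring
    · simp
      have : ((L : ℤ) - E : ℤ) = -((m : ℤ) * W4c2invhilbsl2.hjP c i) := by rw [hE, hL, heE]; ring
      have h2 : (((L : ℤ) - E : ℤ) : ZMod m) = 0 := by
        rw [this]; push_cast; simp
      push_cast at h2
      linear_combination h2
  revert f
  apply Groth.Agent.Lib.helper23.Wt.whs_induction k (W4c2invhilbsl2.wt3 p q m) _
    (fun f => ∃ a b : MvPolynomial (Fin 3) k, a ∈ MvPolynomial.weightedHomogeneousSubmodule k (W4c2invhilbsl2.wt3 p q m) 0 ∧ b ∈ MvPolynomial.weightedHomogeneousSubmodule k (W4c2invhilbsl2.wt3 p q m) 0 ∧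
      f = a * MvPolynomial.X (0 : Fin 3) ^ N +
        b * (MvPolynomial.X (1 : Fin 3) ^ E * MvPolynomial.X (2 : Fin 3) ^ L))
  · exact ⟨0, 0, Submodule.zero_mem _, Submodule.zero_mem _, by simp⟩
  · rintro f g ⟨a, b, ha, hb, rfl⟩ ⟨a', b', ha', hb', rfl⟩
    exact ⟨a + a', b + b', Submodule.add_mem _ ha ha', Submodule.add_mem _ hb hb', by ring⟩
  · rintro t f ⟨a, b, ha, hb, rfl⟩
    exact ⟨t • a, t • b, Submodule.smul_mem _ t ha, Submodule.smul_mem _ t hb, by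
      simp only [smul_add, smul_mul_assoc]⟩
  · intro d hd
    have hd' := hd
    rw [Groth.Agent.Lib.helper23.Wt.weight_wt3, Prod.mk.injEq] at hd'
    obtain ⟨h1, h2⟩ := hd'
    by_cases hcase : N ≤ d 0
    · obtain ⟨r, hr, hrd⟩ := Groth.Agent.Lib.helper23.Wt.factor_Xpow k (W4c2invhilbsl2.wt3 p q m) d 0 N hcase _ hd
      rw [hw0, sub_self] at hr
      exact ⟨r, 0, hr, Submodule.zero_mem _, by rw [hrd]; ring⟩
    · push Not at hcase
      have hdvd : (m : ℤ) ∣ (d 1 : ℤ) - d 2 := by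
        rw [← ZMod.intCast_zmod_eq_zero_iff_dvd]
        push_cast
        linear_combination (-1 : ZMod m) * h2
      have hlt : ((d 0 : ℕ) : ℤ) < W4c2invhilbsl2.nN p q m c i := by
        rw [← hN]; exact_mod_cast hcase
      obtain ⟨hE1, hL1⟩ := Groth.Agent.Lib.helper23.HJ.lemmaA p q m hp hpq hm c i hn0 hnq hS
        (d 0) (d 1) (d 2) h1 hdvd hlt
      rw [← hE] at hE1
      rw [← hL] at hL1
      obtain ⟨r, hr, hrd⟩ := Groth.Agent.Lib.helper23.Wt.factor_XpowXpow k (W4c2invhilbsl2.wt3 p q m) d 1 2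
        (by decide) E L (by exact_mod_cast hE1) (by exact_mod_cast hL1) _ hd
      rw [hw12, sub_self] at hr
      exact ⟨0, r, Submodule.zero_mem _, hr, by rw [hrd]; ring⟩

end Groth.Agent.S15729
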