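import Groth.Statements.S1573
import Groth.Agent.S2851
import Mathlib

set_option autoImplicit false
universe u
open CategoryTheory CategoryTheory.Limits AlgebraicGeometry
open Divisors

namespace Groth.Agent.S1573

set_option linter.style.haveILetI false
open Limits

theorem coheight_ne_zero (X : Scheme.{u}) [IsLocallyNoetherian X] (U : X.Opens) (ξ : X) (hξ : ξ ∉ U)
    (hd : Dense (U : Set X)) : Order.coheight ξ ≠ 0 := by
  intro h0
  obtain ⟨R, f, hf, hsub⟩ := Scheme.exists_affine_mem_range_and_range_subset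
    (show ξ ∈ (⊤ : X.Opens) from trivial)
  obtain ⟨w, rfl⟩ := Set.mem_range.mp hsub.1
  rw [coheight_eq_of_isOpenImmersion] at h0
  haveI : IsLocallyNoetherian (Spec R) := isLocallyNoetherian_of_isOpenImmersion f
  haveI : IsNoetherian (Spec R) := {}
  haveI : TopologicalSpace.NoetherianSpace (Spec R) := inferInstance
  have hmax : IsMax w := Order.coheight_eq_zero.1 h0
  set Z := irreducibleComponent w with hZ
  have hZirr : IsIrreducible Z := isIrreducible_irreducibleComponent
  have hZcl : IsClosed Z := isClosed_irreducibleComponent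
  obtain ⟨η', hη'⟩ := QuasiSober.sober hZirr hZcl
  have hwZ : w ∈ Z := mem_irreducibleComponent
  have h1 : η' ⤳ w := hη'.specializes hwZ
  have h2 : w ⤳ η' := hmax h1
  obtain ⟨o, ho, hone, hoZ⟩ :=
    TopologicalSpace.NoetherianSpace.exists_isOpen_nonempty_subset_irreducibleComponent Z
      (irreducibleComponent_mem_irreducibleComponents w)
  have hfo : IsOpen (f '' o) := f.isOpenEmbedding.isOpenMap o ho
  obtain ⟨x, hxo, hxU⟩ := hd.inter_open_nonempty (f '' o) hfo (hone.image _)
  obtain ⟨z, hzo, rfl⟩ := hxo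
  have h3 : η' ⤳ z := hη'.specializes (hoZ hzo)
  have h4 : w ⤳ z := h2.trans h3
  have h5 : f w ⤳ f z := h4.map f.continuous
  exact hξ (h5.mem_open U.2 hxU)

theorem result' (X : Scheme.{u}) [IsLocallyNoetherian X]
    (U : X.Opens) [IsAffineHom U.ι] (ξ : X) (hξ : ξ ∉ U) (hgen : ∀ y : X, y ∉ U → y ⤳ ξ → y = ξ) :
    ringKrullDim (X.presheaf.stalk ξ) ≤ 1 ∧ (Dense (U : Set X) → ringKrullDim (X.presheaf.stalk ξ) = 1) := by
  have h1 := Groth.Agent.S2851.result X U ξ hξ hgen
  refine ⟨h1, fun hd => ?_⟩
  have h2 := coheight_ne_zero X U ξ hξ hd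
  rw [ringKrullDim_stalk_eq_coheight] at h1 ⊢
  have h3 : Order.coheight ξ ≤ 1 := by exact_mod_cast h1
  have h4 : Order.coheight ξ = 1 := by
    refine le_antisymm h3 ?_
    exact Order.one_le_iff_ne_zero.2 h2
  rw [h4]; rfl

/-- Let X be locally Noetherian and U an open subscheme whose inclusion is an affine morphism. At every
point ξ outside U which is maximal under generisation among points outside U, the local ring of X
has dimension at most one; if U is dense the dimension equals one. -/
theorem result (X : Scheme.{u}) [IsLocallyNoetherian X]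
    (U : X.Opens) [IsAffineHom U.ι] (ξ : X) (hξ : ξ ∉ U) (hgen : ∀ y : X, y ∉ U → y ⤳ ξ → y = ξ) :
    ringKrullDim (X.presheaf.stalk ξ) ≤ 1 ∧ (Dense (U : Set X) → ringKrullDim (X.presheaf.stalk ξ) = 1) := by
  exact result' X U ξ hξ hgen

end Groth.Agent.S1573
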