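import Groth.Statements.S15732
import Mathlib
import Groth.Agent.Lib.helper23.Wt
import Groth.Agent.Lib.helper23.HJ
import Groth.Agent.S15733

set_option autoImplicit false
universe u
open W4c2invhilbsl2

namespace Groth.Agent.S15732

/-- Let 0 < p < q be coprime integers and m ≥ 1 such that q − p does not divide m; put g = gcd(m, q−p),
b = (q−p)/g, α = ⌊mp/(q−p)⌋, β = the remainder of mp modulo q−p and t = (q−p−β)/g, so that 1 ≤ t <
b, and let b/t = c₁ − 1/(c₂ − 1/(⋯ − 1/c_r)) be the negative-regular (Hirzebruch–Jung) continued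
fraction expansion with every cᵢ ≥ 2; set P₀ = 0, P₁ = 1, Q₀ = −1, Q₁ = 0, Pᵢ = cᵢ₋₁Pᵢ₋₁ − Pᵢ₋₂, Qᵢ
= cᵢ₋₁Qᵢ₋₁ − Qᵢ₋₂ for 2 ≤ i ≤ r+1, and eᵢ = (α+1+m)Pᵢ − Qᵢ, lᵢ = (α+1)Pᵢ − Qᵢ, nᵢ = q·lᵢ − p·eᵢ,
which are non-negative integers for 0 ≤ i ≤ r+1. Grade the polynomial ring k[X₀,…,X₄] over a field k
by ℤ × ℤ/m, giving X₀ weight (1,0), X₁ and X₂ weight (−p,−1), and X₃ and X₄ weight (q,1). Then for
every 1 ≤ i ≤ r, modulo the principal ideal generated by the weight-zero element X₀^(q−p) − X₁X₄ +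
X₂X₃, every polynomial homogeneous of weight (nᵢ, 0) is congruent to a combination a₀·X₀^(nᵢ) + Σ
a_{e,l}·X₁^(eᵢ−e)X₂^e X₃^(lᵢ−l)X₄^l (sum over 0 ≤ e ≤ eᵢ, 0 ≤ l ≤ lᵢ) whose coefficients a₀, a_{e,l}
are homogeneous of weight zero. Equivalently, in the coordinate ring of the hypersurface the
weight-(nᵢ,0) piece is generated over the weight-zero subring (the invariant ring) by X₀^(nᵢ)
together with the products of a degree-eᵢ monomial in X₁, X₂ and a degree-lᵢ monomial in X₃, X₄.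
(The published statement is over the complex numbers; this row takes any field.) -/
theorem result (k : Type u) [Field k] (p q m : ℕ) (hp : 0 < p) (hpq : p < q) (hcop : Nat.Coprime p q) (hm : 0 < m) (hnt : ¬ (q - p ∣ m)) (c : List ℤ) (hc : W4c2invhilbsl2.IsHJDigits p q m c) (i : ℕ) (hi : 1 ≤ i) (hir : i ≤ c.length)
    (f : MvPolynomial (Fin 5) k) (hf : f ∈ MvPolynomial.weightedHomogeneousSubmodule k (W4c2invhilbsl2.wt5 p q m) (W4c2invhilbsl2.nN p q m c i, (0 : ZMod m))) :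
    ∃ (a₀ : MvPolynomial (Fin 5) k) (a : ℕ → ℕ → MvPolynomial (Fin 5) k),
      a₀ ∈ MvPolynomial.weightedHomogeneousSubmodule k (W4c2invhilbsl2.wt5 p q m) 0 ∧ (∀ e l : ℕ, a e l ∈ MvPolynomial.weightedHomogeneousSubmodule k (W4c2invhilbsl2.wt5 p q m) 0) ∧
      f - (a₀ * MvPolynomial.X (0 : Fin 5) ^ (W4c2invhilbsl2.nN p q m c i).toNat +
          ∑ e ∈ Finset.range ((W4c2invhilbsl2.eE p q m c i).toNat + 1), ∑ l ∈ Finset.range ((W4c2invhilbsl2.lL p q m c i).toNat + 1),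
            a e l * (MvPolynomial.X (1 : Fin 5) ^ ((W4c2invhilbsl2.eE p q m c i).toNat - e) * MvPolynomial.X (2 : Fin 5) ^ e *
              MvPolynomial.X (3 : Fin 5) ^ ((W4c2invhilbsl2.lL p q m c i).toNat - l) * MvPolynomial.X (4 : Fin 5) ^ l)) ∈
        Ideal.span {MvPolynomial.X (0 : Fin 5) ^ (q - p) - MvPolynomial.X 1 * MvPolynomial.X 4 + MvPolynomial.X 2 * MvPolynomial.X 3} := by
  classical
  have hS : ∀ x : ℤ, 0 < x → x < W4c2invhilbsl2.hjP c i →
      Int.emod ((p : ℤ) * m * x + W4c2invhilbsl2.nN p q m c i) ((q : ℤ) - p) =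
        W4c2invhilbsl2.nN p q m c i + Int.emod ((p : ℤ) * m * x) ((q : ℤ) - p) := by
    intro x hx0 hx
    rcases Nat.lt_or_ge 1 i with h | h
    · exact Groth.Agent.S15733.result p q m hp hpq hcop hm hnt c hc i h hir x hx0 hx
    · have : i = 1 := by omega
      subst this
      simp [W4c2invhilbsl2.hjP] at hx
      omega
  obtain ⟨hc2, hval⟩ := hc
  obtain ⟨hg, ht, htb, hcopZ, hgb, hn⟩ := Groth.Agent.Lib.helper23.HJ.bridgeZ p q m hpq hcop hm hnt
  have hb : 0 < (W4c2invhilbsl2.bB p q m : ℤ) := lt_trans ht htb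
  have hval' : HJFrac.hjVal c = (((W4c2invhilbsl2.bB p q m : ℤ)) : ℚ) / (((W4c2invhilbsl2.tT p q m : ℤ)) : ℚ) := by
    push_cast; exact hval
  have hpos := Groth.Agent.Lib.helper23.HJ.tS_pos _ _ c hc2 hval' hb i hir
  have hlet := Groth.Agent.Lib.helper23.HJ.tS_le_t _ _ c hc2 hval' hb i hi hir
  have hn0 : 0 < W4c2invhilbsl2.nN p q m c i := by rw [hn c i]; exact mul_pos hg hpos
  have hnq : W4c2invhilbsl2.nN p q m c i < (q : ℤ) - p := by
    rw [hn c i, ← hgb]
    exact mul_lt_mul_of_pos_left (lt_of_le_of_lt hlet htb) hg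
  have hlpos := Groth.Agent.Lib.helper23.HJ.lL_pos p q m c hc2 i (by omega)
  have hPnn := Groth.Agent.Lib.helper23.HJ.hjP_nonneg c hc2 i (by omega)
  have heE := Groth.Agent.Lib.helper23.HJ.eE_eq p q m c i
  have hepos : 1 ≤ W4c2invhilbsl2.eE p q m c i := by
    rw [heE]
    have : (0 : ℤ) ≤ (m : ℤ) * W4c2invhilbsl2.hjP c i := by positivity
    linarith
  have hnn := Groth.Agent.Lib.helper23.HJ.nN_eq p q m c i
  obtain ⟨N, hN⟩ : ∃ N : ℕ, (N : ℤ) = W4c2invhilbsl2.nN p q m c i := ⟨_, Int.toNat_of_nonneg hn0.le⟩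
  obtain ⟨E, hE⟩ : ∃ E : ℕ, (E : ℤ) = W4c2invhilbsl2.eE p q m c i := ⟨_, Int.toNat_of_nonneg (by linarith)⟩
  obtain ⟨L, hL⟩ : ∃ L : ℕ, (L : ℤ) = W4c2invhilbsl2.lL p q m c i := ⟨_, Int.toNat_of_nonneg (by linarith)⟩
  have hN' : (W4c2invhilbsl2.nN p q m c i).toNat = N := by rw [← hN]; simp
  have hE' : (W4c2invhilbsl2.eE p q m c i).toNat = E := by rw [← hE]; simp
  have hL' : (W4c2invhilbsl2.lL p q m c i).toNat = L := by rw [← hL]; simp
  rw [hN', hE', hL']
  have hw0 : N • W4c2invhilbsl2.wt5 p q m 0 = (W4c2invhilbsl2.nN p q m c i, (0 : ZMod m)) := by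
    simp [W4c2invhilbsl2.wt5, hN]
  have hLE : (((L : ℤ) - E : ℤ) : ZMod m) = 0 := by
    have : ((L : ℤ) - E : ℤ) = -((m : ℤ) * W4c2invhilbsl2.hjP c i) := by rw [hE, hL, heE]; ring
    rw [this]; push_cast; simp
  have hzero : ∀ x : MvPolynomial (Fin 5) k, x = 0 →
      x ∈ Ideal.span {MvPolynomial.X (0 : Fin 5) ^ (q - p) - MvPolynomial.X 1 * MvPolynomial.X 4 + MvPolynomial.X 2 * MvPolynomial.X 3} := by
    rintro x rfl; exact Submodule.zero_mem _
  revert f
  apply Groth.Agent.Lib.helper23.Wt.whs_induction k (W4c2invhilbsl2.wt5 p q m) _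
    (fun f => ∃ (a₀ : MvPolynomial (Fin 5) k) (a : ℕ → ℕ → MvPolynomial (Fin 5) k),
      a₀ ∈ MvPolynomial.weightedHomogeneousSubmodule k (W4c2invhilbsl2.wt5 p q m) 0 ∧ (∀ e l : ℕ, a e l ∈ MvPolynomial.weightedHomogeneousSubmodule k (W4c2invhilbsl2.wt5 p q m) 0) ∧
      f - (a₀ * MvPolynomial.X (0 : Fin 5) ^ N +
          ∑ e ∈ Finset.range (E + 1), ∑ l ∈ Finset.range (L + 1),
            a e l * (MvPolynomial.X (1 : Fin 5) ^ (E - e) * MvPolynomial.X (2 : Fin 5) ^ e *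
              MvPolynomial.X (3 : Fin 5) ^ (L - l) * MvPolynomial.X (4 : Fin 5) ^ l)) ∈
        Ideal.span {MvPolynomial.X (0 : Fin 5) ^ (q - p) - MvPolynomial.X 1 * MvPolynomial.X 4 + MvPolynomial.X 2 * MvPolynomial.X 3})
  · exact ⟨0, fun _ _ => 0, Submodule.zero_mem _, fun _ _ => Submodule.zero_mem _, by simp⟩
  · rintro f g ⟨a₀, a, ha₀, ha, hf⟩ ⟨b₀, b, hb₀, hb', hg'⟩
    refine ⟨a₀ + b₀, fun e l => a e l + b e l, Submodule.add_mem _ ha₀ hb₀,
      fun e l => Submodule.add_mem _ (ha e l) (hb' e l), ?_⟩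
    convert Ideal.add_mem _ hf hg' using 1
    simp only [add_mul, Finset.sum_add_distrib]
    ring
  · rintro t f ⟨a₀, a, ha₀, ha, hf⟩
    refine ⟨t • a₀, fun e l => t • a e l, Submodule.smul_mem _ t ha₀,
      fun e l => Submodule.smul_mem _ t (ha e l), ?_⟩
    convert Ideal.mul_mem_left _ (MvPolynomial.C t) hf using 1
    simp only [MvPolynomial.smul_eq_C_mul, mul_sub, mul_add, Finset.mul_sum, mul_assoc]
  · intro d hd
    have hd' := hd
    rw [Groth.Agent.Lib.helper23.Wt.weight_wt5, Prod.mk.injEq] at hd'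
    obtain ⟨h1, h2⟩ := hd'
    by_cases hcase : N ≤ d 0
    · obtain ⟨r, hr, hrd⟩ := Groth.Agent.Lib.helper23.Wt.factor_Xpow k (W4c2invhilbsl2.wt5 p q m) d 0 N hcase _ hd
      rw [hw0, sub_self] at hr
      exact ⟨r, fun _ _ => 0, hr, fun _ _ => Submodule.zero_mem _, hzero _ (by rw [hrd]; simp)⟩
    · push Not at hcase
      have hdvd : (m : ℤ) ∣ ((d 1 + d 2 : ℕ) : ℤ) - ((d 3 + d 4 : ℕ) : ℤ) := by
        rw [← ZMod.intCast_zmod_eq_zero_iff_dvd]
        push_cast
        linear_combination (-1 : ZMod m) * h2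
      have hlt : ((d 0 : ℕ) : ℤ) < W4c2invhilbsl2.nN p q m c i := by
        rw [← hN]; exact_mod_cast hcase
      obtain ⟨hE1, hL1⟩ := Groth.Agent.Lib.helper23.HJ.lemmaA p q m hp hpq hm c i hn0 hnq hS
        (d 0) (d 1 + d 2) (d 3 + d 4) (by push_cast; exact h1) hdvd hlt
      rw [← hE] at hE1
      rw [← hL] at hL1
      have hE2 : E ≤ d 1 + d 2 := by exact_mod_cast hE1
      have hL2 : L ≤ d 3 + d 4 := by exact_mod_cast hL1
      obtain ⟨e, he⟩ : ∃ e, e = min (d 2) E := ⟨_, rfl⟩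
      obtain ⟨l, hl⟩ : ∃ l, l = min (d 4) L := ⟨_, rfl⟩
      have he1 : e ≤ E := by omega
      have he2 : e ≤ d 2 := by omega
      have he3 : E - e ≤ d 1 := by omega
      have hl1 : l ≤ L := by omega
      have hl2 : l ≤ d 4 := by omega
      have hl3 : L - l ≤ d 3 := by omega
      obtain ⟨g, hgdef⟩ : ∃ g : Fin 5 →₀ ℕ, g = Finsupp.single 1 (E - e) + Finsupp.single 2 e +
          Finsupp.single 3 (L - l) + Finsupp.single 4 l := ⟨_, rfl⟩
      have hg0 : g 0 = 0 := by rw [hgdef]; simp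
      have hg1 : g 1 = E - e := by rw [hgdef]; simp
      have hg2 : g 2 = e := by rw [hgdef]; simp
      have hg3 : g 3 = L - l := by rw [hgdef]; simp
      have hg4 : g 4 = l := by rw [hgdef]; simp
      have hle : g ≤ d := by
        intro j
        fin_cases j
        · show g 0 ≤ d 0; omega
        · show g 1 ≤ d 1; omega
        · show g 2 ≤ d 2; omega
        · show g 3 ≤ d 3; omega
        · show g 4 ≤ d 4; omega
      have hgw : Finsupp.weight (W4c2invhilbsl2.wt5 p q m) g = (W4c2invhilbsl2.nN p q m c i, (0 : ZMod m)) := by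
        rw [Groth.Agent.Lib.helper23.Wt.weight_wt5, hg0, hg1, hg2, hg3, hg4]
        ext
        · simp only
          push_cast [Nat.cast_sub he1, Nat.cast_sub hl1]
          rw [hE, hL, hnn]; ring
        · simp only
          push_cast [Nat.cast_sub he1, Nat.cast_sub hl1]
          push_cast at hLE
          linear_combination hLE
      obtain ⟨r, hr, hrd⟩ := Groth.Agent.Lib.helper23.Wt.factor2 k (W4c2invhilbsl2.wt5 p q m) d g hle _ _ hd hgw
      rw [sub_self] at hr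
      have hgm : MvPolynomial.monomial g (1 : k) = MvPolynomial.X (1 : Fin 5) ^ (E - e) * MvPolynomial.X (2 : Fin 5) ^ e *
              MvPolynomial.X (3 : Fin 5) ^ (L - l) * MvPolynomial.X (4 : Fin 5) ^ l := by
        rw [Groth.Agent.Lib.helper23.Wt.monomial5_eq, hg0, hg1, hg2, hg3, hg4, pow_zero, one_mul]
      refine ⟨0, fun e' l' => if e' = e ∧ l' = l then r else 0, Submodule.zero_mem _, ?_, ?_⟩
      · intro e' l'
        beta_reduce
        split_ifs
        · exact hr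
        · exact Submodule.zero_mem _
      · apply hzero
        beta_reduce
        rw [Finset.sum_eq_single_of_mem e (Finset.mem_range.mpr (by omega)),
          Finset.sum_eq_single_of_mem l (Finset.mem_range.mpr (by omega))]
        · rw [if_pos ⟨rfl, rfl⟩, hrd, hgm]; ring
        · intro l' _ hl'
          rw [if_neg (fun h => hl' h.2), zero_mul]
        · intro e' _ he'
          apply Finset.sum_eq_zero
          intro l' _
          rw [if_neg (fun h => he' h.1), zero_mul]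

end Groth.Agent.S15732
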