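import Groth.Statements.S1574
import Groth.Agent.S2851
import Mathlib

set_option autoImplicit false
universe u
open CategoryTheory CategoryTheory.Limits AlgebraicGeometry
open Divisors

namespace Groth.Agent.S1574

set_option linter.style.haveILetI false
open Limits

lemma enat_aux (a : ℕ∞) (h : a + 1 ≤ 1) : a = 0 := by
  have hne : a ≠ ⊤ := by
    rintro rfl
    simp at h
  exact Order.lt_one_iff.1 ((ENat.add_one_le_iff hne).1 h)

lemma dim_stalk (A : Type u) [CommRing A] [IsLocalRing A] :
    ringKrullDim ((Spec (CommRingCat.of A)).presheaf.stalk (IsLocalRing.closedPoint A)) =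
      ringKrullDim A := by
  set x : Spec (CommRingCat.of A) := IsLocalRing.closedPoint A with hx
  let k : Algebra ↑(CommRingCat.of A) ↑((Spec (CommRingCat.of A)).presheaf.stalk x) :=
    StructureSheaf.stalkAlgebra (↑(CommRingCat.of A)) x
  have : IsLocalization.AtPrime (↑((Spec (CommRingCat.of A)).presheaf.stalk x)) x.asIdeal :=
    StructureSheaf.IsLocalization.to_stalk (CommRingCat.of A) x
  rw [IsLocalization.AtPrime.ringKrullDim_eq_height x.asIdeal
    ((Spec (CommRingCat.of A)).presheaf.stalk x)]
  exact IsLocalRing.maximalIdeal_height_eq_ringKrullDim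

theorem result' (A : Type u) [CommRing A] [IsLocalRing A] [IsNoetherianRing A] :
    IsAffine (FEt.puncturedSpec A : Scheme.{u}) ↔ ringKrullDim A ≤ 1 := by
  constructor
  · intro hA
    haveI : IsAffine (FEt.puncturedSpec A : Scheme.{u}) := hA
    haveI : IsAffineHom (FEt.puncturedSpec A).ι := inferInstance
    have h1 := Groth.Agent.S2851.result (Spec (CommRingCat.of A)) (FEt.puncturedSpec A)
      (IsLocalRing.closedPoint A) (fun h => h rfl) (fun y hy _ => by
        by_contra hne
        exact hy hne)
    rwa [dim_stalk] at h1
  · intro hdim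
    have hmh : (IsLocalRing.maximalIdeal A).height ≤ 1 := by
      have := (Ideal.height_le_ringKrullDim_of_isPrime (I := IsLocalRing.maximalIdeal A)).trans hdim
      exact_mod_cast this
    -- every non-maximal prime is minimal
    have hmin : ∀ q : Ideal A, q.IsPrime → q ≠ IsLocalRing.maximalIdeal A → q ∈ minimalPrimes A := by
      intro q hq hne
      have hlt : q < IsLocalRing.maximalIdeal A :=
        lt_of_le_of_ne (IsLocalRing.le_maximalIdeal hq.ne_top) hne
      have h2 := Ideal.height_add_one_le_of_lt_of_isPrime hlt
      have h3 : q.height = 0 := enat_aux _ (h2.trans hmh)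
      exact Ideal.height_eq_zero_iff.1 h3
    -- find f
    obtain ⟨f, hf⟩ : ∃ f : A, ∀ q : PrimeSpectrum A, q ∈ (PrimeSpectrum.basicOpen f : Set _) ↔
        q ≠ IsLocalRing.closedPoint A := by
      by_cases hm : IsLocalRing.maximalIdeal A ∈ minimalPrimes A
      · refine ⟨0, fun q => ?_⟩
        have hq : q = IsLocalRing.closedPoint A := by
          apply PrimeSpectrum.ext
          have hle : q.asIdeal ≤ IsLocalRing.maximalIdeal A :=
            IsLocalRing.le_maximalIdeal q.2.ne_top
          exact le_antisymm hle (hm.2 ⟨q.2, bot_le⟩ hle)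
        constructor
        · intro h
          simp at h
        · intro h
          exact absurd hq h
      · have hfin : (minimalPrimes A).Finite := minimalPrimes.finite_of_isNoetherianRing A
        have hnot : ¬ ((IsLocalRing.maximalIdeal A : Set A) ⊆
            ⋃ p ∈ (hfin.toFinset : Set (Ideal A)), (p : Set A)) := by
          intro hsub
          rw [Ideal.subset_union_prime (R := A) (s := hfin.toFinset) (f := fun p => p)
            (IsLocalRing.maximalIdeal A) (IsLocalRing.maximalIdeal A)
            (fun p hp _ _ => (hfin.mem_toFinset.1 hp).isPrime)] at hsub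
          obtain ⟨p, hp, hle⟩ := hsub
          have hpm : p ∈ minimalPrimes A := hfin.mem_toFinset.1 hp
          have hpp : p.IsPrime := hpm.isPrime
          have : p = IsLocalRing.maximalIdeal A :=
            le_antisymm (IsLocalRing.le_maximalIdeal hpp.ne_top) hle
          exact hm (this ▸ hpm)
        rw [Set.not_subset] at hnot
        obtain ⟨f, hfm, hfn⟩ := hnot
        refine ⟨f, fun q => ?_⟩
        constructor
        · intro hq hqe
          rw [hqe] at hq
          exact hq hfm
        · intro hne hfq
          have hqmin : q.asIdeal ∈ minimalPrimes A := hmin q.asIdeal q.2 (fun h => hne (PrimeSpectrum.ext h))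
          apply hfn
          simp only [Set.mem_iUnion]
          exact ⟨q.asIdeal, hfin.mem_toFinset.2 hqmin, hfq⟩
    have hU : FEt.puncturedSpec A = PrimeSpectrum.basicOpen f := by
      ext q
      exact (show q ∈ ((FEt.puncturedSpec A : (Spec (CommRingCat.of A)).Opens) : Set _) ↔
        q ≠ IsLocalRing.closedPoint A from Iff.rfl).trans (hf q).symm
    have haff : IsAffineOpen (X := Spec (CommRingCat.of A)) (PrimeSpectrum.basicOpen f) :=
      IsAffineOpen.Spec_basicOpen (R := CommRingCat.of A) f
    rw [hU]
    exact haff

/-- For a Noetherian local ring A, the punctured spectrum (Spec A minus the closed point, as an open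
subscheme) is affine if and only if dim A ≤ 1. -/
theorem result (A : Type u) [CommRing A] [IsLocalRing A] [IsNoetherianRing A] :
    IsAffine (FEt.puncturedSpec A : Scheme.{u}) ↔ ringKrullDim A ≤ 1 := by
  exact result' A

end Groth.Agent.S1574
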