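import Groth.Statements.S19871
import Mathlib
import Groth.Agent.S15450

set_option autoImplicit false
universe u v
open CategoryTheory AlgebraicGeometry
open WeilCoh

namespace Groth.Agent.S19871


open Groth.Agent.Lib.helper12.WeilGraph Groth.Agent.Lib.helper23.WeilCohLib
open Groth.Agent.S15450 Groth.Agent.S15451

section Aux

variable (k : Type u) [Field k] [IsAlgClosed k] (K : Type v) [Field K] [CharZero K]
  (T : WeilCoh.Theory k K) {X Y P : WeilCoh.Var k} (p : P ⟶ X) (q : P ⟶ Y) (r : ℤ)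

/-- The action of a class as a correspondence. -/
noncomputable def act (φ : ↥(T.gr P (2 * (WeilCoh.dim X.obj.left : ℤ) + r))) (i : ℤ) :
    ↥(T.gr X i) →ₗ[K] ↥(T.gr Y (i + (2 * (WeilCoh.dim X.obj.left : ℤ) + r) +
      2 * (WeilCoh.dim Y.obj.left : ℤ) - 2 * (WeilCoh.dim P.obj.left : ℤ))) :=
  (T.push q (i + (2 * (WeilCoh.dim X.obj.left : ℤ) + r))) ∘ₗ
    ((LinearMap.mulRight K (φ : T.H P)).restrict (p := T.gr P i)
      (q := T.gr P (i + (2 * (WeilCoh.dim X.obj.left : ℤ) + r)))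
      (fun x hx => SetLike.mul_mem_graded hx φ.2)) ∘ₗ (T.pullDeg p i)

theorem act_spec (φ : ↥(T.gr P (2 * (WeilCoh.dim X.obj.left : ℤ) + r))) (i : ℤ)
    (x : ↥(T.gr X i)) (y : T.H Y) (n : ℤ)
    (hn : n = 2 * (WeilCoh.dim P.obj.left : ℤ) - (i + (2 * (WeilCoh.dim X.obj.left : ℤ) + r)))
    (hy : y ∈ T.gr Y n) :
    T.tr Y ((act k K T p q r φ i x : T.H Y) * y) =
      T.tr P (T.pull p (x : T.H X) * (φ : T.H P) * T.pull q y) :=
  push_spec T q _ _ y n hn hy

theorem act_injective (hP : WeilCoh.IsProd p q)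
    (hdim : WeilCoh.dim P.obj.left = WeilCoh.dim X.obj.left + WeilCoh.dim Y.obj.left)
    (φ φ' : ↥(T.gr P (2 * (WeilCoh.dim X.obj.left : ℤ) + r)))
    (h : ∀ i, act k K T p q r φ i = act k K T p q r φ' i) : φ = φ' := by
  apply Subtype.ext
  refine ext_of_tr T P (2 * (WeilCoh.dim X.obj.left : ℤ) + r)
    (2 * (WeilCoh.dim Y.obj.left : ℤ) - r) (by rw [hdim]; push_cast; ring) _ _ φ.2 φ'.2 ?_
  intro β _
  suffices hsuff : (T.tr P).comp (LinearMap.mulLeft K ((φ : T.H P) - (φ' : T.H P))) β = 0 by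
    have h2 : T.tr P (((φ : T.H P) - (φ' : T.H P)) * β) = 0 := hsuff
    rw [sub_mul, map_sub, sub_eq_zero] at h2
    exact h2
  refine ext_kunneth k K T p q hP _ ?_ β
  intro s t a b ha hb
  show T.tr P (((φ : T.H P) - (φ' : T.H P)) * (T.pull p a * T.pull q b)) = 0
  have hD : (φ : T.H P) - (φ' : T.H P) ∈ T.gr P (2 * (WeilCoh.dim X.obj.left : ℤ) + r) :=
    Submodule.sub_mem _ φ.2 φ'.2
  have hab : T.pull p a * T.pull q b ∈ T.gr P (s + t) :=
    SetLike.mul_mem_graded (T.pull_mem p s a ha) (T.pull_mem q t b hb)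
  by_cases hst : s + t = 2 * (WeilCoh.dim Y.obj.left : ℤ) - r
  swap
  · exact T.tr_vanish P _ _ (SetLike.mul_mem_graded hD hab) (by rw [hdim]; push_cast; omega)
  have h1 := act_spec k K T p q r φ s ⟨a, ha⟩ b t (by rw [hdim]; push_cast; omega) hb
  have h2 := act_spec k K T p q r φ' s ⟨a, ha⟩ b t (by rw [hdim]; push_cast; omega) hb
  rw [h s] at h1
  have h3 : T.tr P (T.pull p a * (φ : T.H P) * T.pull q b) =
      T.tr P (T.pull p a * (φ' : T.H P) * T.pull q b) := h1.symm.trans h2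
  have hcomm := T.gradedComm P _ _ _ _ hD (T.pull_mem p s a ha)
  rw [← mul_assoc, hcomm, smul_mul_assoc, map_smul, mul_sub, sub_mul, map_sub, h3, sub_self,
    smul_zero]

theorem act_surjective (hP : WeilCoh.IsProd p q)
    (hdim : WeilCoh.dim P.obj.left = WeilCoh.dim X.obj.left + WeilCoh.dim Y.obj.left)
    (g : (i : ℤ) → ↥(T.gr X i) →ₗ[K] ↥(T.gr Y (i + (2 * (WeilCoh.dim X.obj.left : ℤ) + r) +
      2 * (WeilCoh.dim Y.obj.left : ℤ) - 2 * (WeilCoh.dim P.obj.left : ℤ)))) :
    ∃ φ : ↥(T.gr P (2 * (WeilCoh.dim X.obj.left : ℤ) + r)),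
      ∀ i, act k K T p q r φ i = g i := by
  classical
  let φ0 : T.H P := ∑ s ∈ Finset.range (2 * WeilCoh.dim X.obj.left + 1),
    ∑ a : Fin (Module.finrank K ↥(T.gr X (s : ℤ))),
      ((-1 : K) ^ s) • (T.pull p (fB k K T X s a : T.H X) *
        T.pull q ((g (s : ℤ) (eB k K T X s a) : ↥(T.gr Y _)) : T.H Y))
  have hφ0 : φ0 ∈ T.gr P (2 * (WeilCoh.dim X.obj.left : ℤ) + r) := by
    refine Submodule.sum_mem _ (fun s _ => Submodule.sum_mem _ (fun a _ =>
      Submodule.smul_mem _ _ ?_))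
    exact mem_of_eq T (by rw [hdim]; push_cast; ring) (SetLike.mul_mem_graded
      (T.pull_mem p _ _ (fB k K T X s a).2) (T.pull_mem q _ _ (g (s : ℤ) (eB k K T X s a)).2))
  refine ⟨⟨φ0, hφ0⟩, fun i => ?_⟩
  apply LinearMap.ext
  intro x
  by_cases hi : 0 ≤ i ∧ i ≤ 2 * (WeilCoh.dim X.obj.left : ℤ)
  swap
  · have hx0 : x = 0 := Subtype.ext (eq_zero_of_mem T X i x x.2 (by omega))
    rw [hx0, map_zero, map_zero]
  obtain ⟨i₀, rfl⟩ := Int.eq_ofNat_of_zero_le hi.1
  have hi₀ : i₀ ≤ 2 * WeilCoh.dim X.obj.left := by omega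
  apply Subtype.ext
  refine ext_of_tr T Y (((i₀ : ℕ) : ℤ) + (2 * (WeilCoh.dim X.obj.left : ℤ) + r) +
      2 * (WeilCoh.dim Y.obj.left : ℤ) - 2 * (WeilCoh.dim P.obj.left : ℤ))
    (2 * (WeilCoh.dim Y.obj.left : ℤ) - (((i₀ : ℕ) : ℤ) + (2 * (WeilCoh.dim X.obj.left : ℤ) + r) +
      2 * (WeilCoh.dim Y.obj.left : ℤ) - 2 * (WeilCoh.dim P.obj.left : ℤ))) (by ring) _ _
    (act k K T p q r ⟨φ0, hφ0⟩ _ x).2 (g _ x).2 ?_
  intro y hy
  rw [act_spec k K T p q r ⟨φ0, hφ0⟩ _ x y _ (by ring) hy]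
  show T.tr P (T.pull p (x : T.H X) * φ0 * T.pull q y) = T.tr Y ((g _ x : T.H Y) * y)
  have hterm : ∀ (s : ℕ) (a : Fin (Module.finrank K ↥(T.gr X (s : ℤ)))),
      T.tr P (T.pull p (x : T.H X) * (((-1 : K) ^ s) • (T.pull p (fB k K T X s a : T.H X) *
        T.pull q ((g (s : ℤ) (eB k K T X s a) : ↥(T.gr Y _)) : T.H Y))) * T.pull q y) =
      (-1 : K) ^ s * T.tr P (T.pull p ((x : T.H X) * (fB k K T X s a : T.H X)) *
        T.pull q (((g (s : ℤ) (eB k K T X s a) : ↥(T.gr Y _)) : T.H Y) * y)) := by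
    intro s a
    rw [mul_smul_comm, smul_mul_assoc, map_smul, smul_eq_mul,
      map_mul (T.pull p) (x : T.H X) (fB k K T X s a : T.H X),
      map_mul (T.pull q) ((g (s : ℤ) (eB k K T X s a) : ↥(T.gr Y _)) : T.H Y) y]
    simp only [mul_assoc]
  show T.tr P (T.pull p (x : T.H X) * (∑ s ∈ Finset.range (2 * WeilCoh.dim X.obj.left + 1),
    ∑ a : Fin (Module.finrank K ↥(T.gr X (s : ℤ))),
      ((-1 : K) ^ s) • (T.pull p (fB k K T X s a : T.H X) *
        T.pull q ((g (s : ℤ) (eB k K T X s a) : ↥(T.gr Y _)) : T.H Y))) * T.pull q y) = _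
  rw [Finset.mul_sum, Finset.sum_mul, map_sum, Finset.sum_eq_single i₀]
  · rw [Finset.mul_sum, Finset.sum_mul, map_sum, Finset.sum_congr rfl (fun a _ => hterm i₀ a)]
    -- right hand side
    have hx : g ((i₀ : ℕ) : ℤ) x = ∑ a, (eB k K T X i₀).repr x a •
        g ((i₀ : ℕ) : ℤ) (eB k K T X i₀ a) := by
      conv_lhs => rw [← (eB k K T X i₀).sum_repr x]
      rw [map_sum]
      simp_rw [map_smul]
    rw [hx, Submodule.coe_sum, Finset.sum_mul, map_sum]
    refine Finset.sum_congr rfl (fun a _ => ?_)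
    rw [T.tr_prod p q hP _ _
      (mem_of_eq T (by ring) (SetLike.mul_mem_graded x.2 (fB k K T X i₀ a).2))
      (mem_of_eq T (by ring) (SetLike.mul_mem_graded (g _ (eB k K T X i₀ a)).2 hy)),
      T.gradedComm X _ _ _ _ x.2 (fB k K T X i₀ a).2, map_smul, smul_eq_mul,
      sign_aux K (WeilCoh.dim X.obj.left) i₀ hi₀, fB_spec, Submodule.coe_smul, smul_mul_assoc,
      map_smul, smul_eq_mul]
    have hsq : (-1 : K) ^ i₀ * (-1 : K) ^ i₀ = 1 := by
      rw [← pow_add]
      exact Even.neg_one_pow ⟨i₀, rfl⟩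
    linear_combination ((eB k K T X i₀).repr x a *
      T.tr Y (((g ((i₀ : ℕ) : ℤ) (eB k K T X i₀ a) : ↥(T.gr Y _)) : T.H Y) * y)) * hsq
  · intro s hs hne
    rw [Finset.mul_sum, Finset.sum_mul, map_sum]
    refine Finset.sum_eq_zero (fun a _ => ?_)
    rw [hterm s a]
    by_cases hlt : s < i₀
    · have h0 : (x : T.H X) * (fB k K T X s a : T.H X) = 0 :=
        eq_zero_of_mem T X _ _ (SetLike.mul_mem_graded x.2 (fB k K T X s a).2)
          (Or.inr (by omega))
      rw [h0, map_zero, zero_mul, map_zero, mul_zero]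
    · have h0 : ((g (s : ℤ) (eB k K T X s a) : ↥(T.gr Y _)) : T.H Y) * y = 0 :=
        eq_zero_of_mem T Y _ _ (SetLike.mul_mem_graded (g _ (eB k K T X s a)).2 hy)
          (Or.inr (by omega))
      rw [h0, map_zero, mul_zero, map_zero, mul_zero]
  · intro hnot
    exact absurd (Finset.mem_range.mpr (by omega)) hnot

end Aux

/-- Let `H` be a Weil cohomology theory with coefficients in a field `K` of characteristic zero on
nonsingular connected projective varieties over an algebraically closed field `k`; let `X`, `Y` be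
such varieties and `P` a product `X × Y` with projections `p`, `q`, of dimension `dim X + dim Y`.
For an integer `r`, sending a class `φ ∈ H^{2 dim X + r}(P)` to the family, indexed by all integers
`i`, of the `K`-linear maps `H^i(X) → H^{i+r}(Y)`, `x ↦ q_*(p^* x ∪ φ)`, is a bijection from `H^{2
dim X + r}(P)` onto the families of linear maps `(H^i(X) → H^{i+r}(Y))_i`, i.e. onto the degree-`r`
homomorphisms of graded vector spaces from `H•(X)` to `H•(Y)` (the factors with `i` outside `[0, 2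
dim X]` are zero). The target degree is written `i + (2 dim X + r) + 2 dim Y − 2 dim P`, the
indexing of the push-forward; it equals `i + r` by the dimension hypothesis. (The published lemma
states a canonical isomorphism `Hom^r(H•X, H•Y) ≅ H^{2 dim X + r}(X × Y)(dim X)` obtained from
Poincaré duality on `X` and the Künneth formula, for smooth projective varieties over an arbitrary
field with Tate twists; this row is its case of connected varieties over an algebraically closed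
field, without twists, with the isomorphism written as the action of a class by pull-back, cup
product and push-forward.) -/
theorem result (k : Type u) [Field k] [IsAlgClosed k] (K : Type v) [Field K] [CharZero K]
    (T : WeilCoh.Theory k K) (X Y P : WeilCoh.Var k) (p : P ⟶ X) (q : P ⟶ Y) (hP : WeilCoh.IsProd p q)
    (hdim : WeilCoh.dim P.obj.left = WeilCoh.dim X.obj.left + WeilCoh.dim Y.obj.left) (r : ℤ) :
    Function.Bijective (fun φ : ↥(T.gr P (2 * (WeilCoh.dim X.obj.left : ℤ) + r)) => fun i : ℤ =>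
      (T.push q (i + (2 * (WeilCoh.dim X.obj.left : ℤ) + r))) ∘ₗ
        ((LinearMap.mulRight K (φ : T.H P)).restrict (p := T.gr P i) (q := T.gr P (i + (2 * (WeilCoh.dim X.obj.left : ℤ) + r)))
          (fun x hx => SetLike.mul_mem_graded hx φ.2)) ∘ₗ
        (T.pullDeg p i)) := by
  constructor
  · intro φ φ' h
    exact act_injective k K T p q r hP hdim φ φ' (fun i => congrFun h i)
  · intro g
    obtain ⟨φ, hφ⟩ := act_surjective k K T p q r hP hdim g
    exact ⟨φ, funext hφ⟩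

end Groth.Agent.S19871
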