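import Groth.Statements.S15748
import Mathlib
import Groth.Agent.S19871

set_option autoImplicit false
universe u v
open CategoryTheory AlgebraicGeometry
open WeilCoh

namespace Groth.Agent.S15748


open Groth.Agent.Lib.helper12.WeilGraph Groth.Agent.Lib.helper23.WeilCohLib
open Groth.Agent.S15450 Groth.Agent.S15451 Groth.Agent.S19871

theorem sign_aux2 (K : Type v) [Field K] (n m s : ℕ) (hs : s ≤ 2 * n) :
    (-1 : K) ^ ((2 * n - s) * (s + 2 * m)) = (-1) ^ s := by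
  apply neg_one_pow_eq_of_even_add
  rcases Nat.even_or_odd s with ⟨c, hc⟩ | ⟨c, hc⟩
  · have h1 : 2 * n - s = 2 * (n - c) := by omega
    refine ⟨(n - c) * (s + 2 * m) + c, ?_⟩
    rw [h1]
    nth_rewrite 2 [hc]
    ring
  · have h1 : 2 * n - s = 2 * (n - c - 1) + 1 := by omega
    refine ⟨(n - c - 1) * (2 * c + 2 * m + 1) + (2 * c + m + 1), ?_⟩
    rw [h1, hc]
    ring

section Aux

variable (k : Type u) [Field k] [IsAlgClosed k] (K : Type v) [Field K] [CharZero K]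
  (T : WeilCoh.Theory k K)

/-- General correspondence action. -/
noncomputable def corr {U V Q : WeilCoh.Var k} (a : Q ⟶ U) (b : Q ⟶ V) (d : ℤ)
    (θ : ↥(T.gr Q d)) (j : ℤ) :
    ↥(T.gr U j) →ₗ[K] ↥(T.gr V (j + d + 2 * (WeilCoh.dim V.obj.left : ℤ) -
      2 * (WeilCoh.dim Q.obj.left : ℤ))) :=
  (T.push b (j + d)) ∘ₗ
    ((LinearMap.mulRight K (θ : T.H Q)).restrict (p := T.gr Q j) (q := T.gr Q (j + d))
      (fun x hx => SetLike.mul_mem_graded hx θ.2)) ∘ₗ (T.pullDeg a j)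

theorem corr_spec {U V Q : WeilCoh.Var k} (a : Q ⟶ U) (b : Q ⟶ V) (d : ℤ)
    (θ : ↥(T.gr Q d)) (j : ℤ) (x : ↥(T.gr U j)) (y : T.H V) (n : ℤ)
    (hn : n = 2 * (WeilCoh.dim Q.obj.left : ℤ) - (j + d)) (hy : y ∈ T.gr V n) :
    T.tr V ((corr k K T a b d θ j x : T.H V) * y) =
      T.tr Q (T.pull a (x : T.H U) * (θ : T.H Q) * T.pull b y) :=
  push_spec T b _ _ y n hn hy

variable {X Y P : WeilCoh.Var k} (p : P ⟶ X) (q : P ⟶ Y) (r : ℤ)

/-- The Künneth expansion of the class with prescribed action. -/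
noncomputable def phi0 (g : (i : ℤ) → ↥(T.gr X i) →ₗ[K]
      ↥(T.gr Y (i + (2 * (WeilCoh.dim X.obj.left : ℤ) + r) +
      2 * (WeilCoh.dim Y.obj.left : ℤ) - 2 * (WeilCoh.dim P.obj.left : ℤ)))) : T.H P :=
  ∑ s ∈ Finset.range (2 * WeilCoh.dim X.obj.left + 1),
    ∑ a : Fin (Module.finrank K ↥(T.gr X (s : ℤ))),
      ((-1 : K) ^ s) • (T.pull p (fB k K T X s a : T.H X) *
        T.pull q ((g (s : ℤ) (eB k K T X s a) : ↥(T.gr Y _)) : T.H Y))

theorem phi0_mem
    (hdim : WeilCoh.dim P.obj.left = WeilCoh.dim X.obj.left + WeilCoh.dim Y.obj.left)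
    (g : (i : ℤ) → ↥(T.gr X i) →ₗ[K] ↥(T.gr Y (i + (2 * (WeilCoh.dim X.obj.left : ℤ) + r) +
      2 * (WeilCoh.dim Y.obj.left : ℤ) - 2 * (WeilCoh.dim P.obj.left : ℤ)))) :
    phi0 k K T p q r g ∈ T.gr P (2 * (WeilCoh.dim X.obj.left : ℤ) + r) := by
  refine Submodule.sum_mem _ (fun s _ => Submodule.sum_mem _ (fun a _ =>
    Submodule.smul_mem _ _ ?_))
  exact mem_of_eq T (by rw [hdim]; push_cast; ring) (SetLike.mul_mem_graded
    (T.pull_mem p _ _ (fB k K T X s a).2) (T.pull_mem q _ _ (g (s : ℤ) (eB k K T X s a)).2))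

theorem act_phi0 (hP : WeilCoh.IsProd p q)
    (hdim : WeilCoh.dim P.obj.left = WeilCoh.dim X.obj.left + WeilCoh.dim Y.obj.left)
    (g : (i : ℤ) → ↥(T.gr X i) →ₗ[K] ↥(T.gr Y (i + (2 * (WeilCoh.dim X.obj.left : ℤ) + r) +
      2 * (WeilCoh.dim Y.obj.left : ℤ) - 2 * (WeilCoh.dim P.obj.left : ℤ)))) (i : ℤ) :
    act k K T p q r ⟨phi0 k K T p q r g, phi0_mem k K T p q r hdim g⟩ i = g i := by
  classical
  have hφ0 := phi0_mem k K T p q r hdim g
  apply LinearMap.ext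
  intro x
  by_cases hi : 0 ≤ i ∧ i ≤ 2 * (WeilCoh.dim X.obj.left : ℤ)
  swap
  · have hx0 : x = 0 := Subtype.ext (eq_zero_of_mem T X i x x.2 (by omega))
    rw [hx0, map_zero, map_zero]
  obtain ⟨i₀, rfl⟩ := Int.eq_ofNat_of_zero_le hi.1
  have hi₀ : i₀ ≤ 2 * WeilCoh.dim X.obj.left := by omega
  apply Subtype.ext
  refine ext_of_tr T Y (((i₀ : ℕ) : ℤ) + (2 * (WeilCoh.dim X.obj.left : ℤ) + r) +
      2 * (WeilCoh.dim Y.obj.left : ℤ) - 2 * (WeilCoh.dim P.obj.left : ℤ))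
    (2 * (WeilCoh.dim Y.obj.left : ℤ) - (((i₀ : ℕ) : ℤ) + (2 * (WeilCoh.dim X.obj.left : ℤ) + r) +
      2 * (WeilCoh.dim Y.obj.left : ℤ) - 2 * (WeilCoh.dim P.obj.left : ℤ))) (by ring) _ _
    (act k K T p q r ⟨phi0 k K T p q r g, hφ0⟩ _ x).2 (g _ x).2 ?_
  intro y hy
  rw [act_spec k K T p q r ⟨phi0 k K T p q r g, hφ0⟩ _ x y _ (by ring) hy]
  have hterm : ∀ (s : ℕ) (a : Fin (Module.finrank K ↥(T.gr X (s : ℤ)))),
      T.tr P (T.pull p (x : T.H X) * (((-1 : K) ^ s) • (T.pull p (fB k K T X s a : T.H X) *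
        T.pull q ((g (s : ℤ) (eB k K T X s a) : ↥(T.gr Y _)) : T.H Y))) * T.pull q y) =
      (-1 : K) ^ s * T.tr P (T.pull p ((x : T.H X) * (fB k K T X s a : T.H X)) *
        T.pull q (((g (s : ℤ) (eB k K T X s a) : ↥(T.gr Y _)) : T.H Y) * y)) := by
    intro s a
    rw [mul_smul_comm, smul_mul_assoc, map_smul, smul_eq_mul,
      map_mul (T.pull p) (x : T.H X) (fB k K T X s a : T.H X),
      map_mul (T.pull q) ((g (s : ℤ) (eB k K T X s a) : ↥(T.gr Y _)) : T.H Y) y]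
    simp only [mul_assoc]
  show T.tr P (T.pull p (x : T.H X) * (∑ s ∈ Finset.range (2 * WeilCoh.dim X.obj.left + 1),
    ∑ a : Fin (Module.finrank K ↥(T.gr X (s : ℤ))),
      ((-1 : K) ^ s) • (T.pull p (fB k K T X s a : T.H X) *
        T.pull q ((g (s : ℤ) (eB k K T X s a) : ↥(T.gr Y _)) : T.H Y))) * T.pull q y) =
      T.tr Y ((g _ x : T.H Y) * y)
  rw [Finset.mul_sum, Finset.sum_mul, map_sum, Finset.sum_eq_single i₀]
  · rw [Finset.mul_sum, Finset.sum_mul, map_sum, Finset.sum_congr rfl (fun a _ => hterm i₀ a)]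
    have hx : g ((i₀ : ℕ) : ℤ) x = ∑ a, (eB k K T X i₀).repr x a •
        g ((i₀ : ℕ) : ℤ) (eB k K T X i₀ a) := by
      conv_lhs => rw [← (eB k K T X i₀).sum_repr x]
      rw [map_sum]
      simp_rw [map_smul]
    rw [hx, Submodule.coe_sum, Finset.sum_mul, map_sum]
    refine Finset.sum_congr rfl (fun a _ => ?_)
    rw [T.tr_prod p q hP _ _
      (mem_of_eq T (by ring) (SetLike.mul_mem_graded x.2 (fB k K T X i₀ a).2))
      (mem_of_eq T (by ring) (SetLike.mul_mem_graded (g _ (eB k K T X i₀ a)).2 hy)),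
      T.gradedComm X _ _ _ _ x.2 (fB k K T X i₀ a).2, map_smul, smul_eq_mul,
      sign_aux K (WeilCoh.dim X.obj.left) i₀ hi₀, fB_spec, Submodule.coe_smul, smul_mul_assoc,
      map_smul, smul_eq_mul]
    have hsq : (-1 : K) ^ i₀ * (-1 : K) ^ i₀ = 1 := by
      rw [← pow_add]
      exact Even.neg_one_pow ⟨i₀, rfl⟩
    linear_combination ((eB k K T X i₀).repr x a *
      T.tr Y (((g ((i₀ : ℕ) : ℤ) (eB k K T X i₀ a) : ↥(T.gr Y _)) : T.H Y) * y)) * hsq
  · intro s hs hne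
    rw [Finset.mul_sum, Finset.sum_mul, map_sum]
    refine Finset.sum_eq_zero (fun a _ => ?_)
    rw [hterm s a]
    by_cases hlt : s < i₀
    · have h0 : (x : T.H X) * (fB k K T X s a : T.H X) = 0 :=
        eq_zero_of_mem T X _ _ (SetLike.mul_mem_graded x.2 (fB k K T X s a).2)
          (Or.inr (by omega))
      rw [h0, map_zero, zero_mul, map_zero, mul_zero]
    · have h0 : ((g (s : ℤ) (eB k K T X s a) : ↥(T.gr Y _)) : T.H Y) * y = 0 :=
        eq_zero_of_mem T Y _ _ (SetLike.mul_mem_graded (g _ (eB k K T X s a)).2 hy)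
          (Or.inr (by omega))
      rw [h0, map_zero, mul_zero, map_zero, mul_zero]
  · intro hnot
    exact absurd (Finset.mem_range.mpr (by omega)) hnot

theorem expansion (hP : WeilCoh.IsProd p q)
    (hdim : WeilCoh.dim P.obj.left = WeilCoh.dim X.obj.left + WeilCoh.dim Y.obj.left)
    (φ : ↥(T.gr P (2 * (WeilCoh.dim X.obj.left : ℤ) + r))) :
    (φ : T.H P) = phi0 k K T p q r (act k K T p q r φ) := by
  have h := act_injective k K T p q r hP hdim
    ⟨phi0 k K T p q r (act k K T p q r φ), phi0_mem k K T p q r hdim _⟩ φ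
    (fun i => act_phi0 k K T p q r hP hdim _ i)
  exact (congrArg Subtype.val h).symm

/-- The trace is invariant under the swap of the factors of a product. -/
theorem tr_pull_swap {P' : WeilCoh.Var k} (hP : WeilCoh.IsProd p q) (p' : P' ⟶ Y) (q' : P' ⟶ X)
    (hP' : WeilCoh.IsProd p' q') (σ : P ⟶ P') (hσ₁ : σ ≫ p' = q) (hσ₂ : σ ≫ q' = p)
    (β : T.H P') : T.tr P (T.pull σ β) = T.tr P' β := by
  have hdP := dim_prod k K T p q hP
  have hdP' := dim_prod k K T p' q' hP'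
  suffices h : ((T.tr P).comp (T.pull σ).toLinearMap - T.tr P') β = 0 by
    have h2 : T.tr P (T.pull σ β) - T.tr P' β = 0 := h
    exact sub_eq_zero.mp h2
  refine ext_kunneth k K T p' q' hP' _ ?_ β
  intro s t a b ha hb
  show T.tr P (T.pull σ (T.pull p' a * T.pull q' b)) - T.tr P' (T.pull p' a * T.pull q' b) = 0
  rw [map_mul (T.pull σ), pull_pull k K T σ p', pull_pull k K T σ q', hσ₁, hσ₂, sub_eq_zero]
  have hab : T.pull q a * T.pull p b ∈ T.gr P (s + t) :=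
    SetLike.mul_mem_graded (T.pull_mem q s a ha) (T.pull_mem p t b hb)
  have hab' : T.pull p' a * T.pull q' b ∈ T.gr P' (s + t) :=
    SetLike.mul_mem_graded (T.pull_mem p' s a ha) (T.pull_mem q' t b hb)
  by_cases hs : s = 2 * (WeilCoh.dim Y.obj.left : ℤ)
  · by_cases ht : t = 2 * (WeilCoh.dim X.obj.left : ℤ)
    · subst hs; subst ht
      have hcomm := T.gradedComm P _ _ _ _ (T.pull_mem q _ a ha) (T.pull_mem p _ b hb)
      have hsign : (-1 : K) ^ ((2 * (WeilCoh.dim Y.obj.left : ℤ)).natAbs *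
          (2 * (WeilCoh.dim X.obj.left : ℤ)).natAbs) = 1 := by
        have h2 : (2 * (WeilCoh.dim Y.obj.left : ℤ)).natAbs = 2 * WeilCoh.dim Y.obj.left := by
          omega
        rw [h2, mul_assoc, pow_mul]
        simp
      rw [hcomm, hsign, one_smul, T.tr_prod p q hP b a hb ha, T.tr_prod p' q' hP' a b ha hb,
        mul_comm]
    · rw [T.tr_vanish P _ _ hab (by rw [hdP]; push_cast; omega),
        T.tr_vanish P' _ _ hab' (by rw [hdP']; push_cast; omega)]
  · by_cases hst : s + t = 2 * (WeilCoh.dim X.obj.left : ℤ) + 2 * (WeilCoh.dim Y.obj.left : ℤ)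
    · by_cases hgt : 2 * (WeilCoh.dim Y.obj.left : ℤ) < s
      · have h0 : a = 0 := eq_zero_of_mem T Y s a ha (Or.inr hgt)
        rw [h0, map_zero, map_zero, zero_mul, zero_mul, map_zero, map_zero]
      · have h0 : b = 0 := eq_zero_of_mem T X t b hb (Or.inr (by omega))
        rw [h0, map_zero, map_zero, mul_zero, mul_zero, map_zero, map_zero]
    · rw [T.tr_vanish P _ _ hab (by rw [hdP]; push_cast; omega),
        T.tr_vanish P' _ _ hab' (by rw [hdP']; push_cast; omega)]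

end Aux

/-- Let `H` be a Weil cohomology theory with coefficients in a field `K` of characteristic zero on
nonsingular connected projective varieties over an algebraically closed field `k`; let `X`, `Y` be
such varieties, `P` a product `X × Y` with projections `p`, `q`, `P'` a product `Y × X` with
projections `p'`, `q'`, and `σ : P ⟶ P'` the swap (`σ p' = q`, `σ q' = p`). For an integer `r`, a
class `φ ∈ H^{2 dim X + r}(P)` acts as the degree-`r` correspondence `x ↦ q_*(p^* x ∪ φ)` from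
`H•(X)` to `H•(Y)`, and `ψ ∈ H^{2 dim Y − r}(P')` as the degree-`(−r)` correspondence `y ↦ q'_*(p'^*
y ∪ ψ)` back. Then `Tr_P(φ ∪ σ^* ψ) = Σ_{i=0}^{2 dim X} (−1)^i tr(ψ ∘ φ | H^i(X))`. The hypothesis
`hdim` is the arithmetic identity expressing `dim P = dim P' = dim X + dim Y` in the form needed to
read the composite `ψ ∘ φ` as an endomorphism of each `H^i(X)` (the push-forward maps are indexed by
the dimensions of the underlying spaces). (The published lemma defines the action of a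
correspondence through the Künneth and Poincaré duality identifications `Hom^r(H•X, H•Y) = H^{2 dim
X + r}(X × Y)` and the transpose through the same identifications; here the action is written as
pull-back, cup product and push-forward, and the transpose as pull-back along the swap, which the
published text identifies with it.) (The published lemma is stated for smooth projective varieties
over an arbitrary base field, pure of their dimensions, with Tate twists; this row is its case of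
connected varieties over an algebraically closed field, without twists.) -/
theorem result (k : Type u) [Field k] [IsAlgClosed k] (K : Type v) [Field K] [CharZero K]
    (T : WeilCoh.Theory k K) (X Y P P' : WeilCoh.Var k)
    (p : P ⟶ X) (q : P ⟶ Y) (hP : WeilCoh.IsProd p q)
    (p' : P' ⟶ Y) (q' : P' ⟶ X) (hP' : WeilCoh.IsProd p' q')
    (σ : P ⟶ P') (hσ₁ : σ ≫ p' = q) (hσ₂ : σ ≫ q' = p) (r : ℤ)
    (hdim : ∀ i : ℤ, ((i + (2 * (WeilCoh.dim X.obj.left : ℤ) + r) + 2 * (WeilCoh.dim Y.obj.left : ℤ) - 2 * (WeilCoh.dim P.obj.left : ℤ)) + (2 * (WeilCoh.dim Y.obj.left : ℤ) - r) + 2 * (WeilCoh.dim X.obj.left : ℤ) - 2 * (WeilCoh.dim P'.obj.left : ℤ)) = i)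
    (φ : ↥(T.gr P (2 * (WeilCoh.dim X.obj.left : ℤ) + r))) (ψ : ↥(T.gr P' (2 * (WeilCoh.dim Y.obj.left : ℤ) - r))) :
    T.tr P ((φ : T.H P) * T.pull σ (ψ : T.H P')) =
      ∑ i ∈ Finset.range (2 * WeilCoh.dim X.obj.left + 1),
        (-1 : K) ^ i * LinearMap.trace K ↥(T.gr X (i : ℤ))
          ((LinearEquiv.ofEq (T.gr X (((i : ℤ) + (2 * (WeilCoh.dim X.obj.left : ℤ) + r) + 2 * (WeilCoh.dim Y.obj.left : ℤ) - 2 * (WeilCoh.dim P.obj.left : ℤ)) + (2 * (WeilCoh.dim Y.obj.left : ℤ) - r) + 2 * (WeilCoh.dim X.obj.left : ℤ) - 2 * (WeilCoh.dim P'.obj.left : ℤ))) (T.gr X (i : ℤ)) (congrArg (T.gr X) (hdim (i : ℤ)))).toLinearMap ∘ₗ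
            ((T.push q' (((i : ℤ) + (2 * (WeilCoh.dim X.obj.left : ℤ) + r) + 2 * (WeilCoh.dim Y.obj.left : ℤ) - 2 * (WeilCoh.dim P.obj.left : ℤ)) + (2 * (WeilCoh.dim Y.obj.left : ℤ) - r))) ∘ₗ ((LinearMap.mulRight K (ψ : T.H P')).restrict (p := T.gr P' ((i : ℤ) + (2 * (WeilCoh.dim X.obj.left : ℤ) + r) + 2 * (WeilCoh.dim Y.obj.left : ℤ) - 2 * (WeilCoh.dim P.obj.left : ℤ))) (q := T.gr P' (((i : ℤ) + (2 * (WeilCoh.dim X.obj.left : ℤ) + r) + 2 * (WeilCoh.dim Y.obj.left : ℤ) - 2 * (WeilCoh.dim P.obj.left : ℤ)) + (2 * (WeilCoh.dim Y.obj.left : ℤ) - r))) (fun y hy => SetLike.mul_mem_graded hy ψ.2)) ∘ₗ (T.pullDeg p' ((i : ℤ) + (2 * (WeilCoh.dim X.obj.left : ℤ) + r) + 2 * (WeilCoh.dim Y.obj.left : ℤ) - 2 * (WeilCoh.dim P.obj.left : ℤ)))) ∘ₗ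
            ((T.push q ((i : ℤ) + (2 * (WeilCoh.dim X.obj.left : ℤ) + r))) ∘ₗ ((LinearMap.mulRight K (φ : T.H P)).restrict (p := T.gr P (i : ℤ)) (q := T.gr P ((i : ℤ) + (2 * (WeilCoh.dim X.obj.left : ℤ) + r))) (fun x hx => SetLike.mul_mem_graded hx φ.2)) ∘ₗ (T.pullDeg p (i : ℤ)))) := by
  classical
  have hdP := dim_prod k K T p q hP
  have hdP' := dim_prod k K T p' q' hP'
  have hexp := expansion k K T p q r hP hdP φ
  have hL : T.tr P ((φ : T.H P) * T.pull σ (ψ : T.H P')) =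
      T.tr P (phi0 k K T p q r (act k K T p q r φ) * T.pull σ (ψ : T.H P')) := by
    rw [← hexp]
  rw [hL]
  show T.tr P ((∑ s ∈ Finset.range (2 * WeilCoh.dim X.obj.left + 1),
    ∑ a : Fin (Module.finrank K ↥(T.gr X (s : ℤ))),
      ((-1 : K) ^ s) • (T.pull p (fB k K T X s a : T.H X) *
        T.pull q ((act k K T p q r φ (s : ℤ) (eB k K T X s a) : ↥(T.gr Y _)) : T.H Y))) *
      T.pull σ (ψ : T.H P')) =
    ∑ i ∈ Finset.range (2 * WeilCoh.dim X.obj.left + 1),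
      (-1 : K) ^ i * LinearMap.trace K ↥(T.gr X (i : ℤ))
        ((LinearEquiv.ofEq _ (T.gr X (i : ℤ)) (congrArg (T.gr X) (hdim (i : ℤ)))).toLinearMap ∘ₗ
          (corr k K T p' q' (2 * (WeilCoh.dim Y.obj.left : ℤ) - r) ψ
            ((i : ℤ) + (2 * (WeilCoh.dim X.obj.left : ℤ) + r) +
              2 * (WeilCoh.dim Y.obj.left : ℤ) - 2 * (WeilCoh.dim P.obj.left : ℤ))) ∘ₗ
          (act k K T p q r φ (i : ℤ)))
  rw [Finset.sum_mul, map_sum]
  refine Finset.sum_congr rfl (fun s hs => ?_)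
  have hs' : s ≤ 2 * WeilCoh.dim X.obj.left := by
    have := Finset.mem_range.mp hs
    omega
  rw [Finset.sum_mul, map_sum, LinearMap.trace_eq_matrix_trace K (eB k K T X s), Matrix.trace,
    Finset.mul_sum]
  refine Finset.sum_congr rfl (fun a _ => ?_)
  rw [Matrix.diag_apply, LinearMap.toMatrix_apply, ← fB_spec k K T X s a]
  -- notation
  set w := act k K T p q r φ (s : ℤ) (eB k K T X s a) with hw
  set Bw := corr k K T p' q' (2 * (WeilCoh.dim Y.obj.left : ℤ) - r) ψ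
    ((s : ℤ) + (2 * (WeilCoh.dim X.obj.left : ℤ) + r) +
      2 * (WeilCoh.dim Y.obj.left : ℤ) - 2 * (WeilCoh.dim P.obj.left : ℤ)) w with hBw
  show T.tr P (((-1 : K) ^ s) • (T.pull p (fB k K T X s a : T.H X) * T.pull q (w : T.H Y)) *
      T.pull σ (ψ : T.H P')) = (-1 : K) ^ s * T.tr X ((fB k K T X s a : T.H X) * (Bw : T.H X))
  have e1 : T.pull p (fB k K T X s a : T.H X) = T.pull σ (T.pull q' (fB k K T X s a : T.H X)) := by
    rw [pull_pull k K T σ q', hσ₂]
  have e2 : T.pull q (w : T.H Y) = T.pull σ (T.pull p' (w : T.H Y)) := by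
    rw [pull_pull k K T σ p', hσ₁]
  rw [smul_mul_assoc, map_smul, smul_eq_mul, e1, e2, ← map_mul (T.pull σ), ← map_mul (T.pull σ),
    tr_pull_swap k K T p q hP p' q' hP' σ hσ₁ hσ₂]
  -- commute q'^* f past p'^* w * ψ
  have hwψ : T.pull p' (w : T.H Y) * (ψ : T.H P') ∈ T.gr P'
      (((s : ℤ) + (2 * (WeilCoh.dim X.obj.left : ℤ) + r) +
        2 * (WeilCoh.dim Y.obj.left : ℤ) - 2 * (WeilCoh.dim P.obj.left : ℤ)) +
        (2 * (WeilCoh.dim Y.obj.left : ℤ) - r)) :=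
    SetLike.mul_mem_graded (T.pull_mem p' _ _ w.2) ψ.2
  have hidx : ((s : ℤ) + (2 * (WeilCoh.dim X.obj.left : ℤ) + r) +
        2 * (WeilCoh.dim Y.obj.left : ℤ) - 2 * (WeilCoh.dim P.obj.left : ℤ)) +
        (2 * (WeilCoh.dim Y.obj.left : ℤ) - r) = ((s + 2 * WeilCoh.dim Y.obj.left : ℕ) : ℤ) := by
    rw [hdP]; push_cast; ring
  have hcomm1 := T.gradedComm P' _ _ _ _ (T.pull_mem q' _ _ (fB k K T X s a).2) hwψ
  have hsign1 : (-1 : K) ^ ((2 * (WeilCoh.dim X.obj.left : ℤ) - (s : ℤ)).natAbs *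
      (((s : ℤ) + (2 * (WeilCoh.dim X.obj.left : ℤ) + r) +
        2 * (WeilCoh.dim Y.obj.left : ℤ) - 2 * (WeilCoh.dim P.obj.left : ℤ)) +
        (2 * (WeilCoh.dim Y.obj.left : ℤ) - r)).natAbs) = (-1) ^ s := by
    rw [hidx, Int.natAbs_natCast]
    have h2 : (2 * (WeilCoh.dim X.obj.left : ℤ) - (s : ℤ)).natAbs =
        2 * WeilCoh.dim X.obj.left - s := by omega
    rw [h2]
    exact sign_aux2 K _ _ s hs'
  rw [mul_assoc, hcomm1, hsign1, map_smul, smul_eq_mul]
  -- characterisation of Bw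
  have hB := corr_spec k K T p' q' (2 * (WeilCoh.dim Y.obj.left : ℤ) - r) ψ _ w
    (fB k K T X s a : T.H X) _ (by rw [hdP, hdP']; push_cast; ring) (fB k K T X s a).2
  rw [← hB]
  -- commute in X
  have hBwmem : (Bw : T.H X) ∈ T.gr X ((s : ℕ) : ℤ) := mem_of_eq T (hdim (s : ℤ)) Bw.2
  rw [T.gradedComm X _ _ _ _ hBwmem (fB k K T X s a).2, map_smul, smul_eq_mul,
    sign_aux K (WeilCoh.dim X.obj.left) s hs']
  have hsq : (-1 : K) ^ s * (-1 : K) ^ s = 1 := by
    rw [← pow_add]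
    exact Even.neg_one_pow ⟨s, rfl⟩
  linear_combination ((-1 : K) ^ s * T.tr X ((fB k K T X s a : T.H X) * (Bw : T.H X))) * hsq

end Groth.Agent.S15748
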