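import Groth.Statements.S15749
import Mathlib

set_option autoImplicit false
universe u
open CAlg

namespace Groth.Agent.S15749

theorem coeff_mul_mem {R : Type u} [CommRing R] (I : Ideal R) (x y : LaurentSeries R)
    (hx : ∀ n, x.coeff n ∈ I) (n : ℤ) : (x * y).coeff n ∈ I := by
  rw [HahnSeries.coeff_mul]
  exact Ideal.sum_mem _ fun ij _ => Ideal.mul_mem_right _ _ (hx _)

theorem single_nilpotent {R : Type u} [CommRing R] (n : ℤ) (a : R) (ha : IsNilpotent a) :
    IsNilpotent (HahnSeries.single n a : LaurentSeries R) := by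
  obtain ⟨k, hk⟩ := ha
  refine ⟨k, ?_⟩
  rw [HahnSeries.single_pow, hk]
  simp

theorem isUnit_one_sub {R : Type u} [CommRing R] (k : ℕ) :
    ∀ (g : LaurentSeries R), (∀ n, IsNilpotent (g.coeff n)) →
      (∀ n : ℤ, n < -(k : ℤ) → g.coeff n = 0) → IsUnit (1 - g) := by
  induction k with
  | zero =>
    intro g hg h0
    let p : PowerSeries R := PowerSeries.mk fun n => g.coeff n
    have hgp : g = HahnSeries.ofPowerSeries ℤ R p := by
      ext n
      rw [PowerSeries.coeff_coe]
      split_ifs with h
      · exact h0 n (by simpa using h)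
      · rw [PowerSeries.coeff_mk]
        congr 1
        omega
    have hu : IsUnit (1 - p) := by
      rw [PowerSeries.isUnit_iff_constantCoeff]
      have : PowerSeries.constantCoeff (1 - p) = 1 - g.coeff 0 := by
        rw [map_sub, map_one, ← PowerSeries.coeff_zero_eq_constantCoeff_apply, PowerSeries.coeff_mk]
        simp
      rw [this]
      exact (hg 0).isUnit_one_sub
    rw [hgp]
    have := hu.map (HahnSeries.ofPowerSeries ℤ R)
    simpa using this
  | succ k ih =>
    intro g hg h0
    have hg' : ∀ n, IsNilpotent ((g - HahnSeries.single (-(k + 1 : ℤ)) (g.coeff (-(k + 1 : ℤ)))).coeff n) := by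
      intro n
      rw [HahnSeries.coeff_sub, HahnSeries.coeff_single]
      split_ifs with h
      · rw [h]; simp
      · simpa using hg n
    have h0' : ∀ n : ℤ, n < -(k : ℤ) →
        (g - HahnSeries.single (-(k + 1 : ℤ)) (g.coeff (-(k + 1 : ℤ)))).coeff n = 0 := by
      intro n hn
      rw [HahnSeries.coeff_sub, HahnSeries.coeff_single]
      split_ifs with h
      · rw [h]; simp
      · rw [sub_zero]
        apply h0
        push_cast
        omega
    have hu := ih _ hg' h0'
    have heq : 1 - g = (1 - (g - HahnSeries.single (-(k + 1 : ℤ)) (g.coeff (-(k + 1 : ℤ)))))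
        + (-(HahnSeries.single (-(k + 1 : ℤ)) (g.coeff (-(k + 1 : ℤ))))) := by ring
    rw [heq]
    exact (single_nilpotent _ _ (hg _)).neg.isUnit_add_left_of_commute hu (Commute.all _ _)

/-- For an arbitrary commutative ring R, every idempotent of the ring of formal Laurent series R((t)) is
the constant series attached to a unique idempotent of R. Equivalently, the structure map R → R((t))
induces a bijection on idempotents, so that the spectrum of R((t)) is connected if and only if the
spectrum of R is. No reducedness is assumed. -/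
theorem result (R : Type u) [CommRing R]
    (e : LaurentSeries R) (he : IsIdempotentElem e) :
    ∃! r : R, IsIdempotentElem r ∧ HahnSeries.C r = e := by
  classical
  have hprime : ∀ (p : Ideal R) [p.IsPrime],
      (∀ n : ℤ, n ≠ 0 → e.coeff n ∈ p) ∧ (e.coeff 0 * e.coeff 0 - e.coeff 0 ∈ p) := by
    intro p _
    have hid : IsIdempotentElem (e.map (Ideal.Quotient.mk p : R →ₙ+* R ⧸ p) : LaurentSeries (R ⧸ p)) := by
      unfold IsIdempotentElem
      rw [← HahnSeries.map_mul (Ideal.Quotient.mk p : R →ₙ+* R ⧸ p), he.eq]
    rcases (IsIdempotentElem.iff_eq_zero_or_one.1 hid) with h | h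
    · have hc : ∀ n, e.coeff n ∈ p := by
        intro n
        have := congrArg (fun x => x.coeff n) h
        simp only [HahnSeries.map_coeff, HahnSeries.coeff_zero] at this
        exact Ideal.Quotient.eq_zero_iff_mem.1 this
      exact ⟨fun n _ => hc n, Ideal.sub_mem _ (Ideal.mul_mem_left _ _ (hc 0)) (hc 0)⟩
    · constructor
      · intro n hn
        have := congrArg (fun x => x.coeff n) h
        simp only [HahnSeries.map_coeff, HahnSeries.coeff_one, if_neg hn] at this
        exact Ideal.Quotient.eq_zero_iff_mem.1 this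
      · have := congrArg (fun x => x.coeff 0) h
        simp only [HahnSeries.map_coeff, HahnSeries.coeff_one, if_true] at this
        apply Ideal.Quotient.eq_zero_iff_mem.1
        have h2 : (Ideal.Quotient.mk p) (e.coeff 0) = 1 := this
        rw [map_sub, map_mul, h2]; ring
  have hN : ∀ n : ℤ, n ≠ 0 → e.coeff n ∈ nilradical R := by
    intro n hn
    rw [nilradical_eq_sInf, Ideal.mem_sInf]
    intro p hp
    have : p.IsPrime := hp
    exact (hprime p).1 n hn
  have hN0 : e.coeff 0 * e.coeff 0 - e.coeff 0 ∈ nilradical R := by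
    rw [nilradical_eq_sInf, Ideal.mem_sInf]
    intro p hp
    have : p.IsPrime := hp
    exact (hprime p).2
  obtain ⟨r, hr, hre⟩ := exists_isIdempotentElem_eq_of_ker_isNilpotent
    (Ideal.Quotient.mk (nilradical R))
    (fun x hx => by rw [Ideal.mk_ker] at hx; exact hx)
    (Ideal.Quotient.mk (nilradical R) (e.coeff 0)) ⟨_, rfl⟩
    (by
      unfold IsIdempotentElem
      rw [← map_mul, Ideal.Quotient.eq]
      exact hN0)
  have hre' : r - e.coeff 0 ∈ nilradical R := Ideal.Quotient.eq.1 hre
  have hd : ∀ n, (e - HahnSeries.C r).coeff n ∈ nilradical R := by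
    intro n
    rw [HahnSeries.coeff_sub, HahnSeries.C_apply, HahnSeries.coeff_single]
    split_ifs with h
    · rw [h]
      have := (nilradical R).neg_mem hre'
      rwa [neg_sub] at this
    · rw [sub_zero]; exact hN n h
  have hC : (HahnSeries.C r : LaurentSeries R) * HahnSeries.C r = HahnSeries.C r := by
    rw [← map_mul, hr.eq]
  have hd3 : (e - HahnSeries.C r) * (1 - (e - HahnSeries.C r) * (e - HahnSeries.C r)) = 0 := by
    have he' : e * e = e := he.eq
    linear_combination (-(e + 1 - 3 * HahnSeries.C r)) * he' - (3 * e - HahnSeries.C r - 1) * hC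
  have hdd : ∀ n, IsNilpotent (((e - HahnSeries.C r) * (e - HahnSeries.C r)).coeff n) := fun n =>
    coeff_mul_mem (nilradical R) _ _ hd n
  have hu : IsUnit (1 - (e - HahnSeries.C r) * (e - HahnSeries.C r)) := by
    apply isUnit_one_sub (-((e - HahnSeries.C r) * (e - HahnSeries.C r)).order).toNat _ hdd
    intro n hn
    apply HahnSeries.coeff_eq_zero_of_lt_order
    have := Int.self_le_toNat (-((e - HahnSeries.C r) * (e - HahnSeries.C r)).order)
    omega
  have hd0 : e - HahnSeries.C r = 0 := by
    obtain ⟨v, hv⟩ := hu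
    rw [← hv] at hd3
    exact (Units.mul_left_eq_zero v).1 hd3
  refine ⟨r, ⟨hr, (sub_eq_zero.1 hd0).symm⟩, ?_⟩
  rintro r' ⟨_, hr'⟩
  apply HahnSeries.C_injective (Γ := ℤ)
  rw [hr', ← sub_eq_zero.1 hd0]

end Groth.Agent.S15749
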