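import Groth.Statements.S15750
import Mathlib

set_option autoImplicit false
universe u
open CAlg

namespace Groth.Agent.S15750

theorem prime_data {R : Type u} [CommRing R] (f g : LaurentSeries R) (hfg : f * g = 1)
    (p : Ideal R) [p.IsPrime] :
    ∃ n : ℤ, (∀ i < n, f.coeff i ∈ p) ∧ (∀ j < -n, g.coeff j ∈ p) ∧
      (f.coeff n * g.coeff (-n) - 1 ∈ p) := by
  have h1 : (f.map (Ideal.Quotient.mk p : R →ₙ+* R ⧸ p) : LaurentSeries (R ⧸ p)) *
      g.map (Ideal.Quotient.mk p : R →ₙ+* R ⧸ p) = 1 := by
    rw [← HahnSeries.map_mul, hfg]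
    ext n
    simp only [HahnSeries.map_coeff, HahnSeries.coeff_one]
    split_ifs
    · exact map_one (Ideal.Quotient.mk p)
    · exact map_zero (Ideal.Quotient.mk p)
  have hf0 := left_ne_zero_of_mul_eq_one h1
  have hg0 := right_ne_zero_of_mul_eq_one h1
  have hord : (f.map (Ideal.Quotient.mk p : R →ₙ+* R ⧸ p) : LaurentSeries (R ⧸ p)).order +
      (g.map (Ideal.Quotient.mk p : R →ₙ+* R ⧸ p) : LaurentSeries (R ⧸ p)).order = 0 := by
    rw [← HahnSeries.order_mul hf0 hg0, h1, HahnSeries.order_one]
  refine ⟨(f.map (Ideal.Quotient.mk p : R →ₙ+* R ⧸ p) : LaurentSeries (R ⧸ p)).order, ?_, ?_, ?_⟩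
  · intro i hi
    have := HahnSeries.coeff_eq_zero_of_lt_order hi
    rw [HahnSeries.map_coeff] at this
    exact Ideal.Quotient.eq_zero_iff_mem.1 this
  · intro j hj
    have hj' : j < (g.map (Ideal.Quotient.mk p : R →ₙ+* R ⧸ p) : LaurentSeries (R ⧸ p)).order := by
      omega
    have := HahnSeries.coeff_eq_zero_of_lt_order hj'
    rw [HahnSeries.map_coeff] at this
    exact Ideal.Quotient.eq_zero_iff_mem.1 this
  · have hl := HahnSeries.leadingCoeff_mul
      (f.map (Ideal.Quotient.mk p : R →ₙ+* R ⧸ p) : LaurentSeries (R ⧸ p))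
      (g.map (Ideal.Quotient.mk p : R →ₙ+* R ⧸ p) : LaurentSeries (R ⧸ p))
    rw [h1, HahnSeries.leadingCoeff_one, HahnSeries.leadingCoeff_eq, HahnSeries.leadingCoeff_eq,
      HahnSeries.map_coeff, HahnSeries.map_coeff] at hl
    have hgo : (g.map (Ideal.Quotient.mk p : R →ₙ+* R ⧸ p) : LaurentSeries (R ⧸ p)).order =
        -(f.map (Ideal.Quotient.mk p : R →ₙ+* R ⧸ p) : LaurentSeries (R ⧸ p)).order := by omega
    rw [hgo] at hl
    apply Ideal.Quotient.eq_zero_iff_mem.1
    rw [map_sub, map_mul, map_one]
    rw [sub_eq_zero]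
    exact hl.symm

/-- Let R be a nonzero reduced commutative ring with no idempotents other than 0 and 1. Then every unit
of the Laurent series ring R((t)) is t^n · u for a unique integer n and a unique unit u of the power
series ring R[[t]]. (The published statement is for an arbitrary torus T over a reduced ring R, with
n replaced by a locally constant integer-valued function on Spec R, i.e. a point of the cocharacter
lattice; this row is the case where T is the multiplicative group and Spec R is connected, to which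
the published proof reduces.) -/
theorem result (R : Type u) [CommRing R]
    [IsReduced R] [Nontrivial R] (hconn : ∀ e : R, IsIdempotentElem e → e = 0 ∨ e = 1)
    (f : (LaurentSeries R)ˣ) :
    ∃! p : ℤ × (PowerSeries R)ˣ,
      (f : LaurentSeries R) = HahnSeries.single p.1 (1 : R) * HahnSeries.ofPowerSeries ℤ R (p.2 : PowerSeries R) := by
  classical
  obtain ⟨g, hfg⟩ : ∃ g : LaurentSeries R, (f : LaurentSeries R) * g = 1 := ⟨↑f⁻¹, by simp⟩
  have hdata := fun (p : Ideal R) (hp : p.IsPrime) => @prime_data R _ f g hfg p hp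
  have hzero : ∀ x : R, (∀ p : Ideal R, p.IsPrime → x ∈ p) → x = 0 := by
    intro x hx
    have h1 : x ∈ nilradical R := by
      rw [nilradical_eq_sInf, Ideal.mem_sInf]
      exact fun {p} hp => hx p hp
    rw [nilradical_eq_zero R] at h1
    exact h1
  have hC1 : ∀ i j : ℤ, i + j < 0 → (f : LaurentSeries R).coeff i * g.coeff j = 0 := by
    intro i j hij
    apply hzero
    intro p hp
    obtain ⟨n, h1, h2, _⟩ := hdata p hp
    by_cases hi : i < n
    · exact Ideal.mul_mem_right _ _ (h1 i hi)
    · exact Ideal.mul_mem_left _ _ (h2 j (by omega))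
  have hC2 : ∀ i : ℤ, IsIdempotentElem ((f : LaurentSeries R).coeff i * g.coeff (-i)) := by
    intro i
    unfold IsIdempotentElem
    rw [← sub_eq_zero]
    apply hzero
    intro p hp
    obtain ⟨n, h1, h2, h3⟩ := hdata p hp
    by_cases hi : i < n
    · have h4 : (f : LaurentSeries R).coeff i * g.coeff (-i) ∈ p := Ideal.mul_mem_right _ _ (h1 i hi)
      exact Ideal.sub_mem _ (Ideal.mul_mem_left _ _ h4) h4
    · by_cases hi' : i = n
      · subst hi'
        have h5 : (f : LaurentSeries R).coeff i * g.coeff (-i) *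
            ((f : LaurentSeries R).coeff i * g.coeff (-i)) - (f : LaurentSeries R).coeff i * g.coeff (-i)
            = ((f : LaurentSeries R).coeff i * g.coeff (-i)) *
              ((f : LaurentSeries R).coeff i * g.coeff (-i) - 1) := by ring
        rw [h5]
        exact Ideal.mul_mem_left _ _ h3
      · have h6 : g.coeff (-i) ∈ p := h2 (-i) (by omega)
        have h4 : (f : LaurentSeries R).coeff i * g.coeff (-i) ∈ p := Ideal.mul_mem_left _ _ h6
        exact Ideal.sub_mem _ (Ideal.mul_mem_left _ _ h4) h4
  obtain ⟨p₀, hp₀⟩ := Ideal.exists_maximal R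
  obtain ⟨n, h1, h2, h3⟩ := hdata p₀ hp₀.isPrime
  have hen : (f : LaurentSeries R).coeff n * g.coeff (-n) = 1 := by
    rcases hconn _ (hC2 n) with h | h
    · exfalso
      rw [h] at h3
      have h7 : (1 : R) ∈ p₀ := by simpa using p₀.neg_mem h3
      exact hp₀.ne_top ((Ideal.eq_top_iff_one _).2 h7)
    · exact h
  have hlow : ∀ i < n, (f : LaurentSeries R).coeff i = 0 := by
    intro i hi
    have h8 := hC1 i (-n) (by omega)
    calc (f : LaurentSeries R).coeff i
        = (f : LaurentSeries R).coeff i * ((f : LaurentSeries R).coeff n * g.coeff (-n)) := by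
          rw [hen, mul_one]
      _ = (f : LaurentSeries R).coeff n * ((f : LaurentSeries R).coeff i * g.coeff (-n)) := by ring
      _ = 0 := by rw [h8, mul_zero]
  have hu₀ : IsUnit (PowerSeries.mk fun k : ℕ => (f : LaurentSeries R).coeff (n + k)) := by
    rw [PowerSeries.isUnit_iff_constantCoeff]
    have h9 : PowerSeries.constantCoeff (PowerSeries.mk fun k : ℕ => (f : LaurentSeries R).coeff (n + k))
        = (f : LaurentSeries R).coeff n := by
      rw [← PowerSeries.coeff_zero_eq_constantCoeff_apply, PowerSeries.coeff_mk]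
      simp
    rw [h9]
    exact IsUnit.of_mul_eq_one _ hen
  have hf_eq : (f : LaurentSeries R) = HahnSeries.single n (1 : R) *
      HahnSeries.ofPowerSeries ℤ R (PowerSeries.mk fun k : ℕ => (f : LaurentSeries R).coeff (n + k)) := by
    ext m
    rw [HahnSeries.coeff_single_mul, one_mul, PowerSeries.coeff_coe]
    split_ifs with h
    · exact hlow _ (by omega)
    · rw [PowerSeries.coeff_mk]
      congr 1
      omega
  refine ⟨(n, hu₀.unit), hf_eq, ?_⟩
  rintro ⟨n', u'⟩ h'
  simp only at h'
  have hu'0 : IsUnit (PowerSeries.constantCoeff (u' : PowerSeries R)) :=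
    (PowerSeries.isUnit_iff_constantCoeff).1 u'.isUnit
  have hcoef : ∀ m : ℤ, (f : LaurentSeries R).coeff m =
      if m - n' < 0 then 0 else PowerSeries.coeff (m - n').natAbs (u' : PowerSeries R) := by
    intro m
    rw [h', HahnSeries.coeff_single_mul, one_mul, PowerSeries.coeff_coe]
  have hnn : n' = n := by
    rcases lt_trichotomy n' n with hlt | heq | hgt
    · exfalso
      have h10 := hcoef n'
      rw [hlow n' hlt] at h10
      simp at h10
      rw [← h10] at hu'0
      exact not_isUnit_zero hu'0
    · exact heq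
    · exfalso
      have h10 := hcoef n
      rw [if_pos (by omega)] at h10
      rw [h10, zero_mul] at hen
      exact zero_ne_one hen
  subst hnn
  have hsingle : (HahnSeries.single (-n') (1 : R) : LaurentSeries R) * HahnSeries.single n' (1 : R) = 1 := by
    rw [HahnSeries.single_mul_single]
    simp
  have hcancel : HahnSeries.ofPowerSeries ℤ R (u' : PowerSeries R) =
      HahnSeries.ofPowerSeries ℤ R (PowerSeries.mk fun k : ℕ => (f : LaurentSeries R).coeff (n' + k)) := by
    have h11 := h'.symm.trans hf_eq
    have h12 := congrArg (fun x => (HahnSeries.single (-n') (1 : R) : LaurentSeries R) * x) h11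
    simp only [← mul_assoc, hsingle, one_mul] at h12
    exact h12
  have hu_eq := HahnSeries.ofPowerSeries_injective hcancel
  ext1
  · rfl
  · exact Units.ext hu_eq

end Groth.Agent.S15750
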