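import Groth.Statements.S1576
import Groth.Agent.Lib.helper9.CohB12

set_option autoImplicit false
universe u
open CategoryTheory CategoryTheory.Limits AlgebraicGeometry
open Divisors

namespace Groth.Agent.S1576

/-- Let X be locally Noetherian and F coherent. Then the associated points of F lying in any
quasi-compact open subset form a finite set. -/
theorem result (X : Scheme.{u}) [IsLocallyNoetherian X]
    (F : X.Modules) (hF : Coh.IsCoh F) (U : X.Opens) (hU : IsCompact (U : Set X)) :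
    {x : X | x ∈ U ∧ Curv2.IsAssPoint F x}.Finite := by
  obtain ⟨hqc, hft⟩ := hF
  haveI : F.IsQuasicoherent := hqc
  haveI : SheafOfModules.IsFiniteType.{u} F := hft
  have hB := Groth.Agent.Lib.helper9.CohB.isBasis_goodAffine F
  have hcov : ∀ x : U, ∃ W : X.Opens, W ∈ Groth.Agent.Lib.helper9.CohB.goodAffine F ∧
      x.1 ∈ W ∧ W ≤ U := fun x => (TopologicalSpace.Opens.isBasis_iff_nbhd.mp hB) x.2
  choose W hWgood hxW hWU using hcov
  obtain ⟨t, ht⟩ := hU.elim_finite_subcover (fun x : U => (W x : Set X)) (fun x => (W x).2)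
    (fun x hx => Set.mem_iUnion.mpr ⟨⟨x, hx⟩, hxW ⟨x, hx⟩⟩)
  have hfin : ∀ i : U, {x : X | x ∈ W i ∧ Curv2.IsAssPoint F x}.Finite := by
    intro i
    obtain ⟨hWaff, hfinN⟩ := hWgood i
    haveI : IsNoetherianRing Γ(X, W i) := IsLocallyNoetherian.component_noetherian ⟨W i, hWaff⟩
    have hA := associatedPrimes.finite Γ(X, W i)
      (Groth.Agent.Lib.helper9.CohB.Γmod (F.restrict hWaff.fromSpec))
    have hA' : {q : PrimeSpectrum Γ(X, W i) | q.asIdeal ∈ associatedPrimes Γ(X, W i)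
        (Groth.Agent.Lib.helper9.CohB.Γmod (F.restrict hWaff.fromSpec))}.Finite :=
      hA.preimage (f := PrimeSpectrum.asIdeal) (fun a _ b _ h => PrimeSpectrum.ext h)
    refine (hA'.image (fun q => hWaff.fromSpec q)).subset ?_
    rintro x ⟨hxWi, hx⟩
    obtain ⟨q, rfl⟩ := Groth.Agent.Lib.helper9.CohB.exists_fromSpec_eq hWaff hxWi
    exact ⟨q, (Groth.Agent.Lib.helper9.CohB.isAssPoint_fromSpec_iff F hWaff q).mp hx, rfl⟩
  refine (t.finite_toSet.biUnion (fun i _ => hfin i)).subset ?_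
  rintro x ⟨hxU, hx⟩
  obtain ⟨i, hi⟩ := Set.mem_iUnion.mp (ht hxU)
  obtain ⟨hit, hxi⟩ := Set.mem_iUnion.mp hi
  exact Set.mem_biUnion hit ⟨hxi, hx⟩

end Groth.Agent.S1576
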