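import Groth.Statements.S15765
import Mathlib

set_option autoImplicit false
universe u
open CategoryTheory AlgebraicGeometry
open CAlg

namespace Groth.Agent.S15765

/-- Let B be a topological ring in which the units form an open subset, B₀ → B a ring map with dense
image and X a quasi-affine scheme over B₀. Then the image of any B-point Spec B → X over B₀ is
contained in an affine open of X. (The published statement allows X ind-quasi-affine, i.e. with all
quasi-compact opens quasi-affine; since a B-point lands in a quasi-compact open, this row's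
quasi-affine case carries the content.) -/
theorem result (B : Type u) [CommRing B] [TopologicalSpace B]
    [IsTopologicalRing B] (hB : IsOpen {b : B | IsUnit b})
    (B₀ : Type u) [CommRing B₀] (φ : B₀ →+* B) (hφ : DenseRange φ)
    (X : Scheme.{u}) [X.IsQuasiAffine] (p : X ⟶ Spec (CommRingCat.of B₀))
    (f : Spec (CommRingCat.of B) ⟶ X) (hf : f ≫ p = Spec.map (CommRingCat.ofHom φ)) :
    ∃ U : X.Opens, IsAffineOpen U ∧ Set.range f.base ⊆ (U : Set X) := by
  classical
  let R := Γ(X, ⊤)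
  -- ring maps
  let ψ : R →+* B := (f.appTop ≫ (Scheme.ΓSpecIso (CommRingCat.of B)).hom).hom
  let pB : B₀ →+* R := ((Scheme.ΓSpecIso (CommRingCat.of B₀)).inv ≫ p.appTop).hom
  have hψp : ∀ c : B₀, ψ (pB c) = φ c := by
    intro c
    have h1 : p.appTop ≫ f.appTop = (Spec.map (CommRingCat.ofHom φ)).appTop := by
      rw [← hf, Scheme.Hom.comp_appTop]
    have h2 : (Scheme.ΓSpecIso (CommRingCat.of B₀)).inv ≫ p.appTop ≫ f.appTop ≫
        (Scheme.ΓSpecIso (CommRingCat.of B)).hom = CommRingCat.ofHom φ := by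
      rw [reassoc_of% h1, Scheme.ΓSpecIso_naturality, Iso.inv_hom_id_assoc]
    exact congr($(h2).hom c)
  -- preimage of basic open
  have hpre : ∀ r : R, ∀ z : Spec (CommRingCat.of B),
      X.toSpecΓ (f z) ∈ PrimeSpectrum.basicOpen r ↔ z ∈ PrimeSpectrum.basicOpen (ψ r) := by
    intro r z
    have h1 : X.toSpecΓ ⁻¹ᵁ (PrimeSpectrum.basicOpen r) = X.basicOpen r :=
      X.toSpecΓ_preimage_basicOpen r
    have h2 : f ⁻¹ᵁ (X.basicOpen r) = (Spec (CommRingCat.of B)).basicOpen (f.appTop r) :=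
      Scheme.preimage_basicOpen_top f r
    have h3 : (Spec (CommRingCat.of B)).basicOpen (f.appTop r) = PrimeSpectrum.basicOpen (ψ r) :=
      basicOpen_eq_of_affine' _
    have key : f ⁻¹ᵁ (X.toSpecΓ ⁻¹ᵁ (PrimeSpectrum.basicOpen r)) =
        PrimeSpectrum.basicOpen (ψ r) := by
      rw [h1, h2, h3]
    rw [← key]
    exact Iff.rfl
  let S : Set R := {r | (PrimeSpectrum.basicOpen r : Set (PrimeSpectrum R)) ⊆ Set.range X.toSpecΓ}
  have hspan : Ideal.span (ψ '' S) = ⊤ := by
    rw [← PrimeSpectrum.iSup_basicOpen_eq_top_iff', eq_top_iff]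
    intro z _
    obtain ⟨_, ⟨_, ⟨r, rfl⟩, rfl⟩, hxr, hrU⟩ := (PrimeSpectrum.isBasis_basic_opens
      (R := R)).exists_subset_of_mem_open (Set.mem_range_self (f z))
      X.toSpecΓ.isOpenEmbedding.isOpen_range
    simp only [TopologicalSpace.Opens.mem_iSup]
    exact ⟨ψ r, ⟨r, hrU, rfl⟩, (hpre r z).mp hxr⟩
  obtain ⟨s', hs'S, hs'⟩ := (Ideal.span_eq_top_iff_finite _).mp hspan
  have hr : ∀ i : s', ∃ r : R, r ∈ S ∧ ψ r = i.1 := fun i => hs'S i.2
  choose r hrS hri using hr
  have h1 : (1 : B) ∈ Ideal.span (Set.range (fun i : s' => (i.1 : B))) := by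
    rw [Subtype.range_coe_subtype]
    have : {x | x ∈ s'} = (s' : Set B) := rfl
    rw [this, hs']
    trivial
  obtain ⟨c, hc⟩ := Ideal.mem_span_range_iff_exists_fun.mp h1
  let F : (s' → B) → B := fun x => ∑ i, x i * (i.1 : B)
  have hF : Continuous F := by
    refine continuous_finsetSum _ fun i _ => ?_
    exact (continuous_apply i).mul continuous_const
  have hU : IsOpen (F ⁻¹' {b : B | IsUnit b}) := hB.preimage hF
  have hcU : c ∈ F ⁻¹' {b : B | IsUnit b} := by
    show IsUnit (F c)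
    rw [show F c = 1 from hc]
    exact isUnit_one
  have hd : DenseRange (Pi.map (fun _ : s' => (φ : B₀ → B))) := DenseRange.piMap fun _ => hφ
  obtain ⟨c₀, hc₀⟩ := hd.exists_mem_open hU ⟨c, hcU⟩
  let h : R := ∑ i, pB (c₀ i) * r i
  have hψh : IsUnit (ψ h) := by
    have : ψ h = F (Pi.map (fun _ : s' => (φ : B₀ → B)) c₀) := by
      simp only [h, F, map_sum, map_mul, hψp, hri, Pi.map_apply]
    rw [this]
    exact hc₀
  have hDh : (PrimeSpectrum.basicOpen h : Set (PrimeSpectrum R)) ⊆ Set.range X.toSpecΓ := by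
    intro q hq
    by_contra hcon
    apply hq
    show h ∈ q.asIdeal
    refine Ideal.sum_mem _ fun i _ => Ideal.mul_mem_left _ _ ?_
    by_contra hri'
    exact hcon (hrS i hri')
  refine ⟨X.toSpecΓ ⁻¹ᵁ (PrimeSpectrum.basicOpen h), ?_, ?_⟩
  · rw [← Scheme.Hom.isAffineOpen_iff_of_isOpenImmersion X.toSpecΓ]
    convert! IsAffineOpen.Spec_basicOpen h
    exact SetLike.coe_injective (Set.image_preimage_eq_of_subset hDh)
  · rintro _ ⟨z, rfl⟩
    show X.toSpecΓ (f z) ∈ PrimeSpectrum.basicOpen h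
    rw [hpre]
    show ψ h ∉ z.asIdeal
    intro hz
    exact z.isPrime.ne_top (Ideal.eq_top_of_isUnit_mem _ hz hψh)

end Groth.Agent.S15765
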