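import Groth.Statements.S15769
import Mathlib

set_option autoImplicit false
universe u
open CategoryTheory AlgebraicGeometry
open CAlg

namespace Groth.Agent.S15769

section Helpers
open AlgebraicGeometry CategoryTheory Limits

section Ring
variable {A A' : Type u} [CommRing A] [CommRing A'] (φ : A →+* A') (t : A)

/-- joint injectivity of `A → A' × A_t`. -/
theorem joint_inj
    (htor : ∀ a' : A', (∃ m : ℕ, φ t ^ m * a' = 0) → ∃! a : A, (∃ m : ℕ, t ^ m * a = 0) ∧ φ a = a')
    (a : A) (h1 : φ a = 0) (h2 : algebraMap A (Localization.Away t) a = 0) : a = 0 := by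
  obtain ⟨⟨_, m, rfl⟩, hm⟩ := (IsLocalization.map_eq_zero_iff (Submonoid.powers t)
    (Localization.Away t) a).mp h2
  obtain ⟨a₀, -, huniq⟩ := htor 0 ⟨0, by simp⟩
  have e1 : a = a₀ := huniq a ⟨⟨m, hm⟩, h1⟩
  have e2 : (0 : A) = a₀ := huniq 0 ⟨⟨0, by simp⟩, map_zero φ⟩
  rw [e1, ← e2]

theorem loc_eq_zero_of_tor (a : A) (h : ∃ m : ℕ, t ^ m * a = 0) :
    algebraMap A (Localization.Away t) a = 0 := by
  obtain ⟨m, hm⟩ := h
  exact (IsLocalization.map_eq_zero_iff (Submonoid.powers t) (Localization.Away t) a).mpr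
    ⟨⟨t ^ m, m, rfl⟩, hm⟩

theorem glue
    (hq : ∀ m : ℕ, Function.Bijective
      (Ideal.quotientMap (Ideal.map φ (Ideal.span {t} ^ m)) φ Ideal.le_comap_map))
    (htor : ∀ a' : A', (∃ m : ℕ, φ t ^ m * a' = 0) → ∃! a : A, (∃ m : ℕ, t ^ m * a = 0) ∧ φ a = a')
    (a' : A') (b : Localization.Away t)
    (hab : algebraMap A' (Localization.Away (φ t)) a' = Localization.awayMap φ t b) :
    ∃ a : A, φ a = a' ∧ algebraMap A (Localization.Away t) a = b := by
  obtain ⟨n, c, hc⟩ := IsLocalization.Away.surj t b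
  -- torsion element τ'
  have hmap : ∀ x : A, Localization.awayMap φ t (algebraMap A (Localization.Away t) x) =
      algebraMap A' (Localization.Away (φ t)) (φ x) := by
    intro x
    simp [Localization.awayMap, IsLocalization.Away.map]
  have h1 : algebraMap A' (Localization.Away (φ t)) (a' * φ t ^ n - φ c) = 0 := by
    rw [map_sub, map_mul, map_pow, hab, ← hmap c, ← hc, map_mul, map_pow, hmap t, sub_self]
  obtain ⟨⟨_, m, rfl⟩, hm⟩ := (IsLocalization.map_eq_zero_iff (Submonoid.powers (φ t))
    (Localization.Away (φ t)) _).mp h1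
  obtain ⟨τ, ⟨hτ, hφτ⟩, -⟩ := htor (a' * φ t ^ n - φ c) ⟨m, hm⟩
  set c₁ := c + τ with hc₁
  have hφc₁ : φ c₁ = a' * φ t ^ n := by rw [hc₁, map_add, hφτ]; ring
  have hlocc₁ : algebraMap A (Localization.Away t) c₁ = algebraMap A (Localization.Away t) c := by
    rw [hc₁, map_add, loc_eq_zero_of_tor t τ hτ, add_zero]
  -- c₁ ∈ (t)^n
  have hmem : c₁ ∈ Ideal.span {t} ^ n := by
    rw [← Ideal.Quotient.eq_zero_iff_mem]
    apply (hq n).1
    rw [map_zero, Ideal.quotientMap_mk, Ideal.Quotient.eq_zero_iff_mem, hφc₁]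
    apply Ideal.mul_mem_left
    rw [← map_pow]
    apply Ideal.mem_map_of_mem
    exact Ideal.pow_mem_pow (Ideal.mem_span_singleton_self t) n
  rw [Ideal.span_singleton_pow, Ideal.mem_span_singleton'] at hmem
  obtain ⟨a₀, ha₀⟩ := hmem
  have h2 : φ t ^ n * (a' - φ a₀) = 0 := by
    have : φ c₁ = φ a₀ * φ t ^ n := by rw [← ha₀, map_mul, map_pow]
    rw [mul_sub, mul_comm _ a', ← hφc₁, this]; ring
  obtain ⟨τ₂, ⟨hτ₂, hφτ₂⟩, -⟩ := htor (a' - φ a₀) ⟨n, h2⟩
  refine ⟨a₀ + τ₂, by rw [map_add, hφτ₂]; ring, ?_⟩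
  rw [map_add, loc_eq_zero_of_tor t τ₂ hτ₂, add_zero]
  have hunit : IsUnit (algebraMap A (Localization.Away t) t ^ n) :=
    (IsLocalization.Away.algebraMap_isUnit t).pow n
  apply hunit.mul_left_injective
  show algebraMap A (Localization.Away t) a₀ * _ = b * _
  rw [hc, ← hlocc₁, ← ha₀, map_mul, map_pow]

end Ring

/-- ring map associated with a `C`-point of `X`. -/
noncomputable def ρ {X : Scheme.{u}} {C : CommRingCat.{u}} (g : Spec C ⟶ X) : Γ(X, ⊤) ⟶ C :=
  g.appTop ≫ (Scheme.ΓSpecIso C).hom

lemma comp_toSpecΓ {X : Scheme.{u}} {C : CommRingCat.{u}} (g : Spec C ⟶ X) :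
    g ≫ X.toSpecΓ = Spec.map (ρ g) := by
  rw [Scheme.toSpecΓ_naturality, ρ, Spec.map_comp, SpecMap_ΓSpecIso_hom]

lemma ρ_comp {X : Scheme.{u}} {C D : CommRingCat.{u}} (g : Spec C ⟶ X) (h : C ⟶ D) :
    ρ (Spec.map h ≫ g) = ρ g ≫ h := by
  rw [ρ, ρ, Scheme.Hom.comp_appTop, Category.assoc, Category.assoc, Scheme.ΓSpecIso_naturality]

theorem main (A A' : Type u) [CommRing A] [CommRing A']
    (φ : A →+* A') (t : A)
    (hq : ∀ m : ℕ, Function.Bijective (Ideal.quotientMap (Ideal.map φ (Ideal.span {t} ^ m)) φ Ideal.le_comap_map))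
    (htor : ∀ a' : A', (∃ m : ℕ, φ t ^ m * a' = 0) → ∃! a : A, (∃ m : ℕ, t ^ m * a = 0) ∧ φ a = a')
    (X : Scheme.{u}) [X.IsQuasiAffine] (p : X ⟶ Spec (CommRingCat.of A)) :
    (∀ s₁ s₂ : Spec (CommRingCat.of A) ⟶ X, s₁ ≫ p = 𝟙 _ → s₂ ≫ p = 𝟙 _ →
        Spec.map (CommRingCat.ofHom φ) ≫ s₁ = Spec.map (CommRingCat.ofHom φ) ≫ s₂ →
        Spec.map (CommRingCat.ofHom (algebraMap A (Localization.Away t))) ≫ s₁ =
          Spec.map (CommRingCat.ofHom (algebraMap A (Localization.Away t))) ≫ s₂ →
        s₁ = s₂) ∧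
    (∀ (x' : Spec (CommRingCat.of A') ⟶ X) (xt : Spec (CommRingCat.of (Localization.Away t)) ⟶ X),
        x' ≫ p = Spec.map (CommRingCat.ofHom φ) →
        xt ≫ p = Spec.map (CommRingCat.ofHom (algebraMap A (Localization.Away t))) →
        Spec.map (CommRingCat.ofHom (algebraMap A' (Localization.Away (φ t)))) ≫ x' =
          Spec.map (CommRingCat.ofHom (Localization.awayMap φ t)) ≫ xt →
        ∃ s : Spec (CommRingCat.of A) ⟶ X, s ≫ p = 𝟙 _ ∧
          Spec.map (CommRingCat.ofHom φ) ≫ s = x' ∧
          Spec.map (CommRingCat.ofHom (algebraMap A (Localization.Away t))) ≫ s = xt) := by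
  -- joint injectivity for ring maps into A
  have hjoint : ∀ {R : Type u} [CommRing R] (α β : R →+* A), φ.comp α = φ.comp β →
      (algebraMap A (Localization.Away t)).comp α = (algebraMap A (Localization.Away t)).comp β →
      α = β := by
    intro R _ α β h1 h2
    ext r
    rw [← sub_eq_zero]
    apply joint_inj φ t htor
    · rw [map_sub, sub_eq_zero]; exact congr($h1 r)
    · rw [map_sub, sub_eq_zero]; exact congr($h2 r)
  constructor
  · intro s₁ s₂ _ _ h1 h2
    have hρ : ρ s₁ = ρ s₂ := by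
      have e1 := ρ_comp s₁ (CommRingCat.ofHom φ)
      have e2 := ρ_comp s₂ (CommRingCat.ofHom φ)
      have e3 := ρ_comp s₁ (CommRingCat.ofHom (algebraMap A (Localization.Away t)))
      have e4 := ρ_comp s₂ (CommRingCat.ofHom (algebraMap A (Localization.Away t)))
      rw [h1] at e1
      rw [h2] at e3
      ext1
      apply hjoint
      · exact congr($(e1.symm.trans e2).hom)
      · exact congr($(e3.symm.trans e4).hom)
    have : s₁ ≫ X.toSpecΓ = s₂ ≫ X.toSpecΓ := by rw [comp_toSpecΓ, comp_toSpecΓ, hρ]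
    exact (cancel_mono X.toSpecΓ).mp this
  · intro x' xt hx' hxt hcomp
    -- the pullback ring
    let At := Localization.Away t
    let A't := Localization.Away (φ t)
    let P : Subring (A' × At) := RingHom.eqLocus
      ((algebraMap A' A't).comp (RingHom.fst A' At))
      ((Localization.awayMap φ t).comp (RingHom.snd A' At))
    have hmap : ∀ x : A, Localization.awayMap φ t (algebraMap A At x) =
        algebraMap A' A't (φ x) := by
      intro x
      simp [Localization.awayMap, IsLocalization.Away.map, At, A't]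
    let ι : A →+* P := RingHom.codRestrict (φ.prod (algebraMap A At)) P (fun a => by
      show algebraMap A' A't (φ a) = Localization.awayMap φ t (algebraMap A At a)
      rw [hmap])
    have hι : Function.Bijective ι := by
      constructor
      · rw [injective_iff_map_eq_zero]
        intro a ha
        have h0 : (φ a, algebraMap A At a) = ((0 : A'), (0 : At)) := congr(($ha).1)
        exact joint_inj φ t htor a (congr(($h0).1)) (congr(($h0).2))
      · rintro ⟨⟨a', b⟩, hab⟩
        obtain ⟨a, ha1, ha2⟩ := glue φ t hq htor a' b hab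
        refine ⟨a, Subtype.ext ?_⟩
        show (φ a, algebraMap A At a) = (a', b)
        rw [ha1, ha2]
    let e : A ≃+* P := RingEquiv.ofBijective ι hι
    have hcompat : (ρ x') ≫ CommRingCat.ofHom (algebraMap A' A't) =
        (ρ xt) ≫ CommRingCat.ofHom (Localization.awayMap φ t) := by
      rw [← ρ_comp, ← ρ_comp, hcomp]
    let κ : Γ(X, ⊤) →+* P := RingHom.codRestrict ((ρ x').hom.prod (ρ xt).hom) P (fun r => by
      exact congr($(hcompat).hom r))
    let ψ : Γ(X, ⊤) →+* A := (e.symm : P →+* A).comp κ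
    have hψ1 : φ.comp ψ = (ρ x').hom := by
      ext r
      have h1 : ι (ψ r) = κ r := e.apply_symm_apply (κ r)
      exact congr(($h1).1.1)
    have hψ2 : (algebraMap A At).comp ψ = (ρ xt).hom := by
      ext r
      have h1 : ι (ψ r) = κ r := e.apply_symm_apply (κ r)
      exact congr(($h1).1.2)
    let Ψ : Spec (CommRingCat.of A) ⟶ Spec Γ(X, ⊤) := Spec.map (CommRingCat.ofHom ψ)
    have hΨ1 : Spec.map (CommRingCat.ofHom φ) ≫ Ψ = x' ≫ X.toSpecΓ := by
      rw [comp_toSpecΓ, ← Spec.map_comp]
      congr 1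
      ext r
      exact congr($hψ1 r)
    have hΨ2 : Spec.map (CommRingCat.ofHom (algebraMap A At)) ≫ Ψ = xt ≫ X.toSpecΓ := by
      rw [comp_toSpecΓ, ← Spec.map_comp]
      congr 1
      ext r
      exact congr($hψ2 r)
    have hrange : Set.range Ψ ⊆ Set.range X.toSpecΓ := by
      rintro _ ⟨q, rfl⟩
      by_cases htq : t ∈ q.asIdeal
      · -- q comes from Spec A'
        have hq1 : q ∈ Set.range (Spec.map (CommRingCat.ofHom (Ideal.Quotient.mk (Ideal.span {t} ^ 1)))) := by
          have := range_comap_of_surjective _ (Ideal.Quotient.mk (Ideal.span {t} ^ 1))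
            Ideal.Quotient.mk_surjective
          rw [Ideal.mk_ker] at this
          have h2 : q ∈ PrimeSpectrum.zeroLocus ((Ideal.span {t} ^ 1 : Ideal A) : Set A) := by
            rw [pow_one]
            show ((Ideal.span {t} : Ideal A) : Set A) ⊆ q.asIdeal
            exact (Ideal.span_singleton_le_iff_mem (I := q.asIdeal)).mpr htq
          rw [← this] at h2
          exact h2
        obtain ⟨q₂, rfl⟩ := hq1
        let e₁ := RingEquiv.ofBijective _ (hq 1)
        let q₁' : Spec (CommRingCat.of A') :=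
          Spec.map (CommRingCat.ofHom (Ideal.Quotient.mk (Ideal.map φ (Ideal.span {t} ^ 1))))
            (Spec.map (CommRingCat.ofHom (e₁.symm : _ →+* _)) q₂)
        have hq₁' : Spec.map (CommRingCat.ofHom φ) q₁' =
            Spec.map (CommRingCat.ofHom (Ideal.Quotient.mk (Ideal.span {t} ^ 1))) q₂ := by
          have key : CommRingCat.ofHom φ ≫
              (CommRingCat.ofHom (Ideal.Quotient.mk (Ideal.map φ (Ideal.span {t} ^ 1))) ≫
              CommRingCat.ofHom (e₁.symm : _ →+* _)) =
              CommRingCat.ofHom (Ideal.Quotient.mk (Ideal.span {t} ^ 1)) := by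
            ext a
            show e₁.symm (Ideal.Quotient.mk _ (φ a)) = Ideal.Quotient.mk _ a
            rw [RingEquiv.symm_apply_eq]
            rfl
          rw [← key, Spec.map_comp, Spec.map_comp]
          rfl
        rw [← hq₁', ← Scheme.Hom.comp_apply, hΨ1, Scheme.Hom.comp_apply]
        exact Set.mem_range_self _
      · have hq1 : q ∈ Set.range (Spec.map (CommRingCat.ofHom (algebraMap A At))) := by
          have := PrimeSpectrum.localization_away_comap_range At t
          have h2 : q ∈ (PrimeSpectrum.basicOpen t : Set (PrimeSpectrum A)) := htq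
          rw [← this] at h2
          exact h2
        obtain ⟨q₁, rfl⟩ := hq1
        rw [← Scheme.Hom.comp_apply, hΨ2, Scheme.Hom.comp_apply]
        exact Set.mem_range_self _
    let s := IsOpenImmersion.lift X.toSpecΓ Ψ hrange
    have hs : s ≫ X.toSpecΓ = Ψ := IsOpenImmersion.lift_fac _ _ _
    have hs1 : Spec.map (CommRingCat.ofHom φ) ≫ s = x' := by
      rw [← cancel_mono X.toSpecΓ, Category.assoc, hs, hΨ1]
    have hs2 : Spec.map (CommRingCat.ofHom (algebraMap A At)) ≫ s = xt := by
      rw [← cancel_mono X.toSpecΓ, Category.assoc, hs, hΨ2]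
    refine ⟨s, ?_, hs1, hs2⟩
    obtain ⟨α, hα⟩ := Spec.map_surjective (s ≫ p)
    rw [← hα]
    have hα1 : φ.comp α.hom = φ.comp (RingHom.id A) := by
      have : Spec.map (α ≫ CommRingCat.ofHom φ) = Spec.map (CommRingCat.ofHom φ) := by
        rw [Spec.map_comp, hα, ← Category.assoc, hs1, hx']
      have := Spec.map_injective this
      exact congr($(this).hom)
    have hα2 : (algebraMap A At).comp α.hom = (algebraMap A At).comp (RingHom.id A) := by
      have : Spec.map (α ≫ CommRingCat.ofHom (algebraMap A At)) =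
          Spec.map (CommRingCat.ofHom (algebraMap A At)) := by
        rw [Spec.map_comp, hα, ← Category.assoc, hs2, hxt]
      have := Spec.map_injective this
      exact congr($(this).hom)
    have hαid : α.hom = RingHom.id A := hjoint _ _ hα1 hα2
    have : α = 𝟙 _ := by ext1; exact hαid
    rw [this, Spec.map_id]

end Helpers


/-- Case of a quasi-affine X over U = Spec A: let φ : A → A' and t ∈ A be such that A/t^m → A'/t^m is
bijective for every m and φ restricts to a bijection between the t-power-torsion submodules; let X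
be a quasi-affine scheme over Spec A. Then sections of X over Spec A correspond bijectively to pairs
of an A'-point and an A[1/t]-point of X over A that agree over A'[1/t]. (The published statement
allows a flat A-scheme U as base and X either ind-quasi-affine or subprojective over U; this row is
U = Spec A with X quasi-affine.) -/
theorem result (A A' : Type u) [CommRing A] [CommRing A']
    (φ : A →+* A') (t : A)
    (hq : ∀ m : ℕ, Function.Bijective (Ideal.quotientMap (Ideal.map φ (Ideal.span {t} ^ m)) φ Ideal.le_comap_map))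
    (htor : ∀ a' : A', (∃ m : ℕ, φ t ^ m * a' = 0) → ∃! a : A, (∃ m : ℕ, t ^ m * a = 0) ∧ φ a = a')
    (X : Scheme.{u}) [X.IsQuasiAffine] (p : X ⟶ Spec (CommRingCat.of A)) :
    (∀ s₁ s₂ : Spec (CommRingCat.of A) ⟶ X, s₁ ≫ p = 𝟙 _ → s₂ ≫ p = 𝟙 _ →
        Spec.map (CommRingCat.ofHom φ) ≫ s₁ = Spec.map (CommRingCat.ofHom φ) ≫ s₂ →
        Spec.map (CommRingCat.ofHom (algebraMap A (Localization.Away t))) ≫ s₁ =
          Spec.map (CommRingCat.ofHom (algebraMap A (Localization.Away t))) ≫ s₂ →
        s₁ = s₂) ∧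
    (∀ (x' : Spec (CommRingCat.of A') ⟶ X) (xt : Spec (CommRingCat.of (Localization.Away t)) ⟶ X),
        x' ≫ p = Spec.map (CommRingCat.ofHom φ) →
        xt ≫ p = Spec.map (CommRingCat.ofHom (algebraMap A (Localization.Away t))) →
        Spec.map (CommRingCat.ofHom (algebraMap A' (Localization.Away (φ t)))) ≫ x' =
          Spec.map (CommRingCat.ofHom (Localization.awayMap φ t)) ≫ xt →
        ∃ s : Spec (CommRingCat.of A) ⟶ X, s ≫ p = 𝟙 _ ∧
          Spec.map (CommRingCat.ofHom φ) ≫ s = x' ∧
          Spec.map (CommRingCat.ofHom (algebraMap A (Localization.Away t))) ≫ s = xt) := by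
  exact main A A' φ t hq htor X p

end Groth.Agent.S15769
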