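import Groth.Statements.S15770
import Mathlib

set_option autoImplicit false
universe u
open CAlg

namespace Groth.Agent.S15770



/-- Let B be a topological ring with Bˣ ⊂ B open and M, M' finitely generated projective B-modules, and
endow Hom_B(M, M') with the module topology (the canonical topology of a finite module). Then the
set of surjective B-linear maps M → M' is open. -/
theorem result (B : Type u) [CommRing B] [TopologicalSpace B]
    [IsTopologicalRing B] (hB : IsOpen {b : B | IsUnit b})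
    (M M' : Type u) [AddCommGroup M] [Module B M] [Module.Finite B M] [Module.Projective B M]
    [AddCommGroup M'] [Module B M'] [Module.Finite B M'] [Module.Projective B M']
    [TopologicalSpace (M →ₗ[B] M')] [IsModuleTopology B (M →ₗ[B] M')] :
    IsOpen {f : M →ₗ[B] M' | Function.Surjective f} := by
  classical
  obtain ⟨n, π, ι, hπ, hι, hπι⟩ := Module.Finite.exists_comp_eq_id_of_projective B M'
  rw [isOpen_iff_forall_mem_open]
  intro f₀ hf₀
  obtain ⟨g₀, hg₀⟩ := Module.projective_lifting_property f₀ LinearMap.id hf₀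
  -- linear part
  let Λ : (M →ₗ[B] M') →ₗ[B] Matrix (Fin n) (Fin n) B :=
    (LinearMap.toMatrix' (R := B) (m := Fin n) (n := Fin n)).toLinearMap ∘ₗ
      (LinearMap.llcomp B (Fin n → B) M' (Fin n → B) ι) ∘ₗ
      ((LinearMap.llcomp B (Fin n → B) M M').flip (g₀ ∘ₗ π))
  have hΛ : ∀ f, Λ f = LinearMap.toMatrix' (ι ∘ₗ f ∘ₗ g₀ ∘ₗ π) := fun f => rfl
  let c : Matrix (Fin n) (Fin n) B := LinearMap.toMatrix' (LinearMap.id - ι ∘ₗ π)
  haveI : IsModuleTopology B (Matrix (Fin n) (Fin n) B) :=
    inferInstanceAs (IsModuleTopology B (Fin n → Fin n → B))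
  have hcont : Continuous (fun f : M →ₗ[B] M' => (Λ f + c).det) := by
    apply Continuous.matrix_det
    exact (IsModuleTopology.continuous_of_linearMap Λ).add continuous_const
  refine ⟨(fun f : M →ₗ[B] M' => (Λ f + c).det) ⁻¹' {b : B | IsUnit b}, ?_, hB.preimage hcont, ?_⟩
  · intro f hf
    simp only [Set.mem_preimage, Set.mem_ofPred_eq] at hf
    have hu : IsUnit (Λ f + c) := (Matrix.isUnit_iff_isUnit_det _).2 hf
    have hE : Λ f + c = LinearMap.toMatrix' (ι ∘ₗ f ∘ₗ g₀ ∘ₗ π + (LinearMap.id - ι ∘ₗ π)) := by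
      rw [map_add, hΛ]
    rw [hE] at hu
    have hu' : IsUnit (ι ∘ₗ f ∘ₗ g₀ ∘ₗ π + (LinearMap.id - ι ∘ₗ π)) :=
      isUnit_of_map_unit (LinearMap.toMatrixAlgEquiv' (R := B) (n := Fin n)) _ hu
    have hsurj : ∀ w, ∃ v, (ι ∘ₗ f ∘ₗ g₀ ∘ₗ π + (LinearMap.id - ι ∘ₗ π) :
        (Fin n → B) →ₗ[B] (Fin n → B)) v = w :=
      ((Module.End.isUnit_iff _).1 hu').2
    intro y
    obtain ⟨v, hv⟩ := hsurj (ι y)
    refine ⟨g₀ (π v), ?_⟩
    have h1 : ∀ z, π (ι z) = z := fun z => LinearMap.congr_fun hπι z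
    have := congrArg π hv
    simp only [LinearMap.add_apply, LinearMap.coe_comp, Function.comp_apply, LinearMap.sub_apply,
      LinearMap.id_coe, id_eq, map_add, map_sub, h1] at this
    rw [← this]
    abel
  · simp only [Set.mem_preimage, Set.mem_ofPred_eq]
    have : Λ f₀ + c = 1 := by
      rw [hΛ]
      have h2 : f₀ ∘ₗ g₀ ∘ₗ π = π := by
        rw [← LinearMap.comp_assoc, hg₀, LinearMap.id_comp]
      rw [h2]
      change LinearMap.toMatrix' (ι ∘ₗ π) + LinearMap.toMatrix' (LinearMap.id - ι ∘ₗ π) = 1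
      rw [← map_add, add_sub_cancel, LinearMap.toMatrix'_id]
    rw [this, Matrix.det_one]
    exact isUnit_one

end Groth.Agent.S15770
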