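import Groth.Statements.S15771
import Mathlib

set_option autoImplicit false
universe u
open TensorProduct
open CAlg

namespace Groth.Agent.S15771

/-- For a ring map B₀ → B with dense image into a topological ring B, a finitely generated B₀-module M₀
and any topological B-module structure on M = B ⊗_{B₀} M₀, the natural map M₀ → M has dense image. -/
theorem result (B₀ B : Type u) [CommRing B₀] [CommRing B] [Algebra B₀ B]
    [TopologicalSpace B] [IsTopologicalRing B] (hφ : DenseRange (algebraMap B₀ B))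
    (M₀ : Type u) [AddCommGroup M₀] [Module B₀ M₀] [Module.Finite B₀ M₀]
    [TopologicalSpace (B ⊗[B₀] M₀)] [IsTopologicalAddGroup (B ⊗[B₀] M₀)] [ContinuousSMul B (B ⊗[B₀] M₀)] :
    DenseRange (fun m : M₀ => (1 : B) ⊗ₜ[B₀] m) := by
  obtain ⟨n, g, hg⟩ := Module.Finite.exists_fin' B₀ M₀
  let e : Fin n → M₀ := fun i => g (Pi.single i 1)
  let F : (Fin n → B) → B ⊗[B₀] M₀ := fun b => ∑ i, b i • ((1 : B) ⊗ₜ[B₀] e i)
  have hFcont : Continuous F := by
    apply continuous_finset_sum
    intro i _
    show Continuous fun b : Fin n → B => b i • ((1 : B) ⊗ₜ[B₀] e i)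
    have h1 : Continuous fun b : Fin n → B => b i := continuous_apply i
    have h2 : Continuous fun _ : Fin n → B => ((1 : B) ⊗ₜ[B₀] e i) := continuous_const
    exact h1.smul h2
  have hga : ∀ a : Fin n → B₀, g a = ∑ i, a i • e i := by
    intro a
    have : a = ∑ i, a i • (Pi.single i (1 : B₀) : Fin n → B₀) := by
      funext j
      simp [Finset.sum_apply, Pi.single_apply]
    conv_lhs => rw [this]
    rw [map_sum]
    simp [e]
  have hFG : ∀ a : Fin n → B₀, F (fun i => algebraMap B₀ B (a i)) = (1 : B) ⊗ₜ[B₀] g a := by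
    intro a
    rw [hga, TensorProduct.tmul_sum]
    apply Finset.sum_congr rfl
    intro i _
    calc algebraMap B₀ B (a i) • ((1 : B) ⊗ₜ[B₀] e i) = (algebraMap B₀ B (a i)) ⊗ₜ[B₀] e i := by
          rw [TensorProduct.smul_tmul', smul_eq_mul, mul_one]
      _ = (a i • (1 : B)) ⊗ₜ[B₀] e i := by rw [Algebra.smul_def, mul_one]
      _ = (1 : B) ⊗ₜ[B₀] (a i • e i) := TensorProduct.smul_tmul _ _ _
  have hFsurj : Function.Surjective F := by
    intro x
    induction x using TensorProduct.induction_on with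
    | zero => exact ⟨0, by simp [F]⟩
    | tmul b m =>
      obtain ⟨a, rfl⟩ := hg m
      refine ⟨fun i => b * algebraMap B₀ B (a i), ?_⟩
      have h1 : b ⊗ₜ[B₀] g a = b • ((1 : B) ⊗ₜ[B₀] g a) := by
        rw [TensorProduct.smul_tmul', smul_eq_mul, mul_one]
      rw [h1, ← hFG, Finset.smul_sum]
      apply Finset.sum_congr rfl
      intro i _
      rw [mul_smul]
    | add x y hx hy =>
      obtain ⟨bx, rfl⟩ := hx
      obtain ⟨by', rfl⟩ := hy
      refine ⟨bx + by', ?_⟩
      simp only [F, Pi.add_apply, add_smul, Finset.sum_add_distrib]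
  have hG : DenseRange (fun a : Fin n → B₀ => fun i => algebraMap B₀ B (a i)) :=
    DenseRange.piMap (fun _ => hφ)
  have hcomp : DenseRange (F ∘ fun a : Fin n → B₀ => fun i => algebraMap B₀ B (a i)) :=
    hFsurj.denseRange.comp hG hFcont
  refine Dense.mono ?_ hcomp
  rintro _ ⟨a, rfl⟩
  exact ⟨g a, (hFG a).symm⟩

end Groth.Agent.S15771
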