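import Groth.Statements.S15774
import Mathlib
import Groth.Agent.Lib.helper3.IdemCompl
-- import your own Groth.Agent.* helpers here

set_option autoImplicit false
universe u
open CAlg

namespace Groth.Agent.S15774

/-- The instance A[1/t] → Â[1/t]: if (A, tA) is a Henselian pair and the t-power torsion of A is
bounded, then every idempotent of Â[1/t] (Â the t-adic completion) comes from a unique idempotent of
A[1/t]. -/
theorem result (A : Type u) [CommRing A] (t : A) [HenselianRing A (Ideal.span {t})]
    (hbd : ∃ N : ℕ, ∀ a : A, (∃ m : ℕ, t ^ m * a = 0) → t ^ N * a = 0)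
    (e : Localization.Away (algebraMap A (AdicCompletion (Ideal.span {t}) A) t)) (he : IsIdempotentElem e) :
    ∃! e₀ : Localization.Away t, IsIdempotentElem e₀ ∧ Localization.awayMap (algebraMap A (AdicCompletion (Ideal.span {t}) A)) t e₀ = e := by
  have htJ : t ∈ (⊥ : Ideal A).jacobson :=
    HenselianRing.jac (Ideal.subset_span (Set.mem_singleton t))
  obtain ⟨e₀, he₀, hφ⟩ := Groth.Agent.Lib.helper3.IdemCompl.exists_part A t e he
  refine ⟨e₀, ⟨he₀, hφ⟩, ?_⟩
  rintro e₁ ⟨he₁, hφ₁⟩
  apply Groth.Agent.Lib.helper3.IdemCompl.eq_of_sq_eq_zero he₁ he₀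
  apply Groth.Agent.Lib.helper3.IdemCompl.unique_part A t htJ _
    (Groth.Agent.Lib.helper3.IdemCompl.idem_sub_sq he₁ he₀)
  rw [map_pow, map_sub, hφ₁, hφ, sub_self]
  exact zero_pow (by norm_num)

end Groth.Agent.S15774
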