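import Groth.Statements.S1578
import Groth.Agent.Lib.helper9.CohB11

set_option autoImplicit false
universe u
open CategoryTheory CategoryTheory.Limits AlgebraicGeometry
open Divisors

namespace Groth.Agent.S1578

/-- Let M be a module over a ring A, F the associated quasi-coherent module on Spec A, and p a prime of
A. If p is an associated prime of M then p is an associated point of F; the converse holds when p is
finitely generated. -/
theorem result (A : CommRingCat.{u}) (M : ModuleCat.{u} A)
    (p : Spec A) :
    (p.asIdeal ∈ associatedPrimes A M → Curv2.IsAssPoint (tilde M) p) ∧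
    (p.asIdeal.FG → Curv2.IsAssPoint (tilde M) p → p.asIdeal ∈ associatedPrimes A M) := by
  have hp : p.asIdeal.IsPrime := p.2
  constructor
  · intro hq
    have h1 := Module.associatedPrimes.mem_associatedPrimes_atPrime_of_mem_associatedPrimes hq
    have h2 := (Groth.Agent.Lib.helper9.CohB.semiEquivTilde M p).isAssociatedPrime_comap _ h1
    rw [Groth.Agent.Lib.helper9.comap_maximalIdeal_of_ringEquiv
      (Groth.Agent.Lib.helper9.CohB.semiEquivTilde M p).σ.symm] at h2
    exact h2
  · intro hfg hx
    have h2 := (Groth.Agent.Lib.helper9.CohB.semiEquivTilde M p).symm.isAssociatedPrime_comap _ hx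
    rw [Groth.Agent.Lib.helper9.comap_maximalIdeal_of_ringEquiv
      (Groth.Agent.Lib.helper9.CohB.semiEquivTilde M p).symm.σ.symm] at h2
    have h4 : (IsLocalRing.maximalIdeal (Localization.AtPrime p.asIdeal)).comap
        (algebraMap A (Localization.AtPrime p.asIdeal)) = p.asIdeal :=
      Localization.AtPrime.under_maximalIdeal
    have h3 := Module.associatedPrimes.comap_mem_associatedPrimes_of_mem_associatedPrimes_of_isLocalizedModule_of_fg
      p.asIdeal.primeCompl
      (LocalizedModule.mkLinearMap p.asIdeal.primeCompl M) _ h2
      (by rw [h4]; exact hfg)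
    rw [h4] at h3
    exact h3

end Groth.Agent.S1578
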