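import Groth.Statements.S15784
import Mathlib

set_option autoImplicit false
universe u
open Neron

namespace Groth.Agent.S15784

/-- Let O be a discrete valuation ring with fraction field L and uniformizer ϖ', let ϖ be an element of
the maximal ideal of O, let q = u·ϖ'^n with u a unit of O and n ≥ 1, and let m ≥ 1 be a divisor of
n. Then the following are equivalent: (i) there is a nonzero element z = w·ϖ'^a of L, with w a unit
of O and a an integer congruent to n/m modulo n, and an integer j such that z^m·q^j lies in 1 + ϖO;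
(ii) ϖ'^n/q is an m-th power in the group of units of O/ϖO, that is, u·(y^m + ϖ·r) = 1 for some y, r
∈ O. (The published statement phrases (i) geometrically, as the existence of a point of order m in
the special fibre of the Néron model of the Weil restriction of the Tate curve with parameter q from
L down to a subfield over which L is totally ramified with ϖ a uniformizer of the subfield, whose
image in the component group also has order m; this row states the equivalence between (i) and (ii)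
that the printed argument establishes.) -/
theorem result
    (O : Type u) [CommRing O] [IsDomain O] [IsDiscreteValuationRing O]
    (L : Type u) [Field L] [Algebra O L] [IsFractionRing O L]
    (ϖ' : O) (hϖ' : Irreducible ϖ') (ϖ : O) (hϖ : ϖ ∈ IsLocalRing.maximalIdeal O)
    (n : ℕ) (hn : 1 ≤ n) (u : Oˣ) (q : O) (hq : q = u * ϖ' ^ n)
    (m : ℕ) (hm : 1 ≤ m) (hmn : m ∣ n) :
    (∃ (w : Oˣ) (a j t : ℤ) (r : O), a = (n / m : ℕ) + t * n ∧
        (algebraMap O L w * algebraMap O L ϖ' ^ a) ^ m * algebraMap O L q ^ j = algebraMap O L (1 + ϖ * r)) ↔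
      ∃ y r : O, (u : O) * (y ^ m + ϖ * r) = 1 := by
  classical
  have hAinj : Function.Injective (algebraMap O L) := IsFractionRing.injective O L
  have hp0 : algebraMap O L ϖ' ≠ 0 := by
    intro h
    exact hϖ'.ne_zero (hAinj (by rw [h, map_zero]))
  have hunit : ∀ r : O, IsUnit (1 + ϖ * r) := by
    intro r
    have hnu : ¬ IsUnit (-(ϖ * r)) := by
      intro h
      have hmem : ϖ * r ∈ IsLocalRing.maximalIdeal O := Ideal.mul_mem_right _ _ hϖ
      exact (IsLocalRing.mem_maximalIdeal _).1 hmem (by simpa using h)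
    rcases IsLocalRing.isUnit_or_isUnit_of_add_one (a := 1 + ϖ * r) (b := -(ϖ * r)) (by ring)
      with h | h
    · exact h
    · exact absurd h hnu
  have hcast : ∀ (v : Oˣ) (k : ℤ), (algebraMap O L v) ^ k = algebraMap O L ((v ^ k : Oˣ) : O) := by
    intro v k
    have h1 : ((Units.map (algebraMap O L : O →* L) v ^ k : Lˣ) : L) = (algebraMap O L v) ^ k := by
      rw [Units.val_zpow_eq_zpow_val]; rfl
    rw [← h1, ← map_zpow]; rfl
  have hnat : ∀ (N : ℕ) (v : Oˣ), (algebraMap O L ϖ') ^ N = algebraMap O L v → N = 0 := by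
    intro N v h
    by_contra hN
    rw [← map_pow] at h
    have h2 : ϖ' ^ N = v := hAinj h
    have h3 : IsUnit (ϖ' ^ N) := h2 ▸ v.isUnit
    exact hϖ'.not_isUnit ((isUnit_pow_iff hN).1 h3)
  have hval : ∀ (k : ℤ) (v : Oˣ), (algebraMap O L ϖ') ^ k = algebraMap O L v → k = 0 := by
    intro k v h
    obtain ⟨N, rfl | rfl⟩ := Int.eq_nat_or_neg k
    · rw [zpow_natCast] at h
      simp [hnat N v h]
    · rw [zpow_neg, zpow_natCast] at h
      have h2 : (algebraMap O L ϖ') ^ N = algebraMap O L ((v⁻¹ : Oˣ) : O) := by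
        have h3 : algebraMap O L v * algebraMap O L ((v⁻¹ : Oˣ) : O) = 1 := by
          rw [← map_mul]; simp
        rw [← h] at h3
        have h4 : (algebraMap O L ϖ') ^ N ≠ 0 := pow_ne_zero _ hp0
        field_simp at h3
        exact h3.symm
      simp [hnat N _ h2]
  have hnm : ((n / m : ℕ) : ℤ) * m = n := by exact_mod_cast Nat.div_mul_cancel hmn
  have hq' : algebraMap O L q = algebraMap O L u * (algebraMap O L ϖ') ^ n := by
    rw [hq, map_mul, map_pow]
  have hL : ∀ (w : Oˣ) (a j : ℤ),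
      (algebraMap O L w * algebraMap O L ϖ' ^ a) ^ m * algebraMap O L q ^ j
        = algebraMap O L ((w ^ m * u ^ j : Oˣ) : O) * (algebraMap O L ϖ') ^ (a * m + n * j) := by
    intro w a j
    rw [hq', mul_pow, mul_zpow, ← zpow_natCast (algebraMap O L ϖ' ^ a) m, ← zpow_mul,
      ← zpow_natCast (algebraMap O L ϖ') n, ← zpow_mul, zpow_add₀ hp0, Units.val_mul, map_mul,
      Units.val_pow_eq_pow_val, map_pow, ← hcast]
    ring
  have hinv : ∀ (V : Oˣ) (r : O), (V : O) = 1 + ϖ * r →
      ((V⁻¹ : Oˣ) : O) = 1 + ϖ * (-(r * ((V⁻¹ : Oˣ) : O))) := by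
    intro V r hV
    have hVV : (V : O) * ((V⁻¹ : Oˣ) : O) = 1 := by simp
    linear_combination hVV - ((V⁻¹ : Oˣ) : O) * hV
  constructor
  · rintro ⟨w, a, j, t, r, ha, h⟩
    obtain ⟨V, hV⟩ := hunit r
    rw [hL, ← hV] at h
    have hk : a * m + n * j = 0 := by
      apply hval _ ((w ^ m * u ^ j)⁻¹ * V)
      have h5 : algebraMap O L ((w ^ m * u ^ j : Oˣ) : O) *
          algebraMap O L (((w ^ m * u ^ j)⁻¹ : Oˣ) : O) = 1 := by
        rw [← map_mul, ← Units.val_mul, mul_inv_cancel, Units.val_one, map_one]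
      rw [Units.val_mul, map_mul, ← h, ← mul_assoc,
        mul_comm (algebraMap O L (((w ^ m * u ^ j)⁻¹ : Oˣ) : O)), h5, one_mul]
    have hj : j = -1 - t * m := by
      have hn0 : (n : ℤ) ≠ 0 := by exact_mod_cast (by omega : n ≠ 0)
      have h7 : (n : ℤ) * (1 + t * m + j) = 0 := by
        rw [ha] at hk; linear_combination hk - hnm
      rcases mul_eq_zero.1 h7 with h8 | h8
      · exact absurd h8 hn0
      · linarith
    rw [hk, zpow_zero, mul_one] at h
    have h6 : (w ^ m * u ^ j : Oˣ) = V := Units.ext (hAinj h)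
    have h9 : V = (w * u ^ (-t)) ^ m * u⁻¹ := by
      rw [← h6, hj, mul_pow, ← zpow_natCast (u ^ (-t)) m, ← zpow_mul, mul_assoc]
      congr 1
      rw [← zpow_neg_one, ← zpow_add]
      congr 1
      ring
    have h10 : (V⁻¹ : Oˣ) = u * ((w * u ^ (-t))⁻¹) ^ m := by
      rw [h9, mul_inv, inv_inv, mul_comm, inv_pow]
    refine ⟨(((w * u ^ (-t))⁻¹ : Oˣ) : O), ((u⁻¹ : Oˣ) : O) * r * ((V⁻¹ : Oˣ) : O), ?_⟩
    have hVinv : (u : O) * ((((w * u ^ (-t))⁻¹ : Oˣ) : O)) ^ m = ((V⁻¹ : Oˣ) : O) := by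
      rw [h10]; simp
    have huu : (u : O) * ((u⁻¹ : Oˣ) : O) = 1 := by simp
    have hVV : (V : O) * ((V⁻¹ : Oˣ) : O) = 1 := by simp
    linear_combination hVinv + ϖ * r * ((V⁻¹ : Oˣ) : O) * huu - ((V⁻¹ : Oˣ) : O) * hV + hVV
  · rintro ⟨y, r, h⟩
    obtain ⟨V, hV⟩ := hunit (-(u * r))
    have hV' : (V : O) = u * y ^ m := by rw [hV]; linear_combination (-1 : O) * h
    have hy : IsUnit y := by
      have h1 : IsUnit ((u : O) * y ^ m) := hV' ▸ V.isUnit
      have h2 : IsUnit (y ^ m) := isUnit_of_mul_isUnit_right h1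
      exact (isUnit_pow_iff (by omega)).1 h2
    obtain ⟨Y, rfl⟩ := hy
    have hV'' : V = u * Y ^ m := Units.ext (by rw [hV']; simp)
    refine ⟨Y⁻¹, (n / m : ℕ), -1, 0, -(-(u * r) * ((V⁻¹ : Oˣ) : O)), by simp, ?_⟩
    rw [hL, ← hinv V _ hV]
    have hk : ((n / m : ℕ) : ℤ) * m + n * (-1) = 0 := by rw [hnm]; ring
    rw [hk, zpow_zero, mul_one]
    congr 2
    rw [hV'', mul_inv, inv_pow, mul_comm, zpow_neg_one]

end Groth.Agent.S15784
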