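import Groth.Statements.S1579
import Groth.Agent.Lib.helper9.PushQC
import Groth.Agent.Lib.helper9.WeakAssFin
import Mathlib.AlgebraicGeometry.Morphisms.Finite

set_option autoImplicit false
universe u
open CategoryTheory CategoryTheory.Limits AlgebraicGeometry
open Divisors

namespace Groth.Agent.S1579

open AlgebraicGeometry CategoryTheory Opposite TopologicalSpace Scheme.Modules
  Groth.Agent.Lib.helper9.CohB Groth.Agent.Lib.helper9.AffSect
  Groth.Agent.Lib.helper9.QcohLoc Groth.Agent.Lib.helper9.PushAff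
  Groth.Agent.Lib.helper9.WeakAssSch in
set_option backward.isDefEq.respectTransparency false in
lemma push_weakAss_finite {X S : Scheme.{u}} (f : X ⟶ S) [IsFinite f]
    (F : X.Modules) [F.IsQuasicoherent] (x : X) (hx : Curv2.IsWeakAssPoint F x) :
    Curv2.IsWeakAssPoint ((pushforward f).obj F) (f x) := by
  haveI hPqc : ((pushforward f).obj F).IsQuasicoherent := isQuasicoherent_pushforward f F
  obtain ⟨W, hW, hsW, -⟩ := exists_isAffineOpen_mem_and_subset (x := f x) (U := ⊤) trivial
  have hU' : IsAffineOpen (f ⁻¹ᵁ (hW.fromSpec ''ᵁ ⊤)) := by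
    rw [image_top hW]
    exact hW.preimage f
  have hV' : IsAffineOpen (hW.fromSpec ''ᵁ ⊤) := by
    rw [image_top hW]
    exact hW
  have hxU' : x ∈ f ⁻¹ᵁ (hW.fromSpec ''ᵁ ⊤) := by
    rw [image_top hW]
    exact hsW
  have hi0 : hW.fromSpec ''ᵁ ⊤ ≤ W := image_le hW ⊤
  have hi : f ⁻¹ᵁ (hW.fromSpec ''ᵁ ⊤) ≤ f ⁻¹ᵁ W := fun x hx => hi0 hx
  obtain ⟨P, rfl⟩ := exists_fromSpec_eq hU' hxU'
  rw [isWeakAssPoint_fromSpec_iff] at hx
  have h1f : (f.app (hW.fromSpec ''ᵁ ⊤)).hom.Finite := IsFinite.finite_app f _ hV'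
  have h2f : (S.presheaf.map (homOfLE (image_le hW ⊤)).op).hom.Finite := by
    apply RingHom.Finite.of_surjective
    intro z
    refine ⟨S.presheaf.map (homOfLE (le_of_eq (image_top hW).symm)).op z, ?_⟩
    exact (ringMap_map _ _ z).trans (ringMap_self _ z)
  have hq := Groth.Agent.Lib.helper9.WeakAssFin.comap_mem_weakAss_of_finite
    ((f.app (hW.fromSpec ''ᵁ ⊤)).hom.comp (S.presheaf.map (homOfLE (image_le hW ⊤)).op).hom)
    (h1f.comp h2f)
    (N := Γmod (F.restrict hU'.fromSpec))
    (N' := Γmod (((pushforward f).obj F).restrict hW.fromSpec))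
    ((show Γmod (((pushforward f).obj F).restrict hW.fromSpec) ≃+
        Γ(F, f ⁻¹ᵁ (hW.fromSpec ''ᵁ ⊤)) from
      { toFun := fun x => x
        invFun := fun x => x
        left_inv := fun _ => rfl
        right_inv := fun _ => rfl
        map_add' := fun _ _ => rfl }).trans (sectEquiv F hU').symm.toAddEquiv)
    (fun c x => by
      show (sectEquiv F hU').symm (c • x) = _ • (sectEquiv F hU').symm x
      rw [smul_H f F hW ⊤ c x]
      exact (sectEquiv F hU').symm.map_smul _ _)
    P.asIdeal hx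
  have h1 := IsAffineOpen.SpecMap_appLE_fromSpec f hW hU' hi
  have h2 : f (hU'.fromSpec P) = hW.fromSpec (Spec.map (f.appLE W _ hi) P) := by
    rw [← Scheme.Hom.comp_apply, ← Scheme.Hom.comp_apply, h1]
  rw [h2, isWeakAssPoint_fromSpec_iff]
  have hnat : ∀ c, (f.appLE W _ hi) c = f.app (hW.fromSpec ''ᵁ ⊤)
      (S.presheaf.map (homOfLE (image_le hW ⊤)).op c) := by
    intro c
    have hn := f.naturality (homOfLE hi0).op
    have h3 : f.app (hW.fromSpec ''ᵁ ⊤) (S.presheaf.map (homOfLE hi0).op c) =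
        X.presheaf.map ((Opens.map f.base).map (homOfLE hi0)).op (f.app W c) :=
      congrArg (fun φ => φ.hom c) hn
    exact h3.symm
  have hid : (Spec.map (f.appLE W _ hi) P).asIdeal = P.asIdeal.comap
      ((f.app (hW.fromSpec ''ᵁ ⊤)).hom.comp
        (S.presheaf.map (homOfLE (image_le hW ⊤)).op).hom) := by
    ext c
    show (f.appLE W _ hi) c ∈ P.asIdeal ↔ _
    rw [hnat]
    rfl
  rw [hid]
  exact hq


/-- Let f : X → S be finite and F quasi-coherent on X. Then the weakly associated points of f_* F are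
precisely the images under f of the weakly associated points of F. -/
theorem result {X S : Scheme.{u}} (f : X ⟶ S) [IsFinite f] (F : X.Modules) (hF : Coh.IsQCoh F) :
    {s : S | Curv2.IsWeakAssPoint ((Coh.push f).obj F) s} = f.base '' {x : X | Curv2.IsWeakAssPoint F x} := by
  haveI : F.IsQuasicoherent := hF
  ext s
  constructor
  · intro hs
    obtain ⟨x, hx, hxw⟩ :=
      Groth.Agent.Lib.helper9.PushQC.exists_isWeakAssPoint_of_pushforward f F s hs
    exact ⟨x, hxw, hx⟩
  · rintro ⟨x, hxw, rfl⟩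
    exact push_weakAss_finite f F x hxw

end Groth.Agent.S1579
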