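import Groth.Statements.S15791
import Mathlib

set_option autoImplicit false
universe u v
open WildQuot

namespace Groth.Agent.S15791

section Helpers

theorem length_quot_mul_le {A : Type*} [CommRing A] (J : Ideal A) (a b : A) :
    Module.length A (A ⧸ (J ⊔ Ideal.span {a * b})) ≤
      Module.length A (A ⧸ (J ⊔ Ideal.span {a})) + Module.length A (A ⧸ (J ⊔ Ideal.span {b})) := by
  have hcomap : J ⊔ Ideal.span {b} ≤
      Submodule.comap (LinearMap.mulLeft A a) (J ⊔ Ideal.span {a * b}) := by
    intro x hx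
    rw [Submodule.mem_comap]
    change a * x ∈ J ⊔ Ideal.span {a * b}
    obtain ⟨j, hj, y, hy, rfl⟩ := Submodule.mem_sup.1 hx
    obtain ⟨c, rfl⟩ := Ideal.mem_span_singleton'.1 hy
    rw [mul_add]
    exact Submodule.add_mem _ (Submodule.mem_sup_left (J.mul_mem_left _ hj))
      (Submodule.mem_sup_right (Ideal.mem_span_singleton'.2 ⟨c, by ring⟩))
  let f : (A ⧸ (J ⊔ Ideal.span {b})) →ₗ[A] (A ⧸ (J ⊔ Ideal.span {a * b})) :=
    Submodule.mapQ (J ⊔ Ideal.span {b}) (J ⊔ Ideal.span {a * b}) (LinearMap.mulLeft A a) hcomap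
  let K := LinearMap.range f
  have h1 := Module.length_eq_add_of_exact K.subtype K.mkQ K.injective_subtype
    K.mkQ_surjective (LinearMap.exact_subtype_mkQ K)
  have h2 : Module.length A K ≤ Module.length A (A ⧸ (J ⊔ Ideal.span {b})) :=
    Module.length_le_of_surjective f.rangeRestrict f.surjective_rangeRestrict
  have hker : J ⊔ Ideal.span {a} ≤
      LinearMap.ker (K.mkQ ∘ₗ (J ⊔ Ideal.span {a * b}).mkQ) := by
    intro x hx
    rw [LinearMap.mem_ker, LinearMap.comp_apply]
    obtain ⟨j, hj, y, hy, rfl⟩ := Submodule.mem_sup.1 hx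
    obtain ⟨c, rfl⟩ := Ideal.mem_span_singleton'.1 hy
    rw [map_add, map_add]
    have e1 : (J ⊔ Ideal.span {a * b}).mkQ j = 0 :=
      (Submodule.Quotient.mk_eq_zero _).2 (Submodule.mem_sup_left hj)
    have e2 : (J ⊔ Ideal.span {a * b}).mkQ (c * a) = f ((J ⊔ Ideal.span {b}).mkQ c) := by
      change _ = (J ⊔ Ideal.span {a * b}).mkQ (a * c)
      rw [mul_comm c a]
    rw [e1, map_zero, zero_add, e2]
    exact (Submodule.Quotient.mk_eq_zero _).2 ⟨_, rfl⟩
  let g : (A ⧸ (J ⊔ Ideal.span {a})) →ₗ[A] ((A ⧸ (J ⊔ Ideal.span {a * b})) ⧸ K) :=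
    Submodule.liftQ (J ⊔ Ideal.span {a}) (K.mkQ ∘ₗ (J ⊔ Ideal.span {a * b}).mkQ) hker
  have hg : Function.Surjective g := by
    intro y
    obtain ⟨y', rfl⟩ := K.mkQ_surjective y
    obtain ⟨x, rfl⟩ := (J ⊔ Ideal.span {a * b}).mkQ_surjective y'
    exact ⟨(J ⊔ Ideal.span {a}).mkQ x, rfl⟩
  have h3 := Module.length_le_of_surjective g hg
  rw [h1, add_comm]
  exact add_le_add h3 h2

theorem length_quot_prod_le {A : Type*} [CommRing A] {G : Type*} [DecidableEq G] (J : Ideal A)
    (b : G → A) (T : Finset G) :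
    Module.length A (A ⧸ (J ⊔ Ideal.span {∏ σ ∈ T, b σ})) ≤
      ∑ σ ∈ T, Module.length A (A ⧸ (J ⊔ Ideal.span {b σ})) := by
  induction T using Finset.induction_on with
  | empty =>
    rw [Finset.prod_empty, Finset.sum_empty, Ideal.span_singleton_one, sup_top_eq]
    simp
  | insert σ T hσ ih =>
    rw [Finset.prod_insert hσ, Finset.sum_insert hσ]
    exact (length_quot_mul_le J _ _).trans (add_le_add le_rfl ih)

theorem length_quot_span_prod_le {A : Type*} [CommRing A] {G : Type*} [Fintype G] :
    ∀ (n : ℕ) (J : Ideal A) (a : Fin n → G → A),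
    Module.length A (A ⧸ (J ⊔ Ideal.span (Set.range fun i => ∏ σ : G, a i σ))) ≤
      ∑ τ : Fin n → G, Module.length A (A ⧸ (J ⊔ Ideal.span (Set.range fun i => a i (τ i)))) := by
  classical
  intro n
  induction n with
  | zero =>
    intro J a
    have e : ∀ c : Fin 0 → A, Set.range c = ∅ := fun c => Set.range_eq_empty c
    simp only [Finset.univ_unique, Finset.sum_singleton]
    rw [e, e]
  | succ n ih =>
    intro J a
    have hsplit : ∀ c : Fin (n + 1) → A,
        J ⊔ Ideal.span (Set.range c) =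
          (J ⊔ Ideal.span (Set.range fun i : Fin n => c i.succ)) ⊔ Ideal.span {c 0} := by
      intro c
      have : Set.range c = insert (c 0) (Set.range fun i : Fin n => c i.succ) := by
        ext x
        simp only [Set.mem_range, Set.mem_insert_iff]
        constructor
        · rintro ⟨i, rfl⟩
          refine Fin.cases (Or.inl rfl) (fun j => Or.inr ⟨j, rfl⟩) i
        · rintro (rfl | ⟨j, rfl⟩)
          exacts [⟨0, rfl⟩, ⟨j.succ, rfl⟩]
      rw [this, Ideal.span_insert, sup_assoc, sup_comm (Ideal.span {c 0})]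
    have hsplit' : ∀ c : Fin (n + 1) → A,
        J ⊔ Ideal.span (Set.range c) =
          (J ⊔ Ideal.span {c 0}) ⊔ Ideal.span (Set.range fun i : Fin n => c i.succ) := by
      intro c
      rw [hsplit, sup_assoc, sup_assoc, sup_comm (Ideal.span _)]
    rw [hsplit]
    refine (length_quot_prod_le _ (fun σ => a 0 σ) Finset.univ).trans ?_
    rw [← (Fin.consEquiv (fun _ : Fin (n + 1) => G)).sum_comp, Fintype.sum_prod_type]
    refine Finset.sum_le_sum (fun σ _ => ?_)
    rw [sup_assoc, sup_comm (Ideal.span (Set.range _)), ← sup_assoc]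
    refine (ih (J ⊔ Ideal.span {a 0 σ}) (fun i => a i.succ)).trans (le_of_eq ?_)
    refine Finset.sum_congr rfl (fun τ _ => ?_)
    rw [hsplit' (fun i => a i ((Fin.consEquiv (fun _ : Fin (n + 1) => G)) (σ, τ) i))]
    rfl

theorem main
    (A : Type u) [CommRing A] [IsRegularLocalRing A]
    (G : Type v) [Group G] [Fintype G] [MulSemiringAction G A]
    (n : ℕ) (hn : ringKrullDim A = n) (u : Fin n → A)
    (hu : ∀ τ : Fin n → G,
      Ideal.span (Set.range fun i => τ i • u i) = IsLocalRing.maximalIdeal A) :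
    Module.length A (A ⧸ Ideal.span (Set.range fun i => ∏ σ : G, σ • u i)) ≤
      (Fintype.card G ^ n : ℕ) := by
  have h := length_quot_span_prod_le n (⊥ : Ideal A) (fun (i : Fin n) (σ : G) => σ • u i)
  rw [bot_sup_eq] at h
  refine h.trans (le_of_eq ?_)
  have h1 : ∀ τ : Fin n → G,
      Module.length A (A ⧸ ((⊥ : Ideal A) ⊔ Ideal.span (Set.range fun i => τ i • u i))) = 1 := by
    intro τ
    rw [bot_sup_eq, hu τ]
    haveI : IsSimpleModule A (A ⧸ IsLocalRing.maximalIdeal A) :=
      isSimpleModule_iff_quot_maximal.2 ⟨_, inferInstance, ⟨LinearEquiv.refl _ _⟩⟩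
    exact Module.length_eq_one A _
  rw [Finset.sum_congr rfl (fun τ _ => h1 τ)]
  simp

end Helpers

/-- Let `A` be a regular local ring of Krull dimension `n` with maximal ideal `m`, let a finite group
`G` of order `g` act on `A` by ring automorphisms, and let `u_1, …, u_n` be an admissible regular
system of parameters: for every choice `σ_1, …, σ_n ∈ G`, the elements `σ_1 u_1, …, σ_n u_n`
generate `m`. With `x_i = ∏_{σ ∈ G} σ u_i` the norms, the length of `A / (x_1, …, x_n)` is at most
`g ^ n`. (The published statement is for a complete regular local ring containing a `G`-fixed field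
of representatives and asserts that the length equals `g ^ n`; this row states the upper bound for
any regular local ring.) -/
theorem result
    (A : Type u) [CommRing A] [IsRegularLocalRing A]
    (G : Type v) [Group G] [Fintype G] [MulSemiringAction G A]
    (n : ℕ) (hn : ringKrullDim A = n) (u : Fin n → A)
    (hu : ∀ τ : Fin n → G,
      Ideal.span (Set.range fun i => τ i • u i) = IsLocalRing.maximalIdeal A) :
    Module.length A (A ⧸ Ideal.span (Set.range fun i => ∏ σ : G, σ • u i)) ≤
      (Fintype.card G ^ n : ℕ) := by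
  exact main A G n hn u hu

end Groth.Agent.S15791
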