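import Groth.Statements.S15795
import Mathlib

set_option autoImplicit false
universe u v
open WildQuot

namespace Groth.Agent.S15795

/-- Let `A` be a regular local ring of Krull dimension `n` with maximal ideal `m`, let a finite group
`G` act on `A` by ring automorphisms inducing the identity on the residue field, and let `u_1, …,
u_n` generate `m`. Suppose that for every `σ ∈ G` and every `i`, `σ u_i ∈ (u_1, …, u_i) + m ^ 2`,
i.e. the induced linear maps of `m / m ^ 2` are upper triangular in the basis given by the `u_i`.
Then the system `u` is admissible: for every choice `σ_1, …, σ_n ∈ G` the elements `σ_1 u_1, …, σ_n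
u_n` generate `m`. (The published statement is for a complete regular local ring containing a
`G`-fixed field of representatives; this row drops completeness and asks only that `G` act trivially
on the residue field.) -/
theorem result
    (A : Type u) [CommRing A] [IsRegularLocalRing A]
    (G : Type v) [Group G] [Finite G] [MulSemiringAction G A]
    (hres : ∀ (σ : G) (a : A), σ • a - a ∈ IsLocalRing.maximalIdeal A)
    (n : ℕ) (hn : ringKrullDim A = n) (u : Fin n → A)
    (hu : Ideal.span (Set.range u) = IsLocalRing.maximalIdeal A)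
    (htri : ∀ (σ : G) (i : Fin n),
      σ • u i ∈ Ideal.span (u '' {j | j ≤ i}) ⊔ IsLocalRing.maximalIdeal A ^ 2) :
    ∀ τ : Fin n → G,
      Ideal.span (Set.range fun i => τ i • u i) = IsLocalRing.maximalIdeal A := by
  classical
  intro τ
  set m := IsLocalRing.maximalIdeal A with hm
  -- the action preserves `m` and `m ^ 2`
  have hσm : ∀ (σ : G) (a : A), a ∈ m → σ • a ∈ m := by
    intro σ a ha
    rw [hm, IsLocalRing.mem_maximalIdeal, mem_nonunits_iff] at ha ⊢
    intro hunit
    apply ha
    have := hunit.map (MulSemiringAction.toRingHom G A σ⁻¹)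
    simpa using this
  have hσm2 : ∀ (σ : G) (a : A), a ∈ m ^ 2 → σ • a ∈ m ^ 2 := by
    intro σ a ha
    have h1 : Ideal.map (MulSemiringAction.toRingHom G A σ) m ≤ m := by
      rw [Ideal.map_le_iff_le_comap]
      intro x hx
      exact hσm σ x hx
    have h2 := Ideal.mem_map_of_mem (MulSemiringAction.toRingHom G A σ) ha
    rw [Ideal.map_pow] at h2
    exact Ideal.pow_right_mono h1 2 h2
  set J : Ideal A := Ideal.span (Set.range fun i => τ i • u i) ⊔ m ^ 2 with hJ
  have hm2J : m ^ 2 ≤ J := le_sup_right
  have hτJ : ∀ i, τ i • u i ∈ J := fun i =>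
    Ideal.mem_sup_left (Ideal.subset_span ⟨i, rfl⟩)
  -- every `u i` lies in `J`
  have hclaim : ∀ (k : ℕ) (i : Fin n), i.val = k → u i ∈ J := by
    intro k
    induction k using Nat.strong_induction_on with
    | _ k ih =>
      intro i hik
      have hlt : ∀ j : Fin n, j < i → u j ∈ J := fun j hj => ih j.val (by omega) j rfl
      -- images of `u j`, `j < i`, under any `σ` are in `J`
      have hlt' : ∀ (σ : G) (j : Fin n), j < i → σ • u j ∈ J := by
        intro σ j hj
        have h1 := htri σ j
        refine (sup_le ?_ hm2J) h1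
        rw [Ideal.span_le]
        rintro _ ⟨l, hl, rfl⟩
        exact hlt l (lt_of_le_of_lt hl hj)
      have h0 := htri (τ i)⁻¹ i
      have hset : {j : Fin n | j ≤ i} = {i} ∪ {j | j < i} := by
        ext j
        simp only [Set.mem_ofPred_eq, Set.mem_union, Set.mem_singleton_iff]
        rw [le_iff_eq_or_lt]
      rw [hset, Set.image_union, Set.image_singleton, Ideal.span_union] at h0
      obtain ⟨x, hx, z, hz, hxz⟩ := Submodule.mem_sup.1 h0
      obtain ⟨w, hw, y, hy, hwy⟩ := Submodule.mem_sup.1 hx
      obtain ⟨c, rfl⟩ := Ideal.mem_span_singleton'.1 hw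
      have hu : u i = (τ i • c) * (τ i • u i) + τ i • y + τ i • z := by
        calc u i = τ i • ((τ i)⁻¹ • u i) := (smul_inv_smul _ _).symm
          _ = _ := by rw [← hxz, ← hwy, smul_add, smul_add, smul_mul']
      rw [hu]
      refine J.add_mem (J.add_mem (J.mul_mem_left _ (hτJ i)) ?_) (hm2J (hσm2 _ _ hz))
      -- `τ i • y ∈ J`
      have h2 := Ideal.mem_map_of_mem (MulSemiringAction.toRingHom G A (τ i)) hy
      rw [Ideal.map_span] at h2
      refine (Ideal.span_le.2 ?_) h2
      rintro _ ⟨_, ⟨j, hj, rfl⟩, rfl⟩
      exact hlt' (τ i) j hj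
  -- so `m ≤ J`
  have hmJ : m ≤ J := by
    rw [← hu, Ideal.span_le]
    rintro _ ⟨i, rfl⟩
    exact hclaim i.val i rfl
  -- the span is inside `m`
  have hle : Ideal.span (Set.range fun i => τ i • u i) ≤ m := by
    rw [Ideal.span_le]
    rintro _ ⟨i, rfl⟩
    apply hσm
    rw [← hu]
    exact Ideal.subset_span ⟨i, rfl⟩
  apply le_antisymm hle
  -- Nakayama
  have hfg : (m : Submodule A A).FG := by
    rw [← hu]
    exact Submodule.fg_span (Set.finite_range u)
  exact Submodule.le_of_le_smul_of_le_jacobson_bot (I := m) hfg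
    (IsLocalRing.jacobson_eq_maximalIdeal ⊥ bot_ne_top).ge (by
      rw [smul_eq_mul, ← pow_two]
      exact hmJ)

end Groth.Agent.S15795
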