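import Groth.Statements.S15796
import Mathlib

set_option autoImplicit false
universe u v
open WildQuot

namespace Groth.Agent.S15796

/-- Let `A` be a Noetherian local ring of Krull dimension `n` whose maximal ideal `m` is generated by
`u_1, …, u_n`, and let a finite group `G` act on `A` by ring automorphisms. If some `σ ∈ G` maps
some `u_i` into the ideal generated by the `u_j` with `j ≠ i`, then the system `u` is not weakly
admissible: for some choice `σ_1, …, σ_n ∈ G` the radical of `(σ_1 u_1, …, σ_n u_n)` does not
contain `m`. (The published statement is for a linear action on `k[[u_1, …, u_n]]` whose matrix has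
a zero diagonal entry; this row assumes instead that some `σ u_i` lies in the ideal generated by the
other `u_j`.) -/
theorem result
    (A : Type u) [CommRing A] [IsLocalRing A] [IsNoetherianRing A]
    (G : Type v) [Group G] [Finite G] [MulSemiringAction G A]
    (n : ℕ) (hn : ringKrullDim A = n) (u : Fin n → A)
    (hu : Ideal.span (Set.range u) = IsLocalRing.maximalIdeal A)
    (σ : G) (i : Fin n) (hσ : σ • u i ∈ Ideal.span (u '' {j | j ≠ i})) :
    ∃ τ : Fin n → G,
      ¬ IsLocalRing.maximalIdeal A ≤ (Ideal.span (Set.range fun j => τ j • u j)).radical := by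
  classical
  refine ⟨fun j => if j = i then σ else 1, ?_⟩
  intro hle
  set m := IsLocalRing.maximalIdeal A with hm
  let s : Finset A := (Finset.univ.erase i).image u
  have hs_coe : (s : Set A) = u '' {j | j ≠ i} := by
    ext x; simp [s]
  have hJ'le : Ideal.span (s : Set A) ≤ m := by
    rw [← hu, hs_coe]
    exact Ideal.span_mono (Set.image_subset_range _ _)
  have hJle : Ideal.span (Set.range fun j => (if j = i then σ else 1) • u j) ≤ Ideal.span (s : Set A) := by
    rw [Ideal.span_le]
    rintro _ ⟨j, rfl⟩
    by_cases hj : j = i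
    · subst hj
      simp only [if_true]
      rw [hs_coe]
      exact hσ
    · simp only [if_neg hj, one_smul]
      apply Ideal.subset_span
      rw [hs_coe]
      exact ⟨j, hj, rfl⟩
  have hmin : m ∈ (Ideal.span (s : Set A)).minimalPrimes := by
    refine ⟨⟨IsLocalRing.maximalIdeal.isMaximal A |>.isPrime, hJ'le⟩, ?_⟩
    rintro q ⟨hq, hJq⟩ _
    calc m ≤ (Ideal.span (Set.range fun j => (if j = i then σ else 1) • u j)).radical := hle
      _ ≤ (Ideal.span (s : Set A)).radical := Ideal.radical_mono hJle
      _ ≤ q := hq.radical_le_iff.mpr hJq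
  have hheight := Ideal.height_le_card_of_mem_minimalPrimes_span_finset hmin
  have hcard : s.card ≤ n - 1 := by
    calc s.card ≤ (Finset.univ.erase i).card := Finset.card_image_le
      _ = n - 1 := by simp
  have hdim : ((m.height : ℕ∞) : WithBot ℕ∞) = (n : WithBot ℕ∞) := by
    rw [hm, IsLocalRing.maximalIdeal_height_eq_ringKrullDim, hn]
  have hn1 : 1 ≤ n := by
    have := i.2
    omega
  have h2 : m.height ≤ ((n - 1 : ℕ) : ℕ∞) := hheight.trans (by exact_mod_cast hcard)
  have h3 : (m.height : WithBot ℕ∞) ≤ (((n - 1 : ℕ) : ℕ∞) : WithBot ℕ∞) := by exact_mod_cast h2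
  rw [hdim] at h3
  have h4 : (n : ℕ∞) ≤ ((n - 1 : ℕ) : ℕ∞) := by exact_mod_cast h3
  have h5 : n ≤ n - 1 := by exact_mod_cast h4
  omega

end Groth.Agent.S15796
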