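import Groth.Statements.S15806
import Groth.Agent.S14271
import Mathlib

set_option autoImplicit false
universe u
open CategoryTheory AlgebraicGeometry
open WildQuot

namespace Groth.Agent.S15806

lemma exists_regular_of_not_ass (R : Type u) [CommRing R] [IsLocalRing R] [IsNoetherianRing R]
    (h : IsLocalRing.maximalIdeal R ∉ associatedPrimes R R) :
    ∃ t ∈ IsLocalRing.maximalIdeal R, IsSMulRegular R t := by
  classical
  by_contra hno
  push Not at hno
  have hsub : (IsLocalRing.maximalIdeal R : Set R) ⊆ ⋃ p ∈ associatedPrimes R R, (p : Set R) := by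
    rw [biUnion_associatedPrimes_eq_compl_regular]
    intro t ht
    exact hno t ht
  have hfin : (associatedPrimes R R).Finite := associatedPrimes.finite R R
  have hsub' : (IsLocalRing.maximalIdeal R : Set R) ⊆
      ⋃ p ∈ (↑hfin.toFinset : Set (Ideal R)), ((id p : Ideal R) : Set R) := by
    rw [hfin.coe_toFinset]
    exact hsub
  rw [Ideal.subset_union_prime (f := id) ⊥ ⊥] at hsub'
  · obtain ⟨p, hp, hle⟩ := hsub'
    rw [Set.Finite.mem_toFinset] at hp
    have hpp : p.IsPrime := hp.isPrime
    have : p = IsLocalRing.maximalIdeal R :=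
      le_antisymm (IsLocalRing.le_maximalIdeal hpp.ne_top) hle
    exact h (this ▸ hp)
  · intro p hp _ _
    rw [Set.Finite.mem_toFinset] at hp
    exact hp.isPrime

/-- Let `S` be a Noetherian scheme, `G_1 → S` and `G_2 → S` finite flat morphisms, and `U ⊆ S` an open
subset containing every associated point of `S`, i.e. every point whose local ring has the maximal
ideal as an associated prime (for `S` Noetherian this says exactly that `U` is dense and contains
all points at which `S` does not satisfy Serre's condition `S_1`, which is the printed hypothesis).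
If two `S`-morphisms `φ, ψ : G_1 → G_2` agree on the preimage of `U`, then `φ = ψ`. -/
theorem result
    (S G₁ G₂ : Scheme.{u}) [AlgebraicGeometry.IsNoetherian S] (f₁ : G₁ ⟶ S) (f₂ : G₂ ⟶ S)
    [AlgebraicGeometry.IsFinite f₁] [AlgebraicGeometry.Flat f₁]
    [AlgebraicGeometry.IsFinite f₂] [AlgebraicGeometry.Flat f₂]
    (U : S.Opens)
    (hU : ∀ s : S, IsLocalRing.maximalIdeal (S.presheaf.stalk s) ∈
        associatedPrimes (S.presheaf.stalk s) (S.presheaf.stalk s) → s ∈ U)
    (φ ψ : G₁ ⟶ G₂) (hφ : φ ≫ f₂ = f₁) (hψ : ψ ≫ f₂ = f₁)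
    (h : (f₁ ⁻¹ᵁ U).ι ≫ φ = (f₁ ⁻¹ᵁ U).ι ≫ ψ) : φ = ψ := by
  haveI : IsLocallyNoetherian G₁ := LocallyOfFiniteType.isLocallyNoetherian f₁
  have hZ : ∀ z : G₁, z ∉ f₁ ⁻¹ᵁ U →
      ∃ a ∈ IsLocalRing.maximalIdeal (G₁.presheaf.stalk z), IsSMulRegular (G₁.presheaf.stalk z) a := by
    intro z hz
    have hs : IsLocalRing.maximalIdeal (S.presheaf.stalk (f₁.base z)) ∉
        associatedPrimes (S.presheaf.stalk (f₁.base z)) (S.presheaf.stalk (f₁.base z)) :=
      fun hmem => hz (hU _ hmem)
    obtain ⟨t, ht, hreg⟩ := exists_regular_of_not_ass _ hs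
    have hflat : (f₁.stalkMap z).hom.Flat := Flat.stalkMap f₁ z
    refine ⟨(f₁.stalkMap z).hom t, ?_, ?_⟩
    · rw [IsLocalRing.mem_maximalIdeal] at ht ⊢
      intro hu
      exact ht (isUnit_of_map_unit (f₁.stalkMap z).hom t hu)
    · letI : Algebra (S.presheaf.stalk (f₁.base z)) (G₁.presheaf.stalk z) :=
        (f₁.stalkMap z).hom.toAlgebra
      haveI : Module.Flat (S.presheaf.stalk (f₁.base z)) (G₁.presheaf.stalk z) := hflat
      have h1 : IsSMulRegular (G₁.presheaf.stalk z) t := hreg.of_flat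
      intro x y hxy
      apply h1
      exact hxy
  let s₁ : G₁ ⟶ Limits.pullback f₁ f₂ := Limits.pullback.lift (𝟙 G₁) φ (by rw [Category.id_comp, hφ])
  let s₂ : G₁ ⟶ Limits.pullback f₁ f₂ := Limits.pullback.lift (𝟙 G₁) ψ (by rw [Category.id_comp, hψ])
  have hs : s₁ = s₂ := by
    refine Groth.Agent.S14271.result G₁ (f₁ ⁻¹ᵁ U) hZ (Limits.pullback f₁ f₂)
      (Limits.pullback.fst f₁ f₂) s₁ s₂ (Limits.pullback.lift_fst _ _ _)
      (Limits.pullback.lift_fst _ _ _) ?_
    apply Limits.pullback.hom_ext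
    · rw [Category.assoc, Category.assoc, Limits.pullback.lift_fst, Limits.pullback.lift_fst]
    · rw [Category.assoc, Category.assoc, Limits.pullback.lift_snd, Limits.pullback.lift_snd]
      exact h
  have h3 := congrArg (fun k => k ≫ Limits.pullback.snd f₁ f₂) hs
  simp only [s₁, s₂] at h3
  rw [Limits.pullback.lift_snd, Limits.pullback.lift_snd] at h3
  exact h3

end Groth.Agent.S15806
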