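import Groth.Statements.S15811
import Mathlib

set_option autoImplicit false
universe u
open WildQuot

namespace Groth.Agent.S15811

/-- Let `R` be an integrally closed domain of prime characteristic `p` with fraction field `K`, and `α ∈
R`. Then `α ≠ 0` and the polynomial `T ^ p - α T` splits into linear factors over `K` — which says
that the finite flat group scheme `Spec R[T]/(T ^ p - α T)` of order `p` has constant generic fibre
(its `p` roots are then distinct) — if and only if `α = a ^ (p-1)` for some nonzero `a ∈ R`. (The
published statement is that the generic fibre of the finite flat group scheme of order `p` with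
parameters `α, β` satisfying `α β = 0`, whose underlying scheme is `Spec R[T]/(T ^ p - α T)`, is
constant if and only if `β = 0` and `α` is the `(p-1)`-th power of a nonzero element of `R`; this
row states the polynomial condition, in which `α ≠ 0` already forces `β = 0` over a domain.) -/
theorem result
    (p : ℕ) [Fact p.Prime] (R : Type u) [CommRing R] [IsDomain R] [IsIntegrallyClosed R]
    [CharP R p] (α : R) :
    (α ≠ 0 ∧ (Polynomial.map (algebraMap R (FractionRing R))
        (Polynomial.X ^ p - Polynomial.C α * Polynomial.X)).Splits) ↔
      ∃ a : R, a ≠ 0 ∧ α = a ^ (p - 1) := by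
  classical
  have hp := (Fact.out : p.Prime)
  have hp1 : p - 1 ≠ 0 := by have := hp.two_le; omega
  have hpp : p = (p - 1) + 1 := by omega
  haveI : CharP (FractionRing R) p :=
    charP_of_injective_algebraMap (IsFractionRing.injective R (FractionRing R)) p
  constructor
  · rintro ⟨hα, hs⟩
    -- the factor `X ^ (p-1) - C α`
    have hdvd : (Polynomial.X ^ (p - 1) - Polynomial.C (algebraMap R (FractionRing R) α)) ∣
        Polynomial.map (algebraMap R (FractionRing R))
          (Polynomial.X ^ p - Polynomial.C α * Polynomial.X) := by
      refine ⟨Polynomial.X, ?_⟩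
      simp only [Polynomial.map_sub, Polynomial.map_pow, Polynomial.map_X, Polynomial.map_mul,
        Polynomial.map_C]
      conv_lhs => rw [hpp]
      ring
    have hne : Polynomial.map (algebraMap R (FractionRing R))
        (Polynomial.X ^ p - Polynomial.C α * Polynomial.X) ≠ 0 := by
      intro h0
      have := congrArg (fun q => Polynomial.coeff q 1) h0
      simp only [Polynomial.map_sub, Polynomial.map_pow, Polynomial.map_X, Polynomial.map_mul,
        Polynomial.map_C, Polynomial.coeff_sub, Polynomial.coeff_X_pow, Polynomial.coeff_C_mul,
        Polynomial.coeff_X_one, mul_one, Polynomial.coeff_zero] at this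
      rw [if_neg (by have := hp.two_le; omega)] at this
      have h2 : algebraMap R (FractionRing R) α = 0 := by
        rw [zero_sub, neg_eq_zero] at this
        exact this
      exact hα ((IsFractionRing.injective R (FractionRing R)) (by rw [h2, map_zero]))
    have hs' := hs.of_dvd hne hdvd
    have hdeg : (Polynomial.X ^ (p - 1) - Polynomial.C (algebraMap R (FractionRing R) α)).degree ≠ 0 := by
      rw [Polynomial.degree_X_pow_sub_C (Nat.pos_of_ne_zero hp1)]
      exact_mod_cast hp1
    obtain ⟨b, hb⟩ := hs'.exists_eval_eq_zero hdeg
    simp only [Polynomial.eval_sub, Polynomial.eval_pow, Polynomial.eval_X, Polynomial.eval_C,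
      sub_eq_zero] at hb
    have hint : IsIntegral R b := by
      refine ⟨Polynomial.X ^ (p - 1) - Polynomial.C α, Polynomial.monic_X_pow_sub_C α hp1, ?_⟩
      simp [hb]
    obtain ⟨a, rfl⟩ := IsIntegrallyClosed.isIntegral_iff.1 hint
    refine ⟨a, ?_, ?_⟩
    · rintro rfl
      rw [map_zero, zero_pow hp1] at hb
      exact hα ((IsFractionRing.injective R (FractionRing R)) (by rw [← hb, map_zero]))
    · apply IsFractionRing.injective R (FractionRing R)
      rw [← hb, map_pow]
  · rintro ⟨a, ha, rfl⟩
    refine ⟨pow_ne_zero _ ha, ?_⟩
    letI : Algebra (ZMod p) (FractionRing R) := ZMod.algebra _ p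
    have h1 : (Polynomial.X ^ p - Polynomial.X : Polynomial (FractionRing R)).Splits := by
      have := FiniteField.splits_X_pow_card_sub_X (p := p) (K := ZMod p)
      rw [ZMod.card] at this
      have h2 := this.map (algebraMap (ZMod p) (FractionRing R))
      simpa using h2
    have ha' : algebraMap R (FractionRing R) a ≠ 0 := by
      intro h
      exact ha ((IsFractionRing.injective R (FractionRing R)) (by rw [h, map_zero]))
    have h3 : Polynomial.map (algebraMap R (FractionRing R))
        (Polynomial.X ^ p - Polynomial.C (a ^ (p - 1)) * Polynomial.X) =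
        Polynomial.C ((algebraMap R (FractionRing R) a) ^ p) *
          (Polynomial.X ^ p - Polynomial.X : Polynomial (FractionRing R)).comp
            (Polynomial.C (algebraMap R (FractionRing R) a)⁻¹ * Polynomial.X) := by
      simp only [Polynomial.map_sub, Polynomial.map_pow, Polynomial.map_X, Polynomial.map_mul,
        Polynomial.map_C, Polynomial.sub_comp, Polynomial.pow_comp, Polynomial.X_comp, mul_pow,
        ← Polynomial.C_pow, mul_sub, ← mul_assoc, ← Polynomial.C_mul]
      congr 2
      · rw [← mul_pow, mul_inv_cancel₀ ha', one_pow, map_one, one_mul]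
      · congr 1
        rw [map_pow]
        conv_rhs => rw [hpp, pow_succ, mul_assoc, mul_inv_cancel₀ ha', mul_one]
    rw [h3]
    exact (h1.comp_of_natDegree_le_one (by
      refine (Polynomial.natDegree_C_mul_le _ _).trans ?_
      simp)).C_mul _

end Groth.Agent.S15811
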