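import Groth.Statements.S15818
import Mathlib

set_option autoImplicit false
universe u
open CategoryTheory
open Koszul

namespace Groth.Agent.S15818

open CategoryTheory.Limits in
/-- The underlying module-theoretic statement. -/
theorem aux (A : Type u) [CommRing A] (M : Type u) [AddCommGroup M] [Module A M]
    (Z B : Submodule A M) (hBZ : B ≤ Z) (x : A)
    (hxH : IsSMulRegular (↥Z ⧸ Submodule.comap Z.subtype B) x) :
    IsPullback
      (ModuleCat.ofHom (Submodule.factor (Submodule.comap_mono (Submodule.smul_mono le_rfl hBZ) :
        Submodule.comap Z.subtype (Ideal.span {x} • B) ≤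
          Submodule.comap Z.subtype (Ideal.span {x} • Z))))
      (ModuleCat.ofHom (Submodule.factor (Submodule.comap_mono (Submodule.smul_le_right) :
        Submodule.comap Z.subtype (Ideal.span {x} • B) ≤ Submodule.comap Z.subtype B)))
      (ModuleCat.ofHom (Submodule.factor (Submodule.comap_mono le_sup_right :
        Submodule.comap Z.subtype (Ideal.span {x} • Z) ≤
          Submodule.comap Z.subtype (B ⊔ Ideal.span {x} • Z))))
      (ModuleCat.ofHom (Submodule.factor (Submodule.comap_mono le_sup_left :
        Submodule.comap Z.subtype B ≤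
          Submodule.comap Z.subtype (B ⊔ Ideal.span {x} • Z)))) := by
  have hw : (ModuleCat.ofHom (Submodule.factor (Submodule.comap_mono (Submodule.smul_mono le_rfl hBZ) :
        Submodule.comap Z.subtype (Ideal.span {x} • B) ≤
          Submodule.comap Z.subtype (Ideal.span {x} • Z)))) ≫
      (ModuleCat.ofHom (Submodule.factor (Submodule.comap_mono le_sup_right :
        Submodule.comap Z.subtype (Ideal.span {x} • Z) ≤
          Submodule.comap Z.subtype (B ⊔ Ideal.span {x} • Z)))) =
      (ModuleCat.ofHom (Submodule.factor (Submodule.comap_mono (Submodule.smul_le_right) :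
        Submodule.comap Z.subtype (Ideal.span {x} • B) ≤ Submodule.comap Z.subtype B))) ≫
      (ModuleCat.ofHom (Submodule.factor (Submodule.comap_mono le_sup_left :
        Submodule.comap Z.subtype B ≤
          Submodule.comap Z.subtype (B ⊔ Ideal.span {x} • Z)))) := by
    ext z
    rfl
  apply IsPullback.of_map (forget (ModuleCat A)) hw
  rw [Types.isPullback_iff]
  refine ⟨?_, ?_, ?_⟩
  · rw [← Functor.map_comp, ← Functor.map_comp, hw]
  · rintro z₁ z₂ ⟨h1, h2⟩
    obtain ⟨z₁, rfl⟩ := Submodule.Quotient.mk_surjective _ z₁
    obtain ⟨z₂, rfl⟩ := Submodule.Quotient.mk_surjective _ z₂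
    have h1' : Submodule.Quotient.mk (p := Submodule.comap Z.subtype (Ideal.span {x} • Z)) z₁ =
        Submodule.Quotient.mk z₂ := h1
    have h2' : Submodule.Quotient.mk (p := Submodule.comap Z.subtype B) z₁ =
        Submodule.Quotient.mk z₂ := h2
    rw [Submodule.Quotient.eq] at h1' h2' ⊢
    rw [Submodule.mem_comap] at h1' h2' ⊢
    rw [Submodule.ideal_span_singleton_smul, Submodule.mem_smul_pointwise_iff_exists] at h1' ⊢
    obtain ⟨w, hwZ, hw⟩ := h1'
    refine ⟨w, ?_, hw⟩
    have h3 : x • (Submodule.Quotient.mk (p := Submodule.comap Z.subtype B) ⟨w, hwZ⟩) =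
        x • 0 := by
      rw [smul_zero, ← Submodule.Quotient.mk_smul, Submodule.Quotient.mk_eq_zero,
        Submodule.mem_comap]
      show x • w ∈ B
      rw [hw]
      exact h2'
    have h4 := hxH h3
    rw [Submodule.Quotient.mk_eq_zero, Submodule.mem_comap] at h4
    exact h4
  · rintro a b hab
    obtain ⟨a, rfl⟩ := Submodule.Quotient.mk_surjective _ a
    obtain ⟨b, rfl⟩ := Submodule.Quotient.mk_surjective _ b
    have hab' : Submodule.Quotient.mk
        (p := Submodule.comap Z.subtype (B ⊔ Ideal.span {x} • Z)) a =
        Submodule.Quotient.mk b := hab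
    rw [Submodule.Quotient.eq, Submodule.mem_comap, Submodule.mem_sup] at hab'
    obtain ⟨β, hβ, γ, hγ, hsum⟩ := hab'
    rw [Submodule.ideal_span_singleton_smul, Submodule.mem_smul_pointwise_iff_exists] at hγ
    obtain ⟨w, hwZ, rfl⟩ := hγ
    refine ⟨Submodule.Quotient.mk (a - x • ⟨w, hwZ⟩), ?_, ?_⟩
    · show Submodule.Quotient.mk (p := Submodule.comap Z.subtype (Ideal.span {x} • Z))
        (a - x • ⟨w, hwZ⟩) = Submodule.Quotient.mk a
      rw [Submodule.Quotient.eq, Submodule.mem_comap, Submodule.ideal_span_singleton_smul,
        Submodule.mem_smul_pointwise_iff_exists]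
      refine ⟨-w, Z.neg_mem hwZ, ?_⟩
      simp
    · show Submodule.Quotient.mk (p := Submodule.comap Z.subtype B)
        (a - x • ⟨w, hwZ⟩) = Submodule.Quotient.mk b
      rw [Submodule.Quotient.eq, Submodule.mem_comap]
      have : Z.subtype (a - x • ⟨w, hwZ⟩ - b) = β := by
        simp only [Submodule.subtype_apply, Submodule.coe_sub, Submodule.coe_smul] at hsum ⊢
        have h5 : (a : M) - x • w - (b : M) = ((a : M) - (b : M)) - x • w := by abel
        rw [h5, ← hsum]
        abel
      rw [this]
      exact hβ

/-- Let A be a commutative ring, f = (f_1, …, f_n) a finite sequence in A with Koszul complex K = K(f)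
(mapping-cone model) and differentials ∂, q an integer, Z = Ker(∂^q) and B = Im(∂^{q-1}), so B ⊆ Z
inside K^q (this inclusion is carried as the hypothesis hBZ). Let x be a non-zero-divisor of A which
moreover acts injectively on the cohomology module Z/B (for Noetherian A this says that x lies in no
associated prime of Z/B, which is how the published statement phrases it; the published argument
uses exactly the injectivity). Then the commuting square of quotient projections with corners Z/xB
(top left; it is isomorphic to the q-th cohomology of the Koszul complex of (x f_1, …, x f_n)), Z/xZ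
= Z ⊗ A/(x) (top right), Z/B (bottom left) and Z/(B + xZ) = (Z/B) ⊗ A/(x) (bottom right) is
cartesian in the category of A-modules. All four corners are written as quotients of Z by the
preimages of the submodules xB, xZ, B, B + xZ of K^q. -/
theorem result (A : Type u) [CommRing A] (l : List A) (q : ℤ)
    (K : CochainComplex (ModuleCat.{u} A) ℤ) (hK : K = Koszul.koszul A l)
    (hBZ : LinearMap.range (K.d (q - 1) q).hom ≤ LinearMap.ker (K.d q (q + 1)).hom)
    (x : A) (hx : x ∈ nonZeroDivisors A)
    (hxH : IsSMulRegular (↥(LinearMap.ker (K.d q (q + 1)).hom) ⧸ Submodule.comap (LinearMap.ker (K.d q (q + 1)).hom).subtype (LinearMap.range (K.d (q - 1) q).hom)) x) :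
    IsPullback
      (ModuleCat.ofHom (Submodule.factor (Submodule.comap_mono (Submodule.smul_mono le_rfl hBZ) :
        Submodule.comap (LinearMap.ker (K.d q (q + 1)).hom).subtype (Ideal.span {x} • LinearMap.range (K.d (q - 1) q).hom) ≤
          Submodule.comap (LinearMap.ker (K.d q (q + 1)).hom).subtype (Ideal.span {x} • LinearMap.ker (K.d q (q + 1)).hom))))
      (ModuleCat.ofHom (Submodule.factor (Submodule.comap_mono (Submodule.smul_le_right) :
        Submodule.comap (LinearMap.ker (K.d q (q + 1)).hom).subtype (Ideal.span {x} • LinearMap.range (K.d (q - 1) q).hom) ≤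
          Submodule.comap (LinearMap.ker (K.d q (q + 1)).hom).subtype (LinearMap.range (K.d (q - 1) q).hom))))
      (ModuleCat.ofHom (Submodule.factor (Submodule.comap_mono le_sup_right :
        Submodule.comap (LinearMap.ker (K.d q (q + 1)).hom).subtype (Ideal.span {x} • LinearMap.ker (K.d q (q + 1)).hom) ≤
          Submodule.comap (LinearMap.ker (K.d q (q + 1)).hom).subtype (LinearMap.range (K.d (q - 1) q).hom ⊔ Ideal.span {x} • LinearMap.ker (K.d q (q + 1)).hom))))
      (ModuleCat.ofHom (Submodule.factor (Submodule.comap_mono le_sup_left :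
        Submodule.comap (LinearMap.ker (K.d q (q + 1)).hom).subtype (LinearMap.range (K.d (q - 1) q).hom) ≤
          Submodule.comap (LinearMap.ker (K.d q (q + 1)).hom).subtype (LinearMap.range (K.d (q - 1) q).hom ⊔ Ideal.span {x} • LinearMap.ker (K.d q (q + 1)).hom)))) := by
  exact aux A _ _ _ hBZ x hxH

end Groth.Agent.S15818
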