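import Groth.Statements.S15832
import Mathlib

set_option autoImplicit false
universe u
open TopGrp

namespace Groth.Agent.S15832

section helpers
variable {T : Type u} [Group T]

def B (𝒮 : Set (Subgroup T)) : Set (Set T) :=
  {S | ∃ Γ ∈ 𝒮, ∃ x y : T, S = (fun g : T => x * g * y) '' (Γ : Set T)}

theorem key (𝒮 : Set (Subgroup T)) :
    @NonarchimedeanGroup T _ (TopologicalSpace.generateFrom (B 𝒮)) := by
  letI τ : TopologicalSpace T := TopologicalSpace.generateFrom (B 𝒮)
  have hopen : ∀ S ∈ B 𝒮, IsOpen S := fun S hS => TopologicalSpace.isOpen_generateFrom_of_mem hS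
  have hmemB : ∀ Γ ∈ 𝒮, ∀ x y : T, (fun g : T => x * g * y) '' (Γ : Set T) ∈ B 𝒮 :=
    fun Γ hΓ x y => ⟨Γ, hΓ, x, y, rfl⟩
  have hinv : Continuous (fun a : T => a⁻¹) := by
    rw [continuous_generateFrom_iff]
    rintro S ⟨Γ, hΓ, x, y, rfl⟩
    have : (fun a : T => a⁻¹) ⁻¹' ((fun g : T => x * g * y) '' (Γ : Set T)) =
        (fun g : T => y⁻¹ * g * x⁻¹) '' (Γ : Set T) := by
      ext a
      simp only [Set.mem_preimage, Set.mem_image, SetLike.mem_coe]
      constructor
      · rintro ⟨γ, hγ, h⟩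
        refine ⟨γ⁻¹, Γ.inv_mem hγ, ?_⟩
        rw [← inv_inv a, ← h]; group
      · rintro ⟨γ, hγ, rfl⟩
        exact ⟨γ⁻¹, Γ.inv_mem hγ, by group⟩
    rw [this]
    exact hopen _ (hmemB Γ hΓ _ _)
  have hmul : Continuous (fun p : T × T => p.1 * p.2) := by
    rw [continuous_generateFrom_iff]
    rintro S ⟨Γ, hΓ, x, y, rfl⟩
    rw [isOpen_prod_iff]
    rintro a b ⟨γ, hγ, hab⟩
    refine ⟨(fun g : T => (a * b * y⁻¹) * g * (y * b⁻¹)) '' (Γ : Set T),
      (fun g : T => (b * y⁻¹) * g * y) '' (Γ : Set T), hopen _ (hmemB Γ hΓ _ _),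
      hopen _ (hmemB Γ hΓ _ _), ⟨1, Γ.one_mem, by group⟩, ⟨1, Γ.one_mem, by group⟩, ?_⟩
    rintro ⟨u, w⟩ ⟨⟨γ₁, hγ₁, rfl⟩, ⟨γ₂, hγ₂, rfl⟩⟩
    refine ⟨γ * γ₁ * γ₂, Γ.mul_mem (Γ.mul_mem hγ hγ₁) hγ₂, ?_⟩
    have h1 : a * b * y⁻¹ = x * γ := by
      have : x * γ * y = a * b := hab
      rw [← this]; group
    simp only
    rw [h1]; group
  haveI : IsTopologicalGroup T := { continuous_mul := hmul, continuous_inv := hinv }
  refine { is_nonarchimedean := ?_ }
  intro U hU
  obtain ⟨W, hWbasis, h1W, hWU⟩ :=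
    (TopologicalSpace.isTopologicalBasis_of_subbasis rfl).mem_nhds_iff.1 hU
  obtain ⟨f, ⟨hfin, hfB⟩, rfl⟩ := hWbasis
  have claim : ∀ f : Set (Set T), f.Finite → f ⊆ B 𝒮 → (1 : T) ∈ ⋂₀ f →
      ∃ V : OpenSubgroup T, (V : Set T) ⊆ ⋂₀ f := by
    intro f hfin
    induction f, hfin using Set.Finite.induction_on with
    | empty => intro _ _; exact ⟨⊤, by simp⟩
    | @insert S f hS hfin ih =>
      intro hsub h1
      have hsub' : f ⊆ B 𝒮 := fun s hs => hsub (Set.mem_insert_of_mem _ hs)
      have h1' : (1 : T) ∈ ⋂₀ f := fun s hs => h1 s (Set.mem_insert_of_mem _ hs)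
      obtain ⟨V, hV⟩ := ih hsub' h1'
      have hSB : S ∈ B 𝒮 := hsub (Set.mem_insert _ _)
      have h1S : (1 : T) ∈ S := h1 S (Set.mem_insert _ _)
      obtain ⟨Γ, hΓ, x, y, rfl⟩ := hSB
      obtain ⟨γ, hγ, hγ1⟩ := h1S
      have hy : y = γ⁻¹ * x⁻¹ := by
        have : x * γ * y = 1 := hγ1
        calc y = (x * γ)⁻¹ * (x * γ * y) := by group
          _ = γ⁻¹ * x⁻¹ := by rw [this]; group
      let H : Subgroup T := Γ.map (MulAut.conj x).toMonoidHom
      have hHS : (H : Set T) = (fun g : T => x * g * y) '' (Γ : Set T) := by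
        ext g
        simp only [H, Subgroup.coe_map, Set.mem_image, SetLike.mem_coe, MulEquiv.coe_toMonoidHom,
          MulAut.conj_apply]
        constructor
        · rintro ⟨δ, hδ, rfl⟩
          exact ⟨δ * γ, Γ.mul_mem hδ hγ, by rw [hy]; group⟩
        · rintro ⟨δ, hδ, rfl⟩
          exact ⟨δ * γ⁻¹, Γ.mul_mem hδ (Γ.inv_mem hγ), by rw [hy]; group⟩
      have hHopen : IsOpen (H : Set T) := by
        rw [hHS]; exact hopen _ (hmemB Γ hΓ _ _)
      refine ⟨V ⊓ ⟨H, hHopen⟩, ?_⟩
      intro g hg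
      rw [OpenSubgroup.coe_inf] at hg
      intro s hs
      rcases Set.mem_insert_iff.1 hs with rfl | hs
      · rw [← hHS]; exact hg.2
      · exact hV hg.1 s hs
  obtain ⟨V, hV⟩ := claim f hfin hfB h1W
  exact ⟨V, hV.trans hWU⟩

end helpers

/-- For a group T with a topology, let B be the family of two-sided translates x Γ y, where Γ runs over
the subgroups of T open in the given topology and x, y over T; the topology generated by B makes T a
topological group in which every neighbourhood of the identity contains a subgroup open for that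
topology. (The published statement is for the free topological product of two Noohi groups whose
open subgroups form a basis of neighbourhoods of the identity; the argument uses only the group
structure and the chosen family of subgroups, so the row is stated for an arbitrary group with a
topology. The published conventions include Hausdorffness in the word topological group; this row
does not assert it, and the published argument does not prove it.) -/
theorem result (T : Type u) [Group T]
    [TopologicalSpace T] :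
    @NonarchimedeanGroup T _ (TopologicalSpace.generateFrom
      {S : Set T | ∃ (Γ : OpenSubgroup T) (x y : T), S = (fun g : T => x * g * y) '' (Γ : Set T)}) := by
  have h := key (T := T) {Γ : Subgroup T | IsOpen (Γ : Set T)}
  have hB : B {Γ : Subgroup T | IsOpen (Γ : Set T)} =
      {S : Set T | ∃ (Γ : OpenSubgroup T) (x y : T), S = (fun g : T => x * g * y) '' (Γ : Set T)} := by
    ext S
    constructor
    · rintro ⟨Γ, hΓ, x, y, rfl⟩
      exact ⟨⟨Γ, hΓ⟩, x, y, rfl⟩
    · rintro ⟨Γ, x, y, rfl⟩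
      exact ⟨Γ.1, Γ.isOpen, x, y, rfl⟩
  rw [hB] at h
  exact h

end Groth.Agent.S15832
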