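import Groth.Statements.S15833
import Mathlib

set_option autoImplicit false
universe u
open EtBase

namespace Groth.Agent.S15833

section helpers
open CategoryTheory CategoryTheory.Limits AlgebraicGeometry

theorem uniq_baseChange {X X₀ Y : Scheme.{u}} (i : X₀ ⟶ X) (f : Y ⟶ X)
    (h : ValuativeCriterion.Uniqueness f) : ValuativeCriterion.Uniqueness (pullback.snd f i) := by
  intro S
  constructor
  intro l₁ l₂
  let S' : ValuativeCommSq f :=
    { R := S.R, K := S.K, i₁ := S.i₁ ≫ pullback.fst f i, i₂ := S.i₂ ≫ i,
      commSq := ⟨by simp only [Category.assoc, pullback.condition, reassoc_of% S.commSq.w]⟩ }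
  have hS' := h S'
  let m₁ : S'.commSq.LiftStruct := ⟨l₁.l ≫ pullback.fst f i, by rw [reassoc_of% l₁.fac_left],
    by rw [Category.assoc, pullback.condition, reassoc_of% l₁.fac_right]⟩
  let m₂ : S'.commSq.LiftStruct := ⟨l₂.l ≫ pullback.fst f i, by rw [reassoc_of% l₂.fac_left],
    by rw [Category.assoc, pullback.condition, reassoc_of% l₂.fac_right]⟩
  have hm : m₁ = m₂ := Subsingleton.elim _ _
  ext : 1
  apply pullback.hom_ext
  · exact congrArg (·.l) hm
  · rw [l₁.fac_right, l₂.fac_right]

theorem exists_factor {X X₀ : Scheme.{u}} (i : X₀ ⟶ X) [IsClosedImmersion i] [Surjective i]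
    {Z : Scheme.{u}} [IsReduced Z] (g : Z ⟶ X) : ∃ j : Z ⟶ X₀, j ≫ i = g := by
  haveI : IsIso (pullback.fst g i) := isIso_of_isClosedImmersion_of_surjective _
  exact ⟨inv (pullback.fst g i) ≫ pullback.snd g i,
    by rw [Category.assoc, ← pullback.condition, IsIso.inv_hom_id_assoc]⟩

theorem of_pullback {X X₀ Y : Scheme.{u}} (i : X₀ ⟶ X)
    [IsClosedImmersion i] [Surjective i] (f : Y ⟶ X)
    (h : ValuativeCriterion (pullback.snd f i)) : ValuativeCriterion f := by
  intro S
  obtain ⟨j₂, hj₂⟩ := exists_factor i S.i₂
  let S' : ValuativeCommSq (pullback.snd f i) :=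
    { R := S.R, K := S.K
      i₁ := pullback.lift S.i₁ (Spec.map (CommRingCat.ofHom (algebraMap S.R S.K)) ≫ j₂)
        (by rw [S.commSq.w, Category.assoc, hj₂])
      i₂ := j₂
      commSq := ⟨pullback.lift_snd _ _ _⟩ }
  obtain ⟨u⟩ := h S'
  refine ⟨{ default := ⟨u.default.l ≫ pullback.fst f i, ?_, ?_⟩, uniq := ?_ }⟩
  · have := u.default.fac_left
    rw [reassoc_of% this]
    exact pullback.lift_fst _ _ _
  · rw [Category.assoc, pullback.condition, reassoc_of% u.default.fac_right]; exact hj₂
  · intro l
    have hl : l.l ≫ f = j₂ ≫ i := by rw [l.fac_right, hj₂]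
    let l' : S'.commSq.LiftStruct := ⟨pullback.lift l.l j₂ hl, by
      apply pullback.hom_ext
      · rw [Category.assoc, pullback.lift_fst, pullback.lift_fst]; exact l.fac_left
      · rw [Category.assoc, pullback.lift_snd, pullback.lift_snd], pullback.lift_snd _ _ _⟩
    have h1 := u.uniq l'
    ext : 1
    have h2 : l.l = l'.l ≫ pullback.fst f i := (pullback.lift_fst _ _ _).symm
    rw [h2, h1]

end helpers

open CategoryTheory CategoryTheory.Limits AlgebraicGeometry in
/-- Let i : X₀ ⟶ X be a surjective closed immersion of schemes and f : Y ⟶ X a morphism. Then f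
satisfies the valuative criterion (existence and uniqueness of a lift in every valuative square,
over arbitrary valuation rings) if and only if its base change Y ×_X X₀ ⟶ X₀ does. (The published
statement takes X locally Noetherian and connected, X₀ the reduced closed subscheme with the same
underlying space and f étale, and combines this step with the equivalence between étale schemes over
X and over X₀ to identify the geometric coverings, i.e. the étale morphisms satisfying the valuative
criterion, of X and of X₀; the argument for this step uses only that X₀ ⟶ X is a surjective closed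
immersion and that valuation rings are reduced.) -/
theorem result {X X₀ Y : Scheme.{u}} (i : X₀ ⟶ X)
    [IsClosedImmersion i] [Surjective i] (f : Y ⟶ X) :
    ValuativeCriterion f ↔ ValuativeCriterion (pullback.snd f i) := by
  constructor
  · intro h
    rw [ValuativeCriterion.iff] at h ⊢
    exact ⟨MorphismProperty.pullback_snd _ _ h.1, uniq_baseChange i f h.2⟩
  · exact of_pullback i f

end Groth.Agent.S15833
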