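import Groth.Statements.S15835
import Mathlib

set_option autoImplicit false
universe u
open SprIso

namespace Groth.Agent.S15835

/-- Over a commutative ring R of prime characteristic p, let n ≥ 1 and let p^m be the largest power of p
dividing n. The locus of n × n matrices with characteristic polynomial t^n is stable under adding a
scalar matrix a·1 with n·a = 0 exactly when a^(p^m) = 0: for X with characteristic polynomial t^n
and such an a, the matrix X + a·1 has characteristic polynomial t^n if and only if a^(p^m) = 0.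
(Stated on points with values in an arbitrary ring of characteristic p; the scheme-theoretic
assertion about the nilpotent scheme of SL_n is this statement for all such rings.) -/
theorem result (p : ℕ) [Fact p.Prime] (R : Type u) [CommRing R]
    [CharP R p] (n : ℕ) (hn : 0 < n) (X : Matrix (Fin n) (Fin n) R) (hX : X.charpoly = Polynomial.X ^ n)
    (a : R) (ha : (n : R) * a = 0) :
    (X + Matrix.scalar (Fin n) a).charpoly = Polynomial.X ^ n ↔ a ^ (p ^ padicValNat p n) = 0 := by
  classical
  have hp : p.Prime := Fact.out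
  obtain ⟨n', hn'⟩ : p ^ padicValNat p n ∣ n := pow_padicValNat_dvd
  obtain ⟨m, hm⟩ : ∃ m, m = padicValNat p n := ⟨_, rfl⟩
  rw [← hm] at hn' ⊢
  have hq : 0 < p ^ m := pow_pos hp.pos m
  have hn'pos : 0 < n' := by
    rcases Nat.eq_zero_or_pos n' with h | h
    · rw [h, mul_zero] at hn'; omega
    · exact h
  have hndvd : ¬ p ∣ n' := by
    rintro ⟨k, hk⟩
    have : p ^ (m + 1) ∣ n := ⟨k, by rw [hn', hk, pow_succ]; ring⟩
    have := (padicValNat_dvd_iff_le hn.ne').mp this
    omega
  -- n' is a unit in R
  obtain ⟨u, hu⟩ : ∃ u : R, (n' : R) * u = 1 := by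
    have hcop : Nat.Coprime n' p := ((Nat.Prime.coprime_iff_not_dvd hp).mpr hndvd).symm
    obtain ⟨k, -, hk⟩ := Nat.exists_mul_mod_eq_one_of_coprime hcop hp.one_lt
    refine ⟨(k : R), ?_⟩
    have h1 := Nat.div_add_mod (n' * k) p
    rw [hk] at h1
    have h2 : ((n' * k : ℕ) : R) = ((p * (n' * k / p) + 1 : ℕ) : R) := by rw [h1]
    push_cast at h2
    rw [h2, CharP.cast_eq_zero R p, zero_mul, zero_add]
  have h1 : (X + Matrix.scalar (Fin n) a).charpoly = (Polynomial.X - Polynomial.C a) ^ n := by
    have : X + Matrix.scalar (Fin n) a = X - Matrix.scalar (Fin n) (-a) := by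
      rw [map_neg, sub_neg_eq_add]
    rw [this, Matrix.charpoly_sub_scalar, hX, Polynomial.X_pow_comp, Polynomial.C_neg, sub_eq_add_neg]
  have : ExpChar (Polynomial R) p := ExpChar.prime hp
  have h2 : (Polynomial.X - Polynomial.C a : Polynomial R) ^ n =
      Polynomial.expand R (p ^ m) ((Polynomial.X - Polynomial.C (a ^ p ^ m)) ^ n') := by
    rw [hn', pow_mul, sub_pow_expChar_pow, map_pow, map_sub, Polynomial.expand_X, Polynomial.expand_C,
      Polynomial.C_pow]
  have h3 : (Polynomial.X : Polynomial R) ^ n = Polynomial.expand R (p ^ m) (Polynomial.X ^ n') := by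
    rw [map_pow, Polynomial.expand_X, ← pow_mul, ← hn']
  rw [h1, h2, h3, (Polynomial.expand_injective hq).eq_iff]
  constructor
  · intro h
    obtain ⟨k, rfl⟩ : ∃ k, n' = k + 1 := ⟨n' - 1, by omega⟩
    have hc := congrArg (fun f => Polynomial.coeff f k) h
    beta_reduce at hc
    rw [sub_eq_add_neg, ← Polynomial.C_neg, Polynomial.coeff_X_add_C_pow, Polynomial.coeff_X_pow,
      if_neg (by omega), Nat.add_sub_cancel_left, pow_one, Nat.choose_succ_self_right] at hc
    have : -(a ^ p ^ m) * (((k + 1 : ℕ) : R) * u) = 0 := by rw [← mul_assoc, hc, zero_mul]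
    rw [hu, mul_one, neg_eq_zero] at this
    exact this
  · intro h
    rw [h, Polynomial.C_0, sub_zero]

end Groth.Agent.S15835
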