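import Groth.Statements.S15838
import Mathlib

set_option autoImplicit false
universe u
open scoped TensorProduct
open SprIso

namespace Groth.Agent.S15838

section helpers

open Module

variable (k : Type u) [Field k] (V : Type u) [AddCommGroup V] [Module k V]
  (R : Type u) [CommRing R] [Algebra k R]

theorem comm_of_mem_adjoin (h : Module.End R (R ⊗[k] V)) (f q : Module.End k V)
    (hq : q ∈ Algebra.adjoin k {f}) (hc : Commute h (f.baseChange R)) :
    Commute h (q.baseChange R) := by
  have h1 : (Module.End.baseChangeHom k R V) q ∈
      Algebra.adjoin k {(Module.End.baseChangeHom k R V) f} := by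
    have : (Module.End.baseChangeHom k R V) q ∈ (Algebra.adjoin k {f}).map (Module.End.baseChangeHom k R V) :=
      Subalgebra.mem_map.mpr ⟨q, hq, rfl⟩
    rwa [AlgHom.map_adjoin, Set.image_singleton] at this
  exact Algebra.commute_of_mem_adjoin_singleton_of_commute h1 hc

theorem additive [PerfectField k] [FiniteDimensional k V] (h : Module.End R (R ⊗[k] V))
    (X Y N : Module.End k V) (hY : Y.IsSemisimple) (hN : IsNilpotent N) (hYN : Commute Y N)
    (hX : X = Y + N) :
    Commute h (X.baseChange R) ↔ Commute h (Y.baseChange R) ∧ Commute h (N.baseChange R) := by
  constructor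
  · intro hc
    obtain ⟨n₀, hn₀, s₀, hs₀, hn₀nil, hs₀ss, hX0⟩ := X.exists_isNilpotent_isSemisimple
    have hcomm0 : Commute n₀ s₀ :=
      Algebra.commute_of_mem_adjoin_singleton_of_commute hs₀
        (Algebra.commute_of_mem_adjoin_self hn₀).symm
    obtain ⟨e1, e2⟩ := Module.End.isNilpotent_isSemisimple_unique hN hY hn₀nil hs₀ss hYN.symm hcomm0
      (by rw [← hX0, hX, add_comm])
    subst e1 e2
    exact ⟨comm_of_mem_adjoin k V R h X _ hs₀ hc, comm_of_mem_adjoin k V R h X _ hn₀ hc⟩
  · rintro ⟨h1, h2⟩
    rw [hX, LinearMap.baseChange_add]
    exact h1.add_right h2

end helpers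

/-- General linear group case: this is the case G = GL(V), to which the general case reduces along a
closed embedding. Let k be a perfect field and V a finite-dimensional k-vector space. If an
invertible endomorphism g of V has multiplicative Jordan decomposition g = t u (t semisimple, u
unipotent, t and u commuting), then the scheme-theoretic centralizer of g in GL(V) is the
centralizer of u inside the centralizer of t: for every commutative k-algebra R, an R-linear
endomorphism h of R ⊗ V commutes with g_R if and only if it commutes with both t_R and u_R.
Likewise, if an endomorphism X of V has additive Jordan decomposition X = Y + N (Y semisimple, N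
nilpotent, commuting), then h commutes with X_R if and only if it commutes with both Y_R and N_R. -/
theorem result (k : Type u) [Field k] [PerfectField k]
    (V : Type u) [AddCommGroup V] [Module k V] [FiniteDimensional k V]
    (R : Type u) [CommRing R] [Algebra k R] (h : Module.End R (R ⊗[k] V)) :
    (∀ (g t u : Module.End k V), IsUnit g → t.IsSemisimple → IsNilpotent (u - 1) → Commute t u → g = t * u →
      (Commute h (g.baseChange R) ↔ Commute h (t.baseChange R) ∧ Commute h (u.baseChange R))) ∧
    (∀ (X Y N : Module.End k V), Y.IsSemisimple → IsNilpotent N → Commute Y N → X = Y + N →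
      (Commute h (X.baseChange R) ↔ Commute h (Y.baseChange R) ∧ Commute h (N.baseChange R))) := by
  constructor
  · intro g t u hg ht hu htu hgtu
    have hN : IsNilpotent (g - t) := by
      have : g - t = t * (u - 1) := by rw [hgtu, mul_sub, mul_one]
      rw [this]
      exact (htu.sub_right (Commute.one_right t)).isNilpotent_mul_left hu
    have hYN : Commute t (g - t) := by
      apply Commute.sub_right _ (Commute.refl t)
      rw [hgtu]
      exact (Commute.refl t).mul_right htu
    have hadd := additive k V R h g t (g - t) ht hN hYN (by abel)
    have htunit : IsUnit t := by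
      rw [hgtu] at hg
      exact ((htu.isUnit_mul_iff).mp hg).1
    have htR : IsUnit (t.baseChange R) := htunit.map (Module.End.baseChangeHom k R V)
    have hgR : g.baseChange R = t.baseChange R * u.baseChange R := by
      rw [hgtu]; exact LinearMap.baseChange_mul _ _
    constructor
    · intro hc
      have h1 := (hadd.mp hc).1
      refine ⟨h1, ?_⟩
      have h2 : t.baseChange R * (h * u.baseChange R) = t.baseChange R * (u.baseChange R * h) := by
        calc t.baseChange R * (h * u.baseChange R)
            = (t.baseChange R * h) * u.baseChange R := (mul_assoc _ _ _).symm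
          _ = (h * t.baseChange R) * u.baseChange R := by rw [h1.eq]
          _ = h * g.baseChange R := by rw [mul_assoc, hgR]
          _ = g.baseChange R * h := hc.eq
          _ = t.baseChange R * (u.baseChange R * h) := by rw [hgR, mul_assoc]
      exact htR.mul_left_cancel h2
    · rintro ⟨h1, h2⟩
      rw [hgR]
      exact h1.mul_right h2
  · intro X Y N hY hN hYN hX
    exact additive k V R h X Y N hY hN hYN hX

end Groth.Agent.S15838
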