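import Groth.Statements.S9647
import Mathlib

set_option autoImplicit false
universe u
open CAlg

namespace Groth.Agent.S9647

open TensorProduct
open scoped Pointwise

section

variable {k K : Type u} [Field k] [Field K] [Algebra k K]

theorem smul_eq_map (g : SeparableClosure k ≃ₐ[k] SeparableClosure k) (x : SeparableClosure k ⊗[k] K) :
    g • x = Algebra.TensorProduct.map (g : SeparableClosure k →ₐ[k] SeparableClosure k)
      (AlgHom.id k K) x := by
  induction x using TensorProduct.induction_on with
  | zero => simp
  | tmul a b => simp [TensorProduct.smul_tmul', AlgEquiv.smul_def]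
  | add x y hx hy => rw [smul_add, hx, hy, map_add]

/-- the action of the Galois group on `k^sep ⊗ K` through the first factor -/
@[instance_reducible]
noncomputable def galAction :
    MulSemiringAction (SeparableClosure k ≃ₐ[k] SeparableClosure k) (SeparableClosure k ⊗[k] K) :=
  { (inferInstance : DistribMulAction (SeparableClosure k ≃ₐ[k] SeparableClosure k)
      (SeparableClosure k ⊗[k] K)) with
    smul_one := fun g => by rw [smul_eq_map, map_one]
    smul_mul := fun g x y => by rw [smul_eq_map, smul_eq_map, smul_eq_map, map_mul] }

attribute [local instance] galAction Algebra.TensorProduct.rightAlgebra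

theorem smul_def' (g : SeparableClosure k ≃ₐ[k] SeparableClosure k) (x : SeparableClosure k ⊗[k] K) :
    g • x = Algebra.TensorProduct.map (g : SeparableClosure k →ₐ[k] SeparableClosure k)
      (AlgHom.id k K) x := smul_eq_map g x

theorem smul_tmul'' (g : SeparableClosure k ≃ₐ[k] SeparableClosure k) (a : SeparableClosure k) (b : K) :
    g • (a ⊗ₜ[k] b) = (g a) ⊗ₜ[k] b := by
  rw [smul_def']
  simp

instance : SMulCommClass (SeparableClosure k ≃ₐ[k] SeparableClosure k) K (SeparableClosure k ⊗[k] K) where
  smul_comm g c x := by
    rw [Algebra.smul_def, Algebra.smul_def, smul_def', smul_def', map_mul,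
      Algebra.TensorProduct.right_algebraMap_apply]
    simp

/-- stabilizers are open -/
theorem stabilizer_open (x : SeparableClosure k ⊗[k] K) :
    IsOpen (MulAction.stabilizer (SeparableClosure k ≃ₐ[k] SeparableClosure k) x :
      Set (SeparableClosure k ≃ₐ[k] SeparableClosure k)) := by
  obtain ⟨S, hS⟩ := TensorProduct.exists_finset x
  classical
  let T : Finset (SeparableClosure k) := S.image fun j => j.1
  let E := IntermediateField.adjoin k (T : Set (SeparableClosure k))
  haveI : FiniteDimensional k E :=
    IntermediateField.finiteDimensional_adjoin (fun z _ => Algebra.IsIntegral.isIntegral z)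
  refine Subgroup.isOpen_mono (H₁ := E.fixingSubgroup) ?_ E.fixingSubgroup_isOpen
  intro g hg
  rw [MulAction.mem_stabilizer_iff, hS, Finset.smul_sum]
  refine Finset.sum_congr rfl fun s hs => ?_
  rw [smul_tmul'']
  congr 1
  rw [IntermediateField.mem_fixingSubgroup_iff] at hg
  exact hg s.1 (IntermediateField.subset_adjoin _ _ (by
    simp only [T, Finset.coe_image, Set.mem_image, Finset.mem_coe]
    exact ⟨s, hs, rfl⟩))

theorem isInvariant :
    Algebra.IsInvariant K (SeparableClosure k ⊗[k] K) (SeparableClosure k ≃ₐ[k] SeparableClosure k) := by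
  constructor
  intro x hx
  let b := Module.Free.chooseBasis k K
  let bb := Algebra.TensorProduct.basis (SeparableClosure k) b
  have key : ∀ (g : SeparableClosure k ≃ₐ[k] SeparableClosure k) (z : SeparableClosure k ⊗[k] K) i,
      bb.repr (g • z) i = g (bb.repr z i) := by
    intro g z i
    induction z using TensorProduct.induction_on with
    | zero => simp
    | tmul a c =>
      rw [smul_tmul'']
      simp [bb, Algebra.TensorProduct.basis_repr_tmul]
    | add z w hz hw =>
      rw [smul_add, map_add, Finsupp.add_apply, hz, hw, map_add, Finsupp.add_apply, map_add]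
  have hfix : ∀ i, ∃ c : k, algebraMap k (SeparableClosure k) c = bb.repr x i := by
    intro i
    have : bb.repr x i ∈ Set.range (algebraMap k (SeparableClosure k)) :=
      (InfiniteGalois.mem_range_algebraMap_iff_fixed _).mpr (fun g => (key g x i).symm.trans (congrArg (fun y => bb.repr y i) (hx g)))
    exact this
  choose c hc using hfix
  refine ⟨∑ i ∈ (bb.repr x).support, c i • b i, ?_⟩
  conv_rhs => rw [← bb.linearCombination_repr x]
  rw [Finsupp.linearCombination_apply, Finsupp.sum, map_sum]
  refine Finset.sum_congr rfl fun i _ => ?_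
  rw [Algebra.TensorProduct.basis_apply, ← hc i, Algebra.TensorProduct.right_algebraMap_apply]
  simp [TensorProduct.tmul_smul, TensorProduct.smul_tmul']


theorem transitive (P Q : Ideal (SeparableClosure k ⊗[k] K)) [P.IsPrime] [Q.IsPrime] :
    ∃ g : SeparableClosure k ≃ₐ[k] SeparableClosure k, Q = g • P := by
  letI : TopologicalSpace (SeparableClosure k ⊗[k] K) := ⊥
  haveI : DiscreteTopology (SeparableClosure k ⊗[k] K) := ⟨rfl⟩
  haveI : ContinuousSMul (SeparableClosure k ≃ₐ[k] SeparableClosure k) (SeparableClosure k ⊗[k] K) :=
    continuousSMul_iff_stabilizer_isOpen.mpr stabilizer_open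
  haveI := isInvariant (k := k) (K := K)
  have hP : P.under K = ⊥ := by
    rcases Ideal.eq_bot_or_top (P.under K) with h | h
    · exact h
    · exact absurd h (Ideal.IsPrime.ne_top inferInstance)
  have hQ : Q.under K = ⊥ := by
    rcases Ideal.eq_bot_or_top (Q.under K) with h | h
    · exact h
    · exact absurd h (Ideal.IsPrime.ne_top inferInstance)
  exact Algebra.IsInvariant.exists_smul_of_under_eq_of_profinite (A := K)
    (B := SeparableClosure k ⊗[k] K)
    (G := SeparableClosure k ≃ₐ[k] SeparableClosure k) P Q (hP.trans hQ.symm)

theorem transitive' (P Q : Ideal (SeparableClosure k ⊗[k] K)) [P.IsPrime] [Q.IsPrime] :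
    ∃ σ : SeparableClosure k ≃ₐ[k] SeparableClosure k, Q = P.comap
      (Algebra.TensorProduct.map (σ : SeparableClosure k →ₐ[k] SeparableClosure k) (AlgHom.id k K)) := by
  obtain ⟨g, hg⟩ := transitive P Q
  refine ⟨g⁻¹, ?_⟩
  rw [hg, Ideal.pointwise_smul_eq_comap]
  rfl

end

open TensorProduct in
/-- Let K/k be a field extension and k^sep a separable algebraic closure of k. Then the automorphism
group of k^sep over k acts transitively on the primes of k^sep ⊗_k K: for any two primes P, Q there
is a k-automorphism σ of k^sep with Q the inverse image of P under σ ⊗ id_K. -/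
theorem result {k K : Type u} [Field k] [Field K] [Algebra k K]
    (P Q : Ideal (SeparableClosure k ⊗[k] K)) [P.IsPrime] [Q.IsPrime] :
    ∃ σ : SeparableClosure k ≃ₐ[k] SeparableClosure k, Q = P.comap (Algebra.TensorProduct.map (σ : SeparableClosure k →ₐ[k] SeparableClosure k) (AlgHom.id k K)) :=
  transitive' P Q

end Groth.Agent.S9647
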