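import Groth.Statements.S7598
import Mathlib
import Groth.Agent.S9647
import Groth.Agent.S1537

set_option autoImplicit false
universe u
open CategoryTheory CategoryTheory.Limits AlgebraicGeometry
open Variety

namespace Groth.Agent.S7598

section Aux
open CategoryTheory CategoryTheory.Limits AlgebraicGeometry TensorProduct

section
variable (k : Type u) [Field k]

/-- `Spec σ` for a `k`-automorphism of a field `K`. -/
noncomputable abbrev specσ (K : Type u) [Field K] [Algebra k K] (σ : K ≃ₐ[k] K) :
    Spec (CommRingCat.of K) ⟶ Spec (CommRingCat.of K) :=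
  Spec.map (CommRingCat.ofHom (σ : K →ₐ[k] K).toRingHom)

theorem specσ_comp (K : Type u) [Field K] [Algebra k K] (σ : K ≃ₐ[k] K) :
    specσ k K σ ≫ Spec.map (CommRingCat.ofHom (algebraMap k K)) =
      Spec.map (CommRingCat.ofHom (algebraMap k K)) := by
  rw [← Spec.map_comp, ← CommRingCat.ofHom_comp, AlgHom.toRingHom_eq_coe, AlgHom.comp_algebraMap]

/-- transitivity on the fibre, tensor form. -/
theorem trans_spec (L : Type u) [Field L] [Algebra k L]
    (w w' : ↥(pullback (Spec.map (CommRingCat.ofHom (algebraMap k L)))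
      (Spec.map (CommRingCat.ofHom (algebraMap k (SeparableClosure k)))))) :
    ∃ σ : SeparableClosure k ≃ₐ[k] SeparableClosure k,
      (pullback.map (Spec.map (CommRingCat.ofHom (algebraMap k L)))
        (Spec.map (CommRingCat.ofHom (algebraMap k (SeparableClosure k))))
        (Spec.map (CommRingCat.ofHom (algebraMap k L)))
        (Spec.map (CommRingCat.ofHom (algebraMap k (SeparableClosure k))))
        (𝟙 _) (specσ k _ σ) (𝟙 _) (by simp) (by rw [Category.comp_id, specσ_comp])) w = w' := by
  set Ks := SeparableClosure k with hKs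
  let e := pullbackSpecIso k L Ks
  let c : L ⊗[k] Ks ≃ₐ[k] Ks ⊗[k] L := Algebra.TensorProduct.comm k L Ks
  let p := e.hom w
  let p' := e.hom w'
  haveI : (p.asIdeal.comap c.symm.toAlgHom).IsPrime := Ideal.IsPrime.comap _
  haveI : (p'.asIdeal.comap c.symm.toAlgHom).IsPrime := Ideal.IsPrime.comap _
  obtain ⟨σ, hσ⟩ := Groth.Agent.S9647.result (p.asIdeal.comap c.symm.toAlgHom)
    (p'.asIdeal.comap c.symm.toAlgHom)
  refine ⟨σ, ?_⟩
  set τ := (pullback.map (Spec.map (CommRingCat.ofHom (algebraMap k L)))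
        (Spec.map (CommRingCat.ofHom (algebraMap k Ks)))
        (Spec.map (CommRingCat.ofHom (algebraMap k L)))
        (Spec.map (CommRingCat.ofHom (algebraMap k Ks)))
        (𝟙 _) (specσ k _ σ) (𝟙 _) (by simp) (by rw [Category.comp_id, specσ_comp])) with hτ
  let φ : L ⊗[k] Ks →ₐ[k] L ⊗[k] Ks :=
    Algebra.TensorProduct.map (AlgHom.id k L) (σ : Ks →ₐ[k] Ks)
  have h1 : Spec.map (CommRingCat.ofHom φ.toRingHom) ≫ e.inv = e.inv ≫ τ := by
    apply pullback.hom_ext
    · rw [Category.assoc, Category.assoc, hτ, pullback.lift_fst, Category.comp_id]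
      show _ ≫ (pullbackSpecIso k L Ks).inv ≫ pullback.fst _ _ = (pullbackSpecIso k L Ks).inv ≫ pullback.fst _ _
      rw [pullbackSpecIso_inv_fst, ← Spec.map_comp, ← CommRingCat.ofHom_comp]
      congr 2
      ext l
      simp [φ]
    · rw [Category.assoc, Category.assoc, hτ, pullback.lift_snd]
      show _ ≫ (pullbackSpecIso k L Ks).inv ≫ pullback.snd _ _ = (pullbackSpecIso k L Ks).inv ≫ pullback.snd _ _ ≫ _
      rw [pullbackSpecIso_inv_snd, pullbackSpecIso_inv_snd_assoc, ← Spec.map_comp, ← Spec.map_comp,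
        ← CommRingCat.ofHom_comp, ← CommRingCat.ofHom_comp]
      congr 2
  have h2 : (Spec.map (CommRingCat.ofHom φ.toRingHom)) p = p' := by
    apply PrimeSpectrum.ext
    show p.asIdeal.comap φ.toRingHom = p'.asIdeal
    have h3 : p'.asIdeal = (p'.asIdeal.comap c.symm.toAlgHom).comap c.toAlgHom := by
      ext z
      simp [Ideal.mem_comap]
    have h6 : ∀ z : L ⊗[k] Ks, φ z = c.symm (Algebra.TensorProduct.map (σ : Ks →ₐ[k] Ks) (AlgHom.id k L) (c z)) := by
      intro z
      induction z using TensorProduct.induction_on with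
      | zero => simp
      | tmul a b => simp [φ, c]
      | add a b ha hb => rw [map_add, map_add, map_add, map_add, ha, hb]
    rw [h3, hσ]
    ext z
    simp only [Ideal.mem_comap]
    show φ z ∈ _ ↔ c.symm (Algebra.TensorProduct.map (σ : Ks →ₐ[k] Ks) (AlgHom.id k L) (c z)) ∈ _
    rw [h6]
  have h4 : w = e.inv p := by
    show w = e.inv (e.hom w)
    rw [Scheme.hom_inv_apply]
  have h5 : w' = e.inv p' := by
    show w' = e.inv (e.hom w')
    rw [Scheme.hom_inv_apply]
  rw [h4, h5, ← Scheme.Hom.comp_apply, ← h1, Scheme.Hom.comp_apply, h2]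


theorem key_aux (L : Type u) [Field L] [Algebra k L] (j : Spec (CommRingCat.of L) ⟶ Spec (CommRingCat.of k))
    (hj : j = Spec.map (CommRingCat.ofHom (algebraMap k L)))
    (w w' : ↥(pullback j (Spec.map (CommRingCat.ofHom (algebraMap k (SeparableClosure k)))))) :
    ∃ σ : SeparableClosure k ≃ₐ[k] SeparableClosure k,
      (pullback.map j (Spec.map (CommRingCat.ofHom (algebraMap k (SeparableClosure k))))
        j (Spec.map (CommRingCat.ofHom (algebraMap k (SeparableClosure k))))
        (𝟙 _) (specσ k _ σ) (𝟙 _) (by simp) (by rw [Category.comp_id, specσ_comp])) w = w' := by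
  subst hj
  exact trans_spec k L w w'

section
attribute [local instance] Curv2.resAlgebra
variable (X : Scheme.{u}) [X.Over (Spec (CommRingCat.of k))]

theorem galAct_fst (K : Type u) [Field K] [Algebra k K] (σ : K ≃ₐ[k] K) :
    Curv2.galAct k X K σ ≫ Curv2.bcFst k X K = Curv2.bcFst k X K := by
  unfold Curv2.galAct Curv2.bcFst
  rw [pullback.lift_fst, Category.comp_id]

theorem galAct_snd (K : Type u) [Field K] [Algebra k K] (σ : K ≃ₐ[k] K) :
    Curv2.galAct k X K σ ≫ Curv2.bcSnd k X K = Curv2.bcSnd k X K ≫ specσ k K σ := by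
  unfold Curv2.galAct Curv2.bcSnd
  rw [pullback.lift_snd]

theorem galAct_inv (K : Type u) [Field K] [Algebra k K] (σ : K ≃ₐ[k] K) :
    Curv2.galAct k X K σ ≫ Curv2.galAct k X K σ⁻¹ = 𝟙 _ := by
  apply pullback.hom_ext
  · have h1 := galAct_fst k X K σ
    have h2 := galAct_fst k X K σ⁻¹
    unfold Curv2.bcFst at h1 h2
    rw [Category.assoc, h2, h1, Category.id_comp]
  · have h1 := galAct_snd k X K σ
    have h2 := galAct_snd k X K σ⁻¹
    unfold Curv2.bcSnd at h1 h2
    rw [Category.assoc, h2, reassoc_of% h1, Category.id_comp]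
    have : specσ k K σ ≫ specσ k K σ⁻¹ = 𝟙 _ := by
      unfold specσ
      rw [← Spec.map_comp, ← CommRingCat.ofHom_comp]
      have : ((σ : K →ₐ[k] K).toRingHom).comp ((σ⁻¹ : K ≃ₐ[k] K) : K →ₐ[k] K).toRingHom = RingHom.id K := by
        ext a
        simp
      rw [this]
      exact Spec.map_id _
    rw [this, Category.comp_id]

theorem key (y y' : ↥(Curv2.bc k X (SeparableClosure k)))
    (h : Curv2.bcFst k X (SeparableClosure k) y = Curv2.bcFst k X (SeparableClosure k) y') :
    ∃ σ : SeparableClosure k ≃ₐ[k] SeparableClosure k,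
      Curv2.galAct k X (SeparableClosure k) σ y = y' := by
  set Ks := SeparableClosure k with hKs
  set f := X ↘ Spec (CommRingCat.of k) with hf
  set b := Spec.map (CommRingCat.ofHom (algebraMap k Ks)) with hb
  set x := Curv2.bcFst k X Ks y with hx
  set i := X.fromSpecResidueField x with hi
  have hcomp : i ≫ f = Spec.map (CommRingCat.ofHom (algebraMap k (X.residueField x))) :=
    Groth.Agent.S1537.fromSpecResidueField_comp k X x
  set g : pullback (i ≫ f) b ⟶ pullback f b :=
    pullback.lift (pullback.fst (i ≫ f) b ≫ i) (pullback.snd (i ≫ f) b)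
      (by rw [Category.assoc, pullback.condition]) with hg
  have hpb : IsPullback g (pullback.fst (i ≫ f) b) (pullback.fst f b) i := by
    refine IsPullback.of_right (h₁₂ := pullback.snd f b) (h₂₂ := f) (v₁₃ := b) ?_ ?_
      (IsPullback.of_hasPullback f b).flip
    · have : g ≫ pullback.snd f b = pullback.snd (i ≫ f) b := pullback.lift_snd _ _ _
      rw [this]
      exact (IsPullback.of_hasPullback (i ≫ f) b).flip
    · exact pullback.lift_fst _ _ _
  let pt : ↥(Spec (X.residueField x)) := default
  have hpt : i pt = x := Scheme.fromSpecResidueField_apply x pt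
  obtain ⟨w, hw, -⟩ := AlgebraicGeometry.Scheme.exists_preimage_of_isPullback hpb y pt
    (by rw [hpt])
  obtain ⟨w', hw', -⟩ := AlgebraicGeometry.Scheme.exists_preimage_of_isPullback hpb y' pt
    (by rw [hpt]; exact h.symm)
  obtain ⟨σ, hσ⟩ := key_aux k (X.residueField x) (i ≫ f) hcomp w w'
  refine ⟨σ, ?_⟩
  set τ := (pullback.map (i ≫ f) b (i ≫ f) b
        (𝟙 _) (specσ k _ σ) (𝟙 _) (by simp) (by rw [Category.comp_id, specσ_comp])) with hτ
  have hnat : τ ≫ g = g ≫ Curv2.galAct k X Ks σ := by
    apply pullback.hom_ext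
    · have h1 := galAct_fst k X Ks σ
      unfold Curv2.bcFst at h1
      rw [Category.assoc, Category.assoc, h1, hg, pullback.lift_fst, hτ, pullback.lift_fst_assoc,
        Category.comp_id]
    · have h1 := galAct_snd k X Ks σ
      unfold Curv2.bcSnd at h1
      rw [Category.assoc, Category.assoc, h1, hg, pullback.lift_snd, pullback.lift_snd_assoc, hτ,
        pullback.lift_snd]
  rw [← hw, ← hw', ← Scheme.Hom.comp_apply, ← hnat, Scheme.Hom.comp_apply]
  exact congrArg (fun z => g z) hσ


theorem galAct_inv_apply (K : Type u) [Field K] [Algebra k K] (σ : K ≃ₐ[k] K)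
    (z : ↥(Curv2.bc k X K)) : Curv2.galAct k X K σ⁻¹ (Curv2.galAct k X K σ z) = z := by
  rw [← Scheme.Hom.comp_apply, galAct_inv]
  rfl

theorem image_galAct_of_generic (K : Type u) [Field K] [Algebra k K] (σ : K ≃ₐ[k] K)
    (Z' Z'' : Set ↥(Curv2.bc k X K)) (ξ' ξ'' : ↥(Curv2.bc k X K))
    (h' : IsGenericPoint ξ' Z') (h'' : IsGenericPoint ξ'' Z'')
    (hσ : Curv2.galAct k X K σ ξ' = ξ'') :
    (Curv2.galAct k X K σ).base '' Z' ⊆ Z'' := by
  rw [← h'.def, ← h''.def]
  refine (image_closure_subset_closure_image (Curv2.galAct k X K σ).continuous).trans ?_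
  rw [Set.image_singleton]
  exact subset_of_eq (congrArg (fun z => closure {z}) hσ)

theorem main (Z' Z'' : Set ↥(Curv2.bc k X (SeparableClosure k)))
    (hZ' : Z' ∈ irreducibleComponents ↥(Curv2.bc k X (SeparableClosure k)))
    (hZ'' : Z'' ∈ irreducibleComponents ↥(Curv2.bc k X (SeparableClosure k))) :
    (Curv2.bcFst k X (SeparableClosure k)).base '' Z' = (Curv2.bcFst k X (SeparableClosure k)).base '' Z'' ↔
      ∃ σ : SeparableClosure k ≃ₐ[k] SeparableClosure k, (Curv2.galAct k X (SeparableClosure k) σ).base '' Z' = Z'' := by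
  set Ks := SeparableClosure k with hKs
  constructor
  · intro h
    have hirr' : IsIrreducible Z' := hZ'.1
    have hirr'' : IsIrreducible Z'' := hZ''.1
    have hcl' : IsClosed Z' := isClosed_of_mem_irreducibleComponents Z' hZ'
    have hcl'' : IsClosed Z'' := isClosed_of_mem_irreducibleComponents Z'' hZ''
    have hξ' : IsGenericPoint hirr'.genericPoint Z' := by
      have := hirr'.isGenericPoint_genericPoint_closure
      rwa [hcl'.closure_eq] at this
    have hξ'' : IsGenericPoint hirr''.genericPoint Z'' := by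
      have := hirr''.isGenericPoint_genericPoint_closure
      rwa [hcl''.closure_eq] at this
    set ξ' := hirr'.genericPoint
    set ξ'' := hirr''.genericPoint
    have e1 := hξ'.image (Curv2.bcFst k X Ks).continuous
    have e2 := hξ''.image (Curv2.bcFst k X Ks).continuous
    have h2 : (Curv2.bcFst k X Ks) '' Z' = (Curv2.bcFst k X Ks) '' Z'' := h
    rw [← h2] at e2
    have heq : Curv2.bcFst k X Ks ξ' = Curv2.bcFst k X Ks ξ'' := e1.eq e2
    obtain ⟨σ, hσ⟩ := key k X ξ' ξ'' heq
    refine ⟨σ, ?_⟩
    have sub1 := image_galAct_of_generic k X Ks σ Z' Z'' ξ' ξ'' hξ' hξ'' hσ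
    have hσ' : Curv2.galAct k X Ks σ⁻¹ ξ'' = ξ' := by
      rw [← hσ, galAct_inv_apply]
    have sub2 := image_galAct_of_generic k X Ks σ⁻¹ Z'' Z' ξ'' ξ' hξ'' hξ' hσ'
    apply subset_antisymm sub1
    intro z hz
    refine ⟨Curv2.galAct k X Ks σ⁻¹ z, sub2 ⟨z, hz, rfl⟩, ?_⟩
    have := galAct_inv_apply k X Ks σ⁻¹ z
    rwa [inv_inv] at this
  · rintro ⟨σ, hσ⟩
    rw [← hσ, Set.image_image]
    apply Set.image_congr
    intro z _
    show (Curv2.bcFst k X Ks) z = (Curv2.bcFst k X Ks) (Curv2.galAct k X Ks σ z)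
    rw [← Scheme.Hom.comp_apply, galAct_fst]

end
end

end Aux

/-- Let k̄ be a separable algebraic closure of a field k and X a scheme over k. Two irreducible
components Z', Z'' of X_{k̄} have the same image in X if and only if Z'' is the image of Z' under
the action of some k-automorphism of k̄ on X_{k̄} (the fibres of the map on irreducible components
are the Galois orbits). -/
theorem result (k : Type u) [Field k] (X : Scheme.{u}) [X.Over (Spec (CommRingCat.of k))]
    (Z' Z'' : Set ↥(Curv2.bc k X (SeparableClosure k))) (hZ' : Z' ∈ irreducibleComponents ↥(Curv2.bc k X (SeparableClosure k)))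
    (hZ'' : Z'' ∈ irreducibleComponents ↥(Curv2.bc k X (SeparableClosure k))) :
    (Curv2.bcFst k X (SeparableClosure k)).base '' Z' = (Curv2.bcFst k X (SeparableClosure k)).base '' Z'' ↔
      ∃ σ : SeparableClosure k ≃ₐ[k] SeparableClosure k, (Curv2.galAct k X (SeparableClosure k) σ).base '' Z' = Z'' := by
  exact main k X Z' Z'' hZ' hZ''

end Groth.Agent.S7598
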