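import Groth.Statements.S1584
import Mathlib
import Groth.Agent.S7598

set_option autoImplicit false
universe u
open CategoryTheory CategoryTheory.Limits AlgebraicGeometry
open Variety

namespace Groth.Agent.S1584

section Aux
open CategoryTheory CategoryTheory.Limits AlgebraicGeometry TensorProduct

section
attribute [local instance] Curv2.resAlgebra
variable (k : Type u) [Field k] (X : Scheme.{u}) [X.Over (Spec (CommRingCat.of k))]
  (K : Type u) [Field K] [Algebra k K] [IsGalois k K]

theorem keyK (y y' : ↥(Curv2.bc k X K))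
    (h : Curv2.bcFst k X K y = Curv2.bcFst k X K y') :
    ∃ σ : K ≃ₐ[k] K, Curv2.galAct k X K σ y = y' := by
  set Ks := SeparableClosure k with hKs
  set f := X ↘ Spec (CommRingCat.of k) with hf
  let ι : K →ₐ[k] Ks := IsSepClosed.lift
  letI : Algebra K Ks := ι.toRingHom.toAlgebra
  haveI : IsScalarTower k K Ks := IsScalarTower.of_algebraMap_eq (fun x => (ι.commutes x).symm)
  set bs := Spec.map (CommRingCat.ofHom (algebraMap k Ks)) with hbs
  set bK := Spec.map (CommRingCat.ofHom (algebraMap k K)) with hbK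
  set ιs : Spec (CommRingCat.of Ks) ⟶ Spec (CommRingCat.of K) :=
    Spec.map (CommRingCat.ofHom ι.toRingHom) with hιs
  have hι : ιs ≫ bK = bs := by
    rw [hιs, hbK, hbs, ← Spec.map_comp, ← CommRingCat.ofHom_comp]
    congr 2
    exact ι.comp_algebraMap
  set ρ : pullback f bs ⟶ pullback f bK :=
    pullback.map f bs f bK (𝟙 X) ιs (𝟙 _) (by simp) (by rw [Category.comp_id, hι]) with hρ
  have hρfst : ρ ≫ pullback.fst f bK = pullback.fst f bs := by
    rw [hρ, pullback.lift_fst, Category.comp_id]
  have hρsnd : ρ ≫ pullback.snd f bK = pullback.snd f bs ≫ ιs := by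
    rw [hρ, pullback.lift_snd]
  have hpb : IsPullback ρ (pullback.snd f bs) (pullback.snd f bK) ιs := by
    refine IsPullback.of_right (h₁₂ := pullback.fst f bK) (h₂₂ := bK) (v₁₃ := f) ?_ hρsnd
      (IsPullback.of_hasPullback f bK)
    rw [hρfst, hι]
    exact IsPullback.of_hasPullback f bs
  haveI : Surjective ιs := ⟨fun y => ⟨default, Subsingleton.elim _ _⟩⟩
  haveI : Surjective ρ := MorphismProperty.of_isPullback hpb.flip inferInstance
  obtain ⟨z, rfl⟩ := ρ.surjective y
  obtain ⟨z', rfl⟩ := ρ.surjective y'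
  have hz : Curv2.bcFst k X Ks z = Curv2.bcFst k X Ks z' := by
    show (pullback.fst f bs) z = (pullback.fst f bs) z'
    rw [← hρfst, Scheme.Hom.comp_apply, Scheme.Hom.comp_apply]
    exact h
  obtain ⟨σs, hσs⟩ := Groth.Agent.S7598.key k X z z' hz
  let σ : K ≃ₐ[k] K := σs.restrictNormal K
  refine ⟨σ, ?_⟩
  have hcomm : ρ ≫ Curv2.galAct k X K σ = Curv2.galAct k X Ks σs ≫ ρ := by
    apply pullback.hom_ext
    · have h1 := Groth.Agent.S7598.galAct_fst k X K σ
      have h2 := Groth.Agent.S7598.galAct_fst k X Ks σs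
      unfold Curv2.bcFst at h1 h2
      rw [Category.assoc, Category.assoc, h1, hρfst, h2]
    · have h1 := Groth.Agent.S7598.galAct_snd k X K σ
      have h2 := Groth.Agent.S7598.galAct_snd k X Ks σs
      unfold Curv2.bcSnd at h1 h2
      rw [Category.assoc, Category.assoc, h1, reassoc_of% hρsnd, hρsnd, reassoc_of% h2]
      congr 1
      unfold Groth.Agent.S7598.specσ
      rw [hιs, ← Spec.map_comp, ← Spec.map_comp, ← CommRingCat.ofHom_comp, ← CommRingCat.ofHom_comp]
      congr 2
      refine RingHom.ext fun x => ?_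
      exact AlgEquiv.restrictNormal_commutes σs K x
  rw [← Scheme.Hom.comp_apply, hcomm, Scheme.Hom.comp_apply, hσs]


theorem main (T' : Set (Curv2.bc k X K)) (hT' : IsClosed T')
    (hinv : ∀ σ : K ≃ₐ[k] K, (Curv2.galAct k X K σ).base '' T' = T') :
    ∃ T : Set X, IsClosed T ∧ (Curv2.bcFst k X K).base ⁻¹' T = T' := by
  set f := X ↘ Spec (CommRingCat.of k) with hf
  set b := Spec.map (CommRingCat.ofHom (algebraMap k K)) with hb
  haveI : Algebra.IsIntegral k K := Algebra.IsAlgebraic.isIntegral
  haveI : IsIntegralHom b := by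
    rw [hb, IsIntegralHom.SpecMap_iff]
    exact algebraMap_isIntegral_iff.2 inferInstance
  have hclosedmap : IsClosedMap (Curv2.bcFst k X K).base := (pullback.fst f b).isClosedMap
  refine ⟨(Curv2.bcFst k X K).base '' T', hclosedmap T' hT', ?_⟩
  apply subset_antisymm
  · rintro y ⟨z, hz, hzy⟩
    obtain ⟨σ, hσ⟩ := keyK k X K z y hzy
    rw [← hinv σ]
    exact ⟨z, hz, hσ⟩
  · exact Set.subset_preimage_image _ _

end

end Aux

/-- Let K be a Galois extension of k (possibly infinite) and X a scheme over k. A closed subset of X_K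
which is mapped onto itself by the action of every k-automorphism of K is the inverse image of a
closed subset of X. -/
theorem result (k : Type u) [Field k] (X : Scheme.{u}) [X.Over (Spec (CommRingCat.of k))] (K : Type u) [Field K] [Algebra k K] [IsGalois k K]
    (T' : Set (Curv2.bc k X K)) (hT' : IsClosed T') (hinv : ∀ σ : K ≃ₐ[k] K, (Curv2.galAct k X K σ).base '' T' = T') :
    ∃ T : Set X, IsClosed T ∧ (Curv2.bcFst k X K).base ⁻¹' T = T' := by
  exact main k X K T' hT' hinv

end Groth.Agent.S1584
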