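import Groth.Statements.S15841
import Mathlib.LinearAlgebra.RootSystem.Base
import Mathlib.RingTheory.TensorProduct.Basic
import Mathlib.Tactic

set_option autoImplicit false
universe u
open scoped TensorProduct
open SprIso

namespace Groth.Agent.S15841

section helpers
open TensorProduct

variable {ι M N : Type u} [AddCommGroup M] [AddCommGroup N] (P : RootPairing ι ℤ M N)
  (k : Type u) [Field k]

/-- functional on `k ⊗ N` induced by a `ℤ`-functional -/
noncomputable def fnl (f : N →ₗ[ℤ] ℤ) : k ⊗[ℤ] N →ₗ[k] k :=
  (AlgebraTensorModule.rid ℤ k k).toLinearMap ∘ₗ f.baseChange k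

lemma fnl_tmul (f : N →ₗ[ℤ] ℤ) (c : k) (y : N) : fnl k f (c ⊗ₜ y) = (f y) • c := by
  simp [fnl]

lemma fnl_eq_zero (f : N →ₗ[ℤ] ℤ) (h : k ⊗[ℤ] N) (hz : fnl k f h = 0) : f.baseChange k h = 0 := by
  unfold fnl at hz
  simpa using hz

/-- base-changed coreflection -/
noncomputable def S (i : ι) : k ⊗[ℤ] N →ₗ[k] k ⊗[ℤ] N :=
  ((P.coreflection i : N ≃ₗ[ℤ] N) : N →ₗ[ℤ] N).baseChange k

/-- base-changed coroot -/
noncomputable def v (i : ι) : k ⊗[ℤ] N := (1 : k) ⊗ₜ P.coroot i

lemma S_apply (i : ι) (h : k ⊗[ℤ] N) :
    S P k i h = h - fnl k (P.root' i) h • v P k i := by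
  induction h using TensorProduct.induction_on with
  | zero => simp
  | tmul c y =>
    simp only [S, v, LinearMap.baseChange_tmul, fnl_tmul, LinearEquiv.coe_coe]
    rw [P.coreflection_apply, tmul_sub, tmul_smul, smul_tmul', smul_tmul', smul_eq_mul, mul_one]
  | add x y hx hy => rw [map_add, hx, hy, map_add, add_smul]; abel

/-- the product of coreflections along a list, base changed -/
noncomputable def W (l : List ι) : k ⊗[ℤ] N →ₗ[k] k ⊗[ℤ] N :=
  ((l.map (fun i => ((P.coreflection i : N ≃ₗ[ℤ] N) : N →ₗ[ℤ] N))).prod).baseChange k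

lemma W_nil (h : k ⊗[ℤ] N) : W P k [] h = h := by
  simp [W, Module.End.one_eq_id]

lemma W_cons (i : ι) (l : List ι) (h : k ⊗[ℤ] N) : W P k (i :: l) h = S P k i (W P k l h) := by
  unfold W S
  rw [List.map_cons, List.prod_cons, Module.End.mul_eq_comp, LinearMap.baseChange_comp]
  rfl

lemma W_sub_mem (l : List ι) (h : k ⊗[ℤ] N) :
    W P k l h - h ∈ Submodule.span k ((v P k) '' {j | j ∈ l}) := by
  induction l with
  | nil => rw [W_nil, sub_self]; exact Submodule.zero_mem _
  | cons i l ih =>
    rw [W_cons, S_apply]
    have h1 : W P k l h - h ∈ Submodule.span k ((v P k) '' {j | j ∈ i :: l}) :=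
      Submodule.span_mono (Set.image_mono (fun j hj => List.mem_cons_of_mem _ hj)) ih
    have h2 : v P k i ∈ Submodule.span k ((v P k) '' {j | j ∈ i :: l}) :=
      Submodule.subset_span ⟨i, List.mem_cons_self, rfl⟩
    have : W P k l h - fnl k (P.root' i) (W P k l h) • v P k i - h =
        (W P k l h - h) - fnl k (P.root' i) (W P k l h) • v P k i := by abel
    rw [this]
    exact Submodule.sub_mem _ h1 (Submodule.smul_mem _ _ h2)

theorem main (b : P.Base)
    (hsc : ∀ i ∈ b.support, ∃ ω : M, P.coroot' i ω = 1 ∧ ∀ j ∈ b.support, j ≠ i → P.coroot' j ω = 0)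
    (l : List ι) (hl : l.Nodup) (hlb : ∀ i ∈ l, i ∈ b.support) :
    ∀ h : k ⊗[ℤ] N, W P k l h = h → ∀ i ∈ l, fnl k (P.root' i) h = 0 := by
  induction l with
  | nil => intro h _ i hi; simp at hi
  | cons i l ih =>
    intro h hW
    rw [List.nodup_cons] at hl
    obtain ⟨hil, hl'⟩ := hl
    have hi_supp : i ∈ b.support := hlb i List.mem_cons_self
    obtain ⟨ω, hω1, hω0⟩ := hsc i hi_supp
    rw [W_cons, S_apply] at hW
    -- Ω vanishes on the span of the v_j, j ∈ l
    have hΩ : ∀ x ∈ Submodule.span k ((v P k) '' {j | j ∈ l}), fnl k (P.toLinearMap ω) x = 0 := by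
      intro x hx
      induction hx using Submodule.span_induction with
      | mem x hx =>
        obtain ⟨j, hj, rfl⟩ := hx
        have hji : j ≠ i := by rintro rfl; exact hil hj
        have := hω0 j (hlb j (List.mem_cons_of_mem _ hj)) hji
        simp only [v, fnl_tmul]
        have h' : (P.toLinearMap ω) (P.coroot j) = 0 := this
        rw [h', zero_smul]
      | zero => simp
      | add x y _ _ hx hy => rw [map_add, hx, hy, add_zero]
      | smul c x _ hx => rw [map_smul, hx, smul_zero]
    have hΩv : fnl k (P.toLinearMap ω) (v P k i) = 1 := by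
      simp only [v, fnl_tmul]
      have h' : (P.toLinearMap ω) (P.coroot i) = 1 := hω1
      rw [h', one_smul]
    have h1 := hΩ _ (W_sub_mem P k l h)
    have h2 := congrArg (fnl k (P.toLinearMap ω)) hW
    rw [map_sub, map_smul, hΩv, smul_eq_mul, mul_one] at h2
    rw [map_sub] at h1
    have hzero : fnl k (P.root' i) (W P k l h) = 0 := by
      have : fnl k (P.toLinearMap ω) (W P k l h) - fnl k (P.root' i) (W P k l h) -
          fnl k (P.toLinearMap ω) h = 0 := by rw [h2]; ring
      have h3 : fnl k (P.toLinearMap ω) (W P k l h) = fnl k (P.toLinearMap ω) h := sub_eq_zero.mp h1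
      rw [h3] at this
      simpa using this
    rw [hzero, zero_smul, sub_zero] at hW
    intro j hj
    rcases List.mem_cons.mp hj with rfl | hj'
    · rw [← hW]; exact hzero
    · exact ih hl' (fun j hj => hlb j (List.mem_cons_of_mem _ hj)) h hW j hj'

end helpers

/-- For a connected reductive group G with maximal torus T whose derived group is simply connected, and
a Coxeter element w (the product of the simple reflections, each once, in any order), an element of
Lie T = k ⊗ X_*(T) fixed by Ad(w) is killed by the differential of every simple root, i.e. lies in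
the centre of Lie G. In root-datum form: let P be a root pairing over ℤ with character lattice M and
cocharacter lattice N, b a base, and suppose each simple coroot has a dual character ω_i in M with
⟨ω_i, α_i^∨⟩ = 1 and ⟨ω_i, α_j^∨⟩ = 0 for every other simple j (the simply connected derived group
hypothesis). If l lists the simple roots without repetition, w^∨ is the composite of the
coreflections along l acting on N, k is a field and H in k ⊗ N satisfies w^∨_k H = H, then (α_i)_k H
= 0 for every simple root α_i, where (α_i)_k is the base change to k of the functional ⟨α_i, −⟩ on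
N. (Stated for an arbitrary field k; the published setting is an algebraically closed field, and the
argument does not depend on k.) -/
theorem result {ι M N : Type u} [AddCommGroup M] [AddCommGroup N]
    (P : RootPairing ι ℤ M N) (b : P.Base)
    (hsc : ∀ i ∈ b.support, ∃ ω : M, P.coroot' i ω = 1 ∧ ∀ j ∈ b.support, j ≠ i → P.coroot' j ω = 0)
    (l : List ι) (hl : l.Nodup) (hlb : ∀ i : ι, i ∈ l ↔ i ∈ b.support)
    (k : Type u) [Field k] (H : k ⊗[ℤ] N)
    (hH : ((l.map (fun i => ((P.coreflection i : N ≃ₗ[ℤ] N) : N →ₗ[ℤ] N))).prod).baseChange k H = H) :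
    ∀ i ∈ b.support, (P.root' i).baseChange k H = 0 := by
  intro i hi
  apply fnl_eq_zero
  exact main P k b hsc l hl (fun j hj => (hlb j).mp hj) H hH i ((hlb i).mpr hi)

end Groth.Agent.S15841
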