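import Groth.Statements.S15845
import Mathlib

set_option autoImplicit false
universe u
open SprIso

namespace Groth.Agent.S15845

theorem core {R : Type u} [CommRing R] (n : ℕ) (N x : Matrix (Fin n) (Fin n) R)
    (hN0 : ∀ i l : Fin n, l ≤ i → N i l = 0)
    (hunit : ∀ i l : Fin n, l.val = i.val + 1 → IsUnit (N i l))
    (hcomm : x * N = N * x) :
    (∀ i j : Fin n, j < i → x i j = 0) ∧ (∀ i j : Fin n, x i i = x j j) := by
  have hA : ∀ j i : Fin n, j < i → x i j = 0 := by
    intro j
    induction' hj : j.val using Nat.strong_induction_on with jv ihj generalizing j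
    -- (x N) i j = 0 for i ≥ j
    have hxN0 : ∀ i : Fin n, j ≤ i → (x * N) i j = 0 := by
      intro i hji
      rw [Matrix.mul_apply]
      apply Finset.sum_eq_zero
      intro l _
      rcases lt_or_ge l j with h | h
      · rw [ihj l.val (by rw [← hj]; exact h) l rfl i (lt_of_lt_of_le h hji), zero_mul]
      · rw [hN0 l j h, mul_zero]
    intro i
    induction' hd : n - i.val using Nat.strong_induction_on with d ihd generalizing i
    intro hji
    have hji' : j.val < i.val := hji
    have hi0 : 0 < i.val := by omega
    have hin : i.val < n := i.2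
    obtain ⟨i', hi'⟩ : ∃ i' : Fin n, i'.val = i.val - 1 := ⟨⟨i.val - 1, by omega⟩, rfl⟩
    have hi'j : j ≤ i' := Fin.le_def.mpr (by omega)
    have h0 : (N * x) i' j = 0 := by rw [← hcomm]; exact hxN0 i' hi'j
    rw [Matrix.mul_apply, Finset.sum_eq_single i] at h0
    · exact (hunit i' i (by omega)).mul_right_eq_zero.mp h0
    · intro l _ hl
      rcases lt_or_gt_of_ne hl with h | h
      · have h' : l.val < i.val := h
        rw [hN0 i' l (Fin.le_def.mpr (by omega)), zero_mul]
      · have h' : i.val < l.val := h
        rw [ihd (n - l.val) (by omega) l rfl (lt_trans hji h), mul_zero]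
    · intro h; exact absurd (Finset.mem_univ i) h
  refine ⟨fun i j h => hA j i h, ?_⟩
  -- diagonal: x i i = x i' i' when i'.val = i.val + 1
  have hB : ∀ i i' : Fin n, i'.val = i.val + 1 → x i i = x i' i' := by
    intro i i' hi'
    have h1 : (x * N) i i' = x i i * N i i' := by
      rw [Matrix.mul_apply, Finset.sum_eq_single i]
      · intro l _ hl
        rcases lt_or_gt_of_ne hl with h | h
        · rw [hA l i h, zero_mul]
        · have h' : i.val < l.val := h
          rw [hN0 l i' (Fin.le_def.mpr (by omega)), mul_zero]
      · intro h; exact absurd (Finset.mem_univ i) h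
    have h2 : (N * x) i i' = N i i' * x i' i' := by
      rw [Matrix.mul_apply, Finset.sum_eq_single i']
      · intro l _ hl
        rcases lt_or_gt_of_ne hl with h | h
        · have h' : l.val < i'.val := h
          rw [hN0 i l (Fin.le_def.mpr (by omega)), zero_mul]
        · rw [hA i' l h, mul_zero]
      · intro h; exact absurd (Finset.mem_univ i') h
    rw [hcomm, h2, mul_comm (x i i)] at h1
    exact ((hunit i i' hi').mul_right_injective h1).symm
  -- all equal: x i i = x 0 0
  have hC : ∀ (v : ℕ) (i : Fin n), i.val = v → ∀ i₀ : Fin n, i₀.val = 0 → x i i = x i₀ i₀ := by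
    intro v
    induction v with
    | zero =>
      intro i hi i₀ hi₀
      have : i = i₀ := Fin.ext (by omega)
      rw [this]
    | succ v ih =>
      intro i hi i₀ hi₀
      have hin : i.val < n := i.2
      have := hB ⟨v, by omega⟩ i (by simp [hi])
      rw [← this]
      exact ih ⟨v, by omega⟩ rfl i₀ hi₀
  intro i j
  have hn : 0 < n := lt_of_le_of_lt (Nat.zero_le _) i.2
  rw [hC i.val i rfl ⟨0, hn⟩ rfl, hC j.val j rfl ⟨0, hn⟩ rfl]

/-- General linear group case: this is the case G = GL_n with its upper-triangular Borel subgroup B
(derived group SL_n simply connected, all primes good, so the hypotheses on the characteristic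
hold), together with the companion statement for a regular nilpotent element of Lie B. Let k be a
field and u an n × n upper-triangular matrix over k whose diagonal entries are all equal and whose
superdiagonal entries u_{i,i+1} are all non-zero — for diagonal 1 this is a regular unipotent
element of B(k), for diagonal 0 a regular nilpotent element of Lie B. Then the centralizer of u in
GL_n is contained in B and is the product of the centre with the centralizer in the unipotent
radical: for every commutative k-algebra R and every invertible x ∈ M_n(R) commuting with u_R, x is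
upper triangular and its diagonal entries are all equal. (The smoothness of the centralizer in the
unipotent radical, also part of the published statement, is not stated here.) -/
theorem result (k : Type u) [Field k] (n : ℕ)
    (u : Matrix (Fin n) (Fin n) k) (htri : ∀ i j : Fin n, j < i → u i j = 0) (hdiag : ∀ i j : Fin n, u i i = u j j)
    (hreg : ∀ (i j : Fin n), j.val = i.val + 1 → u i j ≠ 0)
    (R : Type u) [CommRing R] [Algebra k R] (x : Matrix (Fin n) (Fin n) R) (hx : IsUnit x)
    (hxu : x * u.map (algebraMap k R) = u.map (algebraMap k R) * x) :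
    (∀ i j : Fin n, j < i → x i j = 0) ∧ (∀ i j : Fin n, x i i = x j j) := by
  classical
  rcases Nat.eq_zero_or_pos n with hn | hn
  · subst hn
    exact ⟨fun i => i.elim0, fun i => i.elim0⟩
  obtain ⟨c, hc⟩ : ∃ c : R, ∀ i : Fin n, algebraMap k R (u i i) = c :=
    ⟨algebraMap k R (u ⟨0, hn⟩ ⟨0, hn⟩), fun i => by rw [hdiag i ⟨0, hn⟩]⟩
  let N : Matrix (Fin n) (Fin n) R := Matrix.of (fun i j => if i = j then 0 else algebraMap k R (u i j))
  have hU : u.map (algebraMap k R) = N + Matrix.scalar (Fin n) c := by
    ext i j
    simp only [Matrix.map_apply, Matrix.add_apply, N, Matrix.of_apply, Matrix.scalar_apply,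
      Matrix.diagonal_apply]
    by_cases h : i = j
    · subst h; simp [hc]
    · simp [h]
  have hcomm : x * N = N * x := by
    have h1 := hxu
    rw [hU, mul_add, add_mul] at h1
    have h2 : x * Matrix.scalar (Fin n) c = Matrix.scalar (Fin n) c * x :=
      ((Matrix.scalar_commute c (fun r => Commute.all c r) x).eq).symm
    rw [h2] at h1
    exact add_right_cancel h1
  apply core n N x _ _ hcomm
  · intro i l hli
    simp only [N, Matrix.of_apply]
    by_cases h : i = l
    · simp [h]
    · rw [if_neg h, htri i l (lt_of_le_of_ne hli (Ne.symm h)), map_zero]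
  · intro i l hl
    simp only [N, Matrix.of_apply]
    have h : i ≠ l := by
      intro h; rw [h] at hl; omega
    rw [if_neg h]
    exact (IsUnit.mk0 _ (hreg i l hl)).map (algebraMap k R)

end Groth.Agent.S15845
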