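import Groth.Statements.S1585
import Groth.Agent.Lib.helper26.NormVar

set_option autoImplicit false
universe u
open CategoryTheory CategoryTheory.Limits AlgebraicGeometry
open Variety

namespace Groth.Agent.S1585



/-- Part (1): and (4), for an integral scheme locally of finite type over a field: the normalization
morphism ν (normalization of X in its function field) is finite, dominant and an isomorphism over a
nonempty open, and the normalization is an integral scheme all of whose local rings are integrally
closed domains. (The quasi-compactness/quasi-separatedness binders on Spec K(X) → X always hold;
they are needed only to form Mathlib's relative normalization.) -/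
theorem result (k : Type u) [Field k] (X : Scheme.{u}) [X.Over (Spec (CommRingCat.of k))] [IsIntegral X] [LocallyOfFiniteType (X ↘ (Spec (CommRingCat.of k)))]
    [QuasiCompact (X.fromSpecStalk (genericPoint X))] [QuasiSeparated (X.fromSpecStalk (genericPoint X))] :
    IsFinite (Curv2.normalizationι X) ∧ IsDominant (Curv2.normalizationι X) ∧
      (∃ V : X.Opens, (V : Set X).Nonempty ∧ IsIso (Curv2.normalizationι X ∣_ V)) ∧
      IsIntegral (Curv2.normalization X) ∧ Pi1.IsNormalScheme (Curv2.normalization X) := by
  have hsurj := Groth.Agent.Lib.helper26.NormAff.surjective_fromNormalization X
  haveI : Surjective (Curv2.normalizationι X) := ⟨hsurj⟩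
  refine ⟨Groth.Agent.Lib.helper26.NormVar.isFinite_fromNormalization k X, inferInstance,
    Groth.Agent.Lib.helper26.NormVar.exists_iso_open k X, ?_,
    Groth.Agent.Lib.helper26.NormAff.isNormalScheme_normalization X⟩
  unfold Curv2.normalization
  infer_instance

end Groth.Agent.S1585
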