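import Groth.Statements.S15883
import Mathlib

set_option autoImplicit false
universe u
open CategoryTheory AlgebraicGeometry Opposite
open BMCoh

namespace Groth.Agent.S15883

/-- Let T be a twisted Borel–Moore cohomology theory with coefficients in A (a full subcategory of
R-modules containing R) on a constructible class V of Noetherian schemes, and let i_X : X → W and
i_Y : Y → W be morphisms of V — open immersions with dim X = dim W = dim Y — whose images are
complementary in W, so that W is the disjoint union of X and Y. Then for every coefficient module M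
and all integers i, n the map H^i(W, M(n)) → H^i(X, M(n)) × H^i(Y, M(n)) whose components are the
restriction maps along i_X and i_Y is bijective. -/
theorem result (V : ObjectProperty Scheme.{u}) [BMCoh.IsConstructible V] (R : Type u) [CommRing R] (A : BMCoh.Coefs R) (T : BMCoh.TheoryOn V R A) {X Y W : BMCoh.Obj V} (iX : X ⟶ W) (iY : Y ⟶ W) (h : Set.range iX.hom = (Set.range iY.hom)ᶜ) (M : A.Cat) (i n : ℤ) : Function.Bijective (fun a : T.gp W M i n => ((T.pull iX M i n).hom a, (T.pull iY M i n).hom a)) := by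
  classical
  obtain ⟨i₀, rfl⟩ : ∃ i₀ : ℤ, i = i₀ + 1 := ⟨i - 1, by ring⟩
  have hcX : relCodim X.scheme W.scheme = 0 := by
    unfold relCodim
    rw [iX.dim_eq]
    simp
  have hcY : relCodim Y.scheme W.scheme = 0 := by
    unfold relCodim
    rw [iY.dim_eq]
    simp
  have hclY : IsClosedImmersion iY.hom := by
    apply IsClosedImmersion.of_isPreimmersion
    have : IsOpen (Set.range iX.hom) := iX.hom.isOpenEmbedding.isOpen_range
    rw [h] at this
    exact isOpen_compl_iff.1 this
  have h' : Set.range iY.hom = (Set.range iX.hom)ᶜ := by rw [h, compl_compl]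
  have hclX : IsClosedImmersion iX.hom := by
    apply IsClosedImmersion.of_isPreimmersion
    have : IsOpen (Set.range iY.hom) := iY.hom.isOpenEmbedding.isOpen_range
    rw [h'] at this
    exact isOpen_compl_iff.1 this
  let D₁ : Decomp W := { Z := Y, U := X, i := iY.hom, closedImm := hclY, j := iX, range_eq := h }
  let D₂ : Decomp W := { Z := X, U := Y, i := iX.hom, closedImm := hclX, j := iY, range_eq := h' }
  have hiY : i₀ + 1 = i₀ + 1 + 2 * relCodim Y.scheme W.scheme := by rw [hcY]; ring
  have hnY : n = n + relCodim Y.scheme W.scheme := by rw [hcY]; ring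
  have hiX : i₀ + 1 = i₀ + 1 + 2 * relCodim X.scheme W.scheme := by rw [hcX]; ring
  have hnX : n = n + relCodim X.scheme W.scheme := by rw [hcX]; ring
  have hi0 : ∀ Z : Obj V, i₀ + 1 = i₀ + 1 + 2 * relCodim Z.scheme Z.scheme := by
    intro Z; unfold relCodim; ring
  have hn0 : ∀ Z : Obj V, n = n + relCodim Z.scheme Z.scheme := by
    intro Z; unfold relCodim; ring
  let pY := T.push iY.hom M (i₀ + 1) n (i₀ + 1) n hiY hnY
  let pX := T.push iX.hom M (i₀ + 1) n (i₀ + 1) n hiX hnX
  have exY : Function.Exact pY.hom (T.pull iX M (i₀ + 1) n).hom :=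
    T.exact_push_pull D₁ M i₀ n (i₀ + 1) n hiY hnY
  have exX : Function.Exact pX.hom (T.pull iY M (i₀ + 1) n).hom :=
    T.exact_push_pull D₂ M i₀ n (i₀ + 1) n hiX hnX
  have retrY : pY ≫ T.pull iY M (i₀ + 1) n = 𝟙 _ := by
    have hpb : IsPullback (𝟙 Y : Y ⟶ Y).hom (𝟙 Y.scheme) iY.hom iY.hom :=
      (IsKernelPair.id_of_mono iY.hom)
    have := T.push_pull iY.hom (𝟙 Y.scheme) iY (𝟙 Y) hpb M (i₀ + 1) n (i₀ + 1) n hiY hnY
      (hi0 Y) (hn0 Y)
    rw [T.push_id] at this
    simpa using this
  have retrX : pX ≫ T.pull iX M (i₀ + 1) n = 𝟙 _ := by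
    have hpb : IsPullback (𝟙 X : X ⟶ X).hom (𝟙 X.scheme) iX.hom iX.hom :=
      (IsKernelPair.id_of_mono iX.hom)
    have := T.push_pull iX.hom (𝟙 X.scheme) iX (𝟙 X) hpb M (i₀ + 1) n (i₀ + 1) n hiX hnX
      (hi0 X) (hn0 X)
    rw [T.push_id] at this
    simpa using this
  have rY : ∀ y, (T.pull iY M (i₀ + 1) n).hom (pY.hom y) = y := fun y =>
    ConcreteCategory.congr_hom retrY y
  have rX : ∀ x, (T.pull iX M (i₀ + 1) n).hom (pX.hom x) = x := fun x =>
    ConcreteCategory.congr_hom retrX x
  have zXY : ∀ y, (T.pull iX M (i₀ + 1) n).hom (pY.hom y) = 0 := fun y =>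
    exY.apply_apply_eq_zero y
  have zYX : ∀ x, (T.pull iY M (i₀ + 1) n).hom (pX.hom x) = 0 := fun x =>
    exX.apply_apply_eq_zero x
  constructor
  · intro a b hab
    have hab1 : (T.pull iX M (i₀ + 1) n).hom a = (T.pull iX M (i₀ + 1) n).hom b :=
      (Prod.ext_iff.1 hab).1
    have hab2 : (T.pull iY M (i₀ + 1) n).hom a = (T.pull iY M (i₀ + 1) n).hom b :=
      (Prod.ext_iff.1 hab).2
    have h1 : (T.pull iX M (i₀ + 1) n).hom (a - b) = 0 := by
      rw [map_sub, hab1, sub_self]
    have h2 : (T.pull iY M (i₀ + 1) n).hom (a - b) = 0 := by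
      rw [map_sub, hab2, sub_self]
    obtain ⟨y, hy⟩ := (exY (a - b)).1 h1
    rw [← hy, rY] at h2
    rw [h2, map_zero] at hy
    exact sub_eq_zero.1 hy.symm
  · rintro ⟨x, y⟩
    refine ⟨pX.hom x + pY.hom y, ?_⟩
    apply Prod.ext
    · show (T.pull iX M (i₀ + 1) n).hom (pX.hom x + pY.hom y) = x
      rw [map_add, rX, zXY, add_zero]
    · show (T.pull iY M (i₀ + 1) n).hom (pX.hom x + pY.hom y) = y
      rw [map_add, rY, zYX, zero_add]

end Groth.Agent.S15883
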