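import Groth.Statements.S15893
import Mathlib
import Groth.Agent.Lib.helper24.AlphaPDual

set_option autoImplicit false
universe u v w
open CartDual

namespace Groth.Agent.S15893

open scoped TensorProduct
open Groth.Agent.Lib.helper24.AlphaPDual

lemma eval_bijective (R : Type u) [CommRing R] (A : Type v) [Ring A] [Bialgebra R A]
    [Module.Finite R A] [Module.Projective R A] : Function.Bijective (CartDual.eval R A) := by
  constructor
  · intro a a' h
    rw [← sub_eq_zero, ← Module.forall_dual_apply_eq_zero_iff R]
    intro φ
    have := congrArg (fun z : D R (D R A) => z (WithConv.toConv φ)) h
    simp only [eval_apply] at this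
    rw [map_sub, sub_eq_zero]
    exact this
  · intro x
    let y : Module.Dual R (Module.Dual R A) := x.ofConv ∘ₗ (toDual R A).symm.toLinearMap
    obtain ⟨β, hβ⟩ := (Module.bijective_dual_eval R A).2 y
    refine ⟨β, ?_⟩
    apply WithConv.ext
    apply LinearMap.ext
    intro z
    exact LinearMap.congr_fun hβ z.ofConv

/-- Let R be a commutative ring and A, B commutative and cocommutative Hopf algebras over R, each
finitely generated and projective as an R-module (finite locally free commutative group schemes G =
Spec A, H = Spec B over Spec R). Then Cartier duality is a fully faithful contravariant functor: the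
map sending a bialgebra homomorphism f : A → B (a homomorphism of group schemes H → G) to its
transpose between the dual Hopf algebras, Hom_R(B, R) → Hom_R(A, R) (the dual homomorphism G^D →
H^D), is a bijection between bialgebra homomorphisms A → B and bialgebra homomorphisms Hom_R(B, R) →
Hom_R(A, R). (The published statement also asserts that the canonical map to the double dual is an
isomorphism, which makes duality an involutory anti-equivalence; that part is not restated here. The
published notes work over a Noetherian base ring; the row allows any commutative base ring.) -/
theorem result (R : Type u) [CommRing R] (A : Type v) (B : Type w)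
    [CommRing A] [HopfAlgebra R A] [Coalgebra.IsCocomm R A] [Module.Finite R A] [Module.Projective R A]
    [CommRing B] [HopfAlgebra R B] [Coalgebra.IsCocomm R B] [Module.Finite R B] [Module.Projective R B] :
    Function.Bijective (fun f : A →ₐc[R] B => CartDual.transpose R f) := by
  constructor
  · intro f g h
    apply BialgHom.ext
    intro a
    rw [← sub_eq_zero, ← Module.forall_dual_apply_eq_zero_iff R]
    intro φ
    have h1 : CartDual.transpose R f (WithConv.toConv φ) a = CartDual.transpose R g (WithConv.toConv φ) a := by
      have h' : CartDual.transpose R f = CartDual.transpose R g := h
      rw [h']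
    rw [transpose_apply, transpose_apply] at h1
    rw [map_sub, sub_eq_zero]
    exact h1
  · intro F
    let eB := BialgEquiv.ofBijective (R := R) (A := B) (B := D R (D R B)) (CartDual.eval R B) (eval_bijective R B)
    let f : A →ₐc[R] B :=
      ((eB.symm.toBialgHom).comp (CartDual.transpose R F)).comp (CartDual.eval R A)
    refine ⟨f, ?_⟩
    apply BialgHom.ext
    intro x
    apply WithConv.ext
    apply LinearMap.ext
    intro a
    show (CartDual.transpose R f x) a = (F x) a
    rw [transpose_apply]
    have h1 : CartDual.eval R B (f a) = CartDual.transpose R F (CartDual.eval R A a) := by
      show eB (eB.symm (CartDual.transpose R F (CartDual.eval R A a))) = _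
      rw [BialgEquiv.apply_symm_apply]
    have h2 := congrArg (fun z : D R (D R B) => z x) h1
    simp only [eval_apply, transpose_apply] at h2
    exact h2

end Groth.Agent.S15893
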