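import Groth.Statements.S15895
import Mathlib
import Groth.Agent.Lib.helper24.AlphaPDual
import Groth.Agent.Lib.helper24.VerschTriv

set_option autoImplicit false
universe u
open scoped TensorProduct
open Versch

namespace Groth.Agent.S15895

open CartDual
open Groth.Agent.Lib.helper24.AlphaPDual
open Groth.Agent.Lib.helper24.VerschTriv

lemma eval_surjective (R : Type u) [CommRing R] (A : Type u) [Ring A] [Bialgebra R A]
    [Module.Finite R A] [Module.Projective R A] : Function.Surjective (CartDual.eval R A) := by
  intro x
  let y : Module.Dual R (Module.Dual R A) := x.ofConv ∘ₗ (toDual R A).symm.toLinearMap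
  obtain ⟨β, hβ⟩ := (Module.bijective_dual_eval R A).2 y
  refine ⟨β, ?_⟩
  apply WithConv.ext
  apply LinearMap.ext
  intro z
  have := LinearMap.congr_fun hβ z.ofConv
  exact this

lemma monoidAlgebra_pow_p (p : ℕ) [Fact p.Prime] (R : Type u) [CommRing R] [CharP R p]
    (β : MonoidAlgebra R (Multiplicative (ZMod p))) :
    β ^ p = algebraMap R _ ((Coalgebra.counit (R := R) β) ^ p) := by
  have : CharP (MonoidAlgebra R (Multiplicative (ZMod p))) p :=
    charP_of_injective_algebraMap (Bialgebra.algebraMap_injective (R := R) _) p
  induction β using MonoidAlgebra.induction_linear with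
  | zero =>
    rw [map_zero, zero_pow (Fact.out : p.Prime).ne_zero, zero_pow (Fact.out : p.Prime).ne_zero, map_zero]
  | add a b ha hb =>
    rw [add_pow_char, ha, hb, map_add, add_pow_char, map_add]
  | single g c =>
    have hg : g ^ p = 1 := by
      have := pow_card_eq_one (G := Multiplicative (ZMod p)) (x := g)
      rwa [Fintype.card_multiplicative, ZMod.card] at this
    rw [MonoidAlgebra.single_pow, hg, MonoidAlgebra.counit_single]
    rfl

/-- Let p be a prime, R a commutative ring of characteristic p and B = Hom_R(R[ℤ/p], R) the dual Hopf
algebra of the group algebra of the cyclic group of order p: the Hopf algebra of the constant group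
scheme ℤ/p over Spec R (the Cartier dual of μ_p). Let v : B → B ⊗_R R^(Frob) be the comorphism of
the Verschiebung V : (ℤ/p)^(p) → ℤ/p (the ring map whose transpose under the canonical pairing is
the relative Frobenius of the dual Hopf algebra of B). Then V is the trivial homomorphism: v is the
composite of the counit ε : B → R, the identity of underlying rings R → R^(Frob) and the inclusion
of the twisted factor R^(Frob) → B ⊗_R R^(Frob), i.e. v(b) = 1 ⊗ ε(b). -/
theorem result (p : ℕ) [Fact p.Prime] (R : Type u) [CommRing R]
    [CharP R p] (v : CartDual.D R (MonoidAlgebra R (Multiplicative (ZMod p))) →+* FrobAlg.BaseChange p R (CartDual.D R (MonoidAlgebra R (Multiplicative (ZMod p)))))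
    (hv : Versch.IsVerschiebung p R (CartDual.D R (MonoidAlgebra R (Multiplicative (ZMod p)))) v) :
    v = ((Algebra.TensorProduct.includeRight (R := R) (A := CartDual.D R (MonoidAlgebra R (Multiplicative (ZMod p))))
            (B := FrobAlg.Twist p R)).toRingHom.comp (FrobAlg.toTwist p R).toRingHom).comp
          (Bialgebra.counitAlgHom R (CartDual.D R (MonoidAlgebra R (Multiplicative (ZMod p))))).toRingHom := by
  refine versch_eq_trivial p R (CartDual.D R (MonoidAlgebra R (Multiplicative (ZMod p)))) ?_ v hv
  intro x
  obtain ⟨β, rfl⟩ := eval_surjective R (MonoidAlgebra R (Multiplicative (ZMod p))) x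
  have h1 : (CartDual.eval R (MonoidAlgebra R (Multiplicative (ZMod p))) β) 1 = Coalgebra.counit (R := R) β := by
    rw [eval_apply, one_apply]
  rw [h1, ← map_pow, monoidAlgebra_pow_p]
  exact AlgHomClass.commutes (CartDual.eval R (MonoidAlgebra R (Multiplicative (ZMod p)))) _

end Groth.Agent.S15895
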