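import Groth.Statements.S15897
import Mathlib

set_option autoImplicit false
universe u v
open CartDual

namespace Groth.Agent.S15897

open scoped TensorProduct

/-- Let R be a commutative ring and A a commutative Hopf algebra over R which is finitely generated and
projective as an R-module (a finite locally free R-group scheme G = Spec A, not assumed
commutative). If the convolution product on the dual Hopf algebra Hom_R(A, R) is commutative, then A
is cocommutative, i.e. G is a commutative group scheme. (The dual Hopf algebra is commutative
exactly when A is cocommutative; the other implication is immediate and not stated. The published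
notes work over a Noetherian base ring; the row allows any commutative base ring.) -/
theorem result (R : Type u) [CommRing R] (A : Type v) [CommRing A] [HopfAlgebra R A]
    [Module.Finite R A] [Module.Projective R A] (h : ∀ x y : CartDual.D R A, x * y = y * x) :
    Coalgebra.IsCocomm R A := by
  constructor
  ext a
  simp only [LinearMap.coe_comp, LinearEquiv.coe_coe, Function.comp_apply]
  -- key: all functionals agree
  have key : ∀ z : D R A ⊗[R] D R A,
      ev₂ R A z (TensorProduct.comm R A A (Coalgebra.comul (R := R) a)) = ev₂ R A z (Coalgebra.comul (R := R) a) := by
    intro z
    induction z using TensorProduct.induction_on with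
    | zero => simp
    | add z₁ z₂ h₁ h₂ => simp only [map_add, LinearMap.add_apply, h₁, h₂]
    | tmul x y =>
      have e1 : (x * y) a = ev₂ R A (x ⊗ₜ y) (Coalgebra.comul (R := R) a) := by
        rw [ev₂_tmul_eq']; rfl
      have e2 : (y * x) a = ev₂ R A (x ⊗ₜ y) (TensorProduct.comm R A A (Coalgebra.comul (R := R) a)) := by
        rw [LinearMap.convMul_apply]
        generalize Coalgebra.comul (R := R) a = t
        induction t using TensorProduct.induction_on with
        | zero => simp
        | add t₁ t₂ h₁ h₂ => simp only [map_add, h₁, h₂]
        | tmul b c => simp [coe_apply, mul_comm]
      rw [← e1, ← e2, h]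
  rw [← sub_eq_zero]
  rw [← Module.forall_dual_apply_eq_zero_iff R]
  intro φ
  obtain ⟨z, rfl⟩ := (ev₂ R A).surjective φ
  rw [map_sub, key, sub_self]

end Groth.Agent.S15897
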