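import Groth.Statements.S15905
import Mathlib

set_option autoImplicit false
open Surf

namespace Groth.Agent.S15905aux
open W4c3severiratdp

/-- bounded vectors with prescribed sum and sum of squares -/
def T (k : ℕ) (s q : ℤ) : Set (Fin k → ℤ) :=
  {d | (∀ i, -2 ≤ d i ∧ d i ≤ 2) ∧ ∑ i, d i = s ∧ ∑ i, d i ^ 2 = q}

def cnt : ℕ → ℤ → ℤ → ℕ
  | 0, s, q => if s = 0 ∧ q = 0 then 1 else 0
  | k+1, s, q => if q < 0 then 0 else
      cnt k (s - -2) (q - (-2)^2) + (cnt k (s - -1) (q - (-1)^2) + (cnt k (s - 0) (q - 0^2) +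
        (cnt k (s - 1) (q - 1^2) + cnt k (s - 2) (q - 2^2))))

lemma T_finite (k : ℕ) (s q : ℤ) : (T k s q).Finite := by
  refine Set.Finite.subset (Finset.finite_toSet
    (Fintype.piFinset (fun _ : Fin k => Finset.Icc (-2:ℤ) 2))) ?_
  intro d hd
  simp only [Finset.mem_coe, Fintype.mem_piFinset, Finset.mem_Icc]
  exact hd.1

lemma T_succ (k : ℕ) (s q : ℤ) :
    T (k+1) s q = ⋃ j ∈ (Finset.Icc (-2:ℤ) 2 : Set ℤ),
      (fun e : Fin k → ℤ => (Fin.cons j e : Fin (k+1) → ℤ)) '' T k (s - j) (q - j^2) := by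
  ext d
  simp only [T, Set.mem_ofPred_eq, Set.mem_iUnion, Set.mem_image, Finset.coe_Icc, Set.mem_Icc,
    exists_prop]
  constructor
  · rintro ⟨hb, hs, hq⟩
    refine ⟨d 0, hb 0, Fin.tail d, ⟨fun i => hb i.succ, ?_, ?_⟩, Fin.cons_self_tail d⟩
    · rw [← hs, Fin.sum_univ_succ]; simp [Fin.tail]
    · rw [← hq, Fin.sum_univ_succ]; simp [Fin.tail]
  · rintro ⟨j, hj, e, ⟨hb, hs, hq⟩, rfl⟩
    refine ⟨?_, ?_, ?_⟩
    · intro i
      refine Fin.cases ?_ ?_ i
      · simpa using hj
      · intro i; simpa using hb i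
    · rw [Fin.sum_univ_succ]; simp [hs]
    · rw [Fin.sum_univ_succ]; simp [hq]

lemma ncard_T_succ (k : ℕ) (s q : ℤ) :
    (T (k+1) s q).ncard = ∑ j ∈ Finset.Icc (-2:ℤ) 2, (T k (s - j) (q - j^2)).ncard := by
  rw [T_succ, Set.Finite.ncard_biUnion (Finset.finite_toSet _), finsum_mem_coe_finset]
  · refine Finset.sum_congr rfl fun j _ => ?_
    refine Set.ncard_image_of_injective _ ?_
    intro d d' h
    funext i
    have := congrFun h i.succ
    simpa using this
  · intro j _; exact (T_finite _ _ _).image _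
  · intro j _ j' _ hjj'
    simp only [Function.onFun]
    rw [Set.disjoint_left]
    rintro d ⟨e, _, rfl⟩ ⟨e', _, h⟩
    apply hjj'
    have := congrFun h 0
    simpa using this.symm

lemma ncard_T (k : ℕ) : ∀ s q : ℤ, (T k s q).ncard = cnt k s q := by
  induction k with
  | zero =>
    intro s q
    rw [cnt]
    by_cases h : s = 0 ∧ q = 0
    · rw [if_pos h]
      obtain ⟨rfl, rfl⟩ := h
      have : T 0 0 0 = Set.univ := by ext d; simp [T]
      rw [this, Set.ncard_univ]; simp
    · rw [if_neg h]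
      have : T 0 s q = ∅ := by
        ext d
        simp only [T, Set.mem_ofPred_eq, Set.mem_empty_iff_false, iff_false]
        rintro ⟨_, h1, h2⟩
        simp at h1 h2
        exact h ⟨h1.symm, h2.symm⟩
      rw [this, Set.ncard_empty]
  | succ k ih =>
    intro s q
    rw [cnt]
    split_ifs with hq
    · have : T (k+1) s q = ∅ := by
        ext d
        simp only [T, Set.mem_ofPred_eq, Set.mem_empty_iff_false, iff_false]
        rintro ⟨_, _, h⟩
        have : 0 ≤ ∑ i, d i ^ 2 := Finset.sum_nonneg fun i _ => sq_nonneg _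
        omega
      rw [this, Set.ncard_empty]
    · rw [ncard_T_succ]
      have hI : Finset.Icc (-2:ℤ) 2 = {-2,-1,0,1,2} := by decide
      rw [hI, Finset.sum_insert (by decide), Finset.sum_insert (by decide),
        Finset.sum_insert (by decide), Finset.sum_insert (by decide), Finset.sum_singleton]
      simp only [ih]

lemma conic_iff {δ : ℕ} (v : DP δ) :
    IsConic v ↔ ∑ i : Fin δ, v i.succ ^ 2 = v 0 ^ 2 ∧ ∑ i : Fin δ, v i.succ = 3 * v 0 - 2 := by
  unfold IsConic form canon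
  simp only [Fin.cases_zero, Fin.cases_succ, neg_mul, one_mul, Finset.sum_neg_distrib, ← pow_two]
  constructor
  · rintro ⟨h1, h2⟩; constructor <;> linarith
  · rintro ⟨h1, h2⟩; constructor <;> linarith

lemma sum_shift {δ : ℕ} (d : Fin δ → ℤ) (m : ℤ) : ∑ i, (d i + m) = ∑ i, d i + δ * m := by
  simp only [Finset.sum_add_distrib, Finset.sum_const, Finset.card_univ, Fintype.card_fin,
    nsmul_eq_mul]

lemma sum_shift_sq {δ : ℕ} (d : Fin δ → ℤ) (m : ℤ) :
    ∑ i, (d i + m) ^ 2 = ∑ i, d i ^ 2 + 2 * m * ∑ i, d i + δ * m ^ 2 := by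
  have : ∀ i, (d i + m)^2 = d i ^2 + 2*m*d i + m^2 := fun i => by ring
  simp only [this, Finset.sum_add_distrib, ← Finset.mul_sum, Finset.sum_const, Finset.card_univ,
    Fintype.card_fin, nsmul_eq_mul]

theorem main (δ : ℕ) (amax : ℤ) (m : ℤ → ℤ)
    (H1 : ∀ v : DP δ, IsConic v → 1 ≤ v 0 ∧ v 0 ≤ amax)
    (H2 : ∀ a ∈ Finset.Icc 1 amax, a ^ 2 - 2 * m a * (3 * a - 2) + δ * m a ^ 2 ≤ 8) :
    {v : DP δ | IsConic v}.ncard = ∑ a ∈ Finset.Icc 1 amax,
      cnt δ (3 * a - 2 - δ * m a) (a ^ 2 - 2 * m a * (3 * a - 2) + δ * m a ^ 2) := by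
  have hset : {v : DP δ | IsConic v} = ⋃ a ∈ (Finset.Icc 1 amax : Set ℤ),
      (fun d : Fin δ → ℤ => (Fin.cons a (fun i => d i + m a) : DP δ)) ''
        T δ (3 * a - 2 - δ * m a) (a ^ 2 - 2 * m a * (3 * a - 2) + δ * m a ^ 2) := by
    ext v
    simp only [Set.mem_ofPred_eq, Set.mem_iUnion, Set.mem_image, exists_prop, Finset.mem_coe]
    constructor
    · intro hv
      obtain ⟨ha1, ha2⟩ := H1 v hv
      have hmem : v 0 ∈ Finset.Icc 1 amax := Finset.mem_Icc.2 ⟨ha1, ha2⟩
      obtain ⟨h1, h2⟩ := (conic_iff v).1 hv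
      have e1 : ∑ i : Fin δ, (v i.succ + (- m (v 0))) = 3 * v 0 - 2 - δ * m (v 0) := by
        rw [sum_shift, h2]; ring
      have e2 : ∑ i : Fin δ, (v i.succ + (- m (v 0))) ^ 2 =
          v 0 ^ 2 - 2 * m (v 0) * (3 * v 0 - 2) + δ * m (v 0) ^ 2 := by
        rw [sum_shift_sq, h1, h2]; ring
      refine ⟨v 0, hmem, fun i => v i.succ + (- m (v 0)), ⟨?_, e1, e2⟩, ?_⟩
      · intro i
        have hD := H2 _ hmem
        have := Finset.single_le_sum (f := fun i : Fin δ => (v i.succ + (- m (v 0))) ^ 2)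
          (fun j _ => sq_nonneg _) (Finset.mem_univ i)
        rw [e2] at this
        constructor <;> nlinarith
      · funext i
        refine Fin.cases ?_ ?_ i
        · simp
        · intro i; simp
    · rintro ⟨a, ha, d, ⟨hb, hs, hq⟩, rfl⟩
      rw [conic_iff]
      simp only [Fin.cons_zero, Fin.cons_succ]
      rw [sum_shift, sum_shift_sq, hs, hq]
      constructor <;> ring
  rw [hset, Set.Finite.ncard_biUnion (Finset.finite_toSet _), finsum_mem_coe_finset]
  · refine Finset.sum_congr rfl fun a _ => ?_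
    rw [Set.ncard_image_of_injective, ncard_T]
    intro d d' h
    funext i
    have := congrFun h i.succ
    simpa using this
  · intro a _; exact (T_finite _ _ _).image _
  · intro a _ a' _ haa'
    simp only [Function.onFun]
    rw [Set.disjoint_left]
    rintro v ⟨e, _, rfl⟩ ⟨e', _, h⟩
    apply haa'
    have := congrFun h 0
    simpa using this.symm

/-- the rounding shift -/
def mm (δ : ℕ) (a : ℤ) : ℤ := (3 * a - 2 + ((δ / 2 : ℕ) : ℤ)) / (δ : ℤ)

lemma range_of_conic {δ : ℕ} (v : DP δ) (hv : IsConic v) :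
    (3 * v 0 - 2) ^ 2 ≤ δ * v 0 ^ 2 := by
  obtain ⟨h1, h2⟩ := (conic_iff v).1 hv
  have hcs := sq_sum_le_card_mul_sum_sq (s := Finset.univ) (f := fun i : Fin δ => v i.succ)
  simp only [Finset.card_univ, Fintype.card_fin] at hcs
  rw [h1, h2] at hcs
  exact hcs

end Groth.Agent.S15905aux

namespace Groth.Agent.S15905

open W4c3severiratdp in
/-- Work in the lattice of vectors (a; b_1, …, b_δ), standing for divisor classes a ℓ − Σ b_i e_i on the
blow-up of the projective plane at δ points written in a standard basis, with intersection form a a'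
− Σ b_i b_i' and canonical class K = (−3; −1, …, −1); a conic class is a class Q with Q·Q = 0 and
K·Q = −2. Then the number of conic classes is 2160 for δ = 8, 126 for δ = 7, 27 for δ = 6, 10 for δ
= 5, 5 for δ = 4, 3 for δ = 3 and 2 for δ = 2. -/
theorem result :
    {v : DP 8 | IsConic v}.ncard = 2160 ∧ {v : DP 7 | IsConic v}.ncard = 126 ∧
      {v : DP 6 | IsConic v}.ncard = 27 ∧ {v : DP 5 | IsConic v}.ncard = 10 ∧
      {v : DP 4 | IsConic v}.ncard = 5 ∧ {v : DP 3 | IsConic v}.ncard = 3 ∧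
      {v : DP 2 | IsConic v}.ncard = 2 := by
  have H1 : ∀ (δ : ℕ) (amax : ℤ), (∀ a : ℤ, (3 * a - 2) ^ 2 ≤ δ * a ^ 2 → 1 ≤ a ∧ a ≤ amax) →
      ∀ v : DP δ, IsConic v → 1 ≤ v 0 ∧ v 0 ≤ amax := fun δ amax h v hv =>
    h _ (Groth.Agent.S15905aux.range_of_conic v hv)
  refine ⟨?_, ?_, ?_, ?_, ?_, ?_, ?_⟩
  · rw [Groth.Agent.S15905aux.main 8 11 (Groth.Agent.S15905aux.mm 8)
      (H1 8 11 (fun a h => by push_cast at h; constructor <;> nlinarith)) (by decide)]
    decide
  · rw [Groth.Agent.S15905aux.main 7 5 (Groth.Agent.S15905aux.mm 7)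
      (H1 7 5 (fun a h => by push_cast at h; constructor <;> nlinarith)) (by decide)]
    decide
  · rw [Groth.Agent.S15905aux.main 6 3 (Groth.Agent.S15905aux.mm 6)
      (H1 6 3 (fun a h => by push_cast at h; constructor <;> nlinarith)) (by decide)]
    decide
  · rw [Groth.Agent.S15905aux.main 5 2 (Groth.Agent.S15905aux.mm 5)
      (H1 5 2 (fun a h => by push_cast at h; constructor <;> nlinarith)) (by decide)]
    decide
  · rw [Groth.Agent.S15905aux.main 4 2 (Groth.Agent.S15905aux.mm 4)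
      (H1 4 2 (fun a h => by push_cast at h; constructor <;> nlinarith)) (by decide)]
    decide
  · rw [Groth.Agent.S15905aux.main 3 1 (Groth.Agent.S15905aux.mm 3)
      (H1 3 1 (fun a h => by push_cast at h; constructor <;> nlinarith)) (by decide)]
    decide
  · rw [Groth.Agent.S15905aux.main 2 1 (Groth.Agent.S15905aux.mm 2)
      (H1 2 1 (fun a h => by push_cast at h; constructor <;> nlinarith)) (by decide)]
    decide

end Groth.Agent.S15905
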