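import Groth.Statements.S15906
import Mathlib

set_option autoImplicit false
open Surf

namespace Groth.Agent.S15906aux
open W4c3severiratdp

def N (d : Fin 8 → ℤ) (j : ℤ) : ℕ := (Finset.univ.filter (fun i => d i = j)).card

lemma sum_eq_counts (d : Fin 8 → ℤ) (hd : ∀ i, -2 ≤ d i ∧ d i ≤ 2) (φ : ℤ → ℤ) :
    ∑ i, φ (d i) = (N d (-2) : ℤ) * φ (-2) + N d (-1) * φ (-1) + N d 0 * φ 0
      + N d 1 * φ 1 + N d 2 * φ 2 := by
  have hI : Finset.Icc (-2:ℤ) 2 = {-2,-1,0,1,2} := by decide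
  rw [← Finset.sum_fiberwise_of_maps_to (t := Finset.Icc (-2:ℤ) 2) (g := d)
    (fun i _ => Finset.mem_Icc.2 (hd i))]
  have : ∀ j ∈ Finset.Icc (-2:ℤ) 2,
      ∑ i ∈ Finset.univ with d i = j, φ (d i) = (N d j : ℤ) * φ j := by
    intro j _
    rw [Finset.sum_congr rfl (fun i hi => by rw [(Finset.mem_filter.1 hi).2] :
      ∀ i ∈ Finset.univ.filter (fun i => d i = j), φ (d i) = φ j)]
    simp [N]
  rw [Finset.sum_congr rfl this, hI]
  rw [Finset.sum_insert (by decide), Finset.sum_insert (by decide), Finset.sum_insert (by decide),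
    Finset.sum_insert (by decide), Finset.sum_singleton]
  ring

lemma perm_of_counts (d e : Fin 8 → ℤ) (hd : ∀ i, -2 ≤ d i ∧ d i ≤ 2)
    (he : ∀ i, -2 ≤ e i ∧ e i ≤ 2)
    (h1 : N d (-2) = N e (-2)) (h2 : N d (-1) = N e (-1)) (h3 : N d 0 = N e 0)
    (h4 : N d 1 = N e 1) (h5 : N d 2 = N e 2) :
    ∃ σ : Equiv.Perm (Fin 8), ∀ i, d (σ i) = e i := by
  have key : ∀ z : ℤ, Fintype.card {i // e i = z} = Fintype.card {i // d i = z} := by
    intro z
    rw [Fintype.card_subtype, Fintype.card_subtype]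
    by_cases hz : -2 ≤ z ∧ z ≤ 2
    · obtain ⟨hz1, hz2⟩ := hz
      change N e z = N d z
      interval_cases z
      · exact h1.symm
      · exact h2.symm
      · exact h3.symm
      · exact h4.symm
      · exact h5.symm
    · have e1 : Finset.univ.filter (fun i => e i = z) = ∅ := by
        rw [Finset.filter_eq_empty_iff]
        intro i _ hi
        exact hz (hi ▸ he i)
      have e2 : Finset.univ.filter (fun i => d i = z) = ∅ := by
        rw [Finset.filter_eq_empty_iff]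
        intro i _ hi
        exact hz (hi ▸ hd i)
      rw [e1, e2]
  exact ⟨Equiv.ofFiberEquiv (fun c => Fintype.equivOfCardEq (key c)),
    fun i => Equiv.ofFiberEquiv_map _ i⟩

lemma shift_sq (b : Fin 8 → ℤ) (m : ℤ) :
    ∑ i, (b i - m) ^ 2 = ∑ i, b i ^ 2 - 2 * m * ∑ i, b i + 8 * m ^ 2 := by
  simp only [Fin.sum_univ_eight]; ring

lemma shift_sum (b : Fin 8 → ℤ) (m : ℤ) :
    ∑ i, (b i - m) = ∑ i, b i - 8 * m := by
  simp only [Fin.sum_univ_eight]; ring

lemma case_lemma (v : DP 8) (a m : ℤ) (h1 : ∑ i : Fin 8, v i.succ ^ 2 = a ^ 2)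
    (h2 : ∑ i : Fin 8, v i.succ = 3 * a - 2)
    (hD : a ^ 2 - 2 * m * (3 * a - 2) + 8 * m ^ 2 ≤ 5) :
    (∀ i : Fin 8, -2 ≤ v i.succ - m ∧ v i.succ - m ≤ 2) ∧
    ∃ n1 n2 n3 n4 n5 : ℕ,
      N (fun i => v i.succ - m) (-2) = n1 ∧ N (fun i => v i.succ - m) (-1) = n2 ∧
      N (fun i => v i.succ - m) 0 = n3 ∧ N (fun i => v i.succ - m) 1 = n4 ∧
      N (fun i => v i.succ - m) 2 = n5 ∧
      (n1 : ℤ) + n2 + n3 + n4 + n5 = 8 ∧
      -2 * (n1 : ℤ) - n2 + n4 + 2 * n5 = 3 * a - 2 - 8 * m ∧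
      4 * (n1 : ℤ) + n2 + n4 + 4 * n5 = a ^ 2 - 2 * m * (3 * a - 2) + 8 * m ^ 2 := by
  have hsq : ∑ i : Fin 8, (v i.succ - m) ^ 2 = a ^ 2 - 2 * m * (3 * a - 2) + 8 * m ^ 2 := by
    rw [shift_sq (fun i => v i.succ) m, h1, h2]
  have hsum : ∑ i : Fin 8, (v i.succ - m) = 3 * a - 2 - 8 * m := by
    rw [shift_sum (fun i => v i.succ) m, h2]
  have hb : ∀ i : Fin 8, -2 ≤ v i.succ - m ∧ v i.succ - m ≤ 2 := by
    intro i
    have := Finset.single_le_sum (f := fun i : Fin 8 => (v i.succ - m) ^ 2)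
      (fun j _ => sq_nonneg _) (Finset.mem_univ i)
    rw [hsq] at this
    constructor <;> nlinarith
  refine ⟨hb, _, _, _, _, _, rfl, rfl, rfl, rfl, rfl, ?_, ?_, ?_⟩
  · have := sum_eq_counts (fun i => v i.succ - m) hb (fun _ => 1)
    simp only [Finset.sum_const, Finset.card_univ, Fintype.card_fin, mul_one] at this
    simpa using this.symm
  · have := sum_eq_counts (fun i => v i.succ - m) hb (fun x => x)
    rw [hsum] at this
    rw [this]; ring
  · have := sum_eq_counts (fun i => v i.succ - m) hb (fun x => x ^ 2)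
    rw [hsq] at this
    rw [this]; ring

lemma master (v t : DP 8) (m : ℤ)
    (hv : ∀ i : Fin 8, -2 ≤ v i.succ - m ∧ v i.succ - m ≤ 2)
    (ht : ∀ i : Fin 8, -2 ≤ t i.succ - m ∧ t i.succ - m ≤ 2)
    (h0 : v 0 = t 0)
    (h1 : N (fun i => v i.succ - m) (-2) = N (fun i => t i.succ - m) (-2))
    (h2 : N (fun i => v i.succ - m) (-1) = N (fun i => t i.succ - m) (-1))
    (h3 : N (fun i => v i.succ - m) 0 = N (fun i => t i.succ - m) 0)
    (h4 : N (fun i => v i.succ - m) 1 = N (fun i => t i.succ - m) 1)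
    (h5 : N (fun i => v i.succ - m) 2 = N (fun i => t i.succ - m) 2) :
    ∃ σ : Equiv.Perm (Fin 8), v 0 = t 0 ∧ ∀ i : Fin 8, v (σ i).succ = t i.succ := by
  obtain ⟨σ, hσ⟩ := perm_of_counts _ _ hv ht h1 h2 h3 h4 h5
  exact ⟨σ, h0, fun i => by have := hσ i; linarith⟩

lemma back (v t : DP 8) (σ : Equiv.Perm (Fin 8)) (h0 : v 0 = t 0)
    (hσ : ∀ i : Fin 8, v (σ i).succ = t i.succ) (ht : IsConic t) : IsConic v := by
  obtain ⟨ht1, ht2⟩ := ht
  constructor
  · rw [← ht1]
    unfold form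
    rw [h0, ← Equiv.sum_comp σ (fun i => v i.succ * v i.succ)]
    simp only [hσ]
  · rw [← ht2]
    unfold form
    rw [h0, ← Equiv.sum_comp σ (fun i => canon 8 i.succ * v i.succ)]
    simp only [hσ]
    rfl

end Groth.Agent.S15906aux

namespace Groth.Agent.S15906

open W4c3severiratdp in
/-- Work in the lattice of vectors (a; b_1, …, b_δ), standing for divisor classes a ℓ − Σ b_i e_i on the
blow-up of the projective plane at δ points written in a standard basis, with intersection form a a'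
− Σ b_i b_i' and canonical class K = (−3; −1, …, −1); a conic class is a class Q with Q·Q = 0 and
K·Q = −2, an exceptional class (the class of a (−1)-curve) is a class E with E·E = −1 and K·E = −1,
and the Weyl group W_δ is the group of additive automorphisms of the lattice preserving the form and
fixing K. For δ = 8, a class (a; b_1, …, b_8) is a conic class if and only if, up to a permutation
of b_1, …, b_8, it is one of the fifteen vectors (1; 1, 0, 0, 0, 0, 0, 0, 0), (2; 1, 1, 1, 1, 0, 0,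
0, 0), (3; 2, 1, 1, 1, 1, 1, 0, 0), (4; 2, 2, 2, 1, 1, 1, 1, 0), (4; 3, 1, 1, 1, 1, 1, 1, 1), (5; 2,
2, 2, 2, 2, 2, 1, 0), (5; 3, 2, 2, 2, 1, 1, 1, 1), (6; 3, 3, 2, 2, 2, 2, 1, 1), (7; 3, 3, 3, 3, 2,
2, 2, 1), (7; 4, 3, 2, 2, 2, 2, 2, 2), (8; 4, 3, 3, 3, 3, 2, 2, 2), (8; 3, 3, 3, 3, 3, 3, 3, 1), (9;
4, 4, 3, 3, 3, 3, 3, 2), (10; 4, 4, 4, 4, 3, 3, 3, 3), (11; 4, 4, 4, 4, 4, 4, 4, 3). (One line of
the published table is illegible in the available copy; the fifteen vectors here are the complete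
solution set of the two defining equations a² = Σ b_i², 3a − Σ b_i = 2.) -/
theorem result (v : DP 8) :
    IsConic v ↔
      ∃ t ∈ ({![1, 1, 0, 0, 0, 0, 0, 0, 0],
        ![2, 1, 1, 1, 1, 0, 0, 0, 0],
        ![3, 2, 1, 1, 1, 1, 1, 0, 0],
        ![4, 2, 2, 2, 1, 1, 1, 1, 0],
        ![4, 3, 1, 1, 1, 1, 1, 1, 1],
        ![5, 2, 2, 2, 2, 2, 2, 1, 0],
        ![5, 3, 2, 2, 2, 1, 1, 1, 1],
        ![6, 3, 3, 2, 2, 2, 2, 1, 1],
        ![7, 3, 3, 3, 3, 2, 2, 2, 1],
        ![7, 4, 3, 2, 2, 2, 2, 2, 2],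
        ![8, 4, 3, 3, 3, 3, 2, 2, 2],
        ![8, 3, 3, 3, 3, 3, 3, 3, 1],
        ![9, 4, 4, 3, 3, 3, 3, 3, 2],
        ![10, 4, 4, 4, 4, 3, 3, 3, 3],
        ![11, 4, 4, 4, 4, 4, 4, 4, 3]} : Set (DP 8)),
        ∃ σ : Equiv.Perm (Fin 8), v 0 = t 0 ∧ ∀ i : Fin 8, v (σ i).succ = t i.succ := by
  constructor
  · rintro ⟨hq, hk⟩
    have h1 : ∑ i : Fin 8, v i.succ ^ 2 = (v 0) ^ 2 := by
      unfold form at hq
      simp only [← pow_two] at hq
      linarith
    have h2 : ∑ i : Fin 8, v i.succ = 3 * v 0 - 2 := by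
      unfold form canon at hk
      simp only [Fin.cases_zero, Fin.cases_succ, neg_mul, one_mul, Finset.sum_neg_distrib] at hk
      linarith
    obtain ⟨a, ha⟩ : ∃ a, v 0 = a := ⟨_, rfl⟩
    rw [ha] at h1 h2
    have hcs := sq_sum_le_card_mul_sum_sq (s := Finset.univ) (f := fun i : Fin 8 => v i.succ)
    simp only [Finset.card_univ, Fintype.card_fin] at hcs
    rw [h1, h2] at hcs
    push_cast at hcs
    have ha1 : 1 ≤ a := by nlinarith
    have ha2 : a ≤ 11 := by nlinarith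
    interval_cases a
    · -- a = 1, m = 0
      obtain ⟨hb, n1, n2, n3, n4, n5, e1, e2, e3, e4, e5, c0, c1, c2⟩ :=
        Groth.Agent.S15906aux.case_lemma v 1 0 h1 h2 (by norm_num)
      norm_num at c1 c2
      have hsol : (n1 = 0 ∧ n2 = 0 ∧ n3 = 7 ∧ n4 = 1 ∧ n5 = 0) := by
        have b1 : n1 ≤ 1 := by omega
        have b5 : n5 ≤ 1 := by omega
        have b4 : n4 ≤ 5 := by omega
        interval_cases n1 <;> interval_cases n5 <;> interval_cases n4 <;> omega
      rcases hsol with ⟨rfl, rfl, rfl, rfl, rfl⟩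
      · exact ⟨![1, 1, 0, 0, 0, 0, 0, 0, 0], by simp,
          Groth.Agent.S15906aux.master v _ 0 hb (by decide) ha (e1.trans (by decide)) (e2.trans (by decide))
            (e3.trans (by decide)) (e4.trans (by decide)) (e5.trans (by decide))⟩
    · -- a = 2, m = 0
      obtain ⟨hb, n1, n2, n3, n4, n5, e1, e2, e3, e4, e5, c0, c1, c2⟩ :=
        Groth.Agent.S15906aux.case_lemma v 2 0 h1 h2 (by norm_num)
      norm_num at c1 c2
      have hsol : (n1 = 0 ∧ n2 = 0 ∧ n3 = 4 ∧ n4 = 4 ∧ n5 = 0) := by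
        have b1 : n1 ≤ 1 := by omega
        have b5 : n5 ≤ 1 := by omega
        have b4 : n4 ≤ 5 := by omega
        interval_cases n1 <;> interval_cases n5 <;> interval_cases n4 <;> omega
      rcases hsol with ⟨rfl, rfl, rfl, rfl, rfl⟩
      · exact ⟨![2, 1, 1, 1, 1, 0, 0, 0, 0], by simp,
          Groth.Agent.S15906aux.master v _ 0 hb (by decide) ha (e1.trans (by decide)) (e2.trans (by decide))
            (e3.trans (by decide)) (e4.trans (by decide)) (e5.trans (by decide))⟩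
    · -- a = 3, m = 1
      obtain ⟨hb, n1, n2, n3, n4, n5, e1, e2, e3, e4, e5, c0, c1, c2⟩ :=
        Groth.Agent.S15906aux.case_lemma v 3 1 h1 h2 (by norm_num)
      norm_num at c1 c2
      have hsol : (n1 = 0 ∧ n2 = 2 ∧ n3 = 5 ∧ n4 = 1 ∧ n5 = 0) := by
        have b1 : n1 ≤ 1 := by omega
        have b5 : n5 ≤ 1 := by omega
        have b4 : n4 ≤ 5 := by omega
        interval_cases n1 <;> interval_cases n5 <;> interval_cases n4 <;> omega
      rcases hsol with ⟨rfl, rfl, rfl, rfl, rfl⟩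
      · exact ⟨![3, 2, 1, 1, 1, 1, 1, 0, 0], by simp,
          Groth.Agent.S15906aux.master v _ 1 hb (by decide) ha (e1.trans (by decide)) (e2.trans (by decide))
            (e3.trans (by decide)) (e4.trans (by decide)) (e5.trans (by decide))⟩
    · -- a = 4, m = 1
      obtain ⟨hb, n1, n2, n3, n4, n5, e1, e2, e3, e4, e5, c0, c1, c2⟩ :=
        Groth.Agent.S15906aux.case_lemma v 4 1 h1 h2 (by norm_num)
      norm_num at c1 c2
      have hsol : (n1 = 0 ∧ n2 = 0 ∧ n3 = 7 ∧ n4 = 0 ∧ n5 = 1) ∨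
          (n1 = 0 ∧ n2 = 1 ∧ n3 = 4 ∧ n4 = 3 ∧ n5 = 0) := by
        have b1 : n1 ≤ 1 := by omega
        have b5 : n5 ≤ 1 := by omega
        have b4 : n4 ≤ 5 := by omega
        interval_cases n1 <;> interval_cases n5 <;> interval_cases n4 <;> omega
      rcases hsol with ⟨rfl, rfl, rfl, rfl, rfl⟩ | ⟨rfl, rfl, rfl, rfl, rfl⟩
      · exact ⟨![4, 3, 1, 1, 1, 1, 1, 1, 1], by simp,
          Groth.Agent.S15906aux.master v _ 1 hb (by decide) ha (e1.trans (by decide)) (e2.trans (by decide))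
            (e3.trans (by decide)) (e4.trans (by decide)) (e5.trans (by decide))⟩
      · exact ⟨![4, 2, 2, 2, 1, 1, 1, 1, 0], by simp,
          Groth.Agent.S15906aux.master v _ 1 hb (by decide) ha (e1.trans (by decide)) (e2.trans (by decide))
            (e3.trans (by decide)) (e4.trans (by decide)) (e5.trans (by decide))⟩
    · -- a = 5, m = 2
      obtain ⟨hb, n1, n2, n3, n4, n5, e1, e2, e3, e4, e5, c0, c1, c2⟩ :=
        Groth.Agent.S15906aux.case_lemma v 5 2 h1 h2 (by norm_num)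
      norm_num at c1 c2
      have hsol : (n1 = 0 ∧ n2 = 4 ∧ n3 = 3 ∧ n4 = 1 ∧ n5 = 0) ∨
          (n1 = 1 ∧ n2 = 1 ∧ n3 = 6 ∧ n4 = 0 ∧ n5 = 0) := by
        have b1 : n1 ≤ 1 := by omega
        have b5 : n5 ≤ 1 := by omega
        have b4 : n4 ≤ 5 := by omega
        interval_cases n1 <;> interval_cases n5 <;> interval_cases n4 <;> omega
      rcases hsol with ⟨rfl, rfl, rfl, rfl, rfl⟩ | ⟨rfl, rfl, rfl, rfl, rfl⟩
      · exact ⟨![5, 3, 2, 2, 2, 1, 1, 1, 1], by simp,
          Groth.Agent.S15906aux.master v _ 2 hb (by decide) ha (e1.trans (by decide)) (e2.trans (by decide))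
            (e3.trans (by decide)) (e4.trans (by decide)) (e5.trans (by decide))⟩
      · exact ⟨![5, 2, 2, 2, 2, 2, 2, 1, 0], by simp,
          Groth.Agent.S15906aux.master v _ 2 hb (by decide) ha (e1.trans (by decide)) (e2.trans (by decide))
            (e3.trans (by decide)) (e4.trans (by decide)) (e5.trans (by decide))⟩
    · -- a = 6, m = 2
      obtain ⟨hb, n1, n2, n3, n4, n5, e1, e2, e3, e4, e5, c0, c1, c2⟩ :=
        Groth.Agent.S15906aux.case_lemma v 6 2 h1 h2 (by norm_num)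
      norm_num at c1 c2
      have hsol : (n1 = 0 ∧ n2 = 2 ∧ n3 = 4 ∧ n4 = 2 ∧ n5 = 0) := by
        have b1 : n1 ≤ 1 := by omega
        have b5 : n5 ≤ 1 := by omega
        have b4 : n4 ≤ 5 := by omega
        interval_cases n1 <;> interval_cases n5 <;> interval_cases n4 <;> omega
      rcases hsol with ⟨rfl, rfl, rfl, rfl, rfl⟩
      · exact ⟨![6, 3, 3, 2, 2, 2, 2, 1, 1], by simp,
          Groth.Agent.S15906aux.master v _ 2 hb (by decide) ha (e1.trans (by decide)) (e2.trans (by decide))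
            (e3.trans (by decide)) (e4.trans (by decide)) (e5.trans (by decide))⟩
    · -- a = 7, m = 2
      obtain ⟨hb, n1, n2, n3, n4, n5, e1, e2, e3, e4, e5, c0, c1, c2⟩ :=
        Groth.Agent.S15906aux.case_lemma v 7 2 h1 h2 (by norm_num)
      norm_num at c1 c2
      have hsol : (n1 = 0 ∧ n2 = 0 ∧ n3 = 6 ∧ n4 = 1 ∧ n5 = 1) ∨
          (n1 = 0 ∧ n2 = 1 ∧ n3 = 3 ∧ n4 = 4 ∧ n5 = 0) := by
        have b1 : n1 ≤ 1 := by omega
        have b5 : n5 ≤ 1 := by omega
        have b4 : n4 ≤ 5 := by omega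
        interval_cases n1 <;> interval_cases n5 <;> interval_cases n4 <;> omega
      rcases hsol with ⟨rfl, rfl, rfl, rfl, rfl⟩ | ⟨rfl, rfl, rfl, rfl, rfl⟩
      · exact ⟨![7, 4, 3, 2, 2, 2, 2, 2, 2], by simp,
          Groth.Agent.S15906aux.master v _ 2 hb (by decide) ha (e1.trans (by decide)) (e2.trans (by decide))
            (e3.trans (by decide)) (e4.trans (by decide)) (e5.trans (by decide))⟩
      · exact ⟨![7, 3, 3, 3, 3, 2, 2, 2, 1], by simp,
          Groth.Agent.S15906aux.master v _ 2 hb (by decide) ha (e1.trans (by decide)) (e2.trans (by decide))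
            (e3.trans (by decide)) (e4.trans (by decide)) (e5.trans (by decide))⟩
    · -- a = 8, m = 3
      obtain ⟨hb, n1, n2, n3, n4, n5, e1, e2, e3, e4, e5, c0, c1, c2⟩ :=
        Groth.Agent.S15906aux.case_lemma v 8 3 h1 h2 (by norm_num)
      norm_num at c1 c2
      have hsol : (n1 = 0 ∧ n2 = 3 ∧ n3 = 4 ∧ n4 = 1 ∧ n5 = 0) ∨
          (n1 = 1 ∧ n2 = 0 ∧ n3 = 7 ∧ n4 = 0 ∧ n5 = 0) := by
        have b1 : n1 ≤ 1 := by omega
        have b5 : n5 ≤ 1 := by omega
        have b4 : n4 ≤ 5 := by omega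
        interval_cases n1 <;> interval_cases n5 <;> interval_cases n4 <;> omega
      rcases hsol with ⟨rfl, rfl, rfl, rfl, rfl⟩ | ⟨rfl, rfl, rfl, rfl, rfl⟩
      · exact ⟨![8, 4, 3, 3, 3, 3, 2, 2, 2], by simp,
          Groth.Agent.S15906aux.master v _ 3 hb (by decide) ha (e1.trans (by decide)) (e2.trans (by decide))
            (e3.trans (by decide)) (e4.trans (by decide)) (e5.trans (by decide))⟩
      · exact ⟨![8, 3, 3, 3, 3, 3, 3, 3, 1], by simp,
          Groth.Agent.S15906aux.master v _ 3 hb (by decide) ha (e1.trans (by decide)) (e2.trans (by decide))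
            (e3.trans (by decide)) (e4.trans (by decide)) (e5.trans (by decide))⟩
    · -- a = 9, m = 3
      obtain ⟨hb, n1, n2, n3, n4, n5, e1, e2, e3, e4, e5, c0, c1, c2⟩ :=
        Groth.Agent.S15906aux.case_lemma v 9 3 h1 h2 (by norm_num)
      norm_num at c1 c2
      have hsol : (n1 = 0 ∧ n2 = 1 ∧ n3 = 5 ∧ n4 = 2 ∧ n5 = 0) := by
        have b1 : n1 ≤ 1 := by omega
        have b5 : n5 ≤ 1 := by omega
        have b4 : n4 ≤ 5 := by omega
        interval_cases n1 <;> interval_cases n5 <;> interval_cases n4 <;> omega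
      rcases hsol with ⟨rfl, rfl, rfl, rfl, rfl⟩
      · exact ⟨![9, 4, 4, 3, 3, 3, 3, 3, 2], by simp,
          Groth.Agent.S15906aux.master v _ 3 hb (by decide) ha (e1.trans (by decide)) (e2.trans (by decide))
            (e3.trans (by decide)) (e4.trans (by decide)) (e5.trans (by decide))⟩
    · -- a = 10, m = 3
      obtain ⟨hb, n1, n2, n3, n4, n5, e1, e2, e3, e4, e5, c0, c1, c2⟩ :=
        Groth.Agent.S15906aux.case_lemma v 10 3 h1 h2 (by norm_num)
      norm_num at c1 c2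
      have hsol : (n1 = 0 ∧ n2 = 0 ∧ n3 = 4 ∧ n4 = 4 ∧ n5 = 0) := by
        have b1 : n1 ≤ 1 := by omega
        have b5 : n5 ≤ 1 := by omega
        have b4 : n4 ≤ 5 := by omega
        interval_cases n1 <;> interval_cases n5 <;> interval_cases n4 <;> omega
      rcases hsol with ⟨rfl, rfl, rfl, rfl, rfl⟩
      · exact ⟨![10, 4, 4, 4, 4, 3, 3, 3, 3], by simp,
          Groth.Agent.S15906aux.master v _ 3 hb (by decide) ha (e1.trans (by decide)) (e2.trans (by decide))
            (e3.trans (by decide)) (e4.trans (by decide)) (e5.trans (by decide))⟩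
    · -- a = 11, m = 4
      obtain ⟨hb, n1, n2, n3, n4, n5, e1, e2, e3, e4, e5, c0, c1, c2⟩ :=
        Groth.Agent.S15906aux.case_lemma v 11 4 h1 h2 (by norm_num)
      norm_num at c1 c2
      have hsol : (n1 = 0 ∧ n2 = 1 ∧ n3 = 7 ∧ n4 = 0 ∧ n5 = 0) := by
        have b1 : n1 ≤ 1 := by omega
        have b5 : n5 ≤ 1 := by omega
        have b4 : n4 ≤ 5 := by omega
        interval_cases n1 <;> interval_cases n5 <;> interval_cases n4 <;> omega
      rcases hsol with ⟨rfl, rfl, rfl, rfl, rfl⟩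
      · exact ⟨![11, 4, 4, 4, 4, 4, 4, 4, 3], by simp,
          Groth.Agent.S15906aux.master v _ 4 hb (by decide) ha (e1.trans (by decide)) (e2.trans (by decide))
            (e3.trans (by decide)) (e4.trans (by decide)) (e5.trans (by decide))⟩
  · rintro ⟨t, ht, σ, h0, hσ⟩
    refine Groth.Agent.S15906aux.back v t σ h0 hσ ?_
    simp only [Set.mem_insert_iff, Set.mem_singleton_iff] at ht
    rcases ht with rfl | rfl | rfl | rfl | rfl | rfl | rfl | rfl | rfl | rfl | rfl | rfl | rfl | rfl | rfl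
    all_goals (unfold IsConic form canon; decide)

end Groth.Agent.S15906
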