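import Groth.Statements.S6334
import Mathlib
-- import your own Groth.Agent.* helpers here

set_option autoImplicit false
universe u
open Fields

namespace Groth.Agent.S6334

section helpers
open IntermediateField
namespace H5S6334
variable {F E : Type u} [Field F] [Field E] [Algebra F E] (p : ℕ)
    [Fact p.Prime] [CharP F p] [FiniteDimensional F E] [IsPurelyInseparable F E]

lemma exists_pth_root (K : IntermediateField F E) (hK : K ≠ ⊤) :
    ∃ b : E, b ∉ K ∧ b ^ p ∈ K := by
  classical
  have hp : p.Prime := Fact.out
  obtain ⟨a, -, ha⟩ := SetLike.exists_of_lt (lt_of_le_of_ne le_top hK)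
  haveI : ExpChar F p := ExpChar.prime hp
  have hex : ∃ k : ℕ, a ^ p ^ k ∈ K := by
    obtain ⟨k, y, hy⟩ := IsPurelyInseparable.pow_mem F p a
    exact ⟨k, hy ▸ K.algebraMap_mem y⟩
  have h0 : Nat.find hex ≠ 0 := by
    intro h0
    have := Nat.find_spec hex
    rw [h0] at this
    simp at this
    exact ha this
  obtain ⟨k, hk⟩ := Nat.exists_eq_succ_of_ne_zero h0
  refine ⟨a ^ p ^ k, ?_, ?_⟩
  · exact Nat.find_min hex (by omega)
  · have := Nat.find_spec hex
    rw [hk, pow_succ, pow_mul] at this
    exact this

lemma finrank_step (K : IntermediateField F E) (b : E) (hb : b ∉ K) (hbp : b ^ p ∈ K) :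
    Module.finrank K K⟮b⟯ = p := by
  have hp : p.Prime := Fact.out
  haveI : CharP K p := charP_of_injective_algebraMap (algebraMap F K).injective p
  haveI : ExpChar K p := ExpChar.prime hp
  obtain ⟨m, y, hy⟩ := IsPurelyInseparable.minpoly_eq_X_pow_sub_C K p b
  have hint : IsIntegral K b := Algebra.IsIntegral.isIntegral b
  rw [IntermediateField.adjoin.finrank hint, hy, Polynomial.natDegree_sub_C,
    Polynomial.natDegree_X_pow]
  have hm0 : m ≠ 0 := by
    rintro rfl
    have := minpoly.aeval K b
    rw [hy] at this
    simp at this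
    apply hb
    rw [sub_eq_zero] at this
    rw [this]
    exact y.2
  have hm1 : p ^ m ≤ p := by
    have hmonic : (Polynomial.X ^ p - Polynomial.C (⟨b ^ p, hbp⟩ : K)).Monic :=
      Polynomial.monic_X_pow_sub_C _ hp.ne_zero
    have hroot : Polynomial.aeval b (Polynomial.X ^ p - Polynomial.C (⟨b ^ p, hbp⟩ : K)) = 0 := by
      simp
    have := Polynomial.natDegree_le_natDegree (minpoly.min K b hmonic hroot)
    rw [hy, Polynomial.natDegree_sub_C, Polynomial.natDegree_X_pow,
      Polynomial.natDegree_sub_C, Polynomial.natDegree_X_pow] at this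
    exact this
  have : m ≤ 1 := by
    by_contra hcon
    push Not at hcon
    have : p ^ 2 ≤ p ^ m := Nat.pow_le_pow_right hp.pos hcon
    have h2 := hp.two_le
    nlinarith
  have : m = 1 := by omega
  rw [this, pow_one]

/-- the property of a tower reaching `K` -/
def P (K : IntermediateField F E) : Prop :=
  ∃ (n : ℕ) (a : Fin n → E), adjoin F (Set.range a) = K ∧
      (∀ i : Fin n, a i ^ p ∈ adjoin F (a '' {j | j < i}) ∧ a i ∉ adjoin F (a '' {j | j < i})) ∧
      Module.finrank F K = p ^ n

lemma range_snoc' {n : ℕ} (a : Fin n → E) (b : E) :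
    Set.range (Fin.snoc a b : Fin (n+1) → E) = Set.range a ∪ {b} := by
  ext x
  constructor
  · rintro ⟨i, rfl⟩
    induction i using Fin.lastCases with
    | last => right; simp
    | cast j => left; exact ⟨j, by simp⟩
  · rintro (⟨j, rfl⟩ | h)
    · exact ⟨j.castSucc, by simp⟩
    · refine ⟨Fin.last n, ?_⟩
      simp at h
      simp [h]

lemma image_snoc_castSucc {n : ℕ} (a : Fin n → E) (b : E) (j : Fin n) :
    (Fin.snoc a b : Fin (n+1) → E) '' {k | k < j.castSucc} = a '' {k | k < j} := by
  ext x
  constructor
  · rintro ⟨k, hk, rfl⟩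
    induction k using Fin.lastCases with
    | last => exact absurd hk (by simp [Fin.le_last])
    | cast k' =>
      refine ⟨k', ?_, by simp⟩
      simpa using hk
  · rintro ⟨k, hk, rfl⟩
    exact ⟨k.castSucc, by simpa using hk, by simp⟩

lemma image_snoc_last {n : ℕ} (a : Fin n → E) (b : E) :
    (Fin.snoc a b : Fin (n+1) → E) '' {k | k < Fin.last n} = Set.range a := by
  ext x
  constructor
  · rintro ⟨k, hk, rfl⟩
    induction k using Fin.lastCases with
    | last => exact absurd hk (by simp)
    | cast k' => exact ⟨k', by simp⟩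
  · rintro ⟨k, rfl⟩
    exact ⟨k.castSucc, by simp [Fin.castSucc_lt_last], by simp⟩

lemma step (K : IntermediateField F E) (hK : K ≠ ⊤) (hP : P p K) :
    ∃ K' : IntermediateField F E, P p K' ∧ Module.finrank F K < Module.finrank F K' := by
  have hp : p.Prime := Fact.out
  obtain ⟨b, hb, hbp⟩ := exists_pth_root p K hK
  obtain ⟨n, a, rfl, hcond, hfin⟩ := hP
  have hK' : (adjoin (adjoin F (Set.range a)) {b}).restrictScalars F
      = adjoin F (Set.range (Fin.snoc a b : Fin (n+1) → E)) := by
    rw [adjoin_adjoin_left, range_snoc']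
  have hfin' : Module.finrank F (adjoin F (Set.range (Fin.snoc a b : Fin (n+1) → E))) = p ^ (n+1) := by
    rw [← hK']
    have h1 := Module.finrank_mul_finrank F (adjoin F (Set.range a)) ((adjoin F (Set.range a))⟮b⟯)
    rw [finrank_step p _ b hb hbp, hfin] at h1
    rw [pow_succ]
    exact h1.symm
  refine ⟨adjoin F (Set.range (Fin.snoc a b : Fin (n+1) → E)), ⟨n+1, Fin.snoc a b, rfl, ?_, hfin'⟩, ?_⟩
  · intro i
    induction i using Fin.lastCases with
    | last =>
      rw [image_snoc_last, Fin.snoc_last]
      exact ⟨hbp, hb⟩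
    | cast j =>
      rw [image_snoc_castSucc, Fin.snoc_castSucc]
      exact hcond j
  · rw [hfin', hfin, pow_succ]
    have := hp.two_le
    have : 0 < p ^ n := pow_pos hp.pos n
    nlinarith

theorem main : P p (⊤ : IntermediateField F E) := by
  suffices h : ∀ (d : ℕ) (K : IntermediateField F E),
      Module.finrank F E - Module.finrank F K = d → P p K → P p (⊤ : IntermediateField F E) by
    refine h _ ⊥ rfl ⟨0, Fin.elim0, ?_, fun i => i.elim0, ?_⟩
    · simp
    · simp
  intro d
  induction d using Nat.strong_induction_on with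
  | _ d ih =>
    intro K hd hPK
    by_cases hK : K = ⊤
    · subst hK; exact hPK
    · obtain ⟨K', hPK', hlt⟩ := step p K hK hPK
      have hle : Module.finrank F K' ≤ Module.finrank F E := Submodule.finrank_le K'.toSubalgebra.toSubmodule
      exact ih (Module.finrank F E - Module.finrank F K') (by omega) K' rfl hPK'

end H5S6334

end helpers

open IntermediateField in
/-- Let E/F be a finite purely inseparable extension of fields of characteristic p > 0. Then there are
elements a_1, ..., a_n of E generating E over F such that for each i the p-th power of a_i lies in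
F(a_1, ..., a_{i-1}) while a_i itself does not (so each step adjoins a p-th root and has degree p);
in particular [E : F] = p ^ n. -/
theorem result {F E : Type u} [Field F] [Field E] [Algebra F E] (p : ℕ)
    [Fact p.Prime] [CharP F p] [FiniteDimensional F E] [IsPurelyInseparable F E] :
    ∃ (n : ℕ) (a : Fin n → E), adjoin F (Set.range a) = ⊤ ∧
      (∀ i : Fin n, a i ^ p ∈ adjoin F (a '' {j | j < i}) ∧ a i ∉ adjoin F (a '' {j | j < i})) ∧
      Module.finrank F E = p ^ n := by
  obtain ⟨n, a, h1, h2, h3⟩ := H5S6334.main (F := F) (E := E) p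
  exact ⟨n, a, h1, h2, by rw [← h3, IntermediateField.finrank_top']⟩

end Groth.Agent.S6334
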