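import Groth.Statements.S15939
import Mathlib
import Groth.Agent.S0218
import Groth.Agent.S6334
-- import your own Groth.Agent.* helpers here

set_option autoImplicit false
universe u
open CAlg

namespace Groth.Agent.S15939

namespace H5S15939
open Polynomial
open Groth.Agent.S0218 Groth.Agent.S6334

variable {k : Type u} [Field k] {A : Type u} [CommRing A] [Algebra k A]

lemma exists_gen' [Nontrivial A] (a : A) (ha : a ∉ (⊥ : Subalgebra k A)) (hint : IsIntegral k a)
    (r : k) (hr : (minpoly k a).IsRoot r) :
    ∃ (c : A) (μ : k), c ∉ (⊥ : Subalgebra k A) ∧ c * c = μ • c := by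
  set f := minpoly k a with hf
  set h := f /ₘ (X - C r) with hh
  have hfh : (X - C r) * h = f := mul_divByMonic_eq_iff_isRoot.mpr hr
  have hf0 : f ≠ 0 := minpoly.ne_zero hint
  have hh0 : h ≠ 0 := by
    rintro h0
    rw [h0, mul_zero] at hfh
    exact hf0 hfh.symm
  set c := aeval a h with hc
  have hac : (a - algebraMap k A r) * c = 0 := by
    have : aeval a f = 0 := minpoly.aeval k a
    rw [← hfh, map_mul] at this
    simpa using this
  have hc0 : c ≠ 0 := by
    intro hc0
    have h1 := natDegree_le_natDegree (minpoly.degree_le_of_ne_zero k a hh0 hc0)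
    rw [← hf, ← hfh, natDegree_mul (X_sub_C_ne_zero r) hh0, natDegree_X_sub_C] at h1
    omega
  have hcbot : c ∉ (⊥ : Subalgebra k A) := by
    intro hcb
    obtain ⟨l, hl⟩ := Algebra.mem_bot.mp hcb
    have hl0 : l ≠ 0 := by
      rintro rfl
      apply hc0
      rw [← hl, map_zero]
    apply ha
    rw [← hl, mul_comm, ← Algebra.smul_def] at hac
    have := (smul_eq_zero.mp hac).resolve_left hl0
    rw [sub_eq_zero] at this
    rw [this]
    exact Subalgebra.algebraMap_mem _ r
  have hpow : ∀ n : ℕ, a ^ n * c = (r ^ n) • c := by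
    intro n
    induction n with
    | zero => simp
    | succ n ih =>
      have : a * c = r • c := by
        rw [sub_mul, sub_eq_zero] at hac
        rw [hac, Algebra.smul_def]
      rw [pow_succ, mul_assoc, this, mul_smul_comm, ih, smul_smul, pow_succ']
  have hP : ∀ P : k[X], aeval a P * c = (P.eval r) • c := by
    intro P
    induction P using Polynomial.induction_on' with
    | add p q hp hq => rw [map_add, add_mul, hp, hq, eval_add, add_smul]
    | monomial n t =>
      rw [aeval_monomial, eval_monomial, mul_assoc, hpow, ← Algebra.smul_def, smul_smul]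
  exact ⟨c, h.eval r, hcbot, hP h⟩

lemma nonfield (hbt : (⊥ : Subalgebra k A) ≠ ⊤)
    (hS : ∀ S : Subalgebra k A, S = ⊥ ∨ S = ⊤) (hF : ¬ IsField A) :
    Nonempty (A ≃ₐ[k] DualNumber k) ∨ Nonempty (A ≃ₐ[k] (k × k)) := by
  haveI : Nontrivial A := by
    by_contra hnt
    rw [not_nontrivial_iff_subsingleton] at hnt
    exact hbt (le_antisymm bot_le (fun x _ => by rw [Subsingleton.elim x 1]; exact one_mem _))
  obtain ⟨x, hx0, hxu⟩ : ∃ x : A, x ≠ 0 ∧ ∀ b, x * b ≠ 1 := by
    by_contra hcon
    push Not at hcon
    exact hF ⟨exists_pair_ne A, mul_comm, fun {a} ha => hcon a ha⟩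
  have hxbot : x ∉ (⊥ : Subalgebra k A) := by
    intro hxb
    obtain ⟨l, hl⟩ := Algebra.mem_bot.mp hxb
    have hl0 : l ≠ 0 := by
      rintro rfl
      exact hx0 (by rw [← hl, map_zero])
    apply hxu (algebraMap k A l⁻¹)
    rw [← hl, ← map_mul, mul_inv_cancel₀ hl0, map_one]
  have hint := H5S0218.isIntegral_of_two hbt hS x
  have hroot : (minpoly k x).IsRoot 0 := by
    rw [IsRoot, ← coeff_zero_eq_eval_zero]
    by_contra hl0
    set f := minpoly k x with hf
    have h1 : aeval x f = 0 := minpoly.aeval k x
    rw [← divX_mul_X_add f, map_add, map_mul, aeval_X, aeval_C] at h1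
    apply hxu (-(f.coeff 0)⁻¹ • aeval x (divX f))
    rw [mul_smul_comm, mul_comm x, eq_neg_of_add_eq_zero_left h1, smul_neg, neg_smul, neg_neg,
      Algebra.smul_def, ← map_mul, inv_mul_cancel₀ hl0, map_one]
  obtain ⟨c, μ, hc, hcc⟩ := exists_gen' x hxbot hint 0 hroot
  by_cases hμ : μ = 0
  · exact Or.inl (H5S0218.dual hS c μ hc hcc hμ)
  · exact Or.inr (H5S0218.prod hS c μ hc hcc hμ)


lemma field_case {L : Type u} [Field L] [Algebra k L] [FiniteDimensional k L]
    (hbt : (⊥ : Subalgebra k L) ≠ ⊤) (hS : ∀ S : Subalgebra k L, S = ⊥ ∨ S = ⊤) :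
    Algebra.IsSeparable k L ∨ ∃ (p : ℕ) (a : k), p.Prime ∧ CharP k p ∧ (∀ b : k, b ^ p ≠ a) ∧
      Nonempty (L ≃ₐ[k] AdjoinRoot (X ^ p - C a)) := by
  by_cases hsep : Algebra.IsSeparable k L
  · exact Or.inl hsep
  right
  have hpi : IsPurelyInseparable k L := by
    rw [← separableClosure.eq_bot_iff]
    rcases hS (separableClosure k L).toSubalgebra with h | h
    · apply IntermediateField.toSubalgebra_injective
      rw [h, IntermediateField.bot_toSubalgebra]
    · exfalso
      apply hsep
      rw [← separableClosure.eq_top_iff]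
      apply IntermediateField.toSubalgebra_injective
      rw [h, IntermediateField.top_toSubalgebra]
  obtain ⟨q, hq⟩ := ExpChar.exists k
  cases hq with
  | zero =>
    exact absurd (Algebra.IsAlgebraic.isSeparable_of_perfectField) hsep
  | prime hp =>
    rename_i hcp
    haveI : Fact q.Prime := ⟨hp⟩
    have hbt' : (⊥ : IntermediateField k L) ≠ ⊤ := by
      intro h
      apply hbt
      rw [← IntermediateField.bot_toSubalgebra, h, IntermediateField.top_toSubalgebra]
    obtain ⟨b, hb, hbq⟩ := H5S6334.exists_pth_root q (⊥ : IntermediateField k L) hbt'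
    obtain ⟨a0, ha0⟩ := IntermediateField.mem_bot.mp hbq
    haveI : CharP L q := charP_of_injective_algebraMap (algebraMap k L).injective q
    have hne : ∀ d : k, d ^ q ≠ a0 := by
      intro d hd
      apply hb
      have : (b - algebraMap k L d) ^ q = 0 := by
        rw [sub_pow_char, ← map_pow, hd, ha0, sub_self]
      have := sub_eq_zero.mp (eq_zero_of_pow_eq_zero this)
      rw [this]
      exact IntermediateField.algebraMap_mem _ d
    have hirr := X_pow_sub_C_irreducible_of_prime hp hne
    have hmin : X ^ q - C a0 = minpoly k b := by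
      refine minpoly.eq_of_irreducible_of_monic hirr ?_ (monic_X_pow_sub_C a0 hp.ne_zero)
      simp [ha0]
    have htop : Algebra.adjoin k {b} = ⊤ := by
      rcases hS (Algebra.adjoin k {b}) with h | h
      · exfalso
        apply hb
        have : b ∈ (⊥ : Subalgebra k L) := h ▸ Algebra.subset_adjoin (Set.mem_singleton b)
        rw [← IntermediateField.mem_toSubalgebra, IntermediateField.bot_toSubalgebra]
        exact this
      · exact h
    refine ⟨q, a0, hp, hcp, hne, ?_⟩
    rw [hmin]
    exact ⟨(Subalgebra.topEquiv.symm.trans (Subalgebra.equivOfEq _ _ htop.symm)).trans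
      (AlgEquiv.adjoinSingletonEquivAdjoinRootMinpoly k b)⟩

end H5S15939


open Polynomial in
/-- Let κ be a field and A a commutative κ-algebra whose only κ-subalgebras are the image of κ and A
itself, these two being different. Then A is finite-dimensional over κ, and A is isomorphic as a
κ-algebra to the dual numbers over κ, or to κ × κ, or A is a field which is either separable over κ
or isomorphic to κ[X]/(X^p - a) with p the (positive) characteristic of κ and a an element of κ that
is not a p-th power. (The published statement also records that these four cases exclude one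
another; that part is not restated.) -/
theorem result (κ A : Type u) [Field κ] [CommRing A] [Algebra κ A]
    (h : IsSimpleOrder (Subalgebra κ A)) :
    FiniteDimensional κ A ∧
    (Nonempty (A ≃ₐ[κ] DualNumber κ) ∨ Nonempty (A ≃ₐ[κ] (κ × κ)) ∨
      (IsField A ∧ (Algebra.IsSeparable κ A ∨
        ∃ (p : ℕ) (a : κ), p.Prime ∧ CharP κ p ∧ (∀ b : κ, b ^ p ≠ a) ∧
          Nonempty (A ≃ₐ[κ] AdjoinRoot (X ^ p - C a))))) := by
  have hbt : (⊥ : Subalgebra κ A) ≠ ⊤ := bot_ne_top
  have hS : ∀ S : Subalgebra κ A, S = ⊥ ∨ S = ⊤ := fun S => eq_bot_or_eq_top S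
  have hfd : FiniteDimensional κ A := by
    obtain ⟨a, -, ha⟩ := SetLike.exists_of_lt (lt_of_le_of_ne bot_le hbt)
    have hint := Groth.Agent.S0218.H5S0218.isIntegral_of_two hbt hS a
    have htop : Algebra.adjoin κ {a} = ⊤ := by
      rcases hS (Algebra.adjoin κ {a}) with h' | h'
      · exact absurd (h' ▸ Algebra.subset_adjoin (Set.mem_singleton a)) ha
      · exact h'
    have hfin : Module.Finite κ (Algebra.adjoin κ {a}) := Algebra.finite_adjoin_simple_of_isIntegral hint
    rw [htop] at hfin
    exact Module.Finite.equiv (Subalgebra.topEquiv (R := κ) (A := A)).toLinearEquiv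
  refine ⟨hfd, ?_⟩
  by_cases hF : IsField A
  · right; right
    refine ⟨hF, ?_⟩
    letI := hF.toField
    exact H5S15939.field_case hbt hS
  · rcases H5S15939.nonfield hbt hS hF with h' | h'
    · exact Or.inl h'
    · exact Or.inr (Or.inl h')

end Groth.Agent.S15939
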