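import Groth.Statements.S15963
import Groth.Agent.Lib.helper11.AWNSch
import Groth.Agent.Lib.helper11.UnivHomeo
import Groth.Agent.Lib.helper11.AWNRing

set_option autoImplicit false
universe u
open HTop

namespace Groth.Agent.S15963

section
open CategoryTheory AlgebraicGeometry

theorem isReduced_of_isSeminormal {T : Scheme.{u}} (h : HTop.IsSeminormal T) :
    AlgebraicGeometry.IsReduced T := by
  haveI : ∀ x : T, _root_.IsReduced (T.presheaf.stalk x) := fun x => by
    obtain ⟨U, hxU, hU⟩ := h x
    have hred : _root_.IsReduced Γ(T, U.1) := Groth.Agent.Lib.helper11.AWNRing.isReduced_of_seminormal hU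
    letI := TopCat.Presheaf.algebra_section_stalk T.presheaf ⟨x, hxU⟩
    haveI := U.2.isLocalization_stalk ⟨x, hxU⟩
    exact isReduced_localizationPreserves (U.2.primeIdealOf ⟨x, hxU⟩).asIdeal.primeCompl
      (T.presheaf.stalk x) hred
  exact isReduced_of_isReduced_stalk T
end

open CategoryTheory AlgebraicGeometry in
/-- Let S be a reduced Noetherian scheme, π : S̃ → S its normalisation (S̃ has integrally closed local
domains, π is integral and an isomorphism over a dense open subset of S with dense preimage), ν : X'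
→ S a seminormalization of S (X' seminormal, ν a universal homeomorphism with residue-field
isomorphisms, initial among such) and g : S̃ → X' a morphism with g followed by ν equal to π. Then ν
and g are scheme-theoretically dominant (the structure sheaf maps injectively into the direct
image), and if π is finite then so are ν and g. -/
theorem result {S Sn X' : Scheme.{u}}
    [IsNoetherian S] [IsReduced S]
    (π : Sn ⟶ S) [IsIntegralHom π] (hn : Pi1.IsNormalScheme Sn)
    (hbir : ∃ U : S.Opens, Dense (U : Set S) ∧ Dense ((π ⁻¹ᵁ U : Sn.Opens) : Set Sn) ∧ IsIso (π ∣_ U))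
    (ν : X' ⟶ S) (hν : HTop.IsSeminormalization ν) (hX' : HTop.IsSeminormal X')
    (g : Sn ⟶ X') (hg : g ≫ ν = π) :
    (IsSchemeTheoreticallyDominant ν ∧ IsSchemeTheoreticallyDominant g) ∧
      (IsFinite π → IsFinite ν ∧ IsFinite g) := by
  obtain ⟨huc, hui, hsurj⟩ := (Groth.Agent.Lib.helper11.UnivHomeo.isUnivHomeo_iff ν).mp hν.1.1
  haveI := huc
  haveI := hui
  haveI := hsurj
  haveI : IsAffineHom ν := Groth.Agent.Lib.helper11.AWNSch.isAffineHom_of_uh ν hν.1.1
  haveI : AlgebraicGeometry.IsReduced X' := isReduced_of_isSeminormal hX'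
  -- π is surjective
  have hπsurj : Function.Surjective π := by
    obtain ⟨U, hUd, -, hiso⟩ := hbir
    have hsub : (U : Set S) ⊆ Set.range π := by
      intro u hu
      haveI := hiso
      obtain ⟨s, hs⟩ := (π ∣_ U).surjective ⟨u, hu⟩
      refine ⟨s.1, ?_⟩
      have := congrArg Subtype.val hs
      simpa using this
    have hdense : Dense (Set.range π) := hUd.mono hsub
    have hclosed : IsClosed (Set.range π) := π.isClosedMap.isClosed_range
    rw [← Set.range_eq_univ, ← hclosed.closure_eq]
    exact hdense.closure_eq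
  have hgsurj : Function.Surjective g := by
    intro x'
    obtain ⟨s, hs⟩ := hπsurj (ν x')
    refine ⟨s, ν.injective ?_⟩
    rw [← Scheme.Hom.comp_apply, hg, hs]
  haveI : Surjective g := ⟨hgsurj⟩
  have hd1 : IsSchemeTheoreticallyDominant ν := IsSchemeTheoreticallyDominant.of_isDominant ν
  have hd2 : IsSchemeTheoreticallyDominant g := IsSchemeTheoreticallyDominant.of_isDominant g
  refine ⟨⟨hd1, hd2⟩, fun hfin => ?_⟩
  haveI : IsFinite (g ≫ ν) := by rw [hg]; exact hfin
  haveI : IsFinite g := IsFinite.of_comp g ν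
  refine ⟨?_, inferInstance⟩
  refine ⟨fun U hU => ?_⟩
  have hinj : Function.Injective (g.app (ν ⁻¹ᵁ U)) := g.app_injective _
  have hfinπ : ((g.app (ν ⁻¹ᵁ U)).hom.comp (ν.app U).hom).Finite :=
    IsFinite.finite_app (g ≫ ν) U hU
  haveI : IsNoetherianRing Γ(S, U) := IsLocallyNoetherian.component_noetherian ⟨U, hU⟩
  letI := (ν.app U).hom.toAlgebra
  letI := ((g.app (ν ⁻¹ᵁ U)).hom.comp (ν.app U).hom).toAlgebra
  haveI : Module.Finite Γ(S, U) Γ(Sn, g ⁻¹ᵁ ν ⁻¹ᵁ U) := hfinπ
  let l : Γ(X', ν ⁻¹ᵁ U) →ₗ[Γ(S, U)] Γ(Sn, g ⁻¹ᵁ ν ⁻¹ᵁ U) :=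
    { toFun := (g.app (ν ⁻¹ᵁ U)).hom
      map_add' := map_add _
      map_smul' := fun c x => map_mul (g.app (ν ⁻¹ᵁ U)).hom ((ν.app U).hom c) x }
  exact Module.Finite.of_injective l hinj

end Groth.Agent.S15963
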