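import Groth.Statements.S15987
import Mathlib

set_option autoImplicit false
universe u v
open Deform

namespace Groth.Agent.S15987

open TrivSqZeroExt

section
variable {k : Type u} [Field k] {A : Type u} [CommRing A] [Algebra k A]

noncomputable def toDer (φ : DualNumber A →ₐ[k] DualNumber A) (h : ∀ x, (φ x).fst = x.fst) :
    Derivation k A A where
  toFun a := (φ (inl a)).snd
  map_add' a b := by simp
  map_smul' c a := by
    simp only [RingHom.id_apply]
    rw [TrivSqZeroExt.inl_smul, map_smul, TrivSqZeroExt.snd_smul]
  map_one_eq_zero' := by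
    show (φ (inl 1)).snd = 0
    rw [TrivSqZeroExt.inl_one, map_one, TrivSqZeroExt.snd_one]
  leibniz' a b := by
    show (φ (inl (a * b))).snd = a • (φ (inl b)).snd + b • (φ (inl a)).snd
    rw [TrivSqZeroExt.inl_mul, map_mul, TrivSqZeroExt.snd_mul, h, h]
    simp [mul_comm, add_comm]

noncomputable def ofDerHom (D : Derivation k A A) : DualNumber A →ₐ[k] DualNumber A :=
  AlgHom.ofLinearMap
    { toFun := fun x => inl x.fst + inr (D x.fst + x.snd)
      map_add' := fun x y => by
        ext <;> simp [add_add_add_comm]
      map_smul' := fun c x => by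
        ext <;> simp }
    (by ext <;> simp)
    (fun x y => by
      ext
      · simp
      · simp
        ring)

end

section
variable {k : Type u} [Field k] {A : Type u} [CommRing A] [Algebra k A]

@[simp] lemma ofDerHom_apply (D : Derivation k A A) (x : DualNumber A) :
    ofDerHom D x = inl x.fst + inr (D x.fst + x.snd) := rfl

noncomputable def ofDer (D : Derivation k A A) : DualNumber A ≃ₐ[k] DualNumber A :=
  AlgEquiv.ofAlgHom (ofDerHom D) (ofDerHom (-D))
    (by ext x <;> simp)
    (by ext x <;> simp)

@[simp] lemma ofDer_apply (D : Derivation k A A) (x : DualNumber A) :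
    ofDer D x = inl x.fst + inr (D x.fst + x.snd) := rfl

lemma key (φ : DualNumber A ≃ₐ[k] DualNumber A) (h1 : φ DualNumber.eps = DualNumber.eps)
    (h2 : ∀ x, (φ x).fst = x.fst) (x : DualNumber A) :
    φ x = inl x.fst + inr ((φ (inl x.fst)).snd + x.snd) := by
  have hx : x = inl x.fst + inl x.snd * DualNumber.eps := by
    ext <;> simp
  conv_lhs => rw [hx]
  rw [map_add, map_mul, h1]
  ext
  · simp [h2]
  · simp [h2]

end

open TrivSqZeroExt in
/-- Let k be a field, A a commutative k-algebra and q_i : A → k (i ∈ ι) k-algebra maps (marked k-points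
of Spec A). The k-algebra automorphisms φ of the ring of dual numbers A[ε] that fix ε (so are
k[ε]-linear), are the identity modulo ε, and satisfy q_i((φ x)_ε) = q_i(x_ε) for all i and x
(compatibility with the trivial lifts A[ε] → k[ε] of the marked points) are in bijection with the
k-derivations D : A → A such that q_i ∘ D = 0 for every i, the bijection sending φ to a ↦ (φ(a))_ε.
(The source identifies the right-hand side with the global vector fields vanishing at the marked
points; the condition the computation yields is q_i ∘ D = 0, which is the same for Spec A smooth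
over k but is weaker in general, e.g. for A = k[x]/(x^2) with 2 invertible in k.) -/
theorem result
    (k : Type u) [Field k] (A : Type u) [CommRing A] [Algebra k A] {ι : Type v} (q : ι → (A →ₐ[k] k)) :
    ∃ e : {φ : DualNumber A ≃ₐ[k] DualNumber A //
            φ DualNumber.eps = DualNumber.eps ∧ (∀ x, (φ x).fst = x.fst) ∧
              ∀ i x, q i (φ x).snd = q i x.snd} ≃
          {D : Derivation k A A // ∀ i a, q i (D a) = 0},
      ∀ φ (a : A), (e φ).1 a = (φ.1 (inl a : DualNumber A)).snd := by
  refine ⟨{ toFun := fun φ => ⟨toDer φ.1.toAlgHom φ.2.2.1, fun i a => ?_⟩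
            invFun := fun D => ⟨ofDer D.1, ?_, ?_, ?_⟩
            left_inv := ?_
            right_inv := ?_ }, ?_⟩
  · have := φ.2.2.2 i (inl a)
    simp only [TrivSqZeroExt.snd_inl, map_zero] at this
    exact this
  · ext <;> simp
  · intro x; simp
  · intro i x
    simp [D.2]
  · intro φ
    apply Subtype.ext
    apply AlgEquiv.ext
    intro x
    show ofDer (toDer φ.1.toAlgHom φ.2.2.1) x = φ.1 x
    rw [key φ.1 φ.2.1 φ.2.2.1 x]
    rfl
  · intro D
    apply Subtype.ext
    ext a
    show ((ofDer D.1) (inl a)).snd = D.1 a
    simp
  · intro φ a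
    rfl

end Groth.Agent.S15987
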