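import Groth.Statements.S5434
import Mathlib
-- import your own Groth.Agent.* helpers here

set_option autoImplicit false
universe u
open CategoryTheory MonoidalCategory CartesianMonoidalCategory MonObj GrpObj AlgebraicGeometry CategoryTheory.Limits
open SGA3x

namespace Groth.Agent.S5434

namespace H5S5434

open CategoryTheory CategoryTheory.Limits AlgebraicGeometry


/-- if `s` restricts to zero on `U` then it is zero, for `U` schematically dense -/
lemma eq_zero_of_ι_app {X : Scheme.{u}} (U : X.Opens) (hU : CInt.IsSchematicallyDense U)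
    (V : X.Opens) (x : Γ(X, V)) (hx : (U.ι.app V).hom x = 0) : x = 0 := by
  apply hU V
  rw [map_zero]
  have hle : V ⊓ U ≤ U.ι ''ᵁ U.ι ⁻¹ᵁ V := by
    rw [Scheme.Hom.image_preimage_eq_opensRange_inf, Scheme.Opens.opensRange_ι]
    exact le_of_eq (inf_comm _ _)
  have hle2 : U.ι ''ᵁ U.ι ⁻¹ᵁ V ≤ V := by
    rw [Scheme.Hom.image_preimage_eq_opensRange_inf]
    exact inf_le_right
  have h1 : ∀ y : Γ(X, V), (X.presheaf.map (homOfLE (inf_le_left : V ⊓ U ≤ V)).op).hom y =
      (X.presheaf.map (homOfLE hle).op).hom ((X.presheaf.map (homOfLE hle2).op).hom y) := by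
    intro y
    rw [← CommRingCat.comp_apply, ← Functor.map_comp]
    rfl
  have hx' : (X.presheaf.map (homOfLE hle2).op).hom x = 0 := hx
  rw [h1, hx', map_zero]

/-- Lemma A -/
lemma isIso_of_dense' {E X U' : Scheme.{u}} (i : E ⟶ X) [IsClosedImmersion i] (l : U' ⟶ E)
    (h : ∀ (V : X.Opens) (x : Γ(X, V)), ((l ≫ i).app V).hom x = 0 → x = 0) : IsIso i := by
  rw [IsClosedImmersion.isIso_iff_ker_eq_bot]
  refine Scheme.IdealSheafData.ext ?_
  funext V
  simp only [Scheme.Hom.ker_apply, Scheme.IdealSheafData.ideal_bot, Pi.bot_apply, ← le_bot_iff]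
  intro x hx
  have hx0 : (i.app V).hom x = 0 := hx
  have h3 : ((l ≫ i).app V).hom x = 0 := by
    change (l.app _).hom ((i.app V).hom x) = 0
    rw [hx0, map_zero]
  have := h V x h3
  simpa using this

lemma isIso_of_dense {E X : Scheme.{u}} (i : E ⟶ X) [IsClosedImmersion i] (U : X.Opens)
    (hU : CInt.IsSchematicallyDense U) (l : (U : Scheme.{u}) ⟶ E) (hl : l ≫ i = U.ι) : IsIso i := by
  apply isIso_of_dense' i l
  rw [hl]
  exact eq_zero_of_ι_app U hU

end H5S5434

namespace H5S5434

open CategoryTheory CategoryTheory.Limits AlgebraicGeometry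


/-- Lemma B: separated case -/
lemma eq_of_sep {S : Scheme.{u}} (X Y : Over S) [IsSeparated Y.hom] (U : X.left.Opens)
    (hU : CInt.IsSchematicallyDense U) (f g : X ⟶ Y) (h : U.ι ≫ f.left = U.ι ≫ g.left) : f = g := by
  let j' : Over.mk (U.ι ≫ X.hom) ⟶ X := Over.homMk U.ι rfl
  have hj : j' ≫ f = j' ≫ g := by
    ext
    exact h
  let l := equalizer.lift j' hj
  have hl : l.left ≫ (equalizer.ι f g).left = U.ι := by
    rw [← Over.comp_left, equalizer.lift_ι]
    rfl
  haveI : IsClosedImmersion (equalizer.ι f g).left := inferInstance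
  haveI : IsIso (equalizer.ι f g).left := isIso_of_dense _ U hU l.left hl
  haveI : IsIso ((Over.forget _).map (equalizer.ι f g)) := by
    change IsIso (equalizer.ι f g).left
    infer_instance
  haveI : IsIso (equalizer.ι f g) := isIso_of_reflects_iso (equalizer.ι f g) (Over.forget _)
  exact (cancel_epi (equalizer.ι f g)).mp (equalizer.condition f g)

/-- Lemma C: density transport along an isomorphism -/
lemma dense_of_iso {P X : Scheme.{u}} (e : P ⟶ X) [IsIso e] (U : X.Opens)
    (h : CInt.IsSchematicallyDense (e ⁻¹ᵁ U)) : CInt.IsSchematicallyDense U := by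
  intro V
  rw [injective_iff_map_eq_zero]
  intro x hx
  have hinj : Function.Injective (e.app V).hom :=
    (ConcreteCategory.bijective_of_isIso (e.app V)).1
  apply hinj
  rw [map_zero]
  apply h (e ⁻¹ᵁ V)
  rw [map_zero]
  have hnat := e.naturality (homOfLE (inf_le_left : V ⊓ U ≤ V)).op
  have h1 : (P.presheaf.map (homOfLE (inf_le_left : e ⁻¹ᵁ V ⊓ e ⁻¹ᵁ U ≤ e ⁻¹ᵁ V)).op).hom
      ((e.app V).hom x) = (e.app (V ⊓ U)).hom
        ((X.presheaf.map (homOfLE (inf_le_left : V ⊓ U ≤ V)).op).hom x) := by
    have := congrArg (fun φ => φ.hom x) hnat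
    simp only [CommRingCat.comp_apply] at this
    rw [this]
    rfl
  rw [h1]
  have hx' : (X.presheaf.map (homOfLE (inf_le_left : V ⊓ U ≤ V)).op).hom x = 0 := hx
  rw [hx', map_zero]
  rfl

end H5S5434

namespace H5S5434

open CategoryTheory CategoryTheory.Limits AlgebraicGeometry


theorem main (S : Scheme.{u}) (X Y : Over S) (U : X.left.Opens)
    (hU : (∀ (S' : Scheme.{u}) (g : S' ⟶ S), CInt.IsSchematicallyDense ((pullback.fst X.hom g) ⁻¹ᵁ U)))
    (hY : ∀ s : S, IsSeparated (pullback.snd Y.hom (S.fromSpecResidueField s)))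
    (f g : X ⟶ Y) (h : U.ι ≫ f.left = U.ι ≫ g.left) : f = g := by
  -- fibrewise equality
  have hfib : ∀ s : S, pullback.fst X.hom (S.fromSpecResidueField s) ≫ f.left =
      pullback.fst X.hom (S.fromSpecResidueField s) ≫ g.left := by
    intro s
    set js := S.fromSpecResidueField s with hjs
    haveI : IsSeparated ((Over.pullback js).obj Y).hom := hY s
    have e1 : ∀ φ : X ⟶ Y, ((Over.pullback js).map φ).left ≫ pullback.fst Y.hom js =
        pullback.fst X.hom js ≫ φ.left := by
      intro φ
      simp only [Over.pullback_map_left]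
      exact pullback.lift_fst _ _ _
    have e2 : ∀ φ : X ⟶ Y, ((Over.pullback js).map φ).left ≫ pullback.snd Y.hom js =
        pullback.snd X.hom js := by
      intro φ
      simp only [Over.pullback_map_left]
      exact pullback.lift_snd _ _ _
    have key : (Over.pullback js).map f = (Over.pullback js).map g := by
      apply eq_of_sep ((Over.pullback js).obj X) ((Over.pullback js).obj Y)
        ((pullback.fst X.hom js) ⁻¹ᵁ U) (hU _ js)
      apply pullback.hom_ext
      · rw [Category.assoc, Category.assoc, e1, e1, ← Category.assoc, ← Category.assoc,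
          ← morphismRestrict_ι, Category.assoc, Category.assoc, h]
      · rw [Category.assoc, Category.assoc, e2, e2]
    rw [← e1, ← e1, key]
  -- the equalizer of the underlying morphisms
  let iE := equalizer.ι f.left g.left
  have hsurj : Function.Surjective iE.base := by
    intro x
    set s := X.hom.base x with hs
    obtain ⟨x', hx', -⟩ := Scheme.Pullback.exists_preimage_pullback (f := X.hom)
      (g := S.fromSpecResidueField s) x (Classical.arbitrary _)
      (by rw [Scheme.fromSpecResidueField_apply])
    let lft := equalizer.lift (pullback.fst X.hom (S.fromSpecResidueField s)) (hfib s)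
    refine ⟨lft.base x', ?_⟩
    rw [← Scheme.Hom.comp_apply, equalizer.lift_ι]
    exact hx'
  haveI : IsClosedImmersion iE :=
    IsClosedImmersion.of_isPreimmersion _ (by
      rw [Set.range_eq_univ.mpr hsurj]
      exact isClosed_univ)
  have hUd : CInt.IsSchematicallyDense U :=
    dense_of_iso (pullback.fst X.hom (𝟙 S)) U (hU S (𝟙 S))
  let l := equalizer.lift U.ι h
  haveI : IsIso iE := isIso_of_dense iE U hUd l (equalizer.lift_ι _ _)
  ext
  exact (cancel_epi iE).mp (equalizer.condition f.left g.left)

end H5S5434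

/-- Let X be an S-scheme and U an open subscheme of X which is schematically dense in X relative to S:
for every S′ → S the preimage of U in X ×_S S′ is schematically dense (restriction of functions to
it is injective on every open). Let Y be an S-scheme whose fibres Y_s are separated (over κ(s)). If
two S-morphisms f, g : X → Y agree on U, then f = g. -/
theorem result (S : Scheme.{u}) (X Y : Over S) (U : X.left.Opens) (hU : (∀ (S' : Scheme.{u}) (g : S' ⟶ S), CInt.IsSchematicallyDense ((pullback.fst X.hom g) ⁻¹ᵁ U)))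
    (hY : ∀ s : S, IsSeparated (pullback.snd Y.hom (S.fromSpecResidueField s)))
    (f g : X ⟶ Y) (h : U.ι ≫ f.left = U.ι ≫ g.left) : f = g := by
  exact H5S5434.main S X Y U hU hY f g h

end Groth.Agent.S5434
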