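import Groth.Statements.S5435
import Mathlib
import Groth.Agent.S5434
-- import your own Groth.Agent.* helpers here

set_option autoImplicit false
universe u
open CategoryTheory MonoidalCategory CartesianMonoidalCategory MonObj GrpObj AlgebraicGeometry CategoryTheory.Limits
open SGA3x

namespace Groth.Agent.S5435

open CategoryTheory MonoidalCategory CartesianMonoidalCategory MonObj GrpObj AlgebraicGeometry CategoryTheory.Limits

namespace H5S5435

lemma isEmpty_of_subsingleton_top {X : Scheme.{u}} (h : Subsingleton Γ(X, ⊤)) : IsEmpty X := by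
  constructor
  intro x
  have h1 : (1 : Γ(X, ⊤)) = 0 := Subsingleton.elim _ _
  have h2 := congrArg (X.presheaf.germ ⊤ x trivial).hom h1
  rw [map_one, map_zero] at h2
  exact one_ne_zero h2


/-- preimage of a dense open under an isomorphism is dense -/
lemma dense_preimage_iso {P X : Scheme.{u}} (e : P ⟶ X) [IsIso e] (U : X.Opens)
    (h : CInt.IsSchematicallyDense U) : CInt.IsSchematicallyDense (e ⁻¹ᵁ U) := by
  apply Groth.Agent.S5434.H5S5434.dense_of_iso (inv e) (e ⁻¹ᵁ U)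
  have : (inv e) ⁻¹ᵁ (e ⁻¹ᵁ U) = U := by
    rw [← Scheme.Hom.comp_preimage]
    simp
  rw [this]
  exact h

/-- intersection of dense opens is dense -/
lemma dense_inf {X : Scheme.{u}} (U₁ U₂ : X.Opens) (h₁ : CInt.IsSchematicallyDense U₁)
    (h₂ : CInt.IsSchematicallyDense U₂) : CInt.IsSchematicallyDense (U₁ ⊓ U₂) := by
  intro V
  have e1 := h₁ V
  have e2 := h₂ (V ⊓ U₁)
  have hc : X.presheaf.map (homOfLE (inf_le_left : V ⊓ (U₁ ⊓ U₂) ≤ V)).op =
      X.presheaf.map (homOfLE (inf_le_left : V ⊓ U₁ ≤ V)).op ≫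
      X.presheaf.map (homOfLE (inf_le_left : (V ⊓ U₁) ⊓ U₂ ≤ V ⊓ U₁)).op ≫
      X.presheaf.map (eqToHom (by rw [inf_assoc]) : V ⊓ (U₁ ⊓ U₂) ⟶ (V ⊓ U₁) ⊓ U₂).op := by
    rw [← Functor.map_comp, ← Functor.map_comp]
    rfl
  rw [hc]
  simp only [CommRingCat.hom_comp, RingHom.coe_comp]
  refine Function.Injective.comp ?_ e1
  refine Function.Injective.comp ?_ e2
  exact (ConcreteCategory.bijective_of_isIso _).1

/-- a dense open of a nonempty scheme is nonempty -/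
lemma dense_nonempty {X : Scheme.{u}} [Nonempty X] (U : X.Opens) (h : CInt.IsSchematicallyDense U) :
    ∃ x : X, x ∈ U := by
  by_contra hne
  push Not at hne
  have hU : U = ⊥ := by
    ext x
    simp [hne x]
  have := h ⊤
  have hsub : Subsingleton Γ(X, (⊤ : X.Opens) ⊓ U) := by
    have : (⊤ : X.Opens) ⊓ U = ⊥ := by rw [hU]; simp
    rw [this]
    infer_instance
  have hsub2 : Subsingleton Γ(X, ⊤) := this.subsingleton
  have : IsEmpty X := isEmpty_of_subsingleton_top hsub2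
  exact (not_isEmpty_of_nonempty X) this


/-- relative universal density -/
def D {P Y : Scheme.{u}} (q : P ⟶ Y) (V : P.Opens) : Prop :=
  ∀ (T : Scheme.{u}) (t : T ⟶ Y), CInt.IsSchematicallyDense ((pullback.fst q t) ⁻¹ᵁ V)

lemma D_inf {P Y : Scheme.{u}} (q : P ⟶ Y) (V₁ V₂ : P.Opens) (h₁ : D q V₁) (h₂ : D q V₂) :
    D q (V₁ ⊓ V₂) := by
  intro T t
  have : (pullback.fst q t) ⁻¹ᵁ (V₁ ⊓ V₂) = (pullback.fst q t) ⁻¹ᵁ V₁ ⊓ (pullback.fst q t) ⁻¹ᵁ V₂ := rfl
  rw [this]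
  exact dense_inf _ _ (h₁ T t) (h₂ T t)

lemma D_iso {P Y : Scheme.{u}} (q : P ⟶ Y) (ψ : P ⟶ P) [IsIso ψ] (hψ : ψ ≫ q = q) (V : P.Opens)
    (h : D q V) : D q (ψ ⁻¹ᵁ V) := by
  intro T t
  let ψT : pullback q t ⟶ pullback q t :=
    pullback.map q t q t ψ (𝟙 _) (𝟙 _) (by simp [hψ]) (by simp)
  haveI : IsIso ψT := by
    dsimp only [ψT]
    infer_instance
  have h1 : ψT ≫ pullback.fst q t = pullback.fst q t ≫ ψ := by
    exact pullback.lift_fst _ _ _
  have : (pullback.fst q t) ⁻¹ᵁ (ψ ⁻¹ᵁ V) = ψT ⁻¹ᵁ ((pullback.fst q t) ⁻¹ᵁ V) := by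
    rw [← Scheme.Hom.comp_preimage, ← Scheme.Hom.comp_preimage, h1]
  rw [this]
  exact dense_preimage_iso ψT _ (h T t)

lemma D_fst {X Y S : Scheme.{u}} (f : X ⟶ S) (g : Y ⟶ S) (U : X.Opens)
    (hU : ∀ (S' : Scheme.{u}) (g' : S' ⟶ S), CInt.IsSchematicallyDense ((pullback.fst f g') ⁻¹ᵁ U)) :
    D (pullback.snd f g) ((pullback.fst f g) ⁻¹ᵁ U) := by
  intro T t
  have h1 := pullbackLeftPullbackSndIso_hom_fst f g t
  have : (pullback.fst (pullback.snd f g) t) ⁻¹ᵁ ((pullback.fst f g) ⁻¹ᵁ U) =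
      (pullbackLeftPullbackSndIso f g t).hom ⁻¹ᵁ ((pullback.fst f (t ≫ g)) ⁻¹ᵁ U) := by
    rw [← Scheme.Hom.comp_preimage, ← Scheme.Hom.comp_preimage, h1]
  rw [this]
  exact dense_preimage_iso _ _ (hU T (t ≫ g))

lemma surj_of_D {P Y : Scheme.{u}} (q : P ⟶ Y) [Surjective q] (V : P.Opens) (h : D q V) :
    Surjective (V.ι ≫ q) := by
  refine ⟨fun y => ?_⟩
  obtain ⟨p, hp⟩ := q.surjective y
  let t := Y.fromSpecResidueField y
  have hr : ∀ pt, t pt = y := by
    intro pt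
    have : t pt ∈ Set.range t := ⟨pt, rfl⟩
    rw [Scheme.range_fromSpecResidueField] at this
    exact this
  obtain ⟨pt⟩ : Nonempty (Spec (Y.residueField y)) := inferInstance
  obtain ⟨z, hz1, hz2⟩ := Scheme.Pullback.exists_preimage_pullback (f := q) (g := t) p pt
    (by rw [hp, hr])
  haveI : Nonempty (pullback q t : Scheme.{u}) := ⟨z⟩
  obtain ⟨z', hz'⟩ := dense_nonempty _ (h _ t)
  refine ⟨⟨pullback.fst q t z', hz'⟩, ?_⟩
  have h2 : (pullback.fst q t ≫ q) z' = (pullback.snd q t ≫ t) z' := by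
    rw [pullback.condition]
  rw [Scheme.Hom.comp_apply, Scheme.Hom.comp_apply, hr] at h2
  rw [Scheme.Hom.comp_apply]
  exact h2


lemma eq_of_range_le {S : Scheme.{u}} {G H W : Over S} (U : G.left.Opens) (f g : G ⟶ H)
    (h : U.ι ≫ f.left = U.ι ≫ g.left) (k : W ⟶ G) (hk : ∀ p, k.left p ∈ U) : k ≫ f = k ≫ g := by
  have hr : Set.range k.left ⊆ Set.range U.ι := by
    rintro _ ⟨p, rfl⟩
    rw [Scheme.Opens.range_ι]
    exact hk p
  let l := IsOpenImmersion.lift U.ι k.left hr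
  have hl : l ≫ U.ι = k.left := IsOpenImmersion.lift_fac _ _ _
  ext
  rw [Over.comp_left, Over.comp_left, ← hl, Category.assoc, Category.assoc, h]

theorem main (S : Scheme.{u}) (G H : Over S) [GrpObj G] [GrpObj H] [Flat G.hom]
    (U : G.left.Opens) (hU : ∀ (S' : Scheme.{u}) (g : S' ⟶ S), CInt.IsSchematicallyDense ((pullback.fst G.hom g) ⁻¹ᵁ U))
    (f g : G ⟶ H) [IsMonHom f] [IsMonHom g] (h : U.ι ≫ f.left = U.ι ≫ g.left) : f = g := by
  let a : G ⊗ G ⟶ G := fst G G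
  let x : G ⊗ G ⟶ G := snd G G
  let ψ : G ⊗ G ⟶ G ⊗ G := lift (a⁻¹ * x) x
  let ψ' : G ⊗ G ⟶ G ⊗ G := lift (x * a⁻¹) x
  have hψa : ψ ≫ a = a⁻¹ * x := lift_fst _ _
  have hψx : ψ ≫ x = x := lift_snd _ _
  have hψ'a : ψ' ≫ a = x * a⁻¹ := lift_fst _ _
  have hψ'x : ψ' ≫ x = x := lift_snd _ _
  have h1 : ψ ≫ ψ' = 𝟙 _ := by
    apply CartesianMonoidalCategory.hom_ext
    · change (ψ ≫ ψ') ≫ a = 𝟙 _ ≫ a
      rw [Category.assoc, hψ'a, MonObj.comp_mul, GrpObj.comp_inv, hψx, hψa, Category.id_comp]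
      group
    · change (ψ ≫ ψ') ≫ x = 𝟙 _ ≫ x
      rw [Category.assoc, hψ'x, hψx, Category.id_comp]
  have h2 : ψ' ≫ ψ = 𝟙 _ := by
    apply CartesianMonoidalCategory.hom_ext
    · change (ψ' ≫ ψ) ≫ a = 𝟙 _ ≫ a
      rw [Category.assoc, hψa, MonObj.comp_mul, GrpObj.comp_inv, hψ'x, hψ'a, Category.id_comp]
      group
    · change (ψ' ≫ ψ) ≫ x = 𝟙 _ ≫ x
      rw [Category.assoc, hψx, hψ'x, Category.id_comp]
  let e : G ⊗ G ≅ G ⊗ G := ⟨ψ, ψ', h1, h2⟩
  haveI : IsIso ψ.left := (inferInstance : IsIso ((Over.forget S).mapIso e).hom)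
  have hψq : ψ.left ≫ x.left = x.left := by
    rw [← Over.comp_left, hψx]
  -- the opens
  have hD1 : D x.left (a.left ⁻¹ᵁ U) := D_fst G.hom G.hom U hU
  have hD2 : D x.left (ψ.left ⁻¹ᵁ (a.left ⁻¹ᵁ U)) := D_iso x.left ψ.left hψq _ hD1
  have hD : D x.left (a.left ⁻¹ᵁ U ⊓ ψ.left ⁻¹ᵁ (a.left ⁻¹ᵁ U)) := D_inf _ _ _ hD1 hD2
  set W : (G ⊗ G).left.Opens := a.left ⁻¹ᵁ U ⊓ ψ.left ⁻¹ᵁ (a.left ⁻¹ᵁ U) with hW
  haveI : Surjective x.left := by
    refine ⟨fun y => ⟨(lift (𝟙 G) (𝟙 G) : G ⟶ G ⊗ G).left y, ?_⟩⟩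
    rw [← Scheme.Hom.comp_apply, ← Over.comp_left]
    have : (lift (𝟙 G) (𝟙 G) : G ⟶ G ⊗ G) ≫ x = 𝟙 G := lift_snd _ _
    rw [this]
    rfl
  haveI : Flat x.left := by
    change Flat (pullback.snd G.hom G.hom)
    infer_instance
  haveI : Surjective (W.ι ≫ x.left) := surj_of_D x.left W hD
  haveI : Epi (W.ι ≫ x.left) := Flat.epi_of_flat_of_surjective _
  let W' : Over S := Over.mk (W.ι ≫ (G ⊗ G).hom)
  let w : W' ⟶ G ⊗ G := Over.homMk W.ι rfl
  have hk1 : (w ≫ a) ≫ f = (w ≫ a) ≫ g := by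
    apply eq_of_range_le U f g h
    intro p
    rw [Over.comp_left, Scheme.Hom.comp_apply]
    exact p.2.1
  have hk2 : (w ≫ ψ ≫ a) ≫ f = (w ≫ ψ ≫ a) ≫ g := by
    apply eq_of_range_le U f g h
    intro p
    rw [Over.comp_left, Over.comp_left, Scheme.Hom.comp_apply, Scheme.Hom.comp_apply]
    exact p.2.2
  have hx : w ≫ x = (w ≫ a) * (w ≫ ψ ≫ a) := by
    rw [hψa, ← MonObj.comp_mul]
    congr 1
    group
  have key : (w ≫ x) ≫ f = (w ≫ x) ≫ g := by
    rw [hx, MonObj.mul_comp, MonObj.mul_comp, hk1, hk2]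
  have key' := congrArg (fun m => m.left) key
  simp only [Over.comp_left] at key'
  ext
  rw [← cancel_epi (W.ι ≫ x.left)]
  rw [Category.assoc, Category.assoc]
  exact key'


end H5S5435

/-- Let G be an S-group scheme, flat and locally of finite presentation over S, U an open subscheme of G
schematically dense in G relative to S (after every base change), and H an S-group scheme. Then a
homomorphism G → H is determined by its restriction to U: two homomorphisms f, g : G → H with the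
same restriction to U are equal. (No separatedness of H is needed. The published statement allows H
to be any sheaf of groups for the fppf topology; this row takes H a group scheme.) -/
theorem result (S : Scheme.{u}) (G H : Over S) [GrpObj G] [GrpObj H] [Flat G.hom] [LocallyOfFinitePresentation G.hom]
    (U : G.left.Opens) (hU : (∀ (S' : Scheme.{u}) (g : S' ⟶ S), CInt.IsSchematicallyDense ((pullback.fst G.hom g) ⁻¹ᵁ U)))
    (f g : G ⟶ H) [IsMonHom f] [IsMonHom g] (h : U.ι ≫ f.left = U.ι ≫ g.left) : f = g := by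
  exact H5S5435.main S G H U hU f g h

end Groth.Agent.S5435
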