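import Groth.Statements.S15993
import Mathlib
import Groth.Agent.S5435
-- import your own Groth.Agent.* helpers here

set_option autoImplicit false
open CategoryTheory AlgebraicGeometry
universe u
open EtHull

namespace Groth.Agent.S15993

namespace H5S15993
open AlgebraicGeometry CategoryTheory Limits TopologicalSpace
open Groth.Agent.S5434.H5S5434 Groth.Agent.S5435.H5S5435

lemma dense_of_std {Y : Scheme.{u}} (A : Y.Opens) [IsSchemeTheoreticallyDominant A.ι]
    [QuasiCompact A.ι] : CInt.IsSchematicallyDense A := by
  intro O
  rw [injective_iff_map_eq_zero]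
  intro x hx
  apply A.ι.app_injective O
  rw [map_zero]
  have hle2 : A.ι ''ᵁ A.ι ⁻¹ᵁ O ≤ O := by
    rw [Scheme.Hom.image_preimage_eq_opensRange_inf]
    exact inf_le_right
  have hle3 : A.ι ''ᵁ A.ι ⁻¹ᵁ O ≤ O ⊓ A := by
    rw [Scheme.Hom.image_preimage_eq_opensRange_inf, Scheme.Opens.opensRange_ι]
    exact le_of_eq (inf_comm _ _)
  change (Y.presheaf.map (homOfLE hle2).op).hom x = 0
  have : (Y.presheaf.map (homOfLE hle2).op).hom x =
      (Y.presheaf.map (homOfLE hle3).op).hom
        ((Y.presheaf.map (homOfLE (inf_le_left : O ⊓ A ≤ O)).op).hom x) := by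
    rw [← CommRingCat.comp_apply, ← Functor.map_comp]
    rfl
  rw [this, hx, map_zero]

lemma std_of_dense {X : Scheme.{u}} (V : X.Opens) (hV : CInt.IsSchematicallyDense V) :
    IsSchemeTheoreticallyDominant V.ι := by
  constructor
  rw [eq_bot_iff]
  intro U
  refine (V.ι.ideal_ker_le U).trans ?_
  intro x hx
  rw [RingHom.mem_ker] at hx
  simp [eq_zero_of_ι_app V hV U.1 x hx]

lemma dense_preimage_flat {X Y : Scheme.{u}} (p : Y ⟶ X) [Flat p] (V : X.Opens)
    [QuasiCompact V.ι] (hV : CInt.IsSchematicallyDense V) :
    CInt.IsSchematicallyDense (p ⁻¹ᵁ V) := by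
  haveI := std_of_dense V hV
  have e : (p ⁻¹ᵁ V).ι = (pullbackRestrictIsoRestrict p V).inv ≫ pullback.fst p V.ι := by simp
  haveI : IsSchemeTheoreticallyDominant (p ⁻¹ᵁ V).ι := by
    rw [e]
    infer_instance
  haveI : QuasiCompact (p ⁻¹ᵁ V).ι := by
    rw [e]
    infer_instance
  exact dense_of_std _


theorem main {X S : Scheme.{u}} (f : X ⟶ S)
    [Flat f] [Surjective f] [QuasiCompact f] [IsSeparated f]
    (U : S.Opens) (V : X.Opens) [QuasiCompact V.ι]
    (hV : CInt.IsSchematicallyDense V)
    (hle : V ≤ f ⁻¹ᵁ U) (hiso : IsIso (f.resLE U V hle)) : IsIso f := by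
  have hmono : Mono (V.ι ≫ f) := by
    rw [← Scheme.Hom.resLE_comp_ι f hle]
    infer_instance
  let p1 := pullback.fst f f
  let p2 := pullback.snd f f
  let W : (pullback f f).Opens := p1 ⁻¹ᵁ V ⊓ p2 ⁻¹ᵁ V
  have hW : CInt.IsSchematicallyDense W :=
    dense_inf _ _ (dense_preimage_flat p1 V hV) (dense_preimage_flat p2 V hV)
  have h12 : W.ι ≫ p1 = W.ι ≫ p2 := by
    have r1 : Set.range (W.ι ≫ p1).base ⊆ Set.range V.ι.base := by
      rintro _ ⟨w, rfl⟩
      rw [Scheme.Opens.range_ι]
      exact w.2.1
    have r2 : Set.range (W.ι ≫ p2).base ⊆ Set.range V.ι.base := by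
      rintro _ ⟨w, rfl⟩
      rw [Scheme.Opens.range_ι]
      exact w.2.2
    have hab : IsOpenImmersion.lift V.ι (W.ι ≫ p1) r1 = IsOpenImmersion.lift V.ι (W.ι ≫ p2) r2 := by
      rw [← cancel_mono (V.ι ≫ f), ← Category.assoc, ← Category.assoc, IsOpenImmersion.lift_fac,
        IsOpenImmersion.lift_fac, Category.assoc, Category.assoc]
      exact congrArg (W.ι ≫ ·) pullback.condition
    rw [← IsOpenImmersion.lift_fac V.ι (W.ι ≫ p1) r1, ← IsOpenImmersion.lift_fac V.ι (W.ι ≫ p2) r2]
    exact congrArg (· ≫ V.ι) hab
  haveI : IsIso (pullback.diagonal f) := by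
    apply isIso_of_dense (pullback.diagonal f) W hW (W.ι ≫ p1)
    apply pullback.hom_ext
    · simp only [Category.assoc, pullback.diagonal_fst, Category.comp_id]
      rfl
    · simp only [Category.assoc, pullback.diagonal_snd, Category.comp_id]
      exact h12
  haveI : Mono f := by
    constructor
    intro T a b hab
    have h1 : p1 = p2 := by
      have e1 : pullback.diagonal f ≫ p1 = 𝟙 _ := pullback.diagonal_fst f
      have e2 : pullback.diagonal f ≫ p2 = 𝟙 _ := pullback.diagonal_snd f
      rw [← cancel_epi (pullback.diagonal f), e1, e2]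
    have := congrArg (pullback.lift a b hab ≫ ·) h1
    simp only [p1, p2] at this
    rwa [pullback.lift_fst, pullback.lift_snd] at this
  exact Flat.isIso_of_surjective_of_mono f

end H5S15993

/-- Let f : X → S be a morphism of schemes which is faithfully flat (flat and surjective), quasi-compact
and separated, and schematically birational in the following sense: there are schematically dense
opens U of S and V of X, with the inclusion V → X quasi-compact, such that f maps V into U and the
induced morphism V → U is an isomorphism. Then f is an isomorphism. (The source states this for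
algebraic spaces and puts no quasi-compactness condition on the dense opens. Its proof base-changes
along f and uses that the inverse image of V in X ×_S X is again schematically dense, which holds
when V → X is quasi-compact, for instance when X is locally Noetherian, and fails in general: over
the Boolean ring of eventually constant sequences of elements of the field with two elements, the
spectrum of the ring of eventually two-periodic sequences is faithfully flat and affine, and it is
an isomorphism above the open set of principal points, which is schematically dense on both sides,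
yet it is not an isomorphism, the point at infinity being doubled. So V is taken retrocompact in X
here, and X, S are schemes.) -/
theorem result {X S : Scheme.{u}} (f : X ⟶ S)
    [Flat f] [Surjective f] [QuasiCompact f] [IsSeparated f]
    (U : S.Opens) (V : X.Opens) [QuasiCompact V.ι]
    (hU : CInt.IsSchematicallyDense U) (hV : CInt.IsSchematicallyDense V)
    (hle : V ≤ f ⁻¹ᵁ U) (hiso : IsIso (f.resLE U V hle)) : IsIso f := by
  exact H5S15993.main f U V hV hle hiso

end Groth.Agent.S15993
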