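import Groth.Statements.S15995
import Mathlib

set_option autoImplicit false
open CategoryTheory AlgebraicGeometry
universe u
open FrobSch

namespace Groth.Agent.S15995aux
open CategoryTheory CategoryTheory.Limits AlgebraicGeometry FrobSch

/-- Relative Frobenius is an isomorphism iff the Frobenius square is cartesian. -/
lemma isIso_relFrob_iff (p : ℕ) [Fact p.Prime] {X S : Scheme.{u}} [IsCharP S p] [IsCharP X p]
    (f : X ⟶ S) :
    IsIso (relFrob f p) ↔ IsPullback (frob X p) f f (frob S p) := by
  constructor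
  · intro h
    exact IsPullback.of_iso_pullback ⟨frob_comp p f⟩ (asIso (relFrob f p))
      (relFrob_fst f p) (relFrob_snd f p)
  · intro H
    have : relFrob f p = H.isoPullback.hom := by
      apply pullback.hom_ext
      · rw [relFrob_fst, H.isoPullback_hom_fst]
      · rw [relFrob_snd, H.isoPullback_hom_snd]
    rw [this]
    infer_instance

/-- Relatively perfect morphisms compose. -/
lemma isPullback_comp (p : ℕ) [Fact p.Prime] {X T S : Scheme.{u}} [IsCharP S p] [IsCharP T p]
    [IsCharP X p] (π : X ⟶ T) (f : T ⟶ S)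
    (hπ : IsPullback (frob X p) π π (frob T p)) (hf : IsPullback (frob T p) f f (frob S p)) :
    IsPullback (frob X p) (π ≫ f) (π ≫ f) (frob S p) :=
  hπ.paste_vert hf

/-- Relatively perfect morphisms are stable under base change. -/
lemma isPullback_baseChange (p : ℕ) [Fact p.Prime] {Y T S : Scheme.{u}} [IsCharP S p]
    [IsCharP T p] [IsCharP Y p] (r : Y ⟶ S) (f : T ⟶ S)
    (hr : IsPullback (frob Y p) r r (frob S p)) [IsCharP (pullback r f) p] :
    IsPullback (frob (pullback r f) p) (pullback.snd r f) (pullback.snd r f) (frob T p) := by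
  -- big rectangle
  have hbig : IsPullback (pullback.fst r f ≫ frob Y p) (pullback.snd r f) r (f ≫ frob S p) :=
    (IsPullback.of_hasPullback r f).paste_horiz hr
  have e1 : pullback.fst r f ≫ frob Y p = frob (pullback r f) p ≫ pullback.fst r f :=
    (frob_comp p (pullback.fst r f)).symm
  have e2 : f ≫ frob S p = frob T p ≫ f := (frob_comp p f).symm
  rw [e1, e2] at hbig
  exact IsPullback.of_right hbig (frob_comp p (pullback.snd r f)) (IsPullback.of_hasPullback r f)


lemma main (p : ℕ) [Fact p.Prime] {X X' T S : Scheme.{u}}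
    [FrobSch.IsCharP S p] [FrobSch.IsCharP T p] (f : T ⟶ S) (hf : IsIso (FrobSch.relFrob f p))
    (g : X ⟶ T) (π : X' ⟶ T) (hπ : IsIso (FrobSch.relFrob π p)) (c : X ⟶ X') (hc : c ≫ π = g)
    (huniv : ∀ (Y : Scheme.{u}) (q : Y ⟶ T), IsIso (FrobSch.relFrob q p) →
      ∀ k : X ⟶ Y, k ≫ q = g → ∃! h : X' ⟶ Y, h ≫ q = π ∧ c ≫ h = k) :
    IsIso (FrobSch.relFrob (π ≫ f) p) ∧
      ∀ (Y : Scheme.{u}) (r : Y ⟶ S), IsIso (FrobSch.relFrob r p) →
        ∀ k : X ⟶ Y, k ≫ r = g ≫ f → ∃! h : X' ⟶ Y, h ≫ r = π ≫ f ∧ c ≫ h = k := by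
  haveI : IsCharP X' p := IsCharP.of_hom π p
  refine ⟨(isIso_relFrob_iff p (π ≫ f)).mpr (isPullback_comp p π f
    ((isIso_relFrob_iff p π).mp hπ) ((isIso_relFrob_iff p f).mp hf)), ?_⟩
  intro Y r hr k hk
  haveI : IsCharP Y p := IsCharP.of_hom r p
  haveI : IsCharP (pullback r f) p := IsCharP.of_hom (pullback.snd r f) p
  have hq : IsIso (relFrob (pullback.snd r f) p) :=
    (isIso_relFrob_iff p (pullback.snd r f)).mpr
      (isPullback_baseChange p r f ((isIso_relFrob_iff p r).mp hr))
  obtain ⟨h', ⟨h'1, h'2⟩, h'uniq⟩ := huniv (pullback r f) (pullback.snd r f) hq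
    (pullback.lift k g hk) (pullback.lift_snd _ _ _)
  refine ⟨h' ≫ pullback.fst r f, ⟨?_, ?_⟩, ?_⟩
  · rw [Category.assoc, pullback.condition, ← Category.assoc, h'1]
  · rw [← Category.assoc, h'2, pullback.lift_fst]
  · rintro h₂ ⟨h₂1, h₂2⟩
    have : pullback.lift h₂ π h₂1 = h' := by
      apply h'uniq
      refine ⟨pullback.lift_snd _ _ _, ?_⟩
      apply pullback.hom_ext
      · rw [Category.assoc, pullback.lift_fst, pullback.lift_fst, h₂2]
      · rw [Category.assoc, pullback.lift_snd, pullback.lift_snd, hc]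
    rw [← this, pullback.lift_fst]

end Groth.Agent.S15995aux

namespace Groth.Agent.S15995

/-- Coperfection commutes with base restriction. Let S and T be schemes of characteristic p and f : T →
S a relatively perfect morphism (its relative Frobenius T → T^(p/S) is an isomorphism). Let g : X →
T and let c : X → X' be a T-morphism to a relatively perfect T-scheme π : X' → T which is a
coperfection of X over T: for every relatively perfect T-scheme Y, every T-morphism X → Y factors
uniquely through c. Then X' with structure map π ≫ f is relatively perfect over S and c is a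
coperfection of X over S: every S-morphism from X to a relatively perfect S-scheme factors uniquely
through c. (The source works with algebraic spaces; schemes here.) -/
theorem result (p : ℕ) [Fact p.Prime] {X X' T S : Scheme.{u}}
    [FrobSch.IsCharP S p] [FrobSch.IsCharP T p] (f : T ⟶ S) (hf : IsIso (FrobSch.relFrob f p))
    (g : X ⟶ T) (π : X' ⟶ T) (hπ : IsIso (FrobSch.relFrob π p)) (c : X ⟶ X') (hc : c ≫ π = g)
    (huniv : ∀ (Y : Scheme.{u}) (q : Y ⟶ T), IsIso (FrobSch.relFrob q p) →
      ∀ k : X ⟶ Y, k ≫ q = g → ∃! h : X' ⟶ Y, h ≫ q = π ∧ c ≫ h = k) :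
    IsIso (FrobSch.relFrob (π ≫ f) p) ∧
      ∀ (Y : Scheme.{u}) (r : Y ⟶ S), IsIso (FrobSch.relFrob r p) →
        ∀ k : X ⟶ Y, k ≫ r = g ≫ f → ∃! h : X' ⟶ Y, h ≫ r = π ≫ f ∧ c ≫ h = k := by
  exact S15995aux.main p f hf g π hπ c hc huniv

end Groth.Agent.S15995
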