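import Groth.Statements.S16000
import Groth.Agent.S13045
import Mathlib

set_option autoImplicit false
universe u
open FrobAlg

namespace Groth.Agent.S16000

open TensorProduct

section
variable (p : ℕ) [Fact p.Prime] (R : Type u) [CommRing R] [CharP R p]

/-- `R` as an `R`-module through the `n`-th iterate of Frobenius. -/
@[nolint unusedArguments]
def G (p : ℕ) (R : Type u) (n : ℕ) : Type u := R

instance (n : ℕ) : CommRing (G p R n) := inferInstanceAs (CommRing R)

def toG (n : ℕ) : R ≃+* G p R n := RingEquiv.refl R

instance instModG (n : ℕ) : Module R (G p R n) :=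
  Module.compHom (G p R n) ((toG p R n : R →+* G p R n).comp (iterateFrobenius R p n))

theorem smul_def (n : ℕ) (r : R) (x : G p R n) : r • x = toG p R n (r ^ p ^ n) * x := rfl

def fS (n : ℕ) : G p R n →ₗ[R] G p R (n+1) where
  toFun x := toG p R (n+1) ((toG p R n).symm x ^ p)
  map_add' x y := by
    simp only [map_add, add_pow_char]
  map_smul' r x := by
    simp only [smul_def, map_mul, RingEquiv.symm_apply_apply, mul_pow, RingHom.id_apply]
    rw [← pow_mul, ← pow_succ]

def fG (n m : ℕ) (h : n ≤ m) : G p R n →ₗ[R] G p R m where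
  toFun x := toG p R m ((toG p R n).symm x ^ p ^ (m - n))
  map_add' x y := by simp only [map_add, add_pow_char_pow]
  map_smul' r x := by
    simp only [smul_def, map_mul, RingEquiv.symm_apply_apply, mul_pow, RingHom.id_apply]
    rw [← pow_mul, ← pow_add, Nat.add_sub_cancel' h]

theorem fG_succ (n : ℕ) : fG p R n (n+1) (Nat.le_succ n) = fS p R n := by
  ext x
  change toG p R (n+1) ((toG p R n).symm x ^ p ^ (n + 1 - n)) = toG p R (n+1) ((toG p R n).symm x ^ p)
  rw [Nat.add_sub_cancel_left, pow_one]

instance : DirectedSystem (G p R) (fun i j h => fG p R i j h) where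
  map_self i x := by
    change toG p R i ((toG p R i).symm x ^ p ^ (i - i)) = x
    simp
  map_map c b a hab hbc x := by
    change toG p R c (((toG p R b).symm (toG p R b ((toG p R a).symm x ^ p ^ (b - a)))) ^ p ^ (c - b))
      = toG p R c ((toG p R a).symm x ^ p ^ (c - a))
    rw [RingEquiv.symm_apply_apply, ← pow_mul, ← pow_add]
    congr 3
    omega

instance algPC : Algebra R (PerfectClosure R p) := (PerfectClosure.of R p).toAlgebra

def iota (n : ℕ) : G p R n →ₗ[R] PerfectClosure R p where
  toFun x := PerfectClosure.mk R p (n, (toG p R n).symm x)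
  map_add' x y := by
    rw [PerfectClosure.mk_add_mk]
    dsimp only
    apply PerfectClosure.R.sound
    rw [map_add, iterate_map_add]
  map_smul' r x := by
    rw [RingHom.id_apply, Algebra.smul_def]
    change _ = PerfectClosure.of R p r * _
    rw [PerfectClosure.of_apply, PerfectClosure.mk_mul_mk]
    dsimp only
    rw [zero_add, iterate_frobenius, Function.iterate_zero, id, smul_def, map_mul,
      RingEquiv.symm_apply_apply]

theorem iota_fG (n m : ℕ) (h : n ≤ m) (x : G p R n) :
    iota p R m (fG p R n m h x) = iota p R n x := by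
  change PerfectClosure.mk R p (m, (toG p R m).symm (toG p R m ((toG p R n).symm x ^ p ^ (m - n))))
    = PerfectClosure.mk R p (n, (toG p R n).symm x)
  rw [RingEquiv.symm_apply_apply]
  have := PerfectClosure.R.sound R p (m - n) n ((toG p R n).symm x) _ rfl
  rw [this, Nat.sub_add_cancel h, iterate_frobenius]

noncomputable def eL : Module.DirectLimit (G p R) (fG p R) →ₗ[R] PerfectClosure R p :=
  Module.DirectLimit.lift R ℕ (G p R) (fG p R) (iota p R) (iota_fG p R)

theorem eL_of (n : ℕ) (x : G p R n) :
    eL p R (Module.DirectLimit.of R ℕ (G p R) (fG p R) n x) = iota p R n x :=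
  Module.DirectLimit.lift_of _ _ _

theorem eL_surjective : Function.Surjective (eL p R) := by
  intro y
  obtain ⟨⟨n, x⟩, rfl⟩ := PerfectClosure.mk_surjective R p y
  exact ⟨Module.DirectLimit.of R ℕ (G p R) (fG p R) n (toG p R n x), by rw [eL_of]; rfl⟩


section pure
variable [Module.Projective R (FrobAlg.Twist p R)]

theorem exists_dual : ∃ s : FrobAlg.Twist p R →ₗ[R] (FrobAlg.Twist p R →₀ R),
    ∀ x, Finsupp.linearCombination R id (s x) = x := by
  obtain ⟨s, hs⟩ := (Module.projective_def (R := R) (P := FrobAlg.Twist p R)).1 inferInstance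
  exact ⟨s, hs⟩

omit [Module.Projective R (FrobAlg.Twist p R)] in
theorem twist_smul (a : R) (q : FrobAlg.Twist p R) : a • q = toTwist p R (a ^ p) * q := by
  rw [Algebra.smul_def, algebraMap_twist]

noncomputable def phi (s : FrobAlg.Twist p R →ₗ[R] (FrobAlg.Twist p R →₀ R)) (n : ℕ) (q : FrobAlg.Twist p R) :
    G p R (n+1) →ₗ[R] G p R n where
  toFun x := toG p R n (s (toTwist p R ((toG p R (n+1)).symm x)) q)
  map_add' x y := by simp only [map_add, Finsupp.add_apply]
  map_smul' r x := by
    rw [RingHom.id_apply, smul_def, smul_def, map_mul, RingEquiv.symm_apply_apply, map_mul]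
    have : toTwist p R (r ^ p ^ (n+1)) * toTwist p R ((toG p R (n+1)).symm x)
        = (r ^ p ^ n) • toTwist p R ((toG p R (n+1)).symm x) := by
      rw [twist_smul, ← pow_mul, ← pow_succ]
    rw [this, map_smul, Finsupp.smul_apply, smul_eq_mul, map_mul]

def mulL (n : ℕ) (a : R) : G p R n →ₗ[R] G p R n where
  toFun x := toG p R n a * x
  map_add' x y := mul_add _ _ _
  map_smul' r x := by rw [RingHom.id_apply, smul_def, smul_def]; ring

omit [Module.Projective R (FrobAlg.Twist p R)] in
theorem mulL_one (n : ℕ) : mulL p R n 1 = LinearMap.id := by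
  ext x
  change toG p R n 1 * x = x
  rw [map_one, one_mul]

omit [Module.Projective R (FrobAlg.Twist p R)] in
theorem phi_comp (s : FrobAlg.Twist p R →ₗ[R] (FrobAlg.Twist p R →₀ R)) (n : ℕ)
    (q : FrobAlg.Twist p R) : (phi p R s n q) ∘ₗ fS p R n = mulL p R n (s 1 q) := by
  ext x
  change toG p R n (s (toTwist p R ((toG p R (n+1)).symm (toG p R (n+1) ((toG p R n).symm x ^ p)))) q)
    = toG p R n (s 1 q) * x
  rw [RingEquiv.symm_apply_apply]
  have : toTwist p R ((toG p R n).symm x ^ p) = ((toG p R n).symm x) • (1 : FrobAlg.Twist p R) := by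
    rw [twist_smul, mul_one]
  rw [this, map_smul, Finsupp.smul_apply, smul_eq_mul, map_mul, RingEquiv.apply_symm_apply, mul_comm]

theorem fS_pure (n : ℕ) (T : Type*) [AddCommGroup T] [Module R T] :
    Function.Injective ((fS p R n).rTensor T) := by
  obtain ⟨s, hs⟩ := exists_dual p R
  rw [injective_iff_map_eq_zero]
  intro y hy
  have h1 : ∀ q, (mulL p R n (s 1 q)).rTensor T y = 0 := by
    intro q
    rw [← phi_comp p R s n q, LinearMap.rTensor_comp, LinearMap.comp_apply, hy, map_zero]
  let J : Ideal R :=
    { carrier := {a | (mulL p R n a).rTensor T y = 0}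
      add_mem' := by
        intro a b ha hb
        have : mulL p R n (a + b) = mulL p R n a + mulL p R n b := by
          ext x
          change toG p R n (a + b) * x = toG p R n a * x + toG p R n b * x
          rw [map_add, add_mul]
        change (mulL p R n (a + b)).rTensor T y = 0
        rw [this, LinearMap.rTensor_add, LinearMap.add_apply, ha, hb, add_zero]
      zero_mem' := by
        have : mulL p R n 0 = 0 := by
          ext x
          change toG p R n 0 * x = 0
          rw [map_zero, zero_mul]
        change (mulL p R n 0).rTensor T y = 0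
        rw [this, LinearMap.rTensor_zero, LinearMap.zero_apply]
      smul_mem' := by
        intro c a ha
        have : mulL p R n (c • a) = mulL p R n c ∘ₗ mulL p R n a := by
          ext x
          change toG p R n (c * a) * x = toG p R n c * (toG p R n a * x)
          rw [map_mul, mul_assoc]
        change (mulL p R n (c • a)).rTensor T y = 0
        rw [this, LinearMap.rTensor_comp, LinearMap.comp_apply, ha, map_zero] }
  have h2 : (1 : R) ∈ J := by
    have h3 := hs 1
    rw [Finsupp.linearCombination_apply] at h3
    have h4 : (toTwist p R).symm ((s 1).sum fun q a => a • id q) ∈ J := by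
      rw [Finsupp.sum, map_sum]
      refine Ideal.sum_mem _ fun q _ => ?_
      rw [id, twist_smul, map_mul, RingEquiv.symm_apply_apply]
      exact Ideal.mul_mem_right _ _ (Ideal.pow_mem_of_mem _ (h1 q) p (Fact.out : p.Prime).pos)
    rw [h3] at h4
    simpa using h4
  have h5 : (mulL p R n 1).rTensor T y = 0 := h2
  rwa [mulL_one, LinearMap.rTensor_id, LinearMap.id_apply] at h5

theorem fG_pure (n m : ℕ) (h : n ≤ m) (T : Type*) [AddCommGroup T] [Module R T] :
    Function.Injective ((fG p R n m h).rTensor T) := by
  induction m, h using Nat.le_induction with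
  | base =>
    have : fG p R n n le_rfl = LinearMap.id := by
      ext x
      exact DirectedSystem.map_self (f := fun i j h => fG p R i j h) x
    rw [this, LinearMap.rTensor_id]
    exact Function.injective_id
  | succ m hnm ih =>
    have : fG p R n (m+1) (Nat.le_succ_of_le hnm) = fS p R m ∘ₗ fG p R n m hnm := by
      ext x
      rw [LinearMap.comp_apply, ← fG_succ]
      exact (DirectedSystem.map_map (f := fun i j h => fG p R i j h) hnm (Nat.le_succ m) x).symm
    rw [this, LinearMap.rTensor_comp]
    exact (fS_pure p R m T).comp ih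

theorem fS_inj (n : ℕ) : Function.Injective (fS p R n) := by
  rw [injective_iff_map_eq_zero]
  intro x hx
  have h1 : (fS p R n).rTensor R (x ⊗ₜ[R] (1 : R)) = 0 := by
    rw [LinearMap.rTensor_tmul, hx, zero_tmul]
  have h2 := fS_pure p R n R (h1.trans (map_zero _).symm)
  have h3 := congrArg (TensorProduct.rid R (G p R n)) h2
  rwa [TensorProduct.rid_tmul, one_smul, map_zero] at h3

theorem frob_inj : Function.Injective (frobenius R p) := by
  intro x y hxy
  have : fS p R 0 (toG p R 0 x) = fS p R 0 (toG p R 0 y) := by
    change toG p R 1 ((toG p R 0).symm (toG p R 0 x) ^ p) = toG p R 1 ((toG p R 0).symm (toG p R 0 y) ^ p)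
    rw [RingEquiv.symm_apply_apply, RingEquiv.symm_apply_apply]
    exact congrArg _ hxy
  exact (toG p R 0).injective (fS_inj p R 0 this)

theorem iota_inj (n : ℕ) : Function.Injective (iota p R n) := by
  intro x y hxy
  change PerfectClosure.mk R p (n, (toG p R n).symm x) = PerfectClosure.mk R p (n, (toG p R n).symm y)
    at hxy
  rw [PerfectClosure.mk_eq_iff] at hxy
  obtain ⟨z, hz⟩ := hxy
  exact (toG p R n).symm.injective ((frob_inj p R).iterate _ hz)

theorem eL_injective : Function.Injective (eL p R) :=
  Module.DirectLimit.lift_injective _ _ (iota_inj p R)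

theorem iota_pure (n : ℕ) (T : Type*) [AddCommGroup T] [Module R T] :
    Function.Injective ((iota p R n).rTensor T) := by
  rw [injective_iff_map_eq_zero]
  intro y hy
  have h1 : iota p R n = (eL p R) ∘ₗ Module.DirectLimit.of R ℕ (G p R) (fG p R) n := by
    ext x
    rw [LinearMap.comp_apply, eL_of]
  rw [h1, LinearMap.rTensor_comp, LinearMap.comp_apply] at hy
  have h2 : (Module.DirectLimit.of R ℕ (G p R) (fG p R) n).rTensor T y = 0 := by
    have hinj : Function.Injective ((eL p R).rTensor T) :=
      (LinearEquiv.rTensor T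
        (LinearEquiv.ofBijective (eL p R) ⟨eL_injective p R, eL_surjective p R⟩)).injective
    exact hinj (hy.trans (map_zero _).symm)
  have h3 := TensorProduct.directLimitLeft_rTensor_of (fG p R) T y
  rw [h2, map_zero] at h3
  obtain ⟨m, hnm, hm⟩ := Module.DirectLimit.of.zero_exact h3.symm
  exact fG_pure p R n m hnm T (hm.trans (map_zero _).symm)


noncomputable def iMap (s : FrobAlg.Twist p R →ₗ[R] (FrobAlg.Twist p R →₀ R)) (n : ℕ) :
    G p R (n+1) →ₗ[R] (FrobAlg.Twist p R →₀ G p R n) where
  toFun x := (s (toTwist p R ((toG p R (n+1)).symm x))).mapRange (toG p R n) (map_zero _)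
  map_add' x y := by
    ext q
    exact (phi p R s n q).map_add x y
  map_smul' r x := by
    ext q
    exact (phi p R s n q).map_smul r x

noncomputable def piMap (n : ℕ) : (FrobAlg.Twist p R →₀ G p R n) →ₗ[R] G p R (n+1) :=
  Finsupp.lsum ℕ (fun q : FrobAlg.Twist p R => mulL p R (n+1) ((toTwist p R).symm q) ∘ₗ fS p R n)

omit [Module.Projective R (FrobAlg.Twist p R)] in
theorem piMap_iMap (s : FrobAlg.Twist p R →ₗ[R] (FrobAlg.Twist p R →₀ R))
    (hs : ∀ x, Finsupp.linearCombination R id (s x) = x) (n : ℕ) :
    piMap p R n ∘ₗ iMap p R s n = LinearMap.id := by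
  ext x
  rw [LinearMap.comp_apply, LinearMap.id_apply, piMap, Finsupp.lsum_apply]
  have e0 : iMap p R s n x = Finsupp.mapRange (toG p R n) (map_zero _)
      (s (toTwist p R ((toG p R (n+1)).symm x))) := rfl
  rw [e0, Finsupp.sum_mapRange_index (fun a => map_zero _)]
  have h := hs (toTwist p R ((toG p R (n+1)).symm x))
  rw [Finsupp.linearCombination_apply] at h
  have h2 := congrArg (fun y => toG p R (n+1) ((toTwist p R).symm y)) h
  simp only [RingEquiv.symm_apply_apply, RingEquiv.apply_symm_apply] at h2
  refine Eq.trans ?_ h2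
  rw [Finsupp.sum, Finsupp.sum, map_sum, map_sum]
  refine Finset.sum_congr rfl fun q _ => ?_
  rw [id, twist_smul, map_mul, RingEquiv.symm_apply_apply, map_mul, map_pow, mul_comm]
  rfl

theorem proj_G (n : ℕ) : Module.Projective R (G p R n) := by
  induction n with
  | zero =>
    let e : R ≃ₗ[R] G p R 0 :=
      { toFun := toG p R 0
        map_add' := map_add _
        map_smul' := fun r x => by
          rw [RingHom.id_apply, smul_def, pow_zero, pow_one, smul_eq_mul, map_mul]
        invFun := (toG p R 0).symm
        left_inv := (toG p R 0).symm_apply_apply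
        right_inv := (toG p R 0).apply_symm_apply }
    exact Module.Projective.of_equiv' e
  | succ n ih =>
    obtain ⟨s, hs⟩ := exists_dual p R
    classical
    haveI : Module.Projective R (FrobAlg.Twist p R →₀ G p R n) :=
      Module.Projective.of_equiv' (finsuppLequivDFinsupp R).symm
    exact Module.Projective.of_split (iMap p R s n) (piMap p R n) (piMap_iMap p R s hs n)

omit [Module.Projective R (FrobAlg.Twist p R)] in
theorem exists_lift (Q : Type*) [AddCommGroup Q] [Module R Q] (x : PerfectClosure R p ⊗[R] Q) :
    ∃ (n : ℕ) (xn : G p R n ⊗[R] Q), (iota p R n).rTensor Q xn = x := by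
  induction x using TensorProduct.induction_on with
  | zero => exact ⟨0, 0, map_zero _⟩
  | tmul r q =>
    obtain ⟨⟨n, a⟩, rfl⟩ := PerfectClosure.mk_surjective R p r
    exact ⟨n, (toG p R n a) ⊗ₜ q, by rw [LinearMap.rTensor_tmul]; rfl⟩
  | add x y hx hy =>
    obtain ⟨n, a, rfl⟩ := hx
    obtain ⟨m, b, rfl⟩ := hy
    have e1 : iota p R n = iota p R (max n m) ∘ₗ fG p R n (max n m) (le_max_left _ _) := by
      ext z
      rw [LinearMap.comp_apply, iota_fG]
    have e2 : iota p R m = iota p R (max n m) ∘ₗ fG p R m (max n m) (le_max_right _ _) := by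
      ext z
      rw [LinearMap.comp_apply, iota_fG]
    refine ⟨max n m, (fG p R n (max n m) (le_max_left _ _)).rTensor Q a
      + (fG p R m (max n m) (le_max_right _ _)).rTensor Q b, ?_⟩
    rw [map_add]
    conv_rhs => rw [e1, e2, LinearMap.rTensor_comp, LinearMap.rTensor_comp]
    rfl

theorem general {Q : Type u} [AddCommGroup Q] [Module R Q] {T : ℕ → Type u}
    [∀ i, AddCommGroup (T i)] [∀ i, Module R (T i)] (g : ∀ i, Q →ₗ[R] T i)
    (H : ∀ (M : Type u) [AddCommGroup M] [Module R M] [Module.Projective R M],
      Function.Injective (LinearMap.pi fun i => LinearMap.lTensor M (g i) :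
        M ⊗[R] Q →ₗ[R] Π i, M ⊗[R] T i)) :
    Function.Injective (LinearMap.pi fun i => LinearMap.lTensor (PerfectClosure R p) (g i) :
      PerfectClosure R p ⊗[R] Q →ₗ[R] Π i, PerfectClosure R p ⊗[R] T i) := by
  rw [injective_iff_map_eq_zero]
  intro x hx
  obtain ⟨n, xn, rfl⟩ := exists_lift p R Q x
  have h1 : ∀ i, LinearMap.lTensor (G p R n) (g i) xn = 0 := by
    intro i
    apply iota_pure p R n (T i)
    rw [map_zero]
    have h := congrFun hx i
    rw [LinearMap.pi_apply, ← LinearMap.comp_apply, LinearMap.lTensor_comp_rTensor,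
      ← LinearMap.rTensor_comp_lTensor, LinearMap.comp_apply] at h
    exact h
  haveI := proj_G p R n
  have h2 : xn = 0 := H (G p R n) (by rw [map_zero]; funext i; exact h1 i)
  rw [h2, map_zero]

end pure

end

open TensorProduct in
theorem result'
    (p : ℕ) [Fact p.Prime] (R : Type u) [CommRing R] [CharP R p]
    (A : Type u) [CommRing A] [Algebra R A] [CharP A p]
    [Module.Projective R (FrobAlg.Twist p R)] :
    letI : Algebra R (PerfectClosure R p) := (PerfectClosure.of R p).toAlgebra
    Function.Injective
      (LinearMap.pi fun i : ℕ =>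
        LinearMap.lTensor (PerfectClosure R p)
          (((Pi.evalAlgHom R (fun k => W4c1imperftorsors.Twist p R A k) i).comp
            (W4c1imperftorsors.prePerf p R A).val).toLinearMap) :
        PerfectClosure R p ⊗[R] ↥(W4c1imperftorsors.prePerf p R A) →ₗ[R]
          (Π i : ℕ, PerfectClosure R p ⊗[R] W4c1imperftorsors.Twist p R A i)) := by
  exact general p R _ (fun M _ _ _ => Groth.Agent.S13045.result p R A M)

open TensorProduct in
/-- Let p be a prime, R a commutative ring of characteristic p such that R is a projective R-module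
through its absolute Frobenius, and A a commutative R-algebra of characteristic p, with Frobenius
twists A^{p^i/R} = R ⊗_{F^i,R} A, relative Frobenius maps A^{p^{i+1}/R} → A^{p^i/R} and
preperfection A^{p^∞/R} = lim_i A^{p^i/R} ⊆ Π_i A^{p^i/R}. Let R' be the direct-limit perfection
colim(R → R → ⋯) of R along Frobenius, an R-module through the canonical map R → R'. Then the
natural map R' ⊗_R A^{p^∞/R} → Π_i (R' ⊗_R A^{p^i/R}), r ⊗ x ↦ (r ⊗ x_i)_i, is injective; in
particular the base-change map R' ⊗_R lim_i A^{p^i/R} → lim_i (R' ⊗_R A^{p^i/R}) is injective. (The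
published statement identifies the target limit with the preperfection of A ⊗_R R' over R'; that
identification is not part of this row.) -/
theorem result
    (p : ℕ) [Fact p.Prime] (R : Type u) [CommRing R] [CharP R p]
    (A : Type u) [CommRing A] [Algebra R A] [CharP A p]
    [Module.Projective R (FrobAlg.Twist p R)] :
    letI : Algebra R (PerfectClosure R p) := (PerfectClosure.of R p).toAlgebra
    Function.Injective
      (LinearMap.pi fun i : ℕ =>
        LinearMap.lTensor (PerfectClosure R p)
          (((Pi.evalAlgHom R (fun k => W4c1imperftorsors.Twist p R A k) i).comp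
            (W4c1imperftorsors.prePerf p R A).val).toLinearMap) :
        PerfectClosure R p ⊗[R] ↥(W4c1imperftorsors.prePerf p R A) →ₗ[R]
          (Π i : ℕ, PerfectClosure R p ⊗[R] W4c1imperftorsors.Twist p R A i)) := by
  exact result' p R A

end Groth.Agent.S16000
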