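import Groth.Statements.S16012
import Groth.Agent.Lib.helper29.Theta

set_option autoImplicit false
universe u v w x
open W4c3ghconstell

namespace Groth.Agent.S16012

open Groth.Agent.Lib.helper29.Theta

/-- Let k be an algebraically closed field of characteristic zero, A a commutative Hopf algebra over k
which is a finitely generated domain and linearly reductive (the coordinate ring of a connected
reductive group G; irreducible representations of G are indexed by the simple subcoalgebras D of A),
R a Noetherian commutative k-algebra with a multiplicative A-coaction (an affine G-scheme X = Spec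
R), and M an R-module with a compatible A-coaction (a G-equivariant quasi-coherent module on X)
which is finite over R, is the sum of its isotypic components M_D, and has dim_k M_D = h(D) < ∞ for
every simple subcoalgebra D. Fix a weight θ from simple subcoalgebras to ℚ, negative at only
finitely many D, with Σ_D θ(D) h(D) = 0 (a convergent real series) and with θ(D) ≠ 0, h(D) ≠ 0 for
some D; the weight of a k-subspace N of M is the real series Σ_D θ(D) · dim_k (N ∩ M_D). Assume
moreover that θ(D) ≠ 0 for every D with h(D) ≠ 0. Suppose M has weight 0 and every non-zero proper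
R-submodule N of M stable under the coaction and generated as an R-module by its isotypic parts N ∩
M_D with θ(D) < 0 has weight > 0. Then M is θ-stable: every non-zero proper R-submodule of M stable
under the coaction has weight > 0. (The published statement has no condition on the D with θ(D) = 0;
without it the conclusion fails: for the multiplicative group acting on k[x,y]/(x,y)² with x of
weight 1 and y of weight 2, the module M = k[x,y]/(x,y)² with h = 1 at the weights 0, 1, 2 and θ =
−1, 1, 0 there has no non-zero proper equivariant submodule generated in weight 0, yet the weight-2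
line is an equivariant submodule of weight 0. The printed argument establishes the statement under
the extra condition, which also records multiplicities as dimensions of isotypic components, a
rescaling of θ.) -/
theorem result (k : Type u) [Field k] [IsAlgClosed k] [CharZero k]
    (A : Type v) [CommRing A] [IsDomain A] [HopfAlgebra k A] [Algebra.FiniteType k A]
    (hred : HopfRep.IsLinearlyReductive k A)
    (R : Type w) [CommRing R] [Algebra k R] [IsNoetherianRing R] [HopfRep.Comod k A R] [GLin.IsCoactAlg k A R]
    (M : Type x) [AddCommGroup M] [Module k M] [Module R M] [IsScalarTower k R M]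
    [HopfRep.Comod k A M] [TameAct.IsHopfMod k A R M]
    (h : W4c3ghconstell.SimpSub k A → ℕ) (θ : W4c3ghconstell.SimpSub k A → ℚ)
    (hfin : {D | θ D < 0}.Finite) (hsum : HasSum (fun D => (θ D : ℝ) * (h D : ℝ)) 0)
    (hne : ∃ D, θ D ≠ 0 ∧ h D ≠ 0)
    (hM : W4c3ghconstell.IsConstellation k A R M h)
    (hθ : ∀ D, h D ≠ 0 → θ D ≠ 0)
    (h0 : W4c3ghconstell.theta M θ ⊤ = 0)
    (hs : ∀ N : Submodule R M, HopfRep.IsSubcomod (k := k) (A := A) (N.restrictScalars k) → N ≠ ⊥ → N ≠ ⊤ →
      W4c3ghconstell.genIn k A R M {D | θ D < 0} N = N → 0 < W4c3ghconstell.theta M θ (N.restrictScalars k)) :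
    W4c3ghconstell.IsThetaStable k A R M θ := by
  classical
  refine ⟨h0, ?_⟩
  intro N hN hNbot hNtop
  have hN'sub := isSubcomod_genIn (k := k) (A := A) (R := R) (M := M) {D | θ D < 0} N hN
  have hle : W4c3ghconstell.theta M θ
      ((W4c3ghconstell.genIn k A R M {D | θ D < 0} N).restrictScalars k) ≤
      W4c3ghconstell.theta M θ (N.restrictScalars k) := by
    apply theta_le_of hM hsum.summable
    · exact fun x hx => genIn_le _ N hx
    · intro D hD
      exact genIn_inf_isoComp (k := k) (A := A) (R := R) (M := M) {D | θ D < 0} N D hD
  by_cases hbot : W4c3ghconstell.genIn k A R M {D | θ D < 0} N = ⊥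
  · -- no negative parts
    have hneg : ∀ D, θ D < 0 → N.restrictScalars k ⊓ W4c3ghconstell.isoComp M D.1 = ⊥ := by
      intro D hD
      have h1 := inf_isoComp_le_genIn (k := k) (A := A) (R := R) (M := M) {D | θ D < 0} N D hD
      rw [hbot, Submodule.restrictScalars_bot, le_bot_iff] at h1
      exact h1
    have hNbot' : N.restrictScalars k ≠ ⊥ := by
      intro h
      exact hNbot ((Submodule.restrictScalars_eq_bot_iff k R M).mp h)
    obtain ⟨D₁, hD₁⟩ := exists_inf_isoComp_ne_bot (semisimple_of_linRed hred M) hM.2.1
      (N.restrictScalars k) hN hNbot'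
    have hpos := hilbAt_pos hM hD₁
    have hle1 := hilbAt_le hM (N.restrictScalars k) D₁
    have hθ1 : θ D₁ ≠ 0 := hθ D₁ (by omega)
    have hθ2 : ¬ θ D₁ < 0 := fun hlt => hD₁ (hneg D₁ hlt)
    have hθ3 : 0 < θ D₁ := lt_of_le_of_ne (not_lt.mp hθ2) (Ne.symm hθ1)
    exact theta_pos_of hM hsum.summable hneg D₁ hD₁ hθ3
  · by_cases htop : W4c3ghconstell.genIn k A R M {D | θ D < 0} N = ⊤
    · exfalso
      apply hNtop
      rw [eq_top_iff, ← htop]
      exact genIn_le _ N
    · have := hs _ hN'sub hbot htop (genIn_genIn _ N)
      linarith

end Groth.Agent.S16012
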