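import Groth.Statements.S16014
import Mathlib
-- import your own Groth.Agent.* helpers here

set_option autoImplicit false
universe u
open W4c3ghconstell

namespace Groth.Agent.S16014

theorem aux_swap (f : ℤ → ℚ) (a b : ℤ) :
    ∑ n ∈ Finset.Icc a b, ∑ m ∈ Finset.Icc n b, f m =
      ∑ m ∈ Finset.Icc a b, ((m : ℚ) + 1 - a) * f m := by
  rw [Finset.sum_comm' (t' := Finset.Icc a b) (s' := fun m => Finset.Icc a m)]
  · refine Finset.sum_congr rfl ?_
    intro m hm
    rw [Finset.sum_const, Int.card_Icc, nsmul_eq_mul]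
    congr 1
    have hm' := Finset.mem_Icc.mp hm
    have : (0 : ℤ) ≤ m + 1 - a := by omega
    have h2 : (((m + 1 - a).toNat : ℤ) : ℚ) = ((m + 1 - a : ℤ) : ℚ) := by
      rw [Int.toNat_of_nonneg this]
    rw [Int.cast_natCast] at h2
    rw [h2]; push_cast; ring
  · intro n m
    simp only [Finset.mem_Icc]
    omega

/-- Let B = ⊕_{n ∈ ℤ} ⊕_τ B^n_τ be a bigraded finite-dimensional vector space, τ running over a finite
index set, with B^n = 0 for n < −N and for n > M (N, M integers); put d(n, τ) = dim B^n_τ. For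
rational numbers φ_τ write φ(C) = Σ_τ φ_τ dim C_τ for a τ-graded piece C, and let B^{≥n} = ⊕_{m ≥ n}
B^m, so that dim B^{≥n}_τ = Σ_{n ≤ m ≤ M} d(m, τ). Then Σ_{−N ≤ n ≤ M} n · φ(B^n) = Σ_{−N+1 ≤ n ≤ M}
φ(B^{≥n}) − N · φ(B). (Stated directly on the dimension function d.) -/
theorem result {τ : Type u} [Fintype τ] (d : ℤ → τ → ℕ) (φ : τ → ℚ) (N M : ℤ)
    (hN : ∀ n, n < -N → d n = 0) (hM : ∀ n, M < n → d n = 0) :
    ∑ n ∈ Finset.Icc (-N) M, (n : ℚ) * (∑ t, φ t * (d n t : ℚ)) =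
      ∑ n ∈ Finset.Icc (-N + 1) M, (∑ t, φ t * (∑ m ∈ Finset.Icc n M, (d m t : ℚ))) -
        (N : ℚ) * (∑ t, φ t * (∑ m ∈ Finset.Icc (-N) M, (d m t : ℚ))) := by
  -- reduce to a statement for each t
  have key : ∀ t : τ, ∑ n ∈ Finset.Icc (-N) M, (n : ℚ) * (d n t : ℚ) =
      ∑ n ∈ Finset.Icc (-N + 1) M, (∑ m ∈ Finset.Icc n M, (d m t : ℚ)) -
        (N : ℚ) * (∑ m ∈ Finset.Icc (-N) M, (d m t : ℚ)) := by
    intro t
    rw [aux_swap (fun m => (d m t : ℚ)) (-N + 1) M]
    -- extend the sum to include m = -N, where the coefficient vanishes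
    have hext : ∑ m ∈ Finset.Icc (-N + 1) M, ((m : ℚ) + 1 - ((-N + 1 : ℤ) : ℚ)) * (d m t : ℚ) =
        ∑ m ∈ Finset.Icc (-N) M, ((m : ℚ) + N) * (d m t : ℚ) := by
      by_cases hNM : -N ≤ M
      · have : Finset.Icc (-N) M = insert (-N) (Finset.Icc (-N + 1) M) := by
          ext x; simp only [Finset.mem_Icc, Finset.mem_insert]; omega
        rw [this, Finset.sum_insert (by simp)]
        push_cast
        rw [show ((-(N : ℚ)) + N) = 0 by ring, zero_mul, zero_add]
        refine Finset.sum_congr rfl ?_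
        intro m _
        ring
      · have h1 : Finset.Icc (-N) M = ∅ := Finset.Icc_eq_empty (by omega)
        have h2 : Finset.Icc (-N + 1) M = ∅ := Finset.Icc_eq_empty (by omega)
        rw [h1, h2]; simp
    rw [hext, Finset.mul_sum, ← Finset.sum_sub_distrib]
    refine Finset.sum_congr rfl ?_
    intro m _
    ring
  calc ∑ n ∈ Finset.Icc (-N) M, (n : ℚ) * (∑ t, φ t * (d n t : ℚ))
      = ∑ t, φ t * ∑ n ∈ Finset.Icc (-N) M, (n : ℚ) * (d n t : ℚ) := by
        simp_rw [Finset.mul_sum]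
        rw [Finset.sum_comm]
        refine Finset.sum_congr rfl (fun t _ => Finset.sum_congr rfl (fun n _ => by ring))
    _ = ∑ t, φ t * (∑ n ∈ Finset.Icc (-N + 1) M, (∑ m ∈ Finset.Icc n M, (d m t : ℚ)) -
        (N : ℚ) * (∑ m ∈ Finset.Icc (-N) M, (d m t : ℚ))) := by
        refine Finset.sum_congr rfl (fun t _ => by rw [key t])
    _ = _ := by
        simp_rw [mul_sub, Finset.sum_sub_distrib]
        congr 1
        · simp_rw [Finset.mul_sum]
          rw [Finset.sum_comm]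
        · simp_rw [Finset.mul_sum]
          refine Finset.sum_congr rfl (fun t _ => Finset.sum_congr rfl (fun n _ => by ring))

end Groth.Agent.S16014
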