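import Groth.Statements.S16015
import Mathlib

set_option autoImplicit false
universe u v w
open W4c3ghconstell

namespace Groth.Agent.S16015

open TensorProduct in
theorem key_aux {B : Type*} [CommRing B]
    {E : Type*} [AddCommGroup E] [Module B E]
    {F : Type*} [AddCommGroup F] [Module B F] [Module.Finite B F] [Module.Projective B F]
    (β : E →ₗ[B] F) (C : Type*) [CommRing C] [Algebra B C] :
    LinearMap.baseChange C β = 0 ↔
      ∀ (ψ : F →ₗ[B] B) (e : E), algebraMap B C (ψ (β e)) = 0 := by
  classical
  constructor
  · intro h ψ e
    have h1 : LinearMap.baseChange C ψ (LinearMap.baseChange C β ((1 : C) ⊗ₜ[B] e)) = 0 := by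
      rw [h]; simp
    rw [LinearMap.baseChange_tmul, LinearMap.baseChange_tmul] at h1
    have h2 := congrArg (TensorProduct.rid B C) h1
    rw [TensorProduct.rid_tmul, map_zero] at h2
    rw [Algebra.algebraMap_eq_smul_one]
    exact h2
  · intro h
    obtain ⟨n, π, i, -, -, hπi⟩ := Module.Finite.exists_comp_eq_id_of_projective B F
    have hx : ∀ x : F, x = ∑ j : Fin n, (i x j) • π (Pi.single j 1) := by
      intro x
      have h1 : x = π (i x) := by
        have := congrArg (fun φ : F →ₗ[B] F => φ x) hπi
        simpa using this.symm
      have h2 : i x = ∑ j : Fin n, (i x j) • (Pi.single j (1 : B) : Fin n → B) := by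
        ext l
        simp [Finset.sum_apply, Pi.single_apply]
      conv_lhs => rw [h1, h2]
      simp [map_sum]
    apply LinearMap.ext
    intro t
    induction t using TensorProduct.induction_on with
    | zero => simp
    | add a b ha hb => rw [map_add, ha, hb]; simp
    | tmul c e =>
      rw [LinearMap.baseChange_tmul, LinearMap.zero_apply]
      rw [hx (β e), TensorProduct.tmul_sum]
      apply Finset.sum_eq_zero
      intro j _
      have := h ((LinearMap.proj j).comp i) e
      simp only [LinearMap.coe_comp, Function.comp_apply, LinearMap.proj_apply] at this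
      have hbc : (i (β e) j) • c = 0 := by rw [Algebra.smul_def, this, zero_mul]
      rw [TensorProduct.tmul_smul, TensorProduct.smul_tmul', hbc, TensorProduct.zero_tmul]

/-- Let B be a commutative ring, E a B-module, F a finitely generated projective B-module and β : E → F
a B-linear map. Then there is a unique ideal I of B such that for every commutative B-algebra C the
base change β_C : C ⊗ E → C ⊗ F is zero if and only if the structure map B → C kills I. (The
published statement is for a homomorphism of modules on a scheme T into a locally free module and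
produces a closed subscheme T₀ through which a morphism factors exactly when the pulled-back
homomorphism vanishes; this row is the case of an affine T with affine test schemes and F of finite
rank, to which it reduces.) -/
theorem result {B : Type u} [CommRing B]
    {E : Type v} [AddCommGroup E] [Module B E]
    {F : Type w} [AddCommGroup F] [Module B F] [Module.Finite B F] [Module.Projective B F]
    (β : E →ₗ[B] F) :
    ∃! I : Ideal B, ∀ (C : Type u) [CommRing C] [Algebra B C],
      LinearMap.baseChange C β = 0 ↔ I ≤ RingHom.ker (algebraMap B C) := by
  classical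
  set I : Ideal B := Ideal.span {b : B | ∃ (ψ : F →ₗ[B] B) (e : E), b = ψ (β e)} with hI
  have hchar : ∀ (C : Type u) [CommRing C] [Algebra B C],
      LinearMap.baseChange C β = 0 ↔ I ≤ RingHom.ker (algebraMap B C) := by
    intro C _ _
    rw [key_aux β C, hI, Ideal.span_le]
    constructor
    · rintro h b ⟨ψ, e, rfl⟩
      exact h ψ e
    · intro h ψ e
      exact h ⟨ψ, e, rfl⟩
  refine ⟨I, hchar, ?_⟩
  intro I' hI'
  have hk : ∀ J : Ideal B, RingHom.ker (algebraMap B (B ⧸ J)) = J := by
    intro J
    exact Ideal.mk_ker
  apply le_antisymm
  · have h1 : LinearMap.baseChange (B ⧸ I) β = 0 := (hchar (B ⧸ I)).mpr (by rw [hk])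
    have h2 := (hI' (B ⧸ I)).mp h1
    rwa [hk] at h2
  · have h1 : LinearMap.baseChange (B ⧸ I') β = 0 := (hI' (B ⧸ I')).mpr (by rw [hk])
    have h2 := (hchar (B ⧸ I')).mp h1
    rwa [hk] at h2

end Groth.Agent.S16015
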