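import Groth.Statements.S16016
import Mathlib

set_option autoImplicit false
universe u
open W4c3ghconstell

namespace Groth.Agent.S16016

/-- Let k be a field with 2 ≠ 0, index k⁶ by two copies of {0,1,2} (basis vectors p₁, p₂, p₃ in the
first copy and p₄, p₅, p₆ in the second), let Q be the symmetric matrix with blocks ((0, 1), (1,
0)), so that the form it defines pairs pᵢ with pᵢ₊₃, and let W₀ be the span of p₁ and p₂. Then a 6 ×
6 matrix A satisfies AᵀQ + QA = 0 (A lies in the orthogonal Lie algebra of Q) and has the image of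
Aᵀ contained in W₀ if and only if A = a · (E₄₂ − E₅₁) for some scalar a, where Eᵢⱼ is the matrix
unit. (The lemma in the source concludes that the set of such A inside a certain nilpotent orbit
closure of this Lie algebra is one-dimensional; this row is the computation its proof performs,
which determines all such A in the Lie algebra. Characteristic 2 is excluded: there E₁₄ᵀ also
qualifies.) -/
theorem result (k : Type u) [Field k] (h2 : (2 : k) ≠ 0)
    (A : Matrix (Fin 3 ⊕ Fin 3) (Fin 3 ⊕ Fin 3) k) :
    (A.transpose * Matrix.fromBlocks (0 : Matrix (Fin 3) (Fin 3) k) 1 1 0 +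
        Matrix.fromBlocks (0 : Matrix (Fin 3) (Fin 3) k) 1 1 0 * A = 0 ∧
      LinearMap.range (Matrix.mulVecLin A.transpose) ≤
        Submodule.span k {Pi.single (Sum.inl 0 : Fin 3 ⊕ Fin 3) (1 : k), Pi.single (Sum.inl 1 : Fin 3 ⊕ Fin 3) (1 : k)}) ↔
    ∃ a : k, A = a • (Matrix.single (Sum.inr 0) (Sum.inl 1) (1 : k) - Matrix.single (Sum.inr 1) (Sum.inl 0) (1 : k)) := by
  classical
  -- entrywise form of the Lie algebra condition
  have hanti_iff : A.transpose * Matrix.fromBlocks (0 : Matrix (Fin 3) (Fin 3) k) 1 1 0 +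
        Matrix.fromBlocks (0 : Matrix (Fin 3) (Fin 3) k) 1 1 0 * A = 0 ↔
      ∀ i j : Fin 3 ⊕ Fin 3, A (Sum.swap j) i + A (Sum.swap i) j = 0 := by
    rw [← Matrix.ext_iff]
    refine forall_congr' fun i => forall_congr' fun j => ?_
    rcases i with i | i <;> rcases j with j | j <;>
    simp [Matrix.add_apply, Matrix.mul_apply, Fintype.sum_sum_type, Matrix.fromBlocks_apply₁₁,
      Matrix.fromBlocks_apply₁₂, Matrix.fromBlocks_apply₂₁, Matrix.fromBlocks_apply₂₂,
      Matrix.one_apply, Matrix.transpose_apply]
  -- column form of the range condition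
  have hcol_iff : LinearMap.range (Matrix.mulVecLin A.transpose) ≤
        Submodule.span k {Pi.single (Sum.inl 0 : Fin 3 ⊕ Fin 3) (1 : k), Pi.single (Sum.inl 1 : Fin 3 ⊕ Fin 3) (1 : k)} ↔
      ∀ j i : Fin 3 ⊕ Fin 3, i ≠ Sum.inl 0 → i ≠ Sum.inl 1 → A j i = 0 := by
    constructor
    · intro h j i hi0 hi1
      have hmem : Matrix.mulVecLin A.transpose (Pi.single j 1) ∈
          Submodule.span k {Pi.single (Sum.inl 0 : Fin 3 ⊕ Fin 3) (1 : k), Pi.single (Sum.inl 1 : Fin 3 ⊕ Fin 3) (1 : k)} :=
        h (LinearMap.mem_range_self _ _)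
      rw [Submodule.mem_span_pair] at hmem
      obtain ⟨c, d, hcd⟩ := hmem
      have := congrFun hcd i
      simp [Pi.single_apply, hi0, hi1] at this
      exact this.symm
    · intro h
      rintro _ ⟨v, rfl⟩
      rw [Submodule.mem_span_pair]
      refine ⟨(Matrix.vecMul v A) (Sum.inl 0), (Matrix.vecMul v A) (Sum.inl 1), ?_⟩
      rw [Matrix.mulVecLin_apply, Matrix.mulVec_transpose]
      ext i
      by_cases hi0 : i = Sum.inl 0
      · subst hi0; simp
      by_cases hi1 : i = Sum.inl 1
      · subst hi1; simp
      · have : (Matrix.vecMul v A) i = 0 := by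
          simp only [Matrix.vecMul, dotProduct]
          apply Finset.sum_eq_zero
          intro j _
          rw [h j i hi0 hi1, mul_zero]
        simp [hi0, hi1, this]
  rw [hanti_iff, hcol_iff]
  constructor
  · rintro ⟨hanti, hcol⟩
    refine ⟨A (Sum.inr 0) (Sum.inl 1), ?_⟩
    have hdiag : ∀ x : k, x + x = 0 → x = 0 := by
      intro x hx
      have : (2 : k) * x = 0 := by rw [two_mul]; exact hx
      exact (mul_eq_zero.mp this).resolve_left h2
    ext i j
    rcases i with i | i <;> rcases j with j | j <;> fin_cases i <;> fin_cases j <;>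
    simp [Matrix.single_apply, Matrix.sub_apply, Matrix.smul_apply] <;>
    first
    | (apply hcol <;> (simp; done))
    | (have h := hanti (Sum.inl 0) (Sum.inl 0); simp at h; exact hdiag _ h)
    | (have h := hanti (Sum.inl 1) (Sum.inl 1); simp at h; exact hdiag _ h)
    | (have h := hanti (Sum.inl 0) (Sum.inl 1); simp at h; linear_combination h)
    | (have h := hanti (Sum.inl 1) (Sum.inl 0); simp at h; linear_combination h)
    | (have h := hanti (Sum.inl 0) (Sum.inl 2); simp [hcol] at h; exact h)
    | (have h := hanti (Sum.inl 1) (Sum.inl 2); simp [hcol] at h; exact h)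
    | (have h := hanti (Sum.inl 0) (Sum.inr 0); simp [hcol] at h; exact h)
    | (have h := hanti (Sum.inl 0) (Sum.inr 1); simp [hcol] at h; exact h)
    | (have h := hanti (Sum.inl 0) (Sum.inr 2); simp [hcol] at h; exact h)
    | (have h := hanti (Sum.inl 1) (Sum.inr 0); simp [hcol] at h; exact h)
    | (have h := hanti (Sum.inl 1) (Sum.inr 1); simp [hcol] at h; exact h)
    | (have h := hanti (Sum.inl 1) (Sum.inr 2); simp [hcol] at h; exact h)
  · rintro ⟨a, rfl⟩
    constructor
    · intro i j
      rcases i with i | i <;> rcases j with j | j <;> fin_cases i <;> fin_cases j <;>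
      simp [Matrix.single_apply, Matrix.sub_apply, Matrix.smul_apply]
    · intro j i hi0 hi1
      rcases i with i | i <;> rcases j with j | j <;> fin_cases i <;> fin_cases j <;>
      simp [Matrix.single_apply, Matrix.sub_apply, Matrix.smul_apply] at hi0 hi1 ⊢

end Groth.Agent.S16016
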