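import Groth.Statements.S16017
import Mathlib

set_option autoImplicit false
universe u
open W4c3ghconstell

namespace Groth.Agent.S16017

/-- Let ι index the irreducible representations, θ : ι → ℚ a weight negative at only finitely many
indices (the finite set D₋), h h' : ι → ℕ with h' ≤ h pointwise (the isotypic dimensions of an
object and of a sub-object) and Σ_i θ_i h_i summable. For a finite set D of indices put S_D = Σ_{i ∉
D} θ_i h_i, d = #(D ∖ D₋), and θ̃_D = Σ_{i ∈ D} θ_i h'_i + (S_D / d) · Σ_{i ∈ D ∖ D₋} h'_i / h_i,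
the modified weight attached to the parameters chosen for D (for D ⊇ D₋ the first sum is the
negative part plus the part over D ∖ D₋). Then θ̃_D tends to Σ_i θ_i h'_i as D grows through the
finite subsets of ι. (Here D runs over all finite sets of indices and a quotient by zero is zero;
the source lets D run over the finite subsets of the locus θ ≠ 0 containing D₋, and the same tail
estimate gives both.) -/
theorem result {ι : Type u} [DecidableEq ι] (θ : ι → ℚ) (h h' : ι → ℕ)
    (hle : ∀ i, h' i ≤ h i) (hfin : {i | θ i < 0}.Finite)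
    (hsum : Summable (fun i => (θ i : ℝ) * (h i : ℝ))) :
    Filter.Tendsto
      (fun D : Finset ι =>
        (∑ i ∈ D, (θ i : ℝ) * (h' i : ℝ)) +
          ((∑' i, if i ∈ D then (0 : ℝ) else (θ i : ℝ) * (h i : ℝ)) / ((D \ hfin.toFinset).card : ℝ)) *
            ∑ i ∈ D \ hfin.toFinset, ((h' i : ℝ) / (h i : ℝ)))
      Filter.atTop (nhds (∑' i, (θ i : ℝ) * (h' i : ℝ))) := by
  classical
  set f : ι → ℝ := fun i => (θ i : ℝ) * (h i : ℝ) with hf
  set g : ι → ℝ := fun i => (θ i : ℝ) * (h' i : ℝ) with hg
  have hgle : ∀ i, ‖g i‖ ≤ |f i| := by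
    intro i
    simp only [hg, hf, Real.norm_eq_abs, abs_mul, Nat.abs_cast]
    apply mul_le_mul_of_nonneg_left _ (abs_nonneg _)
    exact_mod_cast hle i
  have hgs : Summable g := Summable.of_norm_bounded hsum.abs hgle
  have h1 : Filter.Tendsto (fun D : Finset ι => ∑ i ∈ D, g i) Filter.atTop (nhds (∑' i, g i)) :=
    hgs.hasSum
  have hfsum : Filter.Tendsto (fun D : Finset ι => ∑ i ∈ D, f i) Filter.atTop (nhds (∑' i, f i)) :=
    hsum.hasSum
  -- the tail
  have htail : ∀ D : Finset ι, (∑' i, if i ∈ D then (0 : ℝ) else f i) = (∑' i, f i) - ∑ i ∈ D, f i := by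
    intro D
    have hs1 : Summable (fun i => if i ∈ D then f i else 0) :=
      summable_of_ne_finset_zero (s := D) (fun i hi => if_neg hi)
    have hs2 : Summable (fun i => if i ∈ D then (0 : ℝ) else f i) := by
      have : (fun i => if i ∈ D then (0 : ℝ) else f i) = fun i => f i - (if i ∈ D then f i else 0) := by
        funext i
        split_ifs <;> simp
      rw [this]
      exact hsum.sub hs1
    have hsplit : (∑' i, f i) = (∑' i, if i ∈ D then f i else 0) + ∑' i, if i ∈ D then (0 : ℝ) else f i := by
      rw [← hs1.tsum_add hs2]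
      congr 1
      funext i
      split_ifs <;> simp
    have hfinite : (∑' i, if i ∈ D then f i else 0) = ∑ i ∈ D, f i := by
      rw [tsum_eq_sum (s := D) (fun i hi => if_neg hi)]
      exact Finset.sum_congr rfl fun i hi => if_pos hi
    rw [hsplit, hfinite]
    ring
  have h2 : Filter.Tendsto (fun D : Finset ι => ∑' i, if i ∈ D then (0 : ℝ) else f i)
      Filter.atTop (nhds 0) := by
    simp_rw [htail]
    have := (tendsto_const_nhds (x := ∑' i, f i)).sub hfsum
    rwa [sub_self] at this
  have h3 : Filter.Tendsto (fun D : Finset ι =>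
      ((∑' i, if i ∈ D then (0 : ℝ) else f i) / ((D \ hfin.toFinset).card : ℝ)) *
        ∑ i ∈ D \ hfin.toFinset, ((h' i : ℝ) / (h i : ℝ))) Filter.atTop (nhds 0) := by
    apply squeeze_zero_norm _ (tendsto_norm_zero.comp h2)
    intro D
    simp only [Function.comp_apply]
    set T : ℝ := ∑' i, if i ∈ D then (0 : ℝ) else f i
    set c : ℕ := (D \ hfin.toFinset).card with hc
    set S : ℝ := ∑ i ∈ D \ hfin.toFinset, ((h' i : ℝ) / (h i : ℝ)) with hS
    have hS0 : 0 ≤ S := Finset.sum_nonneg fun i _ => div_nonneg (Nat.cast_nonneg _) (Nat.cast_nonneg _)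
    have hSc : S ≤ c := by
      have : ∀ i ∈ D \ hfin.toFinset, ((h' i : ℝ) / (h i : ℝ)) ≤ 1 := by
        intro i _
        apply div_le_one_of_le₀ _ (Nat.cast_nonneg _)
        exact_mod_cast hle i
      calc S ≤ ∑ i ∈ D \ hfin.toFinset, (1 : ℝ) := Finset.sum_le_sum this
        _ = c := by simp [hc]
    rw [norm_mul, norm_div, Real.norm_eq_abs, Real.norm_eq_abs, Real.norm_eq_abs, abs_of_nonneg hS0,
      Nat.abs_cast]
    by_cases hc0 : c = 0
    · have : S = 0 := le_antisymm (by rw [hc0] at hSc; exact_mod_cast hSc) hS0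
      rw [this, mul_zero]
      exact abs_nonneg _
    · have hcpos : (0 : ℝ) < c := by exact_mod_cast Nat.pos_of_ne_zero hc0
      calc |T| / c * S ≤ |T| / c * c :=
            mul_le_mul_of_nonneg_left hSc (div_nonneg (abs_nonneg _) hcpos.le)
        _ = |T| := div_mul_cancel₀ _ hcpos.ne'
  have := h1.add h3
  rw [add_zero] at this
  exact this

end Groth.Agent.S16017
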