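import Groth.Statements.S16030
-- import your own Groth.Agent.* helpers here

set_option autoImplicit false
universe u
open CAlg

namespace Groth.Agent.S16030

/-- For a finite set F of points of the spectrum of a commutative ring A and an open subset U containing
F, some basic open D(a) contains F and is contained in U. -/
theorem result
    (A : Type u) [CommRing A] (F : Set (PrimeSpectrum A)) (hF : F.Finite)
    (U : TopologicalSpace.Opens (PrimeSpectrum A)) (hFU : F ⊆ (U : Set (PrimeSpectrum A))) :
    ∃ a : A, F ⊆ (PrimeSpectrum.basicOpen a : Set (PrimeSpectrum A)) ∧ PrimeSpectrum.basicOpen a ≤ U := by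
  classical
  rcases F.eq_empty_or_nonempty with hFe | ⟨p0, hp0⟩
  · subst hFe
    refine ⟨0, Set.empty_subset _, ?_⟩
    simp
  -- complement of U is the zero locus of an ideal I
  obtain ⟨I, hI⟩ : ∃ I : Ideal A, ((U : Set (PrimeSpectrum A)))ᶜ = PrimeSpectrum.zeroLocus (I : Set A) := by
    have hc : IsClosed ((U : Set (PrimeSpectrum A)))ᶜ := U.isOpen.isClosed_compl
    obtain ⟨I, hI⟩ := (PrimeSpectrum.isClosed_iff_zeroLocus_ideal _).mp hc
    exact ⟨I, hI⟩
  -- prime avoidance
  have hnot : ¬ ((I : Set A) ⊆ ⋃ p ∈ hF.toFinset, ((p : PrimeSpectrum A).asIdeal : Set A)) := by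
    intro hsub
    have := (Ideal.subset_union_prime (R := A) (s := hF.toFinset)
      (f := fun p : PrimeSpectrum A => p.asIdeal) (I := I)
      p0 p0
      (fun p _ _ _ => p.isPrime)).mp hsub
    obtain ⟨p, hp, hIp⟩ := this
    have hpF : p ∈ F := by simpa using hp
    have hpU : p ∈ (U : Set (PrimeSpectrum A)) := hFU hpF
    have : p ∈ ((U : Set (PrimeSpectrum A)))ᶜ := by
      rw [hI]; exact hIp
    exact this hpU
  rw [Set.not_subset] at hnot
  obtain ⟨a, haI, ha⟩ := hnot
  refine ⟨a, ?_, ?_⟩
  · intro p hp
    simp only [Set.mem_iUnion, not_exists] at ha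
    have := ha p (by simpa using hp)
    exact this
  · intro p hp
    by_contra hpU
    have : p ∈ PrimeSpectrum.zeroLocus (I : Set A) := by rw [← hI]; exact hpU
    exact hp (this haI)

end Groth.Agent.S16030
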