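import Groth.Statements.S16044
import Mathlib

set_option autoImplicit false
universe u
open CategoryTheory CategoryTheory.Limits AlgebraicGeometry
open GrpSch

namespace Groth.Agent.S16044

section Helpers

open AlgebraicGeometry CategoryTheory Limits TopologicalSpace

lemma ker_eq_bot_of_appTop_injective {P Q : Scheme.{u}} (h : P ⟶ Q) [IsAffine Q] [QuasiCompact h]
    (hinj : Function.Injective h.appTop) : h.ker = ⊥ := by
  apply Scheme.IdealSheafData.ext_of_isAffine
  rw [Scheme.Hom.ker_apply, Scheme.IdealSheafData.ideal_bot]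
  exact (RingHom.injective_iff_ker_eq_bot _).mp hinj

section Square

variable {X Y S K : Scheme.{u}} (f : X ⟶ S) (g : Y ⟶ S) (c : X ⟶ Y) (hc : c ≫ g = f) (σ : K ⟶ S)

/-- the base change of `c` to the fibre. -/
noncomputable abbrev cs : pullback f σ ⟶ pullback g σ :=
  pullback.map f σ g σ c (𝟙 _) (𝟙 _) ((Category.comp_id f).trans hc.symm)
    ((Category.comp_id _).trans (Category.id_comp _).symm)

lemma cs_fst : cs f g c hc σ ≫ pullback.fst g σ = pullback.fst f σ ≫ c :=
  pullback.lift_fst _ _ _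

lemma cs_snd : cs f g c hc σ ≫ pullback.snd g σ = pullback.snd f σ :=
  (pullback.lift_snd _ _ _).trans (Category.comp_id _)

lemma isPullback_cs : IsPullback (pullback.fst f σ) (cs f g c hc σ) c (pullback.fst g σ) := by
  have t : IsPullback (cs f g c hc σ ≫ pullback.snd g σ) (pullback.fst f σ) σ (c ≫ g) := by
    rw [cs_snd, hc]
    exact (IsPullback.of_hasPullback f σ).flip
  exact (IsPullback.of_right t (cs_fst f g c hc σ) (IsPullback.of_hasPullback g σ).flip).flip

lemma ker_cs_of_flat [Flat σ] [IsSchemeTheoreticallyDominant c] [QuasiCompact c] :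
    (cs f g c hc σ).ker = ⊥ := by
  have := IsSchemeTheoreticallyDominant.of_isPullback (isPullback_cs f g c hc σ)
  exact (cs f g c hc σ).ker_eq_bot

end Square


/-- kernel of a pushout leg along a surjection with principal kernel. -/
lemma po_ker {R R' κ P : CommRingCat.{u}} (φ : R ⟶ R') (ψ : R ⟶ κ) (φ' : R' ⟶ P) (ψ' : κ ⟶ P)
    (h : IsPushout φ ψ φ' ψ') (hψ : Function.Surjective ψ) (π' : R)
    (hker : ∀ a, ψ a = 0 → ∃ a', a = π' * a') (x : R') (hx : φ' x = 0) :
    ∃ r, x = φ π' * r := by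
  let q : R' →+* R' ⧸ Ideal.span {φ.hom π'} := Ideal.Quotient.mk _
  have hle : RingHom.ker ψ.hom ≤ RingHom.ker (q.comp φ.hom) := by
    intro a ha
    obtain ⟨a', rfl⟩ := hker a ha
    rw [RingHom.mem_ker, RingHom.comp_apply, map_mul, map_mul]
    have : q (φ.hom π') = 0 := Ideal.Quotient.eq_zero_iff_mem.mpr (Ideal.subset_span rfl)
    rw [this, zero_mul]
  let l : κ →+* R' ⧸ Ideal.span {φ.hom π'} := RingHom.liftOfSurjective ψ.hom hψ ⟨q.comp φ.hom, hle⟩
  have hl : l.comp ψ.hom = q.comp φ.hom := RingHom.liftOfSurjective_comp _ hψ _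
  have hw : φ ≫ CommRingCat.ofHom q = ψ ≫ CommRingCat.ofHom l := by
    ext a
    exact congr($hl a).symm
  have hd : φ' ≫ h.desc (CommRingCat.ofHom q) (CommRingCat.ofHom l) hw = CommRingCat.ofHom q :=
    h.inl_desc _ _ _
  have hqx : q x = 0 := by
    have := congr($hd x)
    rw [CommRingCat.comp_apply, hx, map_zero] at this
    exact this.symm
  have hmem : x ∈ Ideal.span {φ.hom π'} := Ideal.Quotient.eq_zero_iff_mem.mp hqx
  obtain ⟨r, hr⟩ := Ideal.mem_span_singleton'.mp hmem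
  exact ⟨r, by rw [← hr, mul_comm]⟩

section TF

variable {X S : Scheme.{u}} [IsAffine S] (f : X ⟶ S) [Flat f] (π' : Γ(S, ⊤)) (hreg : IsRegular π')

include hreg in
/-- torsion-freeness of sections of a flat scheme. -/
lemma tf (W : X.Opens) (t : Γ(X, W))
    (h : X.presheaf.map (homOfLE (le_top : W ≤ ⊤)).op (f.appTop π') * t = 0) : t = 0 := by
  have hb : ∀ x : W, ∃ U : X.Opens, IsAffineOpen U ∧ x.1 ∈ U ∧ U ≤ W := by
    intro x
    obtain ⟨U, hU, hxU, hUW⟩ := exists_isAffineOpen_mem_and_subset (x := x.1) (U := W) x.2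
    exact ⟨U, hU, hxU, hUW⟩
  choose U hU hxU hUW using hb
  refine X.sheaf.eq_of_locally_eq' U W (fun x => homOfLE (hUW x))
    (fun x hx => Opens.mem_iSup.mpr ⟨⟨x, hx⟩, hxU ⟨x, hx⟩⟩) t 0 ?_
  intro x
  rw [map_zero]
  have hflat : (f.appLE ⊤ (U x) le_top).hom.Flat := f.flat_appLE (isAffineOpen_top S) (hU x) _
  letI := (f.appLE ⊤ (U x) le_top).hom.toAlgebra
  have hflat' : Module.Flat Γ(S, ⊤) Γ(X, U x) := hflat
  have hsm : IsSMulRegular Γ(X, U x) π' := Module.Flat.isSMulRegular_of_isRegular hreg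
  apply hsm
  change (f.appLE ⊤ (U x) le_top).hom π' * _ = (f.appLE ⊤ (U x) le_top).hom π' * 0
  rw [mul_zero]
  have h2 := congr(X.presheaf.map (homOfLE (hUW x)).op $h)
  rw [map_mul, map_zero] at h2
  have key : (f.appLE ⊤ (U x) le_top).hom π' = X.presheaf.map (homOfLE (hUW x)).op
      (X.presheaf.map (homOfLE (le_top : W ≤ ⊤)).op (f.appTop π')) := by
    rw [← CommRingCat.comp_apply, ← Functor.map_comp]
    rfl
  rw [key]
  exact h2

end TF


lemma res_res {X : Scheme.{u}} {W W' : X.Opens} (i : W ⟶ W') (a : Γ(X, ⊤)) :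
    X.presheaf.map i.op (X.presheaf.map (homOfLE (le_top : W' ≤ ⊤)).op a) =
      X.presheaf.map (homOfLE (le_top : W ≤ ⊤)).op a := by
  rw [← CommRingCat.comp_apply, ← Functor.map_comp]
  rfl

section Closed

variable {X S K : Scheme.{u}} [IsAffine S] [IsAffine K] (f : X ⟶ S) [Flat f] (σ : K ⟶ S)
  (π' : Γ(S, ⊤)) (hreg : IsRegular π')
  (hσ : Function.Surjective σ.appTop)
  (hker : ∀ a, σ.appTop a = 0 → ∃ a', a = π' * a')

include hσ hker in
lemma step_i (U : X.Opens) (hU : IsAffineOpen U) (b : Γ(X, ⊤))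
    (hb : (pullback.fst f σ).appTop b = 0) :
    ∃ r : Γ(U.toScheme, ⊤), U.ι.appTop b = U.ι.appTop (f.appTop π') * r := by
  haveI : IsAffine U.toScheme := hU
  have H : IsPullback (pullback.fst f σ ∣_ U) ((pullback.fst f σ ⁻¹ᵁ U).ι ≫ pullback.snd f σ)
      (U.ι ≫ f) σ :=
    ((isPullback_morphismRestrict (pullback.fst f σ) U).flip.paste_horiz
      (IsPullback.of_hasPullback f σ).flip).flip
  have hpo := isPushout_appTop_of_isPullback H
  have hx : (pullback.fst f σ ∣_ U).appTop (U.ι.appTop b) = 0 := by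
    rw [← CommRingCat.comp_apply, ← Scheme.Hom.comp_appTop, morphismRestrict_ι,
      Scheme.Hom.comp_appTop, CommRingCat.comp_apply, hb, map_zero]
  obtain ⟨r, hr⟩ := po_ker _ _ _ _ hpo hσ π' hker _ hx
  exact ⟨r, hr⟩

include hreg hσ hker in
lemma star (b : Γ(X, ⊤)) (hb : (pullback.fst f σ).appTop b = 0) :
    ∃ r : Γ(X, ⊤), b = f.appTop π' * r := by
  have h1 : ∀ U : X.affineOpens, ∃ r : Γ(X, U.1.ι ''ᵁ ⊤),
      X.presheaf.map (homOfLE (le_top : U.1.ι ''ᵁ ⊤ ≤ ⊤)).op b =
        X.presheaf.map (homOfLE (le_top : U.1.ι ''ᵁ ⊤ ≤ ⊤)).op (f.appTop π') * r :=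
    fun U => step_i f σ π' hσ hker U.1 U.2 b hb
  choose rU hrU using h1
  have hcover : (⊤ : X.Opens) ≤ ⨆ U : X.affineOpens, U.1.ι ''ᵁ ⊤ := by
    intro x _
    obtain ⟨U, hU, hxU, -⟩ := exists_isAffineOpen_mem_and_subset (x := x) (U := ⊤) trivial
    refine Opens.mem_iSup.mpr ⟨⟨U, hU⟩, ?_⟩
    rw [Scheme.Opens.ι_image_top]
    exact hxU
  have compat : TopCat.Presheaf.IsCompatible X.presheaf
      (fun U : X.affineOpens => U.1.ι ''ᵁ ⊤) rU := by
    intro U U'
    change X.presheaf.map (Opens.infLELeft (U.1.ι ''ᵁ ⊤) (U'.1.ι ''ᵁ ⊤)).op (rU U) =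
      X.presheaf.map (Opens.infLERight (U.1.ι ''ᵁ ⊤) (U'.1.ι ''ᵁ ⊤)).op (rU U')
    have e1 : X.presheaf.map (homOfLE (le_top : U.1.ι ''ᵁ ⊤ ⊓ U'.1.ι ''ᵁ ⊤ ≤ ⊤)).op (f.appTop π') *
        X.presheaf.map (Opens.infLELeft (U.1.ι ''ᵁ ⊤) (U'.1.ι ''ᵁ ⊤)).op (rU U) =
        X.presheaf.map (homOfLE (le_top : U.1.ι ''ᵁ ⊤ ⊓ U'.1.ι ''ᵁ ⊤ ≤ ⊤)).op b := by
      rw [← res_res (Opens.infLELeft (U.1.ι ''ᵁ ⊤) (U'.1.ι ''ᵁ ⊤)) (f.appTop π'),
        ← res_res (Opens.infLELeft (U.1.ι ''ᵁ ⊤) (U'.1.ι ''ᵁ ⊤)) b, hrU U, map_mul]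
    have e2 : X.presheaf.map (homOfLE (le_top : U.1.ι ''ᵁ ⊤ ⊓ U'.1.ι ''ᵁ ⊤ ≤ ⊤)).op (f.appTop π') *
        X.presheaf.map (Opens.infLERight (U.1.ι ''ᵁ ⊤) (U'.1.ι ''ᵁ ⊤)).op (rU U') =
        X.presheaf.map (homOfLE (le_top : U.1.ι ''ᵁ ⊤ ⊓ U'.1.ι ''ᵁ ⊤ ≤ ⊤)).op b := by
      rw [← res_res (Opens.infLERight (U.1.ι ''ᵁ ⊤) (U'.1.ι ''ᵁ ⊤)) (f.appTop π'),
        ← res_res (Opens.infLERight (U.1.ι ''ᵁ ⊤) (U'.1.ι ''ᵁ ⊤)) b, hrU U', map_mul]
    have e3 := e1.trans e2.symm
    rw [← sub_eq_zero, ← mul_sub] at e3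
    have e4 := tf f π' hreg _ _ e3
    exact sub_eq_zero.mp e4
  obtain ⟨r, hr'⟩ : ∃ r : Γ(X, ⊤), ∀ U : X.affineOpens,
      X.presheaf.map (homOfLE (le_top : U.1.ι ''ᵁ ⊤ ≤ ⊤)).op r = rU U := by
    obtain ⟨r, hr, -⟩ := X.sheaf.existsUnique_gluing' (fun U : X.affineOpens => U.1.ι ''ᵁ ⊤) ⊤
      (fun U => homOfLE le_top) hcover rU compat
    exact ⟨r, hr⟩
  refine ⟨r, ?_⟩
  obtain ⟨t, ht⟩ : ∃ t : Γ(X, ⊤), t = f.appTop π' * r := ⟨_, rfl⟩
  rw [← ht]
  refine X.sheaf.eq_of_locally_eq' (fun U : X.affineOpens => U.1.ι ''ᵁ ⊤) ⊤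
    (fun U => homOfLE le_top) hcover b t ?_
  intro U
  change X.presheaf.map (homOfLE (le_top : U.1.ι ''ᵁ ⊤ ≤ ⊤)).op b =
    X.presheaf.map (homOfLE (le_top : U.1.ι ''ᵁ ⊤ ≤ ⊤)).op t
  rw [ht, map_mul, hr' U]
  exact hrU U

end Closed

section ClosedFibre

variable {X Y S K : Scheme.{u}} [IsAffine Y] [IsAffine S] [IsAffine K] (f : X ⟶ S) [Flat f]
  [CompactSpace X]
  (g : Y ⟶ S) (c : X ⟶ Y) (hc : c ≫ g = f) (σ : K ⟶ S) [IsClosedImmersion σ]
  (hcbij : Function.Bijective c.appTop)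
  (π' : Γ(S, ⊤)) (hreg : IsRegular π') (hσπ : σ.appTop π' = 0)
  (hker : ∀ a, σ.appTop a = 0 → ∃ a', a = π' * a')

include hcbij hreg hσπ hker in
lemma ker_cs_closed : (cs f g c hc σ).ker = ⊥ := by
  have hσ : Function.Surjective σ.appTop := (IsClosedImmersion.isAffine_surjective_of_isAffine σ).2
  haveI : IsClosedImmersion (pullback.fst g σ) := inferInstance
  haveI : IsAffine (pullback g σ) := inferInstance
  have hprY : Function.Surjective (pullback.fst g σ).appTop :=
    (IsClosedImmersion.isAffine_surjective_of_isAffine _).2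
  haveI : CompactSpace ↥(pullback f σ) :=
    QuasiCompact.compactSpace_of_compactSpace (pullback.fst f σ)
  haveI : QuasiCompact (cs f g c hc σ) := quasiCompact_of_compactSpace _
  apply ker_eq_bot_of_appTop_injective
  rw [injective_iff_map_eq_zero]
  intro t ht
  obtain ⟨b', rfl⟩ := hprY t
  have h1 : (pullback.fst f σ).appTop (c.appTop b') = 0 := by
    have := congr(($(cs_fst f g c hc σ)).appTop b')
    rw [Scheme.Hom.comp_appTop, Scheme.Hom.comp_appTop, CommRingCat.comp_apply,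
      CommRingCat.comp_apply, ht] at this
    exact this.symm
  obtain ⟨r, hr⟩ := star f σ π' hreg hσ hker _ h1
  obtain ⟨r', rfl⟩ := hcbij.2 r
  have hfg : f.appTop π' = c.appTop (g.appTop π') := by
    subst hc
    rw [Scheme.Hom.comp_appTop]
    rfl
  rw [hfg, ← map_mul] at hr
  have hb := hcbij.1 hr
  rw [hb, map_mul]
  have h2 : (pullback.fst g σ).appTop (g.appTop π') = 0 := by
    have := congr(($(pullback.condition (f := g) (g := σ))).appTop π')
    rw [Scheme.Hom.comp_appTop, Scheme.Hom.comp_appTop, CommRingCat.comp_apply,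
      CommRingCat.comp_apply, hσπ, map_zero] at this
    exact this
  rw [h2, zero_mul]

end ClosedFibre

section Concrete

lemma appTop_eq_zero_iff (R : CommRingCat.{u}) (x : ↥(Spec R)) (a : Γ(Spec R, ⊤)) :
    ((Spec R).fromSpecResidueField x).appTop a = 0 ↔ (Scheme.ΓSpecIso R).hom a ∈ x.asIdeal := by
  haveI : x.asIdeal.IsPrime := PrimeSpectrum.isPrime x
  rw [← Scheme.Spec.map_residueFieldIso_inv_eq_fromSpecResidueField, Scheme.Hom.comp_appTop,
    CommRingCat.comp_apply]
  haveI : IsIso (Spec.map (Scheme.Spec.residueFieldIso R x).inv).appTop :=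
    inferInstanceAs (IsIso ((Spec.map (Scheme.Spec.residueFieldIso R x).inv).app ⊤))
  have hinj : Function.Injective (Spec.map (Scheme.Spec.residueFieldIso R x).inv).appTop :=
    ((ConcreteCategory.isIso_iff_bijective _).mp inferInstance).1
  rw [map_eq_zero_iff _ hinj]
  have hinj2 : Function.Injective (Scheme.ΓSpecIso (.of x.asIdeal.ResidueField)).hom :=
    ((ConcreteCategory.isIso_iff_bijective _).mp inferInstance).1
  rw [← map_eq_zero_iff _ hinj2, ← CommRingCat.comp_apply, Scheme.ΓSpecIso_naturality,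
    CommRingCat.comp_apply]
  exact Ideal.algebraMap_residueField_eq_zero

lemma flat_sigma (A : Type u) [CommRing A] [IsDomain A] [IsDiscreteValuationRing A]
    (s : ↥(Spec (CommRingCat.of A))) (hs : s.asIdeal = ⊥) :
    Flat ((Spec (CommRingCat.of A)).fromSpecResidueField s) := by
  haveI : s.asIdeal.IsPrime := PrimeSpectrum.isPrime s
  rw [← Scheme.Spec.map_residueFieldIso_inv_eq_fromSpecResidueField]
  haveI : Flat (Spec.map (CommRingCat.ofHom (algebraMap A s.asIdeal.ResidueField))) := by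
    rw [Flat.SpecMap_iff]
    change (algebraMap A s.asIdeal.ResidueField).Flat
    rw [RingHom.flat_algebraMap_iff]
    haveI : Module.IsTorsionFree A s.asIdeal.ResidueField := by
      rw [Module.isTorsionFree_iff_algebraMap_injective, injective_iff_map_eq_zero]
      intro a ha
      rw [Ideal.algebraMap_residueField_eq_zero, hs] at ha
      exact ha
    infer_instance
  infer_instance

lemma closed_sigma (A : Type u) [CommRing A]
    (s : ↥(Spec (CommRingCat.of A))) (hs : s.asIdeal.IsMaximal) :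
    IsClosedImmersion ((Spec (CommRingCat.of A)).fromSpecResidueField s) := by
  haveI : s.asIdeal.IsPrime := PrimeSpectrum.isPrime s
  rw [← Scheme.Spec.map_residueFieldIso_inv_eq_fromSpecResidueField]
  haveI : IsClosedImmersion (Spec.map (CommRingCat.ofHom (algebraMap A s.asIdeal.ResidueField))) :=
    IsClosedImmersion.spec_of_surjective _ (Ideal.algebraMap_residueField_surjective _)
  infer_instance

theorem main16044 (A : Type u) [CommRing A] [IsDomain A] [IsDiscreteValuationRing A]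
    (X : Scheme.{u}) (f : X ⟶ Spec (CommRingCat.of A)) [Flat f] [QuasiCompact f] [QuasiSeparated f]
    (g : Spec Γ(X, ⊤) ⟶ Spec (CommRingCat.of A)) (hg : X.toSpecΓ ≫ g = f)
    (s : ↥(Spec (CommRingCat.of A))) :
    (cs f g X.toSpecΓ hg ((Spec (CommRingCat.of A)).fromSpecResidueField s)).ker = ⊥ := by
  haveI : CompactSpace ↥X := QuasiCompact.compactSpace_of_compactSpace f
  have hcbij : Function.Bijective X.toSpecΓ.appTop := by
    rw [Scheme.toSpecΓ_appTop]
    exact (ConcreteCategory.isIso_iff_bijective _).mp inferInstance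
  haveI : s.asIdeal.IsPrime := PrimeSpectrum.isPrime s
  by_cases hs : s.asIdeal = ⊥
  · haveI := flat_sigma A s hs
    haveI : IsSchemeTheoreticallyDominant X.toSpecΓ :=
      ⟨ker_eq_bot_of_appTop_injective _ hcbij.1⟩
    exact ker_cs_of_flat f g _ hg _
  · have hmax : s.asIdeal.IsMaximal := Ideal.IsPrime.isMaximal inferInstance hs
    have hsm : s.asIdeal = IsLocalRing.maximalIdeal A := IsLocalRing.eq_maximalIdeal hmax
    haveI := closed_sigma A s hmax
    obtain ⟨π, hπ⟩ := IsDiscreteValuationRing.exists_irreducible A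
    have hspan : IsLocalRing.maximalIdeal A = Ideal.span {π} := hπ.maximalIdeal_eq
    have hinj : Function.Injective (Scheme.ΓSpecIso (CommRingCat.of A)).hom :=
      ((ConcreteCategory.isIso_iff_bijective (Scheme.ΓSpecIso (CommRingCat.of A)).hom).mp
        inferInstance).1
    have hsurj : Function.Surjective (Scheme.ΓSpecIso (CommRingCat.of A)).hom :=
      ((ConcreteCategory.isIso_iff_bijective (Scheme.ΓSpecIso (CommRingCat.of A)).hom).mp
        inferInstance).2
    obtain ⟨π', hπ'⟩ : ∃ π' : Γ(Spec (CommRingCat.of A), ⊤),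
        (Scheme.ΓSpecIso (CommRingCat.of A)).hom π' = π := hsurj π
    have hreg : IsRegular π' := by
      have hl : IsLeftRegular π' := by
        intro x y hxy
        have h2 := congr((Scheme.ΓSpecIso (CommRingCat.of A)).hom $hxy)
        simp only [map_mul, hπ'] at h2
        exact hinj (mul_left_cancel₀ hπ.ne_zero h2)
      exact isLeftRegular_iff_isRegular.mp hl
    refine ker_cs_closed f g _ hg _ hcbij π' hreg ?_ ?_
    · rw [appTop_eq_zero_iff, hπ', hsm, hspan]
      exact Ideal.subset_span rfl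
    · intro a ha
      rw [appTop_eq_zero_iff, hsm, hspan, Ideal.mem_span_singleton'] at ha
      obtain ⟨a'', ha''⟩ := ha
      obtain ⟨a', rfl⟩ := hsurj a''
      refine ⟨a', hinj ?_⟩
      rw [map_mul, hπ', ← ha'', mul_comm]

end Concrete

end Helpers


/-- Let S be the spectrum of a discrete valuation ring and X a quasi-compact quasi-separated flat
S-scheme, with canonical morphism c : X ⟶ Spec Γ(X, O_X) over S. Then on each fibre over a point of
S the base change of c is schematically dominant (its kernel ideal sheaf vanishes). -/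
theorem result
    (A : Type u) [CommRing A] [IsDomain A] [IsDiscreteValuationRing A]
    (X : Scheme.{u}) (f : X ⟶ Spec (CommRingCat.of A)) [Flat f] [QuasiCompact f] [QuasiSeparated f]
    (g : Spec Γ(X, ⊤) ⟶ Spec (CommRingCat.of A)) (hg : X.toSpecΓ ≫ g = f) (s : ↥(Spec (CommRingCat.of A))) :
    (pullback.map f ((Spec (CommRingCat.of A)).fromSpecResidueField s) g ((Spec (CommRingCat.of A)).fromSpecResidueField s)
        X.toSpecΓ (𝟙 _) (𝟙 _) ((Category.comp_id f).trans hg.symm)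
        ((Category.comp_id _).trans (Category.id_comp _).symm)).ker = ⊥ := by
  exact main16044 A X f g hg s

end Groth.Agent.S16044
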