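import Groth.Statements.S1607
import Mathlib

set_option autoImplicit false
universe u
open CategoryTheory CategoryTheory.Limits AlgebraicGeometry
open Variety

namespace Groth.Agent.S1607

set_option linter.style.haveILetI false
open Limits

lemma enat_aux (a : ℕ∞) (h : a + 1 ≤ 1) : a = 0 := by
  have hne : a ≠ ⊤ := by
    rintro rfl
    simp at h
  exact Order.lt_one_iff.1 ((ENat.add_one_le_iff hne).1 h)

lemma not_mem_of_dvd {A : Type u} [CommRing A] (q : Ideal A) {x g : A} (hd : x ∣ g) (hg : g ∉ q) :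
    x ∉ q := by
  intro hx
  obtain ⟨c, rfl⟩ := hd
  exact hg (q.mul_mem_right c hx)

lemma key {A : Type u} [CommRing A] (p : Ideal A) [p.IsPrime]
    [IsNoetherianRing (Localization.AtPrime p)] (hdim : ringKrullDim (Localization.AtPrime p) ≤ 1)
    (s : Finset A) (hs : ∀ f ∈ s, f ∈ p) :
    ∃ g h' : A, g ∉ p ∧ ∀ q : Ideal A, q.IsPrime → g ∉ q → ((∃ f ∈ s, f ∉ q) ↔ h' ∉ q) := by
  classical
  set R := Localization.AtPrime p with hR
  set J : Ideal R := Ideal.map (algebraMap A R) (Ideal.span (s : Set A)) with hJ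
  have hJm : J ≤ IsLocalRing.maximalIdeal R := by
    rw [hJ, Ideal.map_le_iff_le_comap, Ideal.span_le]
    intro f hf
    exact (IsLocalization.AtPrime.to_map_mem_maximal_iff R p f).2 (hs f hf)
  have hmh : (IsLocalRing.maximalIdeal R).height ≤ 1 := by
    have := (Ideal.height_le_ringKrullDim_of_isPrime (I := IsLocalRing.maximalIdeal R)).trans hdim
    exact_mod_cast this
  have hmin : ∀ Q : Ideal R, Q.IsPrime → Q ≠ IsLocalRing.maximalIdeal R → Q ∈ minimalPrimes R := by
    intro Q hQ hne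
    have hlt : Q < IsLocalRing.maximalIdeal R :=
      lt_of_le_of_ne (IsLocalRing.le_maximalIdeal hQ.ne_top) hne
    have h2 := Ideal.height_add_one_le_of_lt_of_isPrime hlt
    have h3 : Q.height = 0 := enat_aux _ (h2.trans hmh)
    exact Ideal.height_eq_zero_iff.1 h3
  have hfin : (minimalPrimes R).Finite := minimalPrimes.finite_of_isNoetherianRing R
  set P₂ : Finset (Ideal R) := hfin.toFinset.filter (fun Q => ¬ J ≤ Q) with hP₂
  have hnot : ¬ ((J : Set R) ⊆ ⋃ Q ∈ (P₂ : Set (Ideal R)), (Q : Set R)) := by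
    intro hsub
    rw [Ideal.subset_union_prime (R := R) (s := P₂) (f := fun Q => Q) ⊥ ⊥
      (fun Q hQ _ _ => ((hfin.mem_toFinset.1 (Finset.mem_filter.1 hQ).1)).isPrime)] at hsub
    obtain ⟨Q, hQ, hle⟩ := hsub
    exact (Finset.mem_filter.1 hQ).2 hle
  rw [Set.not_subset] at hnot
  obtain ⟨h, hhJ, hhn⟩ := hnot
  have hV : ∀ Q : Ideal R, Q.IsPrime → h ∈ Q → J ≤ Q := by
    intro Q hQ hhQ
    by_cases hQm : Q = IsLocalRing.maximalIdeal R
    · rw [hQm]; exact hJm
    · have hQmin := hmin Q hQ hQm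
      by_contra hJQ
      apply hhn
      simp only [Set.mem_iUnion]
      exact ⟨Q, Finset.mem_coe.2 (Finset.mem_filter.2 ⟨hfin.mem_toFinset.2 hQmin, hJQ⟩), hhQ⟩
  obtain ⟨⟨h', t⟩, rfl⟩ := IsLocalization.mk'_surjective p.primeCompl h
  -- (a)
  obtain ⟨⟨i, t'⟩, hit⟩ := (IsLocalization.mem_map_algebraMap_iff p.primeCompl R).1 hhJ
  have e1 : algebraMap A R (h' * (t' : A)) = algebraMap A R ((i : A) * (t : A)) := by
    rw [map_mul, map_mul, ← hit, ← IsLocalization.mk'_spec R h' t]
    ring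
  obtain ⟨u, hu⟩ := (IsLocalization.eq_iff_exists p.primeCompl R).1 e1
  -- (b)
  have hb : ∀ f ∈ s, ∃ g : A, g ∉ p ∧ ∀ q : Ideal A, q.IsPrime → g ∉ q → h' ∈ q → f ∈ q := by
    intro f hf
    have hrad : algebraMap A R f ∈ (Ideal.span {IsLocalization.mk' R h' t}).radical := by
      rw [Ideal.radical_eq_sInf, Ideal.mem_sInf]
      rintro Q ⟨hle, hQ⟩
      have : IsLocalization.mk' R h' t ∈ Q := hle (Ideal.mem_span_singleton_self _)
      exact hV Q hQ this (Ideal.mem_map_of_mem _ (Ideal.subset_span hf))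
    obtain ⟨N, hN⟩ := hrad
    obtain ⟨r, hr⟩ := Ideal.mem_span_singleton'.1 hN
    obtain ⟨⟨r', t''⟩, rfl⟩ := IsLocalization.mk'_surjective p.primeCompl r
    have e2 : algebraMap A R (r' * h') = algebraMap A R (f ^ N * ((t'' : A) * (t : A))) := by
      rw [map_mul, map_mul, map_mul, map_pow, ← hr, ← IsLocalization.mk'_spec R r' t'',
        ← IsLocalization.mk'_spec R h' t]
      ring
    obtain ⟨v, hv⟩ := (IsLocalization.eq_iff_exists p.primeCompl R).1 e2
    refine ⟨(v : A) * ((t'' : A) * (t : A)), ?_, ?_⟩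
    · intro hmem
      rcases Ideal.IsPrime.mem_or_mem ‹p.IsPrime› hmem with h1 | h1
      · exact v.2 h1
      · rcases Ideal.IsPrime.mem_or_mem ‹p.IsPrime› h1 with h2 | h2
        · exact t''.2 h2
        · exact t.2 h2
    · intro q hq hg hh'
      have h4 : (v : A) * (f ^ N * ((t'' : A) * (t : A))) ∈ q := by
        rw [← hv]
        exact q.mul_mem_left _ (q.mul_mem_left _ hh')
      have h5 : f ^ N * ((v : A) * ((t'' : A) * (t : A))) ∈ q := by
        have : f ^ N * ((v : A) * ((t'' : A) * (t : A))) =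
            (v : A) * (f ^ N * ((t'' : A) * (t : A))) := by ring
        rw [this]; exact h4
      rcases hq.mem_or_mem h5 with h6 | h6
      · exact hq.mem_of_pow_mem N h6
      · exact absurd h6 hg
  choose! G hG1 hG2 using hb
  refine ⟨(u : A) * (t' : A) * ∏ f ∈ s, G f, h', ?_, ?_⟩
  · intro hmem
    rcases Ideal.IsPrime.mem_or_mem ‹p.IsPrime› hmem with h1 | h1
    · rcases Ideal.IsPrime.mem_or_mem ‹p.IsPrime› h1 with h2 | h2
      · exact u.2 h2
      · exact t'.2 h2
    · obtain ⟨f, hf, hGf⟩ := (Ideal.IsPrime.prod_mem_iff).1 h1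
      exact hG1 f hf hGf
  · intro q hq hg
    constructor
    · rintro ⟨f, hf, hfq⟩ hh'
      apply hfq
      refine hG2 f hf q hq ?_ hh'
      exact not_mem_of_dvd q (Dvd.dvd.mul_left (Finset.dvd_prod_of_mem G hf) _) hg
    · intro hh'
      by_contra hcon
      push Not at hcon
      apply hh'
      have hi : (i : A) ∈ q := by
        have : Ideal.span (s : Set A) ≤ q := Ideal.span_le.2 (fun f hf => hcon f hf)
        exact this i.2
      have h7 : (u : A) * (h' * (t' : A)) ∈ q := by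
        rw [hu]
        exact q.mul_mem_left _ (q.mul_mem_right _ hi)
      have hut : (u : A) * (t' : A) ∉ q :=
        not_mem_of_dvd q (Dvd.intro _ rfl) hg
      have h8 : h' * ((u : A) * (t' : A)) ∈ q := by
        have : h' * ((u : A) * (t' : A)) = (u : A) * (h' * (t' : A)) := by ring
        rw [this]; exact h7
      rcases hq.mem_or_mem h8 with h9 | h9
      · exact h9
      · exact absurd h9 hut

theorem spec_case (A : CommRingCat.{u})
    (hX : ∀ x : Spec A, IsNoetherianRing ((Spec A).presheaf.stalk x) ∧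
      ringKrullDim ((Spec A).presheaf.stalk x) ≤ 1)
    (U : (Spec A).Opens) (hU : IsCompact (U : Set (Spec A))) : IsAffineOpen U := by
  obtain ⟨s, hs⟩ := PrimeSpectrum.isCompact_isOpen_iff.1 ⟨hU, U.2⟩
  have hmemU : ∀ q : Spec A, q ∈ U ↔ ∃ f ∈ s, f ∉ q.asIdeal := by
    intro q
    have h0 : q ∈ U ↔ q ∈ (PrimeSpectrum.zeroLocus (s : Set A))ᶜ := by
      rw [hs]; rfl
    have h1 : q ∈ (PrimeSpectrum.zeroLocus (s : Set A))ᶜ ↔
        ¬ ((s : Set A) ⊆ (q.asIdeal : Set A)) := Iff.rfl
    rw [h0, h1, Set.not_subset]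
    constructor <;> rintro ⟨f, hf, hfq⟩ <;> exact ⟨f, hf, hfq⟩
  have hloc : ∀ x : Spec A, ∃ V : (Spec A).Opens, x ∈ V ∧ IsAffineOpen V ∧ IsAffineOpen (U ⊓ V) := by
    intro x
    by_cases hxU : x ∈ U
    · obtain ⟨f, hf, hfx⟩ := (hmemU x).1 hxU
      refine ⟨PrimeSpectrum.basicOpen f, hfx, IsAffineOpen.Spec_basicOpen f, ?_⟩
      have hle : (PrimeSpectrum.basicOpen f : (Spec A).Opens) ≤ U := by
        intro q hq
        exact (hmemU q).2 ⟨f, hf, hq⟩
      have hinf : U ⊓ (PrimeSpectrum.basicOpen f : (Spec A).Opens) =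
          (PrimeSpectrum.basicOpen f : (Spec A).Opens) := inf_eq_right.2 hle
      rw [hinf]
      exact IsAffineOpen.Spec_basicOpen f
    · have hsx : ∀ f ∈ s, f ∈ x.asIdeal := by
        intro f hf
        by_contra hfx
        exact hxU ((hmemU x).2 ⟨f, hf, hfx⟩)
      -- transfer stalk data to the localization
      haveI hxp : x.asIdeal.IsPrime := x.2
      let k : Algebra ↑A ↑((Spec A).presheaf.stalk x) := StructureSheaf.stalkAlgebra (↑A) x
      haveI : IsLocalization.AtPrime (↑((Spec A).presheaf.stalk x)) x.asIdeal :=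
        StructureSheaf.IsLocalization.to_stalk A x
      let e : ↑((Spec A).presheaf.stalk x) ≃ₐ[↑A] Localization.AtPrime x.asIdeal :=
        IsLocalization.algEquiv x.asIdeal.primeCompl _ _
      haveI : IsNoetherianRing ↑((Spec A).presheaf.stalk x) := (hX x).1
      haveI : IsNoetherianRing (Localization.AtPrime x.asIdeal) :=
        isNoetherianRing_of_ringEquiv _ e.toRingEquiv
      have hd : ringKrullDim (Localization.AtPrime x.asIdeal) ≤ 1 := by
        rw [← ringKrullDim_eq_of_ringEquiv e.toRingEquiv]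
        exact (hX x).2
      obtain ⟨g, h', hgx, hgh⟩ := key x.asIdeal hd s hsx
      refine ⟨PrimeSpectrum.basicOpen g, hgx, IsAffineOpen.Spec_basicOpen g, ?_⟩
      have heq : U ⊓ (PrimeSpectrum.basicOpen g : (Spec A).Opens) =
          (PrimeSpectrum.basicOpen (h' * g) : (Spec A).Opens) := by
        ext q
        constructor
        · rintro ⟨hqU, hqg⟩
          have h1 := (hgh q.asIdeal q.2 hqg).1 ((hmemU q).1 hqU)
          intro hmem
          rcases q.2.mem_or_mem hmem with h2 | h2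
          · exact h1 h2
          · exact hqg h2
        · intro hq
          have hqg : g ∉ q.asIdeal := fun h2 => hq (q.asIdeal.mul_mem_left _ h2)
          have hqh : h' ∉ q.asIdeal := fun h2 => hq (q.asIdeal.mul_mem_right _ h2)
          exact ⟨(hmemU q).2 ((hgh q.asIdeal q.2 hqg).2 hqh), hqg⟩
      rw [heq]
      exact IsAffineOpen.Spec_basicOpen (h' * g)
  haveI : IsAffineHom U.ι := by
    apply isAffineHom_of_forall_exists_isAffineOpen
    intro x
    obtain ⟨V, hxV, hV, hUV⟩ := hloc x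
    refine ⟨V, hxV, hV, ?_⟩
    apply U.ι.isAffineOpen_iff_of_isOpenImmersion.mp
    rw [Scheme.Hom.image_preimage_eq_opensRange_inf, Scheme.Opens.opensRange_ι]
    exact hUV
  exact isAffine_of_isAffineHom U.ι

theorem result' (X : Scheme.{u}) [IsAffine X]
    (hX : ∀ x : X, IsNoetherianRing (X.presheaf.stalk x) ∧ ringKrullDim (X.presheaf.stalk x) ≤ 1)
    (U : X.Opens) (hU : IsCompact (U : Set X)) : IsAffineOpen U := by
  set e := X.isoSpec with he
  have hX' : ∀ y : Spec Γ(X, ⊤), IsNoetherianRing ((Spec Γ(X, ⊤)).presheaf.stalk y) ∧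
      ringKrullDim ((Spec Γ(X, ⊤)).presheaf.stalk y) ≤ 1 := by
    intro y
    have hiso : IsIso (e.inv.stalkMap y) := inferInstance
    let r : X.presheaf.stalk (e.inv y) ≃+* (Spec Γ(X, ⊤)).presheaf.stalk y :=
      (asIso (e.inv.stalkMap y)).commRingCatIsoToRingEquiv
    haveI := (hX (e.inv y)).1
    refine ⟨isNoetherianRing_of_ringEquiv _ r, ?_⟩
    rw [← ringKrullDim_eq_of_ringEquiv r]
    exact (hX (e.inv y)).2
  have hU' : IsCompact ((e.inv ⁻¹ᵁ U : (Spec Γ(X, ⊤)).Opens) : Set (Spec Γ(X, ⊤))) :=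
    e.inv.homeomorph.isCompact_preimage.2 hU
  have h1 := spec_case Γ(X, ⊤) hX' (e.inv ⁻¹ᵁ U) hU'
  have h2 := h1.preimage_of_isIso e.hom
  have h3 : e.hom ⁻¹ᵁ (e.inv ⁻¹ᵁ U) = U := by
    ext x
    simp [← Scheme.Hom.comp_apply]
  rwa [h3] at h2

/-- If X is affine and each of its local rings is Noetherian of dimension at most one, then every
quasi-compact open subscheme of X is affine. -/
theorem result (X : Scheme.{u}) [IsAffine X]
    (hX : ∀ x : X, IsNoetherianRing (X.presheaf.stalk x) ∧ ringKrullDim (X.presheaf.stalk x) ≤ 1)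
    (U : X.Opens) (hU : IsCompact (U : Set X)) : IsAffineOpen U := by
  exact result' X hX U hU

end Groth.Agent.S1607
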