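import Groth.Statements.S16071
import Mathlib
import Groth.Agent.Lib.helper24.AlphaPDual

set_option autoImplicit false
universe u
open CartDual

namespace Groth.Agent.S16071

open scoped TensorProduct
open Groth.Agent.Lib.helper24.AlphaPDual
section
variable (p : ℕ) [Fact p.Prime] (R : Type u) [CommRing R] [CharP R p]

noncomputable def phiAlg : AlphaP.A p R →ₐ[R] D R (AlphaP.A p R) :=
  AlphaP.lift p R (xi p R) (xi_pow_p p R)

lemma phiAlg_x : phiAlg p R (AlphaP.x p R) = xi p R := AlphaP.lift_x _ _

lemma phiAlg_x_pow_apply (n m : ℕ) :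
    (phiAlg p R (AlphaP.x p R ^ n)) (AlphaP.x p R ^ m) = if m = n then (n.factorial : R) else 0 := by
  have h : phiAlg p R (AlphaP.x p R ^ n) = xi p R ^ n := by rw [map_pow, phiAlg_x]
  rw [h, xi_pow_apply_x_pow]

lemma xi_primitive : Coalgebra.comul (R := R) (xi p R) = xi p R ⊗ₜ[R] 1 + 1 ⊗ₜ[R] xi p R := by
  have := nontrivial_of_charP p R
  apply (ev₂ R (AlphaP.A p R)).injective
  apply (Module.Basis.tensorProduct (AlphaP.basis p R) (AlphaP.basis p R)).ext
  rintro ⟨i, j⟩
  rw [Module.Basis.tensorProduct_apply, AlphaP.basis_apply, AlphaP.basis_apply,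
    ev₂_coalgebra_comul_tmul, map_add, LinearMap.add_apply, ev₂_tmul, ev₂_tmul, ← pow_add,
    xi_apply_x_pow, xi_apply_x_pow, xi_apply_x_pow, one_apply, one_apply, Bialgebra.counit_pow,
    Bialgebra.counit_pow, AlphaP.counit_x]
  rcases i with ⟨i, hi⟩
  rcases j with ⟨j, hj⟩
  simp only
  rcases i with _ | _ | i <;> rcases j with _ | _ | j <;> simp <;> omega

noncomputable def phiBialg : AlphaP.A p R →ₐc[R] D R (AlphaP.A p R) :=
  BialgHom.ofAlgHom (phiAlg p R)
    (by
      apply AlphaP.algHom_ext
      show Coalgebra.counit (R := R) (phiAlg p R (AlphaP.x p R)) = Coalgebra.counit (R := R) (AlphaP.x p R)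
      rw [phiAlg_x, AlphaP.counit_x, coalgebra_counit_apply, xi_apply_one])
    (by
      apply AlphaP.algHom_ext
      show Algebra.TensorProduct.map (phiAlg p R) (phiAlg p R) (Coalgebra.comul (R := R) (AlphaP.x p R))
        = Coalgebra.comul (R := R) (phiAlg p R (AlphaP.x p R))
      rw [phiAlg_x, xi_primitive, AlphaP.comul_x, map_add, Algebra.TensorProduct.map_tmul,
        Algebra.TensorProduct.map_tmul, phiAlg_x, map_one])

lemma phi_sum_apply (c : Fin p → R) (j : Fin p) :
    (phiAlg p R (∑ i : Fin p, c i • AlphaP.x p R ^ (i : ℕ))) (AlphaP.x p R ^ (j : ℕ)) =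
      c j * ((j : ℕ).factorial : R) := by
  rw [map_sum, sum_apply, Finset.sum_eq_single j]
  · rw [map_smul, smul_apply, phiAlg_x_pow_apply, if_pos rfl]
  · intro i _ hij
    rw [map_smul, smul_apply, phiAlg_x_pow_apply, if_neg, mul_zero]
    intro h
    exact hij (Fin.ext h.symm)
  · intro h; exact absurd (Finset.mem_univ j) h

lemma phi_injective : Function.Injective (phiBialg p R) := by
  have := nontrivial_of_charP p R
  rw [injective_iff_map_eq_zero]
  intro a ha
  have ha' : phiAlg p R a = 0 := ha
  rw [← (AlphaP.basis p R).sum_repr a] at ha' ⊢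
  simp only [AlphaP.basis_apply] at ha' ⊢
  apply Finset.sum_eq_zero
  intro j _
  have h1 := phi_sum_apply p R (fun i => (AlphaP.basis p R).repr a i) j
  rw [ha', zero_apply] at h1
  have h2 := (isUnit_factorial p R j.2).mul_left_eq_zero.mp h1.symm
  rw [h2, zero_smul]

lemma phi_surjective : Function.Surjective (phiBialg p R) := by
  intro y
  choose u hu using fun j : Fin p => (isUnit_factorial p R j.2).exists_left_inv
  refine ⟨∑ i : Fin p, (y (AlphaP.x p R ^ (i : ℕ)) * u i) • AlphaP.x p R ^ (i : ℕ), ?_⟩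
  apply D_ext
  intro j hj
  have := phi_sum_apply p R (fun i => y (AlphaP.x p R ^ (i : ℕ)) * u i) ⟨j, hj⟩
  simp only at this
  show (phiAlg p R _) _ = _
  rw [this, mul_assoc, hu ⟨j, hj⟩, mul_one]
end

/-- Let p be a prime, R a commutative ring of characteristic p and A = R[X]/(X^p) the Hopf algebra of
α_p over Spec R, with X primitive. Then the Cartier dual of α_p is again α_p: there is a bialgebra
isomorphism e from the dual Hopf algebra Hom_R(A, R), with the transposed structure maps, to A,
whose inverse sends X to the linear form dual to X with respect to the basis 1, X, …, X^{p-1} of A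
(so e⁻¹(X) takes the value 1 on X and 0 on the other powers X^i, i < p). (Any commutative base ring
of characteristic p is allowed.) -/
theorem result (p : ℕ) [Fact p.Prime] (R : Type u) [CommRing R] [CharP R p] :
    ∃ e : CartDual.D R (AlphaP.A p R) ≃ₐc[R] AlphaP.A p R,
      ∀ i : ℕ, i < p → (e.symm (AlphaP.x p R)) (AlphaP.x p R ^ i) = if i = 1 then 1 else 0 := by
  refine ⟨(BialgEquiv.ofBijective (phiBialg p R) ⟨phi_injective p R, phi_surjective p R⟩).symm, ?_⟩
  intro i _
  show (phiAlg p R (AlphaP.x p R)) (AlphaP.x p R ^ i) = _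
  rw [phiAlg_x, xi_apply_x_pow]

end Groth.Agent.S16071
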