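import Groth.Statements.S16072
import Mathlib
import Groth.Agent.Lib.helper24.AlphaPDual

set_option autoImplicit false
universe u
open Hopf

namespace Groth.Agent.S16072

open scoped TensorProduct
open CartDual
open Groth.Agent.Lib.helper24.AlphaPDual

/-- Let p be a prime and R a commutative ring of characteristic p (p = 0 in R, R nonzero). Then the
constant group scheme ℤ/p and the group scheme μ_p of p-th roots of unity over Spec R are not
isomorphic: there is no R-bialgebra isomorphism between the Hopf algebra Maps(ℤ/p, R) of functions
on the cyclic group of order p and the group algebra R[ℤ/p]. (Any nonzero commutative base ring of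
characteristic p is allowed. The published statement allows any ring R with p·R = 0; over the zero
ring both Hopf algebras are the zero ring and hence isomorphic, so R is assumed nonzero here.) -/
theorem result (p : ℕ) [Fact p.Prime] (R : Type u) [CommRing R]
    [CharP R p] :
    IsEmpty (ConstGrp.F R (Multiplicative (ZMod p)) ≃ₐc[R] MonoidAlgebra R (Multiplicative (ZMod p))) := by
  refine ⟨fun e => ?_⟩
  have := nontrivial_of_charP p R
  let h₀ : Multiplicative (ZMod p) := 1
  let h₁ : Multiplicative (ZMod p) := Multiplicative.ofAdd 1
  have hne : h₁ ≠ h₀ := by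
    intro h
    have : (1 : ZMod p) = 0 := h
    exact one_ne_zero this
  let lam : MonoidAlgebra R (Multiplicative (ZMod p)) →ₗ[R] R :=
    { toFun := fun a => (e.symm a) h₀ - (e.symm a) h₁
      map_add' := fun a b => by
        rw [map_add, ConstGrp.add_apply, ConstGrp.add_apply]; ring
      map_smul' := fun r a => by
        rw [map_smul, ConstGrp.smul_apply, ConstGrp.smul_apply, RingHom.id_apply, smul_eq_mul]; ring }
  have hx : ∀ (g h : Multiplicative (ZMod p)), ((e.symm (MonoidAlgebra.single g (1 : R))) h) ^ p = 1 := by
    intro g h
    have hg : g ^ p = 1 := by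
      have := pow_card_eq_one (G := Multiplicative (ZMod p)) (x := g)
      rwa [Fintype.card_multiplicative, ZMod.card] at this
    have h1 : (e.symm (MonoidAlgebra.single g (1 : R))) ^ p = 1 := by
      rw [← map_pow, MonoidAlgebra.single_pow, hg, one_pow, ← MonoidAlgebra.one_def, map_one]
    have h2 := congrArg (ConstGrp.ev R h) h1
    rwa [map_pow, map_one] at h2
  refine false_of_span_of_pow_eq_zero p R lam
    (fun g : Multiplicative (ZMod p) => MonoidAlgebra.single g (1 : R)) ?_ ?_ (e (ConstGrp.e R h₀)) ?_
  · have h := (MonoidAlgebra.basis (Multiplicative (ZMod p)) R).span_eq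
    have h2 : Set.range (MonoidAlgebra.basis (Multiplicative (ZMod p)) R) =
        Set.range (fun g : Multiplicative (ZMod p) => MonoidAlgebra.single g (1 : R)) :=
      congrArg Set.range (funext fun g => MonoidAlgebra.basis_apply R g)
    rw [← h2]; exact h
  · intro g
    show ((e.symm (MonoidAlgebra.single g (1 : R))) h₀ - (e.symm (MonoidAlgebra.single g (1 : R))) h₁) ^ p = 0
    rw [sub_pow_char, hx, hx, sub_self]
  · show (e.symm (e (ConstGrp.e R h₀))) h₀ - (e.symm (e (ConstGrp.e R h₀))) h₁ = 1
    rw [BialgEquiv.symm_apply_apply, ConstGrp.e_apply_self, ConstGrp.e_apply_of_ne hne, sub_zero]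

end Groth.Agent.S16072
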