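import Groth.Statements.S16073
import Mathlib
import Groth.Agent.Lib.helper24.AlphaPDual

set_option autoImplicit false
universe u
open Hopf

namespace Groth.Agent.S16073

open scoped TensorProduct
open CartDual
open Groth.Agent.Lib.helper24.AlphaPDual

/-- Let p be a prime and R a commutative ring of characteristic p (p = 0 in R, R nonzero). Then the
constant group scheme ℤ/p and α_p over Spec R are not isomorphic: there is no R-bialgebra
isomorphism between the Hopf algebra Maps(ℤ/p, R) of functions on the cyclic group of order p and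
the Hopf algebra R[X]/(X^p) of α_p (X primitive). (Any nonzero commutative base ring of
characteristic p is allowed. The published statement allows any ring R with p·R = 0; over the zero
ring both Hopf algebras are the zero ring and hence isomorphic, so R is assumed nonzero here.) -/
theorem result (p : ℕ) [Fact p.Prime] (R : Type u) [CommRing R] [CharP R p] :
    IsEmpty (ConstGrp.F R (Multiplicative (ZMod p)) ≃ₐc[R] AlphaP.A p R) := by
  refine ⟨fun e => ?_⟩
  have := nontrivial_of_charP p R
  let h₀ : Multiplicative (ZMod p) := 1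
  let h₁ : Multiplicative (ZMod p) := Multiplicative.ofAdd 1
  have hne : h₁ ≠ h₀ := by
    intro h
    have : (1 : ZMod p) = 0 := h
    exact one_ne_zero this
  let lam : AlphaP.A p R →ₗ[R] R :=
    { toFun := fun a => (e.symm a) h₀ - (e.symm a) h₁
      map_add' := fun a b => by
        rw [map_add, ConstGrp.add_apply, ConstGrp.add_apply]; ring
      map_smul' := fun r a => by
        rw [map_smul, ConstGrp.smul_apply, ConstGrp.smul_apply, RingHom.id_apply, smul_eq_mul]; ring }
  have hx : ∀ h : Multiplicative (ZMod p), ((e.symm (AlphaP.x p R)) h) ^ p = 0 := by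
    intro h
    have h1 : (e.symm (AlphaP.x p R)) ^ p = 0 := by
      rw [← map_pow, AlphaP.x_pow, map_zero]
    have h2 := congrArg (ConstGrp.ev R h) h1
    rwa [map_pow, map_zero] at h2
  refine false_of_span_of_pow_eq_zero p R lam
    (fun i : Fin p => AlphaP.x p R ^ (i : ℕ)) ?_ ?_ (e (ConstGrp.e R h₀)) ?_
  · have h := (AlphaP.basis p R).span_eq
    have h2 : Set.range (AlphaP.basis p R) = Set.range (fun i : Fin p => AlphaP.x p R ^ (i : ℕ)) :=
      congrArg Set.range (funext fun i => AlphaP.basis_apply p R i)
    rw [← h2]; exact h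
  · intro i
    show ((e.symm (AlphaP.x p R ^ (i : ℕ))) h₀ - (e.symm (AlphaP.x p R ^ (i : ℕ))) h₁) ^ p = 0
    have h3 : ∀ h : Multiplicative (ZMod p), (e.symm (AlphaP.x p R ^ (i : ℕ))) h =
        ((e.symm (AlphaP.x p R)) h) ^ (i : ℕ) := by
      intro h
      rw [map_pow]
      exact map_pow (ConstGrp.ev R h) _ _
    rw [h3, h3]
    by_cases hi : (i : ℕ) = 0
    · rw [hi, pow_zero, pow_zero, sub_self, zero_pow (Fact.out : p.Prime).ne_zero]
    · apply sub_pow_p_eq_zero
      · rw [← pow_mul, mul_comm, pow_mul, hx, zero_pow hi]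
      · rw [← pow_mul, mul_comm, pow_mul, hx, zero_pow hi]
  · show (e.symm (e (ConstGrp.e R h₀))) h₀ - (e.symm (e (ConstGrp.e R h₀))) h₁ = 1
    rw [BialgEquiv.symm_apply_apply, ConstGrp.e_apply_self, ConstGrp.e_apply_of_ne hne, sub_zero]

end Groth.Agent.S16073
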