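import Groth.Statements.S16074
import Mathlib
import Groth.Agent.Lib.helper24.AlphaPDual

set_option autoImplicit false
universe u
open Hopf

namespace Groth.Agent.S16074

open scoped TensorProduct
open CartDual
open Groth.Agent.Lib.helper24.AlphaPDual

/-- Let p be a prime and R a commutative ring of characteristic p (p = 0 in R, R nonzero). Then μ_p and
α_p over Spec R are not isomorphic: there is no R-bialgebra isomorphism between the group algebra
R[ℤ/p] of the cyclic group of order p (group elements group-like) and the Hopf algebra R[X]/(X^p) of
α_p (X primitive), although the underlying R-algebras R[ℤ/p] = R[Y]/(Y^p) and R[X]/(X^p) are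
isomorphic. (Any nonzero commutative base ring of characteristic p is allowed. The published
statement allows any ring R with p·R = 0; over the zero ring both Hopf algebras are the zero ring
and hence isomorphic, so R is assumed nonzero here.) -/
theorem result (p : ℕ) [Fact p.Prime] (R : Type u) [CommRing R] [CharP R p] :
    IsEmpty (MonoidAlgebra R (Multiplicative (ZMod p)) ≃ₐc[R] AlphaP.A p R) := by
  refine ⟨fun e => ?_⟩
  let lam : MonoidAlgebra R (Multiplicative (ZMod p)) →ₗ[R] R :=
    { toFun := fun a => xi p R (e a)
      map_add' := fun a b => by
        show (xi p R).ofConv (e (a + b)) = (xi p R).ofConv (e a) + (xi p R).ofConv (e b)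
        rw [map_add, map_add]
      map_smul' := fun r a => by
        show (xi p R).ofConv (e (r • a)) = r • (xi p R).ofConv (e a)
        rw [map_smul, map_smul] }
  have hgl : ∀ g : Multiplicative (ZMod p),
      Coalgebra.comul (R := R) (e (MonoidAlgebra.single g (1 : R))) =
        e (MonoidAlgebra.single g 1) ⊗ₜ[R] e (MonoidAlgebra.single g 1) := by
    intro g
    rw [← CoalgHomClass.map_comp_comul_apply, MonoidAlgebra.comul_single]
    simp
  have hco : ∀ g : Multiplicative (ZMod p),
      Coalgebra.counit (R := R) (e (MonoidAlgebra.single g (1 : R))) = 1 := by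
    intro g
    rw [CoalgHomClass.counit_comp_apply, MonoidAlgebra.counit_single]
    simp
  refine false_of_span_of_pow_eq_zero p R lam
    (fun g : Multiplicative (ZMod p) => MonoidAlgebra.single g (1 : R)) ?_ ?_ (e.symm (AlphaP.x p R)) ?_
  · have h := (MonoidAlgebra.basis (Multiplicative (ZMod p)) R).span_eq
    have h2 : Set.range (MonoidAlgebra.basis (Multiplicative (ZMod p)) R) =
        Set.range (fun g : Multiplicative (ZMod p) => MonoidAlgebra.single g (1 : R)) :=
      congrArg Set.range (funext fun g => MonoidAlgebra.basis_apply R g)
    rw [← h2]; exact h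
  · intro g
    show (xi p R (e (MonoidAlgebra.single g 1))) ^ p = 0
    rw [← pow_apply_of_grouplike R _ _ (hgl g) (hco g), xi_pow_p, zero_apply]
  · show xi p R (e (e.symm (AlphaP.x p R))) = 1
    rw [BialgEquiv.apply_symm_apply, xi_apply_x]

end Groth.Agent.S16074
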