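import Groth.Statements.S16076
import Mathlib
import Groth.Agent.Lib.helper24.AlphaPDual
import Groth.Agent.Lib.helper24.VerschTriv
import Groth.Agent.S16071

set_option autoImplicit false
universe u
open scoped TensorProduct
open Versch

namespace Groth.Agent.S16076

open CartDual
open Groth.Agent.Lib.helper24.AlphaPDual
open Groth.Agent.Lib.helper24.VerschTriv

lemma pow_p_eq (p : ℕ) [Fact p.Prime] (R : Type u) [CommRing R] [CharP R p] (b : AlphaP.A p R) :
    b ^ p = algebraMap R (AlphaP.A p R) ((Coalgebra.counit (R := R) b) ^ p) := by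
  obtain ⟨f, rfl⟩ := AlphaP.mk_surjective p R b
  have hf : AlphaP.mk p R f = AlphaP.x p R * AlphaP.mk p R f.divX + algebraMap R (AlphaP.A p R) (f.coeff 0) := by
    conv_lhs => rw [← Polynomial.X_mul_divX_add f]
    rw [map_add, map_mul, AlphaP.mk_X, ← Polynomial.algebraMap_eq, AlgHom.commutes]
  have hc : Coalgebra.counit (R := R) (AlphaP.mk p R f) = f.coeff 0 := by
    rw [hf, map_add, Bialgebra.counit_mul, AlphaP.counit_x, zero_mul, zero_add,
      Bialgebra.counit_algebraMap]
  rw [hc, hf, add_pow_char, mul_pow, AlphaP.x_pow, zero_mul, zero_add, map_pow]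

/-- Let p be a prime, R a commutative ring of characteristic p and A = R[X]/(X^p) the Hopf algebra of
α_p over Spec R, with X primitive. Let v : A → A ⊗_R R^(Frob) be the comorphism of the Verschiebung
V : α_p^(p) → α_p (the ring map whose transpose under the canonical pairing is the relative
Frobenius of the dual Hopf algebra Hom_R(A, R)). Then V is the trivial homomorphism: v is the
composite of the counit ε : A → R, the identity of underlying rings R → R^(Frob) and the inclusion
of the twisted factor R^(Frob) → A ⊗_R R^(Frob), i.e. v(a) = 1 ⊗ ε(a). (Any commutative base ring of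
characteristic p is allowed.) -/
theorem result (p : ℕ) [Fact p.Prime] (R : Type u) [CommRing R] [CharP R p]
    (v : AlphaP.A p R →+* FrobAlg.BaseChange p R (AlphaP.A p R))
    (hv : Versch.IsVerschiebung p R (AlphaP.A p R) v) :
    v = ((Algebra.TensorProduct.includeRight (R := R) (A := AlphaP.A p R) (B := FrobAlg.Twist p R)).toRingHom.comp
          (FrobAlg.toTwist p R).toRingHom).comp (Bialgebra.counitAlgHom R (AlphaP.A p R)).toRingHom := by
  apply versch_eq_trivial p R (AlphaP.A p R) _ v hv
  intro x
  obtain ⟨b, rfl⟩ := Groth.Agent.S16071.phi_surjective p R x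
  have h1 : (Groth.Agent.S16071.phiBialg p R b) 1 = Coalgebra.counit (R := R) b := by
    have := CoalgHomClass.counit_comp_apply (Groth.Agent.S16071.phiBialg p R) b
    rw [← this]
    rfl
  rw [h1, ← map_pow, pow_p_eq]
  exact AlgHom.commutes (Groth.Agent.S16071.phiAlg p R) _

end Groth.Agent.S16076
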