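import Groth.Statements.S16077
import Groth.Agent.Lib.helper13.TruncPoly

set_option autoImplicit false
universe u
open CAlg

namespace Groth.Agent.S16077

/-- Let k be a perfect field of characteristic p > 0 and let e_1, …, e_r ≥ 1 and f_1, …, f_s ≥ 1 be
natural numbers. If the k-algebras k[X_1, …, X_r]/(X_i^{p^{e_i}} : 1 ≤ i ≤ r) and k[X_1, …,
X_s]/(X_j^{p^{f_j}} : 1 ≤ j ≤ s) are isomorphic, then r = s and (f_j) is a permutation of (e_i):
there is a bijection σ between the index sets with f_{σ(i)} = e_i. Such truncated polynomial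
algebras are the coordinate rings of the connected finite k-group schemes, and the row says that the
number of variables and the exponents are invariants of the group, indeed of its algebra. (Only this
invariance is stated here; the existence of such a presentation for every connected finite k-group
is a separate statement.) -/
theorem result (p : ℕ) [Fact p.Prime] (k : Type u) [Field k]
    [CharP k p] [PerfectField k] (r s : ℕ) (e : Fin r → ℕ) (f : Fin s → ℕ) (he : ∀ i, 1 ≤ e i) (hf : ∀ j, 1 ≤ f j)
    (φ : (MvPolynomial (Fin r) k ⧸ Ideal.span (Set.range fun i : Fin r => (MvPolynomial.X i : MvPolynomial (Fin r) k) ^ p ^ e i)) ≃ₐ[k]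
      (MvPolynomial (Fin s) k ⧸ Ideal.span (Set.range fun j : Fin s => (MvPolynomial.X j : MvPolynomial (Fin s) k) ^ p ^ f j))) :
    ∃ σ : Fin r ≃ Fin s, ∀ i : Fin r, f (σ i) = e i := by
  classical
  have hp2 : 2 ≤ p := (Fact.out : p.Prime).two_le
  have hprod : ∀ j, ∏ i, p ^ min (e i) j = ∏ i', p ^ min (f i') j := by
    intro j
    rw [← Groth.Agent.Lib.helper13.TruncPoly.finrank_quot_J (k := k) p e j,
      ← Groth.Agent.Lib.helper13.TruncPoly.finrank_quot_J (k := k) p f j]
    have hJ := Groth.Agent.Lib.helper13.TruncPoly.J_map_equiv φ.toRingEquiv (p ^ j)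
    exact (Ideal.quotientEquivAlg _ _ φ hJ.symm).toLinearEquiv.finrank_eq
  have hsum : ∀ j, ∑ i, min (e i) j = ∑ i', min (f i') j := by
    intro j
    have := hprod j
    rw [Finset.prod_pow_eq_pow_sum, Finset.prod_pow_eq_pow_sum] at this
    exact Nat.pow_right_injective hp2 this
  have h1 : ∀ (n : ℕ) (g : Fin n → ℕ) (j : ℕ),
      (Finset.univ.filter fun i => j < g i).card + ∑ i, min (g i) j = ∑ i, min (g i) (j + 1) := by
    intro n g j
    rw [Finset.card_filter, ← Finset.sum_add_distrib]
    apply Finset.sum_congr rfl
    intro i _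
    split_ifs <;> omega
  have hgt : ∀ j, (Finset.univ.filter (fun i => j < e i)).card =
      (Finset.univ.filter (fun i' => j < f i')).card := by
    intro j
    have a1 := h1 r e j
    have a2 := h1 s f j
    have a3 := hsum j
    have a4 := hsum (j + 1)
    omega
  have h2 : ∀ (n : ℕ) (g : Fin n → ℕ) (v : ℕ),
      Fintype.card {i // g i = v + 1} + (Finset.univ.filter fun i => v + 1 < g i).card =
        (Finset.univ.filter fun i => v < g i).card := by
    intro n g v
    rw [Fintype.card_subtype, ← Finset.card_union_of_disjoint]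
    · congr 1
      ext i
      simp only [Finset.mem_union, Finset.mem_filter, Finset.mem_univ, true_and]
      omega
    · rw [Finset.disjoint_filter]
      intro i _ h
      omega
  have heq : ∀ v, Fintype.card {i // e i = v} = Fintype.card {i' // f i' = v} := by
    intro v
    rcases v with _ | v
    · rw [Fintype.card_eq_zero_iff.mpr ⟨fun x => by have := he x.1; have := x.2; omega⟩,
        Fintype.card_eq_zero_iff.mpr ⟨fun x => by have := hf x.1; have := x.2; omega⟩]
    · have b1 := h2 r e v
      have b2 := h2 s f v
      have b3 := hgt v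
      have b4 := hgt (v + 1)
      omega
  let F : ∀ v, {i // e i = v} ≃ {i' // f i' = v} := fun v => Fintype.equivOfCardEq (heq v)
  let σ : Fin r ≃ Fin s := (Equiv.sigmaFiberEquiv e).symm.trans
    ((Equiv.sigmaCongrRight F).trans (Equiv.sigmaFiberEquiv f))
  refine ⟨σ, fun i => ?_⟩
  exact (F (e i) ⟨i, rfl⟩).2

end Groth.Agent.S16077
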