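import Groth.Statements.S16078
import Mathlib
import Groth.Agent.S15068


set_option autoImplicit false
universe u
open scoped TensorProduct
open Hopf

universe v w
namespace H14S16078

open IsLocalRing TensorProduct

theorem idem_local {B : Type*} [CommRing B] [IsLocalRing B] {g : B} (hg : IsIdempotentElem g) :
    g = 0 ∨ g = 1 := by
  rcases IsLocalRing.isUnit_or_isUnit_one_sub_self g with h | h
  · right
    have : g * (g - 1) = 0 := by rw [mul_sub, hg.eq, mul_one, sub_self]
    have h2 := (h.mul_right_eq_zero).mp this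
    exact sub_eq_zero.mp h2
  · left
    have : (1 - g) * g = 0 := by rw [sub_mul, hg.eq, one_mul, sub_self]
    exact (h.mul_right_eq_zero).mp this

section main

variable {R : Type u} [CommRing R] {A : Type u} [CommRing A] [HopfAlgebra R A]

/-- if `ε` kills `J` and `1 - x`, `A/(J + (1-x))` is local, and `y` is idempotent mod `J` with
`ε y = 1`, then `1 - y ∈ J + (1 - x)`. -/
theorem one_sub_mem [Nontrivial R] (J : Ideal A) (hJ : J ≤ RingHom.ker (Bialgebra.counitAlgHom R A))
    (x y : A) (hx : Bialgebra.counitAlgHom R A x = 1) (hy : Bialgebra.counitAlgHom R A y = 1)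
    (hyi : IsIdempotentElem (Ideal.Quotient.mk J y))
    [IsLocalRing (A ⧸ (J ⊔ Ideal.span ({1 - x} : Set A)))] :
    1 - y ∈ J ⊔ Ideal.span ({1 - x} : Set A) := by
  let ε₀ : (A ⧸ (J ⊔ Ideal.span ({1 - x} : Set A))) →ₐ[R] R :=
    Ideal.Quotient.liftₐ _ (Bialgebra.counitAlgHom R A)
      (fun _ ha => (RingHom.mem_ker).mp ((sup_le hJ (H14S15068.counit_K x hx)) ha))
  have hi : IsIdempotentElem (Ideal.Quotient.mk (J ⊔ Ideal.span ({1 - x} : Set A)) y) := by
    have := hyi.map (Ideal.Quotient.factor (le_sup_left : J ≤ J ⊔ Ideal.span ({1 - x} : Set A)))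
    exact this
  rcases idem_local hi with h | h
  · exfalso
    have h1 : ε₀ (Ideal.Quotient.mk _ y) = 1 := hy
    rw [h, map_zero] at h1
    exact zero_ne_one h1
  · rw [← Ideal.Quotient.eq, map_one]
    exact h.symm

theorem mk_eq [Nontrivial R] (J : Ideal A) (hJ : J ≤ RingHom.ker (Bialgebra.counitAlgHom R A))
    (x y : A) (hx : Bialgebra.counitAlgHom R A x = 1) (hy : Bialgebra.counitAlgHom R A y = 1)
    (hxi : IsIdempotentElem (Ideal.Quotient.mk J x))
    (hyi : IsIdempotentElem (Ideal.Quotient.mk J y))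
    [IsLocalRing (A ⧸ (J ⊔ Ideal.span ({1 - x} : Set A)))]
    [IsLocalRing (A ⧸ (J ⊔ Ideal.span ({1 - y} : Set A)))] :
    Ideal.Quotient.mk J x = Ideal.Quotient.mk J y := by
  have key : ∀ (x y : A), IsIdempotentElem (Ideal.Quotient.mk J x) →
      1 - y ∈ J ⊔ Ideal.span ({1 - x} : Set A) →
      Ideal.Quotient.mk J x = Ideal.Quotient.mk J y * Ideal.Quotient.mk J x := by
    intro x y hxi h
    obtain ⟨j, hj, k, hk, hjk⟩ := Submodule.mem_sup.mp h
    obtain ⟨a, rfl⟩ := Ideal.mem_span_singleton'.mp hk
    have h1 : Ideal.Quotient.mk J (1 - y) = Ideal.Quotient.mk J a * (1 - Ideal.Quotient.mk J x) := by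
      rw [← hjk, map_add, Ideal.Quotient.eq_zero_iff_mem.mpr hj, zero_add, map_mul, map_sub,
        map_one]
    have h2 : (1 - Ideal.Quotient.mk J y) * Ideal.Quotient.mk J x = 0 := by
      rw [map_sub, map_one] at h1
      rw [h1, mul_assoc, sub_mul, one_mul, hxi.eq, sub_self, mul_zero]
    rw [sub_mul, one_mul, sub_eq_zero] at h2
    exact h2
  have e1 := key x y hxi (one_sub_mem J hJ x y hx hy hyi)
  have e2 := key y x hyi (one_sub_mem J hJ y x hy hx hxi)
  rw [e1, mul_comm, ← e2]

end main

section ff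

variable {R : Type u} [CommRing R] {A A'' : Type u} [CommRing A] [Algebra R A]
  [CommRing A''] [Algebra R A''] [Algebra A'' A] [IsScalarTower R A'' A]

theorem faithfullyFlat_g [Module.Finite R A] [Module.Flat A'' A]
    (e : A) (he : IsIdempotentElem e) [IsLocalRing (A ⧸ Ideal.span ({1 - e} : Set A))]
    (e'' : A'') (he'' : IsIdempotentElem e'')
    [IsLocalRing (A'' ⧸ Ideal.span ({1 - e''} : Set A''))]
    (g : (A'' ⧸ Ideal.span ({1 - e''} : Set A'')) →+* (A ⧸ Ideal.span ({1 - e} : Set A)))
    (hg : g.comp (Ideal.Quotient.mk (Ideal.span ({1 - e''} : Set A''))) =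
      (Ideal.Quotient.mk (Ideal.span ({1 - e} : Set A))).comp (algebraMap A'' A)) :
    g.FaithfullyFlat := by
  letI : Algebra (A'' ⧸ Ideal.span ({1 - e''} : Set A'')) (A ⧸ Ideal.span ({1 - e} : Set A)) :=
    g.toAlgebra
  show Module.FaithfullyFlat (A'' ⧸ Ideal.span ({1 - e''} : Set A''))
    (A ⧸ Ideal.span ({1 - e} : Set A))
  haveI : IsScalarTower A'' (A'' ⧸ Ideal.span ({1 - e''} : Set A''))
      (A ⧸ Ideal.span ({1 - e} : Set A)) := by
    apply IsScalarTower.of_algebraMap_eq
    intro a
    have := DFunLike.congr_fun hg a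
    exact this.symm
  haveI : IsScalarTower R A'' (A ⧸ Ideal.span ({1 - e} : Set A)) := by
    apply IsScalarTower.of_algebraMap_eq
    intro r
    change Ideal.Quotient.mk _ (algebraMap R A r) =
      Ideal.Quotient.mk _ (algebraMap A'' A (algebraMap R A'' r))
    rw [← IsScalarTower.algebraMap_apply R A'' A]
  haveI : Module.Finite A'' (A ⧸ Ideal.span ({1 - e} : Set A)) :=
    Module.Finite.of_restrictScalars_finite R A'' _
  haveI : Algebra.IsIntegral A'' (A ⧸ Ideal.span ({1 - e} : Set A)) := inferInstance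
  haveI : Algebra.IsIntegral (A'' ⧸ Ideal.span ({1 - e''} : Set A''))
      (A ⧸ Ideal.span ({1 - e} : Set A)) := Algebra.IsIntegral.tower_top (R := A'')
  haveI : IsLocalHom (algebraMap (A'' ⧸ Ideal.span ({1 - e''} : Set A''))
      (A ⧸ Ideal.span ({1 - e} : Set A))) := H14S15068.isLocalHom_of_integral
  haveI : IsLocalization.Away e (A ⧸ Ideal.span ({1 - e} : Set A)) :=
    IsLocalization.Away.quotient_of_isIdempotentElem he
  haveI : Module.Flat A (A ⧸ Ideal.span ({1 - e} : Set A)) :=
    IsLocalization.flat _ (Submonoid.powers e)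
  haveI : Module.Flat A'' (A ⧸ Ideal.span ({1 - e} : Set A)) := Module.Flat.trans A'' A _
  haveI : IsLocalization.Away e'' (A'' ⧸ Ideal.span ({1 - e''} : Set A'')) :=
    IsLocalization.Away.quotient_of_isIdempotentElem he''
  haveI : Module.Flat (A'' ⧸ Ideal.span ({1 - e''} : Set A''))
      (A ⧸ Ideal.span ({1 - e} : Set A)) :=
    (Module.flat_iff_of_isLocalization (A'' ⧸ Ideal.span ({1 - e''} : Set A''))
      (Submonoid.powers e'') (A ⧸ Ideal.span ({1 - e} : Set A))).mpr inferInstance
  exact Module.FaithfullyFlat.of_flat_of_isLocalHom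

end ff

end H14S16078

namespace Groth.Agent.S16078

/-- Let R be a henselian Noetherian local ring, A and A'' commutative Hopf algebras over R which are
finite and flat as R-modules, and A'' → A an R-algebra homomorphism compatible with
comultiplications and counits making A faithfully flat over A'' (a faithfully flat homomorphism π :
G → G'' of finite flat R-groups); let J ⊆ A be the ideal generated by the image of the augmentation
ideal of A'' (G' = Spec A/J = ker π, so that 1 → G' → G → G'' → 1 is exact). Let e ∈ A and e'' ∈ A''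
be idempotents with ε(e) = 1, ε(e'') = 1 and A/(1 − e), A''/(1 − e'') local rings (the unit
components G⁰ and G''⁰), and let e' ∈ A be an element whose image in A/J is an idempotent, with
ε(e') = 1 and A/(J + (1 − e')) local (so G'⁰ = Spec (A/J)/(1 − e') is the unit component of G').
Suppose g : A''/(1 − e'') → A/(1 − e) is the ring homomorphism induced by A'' → A (the restriction
π⁰ : G⁰ → G''⁰ of π, which exists because G⁰ is connected). Then g is faithfully flat, and e ≡ e'
modulo J, i.e. J + (1 − e) = J + (1 − e') and the kernel of π⁰, which is cut out in G⁰ by J, is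
exactly G'⁰: the sequence 1 → G'⁰ → G⁰ → G''⁰ → 1 is exact. (The published statement also asserts
exactness of the maximal étale quotient G ↦ G^ét, not stated here.) -/
theorem result (R : Type u) [CommRing R] [HenselianLocalRing R]
    [IsNoetherianRing R] (A A'' : Type u) [CommRing A] [HopfAlgebra R A] [Module.Finite R A] [Module.Flat R A]
    [CommRing A''] [HopfAlgebra R A''] [Module.Finite R A''] [Module.Flat R A'']
    [Algebra A'' A] [IsScalarTower R A'' A] [Module.FaithfullyFlat A'' A]
    (hΔ : (Bialgebra.comulAlgHom R A).comp (IsScalarTower.toAlgHom R A'' A) =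
      (Algebra.TensorProduct.map (IsScalarTower.toAlgHom R A'' A) (IsScalarTower.toAlgHom R A'' A)).comp
        (Bialgebra.comulAlgHom R A''))
    (hε : (Bialgebra.counitAlgHom R A).comp (IsScalarTower.toAlgHom R A'' A) = Bialgebra.counitAlgHom R A'')
    (e : A) (he : IsIdempotentElem e) (heε : Bialgebra.counitAlgHom R A e = 1)
    [IsLocalRing (A ⧸ Ideal.span ({1 - e} : Set A))]
    (e'' : A'') (he'' : IsIdempotentElem e'') (he''ε : Bialgebra.counitAlgHom R A'' e'' = 1)
    [IsLocalRing (A'' ⧸ Ideal.span ({1 - e''} : Set A''))]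
    (e' : A) (he' : IsIdempotentElem (Ideal.Quotient.mk ((RingHom.ker (Bialgebra.counitAlgHom R A'')).map (algebraMap A'' A)) e'))
    (he'ε : Bialgebra.counitAlgHom R A e' = 1)
    [IsLocalRing (A ⧸ (((RingHom.ker (Bialgebra.counitAlgHom R A'')).map (algebraMap A'' A)) ⊔ Ideal.span ({1 - e'} : Set A)))]
    (g : (A'' ⧸ Ideal.span ({1 - e''} : Set A'')) →+* (A ⧸ Ideal.span ({1 - e} : Set A)))
    (hg : g.comp (Ideal.Quotient.mk (Ideal.span ({1 - e''} : Set A''))) =
      (Ideal.Quotient.mk (Ideal.span ({1 - e} : Set A))).comp (algebraMap A'' A)) :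
    g.FaithfullyFlat ∧
      Ideal.Quotient.mk ((RingHom.ker (Bialgebra.counitAlgHom R A'')).map (algebraMap A'' A)) e = Ideal.Quotient.mk ((RingHom.ker (Bialgebra.counitAlgHom R A'')).map (algebraMap A'' A)) e' := by
  refine ⟨H14S16078.faithfullyFlat_g (R := R) e he e'' he'' g hg, ?_⟩
  haveI : Nontrivial (A ⧸ ((RingHom.ker (Bialgebra.counitAlgHom R A'')).map (algebraMap A'' A) ⊔
      Ideal.span ({1 - e} : Set A))) := (H14S15068.eps0 hε e heε).toRingHom.domain_nontrivial
  haveI : IsLocalRing (A ⧸ ((RingHom.ker (Bialgebra.counitAlgHom R A'')).map (algebraMap A'' A) ⊔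
      Ideal.span ({1 - e} : Set A))) :=
    IsLocalRing.of_surjective' (Ideal.Quotient.factor (le_sup_right :
      Ideal.span ({1 - e} : Set A) ≤ _)) (Ideal.Quotient.factor_surjective _)
  exact H14S16078.mk_eq _ (H14S15068.counit_J hε) e e' heε he'ε (he.map _) he'

end Groth.Agent.S16078
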