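import Groth.Statements.S16082
import Groth.Agent.Lib.helper8.FTSpanC

set_option autoImplicit false
universe u
open CategoryTheory CategoryTheory.Limits AlgebraicGeometry TopologicalSpace
open SDiv

namespace Groth.Agent.S16082

/-- Let X be an integral scheme and F, G quasi-coherent O_X-modules with F of finite presentation and G
torsion free (every stalk G_x is a torsion-free module over the domain O_{X,x}). Then every stalk of
the sheaf Hom 𝓗om_{O_X}(F, G) is torsion free as well. -/
theorem result (X : Scheme.{u}) [IsIntegral X] (F G : X.Modules) (hF : Coh.IsQCoh F)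
    (hFp : CohB1.IsFP F) (hG : Coh.IsQCoh G) (hGt : TorSh.IsTorsionFree G) :
    TorSh.IsTorsionFree (RefHull.homSh F G) := by
  haveI : SheafOfModules.IsFinitePresentation.{u} F := hFp
  haveI : SheafOfModules.IsFiniteType.{u} F := inferInstance
  intro x
  have hinj := Groth.Agent.H8.FTSpan.evalStalk_injective F G x
  haveI := hGt x
  refine ⟨fun r hr a b hab => ?_⟩
  apply hinj
  have h1 : RefHull.evalStalk F G x (r • a) = RefHull.evalStalk F G x (r • b) :=
    congrArg (RefHull.evalStalk F G x) hab
  rw [map_smul, map_smul] at h1
  apply LinearMap.ext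
  intro v
  have h2 := congrArg (fun φ => φ v) h1
  simp only [LinearMap.smul_apply] at h2
  exact (Module.IsTorsionFree.isSMulRegular hr) h2

end Groth.Agent.S16082
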