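import Groth.Statements.S1630
import Mathlib

set_option autoImplicit false
universe u
open CategoryTheory CategoryTheory.Limits AlgebraicGeometry
open Variety

namespace Groth.Agent.S1630aux
open CategoryTheory CategoryTheory.Limits AlgebraicGeometry

/-- A space covered by preirreducible opens which pairwise meet is preirreducible. -/
lemma preirreducibleSpace_of_cover {X ι : Type*} [TopologicalSpace X] (V : ι → Set X)
    (hopen : ∀ i, IsOpen (V i)) (hirr : ∀ i, IsPreirreducible (V i))
    (hcov : ∀ x : X, ∃ i, x ∈ V i) (hmeet : ∀ i j, (V i ∩ V j).Nonempty) :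
    PreirreducibleSpace X := by
  refine PreirreducibleSpace.of_forall_nonempty_inter fun A B hA hB ⟨a, ha⟩ ⟨b, hb⟩ => ?_
  obtain ⟨i, hi⟩ := hcov a
  obtain ⟨j, hj⟩ := hcov b
  obtain ⟨c, hc1, hc2, hc3⟩ := hirr i A (V j) hA (hopen j) ⟨a, hi, ha⟩ (hmeet i j)
  obtain ⟨d, -, hd2, hd3⟩ := hirr j A B hA hB ⟨c, hc3, hc2⟩ ⟨b, hj, hb⟩
  exact ⟨d, hd2, hd3⟩

/-- The comparison map from the pullback of an open subscheme. -/
noncomputable abbrev cmp {X S T : Scheme.{u}} (g : X ⟶ S) (x : T ⟶ S) (U : X.Opens) :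
    pullback (U.ι ≫ g) x ⟶ pullback g x :=
  pullback.map _ _ _ _ U.ι (𝟙 _) (𝟙 _) (by simp) (by simp)

lemma isPullback_cmp {X S T : Scheme.{u}} (g : X ⟶ S) (x : T ⟶ S) (U : X.Opens) :
    IsPullback (pullback.fst (U.ι ≫ g) x) (cmp g x U) U.ι (pullback.fst g x) := by
  refine IsPullback.of_bot (v₂₁ := pullback.snd g x) (v₂₂ := g) (h₃₁ := x) ?_ (pullback.lift_fst _ _ _).symm
    (IsPullback.of_hasPullback g x)
  have : cmp g x U ≫ pullback.snd g x = pullback.snd (U.ι ≫ g) x := (pullback.lift_snd _ _ _).trans (Category.comp_id _)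
  rw [this]
  exact IsPullback.of_hasPullback (U.ι ≫ g) x

lemma range_cmp {X S T : Scheme.{u}} (g : X ⟶ S) (x : T ⟶ S) (U : X.Opens) :
    Set.range (cmp g x U) = (pullback.fst g x) ⁻¹' (U : Set X) := by
  have H := isPullback_cmp g x U
  have h1 : H.isoPullback.hom ≫ pullback.snd U.ι (pullback.fst g x) = cmp g x U :=
    H.isoPullback_hom_snd
  rw [← h1, Scheme.Hom.comp_base, TopCat.coe_comp, Set.range_comp,
    Set.range_eq_univ.mpr (show Function.Surjective H.isoPullback.hom from H.isoPullback.hom.homeomorph.surjective), Set.image_univ,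
    Scheme.Pullback.range_snd]
  simp


lemma surjective_of_field {K : Type u} [Field K] {S : Scheme.{u}} [Subsingleton S]
    (x : Spec (.of K) ⟶ S) : Surjective x := by
  refine ⟨fun s => ?_⟩
  have : Nonempty (Spec (.of K)) := inferInstance
  obtain ⟨p⟩ := this
  exact ⟨p, Subsingleton.elim _ _⟩

lemma main (k : Type u) [Field k] (X : Scheme.{u}) [X.Over (Spec (CommRingCat.of k))]
    (ι : Type u) (U : ι → X.Opens) (hne : Nonempty ι) (hcov : (⨆ i, U i) = ⊤)
    (hmeet : ∀ i j, ((U i : Set X) ∩ (U j : Set X)).Nonempty)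
    (hU : ∀ i, GeometricallyIrreducible ((U i).ι ≫ (X ↘ (Spec (CommRingCat.of k))))) :
    GeometricallyIrreducible (X ↘ (Spec (CommRingCat.of k))) := by
  refine ⟨geometrically_iff_of_isClosedUnderIsomorphisms.mpr fun K _ x => ?_⟩
  have hP : ∀ i, IrreducibleSpace
      ↥(pullback ((U i).ι ≫ (X ↘ (Spec (CommRingCat.of k)))) x) := fun i =>
    pullback_of_geometrically (hU i).1 K x
  have : Subsingleton (Spec (CommRingCat.of k)) :=
    inferInstanceAs (Subsingleton (PrimeSpectrum k))
  have := surjective_of_field x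
  have hsurj : Function.Surjective (pullback.fst (X ↘ (Spec (CommRingCat.of k))) x) :=
    (inferInstance : Surjective (pullback.fst (X ↘ (Spec (CommRingCat.of k))) x)).surj
  have hpre : PreirreducibleSpace ↥(pullback (X ↘ (Spec (CommRingCat.of k))) x) := by
    refine preirreducibleSpace_of_cover
      (fun i => Set.range (cmp (X ↘ (Spec (CommRingCat.of k))) x (U i))) ?_ ?_ ?_ ?_
    · intro i
      exact (cmp (X ↘ (Spec (CommRingCat.of k))) x (U i)).isOpenEmbedding.isOpen_range
    · intro i
      have := hP i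
      rw [← Set.image_univ]
      exact ((IrreducibleSpace.isIrreducible_univ _).image _
        (cmp (X ↘ (Spec (CommRingCat.of k))) x (U i)).continuous.continuousOn).2
    · intro p
      have : pullback.fst (X ↘ (Spec (CommRingCat.of k))) x p ∈ (⨆ i, U i) := by
        rw [hcov]; trivial
      obtain ⟨i, hi⟩ := TopologicalSpace.Opens.mem_iSup.mp this
      exact ⟨i, by rw [range_cmp]; exact hi⟩
    · intro i j
      obtain ⟨z, hzi, hzj⟩ := hmeet i j
      obtain ⟨p, rfl⟩ := hsurj z
      exact ⟨p, by rw [range_cmp]; exact hzi, by rw [range_cmp]; exact hzj⟩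
  obtain ⟨i⟩ := hne
  obtain ⟨z, hzi, -⟩ := hmeet i i
  obtain ⟨p, -⟩ := hsurj z
  have : Nonempty ↥(pullback (X ↘ (Spec (CommRingCat.of k))) x) := ⟨p⟩
  exact { toPreirreducibleSpace := hpre, toNonempty := this }

end Groth.Agent.S1630aux

namespace Groth.Agent.S1630

/-- Let X be a scheme over k. If X has a cover by a nonempty family of open subschemes, each
geometrically irreducible over k and any two of which meet, then X is geometrically irreducible over
k. -/
theorem result (k : Type u) [Field k] (X : Scheme.{u}) [X.Over (Spec (CommRingCat.of k))]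
    (ι : Type u) (U : ι → X.Opens) (hne : Nonempty ι) (hcov : (⨆ i, U i) = ⊤)
    (hmeet : ∀ i j, ((U i : Set X) ∩ (U j : Set X)).Nonempty)
    (hU : ∀ i, GeometricallyIrreducible ((U i).ι ≫ (X ↘ (Spec (CommRingCat.of k))))) : GeometricallyIrreducible (X ↘ (Spec (CommRingCat.of k))) := by
  exact S1630aux.main k X ι U hne hcov hmeet hU

end Groth.Agent.S1630
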