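import Groth.Statements.S1609
import Mathlib
import Groth.Agent.S1630

set_option autoImplicit false
universe u
open CategoryTheory CategoryTheory.Limits AlgebraicGeometry
open Variety

namespace Groth.Agent.S1609aux
set_option linter.style.haveILetI false
open CategoryTheory CategoryTheory.Limits AlgebraicGeometry TensorProduct

/-- A common field extension of two field extensions of `k`. -/
lemma exists_compositum (k K k' : Type u) [Field k] [Field K] [Field k'] [Algebra k K]
    [Algebra k k'] : ∃ (L : Type u) (_ : Field L) (a : K →+* L) (b : k' →+* L),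
      a.comp (algebraMap k K) = b.comp (algebraMap k k') := by
  obtain ⟨m, hm⟩ := Ideal.exists_maximal (K ⊗[k] k')
  letI : Field ((K ⊗[k] k') ⧸ m) := Ideal.Quotient.field m
  refine ⟨(K ⊗[k] k') ⧸ m, inferInstance,
    (Ideal.Quotient.mk m).comp (Algebra.TensorProduct.includeLeft (R := k) (S := k) (A := K) (B := k')).toRingHom,
    (Ideal.Quotient.mk m).comp (Algebra.TensorProduct.includeRight (R := k) (A := K) (B := k')).toRingHom, ?_⟩
  ext r
  simp only [RingHom.coe_comp, Function.comp_apply, AlgHom.toRingHom_eq_coe, RingHom.coe_coe,
    AlgHom.commutes]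

lemma main (k : Type u) [Field k] (X : Scheme.{u}) [X.Over (Spec (CommRingCat.of k))]
    (k' : Type u) [Field k'] [Algebra k k']
    (h : GeometricallyIrreducible
      (pullback.snd (X ↘ (Spec (CommRingCat.of k)))
        (Spec.map (CommRingCat.ofHom (algebraMap k k'))))) :
    GeometricallyIrreducible (X ↘ (Spec (CommRingCat.of k))) := by
  refine ⟨geometrically_iff_of_isClosedUnderIsomorphisms.mpr fun K _ x => ?_⟩
  change IrreducibleSpace ↥(pullback (X ↘ (Spec (CommRingCat.of k))) x)
  set g := X ↘ (Spec (CommRingCat.of k)) with hg
  set c := Spec.map (CommRingCat.ofHom (algebraMap k k')) with hc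
  -- the ring map underlying `x`
  let φ : k →+* K := (Spec.preimage x).hom
  have hx : Spec.map (CommRingCat.ofHom φ) = x := Spec.map_preimage x
  letI : Algebra k K := φ.toAlgebra
  obtain ⟨L, _, a, b, hab⟩ := exists_compositum k K k'
  let y : Spec (CommRingCat.of L) ⟶ Spec (CommRingCat.of K) := Spec.map (CommRingCat.ofHom a)
  let z : Spec (CommRingCat.of L) ⟶ Spec (CommRingCat.of k') := Spec.map (CommRingCat.ofHom b)
  have hyz : z ≫ c = y ≫ x := by
    rw [← hx, hc, ← Spec.map_comp, ← Spec.map_comp, ← CommRingCat.ofHom_comp,
      ← CommRingCat.ofHom_comp]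
    congr 2
    exact hab.symm
  -- irreducibility of the big pullback
  have h1 : IrreducibleSpace ↥(pullback (pullback.snd g c) z) :=
    pullback_of_geometrically h.1 L z
  have h2 : IrreducibleSpace ↥(pullback g (z ≫ c)) :=
    (pullbackLeftPullbackSndIso g c z).hom.homeomorph.irreducibleSpace_iff.mp h1
  rw [hyz] at h2
  have h3 : IrreducibleSpace ↥(pullback (pullback.snd g x) y) :=
    (pullbackLeftPullbackSndIso g x y).hom.homeomorph.irreducibleSpace_iff.mpr h2
  have : Subsingleton (Spec (CommRingCat.of K)) :=
    inferInstanceAs (Subsingleton (PrimeSpectrum K))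
  have := S1630aux.surjective_of_field y
  have hsurj : Function.Surjective (pullback.fst (pullback.snd g x) y) :=
    (inferInstance : Surjective (pullback.fst (pullback.snd g x) y)).surj
  exact hsurj.irreducibleSpace (pullback.fst (pullback.snd g x) y).continuous

end Groth.Agent.S1609aux

namespace Groth.Agent.S1609

/-- Geometric irreducibility of a k-scheme can be checked after an arbitrary extension of the base
field. -/
theorem result (k : Type u) [Field k] (X : Scheme.{u}) [X.Over (Spec (CommRingCat.of k))] (k' : Type u) [Field k'] [Algebra k k']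
    [GeometricallyIrreducible (Curv2.bcSnd k X k')] : GeometricallyIrreducible (X ↘ (Spec (CommRingCat.of k))) := by
  exact S1609aux.main k X k' inferInstance

end Groth.Agent.S1609
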