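import Groth.Statements.S16099
import Groth.Agent.Lib.helper16.FFMore

set_option autoImplicit false
universe u
open FunFld

namespace Groth.Agent.S16099

/-- For a function field `K/k` of one variable of genus `g` and any place `P`, the `k`-space `K /
(O_{\{P\}} + O_P)` is finite-dimensional of dimension `g` (the number of Weierstrass gaps when `P`
is rational), where `O_{\{P\}}` is the ring of elements of `K` integral at every place other than
`P` and `O_P` is the valuation ring of `P` (written as the elements integral at every place outside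
the complement of `\{P\}`). (The published example is for a curve over an algebraically closed field
and is stated with completions at `P`; this is the equivalent form inside `K`, over any field `k`
algebraically closed in `K`.) -/
theorem result (k K : Type u) [Field k] [Field K]
    [Algebra k K] (hK : FunFld.IsFunctionField k K) (P : FunFld.Place k K) :
    FiniteDimensional k (K ⧸ (Subalgebra.toSubmodule (AdFn.SInt ({P} : Set (FunFld.Place k K))) ⊔
        Subalgebra.toSubmodule (AdFn.SInt (({P} : Set (FunFld.Place k K))ᶜ)))) ∧
    Module.finrank k (K ⧸ (Subalgebra.toSubmodule (AdFn.SInt ({P} : Set (FunFld.Place k K))) ⊔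
        Subalgebra.toSubmodule (AdFn.SInt (({P} : Set (FunFld.Place k K))ᶜ)))) = FunFld.genus k K := by
  open Groth.Agent.Lib.helper16.FF WithZero in
  classical
  -- the map `x ↦ [x at P, 0 elsewhere]`
  have hsingle : ∀ x : K, (Pi.single P x : FunFld.Place k K → K) ∈ FunFld.adele k K := by
    intro x
    rw [mem_adele_iff]
    refine (Set.finite_singleton P).subset ?_
    intro Q hQ
    by_contra hne
    apply hQ
    rw [Pi.single_eq_of_ne hne, map_zero]
    exact zero_le
  let ψ₀ : K →ₗ[k] FunFld.adele k K :=
    LinearMap.codRestrict _ (LinearMap.single k (fun _ : FunFld.Place k K => K) P) hsingle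
  let ψ : K →ₗ[k] (FunFld.adele k K ⧸ FunFld.ADK (0 : FunFld.Divisor k K)) :=
    (FunFld.ADK (0 : FunFld.Divisor k K)).mkQ.comp ψ₀
  have hψ₀ : ∀ x : K, ((ψ₀ x : FunFld.adele k K) : FunFld.Place k K → K) = Pi.single P x :=
    fun x => rfl
  -- surjectivity
  obtain ⟨N, hN⟩ := riemann hK
  have hP1 := deg_place_pos hK P
  let n : ℕ := N.toNat
  have hdeg : N ≤ FunFld.Divisor.deg (k := k) (K := K) (Finsupp.single P (n : ℤ)) := by
    rw [deg_single]
    have h1 : N ≤ n := Int.self_le_toNat N
    have h2 : (1 : ℤ) ≤ P.deg := by exact_mod_cast hP1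
    have h3 : (0 : ℤ) ≤ n := by positivity
    nlinarith
  have hfull := ADK_eq_adele hK (hN _ hdeg)
  have hsurj : Function.Surjective ψ := by
    intro q
    obtain ⟨a, rfl⟩ := Submodule.mkQ_surjective _ q
    have ha : (a : FunFld.Place k K → K) ∈
        FunFld.AD (Finsupp.single P (n : ℤ)) ⊔ LinearMap.range (FunFld.diag k K) := by
      rw [hfull]; exact a.2
    obtain ⟨b, hb, _, ⟨z, rfl⟩, hsum⟩ := Submodule.mem_sup.mp ha
    refine ⟨b P, ?_⟩
    change Submodule.Quotient.mk (ψ₀ (b P)) = Submodule.Quotient.mk a
    rw [Submodule.Quotient.eq]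
    change ((ψ₀ (b P) - a : FunFld.adele k K) : FunFld.Place k K → K) ∈
      FunFld.AD 0 ⊔ LinearMap.range (FunFld.diag k K)
    have e : ((ψ₀ (b P) - a : FunFld.adele k K) : FunFld.Place k K → K) =
        (Pi.single P (b P) - b) + FunFld.diag k K (-z) := by
      rw [Submodule.coe_sub, hψ₀, ← hsum, map_neg]
      abel
    rw [e]
    refine Submodule.add_mem _ (Submodule.mem_sup_left ?_) (Submodule.mem_sup_right ⟨-z, rfl⟩)
    intro Q
    by_cases hQ : Q = P
    · subst hQ
      simp
    · rw [Pi.sub_apply, Pi.single_eq_of_ne hQ, zero_sub, Valuation.map_neg]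
      have := hb Q
      rwa [Finsupp.single_eq_of_ne hQ] at this
  -- the kernel
  have hker : LinearMap.ker ψ = Subalgebra.toSubmodule (AdFn.SInt ({P} : Set (FunFld.Place k K))) ⊔
      Subalgebra.toSubmodule (AdFn.SInt (({P} : Set (FunFld.Place k K))ᶜ)) := by
    ext x
    rw [LinearMap.mem_ker]
    change Submodule.Quotient.mk (ψ₀ x) = 0 ↔ _
    rw [Submodule.Quotient.mk_eq_zero]
    change (Pi.single P x : FunFld.Place k K → K) ∈
      FunFld.AD 0 ⊔ LinearMap.range (FunFld.diag k K) ↔ _
    constructor
    · intro h
      obtain ⟨c, hc, _, ⟨y, rfl⟩, hsum⟩ := Submodule.mem_sup.mp h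
      rw [Submodule.mem_sup]
      refine ⟨y, ?_, c P, ?_, ?_⟩
      · intro Q hQ
        have hQP : Q ≠ P := hQ
        have h1 := congrFun hsum Q
        rw [Pi.add_apply, Pi.single_eq_of_ne hQP, diag_apply] at h1
        have h2 : y = -c Q := by
          have : y = (c Q + y) - c Q := by ring
          rw [this, h1, zero_sub]
        rw [h2, Valuation.map_neg]
        simpa using hc Q
      · intro Q hQ
        have hQP : Q = P := by
          by_contra hne
          exact hQ hne
        subst hQP
        simpa using hc Q
      · have h1 := congrFun hsum P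
        rw [Pi.add_apply, Pi.single_eq_same, diag_apply] at h1
        rw [← h1]; ring
    · intro h
      obtain ⟨r, hr, o, ho, rfl⟩ := Submodule.mem_sup.mp h
      have e : (Pi.single P (r + o) : FunFld.Place k K → K) =
          (Pi.single P (r + o) - FunFld.diag k K r) + FunFld.diag k K r := by abel
      rw [e]
      refine Submodule.add_mem _ (Submodule.mem_sup_left ?_) (Submodule.mem_sup_right ⟨r, rfl⟩)
      intro Q
      by_cases hQ : Q = P
      · subst hQ
        rw [Pi.sub_apply, Pi.single_eq_same, diag_apply]
        have : r + o - r = o := by ring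
        rw [this]
        have := ho Q (by simp)
        simpa using this
      · rw [Pi.sub_apply, Pi.single_eq_of_ne hQ, diag_apply, zero_sub, Valuation.map_neg]
        have := hr Q hQ
        simpa using this
  have e := ψ.quotKerEquivOfSurjective hsurj
  rw [hker] at e
  obtain ⟨h1, h2⟩ := finrank_adele_quotient hK (0 : FunFld.Divisor k K)
  refine ⟨LinearEquiv.finiteDimensional e.symm, ?_⟩
  rw [e.finrank_eq]
  rw [delta_zero hK, sub_zero] at h2
  exact_mod_cast h2

end Groth.Agent.S16099
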