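import Groth.Statements.S16104
import Mathlib

set_option autoImplicit false
universe u v
open LunaSt

namespace Groth.Agent.S16104

/-- Case of local rings. Let φ : A → B be a local homomorphism of Noetherian local rings whose composite
A → B/m_B² is surjective (the first infinitesimal neighbourhoods give a closed immersion), and
assume that A/m_A^(n+1) and B/m_B^(n+1) have the same length for every n (the associated graded
modules of the two maximal ideals have pieces of the same dimension over the common residue field).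
Then for every n the composite A → B/m_B^(n+1) is surjective with kernel m_A^(n+1): φ identifies all
infinitesimal neighbourhoods. (The published statement is for a pointed morphism of Noetherian local
algebraic stacks; its proof reduces to this case of local rings.) -/
theorem result
    (A : Type u) (B : Type v) [CommRing A] [CommRing B] [IsLocalRing A] [IsLocalRing B]
    [IsNoetherianRing A] [IsNoetherianRing B] (φ : A →+* B) [IsLocalHom φ]
    (h1 : Function.Surjective ((Ideal.Quotient.mk (IsLocalRing.maximalIdeal B ^ 2)).comp φ))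
    (hlen : ∀ n : ℕ, Module.length A (A ⧸ IsLocalRing.maximalIdeal A ^ (n + 1)) =
      Module.length B (B ⧸ IsLocalRing.maximalIdeal B ^ (n + 1))) (n : ℕ) :
    Function.Surjective ((Ideal.Quotient.mk (IsLocalRing.maximalIdeal B ^ (n + 1))).comp φ) ∧
      RingHom.ker ((Ideal.Quotient.mk (IsLocalRing.maximalIdeal B ^ (n + 1))).comp φ) =
        IsLocalRing.maximalIdeal A ^ (n + 1) := by
  classical
  -- Step 0: B = φ(A) + m_B
  have hB1 : ∀ b : B, ∃ a : A, b - φ a ∈ IsLocalRing.maximalIdeal B := by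
    intro b
    obtain ⟨a, ha⟩ := h1 (Ideal.Quotient.mk _ b)
    refine ⟨a, ?_⟩
    have h2 : b - φ a ∈ IsLocalRing.maximalIdeal B ^ 2 := by
      rw [← Ideal.Quotient.eq_zero_iff_mem, map_sub, sub_eq_zero]
      exact ha.symm
    exact Ideal.pow_le_self (by norm_num) h2
  have hφm : ∀ a ∈ IsLocalRing.maximalIdeal A, φ a ∈ IsLocalRing.maximalIdeal B := by
    intro a ha
    rw [IsLocalRing.mem_maximalIdeal, mem_nonunits_iff] at ha ⊢
    exact fun h => ha (isUnit_of_map_unit φ a h)
  have hmap_le : Ideal.map φ (IsLocalRing.maximalIdeal A) ≤ IsLocalRing.maximalIdeal B := by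
    rw [Ideal.map_le_iff_le_comap]
    exact fun a ha => hφm a ha
  -- Step 1: m_B = m_A B
  have hmB : IsLocalRing.maximalIdeal B = Ideal.map φ (IsLocalRing.maximalIdeal A) := by
    apply le_antisymm _ hmap_le
    apply Submodule.le_of_le_smul_of_le_jacobson_bot (I := IsLocalRing.maximalIdeal B)
      (IsNoetherian.noetherian _) (IsLocalRing.maximalIdeal_le_jacobson _)
    intro b hb
    obtain ⟨a, ha⟩ := h1 (Ideal.Quotient.mk _ b)
    have h2 : b - φ a ∈ IsLocalRing.maximalIdeal B ^ 2 := by
      rw [← Ideal.Quotient.eq_zero_iff_mem, map_sub, sub_eq_zero]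
      exact ha.symm
    have h3 : φ a ∈ IsLocalRing.maximalIdeal B := by
      have : φ a = b - (b - φ a) := by ring
      rw [this]
      exact Ideal.sub_mem _ hb (Ideal.pow_le_self (by norm_num) h2)
    have h4 : a ∈ IsLocalRing.maximalIdeal A := by
      rw [IsLocalRing.mem_maximalIdeal, mem_nonunits_iff] at h3 ⊢
      exact fun h => h3 (h.map φ)
    have : b = φ a + (b - φ a) := by ring
    rw [this]
    apply Submodule.add_mem_sup (Ideal.mem_map_of_mem φ h4)
    rw [smul_eq_mul, ← pow_two]
    exact h2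
  have hmBpow : ∀ k : ℕ, IsLocalRing.maximalIdeal B ^ k = Ideal.map φ (IsLocalRing.maximalIdeal A ^ k) := by
    intro k
    rw [Ideal.map_pow, ← hmB]
  -- inner claim
  have inner : ∀ k : ℕ, ∀ c ∈ Ideal.map φ (IsLocalRing.maximalIdeal A ^ k),
      ∃ a ∈ IsLocalRing.maximalIdeal A ^ k, c - φ a ∈ IsLocalRing.maximalIdeal B ^ (k + 1) := by
    intro k c hc
    refine Submodule.span_induction (p := fun c _ => ∃ a ∈ IsLocalRing.maximalIdeal A ^ k,
      c - φ a ∈ IsLocalRing.maximalIdeal B ^ (k + 1)) ?_ ?_ ?_ ?_ hc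
    · rintro _ ⟨x, hx, rfl⟩
      exact ⟨x, hx, by simp⟩
    · exact ⟨0, Ideal.zero_mem _, by simp⟩
    · rintro x y _ _ ⟨a₁, ha₁, h₁⟩ ⟨a₂, ha₂, h₂⟩
      refine ⟨a₁ + a₂, Ideal.add_mem _ ha₁ ha₂, ?_⟩
      have : x + y - φ (a₁ + a₂) = (x - φ a₁) + (y - φ a₂) := by rw [map_add]; ring
      rw [this]
      exact Ideal.add_mem _ h₁ h₂
    · rintro b' x _ ⟨a, ha, h⟩
      obtain ⟨a', ha'⟩ := hB1 b'
      refine ⟨a' * a, Ideal.mul_mem_left _ _ ha, ?_⟩
      have hφa : φ a ∈ IsLocalRing.maximalIdeal B ^ k := by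
        rw [hmBpow]; exact Ideal.mem_map_of_mem φ ha
      have : b' • x - φ (a' * a) = b' * (x - φ a) + (b' - φ a') * φ a := by
        rw [map_mul, smul_eq_mul]; ring
      rw [this]
      refine Ideal.add_mem _ (Ideal.mul_mem_left _ _ h) ?_
      rw [pow_succ']
      exact Ideal.mul_mem_mul ha' hφa
  -- Step 2
  have step2 : ∀ k : ℕ, ∀ b : B, ∃ a : A, b - φ a ∈ IsLocalRing.maximalIdeal B ^ k := by
    intro k
    induction k with
    | zero => intro b; exact ⟨0, by simp⟩
    | succ k ih =>
      intro b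
      obtain ⟨a, ha⟩ := ih b
      rw [hmBpow] at ha
      obtain ⟨a', _, ha'⟩ := inner k _ ha
      refine ⟨a + a', ?_⟩
      have : b - φ (a + a') = b - φ a - φ a' := by rw [map_add]; ring
      rw [this]; exact ha'
  have hψ : Function.Surjective ((Ideal.Quotient.mk (IsLocalRing.maximalIdeal B ^ (n + 1))).comp φ) := by
    intro y
    obtain ⟨b, rfl⟩ := Ideal.Quotient.mk_surjective y
    obtain ⟨a, ha⟩ := step2 (n + 1) b
    refine ⟨a, ?_⟩
    rw [RingHom.comp_apply, eq_comm, ← sub_eq_zero, ← map_sub, Ideal.Quotient.eq_zero_iff_mem]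
    exact ha
  have hle : IsLocalRing.maximalIdeal A ^ (n + 1) ≤
      RingHom.ker ((Ideal.Quotient.mk (IsLocalRing.maximalIdeal B ^ (n + 1))).comp φ) := by
    intro a ha
    rw [RingHom.mem_ker, RingHom.comp_apply, Ideal.Quotient.eq_zero_iff_mem, hmBpow]
    exact Ideal.mem_map_of_mem φ ha
  refine ⟨hψ, le_antisymm ?_ hle⟩
  -- length argument
  set ψ := (Ideal.Quotient.mk (IsLocalRing.maximalIdeal B ^ (n + 1))).comp φ with hψdef
  let _ : Algebra A (B ⧸ IsLocalRing.maximalIdeal B ^ (n + 1)) := ψ.toAlgebra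
  have hsurjA : Function.Surjective (algebraMap A (B ⧸ IsLocalRing.maximalIdeal B ^ (n + 1))) := hψ
  have e : (A ⧸ RingHom.ker ψ) ≃ₗ[A] (B ⧸ IsLocalRing.maximalIdeal B ^ (n + 1)) :=
    (Ideal.quotientKerAlgEquivOfSurjective
      (f := Algebra.ofId A (B ⧸ IsLocalRing.maximalIdeal B ^ (n + 1))) hsurjA).toLinearEquiv
  have hl1 : Module.length A (A ⧸ RingHom.ker ψ)
      = Module.length A (A ⧸ IsLocalRing.maximalIdeal A ^ (n + 1)) := by
    rw [hlen n, e.length_eq, Module.length_eq_of_surjective hsurjA,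
      Module.length_eq_of_surjective (S := B) (R := B ⧸ IsLocalRing.maximalIdeal B ^ (n + 1))
        Ideal.Quotient.mk_surjective]
  have hmin : IsLocalRing.maximalIdeal A ∈ (IsLocalRing.maximalIdeal A ^ (n + 1)).minimalPrimes := by
    refine ⟨⟨(IsLocalRing.maximalIdeal.isMaximal A).isPrime, Ideal.pow_le_self (by omega)⟩, ?_⟩
    rintro q ⟨hq, hqle⟩ _
    exact hq.le_of_pow_le hqle
  have : IsArtinianRing (A ⧸ IsLocalRing.maximalIdeal A ^ (n + 1)) :=
    IsLocalRing.quotient_artinian_of_mem_minimalPrimes_of_isLocalRing _ hmin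
  have : IsArtinian A (A ⧸ IsLocalRing.maximalIdeal A ^ (n + 1)) :=
    isArtinian_of_surjective_algebraMap (Ideal.Quotient.mk_surjective (I := IsLocalRing.maximalIdeal A ^ (n + 1)))
  have e2 := Submodule.quotientQuotientEquivQuotient (IsLocalRing.maximalIdeal A ^ (n + 1)) (RingHom.ker ψ) hle
  have hbot : Submodule.map (Submodule.mkQ (IsLocalRing.maximalIdeal A ^ (n + 1))) (RingHom.ker ψ) = ⊥ := by
    by_contra hne
    have := Submodule.length_quotient_lt _ hne
    rw [e2.length_eq, hl1] at this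
    exact lt_irrefl _ this
  rw [← LinearMap.le_ker_iff_map, Submodule.ker_mkQ] at hbot
  exact hbot

end Groth.Agent.S16104
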