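import Groth.Statements.S18975
import Mathlib
import Groth.Agent.S18859
import Groth.Agent.S12837
import Groth.Agent.S6004
-- import your own Groth.Agent.* helpers here

set_option autoImplicit false
universe u
open CategoryTheory MonoidalCategory CartesianMonoidalCategory MonObj AlgebraicGeometry
open GIT

namespace Groth.Agent.S18975

open CategoryTheory CategoryTheory.Limits AlgebraicGeometry

namespace H5S18975

open MonoidalCategory CartesianMonoidalCategory MonObj Groth.Agent.S18859 Groth.Agent.S12837
  Groth.Agent.S6004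

/-- sections along a morphism with fpqc-local sections and a transporter groupoid -/
theorem sections_of_loc {E Q GE : Scheme.{u}} (v : E ⟶ Q) (R : Presieve Q)
    (hR : R ∈ Scheme.fpqcPrecoverage Q)
    (hsec : ∀ ⦃T : Scheme.{u}⦄ (g : T ⟶ Q), R g → ∃ s : T ⟶ E, s ≫ v = g)
    (m p : GE ⟶ E) (hw : m ≫ v = p ≫ v)
    (hpt : ∀ {W : Scheme.{u}} (p₁ p₂ : W ⟶ E), p₁ ≫ v = p₂ ≫ v →
      ∃ w : W ⟶ GE, w ≫ m = p₁ ∧ w ≫ p = p₂) :
    Function.Injective v.appTop.hom ∧
      ∀ s : Γ(E, ⊤), s ∈ Set.range v.appTop.hom ↔ m.appTop.hom s = p.appTop.hom s := by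
  have hA := fun (x : E ⟶ H5S18859.A1.{u}) hx => H5S18859.desc_of_local_sections v R hR hsec x hx
  constructor
  · intro t t' htt
    obtain ⟨y, -, huniq⟩ := hA (v ≫ H5S18859.fn.symm t) (by
      intro W p₁ p₂ h
      rw [← Category.assoc, ← Category.assoc, h])
    have h1 : H5S18859.fn.symm t = y := huniq _ rfl
    have h2 : H5S18859.fn.symm t' = y := by
      apply huniq
      apply H5S18859.fn.injective
      rw [H5S18859.fn_comp, H5S18859.fn_comp, Equiv.apply_symm_apply, Equiv.apply_symm_apply]
      exact htt.symm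
    exact H5S18859.fn.symm.injective (h1.trans h2.symm)
  · intro s
    constructor
    · rintro ⟨t, rfl⟩
      have := congrArg (fun q => q.appTop.hom t) hw
      simp only [Scheme.Hom.comp_appTop, CommRingCat.hom_comp, RingHom.comp_apply] at this
      exact this
    · intro hs
      obtain ⟨y, hy, -⟩ := hA (H5S18859.fn.symm s) (by
        intro W p₁ p₂ h
        obtain ⟨w, rfl, rfl⟩ := hpt p₁ p₂ h
        rw [Category.assoc, Category.assoc]
        congr 1
        apply H5S18859.fn.injective
        rw [H5S18859.fn_comp, H5S18859.fn_comp, Equiv.apply_symm_apply]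
        exact hs)
      refine ⟨H5S18859.fn y, ?_⟩
      rw [← H5S18859.fn_comp, hy, Equiv.apply_symm_apply]

variable {S : Scheme.{u}}

/-- a property of `G ⟶ S` passes to a `G`-torsor `X ⟶ Y` -/
theorem prop_of_torsor_over {P : MorphismProperty Scheme.{u}} [IsZariskiLocalAtTarget P]
    [P.IsStableUnderBaseChange] [P.DescendsAlong (@Surjective ⊓ @Flat ⊓ @QuasiCompact)]
    (G X Y : Over S) [GrpObj G] (a : AlgGrp.Action G X) (φ : X ⟶ Y)
    (hcart : IsPullback a.act (snd G X) φ φ)
    (hloc : NonAbH1.IsLocallyTrivialFor Scheme.fpqcPrecoverage (Over.mk φ.left : Over Y.left))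
    (hG : P G.hom) : P φ.left := by
  obtain ⟨R, hR, hsec⟩ := hloc
  have hcartL : IsPullback a.act.left (snd G X).left φ.left φ.left := hcart.map (Over.forget S)
  have h1 : P (snd G X).left := P.pullback_snd _ _ hG
  have h2 : P (pullback.snd φ.left φ.left) := by
    have e : hcartL.isoPullback.hom ≫ pullback.snd φ.left φ.left = (snd G X).left :=
      hcartL.isoPullback_hom_snd
    have e' : pullback.snd φ.left φ.left = hcartL.isoPullback.inv ≫ (snd G X).left := by
      rw [Iso.eq_inv_comp]
      exact e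
    rw [e']
    exact (P.cancel_left_of_respectsIso _ _).2 h1
  apply H5S12837.descends_fpqc φ.left R hR
  intro S' g hg
  obtain ⟨s, hs⟩ := hsec g hg
  have hs' : s ≫ φ.left = g := hs
  refine H5S12837.of_factor φ.left φ.left h2 s (p₁ := pullback.fst φ.left g) ?_
  rw [hs']
  exact IsPullback.of_hasPullback φ.left g

theorem sections_main (G X Y : Over S) [GrpObj G] (a : AlgGrp.Action G X) (φ : X ⟶ Y)
    (hcart : IsPullback a.act (snd G X) φ φ)
    (hloc : NonAbH1.IsLocallyTrivialFor Scheme.fpqcPrecoverage (Over.mk φ.left : Over Y.left))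
    (U : Y.left.Opens) :
    Function.Injective (φ.left.app U) ∧
      Set.range (φ.left.app U) = {f | GIT.IsInvSection a φ U f} := by
  obtain ⟨R, hR, hsec⟩ := hloc
  have hcartL : IsPullback a.act.left (snd G X).left φ.left φ.left := hcart.map (Over.forget S)
  set V : X.left.Opens := φ.left ⁻¹ᵁ U with hV
  set Wo : (G ⊗ X).left.Opens := a.act.left ⁻¹ᵁ V ⊓ (snd G X).left ⁻¹ᵁ V with hWo
  let v : V.toScheme ⟶ U.toScheme := φ.left.resLE U V le_rfl
  let m : Wo.toScheme ⟶ V.toScheme := a.act.left.resLE V Wo inf_le_left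
  let p : Wo.toScheme ⟶ V.toScheme := (snd G X).left.resLE V Wo inf_le_right
  have hv : v ≫ U.ι = V.ι ≫ φ.left := Scheme.Hom.resLE_comp_ι _ _
  have hm : m ≫ V.ι = Wo.ι ≫ a.act.left := Scheme.Hom.resLE_comp_ι _ _
  have hp : p ≫ V.ι = Wo.ι ≫ (snd G X).left := Scheme.Hom.resLE_comp_ι _ _
  -- the covering
  obtain ⟨J, T, g, rfl⟩ := R.exists_eq_ofArrows
  have hR' : Presieve.ofArrows (fun j => pullback (g j) U.ι) (fun j => pullback.snd (g j) U.ι)
      ∈ Scheme.fpqcPrecoverage U.toScheme :=
    Precoverage.mem_coverings_of_isPullback g hR U.ι _ (fun j => pullback.fst (g j) U.ι)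
      (fun j => (IsPullback.of_hasPullback (g j) U.ι).flip)
  have hsec' : ∀ ⦃T' : Scheme.{u}⦄ (g' : T' ⟶ U.toScheme),
      Presieve.ofArrows (fun j => pullback (g j) U.ι) (fun j => pullback.snd (g j) U.ι) g' →
      ∃ s : T' ⟶ V.toScheme, s ≫ v = g' := by
    rintro _ _ ⟨j⟩
    obtain ⟨s, hs⟩ := hsec (g j) (Presieve.ofArrows.mk j)
    have hs' : s ≫ φ.left = g j := hs
    have hc : (pullback.fst (g j) U.ι ≫ s) ≫ φ.left = pullback.snd (g j) U.ι ≫ U.ι := by
      rw [Category.assoc, hs', pullback.condition]
    have hrange : Set.range (pullback.fst (g j) U.ι ≫ s) ⊆ Set.range V.ι := by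
      rintro _ ⟨x, rfl⟩
      rw [Scheme.Opens.range_ι]
      change φ.left ((pullback.fst (g j) U.ι ≫ s) x) ∈ U
      have h3 : φ.left ((pullback.fst (g j) U.ι ≫ s) x) = U.ι (pullback.snd (g j) U.ι x) :=
        congrArg (fun q => q.base x) hc
      rw [h3]
      exact (pullback.snd (g j) U.ι x).2
    refine ⟨IsOpenImmersion.lift V.ι (pullback.fst (g j) U.ι ≫ s) hrange, ?_⟩
    rw [← cancel_mono U.ι, Category.assoc, hv, IsOpenImmersion.lift_fac_assoc, hc]
  have hw : m ≫ v = p ≫ v := by
    rw [← cancel_mono U.ι, Category.assoc, Category.assoc, hv, reassoc_of% hm, reassoc_of% hp,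
      hcartL.w]
  have hpt : ∀ {W : Scheme.{u}} (p₁ p₂ : W ⟶ V.toScheme), p₁ ≫ v = p₂ ≫ v →
      ∃ w : W ⟶ Wo.toScheme, w ≫ m = p₁ ∧ w ≫ p = p₂ := by
    intro W p₁ p₂ h
    have hc : (p₁ ≫ V.ι) ≫ φ.left = (p₂ ≫ V.ι) ≫ φ.left := by
      rw [Category.assoc, Category.assoc, ← hv, reassoc_of% h]
    let w₀ := hcartL.lift (p₁ ≫ V.ι) (p₂ ≫ V.ι) hc
    have hw1 : w₀ ≫ a.act.left = p₁ ≫ V.ι := hcartL.lift_fst _ _ _
    have hw2 : w₀ ≫ (snd G X).left = p₂ ≫ V.ι := hcartL.lift_snd _ _ _
    have hrange : Set.range w₀ ⊆ Set.range Wo.ι := by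
      rintro _ ⟨x, rfl⟩
      rw [Scheme.Opens.range_ι]
      refine ⟨?_, ?_⟩
      · change a.act.left (w₀ x) ∈ V
        have := congrArg (fun q => q.base x) hw1
        simp only [Scheme.Hom.comp_base, TopCat.comp_app] at this
        rw [this]
        exact (p₁ x).2
      · change (snd G X).left (w₀ x) ∈ V
        have := congrArg (fun q => q.base x) hw2
        simp only [Scheme.Hom.comp_base, TopCat.comp_app] at this
        rw [this]
        exact (p₂ x).2
    refine ⟨IsOpenImmersion.lift Wo.ι w₀ hrange, ?_, ?_⟩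
    · rw [← cancel_mono V.ι, Category.assoc, hm, IsOpenImmersion.lift_fac_assoc, hw1]
    · rw [← cancel_mono V.ι, Category.assoc, hp, IsOpenImmersion.lift_fac_assoc, hw2]
  obtain ⟨hinj, hrange⟩ := sections_of_loc v _ hR' hsec' m p hw hpt
  -- comparison squares
  have sqA : U.topIso.hom ≫ φ.left.appLE U V le_rfl = v.appTop ≫ V.topIso.hom :=
    (arrowResLEAppIso φ.left U V le_rfl).hom.w
  have sqB : V.topIso.hom ≫ a.act.left.appLE V Wo inf_le_left = m.appTop ≫ Wo.topIso.hom :=
    (arrowResLEAppIso a.act.left V Wo inf_le_left).hom.w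
  have sqC : V.topIso.hom ≫ (snd G X).left.appLE V Wo inf_le_right = p.appTop ≫ Wo.topIso.hom :=
    (arrowResLEAppIso (snd G X).left V Wo inf_le_right).hom.w
  have happ : φ.left.app U = φ.left.appLE U V le_rfl := Scheme.Hom.app_eq_appLE _
  have sqA' : ∀ t, φ.left.app U (U.topIso.hom t) = V.topIso.hom (v.appTop t) := by
    intro t
    rw [happ]
    exact congrArg (fun q => q.hom t) sqA
  have sqB' : ∀ f, a.act.left.appLE V Wo inf_le_left (V.topIso.hom f) =
      Wo.topIso.hom (m.appTop f) := fun f => congrArg (fun q => q.hom f) sqB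
  have sqC' : ∀ f, (snd G X).left.appLE V Wo inf_le_right (V.topIso.hom f) =
      Wo.topIso.hom (p.appTop f) := fun f => congrArg (fun q => q.hom f) sqC
  have bijU := ConcreteCategory.bijective_of_isIso U.topIso.hom
  have bijV := ConcreteCategory.bijective_of_isIso V.topIso.hom
  have bijW := ConcreteCategory.bijective_of_isIso Wo.topIso.hom
  constructor
  · intro t t' htt
    obtain ⟨t₀, rfl⟩ := bijU.2 t
    obtain ⟨t₀', rfl⟩ := bijU.2 t'
    rw [sqA', sqA'] at htt
    rw [hinj (bijV.1 htt)]
  · ext f
    obtain ⟨f', rfl⟩ := bijV.2 f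
    simp only [Set.mem_range, Set.mem_ofPred_eq]
    change _ ↔ a.act.left.appLE V Wo inf_le_left (V.topIso.hom f') =
      (snd G X).left.appLE V Wo inf_le_right (V.topIso.hom f')
    rw [sqB', sqC']
    constructor
    · rintro ⟨t, ht⟩
      obtain ⟨t₀, rfl⟩ := bijU.2 t
      rw [sqA'] at ht
      have h1 : f' ∈ Set.range v.appTop.hom := ⟨t₀, bijV.1 ht⟩
      rw [(hrange f').1 h1]
    · intro h
      obtain ⟨t₀, ht₀⟩ := (hrange f').2 (bijW.1 h)
      refine ⟨U.topIso.hom t₀, ?_⟩
      rw [sqA']
      congr 1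

theorem main (k : Type u) [Field k]
    (G X Y : Over (Spec (CommRingCat.of k))) [GrpObj G] [IsAffine G.left]
    (a : AlgGrp.Action G X) (φ : X ⟶ Y)
    (hcart : IsPullback a.act (snd G X) φ φ)
    (hloc : NonAbH1.IsLocallyTrivialFor Scheme.fpqcPrecoverage (Over.mk φ.left : Over Y.left)) :
    IsAffineHom φ.left ∧ GIT.IsGeomQuot a φ := by
  have hGaff : IsAffineHom G.hom := inferInstance
  haveI : Subsingleton ↥(Spec (CommRingCat.of k)) :=
    inferInstanceAs (Subsingleton (PrimeSpectrum k))
  have hGflat : Flat G.hom := inferInstance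
  have haff : IsAffineHom φ.left :=
    prop_of_torsor_over (P := @IsAffineHom) G X Y a φ hcart hloc hGaff
  have hflat : Flat φ.left := prop_of_torsor_over (P := @Flat) G X Y a φ hcart hloc hGflat
  have hsurj : Surjective φ.left :=
    prop_of_torsor_over (P := @Surjective) G X Y a φ hcart hloc (H5S12837.surjective_hom G)
  have hcartL : IsPullback a.act.left (snd G X).left φ.left φ.left := hcart.map (Over.forget _)
  refine ⟨haff, ⟨hcart.w, hsurj.surj, ?_, ?_, sections_main G X Y a φ hcart hloc⟩⟩
  · have e : GIT.PsiY a φ hcart.w = hcartL.isoPullback.hom := by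
      apply pullback.hom_ext
      · rw [hcartL.isoPullback_hom_fst]
        exact pullback.lift_fst _ _ _
      · rw [hcartL.isoPullback_hom_snd]
        exact pullback.lift_snd _ _ _
    rw [e]
    exact (inferInstance : Surjective hcartL.isoPullback.hom).surj
  · intro X' Y' i₁ i₂ f' sq
    haveI : Flat f' := MorphismProperty.of_isPullback (P := @Flat) sq.flip hflat
    haveI : Surjective f' := MorphismProperty.of_isPullback (P := @Surjective) sq.flip hsurj
    haveI : IsAffineHom f' := MorphismProperty.of_isPullback (P := @IsAffineHom) sq.flip haff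
    exact Flat.isQuotientMap_of_surjective f'

end H5S18975

/-- Over an algebraically closed field k of characteristic zero, let G be an affine group scheme of
finite type over k acting on a k-scheme X, and let φ : X → Y be a morphism of k-schemes which is a
G-torsor over Y: the square formed by the action G ×_k X → X, the second projection and φ (twice) is
cartesian, and φ acquires sections on the members of some fpqc covering family of Y. Then φ is
affine and (Y, φ) is a geometric quotient: φ is invariant and surjective, G ×_k X → X ×_Y X is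
surjective, φ is universally submersive, and over every open of Y the functions on Y are exactly the
invariant functions on its preimage. (The source defines a torsor by the existence of one fpqc
morphism to Y trivialising it and defines geometric quotients with φ affine and submersive;
universal submersiveness follows because every base change of a torsor is a torsor.) -/
theorem result
    (k : Type u) [Field k] [IsAlgClosed k] [CharZero k]
    (G X Y : Over (Spec (CommRingCat.of k))) [GrpObj G] [IsAffine G.left] [LocallyOfFiniteType G.hom]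
    (a : AlgGrp.Action G X) (φ : X ⟶ Y)
    (hcart : IsPullback a.act (snd G X) φ φ)
    (hloc : NonAbH1.IsLocallyTrivialFor Scheme.fpqcPrecoverage (Over.mk φ.left : Over Y.left)) :
    IsAffineHom φ.left ∧ GIT.IsGeomQuot a φ := by
  exact H5S18975.main k G X Y a φ hcart hloc

end Groth.Agent.S18975
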