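import Groth.Statements.S16127
import Mathlib
import Groth.Agent.S18975
-- import your own Groth.Agent.* helpers here

set_option autoImplicit false
universe u
open CategoryTheory MonoidalCategory CartesianMonoidalCategory MonObj GrpObj AlgebraicGeometry CategoryTheory.Limits
open AlgGrp

namespace Groth.Agent.S16127

open CategoryTheory CategoryTheory.Limits AlgebraicGeometry

namespace H5S16127

open MonoidalCategory CartesianMonoidalCategory MonObj Groth.Agent.S18975

theorem main {S : Scheme.{u}} (G X Y : Over S) [GrpObj G]
    [QuasiCompact X.hom] [QuasiSeparated Y.hom]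
    (a : AlgGrp.Action G X) (f : X ⟶ Y) [Flat f.left] [Surjective f.left]
    (hsq : IsPullback a.act.left (snd G X).left f.left f.left) :
    Function.Injective (f.left.appTop) ∧
      Set.range (f.left.appTop) =
        {s : Γ(X.left, ⊤) | a.act.left.appTop s = (snd G X).left.appTop s} := by
  haveI : QuasiCompact f.left := by
    haveI : QuasiCompact (f.left ≫ Y.hom) := by
      rw [Over.w]
      infer_instance
    exact QuasiCompact.of_comp f.left Y.hom
  obtain ⟨hinj, hrange⟩ := H5S18975.sections_of_loc f.left (Presieve.singleton f.left)
    f.left.singleton_mem_fpqcPrecoverage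
    (by
      rintro _ _ ⟨⟩
      exact ⟨𝟙 _, Category.id_comp _⟩)
    a.act.left (snd G X).left hsq.w
    (fun p₁ p₂ h => ⟨hsq.lift p₁ p₂ h, hsq.lift_fst _ _ _, hsq.lift_snd _ _ _⟩)
  refine ⟨hinj, ?_⟩
  ext s
  exact hrange s

end H5S16127

/-- Over an algebraically closed field k, let G be an algebraic group (a smooth k-group scheme of finite
type) acting by σ on a variety X, and let f : X → Y be a principal G-bundle over a variety Y (X, Y
reduced separated k-schemes of finite type; f flat and surjective, the square σ, p₂ : G × X → X, f,
f cartesian). Then f^* identifies Γ(Y, O_Y) with the invariants Γ(X, O_X)^G: f^* on global sections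
is injective and its range is the set of global functions s on X with σ^*(s) = p₂^*(s). -/
theorem result (k : Type u) [Field k] [IsAlgClosed k]
    (G X Y : Over (Spec (CommRingCat.of k))) [GrpObj G] [Smooth G.hom] [QuasiCompact G.hom]
    [IsReduced X.left] [IsSeparated X.hom] [LocallyOfFiniteType X.hom] [QuasiCompact X.hom]
    [IsReduced Y.left] [IsSeparated Y.hom] [LocallyOfFiniteType Y.hom] [QuasiCompact Y.hom]
    (a : AlgGrp.Action G X) (f : X ⟶ Y) [Flat f.left] [Surjective f.left]
    (hsq : IsPullback a.act.left (snd G X).left f.left f.left) :
    Function.Injective (f.left.appTop) ∧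
      Set.range (f.left.appTop) = {s : Γ(X.left, ⊤) | a.act.left.appTop s = (snd G X).left.appTop s} := by
  exact H5S16127.main G X Y a f hsq

end Groth.Agent.S16127
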