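import Groth.Statements.S1614
import Mathlib
import Groth.Agent.Lib.helper24.TwistTriv

set_option autoImplicit false
universe u
open CategoryTheory CategoryTheory.Limits AlgebraicGeometry
open Constr

namespace Groth.Agent.S1614



/-- Let A be a graded ring, X = Proj A, and f homogeneous of degree d > 0. For every integer n the
restriction of the twisting sheaf O(nd) to the standard open D_+(f) is isomorphic to the structure
sheaf (in particular invertible). -/
theorem result {R A : Type u} [CommRing R] [CommRing A] [Algebra R A] (𝒜 : ℕ → Submodule R A) [GradedAlgebra 𝒜]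
    (d : ℕ) (hd : 0 < d) (f : A) (hf : f ∈ 𝒜 d) (n : ℤ) :
    Nonempty ((Twist.twist 𝒜 (n * d)).restrict (Proj.basicOpen 𝒜 f).ι ≅ Coh.structureModule ↑(Proj.basicOpen 𝒜 f)) := by
  have hfa : ∀ k : ℕ, f ^ k ∈ 𝒜 (k * d) := fun k => by
    have := SetLike.pow_mem_graded k hf
    rw [smul_eq_mul] at this
    exact this
  have hnot : ∀ (k : ℕ) (x : ProjectiveSpectrum 𝒜), x ∈ Proj.basicOpen 𝒜 f →
      f ^ k ∉ x.asHomogeneousIdeal := fun k x hx hmem =>
    (ProjectiveSpectrum.mem_basicOpen 𝒜 f x).mp hx (x.isPrime.mem_of_pow_mem k hmem)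
  refine Groth.Agent.Lib.helper24.TwistTriv.twist_restrict_iso 𝒜 (Proj.basicOpen 𝒜 f) (n * d)
    (hfa n.toNat) (hfa (-n).toNat) ?_ (hnot _) (hnot _)
  have h1 : ((n.toNat : ℤ)) - ((-n).toNat : ℤ) = n := Int.toNat_sub_toNat_neg n
  push_cast
  have h2 : (n.toNat : ℤ) = (-n).toNat + n := by omega
  rw [h2]
  ring

end Groth.Agent.S1614
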