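import Groth.Statements.S1615
import Mathlib
-- import your own Groth.Agent.* helpers here

set_option autoImplicit false
universe u
open CategoryTheory CategoryTheory.Limits AlgebraicGeometry
open Constr

namespace Groth.Agent.S1615

/-- For a graded ring A, quasi-compactness of Proj A is equivalent to the existence of finitely many
homogeneous elements of positive degree generating an ideal whose radical contains the irrelevant
ideal A_+. -/
theorem result {R A : Type u} [CommRing R] [CommRing A] [Algebra R A] (𝒜 : ℕ → Submodule R A) [GradedAlgebra 𝒜] :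
    CompactSpace ↥(Proj 𝒜) ↔ ∃ s : Finset A, (∀ f ∈ s, ∃ d : ℕ, 0 < d ∧ f ∈ 𝒜 d) ∧
      (HomogeneousIdeal.irrelevant 𝒜).toIdeal ≤ (Ideal.span (s : Set A)).radical := by
  classical
  constructor
  · intro hc
    -- finite subcover of the standard cover
    have hcov : (Set.univ : Set ↥(Proj 𝒜)) ⊆
        ⋃ i : (Σ i : PNat, 𝒜 i), ((Proj.basicOpen 𝒜 (i.2 : A) : (Proj 𝒜).Opens) : Set ↥(Proj 𝒜)) := by
      intro x _
      have hx := (Proj.affineOpenCover 𝒜).covers x
      rw [Set.mem_iUnion]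
      refine ⟨(Proj.affineOpenCover 𝒜).idx x, ?_⟩
      have h2 : x ∈ (Proj.awayι 𝒜 (((Proj.affineOpenCover 𝒜).idx x).2 : A)
          ((Proj.affineOpenCover 𝒜).idx x).2.2 ((Proj.affineOpenCover 𝒜).idx x).1.2).opensRange := hx
      rw [Proj.opensRange_awayι] at h2
      exact h2
    obtain ⟨t, ht⟩ := isCompact_univ.elim_finite_subcover
      (fun i : (Σ i : PNat, 𝒜 i) ↦ ((Proj.basicOpen 𝒜 (i.2 : A) : (Proj 𝒜).Opens) : Set ↥(Proj 𝒜)))
      (fun i ↦ (Proj.basicOpen 𝒜 (i.2 : A)).isOpen) hcov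
    refine ⟨t.image (fun i ↦ (i.2 : A)), ?_, ?_⟩
    · intro f hf
      obtain ⟨i, -, rfl⟩ := Finset.mem_image.mp hf
      exact ⟨i.1, i.1.2, i.2.2⟩
    · have hhom : (Ideal.span ((t.image (fun i : (Σ i : PNat, 𝒜 i) ↦ (i.2 : A)) : Finset A) : Set A)).IsHomogeneous 𝒜 := by
        apply Ideal.homogeneous_span
        intro x hx
        obtain ⟨i, -, rfl⟩ := Finset.mem_image.mp (Finset.mem_coe.mp hx)
        exact ⟨i.1, i.2.2⟩
      rw [hhom.radical_eq]
      refine le_sInf ?_
      rintro J ⟨hJh, hJle, hJp⟩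
      by_contra hnot
      let x : ProjectiveSpectrum 𝒜 := ⟨⟨J, hJh⟩, hJp, hnot⟩
      have hx := ht (Set.mem_univ (x : ↥(Proj 𝒜)))
      rw [Set.mem_iUnion₂] at hx
      obtain ⟨i, hit, hxi⟩ := hx
      have : (i.2 : A) ∉ J := hxi
      exact this (hJle (Ideal.subset_span (Finset.mem_coe.mpr (Finset.mem_image_of_mem _ hit))))
  · rintro ⟨s, hs, hle⟩
    have hcov : (Set.univ : Set ↥(Proj 𝒜)) =
        ⋃ f ∈ s, ((Proj.basicOpen 𝒜 f : (Proj 𝒜).Opens) : Set ↥(Proj 𝒜)) := by
      symm
      rw [Set.eq_univ_iff_forall]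
      intro x
      by_contra hx
      simp only [Set.mem_iUnion, not_exists] at hx
      have hsub : Ideal.span (s : Set A) ≤ x.asHomogeneousIdeal.toIdeal := by
        rw [Ideal.span_le]
        intro f hf
        have := hx f (Finset.mem_coe.mp hf)
        by_contra hfx
        exact this hfx
      have : (HomogeneousIdeal.irrelevant 𝒜).toIdeal ≤ x.asHomogeneousIdeal.toIdeal :=
        hle.trans (x.isPrime.radical_le_iff.mpr hsub)
      exact x.not_irrelevant_le this
    rw [← isCompact_univ_iff, hcov]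
    refine s.isCompact_biUnion fun f hf ↦ ?_
    obtain ⟨d, hd, hfd⟩ := hs f hf
    exact (Proj.isAffineOpen_basicOpen 𝒜 f hfd hd).isCompact

end Groth.Agent.S1615
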