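import Groth.Statements.S16156
import Mathlib

set_option autoImplicit false
universe u
open MukaiVec

namespace Groth.Agent.S16156

section helpers




theorem arith (n r d χ p q h : ℤ) (hn : 0 < n) (hr : 2 ≤ r) (hd : 0 < d) (hχ : χ < 0)
    (hp : 0 ≤ p) (hodge : 4 * n * p * q ≤ h * h)
    (ht1 : 1 ≤ |d * h - r * q - χ * p|) (ht2 : |d * h - r * q - χ * p| ≤ 2)
    (hexc : ¬ (d = 1 ∧ χ = -1 ∧ h = 1 ∧ 2 * p * q = 0))
    (hr2 : r = 2 → ¬ (p = 0 ∧ h = 0)) :
    (0 ≤ 2 * n * d * p - r * h ↔ 0 ≤ χ * h - 2 * n * d * q) := by
  obtain ⟨htl, htu⟩ := abs_le.1 ht2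
  have hnd : 0 < n * d := mul_pos hn hd
  constructor
  · intro hA
    by_contra hB
    push Not at hB
    rcases lt_trichotomy h 0 with hh | hh | hh
    · -- h < 0
      have hk : 1 ≤ -h := by omega
      have hχh : 0 < χ * h := mul_pos_of_neg_of_neg hχ hh
      have hq : 1 ≤ q := by
        by_contra hq
        have : q ≤ 0 := by omega
        have : n * d * q ≤ 0 := mul_nonpos_of_nonneg_of_nonpos hnd.le this
        nlinarith
      rcases eq_or_lt_of_le hp with hp0 | hppos
      · -- p = 0
        have hp0' : p = 0 := hp0.symm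
        subst hp0'
        have h1 : d * h ≤ -1 := by nlinarith
        have h2 : 2 ≤ r * q := by nlinarith
        nlinarith
      · have hp1 : 1 ≤ p := by omega
        -- (-χ) * (-h) * p < 2ndq p
        have e1 : χ * h * p < 2 * n * d * q * p := by
          have : χ * h < 2 * n * d * q := by linarith
          exact mul_lt_mul_of_pos_right this hppos
        -- (-χ) p ≥ d k + r q - 2 ; times k
        have e2 : (-h) * (d * (-h) + r * q - 2) ≤ (-h) * ((-χ) * p) := by
          apply mul_le_mul_of_nonneg_left _ (by omega)
          linarith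
        have e3 : d * (4 * n * p * q) ≤ d * (h * h) := mul_le_mul_of_nonneg_left hodge hd.le
        have e4 : 0 ≤ (r * q - 2) * (-h) := by
          apply mul_nonneg _ (by omega)
          nlinarith
        have e5 : 0 ≤ n * d * p * q := by positivity
        nlinarith
    · -- h = 0
      subst hh
      have hq : 1 ≤ q := by
        by_contra hq
        have : q ≤ 0 := by omega
        have : n * d * q ≤ 0 := mul_nonpos_of_nonneg_of_nonpos hnd.le this
        nlinarith
      have hp0 : p = 0 := by
        by_contra hne
        have : 1 ≤ p := by omega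
        have : 0 < n * p * q := by positivity
        nlinarith
      subst hp0
      have hrq : r * q ≤ 2 := by nlinarith
      have hr2' : r = 2 := by
        by_contra hne
        have : 3 ≤ r := by omega
        nlinarith
      exact hr2 hr2' ⟨rfl, rfl⟩
    · -- h > 0
      have hh1 : 1 ≤ h := by omega
      have hp1 : 1 ≤ p := by
        by_contra hne
        have hp0 : p = 0 := by omega
        subst hp0
        nlinarith
      have hχp : 1 ≤ -χ * p := by nlinarith
      have hdh : 1 ≤ d * h := by nlinarith
      rcases lt_trichotomy q 0 with hq | hq | hq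
      · have : 2 ≤ -(r * q) := by nlinarith
        nlinarith
      · subst hq
        have h1 : d * h = 1 := by nlinarith
        have h2 : -χ * p = 1 := by nlinarith
        have hd1 : d = 1 := by
          by_contra hne
          have : 2 ≤ d := by omega
          nlinarith
        have hh1' : h = 1 := by
          by_contra hne
          have : 2 ≤ h := by omega
          nlinarith
        have hχ1 : χ = -1 := by
          by_contra hne
          have : χ ≤ -2 := by omega
          nlinarith
        exact hexc ⟨hd1, hχ1, hh1', by ring⟩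
      · have hq1 : 1 ≤ q := by omega
        -- 4ndpq ≥ 2 q r h
        have e1 : (2 * q) * (r * h) ≤ (2 * q) * (2 * n * d * p) :=
          mul_le_mul_of_nonneg_left (by linarith) (by omega)
        have e2 : d * (4 * n * p * q) ≤ d * (h * h) := mul_le_mul_of_nonneg_left hodge hd.le
        have e3 : h * (2 * q * r) ≤ h * (d * h) := by nlinarith
        have e4 : 2 * q * r ≤ d * h := le_of_mul_le_mul_left e3 hh
        have e5 : 2 ≤ q * r := by nlinarith
        nlinarith
  · intro hB
    by_contra hA
    push Not at hA
    have hh : 1 ≤ h := by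
      by_contra hne
      have : h ≤ 0 := by omega
      have : r * h ≤ 0 := mul_nonpos_of_nonneg_of_nonpos (by omega) this
      have : 0 ≤ n * d * p := by positivity
      nlinarith
    have hq : q ≤ -1 := by
      by_contra hne
      have : 0 ≤ q := by omega
      have : 0 ≤ n * d * q := by positivity
      have : χ * h < 0 := mul_neg_of_neg_of_pos hχ (by omega)
      nlinarith
    have h1 : 1 ≤ d * h := by nlinarith
    have h2 : 2 ≤ -(r * q) := by nlinarith
    have h3 : 0 ≤ -(χ * p) := by nlinarith
    nlinarith



end helpers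

/-- Let N be an abelian group with a symmetric integer-valued bilinear form and H an element with H·H =
2n for some n > 0 such that every x with x·H = 0 satisfies x·x ≤ 0 (the Hodge index inequality). Fix
integers r ≥ 2, d > 0 and χ < 0 (a Mukai vector v = (r, dH, χ)) and an isotropic Mukai vector u =
(p, η, q), p ≥ 0, η ∈ N, η·η = 2pq, whose pairing ⟨v, u⟩ = d(H·η) − rq − χp has absolute value 1 or
2. Exclude the case d = 1, χ = −1, H·η = 1, η·η = 0, and when r = 2 also the case p = 0, H·η = 0.
Then the pairings of u∨ = (p, −η, q) with w₀ = (0, rH, −2nd) and with w₁ = (2nd, −χH, 0) are both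
non-negative or both negative: 2ndp − r(H·η) ≥ 0 holds if and only if χ(H·η) − 2ndq ≥ 0 holds. -/
theorem result
    (N : Type u) [AddCommGroup N] (B : LinearMap.BilinForm ℤ N) (hB : ∀ x y : N, B x y = B y x)
    (H : N) (n : ℤ) (hn : 0 < n) (hH : B H H = 2 * n) (hodge : ∀ x : N, B x H = 0 → B x x ≤ 0)
    (r d χ p q : ℤ) (η : N) (hr : 2 ≤ r) (hd : 0 < d) (hχ : χ < 0) (hp : 0 ≤ p)
    (hiso : B η η = 2 * p * q)
    (hvu : 1 ≤ |d * B H η - r * q - χ * p| ∧ |d * B H η - r * q - χ * p| ≤ 2)
    (hexc : ¬ (d = 1 ∧ χ = -1 ∧ B H η = 1 ∧ B η η = 0))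
    (hr2 : r = 2 → ¬ (p = 0 ∧ B H η = 0)) :
    (0 ≤ 2 * n * d * p - r * B H η ↔ 0 ≤ χ * B H η - 2 * n * d * q) := by
  set h := B H η with hh
  have hηH : B η H = h := hB η H
  have hx0 : B ((2 * n) • η - h • H) H = 0 := by
    simp only [map_sub, map_smul, LinearMap.sub_apply, LinearMap.smul_apply, smul_eq_mul, hηH, hH]
    ring
  have hxx := hodge _ hx0
  simp only [map_sub, map_smul, LinearMap.sub_apply, LinearMap.smul_apply, smul_eq_mul, hηH, hH,
    hiso, ← hh] at hxx
  have hodge' : 4 * n * p * q ≤ h * h := by
    have : 2 * n * (4 * n * p * q - h * h) ≤ 0 := by linarith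
    by_contra hne
    push Not at hne
    have : 0 < 2 * n * (4 * n * p * q - h * h) := by
      apply mul_pos (by omega) (by linarith)
    linarith
  rw [hiso] at hexc
  exact arith n r d χ p q h hn hr hd hχ hp hodge' hvu.1 hvu.2 hexc hr2

end Groth.Agent.S16156
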