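import Groth.Statements.S16158
import Mathlib

set_option autoImplicit false
universe u v w
open MadRed

namespace Groth.Agent.S16158

lemma card_le {R : Type u} {M : Type v} [CommRing R] [AddCommGroup M] [Module R M] [IsNoetherian R M]
    (P : Ideal R) [P.IsPrime]
    {ι : Type w} (N : ι → Submodule R M) (hN : iSupIndep N) (t : Finset ι)
    (h : ∀ i ∈ t, ∃ x ∈ N i, P = Submodule.colon ⊥ {x}) :
    t.card ≤ Module.finrank (R ⧸ P) (Submodule.torsionBySet R M P) := by
  classical
  choose! x hxN hxP using h
  have hmem : ∀ i ∈ t, x i ∈ Submodule.torsionBySet R M P := by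
    intro i hi
    rw [Submodule.mem_torsionBySet_iff]
    rintro ⟨a, ha⟩
    have h1 : a ∈ Submodule.colon (⊥ : Submodule R M) {x i} := hxP i hi ▸ ha
    rw [Submodule.mem_colon_singleton] at h1
    simpa using h1
  let v : t → Submodule.torsionBySet R M P := fun i => ⟨x i, hmem i i.2⟩
  have hli : LinearIndependent (R ⧸ P) v := by
    rw [linearIndependent_iff']
    intro s g hg i hi
    obtain ⟨r, hr⟩ : ∃ r : t → R, ∀ j, Ideal.Quotient.mk P (r j) = g j :=
      ⟨fun j => (Ideal.Quotient.mk_surjective (g j)).choose,
        fun j => (Ideal.Quotient.mk_surjective (g j)).choose_spec⟩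
    have hsum : ∑ j ∈ s, r j • x j = 0 := by
      have h2 := congrArg Subtype.val hg
      simp only [← hr, Submodule.torsionBySet.mk_smul, Submodule.coe_sum, Submodule.coe_smul,
        ZeroMemClass.coe_zero, v] at h2
      exact h2
    -- transfer to a sum over ι
    have hsum' : ∑ j ∈ s.map (Function.Embedding.subtype _),
        (if hj : j ∈ t then r ⟨j, hj⟩ • x j else 0) = 0 := by
      rw [Finset.sum_map]
      rw [← hsum]
      apply Finset.sum_congr rfl
      intro j _
      simp [j.2]
    have h3 := (iSupIndep_iff_finsetSum_eq_zero_imp_eq_zero N).mp hN _ _ (by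
      intro j hj
      split_ifs with hjt
      · exact (N j).smul_mem _ (hxN j hjt)
      · exact (N j).zero_mem) hsum' i.1 (by
        simp only [Finset.mem_map, Function.Embedding.coe_subtype]
        exact ⟨i, hi, rfl⟩)
    simp only [i.2, dite_true] at h3
    rw [← hr i, Ideal.Quotient.eq_zero_iff_mem, hxP i i.2, Submodule.mem_colon_singleton]
    simpa using h3
  have : Module.Finite (R ⧸ P) (Submodule.torsionBySet R M P) :=
    Module.Finite.of_restrictScalars_finite R _ _
  have := hli.fintype_card_le_finrank
  simpa using this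

/-- Let R be a commutative Noetherian ring and M a finitely generated R-module. Then there is a natural
number n such that in every decomposition of M as an internal direct sum of a family of submodules,
at most n of the summands are nonzero (the nonzero summands are indexed by a finite set of size at
most n). -/
theorem result (R : Type u) [CommRing R] [IsNoetherianRing R]
    (M : Type v) [AddCommGroup M] [Module R M] [Module.Finite R M] :
    ∃ n : ℕ, ∀ (ι : Type w) [DecidableEq ι] (N : ι → Submodule R M), DirectSum.IsInternal N →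
      ∃ s : Finset ι, s.card ≤ n ∧ ∀ i, N i ≠ ⊥ → i ∈ s := by
  classical
  have hfin := associatedPrimes.finite R M
  have : IsNoetherian R M := isNoetherian_of_isNoetherianRing_of_finite R M
  refine ⟨∑ P ∈ hfin.toFinset, Module.finrank (R ⧸ P) (Submodule.torsionBySet R M P), ?_⟩
  intro ι _ N hN
  have hind : iSupIndep N := hN.submodule_iSupIndep
  have hfinN : {i | N i ≠ ⊥}.Finite := Submodule.finite_ne_bot_of_iSupIndep hind
  refine ⟨hfinN.toFinset, ?_, fun i hi => by simpa using hi⟩
  have hass : ∀ i ∈ hfinN.toFinset, ∃ P ∈ hfin.toFinset, ∃ x ∈ N i,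
      P = Submodule.colon (⊥ : Submodule R M) {x} := by
    intro i hi
    have hne : N i ≠ ⊥ := by simpa using hi
    have : Nontrivial (N i) := Submodule.nontrivial_iff_ne_bot.mpr hne
    obtain ⟨P, hP⟩ := associatedPrimes.nonempty R (N i)
    obtain ⟨hprime, y, hy⟩ := isAssociatedPrime_iff.mp hP
    refine ⟨P, ?_, y.1, y.2, ?_⟩
    · rw [Set.Finite.mem_toFinset]
      exact hP.map_of_injective (N i).subtype (N i).subtype_injective
    · rw [hy]
      ext r
      simp only [Submodule.mem_colon_singleton, Submodule.mem_bot]
      rw [← Submodule.coe_smul, ZeroMemClass.coe_eq_zero]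
  have hsub : hfinN.toFinset ⊆ hfin.toFinset.biUnion (fun P => hfinN.toFinset.filter
      (fun i => ∃ x ∈ N i, P = Submodule.colon (⊥ : Submodule R M) {x})) := by
    intro i hi
    obtain ⟨P, hP, hx⟩ := hass i hi
    rw [Finset.mem_biUnion]
    exact ⟨P, hP, Finset.mem_filter.mpr ⟨hi, hx⟩⟩
  calc hfinN.toFinset.card ≤ _ := Finset.card_le_card hsub
    _ ≤ ∑ P ∈ hfin.toFinset, (hfinN.toFinset.filter
      (fun i => ∃ x ∈ N i, P = Submodule.colon (⊥ : Submodule R M) {x})).card :=
        Finset.card_biUnion_le
    _ ≤ _ := Finset.sum_le_sum (fun P hP => by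
        have : P.IsPrime := ((Set.Finite.mem_toFinset _).mp hP).isPrime
        exact card_le P N hind _ (fun i hi => (Finset.mem_filter.mp hi).2))

end Groth.Agent.S16158
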