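import Groth.Statements.S16159
import Mathlib

set_option autoImplicit false
universe u v w x
open MadRed

namespace Groth.Agent.S16159

section helpers

variable {k : Type u} [Field k] {R : Type v} [CommRing R] [Algebra k R]
  {V : Type w} [AddCommGroup V] [Module R V] [Module k V] [IsScalarTower k R V]

theorem comp_mem (g : V →ₗ[k] V) (U : Submodule k V) (hU : ∀ u ∈ U, g u ∈ U) (S : Finset k) :
    ∀ (w : k → V), (∀ μ ∈ S, g (w μ) = μ • w μ) → ∑ μ ∈ S, w μ ∈ U → ∀ μ ∈ S, w μ ∈ U := by
  classical
  induction S using Finset.induction_on with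
  | empty => intro w _ _ μ hμ; simp at hμ
  | insert ν S' hν ih =>
    intro w hw hsum
    rw [Finset.sum_insert hν] at hsum
    have h1 : g (w ν + ∑ μ ∈ S', w μ) - ν • (w ν + ∑ μ ∈ S', w μ) ∈ U :=
      U.sub_mem (hU _ hsum) (U.smul_mem _ hsum)
    have h2 : g (w ν + ∑ μ ∈ S', w μ) - ν • (w ν + ∑ μ ∈ S', w μ) =
        ∑ μ ∈ S', (μ - ν) • w μ := by
      rw [map_add, map_sum, hw ν (Finset.mem_insert_self _ _), smul_add, Finset.smul_sum,
        add_sub_add_left_eq_sub, ← Finset.sum_sub_distrib]
      apply Finset.sum_congr rfl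
      intro μ hμ
      rw [hw μ (Finset.mem_insert_of_mem hμ), sub_smul]
    rw [h2] at h1
    have h3 := ih (fun μ => (μ - ν) • w μ) (by
      intro μ hμ
      change g ((μ - ν) • w μ) = μ • ((μ - ν) • w μ)
      rw [map_smul, hw μ (Finset.mem_insert_of_mem hμ), smul_comm]) h1
    have h4 : ∀ μ ∈ S', w μ ∈ U := by
      intro μ hμ
      have hne : μ - ν ≠ 0 := by
        intro h
        rw [sub_eq_zero] at h
        subst h
        exact hν hμ
      have := U.smul_mem (μ - ν)⁻¹ (h3 μ hμ)
      rwa [smul_smul, inv_mul_cancel₀ hne, one_smul] at this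
    intro μ hμ
    rw [Finset.mem_insert] at hμ
    rcases hμ with rfl | hμ
    · have : w μ = (w μ + ∑ μ ∈ S', w μ) - ∑ μ ∈ S', w μ := by abel
      rw [this]
      exact U.sub_mem hsum (U.sum_mem h4)
    · exact h4 μ hμ

theorem exists_decomp (g : V →ₗ[k] V) (hg : ⨆ μ, Module.End.eigenspace g μ = ⊤)
    (U : Submodule k V) (hU : ∀ u ∈ U, g u ∈ U) (u : V) (hu : u ∈ U) :
    ∃ (S : Finset k) (w : k → V), (∀ μ ∈ S, w μ ∈ U ∧ g (w μ) = μ • w μ) ∧
      ∑ μ ∈ S, w μ = u := by
  have hu' : u ∈ ⨆ μ, Module.End.eigenspace g μ := by rw [hg]; trivial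
  obtain ⟨m, hm, hsum⟩ := (Submodule.mem_iSup_iff_exists_finsupp _ _).mp hu'
  have heig : ∀ μ ∈ m.support, g (m μ) = μ • m μ :=
    fun μ _ => Module.End.mem_eigenspace_iff.mp (hm μ)
  have hsum' : ∑ μ ∈ m.support, m μ = u := hsum
  have := comp_mem g U hU m.support m heig (by rw [hsum']; exact hu)
  exact ⟨m.support, m, fun μ hμ => ⟨this μ hμ, heig μ hμ⟩, hsum'⟩

/-- the eigenspace as an `R`-submodule -/
def eigR (f : Module.End R V) (μ : k) : Submodule R V where
  carrier := {x | f x = μ • x}
  add_mem' := by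
    intro a b ha hb
    simp only [Set.mem_ofPred_eq] at *
    rw [map_add, ha, hb, smul_add]
  zero_mem' := by simp
  smul_mem' := by
    intro r x hx
    simp only [Set.mem_ofPred_eq] at *
    rw [map_smul, hx, smul_comm]

theorem mem_eigR (f : Module.End R V) (μ : k) (x : V) : x ∈ eigR f μ ↔ f x = μ • x := Iff.rfl

theorem eigR_restrictScalars (f : Module.End R V) (μ : k) :
    (eigR f μ).restrictScalars k = Module.End.eigenspace (f.restrictScalars k) μ := by
  ext x
  rw [Submodule.restrictScalars_mem, mem_eigR, Module.End.mem_eigenspace_iff]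
  rfl

theorem noeth_case [IsNoetherian R V] {ι : Type x} (f : ι → Module.End R V)
    (hcomm : ∀ i j, Commute (f i) (f j))
    (hdiag : ∀ i, ⨆ μ : k, Module.End.eigenspace ((f i).restrictScalars k) μ = ⊤) :
    ⨆ χ : ι → k, ⨅ i, Module.End.eigenspace ((f i).restrictScalars k) (χ i) = ⊤ := by
  classical
  have claim : ∀ U' : Submodule R V, (∀ j, ∀ u ∈ U', f j u ∈ U') →
      ∀ U : Submodule R V, (∀ j, ∀ u ∈ U, f j u ∈ U) → Disjoint U U' → ∀ u ∈ U,
        u ∈ ⨆ χ : ι → k, ⨅ i, Module.End.eigenspace ((f i).restrictScalars k) (χ i) := by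
    intro U'
    induction U' using WellFoundedGT.induction with
    | ind U' ih =>
      intro hU' U hU hdisj
      by_cases hsc : ∀ i, ∃ μ : k, ∀ u ∈ U, f i u = μ • u
      · choose χ hχ using hsc
        intro u hu
        refine Submodule.mem_iSup_of_mem χ ?_
        rw [Submodule.mem_iInf]
        intro i
        rw [Module.End.mem_eigenspace_iff]
        exact hχ i u hu
      · push Not at hsc
        obtain ⟨i, hi⟩ := hsc
        have hstE : ∀ (ν : k) (j : ι), ∀ x ∈ eigR (f i) ν, f j x ∈ eigR (f i) ν := by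
          intro ν j x hx
          rw [mem_eigR] at hx ⊢
          have hc := congrArg (fun φ => φ x) (hcomm i j).eq
          simp only [Module.End.mul_apply] at hc
          rw [hc, hx, LinearMap.map_smul_of_tower]
        intro u hu
        obtain ⟨S, w, hw, hsum⟩ := exists_decomp ((f i).restrictScalars k) (hdiag i)
          (U.restrictScalars k) (fun u hu => hU i u hu) u hu
        rw [← hsum]
        refine Submodule.sum_mem _ (fun μ hμ => ?_)
        have hstSup : ∀ j, ∀ x ∈ (⨆ (ν : k) (_ : ν ≠ μ), eigR (f i) ν),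
            f j x ∈ (⨆ (ν : k) (_ : ν ≠ μ), eigR (f i) ν) := by
          intro j x hx
          have : (⨆ (ν : k) (_ : ν ≠ μ), eigR (f i) ν) ≤
              (⨆ (ν : k) (_ : ν ≠ μ), eigR (f i) ν).comap (f j) := by
            apply iSup₂_le
            intro ν hν x hx
            rw [Submodule.mem_comap]
            exact (le_iSup₂ (f := fun (ν : k) (_ : ν ≠ μ) => eigR (f i) ν) ν hν)
              (hstE ν j x hx)
          exact this hx
        have hstC : ∀ j, ∀ x ∈ U ⊓ ⨆ (ν : k) (_ : ν ≠ μ), eigR (f i) ν,
            f j x ∈ U ⊓ ⨆ (ν : k) (_ : ν ≠ μ), eigR (f i) ν :=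
          fun j x hx => ⟨hU j x hx.1, hstSup j x hx.2⟩
        have hstU'' : ∀ j, ∀ x ∈ U' ⊔ (U ⊓ ⨆ (ν : k) (_ : ν ≠ μ), eigR (f i) ν),
            f j x ∈ U' ⊔ (U ⊓ ⨆ (ν : k) (_ : ν ≠ μ), eigR (f i) ν) := by
          intro j x hx
          obtain ⟨a, ha, c, hc, rfl⟩ := Submodule.mem_sup.mp hx
          rw [map_add]
          exact Submodule.add_mem _ (Submodule.mem_sup_left (hU' j a ha))
            (Submodule.mem_sup_right (hstC j c hc))
        have hCne : (U ⊓ ⨆ (ν : k) (_ : ν ≠ μ), eigR (f i) ν) ≠ ⊥ := by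
          obtain ⟨u₀, hu₀, hne⟩ := hi μ
          obtain ⟨S₀, w₀, hw₀, hsum₀⟩ := exists_decomp ((f i).restrictScalars k) (hdiag i)
            (U.restrictScalars k) (fun u hu => hU i u hu) u₀ hu₀
          intro hbot
          apply hne
          have hc : ∑ ν ∈ S₀.erase μ, w₀ ν ∈ (U ⊓ ⨆ (ν : k) (_ : ν ≠ μ), eigR (f i) ν) := by
            refine Submodule.sum_mem _ (fun ν hν => ?_)
            rw [Finset.mem_erase] at hν
            refine ⟨(hw₀ ν hν.2).1, ?_⟩
            exact (le_iSup₂ (f := fun (ν : k) (_ : ν ≠ μ) => eigR (f i) ν) ν hν.1)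
              ((hw₀ ν hν.2).2)
          rw [hbot, Submodule.mem_bot] at hc
          by_cases hμS : μ ∈ S₀
          · rw [← Finset.add_sum_erase S₀ w₀ hμS, hc, add_zero] at hsum₀
            rw [← hsum₀]
            exact (hw₀ μ hμS).2
          · rw [Finset.erase_eq_of_notMem hμS] at hc
            rw [hc] at hsum₀
            rw [← hsum₀, map_zero, smul_zero]
        have hlt : U' < U' ⊔ (U ⊓ ⨆ (ν : k) (_ : ν ≠ μ), eigR (f i) ν) := by
          refine lt_of_le_of_ne le_sup_left ?_
          intro heq
          apply hCne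
          have h1 : (U ⊓ ⨆ (ν : k) (_ : ν ≠ μ), eigR (f i) ν) ≤ U' := by
            rw [heq]; exact le_sup_right
          have h2 : (U ⊓ ⨆ (ν : k) (_ : ν ≠ μ), eigR (f i) ν) ≤ U := inf_le_left
          exact le_bot_iff.mp ((le_inf h2 h1).trans hdisj.le_bot)
        have hdisj' : Disjoint (U ⊓ eigR (f i) μ)
            (U' ⊔ (U ⊓ ⨆ (ν : k) (_ : ν ≠ μ), eigR (f i) ν)) := by
          rw [Submodule.disjoint_def]
          intro x hx1 hx2
          obtain ⟨a, ha, c, hc, rfl⟩ := Submodule.mem_sup.mp hx2
          have ha0 : a = 0 := by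
            have haU : a ∈ U := by
              have : a = (a + c) - c := by abel
              rw [this]
              exact U.sub_mem hx1.1 hc.1
            exact (Submodule.disjoint_def.mp hdisj) a haU ha
          subst ha0
          rw [zero_add] at hx1 ⊢
          have hd := Module.End.eigenspaces_iSupIndep ((f i).restrictScalars k) μ
          rw [Submodule.disjoint_def] at hd
          apply hd c
          · rw [Module.End.mem_eigenspace_iff]; exact hx1.2
          · have : c ∈ (⨆ (ν : k) (_ : ν ≠ μ), eigR (f i) ν).restrictScalars k := hc.2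
            rw [Submodule.restrictScalars_iSup] at this
            simp_rw [Submodule.restrictScalars_iSup, eigR_restrictScalars] at this
            exact this
        have hstUμ : ∀ j, ∀ x ∈ U ⊓ eigR (f i) μ, f j x ∈ U ⊓ eigR (f i) μ :=
          fun j x hx => ⟨hU j x hx.1, hstE μ j x hx.2⟩
        exact ih (U' ⊔ (U ⊓ ⨆ (ν : k) (_ : ν ≠ μ), eigR (f i) ν)) hlt hstU''
          (U ⊓ eigR (f i) μ) hstUμ hdisj' (w μ) ⟨(hw μ hμ).1, (hw μ hμ).2⟩
  rw [eq_top_iff]
  intro v _
  exact claim ⊥ (fun j u hu => by rw [Submodule.mem_bot] at hu ⊢; rw [hu, map_zero]) ⊤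
    (fun _ _ _ => trivial) disjoint_bot_right v trivial

end helpers

/-- Let k be a field, R a commutative Noetherian k-algebra and V an R-module, viewed also as a k-vector
space through k → R. Let (f_i) be a family of pairwise commuting R-linear endomorphisms of V such
that each f_i, as a k-linear map, is diagonalizable over k (its eigenspaces span V), and such that
every vector of V lies in a finitely generated R-submodule stable under every f_i. Then the family
is simultaneously diagonalizable over k: the common eigenspaces ⨅_i Eig(f_i, χ(i)), over all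
assignments χ of eigenvalues in k, span V. The source states this for the endomorphisms given by an
abelian group acting R-linearly; the row takes any commuting family, which is what the argument
uses, and neither k algebraically closed nor of characteristic zero is needed. -/
theorem result
    (k : Type u) [Field k] (R : Type v) [CommRing R] [Algebra k R] [IsNoetherianRing R]
    (V : Type w) [AddCommGroup V] [Module R V] [Module k V] [IsScalarTower k R V]
    (ι : Type x) (f : ι → Module.End R V)
    (hcomm : ∀ i j, Commute (f i) (f j))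
    (hdiag : ∀ i, ⨆ μ : k, Module.End.eigenspace ((f i).restrictScalars k) μ = ⊤)
    (hfin : ∀ v : V, ∃ W : Submodule R V, v ∈ W ∧ W.FG ∧ ∀ i, ∀ w ∈ W, f i w ∈ W) :
    ⨆ χ : ι → k, ⨅ i, Module.End.eigenspace ((f i).restrictScalars k) (χ i) = ⊤ := by
  classical
  rw [eq_top_iff]
  intro v _
  obtain ⟨W, hvW, hWfg, hWst⟩ := hfin v
  haveI : IsNoetherian R W := isNoetherian_of_fg_of_noetherian W hWfg
  let g : ι → Module.End R W := fun i => (f i).restrict (hWst i)
  have hg_apply : ∀ i (x : W), ((g i x : W) : V) = f i x := fun i x => rfl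
  have hgcomm : ∀ i j, Commute (g i) (g j) := by
    intro i j
    apply LinearMap.ext
    intro x
    apply Subtype.ext
    have hc := congrArg (fun φ => φ (x : V)) (hcomm i j).eq
    simp only [Module.End.mul_apply] at hc
    rw [Module.End.mul_apply, Module.End.mul_apply, hg_apply, hg_apply, hg_apply, hg_apply]
    exact hc
  have hgdiag : ∀ i, ⨆ μ : k, Module.End.eigenspace ((g i).restrictScalars k) μ = ⊤ := by
    intro i
    rw [eq_top_iff]
    intro x _
    obtain ⟨S, w, hw, hsum⟩ := exists_decomp ((f i).restrictScalars k) (hdiag i)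
      (W.restrictScalars k) (fun u hu => hWst i u hu) (x : V) x.2
    have hx : x = ∑ μ ∈ S.attach, (⟨w μ.1, (hw μ.1 μ.2).1⟩ : W) := by
      apply Subtype.ext
      rw [Submodule.coe_sum, ← hsum, ← Finset.sum_attach]
    rw [hx]
    refine Submodule.sum_mem _ (fun μ _ => ?_)
    refine Submodule.mem_iSup_of_mem μ.1 ?_
    rw [Module.End.mem_eigenspace_iff]
    apply Subtype.ext
    exact (hw μ.1 μ.2).2
  have hmain := noeth_case g hgcomm hgdiag
  have hv' : (⟨v, hvW⟩ : W) ∈
      ⨆ χ : ι → k, ⨅ i, Module.End.eigenspace ((g i).restrictScalars k) (χ i) := by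
    rw [hmain]; trivial
  have key : ∀ x : W, x ∈ (⨆ χ : ι → k, ⨅ i, Module.End.eigenspace
      ((g i).restrictScalars k) (χ i)) → (x : V) ∈
      ⨆ χ : ι → k, ⨅ i, Module.End.eigenspace ((f i).restrictScalars k) (χ i) := by
    intro x hx
    induction hx using Submodule.iSup_induction' with
    | mem χ x hx =>
      refine Submodule.mem_iSup_of_mem χ ?_
      rw [Submodule.mem_iInf] at hx ⊢
      intro i
      have := hx i
      rw [Module.End.mem_eigenspace_iff] at this ⊢
      exact congrArg Subtype.val this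
    | zero => exact Submodule.zero_mem _
    | add x y _ _ hx hy => exact Submodule.add_mem _ hx hy
  exact key _ hv'

end Groth.Agent.S16159
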