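import Groth.Statements.S16160
import Groth.Agent.S16159
import Mathlib

set_option autoImplicit false
universe u v w
open scoped TensorProduct
open MadRed

namespace Groth.Agent.S16160

section aux
variable {k : Type u} [Field k] {A : Type v} [CommRing A] [Bialgebra k A]
  {R : Type w} [CommRing R] [Algebra k R]

/-- `Phi ψ t = (ψ ⊗ id)(swap t)` -/
noncomputable def Phi (ψ : A →ₗ[k] R) : A ⊗[k] A →ₗ[k] R ⊗[k] A :=
  (LinearMap.rTensor A ψ) ∘ₗ (TensorProduct.comm k A A).toLinearMap

lemma Phi_tmul (ψ : A →ₗ[k] R) (x y : A) : Phi ψ (x ⊗ₜ y) = ψ y ⊗ₜ x := rfl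

lemma translAux_eq (g : A →ₐ[k] R) (a : A) :
    translAux k A R g a = Phi g.toLinearMap (Coalgebra.comul a) := by
  unfold translAux
  simp only [AlgHom.comp_apply, Bialgebra.comulAlgHom_apply]
  generalize (Coalgebra.comul a : A ⊗[k] A) = t
  induction t using TensorProduct.induction_on with
  | zero => simp
  | tmul x y => simp [Phi_tmul]
  | add x y hx hy => simp only [map_add, hx, hy]

lemma ptAct_tmul (g : A →ₐ[k] R) (r : R) (a : A) :
    ptAct k A R g (r ⊗ₜ a) = r • translAux k A R g a := by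
  unfold ptAct
  rw [Algebra.TensorProduct.lift_tmul, Algebra.smul_def]
  rfl

/-- `Theta g ψ (x ⊗ (y ⊗ z)) = (g y * ψ z) ⊗ x` -/
noncomputable def Theta (g ψ : A →ₗ[k] R) : A ⊗[k] (A ⊗[k] A) →ₗ[k] R ⊗[k] A :=
  (LinearMap.rTensor A (LinearMap.mul' k R ∘ₗ TensorProduct.map g ψ)) ∘ₗ
    (TensorProduct.comm k A (A ⊗[k] A)).toLinearMap

lemma Theta_tmul (g ψ : A →ₗ[k] R) (x y z : A) :
    Theta g ψ (x ⊗ₜ (y ⊗ₜ z)) = (g y * ψ z) ⊗ₜ x := rfl

lemma Theta_tmul' (g ψ : A →ₗ[k] R) (x : A) (s : A ⊗[k] A) :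
    Theta g ψ (x ⊗ₜ s) = (LinearMap.mul' k R (TensorProduct.map g ψ s)) ⊗ₜ x := rfl

noncomputable def conv (g ψ : A →ₗ[k] R) : A →ₗ[k] R :=
  LinearMap.mul' k R ∘ₗ TensorProduct.map g ψ ∘ₗ Coalgebra.comul

lemma Phi_conv (g ψ : A →ₗ[k] R) (t : A ⊗[k] A) :
    Phi (conv g ψ) t = Theta g ψ (LinearMap.lTensor A Coalgebra.comul t) := by
  induction t using TensorProduct.induction_on with
  | zero => simp
  | tmul x y => rfl
  | add x y hx hy => simp only [map_add, hx, hy]

lemma ptAct_Phi (g : A →ₐ[k] R) (ψ : A →ₗ[k] R) (t : A ⊗[k] A) :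
    ptAct k A R g (Phi ψ t) = Theta g.toLinearMap ψ
      (TensorProduct.assoc k A A A (LinearMap.rTensor A Coalgebra.comul t)) := by
  induction t using TensorProduct.induction_on with
  | zero => simp
  | tmul x y =>
    rw [Phi_tmul, ptAct_tmul, translAux_eq, LinearMap.rTensor_tmul]
    generalize (Coalgebra.comul x : A ⊗[k] A) = s
    induction s using TensorProduct.induction_on with
    | zero => simp
    | tmul x1 x2 =>
      rw [Phi_tmul, TensorProduct.assoc_tmul, Theta_tmul, TensorProduct.smul_tmul', smul_eq_mul,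
        mul_comm]
    | add s1 s2 h1 h2 =>
      rw [map_add, smul_add, h1, h2, TensorProduct.add_tmul, map_add, map_add]
  | add x y hx hy => simp only [map_add, hx, hy]

lemma ptAct_Phi_comul (g : A →ₐ[k] R) (ψ : A →ₗ[k] R) (a : A) :
    ptAct k A R g (Phi ψ (Coalgebra.comul a)) = Phi (conv g.toLinearMap ψ) (Coalgebra.comul a) := by
  rw [ptAct_Phi, Phi_conv, Coalgebra.coassoc_apply]

lemma conv_eq (g h : A →ₐ[k] R) :
    (WithConv.ofConv (WithConv.toConv g * WithConv.toConv h)).toLinearMap =
      conv g.toLinearMap h.toLinearMap := rfl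

lemma ptAct_comp (g h : A →ₐ[k] R) :
    (ptAct k A R g).comp (ptAct k A R h) =
      ptAct k A R (WithConv.ofConv (WithConv.toConv g * WithConv.toConv h)) := by
  apply AlgHom.toLinearMap_injective
  apply TensorProduct.AlgebraTensorModule.curry_injective
  ext a
  simp only [TensorProduct.AlgebraTensorModule.curry_apply, LinearMap.restrictScalars_comp,
    TensorProduct.curry_apply, LinearMap.coe_comp, LinearMap.coe_restrictScalars,
    Function.comp_apply, AlgHom.toLinearMap_apply, AlgHom.comp_apply]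
  rw [ptAct_tmul, ptAct_tmul, one_smul, one_smul, translAux_eq, translAux_eq, ptAct_Phi_comul,
    conv_eq]

lemma commute_ptAct (g h : A →ₐ[k] R)
    (hgh : WithConv.toConv g * WithConv.toConv h = WithConv.toConv h * WithConv.toConv g) :
    Commute (ptAct k A R g).toLinearMap (ptAct k A R h).toLinearMap := by
  have h1 := ptAct_comp g h
  have h2 := ptAct_comp h g
  rw [hgh] at h1
  have h3 : (ptAct k A R g).comp (ptAct k A R h) = (ptAct k A R h).comp (ptAct k A R g) :=
    h1.trans h2.symm
  show (ptAct k A R g).toLinearMap * (ptAct k A R h).toLinearMap =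
    (ptAct k A R h).toLinearMap * (ptAct k A R g).toLinearMap
  ext x
  exact DFunLike.congr_fun h3 (1 ⊗ₜ x)

/-- the stable submodule generated by `a`. -/
noncomputable def Wa (k : Type u) [Field k] {A : Type v} [CommRing A] [Bialgebra k A]
    (R : Type w) [CommRing R] [Algebra k R] (a : A) : Submodule R (R ⊗[k] A) :=
  Submodule.span R (Set.range (fun ψ : A →ₗ[k] R => Phi ψ (Coalgebra.comul a)))

lemma Phi_counit (t : A ⊗[k] A) :
    Phi (Algebra.linearMap k R ∘ₗ Coalgebra.counit) t =
      (TensorProduct.map (Algebra.linearMap k R) (LinearMap.id : A →ₗ[k] A))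
        (TensorProduct.comm k A k (LinearMap.lTensor A Coalgebra.counit t)) := by
  induction t using TensorProduct.induction_on with
  | zero => simp
  | tmul x y => rfl
  | add x y hx hy => simp only [map_add, hx, hy]

lemma one_tmul_mem_Wa (a : A) : (1 : R) ⊗ₜ[k] a ∈ Wa k R a := by
  apply Submodule.subset_span
  refine ⟨Algebra.linearMap k R ∘ₗ Coalgebra.counit, ?_⟩
  show Phi (Algebra.linearMap k R ∘ₗ Coalgebra.counit) (Coalgebra.comul a) = _
  rw [Phi_counit, Coalgebra.lTensor_counit_comul]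
  simp

lemma Phi_mem_span (t : A ⊗[k] A) : ∃ S : Finset A, ∀ ψ : A →ₗ[k] R,
    Phi ψ t ∈ Submodule.span R ((fun s : A => (1 : R) ⊗ₜ[k] s) '' (S : Set A)) := by
  classical
  induction t using TensorProduct.induction_on with
  | zero => exact ⟨∅, fun ψ => by simp⟩
  | tmul x y =>
    refine ⟨{x}, fun ψ => ?_⟩
    rw [Phi_tmul]
    have : ψ y ⊗ₜ[k] x = ψ y • ((1 : R) ⊗ₜ[k] x) := by
      rw [TensorProduct.smul_tmul', smul_eq_mul, mul_one]
    rw [this]
    apply Submodule.smul_mem
    apply Submodule.subset_span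
    exact ⟨x, by simp, rfl⟩
  | add t1 t2 h1 h2 =>
    obtain ⟨S1, hS1⟩ := h1
    obtain ⟨S2, hS2⟩ := h2
    refine ⟨S1 ∪ S2, fun ψ => ?_⟩
    rw [map_add]
    apply Submodule.add_mem
    · refine Submodule.span_mono ?_ (hS1 ψ)
      apply Set.image_mono
      simp
    · refine Submodule.span_mono ?_ (hS2 ψ)
      apply Set.image_mono
      simp

lemma Wa_fg [IsNoetherianRing R] (a : A) : (Wa k R a).FG := by
  obtain ⟨S, hS⟩ := Phi_mem_span (R := R) (Coalgebra.comul a : A ⊗[k] A)
  set T : Set (R ⊗[k] A) := (fun s : A => (1 : R) ⊗ₜ[k] s) '' (S : Set A) with hT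
  have hTfin : T.Finite := (Finset.finite_toSet S).image _
  have hle : Wa k R a ≤ Submodule.span R T := by
    apply Submodule.span_le.mpr
    rintro _ ⟨ψ, rfl⟩
    exact hS ψ
  haveI : IsNoetherian R (Submodule.span R T) := isNoetherian_span_of_finite R hTfin
  have h1 : ((Wa k R a).comap (Submodule.span R T).subtype).FG := IsNoetherian.noetherian _
  have h2 := h1.map (Submodule.span R T).subtype
  rw [Submodule.map_comap_subtype, inf_eq_right.mpr hle] at h2
  exact h2

lemma Wa_stable (g : A →ₐ[k] R) (a : A) (x : R ⊗[k] A) (hx : x ∈ Wa k R a) :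
    ptAct k A R g x ∈ Wa k R a := by
  have : (Wa k R a).map (ptAct k A R g).toLinearMap ≤ Wa k R a := by
    unfold Wa
    rw [Submodule.map_span_le]
    rintro _ ⟨ψ, rfl⟩
    apply Submodule.subset_span
    exact ⟨conv g.toLinearMap ψ, (ptAct_Phi_comul g ψ a).symm⟩
  exact this (Submodule.mem_map_of_mem hx)

lemma locally_finite [IsNoetherianRing R] (v : R ⊗[k] A) :
    ∃ W : Submodule R (R ⊗[k] A), v ∈ W ∧ W.FG ∧
      ∀ g : A →ₐ[k] R, ∀ x ∈ W, ptAct k A R g x ∈ W := by
  induction v using TensorProduct.induction_on with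
  | zero => exact ⟨⊥, Submodule.zero_mem _, Submodule.fg_bot, fun g x hx => by
      rw [Submodule.mem_bot] at hx; rw [hx, map_zero]; exact Submodule.zero_mem _⟩
  | tmul r a =>
    refine ⟨Wa k R a, ?_, Wa_fg a, fun g x hx => Wa_stable g a x hx⟩
    have : r ⊗ₜ[k] a = r • ((1 : R) ⊗ₜ[k] a) := by
      rw [TensorProduct.smul_tmul', smul_eq_mul, mul_one]
    rw [this]
    exact Submodule.smul_mem _ _ (one_tmul_mem_Wa a)
  | add v1 v2 h1 h2 =>
    obtain ⟨W1, hv1, hfg1, hst1⟩ := h1
    obtain ⟨W2, hv2, hfg2, hst2⟩ := h2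
    refine ⟨W1 ⊔ W2, Submodule.add_mem_sup hv1 hv2, hfg1.sup hfg2, fun g x hx => ?_⟩
    obtain ⟨y, hy, z, hz, rfl⟩ := Submodule.mem_sup.mp hx
    rw [map_add]
    exact Submodule.add_mem_sup (hst1 g y hy) (hst2 g z hz)

end aux

theorem result' (k : Type u) [Field k]
    (A : Type v) [CommRing A] [HopfAlgebra k A] (R : Type w) [CommRing R] [Algebra k R]
    [IsNoetherianRing R] (H : Set (A →ₐ[k] R))
    (hcomm : ∀ g ∈ H, ∀ h ∈ H,
      WithConv.toConv g * WithConv.toConv h = WithConv.toConv h * WithConv.toConv g)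
    (hdiag : ∀ g ∈ H, ⨆ μ : k,
      Module.End.eigenspace (((MadRed.ptAct k A R g).toLinearMap).restrictScalars k) μ = ⊤) :
    ⨆ χ : H → k, ⨅ g : H,
      Module.End.eigenspace (((MadRed.ptAct k A R g.1).toLinearMap).restrictScalars k) (χ g) = ⊤ := by
  refine Groth.Agent.S16159.result k R (R ⊗[k] A) H (fun g => (ptAct k A R g.1).toLinearMap)
    (fun g h => commute_ptAct g.1 h.1 (hcomm g.1 g.2 h.1 h.2)) (fun g => hdiag g.1 g.2) ?_
  intro v
  obtain ⟨W, hv, hfg, hst⟩ := locally_finite (k := k) (A := A) (R := R) v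
  exact ⟨W, hv, hfg, fun g x hx => hst g.1 x hx⟩

/-- Let k be a field, G = Spec A an affine k-group with A a commutative Hopf algebra over k, and R a
commutative Noetherian k-algebra, so that R ⊗ A is the coordinate ring of the base change G_R and
the k-algebra maps A → R are its R-valued points. Let H be a set of R-valued points which pairwise
commute for the convolution product of G(R) (the case of an abelian subgroup of G(R)). If every g in
H is diagonalizable over k on R ⊗ A, meaning that the eigenspaces of right translation by g, for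
eigenvalues in k, span R ⊗ A, then H is simultaneously diagonalizable over k on R ⊗ A: the common
eigenspaces of the right translations by all g in H span R ⊗ A. The standing assumptions of the
source at this point (k algebraically closed of characteristic zero, G reductive) are not used. -/
theorem result (k : Type u) [Field k]
    (A : Type v) [CommRing A] [HopfAlgebra k A] (R : Type w) [CommRing R] [Algebra k R]
    [IsNoetherianRing R] (H : Set (A →ₐ[k] R))
    (hcomm : ∀ g ∈ H, ∀ h ∈ H,
      WithConv.toConv g * WithConv.toConv h = WithConv.toConv h * WithConv.toConv g)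
    (hdiag : ∀ g ∈ H, ⨆ μ : k,
      Module.End.eigenspace (((MadRed.ptAct k A R g).toLinearMap).restrictScalars k) μ = ⊤) :
    ⨆ χ : H → k, ⨅ g : H,
      Module.End.eigenspace (((MadRed.ptAct k A R g.1).toLinearMap).restrictScalars k) (χ g) = ⊤ := by
  exact result' k A R H hcomm hdiag

end Groth.Agent.S16160
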