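import Groth.Statements.S16161
import Mathlib

set_option autoImplicit false
universe u v
open MadRed

namespace Groth.Agent.S16161

open Polynomial in
theorem ker_prod_aux {k V : Type*} [Field k] [AddCommGroup V] [Module k V] (G : Module.End k V)
    (s : Finset k) :
    LinearMap.ker (aeval G (∏ a ∈ s, (X - C a))) = ⨆ a ∈ s, LinearMap.ker (aeval G (X - C a)) := by
  classical
  induction s using Finset.induction_on with
  | empty =>
    simp only [Finset.prod_empty, map_one, Finset.notMem_empty, not_false_eq_true, iSup_neg, iSup_bot]
    rw [LinearMap.ker_eq_bot]
    intro x y h; simpa using h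
  | insert a s ha ih =>
    rw [Finset.prod_insert ha, Finset.iSup_insert, ← ih]
    symm
    apply sup_ker_aeval_eq_ker_aeval_mul_of_coprime
    apply IsCoprime.prod_right
    intro b hb
    apply isCoprime_X_sub_C_of_isUnit_sub
    have : a ≠ b := fun h => ha (h ▸ hb)
    exact (sub_ne_zero.mpr this).isUnit

/-- Let k be an algebraically closed field of characteristic zero and R a reduced finitely generated
commutative k-algebra whose spectrum is connected (R has no idempotents besides 0 and 1); let W =
R^n be a free R-module of finite rank and g an R-linear endomorphism of W of finite order, g^m = 1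
with m > 0 (an element of finite order of GL(W)(R)). Then the action of g on W is diagonalizable
over k: viewing g as a k-linear map, its eigenspaces for eigenvalues in k span W. The source also
assumes that g is diagonalizable over k on every fibre W ⊗ k(x), x a point of Spec R; for g of
finite order this holds automatically (k is algebraically closed of characteristic zero), as the
source itself notes, so that hypothesis is omitted. -/
theorem result
    (k : Type u) [Field k] [IsAlgClosed k] [CharZero k]
    (R : Type v) [CommRing R] [Algebra k R] [IsReduced R] [Algebra.FiniteType k R]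
    (hconn : ∀ e : R, IsIdempotentElem e → e = 0 ∨ e = 1)
    (n : ℕ) (g : Module.End R (Fin n → R)) (m : ℕ) (hm : 0 < m) (hg : g ^ m = 1) :
    ⨆ μ : k, Module.End.eigenspace (g.restrictScalars k) μ = ⊤ := by
  classical
  set G : Module.End k (Fin n → R) := g.restrictScalars k with hG
  have hGm : G ^ m = 1 := by
    apply LinearMap.ext
    intro v
    have h1 : ∀ j : ℕ, ∀ v, (G ^ j) v = (g ^ j) v := by
      intro j
      induction j with
      | zero => intro v; simp
      | succ j ih => intro v; rw [pow_succ, pow_succ, Module.End.mul_apply, Module.End.mul_apply, ih]; rfl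
    rw [h1, hg]; rfl
  have : NeZero (m : k) := ⟨by exact_mod_cast (Nat.cast_ne_zero (R := k)).mpr hm.ne'⟩
  obtain ⟨ζ, hζ⟩ := HasEnoughRootsOfUnity.exists_primitiveRoot k m
  have hfac := Polynomial.X_pow_sub_one_eq_prod hm hζ
  have hker : LinearMap.ker (Polynomial.aeval G (Polynomial.X ^ m - 1 : Polynomial k)) = ⊤ := by
    rw [LinearMap.ker_eq_top]
    simp [hGm]
  rw [hfac, ker_prod_aux] at hker
  rw [eq_top_iff, ← hker]
  apply iSup₂_le
  intro a _
  refine le_trans ?_ (le_iSup _ a)
  rw [Module.End.eigenspace_def]
  simp only [map_sub, Polynomial.aeval_X, Polynomial.aeval_C]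
  rw [Algebra.algebraMap_eq_smul_one]

end Groth.Agent.S16161
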