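import Groth.Statements.S16162
import Mathlib

set_option autoImplicit false
open CategoryTheory MonoidalCategory CartesianMonoidalCategory MonObj GrpObj AlgebraicGeometry
universe u
open MadRed

namespace Groth.Agent.S16162

open Limits

theorem result' {S : Scheme.{u}}
    {G X : Over S} [GrpObj G] (a : AlgGrp.Action G X) (ha : RedSub.IsTorsor a)
    (P : Set X.left) (hP : IsClosed P)
    (hstab : ∀ w : (G ⊗ X).left, (snd G X).left.base w ∈ P → a.act.left.base w ∈ P) :
    IsClosed (X.hom.base '' P) ∧ X.hom.base ⁻¹' (X.hom.base '' P) = P := by
  obtain ⟨hsurj, hflat, hlfp, hiso⟩ := ha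
  have hopen : IsOpenMap X.hom := X.hom.isOpenMap
  have hsat : X.hom.base ⁻¹' (X.hom.base '' P) = P := by
    apply Set.Subset.antisymm
    · rintro x' ⟨x, hx, hxx'⟩
      obtain ⟨z, hz1, hz2⟩ := Scheme.Pullback.exists_preimage_pullback (f := X.hom) (g := X.hom)
        x' x hxx'.symm
      have hz1' : (fst X X).left z = x' := hz1
      have hz2' : (snd X X).left z = x := hz2
      set φ := lift a.act (snd G X) with hφ
      set w := (inv φ).left z with hw
      have hφw : φ.left w = z := by
        rw [hw, ← Scheme.Hom.comp_apply, ← Over.comp_left, IsIso.inv_hom_id]
        rfl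
      have h1 : a.act.left w = x' := by
        have : a.act = φ ≫ fst X X := by rw [hφ, lift_fst]
        rw [this, Over.comp_left, Scheme.Hom.comp_apply, hφw, hz1']
      have h2 : (snd G X).left w = x := by
        have : snd G X = φ ≫ snd X X := by rw [hφ, lift_snd]
        rw [this, Over.comp_left, Scheme.Hom.comp_apply, hφw, hz2']
      have := hstab w (by change (snd G X).left w ∈ P; rw [h2]; exact hx)
      change a.act.left w ∈ P at this
      rwa [h1] at this
    · exact Set.subset_preimage_image _ _
  refine ⟨?_, hsat⟩
  have hcompl : (X.hom.base '' P)ᶜ = X.hom.base '' Pᶜ := by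
    ext y
    constructor
    · intro hy
      obtain ⟨x, rfl⟩ := hsurj.surj y
      refine ⟨x, fun hx => hy ⟨x, hx, rfl⟩, rfl⟩
    · rintro ⟨x, hx, rfl⟩ hy
      apply hx
      rw [← hsat]
      exact hy
  rw [← isOpen_compl_iff, hcompl]
  exact hopen _ hP.isOpen_compl

/-- Let S be a scheme, G a group scheme over S, and X an S-scheme with an action of G making X → S a
principal G-bundle (a torsor in the representable fppf sense: X → S surjective, flat and locally of
finite presentation, and G ×_S X → X ×_S X, (g, x) ↦ (g·x, x), an isomorphism). Let P be a closed
subset of X stable under the action: the action map sends into P every point of G ×_S X whose second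
projection lies in P. Then the image of P in S is closed, and P is the full preimage of its image.
(The source works with varieties over the complex numbers and an affine algebraic group; the
assertion holds over any base. Its second assertion, that P → image is again a principal bundle for
the induced reduced structures, then comes from base change and is not part of this row.) -/
theorem result {S : Scheme.{u}}
    {G X : Over S} [GrpObj G] (a : AlgGrp.Action G X) (ha : RedSub.IsTorsor a)
    (P : Set X.left) (hP : IsClosed P)
    (hstab : ∀ w : (G ⊗ X).left, (snd G X).left.base w ∈ P → a.act.left.base w ∈ P) :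
    IsClosed (X.hom.base '' P) ∧ X.hom.base ⁻¹' (X.hom.base '' P) = P := by
  exact result' a ha P hP hstab

end Groth.Agent.S16162
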