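import Groth.Statements.S16170
import Mathlib

set_option autoImplicit false
open Neron

namespace Groth.Agent.S16170


open Matrix in
theorem adj {ι : Type} [Fintype ι] (A : Matrix ι ι ℤ) (a c : ι → ℤ) :
    (A *ᵥ a) ⬝ᵥ c = a ⬝ᵥ (Aᵀ *ᵥ c) := by
  rw [dotProduct_comm, dotProduct_mulVec, ← mulVec_transpose, dotProduct_comm]

open Matrix in
/-- core: `X = χ₁ χ₂` vanishes. -/
theorem core {ι : Type} [Fintype ι] [DecidableEq ι]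
    (M N χ₁ χ₂ : Matrix ι ι ℤ) (hM : M.IsSymm) (hN : N.IsSymm)
    (hMpos : ∀ v : ι → ℤ, 0 ≤ v ⬝ᵥ M.mulVec v) (hNpos : ∀ v : ι → ℤ, 0 ≤ v ⬝ᵥ N.mulVec v)
    (hpos : ∀ v : ι → ℤ, v ≠ 0 → 0 < v ⬝ᵥ (M + N).mulVec v)
    (hsum : χ₁ + χ₂ = 1) (hrel : M * χ₂ = N * χ₁) :
    χ₁ * χ₂ = 0 := by
  have hSsymm : (M + N).IsSymm := hM.add hN
  have hM' : (M + N) * χ₁ = M := by
    have : M * χ₁ + N * χ₁ = M * χ₁ + M * χ₂ := by rw [hrel]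
    rw [Matrix.add_mul, this, ← Matrix.mul_add, hsum, Matrix.mul_one]
  have hN' : (M + N) * χ₂ = N := by
    rw [Matrix.add_mul, hrel, ← Matrix.mul_add, hsum, Matrix.mul_one]
  have h2 : χ₂ = 1 - χ₁ := eq_sub_of_add_eq' hsum
  have hcomm : χ₁ * χ₂ = χ₂ * χ₁ := by
    rw [h2, Matrix.mul_sub, Matrix.sub_mul, Matrix.mul_one, Matrix.one_mul]
  -- transposes
  have hT1 : χ₁ᵀ * (M + N) = (M + N) * χ₁ := by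
    have := congrArg Matrix.transpose hM'
    rw [Matrix.transpose_mul, hSsymm.eq, hM.eq] at this
    rw [this, hM']
  have hT2 : χ₂ᵀ * (M + N) = (M + N) * χ₂ := by
    have := congrArg Matrix.transpose hN'
    rw [Matrix.transpose_mul, hSsymm.eq, hN.eq] at this
    rw [this, hN']
  -- B a b = a ⬝ᵥ (M+N) *ᵥ b
  have hBsymm : ∀ a b : ι → ℤ, a ⬝ᵥ (M + N) *ᵥ b = b ⬝ᵥ (M + N) *ᵥ a := by
    intro a b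
    rw [dotProduct_comm, adj, hSsymm.eq]
  have hadj1 : ∀ a b : ι → ℤ, (χ₁ *ᵥ a) ⬝ᵥ (M + N) *ᵥ b = a ⬝ᵥ (M + N) *ᵥ (χ₁ *ᵥ b) := by
    intro a b
    rw [adj, mulVec_mulVec, hT1, mulVec_mulVec]
  have hadj2 : ∀ a b : ι → ℤ, (χ₂ *ᵥ a) ⬝ᵥ (M + N) *ᵥ b = a ⬝ᵥ (M + N) *ᵥ (χ₂ *ᵥ b) := by
    intro a b
    rw [adj, mulVec_mulVec, hT2, mulVec_mulVec]
  have hdecomp : ∀ u : ι → ℤ, χ₁ *ᵥ u + χ₂ *ᵥ u = u := by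
    intro u
    rw [← add_mulVec, hsum, one_mulVec]
  -- cross term nonneg
  have hcross : ∀ u : ι → ℤ, 0 ≤ (χ₁ *ᵥ u) ⬝ᵥ (M + N) *ᵥ (χ₂ *ᵥ u) := by
    intro u
    have e1 : (χ₁ *ᵥ u) ⬝ᵥ (M + N) *ᵥ (χ₂ *ᵥ u)
        = (χ₁ *ᵥ u) ⬝ᵥ N *ᵥ (χ₁ *ᵥ u) + (χ₂ *ᵥ u) ⬝ᵥ M *ᵥ (χ₂ *ᵥ u) := by
      rw [mulVec_mulVec, hN']
      have hNu : N *ᵥ u = N *ᵥ (χ₁ *ᵥ u) + N *ᵥ (χ₂ *ᵥ u) := by rw [← mulVec_add, hdecomp]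
      rw [hNu, dotProduct_add]
      congr 1
      -- w₁ ⬝ N w₂ = w₂ ⬝ M w₂
      rw [dotProduct_comm, adj, hN.eq, mulVec_mulVec, ← hrel, ← mulVec_mulVec, dotProduct_comm]
    rw [e1]
    exact add_nonneg (hNpos _) (hMpos _)
  -- q(u) = q(w₁) + q(w₂) + 2 B(w₁,w₂)
  have hq : ∀ u : ι → ℤ, u ⬝ᵥ (M + N) *ᵥ u
      = (χ₁ *ᵥ u) ⬝ᵥ (M + N) *ᵥ (χ₁ *ᵥ u) + (χ₂ *ᵥ u) ⬝ᵥ (M + N) *ᵥ (χ₂ *ᵥ u)
        + 2 * ((χ₁ *ᵥ u) ⬝ᵥ (M + N) *ᵥ (χ₂ *ᵥ u)) := by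
    intro u
    conv_lhs => rw [← hdecomp u]
    rw [mulVec_add, dotProduct_add, add_dotProduct, add_dotProduct,
      hBsymm (χ₂ *ᵥ u) (χ₁ *ᵥ u)]
    ring
  have hq0 : ∀ v : ι → ℤ, 0 ≤ v ⬝ᵥ (M + N) *ᵥ v := by
    intro v
    by_cases hv : v = 0
    · subst hv; simp
    · exact (hpos v hv).le
  have hq0' : ∀ v : ι → ℤ, v ⬝ᵥ (M + N) *ᵥ v = 0 → v = 0 := by
    intro v hv
    by_contra hne
    exact absurd hv (hpos v hne).ne'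
  -- the induction
  have key : ∀ n : ℕ, ∀ u : ι → ℤ, u ⬝ᵥ (M + N) *ᵥ u ≤ n → (χ₁ * χ₂) *ᵥ u = 0 := by
    intro n
    induction n using Nat.strong_induction_on with
    | _ n ih =>
      intro u hu
      by_cases hu0 : u = 0
      · subst hu0; simp
      -- q(Xu) < q(u)
      have hX : (χ₁ * χ₂) *ᵥ u = χ₁ *ᵥ (χ₂ *ᵥ u) := (mulVec_mulVec _ _ _).symm
      have hle1 : (χ₂ *ᵥ u) ⬝ᵥ (M + N) *ᵥ (χ₂ *ᵥ u) ≤ u ⬝ᵥ (M + N) *ᵥ u := by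
        have := hq u; have := hcross u; have := hq0 (χ₁ *ᵥ u); linarith
      have hle2 : (χ₁ *ᵥ (χ₂ *ᵥ u)) ⬝ᵥ (M + N) *ᵥ (χ₁ *ᵥ (χ₂ *ᵥ u))
          ≤ (χ₂ *ᵥ u) ⬝ᵥ (M + N) *ᵥ (χ₂ *ᵥ u) := by
        have := hq (χ₂ *ᵥ u); have := hcross (χ₂ *ᵥ u); have := hq0 (χ₂ *ᵥ (χ₂ *ᵥ u)); linarith
      have hlt : (χ₁ *ᵥ (χ₂ *ᵥ u)) ⬝ᵥ (M + N) *ᵥ (χ₁ *ᵥ (χ₂ *ᵥ u)) < u ⬝ᵥ (M + N) *ᵥ u := by
        rcases lt_or_eq_of_le (le_trans hle2 hle1) with h | h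
        · exact h
        · exfalso
          have h1 : (χ₂ *ᵥ u) ⬝ᵥ (M + N) *ᵥ (χ₂ *ᵥ u) = u ⬝ᵥ (M + N) *ᵥ u := by linarith
          have h3 : (χ₁ *ᵥ u) ⬝ᵥ (M + N) *ᵥ (χ₁ *ᵥ u) = 0 := by
            have := hq u; have := hcross u; have := hq0 (χ₁ *ᵥ u); linarith
          have h4 : χ₁ *ᵥ u = 0 := hq0' _ h3
          have h5 : χ₁ *ᵥ (χ₂ *ᵥ u) = 0 := by
            rw [mulVec_mulVec, hcomm, ← mulVec_mulVec, h4, mulVec_zero]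
          rw [h5] at h
          simp only [mulVec_zero, dotProduct_zero] at h
          exact hu0 (hq0' u h.symm)
      -- apply IH to Xu
      have hnat : ((χ₁ *ᵥ (χ₂ *ᵥ u)) ⬝ᵥ (M + N) *ᵥ (χ₁ *ᵥ (χ₂ *ᵥ u))).toNat < n := by
        have h0 := hq0 (χ₁ *ᵥ (χ₂ *ᵥ u))
        omega
      have hXX := ih _ hnat (χ₁ *ᵥ (χ₂ *ᵥ u)) (by
        have h0 := hq0 (χ₁ *ᵥ (χ₂ *ᵥ u))
        rw [Int.toNat_of_nonneg h0])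
      -- q(Xu) = B(X(Xu), u) = 0
      have : (χ₁ *ᵥ (χ₂ *ᵥ u)) ⬝ᵥ (M + N) *ᵥ (χ₁ *ᵥ (χ₂ *ᵥ u)) = 0 := by
        have e : χ₂ *ᵥ (χ₁ *ᵥ (χ₁ *ᵥ (χ₂ *ᵥ u))) = 0 := by
          rw [mulVec_mulVec (χ₁ *ᵥ (χ₂ *ᵥ u)) χ₂ χ₁, ← hcomm]; exact hXX
        rw [hadj1, hadj2, e, mulVec_zero, dotProduct_zero]
      rw [hX]
      exact hq0' _ this
  ext i j
  have h := key ((Pi.single j 1 : ι → ℤ) ⬝ᵥ (M + N) *ᵥ (Pi.single j 1)).toNat (Pi.single j 1) (by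
    rw [Int.toNat_of_nonneg (hq0 _)])
  have := congrFun h i
  simpa using this

/-- Let M and N be symmetric positive-semidefinite integer matrices on the same finite index set whose
sum M + N is positive definite, and let χ₁, χ₂ be integer matrices with χ₁ + χ₂ = 1 and M χ₂ = N χ₁.
Then χ₁ and χ₂ are idempotent. (In the intended application M = Pᵀ Ψ₁ P and N = Qᵀ Ψ₂ Q for
surjective integer matrices P, Q and positive-definite Ψ₁, Ψ₂.) -/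
theorem result
    {ι : Type} [Fintype ι] [DecidableEq ι]
    (M N χ₁ χ₂ : Matrix ι ι ℤ) (hM : M.IsSymm) (hN : N.IsSymm)
    (hMpos : ∀ v : ι → ℤ, 0 ≤ v ⬝ᵥ M.mulVec v) (hNpos : ∀ v : ι → ℤ, 0 ≤ v ⬝ᵥ N.mulVec v)
    (hpos : ∀ v : ι → ℤ, v ≠ 0 → 0 < v ⬝ᵥ (M + N).mulVec v)
    (hsum : χ₁ + χ₂ = 1) (hrel : M * χ₂ = N * χ₁) :
    χ₁ * χ₁ = χ₁ ∧ χ₂ * χ₂ = χ₂ := by
  have h0 := core M N χ₁ χ₂ hM hN hMpos hNpos hpos hsum hrel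
  have h2 : χ₂ = 1 - χ₁ := eq_sub_of_add_eq' hsum
  have h1 : χ₁ = 1 - χ₂ := eq_sub_of_add_eq hsum
  constructor
  · have : χ₁ * (1 - χ₁) = 0 := by rw [← h2]; exact h0
    rw [Matrix.mul_sub, Matrix.mul_one, sub_eq_zero] at this
    exact this.symm
  · have : (1 - χ₂) * χ₂ = 0 := by rw [← h1]; exact h0
    rw [Matrix.sub_mul, Matrix.one_mul, sub_eq_zero] at this
    exact this.symm

end Groth.Agent.S16170
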