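import Groth.Statements.S16164
import Mathlib
import Groth.Agent.S16170

set_option autoImplicit false
open Neron

namespace Groth.Agent.S16164


open Matrix in
theorem adjR {ι κ : Type} [Fintype ι] [Fintype κ] (A : Matrix κ ι ℤ) (a : ι → ℤ) (c : κ → ℤ) :
    (A *ᵥ a) ⬝ᵥ c = a ⬝ᵥ (Aᵀ *ᵥ c) := by
  rw [dotProduct_comm, dotProduct_mulVec, ← mulVec_transpose, dotProduct_comm]

open Matrix in
theorem form_eq {ι κ : Type} [Fintype ι] [Fintype κ] (P : Matrix κ ι ℤ) (Ψ : Matrix κ κ ℤ)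
    (v : ι → ℤ) : v ⬝ᵥ (Pᵀ * Ψ * P) *ᵥ v = (P *ᵥ v) ⬝ᵥ Ψ *ᵥ (P *ᵥ v) := by
  rw [adjR P, mulVec_mulVec, mulVec_mulVec, Matrix.mul_assoc]

open Matrix in
/-- existence of a matrix solution column by column -/
theorem exists_matrix {ι : Type} [Fintype ι] [DecidableEq ι] (S M : Matrix ι ι ℤ)
    (h : ∀ j : ι, ∃ c : ι → ℤ, S *ᵥ c = M *ᵥ (Pi.single j 1)) :
    ∃ χ : Matrix ι ι ℤ, S * χ = M := by
  choose c hc using h
  refine ⟨Matrix.of (fun i j => c j i), ?_⟩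
  ext i j
  have := congrFun (hc j) i
  simp only [mulVec_single_one, Matrix.col_apply] at this
  rw [← this]
  simp [Matrix.mul_apply, Matrix.mulVec, dotProduct]

/-- Let X, Y₁, Y₂ be finitely generated free abelian groups with chosen bases, so that homomorphisms are
integer matrices acting on column vectors and each group is identified with its dual; let P : X → Y₁
and Q : X → Y₂ be surjective with A = (P over Q) : X → Y₁ ⊕ Y₂ injective, and let Ψ₁, Ψ₂ be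
symmetric positive-definite integer matrices on Y₁ and Y₂, Ψ their block-diagonal sum. If the image
of Aᵀ Ψ : Y₁ ⊕ Y₂ → X coincides with the image of Aᵀ Ψ A : X → X (the reverse inclusion always
holds), then A is bijective. (In the source X, Y₁, Y₂ are character groups of maximal tori, P and Q
specialization maps, Ψ₁ and Ψ₂ monodromy pairings, and the hypothesis expresses that two groups of
components coincide.) -/
theorem result
    {ι κ₁ κ₂ : Type} [Fintype ι] [Fintype κ₁] [Fintype κ₂]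
    (P : Matrix κ₁ ι ℤ) (Q : Matrix κ₂ ι ℤ)
    (hP : Function.Surjective P.mulVec) (hQ : Function.Surjective Q.mulVec)
    (hA : Function.Injective (Matrix.fromRows P Q).mulVec)
    (Ψ₁ : Matrix κ₁ κ₁ ℤ) (Ψ₂ : Matrix κ₂ κ₂ ℤ) (hΨ₁ : Ψ₁.IsSymm) (hΨ₂ : Ψ₂.IsSymm)
    (hΨ₁pos : ∀ y : κ₁ → ℤ, y ≠ 0 → 0 < y ⬝ᵥ Ψ₁.mulVec y)
    (hΨ₂pos : ∀ y : κ₂ → ℤ, y ≠ 0 → 0 < y ⬝ᵥ Ψ₂.mulVec y)
    (himage : LinearMap.range ((Matrix.fromRows P Q).transpose * Matrix.fromBlocks Ψ₁ 0 0 Ψ₂).mulVecLin =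
      LinearMap.range ((Matrix.fromRows P Q).transpose * Matrix.fromBlocks Ψ₁ 0 0 Ψ₂ * Matrix.fromRows P Q).mulVecLin) :
    Function.Bijective (Matrix.fromRows P Q).mulVec := by
  classical
  have hMdef : (Matrix.fromRows P Q).transpose * Matrix.fromBlocks Ψ₁ 0 0 Ψ₂ * Matrix.fromRows P Q
      = P.transpose * Ψ₁ * P + Q.transpose * Ψ₂ * Q := by
    rw [Matrix.transpose_fromRows, Matrix.fromCols_mul_fromBlocks, Matrix.fromCols_mul_fromRows]
    simp
  have hAΨ : (Matrix.fromRows P Q).transpose * Matrix.fromBlocks Ψ₁ 0 0 Ψ₂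
      = Matrix.fromCols (P.transpose * Ψ₁) (Q.transpose * Ψ₂) := by
    rw [Matrix.transpose_fromRows, Matrix.fromCols_mul_fromBlocks]
    simp
  rw [hMdef, hAΨ] at himage
  set M := P.transpose * Ψ₁ * P with hM
  set N := Q.transpose * Ψ₂ * Q with hN
  have hMsymm : M.IsSymm := by
    unfold Matrix.IsSymm
    rw [hM, Matrix.transpose_mul, Matrix.transpose_mul, Matrix.transpose_transpose, hΨ₁.eq, Matrix.mul_assoc]
  have hNsymm : N.IsSymm := by
    unfold Matrix.IsSymm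
    rw [hN, Matrix.transpose_mul, Matrix.transpose_mul, Matrix.transpose_transpose, hΨ₂.eq, Matrix.mul_assoc]
  have hΨ₁nn : ∀ y : κ₁ → ℤ, 0 ≤ y ⬝ᵥ Ψ₁.mulVec y := by
    intro y
    by_cases hy : y = 0
    · subst hy; simp
    · exact (hΨ₁pos y hy).le
  have hΨ₂nn : ∀ y : κ₂ → ℤ, 0 ≤ y ⬝ᵥ Ψ₂.mulVec y := by
    intro y
    by_cases hy : y = 0
    · subst hy; simp
    · exact (hΨ₂pos y hy).le
  have hMpos : ∀ v : ι → ℤ, 0 ≤ v ⬝ᵥ M.mulVec v := by
    intro v; rw [hM, form_eq]; exact hΨ₁nn _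
  have hNpos : ∀ v : ι → ℤ, 0 ≤ v ⬝ᵥ N.mulVec v := by
    intro v; rw [hN, form_eq]; exact hΨ₂nn _
  have hpos : ∀ v : ι → ℤ, v ≠ 0 → 0 < v ⬝ᵥ (M + N).mulVec v := by
    intro v hv
    rw [Matrix.add_mulVec, dotProduct_add, hM, hN, form_eq, form_eq]
    have hAv : (Matrix.fromRows P Q).mulVec v ≠ 0 := by
      intro h0
      apply hv
      apply hA
      rw [h0, Matrix.mulVec_zero]
    rw [Matrix.fromRows_mulVec] at hAv
    by_cases hPv : P.mulVec v = 0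
    · have hQv : Q.mulVec v ≠ 0 := by
        intro hQv
        apply hAv
        rw [hPv, hQv]
        ext (i | i) <;> rfl
      have := hΨ₂pos _ hQv
      have := hΨ₁nn (P.mulVec v)
      linarith
    · have := hΨ₁pos _ hPv
      have := hΨ₂nn (Q.mulVec v)
      linarith
  -- injectivity of (M+N)
  have hSinj : ∀ v : ι → ℤ, (M + N).mulVec v = 0 → v = 0 := by
    intro v hv
    by_contra hne
    have := hpos v hne
    rw [hv] at this
    simp at this
  have hScancel : ∀ X Y : Matrix ι ι ℤ, (M + N) * X = (M + N) * Y → X = Y := by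
    intro X Y hXY
    ext i j
    have h1 : (M + N).mulVec ((X - Y).mulVec (Pi.single j 1)) = 0 := by
      rw [Matrix.mulVec_mulVec, Matrix.mul_sub, hXY, sub_self, Matrix.zero_mulVec]
    have h2 := congrFun (hSinj _ h1) i
    simp only [Matrix.mulVec_single_one, Matrix.col_apply, Matrix.sub_apply, Pi.zero_apply] at h2
    exact sub_eq_zero.mp h2
  -- construct χ₁, χ₂
  obtain ⟨χ₁, hχ₁⟩ : ∃ χ : Matrix ι ι ℤ, (M + N) * χ = M := by
    apply exists_matrix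
    intro j
    have hmem : M.mulVec (Pi.single j 1) ∈
        LinearMap.range (Matrix.fromCols (P.transpose * Ψ₁) (Q.transpose * Ψ₂)).mulVecLin := by
      refine ⟨Sum.elim (P.mulVec (Pi.single j 1)) 0, ?_⟩
      rw [Matrix.mulVecLin_apply, Matrix.fromCols_mulVec_sumElim, Matrix.mulVec_zero, add_zero,
        Matrix.mulVec_mulVec, hM]
    rw [himage] at hmem
    obtain ⟨c, hc⟩ := hmem
    exact ⟨c, hc⟩
  obtain ⟨χ₂, hχ₂⟩ : ∃ χ : Matrix ι ι ℤ, (M + N) * χ = N := by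
    apply exists_matrix
    intro j
    have hmem : N.mulVec (Pi.single j 1) ∈
        LinearMap.range (Matrix.fromCols (P.transpose * Ψ₁) (Q.transpose * Ψ₂)).mulVecLin := by
      refine ⟨Sum.elim 0 (Q.mulVec (Pi.single j 1)), ?_⟩
      rw [Matrix.mulVecLin_apply, Matrix.fromCols_mulVec_sumElim, Matrix.mulVec_zero, zero_add,
        Matrix.mulVec_mulVec, hN]
    rw [himage] at hmem
    obtain ⟨c, hc⟩ := hmem
    exact ⟨c, hc⟩
  have hsum : χ₁ + χ₂ = 1 := by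
    apply hScancel
    rw [Matrix.mul_add, hχ₁, hχ₂, Matrix.mul_one]
  have hrel : M * χ₂ = N * χ₁ := by
    have h2 : χ₂ = 1 - χ₁ := eq_sub_of_add_eq' hsum
    have h3 : N * χ₁ = M - M * χ₁ := by
      rw [eq_sub_iff_add_eq, add_comm, ← Matrix.add_mul, hχ₁]
    rw [h3, h2, Matrix.mul_sub, Matrix.mul_one]
  have h0 := Groth.Agent.S16170.core M N χ₁ χ₂ hMsymm hNsymm hMpos hNpos hpos hsum hrel
  obtain ⟨hid1, hid2⟩ := Groth.Agent.S16170.result M N χ₁ χ₂ hMsymm hNsymm hMpos hNpos hpos hsum hrel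
  have hcomm : χ₁ * χ₂ = χ₂ * χ₁ := by
    have h2 : χ₂ = 1 - χ₁ := eq_sub_of_add_eq' hsum
    rw [h2, Matrix.mul_sub, Matrix.sub_mul, Matrix.mul_one, Matrix.one_mul]
  have hMχ₂ : M * χ₂ = 0 := by
    have : M * (χ₂ * χ₂) = N * (χ₁ * χ₂) := by
      rw [← Matrix.mul_assoc M, ← Matrix.mul_assoc N, hrel]
    rw [hid2, h0, Matrix.mul_zero] at this
    exact this
  have hNχ₁ : N * χ₁ = 0 := by rw [← hrel]; exact hMχ₂
  have hPχ₂ : ∀ v : ι → ℤ, P.mulVec (χ₂.mulVec v) = 0 := by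
    intro v
    by_contra hne
    have h1 := hΨ₁pos _ hne
    rw [← form_eq, ← hM, Matrix.mulVec_mulVec, hMχ₂, Matrix.zero_mulVec] at h1
    simp at h1
  have hQχ₁ : ∀ v : ι → ℤ, Q.mulVec (χ₁.mulVec v) = 0 := by
    intro v
    by_contra hne
    have h1 := hΨ₂pos _ hne
    rw [← form_eq, ← hN, Matrix.mulVec_mulVec, hNχ₁, Matrix.zero_mulVec] at h1
    simp at h1
  have hdecomp : ∀ u : ι → ℤ, χ₁.mulVec u + χ₂.mulVec u = u := by
    intro u
    rw [← Matrix.add_mulVec, hsum, Matrix.one_mulVec]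
  refine ⟨hA, ?_⟩
  intro y
  obtain ⟨x₁, hx₁⟩ := hP (y ∘ Sum.inl)
  obtain ⟨x₂, hx₂⟩ := hQ (y ∘ Sum.inr)
  refine ⟨χ₁.mulVec x₁ + χ₂.mulVec x₂, ?_⟩
  rw [Matrix.fromRows_mulVec, Matrix.mulVec_add, Matrix.mulVec_add, hPχ₂, hQχ₁, add_zero, zero_add]
  have e1 : P.mulVec (χ₁.mulVec x₁) = y ∘ Sum.inl := by
    rw [← hx₁]
    conv_rhs => rw [← hdecomp x₁]
    rw [Matrix.mulVec_add, hPχ₂, add_zero]
  have e2 : Q.mulVec (χ₂.mulVec x₂) = y ∘ Sum.inr := by
    rw [← hx₂]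
    conv_rhs => rw [← hdecomp x₂]
    rw [Matrix.mulVec_add, hQχ₁, zero_add]
  rw [e1, e2]
  ext (i | i) <;> rfl

end Groth.Agent.S16164
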