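import Groth.Statements.S16174
import Mathlib

set_option autoImplicit false
universe u
open Hensel

namespace Groth.Agent.S16174


open Polynomial IsLocalRing

theorem partA (V : Type*) [CommRing V] [HenselianLocalRing V] (p : Ideal V) [p.IsPrime] :
    HenselianLocalRing (V ⧸ p) := by
  have : Nontrivial (V ⧸ p) := Ideal.Quotient.nontrivial_iff.mpr (Ideal.IsPrime.ne_top inferInstance)
  have : IsLocalRing (V ⧸ p) := IsLocalRing.of_surjective' (Ideal.Quotient.mk p) Ideal.Quotient.mk_surjective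
  have hple : p ≤ Ideal.jacobson ⊥ := by
    rw [IsLocalRing.jacobson_eq_maximalIdeal ⊥ bot_ne_top]
    exact IsLocalRing.le_maximalIdeal (Ideal.IsPrime.ne_top inferInstance)
  have : IsLocalHom (Ideal.Quotient.mk p) := isLocalHom_of_le_jacobson_bot p hple
  refine ⟨?_⟩
  intro fbar hfbar abar h1 h2
  obtain ⟨f, hf, -, hfm⟩ := Polynomial.lifts_and_degree_eq_and_monic
    ((Polynomial.mem_lifts _).2 (Polynomial.map_surjective _ Ideal.Quotient.mk_surjective fbar)) hfbar
  obtain ⟨a₀, rfl⟩ := Ideal.Quotient.mk_surjective abar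
  have e1 : Ideal.Quotient.mk p (f.eval a₀) = fbar.eval (Ideal.Quotient.mk p a₀) := by
    rw [← hf, Polynomial.eval_map, Polynomial.eval₂_at_apply]
  have e2 : Ideal.Quotient.mk p (f.derivative.eval a₀) = fbar.derivative.eval (Ideal.Quotient.mk p a₀) := by
    rw [← hf, Polynomial.derivative_map, Polynomial.eval_map, Polynomial.eval₂_at_apply]
  have hmem : ∀ x : V, Ideal.Quotient.mk p x ∈ maximalIdeal (V ⧸ p) ↔ x ∈ maximalIdeal V := by
    intro x
    rw [mem_maximalIdeal, mem_maximalIdeal, mem_nonunits_iff, mem_nonunits_iff, not_iff_not]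
    exact ⟨fun h => isUnit_of_map_unit _ _ h, fun h => h.map _⟩
  obtain ⟨a, ha, haa⟩ := HenselianLocalRing.is_henselian f hfm a₀ ((hmem _).1 (e1 ▸ h1))
    (isUnit_of_map_unit (Ideal.Quotient.mk p) _ (e2 ▸ h2))
  refine ⟨Ideal.Quotient.mk p a, ?_, ?_⟩
  · rw [Polynomial.IsRoot.def, ← hf, Polynomial.eval_map, Polynomial.eval₂_at_apply, ha, map_zero]
  · rw [← map_sub, hmem]; exact haa


theorem star (V : Type*) [CommRing V] [IsDomain V] [ValuationRing V] (p : Ideal V) [p.IsPrime]
    (x : Localization.AtPrime p) (hx : x ∈ maximalIdeal (Localization.AtPrime p)) :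
    ∃ a ∈ p, algebraMap V (Localization.AtPrime p) a = x := by
  obtain ⟨a, s, rfl⟩ := IsLocalization.exists_mk'_eq p.primeCompl x
  rw [IsLocalization.AtPrime.mk'_mem_maximal_iff (Localization.AtPrime p) p] at hx
  rcases ValuationRing.dvd_total a (s : V) with ⟨c, hc⟩ | ⟨c, hc⟩
  · exfalso
    apply s.2
    show (s : V) ∈ p
    rw [hc]
    exact Ideal.mul_mem_right _ _ hx
  · have hcp : c ∈ p := by
      rw [hc] at hx
      rcases Ideal.IsPrime.mem_or_mem inferInstance hx with h | h
      · exact absurd h s.2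
      · exact h
    refine ⟨c, hcp, ?_⟩
    rw [hc, IsLocalization.mk'_mul_cancel_left]

/-- core: over a local ring `S` receiving a Henselian local ring `V` such that every element of the
maximal ideal of `S` comes from the maximal ideal of `V`. -/
theorem core (V S : Type*) [CommRing V] [HenselianLocalRing V] [CommRing S] [IsLocalRing S]
    (ι : V →+* S)
    (hstar : ∀ x ∈ maximalIdeal S, ∃ a ∈ maximalIdeal V, ι a = x)
    (f : S[X]) (h0 : f.coeff 0 ∈ maximalIdeal S) (h1 : IsUnit (f.coeff 1)) :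
    ∃ y ∈ maximalIdeal S, f.eval y = 0 := by
  classical
  -- degree
  have hn : 1 ≤ f.natDegree := by
    by_contra hlt
    have : f.coeff 1 = 0 := Polynomial.coeff_eq_zero_of_natDegree_lt (by omega)
    rw [this] at h1
    exact not_isUnit_zero h1
  obtain ⟨m, hm⟩ : ∃ m, f.natDegree = m + 1 := ⟨f.natDegree - 1, by omega⟩
  obtain ⟨c₁, hc₁⟩ := h1
  set c₀ := f.coeff 0 with hc₀
  set e : S := c₀ * ↑c₁⁻¹ with he
  have hem : e ∈ maximalIdeal S := Ideal.mul_mem_right _ _ h0
  -- the coefficients d_j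
  have hd : ∀ j : ℕ, ∃ δ ∈ maximalIdeal V, ι δ = f.coeff (j + 2) * ↑c₁⁻¹ * e ^ (j + 1) := by
    intro j
    apply hstar
    apply Ideal.mul_mem_left
    rw [pow_succ]
    exact Ideal.mul_mem_left _ _ hem
  choose δ hδm hδ using hd
  -- the polynomial H
  set R : V[X] := ∑ j ∈ Finset.range m, C (δ j) * X ^ (m - 1 - j) with hR
  set H : V[X] := X ^ m * (X + C 1) + R with hH
  have hRdeg : R.degree < (X ^ m * (X + C 1) : V[X]).degree := by
    have h1 : (X ^ m * (X + C 1) : V[X]).degree = ((m + 1 : ℕ) : WithBot ℕ) := by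
      have hmon : (X ^ m * (X + C 1) : V[X]).Monic := (Polynomial.monic_X_pow m).mul (Polynomial.monic_X_add_C 1)
      rw [Polynomial.degree_eq_natDegree hmon.ne_zero,
        Polynomial.Monic.natDegree_mul (Polynomial.monic_X_pow m) (Polynomial.monic_X_add_C 1),
        Polynomial.natDegree_X_pow, Polynomial.natDegree_X_add_C]
    rw [h1]
    refine lt_of_le_of_lt (Polynomial.degree_sum_le _ _) ?_
    refine (Finset.sup_lt_iff (WithBot.bot_lt_coe _)).2 ?_
    intro j _
    refine lt_of_le_of_lt (Polynomial.degree_C_mul_X_pow_le _ _) ?_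
    exact_mod_cast (by omega : m - 1 - j < m + 1)
  have hHmonic : H.Monic :=
    ((Polynomial.monic_X_pow m).mul (Polynomial.monic_X_add_C 1)).add_of_left hRdeg
  have hRmap : R.map (residue V) = 0 := by
    rw [hR, Polynomial.map_sum]
    apply Finset.sum_eq_zero
    intro j _
    rw [Polynomial.map_mul, Polynomial.map_C, (residue_eq_zero_iff _).2 (hδm j), map_zero, zero_mul]
  have hroot : aeval (-1 : ResidueField V) H = 0 := by
    have hR0 : aeval (-1 : ResidueField V) R = 0 := by
      rw [aeval_def, ← Polynomial.eval_map, IsLocalRing.ResidueField.algebraMap_eq, hRmap, eval_zero]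
    rw [hH, map_add, hR0]
    simp
  have hder : aeval (-1 : ResidueField V) (derivative H) ≠ 0 := by
    have hR0 : aeval (-1 : ResidueField V) (derivative R) = 0 := by
      rw [aeval_def, ← Polynomial.eval_map, IsLocalRing.ResidueField.algebraMap_eq,
        ← Polynomial.derivative_map, hRmap, derivative_zero, eval_zero]
    rw [hH, derivative_add, map_add, hR0]
    simp
  have hens : ∀ f : V[X], f.Monic → ∀ a₀ : ResidueField V, aeval a₀ f = 0 →
      aeval a₀ (derivative f) ≠ 0 → ∃ a : V, f.IsRoot a ∧ residue V a = a₀ :=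
    ((HenselianLocalRing.TFAE V).out 0 1).mp ‹HenselianLocalRing V›
  obtain ⟨w, hw, hwres⟩ := hens H hHmonic (-1) hroot hder
  -- w is a unit
  have hwunit : IsUnit w := by
    rw [← IsLocalRing.notMem_maximalIdeal, ← residue_eq_zero_iff, hwres]
    simp
  obtain ⟨wu, hwu⟩ := hwunit
  set z : S := ι ↑wu⁻¹ with hz
  have hzw : z * ι w = 1 := by
    rw [hz, ← hwu, ← map_mul, Units.inv_mul, map_one]
  -- H(w) = 0 mapped to S
  have hHw : (ι w) ^ m * (ι w + 1) + ∑ j ∈ Finset.range m, ι (δ j) * (ι w) ^ (m - 1 - j) = 0 := by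
    have := congrArg ι hw
    rw [hH, hR, map_zero] at this
    simpa [Polynomial.eval_finsetSum] using this
  -- multiply by z^(m+1)
  have hh : 1 + z + ∑ j ∈ Finset.range m, ι (δ j) * z ^ (j + 2) = 0 := by
    have h2 := congrArg (fun t => z ^ (m + 1) * t) hHw
    simp only [mul_zero, mul_add, Finset.mul_sum] at h2
    rw [← h2]
    have e1 : z ^ (m + 1) * (ι w ^ m * ι w) = 1 := by
      rw [← pow_succ, ← mul_pow, hzw, one_pow]
    have e2 : z ^ (m + 1) * (ι w ^ m * 1) = z := by
      rw [mul_one, pow_succ', mul_assoc, ← mul_pow, hzw, one_pow, mul_one]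
    rw [e1, e2]
    congr 1
    refine Finset.sum_congr rfl (fun j hj => ?_)
    rw [Finset.mem_range] at hj
    have e3 : z ^ (m + 1) = z ^ (j + 2) * z ^ (m - 1 - j) := by
      rw [← pow_add]; congr 1; omega
    rw [e3]
    have e4 : z ^ (m - 1 - j) * ι w ^ (m - 1 - j) = 1 := by rw [← mul_pow, hzw, one_pow]
    calc ι (δ j) * z ^ (j + 2) = ι (δ j) * z ^ (j + 2) * (z ^ (m - 1 - j) * ι w ^ (m - 1 - j)) := by
          rw [e4, mul_one]
      _ = z ^ (j + 2) * z ^ (m - 1 - j) * (ι (δ j) * ι w ^ (m - 1 - j)) := by ring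
  refine ⟨e * z, Ideal.mul_mem_right _ _ hem, ?_⟩
  rw [Polynomial.eval_eq_sum_range, hm, Finset.sum_range_succ', Finset.sum_range_succ']
  have hc₁e : f.coeff 1 * e = c₀ := by
    rw [he, ← hc₁, mul_comm c₀, ← mul_assoc, Units.mul_inv, one_mul]
  have e5 : ∑ k ∈ Finset.range m, f.coeff (k + 1 + 1) * (e * z) ^ (k + 1 + 1)
      = c₀ * ∑ j ∈ Finset.range m, ι (δ j) * z ^ (j + 2) := by
    rw [Finset.mul_sum]
    refine Finset.sum_congr rfl (fun j _ => ?_)
    rw [hδ j, mul_pow, pow_succ e (j + 1), he]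
    ring
  rw [e5]
  have : f.coeff (0 + 1) * (e * z) ^ (0 + 1) + f.coeff 0 * (e * z) ^ 0 = c₀ * (1 + z) := by
    rw [zero_add, pow_one, pow_zero, mul_one, ← mul_assoc, hc₁e]
    ring
  rw [add_assoc, this, ← mul_add, add_comm, hh, mul_zero]

/-- Let V be a Henselian valuation ring and p a prime ideal of V. Then the local rings V_p (localisation
at p) and V/p are Henselian. (Both are again valuation rings, which is elementary and not restated.) -/
theorem result (V : Type u) [CommRing V]
    [IsDomain V] [ValuationRing V] [HenselianLocalRing V] (p : Ideal V) [p.IsPrime] :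
    HenselianLocalRing (Localization.AtPrime p) ∧ HenselianLocalRing (V ⧸ p) := by
  refine ⟨?_, partA V p⟩
  refine ⟨?_⟩
  intro f hf a₀ h1 h2
  have hstar : ∀ x ∈ maximalIdeal (Localization.AtPrime p), ∃ a ∈ maximalIdeal V,
      algebraMap V (Localization.AtPrime p) a = x := by
    intro x hx
    obtain ⟨a, ha, hax⟩ := star V p x hx
    exact ⟨a, IsLocalRing.le_maximalIdeal (Ideal.IsPrime.ne_top inferInstance) ha, hax⟩
  obtain ⟨y, hy, hy0⟩ := core V (Localization.AtPrime p) (algebraMap V (Localization.AtPrime p)) hstar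
    (Polynomial.taylor a₀ f)
    (by rw [Polynomial.taylor_coeff_zero]; exact h1) (by rw [Polynomial.taylor_coeff_one]; exact h2)
  rw [Polynomial.taylor_eval] at hy0
  exact ⟨y + a₀, hy0, by rw [add_sub_cancel_right]; exact hy⟩

end Groth.Agent.S16174
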