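import Groth.Statements.S16188
import Mathlib
import Groth.Agent.Lib.helper7.RedSub

set_option autoImplicit false
universe u
open CategoryTheory AlgebraicGeometry TopologicalSpace
open SchMor

namespace Groth.Agent.S16188

/-- Let f : X → Y be a morphism of schemes with X reduced and irreducible. Then f factors through an
irreducible component of Y carrying its reduced closed-subscheme structure: there are an irreducible
component Z of Y and a morphism g from X to the closed subscheme of Y cut out by the vanishing ideal
sheaf of Z with g followed by the inclusion equal to f; that closed subscheme is integral. -/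
theorem result
    {X Y : Scheme.{u}} (f : X ⟶ Y) [IsReduced X] [IrreducibleSpace X] :
    ∃ (Z : Closeds Y) (_ : (Z : Set Y) ∈ irreducibleComponents Y)
      (_ : IsIntegral (Scheme.IdealSheafData.vanishingIdeal Z).subscheme)
      (g : X ⟶ (Scheme.IdealSheafData.vanishingIdeal Z).subscheme),
      g ≫ (Scheme.IdealSheafData.vanishingIdeal Z).subschemeι = f := by
  have hirr : IsIrreducible (closure (Set.range f)) := by
    have : IsIrreducible (Set.range f) := by
      rw [← Set.image_univ]
      exact (IrreducibleSpace.isIrreducible_univ X).image f f.continuous.continuousOn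
    exact this.closure
  obtain ⟨Z₀, hZ₀irr, hsub, hmax⟩ := exists_preirreducible _ hirr.isPreirreducible
  have hZ₀ne : Z₀.Nonempty := hirr.nonempty.mono hsub
  have hZ₀mem : Z₀ ∈ irreducibleComponents Y := by
    refine ⟨⟨hZ₀ne, hZ₀irr⟩, fun u hu hle => ?_⟩
    exact (hmax u hu.isPreirreducible hle).le
  have hZ₀cl : IsClosed Z₀ := isClosed_of_mem_irreducibleComponents Z₀ hZ₀mem
  let Z : Closeds Y := ⟨Z₀, hZ₀cl⟩
  have hred := Groth.Agent.Lib.helper7.RedSub.isReduced_subscheme_vanishingIdeal Z
  have hr : Set.range (Scheme.IdealSheafData.vanishingIdeal Z).subschemeι = Z₀ :=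
    Groth.Agent.Lib.helper7.RedSub.range_subschemeι_vanishingIdeal Z
  have hirrW : IrreducibleSpace (Scheme.IdealSheafData.vanishingIdeal Z).subscheme := by
    have hemb := (Scheme.IdealSheafData.vanishingIdeal Z).subschemeι.isClosedEmbedding
    have h1 : IsIrreducible (Set.range (Scheme.IdealSheafData.vanishingIdeal Z).subschemeι) := by
      rw [hr]; exact ⟨hZ₀ne, hZ₀irr⟩
    have : IrreducibleSpace (Set.range (Scheme.IdealSheafData.vanishingIdeal Z).subschemeι) :=
      Subtype.irreducibleSpace h1
    have : Nonempty (Scheme.IdealSheafData.vanishingIdeal Z).subscheme := by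
      obtain ⟨_, ⟨w, _⟩⟩ := h1.nonempty
      exact ⟨w⟩
    exact hemb.isEmbedding.toHomeomorph.isOpenEmbedding.irreducibleSpace
  have hint : IsIntegral (Scheme.IdealSheafData.vanishingIdeal Z).subscheme :=
    isIntegral_of_irreducibleSpace_of_isReduced _
  obtain ⟨g, hg⟩ := Groth.Agent.S4367.result f (Scheme.IdealSheafData.vanishingIdeal Z).subschemeι
    (by rw [hr]; exact subset_closure.trans hsub)
  exact ⟨Z, hZ₀mem, hint, g, hg⟩

end Groth.Agent.S16188
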