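import Groth.Statements.S16194
import Mathlib

set_option autoImplicit false
universe u
open DivAlg

namespace Groth.Agent.S16194

/-- In an associative unital ring R, not necessarily commutative, every element r of the Jacobson
radical (the set of elements lying in every maximal left ideal) is quasiregular, i.e. 1 - r is a
two-sided unit. -/
theorem result {R : Type u} [Ring R] (r : R)
    (hr : r ∈ Ring.jacobson R) : IsUnit (1 - r) := by
  rw [← Ideal.jacobson_bot] at hr
  -- left inverse for 1 - s whenever s ∈ J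
  have left_inv : ∀ s : R, s ∈ Ideal.jacobson (⊥ : Ideal R) → ∃ z : R, z * (1 - s) = 1 := by
    intro s hs
    obtain ⟨z, hz⟩ := Ideal.mem_jacobson_iff.1 hs (-1)
    refine ⟨z, ?_⟩
    rw [Ideal.mem_bot] at hz
    have : z * (1 - s) = z * -1 * s + z - 1 + 1 := by noncomm_ring
    rw [this, hz, zero_add]
  obtain ⟨z, hz⟩ := left_inv r hr
  -- z = 1 - (-(z * r)), and -(z*r) ∈ J
  have hzr : -(z * r) ∈ Ideal.jacobson (⊥ : Ideal R) :=
    neg_mem (Ideal.mul_mem_left _ z hr)
  obtain ⟨w, hw⟩ := left_inv _ hzr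
  have hz' : 1 - -(z * r) = z := by
    have : z * (1 - r) = z - z * r := by noncomm_ring
    rw [this] at hz
    rw [sub_neg_eq_add, ← hz]; noncomm_ring
  rw [hz'] at hw
  -- w z = 1, z (1 - r) = 1 ⇒ w = 1 - r
  have hw' : w = 1 - r := by
    calc w = w * (z * (1 - r)) := by rw [hz, mul_one]
      _ = (w * z) * (1 - r) := by rw [mul_assoc]
      _ = 1 - r := by rw [hw, one_mul]
  rw [hw'] at hw
  exact ⟨⟨1 - r, z, hw, hz⟩, rfl⟩

end Groth.Agent.S16194
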