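import Groth.Statements.S16196
import Mathlib

set_option autoImplicit false
universe u v
open DivAlg

namespace Groth.Agent.S16196

/-- Let R be a ring (associative, unital, not necessarily commutative) and M a left R-module which is a
generator, in the form: for some n there is an R-linear surjection from M^n onto R. Then the natural
ring homomorphism from R to the double endomorphism ring BiEnd_R(M) = End_{End_R(M)}(M)
(endomorphisms of M commuting with every R-linear endomorphism), r ↦ multiplication by r, is
bijective. (The printed form takes R an algebra over a commutative ring k, embeds R in E = End_k(M)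
and asserts R = C_E(C_E(R)); the double centralizer there is BiEnd_R(M).) -/
theorem result {R : Type u} [Ring R] (M : Type v)
    [AddCommGroup M] [Module R M]
    (hgen : ∃ (n : ℕ) (f : (Fin n → M) →ₗ[R] R), Function.Surjective f) :
    Function.Bijective (Module.toModuleEnd (Module.End R M) (S := R) M) := by
  classical
  obtain ⟨n, f, hf⟩ := hgen
  obtain ⟨x, hx⟩ := hf 1
  have hxsum : x = ∑ i, Pi.single i (x i) := by
    exact (Finset.univ_sum_single x).symm
  constructor
  · -- injective
    rw [injective_iff_map_eq_zero]
    intro r hr
    have h0 : ∀ m : M, r • m = 0 := by
      intro m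
      have := congrArg (fun T : Module.End (Module.End R M) M => T m) hr
      simpa using this
    have : r = r • f x := by rw [hx]; simp
    rw [this, ← map_smul]
    have : r • x = 0 := by
      ext i; simp [h0]
    rw [this, map_zero]
  · -- surjective
    intro T
    have hT : ∀ (g : Module.End R M) (v : M), T (g v) = g (T v) := by
      intro g v
      have := T.map_smul g v
      simpa [Module.End.smul_def] using this
    refine ⟨f (fun i => T (x i)), ?_⟩
    ext m
    change f (fun i => T (x i)) • m = T m
    let h : Fin n → Module.End R M := fun i =>
      (LinearMap.toSpanSingleton R M m).comp (f.comp (LinearMap.single R (fun _ => M) i))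
    have hh : ∀ i (m' : M), h i m' = f (Pi.single i m') • m := by
      intro i m'; simp [h]
    have hm : m = ∑ i, h i (x i) := by
      simp_rw [hh]
      rw [← Finset.sum_smul, ← map_sum, ← hxsum, hx, one_smul]
    have hTx : (fun i => T (x i)) = ∑ i, Pi.single i (T (x i)) :=
      (Finset.univ_sum_single (fun i => T (x i))).symm
    conv_rhs => rw [hm]
    rw [map_sum]
    simp_rw [hT, hh]
    rw [← Finset.sum_smul, ← map_sum, ← hTx]

end Groth.Agent.S16196
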