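import Groth.Statements.S16197
import Mathlib

set_option autoImplicit false
universe u v w
open DivAlg

namespace Groth.Agent.S16197

/-- Let R be a ring (associative, unital, not necessarily commutative) and M a left R-module which is a
generator, used here only through the existence of an R-linear surjection from a direct sum of
copies of M, indexed by an arbitrary type, onto R. Then some finite power M^n decomposes as R × Q
for a submodule Q of M^n. (The published statement is an equivalence; this row states only the
implication from the existence of such a surjection to the splitting.) -/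
theorem result {R : Type u} [Ring R] (M : Type v)
    [AddCommGroup M] [Module R M]
    (hgen : ∃ (ι : Type w) (f : (ι →₀ M) →ₗ[R] R), Function.Surjective f) :
    ∃ (n : ℕ) (Q : Submodule R (Fin n → M)), Nonempty ((Fin n → M) ≃ₗ[R] (R × Q)) := by
  classical
  obtain ⟨ι, f, hf⟩ := hgen
  obtain ⟨x, hx⟩ := hf 1
  let s := x.support
  let n := s.card
  let e : Fin n ≃ s := (s.equivFin).symm
  let L : (Fin n → M) →ₗ[R] (ι →₀ M) :=
    ∑ k : Fin n, (Finsupp.lsingle (e k : ι)).comp (LinearMap.proj k)
  have hL : ∀ v : Fin n → M, L v = ∑ k : Fin n, Finsupp.single (e k : ι) (v k) := by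
    intro v; simp [L, LinearMap.sum_apply]
  let v₀ : Fin n → M := fun k => x (e k)
  have hLv₀ : L v₀ = x := by
    rw [hL]
    have h1 : ∑ k : Fin n, Finsupp.single (e k : ι) (v₀ k) = ∑ i : s, Finsupp.single (i : ι) (x i) :=
      Fintype.sum_equiv e _ _ (fun k => rfl)
    rw [h1, Finset.sum_coe_sort s (fun i => Finsupp.single i (x i))]
    exact Finsupp.sum_single x
  let g : (Fin n → M) →ₗ[R] R := f.comp L
  have hg : g v₀ = 1 := by simp [g, hLv₀, hx]
  refine ⟨n, LinearMap.ker g, ⟨?_⟩⟩
  refine
    { toFun := fun v => (g v, ⟨v - g v • v₀, by simp [LinearMap.mem_ker, map_sub, hg]⟩)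
      map_add' := by
        intro v w
        ext
        · simp
        · simp only [map_add, add_smul, Prod.mk_add_mk, AddMemClass.mk_add_mk, Pi.add_apply, Pi.sub_apply]
          abel
      map_smul' := by
        intro r v
        ext
        · simp
        · simp only [map_smul, smul_eq_mul, RingHom.id_apply, Prod.smul_mk, SetLike.mk_smul_mk, smul_sub, mul_smul]
      invFun := fun q => q.1 • v₀ + (q.2 : Fin n → M)
      left_inv := by
        intro v
        simp
      right_inv := by
        rintro ⟨r, ⟨q, hq⟩⟩
        have hq' : g q = 0 := hq
        ext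
        · simp [hg, hq']
        · simp [hg, hq'] }

end Groth.Agent.S16197
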