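import Groth.Statements.S16198
import Mathlib

set_option autoImplicit false
universe u v
open DivAlg

namespace Groth.Agent.S16198

open TensorProduct CommRing


theorem tpow {R : Type u} [CommRing R] (N : Type v)
    [AddCommGroup N] [Module R N] [Module.Invertible R N] (j : ℕ) :
    ∃ (_ : Module.Invertible R (⨂[R] (_ : Fin j), N)),
      CommRing.Pic.mk R (⨂[R] (_ : Fin j), N) = CommRing.Pic.mk R N ^ j := by
  induction j with
  | zero =>
    have e0 : (⨂[R] (_ : Fin 0), N) ≃ₗ[R] R := PiTensorProduct.isEmptyEquiv (Fin 0)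
    haveI : Module.Invertible R (⨂[R] (_ : Fin 0), N) := Module.Invertible.congr e0.symm
    refine ⟨inferInstance, ?_⟩
    rw [pow_zero, Pic.mk_eq_one_iff]
    exact ⟨e0⟩
  | succ j ih =>
    obtain ⟨inst, hj⟩ := ih
    have e1 : (⨂[R] (_ : Fin (j + 1)), N) ≃ₗ[R] (⨂[R] (_ : Fin j ⊕ Fin 1), N) :=
      PiTensorProduct.reindex R (fun _ => N) finSumFinEquiv.symm
    have e2 : (⨂[R] (_ : Fin j ⊕ Fin 1), N) ≃ₗ[R]
        (⨂[R] (_ : Fin j), N) ⊗[R] (⨂[R] (_ : Fin 1), N) :=
      (PiTensorProduct.tmulEquiv R N).symm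
    have e3 : (⨂[R] (_ : Fin 1), N) ≃ₗ[R] N := PiTensorProduct.subsingletonEquiv (0 : Fin 1)
    have e4 : (⨂[R] (_ : Fin (j + 1)), N) ≃ₗ[R] (⨂[R] (_ : Fin j), N) ⊗[R] N :=
      e1 ≪≫ₗ e2 ≪≫ₗ TensorProduct.congr (LinearEquiv.refl R _) e3
    haveI : Module.Invertible R (⨂[R] (_ : Fin (j + 1)), N) := Module.Invertible.congr e4.symm
    refine ⟨inferInstance, ?_⟩
    rw [pow_succ, ← hj, ← Pic.mk_tensor, Pic.mk_eq_mk_iff]
    exact ⟨e4⟩




/-- The multilinear determinant map -/
noncomputable def detMap {R : Type u} [CommRing R] (N : Type v) [AddCommGroup N] [Module R N]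
    (n : ℕ) (e : (Fin n → N) ≃ₗ[R] (Fin n → R)) : MultilinearMap R (fun _ : Fin n => N) R :=
  (Matrix.detRowAlternating (R := R) (n := Fin n)).toMultilinearMap.compLinearMap
    (fun i => e.toLinearMap ∘ₗ LinearMap.single R (fun _ => N) i)

theorem detMap_apply {R : Type u} [CommRing R] (N : Type v) [AddCommGroup N] [Module R N]
    (n : ℕ) (e : (Fin n → N) ≃ₗ[R] (Fin n → R)) (x : Fin n → N) :
    detMap N n e x = Matrix.det (Matrix.of fun i => e (Pi.single i (x i))) := rfl

theorem lin_mem {R : Type u} [CommRing R] {A B : Type*} [AddCommGroup A] [Module R A]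
    [AddCommGroup B] [Module R B]
    (n : ℕ) (f : (Fin n → A) →ₗ[R] (Fin n → B)) (I : Ideal R) (w : Fin n → A)
    (hw : ∀ i, w i ∈ I • (⊤ : Submodule R A)) (j : Fin n) :
    f w j ∈ I • (⊤ : Submodule R B) := by
  have h1 : w = ∑ i, Pi.single i (w i) := (Finset.univ_sum_single w).symm
  rw [h1, map_sum, Finset.sum_apply]
  refine Submodule.sum_mem _ fun i _ => ?_
  exact Submodule.smul_top_le_comap_smul_top I
    ((LinearMap.proj j) ∘ₗ f ∘ₗ (LinearMap.single R (fun _ => A) i)) (hw i)

theorem surj {R : Type u} [CommRing R] (N : Type v) [AddCommGroup N] [Module R N] (n : ℕ)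
    (e : (Fin n → N) ≃ₗ[R] (Fin n → R)) :
    Function.Surjective (PiTensorProduct.lift (detMap N n e)) := by
  classical
  set μ := PiTensorProduct.lift (detMap N n e) with hμ
  rw [← LinearMap.range_eq_top]
  by_contra hne
  obtain ⟨𝔪, hmax, hle⟩ := Ideal.exists_le_maximal (LinearMap.range μ) hne
  rcases Nat.eq_zero_or_pos n with rfl | hn
  · have h1 : (1 : R) ∈ LinearMap.range μ :=
      ⟨PiTensorProduct.tprod R (fun _ => 0), by
        rw [hμ, PiTensorProduct.lift.tprod, detMap_apply]; simp⟩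
    exact hmax.ne_top ((Ideal.eq_top_iff_one _).mpr (hle h1))
  have hx : ∃ x : N, x ∉ 𝔪 • (⊤ : Submodule R N) := by
    by_contra hall
    push_neg at hall
    have h2 := lin_mem n e.toLinearMap 𝔪 (e.symm (Pi.single ⟨0, hn⟩ 1)) (fun i => hall _) ⟨0, hn⟩
    rw [LinearEquiv.coe_coe, LinearEquiv.apply_symm_apply, Pi.single_eq_same, smul_eq_mul,
      Ideal.mul_top] at h2
    exact hmax.ne_top ((Ideal.eq_top_iff_one _).mpr h2)
  obtain ⟨x, hx⟩ := hx
  set E : Matrix (Fin n) (Fin n) R := Matrix.of fun i => e (Pi.single i x) with hE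
  have hdet : E.det ∈ 𝔪 := hle ⟨PiTensorProduct.tprod R (fun _ => x), by
    rw [hμ, PiTensorProduct.lift.tprod, detMap_apply]⟩
  letI := Ideal.Quotient.field 𝔪
  have hdet' : (E.map (Ideal.Quotient.mk 𝔪)).det = 0 := by
    rw [← RingHom.mapMatrix_apply, ← RingHom.map_det]
    exact Ideal.Quotient.eq_zero_iff_mem.mpr hdet
  obtain ⟨cb, hcbne, hcb⟩ := Matrix.exists_vecMul_eq_zero_iff.mpr hdet'
  choose c hc using fun i => Ideal.Quotient.mk_surjective (cb i)
  have hew : ∀ j, e (fun i => c i • x) j ∈ 𝔪 := by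
    intro j
    have h3 : (fun i => c i • x) = ∑ i, c i • (Pi.single i x : Fin n → N) := by
      funext i
      simp [Finset.sum_apply, Pi.single_apply]
    rw [h3, map_sum, Finset.sum_apply, ← Ideal.Quotient.eq_zero_iff_mem, map_sum]
    have h4 := congrFun hcb j
    simp only [Matrix.vecMul, dotProduct, Matrix.map_apply, Pi.zero_apply] at h4
    rw [← h4]
    refine Finset.sum_congr rfl fun i _ => ?_
    rw [map_smul, Pi.smul_apply, smul_eq_mul, map_mul, hc, hE, Matrix.of_apply]
  have hw : ∀ i, c i • x ∈ 𝔪 • (⊤ : Submodule R N) := by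
    intro i
    have h5 := lin_mem n e.symm.toLinearMap 𝔪 (e (fun i => c i • x))
      (fun j => by rw [smul_eq_mul, Ideal.mul_top]; exact hew j) i
    simpa using h5
  obtain ⟨i, hi⟩ : ∃ i, cb i ≠ 0 := Function.ne_iff.mp hcbne
  have hci : c i ∉ 𝔪 := by
    rw [← Ideal.Quotient.eq_zero_iff_mem, hc]
    exact hi
  obtain ⟨d, t, ht, hdt⟩ := hmax.exists_inv hci
  apply hx
  have h6 : x = d • (c i • x) + t • x := by rw [smul_smul, ← add_smul, hdt, one_smul]
  rw [h6]
  exact Submodule.add_mem _ (Submodule.smul_mem _ _ (hw i))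
    (Submodule.smul_mem_smul ht Submodule.mem_top)

/-- In the case of a commutative ring R, let N be an invertible R-module such that the direct sum N^n is
isomorphic to R^n for some natural number n. Then the class of N in Pic(R) satisfies [N]^n = 1. (The
published statement is for invertible modules on an arbitrary ringed site; this row states the case
of a commutative ring.) -/
theorem result {R : Type u} [CommRing R] (N : Type v)
    [AddCommGroup N] [Module R N] [Module.Invertible R N] (n : ℕ)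
    (e : (Fin n → N) ≃ₗ[R] (Fin n → R)) :
    CommRing.Pic.mk R N ^ n = 1 := by
  obtain ⟨inst, h⟩ := tpow (R := R) N n
  rw [← h, CommRing.Pic.mk_eq_one_iff]
  exact ⟨LinearEquiv.ofBijective _ (Module.Invertible.bijective_of_surjective (surj N n e))⟩

end Groth.Agent.S16198
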