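import Groth.Statements.S16199
import Mathlib

set_option autoImplicit false
universe u
open DivAlg

namespace Groth.Agent.S16199

section Aux
open Matrix TensorProduct

section Bwd
variable {R : Type u} [CommRing R] {n : ℕ}
  (φ : Matrix (Fin n) (Fin n) R ≃ₐ[R] Matrix (Fin n) (Fin n) R) (o : Fin n)

/-- `Hom_M(V, V_φ)`. -/
def NN : Submodule R (Matrix (Fin n) (Fin n) R) where
  carrier := {T | ∀ A, T * A = φ A * T}
  add_mem' := by
    intro a b ha hb A
    rw [add_mul, mul_add, ha A, hb A]
  zero_mem' := by intro A; simp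
  smul_mem' := by
    intro c T hT A
    rw [smul_mul_assoc, mul_smul_comm, hT A]

/-- `Hom_M(V_φ, V)`. -/
def NN' : Submodule R (Matrix (Fin n) (Fin n) R) where
  carrier := {S | ∀ A, S * φ A = A * S}
  add_mem' := by
    intro a b ha hb A
    rw [add_mul, mul_add, ha A, hb A]
  zero_mem' := by intro A; simp
  smul_mem' := by
    intro c T hT A
    rw [smul_mul_assoc, mul_smul_comm, hT A]

theorem eq_smul_one_of_commute (X : Matrix (Fin n) (Fin n) R) (h : ∀ A, A * X = X * A) :
    X = X o o • (1 : Matrix (Fin n) (Fin n) R) := by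
  obtain ⟨r, hr⟩ := (mem_range_scalar_iff_commute_single' (M := X)).mpr (fun i j => h _)
  have h1 : X o o = r := by rw [← hr]; simp
  rw [h1, ← hr]
  ext i j
  simp [Matrix.one_apply, Matrix.diagonal_apply]

theorem single_eq_smul (i j : Fin n) (x : R) :
    (single i j x : Matrix (Fin n) (Fin n) R) = x • single i j (1 : R) := by
  rw [smul_single, smul_eq_mul, mul_one]

def mkT (W : Matrix (Fin n) (Fin n) R) : Matrix (Fin n) (Fin n) R :=
  ∑ j, φ (single j o 1) * W * single o j 1

def mkS (W : Matrix (Fin n) (Fin n) R) : Matrix (Fin n) (Fin n) R :=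
  ∑ i, single i o 1 * W * φ (single o i 1)

theorem mkT_mem (W : Matrix (Fin n) (Fin n) R) : mkT φ o W ∈ NN φ := by
  intro A
  induction A using Matrix.induction_on' with
  | h_zero => simp
  | h_add p q hp hq => rw [mul_add, map_add, add_mul, hp, hq]
  | h_std_basis k l x =>
    rw [mkT, Finset.sum_mul, Finset.mul_sum]
    rw [Finset.sum_eq_single k, Finset.sum_eq_single l]
    · rw [Matrix.mul_assoc, single_mul_single_same, ← Matrix.mul_assoc, ← Matrix.mul_assoc,
        ← map_mul, single_mul_single_same, one_mul, mul_one, single_eq_smul o l x,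
        single_eq_smul k o x, map_smul, smul_mul_assoc, smul_mul_assoc, mul_smul_comm]
    · intro b _ hb
      rw [← Matrix.mul_assoc, ← Matrix.mul_assoc, ← map_mul, single_mul_single_of_ne _ _ _ _ hb.symm,
        map_zero, Matrix.zero_mul, Matrix.zero_mul]
    · intro h; exact absurd (Finset.mem_univ _) h
    · intro b _ hb
      rw [Matrix.mul_assoc, single_mul_single_of_ne _ _ _ _ hb, Matrix.mul_zero]
    · intro h; exact absurd (Finset.mem_univ _) h

theorem mkS_mem (W : Matrix (Fin n) (Fin n) R) : mkS φ o W ∈ NN' φ := by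
  intro A
  induction A using Matrix.induction_on' with
  | h_zero => simp
  | h_add p q hp hq => rw [map_add, mul_add, add_mul, hp, hq]
  | h_std_basis k l x =>
    rw [mkS, Finset.sum_mul, Finset.mul_sum]
    rw [Finset.sum_eq_single k, Finset.sum_eq_single l]
    · rw [Matrix.mul_assoc, ← map_mul, single_mul_single_same, ← Matrix.mul_assoc,
        ← Matrix.mul_assoc, single_mul_single_same, one_mul, mul_one, single_eq_smul o l x,
        single_eq_smul k o x, map_smul, smul_mul_assoc, smul_mul_assoc, mul_smul_comm]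
    · intro b _ hb
      rw [← Matrix.mul_assoc, ← Matrix.mul_assoc, single_mul_single_of_ne _ _ _ _ hb.symm,
        Matrix.zero_mul, Matrix.zero_mul]
    · intro h; exact absurd (Finset.mem_univ _) h
    · intro b _ hb
      rw [Matrix.mul_assoc, ← map_mul, single_mul_single_of_ne _ _ _ _ hb, map_zero, Matrix.mul_zero]
    · intro h; exact absurd (Finset.mem_univ _) h

theorem mkS_mul_mkT (W W' : Matrix (Fin n) (Fin n) R) :
    mkS φ o W * mkT φ o W' = (W * φ (single o o 1) * W') o o • (1 : Matrix (Fin n) (Fin n) R) := by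
  have key : ∀ i j, single i o 1 * W * φ (single o i 1) * (φ (single j o 1) * W' * single o j 1) =
      if i = j then single i i ((W * φ (single o o 1) * W') o o) else 0 := by
    intro i j
    split_ifs with h
    · subst h
      have h1 : single i o 1 * W * φ (single o i 1) * (φ (single i o 1) * W' * single o i 1) =
          single i o 1 * (W * φ (single o o 1) * W') * single o i 1 := by
        have h2 : φ (single o i 1) * φ (single i o 1) = φ (single o o 1) := by
          rw [← map_mul, single_mul_single_same, mul_one]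
        simp only [Matrix.mul_assoc]
        rw [← Matrix.mul_assoc (φ (single o i 1)) (φ (single i o 1)), h2]
      rw [h1, single_mul_mul_single, one_mul, mul_one]
    · have h2 : φ (single o i 1) * φ (single j o 1) = 0 := by
        rw [← map_mul, single_mul_single_of_ne _ _ _ _ h, map_zero]
      simp only [Matrix.mul_assoc]
      rw [← Matrix.mul_assoc (φ (single o i 1)) (φ (single j o 1)), h2]
      simp
  rw [mkS, mkT, Finset.sum_mul]
  simp_rw [Finset.mul_sum, key, Finset.sum_ite_eq, Finset.mem_univ, if_true]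
  simp_rw [single_eq_smul _ _ ((W * φ (single o o 1) * W') o o)]
  rw [← Finset.smul_sum, sum_single_one]

theorem sum_mkS_mul_mkT :
    ∑ j, mkS φ o (φ (single j o 1)) * mkT φ o (φ (single o j 1)) = 1 := by
  simp_rw [mkS_mul_mkT]
  rw [← Finset.sum_smul]
  have h1 : ∀ j, φ (single j o 1) * φ (single o o 1) * φ (single o j 1) = φ (single j j 1) := by
    intro j
    rw [← map_mul, ← map_mul, single_mul_single_same, single_mul_single_same, mul_one, mul_one]
  simp_rw [h1]
  have h2 : ∑ j, (φ (single j j 1)) o o = (1 : R) := by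
    have : ∑ j, φ (single j j (1 : R)) = 1 := by
      rw [← map_sum, sum_single_one, map_one]
    have h3 := congrFun (congrFun this o) o
    rw [Matrix.sum_apply] at h3
    simpa using h3
  rw [h2, one_smul]

end Bwd

section Bwd2
variable {R : Type u} [CommRing R] {n : ℕ}
  (φ : Matrix (Fin n) (Fin n) R ≃ₐ[R] Matrix (Fin n) (Fin n) R) (o : Fin n)

theorem mem_NN {T : Matrix (Fin n) (Fin n) R} : T ∈ NN φ ↔ ∀ A, T * A = φ A * T := Iff.rfl
theorem mem_NN' {S : Matrix (Fin n) (Fin n) R} : S ∈ NN' φ ↔ ∀ A, S * φ A = A * S := Iff.rfl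

/-- the pairing `Hom(V_φ,V) × Hom(V,V_φ) → End_M(V) = R`. -/
def pairing : ↥(NN' φ) →ₗ[R] ↥(NN φ) →ₗ[R] R :=
  LinearMap.mk₂ R (fun S T => ((S : Matrix (Fin n) (Fin n) R) * (T : Matrix (Fin n) (Fin n) R)) o o)
    (by intro S S' T; simp [add_mul])
    (by intro c S T; simp)
    (by intro S T T'; simp [mul_add])
    (by intro c S T; simp)

theorem pairing_apply (S : ↥(NN' φ)) (T : ↥(NN φ)) :
    pairing φ o S T = ((S : Matrix (Fin n) (Fin n) R) * (T : Matrix (Fin n) (Fin n) R)) o o := rfl

theorem ST_eq (S : ↥(NN' φ)) (T : ↥(NN φ)) :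
    (S : Matrix (Fin n) (Fin n) R) * (T : Matrix (Fin n) (Fin n) R) =
      pairing φ o S T • (1 : Matrix (Fin n) (Fin n) R) := by
  rw [pairing_apply]
  apply eq_smul_one_of_commute
  intro A
  rw [← Matrix.mul_assoc, ← S.2 A, Matrix.mul_assoc, ← T.2 A, ← Matrix.mul_assoc]

theorem TS_eq (S : ↥(NN' φ)) (T : ↥(NN φ)) :
    (T : Matrix (Fin n) (Fin n) R) * (S : Matrix (Fin n) (Fin n) R) =
      ((T : Matrix (Fin n) (Fin n) R) * (S : Matrix (Fin n) (Fin n) R)) o o •
        (1 : Matrix (Fin n) (Fin n) R) := by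
  apply eq_smul_one_of_commute
  intro A
  obtain ⟨B, rfl⟩ := φ.surjective A
  rw [← Matrix.mul_assoc, ← T.2 B, Matrix.mul_assoc, ← S.2 B, ← Matrix.mul_assoc]

theorem key (S S' : ↥(NN' φ)) (T T' : ↥(NN φ)) :
    pairing φ o S' T' • (S ⊗ₜ[R] T) = pairing φ o S T • (S' ⊗ₜ[R] T') := by
  set e : R := ((T : Matrix (Fin n) (Fin n) R) * (S' : Matrix (Fin n) (Fin n) R)) o o with he
  have h1 : pairing φ o S' T' • T = e • T' := by
    apply Subtype.ext
    rw [Submodule.coe_smul, Submodule.coe_smul]
    calc pairing φ o S' T' • (T : Matrix (Fin n) (Fin n) R)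
        = (T : Matrix (Fin n) (Fin n) R) * (pairing φ o S' T' • (1 : Matrix (Fin n) (Fin n) R)) := by
          rw [mul_smul_comm, Matrix.mul_one]
      _ = (T : Matrix (Fin n) (Fin n) R) * S' * T' := by rw [← ST_eq, Matrix.mul_assoc]
      _ = e • (T' : Matrix (Fin n) (Fin n) R) := by
          rw [TS_eq φ o S' T, smul_mul_assoc, Matrix.one_mul]
  have h2 : e • S = pairing φ o S T • S' := by
    apply Subtype.ext
    rw [Submodule.coe_smul, Submodule.coe_smul]
    calc e • (S : Matrix (Fin n) (Fin n) R)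
        = (S : Matrix (Fin n) (Fin n) R) * (e • (1 : Matrix (Fin n) (Fin n) R)) := by
          rw [mul_smul_comm, Matrix.mul_one]
      _ = (S : Matrix (Fin n) (Fin n) R) * T * S' := by rw [← TS_eq φ o S' T, Matrix.mul_assoc]
      _ = pairing φ o S T • (S' : Matrix (Fin n) (Fin n) R) := by
          rw [ST_eq φ o S T, smul_mul_assoc, Matrix.one_mul]
  rw [← TensorProduct.tmul_smul, h1, TensorProduct.tmul_smul, TensorProduct.smul_tmul', h2,
    ← TensorProduct.smul_tmul']

/-- the distinguished elements -/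
def Sj (j : Fin n) : ↥(NN' φ) := ⟨mkS φ o (φ (single j o 1)), mkS_mem φ o _⟩
def Tj (j : Fin n) : ↥(NN φ) := ⟨mkT φ o (φ (single o j 1)), mkT_mem φ o _⟩

theorem sum_Sj_Tj : ∑ j, (Sj φ o j : Matrix (Fin n) (Fin n) R) * (Tj φ o j : Matrix (Fin n) (Fin n) R) = 1 :=
  sum_mkS_mul_mkT φ o

theorem sum_pairing : ∑ j, pairing φ o (Sj φ o j) (Tj φ o j) = 1 := by
  have h := sum_Sj_Tj φ o
  simp_rw [ST_eq φ o] at h
  rw [← Finset.sum_smul] at h
  have h3 := congrFun (congrFun h o) o
  simpa using h3

def z0 : ↥(NN' φ) ⊗[R] ↥(NN φ) := ∑ j, Sj φ o j ⊗ₜ[R] Tj φ o j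

theorem eq_smul_z0 (z : ↥(NN' φ) ⊗[R] ↥(NN φ)) :
    z = TensorProduct.lift (pairing φ o) z • z0 φ o := by
  induction z using TensorProduct.induction_on with
  | zero => simp
  | add x y hx hy => rw [map_add, add_smul, ← hx, ← hy]
  | tmul S T =>
    rw [TensorProduct.lift.tmul, z0, Finset.smul_sum]
    simp_rw [← key φ o S _ T _]
    rw [← Finset.sum_smul, sum_pairing, one_smul]

theorem lift_z0 : TensorProduct.lift (pairing φ o) (z0 φ o) = 1 := by
  rw [z0, map_sum]
  simp_rw [TensorProduct.lift.tmul]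
  exact sum_pairing φ o

theorem pairing_bijective : Function.Bijective (TensorProduct.lift (pairing φ o)) := by
  constructor
  · rw [injective_iff_map_eq_zero]
    intro z hz
    rw [eq_smul_z0 φ o z, hz, zero_smul]
  · intro c
    exact ⟨c • z0 φ o, by rw [map_smul, lift_z0, smul_eq_mul, mul_one]⟩

include o in
theorem invertible_NN : Module.Invertible R ↥(NN φ) :=
  Module.Invertible.right (LinearEquiv.ofBijective _ (pairing_bijective φ o))

end Bwd2

section Bwd3
variable {R : Type u} [CommRing R] {n : ℕ}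
  (φ : Matrix (Fin n) (Fin n) R ≃ₐ[R] Matrix (Fin n) (Fin n) R) (o : Fin n)

/-- the matrix with `o`-th column `v` and zeros elsewhere. -/
def Vc (v : Fin n → R) : Matrix (Fin n) (Fin n) R := Matrix.of fun a b => if b = o then v a else 0

def Psi : (Fin n → ↥(NN φ)) →ₗ[R] (Fin n → R) where
  toFun T a := ∑ j, (T j : Matrix (Fin n) (Fin n) R) a j
  map_add' T T' := by
    ext a
    simp [Finset.sum_add_distrib]
  map_smul' c T := by
    ext a
    simp [Finset.mul_sum]

def PsiInv (v : Fin n → R) : Fin n → ↥(NN φ) :=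
  fun j => ⟨mkT φ o (φ (single o j 1) * Vc o v), mkT_mem φ o _⟩

theorem mkT_apply (W : Matrix (Fin n) (Fin n) R) (a j : Fin n) :
    mkT φ o W a j = (φ (single j o 1) * W) a o := by
  rw [mkT, Matrix.sum_apply, Finset.sum_eq_single j]
  · rw [mul_single_apply_same, mul_one]
  · intro b _ hb
    rw [mul_single_apply_of_ne _ _ _ _ _ hb.symm]
  · intro h; exact absurd (Finset.mem_univ _) h

theorem Psi_PsiInv (v : Fin n → R) : Psi φ (PsiInv φ o v) = v := by
  ext a
  show ∑ j, mkT φ o (φ (single o j 1) * Vc o v) a j = v a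
  simp_rw [mkT_apply]
  have h1 : ∀ j, φ (single j o 1) * (φ (single o j 1) * Vc o v) = φ (single j j 1) * Vc o v := by
    intro j
    rw [← Matrix.mul_assoc, ← map_mul, single_mul_single_same, mul_one]
  simp_rw [h1]
  rw [← Matrix.sum_apply, ← Finset.sum_mul, ← map_sum, sum_single_one, map_one, Matrix.one_mul]
  simp [Vc]

theorem Vc_Psi (T : Fin n → ↥(NN φ)) :
    Vc o (Psi φ T) = ∑ k, (T k : Matrix (Fin n) (Fin n) R) * single k o 1 := by
  ext a b
  rw [Matrix.sum_apply]
  by_cases hb : b = o
  · subst hb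
    simp [Vc, Psi]
  · simp only [Vc, Matrix.of_apply, if_neg hb]
    symm
    refine Finset.sum_eq_zero fun k _ => ?_
    rw [mul_single_apply_of_ne _ _ _ _ _ hb]

theorem PsiInv_Psi (T : Fin n → ↥(NN φ)) : PsiInv φ o (Psi φ T) = T := by
  funext j
  apply Subtype.ext
  show mkT φ o (φ (single o j 1) * Vc o (Psi φ T)) = (T j : Matrix (Fin n) (Fin n) R)
  have h1 : φ (single o j 1) * Vc o (Psi φ T) = (T j : Matrix (Fin n) (Fin n) R) * single o o 1 := by
    rw [Vc_Psi, Finset.mul_sum, Finset.sum_eq_single j]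
    · rw [← Matrix.mul_assoc, ← (T j).2 (single o j 1), Matrix.mul_assoc, single_mul_single_same,
        mul_one]
    · intro b _ hb
      rw [← Matrix.mul_assoc, ← (T b).2 (single o j 1), Matrix.mul_assoc,
        single_mul_single_of_ne _ _ _ _ hb.symm, Matrix.mul_zero]
    · intro h; exact absurd (Finset.mem_univ _) h
  rw [h1, mkT]
  have h2 : ∀ i, φ (single i o 1) * ((T j : Matrix (Fin n) (Fin n) R) * single o o 1) * single o i 1 =
      (T j : Matrix (Fin n) (Fin n) R) * single i i 1 := by
    intro i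
    rw [← Matrix.mul_assoc, ← (T j).2 (single i o 1), Matrix.mul_assoc, Matrix.mul_assoc,
      single_mul_single_same, single_mul_single_same, mul_one, mul_one]
  simp_rw [h2]
  rw [← Finset.mul_sum, sum_single_one, Matrix.mul_one]

noncomputable def PsiEquiv : (Fin n → ↥(NN φ)) ≃ₗ[R] (Fin n → R) :=
  { Psi φ with
    invFun := PsiInv φ o
    left_inv := PsiInv_Psi φ o
    right_inv := Psi_PsiInv φ o }

/-- Backward direction. -/
theorem backward (hn : 1 ≤ n)
    (H : ∀ (N : Type u) [AddCommGroup N] [Module R N] [Module.Invertible R N],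
        Nonempty ((Fin n → N) ≃ₗ[R] (Fin n → R)) → Module.Free R N)
    (φ : Matrix (Fin n) (Fin n) R ≃ₐ[R] Matrix (Fin n) (Fin n) R) :
    ∃ P : GL (Fin n) R, ∀ A : Matrix (Fin n) (Fin n) R, φ A = P.1 * A * (P⁻¹).1 := by
  let o : Fin n := ⟨0, hn⟩
  haveI : Module.Invertible R ↥(NN φ) := invertible_NN φ o
  have hfree : Module.Free R ↥(NN φ) := H ↥(NN φ) ⟨PsiEquiv φ o⟩
  obtain ⟨ε⟩ := Module.Invertible.free_iff_linearEquiv.mp hfree
  set P : ↥(NN φ) := ε.symm 1 with hP
  have hT : ∀ T : ↥(NN φ), T = ε T • P := by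
    intro T
    rw [hP, ← map_smul, smul_eq_mul, mul_one, LinearEquiv.symm_apply_apply]
  set Q : Matrix (Fin n) (Fin n) R := ∑ j, ε (Tj φ o j) • (Sj φ o j : Matrix (Fin n) (Fin n) R) with hQ
  have hQP : Q * (P : Matrix (Fin n) (Fin n) R) = 1 := by
    rw [hQ, Finset.sum_mul, ← sum_Sj_Tj φ o]
    refine Finset.sum_congr rfl fun j _ => ?_
    conv_rhs => rw [hT (Tj φ o j)]
    rw [Submodule.coe_smul, smul_mul_assoc, mul_smul_comm]
  have hPQ : (P : Matrix (Fin n) (Fin n) R) * Q = 1 := mul_eq_one_comm.mp hQP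
  refine ⟨⟨P, Q, hPQ, hQP⟩, fun A => ?_⟩
  show φ A = (P : Matrix (Fin n) (Fin n) R) * A * Q
  rw [P.2 A, Matrix.mul_assoc, hPQ, Matrix.mul_one]

end Bwd3

section Fwd
variable {R : Type u} [CommRing R] {n : ℕ} (N : Type u) [AddCommGroup N] [Module R N]

/-- a scalar matrix acting on `N^n`. -/
def actN (A : Matrix (Fin n) (Fin n) R) : Module.End R (Fin n → N) where
  toFun x i := ∑ j, A i j • x j
  map_add' x y := by
    funext i
    simp [smul_add, Finset.sum_add_distrib]
  map_smul' c x := by
    funext i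
    simp [Finset.smul_sum, smul_comm c]

theorem actN_apply (A : Matrix (Fin n) (Fin n) R) (x : Fin n → N) (i : Fin n) :
    actN N A x i = ∑ j, A i j • x j := rfl

theorem actN_one : actN N (1 : Matrix (Fin n) (Fin n) R) = 1 := by
  refine LinearMap.ext fun x => funext fun i => ?_
  simp [actN_apply, Matrix.one_apply]

theorem actN_mul (A B : Matrix (Fin n) (Fin n) R) : actN N (A * B) = actN N A * actN N B := by
  refine LinearMap.ext fun x => funext fun i => ?_
  rw [Module.End.mul_apply, actN_apply, actN_apply]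
  simp only [actN_apply, Matrix.mul_apply, Finset.sum_smul, Finset.smul_sum, mul_smul]
  rw [Finset.sum_comm]

def actLin : Matrix (Fin n) (Fin n) R →ₗ[R] Module.End R (Fin n → N) where
  toFun := actN N
  map_add' A B := by
    refine LinearMap.ext fun x => funext fun i => ?_
    simp [actN_apply, add_smul, Finset.sum_add_distrib]
  map_smul' c A := by
    refine LinearMap.ext fun x => funext fun i => ?_
    simp [actN_apply, Finset.smul_sum, mul_smul]

def actAlgHom : Matrix (Fin n) (Fin n) R →ₐ[R] Module.End R (Fin n → N) :=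
  AlgHom.ofLinearMap (actLin N) (actN_one N) (actN_mul N)

theorem actAlgHom_apply (A : Matrix (Fin n) (Fin n) R) : actAlgHom N A = actN N A := rfl

theorem actN_single (A : Matrix (Fin n) (Fin n) R) (j i : Fin n) (x : N) :
    actN N A (Pi.single j x) i = A i j • x := by
  rw [actN_apply, Finset.sum_eq_single j]
  · rw [Pi.single_eq_same]
  · intro b _ hb
    rw [Pi.single_eq_of_ne hb, smul_zero]
  · intro h; exact absurd (Finset.mem_univ _) h

theorem actN_injective [Module.Invertible R N] :
    Function.Injective (actAlgHom (R := R) (n := n) N) := by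
  rw [injective_iff_map_eq_zero]
  intro A hA
  ext i j
  have h : ∀ x : N, A i j • x = (0 : R) • x := by
    intro x
    rw [← actN_single N A j i x, ← actAlgHom_apply, hA, zero_smul]
    rfl
  exact FaithfulSMul.eq_of_smul_eq_smul h

theorem actN_surjective [Module.Invertible R N] :
    Function.Surjective (actAlgHom (R := R) (n := n) N) := by
  intro g
  have hbij := Module.Invertible.toModuleEnd_bijective R N
  choose a ha using fun i j => hbij.2
    ((LinearMap.proj i) ∘ₗ g ∘ₗ (LinearMap.single R (fun _ : Fin n => N) j))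
  refine ⟨Matrix.of a, ?_⟩
  rw [actAlgHom_apply]
  refine LinearMap.ext fun x => funext fun i => ?_
  rw [actN_apply]
  have hx : x = ∑ j, Pi.single j (x j) := (Finset.univ_sum_single x).symm
  conv_rhs => rw [hx, map_sum, Finset.sum_apply]
  refine Finset.sum_congr rfl fun j _ => ?_
  have := LinearMap.congr_fun (ha i j) (x j)
  simpa using this

noncomputable def actEquiv [Module.Invertible R N] :
    Matrix (Fin n) (Fin n) R ≃ₐ[R] Module.End R (Fin n → N) :=
  AlgEquiv.ofBijective (actAlgHom N) ⟨actN_injective N, actN_surjective N⟩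

noncomputable def phi [Module.Invertible R N] (e : (Fin n → N) ≃ₗ[R] (Fin n → R)) :
    Matrix (Fin n) (Fin n) R ≃ₐ[R] Matrix (Fin n) (Fin n) R :=
  (actEquiv N).trans ((e.conjAlgEquiv R).trans LinearMap.toMatrixAlgEquiv')

theorem phi_apply [Module.Invertible R N] (e : (Fin n → N) ≃ₗ[R] (Fin n → R))
    (A : Matrix (Fin n) (Fin n) R) :
    Matrix.toLinAlgEquiv' (phi N e A) = e.toLinearMap ∘ₗ actN N A ∘ₗ e.symm.toLinearMap := by
  show Matrix.toLinAlgEquiv' (LinearMap.toMatrixAlgEquiv' (e.conjAlgEquiv R (actAlgHom N A))) = _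
  rw [Matrix.toLinAlgEquiv'_toMatrixAlgEquiv', LinearEquiv.conjAlgEquiv_apply, actAlgHom_apply]

theorem single_mulVec' (o : Fin n) (v : Fin n → R) :
    (single o o (1 : R)) *ᵥ v = Pi.single o (v o) := by
  funext i
  by_cases hi : i = o
  · subst hi
    simp [Matrix.mulVec, dotProduct, Matrix.single_apply]
  · rw [Pi.single_eq_of_ne hi]
    simp [Matrix.mulVec, dotProduct, Matrix.single_apply, Ne.symm hi]

theorem actN_single_oo (o : Fin n) (y : Fin n → N) :
    actN N (single o o (1 : R)) y = Pi.single o (y o) := by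
  funext i
  rw [actN_apply]
  by_cases hi : i = o
  · subst hi
    simp [Matrix.single_apply]
  · rw [Pi.single_eq_of_ne hi]
    refine Finset.sum_eq_zero fun j _ => ?_
    rw [single_apply_of_row_ne (Ne.symm hi), zero_smul]

theorem forward (hn : 1 ≤ n)
    (H : ∀ φ : Matrix (Fin n) (Fin n) R ≃ₐ[R] Matrix (Fin n) (Fin n) R,
        ∃ P : GL (Fin n) R, ∀ A : Matrix (Fin n) (Fin n) R, φ A = P.1 * A * (P⁻¹).1)
    [Module.Invertible R N]
    (he : Nonempty ((Fin n → N) ≃ₗ[R] (Fin n → R))) : Module.Free R N := by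
  obtain ⟨e⟩ := he
  obtain ⟨o⟩ : Nonempty (Fin n) := ⟨⟨0, hn⟩⟩
  obtain ⟨P, hP⟩ := H (phi (R := R) N e)
  have hPP : (P⁻¹).1 * P.1 = 1 := by rw [← Units.val_mul, inv_mul_cancel, Units.val_one]
  have hPP' : P.1 * (P⁻¹).1 = 1 := by rw [← Units.val_mul, mul_inv_cancel, Units.val_one]
  have h1 : ∀ A x, e (actN N A x) = (P.1 * A * (P⁻¹).1) *ᵥ (e x) := by
    intro A x
    rw [← hP A]
    have h2 := LinearMap.congr_fun (phi_apply N e A) (e x)
    rw [Matrix.toLinAlgEquiv'_apply] at h2
    rw [h2]
    simp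
  set g : (Fin n → N) → (Fin n → R) := fun x => (P⁻¹).1 *ᵥ (e x) with hg
  have hgA : ∀ A x, g (actN N A x) = A *ᵥ g x := by
    intro A x
    simp only [hg]
    rw [h1, Matrix.mulVec_mulVec, Matrix.mulVec_mulVec, ← Matrix.mul_assoc, ← Matrix.mul_assoc,
      hPP, Matrix.one_mul]
  have hg_add : ∀ x y, g (x + y) = g x + g y := by
    intro x y
    simp [hg, Matrix.mulVec_add]
  have hg_smul : ∀ (c : R) x, g (c • x) = c • g x := by
    intro c x
    simp [hg, Matrix.mulVec_smul]
  have hg_inj : ∀ x, g x = 0 → x = 0 := by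
    intro x hx
    have h2 : P.1 *ᵥ g x = e x := by
      simp only [hg]
      rw [Matrix.mulVec_mulVec, hPP', Matrix.one_mulVec]
    rw [hx, Matrix.mulVec_zero] at h2
    exact e.injective (by rw [← h2, map_zero])
  have hg_surj : ∀ y, ∃ x, g x = y := by
    intro y
    refine ⟨e.symm (P.1 *ᵥ y), ?_⟩
    simp only [hg]
    rw [LinearEquiv.apply_symm_apply, Matrix.mulVec_mulVec, hPP, Matrix.one_mulVec]
  have h3 : ∀ y : Fin n → N, g (Pi.single o (y o)) = Pi.single o (g y o) := by
    intro y
    rw [← actN_single_oo (R := R) N o y, hgA, single_mulVec']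
  let ι : N →ₗ[R] R :=
    { toFun := fun x => g (Pi.single o x) o
      map_add' := by
        intro x y
        rw [Pi.single_add, hg_add]
        rfl
      map_smul' := by
        intro c x
        rw [Pi.single_smul, hg_smul]
        rfl }
  have hι : ∀ x, ι x = g (Pi.single o x) o := fun _ => rfl
  have hinj : Function.Injective ι := by
    rw [injective_iff_map_eq_zero]
    intro x hx
    have h4 := h3 (Pi.single o x)
    rw [Pi.single_eq_same, ← hι, hx, Pi.single_zero] at h4
    have h5 := hg_inj _ h4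
    have h6 := congrFun h5 o
    simpa using h6
  have hsurj : Function.Surjective ι := by
    intro c
    obtain ⟨y, hy⟩ := hg_surj (Pi.single o 1)
    refine ⟨c • y o, ?_⟩
    rw [map_smul, hι, h3 y, hy]
    simp
  exact Module.Free.of_equiv (LinearEquiv.ofBijective ι ⟨hinj, hsurj⟩).symm

end Fwd

end Aux

/-- Let R be a commutative ring and n ≥ 1. The natural map from GL_n(R) to the R-algebra automorphisms
of M_n(R) is surjective (every automorphism is inner) if and only if Pic_(n)(R) = 0, i.e. every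
invertible R-module N with N^n ≅ R^n is free. (For n = 0 the left side holds trivially while the
right side fails whenever Pic(R) ≠ 0, so this row assumes n ≥ 1, which the published statement
leaves implicit; invertible modules are quantified in the universe of R, which loses nothing since
every invertible module is finitely generated.) -/
theorem result {R : Type u} [CommRing R] (n : ℕ)
    (hn : 1 ≤ n) :
    (∀ φ : Matrix (Fin n) (Fin n) R ≃ₐ[R] Matrix (Fin n) (Fin n) R,
        ∃ P : GL (Fin n) R, ∀ A : Matrix (Fin n) (Fin n) R, φ A = P.1 * A * (P⁻¹).1) ↔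
      (∀ (N : Type u) [AddCommGroup N] [Module R N] [Module.Invertible R N],
        Nonempty ((Fin n → N) ≃ₗ[R] (Fin n → R)) → Module.Free R N) := by
  constructor
  · intro H N _ _ _ he
    exact forward N hn H he
  · intro H φ
    exact backward hn H φ

end Groth.Agent.S16199
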