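import Groth.Statements.S16201
import Mathlib
import Groth.Agent.Lib.helper7.GenImg

set_option autoImplicit false
open CategoryTheory AlgebraicGeometry
open Variety

namespace Groth.Agent.S16201

section Aux
open CategoryTheory CategoryTheory.Limits AlgebraicGeometry TensorProduct

theorem main
    (Y Z : Scheme.{0}) (g : Z ⟶ Spec (CommRingCat.of ℂ)) (f : Y ⟶ Z)
    [LocallyOfFiniteType g] [QuasiCompact g] [LocallyOfFiniteType f] [QuasiCompact f]
    [IrreducibleSpace Z]
    (hgen : ∃ V : Z.Opens, (V : Set Z).Nonempty ∧
      ∀ z ∈ V, IsClosed ({z} : Set Z) → IsIrreducible (f.base ⁻¹' {z}))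
    (hdom : ∀ W ∈ irreducibleComponents Y, Dense (f.base '' W)) :
    IrreducibleSpace Y := by
  obtain ⟨V, hVne, hV⟩ := hgen
  -- Noetherian
  haveI : IsLocallyNoetherian Y := LocallyOfFiniteType.isLocallyNoetherian (f ≫ g)
  haveI : CompactSpace Y := HasAffineProperty.iff_of_isAffine.mp (inferInstance : QuasiCompact (f ≫ g))
  haveI : IsNoetherian Y := ⟨⟩
  haveI : JacobsonSpace Z := LocallyOfFiniteType.jacobsonSpace g
  set S := irreducibleComponents Y with hS
  have hSfin : S.Finite := TopologicalSpace.NoetherianSpace.finite_irreducibleComponents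
  set η := genericPoint Z with hη
  have hηspec : IsGenericPoint η (⊤ : Set Z) := genericPoint_spec Z
  -- the pure parts
  let P : Set Y → Set Y := fun C => (⋃₀ (S \ {C}))ᶜ
  have hPopen : ∀ C, IsOpen (P C) := fun C => by
    show IsOpen (⋃₀ (S \ {C}))ᶜ
    rw [Set.sUnion_eq_biUnion, isOpen_compl_iff]
    exact hSfin.sdiff.isClosed_biUnion fun W hW ↦ isClosed_of_mem_irreducibleComponents W hW.1
  have hPcl : ∀ C ∈ S, closure (P C) = C := fun C hC =>
    closure_sUnion_irreducibleComponents_sdiff_singleton hSfin C hC
  -- the interior of the image of each pure part contains η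
  have hW : ∀ C ∈ S, η ∈ interior (f '' P C) := by
    intro C hC
    have hCirr : IsIrreducible C := hC.1
    have hCcl : IsClosed C := isClosed_of_mem_irreducibleComponents C hC
    obtain ⟨ξ, hξ⟩ := QuasiSober.sober hCirr hCcl
    have hξP : ξ ∈ P C := by
      rw [hξ.mem_open_set_iff (hPopen C)]
      have hne : (P C).Nonempty := by
        by_contra hne
        rw [Set.not_nonempty_iff_eq_empty] at hne
        have := hPcl C hC
        rw [hne, closure_empty] at this
        exact hCirr.nonempty.ne_empty this.symm
      obtain ⟨a, ha⟩ := hne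
      exact ⟨a, (hPcl C hC) ▸ subset_closure ha, ha⟩
    have hfξ : f ξ = η := by
      have h1 : IsGenericPoint (f ξ) (⊤ : Set Z) := by
        show closure {f ξ} = Set.univ
        rw [Set.eq_univ_iff_forall]
        intro z
        have h2 : f '' closure {ξ} ⊆ closure (f '' {ξ}) :=
          image_closure_subset_closure_image f.continuous
        rw [Set.image_singleton] at h2
        have h3 : closure (f '' C) ⊆ closure {f ξ} := by
          rw [← hξ.def]
          exact closure_minimal h2 isClosed_closure
        exact h3 ((hdom C hC) z)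
      exact h1.eq hηspec
    set U : Y.Opens := ⟨P C, hPopen C⟩ with hU
    have hrange : Set.range (U.ι ≫ f) = f '' P C := by
      rw [Scheme.Hom.comp_base, TopCat.coe_comp, Set.range_comp, Scheme.Opens.range_ι]
      rfl
    have := Groth.Agent.Lib.helper7.GenImg.genericPoint_mem_interior_range (U.ι ≫ f)
      (by rw [hrange]; exact ⟨ξ, hξP, hfξ⟩)
    rwa [hrange] at this
  -- the open set W
  set W : Set Z := (V : Set Z) ∩ ⋂ C ∈ S, interior (f '' P C) with hWdef
  have hWopen : IsOpen W := V.2.inter (hSfin.isOpen_biInter fun C _ => isOpen_interior)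
  have hηV : η ∈ (V : Set Z) := by
    have := (hηspec.mem_open_set_iff (U := (V : Set Z)) V.2).2 (by simpa using hVne)
    exact this
  have hηW : η ∈ W := ⟨hηV, Set.mem_iInter₂.2 hW⟩
  obtain ⟨z, hzW, hzcl⟩ := nonempty_inter_closedPoints ⟨η, hηW⟩ hWopen.isLocallyClosed
  have hzcl' : IsClosed ({z} : Set Z) := hzcl
  have hF := hV z hzW.1 hzcl'
  -- F ⊆ C₀
  obtain ⟨C₀, hC₀S, hFC₀⟩ := isIrreducible_iff_sUnion_isClosed.1 hF hSfin.toFinset
    (fun C hC => isClosed_of_mem_irreducibleComponents C (hSfin.mem_toFinset.1 hC))
    (by rw [Set.Finite.coe_toFinset, sUnion_irreducibleComponents]; exact Set.subset_univ _)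
  have hC₀S' : C₀ ∈ S := hSfin.mem_toFinset.1 hC₀S
  -- every component equals C₀
  have hall : ∀ C ∈ S, C = C₀ := by
    intro C hC
    have hz : z ∈ interior (f '' P C) := Set.mem_iInter₂.1 hzW.2 C hC
    obtain ⟨y, hyP, hyz⟩ := interior_subset hz
    have hyC₀ : y ∈ C₀ := hFC₀ hyz
    by_contra hne
    exact hyP ⟨C₀, ⟨hC₀S', fun h => hne h.symm⟩, hyC₀⟩
  -- conclude
  rw [irreducibleSpace_def]
  have : (⊤ : Set Y) = C₀ := by
    rw [Set.top_eq_univ, ← sUnion_irreducibleComponents]
    apply Set.Subset.antisymm
    · exact Set.sUnion_subset fun C hC => (hall C hC).le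
    · exact Set.subset_sUnion_of_mem hC₀S'
  rw [this]
  exact hC₀S'.1

end Aux

/-- Let f : Y → Z be a morphism of schemes of finite type over ℂ, with Z irreducible. Suppose that the
general fibre of f is irreducible, in the sense that there is a nonempty open subset V of Z such
that the fibre of f over every closed point of V is an irreducible topological space, and that each
irreducible component of Y has dense image in Z. Then Y is irreducible. (The published statement is
for a morphism of projective varieties; only finiteness of type over the field is used, and the row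
is stated in that generality.) -/
theorem result
    (Y Z : Scheme.{0}) (g : Z ⟶ Spec (CommRingCat.of ℂ)) (f : Y ⟶ Z)
    [LocallyOfFiniteType g] [QuasiCompact g] [LocallyOfFiniteType f] [QuasiCompact f]
    [IrreducibleSpace Z]
    (hgen : ∃ V : Z.Opens, (V : Set Z).Nonempty ∧
      ∀ z ∈ V, IsClosed ({z} : Set Z) → IsIrreducible (f.base ⁻¹' {z}))
    (hdom : ∀ W ∈ irreducibleComponents Y, Dense (f.base '' W)) :
    IrreducibleSpace Y := by
  exact main Y Z g f hgen hdom

end Groth.Agent.S16201
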