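import Groth.Statements.S16211
import Mathlib

set_option autoImplicit false
universe u v
open InvTh

namespace Groth.Agent.S16211

/-- Let R be a commutative ring, O a formally smooth R-algebra and G a finite group whose order is
invertible in R, acting on O by R-algebra automorphisms. Then the largest quotient algebra of O on
which G acts trivially, namely the quotient of O by the ideal generated by all g • f - f (the
coordinate ring of the subscheme of G-fixed points of Spec O), is again formally smooth over R:
invariant homomorphisms lift along square-zero extensions. The published statement is about a scheme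
X smooth and of finite presentation over the base and concludes that its fixed-point scheme is
smooth; this row, the affine step of its proof, assumes only that O is formally smooth over R and
concludes only formal smoothness. -/
theorem result (R : Type u) [CommRing R]
    (O : Type u) [CommRing O] [Algebra R O] [Algebra.FormallySmooth R O]
    (G : Type v) [Group G] [Finite G] [MulSemiringAction G O] [SMulCommClass G R O]
    (hG : IsUnit (Nat.card G : R)) :
    Algebra.FormallySmooth R (O ⧸ Ideal.span {x : O | ∃ (g : G) (f : O), x = g • f - f}) := by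
  classical
  have : Fintype G := Fintype.ofFinite G
  obtain ⟨c, hc⟩ := hG.exists_left_inv
  have hcard : (Fintype.card G : R) = (Nat.card G : R) := by rw [Nat.card_eq_fintype_card]
  obtain ⟨J, hJ⟩ : ∃ J : Ideal O, J = Ideal.span {x : O | ∃ (g : G) (f : O), x = g • f - f} := ⟨_, rfl⟩
  rw [← hJ]
  apply Algebra.FormallySmooth.of_comp_surjective
  intro B _ _ I hI ubar
  -- lift of u₀
  obtain ⟨u, hu⟩ := Algebra.FormallySmooth.comp_surjective R O I hI (ubar.comp (Ideal.Quotient.mkₐ R J))
  have hu' : ∀ f : O, Ideal.Quotient.mk I (u f) = ubar (Ideal.Quotient.mk J f) := by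
    intro f
    have := congrArg (fun φ => φ f) hu
    simpa using this
  have hJmk : ∀ (g : G) (f : O), Ideal.Quotient.mk J (g • f) = Ideal.Quotient.mk J f := by
    intro g f
    rw [← sub_eq_zero, ← map_sub, Ideal.Quotient.eq_zero_iff_mem, hJ]
    exact Ideal.subset_span ⟨g, f, rfl⟩
  have hdiff : ∀ (g h : G) (f : O), u (g • f) - u (h • f) ∈ I := by
    intro g h f
    rw [← Ideal.Quotient.eq_zero_iff_mem, map_sub, hu', hu', hJmk, hJmk, sub_self]
  have hII : ∀ x ∈ I, ∀ y ∈ I, x * y = 0 := by
    intro x hx y hy
    have : x * y ∈ I ^ 2 := by rw [pow_two]; exact Ideal.mul_mem_mul hx hy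
    rw [hI] at this
    exact this
  -- the averaged linear map
  let L : O →ₗ[R] B := c • ∑ g : G, u.toLinearMap ∘ₗ (MulSemiringAction.toAlgHom R O g).toLinearMap
  have hL : ∀ f : O, L f = c • ∑ g : G, u (g • f) := by
    intro f
    simp [L]
  have hcG : ∀ b : B, c • ((Fintype.card G : ℕ) • b) = b := by
    intro b
    rw [← Nat.cast_smul_eq_nsmul R, smul_smul, hcard, hc, one_smul]
  have hL1 : L 1 = 1 := by
    rw [hL]
    simp only [smul_one, map_one, Finset.sum_const, Finset.card_univ]
    exact hcG 1
  have hLmul : ∀ f₁ f₂ : O, L (f₁ * f₂) = L f₁ * L f₂ := by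
    intro f₁ f₂
    have key : (Fintype.card G : ℕ) • ∑ g : G, u (g • f₁) * u (g • f₂)
        = (∑ g : G, u (g • f₁)) * (∑ h : G, u (h • f₂)) := by
      have h0 : ∑ g : G, ∑ h : G, u (g • f₁) * (u (g • f₂) - u (h • f₂)) = 0 := by
        have e1 : ∀ g h : G, u (g • f₁) * (u (g • f₂) - u (h • f₂))
            = (u (g • f₁) - u ((1 : G) • f₁)) * (u (g • f₂) - u (h • f₂))
              + u ((1 : G) • f₁) * (u (g • f₂) - u (h • f₂)) := by
          intro g h; ring
        simp only [e1, hII _ (hdiff _ _ _) _ (hdiff _ _ _), zero_add]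
        simp only [← Finset.mul_sum, Finset.sum_sub_distrib, Finset.sum_const, Finset.card_univ]
        rw [Finset.smul_sum, sub_self, mul_zero]
      simp only [mul_sub, Finset.sum_sub_distrib, Finset.sum_const, Finset.card_univ] at h0
      rw [sub_eq_zero] at h0
      rw [Finset.smul_sum, h0, Finset.sum_mul]
      refine Finset.sum_congr rfl (fun g _ => ?_)
      rw [Finset.mul_sum]
    rw [hL, hL, hL]
    simp only [smul_mul', map_mul]
    rw [smul_mul_smul_comm, ← key, mul_smul, hcG]
  let u' : O →ₐ[R] B := AlgHom.ofLinearMap L hL1 hLmul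
  have hu'L : ∀ f, u' f = L f := fun f => rfl
  have hinv : ∀ (h : G) (f : O), u' (h • f) = u' f := by
    intro h f
    rw [hu'L, hu'L, hL, hL]
    congr 1
    exact Fintype.sum_equiv (Equiv.mulRight h) _ _ (fun g => by simp [mul_smul])
  have hJker : ∀ a ∈ J, u' a = 0 := by
    intro a ha
    have : J ≤ RingHom.ker u'.toRingHom := by
      rw [hJ, Ideal.span_le]
      rintro _ ⟨g, f, rfl⟩
      rw [SetLike.mem_coe, RingHom.mem_ker]
      show u' (g • f - f) = 0
      rw [map_sub, hinv, sub_self]
    exact this ha
  refine ⟨Ideal.Quotient.liftₐ J u' hJker, ?_⟩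
  apply Ideal.Quotient.algHom_ext
  ext f
  simp only [AlgHom.coe_comp, Function.comp_apply, Ideal.Quotient.mkₐ_eq_mk, Ideal.Quotient.liftₐ_apply,
    Ideal.Quotient.lift_mk, AlgHom.coe_toRingHom]
  rw [hu'L, hL]
  rw [← Ideal.Quotient.mkₐ_eq_mk R I, map_smul, map_sum]
  simp only [Ideal.Quotient.mkₐ_eq_mk, hu', hJmk, Finset.sum_const, Finset.card_univ]
  rw [← Nat.cast_smul_eq_nsmul R, smul_smul, hcard, hc, one_smul]

end Groth.Agent.S16211
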