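import Groth.Statements.S16220
import Mathlib

set_option autoImplicit false
universe u v
open Disp

namespace Groth.Agent.S16220


theorem half {W M : Type*} [CommRing W] [AddCommGroup M] [Module W M] (p : W) (σ τ : W →+* W)
    (hσ : σ p = p) (hτ : τ p = p) (F : M →ₛₗ[σ] M) (V : M →ₛₗ[τ] M)
    (hVF : ∀ m, V (F m) = p • m) (hFV : ∀ m, F (V m) = p • m)
    (htors : ∀ x : M, p • x = 0 → ∃ z, x = p • z) :
    (Ideal.span {p} • (⊤ : Submodule W M)).comap F =
      Submodule.span W (Set.range V) ⊔ Ideal.span {p} • (⊤ : Submodule W M) := by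
  have hmem : ∀ x : M, x ∈ Ideal.span {p} • (⊤ : Submodule W M) ↔ ∃ y, p • y = x := by
    intro x
    rw [Submodule.ideal_span_singleton_smul, Submodule.mem_smul_pointwise_iff_exists]
    simp
  apply le_antisymm
  · intro x hx
    rw [Submodule.mem_comap, hmem] at hx
    obtain ⟨y, hy⟩ := hx
    have h1 : p • (x - V y) = 0 := by
      rw [smul_sub, ← hVF x, ← hy, V.map_smulₛₗ, hτ, sub_self]
    obtain ⟨z, hz⟩ := htors _ h1
    have : x = V y + p • z := by rw [← hz]; abel
    rw [this]
    exact Submodule.add_mem_sup (Submodule.subset_span ⟨y, rfl⟩) ((hmem _).2 ⟨z, rfl⟩)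
  · apply sup_le
    · rw [Submodule.span_le]
      rintro _ ⟨m, rfl⟩
      rw [SetLike.mem_coe, Submodule.mem_comap, hFV]
      exact (hmem _).2 ⟨m, rfl⟩
    · intro x hx
      obtain ⟨y, rfl⟩ := (hmem _).1 hx
      rw [Submodule.mem_comap, F.map_smulₛₗ, hσ]
      exact (hmem _).2 ⟨F y, rfl⟩

theorem p_regular (p : ℕ) [Fact p.Prime] (k : Type*) [CommRing k] [CharP k p] [PerfectRing k p]
    (x : WittVector p k) (hx : (p : WittVector p k) * x = 0) : x = 0 := by
  rw [mul_comm, ← WittVector.verschiebung_frobenius] at hx
  have h1 : WittVector.frobenius x = 0 := by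
    apply WittVector.verschiebung_injective p k
    rw [hx, map_zero]
  exact (WittVector.frobenius_bijective p k).1 (by rw [h1, map_zero])

theorem tors (p : ℕ) [Fact p.Prime] (k : Type*) [CommRing k] [CharP k p] [PerfectRing k p]
    (n : ℕ) (hn : 2 ≤ n) (M : Type*) [AddCommGroup M] [Module (WittVector p k) M]
    [Module (WittVector p k ⧸ Ideal.span {(p : WittVector p k) ^ n}) M]
    [IsScalarTower (WittVector p k) (WittVector p k ⧸ Ideal.span {(p : WittVector p k) ^ n}) M]
    [Module.Projective (WittVector p k ⧸ Ideal.span {(p : WittVector p k) ^ n}) M]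
    (x : M) (hx : (p : WittVector p k) • x = 0) : ∃ z : M, x = (p : WittVector p k) • z := by
  classical
  obtain ⟨s, hs⟩ := (Module.projective_def' (R := WittVector p k ⧸ Ideal.span {(p : WittVector p k) ^ n})
    (P := M)).1 inferInstance
  -- ring-level claim
  have hring : ∀ r : WittVector p k ⧸ Ideal.span {(p : WittVector p k) ^ n},
      (Ideal.Quotient.mk _ (p : WittVector p k)) * r = 0 →
      ∃ u, r = (Ideal.Quotient.mk _ (p : WittVector p k)) * u := by
    intro r hr
    obtain ⟨w, rfl⟩ := Ideal.Quotient.mk_surjective r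
    rw [← map_mul, Ideal.Quotient.eq_zero_iff_mem, Ideal.mem_span_singleton'] at hr
    obtain ⟨a, ha⟩ := hr
    have h2 : (p : WittVector p k) * (w - a * (p : WittVector p k) ^ (n - 1)) = 0 := by
      have : (p : WittVector p k) ^ n = (p : WittVector p k) * (p : WittVector p k) ^ (n - 1) := by
        rw [← pow_succ']; congr 1; omega
      rw [mul_sub, ← ha, this]; ring
    have h3 := p_regular p k _ h2
    refine ⟨Ideal.Quotient.mk _ (a * (p : WittVector p k) ^ (n - 2)), ?_⟩
    rw [← map_mul]
    congr 1
    have : (p : WittVector p k) ^ (n - 1) = (p : WittVector p k) * (p : WittVector p k) ^ (n - 2) := by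
      rw [← pow_succ']; congr 1; omega
    rw [sub_eq_zero] at h3
    rw [h3, this]; ring
  have hpx : (Ideal.Quotient.mk (Ideal.span {(p : WittVector p k) ^ n}) (p : WittVector p k)) • x = 0 := by
    rw [← hx]
    exact (algebraMap_smul (WittVector p k ⧸ Ideal.span {(p : WittVector p k) ^ n}) (p : WittVector p k) x)
  have hsx : ∀ m, (Ideal.Quotient.mk (Ideal.span {(p : WittVector p k) ^ n}) (p : WittVector p k)) * (s x) m = 0 := by
    intro m
    have := congrArg (fun f => f m) (map_smul s (Ideal.Quotient.mk (Ideal.span {(p : WittVector p k) ^ n}) (p : WittVector p k)) x)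
    simp only [hpx, map_zero, Finsupp.coe_zero, Pi.zero_apply, Finsupp.coe_smul, Pi.smul_apply, smul_eq_mul] at this
    exact this.symm
  choose u hu using fun m => hring _ (hsx m)
  have hx' : x = Finsupp.linearCombination _ id (s x) := by
    have := congrArg (fun f => f x) hs
    simpa using this.symm
  refine ⟨(s x).sum (fun m _ => u m • m), ?_⟩
  calc x = Finsupp.linearCombination _ id (s x) := hx'
    _ = ∑ m ∈ (s x).support, (s x) m • m := by
        rw [Finsupp.linearCombination_apply, Finsupp.sum]; rfl
    _ = ∑ m ∈ (s x).support, (p : WittVector p k) • (u m • m) := by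
        refine Finset.sum_congr rfl (fun m _ => ?_)
        rw [hu m, mul_smul]
        exact (algebraMap_smul (WittVector p k ⧸ Ideal.span {(p : WittVector p k) ^ n}) (p : WittVector p k) (u m • m))
    _ = (p : WittVector p k) • (s x).sum (fun m _ => u m • m) := by
        rw [Finsupp.sum, Finset.smul_sum]

/-- Let p be a prime and k a perfect ring of characteristic p, so that the Frobenius σ of W = W(k) is
bijective, W has no p-torsion and W/p^n W = W_n(k) (the ideal p^n W is the kernel of the truncation
to length n). Let n ≥ 2 and let M be a truncated Dieudonné module of level n over k: a W-module on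
which W acts through W/p^n W, finitely generated and projective over W/p^n W, with a σ-semilinear F
: M → M and a σ⁻¹-semilinear V : M → M such that FV = VF = p. Then on M/pM the kernel of F is the
image of V and the kernel of V is the image of F; stated inside M: the preimage of pM under F is VM
+ pM, and the preimage of pM under V is FM + pM. -/
theorem result (p : ℕ) [Fact p.Prime] (k : Type u) [CommRing k]
    [CharP k p] [PerfectRing k p] (n : ℕ) (hn : 2 ≤ n)
    (M : Type v) [AddCommGroup M] [Module (WittVector p k) M]
    [Module (WittVector p k ⧸ Ideal.span {(p : WittVector p k) ^ n}) M] [IsScalarTower (WittVector p k) (WittVector p k ⧸ Ideal.span {(p : WittVector p k) ^ n}) M]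
    [Module.Finite (WittVector p k ⧸ Ideal.span {(p : WittVector p k) ^ n}) M] [Module.Projective (WittVector p k ⧸ Ideal.span {(p : WittVector p k) ^ n}) M]
    (F : M →ₛₗ[(WittVector.frobenius : WittVector p k →+* WittVector p k)] M)
    (V : M →ₛₗ[((WittVector.frobeniusEquiv p k).symm : WittVector p k →+* WittVector p k)] M)
    (hFV : ∀ m : M, F (V m) = (p : WittVector p k) • m) (hVF : ∀ m : M, V (F m) = (p : WittVector p k) • m) :
    (Ideal.span {(p : WittVector p k)} • (⊤ : Submodule (WittVector p k) M)).comap F =
        Submodule.span (WittVector p k) (Set.range V) ⊔ Ideal.span {(p : WittVector p k)} • (⊤ : Submodule (WittVector p k) M) ∧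
      (Ideal.span {(p : WittVector p k)} • (⊤ : Submodule (WittVector p k) M)).comap V =
        Submodule.span (WittVector p k) (Set.range F) ⊔ Ideal.span {(p : WittVector p k)} • (⊤ : Submodule (WittVector p k) M) := by
  have hσ : (WittVector.frobenius : WittVector p k →+* WittVector p k) (p : WittVector p k) = p :=
    map_natCast _ p
  have hτ : ((WittVector.frobeniusEquiv p k).symm : WittVector p k →+* WittVector p k) (p : WittVector p k) = p :=
    map_natCast _ p
  have ht := tors p k n hn M
  exact ⟨half _ _ _ hσ hτ F V hVF hFV ht, half _ _ _ hτ hσ V F hFV hVF ht⟩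

end Groth.Agent.S16220
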