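import Groth.Statements.S16226
import Mathlib
import Groth.Agent.S18859
import Groth.Agent.S18977
-- import your own Groth.Agent.* helpers here

set_option autoImplicit false
universe u
open CategoryTheory MonoidalCategory CartesianMonoidalCategory MonObj AlgebraicGeometry
open PrincBund

namespace Groth.Agent.S16226

open CategoryTheory CategoryTheory.Limits AlgebraicGeometry

namespace H5S16226

open MonoidalCategory CartesianMonoidalCategory MonObj Groth.Agent.S18859 Groth.Agent.S18977

variable {S : Scheme.{u}}

theorem main {G F Q : Over S} [GrpObj G]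
    (b : AlgGrp.Action G F)
    (π : F ⟶ Q)
    (hsq : IsPullback b.act (snd G F) π π)
    (hloc : NonAbH1.IsLocallyTrivialFor Scheme.etalePrecoverage (Over.mk π.left : Over Q.left))
    (σ : 𝟙_ (Over S) ⟶ Q) :
    ∃ (E : Over S) (aE : AlgGrp.Action G E) (φ : E ⟶ F),
      NonAbH1.IsTorsorFor Scheme.etalePrecoverage aE ∧
      AlgGrp.Action.IsEquivariant aE b φ ∧
      IsPullback φ (toUnit E) π σ := by
  let P : Over S := pullback π σ
  let φ : P ⟶ F := pullback.fst π σ
  have hφπ : ∀ {W : Over S} (p : W ⟶ P), (p ≫ φ) ≫ π = toUnit W ≫ σ := by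
    intro W p
    rw [Category.assoc, pullback.condition, ← Category.assoc]
    congr 1
    exact toUnit_unique _ _
  have hext : ∀ {W : Over S} (e e' : W ⟶ P), e ≫ φ = e' ≫ φ → e = e' := by
    intro W e e' h
    apply pullback.hom_ext h
    exact toUnit_unique _ _
  have hinvπ : ∀ {W : Over S} (g : W ⟶ G) (f : W ⟶ F), (lift g f ≫ b.act) ≫ π = f ≫ π := by
    intro W g f
    rw [Category.assoc, hsq.w, lift_snd_assoc]
  have hactw : ((G ◁ φ) ≫ b.act) ≫ π = toUnit (G ⊗ P) ≫ σ := by
    have := hφπ (snd G P)
    rw [Category.assoc] at this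
    rw [Category.assoc, hsq.w, whiskerLeft_snd_assoc]
    exact this
  let act : G ⊗ P ⟶ P := pullback.lift ((G ◁ φ) ≫ b.act) (toUnit (G ⊗ P)) hactw
  have hactφ : act ≫ φ = (G ◁ φ) ≫ b.act := pullback.lift_fst _ _ _
  have hact : ∀ {W : Over S} (g : W ⟶ G) (p : W ⟶ P),
      (lift g p ≫ act) ≫ φ = lift g (p ≫ φ) ≫ b.act := by
    intro W g p
    rw [Category.assoc, hactφ, lift_whiskerLeft_assoc]
  let aE : AlgGrp.Action G P :=
    { act := act
      one_act := by
        apply AlgGrp.Action.hom_ext_lift₂
        intro T u p
        have hu : u ≫ η[G] = 1 := by rw [Hom.one_def, toUnit_unique (toUnit T) u]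
        rw [lift_whiskerRight_assoc, hu, leftUnitor_hom, lift_snd]
        apply hext
        rw [hact, AlgGrp.Action.lift_one_act]
      mul_act := by
        apply AlgGrp.Action.hom_ext_lift₃
        intro T g g' p
        rw [lift_whiskerRight_assoc, ← Hom.mul_def, lift_lift_associator_hom_assoc,
          lift_whiskerLeft_assoc]
        apply hext
        rw [hact, hact, hact, AlgGrp.Action.lift_mul_act] }
  refine ⟨P, aE, φ, ⟨?_, ?_⟩, hactφ, ?_⟩
  · -- pseudo-torsor
    have hc : (fst P P ≫ φ) ≫ π = (snd P P ≫ φ) ≫ π := by rw [hφπ, hφπ]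
    obtain ⟨g, hg, hgu⟩ := H5S18977.sq_tr hsq (fst P P ≫ φ) (snd P P ≫ φ) hc
    change IsIso (lift act (snd G P))
    refine ⟨lift g (snd P P), ?_, ?_⟩
    · apply CartesianMonoidalCategory.hom_ext
      · rw [Category.assoc, Category.id_comp]
        have hc' : (act ≫ φ) ≫ π = ((snd G P) ≫ φ) ≫ π := by rw [hφπ, hφπ]
        obtain ⟨g', -, hg'u⟩ := H5S18977.sq_tr hsq (act ≫ φ) (snd G P ≫ φ) hc'
        have e1 : lift (lift act (snd G P) ≫ lift g (snd P P) ≫ fst G P) (snd G P ≫ φ) ≫ b.act
            = act ≫ φ := by
          have := congrArg (fun q => lift act (snd G P) ≫ q) hg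
          simpa [comp_lift_assoc] using this
        have e2 : lift (fst G P) (snd G P ≫ φ) ≫ b.act = act ≫ φ := by
          have e0 : lift (fst G P) (snd G P ≫ φ) = G ◁ φ := by
            apply CartesianMonoidalCategory.hom_ext <;> simp
          rw [hactφ, e0]
        rw [hg'u _ e1, hg'u _ e2]
      · simp
    · apply CartesianMonoidalCategory.hom_ext
      · rw [Category.assoc, lift_fst, Category.id_comp]
        apply hext
        rw [hact, hg]
      · simp
  · -- locally trivial
    obtain ⟨R, hR, hs⟩ := hloc
    obtain ⟨J, T, g, rfl⟩ := R.exists_eq_ofArrows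
    haveI : Scheme.etalePrecoverage.{u}.IsStableUnderBaseChange := by
      unfold Scheme.etalePrecoverage
      infer_instance
    refine ⟨_, Precoverage.mem_coverings_of_isPullback g hR σ.left
      (fun j => pullback.snd (g j) σ.left) (fun j => pullback.fst (g j) σ.left)
      (fun j => (IsPullback.of_hasPullback (g j) σ.left).flip), ?_⟩
    rintro _ _ ⟨j⟩
    obtain ⟨s, hs'⟩ := hs (g j) (Presieve.ofArrows.mk j)
    have hs'' : s ≫ π.left = g j := hs'
    have hc : pullback.fst (g j) σ.left ≫ g j = pullback.snd (g j) σ.left ≫ σ.left :=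
      pullback.condition
    have hσ : σ.left ≫ Q.hom = 𝟙 S := by
      have := Over.w σ
      simpa using this
    let W : Over S := Over.mk (pullback.snd (g j) σ.left)
    have hw : (pullback.fst (g j) σ.left ≫ s) ≫ F.hom = W.hom := by
      rw [← Over.w π, Category.assoc, ← Category.assoc s, hs'', ← Category.assoc, hc, Category.assoc,
        hσ]
      exact Category.comp_id _
    let f : W ⟶ F := Over.homMk (pullback.fst (g j) σ.left ≫ s) hw
    have hf : f ≫ π = toUnit W ≫ σ := by
      ext
      change (pullback.fst (g j) σ.left ≫ s) ≫ π.left = (toUnit W).left ≫ σ.left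
      have h1 : (toUnit W).left = W.hom := by
        have := Over.w (toUnit W)
        simpa using this
      rw [h1, Category.assoc, hs'', hc]
      rfl
    let e : W ⟶ P := pullback.lift f (toUnit W) hf
    exact ⟨e.left, Over.w e⟩
  · have h := IsPullback.of_hasPullback π σ
    have h2 : pullback.snd π σ = toUnit P := toUnit_unique _ _
    rw [h2] at h
    exact h

end H5S16226

/-- Let i : G → H be a homomorphism of group schemes over a base scheme S which is a closed immersion, F
an H-torsor over S for the etale topology with action aF, and π : F → Q a morphism of S-schemes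
exhibiting Q as the quotient F/G, in the sense that the square formed by the restricted action G ×_S
F → F, the projection G ×_S F → F and π twice is cartesian and π acquires sections etale-locally on
Q. Then for every section σ of Q over S there are a G-torsor E over S for the etale topology and an
i-equivariant morphism φ : E → F over S such that the square (φ, E → S; π, σ) is cartesian; that is,
σ comes from a reduction of the structure group of F to G. (Stated over an arbitrary base scheme and
for arbitrary group schemes; the quotient F/G is taken as data through its torsor property rather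
than constructed.) -/
theorem result
    {S : Scheme.{u}} {G H F Q : Over S} [GrpObj G] [GrpObj H]
    (i : G ⟶ H) [IsMonHom i] [IsClosedImmersion i.left]
    (aF : AlgGrp.Action H F) (hF : NonAbH1.IsTorsorFor Scheme.etalePrecoverage aF)
    (π : F ⟶ Q)
    (hsq : IsPullback (aF.restrict i).act (snd G F) π π)
    (hloc : NonAbH1.IsLocallyTrivialFor Scheme.etalePrecoverage (Over.mk π.left : Over Q.left))
    (σ : 𝟙_ (Over S) ⟶ Q) :
    ∃ (E : Over S) (aE : AlgGrp.Action G E) (φ : E ⟶ F),
      NonAbH1.IsTorsorFor Scheme.etalePrecoverage aE ∧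
      AlgGrp.Action.IsEquivariant aE (aF.restrict i) φ ∧
      IsPullback φ (toUnit E) π σ := by
  exact H5S16226.main (aF.restrict i) π hsq hloc σ

end Groth.Agent.S16226
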