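import Groth.Statements.S16234
import Mathlib

set_option autoImplicit false
universe u v
open CAlg

namespace Groth.Agent.S16234

theorem support_quot_aux (A : Type*) [CommRing A] (I : Ideal A) :
    Module.support A (A ⧸ I) = PrimeSpectrum.zeroLocus (I : Set A) := by
  rw [Module.support_eq_zeroLocus, Ideal.annihilator_quotient]

theorem forward_aux (A : Type u) [CommRing A] [IsNoetherianRing A]
    (M : Type v) [AddCommGroup M] [Module A M] (hM : Module.Finite A M) :
    (∀ p ∈ Module.support A M, p.asIdeal.IsMaximal) → IsFiniteLength A M := by
  induction hM using IsNoetherianRing.induction_on_isQuotientEquivQuotientPrime A with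
  | subsingleton N => intro _; exact IsFiniteLength.of_subsingleton
  | quotient N p e =>
    intro h
    have hp : p ∈ Module.support A N := by
      rw [e.support_eq, support_quot_aux, PrimeSpectrum.mem_zeroLocus]
    have hmax := h p hp
    have : IsSimpleModule A (A ⧸ p.asIdeal) :=
      isSimpleModule_iff_isCoatom.mpr (Ideal.isMaximal_def.mp hmax)
    have h2 : IsFiniteLength A (A ⧸ p.asIdeal) := by
      rw [isFiniteLength_iff_isNoetherian_isArtinian]
      exact ⟨inferInstance, inferInstance⟩
    exact e.symm.isFiniteLength h2
  | exact N₁ N₂ N₃ f g hf hg hfg h₁ h₃ =>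
    intro h
    have hsupp := Module.support_of_exact hfg hf hg
    have h1 := h₁ (fun p hp => h p (by rw [hsupp]; exact Or.inl hp))
    have h3 := h₃ (fun p hp => h p (by rw [hsupp]; exact Or.inr hp))
    rw [isFiniteLength_iff_isNoetherian_isArtinian] at h1 h3 ⊢
    obtain ⟨_, _⟩ := h1
    obtain ⟨_, _⟩ := h3
    exact ⟨inferInstance, isArtinian_of_range_eq_ker f g hfg.linearMap_ker_eq.symm⟩

theorem backward_aux (A : Type u) [CommRing A]
    (M : Type v) [AddCommGroup M] [Module A M] (h : IsFiniteLength A M) :
    ∀ p ∈ Module.support A M, p.asIdeal.IsMaximal := by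
  induction h with
  | of_subsingleton =>
    intro p hp
    rw [Module.support_eq_empty] at hp
    exact absurd hp (Set.notMem_empty p)
  | @of_simple_quotient M _ _ N hsimple hN ih =>
    intro p hp
    have hsupp := Module.support_of_exact (LinearMap.exact_subtype_mkQ N)
      (Submodule.injective_subtype N) (Submodule.mkQ_surjective N)
    rw [hsupp] at hp
    rcases hp with hp | hp
    · exact ih p hp
    · obtain ⟨I, hI, ⟨e⟩⟩ := isSimpleModule_iff_quot_maximal.mp hsimple
      rw [e.support_eq, support_quot_aux, PrimeSpectrum.mem_zeroLocus] at hp
      have : I = p.asIdeal := hI.eq_of_le p.isPrime.ne_top hp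
      rw [← this]; exact hI

/-- For a finitely generated module M over a Noetherian commutative ring A, every prime ideal in the
support of M is a maximal ideal if and only if M has finite length. -/
theorem result (A : Type u) [CommRing A] [IsNoetherianRing A]
    (M : Type v) [AddCommGroup M] [Module A M] [Module.Finite A M] :
    (∀ p ∈ Module.support A M, p.asIdeal.IsMaximal) ↔ IsFiniteLength A M := by
  exact ⟨forward_aux A M inferInstance, backward_aux A M⟩

end Groth.Agent.S16234
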