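import Groth.Statements.S16235
import Mathlib

set_option autoImplicit false
universe u
open CAlg

namespace Groth.Agent.S16235

/-- Let A be a Noetherian commutative ring and x_1, …, x_r a regular sequence on A (each x_i a
non-zero-divisor on A/(x_1, …, x_{i-1})) generating an ideal I ≠ A. Then the height of I, the
infimum of the heights of the minimal primes over I, equals r. -/
theorem result (A : Type u) [CommRing A] [IsNoetherianRing A]
    (r : ℕ) (x : Fin r → A) (hx : RingTheory.Sequence.IsWeaklyRegular A (List.ofFn x))
    (hI : Ideal.span (Set.range x) ≠ ⊤) :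
    (Ideal.span (Set.range x)).height = r := by
  classical
  -- lower bound along lists
  have hL : ∀ (l : List A), RingTheory.Sequence.IsWeaklyRegular A l →
      ∀ (p : Ideal A), p.IsPrime → Ideal.ofList l ≤ p → (l.length : ℕ∞) ≤ p.height := by
    intro l
    induction l using List.reverseRecOn with
    | nil =>
      intro _ p _ _
      simp
    | append_singleton l a ih =>
      intro hreg p hp hle
      rw [RingTheory.Sequence.isWeaklyRegular_append_iff,
        RingTheory.Sequence.isWeaklyRegular_singleton_iff] at hreg
      obtain ⟨hreg1, hreg2⟩ := hreg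
      rw [Ideal.ofList_append, Ideal.ofList_singleton, sup_le_iff] at hle
      obtain ⟨hle1, hle2⟩ := hle
      have hap : a ∈ p := hle2 (Ideal.subset_span rfl)
      obtain ⟨q, hq, hqp⟩ := Ideal.exists_minimalPrimes_le hle1
      have hqprime : q.IsPrime := hq.1.1
      have hlq : Ideal.ofList l ≤ q := hq.1.2
      have haq : a ∉ q := by
        intro haq
        rw [Ideal.minimalPrimes_eq_comap] at hq
        obtain ⟨q₀, hq₀, rfl⟩ := hq
        have hdisj := Ideal.disjoint_nonZeroDivisors_of_mem_minimalPrimes hq₀
        have hmem : Ideal.Quotient.mk (Ideal.ofList l) a ∈ nonZeroDivisors (A ⧸ Ideal.ofList l) := by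
          rw [mem_nonZeroDivisors_iff_right]
          intro z hz
          obtain ⟨z₀, rfl⟩ := Ideal.Quotient.mk_surjective z
          rw [← map_mul, Ideal.Quotient.eq_zero_iff_mem] at hz
          rw [Ideal.Quotient.eq_zero_iff_mem]
          have htop : (Ideal.ofList l • (⊤ : Submodule A A)) = Ideal.ofList l := by
            rw [smul_eq_mul, Ideal.mul_top]
          have h1 : a • (Submodule.Quotient.mk z₀ :
              A ⧸ (Ideal.ofList l • (⊤ : Submodule A A))) = a • 0 := by
            rw [smul_zero, ← Submodule.Quotient.mk_smul, Submodule.Quotient.mk_eq_zero, htop,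
              smul_eq_mul, mul_comm]
            exact hz
          have h2 := hreg2 h1
          rw [Submodule.Quotient.mk_eq_zero, htop] at h2
          exact h2
        exact Set.disjoint_left.mp hdisj haq hmem
      have hlt : q < p := lt_of_le_of_ne hqp (fun h => haq (h ▸ hap))
      have h1 := ih hreg1 q hqprime hlq
      have h2 := Ideal.height_add_one_le_of_lt_of_isPrime hlt
      rw [List.length_append, List.length_singleton]
      push_cast
      exact le_trans (by gcongr) h2
  have hIeq : Ideal.span (Set.range x) = Ideal.ofList (List.ofFn x) := by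
    unfold Ideal.ofList
    congr 1
    ext a
    simp [List.mem_ofFn]
  apply le_antisymm
  · obtain ⟨⟨J, hJ⟩⟩ := Ideal.nonempty_minimalPrimes hI
    have hspan : Ideal.span (Set.range x) = Ideal.span ((Finset.univ.image x : Finset A) : Set A) := by
      rw [Finset.coe_image, Finset.coe_univ, Set.image_univ]
    rw [Ideal.height_eq_inf_minimalPrimes]
    refine le_trans (iInf₂_le J hJ) ?_
    rw [hspan] at hJ
    refine le_trans (Ideal.height_le_card_of_mem_minimalPrimes_span_finset hJ) ?_
    have := Finset.card_image_le (s := (Finset.univ : Finset (Fin r))) (f := x)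
    rw [Finset.card_univ, Fintype.card_fin] at this
    exact_mod_cast this
  · rw [Ideal.height_eq_inf_minimalPrimes]
    refine le_iInf₂ (fun J hJ => ?_)
    have := hL (List.ofFn x) hx J hJ.1.1 (hIeq ▸ hJ.1.2)
    rwa [List.length_ofFn] at this

end Groth.Agent.S16235
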