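import Groth.Statements.S16244
import Mathlib

set_option autoImplicit false
universe u
open Curves

namespace Groth.Agent.S16244aux
open WeierstrassCurve

variable {k : Type u} [Field k]

/-- membership in the stabilizer of a short Weierstrass curve -/
theorem mem_stab_iff (h2 : (2 : k) ≠ 0) (h3 : (3 : k) ≠ 0)
    (W : WeierstrassCurve k) [W.IsShortNF] (C : VariableChange k) :
    C ∈ MulAction.stabilizer (VariableChange k) W ↔
      C.r = 0 ∧ C.s = 0 ∧ C.t = 0 ∧ W.a₄ = (C.u : k) ^ 4 * W.a₄ ∧ W.a₆ = (C.u : k) ^ 6 * W.a₆ := by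
  have hu : (C.u : k) ≠ 0 := C.u.ne_zero
  have huinv : ((C.u⁻¹ : kˣ) : k) ≠ 0 := (C.u⁻¹).ne_zero
  have huu : ((C.u⁻¹ : kˣ) : k) * (C.u : k) = 1 := by
    rw [← Units.val_mul, inv_mul_cancel, Units.val_one]
  rw [MulAction.mem_stabilizer_iff, WeierstrassCurve.ext_iff]
  simp only [variableChange_a₁, variableChange_a₂, variableChange_a₃, variableChange_a₄,
    variableChange_a₆, a₁_of_isShortNF, a₂_of_isShortNF, a₃_of_isShortNF]
  constructor
  · rintro ⟨e1, e2, e3, e4, e6⟩
    have hs : C.s = 0 := by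
      have := mul_eq_zero.mp e1
      rcases this with h | h
      · exact absurd h huinv
      · have : 2 * C.s = 0 := by linear_combination h
        rcases mul_eq_zero.mp this with h' | h'
        · exact absurd h' h2
        · exact h'
    have hr : C.r = 0 := by
      rcases mul_eq_zero.mp e2 with h | h
      · exact absurd (pow_eq_zero_iff (by norm_num) |>.mp h) huinv
      · rw [hs] at h
        have : 3 * C.r = 0 := by linear_combination h
        rcases mul_eq_zero.mp this with h' | h'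
        · exact absurd h' h3
        · exact h'
    have ht : C.t = 0 := by
      rcases mul_eq_zero.mp e3 with h | h
      · exact absurd (pow_eq_zero_iff (by norm_num) |>.mp h) huinv
      · rw [hr] at h
        have : 2 * C.t = 0 := by linear_combination h
        rcases mul_eq_zero.mp this with h' | h'
        · exact absurd h' h2
        · exact h'
    refine ⟨hr, hs, ht, ?_, ?_⟩
    · rw [hr, hs, ht] at e4
      have h1 : ((C.u⁻¹ : kˣ) : k) ^ 4 * (C.u : k) ^ 4 = 1 := by rw [← mul_pow, huu, one_pow]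
      linear_combination (C.u : k) ^ 4 * e4 - W.a₄ * h1
    · rw [hr, ht] at e6
      have h1 : ((C.u⁻¹ : kˣ) : k) ^ 6 * (C.u : k) ^ 6 = 1 := by rw [← mul_pow, huu, one_pow]
      linear_combination (C.u : k) ^ 6 * e6 - W.a₆ * h1
  · rintro ⟨hr, hs, ht, e4, e6⟩
    rw [hr, hs, ht]
    have h4 : ((C.u⁻¹ : kˣ) : k) ^ 4 * (C.u : k) ^ 4 = 1 := by rw [← mul_pow, huu, one_pow]
    have h6 : ((C.u⁻¹ : kˣ) : k) ^ 6 * (C.u : k) ^ 6 = 1 := by rw [← mul_pow, huu, one_pow]
    refine ⟨by ring, by ring, by ring, ?_, ?_⟩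
    · linear_combination W.a₄ * h4 + ((C.u⁻¹ : kˣ) : k) ^ 4 * e4
    · linear_combination W.a₆ * h6 + ((C.u⁻¹ : kˣ) : k) ^ 6 * e6

/-- the stabilizer as roots of unity -/
noncomputable def stabEquiv (W : WeierstrassCurve k) (N : ℕ)
    (hN : ∀ C : VariableChange k, C ∈ MulAction.stabilizer (VariableChange k) W ↔
      C.r = 0 ∧ C.s = 0 ∧ C.t = 0 ∧ C.u ^ N = 1) :
    ↥(MulAction.stabilizer (VariableChange k) W) ≃* rootsOfUnity N k where
  toFun C := ⟨C.1.u, by rw [mem_rootsOfUnity]; exact ((hN C.1).mp C.2).2.2.2⟩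
  invFun ζ := ⟨⟨ζ.1, 0, 0, 0⟩, (hN _).mpr ⟨rfl, rfl, rfl, (mem_rootsOfUnity _ _).mp ζ.2⟩⟩
  left_inv C := by
    obtain ⟨hr, hs, ht, -⟩ := (hN C.1).mp C.2
    apply Subtype.ext
    apply VariableChange.ext
    · rfl
    · exact hr.symm
    · exact hs.symm
    · exact ht.symm
  right_inv ζ := rfl
  map_mul' C C' := rfl

theorem cyclic_card [IsAlgClosed k] (W : WeierstrassCurve k) (N : ℕ) (hNk : (N : k) ≠ 0)
    (hN : ∀ C : VariableChange k, C ∈ MulAction.stabilizer (VariableChange k) W ↔
      C.r = 0 ∧ C.s = 0 ∧ C.t = 0 ∧ C.u ^ N = 1) :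
    IsCyclic ↥(MulAction.stabilizer (VariableChange k) W) ∧
      Nat.card ↥(MulAction.stabilizer (VariableChange k) W) = N := by
  haveI : NeZero (N : k) := ⟨hNk⟩
  haveI : NeZero N := ⟨fun h => hNk (by rw [h]; simp)⟩
  have e := stabEquiv W N hN
  constructor
  · exact isCyclic_of_surjective e.symm.toMonoidHom e.symm.surjective
  · rw [Nat.card_congr e.toEquiv]
    exact HasEnoughRootsOfUnity.natCard_rootsOfUnity k N

theorem units_pow_eq_one_iff (u : kˣ) (N : ℕ) : u ^ N = 1 ↔ (u : k) ^ N = 1 := by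
  rw [Units.ext_iff, Units.val_pow_eq_pow_val, Units.val_one]

theorem main [IsAlgClosed k] (h2 : (2 : k) ≠ 0) (h3 : (3 : k) ≠ 0)
    (W : WeierstrassCurve k) [W.IsShortNF] (hΔ : W.Δ ≠ 0) :
    IsCyclic ↥(MulAction.stabilizer (VariableChange k) W) ∧
      (W.a₄ = 0 → Nat.card ↥(MulAction.stabilizer (VariableChange k) W) = 6) ∧
      (W.a₆ = 0 → Nat.card ↥(MulAction.stabilizer (VariableChange k) W) = 4) ∧
      (W.a₄ ≠ 0 → W.a₆ ≠ 0 →
        Nat.card ↥(MulAction.stabilizer (VariableChange k) W) = 2) := by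
  rw [Δ_of_isShortNF] at hΔ
  have h6k : ((6 : ℕ) : k) ≠ 0 := by
    have : ((6 : ℕ) : k) = 2 * 3 := by norm_num
    rw [this]; exact mul_ne_zero h2 h3
  have h4k : ((4 : ℕ) : k) ≠ 0 := by
    have : ((4 : ℕ) : k) = 2 * 2 := by norm_num
    rw [this]; exact mul_ne_zero h2 h2
  have h2k : ((2 : ℕ) : k) ≠ 0 := by
    have : ((2 : ℕ) : k) = 2 := by norm_num
    rw [this]; exact h2
  -- case a₄ = 0
  have case6 : W.a₄ = 0 → IsCyclic ↥(MulAction.stabilizer (VariableChange k) W) ∧
      Nat.card ↥(MulAction.stabilizer (VariableChange k) W) = 6 := by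
    intro h4
    have h6 : W.a₆ ≠ 0 := by
      intro h6
      apply hΔ
      rw [h4, h6]; ring
    apply cyclic_card W 6 h6k
    intro C
    rw [mem_stab_iff h2 h3 W C, units_pow_eq_one_iff, h4]
    constructor
    · rintro ⟨hr, hs, ht, -, e6⟩
      refine ⟨hr, hs, ht, ?_⟩
      have : ((C.u : k) ^ 6 - 1) * W.a₆ = 0 := by linear_combination -e6
      rcases mul_eq_zero.mp this with h | h
      · linear_combination h
      · exact absurd h h6
    · rintro ⟨hr, hs, ht, e⟩
      exact ⟨hr, hs, ht, by ring, by rw [e, one_mul]⟩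
  have case4 : W.a₆ = 0 → IsCyclic ↥(MulAction.stabilizer (VariableChange k) W) ∧
      Nat.card ↥(MulAction.stabilizer (VariableChange k) W) = 4 := by
    intro h6
    have h4 : W.a₄ ≠ 0 := by
      intro h4
      apply hΔ
      rw [h4, h6]; ring
    apply cyclic_card W 4 h4k
    intro C
    rw [mem_stab_iff h2 h3 W C, units_pow_eq_one_iff, h6]
    constructor
    · rintro ⟨hr, hs, ht, e4, -⟩
      refine ⟨hr, hs, ht, ?_⟩
      have : ((C.u : k) ^ 4 - 1) * W.a₄ = 0 := by linear_combination -e4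
      rcases mul_eq_zero.mp this with h | h
      · linear_combination h
      · exact absurd h h4
    · rintro ⟨hr, hs, ht, e⟩
      exact ⟨hr, hs, ht, by rw [e, one_mul], by ring⟩
  have case2 : W.a₄ ≠ 0 → W.a₆ ≠ 0 → IsCyclic ↥(MulAction.stabilizer (VariableChange k) W) ∧
      Nat.card ↥(MulAction.stabilizer (VariableChange k) W) = 2 := by
    intro h4 h6
    apply cyclic_card W 2 h2k
    intro C
    rw [mem_stab_iff h2 h3 W C, units_pow_eq_one_iff]
    constructor
    · rintro ⟨hr, hs, ht, e4, e6⟩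
      refine ⟨hr, hs, ht, ?_⟩
      have hu4 : (C.u : k) ^ 4 = 1 := by
        have : ((C.u : k) ^ 4 - 1) * W.a₄ = 0 := by linear_combination -e4
        rcases mul_eq_zero.mp this with h | h
        · linear_combination h
        · exact absurd h h4
      have hu6 : (C.u : k) ^ 6 = 1 := by
        have : ((C.u : k) ^ 6 - 1) * W.a₆ = 0 := by linear_combination -e6
        rcases mul_eq_zero.mp this with h | h
        · linear_combination h
        · exact absurd h h6
      linear_combination hu6 - (C.u : k) ^ 2 * hu4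
    · rintro ⟨hr, hs, ht, e⟩
      have hu4 : (C.u : k) ^ 4 = 1 := by
        have : (C.u : k) ^ 4 = ((C.u : k) ^ 2) ^ 2 := by ring
        rw [this, e, one_pow]
      have hu6 : (C.u : k) ^ 6 = 1 := by
        have : (C.u : k) ^ 6 = ((C.u : k) ^ 2) ^ 3 := by ring
        rw [this, e, one_pow]
      exact ⟨hr, hs, ht, by rw [hu4, one_mul], by rw [hu6, one_mul]⟩
  refine ⟨?_, fun h => (case6 h).2, fun h => (case4 h).2, fun h h' => (case2 h h').2⟩
  by_cases h4 : W.a₄ = 0
  · exact (case6 h4).1
  · by_cases h6 : W.a₆ = 0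
    · exact (case4 h6).1
    · exact (case2 h4 h6).1

end Groth.Agent.S16244aux

namespace Groth.Agent.S16244

/-- Let k be an algebraically closed field in which 2 and 3 are nonzero, and W a short Weierstrass
equation y² = x³ + a₄x + a₆ over k with nonzero discriminant. The admissible changes of variables
(u, r, s, t) that fix W form a cyclic group, of order 6 when a₄ = 0, of order 4 when a₆ = 0, and of
order 2 when a₄ and a₆ are both nonzero. (The published statement says the automorphism group of the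
elliptic curve is cyclic of order 2, 4 or 6; the automorphisms are rendered here as the changes of
variables preserving the equation, and the case distinction is the one the computation gives.) -/
theorem result
    (k : Type u) [Field k] [IsAlgClosed k] (h2 : (2 : k) ≠ 0) (h3 : (3 : k) ≠ 0)
    (W : WeierstrassCurve k) [W.IsShortNF] (hΔ : W.Δ ≠ 0) :
    IsCyclic ↥(MulAction.stabilizer (WeierstrassCurve.VariableChange k) W) ∧
      (W.a₄ = 0 → Nat.card ↥(MulAction.stabilizer (WeierstrassCurve.VariableChange k) W) = 6) ∧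
      (W.a₆ = 0 → Nat.card ↥(MulAction.stabilizer (WeierstrassCurve.VariableChange k) W) = 4) ∧
      (W.a₄ ≠ 0 → W.a₆ ≠ 0 → Nat.card ↥(MulAction.stabilizer (WeierstrassCurve.VariableChange k) W) = 2) := by
  exact Groth.Agent.S16244aux.main h2 h3 W hΔ

end Groth.Agent.S16244
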