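import Groth.Statements.S16263
import Mathlib
-- import your own Groth.Agent.* helpers here

set_option autoImplicit false
open W4c3wronskmg

namespace Groth.Agent.S16263

namespace H5S16263
open Polynomial

variable {k : Type*} [Field k]

/-- membership facts for `V` -/
theorem mem_V (a : ℕ) (V : Submodule k (Polynomial k))
    (hV : V = Submodule.span k {(1 : Polynomial k)} ⊔
      ((Ideal.span {(X : Polynomial k) * (X + 1)}).restrictScalars k ⊓ Polynomial.degreeLE k ↑(a + 1)))
    (g : Polynomial k) (hg : g ∈ V) : g.eval 0 = g.eval (-1) ∧ g.natDegree ≤ a + 1 := by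
  rw [hV, Submodule.mem_sup] at hg
  obtain ⟨y, hy, z, hz, rfl⟩ := hg
  obtain ⟨c, rfl⟩ := Submodule.mem_span_singleton.1 hy
  obtain ⟨hz1, hz2⟩ := hz
  have hz1' : z ∈ (Ideal.span {(X : Polynomial k) * (X + 1)} : Ideal (Polynomial k)) := hz1
  rw [Ideal.mem_span_singleton'] at hz1'
  obtain ⟨F, rfl⟩ := hz1'
  constructor
  · simp
  · have hz2' : F * (X * (X + 1)) ∈ Polynomial.degreeLE k ↑(a + 1) := hz2
    rw [Polynomial.mem_degreeLE] at hz2'
    have h1 : (c • (1 : Polynomial k)).natDegree ≤ a + 1 := by
      rw [Polynomial.smul_eq_C_mul, mul_one]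
      simp
    have h2 : (F * (X * (X + 1))).natDegree ≤ a + 1 := natDegree_le_of_degree_le hz2'
    exact (natDegree_add_le _ _).trans (max_le h1 h2)

/-- structure of the Taylor expansion of an element of `V` divisible by `(X - p)^a` -/
theorem taylor_form (a : ℕ) (p : k) (g : Polynomial k) (hdeg : g.natDegree ≤ a + 1)
    (hdiv : g ∈ (Ideal.span {(X - C p) ^ a} : Ideal (Polynomial k))) :
    taylor p g = (C ((taylor p g).coeff (a + 1)) * X + C ((taylor p g).coeff a)) * X ^ a := by
  rw [Ideal.mem_span_singleton'] at hdiv
  obtain ⟨F, rfl⟩ := hdiv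
  have hT : taylor p (F * (X - C p) ^ a) = taylor p F * X ^ a := by
    rw [taylor_mul, taylor_pow, map_sub, taylor_X, taylor_C, add_sub_cancel_right]
  set S := taylor p F with hS
  rw [hT]
  have hdegT : (S * X ^ a).natDegree ≤ a + 1 := by
    rw [← hT, natDegree_taylor]; exact hdeg
  have hS1 : S.natDegree ≤ 1 := by
    by_cases h0 : S = 0
    · rw [h0]; simp
    · rw [natDegree_mul_X_pow a h0] at hdegT
      omega
  have e0 : (S * X ^ a).coeff a = S.coeff 0 := by
    have := coeff_mul_X_pow S a 0
    rwa [zero_add] at this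
  have e1 : (S * X ^ a).coeff (a + 1) = S.coeff 1 := by
    have := coeff_mul_X_pow S a 1
    rwa [add_comm] at this
  rw [e0, e1, ← eq_X_add_C_of_natDegree_le_one hS1]

theorem part1 (a : ℕ) (ha : 0 < a) (V : Submodule k (Polynomial k))
    (hV : V = Submodule.span k {(1 : Polynomial k)} ⊔
      ((Ideal.span {(X : Polynomial k) * (X + 1)}).restrictScalars k ⊓ Polynomial.degreeLE k ↑(a + 1)))
    (p : k) :
    Module.finrank k ↥(V ⊓ (Ideal.span {(X - C p) ^ a}).restrictScalars k) ≤ 1 := by
  set W := V ⊓ (Ideal.span {(X - C p) ^ a}).restrictScalars k with hW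
  -- linear functionals
  let A : Polynomial k →ₗ[k] k := (lcoeff k (a + 1)).comp (taylor p)
  let B : Polynomial k →ₗ[k] k := (lcoeff k a).comp (taylor p)
  set u : k := (-p) ^ a with hu
  set w : k := (-1 - p) ^ a with hw
  have hform : ∀ g ∈ W, taylor p g = (C (A g) * X + C (B g)) * X ^ a := by
    intro g hg
    exact taylor_form a p g (mem_V a V hV g hg.1).2 hg.2
  have hrel : ∀ g ∈ W, B g * (u - w) + A g * (u * (-p) - w * (-1 - p)) = 0 := by
    intro g hg
    have h1 := (mem_V a V hV g hg.1).1
    have e0 : g.eval 0 = (taylor p g).eval (-p) := by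
      rw [taylor_eval]; simp
    have e1 : g.eval (-1) = (taylor p g).eval (-1 - p) := by
      rw [taylor_eval]; simp
    rw [e0, e1, hform g hg] at h1
    simp only [eval_mul, eval_add, eval_C, eval_X, eval_pow] at h1
    rw [← hu, ← hw] at h1
    linear_combination h1
  have hnz : ¬ (u - w = 0 ∧ u * (-p) - w * (-1 - p) = 0) := by
    rintro ⟨h1, h2⟩
    have huw : u = w := sub_eq_zero.1 h1
    rw [huw] at h2
    have hw0 : w = 0 := by linear_combination h2
    have hu0 : u = 0 := huw.trans hw0
    rw [hu] at hu0
    rw [hw] at hw0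
    have hp0 : -p = 0 := pow_eq_zero_iff (ha.ne') |>.1 hu0
    have hp1 : -1 - p = 0 := pow_eq_zero_iff (ha.ne') |>.1 hw0
    have : (1 : k) = 0 := by linear_combination hp0 - hp1
    exact one_ne_zero this
  have hinj0 : ∀ g ∈ W, A g = 0 → B g = 0 → g = 0 := by
    intro g hg hA hB
    apply taylor_injective p
    rw [hform g hg, hA, hB]
    simp
  by_cases hc1 : u - w = 0
  · have hc2 : u * (-p) - w * (-1 - p) ≠ 0 := fun h => hnz ⟨hc1, h⟩
    let ψ : W →ₗ[k] k := B.comp W.subtype
    have hψ : Function.Injective ψ := by
      rw [injective_iff_map_eq_zero]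
      intro g hg
      apply Subtype.ext
      have hB : B g.1 = 0 := hg
      have := hrel g.1 g.2
      rw [hB, zero_mul, zero_add] at this
      have hA : A g.1 = 0 := (mul_eq_zero.1 this).resolve_right hc2
      exact hinj0 g.1 g.2 hA hB
    have := LinearMap.finrank_le_finrank_of_injective hψ
    rwa [Module.finrank_self] at this
  · let ψ : W →ₗ[k] k := A.comp W.subtype
    have hψ : Function.Injective ψ := by
      rw [injective_iff_map_eq_zero]
      intro g hg
      apply Subtype.ext
      have hA : A g.1 = 0 := hg
      have := hrel g.1 g.2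
      rw [hA, zero_mul, add_zero] at this
      have hB : B g.1 = 0 := (mul_eq_zero.1 this).resolve_right hc1
      exact hinj0 g.1 g.2 hA hB
    have := LinearMap.finrank_le_finrank_of_injective hψ
    rwa [Module.finrank_self] at this

theorem part2 (a : ℕ) (V : Submodule k (Polynomial k))
    (hV : V = Submodule.span k {(1 : Polynomial k)} ⊔
      ((Ideal.span {(X : Polynomial k) * (X + 1)}).restrictScalars k ⊓ Polynomial.degreeLE k ↑(a + 1))) :
    Module.finrank k ↥(V ⊓ Polynomial.degreeLT k 2) ≤ 1 := by
  set W := V ⊓ Polynomial.degreeLT k 2 with hW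
  let ψ : W →ₗ[k] k := (lcoeff k 0).comp W.subtype
  have hψ : Function.Injective ψ := by
    rw [injective_iff_map_eq_zero]
    intro g hg
    apply Subtype.ext
    have h0 : g.1.coeff 0 = 0 := hg
    have h1 := (mem_V a V hV g.1 g.2.1).1
    have hdeg : g.1.natDegree ≤ 1 := by
      have : g.1 ∈ Polynomial.degreeLT k 2 := g.2.2
      rw [Polynomial.mem_degreeLT] at this
      by_cases hg0 : g.1 = 0
      · rw [hg0]; simp
      · rw [Polynomial.degree_eq_natDegree hg0] at this
        have : g.1.natDegree < 2 := by exact_mod_cast this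
        omega
    have hform := eq_X_add_C_of_natDegree_le_one hdeg
    rw [hform] at h1
    simp only [eval_add, eval_mul, eval_C, eval_X, mul_zero, zero_add, mul_neg, mul_one] at h1
    have h2 : g.1.coeff 1 = 0 := by linear_combination h1
    change g.1 = 0
    rw [hform, h0, h2]
    simp
  have := LinearMap.finrank_le_finrank_of_injective hψ
  rwa [Module.finrank_self] at this

end H5S16263

open Polynomial in
/-- Let `k` be a field of characteristic zero and `a` a positive integer. On the projective line with `A
= 0`, `B = -1`, `C = ∞`, the `(a+1)`-dimensional system `V = H⁰(ω((1+a)C)) ⊕ H⁰(ω(A+B)) ⊆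
H⁰(ω((1+a)C + A + B)) ≅ H⁰(O(a+1))` is, in the affine coordinate, the space of polynomials `c + X
(X+1) F` with `c` a constant and `deg F ≤ a - 1`. Then `V` has no special ramification point (no
point of weight at least two): since the members have degree at most `a + 1`, this says that for
every point `p` of the affine line at most a one-dimensional subspace of `V` is divisible by
`(X-p)^a`, and at `C` that at most a one-dimensional subspace has degree at most one (degree less
than two). (The published statement carries two further positive integers `i, j` with `i + j = a -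
1`, used only in its second assertion, and is over the complex numbers.) -/
theorem result
    (k : Type*) [Field k] [CharZero k] (a : ℕ) (ha : 0 < a)
    (V : Submodule k (Polynomial k))
    (hV : V = Submodule.span k {(1 : Polynomial k)} ⊔
      ((Ideal.span {(X : Polynomial k) * (X + 1)}).restrictScalars k ⊓ Polynomial.degreeLE k ↑(a + 1))) :
    (∀ p : k, Module.finrank k ↥(V ⊓ (Ideal.span {(X - C p) ^ a}).restrictScalars k) ≤ 1) ∧
      Module.finrank k ↥(V ⊓ Polynomial.degreeLT k 2) ≤ 1 := by
  exact ⟨fun p => H5S16263.part1 a ha V hV p, H5S16263.part2 a V hV⟩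

end Groth.Agent.S16263
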