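import Groth.Statements.S16264
import Mathlib
import Groth.Agent.S16263
-- import your own Groth.Agent.* helpers here

set_option autoImplicit false
open W4c3wronskmg

namespace Groth.Agent.S16264

namespace H5S16264
open Polynomial Groth.Agent.S16263

variable {k : Type*} [Field k]

theorem finrank_degreeLT (n : ℕ) : Module.finrank k (degreeLT k n) = n := by
  rw [(degreeLTEquiv k n).finrank_eq]
  simp

instance (n : ℕ) : Module.Finite k (degreeLT k n) :=
  Module.Finite.equiv (degreeLTEquiv k n).symm

theorem main (a i j : ℕ) (hi : 0 < i) (hj : 0 < j) (hij : i + j + 1 = a)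
    (V : Submodule k (Polynomial k))
    (hV : V = Submodule.span k {(1 : Polynomial k)} ⊔
      ((Ideal.span {(X : Polynomial k) * (X + 1)}).restrictScalars k ⊓ Polynomial.degreeLE k ↑(a + 1)))
    (p q : k) :
    3 ≤ Module.finrank k ↥(V ⊓ (Ideal.span {(X - C p) ^ i * (X - C q) ^ j}).restrictScalars k) ↔
      (p = 0 ∧ q = -1) ∨ (p = -1 ∧ q = 0) := by
  set D : Polynomial k := (X - C p) ^ i * (X - C q) ^ j with hD
  have hDmonic : D.Monic := ((monic_X_sub_C p).pow i).mul ((monic_X_sub_C q).pow j)
  have hDdeg : D.natDegree = i + j := by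
    rw [hD, ((monic_X_sub_C p).pow i).natDegree_mul ((monic_X_sub_C q).pow j),
      (monic_X_sub_C p).natDegree_pow, (monic_X_sub_C q).natDegree_pow, natDegree_X_sub_C,
      natDegree_X_sub_C]
    ring
  have hD0 : D ≠ 0 := hDmonic.ne_zero
  set W := V ⊓ (Ideal.span {D}).restrictScalars k with hW
  let Ψ : Polynomial k →ₗ[k] Polynomial k := LinearMap.mulLeft k D
  have hΨinj : Function.Injective Ψ := fun x y hxy => mul_left_cancel₀ hD0 hxy
  set Im : Submodule k (Polynomial k) := (degreeLT k 3).map Ψ with hIm
  have hdimIm : Module.finrank k Im = 3 := by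
    rw [hIm, ← (Submodule.equivMapOfInjective Ψ hΨinj (degreeLT k 3)).finrank_eq, finrank_degreeLT]
  haveI : Module.Finite k Im := Module.Finite.equiv (Submodule.equivMapOfInjective Ψ hΨinj (degreeLT k 3))
  have hWIm : W ≤ Im := by
    intro g hg
    have hdeg := (H5S16263.mem_V a V hV g hg.1).2
    have hmem : g ∈ (Ideal.span {D} : Ideal (Polynomial k)) := hg.2
    rw [Ideal.mem_span_singleton'] at hmem
    obtain ⟨F, rfl⟩ := hmem
    refine ⟨F, ?_, mul_comm D F⟩
    change F ∈ degreeLT k 3
    rw [Polynomial.mem_degreeLT]
    by_cases hF : F = 0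
    · rw [hF, degree_zero]; exact WithBot.bot_lt_coe _
    · rw [natDegree_mul hF hD0, hDdeg] at hdeg
      rw [degree_eq_natDegree hF]
      have : F.natDegree < 3 := by omega
      exact_mod_cast this
  haveI : Module.Finite k W := Submodule.finiteDimensional_of_le hWIm
  constructor
  · intro h3
    have hEq : W = Im := by
      apply Submodule.eq_of_le_of_finrank_le hWIm
      rw [hdimIm]; exact h3
    have hX : D * X ∈ V := by
      have : D * X ∈ Im := ⟨X, by
        change (X : Polynomial k) ∈ degreeLT k 3
        rw [Polynomial.mem_degreeLT, degree_X]; norm_num, rfl⟩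
      rw [← hEq] at this
      exact this.1
    have hX1 : D * (X + 1) ∈ V := by
      have : D * (X + 1) ∈ Im := ⟨X + 1, by
        change (X + 1 : Polynomial k) ∈ degreeLT k 3
        rw [Polynomial.mem_degreeLT]
        have : (X + 1 : Polynomial k).degree = 1 := degree_X_add_C (1 : k)
        rw [this]; norm_num, rfl⟩
      rw [← hEq] at this
      exact this.1
    have e1 := (H5S16263.mem_V a V hV _ hX).1
    have e2 := (H5S16263.mem_V a V hV _ hX1).1
    simp only [eval_mul, eval_X, eval_add, eval_one, mul_zero, zero_add, mul_one,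
      neg_add_cancel] at e1 e2
    have hDm1 : D.eval (-1) = 0 := by linear_combination e1
    have hD0' : D.eval 0 = 0 := by linear_combination e2
    rw [hD] at hDm1 hD0'
    simp only [eval_mul, eval_pow, eval_sub, eval_X, eval_C, mul_eq_zero, pow_eq_zero_iff hi.ne',
      pow_eq_zero_iff hj.ne'] at hDm1 hD0'
    rcases hD0' with h0 | h0 <;> rcases hDm1 with h1 | h1
    · exfalso
      have : (1 : k) = 0 := by linear_combination h0 - h1
      exact one_ne_zero this
    · left; exact ⟨by linear_combination -h0, by linear_combination -h1⟩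
    · right; exact ⟨by linear_combination -h1, by linear_combination -h0⟩
    · exfalso
      have : (1 : k) = 0 := by linear_combination h0 - h1
      exact one_ne_zero this
  · intro hpq
    -- D = X(X+1) * E
    have hfac : ∃ E : Polynomial k, D = X * (X + 1) * E ∧ E.natDegree ≤ i + j - 2 := by
      rcases hpq with ⟨rfl, rfl⟩ | ⟨rfl, rfl⟩
      · refine ⟨X ^ (i - 1) * (X + 1) ^ (j - 1), ?_, ?_⟩
        · rw [hD]
          obtain ⟨i', rfl⟩ : ∃ i', i = i' + 1 := ⟨i - 1, by omega⟩
          obtain ⟨j', rfl⟩ : ∃ j', j = j' + 1 := ⟨j - 1, by omega⟩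
          simp only [map_zero, sub_zero, map_neg, map_one, sub_neg_eq_add, Nat.add_sub_cancel]
          ring
        · refine (natDegree_mul_le).trans ?_
          have h1 : (X ^ (i - 1) : Polynomial k).natDegree ≤ i - 1 := natDegree_X_pow_le _
          have h2 : ((X + 1 : Polynomial k) ^ (j - 1)).natDegree ≤ j - 1 := by
            refine (natDegree_pow_le).trans ?_
            have : (X + 1 : Polynomial k).natDegree = 1 := natDegree_X_add_C (1 : k)
            rw [this, mul_one]
          omega
      · refine ⟨(X + 1) ^ (i - 1) * X ^ (j - 1), ?_, ?_⟩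
        · rw [hD]
          obtain ⟨i', rfl⟩ : ∃ i', i = i' + 1 := ⟨i - 1, by omega⟩
          obtain ⟨j', rfl⟩ : ∃ j', j = j' + 1 := ⟨j - 1, by omega⟩
          simp only [map_zero, sub_zero, map_neg, map_one, sub_neg_eq_add, Nat.add_sub_cancel]
          ring
        · refine (natDegree_mul_le).trans ?_
          have h1 : (X ^ (j - 1) : Polynomial k).natDegree ≤ j - 1 := natDegree_X_pow_le _
          have h2 : ((X + 1 : Polynomial k) ^ (i - 1)).natDegree ≤ i - 1 := by
            refine (natDegree_pow_le).trans ?_
            have : (X + 1 : Polynomial k).natDegree = 1 := natDegree_X_add_C (1 : k)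
            rw [this, mul_one]
          omega
    obtain ⟨E, hE, hEdeg⟩ := hfac
    have hImW : Im ≤ W := by
      rintro _ ⟨F, hF, rfl⟩
      have hF' : F ∈ degreeLT k 3 := hF
      constructor
      · rw [hV]
        apply Submodule.mem_sup_right
        constructor
        · change D * F ∈ (Ideal.span {(X : Polynomial k) * (X + 1)} : Ideal (Polynomial k))
          rw [Ideal.mem_span_singleton']
          exact ⟨E * F, by rw [hE]; ring⟩
        · change D * F ∈ degreeLE k ↑(a + 1)
          rw [Polynomial.mem_degreeLE]
          by_cases hF0 : F = 0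
          · rw [hF0, mul_zero]; simp
          · rw [Polynomial.mem_degreeLT, degree_eq_natDegree hF0] at hF'
            have hF2 : F.natDegree < 3 := by exact_mod_cast hF'
            refine (degree_le_natDegree).trans ?_
            rw [natDegree_mul hD0 hF0, hDdeg]
            exact_mod_cast (by omega : i + j + F.natDegree ≤ a + 1)
      · change D * F ∈ (Ideal.span {D} : Ideal (Polynomial k))
        exact Ideal.mul_mem_right _ _ (Ideal.mem_span_singleton_self D)
    have := Submodule.finrank_mono hImW
    rw [hdimIm] at this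
    exact this

end H5S16264

open Polynomial in
/-- Let `k` be a field of characteristic zero and `a, i, j` positive integers with `i + j = a - 1`. With
`A = 0`, `B = -1`, `C = ∞` on the projective line and `V` the `(a+1)`-dimensional system of
polynomials `c + X (X+1) F`, `deg F ≤ a - 1` (that is, `H⁰(ω((1+a)C)) ⊕ H⁰(ω(A+B)) ⊆ H⁰(O(a+1))`),
the pairs of points `(P, Q) = (p, q)` of the affine line with `dim V(-iP-jQ) ≥ 3`, i.e. with at
least a three-dimensional subspace of `V` divisible by `(X-p)^i (X-q)^j`, are exactly `(A, B)` and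
`(B, A)`. (Here `P, Q` range over the points other than `C`; when one of them is `C` the dimension
is at most two for degree reasons. The published statement is over the complex numbers.) -/
theorem result
    (k : Type*) [Field k] [CharZero k] (a i j : ℕ) (hi : 0 < i) (hj : 0 < j) (hij : i + j + 1 = a)
    (V : Submodule k (Polynomial k))
    (hV : V = Submodule.span k {(1 : Polynomial k)} ⊔
      ((Ideal.span {(X : Polynomial k) * (X + 1)}).restrictScalars k ⊓ Polynomial.degreeLE k ↑(a + 1)))
    (p q : k) :
    3 ≤ Module.finrank k ↥(V ⊓ (Ideal.span {(X - C p) ^ i * (X - C q) ^ j}).restrictScalars k) ↔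
      (p = 0 ∧ q = -1) ∨ (p = -1 ∧ q = 0) := by
  exact H5S16264.main a i j hi hj hij V hV p q

end Groth.Agent.S16264
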