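import Groth.Statements.S16265
import Groth.Agent.Lib.helper16.FFLin

set_option autoImplicit false
open FunFld

namespace Groth.Agent.S16265

/-- Let `K/k` be a function field of one variable over an algebraically closed field `k` of
characteristic zero (the function field of a smooth projective curve), `D` a divisor and `V ⊆ L(D)`
a linear system of dimension `r + 1`; write `V(-mP-nQ) = V ∩ L(D - mP - nQ)` for the members
vanishing to the indicated orders. Assume `V` has no special ramification point, i.e. no place of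
weight at least two: for every place `R`, `dim V(-rR) ≤ 1` and `V(-(r+2)R) = 0`. Let `P ≠ Q` be
places and `a, b ≥ 1` with `a + b = r + 1` (so that `V(-aP)` and `V(-bQ)` have dimensions `b` and
`a`). Then the following are equivalent: (1) the system `V(-aP)` has weight at least two at `Q`,
that is `dim V(-aP-(b-1)Q) ≥ 2` or `dim V(-aP-(b+1)Q) ≥ 1`, and the system `V(-bQ)` has weight at
least two at `P`, that is `dim V(-(a-1)P-bQ) ≥ 2` or `dim V(-(a+1)P-bQ) ≥ 1`; (2) one of (a) `dim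
V(-(a+1)P-(b+1)Q) ≥ 1`, (b) `dim V(-(a-1)P-(b-1)Q) ≥ 3`, (c) `dim V(-aP-(b+1)Q) ≥ 1` and `dim
V(-(a-1)P-bQ) ≥ 2`, (d) `dim V(-(a+1)P-bQ) ≥ 1` and `dim V(-aP-(b-1)Q) ≥ 2`. (The published
statement is for a smooth curve over the complex numbers.) -/
theorem result
    (k K : Type*) [Field k] [IsAlgClosed k] [CharZero k] [Field K] [Algebra k K]
    (hK : FunFld.IsFunctionField k K) (D : FunFld.Divisor k K)
    (V : Submodule k K) (hVD : V ≤ FunFld.L D) (r : ℕ) (hr : Module.finrank k ↥V = r + 1)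
    (hns : ∀ R : FunFld.Place k K,
      Module.finrank k ↥(V ⊓ FunFld.L (D - Finsupp.single R (r : ℤ))) ≤ 1 ∧
        V ⊓ FunFld.L (D - Finsupp.single R ((r : ℤ) + 2)) = ⊥)
    (P Q : FunFld.Place k K) (hPQ : P ≠ Q) (a b : ℕ) (ha : 1 ≤ a) (hb : 1 ≤ b) (hab : a + b = r + 1) :
    ((2 ≤ Module.finrank k ↥(V ⊓ FunFld.L (D - Finsupp.single P (a : ℤ) - Finsupp.single Q ((b : ℤ) - 1 : ℤ))) ∨
        1 ≤ Module.finrank k ↥(V ⊓ FunFld.L (D - Finsupp.single P (a : ℤ) - Finsupp.single Q ((b : ℤ) + 1 : ℤ)))) ∧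
      (2 ≤ Module.finrank k ↥(V ⊓ FunFld.L (D - Finsupp.single P ((a : ℤ) - 1 : ℤ) - Finsupp.single Q (b : ℤ))) ∨
        1 ≤ Module.finrank k ↥(V ⊓ FunFld.L (D - Finsupp.single P ((a : ℤ) + 1 : ℤ) - Finsupp.single Q (b : ℤ))))) ↔
    (1 ≤ Module.finrank k ↥(V ⊓ FunFld.L (D - Finsupp.single P ((a : ℤ) + 1 : ℤ) - Finsupp.single Q ((b : ℤ) + 1 : ℤ))) ∨
      3 ≤ Module.finrank k ↥(V ⊓ FunFld.L (D - Finsupp.single P ((a : ℤ) - 1 : ℤ) - Finsupp.single Q ((b : ℤ) - 1 : ℤ))) ∨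
      (1 ≤ Module.finrank k ↥(V ⊓ FunFld.L (D - Finsupp.single P (a : ℤ) - Finsupp.single Q ((b : ℤ) + 1 : ℤ))) ∧
        2 ≤ Module.finrank k ↥(V ⊓ FunFld.L (D - Finsupp.single P ((a : ℤ) - 1 : ℤ) - Finsupp.single Q (b : ℤ)))) ∨
      (1 ≤ Module.finrank k ↥(V ⊓ FunFld.L (D - Finsupp.single P ((a : ℤ) + 1 : ℤ) - Finsupp.single Q (b : ℤ))) ∧
        2 ≤ Module.finrank k ↥(V ⊓ FunFld.L (D - Finsupp.single P (a : ℤ) - Finsupp.single Q ((b : ℤ) - 1 : ℤ))))) := by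
  open Groth.Agent.Lib.helper16.FF in
  have hdeg : ∀ R : FunFld.Place k K, R.deg = 1 := fun R => deg_eq_one_of_isAlgClosed hK R
  let X : ℤ → ℤ → Submodule k K := fun m n => V ⊓ FunFld.L (D - Finsupp.single P m - Finsupp.single Q n)
  have hfd : ∀ m n, FiniteDimensional k ↥(X m n) := fun m n => finiteDimensional_inf_L hK V _
  have hmono : ∀ {m n m' n' : ℤ}, m ≤ m' → n ≤ n' → X m' n' ≤ X m n := by
    intro m n m' n' hm hn
    exact inf_le_inf_left V (L_mono (sub_single_sub_single_mono D P Q hm hn))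
  have hmonoF : ∀ {m n m' n' : ℤ}, m ≤ m' → n ≤ n' →
      Module.finrank k ↥(X m' n') ≤ Module.finrank k ↥(X m n) := by
    intro m n m' n' hm hn
    exact Submodule.finrank_mono (hmono hm hn)
  have hstepP : ∀ m n : ℤ, Module.finrank k ↥(X m n) ≤ Module.finrank k ↥(X (m + 1) n) + 1 := by
    intro m n
    have h := finrank_inf_L_le_sub_single hK V (D - Finsupp.single P m - Finsupp.single Q n) P
    rw [hdeg P] at h
    have e : D - Finsupp.single P m - Finsupp.single Q n - Finsupp.single P 1 =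
        D - Finsupp.single P (m + 1) - Finsupp.single Q n := by
      rw [Finsupp.single_add]; abel
    rw [e] at h
    exact h
  have hstepQ : ∀ m n : ℤ, Module.finrank k ↥(X m n) ≤ Module.finrank k ↥(X m (n + 1)) + 1 := by
    intro m n
    have h := finrank_inf_L_le_sub_single hK V (D - Finsupp.single P m - Finsupp.single Q n) Q
    rw [hdeg Q] at h
    have e : D - Finsupp.single P m - Finsupp.single Q n - Finsupp.single Q 1 =
        D - Finsupp.single P m - Finsupp.single Q (n + 1) := by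
      rw [Finsupp.single_add]; abel
    rw [e] at h
    exact h
  have hinf : ∀ m n m' n' : ℤ, X m n ⊓ X m' n' = X (max m m') (max n n') := by
    intro m n m' n'
    show (V ⊓ _) ⊓ (V ⊓ _) = V ⊓ _
    rw [inf_L_inf_inf_L, sub_single_inf_sub_single D hPQ]
  show ((2 ≤ Module.finrank k ↥(X a ((b : ℤ) - 1)) ∨ 1 ≤ Module.finrank k ↥(X a ((b : ℤ) + 1))) ∧
      (2 ≤ Module.finrank k ↥(X ((a : ℤ) - 1) b) ∨ 1 ≤ Module.finrank k ↥(X ((a : ℤ) + 1) b))) ↔
    (1 ≤ Module.finrank k ↥(X ((a : ℤ) + 1) ((b : ℤ) + 1)) ∨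
      3 ≤ Module.finrank k ↥(X ((a : ℤ) - 1) ((b : ℤ) - 1)) ∨
      (1 ≤ Module.finrank k ↥(X a ((b : ℤ) + 1)) ∧ 2 ≤ Module.finrank k ↥(X ((a : ℤ) - 1) b)) ∨
      (1 ≤ Module.finrank k ↥(X ((a : ℤ) + 1) b) ∧ 2 ≤ Module.finrank k ↥(X a ((b : ℤ) - 1))))
  constructor
  · rintro ⟨h1 | h1, h2 | h2⟩
    · -- (L, L)
      by_cases h3 : 3 ≤ Module.finrank k ↥(X ((a : ℤ) - 1) ((b : ℤ) - 1))
      · exact Or.inr (Or.inl h3)
      · have hsup := Submodule.finrank_sup_add_finrank_inf_eq (X a ((b : ℤ) - 1)) (X ((a : ℤ) - 1) b)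
        have hle : X a ((b : ℤ) - 1) ⊔ X ((a : ℤ) - 1) b ≤ X ((a : ℤ) - 1) ((b : ℤ) - 1) :=
          sup_le (hmono (by omega) le_rfl) (hmono le_rfl (by omega))
        have h4 := Submodule.finrank_mono hle
        rw [hinf, max_eq_left (by omega : (a : ℤ) - 1 ≤ a), max_eq_right (by omega : (b : ℤ) - 1 ≤ b)] at hsup
        have h5 : 2 ≤ Module.finrank k ↥(X a b) := by omega
        have h6 := hstepQ a b
        exact Or.inr (Or.inr (Or.inl ⟨by omega, h2⟩))
    · exact Or.inr (Or.inr (Or.inr ⟨h2, h1⟩))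
    · exact Or.inr (Or.inr (Or.inl ⟨h1, h2⟩))
    · -- (R, R)
      by_cases h3 : Module.finrank k ↥(X a b) ≤ 1
      · obtain ⟨s₁, hs₁⟩ := Module.finrank_pos_iff_exists_ne_zero.mp (by omega : 0 < Module.finrank k ↥(X a ((b : ℤ) + 1)))
        obtain ⟨s₂, hs₂⟩ := Module.finrank_pos_iff_exists_ne_zero.mp (by omega : 0 < Module.finrank k ↥(X ((a : ℤ) + 1) b))
        have m1 : (s₁ : K) ∈ X a b := hmono le_rfl (by omega) s₁.2
        have m2 : (s₂ : K) ∈ X a b := hmono (by omega) le_rfl s₂.2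
        have hs₂0 : (s₂ : K) ≠ 0 := fun h0 => hs₂ (Subtype.ext h0)
        have m3 : (s₁ : K) ∈ X ((a : ℤ) + 1) b := mem_of_finrank_le_one h3 m1 m2 hs₂0 s₂.2
        have m4 : (s₁ : K) ∈ X a ((b : ℤ) + 1) ⊓ X ((a : ℤ) + 1) b := ⟨s₁.2, m3⟩
        rw [hinf, max_eq_right (by omega : (a : ℤ) ≤ a + 1), max_eq_left (by omega : (b : ℤ) ≤ b + 1)] at m4
        left
        apply Module.finrank_pos_iff_exists_ne_zero.mpr
        refine ⟨⟨s₁, m4⟩, fun h0 => hs₁ (Subtype.ext ?_)⟩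
        have h00 : (s₁ : K) = 0 := congrArg (Subtype.val) h0
        exact h00
      · have h4 := hmonoF (m := (a : ℤ) - 1) (n := b) (m' := a) (n' := b) (by omega) le_rfl
        exact Or.inr (Or.inr (Or.inl ⟨h1, by omega⟩))
  · rintro (h | h | ⟨h1, h2⟩ | ⟨h1, h2⟩)
    · have h1 := hmonoF (m := (a : ℤ)) (n := (b : ℤ) + 1) (m' := (a : ℤ) + 1) (n' := (b : ℤ) + 1) (by omega) le_rfl
      have h2 := hmonoF (m := (a : ℤ) + 1) (n := (b : ℤ)) (m' := (a : ℤ) + 1) (n' := (b : ℤ) + 1) le_rfl (by omega)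
      exact ⟨Or.inr (by omega), Or.inr (by omega)⟩
    · have h1 := hstepP ((a : ℤ) - 1) ((b : ℤ) - 1)
      have h2 := hstepQ ((a : ℤ) - 1) ((b : ℤ) - 1)
      rw [sub_add_cancel] at h1 h2
      exact ⟨Or.inl (by omega), Or.inl (by omega)⟩
    · exact ⟨Or.inr h1, Or.inl h2⟩
    · exact ⟨Or.inl h2, Or.inr h1⟩

end Groth.Agent.S16265
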