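import Groth.Statements.S16266
import Groth.Agent.Lib.helper16.FFLin

set_option autoImplicit false
open FunFld

namespace Groth.Agent.S16266

/-- Let `K/k` be a function field of one variable over an algebraically closed field `k` of
characteristic zero, `D` a divisor, `V ⊆ L(D)` a linear system of dimension `r + 1` with `r ≥ 1`,
and `P` a place with `V' = V(-P) = V ∩ L(D - P) ≠ V`, an `r`-dimensional system in `L(D - P)`.
Assume that neither `V` nor `V'` has a special ramification point (a place of weight at least two):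
for every place `R`, `dim V ∩ L(D - rR) ≤ 1`, `V ∩ L(D - (r+2)R) = 0`, `dim V' ∩ L(D - P - (r-1)R) ≤
1` and `V' ∩ L(D - P - (r+1)R) = 0`. Then no place `Q ≠ P` is a ramification point of both `V` and
`V'`: for no such `Q` are both `V ∩ L(D - (r+1)Q)` and `V' ∩ L(D - P - rQ)` nonzero. (The published
statement is for a smooth curve over the complex numbers.) -/
theorem result
    (k K : Type*) [Field k] [IsAlgClosed k] [CharZero k] [Field K] [Algebra k K]
    (hK : FunFld.IsFunctionField k K) (D : FunFld.Divisor k K)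
    (V : Submodule k K) (hVD : V ≤ FunFld.L D) (r : ℕ) (hr : Module.finrank k ↥V = r + 1) (hr1 : 1 ≤ r)
    (P : FunFld.Place k K) (hP : V ⊓ FunFld.L (D - Finsupp.single P 1) ≠ V)
    (hns : ∀ R : FunFld.Place k K,
      Module.finrank k ↥(V ⊓ FunFld.L (D - Finsupp.single R (r : ℤ))) ≤ 1 ∧
        V ⊓ FunFld.L (D - Finsupp.single R ((r : ℤ) + 2)) = ⊥)
    (hns' : ∀ R : FunFld.Place k K,
      Module.finrank k ↥(V ⊓ FunFld.L (D - Finsupp.single P 1 - Finsupp.single R ((r : ℤ) - 1))) ≤ 1 ∧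
        V ⊓ FunFld.L (D - Finsupp.single P 1 - Finsupp.single R ((r : ℤ) + 1)) = ⊥)
    (Q : FunFld.Place k K) (hQP : Q ≠ P) :
    ¬ (V ⊓ FunFld.L (D - Finsupp.single Q ((r : ℤ) + 1)) ≠ ⊥ ∧
       V ⊓ FunFld.L (D - Finsupp.single P 1 - Finsupp.single Q (r : ℤ)) ≠ ⊥) := by
  open Groth.Agent.Lib.helper16.FF in
  rintro ⟨h1, h2⟩
  obtain ⟨s₁, hs₁, hs₁0⟩ := (Submodule.ne_bot_iff _).mp h1
  obtain ⟨s₂, hs₂, hs₂0⟩ := (Submodule.ne_bot_iff _).mp h2
  have hfd := finiteDimensional_inf_L hK V (D - Finsupp.single Q (r : ℤ))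
  have hle1 : D - Finsupp.single Q ((r : ℤ) + 1) ≤ D - Finsupp.single Q (r : ℤ) := by
    apply sub_le_sub_left
    rw [Finsupp.single_le_single]
    omega
  have hle2 : D - Finsupp.single P 1 - Finsupp.single Q (r : ℤ) ≤ D - Finsupp.single Q (r : ℤ) := by
    apply sub_le_sub_right
    exact sub_le_self _ (Finsupp.single_nonneg.mpr zero_le_one)
  have m1 : s₁ ∈ V ⊓ FunFld.L (D - Finsupp.single Q (r : ℤ)) := ⟨hs₁.1, L_mono hle1 hs₁.2⟩
  have m2 : s₂ ∈ V ⊓ FunFld.L (D - Finsupp.single Q (r : ℤ)) := ⟨hs₂.1, L_mono hle2 hs₂.2⟩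
  obtain ⟨v, hv⟩ := finrank_le_one_iff.mp (hns Q).1
  obtain ⟨c₁, hc₁⟩ := hv ⟨s₁, m1⟩
  obtain ⟨c₂, hc₂⟩ := hv ⟨s₂, m2⟩
  have hc₂0 : c₂ ≠ 0 := by
    rintro rfl
    rw [zero_smul] at hc₂
    exact hs₂0 (congrArg Subtype.val hc₂).symm
  have hs12 : s₁ = (c₁ * c₂⁻¹) • s₂ := by
    have e1 : s₁ = c₁ • (v : K) := (congrArg Subtype.val hc₁).symm
    have e2 : s₂ = c₂ • (v : K) := (congrArg Subtype.val hc₂).symm
    rw [e1, e2, smul_smul, mul_assoc, inv_mul_cancel₀ hc₂0, mul_one]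
  have m3 : s₁ ∈ FunFld.L (D - Finsupp.single P 1 - Finsupp.single Q (r : ℤ)) := by
    rw [hs12]
    exact Submodule.smul_mem _ _ hs₂.2
  have m4 : s₁ ∈ FunFld.L (D - Finsupp.single P 1 - Finsupp.single Q ((r : ℤ) + 1)) := by
    have h5 : s₁ ∈ FunFld.L (D - Finsupp.single P 1 - Finsupp.single Q (r : ℤ)) ⊓
        FunFld.L (D - Finsupp.single Q ((r : ℤ) + 1)) := ⟨m3, hs₁.2⟩
    rw [L_inf_L] at h5
    refine L_mono ?_ h5
    intro R
    rw [Finsupp.inf_apply]
    simp only [Finsupp.sub_apply]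
    by_cases hRQ : R = Q
    · subst hRQ
      rw [Finsupp.single_eq_same, Finsupp.single_eq_same, Finsupp.single_eq_of_ne hQP]
      simp
    · rw [Finsupp.single_eq_of_ne hRQ, Finsupp.single_eq_of_ne hRQ]
      simp
  have h6 : s₁ ∈ V ⊓ FunFld.L (D - Finsupp.single P 1 - Finsupp.single Q ((r : ℤ) + 1)) := ⟨hs₁.1, m4⟩
  rw [(hns' Q).2] at h6
  exact hs₁0 ((Submodule.mem_bot k).mp h6)

end Groth.Agent.S16266
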