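import Groth.Statements.S16273
import Mathlib

set_option autoImplicit false
universe w' w v u
open CategoryTheory
open NonAbH1

namespace Groth.Agent.S16273
open CategoryTheory
open NonAbH1

section helpers



variable {C : Type u} [Category.{v} C] {J : GrothendieckTopology C} {G : Sheaf J GrpCat.{w}}

lemma mapP_comp (P : GSheaf G) {X Y Z : C} (f : X ⟶ Y) (g : Y ⟶ Z)
    (p : P.P.obj.obj (Opposite.op Z)) :
    P.P.obj.map (f ≫ g).op p = P.P.obj.map f.op (P.P.obj.map g.op p) := by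
  rw [op_comp, Functor.map_comp]; rfl

lemma mapP_id (P : GSheaf G) {X : C} (p : P.P.obj.obj (Opposite.op X)) :
    P.P.obj.map (𝟙 X).op p = p := by
  rw [op_id, CategoryTheory.Functor.map_id]; rfl

theorem exists_hom (P Q : GSheaf G) (hP : P.IsPseudoTorsor) {I : Type w'} (U : I → C)
    (hU : J.CoversTop U)
    (s : ∀ i, P.P.obj.obj (Opposite.op (U i))) (t : ∀ i, Q.P.obj.obj (Opposite.op (U i)))
    (γ : PresheafOfGroups.OneCocycle G.obj U) (hs : P.IsCocycleOf U s γ)
    (ht : Q.IsCocycleOf U t γ) :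
    ∃ f : P ⟶ Q, ∀ i, f.hom.hom.app (Opposite.op (U i)) (s i) = t i := by
  classical
  have HQ : Presieve.IsSheaf J Q.P.obj := (isSheaf_iff_isSheaf_of_type _ _).1 Q.P.property
  let d : ∀ {T : C} (q r : P.P.obj.obj (Opposite.op T)), G.obj.obj (Opposite.op T) :=
    fun {T} q r => (hP (Opposite.op T) r q).choose
  have hd : ∀ {T : C} (q r : P.P.obj.obj (Opposite.op T)), P.smul (d q r) r = q :=
    fun {T} q r => (hP (Opposite.op T) r q).choose_spec.1
  have hd' : ∀ {T : C} (q r : P.P.obj.obj (Opposite.op T)) (g : G.obj.obj (Opposite.op T)),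
      P.smul g r = q → g = d q r :=
    fun {T} q r g h => (hP (Opposite.op T) r q).choose_spec.2 g h
  let val : ∀ {T : C} (q : P.P.obj.obj (Opposite.op T)) (i : I) (b : T ⟶ U i),
      Q.P.obj.obj (Opposite.op T) :=
    fun {T} q i b => Q.smul (d q (P.P.obj.map b.op (s i))) (Q.P.obj.map b.op (t i))
  have val_indep : ∀ {T : C} (q : P.P.obj.obj (Opposite.op T)) (i j : I) (b : T ⟶ U i)
      (b' : T ⟶ U j), val q i b = val q j b' := by
    intro T q i j b b'
    have h1 : d q (P.P.obj.map b'.op (s j)) = d q (P.P.obj.map b.op (s i)) * γ.ev i j b b' := by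
      symm; apply hd'
      rw [P.mul_smul, hs, hd]
    show Q.smul _ _ = Q.smul _ _
    rw [h1, Q.mul_smul, ht]
  have val_map : ∀ {T T' : C} (φ : T' ⟶ T) (q : P.P.obj.obj (Opposite.op T)) (i : I)
      (b : T ⟶ U i),
      Q.P.obj.map φ.op (val q i b) = val (P.P.obj.map φ.op q) i (φ ≫ b) := by
    intro T T' φ q i b
    show Q.P.obj.map φ.op (Q.smul _ _) = Q.smul _ _
    rw [Q.map_smul, ← mapP_comp Q]
    congr 1
    apply hd'
    rw [mapP_comp P, ← P.map_smul, hd]
  have val_smul : ∀ {T : C} (g : G.obj.obj (Opposite.op T)) (q : P.P.obj.obj (Opposite.op T))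
      (i : I) (b : T ⟶ U i), val (P.smul g q) i b = Q.smul g (val q i b) := by
    intro T g q i b
    show Q.smul _ _ = Q.smul g (Q.smul _ _)
    rw [← Q.mul_smul]
    congr 1
    symm; apply hd'
    rw [P.mul_smul, hd]
  let x : ∀ (X : C) (p : P.P.obj.obj (Opposite.op X)),
      Presieve.FamilyOfElements Q.P.obj (Sieve.ofObjects U X).arrows :=
    fun X p T a ha => val (P.P.obj.map a.op p) ha.choose ha.choose_spec.some
  have x_apply : ∀ (X : C) (p : P.P.obj.obj (Opposite.op X)) {T : C} (a : T ⟶ X)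
      (ha : (Sieve.ofObjects U X).arrows a) (i : I) (b : T ⟶ U i),
      x X p a ha = val (P.P.obj.map a.op p) i b := fun X p T a ha i b => val_indep _ _ _ _ _
  have x_compat : ∀ X p, (x X p).Compatible := by
    intro X p Y₁ Y₂ Z g₁ g₂ f₁ f₂ h₁ h₂ hcomm
    obtain ⟨i₁, ⟨b₁⟩⟩ := id h₁
    obtain ⟨i₂, ⟨b₂⟩⟩ := id h₂
    rw [x_apply X p f₁ h₁ i₁ b₁, x_apply X p f₂ h₂ i₂ b₂, val_map, val_map, ← mapP_comp P,
      ← mapP_comp P, hcomm]
    exact val_indep _ _ _ _ _
  let F : ∀ (X : C), P.P.obj.obj (Opposite.op X) → Q.P.obj.obj (Opposite.op X) :=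
    fun X p => (HQ _ (hU X)).amalgamate (x X p) (x_compat X p)
  have F_spec : ∀ (X : C) (p : P.P.obj.obj (Opposite.op X)) {T : C} (a : T ⟶ X) (i : I)
      (b : T ⟶ U i), Q.P.obj.map a.op (F X p) = val (P.P.obj.map a.op p) i b := by
    intro X p T a i b
    have h := Presieve.IsSheafFor.valid_glue (HQ _ (hU X)) (x_compat X p) a ⟨i, ⟨b⟩⟩
    exact h.trans (x_apply X p a _ i b)
  have F_ext : ∀ (X : C) (y z : Q.P.obj.obj (Opposite.op X)),
      (∀ {T : C} (a : T ⟶ X) (i : I) (b : T ⟶ U i), Q.P.obj.map a.op y = Q.P.obj.map a.op z) →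
      y = z := by
    intro X y z h
    apply (HQ.isSeparated _ (hU X)).ext
    rintro T a ⟨i, ⟨b⟩⟩
    exact h a i b
  have F_nat : ∀ {X X' : C} (φ : X' ⟶ X) (p : P.P.obj.obj (Opposite.op X)),
      Q.P.obj.map φ.op (F X p) = F X' (P.P.obj.map φ.op p) := by
    intro X X' φ p
    apply F_ext
    intro T a i b
    rw [← mapP_comp Q, F_spec X p (a ≫ φ) i b, F_spec X' _ a i b, mapP_comp P]
  have F_smul : ∀ (X : C) (g : G.obj.obj (Opposite.op X)) (p : P.P.obj.obj (Opposite.op X)),
      F X (P.smul g p) = Q.smul g (F X p) := by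
    intro X g p
    apply F_ext
    intro T a i b
    rw [F_spec X _ a i b, P.map_smul, val_smul, Q.map_smul, F_spec X p a i b]
  have F_s : ∀ i, F (U i) (s i) = t i := by
    intro i
    have h := F_spec (U i) (s i) (𝟙 _) i (𝟙 _)
    rw [mapP_id Q] at h
    rw [h]
    show Q.smul (d _ _) _ = _
    have h1 : d (P.P.obj.map (𝟙 (U i)).op (s i)) (P.P.obj.map (𝟙 (U i)).op (s i)) = 1 :=
      (hd' _ _ 1 (P.one_smul _)).symm
    rw [h1, Q.one_smul, mapP_id Q]
  refine ⟨⟨ObjectProperty.homMk { app := fun X => TypeCat.ofHom (F X.unop), naturality := ?_ }, ?_⟩, ?_⟩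
  · intro X Y f
    ext p
    exact (F_nat f.unop p).symm
  · intro X g p
    exact F_smul X.unop g p
  · intro i
    exact F_s i

theorem eq_id (P : GSheaf G) (hP : P.IsPseudoTorsor) {I : Type w'} (U : I → C)
    (hU : J.CoversTop U) (s : ∀ i, P.P.obj.obj (Opposite.op (U i))) (h : P ⟶ P)
    (hh : ∀ i, h.hom.hom.app (Opposite.op (U i)) (s i) = s i) : h = 𝟙 P := by
  have HP : Presieve.IsSheaf J P.P.obj := (isSheaf_iff_isSheaf_of_type _ _).1 P.P.property
  apply GSheaf.hom_ext
  apply ObjectProperty.hom_ext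
  ext X p
  obtain ⟨X⟩ := X
  apply (HP.isSeparated _ (hU X)).ext
  rintro T a ⟨i, ⟨b⟩⟩
  obtain ⟨g, hg, -⟩ := hP (Opposite.op T) (P.P.obj.map b.op (s i)) (P.P.obj.map a.op p)
  have e1 : P.P.obj.map a.op (h.hom.hom.app (Opposite.op X) p)
      = h.hom.hom.app (Opposite.op T) (P.P.obj.map a.op p) :=
    (NatTrans.naturality_apply h.hom.hom a.op p).symm
  have e2 : h.hom.hom.app (Opposite.op T) (P.P.obj.map b.op (s i))
      = P.P.obj.map b.op (h.hom.hom.app (Opposite.op (U i)) (s i)) :=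
    NatTrans.naturality_apply h.hom.hom b.op (s i)
  show P.P.obj.map a.op (h.hom.hom.app (Opposite.op X) p) = P.P.obj.map a.op p
  rw [e1, ← hg, h.map_smul, e2, hh]



end helpers

/-- Let C be a category with a Grothendieck topology J, G a sheaf of groups and U a family of objects
which covers every object of the site. Two G-torsors admitting a common Cech class in H^1(U, G)
(each cut out by some family of sections over the U_i) are equivariantly isomorphic. (The published
statement is for an etale covering of a scheme; this row is stated for any family of objects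
covering the site.) -/
theorem result {C : Type u} [Category.{v} C]
    {J : GrothendieckTopology C} {G : Sheaf J GrpCat.{w}} {I : Type w'} (U : I → C) (hU : J.CoversTop U)
    (P Q : NonAbH1.Torsor G)
    (c : PresheafOfGroups.H1 G.obj U) (hPc : P.HasCechClass U c) (hQc : Q.HasCechClass U c) :
    Nonempty (P.toGSheaf ≅ Q.toGSheaf) := by
  obtain ⟨s, γ, hs, rfl⟩ := hPc
  obtain ⟨t, γ', ht, hc⟩ := hQc
  have hcoh : PresheafOfGroups.OneCocycle.IsCohomologous γ γ' := by
    have := Quot.eqvGen_exact hc.symm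
    exact (PresheafOfGroups.OneCocycle.equivalence_isCohomologous G.obj U).eqvGen_iff.1 this
  obtain ⟨α, hα⟩ := hcoh
  let t' : ∀ i, Q.P.obj.obj (Opposite.op (U i)) := fun i => Q.smul (α i)⁻¹ (t i)
  have ht' : Q.IsCocycleOf U t' γ := by
    intro i j T a b
    show Q.smul (γ.ev i j a b) (Q.P.obj.map b.op (Q.smul (α j)⁻¹ (t j)))
      = Q.P.obj.map a.op (Q.smul (α i)⁻¹ (t i))
    rw [Q.map_smul, Q.map_smul, ← Q.mul_smul, ← ht i j a b, ← Q.mul_smul]
    congr 1
    have := hα i j a b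
    rw [map_inv, map_inv, eq_inv_mul_iff_mul_eq, ← mul_assoc, this, mul_assoc, mul_inv_cancel,
      mul_one]
  obtain ⟨f, hf⟩ := exists_hom P.toGSheaf Q.toGSheaf P.isTorsor.1 U hU s t' γ hs ht'
  obtain ⟨f', hf'⟩ := exists_hom Q.toGSheaf P.toGSheaf Q.isTorsor.1 U hU t' s γ ht' hs
  refine ⟨⟨f, f', ?_, ?_⟩⟩
  · apply eq_id P.toGSheaf P.isTorsor.1 U hU s
    intro i
    show f'.hom.hom.app _ (f.hom.hom.app _ (s i)) = s i
    rw [hf, hf']
  · apply eq_id Q.toGSheaf Q.isTorsor.1 U hU t'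
    intro i
    show f.hom.hom.app _ (f'.hom.hom.app _ (t' i)) = t' i
    rw [hf', hf]

end Groth.Agent.S16273
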