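import Groth.Statements.S16274
import Mathlib

set_option autoImplicit false
universe w' w v u
open CategoryTheory
open NonAbH1

namespace Groth.Agent.S16274
open CategoryTheory
open NonAbH1

section helpers



variable {C : Type u} [Category.{v} C] {J : GrothendieckTopology C} (G : Sheaf J GrpCat.{w})

lemma mapG_comp {X Y Z : C} (f : X ⟶ Y) (g : Y ⟶ Z) (p : G.obj.obj (Opposite.op Z)) :
    G.obj.map (f ≫ g).op p = G.obj.map f.op (G.obj.map g.op p) := by
  rw [op_comp, Functor.map_comp]; rfl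

lemma mapG_id {X : C} (p : G.obj.obj (Opposite.op X)) :
    G.obj.map (𝟙 X).op p = p := by
  rw [op_id, CategoryTheory.Functor.map_id]; rfl

lemma glueG (T : C) (R : Sieve T) (hR : R ∈ J T)
    (y : ∀ ⦃T' : C⦄ (c : T' ⟶ T), R c → G.obj.obj (Opposite.op T'))
    (hy : ∀ ⦃T' T'' : C⦄ (c : T' ⟶ T) (hc : R c) (d : T'' ⟶ T'),
      G.obj.map d.op (y c hc) = y (d ≫ c) (R.downward_closed hc d)) :
    ∃! g : G.obj.obj (Opposite.op T), ∀ ⦃T' : C⦄ (c : T' ⟶ T) (hc : R c),
      G.obj.map c.op g = y c hc := by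
  let E : GrpCat.{w} := GrpCat.of (FreeGroup PUnit.{w+1})
  let S : J.Cover T := ⟨R, hR⟩
  let xx : ∀ I : S.Arrow, E ⟶ G.obj.obj (Opposite.op I.Y) :=
    fun I => GrpCat.ofHom (FreeGroup.lift (fun _ => y I.f I.hf))
  have hy' : ∀ ⦃T' : C⦄ (c c' : T' ⟶ T) (hc : R c) (hc' : R c'), c = c' → y c hc = y c' hc' := by
    intro T' c c' hc hc' h; subst h; rfl
  have hxx : ∀ ⦃I₁ I₂ : S.Arrow⦄ (r : I₁.Relation I₂),
      xx I₁ ≫ G.obj.map r.g₁.op = xx I₂ ≫ G.obj.map r.g₂.op := by
    intro I₁ I₂ r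
    ext u
    show G.obj.map r.g₁.op (FreeGroup.lift (fun _ => y I₁.f I₁.hf) (FreeGroup.of u))
      = G.obj.map r.g₂.op (FreeGroup.lift (fun _ => y I₂.f I₂.hf) (FreeGroup.of u))
    rw [FreeGroup.lift_apply_of, FreeGroup.lift_apply_of, hy, hy]
    exact hy' _ _ _ _ r.w
  let h := G.property.amalgamate S xx hxx
  have hh : ∀ I : S.Arrow, h ≫ G.obj.map I.f.op = xx I :=
    fun I => G.property.amalgamate_map S xx hxx I
  refine ⟨h (FreeGroup.of PUnit.unit), ?_, ?_⟩
  · intro T' c hc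
    have := congrArg (fun φ => φ (FreeGroup.of PUnit.unit)) (hh ⟨T', c, hc⟩)
    simp only at this
    refine Eq.trans ?_ (this.trans ?_)
    · rfl
    · show FreeGroup.lift (fun _ => y c hc) (FreeGroup.of PUnit.unit) = _
      rw [FreeGroup.lift_apply_of]
  · intro g hg
    let h' : E ⟶ G.obj.obj (Opposite.op T) := GrpCat.ofHom (FreeGroup.lift (fun _ => g))
    have : h' = h := by
      apply G.property.hom_ext S
      intro I
      rw [hh]
      ext u
      show G.obj.map I.f.op (FreeGroup.lift (fun _ => g) (FreeGroup.of u))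
        = FreeGroup.lift (fun _ => y I.f I.hf) (FreeGroup.of u)
      rw [FreeGroup.lift_apply_of, FreeGroup.lift_apply_of]
      exact hg I.f I.hf
    rw [← this]
    show g = FreeGroup.lift (fun _ => g) (FreeGroup.of PUnit.unit)
    rw [FreeGroup.lift_apply_of]

variable {G} {I : Type w'} {U : I → C} (γ : PresheafOfGroups.OneCocycle G.obj U)

/-- sections of the twisted torsor over `X` -/
@[ext]
structure Sec (X : C) where
  val : ∀ ⦃T : C⦄ (_ : T ⟶ X) (i : I) (_ : T ⟶ U i), G.obj.obj (Opposite.op T)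
  precomp : ∀ ⦃T T' : C⦄ (φ : T' ⟶ T) (a : T ⟶ X) (i : I) (b : T ⟶ U i),
    G.obj.map φ.op (val a i b) = val (φ ≫ a) i (φ ≫ b)
  chart : ∀ ⦃T : C⦄ (a : T ⟶ X) (i j : I) (b : T ⟶ U i) (b' : T ⟶ U j),
    val a j b' = val a i b * γ.ev i j b b'

variable {γ}

def Sec.map {X Y : C} (f : Y ⟶ X) (x : Sec γ X) : Sec γ Y where
  val T a i b := x.val (a ≫ f) i b
  precomp T T' φ a i b := by
    rw [x.precomp, Category.assoc]
  chart T a i j b b' := x.chart _ _ _ _ _

def Sec.smul {X : C} (g : G.obj.obj (Opposite.op X)) (x : Sec γ X) : Sec γ X where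
  val T a i b := G.obj.map a.op g * x.val a i b
  precomp T T' φ a i b := by
    rw [map_mul, x.precomp, mapG_comp]
  chart T a i j b b' := by
    rw [x.chart a i j b b', mul_assoc]

lemma Sec.val_congr {X : C} (x : Sec γ X) {T : C} {a a' : T ⟶ X} (i : I) {b b' : T ⟶ U i}
    (ha : a = a') (hb : b = b') : x.val a i b = x.val a' i b' := by
  subst ha; subst hb; rfl

lemma Sec.map_id {X : C} (x : Sec γ X) : Sec.map (𝟙 X) x = x := by
  ext T a i b
  exact x.val_congr i (Category.comp_id a) rfl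

lemma Sec.map_comp {X Y Z : C} (f : Z ⟶ Y) (g : Y ⟶ X) (x : Sec γ X) :
    Sec.map (f ≫ g) x = Sec.map f (Sec.map g x) := by
  ext T a i b
  exact x.val_congr i (Category.assoc a f g).symm rfl

lemma Sec.map_smul {X Y : C} (f : Y ⟶ X) (g : G.obj.obj (Opposite.op X)) (x : Sec γ X) :
    Sec.map f (Sec.smul g x) = Sec.smul (G.obj.map f.op g) (Sec.map f x) := by
  ext T a i b
  show G.obj.map (a ≫ f).op g * _ = G.obj.map a.op (G.obj.map f.op g) * _
  rw [mapG_comp]
  rfl

lemma Sec.one_smul {X : C} (x : Sec γ X) : Sec.smul 1 x = x := by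
  ext T a i b
  show G.obj.map a.op 1 * _ = _
  rw [map_one, one_mul]

lemma Sec.mul_smul {X : C} (g h : G.obj.obj (Opposite.op X)) (x : Sec γ X) :
    Sec.smul (g * h) x = Sec.smul g (Sec.smul h x) := by
  ext T a i b
  show G.obj.map a.op (g * h) * _ = G.obj.map a.op g * (G.obj.map a.op h * _)
  rw [map_mul, mul_assoc]

include γ in
/-- simply transitive action -/
lemma Sec.pseudo (hU : J.CoversTop U) {X : C} (x y : Sec γ X) :
    ∃! g : G.obj.obj (Opposite.op X), Sec.smul g x = y := by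
  classical
  have indep : ∀ ⦃T : C⦄ (c : T ⟶ X) (i j : I) (b : T ⟶ U i) (b' : T ⟶ U j),
      y.val c j b' * (x.val c j b')⁻¹ = y.val c i b * (x.val c i b)⁻¹ := by
    intro T c i j b b'
    rw [x.chart c i j b b', y.chart c i j b b', mul_inv_rev, mul_assoc, mul_inv_cancel_left]
  let yy : ∀ ⦃T : C⦄ (c : T ⟶ X), (Sieve.ofObjects U X) c → G.obj.obj (Opposite.op T) :=
    fun T c hc => y.val c hc.choose hc.choose_spec.some * (x.val c hc.choose hc.choose_spec.some)⁻¹
  have yy_eq : ∀ ⦃T : C⦄ (c : T ⟶ X) (hc : (Sieve.ofObjects U X) c) (i : I) (b : T ⟶ U i),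
      yy c hc = y.val c i b * (x.val c i b)⁻¹ := fun T c hc i b => indep _ _ _ _ _
  obtain ⟨g, hg, hguniq⟩ := glueG G X (Sieve.ofObjects U X) (hU X) yy (by
    intro T' T'' c hc d
    obtain ⟨i, ⟨b⟩⟩ := id hc
    rw [yy_eq c hc i b, yy_eq (d ≫ c) _ i (d ≫ b), map_mul, map_inv, x.precomp, y.precomp])
  refine ⟨g, ?_, ?_⟩
  · ext T a i b
    show G.obj.map a.op g * x.val a i b = y.val a i b
    have ha : (Sieve.ofObjects U X).arrows a := ⟨i, ⟨b⟩⟩
    rw [hg a ha, yy_eq a ha i b, inv_mul_cancel_right]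
  · intro g' hg'
    apply hguniq
    intro T c hc
    obtain ⟨i, ⟨b⟩⟩ := id hc
    rw [yy_eq c hc i b, ← hg']
    show _ = G.obj.map c.op g' * x.val c i b * _
    rw [mul_inv_cancel_right]

include γ in
lemma Sec.glue {X : C} (R : Sieve X) (hR : R ∈ J X)
    (z : ∀ ⦃Y : C⦄ (f : Y ⟶ X), R f → Sec γ Y)
    (hz : ∀ ⦃Y Y' : C⦄ (f : Y ⟶ X) (hf : R f) (d : Y' ⟶ Y),
      Sec.map d (z f hf) = z (d ≫ f) (R.downward_closed hf d)) :
    ∃! s : Sec γ X, ∀ ⦃Y : C⦄ (f : Y ⟶ X) (hf : R f), Sec.map f s = z f hf := by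
  classical
  have hz' : ∀ ⦃Y : C⦄ (f f' : Y ⟶ X) (hf : R f) (hf' : R f'), f = f' → z f hf = z f' hf' := by
    intro Y f f' hf hf' h; subst h; rfl
  -- the local datum
  have key : ∀ ⦃T : C⦄ (a : T ⟶ X) (i : I) (b : T ⟶ U i),
      ∃! g : G.obj.obj (Opposite.op T), ∀ ⦃T' : C⦄ (c : T' ⟶ T) (hc : (R.pullback a) c),
        G.obj.map c.op g = (z (c ≫ a) hc).val (𝟙 T') i (c ≫ b) := by
    intro T a i b
    apply glueG G T (R.pullback a) (J.pullback_stable a hR)
      (fun T' c hc => (z (c ≫ a) hc).val (𝟙 T') i (c ≫ b))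
    intro T' T'' c hc d
    have hc' : R (c ≫ a) := hc
    rw [(z (c ≫ a) hc).precomp]
    have h1 : z ((d ≫ c) ≫ a) ((R.pullback a).downward_closed hc d)
        = Sec.map d (z (c ≫ a) hc') := by
      rw [hz (c ≫ a) hc' d]
      exact hz' _ _ _ _ (Category.assoc _ _ _)
    rw [h1]
    show _ = (z (c ≫ a) hc').val (𝟙 T'' ≫ d) i ((d ≫ c) ≫ b)
    exact Sec.val_congr _ i (by simp) (Category.assoc _ _ _).symm
  choose V hV hVuniq using key
  have hVuniq' : ∀ ⦃T : C⦄ (a : T ⟶ X) (i : I) (b : T ⟶ U i) (g : G.obj.obj (Opposite.op T)),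
      (∀ ⦃T' : C⦄ (c : T' ⟶ T) (hc : (R.pullback a) c),
        G.obj.map c.op g = (z (c ≫ a) hc).val (𝟙 T') i (c ≫ b)) → g = V a i b :=
    fun T a i b g h => hVuniq a i b g h
  let s : Sec γ X :=
    { val := V
      precomp := by
        intro T T' φ a i b
        apply hVuniq'
        intro T'' c hc
        have hc' : R ((c ≫ φ) ≫ a) := by
          have : R (c ≫ φ ≫ a) := hc
          rwa [← Category.assoc] at this
        rw [← mapG_comp, hV a i b (c ≫ φ) hc']
        rw [hz' (c ≫ φ ≫ a) ((c ≫ φ) ≫ a) hc hc' (Category.assoc _ _ _).symm]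
        exact Sec.val_congr _ i rfl (Category.assoc _ _ _)
      chart := by
        intro T a i j b b'
        symm
        apply hVuniq'
        intro T' c hc
        rw [map_mul, hV a i b c hc, γ.ev_precomp, (z (c ≫ a) hc).chart (𝟙 T') i j (c ≫ b) (c ≫ b')] }
  refine ⟨s, ?_, ?_⟩
  · intro Y f hf
    ext T a i b
    show V (a ≫ f) i b = (z f hf).val a i b
    symm
    apply hVuniq'
    intro T' c hc
    have hc' : R ((c ≫ a) ≫ f) := by
      have : R (c ≫ a ≫ f) := hc
      rwa [← Category.assoc] at this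
    rw [(z f hf).precomp]
    rw [hz' (c ≫ a ≫ f) ((c ≫ a) ≫ f) hc hc' (Category.assoc _ _ _).symm, ← hz f hf (c ≫ a)]
    show _ = (z f hf).val (𝟙 T' ≫ c ≫ a) i (c ≫ b)
    exact Sec.val_congr _ i (by simp) rfl
  · intro s' hs'
    ext T a i b
    show s'.val a i b = V a i b
    apply hVuniq'
    intro T' c hc
    have hc' : R (c ≫ a) := hc
    rw [s'.precomp, ← hs' (c ≫ a) hc']
    show _ = s'.val (𝟙 T' ≫ c ≫ a) i (c ≫ b)
    exact Sec.val_congr _ i (by simp) rfl

section small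
variable [hUf : Fact (J.CoversTop U)]

instance Sec.small (X : C) : Small.{w} (Sec γ X) := by
  classical
  by_cases h : Nonempty (Sec γ X)
  · obtain ⟨x₀⟩ := h
    apply small_of_injective (β := G.obj.obj (Opposite.op X))
      (f := fun x : Sec γ X => (Sec.pseudo hUf.out x₀ x).choose)
    intro x y hxy
    have hx := (Sec.pseudo hUf.out x₀ x).choose_spec.1
    have hy := (Sec.pseudo hUf.out x₀ y).choose_spec.1
    have hxy' : (Sec.pseudo hUf.out x₀ x).choose = (Sec.pseudo hUf.out x₀ y).choose := hxy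
    rw [← hx, ← hy, hxy']
  · have : IsEmpty (Sec γ X) := not_nonempty_iff.1 h
    infer_instance

variable (γ) in
abbrev PX (X : C) : Type w := Shrink.{w} (Sec γ X)

noncomputable def toP {X : C} (x : Sec γ X) : PX γ X := equivShrink _ x
noncomputable def ofP {X : C} (p : PX γ X) : Sec γ X := (equivShrink _).symm p

omit hUf in
lemma ofP_toP [Fact (J.CoversTop U)] {X : C} (x : Sec γ X) : ofP (toP x) = x :=
  Equiv.symm_apply_apply _ _
omit hUf in
lemma toP_ofP [Fact (J.CoversTop U)] {X : C} (p : PX γ X) : toP (ofP p) = p :=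
  Equiv.apply_symm_apply _ _

variable (γ) in
noncomputable def Ppre : Cᵒᵖ ⥤ Type w where
  obj X := PX γ X.unop
  map f := TypeCat.ofHom (fun p => toP (Sec.map f.unop (ofP p)))
  map_id X := by
    refine ConcreteCategory.hom_ext _ _ (fun p => ?_)
    show toP (Sec.map (𝟙 X.unop) (ofP p)) = p
    rw [Sec.map_id, toP_ofP]
  map_comp f g := by
    refine ConcreteCategory.hom_ext _ _ (fun p => ?_)
    show toP (Sec.map (g.unop ≫ f.unop) (ofP p))
      = toP (Sec.map g.unop (ofP (toP (Sec.map f.unop (ofP p)))))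
    rw [ofP_toP, Sec.map_comp]

variable (γ) in
lemma Ppre_isSheaf : Presheaf.IsSheaf J (Ppre γ) := by
  rw [isSheaf_iff_isSheaf_of_type]
  intro X R hR x hx
  have hx' := (Presieve.compatible_iff_sieveCompatible x).1 hx
  obtain ⟨s, hs, hsuniq⟩ := Sec.glue (γ := γ) R hR (fun Y f hf => ofP (x f hf)) (by
    intro Y Y' f hf d
    have h1 : x (d ≫ f) (R.downward_closed hf d) = toP (Sec.map d (ofP (x f hf))) := hx' f d hf
    show Sec.map d (ofP (x f hf)) = ofP (x (d ≫ f) (R.downward_closed hf d))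
    rw [h1, ofP_toP])
  refine ⟨toP s, ?_, ?_⟩
  · intro Y f hf
    show toP (Sec.map f (ofP (toP s))) = x f hf
    rw [ofP_toP, hs f hf]
    exact toP_ofP _
  · intro t ht
    have h2 : ofP t = s := hsuniq _ (fun Y f hf => by
      have h3 : toP (Sec.map f (ofP t)) = x f hf := ht f hf
      show Sec.map f (ofP t) = ofP (x f hf)
      rw [← h3, ofP_toP])
    rw [← h2]
    exact (toP_ofP _).symm

variable (γ) in
noncomputable def PG : GSheaf G where
  P := ⟨Ppre γ, Ppre_isSheaf γ⟩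
  smul g p := toP (Sec.smul g (ofP p))
  one_smul p := by
    rw [Sec.one_smul]
    exact toP_ofP _
  mul_smul g h p := by rw [Sec.mul_smul, ofP_toP]
  map_smul f g p := by
    show toP (Sec.map f.unop (ofP (toP (Sec.smul g (ofP p)))))
      = toP (Sec.smul (G.obj.map f g) (ofP (toP (Sec.map f.unop (ofP p)))))
    rw [ofP_toP, ofP_toP, Sec.map_smul]
    rfl

variable (γ) in
/-- the tautological sections -/
def s0 (i : I) : Sec γ (U i) where
  val T a j b := γ.ev i j a b
  precomp T T' φ a j b := γ.ev_precomp i j φ a b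
  chart T a j k b b' := (γ.ev_trans i j k a b b').symm

end small



end helpers

/-- Let C be a category with a Grothendieck topology J, G a sheaf of groups and U a family of objects
which covers every object of the site. Every class in the Cech cohomology set H^1(U, G) is the Cech
class of some G-torsor that has a section over every U_i. (The published statement is for an etale
covering of a scheme; this row is stated for any family of objects covering the site.) -/
theorem result {C : Type u} [Category.{v} C]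
    {J : GrothendieckTopology C} (G : Sheaf J GrpCat.{w}) {I : Type w'} (U : I → C) (hU : J.CoversTop U)
    (c : PresheafOfGroups.H1 G.obj U) :
    ∃ P : NonAbH1.Torsor G, P.TrivialisedBy U ∧ P.HasCechClass U c := by
  haveI : Fact (J.CoversTop U) := ⟨hU⟩
  obtain ⟨γ, rfl⟩ := Quot.exists_rep c
  have hpt : (PG γ).IsPseudoTorsor := by
    intro X p q
    obtain ⟨g, hg, hguniq⟩ := Sec.pseudo hU (ofP p) (ofP q)
    refine ⟨g, ?_, ?_⟩
    · show toP (Sec.smul g (ofP p)) = q
      rw [hg]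
      exact toP_ofP _
    · intro g' hg'
      apply hguniq
      have : toP (Sec.smul g' (ofP p)) = q := hg'
      rw [← this, ofP_toP]
  have hln : (PG γ).LocallyNonempty := by
    intro X
    refine ⟨Sieve.ofObjects U X, hU X, ?_⟩
    rintro V f ⟨i, ⟨b⟩⟩
    exact ⟨toP (Sec.map b (s0 γ i))⟩
  refine ⟨⟨PG γ, hpt, hln⟩, fun i => ⟨toP (s0 γ i)⟩, fun i => toP (s0 γ i), γ, ?_, rfl⟩
  intro i j T a b
  show toP (Sec.smul (γ.ev i j a b) (ofP (toP (Sec.map b (ofP (toP (s0 γ j)))))))
    = toP (Sec.map a (ofP (toP (s0 γ i))))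
  rw [ofP_toP, ofP_toP, ofP_toP]
  congr 1
  ext T' a' k b'
  show G.obj.map a'.op (γ.ev i j a b) * γ.ev j k (a' ≫ b) b' = γ.ev i k (a' ≫ a) b'
  rw [γ.ev_precomp, γ.ev_trans]

end Groth.Agent.S16274
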