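import Groth.Statements.S16312
import Mathlib

set_option autoImplicit false
universe u
open W4c3irrattreebun

namespace Groth.Agent.S16312

/-- Let N be a closed cone in real n-space, f a function continuous on N, positive at the nonzero points
of N and homogeneous of degree one under scaling by nonnegative reals, and Λ a discrete additive
subgroup. Then for every real c the set of points H of Λ lying in N with f(H) ≤ c is finite. (The
published statement takes Λ to be a lattice; this row allows any discrete additive subgroup.) -/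
theorem result (n : ℕ)
    (N : Set (EuclideanSpace ℝ (Fin n))) (hN : IsClosed N)
    (hcone : ∀ x ∈ N, ∀ r : ℝ, 0 ≤ r → r • x ∈ N)
    (f : EuclideanSpace ℝ (Fin n) → ℝ) (hf : ContinuousOn f N)
    (hpos : ∀ x ∈ N, x ≠ 0 → 0 < f x)
    (hhom : ∀ x ∈ N, ∀ r : ℝ, 0 ≤ r → f (r • x) = r * f x)
    (Λ : Submodule ℤ (EuclideanSpace ℝ (Fin n))) [DiscreteTopology Λ] (c : ℝ) :
    ({x : EuclideanSpace ℝ (Fin n) | x ∈ N ∧ f x ≤ c} ∩ (Λ : Set (EuclideanSpace ℝ (Fin n)))).Finite := by
  classical
  -- Λ is closed and discrete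
  have hΛd : IsDiscrete (Λ : Set (EuclideanSpace ℝ (Fin n))) := DiscreteTopology.isDiscrete
  have hΛc : IsClosed (Λ : Set (EuclideanSpace ℝ (Fin n))) := by
    have : DiscreteTopology Λ.toAddSubgroup := inferInstanceAs <| DiscreteTopology Λ
    rw [← Submodule.coe_toAddSubgroup]
    exact AddSubgroup.isClosed_of_discrete
  -- the sublevel set is bounded
  have hbdd : Bornology.IsBounded {x : EuclideanSpace ℝ (Fin n) | x ∈ N ∧ f x ≤ c} := by
    set K : Set (EuclideanSpace ℝ (Fin n)) := N ∩ Metric.sphere (0 : EuclideanSpace ℝ (Fin n)) 1 with hK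
    have hKc : IsCompact K := (isCompact_sphere (0 : EuclideanSpace ℝ (Fin n)) 1).inter_left hN
    rcases K.eq_empty_or_nonempty with hKe | hKne
    · -- N ⊆ {0}
      have hN0 : ∀ x ∈ N, x = 0 := by
        intro x hx
        by_contra hx0
        have hnorm : 0 < ‖x‖ := norm_pos_iff.mpr hx0
        have : (‖x‖⁻¹) • x ∈ K := by
          refine ⟨hcone x hx _ (inv_nonneg.mpr hnorm.le), ?_⟩
          rw [mem_sphere_zero_iff_norm, norm_smul, norm_inv, norm_norm, inv_mul_cancel₀ hnorm.ne']
        rw [hKe] at this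
        exact this
      refine (Metric.isBounded_closedBall (x := (0 : EuclideanSpace ℝ (Fin n))) (r := 0)).subset ?_
      rintro x ⟨hx, -⟩
      rw [hN0 x hx]; simp
    · obtain ⟨x₀, hx₀K, hx₀min⟩ := hKc.exists_isMinOn hKne (hf.mono Set.inter_subset_left)
      have hx₀ne : x₀ ≠ 0 := by
        intro h
        have := hx₀K.2
        rw [h, mem_sphere_zero_iff_norm, norm_zero] at this
        exact zero_ne_one this
      have hm : 0 < f x₀ := hpos x₀ hx₀K.1 hx₀ne
      refine (Metric.isBounded_closedBall (x := (0 : EuclideanSpace ℝ (Fin n))) (r := max (c / f x₀) 0)).subset ?_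
      rintro x ⟨hx, hfx⟩
      rw [mem_closedBall_zero_iff]
      by_cases hx0 : x = 0
      · rw [hx0, norm_zero]; exact le_max_right _ _
      · have hnorm : 0 < ‖x‖ := norm_pos_iff.mpr hx0
        have hyK : (‖x‖⁻¹) • x ∈ K := by
          refine ⟨hcone x hx _ (inv_nonneg.mpr hnorm.le), ?_⟩
          rw [mem_sphere_zero_iff_norm, norm_smul, norm_inv, norm_norm, inv_mul_cancel₀ hnorm.ne']
        have h1 : f x₀ ≤ f ((‖x‖⁻¹) • x) := hx₀min hyK
        rw [hhom x hx _ (inv_nonneg.mpr hnorm.le)] at h1
        have h2 : f x₀ * ‖x‖ ≤ f x := by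
          have := mul_le_mul_of_nonneg_right h1 hnorm.le
          rwa [mul_assoc, mul_comm (f x), ← mul_assoc, inv_mul_cancel₀ hnorm.ne', one_mul] at this
        refine le_trans ?_ (le_max_left _ _)
        rw [le_div_iff₀ hm]
        linarith
  exact Metric.finite_isBounded_inter_isClosed hΛd hbdd hΛc

end Groth.Agent.S16312
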