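import Groth.Statements.S16323
import Mathlib
import Groth.Agent.Lib.helper24.GrTorPoly
import Groth.Agent.S15436

set_option autoImplicit false
universe u
open GrSyz

namespace Groth.Agent.S16323

open CategoryTheory CategoryTheory.Limits Groth.Agent.H21.TorLib Groth.Agent.Lib.helper24.GrTor in

/-- Let k be an algebraically closed field of characteristic zero, S = k[x_0, …, x_n] graded by degree,
𝔪 = (x_0, …, x_n), M a finitely generated ℤ-graded S-module and F a minimal graded free resolution
of M (finite-rank free modules with homogeneous bases, every matrix entry of every differential in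
𝔪) of length exactly ℓ: F_ℓ ≠ 0 and F_i = 0 for i > ℓ, so that ℓ is the projective dimension of M.
Then ℓ + depth(𝔪, M) = n + 1, where depth(𝔪, M) is the 𝔪-depth of M (supremum in ℕ∞ of the lengths
of M-regular sequences with terms in 𝔪). (The published statement is pd M = depth(𝔪, S) − depth(𝔪,
M) for a graded ring S with maximal ideal 𝔪 and a finitely generated module of finite projective
dimension; stated here, as the text then specialises it, for the polynomial ring, where depth(𝔪, S)
= n + 1 and the projective dimension is the length of a minimal graded free resolution.) -/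
theorem result (k : Type u) [Field k] [IsAlgClosed k] [CharZero k] (n : ℕ)
    (M : Type u) [AddCommGroup M] [Module k M] [Module (MvPolynomial (Fin (n + 1)) k) M]
    [IsScalarTower k (MvPolynomial (Fin (n + 1)) k) M] [Module.Finite (MvPolynomial (Fin (n + 1)) k) M]
    (ℳ : ℤ → Submodule k M) [DirectSum.Decomposition ℳ] [SetLike.GradedSMul (GrSyz.stdGr k (Fin (n + 1))) ℳ]
    (F : GrSyz.FreeRes (GrSyz.stdGr k (Fin (n + 1))) ℳ) (hF : F.IsMinimal (GrSyz.irrel (GrSyz.stdGr k (Fin (n + 1)))).toIdeal)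
    (ℓ : ℕ) (hℓ : F.HasLengthLE ℓ) (hℓ' : F.rk ℓ ≠ 0) :
    (ℓ : ℕ∞) + LocCoh.idealDepth (GrSyz.irrel (GrSyz.stdGr k (Fin (n + 1)))).toIdeal M = ((n + 1 : ℕ) : ℕ∞) := by
  classical
  have c := regChain k n
  have hlen := fun i => Groth.Agent.S15436.result k n M ℳ F hF i
  have hne : ∀ i, F.rk i ≠ 0 → ¬ IsZero (T i (ModuleCat.of _ (MvPolynomial (Fin (n + 1)) k ⧸
      (GrSyz.irrel (GrSyz.stdGr k (Fin (n + 1)))).toIdeal))
        (ModuleCat.of (MvPolynomial (Fin (n + 1)) k) M)) := by
    intro i hi hz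
    have hsub := ModuleCat.subsingleton_of_isZero hz
    have h0 := hlen i
    rw [Module.length_eq_zero] at h0
    exact hi (by exact_mod_cast h0.symm)
  have hvan : ∀ i, ℓ < i → IsZero (T i (ModuleCat.of _ (MvPolynomial (Fin (n + 1)) k ⧸
      (GrSyz.irrel (GrSyz.stdGr k (Fin (n + 1)))).toIdeal))
        (ModuleCat.of (MvPolynomial (Fin (n + 1)) k) M)) := by
    intro i hi
    have h0 := hlen i
    rw [hℓ i hi, Nat.cast_zero, Module.length_eq_zero_iff] at h0
    exact ModuleCat.isZero_of_subsingleton _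
  have hℓn : ℓ ≤ n + 1 := by
    have := c.add_length_le [] M ℓ (RingTheory.Sequence.IsWeaklyRegular.nil _ M) (by simp) (hne ℓ hℓ')
    simpa using this
  -- all ranks vanish if rk 0 = 0
  have hrk0 : F.rk 0 ≠ 0 := by
    intro h0
    have step1 : ∀ i : ℕ, LinearMap.ker (Matrix.mulVecLin (F.d i)) = ⊤ → F.rk (i + 1) = 0 := by
      intro i hi
      rw [F.exact_succ i] at hi
      by_contra hm
      have a0 : Fin (F.rk (i + 1)) := ⟨0, Nat.pos_of_ne_zero hm⟩
      have h1 : (Pi.single a0 1 : Fin (F.rk (i + 1)) → MvPolynomial (Fin (n + 1)) k) ∈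
          LinearMap.range (Matrix.mulVecLin (F.d (i + 1))) := by
        rw [hi]; exact Submodule.mem_top
      obtain ⟨y, hy⟩ := h1
      have h2 := congr_fun hy a0
      rw [Matrix.mulVecLin_apply, Pi.single_eq_same] at h2
      apply one_notMem_irrel k n
      rw [← h2]
      show ∑ b, F.d (i + 1) a0 b * y b ∈ _
      exact Ideal.sum_mem _ fun b _ => Ideal.mul_mem_right _ _ (hF (i + 1) a0 b)
    have step2 : ∀ i : ℕ, F.rk i = 0 → LinearMap.ker (Matrix.mulVecLin (F.d i)) = ⊤ := by
      intro i hi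
      rw [eq_top_iff]
      intro x _
      rw [LinearMap.mem_ker]
      funext a
      exact absurd a.2 (by omega)
    have : ∀ i, F.rk i = 0 := by
      intro i
      induction i with
      | zero => exact h0
      | succ i ih => exact step1 i (step2 i ih)
    exact hℓ' (this ℓ)
  have hmM : (GrSyz.irrel (GrSyz.stdGr k (Fin (n + 1)))).toIdeal •
      (⊤ : Submodule (MvPolynomial (Fin (n + 1)) k) M) ≠ ⊤ := by
    intro htop
    apply hne 0 hrk0
    have e := TensorProduct.quotTensorEquivQuotSMul M (GrSyz.irrel (GrSyz.stdGr k (Fin (n + 1)))).toIdeal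
    have hsub : Subsingleton (M ⧸ (GrSyz.irrel (GrSyz.stdGr k (Fin (n + 1)))).toIdeal •
        (⊤ : Submodule (MvPolynomial (Fin (n + 1)) k) M)) := by
      rw [htop]
      exact Submodule.Quotient.subsingleton_iff.2 rfl
    have hsub2 : Subsingleton (TensorProduct (MvPolynomial (Fin (n + 1)) k)
        (MvPolynomial (Fin (n + 1)) k ⧸ (GrSyz.irrel (GrSyz.stdGr k (Fin (n + 1)))).toIdeal) M) :=
      e.toEquiv.subsingleton
    have hz : IsZero (MonoidalCategory.tensorObj (ModuleCat.of _ (MvPolynomial (Fin (n + 1)) k ⧸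
      (GrSyz.irrel (GrSyz.stdGr k (Fin (n + 1)))).toIdeal))
        (ModuleCat.of (MvPolynomial (Fin (n + 1)) k) M)) := by
      haveI : Subsingleton ↑(MonoidalCategory.tensorObj (ModuleCat.of _ (MvPolynomial (Fin (n + 1)) k ⧸
        (GrSyz.irrel (GrSyz.stdGr k (Fin (n + 1)))).toIdeal))
          (ModuleCat.of (MvPolynomial (Fin (n + 1)) k) M)) := hsub2
      exact ModuleCat.isZero_of_subsingleton _
    exact hz.of_iso (tor0Iso _ _)
  unfold LocCoh.idealDepth
  rw [if_neg hmM]
  have hsup : (⨆ (rs : List (MvPolynomial (Fin (n + 1)) k))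
      (_ : RingTheory.Sequence.IsWeaklyRegular M rs ∧
        ∀ r ∈ rs, r ∈ (GrSyz.irrel (GrSyz.stdGr k (Fin (n + 1)))).toIdeal), (rs.length : ℕ∞)) =
      ((n + 1 - ℓ : ℕ) : ℕ∞) := by
    apply le_antisymm
    · refine iSup₂_le fun rs h => ?_
      have := c.add_length_le rs M ℓ h.1 h.2 (hne ℓ hℓ')
      exact_mod_cast (by omega : rs.length ≤ n + 1 - ℓ)
    · obtain ⟨rs, h1, h2, h3⟩ := c.exists_isWeaklyRegular (n + 1 - ℓ) M ℓ (by omega) hvan
      exact le_iSup₂_of_le rs ⟨h1, h2⟩ (by rw [h3])
  rw [hsup, ← Nat.cast_add]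
  congr 1
  omega

end Groth.Agent.S16323
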