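import Groth.Statements.S16325
import Mathlib
import Groth.Agent.Lib.helper28.FreeAcyc

set_option autoImplicit false
universe u v
open CategoryTheory
open W4c3biextchow

namespace Groth.Agent.S16325

open Groth.Agent.Lib.helper28.FreeAcyc

/-- Let f : C ⟶ D be a chain map of ℕ-indexed chain complexes of modules over a ring R, and consider the
functor it induces between the groupoids attached to C and D (objects: degree-0 elements; morphisms
a ⟶ b: degree-1 elements with boundary b - a, modulo boundaries of degree-2 elements). This functor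
is faithful if and only if f is injective on homology in degree 1. (The published statement is for
complexes of abelian groups; this row allows modules over any ring R.) -/
theorem result
    (R : Type u) [Ring R] (C D : ChainComplex (ModuleCat.{v} R) ℕ) (f : C ⟶ D) :
    (W4c3biextchow.cxFunctor f).Faithful ↔ Mono (HomologicalComplex.homologyMap f 1) := by
  rw [cc_mono1_iff]
  constructor
  · intro h w hw ⟨y, hy⟩
    let a : Obj C := ⟨0⟩
    let φ : a ⟶ a := (⟨Submodule.Quotient.mk w, by rw [delta_mk, sub_self]; exact hw⟩ : Hom C a a)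
    have h1 : (cxFunctor f).map φ = (cxFunctor f).map (𝟙 a) := by
      apply Hom.ext
      rw [cxFunctor_map_cl, cxFunctor_map_cl]
      change q1Map f (Submodule.Quotient.mk w) = q1Map f 0
      rw [q1Map_mk, map_zero, Submodule.Quotient.mk_eq_zero]
      exact ⟨y, hy⟩
    have h2 : φ = 𝟙 a := h.map_injective h1
    have h3 : (Submodule.Quotient.mk w : Q1 C) = 0 := congrArg (fun ψ : Hom C a a => ψ.cl) h2
    rw [Submodule.Quotient.mk_eq_zero] at h3
    exact h3
  · intro h
    constructor
    intro a b φ ψ hφψ
    apply Hom.ext
    obtain ⟨x, hx⟩ := Submodule.Quotient.mk_surjective _ (φ : Hom C a b).cl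
    obtain ⟨x', hx'⟩ := Submodule.Quotient.mk_surjective _ (ψ : Hom C a b).cl
    have h1 := congrArg (fun χ : Hom D _ _ => χ.cl) hφψ
    simp only [cxFunctor_map_cl] at h1
    rw [← hx, ← hx', q1Map_mk, q1Map_mk, Submodule.Quotient.eq] at h1
    obtain ⟨y, hy⟩ := h1
    have hd : C.d 1 0 (x - x') = 0 := by
      have e1 := (φ : Hom C a b).delta_cl
      have e2 := (ψ : Hom C a b).delta_cl
      rw [← hx, delta_mk] at e1
      rw [← hx', delta_mk] at e2
      rw [map_sub]
      change (C.d 1 0).hom x - (C.d 1 0).hom x' = 0
      rw [e1, e2, sub_self]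
    obtain ⟨w', hw'⟩ := h (x - x') hd ⟨y, by rw [map_sub]; exact hy⟩
    rw [← hx, ← hx', Submodule.Quotient.eq]
    exact ⟨w', hw'⟩

end Groth.Agent.S16325
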