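import Groth.Statements.S16326
import Mathlib
import Groth.Agent.Lib.helper28.FreeAcyc

set_option autoImplicit false
universe u v
open CategoryTheory
open W4c3biextchow

namespace Groth.Agent.S16326

open Groth.Agent.Lib.helper28.FreeAcyc

/-- Let f : C ⟶ D be a chain map of ℕ-indexed chain complexes of modules over a ring R, and consider the
functor it induces between the groupoids attached to C and D (objects: degree-0 elements; morphisms
a ⟶ b: degree-1 elements with boundary b - a, modulo boundaries of degree-2 elements). This functor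
is full if and only if f is surjective on homology in degree 1 and injective on homology in degree
0. (The published statement is for complexes of abelian groups; this row allows modules over any
ring R.) -/
theorem result
    (R : Type u) [Ring R] (C D : ChainComplex (ModuleCat.{v} R) ℕ) (f : C ⟶ D) :
    (W4c3biextchow.cxFunctor f).Full ↔
      Epi (HomologicalComplex.homologyMap f 1) ∧ Mono (HomologicalComplex.homologyMap f 0) := by
  rw [cc_epi1_iff, cc_mono0_iff]
  constructor
  · intro h
    constructor
    · intro z hz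
      let a : Obj C := ⟨0⟩
      let ψ : (cxFunctor f).obj a ⟶ (cxFunctor f).obj a :=
        (⟨Submodule.Quotient.mk z, by rw [delta_mk, sub_self]; exact hz⟩ : Hom D _ _)
      obtain ⟨φ, hφ⟩ := h.map_surjective ψ
      obtain ⟨x, hx⟩ := Submodule.Quotient.mk_surjective _ (φ : Hom C a a).cl
      have hd : C.d 1 0 x = 0 := by
        have e1 := (φ : Hom C a a).delta_cl
        rw [← hx, delta_mk, sub_self] at e1
        exact e1
      have h1 := congrArg (fun χ : Hom D _ _ => χ.cl) hφ
      simp only [cxFunctor_map_cl] at h1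
      change q1Map f (φ : Hom C a a).cl = Submodule.Quotient.mk z at h1
      rw [← hx, q1Map_mk, eq_comm, Submodule.Quotient.eq] at h1
      obtain ⟨y, hy⟩ := h1
      refine ⟨y, x, hd, ?_⟩
      have : D.d 2 1 y = z - f.f 1 x := hy
      rw [this]; abel
    · intro w ⟨y, hy⟩
      let a : Obj C := ⟨0⟩
      let b : Obj C := ⟨w⟩
      let ψ : (cxFunctor f).obj a ⟶ (cxFunctor f).obj b :=
        (⟨Submodule.Quotient.mk y, by
          rw [delta_mk]
          change (D.d 1 0) y = f.f 0 w - f.f 0 0
          rw [map_zero, sub_zero]; exact hy⟩ : Hom D _ _)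
      obtain ⟨φ, _⟩ := h.map_surjective ψ
      obtain ⟨x, hx⟩ := Submodule.Quotient.mk_surjective _ (φ : Hom C a b).cl
      have e1 := (φ : Hom C a b).delta_cl
      rw [← hx, delta_mk] at e1
      refine ⟨x, ?_⟩
      change (C.d 1 0).hom x = w
      rw [e1]
      change w - 0 = w
      rw [sub_zero]
  · rintro ⟨hE, hM⟩
    constructor
    intro a b ψ
    obtain ⟨y, hy⟩ := Submodule.Quotient.mk_surjective _ (ψ : Hom D _ _).cl
    have hdy : D.d 1 0 y = f.f 0 (b.pt - a.pt) := by
      have e1 := (ψ : Hom D _ _).delta_cl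
      rw [← hy, delta_mk] at e1
      rw [map_sub]
      exact e1
    obtain ⟨x₀, hx₀⟩ := hM (b.pt - a.pt) ⟨y, hdy⟩
    have hcyc : D.d 1 0 (y - f.f 1 x₀) = 0 := by
      rw [map_sub, ← cc_comm f, hx₀, hdy, sub_self]
    obtain ⟨y₂, x₁, hx₁, hz⟩ := hE _ hcyc
    refine ⟨(⟨Submodule.Quotient.mk (x₀ + x₁), by
      rw [delta_mk, map_add]
      change C.d 1 0 x₀ + C.d 1 0 x₁ = b.pt - a.pt
      rw [hx₀, hx₁, add_zero]⟩ : Hom C a b), ?_⟩
    apply Hom.ext
    rw [cxFunctor_map_cl]
    change q1Map f (Submodule.Quotient.mk (x₀ + x₁)) = (ψ : Hom D _ _).cl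
    rw [q1Map_mk, ← hy, eq_comm, Submodule.Quotient.eq]
    refine ⟨y₂, ?_⟩
    have : D.d 2 1 y₂ = y - f.f 1 x₀ - f.f 1 x₁ := by
      rw [hz]; abel
    change D.d 2 1 y₂ = y - f.f 1 (x₀ + x₁)
    rw [this, map_add]; abel

end Groth.Agent.S16326
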