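import Groth.Statements.S16327
import Mathlib
import Groth.Agent.Lib.helper28.FreeAcyc

set_option autoImplicit false
universe u v
open CategoryTheory
open W4c3biextchow

namespace Groth.Agent.S16327

open Groth.Agent.Lib.helper28.FreeAcyc

/-- Let f : C ⟶ D be a chain map of ℕ-indexed chain complexes of modules over a ring R, and consider the
functor it induces between the groupoids attached to C and D (objects: degree-0 elements; morphisms
a ⟶ b: degree-1 elements with boundary b - a, modulo boundaries of degree-2 elements). This functor
is essentially surjective if and only if f is surjective on homology in degree 0. (The published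
statement is for complexes of abelian groups; this row allows modules over any ring R.) -/
theorem result
    (R : Type u) [Ring R] (C D : ChainComplex (ModuleCat.{v} R) ℕ) (f : C ⟶ D) :
    (W4c3biextchow.cxFunctor f).EssSurj ↔ Epi (HomologicalComplex.homologyMap f 0) := by
  rw [cc_epi0_iff]
  constructor
  · intro h z
    obtain ⟨a, ⟨e⟩⟩ := h.mem_essImage (⟨z⟩ : Obj D)
    obtain ⟨y, hy⟩ := Submodule.Quotient.mk_surjective _ (e.hom : Hom D _ _).cl
    have hd := (e.hom : Hom D _ _).delta_cl
    rw [← hy, delta_mk] at hd
    refine ⟨y, a.pt, ?_⟩
    have : D.d 1 0 y = z - f.f 0 a.pt := hd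
    rw [this]; abel
  · intro h
    constructor
    intro b
    obtain ⟨y, x', hz⟩ := h b.pt
    have hdelta : delta D (Submodule.Quotient.mk y) = b.pt - ((cxFunctor f).obj ⟨x'⟩).pt := by
      rw [delta_mk]
      change D.d 1 0 y = b.pt - f.f 0 x'
      rw [hz]; abel
    refine ⟨⟨x'⟩, ⟨{ hom := ⟨Submodule.Quotient.mk y, hdelta⟩
                     inv := ⟨-Submodule.Quotient.mk y, by rw [map_neg, hdelta]; abel⟩
                     hom_inv_id := Hom.ext (by simp)
                     inv_hom_id := Hom.ext (by simp) }⟩⟩

end Groth.Agent.S16327
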