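import Groth.Statements.S16328
import Mathlib
import Groth.Agent.Lib.helper28.FreeAcyc

set_option autoImplicit false
universe v
open CategoryTheory
open W4c3biextchow

namespace Groth.Agent.S16328

open Groth.Agent.Lib.helper28.FreeAcyc

/-- Let f : A' ⟶ A and p : A ⟶ A'' be chain maps of ℕ-indexed chain complexes of free abelian groups
forming a short exact sequence in every degree (f injective, p surjective, image of f equal to the
kernel of p), and assume f is a quasi-isomorphism. Then there is a chain map h : A'' ⟶ A such that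
in every degree q the map (a'', a') ↦ h(a'') + f(a') is a bijection from A''_q × A'_q onto A_q, so
that A is the direct sum of the subcomplexes f(A') and h(A''). (The source allows complexes indexed
by all integers; stated here for complexes in non-negative degrees.) -/
theorem result
    (A' A A'' : ChainComplex (ModuleCat.{v} ℤ) ℕ) (f : A' ⟶ A) (p : A ⟶ A'')
    [∀ q, Module.Free ℤ (A'.X q)] [∀ q, Module.Free ℤ (A.X q)] [∀ q, Module.Free ℤ (A''.X q)]
    (hf : ∀ q, Function.Injective (f.f q).hom) (hp : ∀ q, Function.Surjective (p.f q).hom)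
    (hfp : ∀ q, Function.Exact (f.f q).hom (p.f q).hom) [QuasiIso f] :
    ∃ h : A'' ⟶ A, ∀ q : ℕ,
      Function.Bijective (fun x : A''.X q × A'.X q => (h.f q).hom x.1 + (f.f q).hom x.2) := by
  obtain ⟨h, hh1, hh2⟩ := split_exists (R := ℤ) (X' := fun q => A'.X q) (X := fun q => A.X q)
    (X'' := fun q => A''.X q)
    (fun q => (A'.d (q + 1) q).hom) (fun q => (A.d (q + 1) q).hom)
    (fun q => (A''.d (q + 1) q).hom) (fun q => (f.f q).hom) (fun q => (p.f q).hom)
    (fun q x => cc_dd A (q + 2) (q + 1) q x) (fun q x => cc_dd A' (q + 2) (q + 1) q x)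
    (fun q x => cc_comm f (q + 1) q x) (fun q x => cc_comm p (q + 1) q x) hf hp hfp
    (fun q => inferInstance) (acyc0 f) (acycS f hf)
  refine ⟨{ f := fun q => ModuleCat.ofHom (h q), comm' := ?_ }, hh2⟩
  intro i j hij
  have : j + 1 = i := hij
  subst this
  ext x
  exact hh1 j x

end Groth.Agent.S16328
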