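import Groth.Statements.S16330
import Mathlib
import Groth.Agent.Lib.helper28.FreeAcyc

set_option autoImplicit false
universe v
open CategoryTheory
open W4c3biextchow

namespace Groth.Agent.S16330

open Groth.Agent.Lib.helper28.FreeAcyc

/-- Let f : A' ⟶ A be a chain map of ℕ-indexed chain complexes of free abelian groups which is injective
in every degree, whose degreewise quotients A_q / f(A'_q) are free abelian groups, and which is a
quasi-isomorphism. Then any two chain maps g₁, g₂ : A ⟶ A' with f ≫ g₁ = f ≫ g₂ = 𝟙 differ by a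
null-homotopic map: there is a chain homotopy between g₁ and g₂ all of whose components vanish on
the image of f (so g₁ - g₂ factors through the quotient complex A / A', and the homotopy does too).
(The source allows complexes indexed by all integers; stated here for complexes in non-negative
degrees.) -/
theorem result
    (A' A : ChainComplex (ModuleCat.{v} ℤ) ℕ) (f : A' ⟶ A)
    [∀ q, Module.Free ℤ (A'.X q)] [∀ q, Module.Free ℤ (A.X q)]
    (hf : ∀ q, Function.Injective (f.f q).hom)
    (hq : ∀ q, Module.Free ℤ ((A.X q) ⧸ LinearMap.range (f.f q).hom)) [QuasiIso f]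
    (g₁ g₂ : A ⟶ A') (h₁ : f ≫ g₁ = 𝟙 A') (h₂ : f ≫ g₂ = 𝟙 A') :
    ∃ H : Homotopy g₁ g₂, ∀ i j : ℕ, f.f i ≫ H.hom i j = 0 := by
  have hq' : ∀ q, @Module.Free ℤ ((A.X q) ⧸ LinearMap.range (f.f q).hom) _ _
      (Submodule.Quotient.module _) := fun q => by
    convert hq q
    · rfl
    · exact Subsingleton.elim _ _
  obtain ⟨k, hk1, hk2, hk3⟩ := contraction (R := ℤ) (X' := fun q => A'.X q) (X := fun q => A.X q)
    (fun q => (A'.d (q + 1) q).hom) (fun q => (A.d (q + 1) q).hom) (fun q => (f.f q).hom)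
    (fun q x => cc_dd A (q + 2) (q + 1) q x)
    (fun q x => cc_comm f (q + 1) q x) hq' (acyc0 f) (acycS f hf)
  let δ : ∀ q, A.X q →ₗ[ℤ] A'.X q := fun q => (g₁.f q).hom - (g₂.f q).hom
  have hδf : ∀ q (x : A'.X q), δ q (f.f q x) = 0 := by
    intro q x
    have e1 : g₁.f q (f.f q x) = x := by
      have := congrArg (fun φ => (φ.f q).hom x) h₁
      simpa using this
    have e2 : g₂.f q (f.f q x) = x := by
      have := congrArg (fun φ => (φ.f q).hom x) h₂
      simpa using this
    change g₁.f q (f.f q x) - g₂.f q (f.f q x) = 0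
    rw [e1, e2, sub_self]
  have hδD : ∀ q (a : A.X (q + 1)), A'.d (q + 1) q (δ (q + 1) a) = δ q (A.d (q + 1) q a) := by
    intro q a
    change A'.d (q + 1) q (g₁.f (q + 1) a - g₂.f (q + 1) a) =
      g₁.f q (A.d (q + 1) q a) - g₂.f q (A.d (q + 1) q a)
    rw [map_sub, cc_comm g₁, cc_comm g₂]
  let Hq : ∀ q, A.X q →ₗ[ℤ] A'.X (q + 1) := fun q => (δ (q + 1)).comp (k q)
  let hom : ∀ i j, A.X i ⟶ A'.X j := fun i j =>
    if h : i + 1 = j then ModuleCat.ofHom (Hq i) ≫ eqToHom (by rw [h]) else 0
  have hom_succ : ∀ i, hom i (i + 1) = ModuleCat.ofHom (Hq i) := by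
    intro i
    simp only [hom, dif_pos, eqToHom_refl, Category.comp_id]
  refine ⟨{ hom := hom, zero := ?_, comm := ?_ }, ?_⟩
  · intro i j hij
    have : ¬ (i + 1 = j) := hij
    simp only [hom, dif_neg this]
  · intro i
    cases i with
    | zero =>
      rw [Homotopy.dNext_zero_chainComplex, Homotopy.prevD_chainComplex, hom_succ, zero_add]
      ext a
      obtain ⟨x', hx'⟩ := hk2 a
      change g₁.f 0 a = A'.d 1 0 (δ 1 (k 0 a)) + g₂.f 0 a
      rw [hδD]
      have : (A.d 1 0) (k 0 a) = a - f.f 0 x' := by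
        have : a - (A.d 1 0) (k 0 a) = f.f 0 x' := hx'
        rw [← this]; abel
      rw [this, map_sub, hδf, sub_zero]
      change g₁.f 0 a = (g₁.f 0 a - g₂.f 0 a) + g₂.f 0 a
      abel
    | succ i =>
      rw [Homotopy.dNext_succ_chainComplex, Homotopy.prevD_chainComplex, hom_succ, hom_succ]
      ext a
      obtain ⟨x', hx'⟩ := hk3 i a
      change g₁.f (i + 1) a = δ (i + 1) (k i (A.d (i + 1) i a)) +
        A'.d (i + 2) (i + 1) (δ (i + 2) (k (i + 1) a)) + g₂.f (i + 1) a
      rw [hδD, ← map_add]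
      have : k i ((A.d (i + 1) i) a) + (A.d (i + 2) (i + 1)) (k (i + 1) a) = a - f.f (i + 1) x' := by
        have : a - (A.d (i + 2) (i + 1)) (k (i + 1) a) - k i ((A.d (i + 1) i) a) = f.f (i + 1) x' := hx'
        rw [← this]; abel
      rw [this, map_sub, hδf, sub_zero]
      change g₁.f (i + 1) a = (g₁.f (i + 1) a - g₂.f (i + 1) a) + g₂.f (i + 1) a
      abel
  · intro i j
    change f.f i ≫ hom i j = 0
    by_cases h : i + 1 = j
    · subst h
      rw [hom_succ]
      ext x
      change δ (i + 1) (k i (f.f i x)) = 0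
      rw [hk1, map_zero]
    · simp only [hom, dif_neg h, Limits.comp_zero]

end Groth.Agent.S16330
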