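import Groth.Statements.S16331
import Mathlib
import Groth.Agent.S16330
import Groth.Agent.Lib.helper28.FreeAcyc

set_option autoImplicit false
universe v
open CategoryTheory
open W4c3biextchow

namespace Groth.Agent.S16331

open Groth.Agent.Lib.helper28.FreeAcyc

/-- Let f : A' ⟶ A be a chain map of ℕ-indexed chain complexes of free abelian groups which is injective
in every degree, with free degreewise quotients A_q / f(A'_q), and a quasi-isomorphism; let h' : A'
⟶ B be a chain map to another complex of free abelian groups and g₁, g₂ : A ⟶ A' two chain maps with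
f ≫ g₁ = f ≫ g₂ = 𝟙. Consider the functors induced by g₁ ≫ h' and g₂ ≫ h' between the groupoids
attached to A and B (objects: degree-0 elements; morphisms a ⟶ b: degree-1 elements with boundary b
- a, modulo boundaries of degree-2 elements). Then there is a natural isomorphism between these two
functors whose component at every object of the form f(a'), a' a degree-0 element of A', is the zero
class, i.e. the identity morphism of h'(a'). -/
theorem result
    (A' A B : ChainComplex (ModuleCat.{v} ℤ) ℕ) (f : A' ⟶ A) (h' : A' ⟶ B)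
    [∀ q, Module.Free ℤ (A'.X q)] [∀ q, Module.Free ℤ (A.X q)] [∀ q, Module.Free ℤ (B.X q)]
    (hf : ∀ q, Function.Injective (f.f q).hom)
    (hq : ∀ q, Module.Free ℤ ((A.X q) ⧸ LinearMap.range (f.f q).hom)) [QuasiIso f]
    (g₁ g₂ : A ⟶ A') (h₁ : f ≫ g₁ = 𝟙 A') (h₂ : f ≫ g₂ = 𝟙 A') :
    ∃ N : W4c3biextchow.cxFunctor (g₁ ≫ h') ≅ W4c3biextchow.cxFunctor (g₂ ≫ h'),
      ∀ a : W4c3biextchow.Obj A',
        (N.hom.app ((W4c3biextchow.cxFunctor f).obj a) : W4c3biextchow.Hom B _ _).cl = 0 := by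
  obtain ⟨H, hH⟩ := Groth.Agent.S16330.result A' A f hf hq g₁ g₂ h₁ h₂
  -- degree 0 and degree 1 homotopy relations
  have c0 : ∀ a : A.X 0, g₁.f 0 a = A'.d 1 0 (H.hom 0 1 a) + g₂.f 0 a := by
    intro a
    have := H.comm 0
    rw [Homotopy.dNext_zero_chainComplex, Homotopy.prevD_chainComplex, zero_add] at this
    exact congrArg (fun φ => φ.hom a) this
  have c1 : ∀ x : A.X 1, g₁.f 1 x =
      H.hom 0 1 (A.d 1 0 x) + A'.d 2 1 (H.hom 1 2 x) + g₂.f 1 x := by
    intro x
    have := H.comm 1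
    rw [Homotopy.dNext_succ_chainComplex, Homotopy.prevD_chainComplex] at this
    exact congrArg (fun φ => φ.hom x) this
  have hHf : ∀ a' : A'.X 0, H.hom 0 1 (f.f 0 a') = 0 := by
    intro a'
    exact congrArg (fun φ => φ.hom a') (hH 0 1)
  -- components
  have hdelta : ∀ a : Obj A, delta B (Submodule.Quotient.mk (-(h'.f 1 (H.hom 0 1 a.pt)))) =
      ((cxFunctor (g₂ ≫ h')).obj a).pt - ((cxFunctor (g₁ ≫ h')).obj a).pt := by
    intro a
    rw [delta_mk, map_neg]
    change -(B.d 1 0 (h'.f 1 (H.hom 0 1 a.pt))) = h'.f 0 (g₂.f 0 a.pt) - h'.f 0 (g₁.f 0 a.pt)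
    rw [← cc_comm h', c0 a.pt, map_add]; abel
  let comp : ∀ a : Obj A, (cxFunctor (g₁ ≫ h')).obj a ≅ (cxFunctor (g₂ ≫ h')).obj a := fun a =>
    { hom := ⟨Submodule.Quotient.mk (-(h'.f 1 (H.hom 0 1 a.pt))), hdelta a⟩
      inv := ⟨-Submodule.Quotient.mk (-(h'.f 1 (H.hom 0 1 a.pt))), by
        rw [map_neg, hdelta a]; abel⟩
      hom_inv_id := Hom.ext (by simp)
      inv_hom_id := Hom.ext (by simp) }
  refine ⟨NatIso.ofComponents comp ?_, ?_⟩
  · intro a b φ
    apply Hom.ext
    obtain ⟨x, hx⟩ := Submodule.Quotient.mk_surjective _ (φ : Hom A a b).cl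
    have hdx : A.d 1 0 x = b.pt - a.pt := by
      have := (φ : Hom A a b).delta_cl
      rw [← hx, delta_mk] at this
      exact this
    simp only [comp_cl, cxFunctor_map_cl, comp]
    rw [← hx, q1Map_mk, q1Map_mk, ← Submodule.Quotient.mk_add, ← Submodule.Quotient.mk_add,
      Submodule.Quotient.eq]
    refine ⟨h'.f 2 (H.hom 1 2 x), ?_⟩
    change B.d 2 1 (h'.f 2 (H.hom 1 2 x)) =
      h'.f 1 (g₁.f 1 x) + -(h'.f 1 (H.hom 0 1 b.pt)) - (-(h'.f 1 (H.hom 0 1 a.pt)) + h'.f 1 (g₂.f 1 x))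
    rw [← cc_comm h', c1 x, hdx, map_sub, map_add, map_add, map_sub]; abel
  · intro a
    change Submodule.Quotient.mk (-(h'.f 1 (H.hom 0 1 (f.f 0 a.pt)))) = 0
    rw [hHf, map_zero, neg_zero, Submodule.Quotient.mk_zero]

end Groth.Agent.S16331
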