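import Groth.Statements.S16333
import Groth.Agent.Lib.helper1.NormSurj4
import Groth.Agent.Lib.helper1.FF1
import Groth.Agent.S0212
import Groth.Agent.S0210

set_option autoImplicit false
universe u
open GalCoh

namespace Groth.Agent.S16333

/-- Let k be an algebraically closed field, K an extension field of k which is finitely generated of
transcendence degree 1 (the function field of an irreducible curve over k), and L a finite Galois
extension of K. Then (1) the norm map from L to K is surjective, and (2) a nonzero element of L has
norm 1 if and only if it lies in the subgroup of units generated by the elements w / g(w), w a unit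
of L and g an automorphism of L over K. (The published statement is for the function fields of an
irreducible curve and of a component of its preimage under a finite abelian étale cover of the
ambient variety; this row takes any finite Galois extension of a function field of transcendence
degree 1 over an algebraically closed field.) -/
theorem result
    (k : Type u) [Field k] [IsAlgClosed k] (K L : Type u) [Field K] [Field L]
    [Algebra k K] [Algebra K L] [FiniteDimensional K L] [IsGalois K L]
    (hfg : (⊤ : IntermediateField k K).FG) (htr : Algebra.trdeg k K = 1) :
    Function.Surjective (Algebra.norm K : L → K) ∧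
      ∀ u : Lˣ, Algebra.norm K (u : L) = 1 ↔
        u ∈ Subgroup.closure {v : Lˣ | ∃ (w : Lˣ) (g : L ≃ₐ[K] L), (v : L) = (w : L) / g (w : L)} := by
  have hK : Curves.IsCi K 1 := Groth.Agent.S0212.result k K 1 htr
  have hKr : Curves.IsCr K 1 := Groth.Agent.Lib.helper1.FF.isCr_of_isCi _ 1 hK
  have hC : ∀ M : IntermediateField K L, Curves.IsCr M 1 := fun M =>
    Groth.Agent.Lib.helper1.FF.isCr_of_isCi _ 1 (Groth.Agent.S0210.result K M 1 hK)
  refine ⟨Groth.Agent.Lib.helper1.NormSurj.norm_surjective_of_isCr_one K L hKr, ?_⟩
  intro u
  constructor
  · intro hu
    exact Groth.Agent.Lib.helper1.NormSurj.mem_IG_of_norm_eq_one K L hC u hu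
  · intro hu
    refine Subgroup.closure_induction (p := fun (x : Lˣ) _ => Algebra.norm K (x : L) = 1) ?_ ?_ ?_ ?_ hu
    · rintro v ⟨w, g, hv⟩
      have hw0 : Algebra.norm K (w : L) ≠ 0 := by
        rw [Ne, Algebra.norm_eq_zero_iff]; exact w.ne_zero
      have hg : Algebra.norm K (g (w : L)) = Algebra.norm K (w : L) :=
        Algebra.norm_eq_of_algEquiv g _
      rw [hv, div_eq_mul_inv, map_mul, Algebra.norm_inv, hg, mul_inv_cancel₀ hw0]
    · simp
    · intro x y _ _ hx hy
      rw [Units.val_mul, map_mul, hx, hy, mul_one]
    · intro x _ hx
      rw [Units.val_inv_eq_inv_val, Algebra.norm_inv, hx, inv_one]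


end Groth.Agent.S16333
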