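import Groth.Statements.S16335
import Mathlib

set_option autoImplicit false
universe u v w w'
open TensorProduct
open InvTh

namespace Groth.Agent.S16335

/-- Let `R` be a commutative ring with an action of a finite group `Γ` by ring automorphisms such that
the order of `Γ` is invertible in `R`, and let `A → R` be injective with image exactly the
invariants `R^Γ`, the action being `A`-linear. Then for every commutative `A`-algebra `S`, with `Γ`
acting on `S ⊗_A R` through the factor `R`, the map `S → S ⊗_A R`, `s ↦ s ⊗ 1`, is injective and its
image is exactly the set of `Γ`-fixed elements: `S ≅ (S ⊗_A R)^Γ`. No flatness of `S` over `A` is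
assumed; the invertibility of the order of `Γ` replaces it. This is the affine statement that for a
tame quotient the coarse space commutes with arbitrary base change. (The published lemma is the
statement that the coarse moduli space of a tame Deligne–Mumford stack commutes with arbitrary base
change, whose proof reduces to this ring statement. The published lemma also asserts the analogous
statement for the reduced fibre product when the base-change scheme is reduced; that clause is not
part of this row.) -/
theorem result
    (A : Type u) [CommRing A] (R : Type v) [CommRing R] [Algebra A R]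
    (Γ : Type w) [Group Γ] [Finite Γ] [MulSemiringAction Γ R] [SMulCommClass Γ A R]
    [Algebra.IsInvariant A R Γ] (hinj : Function.Injective (algebraMap A R))
    (hΓ : IsUnit (Nat.card Γ : R))
    (S : Type w') [CommRing S] [Algebra A S] :
    Function.Injective (fun s : S => s ⊗ₜ[A] (1 : R)) ∧
      ∀ x : S ⊗[A] R,
        (∀ γ : Γ, Algebra.TensorProduct.map (AlgHom.id A S) (MulSemiringAction.toAlgHom A R γ) x = x) →
          x ∈ Set.range (fun s : S => s ⊗ₜ[A] (1 : R)) := by
  classical
  have : Fintype Γ := Fintype.ofFinite Γ
  obtain ⟨u, hu⟩ := hΓ.exists_left_inv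
  have hcard_inv : ∀ γ : Γ, γ • (Nat.card Γ : R) = (Nat.card Γ : R) := fun γ => map_natCast (MulSemiringAction.toRingHom Γ R γ) _
  have hu_inv : ∀ γ : Γ, γ • u = u := by
    intro γ
    have h1 : γ • (u * (Nat.card Γ : R)) = γ • (1 : R) := by rw [hu]
    rw [smul_mul', hcard_inv, smul_one, ← hu] at h1
    exact hΓ.mul_left_injective h1
  obtain ⟨au, hau⟩ := Algebra.IsInvariant.isInvariant (A := A) (G := Γ) u hu_inv
  have hau1 : au * (Nat.card Γ : A) = 1 := hinj (by rw [map_mul, map_natCast, hau, hu, map_one])
  have havg : ∀ r : R, ∃ a : A, algebraMap A R a = u * ∑ γ : Γ, γ • r := by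
    intro r
    apply Algebra.IsInvariant.isInvariant (G := Γ)
    intro γ
    rw [smul_mul', hu_inv, Finset.smul_sum]
    congr 1
    exact Fintype.sum_equiv (Equiv.mulLeft γ) _ _ (fun γ' => by simp [mul_smul])
  choose ρ hρ using havg
  let ρl : R →ₗ[A] A :=
    { toFun := ρ
      map_add' := by
        intro x y
        apply hinj
        rw [map_add, hρ, hρ, hρ]
        simp only [smul_add, Finset.sum_add_distrib, mul_add]
      map_smul' := by
        intro a x
        apply hinj
        rw [RingHom.id_apply, smul_eq_mul, map_mul, hρ, hρ]
        have hc : ∀ γ : Γ, γ • (a • x) = a • (γ • x) := fun γ => smul_comm γ a x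
        simp only [hc, ← Finset.smul_sum]
        rw [Algebra.smul_def]; ring }
  have hρ1 : ρ 1 = 1 := by
    apply hinj
    rw [hρ, map_one]
    simp only [smul_one, Finset.sum_const, Finset.card_univ, nsmul_eq_mul, mul_one]
    rw [← Nat.card_eq_fintype_card]
    exact hu
  -- the retraction S ⊗ R → S
  let π : S ⊗[A] R →ₗ[A] S := (TensorProduct.rid A S).toLinearMap ∘ₗ (LinearMap.lTensor S ρl)
  let incl : S →ₗ[A] S ⊗[A] R := (TensorProduct.mk A S R).flip 1
  have hπ : ∀ s : S, π (s ⊗ₜ[A] (1 : R)) = s := by
    intro s
    simp [π, ρl, hρ1]
  refine ⟨fun s t hst => ?_, fun x hx => ?_⟩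
  · have := congrArg π hst
    simpa [hπ] using this
  · -- averaging map
    let T : S ⊗[A] R →ₗ[A] S ⊗[A] R :=
      au • ∑ γ : Γ, (Algebra.TensorProduct.map (AlgHom.id A S) (MulSemiringAction.toAlgHom A R γ)).toLinearMap
    have hT : T = incl ∘ₗ π := by
      apply TensorProduct.ext'
      intro s r
      simp only [T, incl, π, ρl, LinearMap.smul_apply, LinearMap.sum_apply, AlgHom.toLinearMap_apply,
        Algebra.TensorProduct.map_tmul, AlgHom.coe_id, id_eq, MulSemiringAction.toAlgHom_apply,
        LinearMap.coe_comp, Function.comp_apply, LinearMap.lTensor_tmul, LinearMap.coe_mk, AddHom.coe_mk,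
        LinearEquiv.coe_coe, TensorProduct.rid_tmul, LinearMap.flip_apply, TensorProduct.mk_apply]
      rw [← TensorProduct.tmul_sum, ← TensorProduct.tmul_smul, TensorProduct.smul_tmul]
      congr 1
      rw [Algebra.smul_def, Algebra.smul_def, hρ, hau, mul_one]
    have hTx : T x = x := by
      simp only [T, LinearMap.smul_apply, LinearMap.sum_apply, AlgHom.toLinearMap_apply, hx]
      rw [Finset.sum_const, Finset.card_univ, ← Nat.card_eq_fintype_card, ← Nat.cast_smul_eq_nsmul A, smul_smul, hau1, one_smul]
    refine ⟨π x, ?_⟩
    have := congrArg (fun f => f x) hT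
    simp only [LinearMap.coe_comp, Function.comp_apply] at this
    rw [hTx] at this
    exact this.symm

end Groth.Agent.S16335
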