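import Groth.Statements.S16337
import Mathlib

set_option autoImplicit false
universe u v w
open InvTh

namespace Groth.Agent.S16337

/-- Let `A` be a commutative ring, `Γ` a finite group whose order is invertible in `A`, `M` an
`A`-module with an `A`-linear action of `Γ`, and `I` an ideal of `A`. Then reduction modulo `I`
induces a bijection `M^Γ / I·M^Γ ≅ (M / IM)^Γ`: (a) an element of `M` fixed by `Γ` modulo `IM` is
congruent modulo `IM` to a `Γ`-fixed element, and (b) a `Γ`-fixed element lying in `IM` lies in
`I·M^Γ`, where `M^Γ` is the submodule of `Γ`-fixed elements. (The published lemma says that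
push-forward to the coarse space of a tame stack over a complete local base commutes with reduction
modulo powers of the maximal ideal; this row is the module statement its proof establishes, for an
arbitrary ideal.) -/
theorem result
    (A : Type u) [CommRing A] (Γ : Type v) [Group Γ] [Finite Γ] (hΓ : IsUnit (Nat.card Γ : A))
    (M : Type w) [AddCommGroup M] [Module A M] [DistribMulAction Γ M] [SMulCommClass Γ A M]
    (I : Ideal A) :
    (∀ x : M, (∀ γ : Γ, γ • x - x ∈ I • (⊤ : Submodule A M)) →
        ∃ y : M, (∀ γ : Γ, γ • y = y) ∧ x - y ∈ I • (⊤ : Submodule A M)) ∧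
      ∀ y : M, (∀ γ : Γ, γ • y = y) → y ∈ I • (⊤ : Submodule A M) →
        y ∈ I • Submodule.span A {m : M | ∀ γ : Γ, γ • m = m} := by
  classical
  have : Fintype Γ := Fintype.ofFinite Γ
  obtain ⟨u, hu⟩ := hΓ.exists_left_inv
  have hcard : (Nat.card Γ : A) = (Fintype.card Γ : A) := by rw [Nat.card_eq_fintype_card]
  let avg : M →ₗ[A] M := u • ∑ γ : Γ, DistribSMul.toLinearMap A M γ
  have avg_apply : ∀ m : M, avg m = u • ∑ γ : Γ, γ • m := by
    intro m
    simp only [avg, LinearMap.smul_apply, LinearMap.sum_apply, DistribSMul.toLinearMap_apply]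
  have avg_fixed : ∀ m : M, ∀ γ' : Γ, γ' • avg m = avg m := by
    intro m γ'
    rw [avg_apply, smul_comm, Finset.smul_sum]
    congr 1
    simp_rw [smul_smul]
    exact Fintype.sum_bijective (fun γ => γ' * γ) (Group.mulLeft_bijective γ') _ _ (fun _ => rfl)
  have avg_of_fixed : ∀ m : M, (∀ γ : Γ, γ • m = m) → avg m = m := by
    intro m hm
    rw [avg_apply]
    simp_rw [hm]
    rw [Finset.sum_const, Finset.card_univ, ← Nat.cast_smul_eq_nsmul A, smul_smul, ← hcard, hu, one_smul]
  refine ⟨?_, ?_⟩
  · intro x hx
    refine ⟨avg x, avg_fixed x, ?_⟩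
    have h1 : x - avg x = u • ∑ γ : Γ, (x - γ • x) := by
      rw [avg_apply, Finset.sum_sub_distrib, Finset.sum_const, Finset.card_univ,
        ← Nat.cast_smul_eq_nsmul A, smul_sub, smul_smul, ← hcard, hu, one_smul]
    rw [h1]
    refine Submodule.smul_mem _ _ (Submodule.sum_mem _ ?_)
    intro γ _
    have := hx γ
    have h2 : x - γ • x = -(γ • x - x) := by abel
    rw [h2]
    exact Submodule.neg_mem _ this
  · intro y hy hyI
    have key : ∀ z ∈ I • (⊤ : Submodule A M),
        avg z ∈ I • Submodule.span A {m : M | ∀ γ : Γ, γ • m = m} := by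
      intro z hz
      refine Submodule.smul_induction_on hz ?_ ?_
      · intro a ha m _
        rw [map_smul]
        exact Submodule.smul_mem_smul ha (Submodule.subset_span (avg_fixed m))
      · intro z₁ z₂ h₁ h₂
        rw [map_add]
        exact Submodule.add_mem _ h₁ h₂
    have := key y hyI
    rwa [avg_of_fixed y hy] at this

end Groth.Agent.S16337
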