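import Groth.Statements.S16343
import Mathlib

set_option autoImplicit false
open KatoHom

namespace Groth.Agent.S16343


/-- Bezout in an abelian group: if `q` and `n` are coprime and `n • x = 0`, then `x = q • (a • x)`. -/
theorem bezout_smul {A : Type*} [AddCommGroup A] (q n : ℕ) (h : Nat.Coprime q n) (x : A)
    (hx : n • x = 0) : ∃ a : ℤ, q • (a • x) = x := by
  obtain ⟨a, b, hab⟩ := Nat.isCoprime_iff_coprime.2 h
  refine ⟨a, ?_⟩
  have h1 : ((a * q + b * n : ℤ)) • x = x := by rw [hab, one_smul]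
  rw [add_smul, mul_smul, mul_smul, natCast_zsmul, natCast_zsmul, hx, smul_zero, add_zero] at h1
  rw [smul_comm]; exact h1

/-- Let P be a set of primes and π : A → T a surjection of abelian groups whose kernel is ℓ-divisible
for every ℓ ∈ P, with T a torsion group; let T(P) be the subgroup of elements of T killed by a
positive integer all of whose prime factors lie in P, and T' the subgroup of elements killed by a
positive integer none of whose prime factors lies in P. Then the preimage π⁻¹(T') is ℓ-divisible for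
every ℓ ∈ P, and π has a section s over T(P) for which (d, t) ↦ d + s(t) is a bijection from π⁻¹(T')
× T(P) onto A, so that A is the direct sum of π⁻¹(T') and a copy of T(P). (The decomposition is
expressed through a section of π over T(P).) -/
theorem result
    {A T : Type*} [AddCommGroup A] [AddCommGroup T] (P : Set ℕ) (hP : ∀ p ∈ P, p.Prime)
    (π : A →+ T) (hπ : Function.Surjective π) (hT : ∀ t : T, ∃ n : ℕ, 0 < n ∧ n • t = 0)
    (hD : ∀ ℓ ∈ P, ∀ x ∈ π.ker, ∃ y ∈ π.ker, ℓ • y = x)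
    (TP T' : AddSubgroup T)
    (hTP : ∀ t, t ∈ TP ↔ ∃ n : ℕ, 0 < n ∧ (∀ p : ℕ, p.Prime → p ∣ n → p ∈ P) ∧ n • t = 0)
    (hT' : ∀ t, t ∈ T' ↔ ∃ n : ℕ, 0 < n ∧ (∀ p : ℕ, p.Prime → p ∣ n → p ∉ P) ∧ n • t = 0) :
    (∀ ℓ ∈ P, ∀ x ∈ T'.comap π, ∃ y ∈ T'.comap π, ℓ • y = x) ∧
    ∃ s : TP →+ A, (∀ t : TP, π (s t) = (t : T)) ∧
      Function.Bijective (fun q : (T'.comap π) × TP => (q.1 : A) + s q.2) := by
  classical
  -- P-numbers
  have hcop : ∀ n q : ℕ, (∀ p : ℕ, p.Prime → p ∣ n → p ∈ P) → (∀ p : ℕ, p.Prime → p ∣ q → p ∉ P) →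
      Nat.Coprime q n := by
    intro n q hn hq
    apply Nat.coprime_of_dvd
    intro k hk hkq hkn
    exact hq k hk hkq (hn k hk hkn)
  -- (a)
  have partA : ∀ ℓ ∈ P, ∀ x ∈ T'.comap π, ∃ y ∈ T'.comap π, ℓ • y = x := by
    intro ℓ hℓ x hx
    rw [AddSubgroup.mem_comap, hT'] at hx
    obtain ⟨n, hn0, hnP, hnx⟩ := hx
    have hℓn : Nat.Coprime ℓ n := by
      rw [Nat.Prime.coprime_iff_not_dvd (hP ℓ hℓ)]
      intro hdvd
      exact hnP ℓ (hP ℓ hℓ) hdvd hℓ
    obtain ⟨a, b, hab⟩ := Nat.isCoprime_iff_coprime.2 hℓn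
    have hker : n • x ∈ π.ker := by rw [AddMonoidHom.mem_ker, map_nsmul, hnx]
    obtain ⟨y₁, hy₁, hy₁x⟩ := hD ℓ hℓ _ hker
    refine ⟨a • x + b • y₁, ?_, ?_⟩
    · rw [AddSubgroup.mem_comap, map_add, map_zsmul, map_zsmul, (AddMonoidHom.mem_ker).1 hy₁, smul_zero,
        add_zero]
      apply T'.zsmul_mem
      rw [hT']
      exact ⟨n, hn0, hnP, hnx⟩
    · have h1 : ((a * ℓ + b * n : ℤ)) • x = x := by rw [hab, one_smul]
      rw [add_smul, mul_smul, mul_smul, natCast_zsmul, natCast_zsmul] at h1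
      rw [smul_add, smul_comm ℓ a x, smul_comm ℓ b y₁, hy₁x]
      exact h1
  refine ⟨partA, ?_⟩
  -- kernel is divisible by P-numbers
  have kdiv : ∀ n : ℕ, 0 < n → (∀ p : ℕ, p.Prime → p ∣ n → p ∈ P) → ∀ x ∈ π.ker, ∃ y ∈ π.ker, n • y = x := by
    intro n
    induction n using induction_on_primes with
    | zero => intro h; exact absurd h (lt_irrefl 0)
    | one => intro _ _ x hx; exact ⟨x, hx, one_smul _ _⟩
    | prime_mul p a hp ih =>
      intro hpos hPn x hx
      have ha0 : 0 < a := Nat.pos_of_ne_zero (by rintro rfl; simp at hpos)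
      have hpP : p ∈ P := hPn p hp (dvd_mul_right p a)
      obtain ⟨y₁, hy₁, hy₁x⟩ := hD p hpP x hx
      obtain ⟨y, hy, hyy⟩ := ih ha0 (fun q hq hqa => hPn q hq (dvd_mul_of_dvd_right hqa p)) y₁ hy₁
      exact ⟨y, hy, by rw [mul_smul, hyy, hy₁x]⟩
  -- the P-torsion subgroup of A
  let AP : AddSubgroup A :=
    { carrier := {x | ∃ n : ℕ, 0 < n ∧ (∀ p : ℕ, p.Prime → p ∣ n → p ∈ P) ∧ n • x = 0}
      zero_mem' := ⟨1, one_pos, fun p hp h1 => absurd (Nat.dvd_one.1 h1) hp.ne_one, by simp⟩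
      add_mem' := by
        rintro x y ⟨n, hn0, hnP, hnx⟩ ⟨m, hm0, hmP, hmy⟩
        refine ⟨n * m, Nat.mul_pos hn0 hm0, ?_, ?_⟩
        · intro p hp hdvd
          rcases (Nat.Prime.dvd_mul hp).1 hdvd with h | h
          · exact hnP p hp h
          · exact hmP p hp h
        · rw [smul_add, mul_comm, mul_smul, hnx, smul_zero, mul_comm, mul_smul, hmy, smul_zero, add_zero]
      neg_mem' := by
        rintro x ⟨n, hn0, hnP, hnx⟩
        exact ⟨n, hn0, hnP, by rw [smul_neg, hnx, neg_zero]⟩ }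
  have hAP : ∀ x, x ∈ AP ↔ ∃ n : ℕ, 0 < n ∧ (∀ p : ℕ, p.Prime → p ∣ n → p ∈ P) ∧ n • x = 0 := fun x => Iff.rfl
  let Q : AddSubgroup A := AP ⊓ π.ker
  -- Q is divisible by primes
  have qprime : ∀ q : ℕ, q.Prime → ∀ x ∈ Q, ∃ y ∈ Q, q • y = x := by
    intro q hq x hx
    obtain ⟨hxAP, hxK⟩ := hx
    obtain ⟨n, hn0, hnP, hnx⟩ := (hAP x).1 hxAP
    by_cases hqP : q ∈ P
    · obtain ⟨y, hy, hyx⟩ := hD q hqP x hxK
      refine ⟨y, ⟨(hAP y).2 ⟨n * q, Nat.mul_pos hn0 hq.pos, ?_, ?_⟩, hy⟩, hyx⟩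
      · intro p hp hdvd
        rcases (Nat.Prime.dvd_mul hp).1 hdvd with h | h
        · exact hnP p hp h
        · rw [(Nat.prime_dvd_prime_iff_eq hp hq).1 h]; exact hqP
      · rw [mul_smul, hyx, hnx]
    · have hqn : Nat.Coprime q n := by
        rw [Nat.Prime.coprime_iff_not_dvd hq]
        intro hdvd
        exact hqP (hnP q hq hdvd)
      obtain ⟨a, ha⟩ := bezout_smul q n hqn x hnx
      exact ⟨a • x, Q.zsmul_mem ⟨hxAP, hxK⟩ a, ha⟩
  have qdiv : ∀ n : ℕ, n ≠ 0 → ∀ x ∈ Q, ∃ y ∈ Q, n • y = x := by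
    intro n
    induction n using induction_on_primes with
    | zero => intro h; exact absurd rfl h
    | one => intro _ x hx; exact ⟨x, hx, one_smul _ _⟩
    | prime_mul p a hp ih =>
      intro hne x hx
      have ha0 : a ≠ 0 := by rintro rfl; simp at hne
      obtain ⟨y₁, hy₁, hy₁x⟩ := qprime p hp x hx
      obtain ⟨y, hy, hyy⟩ := ih ha0 y₁ hy₁
      exact ⟨y, hy, by rw [mul_smul, hyy, hy₁x]⟩
  let _ : DivisibleBy Q ℕ := divisibleByOfSMulRightSurj Q ℕ (fun {n} hn x => by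
    obtain ⟨y, hy, hyx⟩ := qdiv n hn x.1 x.2
    exact ⟨⟨y, hy⟩, Subtype.ext hyx⟩)
  let _ : DivisibleBy Q ℤ := AddGroup.divisibleByIntOfDivisibleByNat Q
  have hBaer : Module.Baer ℤ Q := Module.Baer.of_divisible Q
  -- retraction
  obtain ⟨r, hr⟩ := hBaer.extension_property_addMonoidHom
    (AddSubgroup.inclusion (inf_le_left : Q ≤ AP)) (AddSubgroup.inclusion_injective _) (AddMonoidHom.id Q)
  have hr' : ∀ (x : AP) (hx : (x : A) ∈ π.ker), ((r x : Q) : A) = x := by
    intro x hx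
    have := congrArg (fun g => g ⟨x.1, ⟨x.2, hx⟩⟩) hr
    simp only [AddMonoidHom.comp_apply, AddMonoidHom.id_apply] at this
    have e : AddSubgroup.inclusion (inf_le_left : Q ≤ AP) ⟨x.1, ⟨x.2, hx⟩⟩ = x := Subtype.ext rfl
    rw [e] at this
    rw [this]
    rfl
  -- lifts
  have hlift : ∀ t : TP, ∃ a : AP, π a = (t : T) := by
    intro t
    obtain ⟨n, hn0, hnP, hnt⟩ := (hTP t).1 t.2
    obtain ⟨a₀, ha₀⟩ := hπ t
    have hk : n • a₀ ∈ π.ker := by rw [AddMonoidHom.mem_ker, map_nsmul, ha₀, hnt]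
    obtain ⟨c, hc, hcx⟩ := kdiv n hn0 hnP _ hk
    refine ⟨⟨a₀ - c, (hAP _).2 ⟨n, hn0, hnP, by rw [smul_sub, hcx, sub_self]⟩⟩, ?_⟩
    simp only [map_sub, ha₀, (AddMonoidHom.mem_ker).1 hc, sub_zero]
  choose c hc using hlift
  -- the section
  have hwd : ∀ (a a' : AP), π a = π a' → (a : A) - ((r a : Q) : A) = (a' : A) - ((r a' : Q) : A) := by
    intro a a' h
    have hk : ((a - a' : AP) : A) ∈ π.ker := by
      rw [AddMonoidHom.mem_ker, AddSubgroup.coe_sub, map_sub, h, sub_self]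
    have := hr' (a - a') hk
    rw [map_sub, AddSubgroup.coe_sub, AddSubgroup.coe_sub] at this
    rw [sub_eq_sub_iff_sub_eq_sub]
    exact this.symm
  let s : TP →+ A :=
    { toFun := fun t => (c t : A) - ((r (c t) : Q) : A)
      map_zero' := by
        have := hwd (c 0) 0 (by rw [hc]; simp)
        simpa using this
      map_add' := by
        intro t t'
        have := hwd (c (t + t')) (c t + c t') (by
          rw [hc, AddSubgroup.coe_add, AddSubgroup.coe_add, map_add, hc, hc])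
        rw [this, map_add, AddSubgroup.coe_add, AddSubgroup.coe_add]
        abel }
  have hs : ∀ t : TP, π (s t) = (t : T) := by
    intro t
    show π ((c t : A) - ((r (c t) : Q) : A)) = t
    rw [map_sub, hc, (AddMonoidHom.mem_ker).1 (r (c t)).2.2, sub_zero]
  refine ⟨s, hs, ?_, ?_⟩
  · -- injective
    rintro ⟨d, t⟩ ⟨d', t'⟩ h
    simp only at h
    have h1 := congrArg π h
    rw [map_add, map_add, hs, hs] at h1
    -- t - t' ∈ TP ∩ T'
    have h2 : (t : T) - t' = π d' - π d := by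
      rw [sub_eq_sub_iff_add_eq_add, add_comm, h1, add_comm]
    have h3 : ((t - t' : TP) : T) ∈ T' := by
      rw [AddSubgroup.coe_sub, h2]
      exact T'.sub_mem d'.2 d.2
    have h4 : ((t - t' : TP) : T) = 0 := by
      obtain ⟨n, hn0, hnP, hnt⟩ := (hTP _).1 (t - t').2
      obtain ⟨m, hm0, hmP, hmt⟩ := (hT' _).1 h3
      obtain ⟨a, ha⟩ := bezout_smul m n (hcop n m hnP hmP) _ hnt
      rw [← ha, smul_comm, hmt, smul_zero]
    have h5 : t = t' := by
      have : t - t' = 0 := Subtype.ext h4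
      exact sub_eq_zero.1 this
    subst h5
    have h6 : (d : A) = d' := add_right_cancel h
    rw [Subtype.ext h6]
  · -- surjective
    intro a
    obtain ⟨N, hN0, hNt⟩ := hT (π a)
    -- factor N
    have hfact : ∀ N : ℕ, 0 < N → ∃ n m : ℕ, N = n * m ∧ 0 < n ∧ 0 < m ∧
        (∀ p : ℕ, p.Prime → p ∣ n → p ∈ P) ∧ (∀ p : ℕ, p.Prime → p ∣ m → p ∉ P) := by
      intro N
      induction N using induction_on_primes with
      | zero => intro h; exact absurd h (lt_irrefl 0)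
      | one =>
        intro _
        exact ⟨1, 1, rfl, one_pos, one_pos, fun p hp h1 => absurd (Nat.dvd_one.1 h1) hp.ne_one,
          fun p hp h1 => absurd (Nat.dvd_one.1 h1) hp.ne_one⟩
      | prime_mul p b hp ih =>
        intro hpos
        have hb0 : 0 < b := Nat.pos_of_ne_zero (by rintro rfl; simp at hpos)
        obtain ⟨n, m, hnm, hn0, hm0, hnP, hmP⟩ := ih hb0
        by_cases hpP : p ∈ P
        · refine ⟨p * n, m, by rw [hnm]; ring, Nat.mul_pos hp.pos hn0, hm0, ?_, hmP⟩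
          intro q hq hdvd
          rcases (Nat.Prime.dvd_mul hq).1 hdvd with h | h
          · rw [(Nat.prime_dvd_prime_iff_eq hq hp).1 h]; exact hpP
          · exact hnP q hq h
        · refine ⟨n, p * m, by rw [hnm]; ring, hn0, Nat.mul_pos hp.pos hm0, hnP, ?_⟩
          intro q hq hdvd
          rcases (Nat.Prime.dvd_mul hq).1 hdvd with h | h
          · rw [(Nat.prime_dvd_prime_iff_eq hq hp).1 h]; exact hpP
          · exact hmP q hq h
    obtain ⟨n, m, hNnm, hn0, hm0, hnP, hmP⟩ := hfact N hN0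
    obtain ⟨u, v, huv⟩ := Nat.isCoprime_iff_coprime.2 (hcop n m hnP hmP)
    -- π a = (u*m) • π a + (v*n) • π a ; first is killed by n (in TP), second killed by m (in T')
    have h1 : (u * (m : ℤ)) • π a ∈ TP := by
      rw [hTP]
      refine ⟨n, hn0, hnP, ?_⟩
      rw [← natCast_zsmul, smul_smul]
      have : (n : ℤ) * (u * m) = u * ((n * m : ℕ) : ℤ) := by push_cast; ring
      rw [this, mul_smul, natCast_zsmul, ← hNnm, hNt, smul_zero]
    have h2 : (v * (n : ℤ)) • π a ∈ T' := by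
      rw [hT']
      refine ⟨m, hm0, hmP, ?_⟩
      rw [← natCast_zsmul, smul_smul]
      have : (m : ℤ) * (v * n) = v * ((n * m : ℕ) : ℤ) := by push_cast; ring
      rw [this, mul_smul, natCast_zsmul, ← hNnm, hNt, smul_zero]
    have h3 : π a = (u * (m : ℤ)) • π a + (v * (n : ℤ)) • π a := by
      rw [← add_smul, huv, one_smul]
    refine ⟨(⟨a - s ⟨_, h1⟩, ?_⟩, ⟨_, h1⟩), ?_⟩
    · rw [AddSubgroup.mem_comap, map_sub, hs]
      have : π a - (u * (m : ℤ)) • π a = (v * (n : ℤ)) • π a := by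
        rw [sub_eq_iff_eq_add, add_comm]; exact h3
      rw [this]; exact h2
    · simp

end Groth.Agent.S16343
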