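import Groth.Statements.S16344
import Mathlib

set_option autoImplicit false
universe u v
open IdeleMod

namespace Groth.Agent.S16344


theorem exists_compatible {ι : Type*} [Preorder ι] [IsDirected ι (· ≤ ·)]
    (G : ι → Type*) [∀ i, TopologicalSpace (G i)] [∀ i, CompactSpace (G i)] [∀ i, T2Space (G i)]
    (f : ∀ ⦃i j : ι⦄, i ≤ j → G j → G i) (hf : ∀ i j (h : i ≤ j), Continuous (f h))
    (hcomp : ∀ i j k (hij : i ≤ j) (hjk : j ≤ k) (x : G k), f hij (f hjk x) = f (hij.trans hjk) x)
    (Z : ∀ i, Set (G i)) (hZc : ∀ i, IsClosed (Z i)) (hZne : ∀ i, (Z i).Nonempty)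
    (hZf : ∀ i j (h : i ≤ j), ∀ z ∈ Z j, f h z ∈ Z i) :
    ∃ z : ∀ i, G i, (∀ i j (h : i ≤ j), f h (z j) = z i) ∧ ∀ i, z i ∈ Z i := by
  classical
  rcases isEmpty_or_nonempty ι with hι | hι
  · exact ⟨fun i => (hι.false i).elim, fun i => (hι.false i).elim, fun i => (hι.false i).elim⟩
  let t : {p : ι × ι // p.1 ≤ p.2} → Set (∀ i, G i) :=
    fun p => {z | f p.2 (z p.1.2) = z p.1.1 ∧ z p.1.1 ∈ Z p.1.1}
  have htc : ∀ p, IsClosed (t p) := by
    intro p
    apply IsClosed.inter
    · exact isClosed_eq ((hf _ _ p.2).comp (continuous_apply _)) (continuous_apply _)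
    · exact (hZc _).preimage (continuous_apply _)
  have hfin : ∀ u : Finset {p : ι × ι // p.1 ≤ p.2}, (Set.univ ∩ ⋂ p ∈ u, t p).Nonempty := by
    intro u
    obtain ⟨k, hk⟩ := Finset.exists_le (u.image (fun p => p.1.2))
    obtain ⟨zk, hzk⟩ := hZne k
    refine ⟨fun i => if h : i ≤ k then f h zk else (hZne i).some, Set.mem_univ _, ?_⟩
    simp only [Set.mem_iInter]
    intro p hp
    have h2 : p.1.2 ≤ k := hk _ (Finset.mem_image_of_mem _ hp)
    have h1 : p.1.1 ≤ k := p.2.trans h2
    simp only [t, Set.mem_setOf_eq, dif_pos h1, dif_pos h2]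
    exact ⟨hcomp _ _ _ _ _ _, hZf _ _ _ _ hzk⟩
  obtain ⟨z, -, hz⟩ := isCompact_univ.inter_iInter_nonempty t htc hfin
  simp only [Set.mem_iInter] at hz
  exact ⟨z, fun i j h => (hz ⟨(i, j), h⟩).1, fun i => (hz ⟨(i, i), le_refl i⟩).2⟩

/-- Let (G_i) be an inverse system, indexed by a directed preorder, of compact Hausdorff topological
abelian groups with continuous surjective transition maps, let G be its limit (the group of
compatible families) and let m be a natural number. Then the canonical map G/mG → lim G_i/mG_i is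
bijective: a compatible family that lies in mG_i at every index is m times a compatible family
(injectivity), and every family that is compatible modulo m agrees modulo m, index by index, with a
compatible family (surjectivity). -/
theorem result
    {ι : Type u} [Preorder ι] [IsDirected ι (· ≤ ·)]
    (G : ι → Type v) [∀ i, AddCommGroup (G i)] [∀ i, TopologicalSpace (G i)]
    [∀ i, IsTopologicalAddGroup (G i)] [∀ i, CompactSpace (G i)] [∀ i, T2Space (G i)]
    (f : ∀ ⦃i j : ι⦄, i ≤ j → (G j →+ G i)) (hf : ∀ i j (h : i ≤ j), Continuous (f h))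
    (hid : ∀ i (x : G i), f (le_refl i) x = x)
    (hcomp : ∀ i j k (hij : i ≤ j) (hjk : j ≤ k) (x : G k), f hij (f hjk x) = f (hij.trans hjk) x)
    (hsurj : ∀ i j (h : i ≤ j), Function.Surjective (f h)) (m : ℕ) :
    (∀ x : ∀ i, G i, (∀ i j (h : i ≤ j), f h (x j) = x i) → (∀ i, ∃ y : G i, m • y = x i) →
        ∃ z : ∀ i, G i, (∀ i j (h : i ≤ j), f h (z j) = z i) ∧ ∀ i, m • z i = x i) ∧
    (∀ y : ∀ i, G i, (∀ i j (h : i ≤ j), ∃ w : G i, f h (y j) - y i = m • w) →
        ∃ x : ∀ i, G i, (∀ i j (h : i ≤ j), f h (x j) = x i) ∧ ∀ i, ∃ w : G i, x i - y i = m • w) := by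
  constructor
  · intro x hx hdiv
    obtain ⟨z, hz1, hz2⟩ := exists_compatible G (fun i j h => (f h : G j → G i)) hf hcomp
      (fun i => {z | m • z = x i})
      (fun i => isClosed_eq (continuous_nsmul m) continuous_const)
      (fun i => hdiv i)
      (fun i j h z hz => by
        simp only [Set.mem_setOf_eq] at hz ⊢
        rw [← map_nsmul, hz, hx i j h])
    exact ⟨z, hz1, hz2⟩
  · intro y hy
    obtain ⟨x, hx1, hx2⟩ := exists_compatible G (fun i j h => (f h : G j → G i)) hf hcomp
      (fun i => {x | ∃ w : G i, x - y i = m • w})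
      (fun i => by
        have : {x | ∃ w : G i, x - y i = m • w} = Set.range (fun w : G i => y i + m • w) := by
          ext x
          simp only [Set.mem_setOf_eq, Set.mem_range]
          constructor
          · rintro ⟨w, hw⟩; exact ⟨w, by rw [← hw]; abel⟩
          · rintro ⟨w, rfl⟩; exact ⟨w, by abel⟩
        rw [this]
        exact (isCompact_range (continuous_const.add (continuous_nsmul m))).isClosed)
      (fun i => ⟨y i, 0, by simp⟩)
      (fun i j h x hx => by
        obtain ⟨w, hw⟩ := hx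
        obtain ⟨w', hw'⟩ := hy i j h
        refine ⟨f h w + w', ?_⟩
        have : f h x - y i = f h (x - y j) + (f h (y j) - y i) := by rw [map_sub]; abel
        rw [this, hw, hw', map_nsmul, smul_add])
    exact ⟨x, hx1, hx2⟩

end Groth.Agent.S16344
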