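import Groth.Statements.S16351
import Mathlib

set_option autoImplicit false
universe u
open Cubic

namespace Groth.Agent.S16351

/-- Let K be a field of characteristic zero and S = V(F) ⊂ P^3_K a cone over a plane cubic curve C,
normalised so that the vertex is [1 : 0 : 0 : 0], i.e. F is a homogeneous cubic in K[x_0, …, x_3]
not involving x_0 and C = V(F) in the plane P^2 of the coordinates x_1, x_2, x_3. If C has five
K-rational points no three of which are collinear, then S has five K-rational points in general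
position (no four coplanar: any four representing vectors linearly independent). -/
theorem result (K : Type u) [Field K] [CharZero K]
    (G : MvPolynomial (Fin 3) K) (hG : G.IsHomogeneous 3) (F : MvPolynomial (Fin 4) K)
    (hF : F = MvPolynomial.rename Fin.succ G)
    (b : Fin 5 → (Fin 3 → K)) (hb : ∀ j : Fin 5, MvPolynomial.eval (b j) G = 0)
    (h3 : ∀ i j l : Fin 5, i ≠ j → j ≠ l → i ≠ l → LinearIndependent K ![b i, b j, b l]) :
    ∃ p : Fin 5 → (Fin 4 → K), (∀ j : Fin 5, MvPolynomial.eval (p j) F = 0) ∧
      ∀ j : Fin 5, LinearIndependent K (fun i : Fin 4 => p (j.succAbove i)) := by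
  classical
  -- coordinates of `b 4` in three bases
  have hcoord : ∀ i j l : Fin 5, i ≠ j → j ≠ l → i ≠ l → ∀ v : Fin 3 → K,
      ∃ α β γ : K, v = α • b i + β • b j + γ • b l := by
    intro i j l hij hjl hil v
    have hli := h3 i j l hij hjl hil
    let B := basisOfLinearIndependentOfCardEqFinrank hli (by simp)
    have hB : ∀ m, B m = ![b i, b j, b l] m := fun m => by
      simp [B, coe_basisOfLinearIndependentOfCardEqFinrank]
    refine ⟨B.repr v 0, B.repr v 1, B.repr v 2, ?_⟩
    have := B.sum_repr v
    rw [Fin.sum_univ_three, hB, hB, hB] at this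
    simpa using this.symm
  obtain ⟨α₁, β₁, γ₁, e1⟩ := hcoord 0 2 3 (by decide) (by decide) (by decide) (b 4)
  obtain ⟨α₂, β₂, γ₂, e2⟩ := hcoord 0 1 3 (by decide) (by decide) (by decide) (b 4)
  obtain ⟨α₃, β₃, γ₃, e3⟩ := hcoord 0 1 2 (by decide) (by decide) (by decide) (b 4)
  obtain ⟨x, hx⟩ := Infinite.exists_notMem_finset ({0, α₁, α₂, α₃} : Finset K)
  simp only [Finset.mem_insert, Finset.mem_singleton, not_or] at hx
  obtain ⟨hx0, hx1, hx2, hx3⟩ := hx
  let t : Fin 5 → K := ![1, 0, 0, 0, x]
  refine ⟨fun j => Fin.cons (t j) (b j), ?_, ?_⟩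
  · intro j
    rw [hF, MvPolynomial.eval_rename]
    have : (Fin.cons (t j) (b j) : Fin 4 → K) ∘ Fin.succ = b j := by
      funext i; simp
    rw [this]; exact hb j
  · -- independence in `K³`
    have ind : ∀ i j l : Fin 5, i ≠ j → j ≠ l → i ≠ l → ∀ c₁ c₂ c₃ : K,
        c₁ • b i + c₂ • b j + c₃ • b l = 0 → c₁ = 0 ∧ c₂ = 0 ∧ c₃ = 0 := by
      intro i j l hij hjl hil c₁ c₂ c₃ h
      have hli := h3 i j l hij hjl hil
      rw [Fintype.linearIndependent_iff] at hli
      have := hli ![c₁, c₂, c₃] (by rw [Fin.sum_univ_three]; simpa using h)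
      exact ⟨this 0, this 1, this 2⟩
    -- split a relation into first coordinate and the rest
    have split : ∀ (σ : Fin 4 → Fin 5) (g : Fin 4 → K),
        ∑ i, g i • (Fin.cons (t (σ i)) (b (σ i)) : Fin 4 → K) = 0 →
        ∑ i, g i * t (σ i) = 0 ∧ ∑ i, g i • b (σ i) = 0 := by
      intro σ g h
      constructor
      · have := congrFun h 0
        simpa [Finset.sum_apply] using this
      · funext m
        have := congrFun h m.succ
        simpa [Finset.sum_apply] using this
    intro j
    rw [Fintype.linearIndependent_iff]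
    intro g hg
    obtain ⟨hfirst, hrest⟩ := split (fun i => j.succAbove i) g hg
    rw [Fin.sum_univ_four] at hfirst hrest
    fin_cases j
    · -- omit 0 : indices 1,2,3,4
      have s0 : (0 : Fin 5).succAbove (0 : Fin 4) = 1 := by decide
      have s1 : (0 : Fin 5).succAbove (1 : Fin 4) = 2 := by decide
      have s2 : (0 : Fin 5).succAbove (2 : Fin 4) = 3 := by decide
      have s3 : (0 : Fin 5).succAbove (3 : Fin 4) = 4 := by decide
      simp only [Fin.zero_eta, s0, s1, s2, s3] at hfirst hrest
      simp [t] at hfirst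
      have g3 : g 3 = 0 := hfirst.resolve_right hx0
      rw [g3, zero_smul, add_zero] at hrest
      obtain ⟨a1, a2, a3⟩ := ind 1 2 3 (by decide) (by decide) (by decide) _ _ _ hrest
      intro i; fin_cases i <;> assumption
    · -- omit 1 : indices 0,2,3,4
      have s0 : (1 : Fin 5).succAbove (0 : Fin 4) = 0 := by decide
      have s1 : (1 : Fin 5).succAbove (1 : Fin 4) = 2 := by decide
      have s2 : (1 : Fin 5).succAbove (2 : Fin 4) = 3 := by decide
      have s3 : (1 : Fin 5).succAbove (3 : Fin 4) = 4 := by decide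
      simp only [Fin.mk_one, s0, s1, s2, s3] at hfirst hrest
      simp [t] at hfirst
      have g0 : g 0 = -(g 3 * x) := by linear_combination hfirst
      rw [e1, g0] at hrest
      have h' : (g 3 * (α₁ - x)) • b 0 + (g 1 + g 3 * β₁) • b 2 + (g 2 + g 3 * γ₁) • b 3 = 0 := by
        rw [← hrest]; module
      obtain ⟨a1, a2, a3⟩ := ind 0 2 3 (by decide) (by decide) (by decide) _ _ _ h'
      have g3 : g 3 = 0 := (mul_eq_zero.mp a1).resolve_right (sub_ne_zero.mpr (Ne.symm hx1))
      have g1 : g 1 = 0 := by rw [g3] at a2; simpa using a2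
      have g2 : g 2 = 0 := by rw [g3] at a3; simpa using a3
      have g0' : g 0 = 0 := by rw [g0, g3]; ring
      intro i; fin_cases i <;> assumption
    · -- omit 2 : indices 0,1,3,4
      have s0 : (2 : Fin 5).succAbove (0 : Fin 4) = 0 := by decide
      have s1 : (2 : Fin 5).succAbove (1 : Fin 4) = 1 := by decide
      have s2 : (2 : Fin 5).succAbove (2 : Fin 4) = 3 := by decide
      have s3 : (2 : Fin 5).succAbove (3 : Fin 4) = 4 := by decide
      have e2' : (⟨2, by decide⟩ : Fin 5) = 2 := rfl
      simp only [e2', s0, s1, s2, s3] at hfirst hrest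
      simp [t] at hfirst
      have g0 : g 0 = -(g 3 * x) := by linear_combination hfirst
      rw [e2, g0] at hrest
      have h' : (g 3 * (α₂ - x)) • b 0 + (g 1 + g 3 * β₂) • b 1 + (g 2 + g 3 * γ₂) • b 3 = 0 := by
        rw [← hrest]; module
      obtain ⟨a1, a2, a3⟩ := ind 0 1 3 (by decide) (by decide) (by decide) _ _ _ h'
      have g3 : g 3 = 0 := (mul_eq_zero.mp a1).resolve_right (sub_ne_zero.mpr (Ne.symm hx2))
      have g1 : g 1 = 0 := by rw [g3] at a2; simpa using a2
      have g2 : g 2 = 0 := by rw [g3] at a3; simpa using a3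
      have g0' : g 0 = 0 := by rw [g0, g3]; ring
      intro i; fin_cases i <;> assumption
    · -- omit 3 : indices 0,1,2,4
      have s0 : (3 : Fin 5).succAbove (0 : Fin 4) = 0 := by decide
      have s1 : (3 : Fin 5).succAbove (1 : Fin 4) = 1 := by decide
      have s2 : (3 : Fin 5).succAbove (2 : Fin 4) = 2 := by decide
      have s3 : (3 : Fin 5).succAbove (3 : Fin 4) = 4 := by decide
      have e3' : (⟨3, by decide⟩ : Fin 5) = 3 := rfl
      simp only [e3', s0, s1, s2, s3] at hfirst hrest
      simp [t] at hfirst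
      have g0 : g 0 = -(g 3 * x) := by linear_combination hfirst
      rw [e3, g0] at hrest
      have h' : (g 3 * (α₃ - x)) • b 0 + (g 1 + g 3 * β₃) • b 1 + (g 2 + g 3 * γ₃) • b 2 = 0 := by
        rw [← hrest]; module
      obtain ⟨a1, a2, a3⟩ := ind 0 1 2 (by decide) (by decide) (by decide) _ _ _ h'
      have g3 : g 3 = 0 := (mul_eq_zero.mp a1).resolve_right (sub_ne_zero.mpr (Ne.symm hx3))
      have g1 : g 1 = 0 := by rw [g3] at a2; simpa using a2
      have g2 : g 2 = 0 := by rw [g3] at a3; simpa using a3
      have g0' : g 0 = 0 := by rw [g0, g3]; ring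
      intro i; fin_cases i <;> assumption
    · -- omit 4 : indices 0,1,2,3
      have s0 : (4 : Fin 5).succAbove (0 : Fin 4) = 0 := by decide
      have s1 : (4 : Fin 5).succAbove (1 : Fin 4) = 1 := by decide
      have s2 : (4 : Fin 5).succAbove (2 : Fin 4) = 2 := by decide
      have s3 : (4 : Fin 5).succAbove (3 : Fin 4) = 3 := by decide
      have e4' : (⟨4, by decide⟩ : Fin 5) = 4 := rfl
      simp only [e4', s0, s1, s2, s3] at hfirst hrest
      simp [t] at hfirst
      rw [hfirst, zero_smul, zero_add] at hrest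
      obtain ⟨a1, a2, a3⟩ := ind 1 2 3 (by decide) (by decide) (by decide) _ _ _ hrest
      intro i; fin_cases i <;> assumption

end Groth.Agent.S16351
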