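import Groth.Statements.S16352
import Mathlib
import Groth.Agent.Lib.helper27.CubicForm
import Groth.Agent.Lib.helper27.CubicTri
import Groth.Agent.Lib.helper27.CubicTP

set_option autoImplicit false
universe u
open Cubic
open Groth.Agent.Lib.helper27

namespace Groth.Agent.S16352

/-- Let K be an algebraically closed field of characteristic zero and S = V(F) ⊂ P^3_K a cubic surface
which is irreducible and not a cone (no nonzero vector v has Σ_i v_i ∂F/∂x_i = 0). Let a be a smooth
point of S which is not a T-point: with ℓ = Σ_i ∂F/∂x_i(a) · x_i the (nonzero) linear form of the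
tangent plane T_a S, F is not congruent modulo ℓ to a product of three linear forms (i.e. T_a S ∩ S
is not set-theoretically a union of lines). Let P = Σ_i a_i ∂F/∂x_i be the first polar of a. Then
V(P) ∩ T_a S is a union of at most two lines through a, and every line through a lying on S lies in
V(P) ∩ T_a S; lines are 2-dimensional subspaces of K^4 and T_a S is the 3-dimensional subspace where
ℓ vanishes. -/
theorem result (K : Type u) [Field K] [IsAlgClosed K] [CharZero K]
    (F : MvPolynomial (Fin 4) K) (hF : F.IsHomogeneous 3) (hirr : Irreducible F)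
    (hcone : ¬ ∃ v : Fin 4 → K, v ≠ 0 ∧ ∑ i : Fin 4, v i • MvPolynomial.pderiv i F = 0)
    (a : Fin 4 → K) (ha : a ≠ 0) (hFa : MvPolynomial.eval a F = 0)
    (hsm : ∃ i : Fin 4, MvPolynomial.eval a (MvPolynomial.pderiv i F) ≠ 0)
    (ℓ : MvPolynomial (Fin 4) K)
    (hℓ : ℓ = ∑ i : Fin 4, MvPolynomial.C (MvPolynomial.eval a (MvPolynomial.pderiv i F)) * MvPolynomial.X i)
    (hT : ¬ ∃ L₁ L₂ L₃ : MvPolynomial (Fin 4) K, L₁.IsHomogeneous 1 ∧ L₂.IsHomogeneous 1 ∧ L₃.IsHomogeneous 1 ∧
      F - L₁ * L₂ * L₃ ∈ Ideal.span {ℓ})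
    (P : MvPolynomial (Fin 4) K) (hP : P = ∑ i : Fin 4, a i • MvPolynomial.pderiv i F)
    (H : Submodule K (Fin 4 → K)) (hH : ∀ x : Fin 4 → K, x ∈ H ↔ MvPolynomial.eval x ℓ = 0) :
    (∃ U₁ U₂ : Submodule K (Fin 4 → K), Module.finrank K ↥U₁ = 2 ∧ Module.finrank K ↥U₂ = 2 ∧ a ∈ U₁ ∧ a ∈ U₂ ∧
        U₁ ≤ H ∧ U₂ ≤ H ∧ {x : Fin 4 → K | x ∈ H ∧ MvPolynomial.eval x P = 0} = (U₁ : Set (Fin 4 → K)) ∪ (U₂ : Set (Fin 4 → K))) ∧
      ∀ U : Submodule K (Fin 4 → K), a ∈ U → Module.finrank K ↥U = 2 → (∀ u ∈ U, MvPolynomial.eval u F = 0) →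
        U ≤ H ∧ ∀ u ∈ U, MvPolynomial.eval u P = 0 := by
  classical
  have s12 : ∀ x y z, CubicForm.tri F x y z = CubicForm.tri F y x z := CubicForm.tri_swap12 F
  have s23 : ∀ x y z, CubicForm.tri F x y z = CubicForm.tri F x z y := CubicForm.tri_swap23 F
  have h3 : (3 : K) ≠ 0 := by norm_num
  have hsum : ∀ x : Fin 4 → K, x = ∑ i, x i • (Pi.single i (1 : K) : Fin 4 → K) := by
    intro x; ext l; simp [Finset.sum_apply, Pi.single_apply]
  have hgrad : ∀ (i : Fin 4) (x : Fin 4 → K), MvPolynomial.eval x (MvPolynomial.pderiv i F)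
      = 3 * CubicForm.tri F x x (Pi.single i 1) := by
    intro i x
    rw [← CubicForm.tri_grad hF i x, s12 (Pi.single i 1) x x, s23 x (Pi.single i 1) x]
  have hℓx : ∀ x, MvPolynomial.eval x ℓ = 3 * CubicForm.tri F a a x := by
    intro x
    rw [hℓ]
    simp only [map_sum, map_mul, MvPolynomial.eval_C, MvPolynomial.eval_X]
    conv_rhs => rw [hsum x]
    simp only [map_sum, map_smul, smul_eq_mul, Finset.mul_sum]
    refine Finset.sum_congr rfl fun i _ => ?_
    rw [hgrad]; ring
  have hPx : ∀ x, MvPolynomial.eval x P = 3 * CubicForm.tri F a x x := by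
    intro x
    rw [hP]
    simp only [map_sum, MvPolynomial.smul_eval]
    have : CubicForm.tri F a x x = CubicForm.tri F x x a := by rw [s12 a x x, s23 x a x]
    rw [this]
    conv_rhs => rw [hsum a]
    simp only [map_sum, map_smul, smul_eq_mul, Finset.mul_sum]
    refine Finset.sum_congr rfl fun i _ => ?_
    rw [hgrad]; ring
  have hdiag : ∀ x, CubicForm.tri F x x x = MvPolynomial.eval x F := CubicForm.tri_diag hF
  have hFa' : CubicForm.tri F a a a = 0 := by rw [hdiag, hFa]
  obtain ⟨i, hi⟩ := hsm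
  have hn : CubicForm.tri F a a (Pi.single i 1) ≠ 0 := by
    rw [hgrad] at hi
    exact fun h => hi (by rw [h, mul_zero])
  have hHmem : ∀ x, x ∈ H ↔ CubicForm.tri F a a x = 0 := by
    intro x
    rw [hH, hℓx]
    constructor
    · intro h; exact (mul_eq_zero.mp h).resolve_left h3
    · intro h; rw [h, mul_zero]
  constructor
  · -- part 1
    have hnotT : ¬ ∃ φ₁ φ₂ φ₃ : (Fin 4 → K) →ₗ[K] K, ∀ x, CubicForm.tri F a a x = 0 →
        CubicForm.tri F x x x = φ₁ x * φ₂ x * φ₃ x := by
      rintro ⟨φ₁, φ₂, φ₃, hφ⟩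
      apply hT
      refine ⟨CubicTP.linform φ₁, CubicTP.linform φ₂, CubicTP.linform φ₃,
        CubicTP.linform_isHomogeneous _, CubicTP.linform_isHomogeneous _,
        CubicTP.linform_isHomogeneous _, ?_⟩
      have hℓhom : ℓ.IsHomogeneous 1 := by
        rw [hℓ]
        apply MvPolynomial.IsHomogeneous.sum
        intro j _
        have := (MvPolynomial.isHomogeneous_C (Fin 4)
          (MvPolynomial.eval a (MvPolynomial.pderiv j F))).mul (MvPolynomial.isHomogeneous_X K j)
        simpa using this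
      have hℓ0 : ℓ ≠ 0 := by
        intro h0
        have := hℓx (Pi.single i 1)
        rw [h0, map_zero] at this
        exact hn ((mul_eq_zero.mp this.symm).resolve_left h3)
      apply CubicTP.mem_span_of_vanish ℓ (CubicTP.irreducible_of_linear ℓ hℓhom hℓ0)
      intro x hx
      rw [hℓx] at hx
      have hx' := (mul_eq_zero.mp hx).resolve_left h3
      rw [map_sub, map_mul, map_mul, CubicTP.eval_linform, CubicTP.eval_linform,
        CubicTP.eval_linform, ← hdiag, hφ x hx', sub_self]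
    obtain ⟨U₁, U₂, h1, h2, ha1, ha2, hU1, hU2, hset⟩ :=
      CubicTP.polar_tangent_lines (by simp) (CubicForm.tri F) s12 s23 a ha hFa' _ hn hnotT
    refine ⟨U₁, U₂, h1, h2, ha1, ha2, ?_, ?_, ?_⟩
    · intro x hx; exact (hHmem x).mpr (LinearMap.mem_ker.mp (hU1 hx))
    · intro x hx; exact (hHmem x).mpr (LinearMap.mem_ker.mp (hU2 hx))
    · rw [← hset]
      ext x
      simp only [Set.mem_ofPred_eq]
      rw [hHmem, hPx]
      constructor
      · rintro ⟨h, h'⟩; exact ⟨h, (mul_eq_zero.mp h').resolve_left h3⟩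
      · rintro ⟨h, h'⟩; exact ⟨h, by rw [h', mul_zero]⟩
  · -- part 2
    intro U haU hUfr hUF
    have hUT : ∀ u ∈ U, CubicForm.tri F u u u = 0 := fun u hu => by rw [hdiag, hUF u hu]
    constructor
    · intro u hu
      rw [hHmem]
      exact CubicTri.tri_eq_zero_of_diag (CubicForm.tri F) s12 s23 U hUT haU haU hu
    · intro u hu
      rw [hPx, CubicTri.tri_eq_zero_of_diag (CubicForm.tri F) s12 s23 U hUT haU hu hu, mul_zero]

end Groth.Agent.S16352
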