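import Groth.Statements.S16353
import Mathlib

set_option autoImplicit false
universe u
open DegLoci

namespace Groth.Agent.S16353

namespace S16353aux
open MvPolynomial W4c3degenlocivb

variable {k : Type u} [Field k] {m : ℕ}

/-- the combinatorial factor -/
def cc (β α : Fin m →₀ ℕ) : ℕ := β.support.prod fun i => Nat.descFactorial (β i) (α i)

theorem cc_eq (β α : Fin m →₀ ℕ) (h : α ≤ β) : cc β α = ∏ i, (β i).descFactorial (α i) := by
  unfold cc
  refine Finset.prod_subset (Finset.subset_univ _) fun i _ hi => ?_
  rw [Finsupp.mem_support_iff, not_not] at hi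
  have : α i = 0 := Nat.le_zero.1 (hi ▸ h i)
  rw [hi, this, Nat.descFactorial_zero]

theorem coeff_contract (D G : MvPolynomial (Fin m) k) (γ : Fin m →₀ ℕ) :
    coeff γ (contract D G) =
      ∑ α ∈ D.support, coeff α D * coeff (α + γ) G * (cc (α + γ) α : k) := by
  classical
  unfold contract
  rw [coeff_sum]
  refine Finset.sum_congr rfl fun α _ => ?_
  rw [coeff_sum]
  have h1 : ∀ β ∈ G.support, coeff γ (if α ≤ β then monomial (β - α)
      (coeff α D * coeff β G * ((β.support.prod fun i => Nat.descFactorial (β i) (α i) : ℕ) : k))
      else 0) = if β = α + γ then coeff α D * coeff β G * (cc β α : k) else 0 := by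
    intro β _
    by_cases hle : α ≤ β
    · rw [if_pos hle, coeff_monomial]
      by_cases hb : β = α + γ
      · rw [if_pos hb, if_pos (by rw [hb]; simp)]
        rfl
      · rw [if_neg hb, if_neg]
        intro h
        apply hb
        rw [← h, add_tsub_cancel_of_le hle]
    · rw [if_neg hle, coeff_zero, if_neg]
      intro h
      apply hle
      rw [h]
      exact le_self_add
  rw [Finset.sum_congr rfl h1, Finset.sum_ite_eq']
  split_ifs with h
  · rfl
  · rw [mem_support_iff, not_not] at h
    rw [h, mul_zero, zero_mul]

theorem nat_id (g a e : ℕ) : (g + a + e).descFactorial g * (a + e).descFactorial a =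
    (g + e).descFactorial g * (a + g + e).descFactorial a := by
  have he : 0 < e.factorial := Nat.factorial_pos e
  apply Nat.eq_of_mul_eq_mul_left he
  have h1 : e.factorial * (a + e).descFactorial a = (a + e).factorial := by
    have := Nat.factorial_mul_descFactorial (n := a + e) (k := a) (by omega)
    rwa [Nat.add_sub_cancel_left] at this
  have h2 : (a + e).factorial * (g + a + e).descFactorial g = (g + a + e).factorial := by
    have := Nat.factorial_mul_descFactorial (n := g + a + e) (k := g) (by omega)
    have h : g + a + e - g = a + e := by omega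
    rwa [h] at this
  have h3 : e.factorial * (g + e).descFactorial g = (g + e).factorial := by
    have := Nat.factorial_mul_descFactorial (n := g + e) (k := g) (by omega)
    rwa [Nat.add_sub_cancel_left] at this
  have h4 : (g + e).factorial * (a + g + e).descFactorial a = (a + g + e).factorial := by
    have := Nat.factorial_mul_descFactorial (n := a + g + e) (k := a) (by omega)
    have h : a + g + e - a = g + e := by omega
    rwa [h] at this
  calc e.factorial * ((g + a + e).descFactorial g * (a + e).descFactorial a)
      = (e.factorial * (a + e).descFactorial a) * (g + a + e).descFactorial g := by ring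
    _ = (g + a + e).factorial := by rw [h1, h2]
    _ = (a + g + e).factorial := by rw [add_comm g a]
    _ = (e.factorial * (g + e).descFactorial g) * (a + g + e).descFactorial a := by rw [h3, h4]
    _ = e.factorial * ((g + e).descFactorial g * (a + g + e).descFactorial a) := by ring

theorem cc_id (γ α ε : Fin m →₀ ℕ) :
    cc (α + ε + γ) γ * cc (α + ε) α = cc (γ + ε) γ * cc (α + (γ + ε)) α := by
  rw [cc_eq _ _ (le_add_self), cc_eq _ _ (le_self_add), cc_eq _ _ (le_self_add),
    cc_eq _ _ (le_self_add), ← Finset.prod_mul_distrib, ← Finset.prod_mul_distrib]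
  refine Finset.prod_congr rfl fun i _ => ?_
  simp only [Finsupp.add_apply]
  have := nat_id (γ i) (α i) (ε i)
  have e1 : α i + ε i + γ i = γ i + α i + ε i := by ring
  have e2 : α i + (γ i + ε i) = α i + γ i + ε i := by ring
  rw [e1, e2]
  exact this

theorem coeff_contract_monomial (F : MvPolynomial (Fin m) k) (γ δ : Fin m →₀ ℕ) :
    coeff δ (contract (monomial γ (1 : k)) F) = coeff (γ + δ) F * (cc (γ + δ) γ : k) := by
  classical
  rw [coeff_contract, support_monomial, if_neg one_ne_zero, Finset.sum_singleton, coeff_monomial,
    if_pos rfl, one_mul]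

theorem lemmaC (D F : MvPolynomial (Fin m) k) (γ ε : Fin m →₀ ℕ) :
    coeff ε (contract D (contract (monomial γ (1 : k)) F)) =
      (cc (γ + ε) γ : k) * coeff (γ + ε) (contract D F) := by
  rw [coeff_contract, coeff_contract, Finset.mul_sum]
  refine Finset.sum_congr rfl fun α _ => ?_
  rw [coeff_contract_monomial]
  have h := cc_id γ α ε
  have h' : ((cc (α + ε + γ) γ : ℕ) : k) * (cc (α + ε) α : k) =
      (cc (γ + ε) γ : k) * (cc (α + (γ + ε)) α : k) := by
    exact_mod_cast congrArg (Nat.cast (R := k)) h
  have e1 : γ + (α + ε) = α + ε + γ := by abel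
  have e2 : α + (γ + ε) = α + ε + γ := by abel
  rw [e2] at h'
  rw [e1, e2]
  calc coeff α D * (coeff (α + ε + γ) F * (cc (α + ε + γ) γ : k)) * (cc (α + ε) α : k)
      = coeff α D * coeff (α + ε + γ) F * ((cc (α + ε + γ) γ : k) * (cc (α + ε) α : k)) := by ring
    _ = coeff α D * coeff (α + ε + γ) F * ((cc (γ + ε) γ : k) * (cc (α + ε + γ) α : k)) := by
        rw [h']
    _ = _ := by ring

end S16353aux

open S16353aux MvPolynomial in

/-- Let k be a field of characteristic zero, R = k[y_0, …, y_{m−1}] acting on S = k[∂_0, …, ∂_{m−1}] by
apolarity (y_i acts as the derivative with respect to ∂_i), F ∈ S homogeneous of degree e and d ≤ e.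
Then the degree-d part of the apolar ideal of F is the orthogonal complement of the partial
derivatives of F of order e − d: a homogeneous D ∈ R_d satisfies D(F) = 0 if and only if D(y^α(F)) =
0 for every multi-index α with |α| = e − d (each D(y^α(F)) being a constant, the value of the
apolarity pairing of D with y^α(F)). -/
theorem result (k : Type u) [Field k] [CharZero k] (m : ℕ)
    (F : MvPolynomial (Fin m) k) (e : ℕ) (hF : F.IsHomogeneous e) (d : ℕ) (hd : d ≤ e)
    (D : MvPolynomial (Fin m) k) (hD : D.IsHomogeneous d) :
    W4c3degenlocivb.contract D F = 0 ↔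
      ∀ α : Fin m →₀ ℕ, α.degree = e - d → W4c3degenlocivb.contract D (W4c3degenlocivb.contract (MvPolynomial.monomial α 1) F) = 0 := by
  classical
  constructor
  · intro h γ _
    ext ε
    rw [lemmaC, h, coeff_zero, mul_zero, coeff_zero]
  · intro h
    ext γ
    rw [coeff_zero]
    by_cases hγ : γ.degree = e - d
    · have h1 := congrArg (coeff 0) (h γ hγ)
      rw [lemmaC, coeff_zero, add_zero] at h1
      rcases mul_eq_zero.1 h1 with h2 | h2
      · exfalso
        have h3 : cc γ γ ≠ 0 := by
          rw [cc_eq _ _ le_rfl]
          refine Finset.prod_ne_zero_iff.2 fun i _ => ?_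
          rw [Nat.descFactorial_self]
          exact Nat.factorial_ne_zero _
        exact h3 (by exact_mod_cast h2)
      · exact h2
    · rw [coeff_contract]
      refine Finset.sum_eq_zero fun α hα => ?_
      have hα' : α.degree = d := by
        rw [Finsupp.degree_eq_weight_one]
        exact hD (mem_support_iff.1 hα)
      have : coeff (α + γ) F = 0 := by
        by_contra hne
        have h2 := hF hne
        have h3 : (α + γ).degree = e := by rw [Finsupp.degree_eq_weight_one]; exact h2
        rw [map_add, hα'] at h3
        exact hγ (by omega)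
      rw [this, mul_zero, zero_mul]

end Groth.Agent.S16353
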