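import Groth.Statements.S16356
import Mathlib

set_option autoImplicit false
universe u
open OrdAV

namespace Groth.Agent.S16356


open WittVector in
theorem exists_p_mul (p : ℕ) [Fact p.Prime] (k : Type*) [Field k] [CharP k p] [PerfectRing k p]
    (y : WittVector p k) (hy : y.coeff 0 = 0) : ∃ z : WittVector p k, y = (p : WittVector p k) * z := by
  have h1 : y = verschiebung (y.shift 1) := by
    have := eq_iterate_verschiebung (x := y) (n := 1) (fun i hi => by
      have : i = 0 := by omega
      rw [this]; exact hy)
    simpa using this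
  obtain ⟨u, hu⟩ := (WittVector.frobenius_bijective p k).2 (y.shift 1)
  refine ⟨u, ?_⟩
  rw [h1, ← hu, verschiebung_frobenius, mul_comm]

theorem p_ne_zero' (p : ℕ) [Fact p.Prime] (k : Type*) [Field k] [CharP k p] :
    (p : WittVector p k) ≠ 0 := by
  intro h
  have := WittVector.coeff_p_pow (p := p) (R := k) 1
  rw [pow_one, h] at this
  simp at this

theorem core (p : ℕ) [Fact p.Prime] (hp : p ≠ 2) (k : Type*) [Field k] [CharP k p] [PerfectRing k p]
    (w : WittVector p k) (hw : w ^ p = 1) (h0 : w.coeff 0 = 1) : w = 1 := by
  have hy : (w - 1).coeff 0 = 0 := by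
    have : WittVector.constantCoeff (w - 1) = 0 := by
      rw [map_sub, map_one]
      show w.coeff 0 - 1 = 0
      rw [h0, sub_self]
    exact this
  obtain ⟨z, hz⟩ := exists_p_mul p k _ hy
  have hwz : w = 1 + (p : WittVector p k) * z := by rw [← hz]; ring
  -- expansion of powers
  have hpow : ∀ i : ℕ, ∃ t : WittVector p k,
      w ^ i = 1 + (i : WittVector p k) * ((p : WittVector p k) * z) + (p : WittVector p k) ^ 2 * t := by
    intro i
    induction i with
    | zero => exact ⟨0, by simp⟩
    | succ i ih =>
      obtain ⟨t, ht⟩ := ih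
      refine ⟨t + (i : WittVector p k) * z ^ 2 + (p : WittVector p k) * t * z, ?_⟩
      rw [pow_succ, ht]
      conv_lhs => rw [hwz]
      push_cast
      ring
  choose t ht using hpow
  -- sum
  have hodd : ∃ m : ℕ, p - 1 = 2 * m := by
    have hp' := (Fact.out : p.Prime)
    rcases hp'.eq_two_or_odd with h | h
    · exact absurd h hp
    · exact ⟨(p - 1) / 2, by omega⟩
  obtain ⟨m, hm⟩ := hodd
  have hsumid : (∑ i ∈ Finset.range p, i) = p * m := by
    have := Finset.sum_range_id_mul_two p
    rw [hm] at this
    nlinarith
  have hsum : (∑ i ∈ Finset.range p, w ^ i) =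
      (p : WittVector p k) * (1 + (p : WittVector p k) * ((m : WittVector p k) * z + ∑ i ∈ Finset.range p, t i)) := by
    have h1 : (∑ i ∈ Finset.range p, w ^ i) = ∑ i ∈ Finset.range p,
        (1 + (i : WittVector p k) * ((p : WittVector p k) * z) + (p : WittVector p k) ^ 2 * t i) :=
      Finset.sum_congr rfl (fun i _ => ht i)
    rw [h1, Finset.sum_add_distrib, Finset.sum_add_distrib, ← Finset.sum_mul, ← Finset.mul_sum,
      ← Nat.cast_sum, hsumid]
    simp only [Finset.sum_const, Finset.card_range, nsmul_eq_mul, mul_one]
    push_cast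
    ring
  have hgeom : (w - 1) * ∑ i ∈ Finset.range p, w ^ i = 0 := by
    rw [mul_geom_sum, hw, sub_self]
  rcases mul_eq_zero.1 hgeom with h | h
  · exact sub_eq_zero.1 h
  · exfalso
    rw [hsum] at h
    rcases mul_eq_zero.1 h with h' | h'
    · exact p_ne_zero' p k h'
    · have := congrArg WittVector.constantCoeff h'
      rw [map_add, map_mul, map_one, map_zero, map_natCast] at this
      have hp0 : ((p : ℕ) : k) = 0 := CharP.cast_eq_zero k p
      rw [hp0, zero_mul, add_zero] at this
      exact one_ne_zero this

/-- For an odd prime p and a perfect field k of characteristic p, a root of unity in the ring of Witt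
vectors W(k) whose residue in k is 1 is itself 1: if x ^ n = 1 with n ≥ 1 and the zeroth Witt
component of x is 1, then x = 1. (For p = 2 this fails: -1 in W(F_2).) -/
theorem result (p : ℕ) [Fact p.Prime] (hp : p ≠ 2)
    (k : Type u) [Field k] [CharP k p] [PerfectRing k p]
    (x : WittVector p k) (n : ℕ) (hn : 0 < n) (hx : x ^ n = 1) (h0 : x.coeff 0 = 1) : x = 1 := by
  induction n using Nat.strong_induction_on generalizing x with
  | _ n ih =>
    by_cases hpn : p ∣ n
    · obtain ⟨n', rfl⟩ := hpn
      have hn' : 0 < n' := Nat.pos_of_ne_zero (by rintro rfl; simp at hn)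
      have hp1 : 1 < p := (Fact.out : p.Prime).one_lt
      have h1 : (x ^ n') ^ p = 1 := by rw [← pow_mul, mul_comm]; exact hx
      have h2 : (x ^ n').coeff 0 = 1 := by
        have : WittVector.constantCoeff (x ^ n') = 1 := by
          rw [map_pow]
          show (x.coeff 0) ^ n' = 1
          rw [h0, one_pow]
        exact this
      have h3 := core p hp k _ h1 h2
      exact ih n' (by nlinarith) x hn' h3 h0
    · have hgeom : (x - 1) * ∑ i ∈ Finset.range n, x ^ i = 0 := by
        rw [mul_geom_sum, hx, sub_self]
      rcases mul_eq_zero.1 hgeom with h | h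
      · exact sub_eq_zero.1 h
      · exfalso
        have := congrArg WittVector.constantCoeff h
        rw [map_sum, map_zero] at this
        have h4 : ∀ i ∈ Finset.range n, WittVector.constantCoeff (x ^ i) = (1 : k) := by
          intro i _
          rw [map_pow]
          show (x.coeff 0) ^ i = 1
          rw [h0, one_pow]
        rw [Finset.sum_congr rfl h4, Finset.sum_const, Finset.card_range, nsmul_eq_mul, mul_one] at this
        exact hpn ((CharP.cast_eq_zero_iff k p n).1 this)

end Groth.Agent.S16356
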