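import Groth.Statements.S16357
import Mathlib

set_option autoImplicit false
universe u
open OrdAV

namespace Groth.Agent.S16357

/-- Over a field L of characteristic zero, a monic polynomial h whose square has rational coefficients
has rational coefficients itself. -/
theorem result (L : Type u) [Field L] [CharZero L]
    (h : Polynomial L) (hm : h.Monic) (f : Polynomial ℚ)
    (hf : h ^ 2 = Polynomial.map (algebraMap ℚ L) f) :
    ∃ g : Polynomial ℚ, Polynomial.map (algebraMap ℚ L) g = h := by
  have P : ∀ d e, e + d = h.natDegree → ∃ g : Polynomial ℚ,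
      ∀ i, e ≤ i → (g.map (algebraMap ℚ L)).coeff i = h.coeff i := by
    intro d
    induction d with
    | zero =>
      intro e he
      refine ⟨Polynomial.X ^ h.natDegree, fun i hi => ?_⟩
      simp only [Polynomial.map_pow, Polynomial.map_X, Polynomial.coeff_X_pow]
      rcases (Nat.lt_or_ge h.natDegree i) with hlt | hge
      · rw [if_neg (by omega), Polynomial.coeff_eq_zero_of_natDegree_lt hlt]
      · have : i = h.natDegree := by omega
        rw [if_pos this, this, hm.coeff_natDegree]
    | succ d ih =>
      intro e he
      obtain ⟨g, hg⟩ := ih (e + 1) (by omega)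
      have hrdeg : (h - g.map (algebraMap ℚ L)).natDegree ≤ e := by
        rw [Polynomial.natDegree_le_iff_coeff_eq_zero]
        intro N hN
        rw [Polynomial.coeff_sub, hg N (by omega), sub_self]
      have hGdeg : (g.map (algebraMap ℚ L)).natDegree ≤ h.natDegree := by
        rw [Polynomial.natDegree_le_iff_coeff_eq_zero]
        intro N hN
        rw [hg N (by omega)]
        exact Polynomial.coeff_eq_zero_of_natDegree_lt hN
      have hGn : (g.map (algebraMap ℚ L)).coeff h.natDegree = 1 := by
        rw [hg _ (by omega)]; exact hm.coeff_natDegree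
      have hsq : h ^ 2 = (g.map (algebraMap ℚ L)) ^ 2
          + ((g.map (algebraMap ℚ L)) * (h - g.map (algebraMap ℚ L))
            + (g.map (algebraMap ℚ L)) * (h - g.map (algebraMap ℚ L)))
          + (h - g.map (algebraMap ℚ L)) ^ 2 := by ring
      have hc := congrArg (fun q => q.coeff (h.natDegree + e)) hsq
      simp only [Polynomial.coeff_add] at hc
      have h1 : ((g.map (algebraMap ℚ L)) * (h - g.map (algebraMap ℚ L))).coeff (h.natDegree + e)
          = (h - g.map (algebraMap ℚ L)).coeff e := by
        rw [Polynomial.coeff_mul_add_eq_of_natDegree_le hGdeg hrdeg, hGn, one_mul]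
      have h2 : ((h - g.map (algebraMap ℚ L)) ^ 2).coeff (h.natDegree + e) = 0 := by
        apply Polynomial.coeff_eq_zero_of_natDegree_lt
        calc ((h - g.map (algebraMap ℚ L)) ^ 2).natDegree
            ≤ 2 * (h - g.map (algebraMap ℚ L)).natDegree := Polynomial.natDegree_pow_le
          _ ≤ 2 * e := by omega
          _ < h.natDegree + e := by omega
      rw [h1, h2, add_zero] at hc
      have h4 : (algebraMap ℚ L) ((f - g ^ 2).coeff (h.natDegree + e))
          = (h ^ 2).coeff (h.natDegree + e) - ((g.map (algebraMap ℚ L)) ^ 2).coeff (h.natDegree + e) := by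
        rw [hf, ← Polynomial.map_pow, ← Polynomial.coeff_sub, ← Polynomial.map_sub, Polynomial.coeff_map]
      have h5 : (h - g.map (algebraMap ℚ L)).coeff e
          = algebraMap ℚ L (((f - g ^ 2).coeff (h.natDegree + e)) / 2) := by
        rw [map_div₀, h4, hc, map_ofNat]
        have h2ne : (2 : L) ≠ 0 := two_ne_zero
        field_simp
        ring
      refine ⟨g + Polynomial.C ((f - g ^ 2).coeff (h.natDegree + e) / 2) * Polynomial.X ^ e, fun i hi => ?_⟩
      rw [Polynomial.map_add, Polynomial.coeff_add, Polynomial.map_mul, Polynomial.map_C,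
        Polynomial.map_pow, Polynomial.map_X, Polynomial.coeff_C_mul_X_pow]
      rcases Nat.eq_or_lt_of_le hi with heq | hlt
      · subst heq
        rw [if_pos rfl, ← h5, Polynomial.coeff_sub]; ring
      · rw [if_neg (by omega), add_zero]; exact hg i (by omega)
  obtain ⟨g, hg⟩ := P h.natDegree 0 (by omega)
  exact ⟨g, Polynomial.ext (fun i => hg i (Nat.zero_le i))⟩

end Groth.Agent.S16357
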