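import Groth.Statements.S16358
import Mathlib

set_option autoImplicit false
universe u v w
open OrdAV

namespace Groth.Agent.S16358

/-- Let k be a perfect field of characteristic p > 0 and W = W(k); let M be a finitely generated free
W-module on which a finite group G acts W-linearly, with invariant submodule M^G. Then the map
(W/pW) ⊗ M^G → (W/pW) ⊗ M induced by the inclusion is injective. Since M^G is free, this implies
rank_W M^G ≤ dim_k (M/pM)^G; the published statement is that inequality, and this row states the
stronger injectivity. -/
theorem result (p : ℕ) [Fact p.Prime]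
    (k : Type u) [Field k] [CharP k p] [PerfectRing k p]
    (M : Type v) [AddCommGroup M] [Module (WittVector p k) M]
    [Module.Free (WittVector p k) M] [Module.Finite (WittVector p k) M]
    (G : Type w) [Group G] [Finite G] (ρ : Representation (WittVector p k) G M) :
    Function.Injective
      (LinearMap.lTensor (WittVector p k ⧸ Ideal.span {(p : WittVector p k)}) ρ.invariants.subtype) := by
  have hN : ∀ (r : WittVector p k) (m : M), r ≠ 0 → r • m ∈ ρ.invariants → m ∈ ρ.invariants := by
    intro r m hr hm
    rw [Representation.mem_invariants] at hm ⊢
    intro g
    have := hm g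
    rw [map_smul] at this
    exact smul_right_injective M hr this
  have : Module.IsTorsionFree (WittVector p k) (M ⧸ ρ.invariants) := ⟨fun r hr x y hxy => by
      induction x using Submodule.Quotient.induction_on with | _ a =>
      induction y using Submodule.Quotient.induction_on with | _ b =>
      simp only at hxy
      rw [← Submodule.Quotient.mk_smul, ← Submodule.Quotient.mk_smul, Submodule.Quotient.eq, ← smul_sub] at hxy
      rw [Submodule.Quotient.eq]
      exact hN r _ hr.ne_zero hxy⟩
  have : Module.Free (WittVector p k) (M ⧸ ρ.invariants) := Module.free_of_finite_type_torsion_free'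
  obtain ⟨s, hs⟩ := Module.projective_lifting_property ρ.invariants.mkQ LinearMap.id
    (Submodule.mkQ_surjective _)
  let t : M →ₗ[WittVector p k] M := LinearMap.id - s ∘ₗ ρ.invariants.mkQ
  have ht : ∀ m, t m ∈ ρ.invariants := by
    intro m
    have h0 : ρ.invariants.mkQ (t m) = 0 := by
      have := congrArg (fun f => f (ρ.invariants.mkQ m)) hs
      simp only [LinearMap.coe_comp, Function.comp_apply, LinearMap.id_coe, id_eq] at this
      simp only [t, LinearMap.sub_apply, LinearMap.id_coe, id_eq, LinearMap.coe_comp, Function.comp_apply,
        map_sub, this, sub_self]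
    simpa using h0
  let r : M →ₗ[WittVector p k] ρ.invariants := LinearMap.codRestrict ρ.invariants t ht
  have hr : r ∘ₗ ρ.invariants.subtype = LinearMap.id := by
    ext n
    have h0 : (Submodule.Quotient.mk (n : M) : M ⧸ ρ.invariants) = 0 :=
      (Submodule.Quotient.mk_eq_zero _).2 n.2
    simp [r, t, h0]
  apply Function.LeftInverse.injective (g := LinearMap.lTensor _ r)
  intro x
  rw [← LinearMap.comp_apply, ← LinearMap.lTensor_comp, hr, LinearMap.lTensor_id, LinearMap.id_apply]

end Groth.Agent.S16358
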