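import Groth.Statements.S16362
import Mathlib

set_option autoImplicit false
universe u
open MovLem

namespace Groth.Agent.S16362


theorem core {D K : Type*} [CommRing D] [Field K] [Algebra D K]
    (hφ : Function.Injective (algebraMap D K)) (z v : D) (hv : v ≠ 0) :
    IsIntegral D (algebraMap D K z / algebraMap D K v) ↔
      ∃ (N : ℕ) (c : ℕ → D), z ^ N + ∑ i ∈ Finset.Icc 1 N, c i * z ^ (N - i) * v ^ i = 0 := by
  have hφv : algebraMap D K v ≠ 0 := (map_ne_zero_iff _ hφ).2 hv
  have reidx : ∀ (N : ℕ) (f : ℕ → K),
      ∑ i ∈ Finset.Icc 1 N, f (N - i) = ∑ j ∈ Finset.range N, f j := by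
    intro N f
    refine Finset.sum_nbij' (fun i => N - i) (fun j => N - j) ?_ ?_ ?_ ?_ ?_
    · intro i hi; simp only [Finset.mem_Icc] at hi; simp only [Finset.mem_range]; omega
    · intro j hj; simp only [Finset.mem_range] at hj; simp only [Finset.mem_Icc]; omega
    · intro i hi; simp only [Finset.mem_Icc] at hi; omega
    · intro j hj; simp only [Finset.mem_range] at hj; omega
    · intro i hi; rfl
  constructor
  · rintro ⟨P, hP, hPx⟩
    refine ⟨P.natDegree, fun i => P.coeff (P.natDegree - i), ?_⟩
    apply hφ
    rw [map_zero]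
    simp only [map_add, map_pow, map_sum, map_mul]
    rw [Polynomial.eval₂_eq_sum_range, Finset.sum_range_succ, hP.coeff_natDegree, map_one, one_mul] at hPx
    have h2 := congrArg (fun t => t * (algebraMap D K v) ^ P.natDegree) hPx
    simp only [zero_mul, add_mul, div_pow, Finset.sum_mul] at h2
    rw [div_mul_cancel₀ _ (pow_ne_zero _ hφv)] at h2
    rw [add_comm] at h2
    rw [← h2]
    congr 1
    rw [← reidx P.natDegree (fun j => algebraMap D K (P.coeff j) * (algebraMap D K z ^ j / algebraMap D K v ^ j) * algebraMap D K v ^ P.natDegree)]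
    refine Finset.sum_congr rfl (fun i hi => ?_)
    simp only [Finset.mem_Icc] at hi
    have : algebraMap D K v ^ P.natDegree = algebraMap D K v ^ (P.natDegree - i) * algebraMap D K v ^ i := by
      rw [← pow_add]; congr 1; omega
    rw [this]
    field_simp
  · rintro ⟨N, a, ha⟩
    have ha' := congrArg (algebraMap D K) ha
    simp only [map_add, map_pow, map_sum, map_mul, map_zero] at ha'
    refine ⟨Polynomial.X ^ N + ∑ i ∈ Finset.Icc 1 N, Polynomial.C (a i) * Polynomial.X ^ (N - i), ?_, ?_⟩
    · apply Polynomial.monic_X_pow_add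
      refine lt_of_le_of_lt (Polynomial.degree_sum_le _ _) ?_
      refine (Finset.sup_lt_iff (WithBot.bot_lt_coe N)).2 ?_
      intro i hi
      simp only [Finset.mem_Icc] at hi
      refine lt_of_le_of_lt (Polynomial.degree_C_mul_X_pow_le _ _) ?_
      exact WithBot.coe_lt_coe.2 (by omega : N - i < N)
    · simp only [Polynomial.eval₂_add, Polynomial.eval₂_pow, Polynomial.eval₂_X, Polynomial.eval₂_finsetSum,
        Polynomial.eval₂_mul, Polynomial.eval₂_C]
      have hN : algebraMap D K v ^ N ≠ 0 := pow_ne_zero _ hφv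
      apply mul_right_cancel₀ hN
      rw [zero_mul, ← ha', add_mul, div_pow, div_mul_cancel₀ _ hN, Finset.sum_mul]
      congr 1
      refine Finset.sum_congr rfl (fun i hi => ?_)
      simp only [Finset.mem_Icc] at hi
      have : algebraMap D K v ^ N = algebraMap D K v ^ (N - i) * algebraMap D K v ^ i := by
        rw [← pow_add]; congr 1; omega
      rw [this]
      rw [div_pow, ← mul_assoc, mul_assoc (algebraMap D K (a i)), div_mul_cancel₀ _ (pow_ne_zero _ hφv)]

/-- Let A be a commutative ring, p a prime ideal of A, and ζ, u elements of A with u not in p. Then the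
quotient of the classes of ζ and u in the fraction field of the domain A ⧸ p is integral over A ⧸ p
if and only if there exist a natural number N and elements a_1, …, a_N of A such that ζ^N + a_1
ζ^(N-1) u + ⋯ + a_N u^N lies in p; equivalently, some binary form of degree N with coefficients in
A, monic in the first variable, evaluated at (ζ, u), lies in p. -/
theorem result
    {A : Type u} [CommRing A] (p : Ideal A) [p.IsPrime] (ζ u : A) (hu : u ∉ p) :
    IsIntegral (A ⧸ p)
        (algebraMap (A ⧸ p) (FractionRing (A ⧸ p)) (Ideal.Quotient.mk p ζ) /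
          algebraMap (A ⧸ p) (FractionRing (A ⧸ p)) (Ideal.Quotient.mk p u)) ↔
      ∃ (N : ℕ) (a : ℕ → A),
        ζ ^ N + ∑ i ∈ Finset.Icc 1 N, a i * ζ ^ (N - i) * u ^ i ∈ p := by
  have hφ : Function.Injective (algebraMap (A ⧸ p) (FractionRing (A ⧸ p))) :=
    IsFractionRing.injective _ _
  have hv : Ideal.Quotient.mk p u ≠ 0 := by
    simpa [Ideal.Quotient.eq_zero_iff_mem] using hu
  rw [core hφ _ _ hv]
  have hsurj := Ideal.Quotient.mk_surjective (I := p)
  constructor
  · rintro ⟨N, c, hc⟩
    refine ⟨N, fun i => Function.surjInv hsurj (c i), ?_⟩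
    rw [← Ideal.Quotient.eq_zero_iff_mem]
    simpa only [map_add, map_pow, map_sum, map_mul, Function.surjInv_eq hsurj] using hc
  · rintro ⟨N, a, ha⟩
    refine ⟨N, fun i => Ideal.Quotient.mk p (a i), ?_⟩
    rw [← Ideal.Quotient.eq_zero_iff_mem] at ha
    simpa only [map_add, map_pow, map_sum, map_mul] using ha

end Groth.Agent.S16362
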