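import Groth.Statements.S16371
import Mathlib

set_option autoImplicit false
universe u v w
open FrobAlg

namespace Groth.Agent.S16371

theorem pow_p_congr {B : Type*} [CommRing B] (p : ℕ) (hpp : p.Prime) (hp : (p : B) ^ 2 = 0)
    (u v : B) (h : u - v ∈ Ideal.span ({(p : B)} : Set B)) : u ^ p = v ^ p := by
  obtain ⟨b, hb⟩ := Ideal.mem_span_singleton'.1 h
  have hu : u = v + b * p := by rw [hb]; ring
  obtain ⟨r, hr⟩ := exists_add_pow_prime_eq hpp v (b * (p : B))
  rw [hu, hr]
  have h2 : 2 ≤ p := hpp.two_le
  have e1 : (b * (p : B)) ^ p = 0 := by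
    rw [mul_pow]
    have : (p : B) ^ p = (p : B) ^ 2 * (p : B) ^ (p - 2) := by
      rw [← pow_add]; congr 1; omega
    rw [this, hp]; ring
  have e2 : (p : B) * v * (b * (p : B)) * r = 0 := by
    have : (p : B) * v * (b * (p : B)) * r = (p : B) ^ 2 * (v * b * r) := by ring
    rw [this, hp, zero_mul]
  rw [e1, e2]; ring

/-- Let p be a prime, A a commutative ring and B, C commutative A-algebras with p² = 0 in B. If two
A-algebra maps g₁, g₂ : C → B agree modulo p, then they agree on every element of C which is
congruent modulo p to an element of the A-subalgebra generated by the p-th powers. (The source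
states this for liftings over a flat ℤ/p²-thickening of two smooth schemes and the subsheaf of
functions whose reduction lies in the image of the relative Frobenius; the smoothness and lifting
hypotheses are not needed for the identity.) -/
theorem result
    (p : ℕ) [Fact p.Prime] (A : Type u) [CommRing A] (B : Type v) [CommRing B] [Algebra A B]
    (C : Type w) [CommRing C] [Algebra A C] (hp : (p : B) ^ 2 = 0)
    (g₁ g₂ : C →ₐ[A] B) (hg : ∀ x : C, g₁ x - g₂ x ∈ Ideal.span ({(p : B)} : Set B))
    (x y : C) (hy : y ∈ Algebra.adjoin A (Set.range fun c : C => c ^ p))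
    (hxy : x - y ∈ Ideal.span ({(p : C)} : Set C)) :
    g₁ x = g₂ x := by
  have hpp : p.Prime := Fact.out
  -- g₁ and g₂ agree on the subalgebra generated by p-th powers
  have hagree : ∀ z ∈ Algebra.adjoin A (Set.range fun c : C => c ^ p), g₁ z = g₂ z := by
    intro z hz
    have : Algebra.adjoin A (Set.range fun c : C => c ^ p) ≤ AlgHom.equalizer g₁ g₂ := by
      apply Algebra.adjoin_le
      rintro _ ⟨c, rfl⟩
      change g₁ (c ^ p) = g₂ (c ^ p)
      rw [map_pow, map_pow]
      exact pow_p_congr p hpp hp _ _ (hg c)
    exact this hz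
  obtain ⟨c, hc⟩ := Ideal.mem_span_singleton'.1 hxy
  have hx : x = y + c * (p : C) := by rw [hc]; ring
  obtain ⟨b, hb⟩ := Ideal.mem_span_singleton'.1 (hg c)
  rw [hx, map_add, map_add, hagree y hy, map_mul, map_mul, map_natCast, map_natCast]
  congr 1
  have : g₁ c = g₂ c + b * (p : B) := by rw [hb]; ring
  rw [this, add_mul]
  have : b * (p : B) * (p : B) = b * (p : B) ^ 2 := by ring
  rw [this, hp, mul_zero, add_zero]

end Groth.Agent.S16371
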