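import Groth.Statements.S16373
import Groth.Agent.S16372

set_option autoImplicit false
universe u
open FrobAlg

namespace Groth.Agent.S16373

section Helpers

variable (p : ℕ) [Fact p.Prime] (m : ℕ) (R : Type u) [CommRing R]

theorem p_mul (hp : (p : R) = 0) (w : TruncatedWittVector p (m + 1) R) :
    (p : TruncatedWittVector p (m + 1) R) * w =
      WittGrp.shift p (Nat.le_succ m)
        (WittGrp.frob p m hp (TruncatedWittVector.truncate (Nat.le_succ m) w)) := by
  rcases subsingleton_or_nontrivial R with hR | hR
  · exact TruncatedWittVector.ext fun i => Subsingleton.elim _ _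
  have : CharP R p := (CharP.charP_iff_prime_eq_zero (Fact.out : p.Prime)).mpr hp
  obtain ⟨Y, rfl⟩ := WittVector.truncate_surjective p (m + 1) R w
  rw [TruncatedWittVector.truncate_wittVector_truncate, WittGrp.frob_truncate,
    WittGrp.shift_truncate, ← map_natCast (WittVector.truncate (p := p) (R := R) (m + 1)),
    ← map_mul]
  congr 1
  have e : m + 1 - m = 1 := by omega
  rw [e, Function.iterate_one]
  rw [WittVector.verschiebung_frobenius, mul_comm]

theorem shift_coeff_zero (x : TruncatedWittVector p m R) :
    (WittGrp.shift p (Nat.le_succ m) x).coeff 0 = 0 := by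
  rw [WittGrp.coeff_shift]
  rw [dif_neg]
  simp

theorem shift_coeff_succ (x : TruncatedWittVector p m R) (i : Fin m) :
    (WittGrp.shift p (Nat.le_succ m) x).coeff i.succ = x.coeff i := by
  rw [WittGrp.coeff_shift]
  rw [dif_pos (by simp)]
  congr 1
  ext
  simp

theorem exists_shift_of_coeff_zero (w : TruncatedWittVector p (m + 1) R) (hw : w.coeff 0 = 0) :
    ∃ x : TruncatedWittVector p m R, w = WittGrp.shift p (Nat.le_succ m) x := by
  refine ⟨TruncatedWittVector.mk p fun i => w.coeff i.succ, ?_⟩
  refine TruncatedWittVector.ext fun i => ?_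
  refine Fin.cases ?_ (fun j => ?_) i
  · rw [hw, shift_coeff_zero]
  · rw [shift_coeff_succ, TruncatedWittVector.coeff_mk]

theorem shift_injective (x x' : TruncatedWittVector p m R)
    (h : WittGrp.shift p (Nat.le_succ m) x = WittGrp.shift p (Nat.le_succ m) x') : x = x' := by
  refine TruncatedWittVector.ext fun i => ?_
  have := congrArg (fun z => z.coeff i.succ) h
  simp only [shift_coeff_succ] at this
  exact this

theorem add_coeff_zero' (a b : TruncatedWittVector p (m + 1) R) :
    (a + b).coeff 0 = a.coeff 0 + b.coeff 0 := by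
  obtain ⟨A, rfl⟩ := WittVector.truncate_surjective p (m + 1) R a
  obtain ⟨B, rfl⟩ := WittVector.truncate_surjective p (m + 1) R b
  rw [← map_add, WittVector.coeff_truncate, WittVector.coeff_truncate, WittVector.coeff_truncate]
  exact WittVector.add_coeff_zero A B

end Helpers

/-- Let p be a prime, m ≥ 1, R a commutative ring with p = 0 in R and σ : W_m(R) → R a quasi-F-splitting
of level m (additive, σ(1) = 1, σ(F(x)·y) = x₀·σ(y) with F the componentwise p-th power). Let I ⊆
W_{m+1}(R) be the ideal generated by the shifts V(x) of the x with σ(x) = 0, and Q = W_{m+1}(R)/I.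
Then Q is a flat lifting of R modulo p²: an element of Q lies in pQ exactly when the first Witt
component of a representative vanishes (so Q/pQ is R through the first component), and an element of
Q is killed by p exactly when it lies in pQ. (Stated for a ring; the source has a scheme over the
prime field. For m = 1 this is the lifting attached to a Frobenius splitting.) -/
theorem result
    (p : ℕ) [Fact p.Prime] (m : ℕ) (hm : 0 < m) (R : Type u) [CommRing R] (hp : (p : R) = 0)
    (σ : TruncatedWittVector p m R →+ R) (h1 : σ 1 = 1)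
    (hF : ∀ x y : TruncatedWittVector p m R, σ (WittGrp.frob p m hp x * y) = x.coeff ⟨0, hm⟩ * σ y)
    (I : Ideal (TruncatedWittVector p (m + 1) R))
    (hI : I = Ideal.span (WittGrp.shift p (Nat.le_succ m) '' {x : TruncatedWittVector p m R | σ x = 0})) :
    (∀ w : TruncatedWittVector p (m + 1) R,
        Ideal.Quotient.mk I w ∈ Ideal.span ({(p : TruncatedWittVector p (m + 1) R ⧸ I)} : Set _) ↔
          w.coeff 0 = 0) ∧
    (∀ q : TruncatedWittVector p (m + 1) R ⧸ I,
        (p : TruncatedWittVector p (m + 1) R ⧸ I) * q = 0 ↔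
          q ∈ Ideal.span ({(p : TruncatedWittVector p (m + 1) R ⧸ I)} : Set _)) := by
  -- description of I
  have hImem : ∀ w : TruncatedWittVector p (m + 1) R, w ∈ I ↔
      ∃ x : TruncatedWittVector p m R, σ x = 0 ∧ w = WittGrp.shift p (Nat.le_succ m) x := by
    intro w
    constructor
    · intro hw
      rw [hI] at hw
      induction hw using Submodule.span_induction with
      | mem w hw =>
        obtain ⟨x, hx, rfl⟩ := hw
        exact ⟨x, hx, rfl⟩
      | zero => exact ⟨0, map_zero σ, (map_zero _).symm⟩
      | add a b _ _ ha hb =>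
        obtain ⟨x, hx, rfl⟩ := ha
        obtain ⟨y, hy, rfl⟩ := hb
        exact ⟨x + y, by rw [map_add, hx, hy, add_zero], (map_add _ x y).symm⟩
      | smul c a _ ha =>
        obtain ⟨x, hx, rfl⟩ := ha
        obtain ⟨x', hx', e⟩ := Groth.Agent.S16372.result p m hm R hp σ h1 hF c x hx
        exact ⟨x', hx', e⟩
    · rintro ⟨x, hx, rfl⟩
      rw [hI]
      exact Ideal.subset_span ⟨x, hx, rfl⟩
  have hσF : ∀ a : TruncatedWittVector p m R, σ (WittGrp.frob p m hp a) = a.coeff ⟨0, hm⟩ := by
    intro a
    have := hF a 1
    rwa [mul_one, h1, mul_one] at this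
  have hpcast : (p : TruncatedWittVector p (m + 1) R ⧸ I) =
      Ideal.Quotient.mk I (p : TruncatedWittVector p (m + 1) R) := (map_natCast _ p).symm
  have hpc0 : ∀ u : TruncatedWittVector p (m + 1) R,
      ((p : TruncatedWittVector p (m + 1) R) * u).coeff 0 = 0 := by
    intro u; rw [p_mul p m R hp]; exact shift_coeff_zero p m R _
  have htr0 : ∀ u : TruncatedWittVector p (m + 1) R,
      (TruncatedWittVector.truncate (Nat.le_succ m) u).coeff ⟨0, hm⟩ = u.coeff 0 := by
    intro u; rw [TruncatedWittVector.coeff_truncate]; rfl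
  have part1 : ∀ w : TruncatedWittVector p (m + 1) R,
      Ideal.Quotient.mk I w ∈ Ideal.span ({(p : TruncatedWittVector p (m + 1) R ⧸ I)} : Set _) ↔
        w.coeff 0 = 0 := by
    intro w
    constructor
    · intro hw
      obtain ⟨q, hq⟩ := Ideal.mem_span_singleton'.1 hw
      obtain ⟨u, rfl⟩ := Ideal.Quotient.mk_surjective q
      rw [hpcast, ← map_mul, Ideal.Quotient.eq, hImem] at hq
      obtain ⟨x, -, hx⟩ := hq
      have e : w = (p : TruncatedWittVector p (m + 1) R) * u - WittGrp.shift p (Nat.le_succ m) x := by
        rw [← hx, mul_comm]; ring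
      have e' : w + WittGrp.shift p (Nat.le_succ m) x = (p : TruncatedWittVector p (m + 1) R) * u := by
        rw [e]; ring
      have := congrArg (fun z => z.coeff 0) e'
      simp only [add_coeff_zero', shift_coeff_zero, add_zero, hpc0] at this
      exact this
    · intro hw
      obtain ⟨x, rfl⟩ := exists_shift_of_coeff_zero p m R w hw
      -- a with a_0 = σ x
      set a : TruncatedWittVector p m R := TruncatedWittVector.mk p fun _ => σ x with ha
      have ha0 : a.coeff ⟨0, hm⟩ = σ x := TruncatedWittVector.coeff_mk _ _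
      obtain ⟨a', ha'⟩ := TruncatedWittVector.truncate_surjective (p := p) (R := R) (Nat.le_succ m) a
      have hx1 : σ (x - WittGrp.frob p m hp a) = 0 := by
        rw [map_sub, hσF, ha0, sub_self]
      have e : WittGrp.shift p (Nat.le_succ m) x =
          (p : TruncatedWittVector p (m + 1) R) * a' +
            WittGrp.shift p (Nat.le_succ m) (x - WittGrp.frob p m hp a) := by
        rw [p_mul p m R hp, ha', ← map_add, add_sub_cancel]
      rw [e, map_add, map_mul, ← hpcast]
      have h0 : Ideal.Quotient.mk I (WittGrp.shift p (Nat.le_succ m) (x - WittGrp.frob p m hp a)) = 0 := by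
        rw [Ideal.Quotient.eq_zero_iff_mem, hImem]
        exact ⟨_, hx1, rfl⟩
      rw [h0, add_zero]
      exact Ideal.mul_mem_right _ _ (Ideal.mem_span_singleton_self _)
  refine ⟨part1, ?_⟩
  intro q
  obtain ⟨w, rfl⟩ := Ideal.Quotient.mk_surjective q
  constructor
  · intro h
    rw [part1]
    rw [hpcast, ← map_mul, Ideal.Quotient.eq_zero_iff_mem, hImem, p_mul p m R hp] at h
    obtain ⟨x, hx, e⟩ := h
    have := shift_injective p m R _ _ e
    rw [← this, hσF, htr0] at hx
    exact hx
  · intro h
    obtain ⟨q', hq'⟩ := Ideal.mem_span_singleton'.1 h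
    obtain ⟨u, rfl⟩ := Ideal.Quotient.mk_surjective q'
    rw [← hq', hpcast, ← map_mul, ← map_mul, Ideal.Quotient.eq_zero_iff_mem, hImem]
    refine ⟨WittGrp.frob p m hp (TruncatedWittVector.truncate (Nat.le_succ m)
      (u * (p : TruncatedWittVector p (m + 1) R))), ?_, p_mul p m R hp _⟩
    rw [hσF, htr0, mul_comm, hpc0]

end Groth.Agent.S16373
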