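import Groth.Statements.S16374
import Mathlib

set_option autoImplicit false
universe u v w
open FrobAlg

namespace Groth.Agent.S16374

theorem pow_p_congr {B : Type*} [CommRing B] (p : ℕ) (hpp : p.Prime) (hp : (p : B) ^ 2 = 0)
    (u v : B) (h : u - v ∈ Ideal.span ({(p : B)} : Set B)) : u ^ p = v ^ p := by
  obtain ⟨b, hb⟩ := Ideal.mem_span_singleton'.1 h
  have hu : u = v + b * p := by rw [hb]; ring
  obtain ⟨r, hr⟩ := exists_add_pow_prime_eq hpp v (b * (p : B))
  rw [hu, hr]
  have h2 : 2 ≤ p := hpp.two_le
  have e1 : (b * (p : B)) ^ p = 0 := by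
    rw [mul_pow]
    have : (p : B) ^ p = (p : B) ^ 2 * (p : B) ^ (p - 2) := by
      rw [← pow_add]; congr 1; omega
    rw [this, hp]; ring
  have e2 : (p : B) * v * (b * (p : B)) * r = 0 := by
    have : (p : B) * v * (b * (p : B)) * r = (p : B) ^ 2 * (v * b * r) := by ring
    rw [this, hp, zero_mul]
  rw [e1, e2]; ring

/-- Let p be a prime, A a commutative ring, B and C commutative A-algebras with p² = 0 in B, and g : C →
B an A-algebra map such that every g(c) is congruent modulo p to an element of the A-subalgebra of B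
generated by the p-th powers (g lifts a relative Frobenius). Then d(g(x)) = 0 in the module of
Kähler differentials of B over A for every x ∈ C that is congruent modulo p to an element of the
A-subalgebra of C generated by the p-th powers. (The source works with a lifting of the relative
Frobenius of a smooth scheme over a ℤ/p²-thickening and the subsheaf of functions whose reduction
comes from the Frobenius twist; smoothness is not needed for this vanishing.) -/
theorem result
    (p : ℕ) [Fact p.Prime] (A : Type u) [CommRing A] (B : Type v) [CommRing B] [Algebra A B]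
    (C : Type w) [CommRing C] [Algebra A C] (hp : (p : B) ^ 2 = 0)
    (g : C →ₐ[A] B)
    (hg : ∀ c : C, ∃ u ∈ Algebra.adjoin A (Set.range fun b : B => b ^ p),
      g c - u ∈ Ideal.span ({(p : B)} : Set B))
    (x y : C) (hy : y ∈ Algebra.adjoin A (Set.range fun c : C => c ^ p))
    (hxy : x - y ∈ Ideal.span ({(p : C)} : Set C)) :
    KaehlerDifferential.D A B (g x) = 0 := by
  have hpp : p.Prime := Fact.out
  set D := KaehlerDifferential.D A B with hD
  have hDp : D (p : B) = 0 := by
    have : (p : B) = algebraMap A B (p : A) := by simp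
    rw [this, Derivation.map_algebraMap]
  have hpsq : ∀ ω : Ω[B⁄A], (p : B) • ((p : B) • ω) = 0 := by
    intro ω
    rw [smul_smul, ← pow_two, hp, zero_smul]
  -- Step A: D u ∈ p • Ω for u in the subalgebra generated by p-th powers of B
  have stepA : ∀ u ∈ Algebra.adjoin A (Set.range fun b : B => b ^ p), ∃ ω : Ω[B⁄A], D u = (p : B) • ω := by
    intro u hu
    induction hu using Algebra.adjoin_induction with
    | mem z hz =>
      obtain ⟨b, rfl⟩ := hz
      refine ⟨b ^ (p - 1) • D b, ?_⟩
      change D (b ^ p) = _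
      rw [Derivation.leibniz_pow, smul_smul, ← Nat.cast_smul_eq_nsmul B, smul_smul]
    | algebraMap r => exact ⟨0, by simp⟩
    | add u v _ _ hu hv =>
      obtain ⟨ω₁, h₁⟩ := hu
      obtain ⟨ω₂, h₂⟩ := hv
      exact ⟨ω₁ + ω₂, by rw [map_add, h₁, h₂, smul_add]⟩
    | mul u v _ _ hu hv =>
      obtain ⟨ω₁, h₁⟩ := hu
      obtain ⟨ω₂, h₂⟩ := hv
      refine ⟨u • ω₂ + v • ω₁, ?_⟩
      rw [Derivation.leibniz, h₁, h₂, smul_add, smul_comm u, smul_comm v]
  -- Step B: D ((g c)^p) = 0
  have stepB : ∀ c : C, D ((g c) ^ p) = 0 := by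
    intro c
    obtain ⟨u, hu, hgu⟩ := hg c
    rw [pow_p_congr p hpp hp _ _ hgu]
    obtain ⟨ω, hω⟩ := stepA u hu
    rw [Derivation.leibniz_pow, hω, ← Nat.cast_smul_eq_nsmul B, smul_comm, hpsq, smul_zero]
  -- Step C: D (g z) = 0 for z in adjoin of p-th powers of C
  have stepC : ∀ z ∈ Algebra.adjoin A (Set.range fun c : C => c ^ p), D (g z) = 0 := by
    intro z hz
    induction hz using Algebra.adjoin_induction with
    | mem z hz =>
      obtain ⟨c, rfl⟩ := hz
      change D (g (c ^ p)) = 0
      rw [map_pow]; exact stepB c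
    | algebraMap r => simp
    | add u v _ _ hu hv => rw [map_add, map_add, hu, hv, add_zero]
    | mul u v _ _ hu hv => rw [map_mul, Derivation.leibniz, hu, hv, smul_zero, smul_zero, add_zero]
  obtain ⟨c, hc⟩ := Ideal.mem_span_singleton'.1 hxy
  have hx : x = y + c * (p : C) := by rw [hc]; ring
  rw [hx, map_add, map_add, stepC y hy, zero_add, map_mul, map_natCast, Derivation.leibniz, hDp, smul_zero,
    zero_add]
  obtain ⟨u, hu, hgu⟩ := hg c
  obtain ⟨b, hb⟩ := Ideal.mem_span_singleton'.1 hgu
  obtain ⟨ω, hω⟩ := stepA u hu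
  have : g c = u + b * (p : B) := by rw [hb]; ring
  rw [this, map_add, Derivation.leibniz, hDp, smul_zero, zero_add, hω, smul_add, hpsq, hpsq, add_zero]

end Groth.Agent.S16374
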