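import Groth.Statements.S16390
import Mathlib

set_option autoImplicit false
open AbVar

namespace Groth.Agent.S16390

open Polynomial in
theorem padic_part (p r : ℕ) [Fact p.Prime] (hr : 2 < r) :
    ∃ a b : ℚ_[p], a ≠ b ∧ a ^ 2 - (p : ℚ_[p]) * a + (p : ℚ_[p]) ^ r = 0 ∧
        b ^ 2 - (p : ℚ_[p]) * b + (p : ℚ_[p]) ^ r = 0 ∧ a.valuation = 1 ∧ b.valuation = (r : ℤ) - 1 := by
  have hp : (p : ℝ) > 1 := by exact_mod_cast (Fact.out : p.Prime).one_lt
  obtain ⟨c, hc⟩ : ∃ c : ℤ_[p], c = (p : ℤ_[p]) ^ (r - 2) := ⟨_, rfl⟩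
  set F : Polynomial ℤ_[p] := X ^ 2 - X + C c with hF
  have hF1 : F.aeval (1 : ℤ_[p]) = (p : ℤ_[p]) ^ (r - 2) := by
    simp [hF, hc]
  have hF'1 : F.derivative.aeval (1 : ℤ_[p]) = 1 := by
    simp [hF]
  have hnorm : ‖F.aeval (1 : ℤ_[p])‖ < ‖F.derivative.aeval (1 : ℤ_[p])‖ ^ 2 := by
    rw [hF1, hF'1, norm_one, one_pow, PadicInt.norm_p_pow]
    have : (r - 2 : ℕ) ≠ 0 := by omega
    rw [zpow_neg, zpow_natCast]
    exact inv_lt_one_of_one_lt₀ (one_lt_pow₀ hp this)
  obtain ⟨u, hu0, hu1, -, -⟩ := hensels_lemma hnorm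
  rw [hF'1, norm_one] at hu1
  have hueq : u ^ 2 - u + (p : ℤ_[p]) ^ (r - 2) = 0 := by
    simpa [hF, hc] using hu0
  -- `u` is a unit
  have hun : ‖u‖ = 1 := by
    have h1 : ‖(u - 1) + 1‖ = ‖(1 : ℤ_[p])‖ := by
      have := PadicInt.norm_eq_of_norm_add_lt_right (z1 := u) (z2 := -1) (by
        rw [norm_neg, norm_one, ← sub_eq_add_neg]; exact hu1)
      rw [norm_neg] at this
      rw [sub_add_cancel, this]
    rwa [sub_add_cancel, norm_one] at h1
  set U : ℚ_[p] := (u : ℚ_[p]) with hU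
  have hUn : ‖U‖ = 1 := by rw [hU, PadicInt.norm_def] at *; exact hun
  have hU0 : U ≠ 0 := by
    intro h
    rw [h, norm_zero] at hUn
    exact zero_ne_one hUn
  have hUv : U.valuation = 0 := by
    have := Padic.norm_eq_zpow_neg_valuation hU0
    rw [hUn] at this
    have h2 := (zpow_eq_one_iff_right₀ (by positivity : (0 : ℝ) ≤ p) (ne_of_gt hp)).1 this.symm
    omega
  have hUeq : U ^ 2 - U + (p : ℚ_[p]) ^ (r - 2) = 0 := by
    have := congrArg (fun x : ℤ_[p] => (x : ℚ_[p])) hueq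
    simpa using this
  have hpne : (p : ℚ_[p]) ≠ 0 := by
    exact_mod_cast (Fact.out : p.Prime).ne_zero
  have hprod : (1 - U) * U = (p : ℚ_[p]) ^ (r - 2) := by linear_combination (-1 : ℚ_[p]) * hUeq
  have hV0 : (1 - U) ≠ 0 := by
    intro h
    rw [h, zero_mul] at hprod
    exact pow_ne_zero _ hpne hprod.symm
  have hVv : (1 - U).valuation = (r : ℤ) - 2 := by
    have := congrArg Padic.valuation hprod
    rw [Padic.valuation_mul hV0 hU0, hUv, add_zero, Padic.valuation_pow, Padic.valuation_p,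
      mul_one] at this
    rw [this]
    have : 2 ≤ r := by omega
    push_cast [Nat.cast_sub this]
    ring
  have hpr : (p : ℚ_[p]) ^ r = (p : ℚ_[p]) ^ 2 * (p : ℚ_[p]) ^ (r - 2) := by
    rw [← pow_add]
    congr 1
    omega
  have hav : ((p : ℚ_[p]) * U).valuation = 1 := by
    rw [Padic.valuation_mul hpne hU0, Padic.valuation_p, hUv, add_zero]
  have hbv : ((p : ℚ_[p]) * (1 - U)).valuation = (r : ℤ) - 1 := by
    rw [Padic.valuation_mul hpne hV0, Padic.valuation_p, hVv]
    ring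
  refine ⟨(p : ℚ_[p]) * U, (p : ℚ_[p]) * (1 - U), ?_, ?_, ?_, hav, hbv⟩
  · intro h
    rw [h, hbv] at hav
    omega
  · rw [hpr]
    linear_combination (p : ℚ_[p]) ^ 2 * hUeq
  · rw [hpr]
    linear_combination (p : ℚ_[p]) ^ 2 * hUeq

/-- Let p be a prime number, r > 2 and q = p^r. The polynomial x² − p x + q is irreducible over ℚ, each
of its complex roots has absolute value √q (so its roots are Weil q-numbers), and it has two
distinct roots in ℚ_p, of p-adic valuations 1 and r − 1. The published lemma also computes the index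
of the endomorphism algebra of the simple abelian variety attached to a root; this row does not
state that part. -/
theorem result (p r : ℕ) [Fact p.Prime] (hr : 2 < r) :
    Irreducible (Polynomial.X ^ 2 - Polynomial.C (p : ℚ) * Polynomial.X + Polynomial.C ((p : ℚ) ^ r)) ∧
      (∀ π : ℂ, π ^ 2 - (p : ℂ) * π + (p : ℂ) ^ r = 0 → ‖π‖ = Real.sqrt ((p : ℝ) ^ r)) ∧
      ∃ a b : ℚ_[p], a ≠ b ∧ a ^ 2 - (p : ℚ_[p]) * a + (p : ℚ_[p]) ^ r = 0 ∧
        b ^ 2 - (p : ℚ_[p]) * b + (p : ℚ_[p]) ^ r = 0 ∧ a.valuation = 1 ∧ b.valuation = (r : ℤ) - 1 := by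
  have hp2 : 2 ≤ p := (Fact.out : p.Prime).two_le
  -- key inequality `p^2 < 4 p^r`
  have hkey : (p : ℝ) ^ 2 < 4 * (p : ℝ) ^ r := by
    have h1 : (p : ℝ) ^ 2 ≤ (p : ℝ) ^ r :=
      pow_le_pow_right₀ (by exact_mod_cast (by omega : 1 ≤ p)) (by omega)
    have h2 : 0 < (p : ℝ) ^ r := by positivity
    linarith
  refine ⟨?_, ?_, padic_part p r hr⟩
  · have hmonic : (Polynomial.X ^ 2 - Polynomial.C (p : ℚ) * Polynomial.X +
        Polynomial.C ((p : ℚ) ^ r)).Monic := by
      have : (Polynomial.X ^ 2 - Polynomial.C (p : ℚ) * Polynomial.X +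
        Polynomial.C ((p : ℚ) ^ r)) = Polynomial.X ^ 2 + (Polynomial.C (-(p : ℚ)) * Polynomial.X +
        Polynomial.C ((p : ℚ) ^ r)) := by
        rw [Polynomial.C_neg]; ring
      rw [this]
      apply Polynomial.monic_X_pow_add
      compute_degree!
    have hdeg : (Polynomial.X ^ 2 - Polynomial.C (p : ℚ) * Polynomial.X +
        Polynomial.C ((p : ℚ) ^ r)).natDegree = 2 := by
      compute_degree!
    rw [hmonic.irreducible_iff_roots_eq_zero_of_degree_le_three (by omega) (by omega)]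
    rw [Multiset.eq_zero_iff_forall_notMem]
    intro x hx
    rw [Polynomial.mem_roots hmonic.ne_zero, Polynomial.IsRoot.def] at hx
    simp only [Polynomial.eval_add, Polynomial.eval_sub, Polynomial.eval_pow, Polynomial.eval_X,
      Polynomial.eval_mul, Polynomial.eval_C] at hx
    have hx' : (x : ℝ) ^ 2 - (p : ℝ) * x + (p : ℝ) ^ r = 0 := by exact_mod_cast hx
    nlinarith [sq_nonneg (2 * (x : ℝ) - p)]
  · intro π hπ
    have hre := congrArg Complex.re hπ
    have him := congrArg Complex.im hπ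
    have hpr : ((p : ℂ) ^ r) = (((p : ℝ) ^ r : ℝ) : ℂ) := by push_cast; rfl
    rw [hpr] at hre him
    simp only [Complex.add_re, Complex.sub_re, Complex.add_im, Complex.sub_im, Complex.mul_re,
      Complex.mul_im, Complex.natCast_re, Complex.natCast_im, Complex.ofReal_re, Complex.ofReal_im,
      Complex.zero_re, Complex.zero_im, sq, zero_mul, sub_zero, add_zero] at hre him
    set x := π.re
    set y := π.im
    have hy : y ≠ 0 := by
      intro hy
      rw [hy] at hre
      nlinarith [sq_nonneg (2 * x - p)]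
    have hx : 2 * x = p := by
      have : y * (2 * x - p) = 0 := by linarith
      rcases mul_eq_zero.1 this with h | h
      · exact absurd h hy
      · linarith
    have hsq : x * x + y * y = (p : ℝ) ^ r := by nlinarith
    have hn : ‖π‖ ^ 2 = (p : ℝ) ^ r := by
      rw [Complex.sq_norm, Complex.normSq_apply]
      exact hsq
    rw [← hn, Real.sqrt_sq (norm_nonneg π)]

end Groth.Agent.S16390
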