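import Groth.Statements.S16396
import Mathlib

set_option autoImplicit false
universe u
open CAlg

namespace Groth.Agent.S16396

open Polynomial in
theorem claim_aux (A : Type*) [CommRing A] [Algebra ℚ A] (B : Subalgebra ℚ A[X])
    (hX : (X : A[X]) ∈ B) (hD : ∀ P ∈ B, Polynomial.derivative P ∈ B) :
    ∀ n : ℕ, ∀ Q ∈ B, Q.natDegree ≤ n → ∀ i : ℕ, (C (Q.coeff i) : A[X]) ∈ B := by
  intro n
  induction n with
  | zero =>
    intro Q hQ hdeg i
    have hQC : Q = C (Q.coeff 0) := Polynomial.eq_C_of_natDegree_le_zero hdeg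
    rcases Nat.eq_zero_or_pos i with rfl | hi
    · rw [← hQC]; exact hQ
    · have : Q.coeff i = 0 := by
        rw [hQC, Polynomial.coeff_C]; simp [hi.ne']
      rw [this, map_zero]; exact B.zero_mem
  | succ n ih =>
    intro Q hQ hdeg i
    have hQ' : Polynomial.derivative Q ∈ B := hD Q hQ
    have hdeg' : (Polynomial.derivative Q).natDegree ≤ n :=
      le_trans (Polynomial.natDegree_derivative_le Q) (by omega)
    have hpos : ∀ j : ℕ, (C (Q.coeff (j + 1)) : A[X]) ∈ B := by
      intro j
      have h1 := ih _ hQ' hdeg' j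
      rw [Polynomial.coeff_derivative] at h1
      have h2 : (C (Q.coeff (j + 1)) : A[X]) =
          (((j : ℚ) + 1)⁻¹) • (C (Q.coeff (j + 1) * ((j : A) + 1)) : A[X]) := by
        rw [Polynomial.smul_C]
        congr 1
        have h3 : ((j : A) + 1) = ((j : ℚ) + 1) • (1 : A) := by
          rw [add_smul, one_smul, Nat.cast_smul_eq_nsmul, nsmul_eq_mul, mul_one]
        rw [h3, mul_smul_comm, mul_one, smul_smul, inv_mul_cancel₀, one_smul]
        positivity
      rw [h2]
      exact B.smul_mem h1 _
    rcases Nat.eq_zero_or_pos i with rfl | hi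
    · -- C (coeff 0) = Q - Σ_{j} C (coeff (j+1)) X^(j+1)
      have hsum := Polynomial.as_sum_range' Q (n + 2) (by omega)
      rw [Finset.sum_range_succ'] at hsum
      have h0 : (C (Q.coeff 0) : A[X]) =
          Q - ∑ j ∈ Finset.range (n + 1), Polynomial.monomial (j + 1) (Q.coeff (j + 1)) := by
        rw [Polynomial.monomial_zero_left] at hsum
        rw [eq_sub_iff_add_eq, add_comm]
        exact hsum.symm
      rw [h0]
      refine B.sub_mem hQ (B.sum_mem ?_)
      intro j _
      rw [← Polynomial.C_mul_X_pow_eq_monomial]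
      exact B.mul_mem (hpos j) (B.pow_mem hX _)
    · obtain ⟨j, rfl⟩ : ∃ j, i = j + 1 := ⟨i - 1, by omega⟩
      exact hpos j

open Polynomial in
/-- For a commutative ℚ-algebra A, a ℚ-subalgebra B of the polynomial algebra A[X] that contains X and
is closed under d/dX consists exactly of the polynomials each of whose coefficients is the value at
0 of some element of B; in other words B = ev(B)[X], with ev the evaluation at 0. -/
theorem result
    (A : Type u) [CommRing A] [Algebra ℚ A] (B : Subalgebra ℚ A[X])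
    (hX : (X : A[X]) ∈ B) (hD : ∀ P ∈ B, Polynomial.derivative P ∈ B) (P : A[X]) :
    P ∈ B ↔ ∀ i : ℕ, ∃ Q ∈ B, Polynomial.eval 0 Q = P.coeff i := by
  constructor
  · intro hP i
    exact ⟨C (P.coeff i), claim_aux A B hX hD _ P hP le_rfl i, by simp⟩
  · intro h
    rw [Polynomial.as_sum_range' P (P.natDegree + 1) (by omega)]
    refine B.sum_mem ?_
    intro i _
    obtain ⟨Q, hQ, hQi⟩ := h i
    rw [← Polynomial.C_mul_X_pow_eq_monomial, ← hQi, ← Polynomial.coeff_zero_eq_eval_zero]
    exact B.mul_mem (claim_aux A B hX hD _ Q hQ le_rfl 0) (B.pow_mem hX _)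

end Groth.Agent.S16396
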