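import Groth.Statements.S16400
import Mathlib

set_option autoImplicit false
universe u v
open CAlgX

namespace Groth.Agent.S16400

theorem core {K : Type u} [Field K] {N : Type v} [Fintype N] [DecidableEq N]
    (A : Matrix N N K)
    (hA : LinearMap.ker A.mulVecLin = LinearMap.range A.mulVecLin) (C : Finset N)
    (hind : LinearIndepOn K A.col (C : Set N))
    (hspan : ∀ i, A.col i ∈ Submodule.span K (A.col '' (C : Set N))) :
    Function.Bijective
      (A.submatrix (Subtype.val : {x : N // x ∉ C} → N) (Subtype.val : ↥C → N)).mulVecLin := by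
  classical
  set g : (↥C → K) →ₗ[K] (N → K) := (A.submatrix id (Subtype.val : ↥C → N)).mulVecLin with hg
  have hg_inj : Function.Injective g := by
    have : Function.Injective (A.submatrix id (Subtype.val : ↥C → N)).mulVec := by
      rw [Matrix.mulVec_injective_iff]
      exact hind
    exact this
  have hcolimg : Set.range (A.submatrix id (Subtype.val : ↥C → N)).col = A.col '' (C : Set N) := by
    ext v
    constructor
    · rintro ⟨j, rfl⟩
      exact ⟨j.1, j.2, rfl⟩
    · rintro ⟨j, hj, rfl⟩
      exact ⟨⟨j, hj⟩, rfl⟩
  have hg_range : LinearMap.range g = LinearMap.range A.mulVecLin := by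
    rw [hg, Matrix.range_mulVecLin, Matrix.range_mulVecLin, hcolimg]
    apply le_antisymm
    · apply Submodule.span_mono
      rintro _ ⟨j, _, rfl⟩
      exact ⟨j, rfl⟩
    · rw [Submodule.span_le]
      rintro _ ⟨j, rfl⟩
      exact hspan j
  -- extension by zero
  have hext : ∀ w : N → K, (∀ i, i ∉ C → w i = 0) → A.mulVec w = g (fun j => w j.1) := by
    intro w hw
    funext i
    simp only [hg, Matrix.mulVecLin_apply, Matrix.mulVec, dotProduct, Matrix.submatrix_apply, id]
    rw [← Finset.sum_subset (Finset.subset_univ C) (fun j _ hj => by rw [hw j hj, mul_zero])]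
    exact (Finset.sum_coe_sort C (fun j => A i j * w j)).symm
  have hM : ∀ x : ↥C → K, (A.submatrix (Subtype.val : {x : N // x ∉ C} → N)
      (Subtype.val : ↥C → N)).mulVecLin x = fun i => g x i.1 := fun x => rfl
  have hinj : Function.Injective
      (A.submatrix (Subtype.val : {x : N // x ∉ C} → N) (Subtype.val : ↥C → N)).mulVecLin := by
    rw [← LinearMap.ker_eq_bot, LinearMap.ker_eq_bot']
    intro x hx
    rw [hM] at hx
    have hw : ∀ i, i ∉ C → g x i = 0 := fun i hi => congrFun hx ⟨i, hi⟩
    have hmem : g x ∈ LinearMap.ker A.mulVecLin := by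
      rw [hA, ← hg_range]
      exact ⟨x, rfl⟩
    have h0 : A.mulVec (g x) = 0 := hmem
    rw [hext _ hw] at h0
    have h1 : (fun j : ↥C => g x j.1) = 0 := hg_inj (by rw [h0, map_zero])
    have h2 : g x = 0 := by
      funext i
      by_cases hi : i ∈ C
      · exact congrFun h1 ⟨i, hi⟩
      · exact hw i hi
    exact hg_inj (by rw [h2, map_zero])
  have hrk : Module.finrank K (LinearMap.range A.mulVecLin) = C.card := by
    rw [← hg_range, LinearMap.finrank_range_of_inj hg_inj, Module.finrank_fintype_fun_eq_card,
      Fintype.card_coe]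
  have hcard : Fintype.card N = C.card + C.card := by
    have := LinearMap.finrank_range_add_finrank_ker A.mulVecLin
    rw [hA, hrk, Module.finrank_fintype_fun_eq_card] at this
    exact this.symm
  have hcard2 : Fintype.card {x : N // x ∉ C} = C.card := by
    rw [Fintype.card_subtype_compl, Fintype.card_coe, hcard]
    omega
  refine ⟨hinj, ?_⟩
  refine (LinearMap.injective_iff_surjective_of_finrank_eq_finrank ?_).mp hinj
  rw [Module.finrank_fintype_fun_eq_card, Module.finrank_fintype_fun_eq_card, hcard2,
    Fintype.card_coe]

/-- Let K be a field, N a finite index set and A a square matrix over K indexed by N whose linear map on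
column vectors has kernel equal to its range (so A composed with A is zero and the three-term
sequence it defines is exact in the middle). Then there are subsets N₁₂, N₂₁, N₃₁ of N such that the
block of A with rows in N₃₁ and columns in N₂₁, and the block of A with rows outside N₂₁ and columns
in N₁₂, both act bijectively on column vectors. (In the original setting K is the prime field and
middle exactness is supplied by the Cartier isomorphism; here exactness is the hypothesis and K is
any field.) -/
theorem result
    {K : Type u} [Field K] {N : Type v} [Fintype N] [DecidableEq N]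
    (A : Matrix N N K)
    (hA : LinearMap.ker A.mulVecLin = LinearMap.range A.mulVecLin) :
    ∃ N₁₂ N₂₁ N₃₁ : Finset N,
      Function.Bijective (A.submatrix (Subtype.val : ↥N₃₁ → N) (Subtype.val : ↥N₂₁ → N)).mulVecLin ∧
      Function.Bijective
        (A.submatrix (Subtype.val : {x : N // x ∉ N₂₁} → N) (Subtype.val : ↥N₁₂ → N)).mulVecLin := by
  classical
  obtain ⟨I, hI, hmax⟩ := exists_maximal_linearIndepOn K A.col
  have hCI : ((I.toFinset : Finset N) : Set N) = I := Set.coe_toFinset I
  have hind : LinearIndepOn K A.col ((I.toFinset : Finset N) : Set N) := by rw [hCI]; exact hI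
  have hspan : ∀ i, A.col i ∈ Submodule.span K (A.col '' ((I.toFinset : Finset N) : Set N)) := by
    intro i
    rw [hCI]
    by_cases hi : i ∈ I
    · exact Submodule.subset_span ⟨i, hi, rfl⟩
    · obtain ⟨a, ha, hmem⟩ := hmax i hi
      have := Submodule.smul_mem _ a⁻¹ hmem
      rwa [smul_smul, inv_mul_cancel₀ ha, one_smul] at this
  have hb := core A hA I.toFinset hind hspan
  refine ⟨I.toFinset, I.toFinset, (I.toFinset)ᶜ, ?_, hb⟩
  let e : ↥((I.toFinset)ᶜ) ≃ {x : N // x ∉ I.toFinset} :=
    Equiv.subtypeEquivRight (fun x => Finset.mem_compl)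
  have hcomp : ⇑(A.submatrix (Subtype.val : ↥((I.toFinset)ᶜ) → N)
        (Subtype.val : ↥(I.toFinset) → N)).mulVecLin
      = (fun y : {x : N // x ∉ I.toFinset} → K => y ∘ e) ∘
        ⇑(A.submatrix (Subtype.val : {x : N // x ∉ I.toFinset} → N)
          (Subtype.val : ↥(I.toFinset) → N)).mulVecLin := by
    funext x i
    rfl
  rw [hcomp]
  refine Function.Bijective.comp ?_ hb
  exact (e.symm.arrowCongr (Equiv.refl K)).bijective

end Groth.Agent.S16400
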