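import Groth.Statements.S16401
import Mathlib

set_option autoImplicit false
universe u v
open CAlgX

namespace Groth.Agent.S16401


theorem prod_mem' {R : Type*} [CommRing R] {ι : Type*} [AddCommGroup ι]
    (E : ι → AddSubgroup R) (h0 : E 0 = ⊤)
    (hmul : ∀ a b : ι, ∀ x ∈ E a, ∀ y ∈ E b, x * y ∈ E (a + b))
    {α : Type*} (s : Finset α) (x : α → R) (a : α → ι) (hx : ∀ k ∈ s, x k ∈ E (a k)) :
    ∏ k ∈ s, x k ∈ E (∑ k ∈ s, a k) := by
  classical
  induction s using Finset.induction_on with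
  | empty => simp [h0]
  | insert k s hk ih =>
    rw [Finset.prod_insert hk, Finset.sum_insert hk]
    exact hmul _ _ _ (hx k (Finset.mem_insert_self k s)) _
      (ih (fun j hj => hx j (Finset.mem_insert_of_mem hj)))

theorem det_mem {R : Type*} [CommRing R] {ι : Type*} [AddCommGroup ι]
    (E : ι → AddSubgroup R) (h0 : E 0 = ⊤)
    (hmul : ∀ a b : ι, ∀ x ∈ E a, ∀ y ∈ E b, x * y ∈ E (a + b))
    {r : ℕ} (B : Matrix (Fin r) (Fin r) R) (a c : Fin r → ι)
    (hB : ∀ i l, B i l ∈ E (a i - c l)) : B.det ∈ E (∑ i, a i - ∑ l, c l) := by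
  rw [Matrix.det_apply]
  apply AddSubgroup.sum_mem
  intro σ _
  have h1 : ∏ l, B (σ l) l ∈ E (∑ l, (a (σ l) - c l)) :=
    prod_mem' E h0 hmul Finset.univ (fun l => B (σ l) l) (fun l => a (σ l) - c l) (fun l _ => hB _ _)
  rw [Finset.sum_sub_distrib, Equiv.sum_comp σ a] at h1
  rcases Int.units_eq_one_or (Equiv.Perm.sign σ) with h | h <;> rw [h]
  · simpa using h1
  · simpa using h1

/-- Let R be a commutative ring and (E_a), a ∈ ι, a family of additive subgroups of R indexed by an
additive commutative group ι, with E_0 = R and E_a · E_b ⊆ E_{a+b}. Let β, γ : Fin r → ι be weight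
vectors with Σ_j β_j = Σ_i γ_i, and let ϑ be an r × r matrix over R with ϑ_{ij} ∈ E_{γ_i − β_j} for
all i, j and with unit determinant. Then a column vector u satisfies u_j ∈ E_{β_j} for every j if
and only if (ϑ u)_i ∈ E_{γ_i} for every i; since ϑ is invertible this says that ϑ maps the box Π_j
E_{β_j} bijectively onto the box Π_i E_{γ_i}. -/
theorem result
    {R : Type u} [CommRing R] {ι : Type v} [AddCommGroup ι]
    (E : ι → AddSubgroup R) (h0 : E 0 = ⊤)
    (hmul : ∀ a b : ι, ∀ x ∈ E a, ∀ y ∈ E b, x * y ∈ E (a + b))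
    {r : ℕ} (wβ wγ : Fin r → ι) (hsum : ∑ j, wβ j = ∑ i, wγ i)
    (ϑ : Matrix (Fin r) (Fin r) R) (hϑ : ∀ i j, ϑ i j ∈ E (wγ i - wβ j))
    (hdet : IsUnit ϑ.det) (u : Fin r → R) :
    (∀ j, u j ∈ E (wβ j)) ↔ ∀ i, ϑ.mulVec u i ∈ E (wγ i) := by
  constructor
  · intro hu i
    rw [Matrix.mulVec, dotProduct]
    apply AddSubgroup.sum_mem
    intro j _
    have := hmul _ _ _ (hϑ i j) _ (hu j)
    rwa [sub_add_cancel] at this
  · intro hv j
    have h1 : ϑ.cramer (ϑ.mulVec u) j = ϑ.det * u j := by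
      rw [Matrix.cramer_eq_adjugate_mulVec, Matrix.mulVec_mulVec, Matrix.adjugate_mul]
      simp [Matrix.smul_mulVec]
    have h2 : ϑ.cramer (ϑ.mulVec u) j ∈ E (wβ j) := by
      rw [Matrix.cramer_apply]
      have := det_mem E h0 hmul (ϑ.updateCol j (ϑ.mulVec u)) wγ (fun l => if l = j then 0 else wβ l) (by
        intro i l
        by_cases hl : l = j
        · subst hl
          simp only [Matrix.updateCol_self, if_true, sub_zero]
          exact hv i
        · simp only [Matrix.updateCol_ne hl, if_neg hl]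
          exact hϑ i l)
      have e : ∑ i, wγ i - ∑ l, (if l = j then 0 else wβ l) = wβ j := by
        rw [← hsum]
        have : ∑ l, (if l = j then 0 else wβ l) = ∑ l, wβ l - wβ j := by
          rw [eq_sub_iff_add_eq, ← Finset.sum_erase_add _ _ (Finset.mem_univ j),
            ← Finset.sum_erase_add (f := wβ) _ (Finset.mem_univ j)]
          simp only [if_true, add_zero]
          congr 1
          refine Finset.sum_congr rfl (fun l hl => ?_)
          rw [if_neg (Finset.ne_of_mem_erase hl)]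
        rw [this]; abel
      rwa [e] at this
    obtain ⟨d, hd⟩ := hdet
    have h3 : u j = (↑d⁻¹ : R) * ϑ.cramer (ϑ.mulVec u) j := by
      rw [h1, ← hd, ← mul_assoc, Units.inv_mul, one_mul]
    rw [h3]
    have h4 : (↑d⁻¹ : R) ∈ E 0 := by rw [h0]; trivial
    have := hmul _ _ _ h4 _ h2
    rwa [zero_add] at this

end Groth.Agent.S16401
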