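import Groth.Statements.S16405
import Mathlib

set_option autoImplicit false
universe u v
open InvQ

namespace Groth.Agent.S16405

/-- In weight form. Let b : L → ℤ^r be an injective homomorphism of abelian groups (the case in view: L
the character group of a maximal torus T of a semisimple group over ℂ and b the map dual to the
surjection of the rank-r split torus T' onto T that sends the i-th coordinate cocharacter to the
primitive generator of the i-th ray of the Weyl chamber; only the injectivity of b is used, and ℂ is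
replaced by any commutative ring k). Grade the monoid algebra k[L × ℕ^r] (the coordinate ring of T ×
𝔸^r) by ℤ^r, the monomial (w, n) having weight b(w) + n (the weights of the T'-action u·(t, v) =
(b^∨(u) t, u v)), and grade k[ℕ^r] by ℤ^r/b(L), the monomial n having weight the class of n (the
weights of the action on 𝔸^r of the diagonalizable kernel Z of T' → T, a finite group in the case in
view). For a diagonalizable group acting on an affine scheme the ring of invariants is the
weight-zero part, so the two weight-zero parts are the coordinate rings of the quotients (T ×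
𝔸^r)//T' and 𝔸^r//Z. The statement: the algebra map k[L × ℕ^r] → k[ℕ^r] induced by the projection L
× ℕ^r → ℕ^r (restriction to the slice 1 × 𝔸^r) maps the weight-zero part of k[L × ℕ^r] bijectively
onto the weight-zero part of k[ℕ^r]; hence it induces an isomorphism of k-algebras between them. -/
theorem result
    (k : Type u) [CommRing k] (r : ℕ) (L : Type v) [AddCommGroup L]
    (b : L →+ (Fin r → ℤ)) (hb : Function.Injective b) :
    Set.BijOn
      (AddMonoidAlgebra.mapDomainAlgHom k k (AddMonoidHom.snd L (Fin r → ℕ)))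
      (AddMonoidAlgebra.gradeBy k
        (b.comp (AddMonoidHom.fst L (Fin r → ℕ)) +
          (AddMonoidHom.compLeft (Nat.castAddMonoidHom ℤ) (Fin r)).comp (AddMonoidHom.snd L (Fin r → ℕ))) 0 :
        Set (AddMonoidAlgebra k (L × (Fin r → ℕ))))
      (AddMonoidAlgebra.gradeBy k
        ((QuotientAddGroup.mk' b.range).comp (AddMonoidHom.compLeft (Nat.castAddMonoidHom ℤ) (Fin r))) 0 :
        Set (AddMonoidAlgebra k (Fin r → ℕ))) := by
  classical
  set d₁ : L × (Fin r → ℕ) →+ (Fin r → ℤ) := b.comp (AddMonoidHom.fst L (Fin r → ℕ)) +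
          (AddMonoidHom.compLeft (Nat.castAddMonoidHom ℤ) (Fin r)).comp (AddMonoidHom.snd L (Fin r → ℕ)) with hd₁
  set d₂ : (Fin r → ℕ) →+ (Fin r → ℤ) ⧸ b.range :=
    (QuotientAddGroup.mk' b.range).comp (AddMonoidHom.compLeft (Nat.castAddMonoidHom ℤ) (Fin r)) with hd₂
  have hd₁_apply : ∀ p : L × (Fin r → ℕ), d₁ p = b p.1 + (AddMonoidHom.compLeft (Nat.castAddMonoidHom ℤ) (Fin r)) p.2 := by
    intro p; rfl
  have hd₂_apply : ∀ n : Fin r → ℕ, d₂ n = QuotientAddGroup.mk' b.range ((AddMonoidHom.compLeft (Nat.castAddMonoidHom ℤ) (Fin r)) n) := by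
    intro n; rfl
  have hinj : Set.InjOn (AddMonoidHom.snd L (Fin r → ℕ)) (d₁ ⁻¹' {0}) := by
    rintro ⟨w, n⟩ hp ⟨w', n'⟩ hp' h
    simp only [AddMonoidHom.coe_snd] at h
    subst h
    simp only [Set.mem_preimage, Set.mem_singleton_iff, hd₁_apply] at hp hp'
    have : b w = b w' := by
      have h1 := eq_neg_of_add_eq_zero_left hp
      have h2 := eq_neg_of_add_eq_zero_left hp'
      rw [h1, h2]
    rw [hb this]
  refine ⟨?_, ?_, ?_⟩
  · -- MapsTo
    intro x hx
    rw [SetLike.mem_coe, AddMonoidAlgebra.mem_gradeBy_iff] at hx ⊢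
    intro n hn
    rw [AddMonoidAlgebra.mapDomainAlgHom_apply, AddMonoidAlgebra.coeff_mapDomain] at hn
    have := Finsupp.mapDomain_support hn
    rw [Finset.mem_image] at this
    obtain ⟨⟨w, n'⟩, hp, rfl⟩ := this
    have h0 := hx hp
    simp only [Set.mem_preimage, Set.mem_singleton_iff, hd₁_apply] at h0
    simp only [Set.mem_preimage, Set.mem_singleton_iff, hd₂_apply, AddMonoidHom.coe_snd]
    rw [QuotientAddGroup.mk'_apply, QuotientAddGroup.eq_zero_iff]
    refine ⟨-w, ?_⟩
    rw [map_neg]
    exact (eq_neg_of_add_eq_zero_right h0).symm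
  · -- InjOn
    intro x hx y hy hxy
    rw [SetLike.mem_coe, AddMonoidAlgebra.mem_gradeBy_iff] at hx hy
    rw [AddMonoidAlgebra.mapDomainAlgHom_apply, AddMonoidAlgebra.mapDomainAlgHom_apply] at hxy
    have h1 := congrArg AddMonoidAlgebra.coeff hxy
    rw [AddMonoidAlgebra.coeff_mapDomain, AddMonoidAlgebra.coeff_mapDomain] at h1
    apply AddMonoidAlgebra.coeff_injective
    exact Finsupp.mapDomain_injOn _ hinj hx hy h1
  · -- SurjOn
    intro y hy
    rw [SetLike.mem_coe, AddMonoidAlgebra.mem_gradeBy_iff] at hy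
    have hsec : ∀ n : Fin r → ℕ, ∃ w : L, d₂ n = 0 → b w = (AddMonoidHom.compLeft (Nat.castAddMonoidHom ℤ) (Fin r)) n := by
      intro n
      by_cases h : d₂ n = 0
      · rw [hd₂_apply, QuotientAddGroup.mk'_apply, QuotientAddGroup.eq_zero_iff] at h
        obtain ⟨w, hw⟩ := h
        exact ⟨w, fun _ => hw⟩
      · exact ⟨0, fun h' => absurd h' h⟩
    choose wsec hwsec using hsec
    let σ : (Fin r → ℕ) → L × (Fin r → ℕ) := fun n => (-wsec n, n)
    refine ⟨AddMonoidAlgebra.ofCoeff (Finsupp.mapDomain σ y.coeff), ?_, ?_⟩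
    · rw [SetLike.mem_coe, AddMonoidAlgebra.mem_gradeBy_iff]
      intro p hp
      have := Finsupp.mapDomain_support hp
      rw [Finset.mem_image] at this
      obtain ⟨n, hn, rfl⟩ := this
      have h0 := hy hn
      simp only [Set.mem_preimage, Set.mem_singleton_iff] at h0
      simp only [Set.mem_preimage, Set.mem_singleton_iff, hd₁_apply, σ, map_neg, hwsec n h0, neg_add_cancel]
    · rw [AddMonoidAlgebra.mapDomainAlgHom_apply]
      apply AddMonoidAlgebra.coeff_injective
      rw [AddMonoidAlgebra.coeff_mapDomain]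
      show Finsupp.mapDomain _ (Finsupp.mapDomain σ y.coeff) = y.coeff
      rw [← Finsupp.mapDomain_comp]
      have : (⇑(AddMonoidHom.snd L (Fin r → ℕ)) ∘ σ) = id := by
        funext n; rfl
      rw [this, Finsupp.mapDomain_id]

end Groth.Agent.S16405
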