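import Groth.Statements.S16408
import Mathlib
-- import your own Groth.Agent.* helpers here

set_option autoImplicit false
universe v u
open CategoryTheory CategoryTheory.Limits CategoryTheory.Pretriangulated
open W4c3perfectstacks W4c3perfectstacks.MVSq

namespace Groth.Agent.S16408
set_option linter.unusedSectionVars false
section helpers
open CategoryTheory Limits Pretriangulated


variable {S S' R R' : Type u} [Category.{v} S] [Category.{v} S'] [Category.{v} R] [Category.{v} R']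
    [Preadditive S] [Preadditive S'] [Preadditive R] [Preadditive R']
    [HasZeroObject S] [HasZeroObject S'] [HasZeroObject R] [HasZeroObject R']
    [HasShift S ℤ] [HasShift S' ℤ] [HasShift R ℤ] [HasShift R' ℤ]
    [∀ n : ℤ, (shiftFunctor S n).Additive] [∀ n : ℤ, (shiftFunctor S' n).Additive]
    [∀ n : ℤ, (shiftFunctor R n).Additive] [∀ n : ℤ, (shiftFunctor R' n).Additive]
    [Pretriangulated S] [Pretriangulated S'] [Pretriangulated R] [Pretriangulated R']
    (q : W4c3perfectstacks.MVSq S S' R R')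
    [q.jst.CommShift ℤ] [q.fst.CommShift ℤ] [q.jpst.CommShift ℤ] [q.gst.CommShift ℤ]
    [q.jst.IsTriangulated] [q.fst.IsTriangulated] [q.jpst.IsTriangulated] [q.gst.IsTriangulated]

/-- third map of a distinguished triangle with split mono first map is zero -/
lemma mor₃_eq_zero_of_retraction {C : Type*} [Category C] [Preadditive C] [HasZeroObject C]
    [HasShift C ℤ] [∀ n : ℤ, (shiftFunctor C n).Additive] [Pretriangulated C]
    (T : Triangle C) (hT : T ∈ distTriang C) (r : T.obj₂ ⟶ T.obj₁) (hr : T.mor₁ ≫ r = 𝟙 _) :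
    T.mor₃ = 0 := by
  have h := comp_distTriang_mor_zero₃₁ T hT
  have : T.mor₃ = T.mor₃ ≫ (T.mor₁⟦(1:ℤ)⟧' ≫ r⟦(1:ℤ)⟧') := by
    rw [← Functor.map_comp, hr, CategoryTheory.Functor.map_id, Category.comp_id]
  rw [this, ← Category.assoc, h, zero_comp]

/-- `j^*` kills the connecting map of an MV triangle -/
lemma jst_map_d (N : S) {X Y : S} (m : q.jls.obj (q.jst.obj N) ⊞ X ⟶ Y)
    (a₂ : N ⟶ X)
    (d : Y ⟶ N⟦(1 : ℤ)⟧)
    (h : Triangle.mk (biprod.lift (q.adjJ.unit.app N) a₂) m d ∈ distTriang S) :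
    q.jst.map d = 0 := by
  have hT := q.jst.map_distinguished _ h
  have hr : q.jst.map (biprod.lift (q.adjJ.unit.app N) a₂) ≫
      (q.jst.map (biprod.fst : q.jls.obj (q.jst.obj N) ⊞ X ⟶ _) ≫
        q.adjJ.counit.app (q.jst.obj N)) = 𝟙 (q.jst.obj N) := by
    rw [← Category.assoc, ← Functor.map_comp, biprod.lift_fst]
    exact q.adjJ.left_triangle_components N
  have h3 : q.jst.map d ≫ (q.jst.commShiftIso (1:ℤ)).hom.app N = 0 :=
    mor₃_eq_zero_of_retraction _ hT
    (q.jst.map (biprod.fst : q.jls.obj (q.jst.obj N) ⊞ X ⟶ _) ≫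
        q.adjJ.counit.app (q.jst.obj N)) hr
  have : q.jst.map d = (q.jst.map d ≫ (q.jst.commShiftIso (1:ℤ)).hom.app N) ≫
      (q.jst.commShiftIso (1:ℤ)).inv.app N := by simp
  rw [this, h3, zero_comp]

/-- `j'^* f^*` kills any map killed by `j^*` -/
lemma jpst_fst_map_zero {A B : S} (d : A ⟶ B) (hd : q.jst.map d = 0) :
    q.jpst.map (q.fst.map d) = 0 := by
  have nat := q.e.hom.naturality d
  simp only [Functor.comp_map] at nat
  rw [hd, Functor.map_zero, zero_comp] at nat
  have : q.jpst.map (q.fst.map d) = q.e.inv.app A ≫ (q.e.hom.app A ≫ q.jpst.map (q.fst.map d)) := by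
    simp
  rw [this, ← nat, comp_zero]

/-- a map killed by `j^*` composes to zero with anything into `f_* f^* j_* P`. -/
lemma comp_eq_zero_of_jst (hq : q.IsMV) {A B : S} (d : A ⟶ B) (hd : q.jst.map d = 0) (P : R)
    (t : B ⟶ q.fls.obj (q.fst.obj (q.jls.obj P))) : d ≫ t = 0 := by
  apply (q.adjF.homEquiv _ _).symm.injective
  rw [Adjunction.homEquiv_naturality_left_symm]
  have := hq.isIso_bc2App P
  rw [← cancel_mono (q.bc2App P)]
  apply (q.adjJp.homEquiv _ _).symm.injective
  rw [Category.assoc, Adjunction.homEquiv_naturality_left_symm, jpst_fst_map_zero q d hd]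
  simp

theorem main
    (hq : q.IsMV) (N₁ N₂ : S) (φ : N₁ ⟶ N₂)
    (d₁ : q.fls.obj (q.fst.obj (q.jls.obj (q.jst.obj N₁))) ⟶ N₁⟦(1 : ℤ)⟧)
    (d₂ : q.fls.obj (q.fst.obj (q.jls.obj (q.jst.obj N₂))) ⟶ N₂⟦(1 : ℤ)⟧)
    (h₁ : Triangle.mk (biprod.lift (q.adjJ.unit.app N₁) (q.adjF.unit.app N₁))
        (biprod.desc (q.adjF.unit.app (q.jls.obj (q.jst.obj N₁)))
          (-(q.fls.map (q.fst.map (q.adjJ.unit.app N₁))))) d₁ ∈ distTriang S)
    (h₂ : Triangle.mk (biprod.lift (q.adjJ.unit.app N₂) (q.adjF.unit.app N₂))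
        (biprod.desc (q.adjF.unit.app (q.jls.obj (q.jst.obj N₂)))
          (-(q.fls.map (q.fst.map (q.adjJ.unit.app N₂))))) d₂ ∈ distTriang S) :
    d₁ ≫ (shiftFunctor S (1 : ℤ)).map φ = q.fls.map (q.fst.map (q.jls.map (q.jst.map φ))) ≫ d₂ := by
  have hjd₁ : q.jst.map d₁ = 0 := jst_map_d q N₁ _ _ d₁ h₁
  have comm : biprod.lift (q.adjJ.unit.app N₁) (q.adjF.unit.app N₁) ≫
      biprod.map (q.jls.map (q.jst.map φ)) (q.fls.map (q.fst.map φ)) =
      φ ≫ biprod.lift (q.adjJ.unit.app N₂) (q.adjF.unit.app N₂) := by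
    apply biprod.hom_ext
    · rw [Category.assoc, Category.assoc, biprod.map_fst, biprod.lift_fst_assoc]
      erw [biprod.lift_fst]
      exact (q.adjJ.unit.naturality φ).symm
    · rw [Category.assoc, Category.assoc, biprod.map_snd, biprod.lift_snd_assoc]
      erw [biprod.lift_snd]
      exact (q.adjF.unit.naturality φ).symm
  -- TR3
  have key : ∃ c : q.fls.obj (q.fst.obj (q.jls.obj (q.jst.obj N₁))) ⟶
        q.fls.obj (q.fst.obj (q.jls.obj (q.jst.obj N₂))),
      biprod.desc (q.adjF.unit.app (q.jls.obj (q.jst.obj N₁)))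
          (-(q.fls.map (q.fst.map (q.adjJ.unit.app N₁)))) ≫ c =
        biprod.map (q.jls.map (q.jst.map φ)) (q.fls.map (q.fst.map φ)) ≫
          biprod.desc (q.adjF.unit.app (q.jls.obj (q.jst.obj N₂)))
          (-(q.fls.map (q.fst.map (q.adjJ.unit.app N₂)))) ∧
      d₁ ≫ (shiftFunctor S (1 : ℤ)).map φ = c ≫ d₂ :=
    complete_distinguished_triangle_morphism _ _ h₁ h₂ φ
      (biprod.map (q.jls.map (q.jst.map φ)) (q.fls.map (q.fst.map φ))) comm
  obtain ⟨c, hc₁, hc₂⟩ := key
  set ψ := q.fls.map (q.fst.map (q.jls.map (q.jst.map φ))) with hψ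
  -- ψ also satisfies the middle square
  have hψ₁ : biprod.desc (q.adjF.unit.app (q.jls.obj (q.jst.obj N₁)))
          (-(q.fls.map (q.fst.map (q.adjJ.unit.app N₁)))) ≫ ψ =
      biprod.map (q.jls.map (q.jst.map φ)) (q.fls.map (q.fst.map φ)) ≫
        biprod.desc (q.adjF.unit.app (q.jls.obj (q.jst.obj N₂)))
          (-(q.fls.map (q.fst.map (q.adjJ.unit.app N₂)))) := by
    apply biprod.hom_ext'
    · simp only [biprod.inl_desc_assoc, biprod.inl_map_assoc, biprod.inl_desc]
      exact (q.adjF.unit.naturality (q.jls.map (q.jst.map φ))).symm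
    · simp only [biprod.inr_desc_assoc, biprod.inr_map_assoc, biprod.inr_desc,
        Preadditive.neg_comp, Preadditive.comp_neg, neg_inj]
      rw [hψ, ← Functor.map_comp, ← Functor.map_comp, ← Functor.map_comp, ← Functor.map_comp]
      congr 2
      exact (q.adjJ.unit.naturality φ).symm
  -- c - ψ factors through d₁
  have hdiff : biprod.desc (q.adjF.unit.app (q.jls.obj (q.jst.obj N₁)))
          (-(q.fls.map (q.fst.map (q.adjJ.unit.app N₁)))) ≫ (c - ψ) = 0 := by
    rw [Preadditive.comp_sub, hc₁, hψ₁, sub_self]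
  obtain ⟨t, ht⟩ := Triangle.yoneda_exact₃ _ h₁ (c - ψ) hdiff
  dsimp at t ht
  have hz : c - ψ = 0 := by
    rw [ht]
    exact comp_eq_zero_of_jst q hq d₁ hjd₁ _ t
  have hcψ : c = ψ := sub_eq_zero.mp hz
  rw [← hcψ]
  exact hc₂


end helpers

/-- In a Mayer–Vietoris square of triangulated categories (single-square form), the connecting maps of
the Mayer–Vietoris triangles are natural: for a morphism φ : N₁ ⟶ N₂ over X and connecting maps d₁,
d₂ making the two Mayer–Vietoris triangles (first map the two units, second map (unit of f at j_*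
j^* N, minus f_* f^* of the unit of j)) distinguished, the square formed by d₁, d₂, φ⟦1⟧ and f_* f^*
j_* j^* φ commutes. (The four categories are taken in common universes.) -/
theorem result
    (S S' R R' : Type u) [Category.{v} S] [Category.{v} S'] [Category.{v} R] [Category.{v} R']
    [Preadditive S] [Preadditive S'] [Preadditive R] [Preadditive R']
    [HasZeroObject S] [HasZeroObject S'] [HasZeroObject R] [HasZeroObject R']
    [HasShift S ℤ] [HasShift S' ℤ] [HasShift R ℤ] [HasShift R' ℤ]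
    [∀ n : ℤ, (shiftFunctor S n).Additive] [∀ n : ℤ, (shiftFunctor S' n).Additive]
    [∀ n : ℤ, (shiftFunctor R n).Additive] [∀ n : ℤ, (shiftFunctor R' n).Additive]
    [Pretriangulated S] [Pretriangulated S'] [Pretriangulated R] [Pretriangulated R']
    [IsTriangulated S] [IsTriangulated S'] [IsTriangulated R] [IsTriangulated R']
    (q : W4c3perfectstacks.MVSq S S' R R')
    [q.jst.CommShift ℤ] [q.fst.CommShift ℤ] [q.jpst.CommShift ℤ] [q.gst.CommShift ℤ]
    [q.jst.IsTriangulated] [q.fst.IsTriangulated] [q.jpst.IsTriangulated] [q.gst.IsTriangulated]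
    (hq : q.IsMV) (N₁ N₂ : S) (φ : N₁ ⟶ N₂)
    (d₁ : q.fls.obj (q.fst.obj (q.jls.obj (q.jst.obj N₁))) ⟶ N₁⟦(1 : ℤ)⟧)
    (d₂ : q.fls.obj (q.fst.obj (q.jls.obj (q.jst.obj N₂))) ⟶ N₂⟦(1 : ℤ)⟧)
    (h₁ : Triangle.mk (biprod.lift (q.adjJ.unit.app N₁) (q.adjF.unit.app N₁))
        (biprod.desc (q.adjF.unit.app (q.jls.obj (q.jst.obj N₁)))
          (-(q.fls.map (q.fst.map (q.adjJ.unit.app N₁))))) d₁ ∈ distTriang S)
    (h₂ : Triangle.mk (biprod.lift (q.adjJ.unit.app N₂) (q.adjF.unit.app N₂))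
        (biprod.desc (q.adjF.unit.app (q.jls.obj (q.jst.obj N₂)))
          (-(q.fls.map (q.fst.map (q.adjJ.unit.app N₂))))) d₂ ∈ distTriang S) :
    d₁ ≫ (shiftFunctor S (1 : ℤ)).map φ = q.fls.map (q.fst.map (q.jls.map (q.jst.map φ))) ≫ d₂ := by
  exact main q hq N₁ N₂ φ d₁ d₂ h₁ h₂

end Groth.Agent.S16408
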