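import Groth.Statements.S16409
import Mathlib

set_option autoImplicit false
universe v u
open CategoryTheory CategoryTheory.Limits CategoryTheory.Pretriangulated
open W4c3perfectstacks W4c3perfectstacks.MVSq

namespace Groth.Agent.S16409
open CategoryTheory CategoryTheory.Limits CategoryTheory.Pretriangulated
open W4c3perfectstacks W4c3perfectstacks.MVSq

section helpers



section gen
variable {C D : Type u} [Category.{v} C] [Category.{v} D] [Preadditive C] [Preadditive D]
  [HasZeroObject C] [HasZeroObject D] [HasShift C ℤ] [HasShift D ℤ]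

lemma L0 {F : C ⥤ D} {G : D ⥤ C} (adj : F ⊣ G) {X : C} (hX : IsZero (F.obj X)) (P : D)
    (u : X ⟶ G.obj P) : u = 0 := by
  have : Subsingleton (F.obj X ⟶ P) := ⟨fun a b => hX.eq_of_src a b⟩
  have : Subsingleton (X ⟶ G.obj P) := (adj.homEquiv _ _).symm.subsingleton
  exact Subsingleton.elim _ _

lemma L0' {F : C ⥤ D} {G : D ⥤ C} (adj : F ⊣ G) (X : C) {P : D} (hP : IsZero P)
    (u : X ⟶ G.obj P) : u = 0 := by
  have : Subsingleton (F.obj X ⟶ P) := ⟨fun a b => hP.eq_of_tgt a b⟩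
  have : Subsingleton (X ⟶ G.obj P) := (adj.homEquiv _ _).symm.subsingleton
  exact Subsingleton.elim _ _

lemma L1 {F : C ⥤ D} {G : D ⥤ C} (adj : F ⊣ G) [F.CommShift ℤ] {X : C} (hX : IsZero (F.obj X))
    (P : D) (n : ℤ) (u : X ⟶ (G.obj P)⟦n⟧) : u = 0 := by
  letI : G.CommShift ℤ := adj.rightAdjointCommShift ℤ
  have h := L0 adj hX (P⟦n⟧) (u ≫ ((G.commShiftIso n).app P).inv)
  rw [← cancel_mono ((G.commShiftIso n).app P).inv, h, zero_comp]

lemma TRI [∀ n : ℤ, (shiftFunctor C n).Additive] [Pretriangulated C]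
    {X Y Z : C} (a : X ⟶ Y) (b : Y ⟶ Z) (c : Z ⟶ X⟦(1 : ℤ)⟧)
    (hT : Triangle.mk a b c ∈ distTriang C) (K : C)
    (h0 : ∀ u : K ⟶ Z, u = 0) (h1 : ∀ u : K ⟶ Z⟦(-1 : ℤ)⟧, u = 0) :
    (∀ φ : K ⟶ Y, ∃ ψ : K ⟶ X, φ = ψ ≫ a) ∧
    (∀ ψ : K ⟶ X, ψ ≫ a = 0 → ψ = 0) := by
  constructor
  · intro φ
    exact Triangle.coyoneda_exact₂ _ hT φ (h0 _)
  · intro ψ hψ
    obtain ⟨g, hg⟩ := Triangle.coyoneda_exact₂ (Triangle.mk a b c).invRotate
      (inv_rot_of_distTriang _ hT) ψ hψ
    have hg0 : g = 0 := h1 g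
    rw [hg, hg0]
    exact zero_comp

end gen



end helpers

/-- In a Mayer–Vietoris square of triangulated categories (single-square form), let M be an object over
X' whose restriction to U' is zero and let N be any object over X. Then the pullback functor along
X' → X is bijective on morphisms f_* M ⟶ N; since the counit f^* f_* M ⟶ M is invertible for such M,
composing with its inverse gives a bijection Hom(f_* M, N) ≃ Hom(M, f^* N). (The four categories are
taken in common universes.) -/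
theorem result
    (S S' R R' : Type u) [Category.{v} S] [Category.{v} S'] [Category.{v} R] [Category.{v} R']
    [Preadditive S] [Preadditive S'] [Preadditive R] [Preadditive R']
    [HasZeroObject S] [HasZeroObject S'] [HasZeroObject R] [HasZeroObject R']
    [HasShift S ℤ] [HasShift S' ℤ] [HasShift R ℤ] [HasShift R' ℤ]
    [∀ n : ℤ, (shiftFunctor S n).Additive] [∀ n : ℤ, (shiftFunctor S' n).Additive]
    [∀ n : ℤ, (shiftFunctor R n).Additive] [∀ n : ℤ, (shiftFunctor R' n).Additive]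
    [Pretriangulated S] [Pretriangulated S'] [Pretriangulated R] [Pretriangulated R']
    [IsTriangulated S] [IsTriangulated S'] [IsTriangulated R] [IsTriangulated R']
    (q : W4c3perfectstacks.MVSq S S' R R')
    [q.jst.CommShift ℤ] [q.fst.CommShift ℤ] [q.jpst.CommShift ℤ] [q.gst.CommShift ℤ]
    [q.jst.IsTriangulated] [q.fst.IsTriangulated] [q.jpst.IsTriangulated] [q.gst.IsTriangulated]
    (hq : q.IsMV) (M : S') (hM : IsZero (q.jpst.obj M)) (N : S) :
    Function.Bijective (fun g : q.fls.obj M ⟶ N => q.fst.map g) := by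
  -- Step A: j^* f_* M = 0
  have hK : IsZero (q.jst.obj (q.fls.obj M)) := by
    have : IsIso (q.bcApp M) := hq.isIso_bcApp M
    have h0 : q.bcApp M = 0 := L0' q.adjG _ hM _
    rw [IsZero.iff_id_eq_zero, ← IsIso.hom_inv_id (q.bcApp M)]
    generalize inv (q.bcApp M) = ψ
    rw [h0, zero_comp]
  -- zero-ness of j'^* f^* K
  have hK' : IsZero (q.jpst.obj (q.fst.obj (q.fls.obj M))) :=
    IsZero.of_iso (q.gst.map_isZero hK) (q.e.app (q.fls.obj M)).symm
  -- the triangle on the unit of j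
  obtain ⟨N', (a : N' ⟶ N), (c : q.jls.obj (q.jst.obj N) ⟶ N'⟦(1 : ℤ)⟧), hT⟩ :=
    distinguished_cocone_triangle₁ (q.adjJ.unit.app N)
  have hcounit : ∀ P : R, IsIso (q.adjJ.counit.app P) := by
    have := hq.isIso_counitJ
    intro P; infer_instance
  -- j^* N' = 0
  have hN' : IsZero (q.jst.obj N') := by
    have hT' := q.jst.map_distinguished _ hT
    refine (Triangle.isZero₁_iff_isIso₂ _ hT').2 ?_
    show IsIso (q.jst.map (q.adjJ.unit.app N))
    have h1 : q.jst.map (q.adjJ.unit.app N) ≫ q.adjJ.counit.app (q.jst.obj N) = 𝟙 _ :=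
      q.adjJ.left_triangle_components N
    have := hcounit (q.jst.obj N)
    have h2 : q.jst.map (q.adjJ.unit.app N) = inv (q.adjJ.counit.app (q.jst.obj N)) := by
      rw [← cancel_mono (q.adjJ.counit.app (q.jst.obj N)), h1, IsIso.inv_hom_id]
    rw [h2]; infer_instance
  have top := TRI a (q.adjJ.unit.app N) c hT (q.fls.obj M)
    (fun u => L0 q.adjJ hK _ u) (fun u => L1 q.adjJ hK _ (-1) u)
  have hTf := q.fst.map_distinguished _ hT
  have β : IsIso (q.bc2App (q.jst.obj N)) := hq.isIso_bc2App _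
  have bot := TRI (q.fst.map a) (q.fst.map (q.adjJ.unit.app N))
    (q.fst.map c ≫ (q.fst.commShiftIso (1 : ℤ)).hom.app N') hTf
    (q.fst.obj (q.fls.obj M))
    (fun u => by
      have := L0 q.adjJp hK' _ (u ≫ q.bc2App (q.jst.obj N))
      rw [← cancel_mono (q.bc2App (q.jst.obj N)), zero_comp]
      exact this)
    (fun u => by
      have := L1 q.adjJp hK' _ (-1) (u ≫ (q.bc2App (q.jst.obj N))⟦(-1 : ℤ)⟧')
      rw [← cancel_mono ((q.bc2App (q.jst.obj N))⟦(-1 : ℤ)⟧'), zero_comp]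
      exact this)
  have hunit : IsIso (q.adjF.unit.app N') := hq.isIso_unitF N' hN'
  have left_bij : Function.Bijective (fun ψ : q.fls.obj M ⟶ N' => q.fst.map ψ) := by
    have hcomp : (fun ψ : q.fls.obj M ⟶ N' =>
        (q.adjF.homEquiv (q.fls.obj M) (q.fst.obj N')) (q.fst.map ψ))
        = fun ψ => ψ ≫ q.adjF.unit.app N' := by
      funext ψ
      rw [Adjunction.homEquiv_unit]
      exact (q.adjF.unit.naturality ψ).symm
    have hb : Function.Bijective (fun ψ : q.fls.obj M ⟶ N' => ψ ≫ q.adjF.unit.app N') :=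
      ⟨fun x y h => (cancel_mono _).1 h, fun y => ⟨y ≫ inv (q.adjF.unit.app N'), by simp⟩⟩
    have hb' : Function.Bijective (fun ψ : q.fls.obj M ⟶ N' =>
        (q.adjF.homEquiv (q.fls.obj M) (q.fst.obj N')) (q.fst.map ψ)) := by
      rw [hcomp]; exact hb
    exact (Function.Bijective.of_comp_iff'
      (q.adjF.homEquiv (q.fls.obj M) (q.fst.obj N')).bijective _).1 hb'
  obtain ⟨top_s, top_i⟩ := top
  obtain ⟨bot_s, bot_i⟩ := bot
  constructor
  · intro g₁ g₂ h
    have h' : q.fst.map g₁ = q.fst.map g₂ := h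
    obtain ⟨ψ, hψ⟩ := top_s (g₁ - g₂)
    have hψ' : g₁ - g₂ = ψ ≫ a := hψ
    have h1 : q.fst.map ψ ≫ q.fst.map a = 0 := by
      rw [← q.fst.map_comp, ← hψ', q.fst.map_sub, h', sub_self]
    have h2 : q.fst.map ψ = 0 := bot_i (q.fst.map ψ) h1
    have h3 : ψ = 0 := left_bij.1 (by
      show q.fst.map ψ = q.fst.map 0
      rw [h2, Functor.map_zero])
    rw [h3, zero_comp] at hψ'
    exact sub_eq_zero.1 hψ'
  · intro h
    obtain ⟨h', hh'⟩ := bot_s h
    obtain ⟨ψ, hψ⟩ := left_bij.2 h'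
    refine ⟨ψ ≫ a, ?_⟩
    have hψ' : q.fst.map ψ = h' := hψ
    have hh'' : h = h' ≫ q.fst.map a := hh'
    show q.fst.map (ψ ≫ a) = h
    rw [q.fst.map_comp, hψ', hh'']

end Groth.Agent.S16409
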