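import Groth.Statements.S16410
import Mathlib
import Groth.Agent.Lib.helper2.MVSqLib
-- import your own Groth.Agent.* helpers here

set_option autoImplicit false
universe v u
open CategoryTheory CategoryTheory.Limits CategoryTheory.Pretriangulated
open W4c3perfectstacks W4c3perfectstacks.MVSq

namespace Groth.Agent.S16410
set_option linter.unusedSectionVars false
section helpers
open Groth.Agent.Lib.helper2.MVSqLib


section general

variable {C : Type*} [Category C] [Preadditive C] [HasZeroObject C]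
    [HasShift C ℤ] [∀ n : ℤ, (shiftFunctor C n).Additive] [Pretriangulated C]

/-- A triangle `X ⟶ M ⟶ C` with `M` a biproduct of `A` and `B` such that `B ⟶ C` is an iso:
then `X ⟶ M ⟶ A` is an iso. -/
lemma isIso_of_split' (T : Triangle C) (hT : T ∈ distTriang C) {A B : C}
    (p₁ : T.obj₂ ⟶ A) (p₂ : T.obj₂ ⟶ B) (i₁ : A ⟶ T.obj₂) (i₂ : B ⟶ T.obj₂)
    (h11 : i₁ ≫ p₁ = 𝟙 A) (h21 : i₂ ≫ p₁ = 0) (htot : p₁ ≫ i₁ + p₂ ≫ i₂ = 𝟙 T.obj₂)
    (hiso : IsIso (i₂ ≫ T.mor₂)) : IsIso (T.mor₁ ≫ p₁) := by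
  have hsec : (inv (i₂ ≫ T.mor₂) ≫ i₂) ≫ T.mor₂ = 𝟙 _ := by
    rw [Category.assoc, IsIso.inv_hom_id]
  have hc : T.mor₃ = 0 := by
    have : T.mor₃ = ((inv (i₂ ≫ T.mor₂) ≫ i₂) ≫ T.mor₂) ≫ T.mor₃ := by
      rw [hsec, Category.id_comp]
    rw [this, Category.assoc, comp_distTriang_mor_zero₂₃ T hT, comp_zero]
  have hmono : Mono T.mor₁ := Triangle.mono₁ T hT hc
  set ι := i₁ - i₁ ≫ T.mor₂ ≫ inv (i₂ ≫ T.mor₂) ≫ i₂ with hι
  have hι0 : ι ≫ T.mor₂ = 0 := by
    rw [hι, Preadditive.sub_comp]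
    simp only [Category.assoc]
    rw [IsIso.inv_hom_id, Category.comp_id, sub_self]
  obtain ⟨r, hr⟩ := Triangle.coyoneda_exact₂ T hT ι hι0
  have hιp : ι ≫ p₁ = 𝟙 A := by
    rw [hι, Preadditive.sub_comp]
    simp only [Category.assoc]
    rw [h21, comp_zero, comp_zero, comp_zero, sub_zero, h11]
  have ham : T.mor₁ ≫ T.mor₂ = 0 := comp_distTriang_mor_zero₁₂ T hT
  refine ⟨r, ?_, ?_⟩
  · rw [← cancel_mono T.mor₁, Category.assoc, Category.assoc, ← hr, Category.id_comp]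
    -- a p₁ ι = a
    have h1 : T.mor₁ ≫ p₁ ≫ i₁ = T.mor₁ - T.mor₁ ≫ p₂ ≫ i₂ := by
      have : T.mor₁ = T.mor₁ ≫ (p₁ ≫ i₁ + p₂ ≫ i₂) := by rw [htot, Category.comp_id]
      rw [Preadditive.comp_add] at this
      rw [eq_sub_iff_add_eq]
      exact this.symm
    have h2 : T.mor₁ ≫ p₁ ≫ i₁ ≫ T.mor₂ = - (T.mor₁ ≫ p₂ ≫ i₂ ≫ T.mor₂) := by
      have : (T.mor₁ ≫ p₁ ≫ i₁) ≫ T.mor₂ = (T.mor₁ - T.mor₁ ≫ p₂ ≫ i₂) ≫ T.mor₂ := by rw [h1]
      rw [Preadditive.sub_comp, ham, zero_sub] at this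
      simpa only [Category.assoc] using this
    rw [hι, Preadditive.comp_sub, Preadditive.comp_sub]
    have h3 : T.mor₁ ≫ p₁ ≫ i₁ ≫ T.mor₂ ≫ inv (i₂ ≫ T.mor₂) ≫ i₂ = - (T.mor₁ ≫ p₂ ≫ i₂) := by
      have : T.mor₁ ≫ p₁ ≫ i₁ ≫ T.mor₂ ≫ inv (i₂ ≫ T.mor₂) ≫ i₂ =
          (T.mor₁ ≫ p₁ ≫ i₁ ≫ T.mor₂) ≫ inv (i₂ ≫ T.mor₂) ≫ i₂ := by
        simp only [Category.assoc]
      rw [this, h2, Preadditive.neg_comp]
      congr 1
      have : (T.mor₁ ≫ p₂ ≫ i₂ ≫ T.mor₂) ≫ inv (i₂ ≫ T.mor₂) ≫ i₂ =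
          T.mor₁ ≫ p₂ ≫ ((i₂ ≫ T.mor₂) ≫ inv (i₂ ≫ T.mor₂)) ≫ i₂ := by
        simp only [Category.assoc]
      rw [this, IsIso.hom_inv_id, Category.id_comp]
    rw [h3, h1]
    abel
  · rw [← Category.assoc, ← hr, hιp]

end general

section MV

variable {S S' R R' : Type u} [Category.{v} S] [Category.{v} S'] [Category.{v} R] [Category.{v} R']
    [Preadditive S] [Preadditive S'] [Preadditive R] [Preadditive R']
    [HasZeroObject S] [HasZeroObject S'] [HasZeroObject R] [HasZeroObject R']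
    [HasShift S ℤ] [HasShift S' ℤ] [HasShift R ℤ] [HasShift R' ℤ]
    [∀ n : ℤ, (shiftFunctor S n).Additive] [∀ n : ℤ, (shiftFunctor S' n).Additive]
    [∀ n : ℤ, (shiftFunctor R n).Additive] [∀ n : ℤ, (shiftFunctor R' n).Additive]
    [Pretriangulated S] [Pretriangulated S'] [Pretriangulated R] [Pretriangulated R']
    (q : W4c3perfectstacks.MVSq S S' R R')
    [q.jst.CommShift ℤ] [q.fst.CommShift ℤ] [q.jpst.CommShift ℤ] [q.gst.CommShift ℤ]
    [q.jst.IsTriangulated] [q.fst.IsTriangulated] [q.jpst.IsTriangulated] [q.gst.IsTriangulated]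

lemma hom_fls_jpls_eq_zero (Z : S) (h : IsZero (q.jst.obj Z)) (P' : R')
    (t : Z ⟶ q.fls.obj (q.jpls.obj P')) : t = 0 := by
  apply (q.adjF.homEquiv _ _).symm.injective
  apply (q.adjJp.homEquiv _ _).symm.injective
  exact (isZero_jpst_fst q Z h).eq_of_src _ _

lemma isIso_jpst_unitJp (hq : q.IsMV) (M : S') : IsIso (q.jpst.map (q.adjJp.unit.app M)) := by
  have := hq.isIso_counitJp
  have e := q.adjJp.left_triangle_components M
  have : q.jpst.map (q.adjJp.unit.app M) = inv (q.adjJp.counit.app (q.jpst.obj M)) :=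
    IsIso.eq_inv_of_inv_hom_id e
  rw [this]
  infer_instance

variable (hq : q.IsMV) (NU : R) (N' : S') (δ : q.jpst.obj N' ≅ q.gst.obj NU) (N : S)
    (a : N ⟶ q.jls.obj NU ⊞ q.fls.obj N')
    (d : q.fls.obj (q.jpls.obj (q.gst.obj NU)) ⟶ N⟦(1 : ℤ)⟧)
    (hT : Triangle.mk a
      (biprod.desc (q.adjF.unit.app (q.jls.obj NU) ≫ q.fls.map (q.bc2App NU))
        (-(q.fls.map (q.adjJp.unit.app N' ≫ q.jpls.map δ.hom)))) d ∈ distTriang S)

include hq hT in
theorem part1 : IsIso ((q.adjJ.homEquiv N NU).symm (a ≫ biprod.fst)) := by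
  have hjT := q.jst.map_distinguished _ hT
  have e11 : q.jst.map (biprod.inl : _ ⟶ q.jls.obj NU ⊞ q.fls.obj N') ≫
      q.jst.map (biprod.fst : q.jls.obj NU ⊞ q.fls.obj N' ⟶ _) = 𝟙 _ := by
    rw [← Functor.map_comp, biprod.inl_fst, CategoryTheory.Functor.map_id]
  have e21 : q.jst.map (biprod.inr : _ ⟶ q.jls.obj NU ⊞ q.fls.obj N') ≫
      q.jst.map (biprod.fst : q.jls.obj NU ⊞ q.fls.obj N' ⟶ _) = 0 := by
    rw [← Functor.map_comp, biprod.inr_fst, Functor.map_zero]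
  have etot : q.jst.map (biprod.fst : q.jls.obj NU ⊞ q.fls.obj N' ⟶ _) ≫
      q.jst.map (biprod.inl : _ ⟶ q.jls.obj NU ⊞ q.fls.obj N') +
      q.jst.map (biprod.snd : q.jls.obj NU ⊞ q.fls.obj N' ⟶ _) ≫
      q.jst.map (biprod.inr : _ ⟶ q.jls.obj NU ⊞ q.fls.obj N') = 𝟙 _ := by
    rw [← Functor.map_comp, ← Functor.map_comp, ← Functor.map_add, biprod.total,
      CategoryTheory.Functor.map_id]
  have hφ : IsIso (q.jpst.map (q.adjJp.unit.app N' ≫ q.jpls.map δ.hom)) := by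
    have := isIso_jpst_unitJp q hq N'
    rw [Functor.map_comp]
    infer_instance
  have hφ' := isIso_jst_fls_map q hq _ hφ
  have eiso : IsIso (q.jst.map (biprod.inr : _ ⟶ q.jls.obj NU ⊞ q.fls.obj N') ≫
      q.jst.map (biprod.desc (q.adjF.unit.app (q.jls.obj NU) ≫ q.fls.map (q.bc2App NU))
        (-(q.fls.map (q.adjJp.unit.app N' ≫ q.jpls.map δ.hom))))) := by
    rw [← Functor.map_comp, biprod.inr_desc, Functor.map_neg]
    exact ⟨-inv (q.jst.map (q.fls.map (q.adjJp.unit.app N' ≫ q.jpls.map δ.hom))),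
      by simp, by simp⟩
  have h1 : IsIso (q.jst.map a ≫
      q.jst.map (biprod.fst : q.jls.obj NU ⊞ q.fls.obj N' ⟶ _)) :=
    isIso_of_split' _ hjT
      (q.jst.map (biprod.fst : q.jls.obj NU ⊞ q.fls.obj N' ⟶ _))
      (q.jst.map (biprod.snd : q.jls.obj NU ⊞ q.fls.obj N' ⟶ _))
      (q.jst.map (biprod.inl : _ ⟶ q.jls.obj NU ⊞ q.fls.obj N'))
      (q.jst.map (biprod.inr : _ ⟶ q.jls.obj NU ⊞ q.fls.obj N'))
      e11 e21 etot eiso
  have := hq.isIso_counitJ
  rw [Adjunction.homEquiv_counit, Functor.map_comp]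
  infer_instance

include hT in
lemma G1 (Z' : S) (hZ' : IsZero (q.jst.obj Z')) :
    Function.Bijective (fun x : Z' ⟶ N => x ≫ a ≫ biprod.snd) := by
  have hZ'1 := isZero_jst_shift q Z' hZ' 1
  have b1 : Function.Bijective (fun x : Z' ⟶ N => x ≫ a) :=
    comp_mor₁_bijective _ hT Z' (fun t => hom_fls_jpls_eq_zero q Z' hZ' _ t)
      (fun t => hom_fls_jpls_eq_zero q _ hZ'1 _ t)
  have b2 : Function.Bijective (fun σ : Z' ⟶ q.jls.obj NU ⊞ q.fls.obj N' => σ ≫ biprod.snd) := by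
    constructor
    · intro σ₁ σ₂ h
      apply biprod.hom_ext
      · rw [hom_jls_eq_zero q Z' hZ' _ (σ₁ ≫ biprod.fst)]
        exact (hom_jls_eq_zero q Z' hZ' _ _).symm
      · exact h
    · intro t
      exact ⟨t ≫ biprod.inr, by simp⟩
  have : (fun x : Z' ⟶ N => x ≫ a ≫ biprod.snd) =
      (fun σ : Z' ⟶ q.jls.obj NU ⊞ q.fls.obj N' => σ ≫ biprod.snd) ∘ (fun x : Z' ⟶ N => x ≫ a) := by
    funext x
    simp
  rw [this]
  exact b2.comp b1

lemma isZero_jpst_shift (M : S') (h : IsZero (q.jpst.obj M)) (n : ℤ) :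
    IsZero (q.jpst.obj (M⟦n⟧)) :=
  IsZero.of_iso ((shiftFunctor R' n).map_isZero h) ((q.jpst.commShiftIso n).app M)

include hq in
lemma isZero_jst_fls (M : S') (h : IsZero (q.jpst.obj M)) : IsZero (q.jst.obj (q.fls.obj M)) := by
  have : q.gls.Additive := q.adjG.right_adjoint_additive
  have := hq.isIso_bcApp M
  exact IsZero.of_iso (q.gls.map_isZero h) (asIso (q.bcApp M))

include hq hT in
lemma G2 (Z'' : S') (hZ'' : IsZero (q.jpst.obj Z'')) :
    Function.Bijective (fun y : Z'' ⟶ q.fst.obj N =>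
      y ≫ (q.adjF.homEquiv N N').symm (a ≫ biprod.snd)) := by
  have hZ' : IsZero (q.jst.obj (q.fls.obj Z'')) := isZero_jst_fls q hq Z'' hZ''
  have hε := hq.isIso_counitF Z'' hZ''
  have g1 := G1 q NU N' δ N a d hT (q.fls.obj Z'') hZ'
  have key : ∀ x : q.fls.obj Z'' ⟶ N, q.fst.map x ≫ (q.adjF.homEquiv N N').symm (a ≫ biprod.snd) =
      (q.adjF.homEquiv _ N').symm (x ≫ a ≫ biprod.snd) := fun x =>
    (Adjunction.homEquiv_naturality_left_symm q.adjF x (a ≫ biprod.snd)).symm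
  have : q.fls.Additive := q.adjF.right_adjoint_additive
  constructor
  · intro y₁ y₂ h
    dsimp at h
    have hy : (y₁ - y₂) ≫ (q.adjF.homEquiv N N').symm (a ≫ biprod.snd) = 0 := by
      rw [Preadditive.sub_comp, h, sub_self]
    obtain ⟨x, hx⟩ := (comp_unitF_bijective q hq _ hZ' N).2
      ((q.adjF.homEquiv _ _) (q.adjF.counit.app Z'' ≫ (y₁ - y₂)))
    dsimp at hx
    have hx' : q.fst.map x = q.adjF.counit.app Z'' ≫ (y₁ - y₂) := by
      have h2 := congrArg (q.adjF.homEquiv _ _).symm hx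
      rw [Equiv.symm_apply_apply, Adjunction.homEquiv_naturality_left_symm] at h2
      rw [← h2, Adjunction.homEquiv_counit]
      have := q.adjF.left_triangle_components N
      rw [this, Category.comp_id]
    have h3 : (q.adjF.homEquiv _ N').symm (x ≫ a ≫ biprod.snd) = 0 := by
      rw [← key, hx', Category.assoc, hy, comp_zero]
    have h4 : x ≫ a ≫ biprod.snd = 0 := by
      have := congrArg (q.adjF.homEquiv _ N') h3
      rw [Equiv.apply_symm_apply] at this
      rw [this, Adjunction.homEquiv_unit, Functor.map_zero, comp_zero]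
    have hx0 : x = 0 := g1.1 (by dsimp; rw [h4, zero_comp])
    rw [hx0, Functor.map_zero] at hx'
    have : y₁ - y₂ = 0 := by
      rw [← cancel_epi (q.adjF.counit.app Z''), ← hx', comp_zero]
    exact sub_eq_zero.mp this
  · intro t
    obtain ⟨x, hx⟩ := g1.2 ((q.adjF.homEquiv _ N') (q.adjF.counit.app Z'' ≫ t))
    dsimp at hx
    refine ⟨inv (q.adjF.counit.app Z'') ≫ q.fst.map x, ?_⟩
    dsimp
    rw [Category.assoc, key, hx, Equiv.symm_apply_apply, IsIso.inv_hom_id_assoc]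

include hT in
lemma relation :
    q.jpst.map ((q.adjF.homEquiv N N').symm (a ≫ biprod.snd)) ≫ δ.hom =
      q.e.inv.app N ≫ q.gst.map ((q.adjJ.homEquiv N NU).symm (a ≫ biprod.fst)) := by
  apply (q.adjJp.homEquiv _ _).injective
  apply (q.adjF.homEquiv _ _).injective
  -- LHS
  have hL : (q.adjF.homEquiv _ _) ((q.adjJp.homEquiv _ _)
      (q.jpst.map ((q.adjF.homEquiv N N').symm (a ≫ biprod.snd)) ≫ δ.hom)) =
      (a ≫ biprod.snd) ≫ q.fls.map (q.adjJp.unit.app N' ≫ q.jpls.map δ.hom) := by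
    rw [Adjunction.homEquiv_naturality_left, Adjunction.homEquiv_naturality_right,
      Equiv.apply_symm_apply, Adjunction.homEquiv_unit]
  -- RHS
  have hR : (q.adjF.homEquiv _ _) ((q.adjJp.homEquiv _ _)
      (q.e.inv.app N ≫ q.gst.map ((q.adjJ.homEquiv N NU).symm (a ≫ biprod.fst)))) =
      (a ≫ biprod.fst) ≫ q.adjF.unit.app (q.jls.obj NU) ≫ q.fls.map (q.bc2App NU) := by
    have h1 : (q.adjJp.homEquiv _ _)
        (q.e.inv.app N ≫ q.gst.map ((q.adjJ.homEquiv N NU).symm (a ≫ biprod.fst))) =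
        q.fst.map (a ≫ biprod.fst) ≫ q.bc2App NU := by
      rw [Adjunction.homEquiv_unit, Adjunction.homEquiv_counit]
      unfold W4c3perfectstacks.MVSq.bc2App
      have n1 := q.adjJp.unit.naturality (q.fst.map (a ≫ biprod.fst))
      have n2 := q.e.inv.naturality (a ≫ biprod.fst)
      simp only [Functor.id_obj, Functor.comp_obj, Functor.id_map, Functor.comp_map] at n1 n2
      rw [← Category.assoc (q.fst.map (a ≫ biprod.fst)), n1, Category.assoc]
      congr 1
      simp only [← Functor.map_comp]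
      congr 1
      rw [← Category.assoc (q.jpst.map _), n2, Category.assoc, ← Functor.map_comp]
    rw [h1, Adjunction.homEquiv_unit, Functor.map_comp]
    have n3 := q.adjF.unit.naturality (a ≫ biprod.fst)
    simp only [Functor.id_obj, Functor.comp_obj, Functor.id_map, Functor.comp_map] at n3
    rw [← Category.assoc, ← n3, Category.assoc]
  rw [hL, hR]
  -- from a ≫ m = 0
  have h12 : a ≫ biprod.desc (q.adjF.unit.app (q.jls.obj NU) ≫ q.fls.map (q.bc2App NU))
        (-(q.fls.map (q.adjJp.unit.app N' ≫ q.jpls.map δ.hom))) = 0 :=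
    comp_distTriang_mor_zero₁₂ _ hT
  have ha : a = a ≫ biprod.fst ≫ biprod.inl + a ≫ biprod.snd ≫ biprod.inr := by
    rw [← Preadditive.comp_add, biprod.total, Category.comp_id]
  rw [ha, Preadditive.add_comp] at h12
  simp only [Category.assoc, biprod.inl_desc, biprod.inr_desc, Preadditive.comp_neg] at h12
  rw [← sub_eq_add_neg, sub_eq_zero] at h12
  simp only [Category.assoc]
  exact h12.symm

include hq hT in
theorem part2 : IsIso ((q.adjF.homEquiv N N').symm (a ≫ biprod.snd)) := by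
  set u := (q.adjF.homEquiv N N').symm (a ≫ biprod.snd) with hu
  have hu₁ := part1 q hq NU N' δ N a d hT
  have hju : IsIso (q.jpst.map u) := by
    have hrel := relation q NU N' δ N a d hT
    have : q.jpst.map u = (q.e.inv.app N ≫
        q.gst.map ((q.adjJ.homEquiv N NU).symm (a ≫ biprod.fst))) ≫ δ.inv := by
      rw [← hrel, Category.assoc, Iso.hom_inv_id, Category.comp_id]
    rw [this]
    infer_instance
  obtain ⟨K, k, κ, hK⟩ := distinguished_cocone_triangle₁ u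
  have hK0 : IsZero (q.jpst.obj K) :=
    Triangle.isZero₁_of_isIso₂ _ (q.jpst.map_distinguished _ hK) hju
  have hku : k ≫ u = 0 := comp_distTriang_mor_zero₁₂ _ hK
  have hk : k = 0 := (G2 q hq NU N' δ N a d hT K hK0).1 (by dsimp; rw [hku, zero_comp])
  have hrot := rot_of_distTriang _ hK
  obtain ⟨s, hs⟩ : ∃ s : K⟦(1:ℤ)⟧ ⟶ N', 𝟙 (K⟦(1:ℤ)⟧) = s ≫ κ :=
    Triangle.coyoneda_exact₃ _ hrot (𝟙 (K⟦(1:ℤ)⟧)) (by
      change 𝟙 _ ≫ (-(k⟦(1:ℤ)⟧')) = 0
      rw [hk, Functor.map_zero, neg_zero, comp_zero])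
  obtain ⟨s', hs'⟩ := (G2 q hq NU N' δ N a d hT _ (isZero_jpst_shift q K hK0 1)).2 s
  dsimp at hs'
  have huκ : u ≫ κ = 0 := comp_distTriang_mor_zero₂₃ _ hK
  have hκ : κ = 0 := by
    have : κ = κ ≫ 𝟙 _ := (Category.comp_id _).symm
    rw [this, hs, ← hs', Category.assoc, huκ, comp_zero, comp_zero]
  have hKz : IsZero K := (Triangle.isZero₁_iff _ hK).mpr ⟨hk, hκ⟩
  exact (Triangle.isZero₁_iff_isIso₂ _ hK).mp hKz

end MV


end helpers

/-- Glueing along a Mayer–Vietoris square of triangulated categories (single-square form). Given N_U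
over U, N' over X' and an isomorphism δ between the restriction of N' to U' and the pullback of N_U
to U', let N over X be the third vertex of a distinguished triangle N ⟶ j_* N_U ⊞ f_* N' ⟶ f_* j'_*
g^* N_U ⟶ N⟦1⟧ whose middle map has components (unit of f at j_* N_U followed by f_* of the exchange
map f^* j_* N_U ⟶ j'_* g^* N_U) and (minus f_* of: unit of j' at N' followed by j'_* δ). Then the
maps j^* N ⟶ N_U and f^* N ⟶ N' adjoint to the two components of the first arrow are isomorphisms.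
(Equivalently, the third vertex may be taken to be f_* f^* j_* N_U, identified with f_* j'_* g^* N_U
through the invertible exchange map; the four categories are taken in common universes.) -/
theorem result
    (S S' R R' : Type u) [Category.{v} S] [Category.{v} S'] [Category.{v} R] [Category.{v} R']
    [Preadditive S] [Preadditive S'] [Preadditive R] [Preadditive R']
    [HasZeroObject S] [HasZeroObject S'] [HasZeroObject R] [HasZeroObject R']
    [HasShift S ℤ] [HasShift S' ℤ] [HasShift R ℤ] [HasShift R' ℤ]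
    [∀ n : ℤ, (shiftFunctor S n).Additive] [∀ n : ℤ, (shiftFunctor S' n).Additive]
    [∀ n : ℤ, (shiftFunctor R n).Additive] [∀ n : ℤ, (shiftFunctor R' n).Additive]
    [Pretriangulated S] [Pretriangulated S'] [Pretriangulated R] [Pretriangulated R']
    [IsTriangulated S] [IsTriangulated S'] [IsTriangulated R] [IsTriangulated R']
    (q : W4c3perfectstacks.MVSq S S' R R')
    [q.jst.CommShift ℤ] [q.fst.CommShift ℤ] [q.jpst.CommShift ℤ] [q.gst.CommShift ℤ]
    [q.jst.IsTriangulated] [q.fst.IsTriangulated] [q.jpst.IsTriangulated] [q.gst.IsTriangulated]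
    (hq : q.IsMV) (NU : R) (N' : S') (δ : q.jpst.obj N' ≅ q.gst.obj NU) (N : S)
    (a : N ⟶ q.jls.obj NU ⊞ q.fls.obj N')
    (d : q.fls.obj (q.jpls.obj (q.gst.obj NU)) ⟶ N⟦(1 : ℤ)⟧)
    (hT : Triangle.mk a
      (biprod.desc (q.adjF.unit.app (q.jls.obj NU) ≫ q.fls.map (q.bc2App NU))
        (-(q.fls.map (q.adjJp.unit.app N' ≫ q.jpls.map δ.hom)))) d ∈ distTriang S) :
    IsIso ((q.adjJ.homEquiv N NU).symm (a ≫ biprod.fst)) ∧
      IsIso ((q.adjF.homEquiv N N').symm (a ≫ biprod.snd)) := by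
  exact ⟨part1 q hq NU N' δ N a d hT, part2 q hq NU N' δ N a d hT⟩

end Groth.Agent.S16410
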