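import Groth.Statements.S16411
import Mathlib
import Groth.Agent.Lib.helper2.MVSqLib
import Groth.Agent.Lib.helper2.Compact
-- import your own Groth.Agent.* helpers here

set_option autoImplicit false
universe v u
open CategoryTheory CategoryTheory.Limits CategoryTheory.Pretriangulated
open W4c3perfectstacks W4c3perfectstacks.MVSq

namespace Groth.Agent.S16411
set_option linter.unusedSectionVars false
section helpers
open CohDer Groth.Agent.Lib.helper2.MVSqLib Groth.Agent.Lib.helper2.Compact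


section general

variable {D : Type u} [Category.{v} D] [Preadditive D]

section proj
variable {κ : Type v} (X : κ → D) [HasCoproduct X]

/-- projector of `∐ X` onto the finite sub-coproduct indexed by `s` -/
noncomputable def proj (s : Finset κ) : ∐ X ⟶ ∐ X := by
  classical
  exact ∑ j ∈ s, Sigma.π X j ≫ Sigma.ι X j

lemma ι_proj (s : Finset κ) (k : κ) (hk : k ∈ s) : Sigma.ι X k ≫ proj X s = Sigma.ι X k := by
  classical
  unfold proj
  rw [Preadditive.comp_sum, Finset.sum_eq_single k]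
  · rw [Sigma.ι_π_eq_id_assoc]
  · intro j _ hjk
    rw [Sigma.ι_π_of_ne_assoc _ (Ne.symm hjk), zero_comp]
  · intro h
    exact absurd hk h

lemma comp_proj_mem {K : D} (g : K ⟶ ∐ X) (s : Finset κ) : g ≫ proj X s ∈ finSupp K X := by
  classical
  unfold proj
  rw [Preadditive.comp_sum]
  refine AddSubgroup.sum_mem _ (fun j _ => ?_)
  rw [← Category.assoc]
  exact comp_ι_mem_finSupp j _

/-- (P) -/
lemma comp_map_proj {C' : Type*} [Category C'] [Preadditive C'] (Φ : D ⥤ C') [Φ.Additive]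
    {K : C'} (t : K ⟶ Φ.obj (∐ X)) (s₁ : Finset κ) (a : ∀ k, K ⟶ Φ.obj (X k))
    (ht : t = ∑ k ∈ s₁, a k ≫ Φ.map (Sigma.ι X k)) (s : Finset κ) (hs : s₁ ⊆ s) :
    t ≫ Φ.map (proj X s) = t := by
  rw [ht, Preadditive.sum_comp]
  refine Finset.sum_congr rfl (fun k hk => ?_)
  rw [Category.assoc, ← Φ.map_comp, ι_proj X s k (hs hk)]

end proj

/-- (C3) -/
lemma exists_finset_map {C₁ : Type*} [Category C₁] [HasCoproducts.{v} D]
    (F : C₁ ⥤ D) {κ : Type v} (X : κ → C₁) [HasCoproduct X]
    [PreservesColimit (Discrete.functor X) F] {K : D} (hK : IsCompactObject K)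
    (t : K ⟶ F.obj (∐ X)) :
    ∃ (s : Finset κ) (a : ∀ k, K ⟶ F.obj (X k)), t = ∑ k ∈ s, a k ≫ F.map (Sigma.ι X k) := by
  obtain ⟨s, a, ha⟩ := exists_finset_of_compact hK (fun k => F.obj (X k))
    (t ≫ inv (sigmaComparison F X))
  refine ⟨s, a, ?_⟩
  have : t = (t ≫ inv (sigmaComparison F X)) ≫ sigmaComparison F X := by simp
  rw [this, ha, Preadditive.sum_comp]
  refine Finset.sum_congr rfl (fun k _ => ?_)
  rw [Category.assoc, ι_comp_sigmaComparison]

/-- (C7) -/
lemma exists_finset_adj {C₀ C₁ : Type*} [Category C₀] [Category C₁] [Preadditive C₁]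
    [HasCoproducts.{v} D]
    {L : C₁ ⥤ D} {G : D ⥤ C₁} (adj : L ⊣ G) [L.Additive]
    (F : C₀ ⥤ D) {κ : Type v} (X : κ → C₀) [HasCoproduct X]
    [PreservesColimit (Discrete.functor X) F] {N : C₁} (hK : IsCompactObject (L.obj N))
    (t : N ⟶ G.obj (F.obj (∐ X))) :
    ∃ (s : Finset κ) (a : ∀ k, N ⟶ G.obj (F.obj (X k))),
      t = ∑ k ∈ s, a k ≫ G.map (F.map (Sigma.ι X k)) := by
  have : G.Additive := adj.right_adjoint_additive
  obtain ⟨s, b, hb⟩ := exists_finset_map F X hK ((adj.homEquiv _ _).symm t)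
  refine ⟨s, fun k => adj.homEquiv _ _ (b k), ?_⟩
  have h := congrArg (adj.homEquiv _ _) hb
  rw [Equiv.apply_symm_apply] at h
  rw [h, Adjunction.homEquiv_unit, Functor.map_sum, Preadditive.comp_sum]
  refine Finset.sum_congr rfl (fun k _ => ?_)
  dsimp only
  rw [Adjunction.homEquiv_unit, Functor.map_comp, Category.assoc]

end general

section MV

variable {S S' R R' : Type u} [Category.{v} S] [Category.{v} S'] [Category.{v} R] [Category.{v} R']
    [Preadditive S] [Preadditive S'] [Preadditive R] [Preadditive R']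
    [HasZeroObject S] [HasZeroObject S'] [HasZeroObject R] [HasZeroObject R']
    [HasShift S ℤ] [HasShift S' ℤ] [HasShift R ℤ] [HasShift R' ℤ]
    [∀ n : ℤ, (shiftFunctor S n).Additive] [∀ n : ℤ, (shiftFunctor S' n).Additive]
    [∀ n : ℤ, (shiftFunctor R n).Additive] [∀ n : ℤ, (shiftFunctor R' n).Additive]
    [Pretriangulated S] [Pretriangulated S'] [Pretriangulated R] [Pretriangulated R']
    (q : W4c3perfectstacks.MVSq S S' R R')
    [q.jst.CommShift ℤ] [q.fst.CommShift ℤ] [q.jpst.CommShift ℤ] [q.gst.CommShift ℤ]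
    [q.jst.IsTriangulated] [q.fst.IsTriangulated] [q.jpst.IsTriangulated] [q.gst.IsTriangulated]

lemma bc2App_naturality {P P' : R} (u : P ⟶ P') :
    q.fst.map (q.jls.map u) ≫ q.bc2App P' = q.bc2App P ≫ q.jpls.map (q.gst.map u) := by
  unfold W4c3perfectstacks.MVSq.bc2App
  have h1 := q.adjJp.unit.naturality (q.fst.map (q.jls.map u))
  have h2 := q.e.inv.naturality (q.jls.map u)
  have h3 := q.adjJ.counit.naturality u
  simp only [Functor.id_obj, Functor.comp_obj, Functor.id_map, Functor.comp_map] at h1 h2 h3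
  rw [← Category.assoc, h1]
  simp only [Category.assoc, ← Functor.map_comp]
  congr 2
  rw [← Category.assoc, h2, Category.assoc, ← Functor.map_comp, h3, Functor.map_comp]

variable [HasCoproducts.{v} S] [HasCoproducts.{v} S'] [HasCoproducts.{v} R] [HasCoproducts.{v} R']

theorem main (hq : q.IsMV)
    (N : S) (hU : CohDer.IsCompactObject (q.jst.obj N)) (hX' : CohDer.IsCompactObject (q.fst.obj N))
    (hU' : CohDer.IsCompactObject (q.gst.obj (q.jst.obj N))) :
    CohDer.IsCompactObject N := by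
  classical
  rw [isCompactObject_iff]
  intro κ X f
  have pJ : PreservesColimitsOfSize.{v, v} q.jst := q.adjJ.leftAdjoint_preservesColimits
  have pF : PreservesColimitsOfSize.{v, v} q.fst := q.adjF.leftAdjoint_preservesColimits
  have pG : PreservesColimitsOfSize.{v, v} q.gst := q.adjG.leftAdjoint_preservesColimits
  have aJ : q.jls.Additive := q.adjJ.right_adjoint_additive
  have aF : q.fls.Additive := q.adjF.right_adjoint_additive
  have aJp : q.jpls.Additive := q.adjJp.right_adjoint_additive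
  -- step 1
  obtain ⟨s₁, a₁, h₁⟩ := exists_finset_adj q.adjJ q.jst X hU (f ≫ q.adjJ.unit.app (∐ X))
  obtain ⟨s₂, a₂, h₂⟩ := exists_finset_adj q.adjF q.fst X hX' (f ≫ q.adjF.unit.app (∐ X))
  have hf'J : (f - f ≫ proj X (s₁ ∪ s₂)) ≫ q.adjJ.unit.app (∐ X) = 0 := by
    have h := comp_map_proj X (q.jst ⋙ q.jls) (f ≫ q.adjJ.unit.app (∐ X)) s₁ a₁ h₁ (s₁ ∪ s₂)
      Finset.subset_union_left
    have nat := q.adjJ.unit.naturality (proj X (s₁ ∪ s₂))
    simp only [Functor.id_obj, Functor.comp_obj, Functor.id_map, Functor.comp_map] at nat h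
    rw [Preadditive.sub_comp, Category.assoc, nat, ← Category.assoc, h, sub_self]
  have hf'F : (f - f ≫ proj X (s₁ ∪ s₂)) ≫ q.adjF.unit.app (∐ X) = 0 := by
    have h := comp_map_proj X (q.fst ⋙ q.fls) (f ≫ q.adjF.unit.app (∐ X)) s₂ a₂ h₂ (s₁ ∪ s₂)
      Finset.subset_union_right
    have nat := q.adjF.unit.naturality (proj X (s₁ ∪ s₂))
    simp only [Functor.id_obj, Functor.comp_obj, Functor.id_map, Functor.comp_map] at nat h
    rw [Preadditive.sub_comp, Category.assoc, nat, ← Category.assoc, h, sub_self]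
  set f' := f - f ≫ proj X (s₁ ∪ s₂) with hf'
  -- the MV triangle of ∐ X
  obtain ⟨d, hd⟩ := exists_MV_triangle q hq (∐ X)
  have hf'a : f' ≫ biprod.lift (q.adjJ.unit.app (∐ X)) (q.adjF.unit.app (∐ X)) = 0 := by
    apply biprod.hom_ext
    · rw [Category.assoc]
      erw [biprod.lift_fst]
      rw [hf'J, zero_comp]
    · rw [Category.assoc]
      erw [biprod.lift_snd]
      rw [hf'F, zero_comp]
  obtain ⟨t, ht⟩ : ∃ t : N⟦(1:ℤ)⟧ ⟶ q.fls.obj (q.fst.obj (q.jls.obj (q.jst.obj (∐ X)))),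
      f'⟦(1:ℤ)⟧' = t ≫ d :=
    Triangle.coyoneda_exact₁ _ hd (f'⟦(1:ℤ)⟧') (by
      change f'⟦(1:ℤ)⟧' ≫ (biprod.lift (q.adjJ.unit.app (∐ X)) (q.adjF.unit.app (∐ X)))⟦(1:ℤ)⟧' = 0
      rw [← Functor.map_comp, hf'a, Functor.map_zero])
  -- compactness of j'^* f^* (N[1])
  have hK : IsCompactObject ((q.fst ⋙ q.jpst).obj (N⟦(1:ℤ)⟧)) := by
    have h1 := isCompactObject_shift hU' 1
    refine isCompactObject_of_iso ?_ h1
    exact ((q.gst.commShiftIso (1:ℤ)).app _).symm ≪≫
      q.gst.mapIso (((q.jst.commShiftIso (1:ℤ)).app N).symm) ≪≫ q.e.app (N⟦(1:ℤ)⟧)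
  have hbc := hq.isIso_bc2App (q.jst.obj (∐ X))
  obtain ⟨s₃, c, h₃⟩ := exists_finset_adj (q.adjF.comp q.adjJp) (q.jst ⋙ q.gst) X hK
    (t ≫ q.fls.map (q.bc2App (q.jst.obj (∐ X))))
  have h4 := comp_map_proj X ((q.jst ⋙ q.gst) ⋙ (q.jpls ⋙ q.fls))
    (t ≫ q.fls.map (q.bc2App (q.jst.obj (∐ X)))) s₃ c h₃ s₃ (Finset.Subset.refl _)
  have hnat : q.fls.map (q.fst.map (q.jls.map (q.jst.map (proj X s₃)))) ≫
      q.fls.map (q.bc2App (q.jst.obj (∐ X))) =
      q.fls.map (q.bc2App (q.jst.obj (∐ X))) ≫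
        q.fls.map (q.jpls.map (q.gst.map (q.jst.map (proj X s₃)))) := by
    rw [← Functor.map_comp, ← Functor.map_comp, bc2App_naturality]
  have h5 : t ≫ q.fls.map (q.fst.map (q.jls.map (q.jst.map (proj X s₃)))) = t := by
    rw [← cancel_mono (q.fls.map (q.bc2App (q.jst.obj (∐ X)))), Category.assoc, hnat,
      ← Category.assoc]
    exact h4
  have h6 := MV_naturality q hq (∐ X) (∐ X) (proj X s₃) d d hd hd
  have h7 : (f' ≫ proj X s₃)⟦(1:ℤ)⟧' = f'⟦(1:ℤ)⟧' := by
    rw [Functor.map_comp, ht, Category.assoc, h6, ← Category.assoc, h5]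
  have h8 : f' ≫ proj X s₃ = f' := (shiftFunctor S (1:ℤ)).map_injective h7
  have h9 : f = f ≫ proj X (s₁ ∪ s₂) + f' := by
    rw [hf']
    abel
  rw [h9, ← h8]
  exact add_mem (comp_proj_mem X f _) (comp_proj_mem X f' _)

end MV


end helpers

/-- In a Mayer–Vietoris square of triangulated categories with small coproducts (single-square form), an
object over X whose restrictions to U, to X' and to U' are compact is compact. (The four categories
are taken in common universes; coproducts are indexed by types in the morphism universe.) -/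
theorem result
    (S S' R R' : Type u) [Category.{v} S] [Category.{v} S'] [Category.{v} R] [Category.{v} R']
    [Preadditive S] [Preadditive S'] [Preadditive R] [Preadditive R']
    [HasZeroObject S] [HasZeroObject S'] [HasZeroObject R] [HasZeroObject R']
    [HasShift S ℤ] [HasShift S' ℤ] [HasShift R ℤ] [HasShift R' ℤ]
    [∀ n : ℤ, (shiftFunctor S n).Additive] [∀ n : ℤ, (shiftFunctor S' n).Additive]
    [∀ n : ℤ, (shiftFunctor R n).Additive] [∀ n : ℤ, (shiftFunctor R' n).Additive]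
    [Pretriangulated S] [Pretriangulated S'] [Pretriangulated R] [Pretriangulated R']
    [IsTriangulated S] [IsTriangulated S'] [IsTriangulated R] [IsTriangulated R']
    (q : W4c3perfectstacks.MVSq S S' R R')
    [q.jst.CommShift ℤ] [q.fst.CommShift ℤ] [q.jpst.CommShift ℤ] [q.gst.CommShift ℤ]
    [q.jst.IsTriangulated] [q.fst.IsTriangulated] [q.jpst.IsTriangulated] [q.gst.IsTriangulated]
    (hq : q.IsMV)
    [HasCoproducts.{v} S] [HasCoproducts.{v} S'] [HasCoproducts.{v} R] [HasCoproducts.{v} R']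
    (N : S) (hU : CohDer.IsCompactObject (q.jst.obj N)) (hX' : CohDer.IsCompactObject (q.fst.obj N))
    (hU' : CohDer.IsCompactObject (q.gst.obj (q.jst.obj N))) :
    CohDer.IsCompactObject N := by
  exact main q hq N hU hX' hU'

end Groth.Agent.S16411
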