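import Groth.Statements.S16416
import Mathlib

set_option autoImplicit false
universe u v w
open Dieud

namespace Groth.Agent.S16416

/-- For a prime p and a perfect field k of characteristic p, write W = W(k) for the ring of Witt vectors
and σ for its Frobenius; let M and N be free W-modules of finite rank, each with additive maps F
(σ-semilinear) and V (with V(σ(a)m) = aV(m)) satisfying FV = VF = p, and H = Hom_W(M, N). On H the
operator F acts through h ↦ F ∘ h ∘ V, and V acts partially: V·h is the W-linear map h' with h'(V m)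
= V(h(m)) for all m, when it exists. Let H₁ be the largest W-submodule of H stable under both (it
contains every submodule stable under both). Then H₁ ∩ V·H = V·H₁: if y ∈ H and V·y exists and lies
in H₁, then y ∈ H₁, so that H₁/VH₁ → H/(H ∩ VH) is injective. (The published statement is for the
Cartier modules of two p-divisible formal groups over k, every slope of the first below every slope
of the second; only the structure just listed is used, so connectedness and the slope condition are
not assumed.) -/
theorem result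
    (p : ℕ) [Fact p.Prime] (k : Type u) [Field k] [CharP k p] [PerfectRing k p]
    (M : Type v) [AddCommGroup M] [Module (WittVector p k) M]
    [Module.Free (WittVector p k) M] [Module.Finite (WittVector p k) M]
    (N : Type w) [AddCommGroup N] [Module (WittVector p k) N]
    [Module.Free (WittVector p k) N] [Module.Finite (WittVector p k) N]
    (FM VM : M →+ M) (FN VN : N →+ N)
    (hFM : ∀ (a : WittVector p k) (m : M), FM (a • m) = WittVector.frobenius a • FM m)
    (hVM : ∀ (a : WittVector p k) (m : M), VM (WittVector.frobenius a • m) = a • VM m)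
    (hFVM : ∀ m : M, FM (VM m) = (p : WittVector p k) • m)
    (hVFM : ∀ m : M, VM (FM m) = (p : WittVector p k) • m)
    (hFN : ∀ (a : WittVector p k) (n : N), FN (a • n) = WittVector.frobenius a • FN n)
    (hVN : ∀ (a : WittVector p k) (n : N), VN (WittVector.frobenius a • n) = a • VN n)
    (hFVN : ∀ n : N, FN (VN n) = (p : WittVector p k) • n)
    (hVFN : ∀ n : N, VN (FN n) = (p : WittVector p k) • n)
    (H₁ : Submodule (WittVector p k) (M →ₗ[WittVector p k] N))
    (hF : ∀ h ∈ H₁, ∃ h' ∈ H₁, ∀ m : M, h' m = FN (h (VM m)))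
    (hV : ∀ h ∈ H₁, ∃ h' ∈ H₁, ∀ m : M, h' (VM m) = VN (h m))
    (hmax : ∀ S : Submodule (WittVector p k) (M →ₗ[WittVector p k] N),
      (∀ h ∈ S, ∃ h' ∈ S, ∀ m : M, h' m = FN (h (VM m))) →
      (∀ h ∈ S, ∃ h' ∈ S, ∀ m : M, h' (VM m) = VN (h m)) → S ≤ H₁)
    (y : M →ₗ[WittVector p k] N) (x : M →ₗ[WittVector p k] N) (hx : x ∈ H₁)
    (hxy : ∀ m : M, x (VM m) = VN (y m)) :
    y ∈ H₁ := by
  classical
  have hsurj : Function.Surjective (WittVector.frobenius : WittVector p k → WittVector p k) :=
    (WittVector.frobenius_bijective p k).2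
  -- the operator F on Hom
  let Fop : (M →ₗ[WittVector p k] N) → (M →ₗ[WittVector p k] N) := fun h =>
    { toFun := fun m => FN (h (VM m))
      map_add' := by intro a b; rw [map_add, map_add, map_add]
      map_smul' := by
        intro a m
        obtain ⟨a', rfl⟩ := hsurj a
        rw [hVM, map_smul, hFN, RingHom.id_apply] }
  have hFop : ∀ h m, Fop h m = FN (h (VM m)) := fun h m => rfl
  have hFop_add : ∀ h₁ h₂, Fop (h₁ + h₂) = Fop h₁ + Fop h₂ := by
    intro h₁ h₂; ext m; simp [hFop]
  have hFop_smul : ∀ (a : WittVector p k) h, Fop (a • h) = WittVector.frobenius a • Fop h := by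
    intro a h; ext m; simp [hFop, hFN]
  have hFop_zero : Fop 0 = 0 := by ext m; simp [hFop]
  let S : Submodule (WittVector p k) (M →ₗ[WittVector p k] N) :=
    H₁ ⊔ Submodule.span (WittVector p k) (Set.range (fun n : ℕ => Fop^[n] y))
  have hyS : y ∈ S := Submodule.mem_sup_right (Submodule.subset_span ⟨0, rfl⟩)
  have hH₁F : ∀ h ∈ H₁, Fop h ∈ H₁ := by
    intro h hh
    obtain ⟨h', hh', hh'm⟩ := hF h hh
    have : h' = Fop h := by ext m; rw [hh'm, hFop]
    rw [← this]; exact hh'
  -- F-closure
  have hSF : ∀ h ∈ S, ∃ h' ∈ S, ∀ m : M, h' m = FN (h (VM m)) := by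
    intro h hh
    refine ⟨Fop h, ?_, fun m => rfl⟩
    obtain ⟨h₁, hh₁, t, ht, rfl⟩ := Submodule.mem_sup.1 hh
    rw [hFop_add]
    refine Submodule.add_mem _ (Submodule.mem_sup_left (hH₁F h₁ hh₁)) (Submodule.mem_sup_right ?_)
    refine Submodule.span_induction (p := fun t _ => Fop t ∈ Submodule.span (WittVector p k)
      (Set.range (fun n : ℕ => Fop^[n] y))) ?_ ?_ ?_ ?_ ht
    · rintro _ ⟨n, rfl⟩
      apply Submodule.subset_span
      exact ⟨n + 1, by simp only [Function.iterate_succ_apply']⟩
    · rw [hFop_zero]; exact Submodule.zero_mem _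
    · intro a b _ _ ha hb
      rw [hFop_add]; exact Submodule.add_mem _ ha hb
    · intro a b _ hb
      rw [hFop_smul]; exact Submodule.smul_mem _ _ hb
  -- V-closure
  have hSV : ∀ h ∈ S, ∃ h' ∈ S, ∀ m : M, h' (VM m) = VN (h m) := by
    intro h hh
    obtain ⟨h₁, hh₁, t, ht, rfl⟩ := Submodule.mem_sup.1 hh
    obtain ⟨h₁', hh₁', hh₁'m⟩ := hV h₁ hh₁
    suffices hsuff : ∃ t' ∈ S, ∀ m : M, t' (VM m) = VN (t m) by
      obtain ⟨t', ht', ht'm⟩ := hsuff
      refine ⟨h₁' + t', Submodule.add_mem _ (Submodule.mem_sup_left hh₁') ht', fun m => ?_⟩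
      rw [LinearMap.add_apply, LinearMap.add_apply, hh₁'m, ht'm, map_add]
    refine Submodule.span_induction (p := fun t _ => ∃ t' ∈ S, ∀ m : M, t' (VM m) = VN (t m)) ?_ ?_ ?_ ?_ ht
    · rintro _ ⟨n, rfl⟩
      cases n with
      | zero => exact ⟨x, Submodule.mem_sup_left hx, hxy⟩
      | succ n =>
        refine ⟨(p : WittVector p k) • Fop^[n] y, Submodule.smul_mem _ _
          (Submodule.mem_sup_right (Submodule.subset_span ⟨n, rfl⟩)), fun m => ?_⟩
        simp only [Function.iterate_succ_apply']
        rw [hFop, hVFN, LinearMap.smul_apply]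
    · exact ⟨0, Submodule.zero_mem _, fun m => by simp⟩
    · rintro a b _ _ ⟨a', ha', ha'm⟩ ⟨b', hb', hb'm⟩
      exact ⟨a' + b', Submodule.add_mem _ ha' hb', fun m => by
        rw [LinearMap.add_apply, LinearMap.add_apply, ha'm, hb'm, map_add]⟩
    · rintro a b _ ⟨b', hb', hb'm⟩
      obtain ⟨a', rfl⟩ := hsurj a
      refine ⟨a' • b', Submodule.smul_mem _ _ hb', fun m => ?_⟩
      rw [LinearMap.smul_apply, LinearMap.smul_apply, hb'm, hVN]
  exact hmax S hSF hSV hyS

end Groth.Agent.S16416
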