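import Groth.Statements.S16418
import Mathlib

set_option autoImplicit false
universe u v
open Dieud

namespace Groth.Agent.S16418

/-- Step of the proof: for a prime p and a perfect field k of characteristic p, write W = W(k) and σ for
its Frobenius; let M be a W-module with additive maps F (σ-semilinear) and V (with V(σ(a)m) = aV(m))
such that FV = VF = p, V is injective, ⋂_n V^n M = 0 and M/VM is finitely generated over W. Put M₁ =
{x ∈ M : for every n there is m with V^m x ∈ F^n M} and M₂ = {x ∈ M : F^n x = 0 for some n}. Then M₂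
is killed by a single power of F, and F is injective on M₁. (The published text makes these
assertions inside a proof, for the V-reduced Cartier module of a connected smooth formal group of
finite dimension over k; only the listed structure is used, and V-adic completeness is not needed.) -/
theorem result
    (p : ℕ) [Fact p.Prime] (k : Type u) [Field k] [CharP k p] [PerfectRing k p]
    (M : Type v) [AddCommGroup M] [Module (WittVector p k) M]
    (F V : M →+ M)
    (hF : ∀ (a : WittVector p k) (m : M), F (a • m) = WittVector.frobenius a • F m)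
    (hV : ∀ (a : WittVector p k) (m : M), V (WittVector.frobenius a • m) = a • V m)
    (hFV : ∀ m : M, F (V m) = (p : WittVector p k) • m)
    (hVF : ∀ m : M, V (F m) = (p : WittVector p k) • m)
    (hVinj : Function.Injective V)
    (hsep : ∀ x : M, (∀ n : ℕ, ∃ y : M, x = (⇑V)^[n] y) → x = 0)
    (hfin : Module.Finite (WittVector p k) (M ⧸ Submodule.span (WittVector p k) (Set.range V))) :
    (∃ c : ℕ, ∀ x : M, (∃ n : ℕ, (⇑F)^[n] x = 0) → (⇑F)^[c] x = 0) ∧
    (∀ x : M, (∀ n : ℕ, ∃ (m : ℕ) (y : M), (⇑V)^[m] x = (⇑F)^[n] y) → F x = 0 → x = 0) := by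
  classical
  -- commutation
  have hcomm : ∀ m : M, F (V m) = V (F m) := fun m => by rw [hFV, hVF]
  have hFjV : ∀ (j : ℕ) (m : M), (⇑F)^[j] (V m) = V ((⇑F)^[j] m) := by
    intro j
    induction j with
    | zero => intro m; rfl
    | succ j ih => intro m; rw [Function.iterate_succ_apply, Function.iterate_succ_apply, hcomm, ih]
  have hFjVn : ∀ (j n : ℕ) (m : M), (⇑F)^[j] ((⇑V)^[n] m) = (⇑V)^[n] ((⇑F)^[j] m) := by
    intro j n
    induction n with
    | zero => intro m; rfl
    | succ n ih =>
      intro m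
      rw [Function.iterate_succ_apply', Function.iterate_succ_apply', hFjV, ih]
  have hFj0 : ∀ j : ℕ, (⇑F)^[j] (0 : M) = 0 := by
    intro j
    induction j with
    | zero => rfl
    | succ j ih => rw [Function.iterate_succ_apply', ih, map_zero]
  have hFjadd : ∀ (j : ℕ) (x y : M), (⇑F)^[j] (x + y) = (⇑F)^[j] x + (⇑F)^[j] y := by
    intro j
    induction j with
    | zero => intro x y; rfl
    | succ j ih => intro x y; rw [Function.iterate_succ_apply', Function.iterate_succ_apply',
        Function.iterate_succ_apply', ih, map_add]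
  have hFjsmul : ∀ (j : ℕ) (a : WittVector p k) (x : M),
      (⇑F)^[j] (a • x) = ((⇑(WittVector.frobenius : WittVector p k →+* WittVector p k))^[j] a) • (⇑F)^[j] x := by
    intro j
    induction j with
    | zero => intro a x; rfl
    | succ j ih =>
      intro a x
      rw [Function.iterate_succ_apply', Function.iterate_succ_apply', Function.iterate_succ_apply', ih, hF]
  have hVninj : ∀ n : ℕ, Function.Injective ((⇑V)^[n]) := fun n => hVinj.iterate n
  -- the submodules N j
  let N : ℕ → Submodule (WittVector p k) M := fun j =>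
    { carrier := {x | (⇑F)^[j] x = 0}
      zero_mem' := hFj0 j
      add_mem' := by
        intro x y hx hy
        simp only [Set.mem_ofPred_eq] at hx hy ⊢
        rw [hFjadd, hx, hy, add_zero]
      smul_mem' := by
        intro a x hx
        simp only [Set.mem_ofPred_eq] at hx ⊢
        rw [hFjsmul, hx, smul_zero] }
  have hN : ∀ j x, x ∈ N j ↔ (⇑F)^[j] x = 0 := fun j x => Iff.rfl
  have hNmono : ∀ j, N j ≤ N (j + 1) := by
    intro j x hx
    rw [hN] at hx ⊢
    rw [Function.iterate_succ_apply', hx, map_zero]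
  have hNmono' : Monotone N := monotone_nat_of_le_succ hNmono
  -- elements of VM
  have hVM : ∀ x ∈ Submodule.span (WittVector p k) (Set.range V), ∃ y, x = V y := by
    intro x hx
    refine Submodule.span_induction (p := fun x _ => ∃ y, x = V y) ?_ ?_ ?_ ?_ hx
    · rintro _ ⟨y, rfl⟩; exact ⟨y, rfl⟩
    · exact ⟨0, (map_zero V).symm⟩
    · rintro x y _ _ ⟨a, rfl⟩ ⟨b, rfl⟩; exact ⟨a + b, (map_add V a b).symm⟩
    · rintro a x _ ⟨y, rfl⟩
      exact ⟨WittVector.frobenius a • y, (hV a y).symm⟩
  -- noetherian stabilization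
  have : IsNoetherian (WittVector p k) (M ⧸ Submodule.span (WittVector p k) (Set.range V)) :=
    isNoetherian_of_isNoetherianRing_of_finite _ _
  let Nbar : ℕ →o Submodule (WittVector p k) (M ⧸ Submodule.span (WittVector p k) (Set.range V)) :=
    ⟨fun j => (N j).map (Submodule.mkQ _), fun i j hij => Submodule.map_mono (hNmono' hij)⟩
  obtain ⟨c, hc⟩ := monotone_stabilizes_iff_noetherian.mpr ‹_› Nbar
  -- decomposition
  have hdec : ∀ x ∈ N (c + 1), ∃ x₀ ∈ N c, ∃ y ∈ N (c + 1), x = x₀ + V y := by
    intro x hx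
    have h1 : Submodule.mkQ _ x ∈ Nbar (c + 1) := Submodule.mem_map_of_mem hx
    rw [← hc (c + 1) (Nat.le_succ c)] at h1
    obtain ⟨x₀, hx₀, hx₀x⟩ := h1
    have h2 : x - x₀ ∈ Submodule.span (WittVector p k) (Set.range V) := by
      rw [← Submodule.ker_mkQ (Submodule.span (WittVector p k) (Set.range V)), LinearMap.mem_ker, map_sub,
        hx₀x, sub_self]
    obtain ⟨y, hy⟩ := hVM _ h2
    refine ⟨x₀, hx₀, y, ?_, by rw [← hy]; abel⟩
    rw [hN]
    apply hVinj
    rw [← hFjV, ← hy, map_zero]
    exact (hN _ _).1 ((N (c + 1)).sub_mem hx (hNmono c hx₀))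
  have hdecn : ∀ n : ℕ, ∀ x ∈ N (c + 1), ∃ x₀ ∈ N c, ∃ y ∈ N (c + 1), x = x₀ + (⇑V)^[n] y := by
    intro n
    induction n with
    | zero => intro x hx; exact ⟨0, (N c).zero_mem, x, hx, by simp⟩
    | succ n ih =>
      intro x hx
      obtain ⟨x₀, hx₀, y, hy, hxy⟩ := ih x hx
      obtain ⟨y₀, hy₀, y', hy', hyy⟩ := hdec y hy
      refine ⟨x₀ + (⇑V)^[n] y₀, (N c).add_mem hx₀ ?_, y', hy', ?_⟩
      · rw [hN, hFjVn, (hN _ _).1 hy₀]
        exact iterate_map_zero V n
      · rw [hxy, hyy, iterate_map_add, Function.iterate_succ_apply]; abel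
  have hNc : N (c + 1) ≤ N c := by
    intro x hx
    rw [hN]
    apply hsep
    intro n
    obtain ⟨x₀, hx₀, y, _, hxy⟩ := hdecn n x hx
    refine ⟨(⇑F)^[c] y, ?_⟩
    rw [hxy, hFjadd, (hN _ _).1 hx₀, zero_add, hFjVn]
  have hNall : ∀ j, N (c + j) ≤ N c := by
    intro j
    induction j with
    | zero => exact le_refl _
    | succ j ih =>
      intro x hx
      apply hNc
      have h1 : F x ∈ N (c + j) := by
        rw [hN, ← Function.iterate_succ_apply]
        exact (hN _ _).1 hx
      have h2 := (hN _ _).1 (ih h1)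
      rw [hN, Function.iterate_succ_apply]
      exact h2
  have part1 : ∀ x : M, (∃ n : ℕ, (⇑F)^[n] x = 0) → (⇑F)^[c] x = 0 := by
    rintro x ⟨n, hn⟩
    have : x ∈ N (c + n) := by
      rw [hN, Function.iterate_add_apply, hn, hFj0]
    exact (hN _ _).1 (hNall n this)
  refine ⟨⟨c, part1⟩, ?_⟩
  intro x hx hFx
  obtain ⟨m, y, hmy⟩ := hx c
  have h1 : (⇑F)^[c + 1] y = 0 := by
    rw [Function.iterate_succ_apply', ← hmy]
    have := hFjVn 1 m x
    simp only [Function.iterate_one] at this
    rw [this, hFx, iterate_map_zero]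
  have h2 := part1 y ⟨c + 1, h1⟩
  rw [h2] at hmy
  exact (hVninj m) (by rw [hmy, iterate_map_zero])

end Groth.Agent.S16418
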