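import Groth.Statements.S16419
import Mathlib
import Groth.Agent.Lib.helper21.LocalCrit

set_option autoImplicit false
universe u v
open CAlg

namespace Groth.Agent.S16419

section Aux
open TensorProduct

/-- a submodule with projective quotient has a complement -/
theorem exists_isCompl_of_projective_quotient {R : Type u} [CommRing R] {M : Type v}
    [AddCommGroup M] [Module R M] (N : Submodule R M) [Module.Projective R (M ⧸ N)] :
    ∃ C : Submodule R M, IsCompl N C := by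
  obtain ⟨τ, hτ⟩ := Module.projective_lifting_property N.mkQ LinearMap.id N.mkQ_surjective
  refine ⟨LinearMap.range τ, ?_⟩
  constructor
  · rw [Submodule.disjoint_def]
    rintro x hxN ⟨y, rfl⟩
    have h1 : N.mkQ (τ y) = y := LinearMap.congr_fun hτ y
    have h2 : N.mkQ (τ y) = 0 := (Submodule.Quotient.mk_eq_zero N).mpr hxN
    rw [← h1, h2, map_zero]
  · rw [codisjoint_iff, eq_top_iff]
    intro x _
    have h1 : N.mkQ (τ (N.mkQ x)) = N.mkQ x := LinearMap.congr_fun hτ (N.mkQ x)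
    have h2 : x - τ (N.mkQ x) ∈ N := by
      rw [← Submodule.Quotient.mk_eq_zero N, Submodule.Quotient.mk_sub]
      exact sub_eq_zero.mpr h1.symm
    have : x = (x - τ (N.mkQ x)) + τ (N.mkQ x) := by abel
    rw [this]
    exact Submodule.add_mem_sup h2 ⟨_, rfl⟩

theorem mem_baseChange_quot_iff {R : Type u} [CommRing R] (I : Ideal R) {M : Type v}
    [AddCommGroup M] [Module R M] (p : Submodule R M) (y : (R ⧸ I) ⊗[R] M) :
    y ∈ p.baseChange (R ⧸ I) ↔ ∃ x ∈ p, (1 : R ⧸ I) ⊗ₜ[R] x = y := by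
  constructor
  · rintro ⟨t, rfl⟩
    obtain ⟨x, rfl⟩ := Groth.Agent.H21.exists_one_tmul I t
    exact ⟨x.1, x.2, rfl⟩
  · rintro ⟨x, hx, rfl⟩
    exact Submodule.tmul_mem_baseChange_of_mem 1 hx

end Aux
open TensorProduct

open TensorProduct in
/-- For a commutative local Artinian ring R and an exact sequence 0 → H₁ → H → H₂ → 0 of finite free
R-modules, let F₁ ⊆ H₁ and F₂ ⊆ H₂ be submodules with H₁/F₁ and H₂/F₂ free; let 𝔫 be an ideal of R
of square zero, R̄ = R/𝔫, and F̄ an R̄-submodule of H̄ = R̄ ⊗ H with free quotient such that F̄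
meets the image of R̄ ⊗ H₁ in the image of R̄ ⊗ F₁ and the image of F̄ in R̄ ⊗ H₂ is the image of R̄
⊗ F₂. Then there is a direct summand F of H with F ∩ H₁ = F₁, whose image in H̄ is F̄ and whose
image in H₂ is F₂. -/
theorem result
    (R : Type u) [CommRing R] [IsArtinianRing R] [IsLocalRing R]
    (H₁ : Type v) (H : Type v) (H₂ : Type v)
    [AddCommGroup H₁] [Module R H₁] [AddCommGroup H] [Module R H] [AddCommGroup H₂] [Module R H₂]
    [Module.Free R H₁] [Module.Finite R H₁] [Module.Free R H] [Module.Finite R H]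
    [Module.Free R H₂] [Module.Finite R H₂]
    (f : H₁ →ₗ[R] H) (g : H →ₗ[R] H₂) (hf : Function.Injective f) (hg : Function.Surjective g)
    (hfg : Function.Exact f g)
    (F₁ : Submodule R H₁) (F₂ : Submodule R H₂) [Module.Free R (H₁ ⧸ F₁)] [Module.Free R (H₂ ⧸ F₂)]
    (𝔫 : Ideal R) (hn : 𝔫 * 𝔫 = ⊥)
    (Fb : Submodule (R ⧸ 𝔫) ((R ⧸ 𝔫) ⊗[R] H))
    [Module.Free (R ⧸ 𝔫) (((R ⧸ 𝔫) ⊗[R] H) ⧸ Fb)]
    (h1 : Fb ⊓ LinearMap.range (f.baseChange (R ⧸ 𝔫)) =
      Submodule.map (f.baseChange (R ⧸ 𝔫)) (F₁.baseChange (R ⧸ 𝔫)))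
    (h2 : Submodule.map (g.baseChange (R ⧸ 𝔫)) Fb = F₂.baseChange (R ⧸ 𝔫)) :
    ∃ F : Submodule R H, (∃ C : Submodule R H, IsCompl F C) ∧
      F ⊓ LinearMap.range f = Submodule.map f F₁ ∧
      F.baseChange (R ⧸ 𝔫) = Fb ∧ Submodule.map g F = F₂ := by
  classical
  obtain ⟨C₂, hC₂⟩ := exists_isCompl_of_projective_quotient F₂
  obtain ⟨C₁, hC₁⟩ := exists_isCompl_of_projective_quotient F₁
  haveI : Module.Projective R F₂ :=
    Module.Projective.of_split F₂.subtype (Submodule.linearProjOfIsCompl F₂ C₂ hC₂)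
      (by
        apply LinearMap.ext
        intro x
        exact Submodule.linearProjOfIsCompl_apply_left hC₂ x)
  have hgf : ∀ a, g (f a) = 0 := fun a => hfg.apply_apply_eq_zero a
  let P : Submodule R H := (Submodule.comap (TensorProduct.mk R (R ⧸ 𝔫) H 1)
    (Fb.restrictScalars R)) ⊓ (Submodule.comap g F₂)
  let gP : P →ₗ[R] F₂ := (g.comp P.subtype).codRestrict F₂ (fun x => x.2.2)
  have hgP : Function.Surjective gP := by
    intro u
    have h1 : (1 : R ⧸ 𝔫) ⊗ₜ[R] (u : H₂) ∈ Submodule.map (g.baseChange (R ⧸ 𝔫)) Fb := by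
      rw [h2]; exact Submodule.tmul_mem_baseChange_of_mem 1 u.2
    obtain ⟨y, hy, hyu⟩ := h1
    obtain ⟨w, rfl⟩ := Groth.Agent.H21.exists_one_tmul 𝔫 y
    rw [LinearMap.baseChange_tmul] at hyu
    have h3 : (1 : R ⧸ 𝔫) ⊗ₜ[R] (g w - u) = 0 := by
      rw [TensorProduct.tmul_sub, hyu, sub_self]
    rw [Groth.Agent.H21.one_tmul_eq_zero_iff] at h3
    have h4 : (𝔫 • (⊤ : Submodule R H₂)) = Submodule.map g (𝔫 • (⊤ : Submodule R H)) := by
      rw [Submodule.map_smul'', Submodule.map_top, LinearMap.range_eq_top.mpr hg]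
    rw [h4] at h3
    obtain ⟨t, ht, htg⟩ := h3
    have ht0 : (1 : R ⧸ 𝔫) ⊗ₜ[R] t = 0 := (Groth.Agent.H21.one_tmul_eq_zero_iff 𝔫 t).mpr ht
    have hxP : w - t ∈ P := by
      refine ⟨?_, ?_⟩
      · show (1 : R ⧸ 𝔫) ⊗ₜ[R] (w - t) ∈ Fb
        rw [TensorProduct.tmul_sub, ht0, sub_zero]; exact hy
      · show g (w - t) ∈ F₂
        rw [map_sub, htg, sub_sub_cancel]; exact u.2
    refine ⟨⟨w - t, hxP⟩, ?_⟩
    apply Subtype.ext
    show g (w - t) = u
    rw [map_sub, htg, sub_sub_cancel]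
  obtain ⟨s', hs'⟩ := Module.projective_lifting_property gP LinearMap.id hgP
  let s : F₂ →ₗ[R] H := P.subtype.comp s'
  have hs1 : ∀ u : F₂, g (s u) = u := by
    intro u
    have := LinearMap.congr_fun hs' u
    exact congrArg Subtype.val this
  have hs2 : ∀ u : F₂, (1 : R ⧸ 𝔫) ⊗ₜ[R] s u ∈ Fb := fun u => (s' u).2.1
  obtain ⟨σ, hσ⟩ := Module.projective_lifting_property g LinearMap.id hg
  have hσ' : ∀ y, g (σ y) = y := fun y => LinearMap.congr_fun hσ y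
  refine ⟨Submodule.map f F₁ ⊔ LinearMap.range s, ⟨Submodule.map f C₁ ⊔ Submodule.map σ C₂, ?_⟩,
    ?_, ?_, ?_⟩
  · -- complement
    constructor
    · rw [Submodule.disjoint_def]
      intro x hxF hxC
      obtain ⟨x1, ⟨a, ha, rfl⟩, x2, ⟨u, rfl⟩, rfl⟩ := Submodule.mem_sup.mp hxF
      obtain ⟨y1, ⟨c, hc, rfl⟩, y2, ⟨w, hw, rfl⟩, hxy⟩ := Submodule.mem_sup.mp hxC
      have h3 := congrArg g hxy
      rw [map_add, map_add, hgf, hgf, zero_add, zero_add, hσ', hs1] at h3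
      have hu0 : (u : H₂) = 0 := by
        have : (u : H₂) ∈ F₂ ⊓ C₂ := ⟨u.2, by rw [← h3]; exact hw⟩
        rwa [hC₂.inf_eq_bot, Submodule.mem_bot] at this
      have hw0 : w = 0 := by rw [h3, hu0]
      have hu0' : u = 0 := Subtype.ext hu0
      rw [hw0, hu0', map_zero, map_zero, add_zero, add_zero] at hxy
      have hac : a = c := (hf hxy).symm
      have ha0 : a = 0 := by
        have : a ∈ F₁ ⊓ C₁ := ⟨ha, by rw [hac]; exact hc⟩
        rwa [hC₁.inf_eq_bot, Submodule.mem_bot] at this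
      rw [ha0, hu0', map_zero, map_zero, add_zero]
    · rw [codisjoint_iff, eq_top_iff]
      intro x _
      have hgx : g x ∈ F₂ ⊔ C₂ := by rw [hC₂.sup_eq_top]; trivial
      obtain ⟨u, hu, w, hw, huw⟩ := Submodule.mem_sup.mp hgx
      have hker : g (x - s ⟨u, hu⟩ - σ w) = 0 := by
        rw [map_sub, map_sub, hs1, hσ', ← huw]; simp
      obtain ⟨b, hb⟩ := (hfg _).mp hker
      have hbb : b ∈ F₁ ⊔ C₁ := by rw [hC₁.sup_eq_top]; trivial
      obtain ⟨a, ha, c, hc, hac⟩ := Submodule.mem_sup.mp hbb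
      have hx : x = (f a + s ⟨u, hu⟩) + (f c + σ w) := by
        have : x = f b + s ⟨u, hu⟩ + σ w := by rw [hb]; abel
        rw [this, ← hac, map_add]; abel
      rw [hx]
      exact Submodule.add_mem_sup
        (Submodule.add_mem_sup (Submodule.mem_map_of_mem ha) ⟨_, rfl⟩)
        (Submodule.add_mem_sup (Submodule.mem_map_of_mem hc) (Submodule.mem_map_of_mem hw))
  · -- F ⊓ range f = map f F₁
    apply le_antisymm
    · rintro x ⟨hxF, ⟨b, rfl⟩⟩
      obtain ⟨x1, ⟨a, ha, rfl⟩, x2, ⟨u, rfl⟩, hx⟩ := Submodule.mem_sup.mp hxF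
      have h3 := congrArg g hx
      rw [map_add, hgf, hgf, zero_add, hs1] at h3
      have hu0 : u = 0 := Subtype.ext h3
      rw [hu0, map_zero, add_zero] at hx
      rw [← hx]; exact Submodule.mem_map_of_mem ha
    · exact le_inf le_sup_left (LinearMap.map_le_range)
  · -- base change
    apply le_antisymm
    · intro y hy
      obtain ⟨x, hx, rfl⟩ := (mem_baseChange_quot_iff 𝔫 _ y).mp hy
      obtain ⟨x1, ⟨a, ha, rfl⟩, x2, ⟨u, rfl⟩, rfl⟩ := Submodule.mem_sup.mp hx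
      rw [TensorProduct.tmul_add]
      refine Fb.add_mem ?_ (hs2 u)
      have h3 : (1 : R ⧸ 𝔫) ⊗ₜ[R] f a ∈
          Submodule.map (f.baseChange (R ⧸ 𝔫)) (F₁.baseChange (R ⧸ 𝔫)) :=
        ⟨(1 : R ⧸ 𝔫) ⊗ₜ[R] a, Submodule.tmul_mem_baseChange_of_mem 1 ha,
          LinearMap.baseChange_tmul _ _ _⟩
      rw [← h1] at h3
      exact h3.1
    · intro y hy
      have h3 : (g.baseChange (R ⧸ 𝔫)) y ∈ F₂.baseChange (R ⧸ 𝔫) := by
        rw [← h2]; exact Submodule.mem_map_of_mem hy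
      obtain ⟨u, hu, hyu⟩ := (mem_baseChange_quot_iff 𝔫 _ _).mp h3
      have hy' : y - (1 : R ⧸ 𝔫) ⊗ₜ[R] s ⟨u, hu⟩ ∈ Fb := Fb.sub_mem hy (hs2 _)
      have hker : (g.baseChange (R ⧸ 𝔫)) (y - (1 : R ⧸ 𝔫) ⊗ₜ[R] s ⟨u, hu⟩) = 0 := by
        rw [map_sub, LinearMap.baseChange_tmul, hs1, hyu, sub_self]
      have hex : Function.Exact (f.baseChange (R ⧸ 𝔫)) (g.baseChange (R ⧸ 𝔫)) :=
        lTensor_exact (R ⧸ 𝔫) hfg hg
      have hrange : y - (1 : R ⧸ 𝔫) ⊗ₜ[R] s ⟨u, hu⟩ ∈ LinearMap.range (f.baseChange (R ⧸ 𝔫)) :=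
        (hex _).mp hker
      have h4 : y - (1 : R ⧸ 𝔫) ⊗ₜ[R] s ⟨u, hu⟩ ∈
          Submodule.map (f.baseChange (R ⧸ 𝔫)) (F₁.baseChange (R ⧸ 𝔫)) := by
        rw [← h1]; exact ⟨hy', hrange⟩
      obtain ⟨z, hz, hzy⟩ := h4
      obtain ⟨a, ha, rfl⟩ := (mem_baseChange_quot_iff 𝔫 _ z).mp hz
      rw [LinearMap.baseChange_tmul] at hzy
      have : y = (1 : R ⧸ 𝔫) ⊗ₜ[R] (f a + s ⟨u, hu⟩) := by
        rw [TensorProduct.tmul_add, hzy]; abel
      rw [this]
      exact Submodule.tmul_mem_baseChange_of_mem 1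
        (Submodule.add_mem_sup (Submodule.mem_map_of_mem ha) ⟨_, rfl⟩)
  · -- map g F = F₂
    apply le_antisymm
    · rintro _ ⟨x, hx, rfl⟩
      obtain ⟨x1, ⟨a, ha, rfl⟩, x2, ⟨u, rfl⟩, rfl⟩ := Submodule.mem_sup.mp hx
      rw [map_add, hgf, zero_add, hs1]; exact u.2
    · intro u hu
      exact ⟨s ⟨u, hu⟩, Submodule.mem_sup_right ⟨_, rfl⟩, hs1 ⟨u, hu⟩⟩

end Groth.Agent.S16419
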