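import Groth.Statements.S16420
import Groth.Agent.Lib.helper1.FL5
open Groth.Agent.Lib.helper1

set_option autoImplicit false
universe u v
open CAlg

namespace Groth.Agent.S16420

open TensorProduct in
/-- For a commutative local Artinian ring R and an exact sequence 0 → H₁ → H → H₂ → 0 of finite free
R-modules, let F₁ ⊆ H₁ and F₂ ⊆ H₂ be submodules with free quotients, 𝔫 an ideal of R of square
zero, R̄ = R/𝔫, and F̄ ⊆ H̄ = R̄ ⊗ H an R̄-submodule with free quotient meeting the image of R̄ ⊗ H₁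
in the image of R̄ ⊗ F₁ and mapping onto the image of R̄ ⊗ F₂; let L be the set of direct summands F
of H with F ∩ H₁ = F₁, with image F̄ in H̄ and with image F₂ in H₂. Then L is a torsor under
Hom_R(F₂, 𝔫(H₁/F₁)), acting as follows: an R-linear u : H₂ → H₁ with u(H₂) ⊆ 𝔫H₁ moves F ∈ L to the
image of F under x ↦ x + f(u(g(x))). Precisely, for F ∈ L: (1) that image again lies in L; (2) it
equals F if and only if u(F₂) ⊆ 𝔫F₁; (3) every F' ∈ L is obtained from F in this way for some such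
u. (The published statement phrases the torsor under the R̄-linear maps from F̄₂ to 𝔫 ⊗ (H̄₁/F̄₁), a
group identified with the maps u as above modulo those with u(F₂) ⊆ 𝔫F₁, and describes the action
through a lift F₂ → 𝔫 ⊗ H₁ composed with F → F/F₁ ≅ F₂; restricted to F this is x ↦ f(u(g(x))).) -/
theorem result
    (R : Type u) [CommRing R] [IsArtinianRing R] [IsLocalRing R]
    (H₁ : Type v) (H : Type v) (H₂ : Type v)
    [AddCommGroup H₁] [Module R H₁] [AddCommGroup H] [Module R H] [AddCommGroup H₂] [Module R H₂]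
    [Module.Free R H₁] [Module.Finite R H₁] [Module.Free R H] [Module.Finite R H]
    [Module.Free R H₂] [Module.Finite R H₂]
    (f : H₁ →ₗ[R] H) (g : H →ₗ[R] H₂) (hf : Function.Injective f) (hg : Function.Surjective g)
    (hfg : Function.Exact f g)
    (F₁ : Submodule R H₁) (F₂ : Submodule R H₂) [Module.Free R (H₁ ⧸ F₁)] [Module.Free R (H₂ ⧸ F₂)]
    (𝔫 : Ideal R) (hn : 𝔫 * 𝔫 = ⊥)
    (Fb : Submodule (R ⧸ 𝔫) ((R ⧸ 𝔫) ⊗[R] H))
    [Module.Free (R ⧸ 𝔫) (((R ⧸ 𝔫) ⊗[R] H) ⧸ Fb)]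
    (h1 : Fb ⊓ LinearMap.range (f.baseChange (R ⧸ 𝔫)) =
      Submodule.map (f.baseChange (R ⧸ 𝔫)) (F₁.baseChange (R ⧸ 𝔫)))
    (h2 : Submodule.map (g.baseChange (R ⧸ 𝔫)) Fb = F₂.baseChange (R ⧸ 𝔫))
    (F F' : Submodule R H)
    (hF : (∃ C : Submodule R H, IsCompl (F) C) ∧
      (F) ⊓ LinearMap.range f = Submodule.map f F₁ ∧
      Submodule.baseChange (R ⧸ 𝔫) (F) = Fb ∧ Submodule.map g (F) = F₂)
    (hF' : (∃ C : Submodule R H, IsCompl (F') C) ∧
      (F') ⊓ LinearMap.range f = Submodule.map f F₁ ∧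
      Submodule.baseChange (R ⧸ 𝔫) (F') = Fb ∧ Submodule.map g (F') = F₂) :
    (∀ u : H₂ →ₗ[R] H₁, (∀ y : H₂, u y ∈ 𝔫 • (⊤ : Submodule R H₁)) →
      (∃ C : Submodule R H, IsCompl (Submodule.map (LinearMap.id + f ∘ₗ u ∘ₗ g) F) C) ∧
      (Submodule.map (LinearMap.id + f ∘ₗ u ∘ₗ g) F) ⊓ LinearMap.range f = Submodule.map f F₁ ∧
      Submodule.baseChange (R ⧸ 𝔫) (Submodule.map (LinearMap.id + f ∘ₗ u ∘ₗ g) F) = Fb ∧ Submodule.map g (Submodule.map (LinearMap.id + f ∘ₗ u ∘ₗ g) F) = F₂) ∧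
    (∀ u : H₂ →ₗ[R] H₁, (∀ y : H₂, u y ∈ 𝔫 • (⊤ : Submodule R H₁)) →
      (Submodule.map (LinearMap.id + f ∘ₗ u ∘ₗ g) F = F ↔ ∀ y ∈ F₂, u y ∈ 𝔫 • F₁)) ∧
    (∃ u : H₂ →ₗ[R] H₁, (∀ y : H₂, u y ∈ 𝔫 • (⊤ : Submodule R H₁)) ∧
      F' = Submodule.map (LinearMap.id + f ∘ₗ u ∘ₗ g) F) := by
  classical
  have hgf : ∀ a, g (f a) = 0 := fun a => (hfg (f a)).2 ⟨a, rfl⟩
  have hphi : ∀ u : H₂ →ₗ[R] H₁, (LinearMap.id + f ∘ₗ u ∘ₗ g) = FL.phi f g u := fun u => rfl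
  obtain ⟨⟨C, hC⟩, hF1, hF2, hF3⟩ := hF
  obtain ⟨-, hF1', hF2', hF3'⟩ := hF'
  have hFF' : F ⊔ 𝔫 • ⊤ = F' ⊔ 𝔫 • ⊤ := (FL.baseChange_eq_iff 𝔫 F F').1 (hF2.trans hF2'.symm)
  -- general facts about `phi u` with `u` landing in `𝔫 H₁`
  have key1 : ∀ u : H₂ →ₗ[R] H₁, (∀ y : H₂, u y ∈ 𝔫 • (⊤ : Submodule R H₁)) →
      Submodule.map (FL.phi f g u) F ⊓ LinearMap.range f = Submodule.map f F₁ := by
    intro u _
    apply le_antisymm
    · rintro _ ⟨⟨x, hx, rfl⟩, hx2⟩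
      have hxr : x ∈ LinearMap.range f := by
        apply (hfg _).1
        have := (hfg _).2 hx2
        rwa [FL.g_phi f g hgf] at this
      have hxm : x ∈ Submodule.map f F₁ := hF1 ▸ ⟨hx, hxr⟩
      have : FL.phi f g u x = x := by
        rw [FL.phi_apply, (hfg x).2 hxr, map_zero, map_zero, add_zero]
      rw [this]; exact hxm
    · intro x hx
      have hx' : x ∈ F ⊓ LinearMap.range f := hF1 ▸ hx
      refine ⟨⟨x, hx'.1, ?_⟩, hx'.2⟩
      rw [FL.phi_apply, (hfg x).2 hx'.2, map_zero, map_zero, add_zero]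
  refine ⟨fun u hu => ⟨?_, ?_, ?_, ?_⟩, fun u hu => ⟨fun h y hy => ?_, fun h => ?_⟩, ?_⟩
  · refine ⟨Submodule.map (FL.phi f g u) C, ?_⟩
    rw [hphi]
    exact hC.map (Submodule.orderIsoMapComap (FL.phiEquiv f g hgf u))
  · rw [hphi]; exact key1 u hu
  · rw [hphi, ← hF2]
    apply (FL.baseChange_eq_iff 𝔫 _ _).2
    apply le_antisymm
    · refine sup_le ?_ le_sup_right
      rintro _ ⟨x, hx, rfl⟩
      rw [FL.phi_apply]
      exact add_mem (Submodule.mem_sup_left hx)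
        (Submodule.mem_sup_right (FL.map_mem_smul_top 𝔫 f (hu _)))
    · refine sup_le ?_ le_sup_right
      intro x hx
      have : x = FL.phi f g u x - f (u (g x)) := by rw [FL.phi_apply]; abel
      rw [this]
      exact sub_mem (Submodule.mem_sup_left (Submodule.mem_map_of_mem hx))
        (Submodule.mem_sup_right (FL.map_mem_smul_top 𝔫 f (hu _)))
  · rw [hphi, ← hF3]
    ext y
    constructor
    · rintro ⟨_, ⟨x, hx, rfl⟩, rfl⟩
      exact ⟨x, hx, (FL.g_phi f g hgf u x).symm⟩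
    · rintro ⟨x, hx, rfl⟩
      exact ⟨_, ⟨x, hx, rfl⟩, FL.g_phi f g hgf u x⟩
  · -- (2) ⇒
    rw [hphi] at h
    rw [← hF3] at hy
    obtain ⟨x, hx, rfl⟩ := hy
    have h1 : FL.phi f g u x ∈ F := h ▸ Submodule.mem_map_of_mem hx
    have h2 : f (u (g x)) ∈ F ⊓ LinearMap.range f := by
      refine ⟨?_, ⟨_, rfl⟩⟩
      have : f (u (g x)) = FL.phi f g u x - x := by rw [FL.phi_apply]; abel
      rw [this]; exact sub_mem h1 hx
    rw [hF1] at h2
    obtain ⟨a, ha, hfa⟩ := h2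
    have : u (g x) ∈ F₁ := hf hfa ▸ ha
    exact FL.mem_smul_of_mem_of_mem_smul_top F₁ 𝔫 this (hu _)
  · -- (2) ⇐
    rw [hphi]
    have hmem : ∀ (w : H₂ →ₗ[R] H₁), (∀ y ∈ F₂, w y ∈ 𝔫 • F₁) → ∀ x ∈ F, FL.phi f g w x ∈ F := by
      intro w hw x hx
      rw [FL.phi_apply]
      refine add_mem hx ?_
      have h3 : f (w (g x)) ∈ Submodule.map f F₁ :=
        Submodule.mem_map_of_mem (Submodule.smul_le_right (hw _ (hF3 ▸ Submodule.mem_map_of_mem hx)))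
      rw [← hF1] at h3
      exact h3.1
    apply le_antisymm
    · rintro _ ⟨x, hx, rfl⟩
      exact hmem u h x hx
    · intro x hx
      refine ⟨FL.phi f g (-u) x, hmem (-u) (fun y hy => ?_) x hx, FL.phi_phi_neg f g hgf u x⟩
      rw [LinearMap.neg_apply]
      exact neg_mem (h y hy)
  · -- (3)
    obtain ⟨u, hu1, hu2, hu3⟩ := FL.exists_u f g hf hg hfg F₁ F₂ 𝔫 F F' hF1 hF1' hF3 hF3' hFF'
    refine ⟨u, hu1, ?_⟩
    rw [hphi]
    apply le_antisymm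
    · intro x hx
      exact ⟨FL.phi f g (-u) x, hu3 x hx, FL.phi_phi_neg f g hgf u x⟩
    · rintro _ ⟨x, hx, rfl⟩
      exact hu2 x hx

end Groth.Agent.S16420
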