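import Groth.Statements.S16422
import Mathlib

set_option autoImplicit false
universe u
open GrMod

namespace Groth.Agent.S16422

open DirectSum

lemma decompose_smul_of_mem {S : Type u} [CommRing S] (𝒜 : ℤ → AddSubgroup S) [GradedRing 𝒜]
    {M : Type u} [AddCommGroup M] [Module S M] (ℳ : ℤ → AddSubgroup M)
    [DirectSum.Decomposition ℳ] [SetLike.GradedSMul 𝒜 ℳ]
    (a : S) {x : M} {d : ℤ} (hx : x ∈ ℳ d) (n : ℤ) :
    (decompose ℳ (a • x) n : M) = (decompose 𝒜 a (n - d) : S) • x := by
  classical
  induction a using DirectSum.Decomposition.inductionOn 𝒜 with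
  | zero => simp
  | @homogeneous j a =>
    have hmem : (a : S) • x ∈ ℳ (j + d) := SetLike.GradedSMul.smul_mem a.2 hx
    by_cases h : j + d = n
    · subst h
      rw [decompose_of_mem_same ℳ hmem]
      have : j + d - d = j := by ring
      rw [this, decompose_of_mem_same 𝒜 a.2]
    · rw [decompose_of_mem_ne ℳ hmem h]
      have h' : j ≠ n - d := fun hh => h (by rw [hh]; ring)
      rw [decompose_of_mem_ne 𝒜 a.2 h', zero_smul]
  | add a b ha hb =>
    rw [add_smul, decompose_add, DirectSum.add_apply, AddSubgroup.coe_add, ha, hb, decompose_add,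
      DirectSum.add_apply, AddSubgroup.coe_add, add_smul]

lemma exists_homogeneous_coords {S : Type u} [CommRing S] (𝒜 : ℤ → AddSubgroup S) [GradedRing 𝒜]
    {M : Type u} [AddCommGroup M] [Module S M] (ℳ : ℤ → AddSubgroup M)
    [DirectSum.Decomposition ℳ] [SetLike.GradedSMul 𝒜 ℳ]
    [Module.Finite S M] [Module.Projective S M] :
    ∃ (ι : Type) (_ : Fintype ι) (d : ι → ℤ) (x : ι → M) (σ : ι → M →ₗ[S] S),
      (∀ i, x i ∈ ℳ (d i)) ∧ ∀ y : M, y = ∑ i, σ i y • x i := by
  classical
  obtain ⟨r, y, hy⟩ := Module.Finite.exists_fin (R := S) (M := M)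
  have hsurj : Function.Surjective (Fintype.linearCombination S y) :=
    (span_range_eq_top_iff_surjective_fintypeLinearCombination (R := S) (v := y)).mp hy
  obtain ⟨s, hs⟩ := Module.projective_lifting_property (Fintype.linearCombination S y)
    LinearMap.id hsurj
  have hs' : ∀ z : M, z = ∑ i, (s z) i • y i := by
    intro z
    have := LinearMap.congr_fun hs z
    rw [LinearMap.comp_apply, Fintype.linearCombination_apply, LinearMap.id_apply] at this
    exact this.symm
  refine ⟨Σ i : Fin r, ↥((decompose ℳ (y i)).support), inferInstance, fun p => p.2.1,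
    fun p => (decompose ℳ (y p.1) p.2.1 : M), fun p => (LinearMap.proj p.1) ∘ₗ s, ?_, ?_⟩
  · intro p
    exact (decompose ℳ (y p.1) p.2.1).2
  · intro z
    rw [Fintype.sum_sigma]
    conv_lhs => rw [hs' z]
    refine Finset.sum_congr rfl fun i _ => ?_
    simp only [LinearMap.comp_apply, LinearMap.proj_apply]
    rw [← Finset.smul_sum]
    congr 1
    rw [Finset.sum_coe_sort ((decompose ℳ (y i)).support) (fun j => (decompose ℳ (y i) j : M))]
    exact (sum_support_decompose ℳ (y i)).symm

/-- Let S be a commutative ring graded by ℤ with pieces 𝒜 n, and V a decreasing sequence of homogeneous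
ideals for which S is graded-complete, i.e. for each degree n the map from 𝒜 n to the inverse limit
of the quotients 𝒜 n / (𝒜 n ∩ V m) is bijective (stated as: a degree-n element in every V m
vanishes, and every sequence in 𝒜 n whose consecutive differences lie in the V m has a limit in 𝒜
n). Then every graded S-module M which is finitely generated and projective as an S-module is
graded-complete in the same sense for the submodules V m · M: for each n the map from ℳ n to the
inverse limit of ℳ n / (ℳ n ∩ V m · M) is bijective. -/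
theorem result
    (S : Type u) [CommRing S] (𝒜 : ℤ → AddSubgroup S) [GradedRing 𝒜]
    (V : ℕ → HomogeneousIdeal 𝒜) (hV : ∀ m, (V (m + 1)).toIdeal ≤ (V m).toIdeal)
    (hsep : ∀ (n : ℤ) (s : S), s ∈ 𝒜 n → (∀ m, s ∈ (V m).toIdeal) → s = 0)
    (hcpl : ∀ (n : ℤ) (f : ℕ → S), (∀ m, f m ∈ 𝒜 n) →
      (∀ m, f (m + 1) - f m ∈ (V m).toIdeal) → ∃ s ∈ 𝒜 n, ∀ m, s - f m ∈ (V m).toIdeal)
    (M : Type u) [AddCommGroup M] [Module S M] (ℳ : ℤ → AddSubgroup M)
    [DirectSum.Decomposition ℳ] [SetLike.GradedSMul 𝒜 ℳ]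
    [Module.Finite S M] [Module.Projective S M] :
    (∀ (n : ℤ) (x : M), x ∈ ℳ n → (∀ m, x ∈ (V m).toIdeal • (⊤ : Submodule S M)) → x = 0) ∧
    (∀ (n : ℤ) (g : ℕ → M), (∀ m, g m ∈ ℳ n) →
      (∀ m, g (m + 1) - g m ∈ (V m).toIdeal • (⊤ : Submodule S M)) →
      ∃ x ∈ ℳ n, ∀ m, x - g m ∈ (V m).toIdeal • (⊤ : Submodule S M)) := by
  classical
  obtain ⟨ι, _, d, x, σ, hx, hσ⟩ := exists_homogeneous_coords 𝒜 ℳ
  have hσV : ∀ i m y, y ∈ (V m).toIdeal • (⊤ : Submodule S M) → σ i y ∈ (V m).toIdeal := by
    intro i m y hy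
    refine Submodule.smul_induction_on hy ?_ ?_
    · intro a ha z _
      rw [map_smul, smul_eq_mul]
      exact Ideal.mul_mem_right _ _ ha
    · intro y1 y2 h1 h2
      rw [map_add]
      exact add_mem h1 h2
  have hcV : ∀ i m (n : ℤ) y, y ∈ (V m).toIdeal • (⊤ : Submodule S M) →
      (decompose 𝒜 (σ i y) (n - d i) : S) ∈ (V m).toIdeal :=
    fun i m n y hy => (V m).isHomogeneous _ (hσV i m y hy)
  have hrec : ∀ (n : ℤ) y, y ∈ ℳ n → y = ∑ i, (decompose 𝒜 (σ i y) (n - d i) : S) • x i := by
    intro n y hy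
    have h1 : (decompose ℳ y n : M) = y := decompose_of_mem_same ℳ hy
    have h2 : (decompose ℳ (∑ i, σ i y • x i) n : M)
        = ∑ i, (decompose 𝒜 (σ i y) (n - d i) : S) • x i := by
      rw [decompose_sum, DFinsupp.finsetSum_apply, AddSubgroup.val_finsetSum]
      exact Finset.sum_congr rfl fun i _ => decompose_smul_of_mem 𝒜 ℳ (σ i y) (hx i) n
    rw [← h2, ← hσ y, h1]
  constructor
  · intro n y hy hyV
    rw [hrec n y hy]
    refine Finset.sum_eq_zero fun i _ => ?_
    rw [hsep (n - d i) _ (SetLike.coe_mem _) (fun m => hcV i m n y (hyV m)), zero_smul]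
  · intro n g hg hgV
    have hex : ∀ i, ∃ s ∈ 𝒜 (n - d i),
        ∀ m, s - (decompose 𝒜 (σ i (g m)) (n - d i) : S) ∈ (V m).toIdeal := by
      intro i
      apply hcpl (n - d i) (fun m => (decompose 𝒜 (σ i (g m)) (n - d i) : S))
        (fun m => SetLike.coe_mem _)
      intro m
      have hdiff : (decompose 𝒜 (σ i (g (m + 1))) (n - d i) : S)
          - (decompose 𝒜 (σ i (g m)) (n - d i) : S)
          = (decompose 𝒜 (σ i (g (m + 1) - g m)) (n - d i) : S) := by
        rw [map_sub, decompose_sub, DirectSum.sub_apply, AddSubgroup.coe_sub]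
      show (decompose 𝒜 (σ i (g (m + 1))) (n - d i) : S)
          - (decompose 𝒜 (σ i (g m)) (n - d i) : S) ∈ _
      rw [hdiff]
      exact hcV i m n _ (hgV m)
    choose s hs hsV using hex
    refine ⟨∑ i, s i • x i, ?_, ?_⟩
    · apply sum_mem
      intro i _
      have h3 := SetLike.GradedSMul.smul_mem (hs i) (hx i)
      have h4 : (n - d i) +ᵥ d i = n := by
        show n - d i + d i = n
        ring
      rw [h4] at h3
      exact h3
    · intro m
      rw [hrec n (g m) (hg m), ← Finset.sum_sub_distrib]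
      apply sum_mem
      intro i _
      rw [← sub_smul]
      exact Submodule.smul_mem_smul (hsV i m) Submodule.mem_top

end Groth.Agent.S16422
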