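import Groth.Statements.S16430
import Groth.Agent.Lib.lead.FiniteEtaleLift

set_option autoImplicit false
universe u
open Hensel

namespace Groth.Agent.S16430

open Groth.Agent.Lib.lead.HenselLocal IsLocalRing in
/-- For a Noetherian local ring A with residue field k and a finite separable field extension l of k,
there is a local ring E, finite and etale over A with local structure map, whose residue field is
k-isomorphic to l. -/
theorem result (A : Type u)
    [CommRing A] [IsLocalRing A] [IsNoetherianRing A] (l : Type u) [Field l]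
    [Algebra (IsLocalRing.ResidueField A) l] [FiniteDimensional (IsLocalRing.ResidueField A) l]
    [Algebra.IsSeparable (IsLocalRing.ResidueField A) l] :
    ∃ (E : Type u) (_ : CommRing E) (_ : IsLocalRing E) (_ : Algebra A E)
      (_ : IsLocalHom (algebraMap A E)),
      Module.Finite A E ∧ Algebra.Etale A E ∧
        Nonempty (IsLocalRing.ResidueField E ≃ₐ[IsLocalRing.ResidueField A] l) := by
  letI : Algebra A l := ((algebraMap (ResidueField A) l).comp (algebraMap A (ResidueField A))).toAlgebra
  haveI : IsScalarTower A (ResidueField A) l := .of_algebraMap_eq (fun _ => rfl)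
  obtain ⟨Q, hQm, hu, φ, hsurj, hker⟩ := exists_monic_lift_of_finite_separable A l
  have hfin : Module.Finite A (AdjoinRoot Q) := (AdjoinRoot.powerBasis' hQm).finite
  have hEt : Algebra.Etale A (AdjoinRoot Q) := etale_adjoinRoot_of_isUnit_derivative Q hQm hu
  have hmax : (RingHom.ker φ).IsMaximal := RingHom.ker_isMaximal_of_surjective φ hsurj
  have hle : ∀ M : Ideal (AdjoinRoot Q), M.IsMaximal → RingHom.ker φ ≤ M := by
    intro M hM
    rw [hker, Ideal.map_le_iff_le_comap]
    have : (M.comap (algebraMap A (AdjoinRoot Q))).IsMaximal :=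
      Ideal.isMaximal_comap_of_isIntegral_of_isMaximal M
    exact (IsLocalRing.eq_maximalIdeal this).ge
  have hloc : IsLocalRing (AdjoinRoot Q) :=
    IsLocalRing.of_unique_max_ideal ⟨RingHom.ker φ, hmax, fun M hM =>
      (hmax.eq_of_le hM.ne_top (hle M hM)).symm⟩
  have hmaxeq : maximalIdeal (AdjoinRoot Q) = RingHom.ker φ :=
    (IsLocalRing.eq_maximalIdeal hmax).symm
  have hcomap : (maximalIdeal (AdjoinRoot Q)).comap (algebraMap A (AdjoinRoot Q)) = maximalIdeal A :=
    IsLocalRing.eq_maximalIdeal
      (Ideal.isMaximal_comap_of_isIntegral_of_isMaximal (maximalIdeal (AdjoinRoot Q)))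
  have hlochom : IsLocalHom (algebraMap A (AdjoinRoot Q)) :=
    ((IsLocalRing.local_hom_TFAE (algebraMap A (AdjoinRoot Q))).out 0 4).mpr hcomap
  refine ⟨AdjoinRoot Q, inferInstance, hloc, inferInstance, hlochom, hfin, hEt, ⟨?_⟩⟩
  let ψ₀ : ResidueField (AdjoinRoot Q) →+* l :=
    Ideal.Quotient.lift (maximalIdeal (AdjoinRoot Q)) φ.toRingHom (fun x hx => by
      rw [hmaxeq] at hx
      exact hx)
  have hψ₀ : ∀ x, ψ₀ (residue _ x) = φ x := fun x => rfl
  let ψ : ResidueField (AdjoinRoot Q) →ₐ[ResidueField A] l :=
    { ψ₀ with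
      commutes' := by
        intro c
        obtain ⟨a, rfl⟩ := residue_surjective c
        have h1 : algebraMap (ResidueField A) (ResidueField (AdjoinRoot Q)) (residue A a) =
            residue _ (algebraMap A (AdjoinRoot Q) a) := rfl
        change ψ₀ _ = _
        rw [h1, hψ₀, φ.commutes]
        rfl }
  refine AlgEquiv.ofBijective ψ ⟨(ψ : ResidueField (AdjoinRoot Q) →+* l).injective, ?_⟩
  intro y
  obtain ⟨x, rfl⟩ := hsurj y
  exact ⟨residue _ x, rfl⟩

end Groth.Agent.S16430
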