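import Groth.Statements.S16442
import Mathlib
import Groth.Agent.Lib.lead.SH9
import Groth.Agent.Lib.lead.SH12


set_option autoImplicit false
universe u
open EGA4loc

namespace H14S16442

open IsLocalRing Groth.Agent.Lib.lead.SH

/-- the stage maps of a model of a strict henselization are injective -/
theorem stage_injective {R : Type u} [CommRing R] [IsLocalRing R] {Ω : Type u} [Field Ω]
    [Algebra R Ω] [IsLocalHom (algebraMap R Ω)] {S : Type u} [CommRing S] [Algebra R S]
    (M : Model R Ω S) (i : Idx R Ω) : Function.Injective (M.φ i) := by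
  rw [injective_iff_map_eq_zero]
  intro x hx
  obtain ⟨j, hij, h0⟩ := M.ker i x hx
  letI : Algebra i.Ring j.Ring := (tr i j hij).toRingHom.toAlgebra
  haveI : Module.Flat i.Ring j.Ring := flat_tr i j hij
  haveI : IsLocalHom (algebraMap i.Ring j.Ring) := isLocalHom_trR i j hij
  haveI : Module.FaithfullyFlat i.Ring j.Ring := Module.FaithfullyFlat.of_flat_of_isLocalHom
  have hinj : Function.Injective (algebraMap i.Ring j.Ring) :=
    FaithfulSMul.algebraMap_injective _ _
  apply hinj
  rw [map_zero]
  exact h0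

end H14S16442

namespace Groth.Agent.S16442

/-- Let A be a reduced local ring with finitely many minimal prime ideals, S a strict henselization of
A, and D an A-subalgebra of S which is a local ring dominated by S (local inclusion) and essentially
of finite type over A. Then D is contained in some A-subalgebra E of S which is a local ring and an
essentially etale local A-algebra. -/
theorem result
    (A S : Type u) [CommRing A] [IsLocalRing A] [IsReduced A] (hmin : (minimalPrimes A).Finite)
    [CommRing S] [IsLocalRing S] [Algebra A S] [IsLocalHom (algebraMap A S)]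
    [Hensel.IsStrictHenselization A S] (D : Subalgebra A S) [IsLocalRing D]
    [IsLocalHom (algebraMap D S)] [Algebra.EssFiniteType A D] :
    ∃ E : Subalgebra A S, D ≤ E ∧ ∃ _ : IsLocalRing E, EGA4loc.IsEssentiallyEtale A E := by
  classical
  obtain ⟨M⟩ := Groth.Agent.Lib.lead.SH.exists_model_of_strict (R := A) S
  obtain ⟨σ, hσ⟩ := (inferInstance : Algebra.EssFiniteType A D).cond
  rw [Algebra.essFiniteType_cond_iff] at hσ
  obtain ⟨i, hi⟩ := M.exists_finset (σ.image (fun d : D => (d : S)))
  have hinj := H14S16442.stage_injective M i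
  have hloc : IsLocalHom (M.φ i).toRingHom := M.isLocalHom_φ i
  -- the adjoin lands in the range
  have hadj : ∀ t ∈ Algebra.adjoin A (σ : Set D), ((t : D) : S) ∈ (M.φ i).range := by
    intro t ht
    have h1 : D.val t ∈ (Algebra.adjoin A (σ : Set D)).map D.val := ⟨t, ht, rfl⟩
    rw [AlgHom.map_adjoin] at h1
    refine Algebra.adjoin_le ?_ h1
    rintro _ ⟨d, hd, rfl⟩
    obtain ⟨x, hx⟩ := hi (d : S) (Finset.mem_image.mpr ⟨d, hd, rfl⟩)
    exact ⟨x, hx⟩
  refine ⟨(M.φ i).range, ?_, ?_⟩
  · intro x hx
    obtain ⟨t, ht, htu, hst⟩ := hσ ⟨x, hx⟩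
    obtain ⟨t', ht'⟩ := hadj t ht
    obtain ⟨y, hy⟩ := hadj _ hst
    replace ht' : M.φ i t' = ((t : D) : S) := ht'
    replace hy : M.φ i y = x * ((t : D) : S) := hy
    have htS : IsUnit ((t : D) : S) := htu.map D.val
    have ht'u : IsUnit t' := by
      apply hloc.map_nonunit
      show IsUnit (M.φ i t')
      rw [ht']
      exact htS
    obtain ⟨u, rfl⟩ := ht'u
    refine ⟨y * ((u⁻¹ : (i.Ring)ˣ) : i.Ring), ?_⟩
    have h1 : M.φ i (y * ((u⁻¹ : (i.Ring)ˣ) : i.Ring)) * ((t : D) : S) = x * ((t : D) : S) := by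
      rw [← hy, ← ht', ← map_mul, mul_assoc, Units.inv_mul, mul_one]
    exact htS.mul_left_injective h1
  · let ε : i.Ring ≃ₐ[A] (M.φ i).range := AlgEquiv.ofInjective (M.φ i) hinj
    haveI : IsLocalRing (M.φ i).range := ε.toRingEquiv.isLocalRing
    refine ⟨inferInstance, ?_⟩
    obtain ⟨C, _, _, q, _, het, hq, ⟨e⟩⟩ := i.essEtale
    exact ⟨C, inferInstance, inferInstance, q, inferInstance, het, hq, ⟨ε.symm.trans e⟩⟩

end Groth.Agent.S16442
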