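import Groth.Statements.S16452
import Mathlib
import Groth.Agent.Lib.helper24.GrApprox

set_option autoImplicit false
universe u
open CAlg

namespace Groth.Agent.S16452

theorem key (R : Type u) [CommRing R] (S : Type u)
    [CommRing S] [Algebra R S] [Algebra.FormallyEtale R S] (J : Ideal S)
    (hJ : Function.Surjective (algebraMap R (S ⧸ J))) (n : ℕ) :
    (∀ a : R, algebraMap R S a ∈ J ^ n → a ∈ (J.comap (algebraMap R S)) ^ n) ∧
    (∀ s : S, ∃ r : R, s - algebraMap R S r ∈ J ^ n) := by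
  set I := J.comap (algebraMap R S) with hI
  have hsub : ∀ s : S, ∃ r : R, s - algebraMap R S r ∈ J := by
    intro s
    obtain ⟨r, hr⟩ := hJ (Ideal.Quotient.mk J s)
    refine ⟨r, ?_⟩
    rw [← Ideal.Quotient.eq, ← hr]
    rfl
  let K : Ideal (R ⧸ I ^ n) := I.map (Ideal.Quotient.mk (I ^ n))
  have hK : IsNilpotent K := ⟨n, by
    rw [← Ideal.map_pow, Ideal.map_quotient_self]; rfl⟩
  let e0 : R ⧸ I →ₐ[R] S ⧸ J := Ideal.quotientMapₐ J (Algebra.ofId R S) le_rfl
  have he0 : Function.Bijective e0 := by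
    refine ⟨Ideal.quotientMap_injective, fun y => ?_⟩
    obtain ⟨r, hr⟩ := hJ y
    exact ⟨Ideal.Quotient.mk I r, hr⟩
  let e := AlgEquiv.ofBijective e0 he0
  let p : R ⧸ I →ₐ[R] (R ⧸ I ^ n) ⧸ K :=
    Ideal.Quotient.liftₐ I ((Ideal.Quotient.mkₐ R K).comp (Ideal.Quotient.mkₐ R (I ^ n)))
      (fun a ha => by
        rw [AlgHom.comp_apply, Ideal.Quotient.mkₐ_eq_mk, Ideal.Quotient.mkₐ_eq_mk,
          Ideal.Quotient.eq_zero_iff_mem]
        exact Ideal.mem_map_of_mem _ ha)
  let g : S →ₐ[R] (R ⧸ I ^ n) ⧸ K := p.comp (e.symm.toAlgHom.comp (Ideal.Quotient.mkₐ R J))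
  obtain ⟨ψ, hψ⟩ := Algebra.FormallySmooth.exists_lift K hK g
  have hψJ : J ≤ K.comap ψ := by
    intro x hx
    rw [Ideal.mem_comap]
    have h1 : (Ideal.Quotient.mkₐ R K) (ψ x) = g x := by rw [← hψ]; rfl
    have hg : g x = 0 := by
      have : (Ideal.Quotient.mkₐ R J) x = 0 := by
        rw [Ideal.Quotient.mkₐ_eq_mk, Ideal.Quotient.eq_zero_iff_mem]; exact hx
      simp only [g, AlgHom.comp_apply, this, map_zero]
    rw [hg, Ideal.Quotient.mkₐ_eq_mk, Ideal.Quotient.eq_zero_iff_mem] at h1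
    exact h1
  have hψJn : ∀ x ∈ J ^ n, ψ x = 0 := by
    intro x hx
    have h1 : J ^ n ≤ (K ^ n).comap ψ :=
      (Ideal.pow_right_mono hψJ n).trans (Ideal.le_comap_pow _ n)
    have h2 := h1 hx
    rw [Ideal.mem_comap, ← Ideal.map_pow, Ideal.map_quotient_self] at h2
    exact h2
  have hi : ∀ a : R, algebraMap R S a ∈ J ^ n → a ∈ I ^ n := by
    intro a ha
    have h1 := hψJn _ ha
    rw [ψ.commutes] at h1
    exact Ideal.Quotient.eq_zero_iff_mem.mp h1
  refine ⟨hi, ?_⟩
  -- surjectivity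
  have hIJn : I ^ n ≤ (J ^ n).comap (Algebra.ofId R S) :=
    (Ideal.le_comap_pow _ n)
  let φb : R ⧸ I ^ n →ₐ[R] S ⧸ J ^ n := Ideal.quotientMapₐ (J ^ n) (Algebra.ofId R S) hIJn
  let π : S →ₐ[R] S ⧸ J ^ n := Ideal.Quotient.mkₐ R (J ^ n)
  let θ : S →ₐ[R] S ⧸ J ^ n := φb.comp ψ
  let N : Ideal (S ⧸ J ^ n) := J.map (Ideal.Quotient.mk (J ^ n))
  have hN : IsNilpotent N := ⟨n, by
    rw [← Ideal.map_pow, Ideal.map_quotient_self]; rfl⟩
  have hKN : K ≤ N.comap φb := by
    show I.map (Ideal.Quotient.mk (I ^ n)) ≤ _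
    rw [Ideal.map_le_iff_le_comap]
    intro a ha
    rw [Ideal.mem_comap, Ideal.mem_comap]
    have ha' : algebraMap R S a ∈ J := ha
    exact Ideal.mem_map_of_mem (Ideal.Quotient.mk (J ^ n)) ha'
  have hπθ : π = θ := by
    refine Algebra.FormallyUnramified.lift_unique N hN π θ (AlgHom.ext fun s => ?_)
    obtain ⟨r, hr⟩ := hsub s
    have e1 : π s - θ s = π (s - algebraMap R S r) - θ (s - algebraMap R S r) := by
      have : π (algebraMap R S r) = θ (algebraMap R S r) := by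
        rw [AlgHom.commutes, AlgHom.commutes]
      rw [map_sub, map_sub, this]
      ring
    rw [AlgHom.comp_apply, AlgHom.comp_apply]
    show Ideal.Quotient.mk N (π s) = Ideal.Quotient.mk N (θ s)
    rw [Ideal.Quotient.eq, e1]
    refine N.sub_mem ?_ ?_
    · exact Ideal.mem_map_of_mem _ hr
    · exact hKN (hψJ hr)
  intro s
  obtain ⟨r, hr⟩ := Ideal.Quotient.mk_surjective (ψ s)
  refine ⟨r, ?_⟩
  have h1 : π s = θ s := by rw [hπθ]
  have h2 : θ s = π (algebraMap R S r) := by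
    show φb (ψ s) = _
    rw [← hr]
    rfl
  rw [h2] at h1
  rw [← Ideal.Quotient.eq]
  exact h1

open Groth.Agent.Lib.helper24 in

/-- Let R → S be formally étale and J an ideal of S such that the composite R → S → S/J is surjective;
let I ⊆ R be its kernel, the preimage of J in R. Then the homomorphism of associated graded rings ⊕ₙ
Iⁿ/Iⁿ⁺¹ → ⊕ₙ Jⁿ/Jⁿ⁺¹ induced by R → S (which carries I into J) is bijective. -/
theorem result (R : Type u) [CommRing R] (S : Type u)
    [CommRing S] [Algebra R S] [Algebra.FormallyEtale R S] (J : Ideal S)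
    (hJ : Function.Surjective (algebraMap R (S ⧸ J))) :
    Function.Bijective (AssocGr.map (AssocGr.IsFiltHom.adic
      (Ideal.map_comap_le : (J.comap (algebraMap R S)).map (algebraMap R S) ≤ J))) := by
  refine ⟨GrApprox.map_injective_of_degreewise _ fun n a ha => ?_,
    GrApprox.map_surjective_of_degreewise _ fun n b => ?_⟩
  · exact (key R S J hJ (n + 1)).1 a ha
  · obtain ⟨r, hr⟩ := (key R S J hJ (n + 1)).2 b
    have hb : (b : S) ∈ J ^ n := b.2
    have hr' : algebraMap R S r ∈ J ^ n := by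
      have : algebraMap R S r = (b : S) - ((b : S) - algebraMap R S r) := by ring
      rw [this]
      exact (J ^ n).sub_mem hb (Ideal.pow_le_pow_right (Nat.le_succ n) hr)
    refine ⟨⟨r, (key R S J hJ n).1 r hr'⟩, ?_⟩
    have : algebraMap R S r - (b : S) = -((b : S) - algebraMap R S r) := by ring
    show algebraMap R S r - (b : S) ∈ J ^ (n + 1)
    rw [this]
    exact (J ^ (n + 1)).neg_mem hr

end Groth.Agent.S16452
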