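import Groth.Statements.S16453
import Mathlib
import Groth.Agent.Lib.helper24.GrApprox

set_option autoImplicit false
universe u
open AdicGr

namespace Groth.Agent.S16453

open Groth.Agent.Lib.helper24 AssocGr in

/-- Let A be a commutative ring, I an ideal and Â the I-adic completion, filtered by the kernels Âₙ of
the projections Â → A/Iⁿ. Then the homomorphism of associated graded rings ⊕ₙ Iⁿ/Iⁿ⁺¹ → ⊕ₙ Âₙ/Âₙ₊₁
induced by the canonical map A → Â is bijective. No hypothesis on A or I is needed. (The published
statement is for an arbitrary filtered ring and also asserts the analogous isomorphism for a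
compatibly filtered module; this row is the ring assertion for the filtration by the powers of one
ideal.) -/
theorem result (A : Type u) [CommRing A] (I : Ideal A) :
    Function.Bijective (AssocGr.map (AssocGr.isFiltHom_kerFilt I)) := by
  have hval : ∀ (n : ℕ) (a : A), (algebraMap A (AdicCompletion I A) a).val n
      = Submodule.Quotient.mk a := by
    intro n a
    rw [AdicCompletion.algebraMap_apply, Algebra.algebraMap_self, RingHom.id_apply,
      AdicCompletion.of_apply, Submodule.mkQ_apply]
  refine ⟨GrApprox.map_injective_of_degreewise _ fun n a ha => ?_,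
    GrApprox.map_surjective_of_degreewise _ fun n b => ?_⟩
  · rw [mem_kerFilt_iff_val, hval, Submodule.Quotient.mk_eq_zero] at ha
    change (a : A) ∈ I ^ (n + 1)
    rwa [← pow_smul_top]
  · have hb : (b : AdicCompletion I A).val n = 0 := (mem_kerFilt_iff_val I n _).mp b.2
    obtain ⟨a, ha⟩ := Submodule.Quotient.mk_surjective _ ((b : AdicCompletion I A).val (n + 1))
    have ha' : a ∈ I ^ n := by
      have h1 := AdicCompletion.transitionMap_comp_eval_apply I A (Nat.le_succ n)
        (b : AdicCompletion I A)
      rw [← ha, hb] at h1
      change Ideal.Quotient.mk (I ^ n • ⊤ : Ideal A) a = 0 at h1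
      rwa [Ideal.Quotient.eq_zero_iff_mem, pow_smul_top] at h1
    refine ⟨⟨a, ha'⟩, ?_⟩
    rw [mem_kerFilt_iff_val, AdicCompletion.val_sub]
    change (algebraMap A (AdicCompletion I A) a).val (n + 1) - _ = 0
    rw [hval, ha, sub_self]

end Groth.Agent.S16453
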