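import Groth.Statements.S16454
import Mathlib
import Groth.Agent.Lib.helper24.GrApprox
import Groth.Agent.Lib.helper24.NilFlat

set_option autoImplicit false
universe u
open TensorProduct
open EGA43

namespace Groth.Agent.S16454

theorem exists_fin_rep {A : Type u} [CommRing A] {P M : Type u} [AddCommGroup P] [Module A P]
    [AddCommGroup M] [Module A M] (x : P ⊗[A] M) :
    ∃ (k : ℕ) (a : Fin k → P) (m : Fin k → M), x = ∑ i, a i ⊗ₜ[A] m i := by
  obtain ⟨S, hS⟩ := TensorProduct.exists_finset x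
  refine ⟨S.card, fun i => (S.equivFin.symm i).1.1, fun i => (S.equivFin.symm i).1.2, ?_⟩
  rw [hS, ← Finset.sum_coe_sort S]
  exact (Equiv.sum_comp S.equivFin.symm (fun s : ↥S => s.1.1 ⊗ₜ[A] s.1.2)).symm

open Groth.Agent.Lib.helper24 AssocGr in
theorem Gstep (A : Type u) [CommRing A] (I : Ideal A) (M : Type u) [AddCommGroup M] [Module A M]
    (j : ℕ)
    (hinj : ∀ (k : ℕ) (a : Fin k → ↥((FiltBl.IdealFiltration.adic I).F j))
      (x : Fin k → ↥((Rees.powFilt I M).N 0)),
      (∑ i, (AssocGr.inDeg (FiltBl.IdealFiltration.adic I) j (a i) :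
          AssocGr.GrRing (FiltBl.IdealFiltration.adic I)) •
        (AssocGr.inDegM (Rees.powFilt I M) 0 (x i) : AssocGr.GrMod (Rees.powFilt I M))) = 0 →
      (∑ i, (AssocGr.inDeg (FiltBl.IdealFiltration.adic I) j (a i)) ⊗ₜ[A]
          (Submodule.Quotient.mk (x i : M)) :
        ↥(AssocGr.gr (FiltBl.IdealFiltration.adic I) j) ⊗[A] (M ⧸ (I • (⊤ : Submodule A M)))) = 0)
    (x : ↥(I ^ j) ⊗[A] M) (hx : (I ^ j).subtype.rTensor M x = 0) :
    x ∈ LinearMap.range ((Submodule.inclusion
        (Ideal.pow_le_pow_right (Nat.le_succ j) : I ^ (j + 1) ≤ I ^ j)).rTensor M) := by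
  classical
  have hker : ∀ p : ↥(I ^ j), inDeg (FiltBl.IdealFiltration.adic I) j p = 0 ↔
      (p : A) ∈ I ^ (j + 1) := fun p => inDeg_eq_zero_iff (FiltBl.IdealFiltration.adic I) j p
  refine NilFlat.mem_range_of_map_eq_zero I M j (inDeg (FiltBl.IdealFiltration.adic I) j)
    (inDeg_surjective _ j) hker x ?_
  obtain ⟨k, a, m, rfl⟩ := exists_fin_rep x
  have h0 : ∑ i, ((a i : ↥(I ^ j)) : A) • m i = 0 := by
    have := congrArg (TensorProduct.lid A M) hx
    simpa [map_sum] using this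
  have hN0 : ∀ z : M, z ∈ (Rees.powFilt I M).N 0 := by
    intro z
    show z ∈ I ^ 0 • (⊤ : Submodule A M)
    rw [pow_zero, Ideal.one_eq_top, Submodule.top_smul]
    trivial
  have h1 := hinj k a (fun i => ⟨m i, hN0 (m i)⟩) ?_
  · rw [map_sum]
    simp only [TensorProduct.map_tmul]
    exact h1
  · have hmem : ∀ i, ((a i : ↥(I ^ j)) : A) • m i ∈ (Rees.powFilt I M).N (j + 0) := fun i =>
      (Rees.powFilt I M).pow_smul_le j 0 (Submodule.smul_mem_smul (a i).2 (hN0 (m i)))
    have hterm : ∀ i, (AssocGr.inDeg (FiltBl.IdealFiltration.adic I) j (a i) :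
          AssocGr.GrRing (FiltBl.IdealFiltration.adic I)) •
        (AssocGr.inDegM (Rees.powFilt I M) 0 ⟨m i, hN0 (m i)⟩ : AssocGr.GrMod (Rees.powFilt I M))
        = GrApprox.cls (Rees.powFilt I M) (j + 0) (((a i : ↥(I ^ j)) : A) • m i) := by
      intro i
      rw [GrApprox.cls_of_mem _ (hmem i)]
      exact inDeg_smul_inDegM (Rees.powFilt I M) j 0 (a i) ⟨m i, hN0 (m i)⟩
    simp only [hterm]
    rw [← GrApprox.cls_sum _ _ _ (fun i _ => hmem i), h0, GrApprox.cls_zero]

open Groth.Agent.Lib.helper24 AssocGr in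

/-- Let A be a commutative ring, I a nilpotent ideal of A and M an A-module, and form the associated
graded ring G = ⊕ₙ Iⁿ/Iⁿ⁺¹ and the associated graded G-module gr_I(M) = ⊕ₙ IⁿM/Iⁿ⁺¹M. Assume that
M/IM is flat over A/I and that the canonical homomorphism (M/IM) ⊗ G → gr_I(M), [x] ⊗ [a] ↦ [a·x],
is injective: degree by degree, whenever elements a_i ∈ Iⁿ and x_i ∈ M satisfy Σ_i [a_i]·[x_i] = 0
in gr_I(M) (that is Σ a_i x_i ∈ Iⁿ⁺¹M), the element Σ_i [a_i] ⊗ [x_i] of (Iⁿ/Iⁿ⁺¹) ⊗ (M/IM) is zero.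
Then M is a flat A-module. (The published lemma is stated for any finite decreasing multiplicative
filtration A = J₀ ⊇ J₁ ⊇ … ⊇ J_N₊₁ = 0 of A with M filtered by the submodules JₙM; this row is its
case Jₙ = Iⁿ.) -/
theorem result (A : Type u) [CommRing A] (I : Ideal A)
    (hI : IsNilpotent I) (M : Type u) [AddCommGroup M] [Module A M]
    (hflat : Module.Flat (A ⧸ I) (M ⧸ (I • (⊤ : Submodule A M))))
    (hinj : ∀ (n k : ℕ) (a : Fin k → ↥((FiltBl.IdealFiltration.adic I).F n))
      (x : Fin k → ↥((Rees.powFilt I M).N 0)),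
      (∑ i, (AssocGr.inDeg (FiltBl.IdealFiltration.adic I) n (a i) :
          AssocGr.GrRing (FiltBl.IdealFiltration.adic I)) •
        (AssocGr.inDegM (Rees.powFilt I M) 0 (x i) : AssocGr.GrMod (Rees.powFilt I M))) = 0 →
      (∑ i, (AssocGr.inDeg (FiltBl.IdealFiltration.adic I) n (a i)) ⊗ₜ[A]
          (Submodule.Quotient.mk (x i : M)) :
        ↥(AssocGr.gr (FiltBl.IdealFiltration.adic I) n) ⊗[A] (M ⧸ (I • (⊤ : Submodule A M)))) = 0) :
    Module.Flat A M := by
  obtain ⟨n, hn⟩ := hI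
  have hn' : I ^ n = ⊥ := hn
  have : Module.Flat (A ⧸ I) ((A ⧸ I) ⊗[A] M) := by
    let e := (TensorProduct.quotTensorEquivQuotSMul M I).extendScalarsOfSurjective
      (Ideal.Quotient.mk_surjective (I := I))
    exact Module.Flat.of_linearEquiv e
  refine NilFlat.flat_of_pow_rTensor_injective I M n hn' ?_
  have hbig : ∀ j, n ≤ j → Function.Injective ((I ^ j).subtype.rTensor M) := by
    intro j hj
    have h1 : I ^ j = ⊥ := le_bot_iff.mp (hn' ▸ Ideal.pow_le_pow_right hj)
    have : Subsingleton ↥(I ^ j) := by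
      rw [h1]
      infer_instance
    exact Function.injective_of_subsingleton _
  have key : ∀ d j : ℕ, j + d = n → Function.Injective ((I ^ j).subtype.rTensor M) := by
    intro d
    induction d with
    | zero => intro j hj; exact hbig j (by omega)
    | succ d ih =>
      intro j hj
      exact NilFlat.alpha_step I M j (ih (j + 1) (by omega))
        (fun x hx => Gstep A I M j (hinj j) x hx)
  intro j
  by_cases hj : j ≤ n
  · exact key (n - j) j (by omega)
  · exact hbig j (by omega)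

end Groth.Agent.S16454
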