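import Groth.Statements.S16455
import Mathlib

set_option autoImplicit false
universe u
open EGA4

namespace Groth.Agent.S16455

open AssocGr DirectSum

section Aux
variable {A : Type u} [CommRing A] (I : Ideal A) (M : Type u) [AddCommGroup M] [Module A M]

abbrev Nn (n : ℕ) : Submodule A M := I ^ n • (⊤ : Submodule A M)
abbrev Pc (n : ℕ) : Type u := ↥(Nn I M n) ⧸ (I • (⊤ : Submodule A ↥(Nn I M n)))

theorem mem_smul_top_iff (n : ℕ) (x : ↥(Nn I M n)) :
    x ∈ (I • (⊤ : Submodule A ↥(Nn I M n))) ↔ (x : M) ∈ Nn I M (n + 1) := by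
  have h : (I • (⊤ : Submodule A ↥(Nn I M n))).map (Nn I M n).subtype = Nn I M (n + 1) := by
    rw [Submodule.map_smul'', Submodule.map_subtype_top, ← mul_smul, ← pow_succ']
  rw [← h]
  constructor
  · intro hx; exact ⟨x, hx, rfl⟩
  · rintro ⟨x', hx', hxx⟩
    have : x' = x := Subtype.ext hxx
    rwa [← this]

noncomputable def inL0 (n : ℕ) :
    ↥((Rees.powFilt I M).N n) →ₗ[A] GrMod (Rees.powFilt I M) where
  toFun x := (inDegM (Rees.powFilt I M) n x : GrMod (Rees.powFilt I M))
  map_add' x y := by rw [map_add]; rfl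
  map_smul' a x := coe_inDegM_smul _ n a x

noncomputable def inL (n : ℕ) : ↥(Nn I M n) →ₗ[A] GrMod (Rees.powFilt I M) := inL0 I M n

theorem inL_apply (n : ℕ) (x : ↥(Nn I M n)) :
    inL I M n x = (inDegM (Rees.powFilt I M) n x : GrMod (Rees.powFilt I M)) := rfl

noncomputable def iotaL (n : ℕ) : Pc I M n →ₗ[A] GrMod (Rees.powFilt I M) :=
  Submodule.liftQ _ (inL I M n) (by
    intro x hx
    rw [LinearMap.mem_ker, inL_apply, ZeroMemClass.coe_eq_zero, inDegM_eq_zero_iff]
    exact (mem_smul_top_iff I M n x).mp hx)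

noncomputable def cL (n : ℕ) : ReesM (Rees.powFilt I M) →ₗ[A] Pc I M n where
  toFun y := Submodule.Quotient.mk ⟨ReesM.coeff _ y n, ReesM.coeff_mem _ y n⟩
  map_add' y y' := by
    rw [← Submodule.Quotient.mk_add]
    exact congrArg _ (Subtype.ext (ReesM.coeff_add _ y y' n))
  map_smul' a y := by
    rw [RingHom.id_apply, ← Submodule.Quotient.mk_smul]
    exact congrArg _ (Subtype.ext (ReesM.coeff_smul_base _ a y n))

noncomputable def piL (n : ℕ) : GrMod (Rees.powFilt I M) →ₗ[A] Pc I M n :=
  (Submodule.liftQ ((succMod (Rees.powFilt I M)).restrictScalars A) (cL I M n) (by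
    intro y hy
    rw [LinearMap.mem_ker]
    show Submodule.Quotient.mk _ = 0
    rw [Submodule.Quotient.mk_eq_zero, mem_smul_top_iff]
    exact hy n)).comp
  (Submodule.Quotient.restrictScalarsEquiv A (succMod (Rees.powFilt I M))).symm.toLinearMap

theorem piL_mkGM (n : ℕ) (y : ReesM (Rees.powFilt I M)) :
    piL I M n (mkGM _ y) = cL I M n y := rfl


theorem cL_monomM (m n : ℕ) (x : ↥(Nn I M m)) :
    cL I M n (monomM (Rees.powFilt I M) m x) =
      if h : m = n then Submodule.Quotient.mk (h ▸ x) else 0 := by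
  by_cases h : m = n
  · subst h
    rw [dif_pos rfl]
    show Submodule.Quotient.mk _ = Submodule.Quotient.mk _
    congr 1
    refine Subtype.ext ?_
    show ReesM.coeff _ (monomM (Rees.powFilt I M) m x) m = _
    rw [ReesM.coeff_monomM, if_pos rfl]
  · rw [dif_neg h]
    show Submodule.Quotient.mk _ = 0
    rw [Submodule.Quotient.mk_eq_zero]
    have : (⟨ReesM.coeff _ (monomM (Rees.powFilt I M) m x) n,
        ReesM.coeff_mem _ (monomM (Rees.powFilt I M) m x) n⟩ : ↥(Nn I M n)) = 0 := by
      refine Subtype.ext ?_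
      show ReesM.coeff _ (monomM (Rees.powFilt I M) m x) n = 0
      rw [ReesM.coeff_monomM, if_neg h]
    rw [this]
    exact Submodule.zero_mem _

theorem iotaL_mk (n : ℕ) (x : ↥(Nn I M n)) :
    iotaL I M n (Submodule.Quotient.mk x) = mkGM _ (monomM (Rees.powFilt I M) n x) := rfl

noncomputable def Phi : (⨁ n, Pc I M n) →ₗ[A] GrMod (Rees.powFilt I M) :=
  DirectSum.toModule A ℕ _ (iotaL I M)

theorem piL_comp_Phi (n : ℕ) :
    (piL I M n).comp (Phi I M) = DirectSum.component A ℕ (fun n => Pc I M n) n := by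
  refine DirectSum.linearMap_ext A fun m => ?_
  refine Submodule.linearMap_qext _ (LinearMap.ext fun x => ?_)
  simp only [LinearMap.comp_apply, Submodule.mkQ_apply, Phi, DirectSum.toModule_lof]
  rw [iotaL_mk, piL_mkGM, cL_monomM, DirectSum.component.of]
  by_cases h : m = n
  · subst h
    simp
  · rw [dif_neg h, dif_neg h]

theorem Phi_injective : Function.Injective (Phi I M) := by
  rw [injective_iff_map_eq_zero]
  intro x hx
  refine DFinsupp.ext fun n => ?_
  have h := LinearMap.congr_fun (piL_comp_Phi I M n) x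
  rw [LinearMap.comp_apply, hx, map_zero] at h
  exact h.symm

theorem Phi_surjective : Function.Surjective (Phi I M) := by
  classical
  intro v
  obtain ⟨y, rfl⟩ := mkGM_surjective _ v
  rw [← LinearMap.mem_range, ← sum_termM _ y, map_sum]
  refine Submodule.sum_mem _ fun n _ => ?_
  refine ⟨DirectSum.lof A ℕ (fun n => Pc I M n) n
    (Submodule.Quotient.mk ⟨ReesM.coeff _ y n, ReesM.coeff_mem _ y n⟩), ?_⟩
  rw [Phi, DirectSum.toModule_lof, iotaL_mk]
  rfl

end Aux

/-- For a commutative ring A, an ideal I of A and an A-module M, the following are equivalent: every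
quotient IⁿM/Iⁿ⁺¹M (n ≥ 0) is a flat A/I-module; the associated graded module gr_I(M) = ⊕ₙ
IⁿM/Iⁿ⁺¹M, as one module over A/I, is flat. Either condition says that M is normally flat along I.
(The source defines normal flatness for a coherent module on a locally Noetherian scheme through the
second condition and notes it amounts to the first; the equivalence holds for every ring and
module.) -/
theorem result (A : Type u) [CommRing A] (I : Ideal A) (M : Type u)
    [AddCommGroup M] [Module A M] :
    EGA4.IsNormallyFlat I M ↔ Module.Flat (A ⧸ I) (AssocGr.GrMod (Rees.powFilt I M)) := by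
  let e : (⨁ n, Pc I M n) ≃ₗ[A] GrMod (Rees.powFilt I M) :=
    LinearEquiv.ofBijective (Phi I M) ⟨Phi_injective I M, Phi_surjective I M⟩
  let e' : (⨁ n, Pc I M n) ≃ₗ[A ⧸ I] GrMod (Rees.powFilt I M) :=
    e.extendScalarsOfSurjective Ideal.Quotient.mk_surjective
  rw [← Module.Flat.equiv_iff e', Module.Flat.directSum_iff]
  rfl

end Groth.Agent.S16455
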