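import Groth.Statements.S16456
import Mathlib
import Groth.Agent.Lib.helper24.GrApprox

set_option autoImplicit false
universe u
open AdicGr

namespace Groth.Agent.S16456

open Groth.Agent.Lib.helper24 in
theorem key (A : Type u) [CommRing A] (B : Type u)
    [CommRing B] (φ : A →+* B) (I : Ideal A) (J : Ideal B) (hIJ : I.map φ ≤ J)
    [IsPrecomplete I A] [IsHausdorff J B]
    (h : Function.Surjective (AssocGr.map (AssocGr.IsFiltHom.adic hIJ))) :
    ∀ (n : ℕ) (z : B), z ∈ J ^ n → ∃ b ∈ I ^ n, φ b = z := by
  let _ : Module A B := Module.compHom B φ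
  have hsmul : ∀ (a : A) (x : B), a • x = φ a * x := fun a x => rfl
  let F : I.Filtration B :=
    { N := fun n =>
        { carrier := ((J ^ n : Ideal B) : Set B)
          add_mem' := fun {x y} hx hy => (J ^ n).add_mem hx hy
          zero_mem' := (J ^ n).zero_mem
          smul_mem' := fun a x hx => (J ^ n).mul_mem_left (φ a) hx }
      mono := fun n x hx => Ideal.pow_le_pow_right (Nat.le_succ n) hx
      smul_le := fun n => by
        rw [Submodule.smul_le]
        intro a ha x hx
        show φ a * x ∈ J ^ (n + 1)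
        rw [pow_succ']
        exact Ideal.mul_mem_mul (hIJ (Ideal.mem_map_of_mem φ ha)) hx }
  have hFN : ∀ n (x : B), x ∈ F.N n ↔ x ∈ J ^ n := fun n x => Iff.rfl
  have hsep : ⨅ n, F.N n = ⊥ := by
    rw [eq_bot_iff]
    intro x hx
    rw [Submodule.mem_iInf] at hx
    rw [Submodule.mem_bot]
    refine IsHausdorff.haus' (I := J) x fun n => ?_
    rw [SModEq.zero, smul_eq_mul, Ideal.mul_top]
    exact (hFN n x).mp (hx n)
  intro n z hz
  obtain ⟨b, hb1, hb2⟩ := AdicApprox.approx I F hsep ⊤ (fun _ : Unit => 0) (fun _ => (1 : B))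
    (fun _ => Submodule.mem_top) (fun _ => by rw [hFN, pow_zero, Ideal.one_eq_top]; trivial)
    (fun m w _ hw => by
      obtain ⟨a, ha⟩ := GrApprox.exists_of_map_surjective (AssocGr.IsFiltHom.adic hIJ) h m
        ⟨w, (hFN m w).mp hw⟩
      refine ⟨fun _ => (a : A), fun _ => a.2, ?_⟩
      rw [hFN]
      simp only [Finset.univ_unique, Finset.sum_singleton, hsmul, mul_one]
      have : w - φ a = -(φ a - w) := by ring
      rw [this]
      exact (J ^ (m + 1)).neg_mem ha) n z Submodule.mem_top ((hFN n z).mpr hz)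
  refine ⟨b (), hb1 (), ?_⟩
  rw [hb2]
  simp only [Finset.univ_unique, Finset.sum_singleton, hsmul, mul_one]

open Groth.Agent.Lib.helper24 in

/-- Let φ : A → B be a ring homomorphism, I ⊆ A and J ⊆ B ideals with φ(I)B ⊆ J, so that φ is a
homomorphism of filtered rings for the I-adic and J-adic filtrations. Assume that A is I-adically
complete in the sense that every I-adically Cauchy sequence has a limit, that B is J-adically
separated, and that the induced homomorphism of associated graded rings ⊕ₙ Iⁿ/Iⁿ⁺¹ → ⊕ₙ Jⁿ/Jⁿ⁺¹ is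
surjective. Then φ is surjective, φ is strict (Jⁿ = φ(Iⁿ)B for all n, that is J = φ(I)B), and B is
J-adically separated and complete. (The published statement is for a homomorphism of filtered
modules over a filtered ring, with arbitrary compatible filtrations; this row is its case of a ring
homomorphism with adic filtrations.) -/
theorem result (A : Type u) [CommRing A] (B : Type u)
    [CommRing B] (φ : A →+* B) (I : Ideal A) (J : Ideal B) (hIJ : I.map φ ≤ J)
    [IsPrecomplete I A] [IsHausdorff J B]
    (h : Function.Surjective (AssocGr.map (AssocGr.IsFiltHom.adic hIJ))) :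
    Function.Surjective φ ∧ I.map φ = J ∧ IsAdicComplete J B := by
  have hk := key A B φ I J hIJ h
  refine ⟨fun z => ?_, le_antisymm hIJ fun z hz => ?_, ?_⟩
  · obtain ⟨b, _, hb⟩ := hk 0 z (by rw [pow_zero, Ideal.one_eq_top]; trivial)
    exact ⟨b, hb⟩
  · obtain ⟨b, hb1, hb⟩ := hk 1 z (by rwa [pow_one])
    rw [← hb]
    exact Ideal.mem_map_of_mem φ (by rwa [pow_one] at hb1)
  · refine { toIsHausdorff := inferInstance, toIsPrecomplete := ⟨fun f hf => ?_⟩ }
    have hd : ∀ n, ∃ c ∈ I ^ n, φ c = f (n + 1) - f n := by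
      intro n
      refine hk n _ ?_
      have := hf (Nat.le_succ n)
      rw [SModEq.sub_mem, smul_eq_mul, Ideal.mul_top] at this
      rw [← neg_sub]
      exact (J ^ n).neg_mem this
    choose c hc1 hc2 using hd
    obtain ⟨a0, _, ha0⟩ := hk 0 (f 0) (by rw [pow_zero, Ideal.one_eq_top]; trivial)
    obtain ⟨Bs, hBs⟩ := AdicApprox.series I c 0 (fun l => hc1 l)
    have hfn : ∀ n, f n = φ (a0 + ∑ l ∈ Finset.range n, c l) := by
      intro n
      induction n with
      | zero => simp [ha0]
      | succ n ih =>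
        rw [Finset.sum_range_succ, ← add_assoc, map_add, ← ih, hc2]
        ring
    refine ⟨φ (a0 + Bs), fun n => ?_⟩
    rw [SModEq.sub_mem, smul_eq_mul, Ideal.mul_top, hfn n, ← map_sub]
    have : a0 + ∑ l ∈ Finset.range n, c l - (a0 + Bs) = ∑ l ∈ Finset.range n, c l - Bs := by ring
    rw [this]
    have h2 := hBs n
    rw [Nat.sub_zero] at h2
    have h3 : (I ^ n).map φ ≤ J ^ n := by
      rw [Ideal.map_pow]
      exact Ideal.pow_right_mono hIJ n
    exact h3 (Ideal.mem_map_of_mem φ h2)

end Groth.Agent.S16456
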