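import Groth.Statements.S16460
import Mathlib

set_option autoImplicit false
universe u
open AdicGr

namespace Groth.Agent.S16460

/-- Let A be a commutative ring with a decreasing filtration by ideals A = F₀ ⊇ F₁ ⊇ F₂ ⊇ … satisfying
F_m·F_n ⊆ F_{m+n}, and assume the filtration is separated, ⋂ₙ Fₙ = 0. If the associated graded ring
⊕ₙ Fₙ/Fₙ₊₁ is an integral domain, then A is an integral domain. -/
theorem result (A : Type u) [CommRing A]
    (𝓕 : FiltBl.IdealFiltration A) (hsep : ⨅ n, 𝓕.F n = ⊥) [IsDomain (AssocGr.GrRing 𝓕)] :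
    IsDomain A := by
  classical
  -- order of a nonzero element
  have hord : ∀ a : A, a ≠ 0 → ∃ m : ℕ, a ∈ 𝓕.F m ∧ a ∉ 𝓕.F (m + 1) := by
    intro a ha
    have hex : ∃ N : ℕ, a ∉ 𝓕.F N := by
      by_contra hcon
      push Not at hcon
      have : a ∈ ⨅ n, 𝓕.F n := by
        rw [Submodule.mem_iInf]; exact hcon
      rw [hsep] at this
      exact ha this
    have hN := Nat.find_spec hex
    have hmin := fun k (hk : k < Nat.find hex) => Nat.find_min hex hk
    have hpos : Nat.find hex ≠ 0 := by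
      intro h0
      rw [h0, 𝓕.zero_eq] at hN
      exact hN trivial
    obtain ⟨m, hm⟩ : ∃ m, Nat.find hex = m + 1 := ⟨Nat.find hex - 1, by omega⟩
    refine ⟨m, ?_, ?_⟩
    · have := hmin m (by omega)
      push Not at this
      exact this
    · rw [← hm]; exact hN
  have hnt : Nontrivial A := by
    by_contra hcon
    rw [not_nontrivial_iff_subsingleton] at hcon
    have h1 : (1 : AssocGr.GrRing 𝓕) = 0 := by
      rw [← map_one (algebraMap A (AssocGr.GrRing 𝓕)), Subsingleton.elim (1 : A) 0, map_zero]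
    exact one_ne_zero h1
  have hnzd : NoZeroDivisors A := by
    constructor
    intro a b hab
    by_contra hcon
    push Not at hcon
    obtain ⟨m, ham, ham'⟩ := hord a hcon.1
    obtain ⟨n, hbn, hbn'⟩ := hord b hcon.2
    have h1 : (AssocGr.inDeg 𝓕 m ⟨a, ham⟩ : AssocGr.GrRing 𝓕) ≠ 0 := by
      intro h
      have : AssocGr.inDeg 𝓕 m ⟨a, ham⟩ = 0 := Subtype.ext h
      exact ham' ((AssocGr.inDeg_eq_zero_iff 𝓕 m ⟨a, ham⟩).mp this)
    have h2 : (AssocGr.inDeg 𝓕 n ⟨b, hbn⟩ : AssocGr.GrRing 𝓕) ≠ 0 := by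
      intro h
      have : AssocGr.inDeg 𝓕 n ⟨b, hbn⟩ = 0 := Subtype.ext h
      exact hbn' ((AssocGr.inDeg_eq_zero_iff 𝓕 n ⟨b, hbn⟩).mp this)
    have h3 := mul_ne_zero h1 h2
    rw [AssocGr.coe_inDeg_mul] at h3
    apply h3
    have : AssocGr.inDeg 𝓕 (m + n) ⟨a * b, 𝓕.mul_le m n (Ideal.mul_mem_mul ham hbn)⟩ = 0 := by
      rw [AssocGr.inDeg_eq_zero_iff]
      change a * b ∈ 𝓕.F (m + n + 1)
      rw [hab]; exact Ideal.zero_mem _
    rw [this]; rfl
  exact NoZeroDivisors.to_isDomain A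

end Groth.Agent.S16460
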