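import Groth.Statements.S16465
import Groth.Agent.Lib.helper18.DeltaUniv

set_option autoImplicit false
universe v u v' u'
open CategoryTheory CategoryTheory.Limits
open RDer

namespace Groth.Agent.S16465

/-- Let F be an additive functor from an abelian category C with injective resolutions to an abelian
category D, with its connecting morphisms for the right derived functors. Then (RⁿF, δ)_{n ≥ 0} is a
universal cohomological delta-functor: a natural transformation from R⁰F to the degree-zero functor
of any delta-functor extends uniquely to a morphism of delta-functors. (The published statement
assumes that every object is a subobject of an object on which the higher derived functors vanish;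
this row carries no such hypothesis.) -/
theorem result {C : Type u} [Category.{v} C] [Abelian C] [HasInjectiveResolutions C]
    {D : Type u'} [Category.{v'} D] [Abelian D] (F : C ⥤ D) [F.Additive] (Δ : RDer.DerivedLES F) :
    Δ.toCohDeltaFunctor.IsUniversal := by
  apply Groth.Agent.H18.Delta.isUniversal_of_isEffaceable
  intro n X
  have hm : Mono ((injectiveResolution X).ι.f 0) := inferInstance
  refine ⟨(injectiveResolution X).cocomplex.X 0, (injectiveResolution X).ι.f 0, hm, ?_⟩
  have hz : IsZero ((F.rightDerived (n + 1)).obj ((injectiveResolution X).cocomplex.X 0)) :=
    F.isZero_rightDerived_obj_injective_succ n _
  exact hz.eq_of_tgt _ _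

end Groth.Agent.S16465
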