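import Groth.Statements.S16478
import Groth.Agent.Lib.helper13.GaChar

set_option autoImplicit false
universe u
open GaDual

namespace Groth.Agent.S16478

/-- Let A be a commutative ring of prime characteristic p and n ≥ 1, and let φ be the comorphism of the
closed immersion α_{p^n} → G_a over A: the bialgebra map from the Hopf algebra of the additive group
(generator t primitive) to A[x]/(x^(p^n)) (x primitive) sending t to x. Then the restriction map on
characters, from those of the additive group over A to those of α_{p^n} over A, is surjective: every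
group-like element of A[x]/(x^(p^n)) is the image under φ of a group-like element of the Hopf
algebra of the additive group. -/
theorem result (p : ℕ) [Fact p.Prime] (A : Type u) [CommRing A] [CharP A p]
    (n : ℕ) (hn : 1 ≤ n) (φ : SekSuwa.A A 0 →ₐc[A] AlphaPn.A p n A) (hφ : φ SekSuwa.A.t = AlphaPn.x p n A)
    (u : AlphaPn.A p n A) (hu : IsGroupLikeElem A u) :
    ∃ g : SekSuwa.A A 0, IsGroupLikeElem A g ∧ φ g = u := by
  classical
  haveI : Nontrivial A := CharP.nontrivial_of_char_ne_one (R := A) (Fact.out : p.Prime).ne_one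
  have hq : (Polynomial.X ^ p ^ n : Polynomial A).Monic := Polynomial.monic_X_pow _
  obtain ⟨f', hf'⟩ := AlphaPn.mk_surjective p n A u
  set f := f' %ₘ (Polynomial.X ^ p ^ n : Polynomial A) with hf
  have hux : Polynomial.aeval (AlphaPn.x p n A) f = u := by
    rw [← hf', ← AlphaPn.aeval_x]
    conv_rhs => rw [← Polynomial.modByMonic_add_div f' (q := Polynomial.X ^ p ^ n)]
    rw [map_add, map_mul, map_pow, Polynomial.aeval_X, AlphaPn.x_pow, zero_mul, add_zero]
  have hdeg : f.natDegree < p ^ n := by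
    have := Polynomial.natDegree_modByMonic_lt f' hq (by
      intro h1
      have := congrArg Polynomial.natDegree h1
      rw [Polynomial.natDegree_X_pow, Polynomial.natDegree_one] at this
      exact absurd this (pow_pos (Fact.out : p.Prime).pos n).ne')
    rwa [Polynomial.natDegree_X_pow] at this
  -- the quotient ring
  set I : Ideal (MvPolynomial (Fin 2) A) :=
    Ideal.span {(MvPolynomial.X 0 ^ p ^ n : MvPolynomial (Fin 2) A), MvPolynomial.X 1 ^ p ^ n} with hI
  have h0I : (Ideal.Quotient.mkₐ A I (MvPolynomial.X 0)) ^ (p ^ n) = 0 := by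
    rw [← map_pow]
    exact Ideal.Quotient.eq_zero_iff_mem.mpr (Ideal.subset_span (by simp))
  have h1I : (Ideal.Quotient.mkₐ A I (MvPolynomial.X 1)) ^ (p ^ n) = 0 := by
    rw [← map_pow]
    exact Ideal.Quotient.eq_zero_iff_mem.mpr (Ideal.subset_span (by simp))
  let ψ0 := AlphaPn.lift p n A _ h0I
  let ψ1 := AlphaPn.lift p n A _ h1I
  let Ψ : TensorProduct A (AlphaPn.A p n A) (AlphaPn.A p n A) →ₐ[A] (MvPolynomial (Fin 2) A ⧸ I) :=
    Algebra.TensorProduct.lift ψ0 ψ1 (fun _ _ => Commute.all _ _)
  have hcomul : Coalgebra.comul (R := A) u =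
      Polynomial.aeval (TensorProduct.tmul A (AlphaPn.x p n A) 1 + TensorProduct.tmul A 1 (AlphaPn.x p n A)) f := by
    rw [← hux, ← Bialgebra.comulAlgHom_apply, ← Polynomial.aeval_algHom_apply,
      Bialgebra.comulAlgHom_apply, AlphaPn.comul_x]
  have key := congrArg Ψ hu.comul_eq_tmul_self
  rw [hcomul, ← Polynomial.aeval_algHom_apply] at key
  have hΨx : Ψ (TensorProduct.tmul A (AlphaPn.x p n A) 1 + TensorProduct.tmul A 1 (AlphaPn.x p n A)) =
      Ideal.Quotient.mkₐ A I (MvPolynomial.X 0 + MvPolynomial.X 1) := by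
    simp only [Ψ, ψ0, ψ1, map_add, Algebra.TensorProduct.lift_tmul, map_one, mul_one, one_mul,
      AlphaPn.lift_x]
  have hΨu : Ψ (TensorProduct.tmul A u u) =
      Ideal.Quotient.mkₐ A I (Polynomial.aeval (MvPolynomial.X 0 : MvPolynomial (Fin 2) A) f *
        Polynomial.aeval (MvPolynomial.X 1 : MvPolynomial (Fin 2) A) f) := by
    simp only [Ψ, Algebra.TensorProduct.lift_tmul]
    rw [← hux, ← Polynomial.aeval_algHom_apply, ← Polynomial.aeval_algHom_apply, map_mul,
      ← Polynomial.aeval_algHom_apply, ← Polynomial.aeval_algHom_apply]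
    simp only [ψ0, ψ1, AlphaPn.lift_x]
  rw [hΨx, hΨu, Polynomial.aeval_algHom_apply] at key
  have h0 : f.eval 0 = 1 := by
    have := hu.counit_eq_one
    rw [← hux, ← Bialgebra.counitAlgHom_apply, ← Polynomial.aeval_algHom_apply,
      Bialgebra.counitAlgHom_apply, AlphaPn.counit_x] at this
    rw [← this, Polynomial.coe_aeval_eq_eval]
  obtain ⟨a, ha, hfa⟩ := Groth.Agent.Lib.helper13.GaChar.alphaPn (p := p) n f hdeg h0 key
  have hmult := Groth.Agent.Lib.helper13.GaChar.prod_expp_mult a ha n
  rw [← hfa] at hmult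
  refine ⟨Polynomial.aeval (SekSuwa.A.t : SekSuwa.A A 0) f, ⟨?_, ?_⟩, ?_⟩
  · rw [← Bialgebra.counitAlgHom_apply, ← Polynomial.aeval_algHom_apply,
      Bialgebra.counitAlgHom_apply, SekSuwa.A.counit_t, Polynomial.coe_aeval_eq_eval, h0]
  · rw [← Bialgebra.comulAlgHom_apply, ← Polynomial.aeval_algHom_apply,
      Bialgebra.comulAlgHom_apply, SekSuwa.A.comul_t, zero_smul, add_zero]
    let Θ : MvPolynomial (Fin 2) A →ₐ[A] TensorProduct A (SekSuwa.A A 0) (SekSuwa.A A 0) :=
      MvPolynomial.aeval ![TensorProduct.tmul A (SekSuwa.A.t : SekSuwa.A A 0) 1,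
        TensorProduct.tmul A 1 (SekSuwa.A.t : SekSuwa.A A 0)]
    have := congrArg Θ hmult
    rw [map_mul, ← Polynomial.aeval_algHom_apply, ← Polynomial.aeval_algHom_apply,
      ← Polynomial.aeval_algHom_apply] at this
    simp only [Θ, map_add, MvPolynomial.aeval_X, Matrix.cons_val_zero, Matrix.cons_val_one] at this
    rw [this]
    have hl : Polynomial.aeval (TensorProduct.tmul A (SekSuwa.A.t : SekSuwa.A A 0) (1 : SekSuwa.A A 0)) f =
        TensorProduct.tmul A (Polynomial.aeval (SekSuwa.A.t : SekSuwa.A A 0) f) 1 := by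
      have := Polynomial.aeval_algHom_apply
        (Algebra.TensorProduct.includeLeft : SekSuwa.A A 0 →ₐ[A] TensorProduct A (SekSuwa.A A 0) (SekSuwa.A A 0))
        (SekSuwa.A.t : SekSuwa.A A 0) f
      simpa using this
    have hr : Polynomial.aeval (TensorProduct.tmul A (1 : SekSuwa.A A 0) (SekSuwa.A.t : SekSuwa.A A 0)) f =
        TensorProduct.tmul A 1 (Polynomial.aeval (SekSuwa.A.t : SekSuwa.A A 0) f) := by
      have := Polynomial.aeval_algHom_apply
        (Algebra.TensorProduct.includeRight : SekSuwa.A A 0 →ₐ[A] TensorProduct A (SekSuwa.A A 0) (SekSuwa.A A 0))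
        (SekSuwa.A.t : SekSuwa.A A 0) f
      simpa using this
    rw [hl, hr, Algebra.TensorProduct.tmul_mul_tmul, mul_one, one_mul]
  · have := Polynomial.aeval_algHom_apply (φ : SekSuwa.A A 0 →ₐ[A] AlphaPn.A p n A)
      (SekSuwa.A.t : SekSuwa.A A 0) f
    rw [← hux]
    simpa [hφ] using this.symm

end Groth.Agent.S16478
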