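import Groth.Statements.S16482
-- import your own Groth.Agent.* helpers here

set_option autoImplicit false
open CategoryTheory CategoryTheory.Limits AlgebraicGeometry
universe u
open FrobSch

namespace Groth.Agent.S16482

/-- Let p be a prime and S a reduced scheme on which p = 0 whose absolute Frobenius is flat; let Y be a
reduced S-scheme with structure map a, Z an S-scheme with structure map b, and g₁, g₂ : Y ⟶ Z two
S-morphisms. For i = 1, 2 let h_i : Y ⟶ Z^(p) be the relative Frobenius F_{Y/S} : Y ⟶ Y^(p) followed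
by the base change Y^(p) ⟶ Z^(p) of g_i along the absolute Frobenius of S. If h₁ = h₂, then g₁ = g₂.
(The published statement works over the reduced special fibre of a flat formal scheme of finite type
over the Witt vectors of a perfect field; only reducedness of S and flatness of its absolute
Frobenius are kept here.) -/
theorem result (p : ℕ) [Fact p.Prime]
    {Y Z S : Scheme.{u}} [FrobSch.IsCharP S p] [IsReduced S] [Flat (FrobSch.frob S p)]
    [IsReduced Y] (a : Y ⟶ S) (b : Z ⟶ S) (g₁ g₂ : Y ⟶ Z) (hg₁ : g₁ ≫ b = a) (hg₂ : g₂ ≫ b = a)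
    (h : FrobSch.relFrob a p ≫ pullback.map a (FrobSch.frob S p) b (FrobSch.frob S p) g₁ (𝟙 S) (𝟙 S)
        ((Category.comp_id a).trans hg₁.symm) ((Category.comp_id _).trans (Category.id_comp _).symm) =
      FrobSch.relFrob a p ≫ pullback.map a (FrobSch.frob S p) b (FrobSch.frob S p) g₂ (𝟙 S) (𝟙 S)
        ((Category.comp_id a).trans hg₂.symm) ((Category.comp_id _).trans (Category.id_comp _).symm)) :
    g₁ = g₂ := by
  haveI : IsCharP Y p := IsCharP.of_hom a p
  have H : frob Y p ≫ g₁ = frob Y p ≫ g₂ := by
    have h' := congrArg (fun φ => φ ≫ pullback.fst b (frob S p)) h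
    simp only [Category.assoc, pullback.map, pullback.lift_fst] at h'
    rwa [relFrob_fst_assoc, relFrob_fst_assoc] at h'
  have hb : g₁.base = g₂.base := by
    have h' := congrArg (fun φ : Y ⟶ Z => φ.base) H
    simpa using h'
  have pow_inj : ∀ (V : Y.Opens) (x y : Γ(Y, V)), x ^ p = y ^ p → x = y := by
    intro V x y hxy
    have h0 : (p : Γ(Y, V)) = 0 := natCast_eq_zero_app Y p V
    have h1 : (x - y) ^ p = 0 := by
      have h2 := map_sub (powHom p Γ(Y, V) h0) x y
      simp only [powHom_apply] at h2
      rw [h2, hxy, sub_self]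
    have h3 : x - y = 0 := IsReduced.eq_zero _ ⟨p, h1⟩
    exact sub_eq_zero.mp h3
  have generic : ∀ {V₁ V₂ : Y.Opens} (e : V₁ = V₂) (x : Γ(Y, V₁)) (y : Γ(Y, V₂)),
      x ^ p = Y.presheaf.map (eqToHom e).op (y ^ p) →
      Y.presheaf.map (eqToHom e.symm).op x = y := by
    intro V₁ V₂ e x y hxy
    subst e
    simp only [eqToHom_refl, op_id, CategoryTheory.Functor.map_id, CommRingCat.hom_id,
      RingHom.id_apply] at hxy ⊢
    exact pow_inj _ _ _ hxy
  refine Scheme.Hom.ext hb (fun U => ?_)
  ext s
  have hU := Scheme.Hom.congr_app H U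
  have hs := congrArg (fun φ => φ.hom s) hU
  simp only [Scheme.Hom.comp_app, CommRingCat.hom_comp, RingHom.comp_apply] at hs
  exact generic _ _ _ hs

end Groth.Agent.S16482
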