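import Groth.Statements.S16498
import Mathlib

set_option autoImplicit false
universe u
open Curves

namespace Groth.Agent.S16498


open Polynomial

theorem comp_coeff {k : Type*} [CommRing k] (F : k[X]) (α : k) (n N : ℕ) (hN : F.natDegree < N) :
    (F.comp (X + C α)).coeff n = ∑ l ∈ Finset.range N, ((l.choose n : ℕ) : k) * F.coeff l * α ^ (l - n) := by
  have h1 : F.comp (X + C α) = taylor α F := (taylor_apply α F).symm
  rw [h1, taylor_coeff, hasseDeriv_apply, eval_sum]
  rw [Polynomial.sum_over_range' _ _ N hN]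
  · refine Finset.sum_congr rfl (fun l _ => ?_)
    rw [eval_monomial]
  · intro l
    simp

theorem sum_range_mul' {M : Type*} [AddCommMonoid M] (h : ℕ → M) (G p : ℕ) :
    ∑ l ∈ Finset.range (G * p), h l = ∑ I ∈ Finset.range G, ∑ r ∈ Finset.range p, h (I * p + r) := by
  induction G with
  | zero => simp
  | succ G ih =>
    rw [Nat.succ_mul, Finset.sum_range_add, ih, Finset.sum_range_succ]

theorem lucas_cast {k : Type*} [CommRing k] (p : ℕ) [Fact p.Prime] [CharP k p] (I i a b : ℕ)
    (ha : a < p) (hb : b < p) :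
    (((I * p + a).choose (i * p + b) : ℕ) : k) = ((I.choose i : ℕ) : k) * ((a.choose b : ℕ) : k) := by
  rw [← Nat.cast_mul]
  apply (CharP.natCast_eq_natCast k p).2
  have h := @Choose.choose_modEq_choose_mod_mul_choose_div_nat (I * p + a) (i * p + b) p _
  have e1 : (I * p + a) % p = a := by
    rw [Nat.add_comm, Nat.add_mul_mod_self_right, Nat.mod_eq_of_lt ha]
  have e2 : (i * p + b) % p = b := by
    rw [Nat.add_comm, Nat.add_mul_mod_self_right, Nat.mod_eq_of_lt hb]
  have hp : 0 < p := (Fact.out : p.Prime).pos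
  have e3 : (I * p + a) / p = I := by
    rw [Nat.add_comm, Nat.add_mul_div_right _ _ hp, Nat.div_eq_of_lt ha, zero_add]
  have e4 : (i * p + b) / p = i := by
    rw [Nat.add_comm, Nat.add_mul_div_right _ _ hp, Nat.div_eq_of_lt hb, zero_add]
  rw [e1, e2, e3, e4] at h
  rw [mul_comm (I.choose i)]
  exact h

theorem CM {k : Type*} [Field k] (p : ℕ) [Fact p.Prime] [CharP k p] (g : ℕ) (hg : g ≤ p)
    (F : k[X]) (hF : F.natDegree ≤ (g + 1) * (p - 1)) (α : k) (i j : ℕ) (hi : i < g) (hj : j < g) :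
    (F.comp (X + C α)).coeff ((i + 1) * p - (j + 1)) =
      ∑ J ∈ Finset.range g, (∑ I ∈ Finset.range g,
        (((I.choose i : ℕ) : k) * α ^ ((I - i) * p)) * F.coeff ((I + 1) * p - (J + 1))) *
        ((((p - (J + 1)).choose (p - (j + 1)) : ℕ) : k) * α ^ (j - J)) := by
  have hp : 0 < p := (Fact.out : p.Prime).pos
  have hP1 : (g + 1) * (p - 1) + (g + 1) = (g + 1) * p := by
    rw [← Nat.mul_succ]; congr 1; omega
  have hN : F.natDegree < (g + 1) * p := by omega
  have hidx : ∀ I J : ℕ, J < p → (I + 1) * p - (J + 1) = I * p + (p - 1 - J) := by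
    intro I J hJ
    rw [Nat.succ_mul]; omega
  rw [hidx i j (by omega), comp_coeff F α _ _ hN, sum_range_mul']
  -- reflect inner sums
  have hrefl : ∀ I : ℕ, ∑ r ∈ Finset.range p,
      (((I * p + r).choose (i * p + (p - 1 - j)) : ℕ) : k) * F.coeff (I * p + r) * α ^ (I * p + r - (i * p + (p - 1 - j)))
      = ∑ J ∈ Finset.range p,
      (((I * p + (p - 1 - J)).choose (i * p + (p - 1 - j)) : ℕ) : k) * F.coeff (I * p + (p - 1 - J))
        * α ^ (I * p + (p - 1 - J) - (i * p + (p - 1 - j))) := by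
    intro I
    exact (Finset.sum_range_reflect (fun r => (((I * p + r).choose (i * p + (p - 1 - j)) : ℕ) : k)
      * F.coeff (I * p + r) * α ^ (I * p + r - (i * p + (p - 1 - j)))) p).symm
  simp only [hrefl]
  rw [Finset.sum_comm]
  -- restrict J to range g
  rw [← Finset.sum_subset (Finset.range_subset_range.2 hg)]
  swap
  · intro J hJp hJg
    rw [Finset.mem_range] at hJp hJg
    apply Finset.sum_eq_zero
    intro I _
    rw [lucas_cast p I i _ _ (by omega) (by omega), Nat.choose_eq_zero_of_lt (by omega : p - 1 - J < p - 1 - j)]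
    simp
  refine Finset.sum_congr rfl (fun J hJ => ?_)
  rw [Finset.mem_range] at hJ
  -- restrict I to range g
  rw [Finset.sum_range_succ]
  have hzero : F.coeff (g * p + (p - 1 - J)) = 0 := by
    apply Polynomial.coeff_eq_zero_of_natDegree_lt
    have : g * p + p = (g + 1) * p := by ring
    omega
  rw [hzero, mul_zero, zero_mul, add_zero, Finset.sum_mul]
  refine Finset.sum_congr rfl (fun I _ => ?_)
  rw [lucas_cast p I i _ _ (by omega) (by omega), hidx I J (by omega)]
  have hb : p - (J + 1) = p - 1 - J := by omega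
  have hb' : p - (j + 1) = p - 1 - j := by omega
  rw [hb, hb']
  by_cases hIi : I < i
  · rw [Nat.choose_eq_zero_of_lt hIi]; simp
  by_cases hjJ : j < J
  · rw [Nat.choose_eq_zero_of_lt (by omega : p - 1 - J < p - 1 - j)]; simp
  have hexp : I * p + (p - 1 - J) - (i * p + (p - 1 - j)) = (I - i) * p + (j - J) := by
    have h1 : i * p ≤ I * p := Nat.mul_le_mul_right p (by omega)
    rw [Nat.sub_mul]
    omega
  rw [hexp, pow_add]
  ring

/-- Let k be a field of odd characteristic p, g ≤ p a natural number, f ∈ k[x] of degree at most 2g + 2,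
and α ∈ k. Write f^((p-1)/2) = Σ_l c_l x^l and f(x + α)^((p-1)/2) = Σ_l d_l x^l, and form the g × g
Cartier–Manin matrices (c_{ip-j}) and (d_{ip-j}), indices i, j = 1, …, g (below written with i, j
ranging over Fin g, so that the entry at (i, j) is the coefficient of x^((i+1)p-(j+1))). Then
(d_{ip-j}) = L · (c_{ip-j}) · U with L_{i,I} = binom(I-1, i-1) α^((I-i)p) and U_{J,j} = binom(p-J,
p-j) α^(j-J); both L and U are unitriangular since a binomial coefficient vanishes when its lower
index exceeds its upper index. (The source works over a perfect field, with f separable of degree 2g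
+ 2 and α ∈ k^* a root of f, hypotheses this identity does not use.) -/
theorem result (k : Type u) [Field k] (p : ℕ) [Fact p.Prime] (hp : p ≠ 2) [CharP k p]
    (g : ℕ) (hg : g ≤ p) (f : Polynomial k) (hf : f.natDegree ≤ 2 * g + 2) (α : k) :
    (Matrix.of fun i j : Fin g =>
        ((f.comp (Polynomial.X + Polynomial.C α)) ^ ((p - 1) / 2)).coeff (((i : ℕ) + 1) * p - ((j : ℕ) + 1))) =
      (Matrix.of fun i I : Fin g => (((I : ℕ).choose (i : ℕ) : ℕ) : k) * α ^ (((I : ℕ) - (i : ℕ)) * p)) *
        (Matrix.of fun i j : Fin g => (f ^ ((p - 1) / 2)).coeff (((i : ℕ) + 1) * p - ((j : ℕ) + 1))) *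
        (Matrix.of fun J j : Fin g => (((p - ((J : ℕ) + 1)).choose (p - ((j : ℕ) + 1)) : ℕ) : k) * α ^ ((j : ℕ) - (J : ℕ))) := by
  have hp' := (Fact.out : p.Prime)
  have hodd : 2 * ((p - 1) / 2) = p - 1 := by
    rcases hp'.eq_two_or_odd' with h | h
    · exact absurd h hp
    · obtain ⟨t, ht⟩ := h
      omega
  have hdeg : (f ^ ((p - 1) / 2)).natDegree ≤ (g + 1) * (p - 1) := by
    calc (f ^ ((p - 1) / 2)).natDegree ≤ ((p - 1) / 2) * f.natDegree := Polynomial.natDegree_pow_le
      _ ≤ ((p - 1) / 2) * (2 * g + 2) := Nat.mul_le_mul_left _ hf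
      _ = (g + 1) * (2 * ((p - 1) / 2)) := by ring
      _ = (g + 1) * (p - 1) := by rw [hodd]
  ext i j
  simp only [Matrix.mul_apply, Matrix.of_apply]
  rw [← Polynomial.pow_comp, CM p g hg _ hdeg α i j i.2 j.2]
  rw [← Fin.sum_univ_eq_sum_range (fun J => (∑ I ∈ Finset.range g,
        (((I.choose (i : ℕ) : ℕ) : k) * α ^ ((I - (i : ℕ)) * p)) * (f ^ ((p - 1) / 2)).coeff ((I + 1) * p - (J + 1))) *
        ((((p - (J + 1)).choose (p - ((j : ℕ) + 1)) : ℕ) : k) * α ^ ((j : ℕ) - J))) g]
  refine Finset.sum_congr rfl (fun J _ => ?_)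
  congr 1
  rw [← Fin.sum_univ_eq_sum_range (fun I => (((I.choose (i : ℕ) : ℕ) : k) * α ^ ((I - (i : ℕ)) * p)) *
    (f ^ ((p - 1) / 2)).coeff ((I + 1) * p - ((J : ℕ) + 1))) g]

end Groth.Agent.S16498
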