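import Groth.Statements.S16500
import Mathlib

set_option autoImplicit false
universe u
open Curves

namespace Groth.Agent.S16500

theorem reflect_pow_aux {R : Type*} [CommSemiring R] (f : Polynomial R) (N : ℕ) (hf : f.natDegree ≤ N) (m : ℕ) :
    Polynomial.reflect (m * N) (f ^ m) = (Polynomial.reflect N f) ^ m := by
  induction m with
  | zero => simp [Polynomial.reflect_one]
  | succ m ih =>
    have h1 : (f ^ m).natDegree ≤ m * N :=
      le_trans Polynomial.natDegree_pow_le (Nat.mul_le_mul_left m hf)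
    rw [pow_succ, pow_succ, Nat.succ_mul, Polynomial.reflect_mul _ _ h1 hf, ih]

theorem index_aux (g P I J : ℕ) (hg : g ≤ P + 1) (hI : I < g) (hJ : J < g) :
    (I + 1) * (P + 1) - (J + 1) ≤ (g + 1) * P ∧
    (g + 1) * P - ((I + 1) * (P + 1) - (J + 1)) = (g - 1 - I + 1) * (P + 1) - (g - 1 - J + 1) := by
  obtain ⟨a, rfl⟩ : ∃ a, g = I + 1 + a := ⟨g - (I + 1), by omega⟩
  obtain ⟨b, hb⟩ : ∃ b, I + 1 + a = J + 1 + b := ⟨I + 1 + a - (J + 1), by omega⟩
  have e1 : I + 1 + a - 1 - I + 1 = a + 1 := by omega
  have e2 : I + 1 + a - 1 - J + 1 = b + 1 := by omega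
  rw [e1, e2]
  have h1 : (I + 1) * (P + 1) = (I + 1) * P + (I + 1) := by ring
  have h2 : (I + 1 + a + 1) * P = (I + 1) * P + (a + 1) * P := by ring
  have h3 : (a + 1) * (P + 1) = (a + 1) * P + (a + 1) := by ring
  have h4 : 0 ≤ (I + 1) * P := Nat.zero_le _
  have h5 : 0 ≤ (a + 1) * P := Nat.zero_le _
  have h6 : P ≤ (a + 1) * P := Nat.le_mul_of_pos_left _ (by omega)
  have h7 : P ≤ (I + 1) * P := Nat.le_mul_of_pos_left _ (by omega)
  rw [h1, h2, h3]
  generalize (I + 1) * P = U at *
  generalize (a + 1) * P = W at *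
  omega

/-- Let k be a field of odd characteristic p, g ≤ p a natural number and f ∈ k[x] of degree at most 2g +
2. Let F be f with its coefficients reversed in degrees 0, …, 2g + 2, i.e. F(X) = X^(2g+2) f(1/X)
(Mathlib's reflect (2g+2) f), and write f^((p-1)/2) = Σ_l c_l x^l and F^((p-1)/2) = Σ_l C_l X^l.
Then C_{ip-j} = c_{(g+1-i)p-(g+1-j)} for all i, j = 1, …, g; that is, the g × g Cartier–Manin matrix
of F is that of f with the order of both rows and columns reversed (below the indices run over Fin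
g, the entry at (i, j) being the coefficient of degree (i+1)p-(j+1), and reversal is Fin.rev). In
particular the two matrices have the same determinant. (The source applies this to f with f(0) = 0,
separable of degree 2g + 2 over a perfect field, so that F has odd degree 2g + 1; the identity uses
none of that.) -/
theorem result (k : Type u) [Field k] (p : ℕ) [Fact p.Prime] (hp : p ≠ 2) [CharP k p]
    (g : ℕ) (hg : g ≤ p) (f : Polynomial k) (hf : f.natDegree ≤ 2 * g + 2) :
    (Matrix.of fun i j : Fin g =>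
        ((Polynomial.reflect (2 * g + 2) f) ^ ((p - 1) / 2)).coeff (((i : ℕ) + 1) * p - ((j : ℕ) + 1))) =
      Matrix.of fun i j : Fin g =>
        (f ^ ((p - 1) / 2)).coeff (((Fin.rev i : ℕ) + 1) * p - ((Fin.rev j : ℕ) + 1)) := by
  have hp2 : 2 ≤ p := (Fact.out : p.Prime).two_le
  have hodd : p % 2 = 1 := by
    rcases (Fact.out : p.Prime).eq_two_or_odd with h | h
    · exact absurd h hp
    · exact h
  set m := (p - 1) / 2 with hm
  have hm2 : 2 * m = p - 1 := by omega
  ext i j
  simp only [Matrix.of_apply]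
  rw [← reflect_pow_aux f (2 * g + 2) hf m, Polynomial.coeff_reflect]
  congr 1
  have hi : (i : ℕ) < g := i.2
  have hj : (j : ℕ) < g := j.2
  have hmN : m * (2 * g + 2) = (g + 1) * (p - 1) := by
    calc m * (2 * g + 2) = (2 * m) * (g + 1) := by ring
      _ = (p - 1) * (g + 1) := by rw [hm2]
      _ = (g + 1) * (p - 1) := by ring
  rw [hmN]
  have hrevi : ((Fin.rev i : Fin g) : ℕ) = g - 1 - i := by
    rw [Fin.val_rev]; omega
  have hrevj : ((Fin.rev j : Fin g) : ℕ) = g - 1 - j := by
    rw [Fin.val_rev]; omega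
  rw [hrevi, hrevj]
  have hpP : p = (p - 1) + 1 := by omega
  have := index_aux g (p - 1) i j (by omega) hi hj
  rw [← hpP] at this
  rw [Polynomial.revAt_le this.1, this.2]

end Groth.Agent.S16500
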