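import Groth.Statements.S16515
import Mathlib
-- import your own Groth.Agent.* helpers here

set_option autoImplicit false
universe u
open RatCurv

namespace Groth.Agent.S16515

namespace H5S16515

open MvPolynomial

/-- exponent vectors of degree `j` in two variables -/
noncomputable def expEquiv (j : ℕ) : {d : Fin 2 →₀ ℕ // d.degree = j} ≃ Fin (j + 1) where
  toFun d := ⟨d.1 0, by
    have h := d.2
    rw [Finsupp.degree_eq_sum, Fin.sum_univ_two] at h
    omega⟩
  invFun i := ⟨Finsupp.single 0 (i : ℕ) + Finsupp.single 1 (j - i), by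
    rw [Finsupp.degree_eq_sum, Fin.sum_univ_two]
    simp only [Finsupp.add_apply, Finsupp.single_apply]
    have := i.2
    simp
    omega⟩
  left_inv d := by
    have h := d.2
    rw [Finsupp.degree_eq_sum, Fin.sum_univ_two] at h
    apply Subtype.ext
    ext a
    fin_cases a
    · simp
    · simp
      omega
  right_inv i := by
    apply Fin.ext
    simp

theorem finrank_homog (K : Type u) [Field K] (j : ℕ) :
    Module.finrank K (homogeneousSubmodule (Fin 2) K j) = j + 1 := by
  classical
  rw [homogeneousSubmodule_eq_finsupp_supported]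
  let s : Set (Fin 2 →₀ ℕ) := {d | d.degree = j}
  haveI : Fintype s := Fintype.ofEquiv _ (expEquiv j).symm
  have e := AddMonoidAlgebra.supportedEquivFinsupp (R := K) (S := K) s
  rw [e.finrank_eq, Module.finrank_finsupp_self]
  have : Fintype.card s = Fintype.card (Fin (j + 1)) := Fintype.card_congr (expEquiv j)
  rw [this, Fintype.card_fin]

theorem main (K : Type u) [Field K] (n r k : ℕ)
    (hkn : k ≤ n) (hineq : (r + 1) * (n + 1) ≤ (r + 2) * k)
    (U : Submodule K (MvPolynomial (Fin 2) K))
    (hU : U ≤ homogeneousSubmodule (Fin 2) K n)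
    (hcodim : Module.finrank K ↥U + (r + 1) = n + 1) :
    ∃ g ∈ homogeneousSubmodule (Fin 2) K k, g ≠ 0 ∧
      ∀ h ∈ homogeneousSubmodule (Fin 2) K (n - k), g * h ∈ U := by
  classical
  set Sk := homogeneousSubmodule (Fin 2) K k with hSk
  set Sm := homogeneousSubmodule (Fin 2) K (n - k) with hSm
  set Sn := homogeneousSubmodule (Fin 2) K n with hSn
  let U' : Submodule K Sn := U.comap Sn.subtype
  haveI : FiniteDimensional K Sk :=
    Module.finite_of_finrank_pos (by rw [show Module.finrank K Sk = k + 1 from finrank_homog K k]; omega)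
  haveI : FiniteDimensional K Sm :=
    Module.finite_of_finrank_pos (by rw [show Module.finrank K Sm = n - k + 1 from finrank_homog K (n - k)]; omega)
  haveI : FiniteDimensional K Sn :=
    Module.finite_of_finrank_pos (by rw [show Module.finrank K Sn = n + 1 from finrank_homog K n]; omega)
  have hmul : ∀ g ∈ Sk, ∀ h ∈ Sm, g * h ∈ Sn := by
    intro g hg h hh
    have := IsHomogeneous.mul hg hh
    rwa [Nat.add_sub_cancel' hkn] at this
  let Φ : Sk →ₗ[K] Sm →ₗ[K] (Sn ⧸ U') :=
    LinearMap.mk₂ K (fun g h => U'.mkQ ⟨g.1 * h.1, hmul g.1 g.2 h.1 h.2⟩)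
      (fun g g' h => by
        rw [← map_add]; congr 1; apply Subtype.ext; simp [add_mul])
      (fun c g h => by
        rw [← map_smul]; congr 1; apply Subtype.ext; simp)
      (fun g h h' => by
        rw [← map_add]; congr 1; apply Subtype.ext; simp [mul_add])
      (fun c g h => by
        rw [← map_smul]; congr 1; apply Subtype.ext; simp)
  have hdU' : Module.finrank K U' = Module.finrank K U :=
    (Submodule.comapSubtypeEquivOfLe hU).finrank_eq
  have hdQ : Module.finrank K (Sn ⧸ U') = r + 1 := by
    have h1 := Submodule.finrank_quotient_add_finrank U'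
    have h2 : Module.finrank K Sn = n + 1 := finrank_homog K n
    rw [hdU', h2] at h1
    omega
  have hdT : Module.finrank K (Sm →ₗ[K] (Sn ⧸ U')) = (n - k + 1) * (r + 1) := by
    have h2 : Module.finrank K Sm = n - k + 1 := finrank_homog K (n - k)
    rw [Module.finrank_linearMap, hdQ, h2]
  have hlt : Module.finrank K (Sm →ₗ[K] (Sn ⧸ U')) < Module.finrank K Sk := by
    have h3 : Module.finrank K Sk = k + 1 := finrank_homog K k
    rw [hdT, h3]
    have h1 : (n - k + 1) * (r + 1) + (r + 1) * k = (r + 1) * (n + 1) := by
      have : n - k + 1 + k = n + 1 := by omega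
      calc (n - k + 1) * (r + 1) + (r + 1) * k = (r + 1) * (n - k + 1 + k) := by ring
        _ = (r + 1) * (n + 1) := by rw [this]
    have h2 : (r + 2) * k = (r + 1) * k + k := by ring
    omega
  have hker : LinearMap.ker Φ ≠ ⊥ := LinearMap.ker_ne_bot_of_finrank_lt hlt
  obtain ⟨g, hgker, hg0⟩ := Submodule.exists_mem_ne_zero_of_ne_bot hker
  refine ⟨g.1, g.2, fun h0 => hg0 (Subtype.ext h0), ?_⟩
  intro h hh
  have h1 : Φ g ⟨h, hh⟩ = 0 := by
    rw [LinearMap.mem_ker] at hgker
    rw [hgker]; rfl
  have h2 : (⟨g.1 * h, hmul g.1 g.2 h hh⟩ : Sn) ∈ U' := by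
    rw [← Submodule.Quotient.mk_eq_zero]
    exact h1
  exact h2

end H5S16515

/-- If C ⊂ P^n is a rational normal curve and P ⊂ P^n a linear r-plane with (r + 2) k ≥ (r + 1)(n + 1),
then P is contained in a k-secant (k − 1)-plane of C, i.e. in the span of some effective divisor of
degree k on C. Stated through the identification of the linear forms on P^n with the binary forms of
degree n on C ≅ P^1: the r-plane P is recorded by the space U of degree-n binary forms vanishing on
it (of codimension r + 1), an effective divisor of degree k on C by a nonzero binary form g of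
degree k, and P ⊂ span(div g) says that every degree-n form divisible by g lies in U. Here k ≤ n,
and the ground field is arbitrary (the source works over the complex numbers). -/
theorem result (K : Type u) [Field K] (n r k : ℕ)
    (hkn : k ≤ n) (hineq : (r + 1) * (n + 1) ≤ (r + 2) * k)
    (U : Submodule K (MvPolynomial (Fin 2) K))
    (hU : U ≤ MvPolynomial.homogeneousSubmodule (Fin 2) K n)
    (hcodim : Module.finrank K ↥U + (r + 1) = n + 1) :
    ∃ g ∈ MvPolynomial.homogeneousSubmodule (Fin 2) K k, g ≠ 0 ∧
      ∀ h ∈ MvPolynomial.homogeneousSubmodule (Fin 2) K (n - k), g * h ∈ U := by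
  exact H5S16515.main K n r k hkn hineq U hU hcodim

end Groth.Agent.S16515
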