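import Groth.Statements.S16516
import Mathlib
import Groth.Agent.S16515
-- import your own Groth.Agent.* helpers here

set_option autoImplicit false
universe u
open RatCurv

namespace Groth.Agent.S16516

namespace H5S16516
open Groth.Agent.S16515

open MvPolynomial

theorem main (K : Type u) [Field K] (V : Submodule K (MvPolynomial (Fin 2) K))
    (hV : V ≤ homogeneousSubmodule (Fin 2) K 5) (hdim : Module.finrank K ↥V = 5)
    (hsep : ∀ e ∈ homogeneousSubmodule (Fin 2) K 2, e ≠ 0 →
      ∀ F ∈ homogeneousSubmodule (Fin 2) K 5, ∃ v ∈ V,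
        ∃ h ∈ homogeneousSubmodule (Fin 2) K 3, F = v + e * h) :
    ∃ g ∈ homogeneousSubmodule (Fin 2) K 3, g ≠ 0 ∧
      (∀ h ∈ homogeneousSubmodule (Fin 2) K 2, g * h ∈ V) ∧
      ∀ g' ∈ homogeneousSubmodule (Fin 2) K 3,
        (∀ h ∈ homogeneousSubmodule (Fin 2) K 2, g' * h ∈ V) → ∃ c : K, g' = c • g := by
  classical
  set S2 := homogeneousSubmodule (Fin 2) K 2 with hS2
  set S3 := homogeneousSubmodule (Fin 2) K 3 with hS3
  set S5 := homogeneousSubmodule (Fin 2) K 5 with hS5
  have d2 : Module.finrank K S2 = 3 := H5S16515.finrank_homog K 2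
  have d3 : Module.finrank K S3 = 4 := H5S16515.finrank_homog K 3
  have d5 : Module.finrank K S5 = 6 := H5S16515.finrank_homog K 5
  haveI : FiniteDimensional K S2 := Module.finite_of_finrank_pos (by rw [d2]; omega)
  haveI : FiniteDimensional K S3 := Module.finite_of_finrank_pos (by rw [d3]; omega)
  haveI : FiniteDimensional K S5 := Module.finite_of_finrank_pos (by rw [d5]; omega)
  let V' : Submodule K S5 := V.comap S5.subtype
  have hmul : ∀ g ∈ S3, ∀ h ∈ S2, g * h ∈ S5 := by
    intro g hg h hh
    exact IsHomogeneous.mul hg hh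
  have hdV' : Module.finrank K V' = 5 := by
    rw [(Submodule.comapSubtypeEquivOfLe hV).finrank_eq, hdim]
  have hdQ : Module.finrank K (S5 ⧸ V') = 1 := by
    have h1 := Submodule.finrank_quotient_add_finrank V'
    rw [hdV', d5] at h1
    omega
  let ε : (S5 ⧸ V') ≃ₗ[K] K := LinearEquiv.ofFinrankEq _ _ (by rw [hdQ, Module.finrank_self])
  let B : S3 →ₗ[K] S2 →ₗ[K] K :=
    LinearMap.mk₂ K (fun g h => ε (V'.mkQ ⟨g.1 * h.1, hmul g.1 g.2 h.1 h.2⟩))
      (fun g g' h => by
        rw [← map_add, ← map_add]; congr 2; apply Subtype.ext; simp [add_mul])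
      (fun c g h => by
        rw [← map_smul, ← map_smul]; congr 2; apply Subtype.ext; simp)
      (fun g h h' => by
        rw [← map_add, ← map_add]; congr 2; apply Subtype.ext; simp [mul_add])
      (fun c g h => by
        rw [← map_smul, ← map_smul]; congr 2; apply Subtype.ext; simp)
  have hB : ∀ (g : S3) (h : S2), B g h = 0 ↔ g.1 * h.1 ∈ V := by
    intro g h
    change ε (V'.mkQ ⟨g.1 * h.1, hmul g.1 g.2 h.1 h.2⟩) = 0 ↔ _
    rw [LinearEquiv.map_eq_zero_iff, Submodule.mkQ_apply, Submodule.Quotient.mk_eq_zero]
    rfl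
  -- flip is injective
  have hflip : Function.Injective B.flip := by
    rw [injective_iff_map_eq_zero]
    intro e he
    by_contra hne
    have he0 : e.1 ≠ 0 := fun h0 => hne (Subtype.ext h0)
    have hall : ∀ g : S3, g.1 * e.1 ∈ V := by
      intro g
      rw [← hB]
      have : B.flip e g = 0 := by rw [he]; rfl
      exact this
    have htop : V' = ⊤ := by
      rw [eq_top_iff]
      rintro ⟨F, hF⟩ -
      obtain ⟨v, hv, h, hh, rfl⟩ := hsep e.1 e.2 he0 F hF
      change v + e.1 * h ∈ V
      have := hall ⟨h, hh⟩
      rw [mul_comm] at this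
      exact V.add_mem hv this
    have : Module.finrank K (S5 ⧸ V') = 0 := by
      rw [htop]
      exact Module.finrank_zero_of_subsingleton
    omega
  have hsurj : Function.Surjective B := LinearMap.flip_injective_iff₁.1 hflip
  have hker : Module.finrank K (LinearMap.ker B) = 1 := by
    have h1 := LinearMap.finrank_range_add_finrank_ker B
    have h2 : Module.finrank K (S2 →ₗ[K] K) = 3 := by
      rw [Module.finrank_linearMap, d2, Module.finrank_self]
    have h3 : Module.finrank K (LinearMap.range B) = 3 := by
      rw [LinearMap.range_eq_top.2 hsurj, finrank_top, h2]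
    rw [h3, d3] at h1
    omega
  haveI : FiniteDimensional K (LinearMap.ker B) := inferInstance
  obtain ⟨g, hg0⟩ : ∃ g : LinearMap.ker B, g ≠ 0 := by
    haveI : Nontrivial (LinearMap.ker B) := Module.nontrivial_of_finrank_pos (R := K) (by rw [hker]; omega)
    exact exists_ne 0
  have hmult := (finrank_eq_one_iff_of_nonzero' g hg0).1 hker
  have hgker : ∀ h : S2, B g.1 h = 0 := by
    intro h
    have := g.2
    rw [LinearMap.mem_ker] at this
    rw [this]; rfl
  refine ⟨g.1.1, g.1.2, fun h0 => hg0 (Subtype.ext (Subtype.ext h0)), ?_, ?_⟩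
  · intro h hh
    exact (hB g.1 ⟨h, hh⟩).1 (hgker ⟨h, hh⟩)
  · intro g' hg' hall
    have hmem : (⟨g', hg'⟩ : S3) ∈ LinearMap.ker B := by
      rw [LinearMap.mem_ker]
      ext h
      exact (hB ⟨g', hg'⟩ h).2 (hall h.1 h.2)
    obtain ⟨c, hc⟩ := hmult ⟨⟨g', hg'⟩, hmem⟩
    refine ⟨c, ?_⟩
    have := congrArg (fun x : LinearMap.ker B => (x.1.1 : MvPolynomial (Fin 2) K)) hc
    simpa using this.symm

end H5S16516

/-- A smooth nondegenerate rational quintic curve C ⊂ P^4 has exactly one 3-secant line. Stated for C
given as the image of P^1 under a 5-dimensional linear series V of binary quintic forms which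
separates every length-2 subscheme of P^1 (for every nonzero quadratic form e the forms of V
together with the multiples of e span all quintic forms), so that P^1 → P(V^*) = P^4 is a closed
embedding with nondegenerate image; the linear forms on P^4 are the elements of V, a line L ⊂ P^4 is
recorded by the 3-dimensional space of linear forms vanishing on it, and L ∩ C has length at least 3
exactly when that space consists of the multiples g · K[s,t]_2 of a cubic form g. The conclusion: a
nonzero cubic g with g · K[s,t]_2 ⊆ V exists and is unique up to a scalar. (That such a line meets C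
in length exactly 3, i.e. is not 4-secant, is immediate in this description and is not restated; the
ground field is algebraically closed of characteristic zero in place of the complex numbers.) -/
theorem result (K : Type u) [Field K] [IsAlgClosed K]
    [CharZero K] (V : Submodule K (MvPolynomial (Fin 2) K))
    (hV : V ≤ MvPolynomial.homogeneousSubmodule (Fin 2) K 5) (hdim : Module.finrank K ↥V = 5)
    (hsep : ∀ e ∈ MvPolynomial.homogeneousSubmodule (Fin 2) K 2, e ≠ 0 →
      ∀ F ∈ MvPolynomial.homogeneousSubmodule (Fin 2) K 5, ∃ v ∈ V,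
        ∃ h ∈ MvPolynomial.homogeneousSubmodule (Fin 2) K 3, F = v + e * h) :
    ∃ g ∈ MvPolynomial.homogeneousSubmodule (Fin 2) K 3, g ≠ 0 ∧
      (∀ h ∈ MvPolynomial.homogeneousSubmodule (Fin 2) K 2, g * h ∈ V) ∧
      ∀ g' ∈ MvPolynomial.homogeneousSubmodule (Fin 2) K 3,
        (∀ h ∈ MvPolynomial.homogeneousSubmodule (Fin 2) K 2, g' * h ∈ V) → ∃ c : K, g' = c • g := by
  exact H5S16516.main K V hV hdim hsep

end Groth.Agent.S16516
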