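import Groth.Statements.S16517
import Groth.Agent.Lib.helper8.LiaisonL

set_option autoImplicit false
universe u
open CAlg

namespace Groth.Agent.S16517

/-- Let R be a regular local ring, A a Gorenstein local ring which is a flat R-algebra through a local
homomorphism, I ⊂ A an ideal of codimension zero (the Krull dimension of A/I equals that of A) with
A/I Cohen–Macaulay, and J = (0 : I) the annihilator of I in A (the ideal of the residual subscheme).
Then A/I and A/J are flat over R. -/
theorem result (R A : Type u)
    [CommRing R] [IsRegularLocalRing R] [CommRing A] [Algebra R A] [LocCoh.IsGorensteinLocalRing A]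
    [IsLocalHom (algebraMap R A)] [Module.Flat R A] (I : Ideal A)
    (hI : ringKrullDim (A ⧸ I) = ringKrullDim A) [LocCoh.IsCohenMacaulayLocalRing (A ⧸ I)] :
    Module.Flat R (A ⧸ I) ∧ Module.Flat R (A ⧸ (Submodule.annihilator I)) := by
  classical
  haveI hACM : LocCoh.IsCohenMacaulayLocalRing A :=
    Groth.Agent.H8.Liaison.isCohenMacaulayLocalRing_of_isGorensteinLocalRing A
  refine ⟨Groth.Agent.H8.Liaison.flat_quotient_of_isCohenMacaulay R A I hI, ?_⟩
  by_cases hJ : (Submodule.annihilator I : Ideal A) = ⊤
  · haveI : Subsingleton (A ⧸ (Submodule.annihilator I : Ideal A)) :=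
      Ideal.Quotient.subsingleton_iff.mpr hJ
    infer_instance
  · haveI hQ : LocCoh.IsCohenMacaulayLocalRing (A ⧸ (Submodule.annihilator I : Ideal A)) :=
      Groth.Agent.H8.Liaison.isCohenMacaulayLocalRing_quotient_annihilator A I
        (Or.inr inferInstance) hJ
    exact Groth.Agent.H8.Liaison.flat_quotient_of_isCohenMacaulay R A _
      (Groth.Agent.H8.Liaison.ringKrullDim_quotient_annihilator_eq A I hJ)

end Groth.Agent.S16517
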