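import Groth.Statements.S16518
import Groth.Agent.Lib.helper8.LiaisonM

set_option autoImplicit false
universe u
open CAlg

namespace Groth.Agent.S16518

/-- Let R be a Noetherian local ring, A a Gorenstein local ring which is a flat R-algebra through a
local homomorphism, I ⊂ A an ideal of codimension zero (the Krull dimension of A/I equals that of A)
with A/I Cohen–Macaulay, and J = (0 : I) its annihilator. For every R-regular sequence r_1, …, r_n
generating an ideal 𝔯 of R, the module J/𝔯J is the annihilator of the image of I in A/𝔯A: the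
natural map J/𝔯J → A/𝔯A is injective (J ∩ 𝔯A = 𝔯J) with image the ideal quotient (𝔯A : I) modulo 𝔯A
(J + 𝔯A = (𝔯A : I)). -/
theorem result (R A : Type u)
    [CommRing R] [IsNoetherianRing R] [IsLocalRing R] [CommRing A] [Algebra R A]
    [LocCoh.IsGorensteinLocalRing A] [IsLocalHom (algebraMap R A)] [Module.Flat R A] (I : Ideal A)
    (hI : ringKrullDim (A ⧸ I) = ringKrullDim A) [LocCoh.IsCohenMacaulayLocalRing (A ⧸ I)]
    (rs : List R) (hrs : RingTheory.Sequence.IsRegular R rs) :
    Submodule.annihilator I ⊔ (Ideal.ofList rs).map (algebraMap R A) =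
        Submodule.colon ((Ideal.ofList rs).map (algebraMap R A)) (I : Set A) ∧
      Submodule.annihilator I ⊓ (Ideal.ofList rs).map (algebraMap R A) =
        (Ideal.ofList rs).map (algebraMap R A) * Submodule.annihilator I := by
  classical
  haveI hACM : LocCoh.IsCohenMacaulayLocalRing A :=
    Groth.Agent.H8.Liaison.isCohenMacaulayLocalRing_of_isGorensteinLocalRing A
  haveI : IsLocalRing A := hACM.toIsLocalRing
  have hwrA : RingTheory.Sequence.IsWeaklyRegular A (rs.map (algebraMap R A)) :=
    hrs.toIsWeaklyRegular.of_flat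
  have hne : Ideal.ofList rs ≠ ⊤ := by
    intro h
    apply hrs.top_ne_smul
    rw [h, smul_eq_mul, Ideal.top_mul]
  have hmemR : ∀ r ∈ rs, r ∈ IsLocalRing.maximalIdeal R := by
    intro r hr
    exact IsLocalRing.le_maximalIdeal hne (Ideal.subset_span hr)
  have hmem : ∀ y ∈ rs.map (algebraMap R A), y ∈ IsLocalRing.maximalIdeal A := by
    intro y hy
    obtain ⟨r, hr, rfl⟩ := List.mem_map.mp hy
    exact IsLocalRing.map_maximalIdeal_le (algebraMap R A)
      (Ideal.mem_map_of_mem _ (hmemR r hr))
  rw [Ideal.map_ofList]
  exact Groth.Agent.H8.Liaison.linkage_mod_regular A I hI (rs.map (algebraMap R A)) hmem hwrA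

end Groth.Agent.S16518
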