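import Groth.Statements.S16519
import Mathlib

set_option autoImplicit false
open CubicSurf

namespace Groth.Agent.S16519

/-- On a smooth cubic surface there are exactly 72 divisor classes L with L² = 1 and L · K = −3. Stated
in the lattice ℤ^{1,6} with basis l, e_1, …, e_6 (l² = 1, e_i² = −1, K = −3l + Σ e_i): the integer
vectors (a, b) ∈ ℤ × ℤ^6, standing for a·l − Σ b_i e_i, with 3a − Σ b_i = 3 and a² − Σ b_i² = 1 form
a set of exactly 72 elements. -/
theorem result :
    {p : ℤ × (Fin 6 → ℤ) | 3 * p.1 - (Finset.univ.sum fun i => p.2 i) = 3 ∧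
        p.1 ^ 2 - (Finset.univ.sum fun i => p.2 i ^ 2) = 1}.ncard = 72 := by
  classical
  have key : ∀ (a : ℤ) (b : Fin 6 → ℤ), 3 * a - (Finset.univ.sum fun i => b i) = 3 →
      a ^ 2 - (Finset.univ.sum fun i => b i ^ 2) = 1 →
      ∀ i, 3 * (b i) ^ 2 - 3 * (a - 1) * b i + (2 * a - 7) * (a - 1) ≤ 0 := by
    intro a b h1 h2 i
    have hcs := sq_sum_le_card_mul_sum_sq (s := Finset.univ.erase i) (f := b)
    have hcard : (Finset.univ.erase i).card = 5 := by
      rw [Finset.card_erase_of_mem (Finset.mem_univ i)]; simp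
    rw [hcard] at hcs
    have e1 : ∑ j ∈ Finset.univ.erase i, b j = (3 * a - 3) - b i := by
      have := Finset.add_sum_erase Finset.univ b (Finset.mem_univ i)
      linarith
    have e2 : ∑ j ∈ Finset.univ.erase i, b j ^ 2 = (a ^ 2 - 1) - b i ^ 2 := by
      have := Finset.add_sum_erase Finset.univ (fun j => b j ^ 2) (Finset.mem_univ i)
      linarith
    rw [e1, e2] at hcs
    push_cast at hcs
    nlinarith
  have bounds : ∀ (a : ℤ) (b : Fin 6 → ℤ), 3 * a - (Finset.univ.sum fun i => b i) = 3 →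
      a ^ 2 - (Finset.univ.sum fun i => b i ^ 2) = 1 →
      (1 ≤ a ∧ a ≤ 5) ∧ ∀ i, 0 ≤ b i ∧ b i ≤ 2 := by
    intro a b h1 h2
    have hk := key a b h1 h2
    have ha : 1 ≤ a ∧ a ≤ 5 := by
      have h0 := hk 0
      have hprod : 0 ≤ (a - 1) * (5 - a) := by nlinarith [sq_nonneg (6 * b 0 - 3 * (a - 1))]
      constructor
      · by_contra hlt
        push Not at hlt
        nlinarith
      · by_contra hlt
        push Not at hlt
        nlinarith
    refine ⟨ha, fun i => ?_⟩
    have hi := hk i
    obtain ⟨ha1, ha5⟩ := ha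
    interval_cases a
    · constructor <;> nlinarith
    · constructor
      · by_contra hlt; push Not at hlt; nlinarith
      · by_contra hlt; push Not at hlt; nlinarith
    · constructor
      · by_contra hlt; push Not at hlt; nlinarith
      · by_contra hlt; push Not at hlt; nlinarith
    · constructor
      · by_contra hlt; push Not at hlt; nlinarith
      · by_contra hlt; push Not at hlt; nlinarith
    · constructor <;> nlinarith
  have hset : {p : ℤ × (Fin 6 → ℤ) | 3 * p.1 - (Finset.univ.sum fun i => p.2 i) = 3 ∧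
        p.1 ^ 2 - (Finset.univ.sum fun i => p.2 i ^ 2) = 1} =
      ↑((Finset.Icc (1 : ℤ) 5 ×ˢ Fintype.piFinset (fun _ : Fin 6 => Finset.Icc (0 : ℤ) 2)).filter
        (fun p => 3 * p.1 - (Finset.univ.sum fun i => p.2 i) = 3 ∧
          p.1 ^ 2 - (Finset.univ.sum fun i => p.2 i ^ 2) = 1)) := by
    ext p
    simp only [Set.mem_ofPred_eq, Finset.coe_filter, Finset.mem_product, Finset.mem_Icc,
      Fintype.mem_piFinset]
    constructor
    · rintro ⟨h1, h2⟩
      exact ⟨bounds p.1 p.2 h1 h2, h1, h2⟩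
    · rintro ⟨_, h1, h2⟩
      exact ⟨h1, h2⟩
  rw [hset, Set.ncard_coe_finset]
  set_option maxRecDepth 1000000 in decide

end Groth.Agent.S16519
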