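import Groth.Statements.S1655
import Mathlib
import Groth.Agent.Lib.helper4.Rat11

set_option autoImplicit false
universe u
open CategoryTheory CategoryTheory.Limits AlgebraicGeometry
open Variety

namespace Groth.Agent.S1655

section Helpers
open CategoryTheory CategoryTheory.Limits AlgebraicGeometry

/-- A morphism of integral schemes which is an isomorphism over a nonempty open is birational. -/
theorem birational_of_isIso_restrict {X Y : Scheme.{u}} [IsIntegral X] [IsIntegral Y]
    (f : Y ⟶ X) (W : X.Opens) (hW : (W : Set X).Nonempty) (hfW : IsIso (f ∣_ W)) :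
    f (genericPoint Y) = genericPoint X ∧ IsIso (f.stalkMap (genericPoint Y)) := by
  obtain ⟨w, hw⟩ := hW
  have hξW : genericPoint X ∈ W :=
    (Groth.Agent.H4FF.genericPoint_specializes w).mem_open W.isOpen hw
  -- a preimage of the generic point
  have hsurj : Function.Surjective (f ∣_ W) := by
    intro z
    exact ⟨inv (f ∣_ W) z, by rw [← Scheme.Hom.comp_apply, IsIso.inv_hom_id]; rfl⟩
  obtain ⟨η, hη⟩ := hsurj ⟨genericPoint X, hξW⟩
  have hfη : f η.1 = genericPoint X := by
    have h1 : W.ι ((f ∣_ W) η) = f ((f ⁻¹ᵁ W).ι η) := by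
      rw [← Scheme.Hom.comp_apply, morphismRestrict_ι, Scheme.Hom.comp_apply]
    rw [hη] at h1
    exact h1.symm
  have hgen : f (genericPoint Y) = genericPoint X := by
    have h1 : f (genericPoint Y) ⤳ f η.1 :=
      (Groth.Agent.H4FF.genericPoint_specializes η.1).map f.continuous
    rw [hfη] at h1
    exact (h1.antisymm (Groth.Agent.H4FF.genericPoint_specializes _)).eq
  refine ⟨hgen, ?_⟩
  have hξY : genericPoint Y ∈ f ⁻¹ᵁ W := by
    change f (genericPoint Y) ∈ W
    rw [hgen]
    exact hξW
  have h2 : IsIso ((f ∣_ W).stalkMap ⟨genericPoint Y, hξY⟩) := inferInstance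
  exact ((MorphismProperty.isomorphisms CommRingCat).arrow_mk_iso_iff
    (morphismRestrictStalkMap f W ⟨genericPoint Y, hξY⟩)).1 h2

theorem main {X Y : Scheme.{u}} [IsIntegral X] [IsIntegral Y]
    (f : Y ⟶ X) [IsProper f] (W : X.Opens) (hW : (W : Set X).Nonempty) (hfW : IsIso (f ∣_ W))
    (x : X) (hx : IsIntegrallyClosed (X.presheaf.stalk x)) (y : Y) (hy : f.base y = x)
    (hq : f.QuasiFiniteAt y) :
    ∃ V : X.Opens, x ∈ V ∧ IsIso (f ∣_ V) := by
  obtain ⟨hgen, hbir⟩ := birational_of_isIso_restrict f W hW hfW
  subst hy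
  exact Groth.Agent.H4Rat.exists_isIso_restrict f hgen hbir y hx hq

end Helpers


/-- Let X be a Noetherian integral scheme, Y an integral scheme, and f : Y → X a proper morphism that
restricts to an isomorphism over some nonempty open subscheme of X. If x is a point of X whose local
ring is integrally closed and f is quasi-finite at some point lying over x, then f restricts to an
isomorphism over an open neighbourhood of x. -/
theorem result {X Y : Scheme.{u}} [IsNoetherian X] [IsIntegral X] [IsIntegral Y]
    (f : Y ⟶ X) [IsProper f] (W : X.Opens) (hW : (W : Set X).Nonempty) (hfW : IsIso (f ∣_ W))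
    (x : X) (hx : IsIntegrallyClosed (X.presheaf.stalk x)) (y : Y) (hy : f.base y = x) (hq : f.QuasiFiniteAt y) :
    ∃ V : X.Opens, x ∈ V ∧ IsIso (f ∣_ V) := by
  exact main f W hW hfW x hx y hy hq

end Groth.Agent.S1655
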