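import Groth.Statements.S16572
import Mathlib

set_option autoImplicit false
universe u
open CAlg

namespace Groth.Agent.S16572
open Polynomial

section helpers



theorem residue_mk' {T : Type*} [CommRing T] (Q : Ideal T) [Q.IsPrime] (t : T) (s : Q.primeCompl) :
    IsLocalRing.residue (Localization.AtPrime Q) (IsLocalization.mk' _ t s) =
      algebraMap T Q.ResidueField t * (algebraMap T Q.ResidueField (s : T))⁻¹ := by
  have hs : algebraMap T Q.ResidueField (s : T) ≠ 0 := by
    rw [Ne, Ideal.algebraMap_residueField_eq_zero]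
    exact s.2
  rw [eq_mul_inv_iff_mul_eq₀ hs]
  rw [IsScalarTower.algebraMap_apply T (Localization.AtPrime Q) Q.ResidueField,
    IsScalarTower.algebraMap_apply T (Localization.AtPrime Q) Q.ResidueField (t),
    IsLocalRing.ResidueField.algebraMap_eq, ← map_mul, IsLocalization.mk'_spec]

section
variable (A : Type u) [CommRing A]

abbrev Idx := {P : Polynomial A // P.Monic ∧ 0 < P.natDegree}
noncomputable abbrev JJ : Ideal (MvPolynomial (Idx A) A) :=
  Ideal.span (Set.range fun P : Idx A => Polynomial.aeval (MvPolynomial.X (R := A) P) P.1)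
abbrev TT := MvPolynomial (Idx A) A ⧸ JJ A

variable {A}

theorem root_in_T (P : Idx A) :
    Polynomial.aeval (Ideal.Quotient.mk (JJ A) (MvPolynomial.X P) : TT A) P.1 = 0 := by
  have h1 : Polynomial.aeval ((Ideal.Quotient.mkₐ A (JJ A)) (MvPolynomial.X P)) P.1 =
      (Ideal.Quotient.mkₐ A (JJ A)) (Polynomial.aeval (MvPolynomial.X P) P.1) :=
    Polynomial.aeval_algHom_apply _ _ _
  have h2 : (Ideal.Quotient.mkₐ A (JJ A)) (Polynomial.aeval (MvPolynomial.X P) P.1) = 0 :=
    Ideal.Quotient.eq_zero_iff_mem.2 (Ideal.subset_span ⟨P, rfl⟩)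
  rw [h2] at h1
  exact h1

theorem integral_T (t : TT A) : IsIntegral A t := by
  obtain ⟨q, rfl⟩ := Ideal.Quotient.mk_surjective t
  induction q using MvPolynomial.induction_on with
  | C a =>
    have : (Ideal.Quotient.mk (JJ A)) (MvPolynomial.C a) = algebraMap A (TT A) a := rfl
    rw [this]
    exact isIntegral_algebraMap
  | add p q hp hq =>
    rw [map_add]
    exact hp.add hq
  | mul_X p P hp =>
    rw [map_mul]
    refine hp.mul ?_
    exact ⟨P.1, P.2.1, by rw [← Polynomial.aeval_def]; exact root_in_T P⟩

theorem exists_hom (K : Type*) [Field K] [IsAlgClosed K] [Algebra A K] :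
    Nonempty (TT A →ₐ[A] K) := by
  haveI : Nontrivial A := (algebraMap A K).domain_nontrivial
  have hroot : ∀ P : Idx A, ∃ x : K, Polynomial.aeval x P.1 = 0 := by
    intro P
    have hdeg : (P.1.map (algebraMap A K)).degree ≠ 0 := by
      rw [P.2.1.degree_map, Polynomial.degree_eq_natDegree P.2.1.ne_zero]
      exact_mod_cast P.2.2.ne'
    obtain ⟨x, hx⟩ := IsAlgClosed.exists_root _ hdeg
    exact ⟨x, by rwa [Polynomial.IsRoot, Polynomial.eval_map_algebraMap] at hx⟩
  choose r hr using hroot
  refine ⟨Ideal.Quotient.liftₐ (JJ A) (MvPolynomial.aeval r) ?_⟩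
  intro a ha
  have hle : JJ A ≤ RingHom.ker (MvPolynomial.aeval r : MvPolynomial (Idx A) A →ₐ[A] K) := by
    rw [Ideal.span_le]
    rintro _ ⟨P, rfl⟩
    simp only [SetLike.mem_coe, RingHom.mem_ker]
    rw [← Polynomial.aeval_algHom_apply, MvPolynomial.aeval_X]
    exact hr P
  exact hle ha

theorem part1 :
    Function.Surjective (PrimeSpectrum.comap (algebraMap A (TT A))) := by
  intro p
  obtain ⟨φ⟩ := exists_hom (A := A) (AlgebraicClosure p.asIdeal.ResidueField)
  refine ⟨⟨RingHom.ker φ.toRingHom, RingHom.ker_isPrime _⟩, ?_⟩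
  apply PrimeSpectrum.ext
  change (RingHom.ker φ.toRingHom).comap (algebraMap A (TT A)) = p.asIdeal
  rw [RingHom.comap_ker]
  have h1 : φ.toRingHom.comp (algebraMap A (TT A)) =
      algebraMap A (AlgebraicClosure p.asIdeal.ResidueField) := φ.comp_algebraMap
  rw [h1, IsScalarTower.algebraMap_eq A p.asIdeal.ResidueField
    (AlgebraicClosure p.asIdeal.ResidueField), ← RingHom.comap_ker]
  rw [(RingHom.injective_iff_ker_eq_bot _).1 (algebraMap p.asIdeal.ResidueField
    (AlgebraicClosure p.asIdeal.ResidueField)).injective, ← RingHom.ker_eq_comap_bot,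
    Ideal.ker_algebraMap_residueField]


theorem part2 (Q : Ideal (TT A)) [Q.IsPrime] :
    IsAlgClosed Q.ResidueField ∧
      (Ideal.ResidueField.map (Q.comap (algebraMap A (TT A))) Q
        (algebraMap A (TT A)) rfl).IsIntegral := by
  set p := Q.comap (algebraMap A (TT A)) with hp
  set φ := Ideal.ResidueField.map p Q (algebraMap A (TT A)) rfl with hφ
  letI : Algebra p.ResidueField Q.ResidueField := φ.toAlgebra
  haveI : IsScalarTower A p.ResidueField Q.ResidueField :=
    IsScalarTower.of_algebraMap_eq (fun r => by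
      rw [RingHom.algebraMap_toAlgebra, hφ, Ideal.ResidueField.map_algebraMap,
        ← IsScalarTower.algebraMap_apply])
  -- integrality
  have hint : ∀ z : Q.ResidueField, IsIntegral p.ResidueField z := by
    intro z
    obtain ⟨w, rfl⟩ := IsLocalRing.residue_surjective z
    obtain ⟨t, s, rfl⟩ := IsLocalization.exists_mk'_eq Q.primeCompl w
    have hT : ∀ t : TT A, IsIntegral p.ResidueField (algebraMap (TT A) Q.ResidueField t) := by
      intro t
      have h1 : IsIntegral A (algebraMap (TT A) Q.ResidueField t) :=
        (integral_T t).algebraMap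
      exact h1.tower_top
    rw [residue_mk']
    exact (hT t).mul (hT s).inv
  refine ⟨?_, hint⟩
  haveI : Algebra.IsAlgebraic p.ResidueField Q.ResidueField := ⟨fun z => (hint z).isAlgebraic⟩
  have hroots : ∀ g : p.ResidueField[X], g.Monic → Irreducible g →
      ∃ x : Q.ResidueField, Polynomial.aeval x g = 0 := by
    intro g hgm hgi
    have hn : 0 < g.natDegree := hgi.natDegree_pos
    obtain ⟨b, hb⟩ := IsLocalization.exist_integer_multiples (nonZeroDivisors (A ⧸ p))
      (Finset.range (g.natDegree + 1)) g.coeff
    obtain ⟨s, hs⟩ := Ideal.Quotient.mk_surjective (b : A ⧸ p)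
    set σ := algebraMap A p.ResidueField s with hσ
    have hσb : σ = algebraMap (A ⧸ p) p.ResidueField (b : A ⧸ p) := by
      rw [hσ, ← hs]
      rfl
    have hσ0 : σ ≠ 0 := by
      rw [hσb]
      exact IsLocalization.to_map_ne_zero_of_mem_nonZeroDivisors _ le_rfl b.2
    have hcoef : ∀ i, i ≤ g.natDegree → ∃ a : A, algebraMap A p.ResidueField a = σ * g.coeff i := by
      intro i hi
      obtain ⟨a', ha'⟩ := hb i (Finset.mem_range.2 (by omega))
      obtain ⟨a, rfl⟩ := Ideal.Quotient.mk_surjective a'
      refine ⟨a, ?_⟩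
      rw [hσb, ← Algebra.smul_def, ← ha']
      rfl
    have hlifts : Polynomial.scaleRoots g σ ∈ Polynomial.lifts (algebraMap A p.ResidueField) := by
      rw [Polynomial.lifts_iff_coeff_lifts]
      intro i
      rw [Polynomial.coeff_scaleRoots]
      rcases lt_trichotomy i g.natDegree with hi | hi | hi
      · obtain ⟨a, ha⟩ := hcoef i hi.le
        refine ⟨a * s ^ (g.natDegree - i - 1), ?_⟩
        rw [map_mul, map_pow, ha, ← hσ]
        have : g.natDegree - i = (g.natDegree - i - 1) + 1 := by omega
        conv_rhs => rw [this, pow_succ]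
        ring
      · subst hi
        refine ⟨1, ?_⟩
        rw [map_one, Nat.sub_self, pow_zero, mul_one]
        exact hgm.symm
      · refine ⟨0, ?_⟩
        rw [map_zero, Polynomial.coeff_eq_zero_of_natDegree_lt hi, zero_mul]
    have hmonic : (Polynomial.scaleRoots g σ).Monic := (Polynomial.monic_scaleRoots_iff σ).2 hgm
    obtain ⟨G, hGmap, hGdeg, hGmonic⟩ :=
      Polynomial.lifts_and_natDegree_eq_and_monic hlifts hmonic
    rw [Polynomial.natDegree_scaleRoots] at hGdeg
    let P : Idx A := ⟨G, hGmonic, by omega⟩
    set y : Q.ResidueField := algebraMap (TT A) Q.ResidueField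
      (Ideal.Quotient.mk (JJ A) (MvPolynomial.X P)) with hy
    have h1 : Polynomial.aeval y G = 0 := by
      rw [hy, Polynomial.aeval_algebraMap_apply, root_in_T P, map_zero]
    have h2 : Polynomial.aeval y (Polynomial.scaleRoots g σ) = 0 := by
      rw [← hGmap, Polynomial.aeval_map_algebraMap]
      exact h1
    have h3 := Polynomial.scaleRoots_aeval_eq_zero (r := σ⁻¹) h2
    rw [← Polynomial.scaleRoots_mul, mul_inv_cancel₀ hσ0, Polynomial.scaleRoots_one] at h3
    exact ⟨_, h3⟩
  exact (IsAlgClosure.of_exists_root hroots).isAlgClosed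

end



end helpers

/-- Let A be a commutative ring and T the quotient of the polynomial ring over A in indeterminates X_P,
one for each monic polynomial P over A of positive degree, by the ideal generated by the elements
P(X_P). Then the map on prime spectra Spec T → Spec A is surjective, and for every prime ideal Q of
T, with p its contraction to A, the residue field of Q is algebraically closed and integral over the
residue field of p under the induced map of residue fields (so it is an algebraic closure of it). -/
theorem result (A : Type u) [CommRing A] :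
    Function.Surjective (PrimeSpectrum.comap (algebraMap A (MvPolynomial {P : Polynomial A // P.Monic ∧ 0 < P.natDegree} A ⧸
      Ideal.span (Set.range fun P : {P : Polynomial A // P.Monic ∧ 0 < P.natDegree} =>
        Polynomial.aeval (MvPolynomial.X (R := A) P) P.1)))) ∧
    ∀ (Q : Ideal (MvPolynomial {P : Polynomial A // P.Monic ∧ 0 < P.natDegree} A ⧸
      Ideal.span (Set.range fun P : {P : Polynomial A // P.Monic ∧ 0 < P.natDegree} =>
        Polynomial.aeval (MvPolynomial.X (R := A) P) P.1))) [Q.IsPrime],
      IsAlgClosed Q.ResidueField ∧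
      (Ideal.ResidueField.map (Q.comap (algebraMap A (MvPolynomial {P : Polynomial A // P.Monic ∧ 0 < P.natDegree} A ⧸
      Ideal.span (Set.range fun P : {P : Polynomial A // P.Monic ∧ 0 < P.natDegree} =>
        Polynomial.aeval (MvPolynomial.X (R := A) P) P.1)))) Q (algebraMap A (MvPolynomial {P : Polynomial A // P.Monic ∧ 0 < P.natDegree} A ⧸
      Ideal.span (Set.range fun P : {P : Polynomial A // P.Monic ∧ 0 < P.natDegree} =>
        Polynomial.aeval (MvPolynomial.X (R := A) P) P.1))) rfl).IsIntegral := by
  exact ⟨part1, fun Q _ => part2 Q⟩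

end Groth.Agent.S16572
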