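import Groth.Statements.S16599
import Groth.Agent.Lib.helper25.LG

set_option autoImplicit false
open AlgebraicGeometry
universe u
open LGRing

namespace Groth.Agent.S16599

/-- the underlying set of an open of `Spec A`, as a set of primes -/
def toSet {A : Type u} [CommRing A] (U : (Spec (CommRingCat.of A)).Opens) : Set (PrimeSpectrum A) :=
  U.1

lemma range_subset_iff {A B : Type u} [CommRing A] [CommRing B] (g : A →+* B) (t : Finset A)
    (U : (Spec (CommRingCat.of A)).Opens)
    (hU : (PrimeSpectrum.zeroLocus (t : Set A))ᶜ = toSet U) :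
    Set.range (Spec.map (CommRingCat.ofHom g)).base ⊆ (U : Set ↥(Spec (CommRingCat.of A))) ↔
      ∀ q : PrimeSpectrum B, ∃ f ∈ t, g f ∉ q.asIdeal := by
  rw [Set.range_subset_iff]
  refine forall_congr' fun q => ?_
  change PrimeSpectrum.comap g q ∈ toSet U ↔ _
  rw [← hU, Set.mem_compl_iff, PrimeSpectrum.mem_zeroLocus, Set.not_subset]
  simp only [PrimeSpectrum.comap_asIdeal, SetLike.mem_coe, Ideal.mem_comap]

/-- Let R be an LG-ring, n ≥ 0, and U an open quasi-compact subscheme of affine n-space Spec R[X₁, …,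
Xₙ]. If U has an (R ⧸ m)-valued point over R for every maximal ideal m of R, then U has an R-valued
point: some n-tuple x over R defines a section Spec R ⟶ Spec R[X₁, …, Xₙ] with image inside U. -/
theorem result {R : Type u} [CommRing R] (hR : LGRing.IsLGRing R)
    (n : ℕ) (U : (Spec (CommRingCat.of (MvPolynomial (Fin n) R))).Opens)
    (hU : IsCompact (U : Set ↥(Spec (CommRingCat.of (MvPolynomial (Fin n) R)))))
    (h : ∀ (m : Ideal R) [m.IsMaximal], ∃ x : Fin n → R ⧸ m,
      Set.range (Spec.map (CommRingCat.ofHom (MvPolynomial.eval₂Hom (Ideal.Quotient.mk m) x))).base ⊆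
        (U : Set ↥(Spec (CommRingCat.of (MvPolynomial (Fin n) R))))) :
    ∃ x : Fin n → R, Set.range (Spec.map (CommRingCat.ofHom (MvPolynomial.eval x))).base ⊆
      (U : Set ↥(Spec (CommRingCat.of (MvPolynomial (Fin n) R)))) := by
  classical
  obtain ⟨t, ht⟩ := PrimeSpectrum.isCompact_isOpen_iff.1
    (show IsCompact (toSet U) ∧ IsOpen (toSet U) from ⟨hU, U.isOpen⟩)
  let e : t ≃ Fin t.card := t.equivFin
  let Fi : Fin t.card → MvPolynomial (Fin n) R := fun i => ((e.symm i : t) : MvPolynomial (Fin n) R)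
  have hFi : ∀ f ∈ t, ∃ i, Fi i = f := fun f hf => ⟨e ⟨f, hf⟩, by simp [Fi]⟩
  have hFi' : ∀ i, Fi i ∈ t := fun i => (e.symm i).2
  let G : MvPolynomial (Fin n ⊕ Fin t.card) R :=
    ∑ i, MvPolynomial.rename Sum.inl (Fi i) * MvPolynomial.X (Sum.inr i)
  have haeval : ∀ {S : Type u} [CommRing S] [Algebra R S] (s : Fin n ⊕ Fin t.card → S),
      MvPolynomial.aeval s G =
        ∑ i, MvPolynomial.aeval (s ∘ Sum.inl) (Fi i) * s (Sum.inr i) := by
    intro S _ _ s
    simp [G, MvPolynomial.aeval_rename]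
  have hres : ∀ (m : Ideal R) [m.IsMaximal], RepresentsUnit G (R ⧸ m) := by
    intro m hm
    obtain ⟨x, hx⟩ := h m
    rw [range_subset_iff _ t U ht] at hx
    let _ : Field (R ⧸ m) := Ideal.Quotient.field m
    obtain ⟨f, hft, hf⟩ := hx ⟨⊥, Ideal.isPrime_bot⟩
    obtain ⟨i₀, hi₀⟩ := hFi f hft
    have hc0 : MvPolynomial.eval₂Hom (Ideal.Quotient.mk m) x f ≠ 0 := by simpa using hf
    refine ⟨Sum.elim x (Pi.single i₀ (MvPolynomial.eval₂Hom (Ideal.Quotient.mk m) x f)⁻¹), ?_⟩
    rw [haeval, Finset.sum_eq_single i₀]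
    · have : MvPolynomial.aeval x (Fi i₀) = MvPolynomial.eval₂Hom (Ideal.Quotient.mk m) x f := by
        rw [hi₀]; rfl
      simp only [Sum.elim_comp_inl, Sum.elim_inr, Pi.single_eq_same, this]
      rw [mul_inv_cancel₀ hc0]
      exact isUnit_one
    · intro j _ hj
      simp [Pi.single_eq_of_ne hj]
    · simp
  obtain ⟨s, hs⟩ := Groth.Agent.Lib.helper25.LG.lg_fintype hR G hres
  refine ⟨s ∘ Sum.inl, ?_⟩
  rw [range_subset_iff _ t U ht]
  intro q
  by_contra hcon
  push_neg at hcon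
  rw [haeval] at hs
  have hmem : ∑ i, MvPolynomial.aeval (s ∘ Sum.inl) (Fi i) * s (Sum.inr i) ∈ q.asIdeal := by
    refine Ideal.sum_mem _ fun i _ => Ideal.mul_mem_right _ _ ?_
    have := hcon (Fi i) (hFi' i)
    have h2 : MvPolynomial.aeval (s ∘ Sum.inl) (Fi i) = MvPolynomial.eval (s ∘ Sum.inl) (Fi i) := by
      rw [← MvPolynomial.coe_aeval_eq_eval]; rfl
    rw [h2]; exact this
  exact q.isPrime.ne_top (Ideal.eq_top_of_isUnit_mem _ hmem hs)


end Groth.Agent.S16599
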