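import Groth.Statements.S16600
import Groth.Agent.Lib.helper25.LG

set_option autoImplicit false
open AlgebraicGeometry
universe u
open LGRing

namespace Groth.Agent.S16600

/-- the underlying set of an open of `Spec A`, as a set of primes -/
def toSet {A : Type u} [CommRing A] (U : (Spec (CommRingCat.of A)).Opens) : Set (PrimeSpectrum A) :=
  U.1

lemma range_subset_iff {A B : Type u} [CommRing A] [CommRing B] (g : A →+* B) (t : Finset A)
    (U : (Spec (CommRingCat.of A)).Opens)
    (hU : (PrimeSpectrum.zeroLocus (t : Set A))ᶜ = toSet U) :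
    Set.range (Spec.map (CommRingCat.ofHom g)).base ⊆ (U : Set ↥(Spec (CommRingCat.of A))) ↔
      ∀ q : PrimeSpectrum B, ∃ f ∈ t, g f ∉ q.asIdeal := by
  rw [Set.range_subset_iff]
  refine forall_congr' fun q => ?_
  change PrimeSpectrum.comap g q ∈ toSet U ↔ _
  rw [← hU, Set.mem_compl_iff, PrimeSpectrum.mem_zeroLocus, Set.not_subset]
  simp only [PrimeSpectrum.comap_asIdeal, SetLike.mem_coe, Ideal.mem_comap]

section param

variable {R : Type u} [CommRing R] {H : Type u} [AddCommGroup H] [Module R H] {n : ℕ}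

/-- the linear form attached to a coordinate vector -/
noncomputable def phiX (ψ : Fin n → Module.Dual R H) {R' : Type u} [CommRing R'] [Algebra R R']
    (X : Fin n → R') : H →ₗ[R] R' :=
  ∑ i, (Algebra.linearMap R R' ∘ₗ ψ i).smulRight (X i)

lemma phiX_apply (ψ : Fin n → Module.Dual R H) {R' : Type u} [CommRing R'] [Algebra R R']
    (X : Fin n → R') (h : H) : phiX ψ X h = ∑ i, algebraMap R R' (ψ i h) * X i := by
  simp [phiX, LinearMap.sum_apply]

/-- the universal evaluation -/
noncomputable def Theta (ψ : Fin n → Module.Dual R H) :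
    SymmetricAlgebra R H →ₐ[R] MvPolynomial (Fin n) R :=
  SymmetricAlgebra.lift (phiX ψ (MvPolynomial.X : Fin n → MvPolynomial (Fin n) R))

lemma lift_phiX (ψ : Fin n → Module.Dual R H) {R' : Type u} [CommRing R'] [Algebra R R']
    (X : Fin n → R') :
    SymmetricAlgebra.lift (phiX ψ X) = (MvPolynomial.aeval X).comp (Theta ψ) := by
  apply SymmetricAlgebra.algHom_ext
  ext h
  simp [Theta, phiX_apply, MvPolynomial.algebraMap_eq]

end param

/-- Let R be an LG-ring, M a finite locally free R-module, W(M) = Spec Sym(M^∨) the vector bundle of M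
(its points with values in an R-algebra R' are the R-algebra maps Sym(M^∨) → R', i.e. the R-linear
maps M^∨ → R'), and U ⊆ W(M) an open quasi-compact subscheme. Then U(R) is non-empty if and only if
U(R ⧸ m) is non-empty for every maximal ideal m of R. -/
theorem result {R : Type u} [CommRing R]
    (hR : LGRing.IsLGRing R) (M : Type u) [AddCommGroup M] [Module R M] [Module.Finite R M] [Module.Projective R M]
    (U : (Spec (CommRingCat.of (SymmetricAlgebra R (Module.Dual R M)))).Opens)
    (hU : IsCompact (U : Set ↥(Spec (CommRingCat.of (SymmetricAlgebra R (Module.Dual R M)))))) :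
    (∃ φ : Module.Dual R M →ₗ[R] R,
      Set.range (Spec.map (CommRingCat.ofHom (SymmetricAlgebra.lift φ).toRingHom)).base ⊆
        (U : Set ↥(Spec (CommRingCat.of (SymmetricAlgebra R (Module.Dual R M)))))) ↔
    ∀ (m : Ideal R) [m.IsMaximal], ∃ φ : Module.Dual R M →ₗ[R] (R ⧸ m),
      Set.range (Spec.map (CommRingCat.ofHom (SymmetricAlgebra.lift φ).toRingHom)).base ⊆
        (U : Set ↥(Spec (CommRingCat.of (SymmetricAlgebra R (Module.Dual R M))))) := by
  classical
  obtain ⟨t, ht⟩ := PrimeSpectrum.isCompact_isOpen_iff.1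
    (show IsCompact (toSet U) ∧ IsOpen (toSet U) from ⟨hU, U.isOpen⟩)
  constructor
  · rintro ⟨φ, hφ⟩ m hm
    refine ⟨(Algebra.linearMap R (R ⧸ m)) ∘ₗ φ, ?_⟩
    rw [range_subset_iff _ t U ht] at hφ ⊢
    intro q
    obtain ⟨f, hf, hfq⟩ := hφ (PrimeSpectrum.comap (Ideal.Quotient.mk m) q)
    refine ⟨f, hf, ?_⟩
    have hcomp : SymmetricAlgebra.lift ((Algebra.linearMap R (R ⧸ m)) ∘ₗ φ) =
        (Ideal.Quotient.mkₐ R m).comp (SymmetricAlgebra.lift φ) := by
      apply SymmetricAlgebra.algHom_ext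
      ext h
      simp
    intro hmem
    apply hfq
    rw [PrimeSpectrum.comap_asIdeal, Ideal.mem_comap]
    have h2 : (SymmetricAlgebra.lift ((Algebra.linearMap R (R ⧸ m)) ∘ₗ φ)).toRingHom f =
        Ideal.Quotient.mk m ((SymmetricAlgebra.lift φ).toRingHom f) := by
      rw [hcomp]; rfl
    rw [← h2]; exact hmem
  · intro hloc
    obtain ⟨n, π, hπ⟩ := Module.Finite.exists_fin' R (Module.Dual R (Module.Dual R M))
    let ψ : Fin n → Module.Dual R (Module.Dual R M) := fun i => π (Pi.single i 1)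
    have hπsum : ∀ (X₀ : Fin n → R) (h : Module.Dual R M), π X₀ h = ∑ i, ψ i h * X₀ i := by
      intro X₀ h
      rw [LinearMap.pi_apply_eq_sum_univ π X₀, LinearMap.sum_apply]
      refine Finset.sum_congr rfl fun i _ => ?_
      have : (fun j => if i = j then (1 : R) else 0) = Pi.single i 1 := by
        funext j; simp [Pi.single_apply, eq_comm]
      rw [this, LinearMap.smul_apply, smul_eq_mul, mul_comm]
    let e : t ≃ Fin t.card := t.equivFin
    let Fi : Fin t.card → SymmetricAlgebra R (Module.Dual R M) := fun i => ((e.symm i : t) : _)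
    have hFi : ∀ f ∈ t, ∃ i, Fi i = f := fun f hf => ⟨e ⟨f, hf⟩, by simp [Fi]⟩
    have hFi' : ∀ i, Fi i ∈ t := fun i => (e.symm i).2
    let G : MvPolynomial (Fin n ⊕ Fin t.card) R :=
      ∑ j, MvPolynomial.rename Sum.inl (Theta ψ (Fi j)) * MvPolynomial.X (Sum.inr j)
    have haeval : ∀ {S : Type u} [CommRing S] [Algebra R S] (s : Fin n ⊕ Fin t.card → S),
        MvPolynomial.aeval s G =
          ∑ j, SymmetricAlgebra.lift (phiX ψ (s ∘ Sum.inl)) (Fi j) * s (Sum.inr j) := by
      intro S _ _ s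
      simp [G, MvPolynomial.aeval_rename, lift_phiX]
    have hres : ∀ (m : Ideal R) [m.IsMaximal], RepresentsUnit G (R ⧸ m) := by
      intro m hm
      obtain ⟨φb, hφb⟩ := hloc m
      rw [range_subset_iff _ t U ht] at hφb
      let _ : Field (R ⧸ m) := Ideal.Quotient.field m
      obtain ⟨f, hft, hf⟩ := hφb ⟨⊥, Ideal.isPrime_bot⟩
      obtain ⟨j₀, hj₀⟩ := hFi f hft
      have hc0 : SymmetricAlgebra.lift φb f ≠ 0 := by simpa using hf
      obtain ⟨φ₀, hφ₀⟩ := Module.projective_lifting_property (Algebra.linearMap R (R ⧸ m)) φb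
        (by intro y; obtain ⟨x, rfl⟩ := Ideal.Quotient.mk_surjective y; exact ⟨x, rfl⟩)
      obtain ⟨X₀, hX₀⟩ := hπ φ₀
      have hphi : phiX ψ (fun i => Ideal.Quotient.mk m (X₀ i)) = φb := by
        ext h
        rw [phiX_apply, ← hφ₀, LinearMap.comp_apply, ← hX₀, hπsum]
        simp [map_sum, map_mul]
      refine ⟨Sum.elim (fun i => Ideal.Quotient.mk m (X₀ i))
        (Pi.single j₀ (SymmetricAlgebra.lift φb f)⁻¹), ?_⟩
      rw [haeval, Finset.sum_eq_single j₀]
      · simp only [Sum.elim_comp_inl, Sum.elim_inr, Pi.single_eq_same, hphi, hj₀]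
        rw [mul_inv_cancel₀ hc0]
        exact isUnit_one
      · intro j _ hj
        simp [Pi.single_eq_of_ne hj]
      · simp
    obtain ⟨s, hs⟩ := Groth.Agent.Lib.helper25.LG.lg_fintype hR G hres
    refine ⟨phiX ψ (s ∘ Sum.inl), ?_⟩
    rw [range_subset_iff _ t U ht]
    intro q
    by_contra hcon
    push_neg at hcon
    rw [haeval] at hs
    have hmem : ∑ j, SymmetricAlgebra.lift (phiX ψ (s ∘ Sum.inl)) (Fi j) * s (Sum.inr j)
        ∈ q.asIdeal := by
      refine Ideal.sum_mem _ fun j _ => Ideal.mul_mem_right _ _ ?_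
      exact hcon (Fi j) (hFi' j)
    exact q.isPrime.ne_top (Ideal.eq_top_of_isUnit_mem _ hmem hs)


end Groth.Agent.S16600
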