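import Groth.Statements.S16601
import Groth.Agent.S16600

set_option autoImplicit false
open AlgebraicGeometry
universe u
open LGRing

namespace Groth.Agent.S16601

open Groth.Agent.S16600 in
/-- key algebraic lemma: an element of the symmetric algebra of a finite projective module not in
`m·Sym` is non-zero at some `R ⧸ m`-point, when `R ⧸ m` is infinite. -/
lemma exists_point_ne_zero {R : Type u} [CommRing R] (H : Type u) [AddCommGroup H] [Module R H]
    [Module.Finite R H] [Module.Projective R H] (m : Ideal R) [m.IsMaximal] [Infinite (R ⧸ m)]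
    (f : SymmetricAlgebra R H)
    (hf : f ∉ Ideal.map (algebraMap R (SymmetricAlgebra R H)) m) :
    ∃ φ : H →ₗ[R] (R ⧸ m), SymmetricAlgebra.lift φ f ≠ 0 := by
  classical
  obtain ⟨n, s, i, -, -, hsi⟩ := Module.Finite.exists_comp_eq_id_of_projective R H
  let ψ : Fin n → Module.Dual R H := fun j => LinearMap.proj j ∘ₗ i
  -- the retraction
  let ρ : MvPolynomial (Fin n) R →ₐ[R] SymmetricAlgebra R H :=
    MvPolynomial.aeval fun j => SymmetricAlgebra.ι R H (s (Pi.single j 1))
  have hρ : ρ.comp (Theta ψ) = AlgHom.id R _ := by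
    apply SymmetricAlgebra.algHom_ext
    ext h
    have h1 : h = s (i h) := by
      have := LinearMap.congr_fun hsi h
      simpa using this.symm
    have h2 : s (i h) = ∑ j, (i h j) • s (Pi.single j 1) := by
      rw [LinearMap.pi_apply_eq_sum_univ s (i h)]
      refine Finset.sum_congr rfl fun j _ => ?_
      have : (fun k => if j = k then (1 : R) else 0) = Pi.single j 1 := by
        funext k; simp [Pi.single_apply, eq_comm]
      rw [this]
    change ρ (Theta ψ (SymmetricAlgebra.ι R H h)) = SymmetricAlgebra.ι R H h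
    simp only [Theta, SymmetricAlgebra.lift_ι_apply, phiX_apply, map_sum, map_mul]
    conv_rhs => rw [h1, h2]
    rw [map_sum (SymmetricAlgebra.ι R H)]
    refine Finset.sum_congr rfl fun j _ => ?_
    rw [map_smul]
    simp [ρ, ψ, Algebra.smul_def, MvPolynomial.algebraMap_eq]
  let _ : Field (R ⧸ m) := Ideal.Quotient.field m
  -- the image polynomial is nonzero mod m
  have hF : MvPolynomial.map (Ideal.Quotient.mk m) (Theta ψ f) ≠ 0 := by
    intro h0
    apply hf
    have hmem : Theta ψ f ∈ Ideal.map (MvPolynomial.C : R →+* MvPolynomial (Fin n) R) m := by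
      rw [MvPolynomial.mem_map_C_iff]
      intro d
      have := congrArg (MvPolynomial.coeff d) h0
      rw [MvPolynomial.coeff_map, MvPolynomial.coeff_zero, Ideal.Quotient.eq_zero_iff_mem] at this
      exact this
    have h2 : f = ρ (Theta ψ f) := by
      have := AlgHom.congr_fun hρ f
      simpa using this.symm
    rw [h2]
    have h3 : Ideal.map (MvPolynomial.C : R →+* MvPolynomial (Fin n) R) m ≤
        Ideal.comap ρ.toRingHom (Ideal.map (algebraMap R (SymmetricAlgebra R H)) m) := by
      rw [Ideal.map_le_iff_le_comap]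
      intro r hr
      rw [Ideal.mem_comap, Ideal.mem_comap]
      have : ρ.toRingHom (MvPolynomial.C r) = algebraMap R _ r := by
        simp [ρ]
      rw [this]
      exact Ideal.mem_map_of_mem _ hr
    exact h3 hmem
  obtain ⟨x, hx⟩ : ∃ x : Fin n → R ⧸ m,
      MvPolynomial.eval x (MvPolynomial.map (Ideal.Quotient.mk m) (Theta ψ f)) ≠ 0 := by
    by_contra hcon
    push_neg at hcon
    exact hF (MvPolynomial.funext fun x => by rw [hcon x]; simp)
  refine ⟨phiX ψ x, ?_⟩
  rw [lift_phiX, AlgHom.comp_apply]
  rw [MvPolynomial.eval_map] at hx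
  exact hx

/-- Let R be an LG-ring whose residue fields at maximal ideals are all infinite (R satisfies the
primitive criterion), M a finite locally free R-module with vector bundle W(M) = Spec Sym(M^∨), and
U ⊆ W(M) an open quasi-compact subscheme which is fibrewise dense over the closed points of Spec R
(for every maximal ideal m, the trace of U on the closed fibre Spec (Sym(M^∨) ⧸ m Sym(M^∨)) is
dense). Then U has an R-valued point. (The source asks U to be R-dense in W(M); only density of the
closed fibres is used, which is what is assumed here.) -/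
theorem result {R : Type u} [CommRing R]
    (hR : LGRing.IsLGRing R) (hinf : ∀ (m : Ideal R) [m.IsMaximal], Infinite (R ⧸ m))
    (M : Type u) [AddCommGroup M] [Module R M] [Module.Finite R M] [Module.Projective R M]
    (U : (Spec (CommRingCat.of (SymmetricAlgebra R (Module.Dual R M)))).Opens)
    (hU : IsCompact (U : Set ↥(Spec (CommRingCat.of (SymmetricAlgebra R (Module.Dual R M))))))
    (hdense : ∀ (m : Ideal R) [m.IsMaximal],
      Dense ((Spec.map (CommRingCat.ofHom (Ideal.Quotient.mk
        (Ideal.map (algebraMap R (SymmetricAlgebra R (Module.Dual R M))) m)))).base ⁻¹'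
          (U : Set ↥(Spec (CommRingCat.of (SymmetricAlgebra R (Module.Dual R M))))))) :
    ∃ φ : Module.Dual R M →ₗ[R] R,
      Set.range (Spec.map (CommRingCat.ofHom (SymmetricAlgebra.lift φ).toRingHom)).base ⊆
        (U : Set ↥(Spec (CommRingCat.of (SymmetricAlgebra R (Module.Dual R M))))) := by
  classical
  rw [Groth.Agent.S16600.result hR M U hU]
  intro m hm
  haveI := hinf m
  obtain ⟨t, ht⟩ := PrimeSpectrum.isCompact_isOpen_iff.1
    (show IsCompact (Groth.Agent.S16600.toSet U) ∧ IsOpen (Groth.Agent.S16600.toSet U) from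
      ⟨hU, U.isOpen⟩)
  -- the ideal m·Sym is proper
  have hI : Ideal.map (algebraMap R (SymmetricAlgebra R (Module.Dual R M))) m ≠ ⊤ := by
    intro htop
    let ε : SymmetricAlgebra R (Module.Dual R M) →ₐ[R] (R ⧸ m) := SymmetricAlgebra.lift 0
    have hle : Ideal.map (algebraMap R (SymmetricAlgebra R (Module.Dual R M))) m ≤
        RingHom.ker ε.toRingHom := by
      rw [Ideal.map_le_iff_le_comap]
      intro r hr
      rw [Ideal.mem_comap, RingHom.mem_ker]
      have : ε.toRingHom (algebraMap R _ r) = algebraMap R (R ⧸ m) r := ε.commutes r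
      rw [this, Ideal.Quotient.algebraMap_eq, Ideal.Quotient.eq_zero_iff_mem]
      exact hr
    have h1 : (1 : SymmetricAlgebra R (Module.Dual R M)) ∈ RingHom.ker ε.toRingHom :=
      hle (htop ▸ Submodule.mem_top)
    rw [RingHom.mem_ker, map_one] at h1
    exact one_ne_zero h1
  haveI : Nontrivial (SymmetricAlgebra R (Module.Dual R M) ⧸
      Ideal.map (algebraMap R (SymmetricAlgebra R (Module.Dual R M))) m) :=
    Ideal.Quotient.nontrivial_iff.2 hI
  haveI : Nonempty ↥(Spec (CommRingCat.of (SymmetricAlgebra R (Module.Dual R M) ⧸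
      Ideal.map (algebraMap R (SymmetricAlgebra R (Module.Dual R M))) m))) :=
    inferInstanceAs (Nonempty (PrimeSpectrum _))
  obtain ⟨q', hq'⟩ := (hdense m).nonempty
  have hq'' : PrimeSpectrum.comap (Ideal.Quotient.mk
      (Ideal.map (algebraMap R (SymmetricAlgebra R (Module.Dual R M))) m)) q' ∈
      Groth.Agent.S16600.toSet U := hq'
  rw [← ht, Set.mem_compl_iff, PrimeSpectrum.mem_zeroLocus, Set.not_subset] at hq''
  obtain ⟨f, hft, hfq⟩ := hq''
  have hfI : f ∉ Ideal.map (algebraMap R (SymmetricAlgebra R (Module.Dual R M))) m := by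
    intro hmem
    apply hfq
    simp only [PrimeSpectrum.comap_asIdeal, SetLike.mem_coe, Ideal.mem_comap]
    rw [Ideal.Quotient.eq_zero_iff_mem.2 hmem]
    exact zero_mem _
  obtain ⟨φ, hφ⟩ := exists_point_ne_zero (Module.Dual R M) m f hfI
  refine ⟨φ, ?_⟩
  rw [Groth.Agent.S16600.range_subset_iff _ t U ht]
  intro q
  refine ⟨f, hft, ?_⟩
  let _ : Field (R ⧸ m) := Ideal.Quotient.field m
  have hq : q.asIdeal = ⊥ := Ideal.eq_bot_of_prime q.asIdeal
  rw [hq, Ideal.mem_bot]
  exact hφ


end Groth.Agent.S16601
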