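import Groth.Statements.S16602
import Groth.Agent.Lib.helper25.AzuLG

set_option autoImplicit false
universe u v w
open Brauer

namespace Groth.Agent.S16602


open Module in
lemma equiv_of_surj {A : Type*} [Ring A] {P Q : Type*} [AddCommGroup P] [Module A P]
    [AddCommGroup Q] [Module A Q] [Module.Projective A Q] [Nontrivial Q]
    (hP : ∀ e : Module.End A P, IsIdempotentElem e → e = 0 ∨ e = 1) (f : P →ₗ[A] Q)
    (hf : Function.Surjective f) : Nonempty (P ≃ₗ[A] Q) := by
  obtain ⟨s, hs⟩ := Module.projective_lifting_property f LinearMap.id hf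
  have hfs : ∀ y, f (s y) = y := fun y => by
    have := congrArg (fun g => g y) hs
    simpa using this
  have hidem : IsIdempotentElem (s ∘ₗ f : Module.End A P) := by
    show (s ∘ₗ f) * (s ∘ₗ f) = s ∘ₗ f
    ext x
    simp [hfs]
  rcases hP _ hidem with h0 | h1
  · exfalso
    obtain ⟨y, hy⟩ := exists_ne (0 : Q)
    obtain ⟨x, rfl⟩ := hf y
    apply hy
    have : (s ∘ₗ f) x = 0 := by rw [h0]; rfl
    have h2 := congrArg f this
    simpa [hfs] using h2
  · refine ⟨LinearEquiv.ofBijective f ⟨fun x y hxy => ?_, hf⟩⟩
    have hx : (s ∘ₗ f) x = x := by rw [h1]; rfl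
    have hy : (s ∘ₗ f) y = y := by rw [h1]; rfl
    rw [← hx, ← hy]
    simp [hxy]

/-- Let R be an LG-ring with Spec R connected and A an Azumaya R-algebra. Then any two indecomposable
finitely generated projective left A-modules are isomorphic (a module is indecomposable when it is
non-zero and the only idempotents of its endomorphism ring are 0 and 1). (This extends the semilocal
case.) -/
theorem result {R : Type u} [CommRing R]
    (hR : LGRing.IsLGRing R) [ConnectedSpace (PrimeSpectrum R)] {A : Type v} [Ring A] [Algebra R A] [IsAzumaya R A]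
    (P Q : Type w) [AddCommGroup P] [Module A P] [Module.Finite A P] [Module.Projective A P] [Nontrivial P]
    [AddCommGroup Q] [Module A Q] [Module.Finite A Q] [Module.Projective A Q] [Nontrivial Q]
    (hP : ∀ e : Module.End A P, IsIdempotentElem e → e = 0 ∨ e = 1)
    (hQ : ∀ e : Module.End A Q, IsIdempotentElem e → e = 0 ∨ e = 1) : Nonempty (P ≃ₗ[A] Q) := by
  classical
  let _ : Module R P := Module.compHom P (algebraMap R A)
  let _ : Module R Q := Module.compHom Q (algebraMap R A)
  have tP : IsScalarTower R A P := ⟨fun r a p => by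
    show (r • a) • p = (algebraMap R A r) • (a • p)
    rw [Algebra.smul_def, mul_smul]⟩
  have tQ : IsScalarTower R A Q := ⟨fun r a p => by
    show (r • a) • p = (algebraMap R A r) • (a • p)
    rw [Algebra.smul_def, mul_smul]⟩
  have : Module.Finite R P := Module.Finite.trans A P
  have : Module.Finite R Q := Module.Finite.trans A Q
  have : Module.Projective R P := Groth.Agent.Lib.helper25.AzuLG.projective_of_tower (A := A) P
  have : Module.Projective R Q := Groth.Agent.Lib.helper25.AzuLG.projective_of_tower (A := A) Q
  have : Module.FinitePresentation R P := Module.finitePresentation_of_projective R P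
  have : Module.FinitePresentation R Q := Module.finitePresentation_of_projective R Q
  have cP : ∀ p p' : PrimeSpectrum R, Module.rankAtStalk P p = Module.rankAtStalk P p' :=
    fun p p' => (Module.isLocallyConstant_rankAtStalk (R := R) (M := P)).apply_eq_of_preconnectedSpace p p'
  have cQ : ∀ p p' : PrimeSpectrum R, Module.rankAtStalk Q p = Module.rankAtStalk Q p' :=
    fun p p' => (Module.isLocallyConstant_rankAtStalk (R := R) (M := Q)).apply_eq_of_preconnectedSpace p p'
  obtain ⟨p₀⟩ : Nonempty (PrimeSpectrum R) := inferInstance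
  rcases le_total (Module.rankAtStalk Q p₀) (Module.rankAtStalk P p₀) with hle | hle
  · obtain ⟨f, hf⟩ := Groth.Agent.Lib.helper25.AzuLG.exists_surjective_azumaya hR (A := A) P Q
      (fun m hm => by rw [cQ _ p₀, cP _ p₀]; exact hle)
    exact equiv_of_surj hP f hf
  · obtain ⟨f, hf⟩ := Groth.Agent.Lib.helper25.AzuLG.exists_surjective_azumaya hR (A := A) Q P
      (fun m hm => by rw [cQ _ p₀, cP _ p₀]; exact hle)
    obtain ⟨e⟩ := equiv_of_surj hQ f hf
    exact ⟨e.symm⟩


end Groth.Agent.S16602
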