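import Groth.Statements.S16607
import Groth.Agent.Lib.helper25.AzuCancel

set_option autoImplicit false
universe u v
open Brauer

namespace Groth.Agent.S16607


/-- Let R be an LG-ring, A and B Azumaya R-algebras and n ≥ 1. If Mₙ(A) ≅ Mₙ(B) as R-algebras then A ≅ B
as R-algebras (cancellation of Azumaya algebras). -/
theorem result {R : Type u} [CommRing R]
    (hR : LGRing.IsLGRing R) (A B : Type v) [Ring A] [Algebra R A] [IsAzumaya R A] [Ring B] [Algebra R B]
    [IsAzumaya R B] (n : ℕ) (hn : 0 < n)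
    (e : Matrix (Fin n) (Fin n) A ≃ₐ[R] Matrix (Fin n) (Fin n) B) : Nonempty (A ≃ₐ[R] B) := by
  classical
  have : NeZero n := ⟨hn.ne'⟩
  open TensorProduct in
  let E : ∀ (X : Type v) [Ring X] [Algebra R X],
      Matrix (Fin n) (Fin n) X ≃ₐ[R] X ⊗[R] Module.End R (Fin n → R) := fun X _ _ =>
    (matrixEquivTensor (Fin n) R X).trans
      (Algebra.TensorProduct.congr AlgEquiv.refl (Matrix.toLinAlgEquiv' (R := R) (n := Fin n)))
  have hrank : ∀ (X : Type v) [Ring X] [Algebra R X] [IsAzumaya R X] (p : PrimeSpectrum R),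
      Module.rankAtStalk (Matrix (Fin n) (Fin n) X) p = Module.rankAtStalk X p * (n * n) := by
    intro X _ _ _ p
    have : Nontrivial R := p.nontrivial
    rw [Module.rankAtStalk_eq_of_equiv (matrixEquivTensor (Fin n) R X).toLinearEquiv,
      Module.rankAtStalk_tensorProduct, Pi.mul_apply,
      Module.rankAtStalk_eq_finrank_of_free (M := Matrix (Fin n) (Fin n) R)]
    rw [Module.finrank_matrix]
    simp
  refine Groth.Agent.Lib.helper25.AzuCancel.cancel_end hR A B (Fin n → R) (Fin n → R)
    (fun m hm => ?_) (((E A).symm.trans e).trans (E B))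
  have h1 : Module.rankAtStalk (Matrix (Fin n) (Fin n) A) ⟨m, hm.isPrime⟩ =
      Module.rankAtStalk (Matrix (Fin n) (Fin n) B) ⟨m, hm.isPrime⟩ := by
    rw [Module.rankAtStalk_eq_of_equiv e.toLinearEquiv]
  rw [hrank A, hrank B] at h1
  exact Nat.eq_of_mul_eq_mul_right (Nat.mul_pos hn hn) h1


end Groth.Agent.S16607
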