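import Groth.Statements.S1710
import Mathlib
import Groth.Agent.Lib.helper22.CartierSch
import Groth.Agent.Lib.helper22.CartierSch2
import Groth.Agent.Lib.helper22.CartierFlat3

set_option autoImplicit false
universe u
open CategoryTheory CategoryTheory.Limits AlgebraicGeometry TopologicalSpace
open SDiv

namespace Groth.Agent.S1710

section Helpers

open Groth.Agent.H22.CartierFlat

/-- a good chart: `x ∈ W ≤ f⁻¹V`, `𝓘.ideal W = (t)` with `t` a nonzerodivisor. -/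
theorem exists_chart {X S : Scheme.{u}} (f : X ⟶ S) (𝓘 : X.IdealSheafData)
    (h : BlowUp.IsEffCartierIdeal 𝓘) (x : X) :
    ∃ (V : S.Opens) (_ : IsAffineOpen V) (W : X.affineOpens) (_ : W.1 ≤ f ⁻¹ᵁ V),
      x ∈ W.1 ∧ ∃ t ∈ nonZeroDivisors Γ(X, W.1), 𝓘.ideal W = Ideal.span {t} := by
  obtain ⟨_, ⟨V, hV, rfl⟩, hxV, -⟩ :=
    S.isBasis_affineOpens.exists_subset_of_mem_open (Set.mem_univ (f x)) isOpen_univ
  obtain ⟨U₀, hxU₀, t₀, ht₀, hI₀⟩ := h x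
  obtain ⟨W, hWU, g, hWg, hxW, hWV⟩ := exists_basic_le U₀ x hxU₀ (f ⁻¹ᵁ V) hxV
  obtain ⟨h1, h2⟩ := cartier_restrict_basicOpen 𝓘 hWU g hWg t₀ ht₀ hI₀
  exact ⟨V, hV, W, hWV, hxW, _, h1, h2⟩

theorem main {X S : Scheme.{u}} (f : X ⟶ S) (𝓘₁ 𝓘₂ 𝓘 : X.IdealSheafData)
    (h₁ : (BlowUp.IsEffCartierIdeal 𝓘₁ ∧ Flat (𝓘₁.subschemeι ≫ f))) (h₂ : (BlowUp.IsEffCartierIdeal 𝓘₂ ∧ Flat (𝓘₂.subschemeι ≫ f))) (h : BlowUp.IsEffCartierIdeal 𝓘) (hsum : 𝓘₁ * 𝓘 = 𝓘₂) :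
    Flat (𝓘.subschemeι ≫ f) := by
  apply flat_subscheme_of_flat_quot
  intro x _
  obtain ⟨V, hV, W, hWV, hxW, t, ht, hI⟩ := exists_chart f 𝓘₁ h₁.1 x
  refine ⟨V, hV, W, hWV, hxW, ?_⟩
  letI := (f.appLE V W.1 hWV).hom.toAlgebra
  have e1 := flat_quot_of_flat_subscheme f 𝓘₁ h₁.2 hV W hWV
  have e2 := flat_quot_of_flat_subscheme f 𝓘₂ h₂.2 hV W hWV
  rw [hI] at e1
  have hmul : 𝓘₂.ideal W = Ideal.span {t} * 𝓘.ideal W := by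
    rw [← hsum, ← hI]; rfl
  rw [hmul] at e2
  exact flat_quot_of_mul t (𝓘.ideal W) ht e1 e2

end Helpers

/-- Let f : X ⟶ S be a morphism and 𝓘₁, 𝓘₂ ideal sheaves of effective Cartier divisors D₁ ⊆ D₂ on X,
both flat over S, and let 𝓘 be the ideal sheaf of an effective Cartier divisor D with D₂ = D₁ + D
(that is, 𝓘₁𝓘 = 𝓘₂). Then D is flat over S as well. -/
theorem result {X S : Scheme.{u}} (f : X ⟶ S) (𝓘₁ 𝓘₂ 𝓘 : X.IdealSheafData)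
    (h₁ : (BlowUp.IsEffCartierIdeal 𝓘₁ ∧ Flat (𝓘₁.subschemeι ≫ f))) (h₂ : (BlowUp.IsEffCartierIdeal 𝓘₂ ∧ Flat (𝓘₂.subschemeι ≫ f))) (h : BlowUp.IsEffCartierIdeal 𝓘) (hsum : 𝓘₁ * 𝓘 = 𝓘₂) :
    Flat (𝓘.subschemeι ≫ f) := by
  exact main f 𝓘₁ 𝓘₂ 𝓘 h₁ h₂ h hsum

end Groth.Agent.S1710
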