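import Groth.Statements.S1662
import Mathlib
import Groth.Agent.Lib.helper22.CartierSch
import Groth.Agent.Lib.helper22.CartierSch2
import Groth.Agent.Lib.helper22.CartierBC
import Groth.Agent.S1710

set_option autoImplicit false
universe u
open CategoryTheory CategoryTheory.Limits AlgebraicGeometry
open Divisors

namespace Groth.Agent.S1662

section Helpers

open CategoryTheory CategoryTheory.Limits AlgebraicGeometry TopologicalSpace

open Groth.Agent.H22.CartierFlat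

theorem main {X S S' : Scheme.{u}} (f : X ⟶ S) (D : X.IdealSheafData)
    (hD : BlowUp.IsEffCartierIdeal D) [Flat (D.subschemeι ≫ f)] (g : S' ⟶ S) :
    BlowUp.IsEffCartierIdeal (D.comap (pullback.fst f g)) := by
  intro x'
  have H : IsPullback (pullback.fst f g) (pullback.snd f g) f g := IsPullback.of_hasPullback f g
  obtain ⟨V, hV, W, hWV, hxW, t, ht, hI⟩ :=
    Groth.Agent.S1710.exists_chart f D hD ((pullback.fst f g) x')
  have hgx : g ((pullback.snd f g) x') ∈ V := by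
    have : g ((pullback.snd f g) x') = f ((pullback.fst f g) x') := by
      rw [← Scheme.Hom.comp_apply, ← H.w, Scheme.Hom.comp_apply]
    rw [this]; exact hWV hxW
  obtain ⟨_, ⟨V', hV', rfl⟩, hxV', hV'V : V' ≤ g ⁻¹ᵁ V⟩ :=
    S'.isBasis_affineOpens.exists_subset_of_mem_open hgx (g ⁻¹ᵁ V).isOpen
  obtain ⟨hUYa, hpo⟩ := affine_pushout_of H hV W.2 hWV hV' hV'V
  refine ⟨⟨(pullback.fst f g) ⁻¹ᵁ W.1 ⊓ (pullback.snd f g) ⁻¹ᵁ V', hUYa⟩, ⟨hxW, hxV'⟩,
    ((pullback.fst f g).appLE W.1 _ inf_le_left).hom t, ?_, ?_⟩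
  · letI := (f.appLE V W.1 hWV).hom.toAlgebra
    letI := (g.appLE V V' hV'V).hom.toAlgebra
    letI := ((pullback.fst f g).appLE W.1
      ((pullback.fst f g) ⁻¹ᵁ W.1 ⊓ (pullback.snd f g) ⁻¹ᵁ V') inf_le_left).hom.toAlgebra
    letI := ((pullback.snd f g).appLE V'
      ((pullback.fst f g) ⁻¹ᵁ W.1 ⊓ (pullback.snd f g) ⁻¹ᵁ V') inf_le_right).hom.toAlgebra
    letI : Algebra Γ(S, V) Γ(pullback f g, (pullback.fst f g) ⁻¹ᵁ W.1 ⊓ (pullback.snd f g) ⁻¹ᵁ V') :=
      (f.appLE V W.1 hWV ≫ (pullback.fst f g).appLE W.1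
        ((pullback.fst f g) ⁻¹ᵁ W.1 ⊓ (pullback.snd f g) ⁻¹ᵁ V') inf_le_left).hom.toAlgebra
    haveI : IsScalarTower Γ(S, V) Γ(X, W.1)
        Γ(pullback f g, (pullback.fst f g) ⁻¹ᵁ W.1 ⊓ (pullback.snd f g) ⁻¹ᵁ V') :=
      IsScalarTower.of_algebraMap_eq' rfl
    haveI : IsScalarTower Γ(S, V) Γ(S', V')
        Γ(pullback f g, (pullback.fst f g) ⁻¹ᵁ W.1 ⊓ (pullback.snd f g) ⁻¹ᵁ V') :=
      IsScalarTower.of_algebraMap_eq' (by
        show (f.appLE V W.1 hWV ≫ (pullback.fst f g).appLE W.1 _ inf_le_left).hom =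
          (g.appLE V V' hV'V ≫ (pullback.snd f g).appLE V' _ inf_le_right).hom
        rw [hpo.w])
    haveI : Algebra.IsPushout Γ(S, V) Γ(S', V') Γ(X, W.1)
        Γ(pullback f g, (pullback.fst f g) ⁻¹ᵁ W.1 ⊓ (pullback.snd f g) ⁻¹ᵁ V') :=
      (CommRingCat.isPushout_iff_isPushout (R := Γ(S, V)) (R' := Γ(S', V'))
        (S := Γ(X, W.1))
        (S' := Γ(pullback f g, (pullback.fst f g) ⁻¹ᵁ W.1 ⊓ (pullback.snd f g) ⁻¹ᵁ V'))).mp hpo.flip
    have e1 := flat_quot_of_flat_subscheme f D inferInstance hV W hWV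
    rw [hI] at e1
    exact nzd_of_isPushout Γ(S, V) Γ(S', V') Γ(X, W.1)
      Γ(pullback f g, (pullback.fst f g) ⁻¹ᵁ W.1 ⊓ (pullback.snd f g) ⁻¹ᵁ V') t ht e1
  · rw [comap_ideal_eq_map D (pullback.fst f g)
      ⟨(pullback.fst f g) ⁻¹ᵁ W.1 ⊓ (pullback.snd f g) ⁻¹ᵁ V', hUYa⟩ W inf_le_left, hI,
      Ideal.map_span, Set.image_singleton]

end Helpers

/-- Let f : X → S, D an effective Cartier divisor on X such that D → S is flat, and g : S' → S any
morphism. Then the inverse image of D in X ×_S S' is an effective Cartier divisor. -/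
theorem result {X S S' : Scheme.{u}} (f : X ⟶ S) (D : X.IdealSheafData) (hD : BlowUp.IsEffCartierIdeal D)
    [Flat (D.subschemeι ≫ f)] (g : S' ⟶ S) :
    BlowUp.IsEffCartierIdeal (D.comap (pullback.fst f g)) := by
  exact main f D hD g

end Groth.Agent.S1662
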