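import Groth.Statements.S16647
import Mathlib
import Groth.Agent.S11424
import Groth.Agent.S5415
import Groth.Agent.S18510
-- import your own Groth.Agent.* helpers here

set_option autoImplicit false
open CategoryTheory MonoidalCategory CartesianMonoidalCategory MonObj GrpObj AlgebraicGeometry
universe u
open GrpSch

namespace Groth.Agent.S16647


open CategoryTheory MonoidalCategory CartesianMonoidalCategory MonObj GrpObj AlgebraicGeometry CategoryTheory.Limits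

namespace H5S16647

variable {S : Scheme.{u}}

open Groth.Agent.S11424.H5S11424 Groth.Agent.S5415.H5S5415 Groth.Agent.S18510.H5S18510

theorem main {H₁' H₁ H₁'' H₂' H₂ H₂'' : Over S}
    [GrpObj H₁'] [GrpObj H₁] [GrpObj H₁''] [GrpObj H₂'] [GrpObj H₂] [GrpObj H₂'']
    [QuasiCompact H₁.hom] [QuasiSeparated H₁''.hom]
    (a₁ : H₁' ⟶ H₁) (b₁ : H₁ ⟶ H₁'') (a₂ : H₂' ⟶ H₂) (b₂ : H₂ ⟶ H₂'')
    [IsMonHom b₁] [IsMonHom b₂]
    (h₁ : AlgGrp.IsKernel a₁ b₁) [Flat b₁.left] [Surjective b₁.left]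
    (h₂ : AlgGrp.IsKernel a₂ b₂)
    (j' : H₁' ⟶ H₂') (j : H₁ ⟶ H₂) (j'' : H₁'' ⟶ H₂'') [IsMonHom j]
    (sq₁ : a₁ ≫ j = j' ≫ a₂) (sq₂ : b₁ ≫ j'' = j ≫ b₂)
    (hj' : IsClosedImmersion j'.left) (hj'' : IsClosedImmersion j''.left) :
    IsClosedImmersion j.left := by
  have k₁ := ker_sq a₁ b₁ h₁
  have k₂ := ker_sq a₂ b₂ h₂
  obtain ⟨m₁, hm₁⟩ : ∃ m : H₁' ⊗ H₁ ⟶ H₁, m = (a₁ ▷ H₁) ≫ μ[H₁] := ⟨_, rfl⟩
  obtain ⟨m₂', hm₂'⟩ : ∃ m : H₂' ⊗ H₂ ⟶ H₂, m = (a₂ ▷ H₂) ≫ μ[H₂] := ⟨_, rfl⟩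
  rw [← hm₁] at k₁
  rw [← hm₂'] at k₂
  have hm₁' : m₁ = (fst H₁' H₁ ≫ a₁) * snd H₁' H₁ := by
    rw [hm₁, Hom.mul_def, ← lift_whiskerRight, lift_fst_snd, Category.id_comp]
  have hm₂'' : m₂' = (fst H₂' H₂ ≫ a₂) * snd H₂' H₂ := by
    rw [hm₂', Hom.mul_def, ← lift_whiskerRight, lift_fst_snd, Category.id_comp]
  -- the big rectangle for square 1
  have big : IsPullback ((H₂' ◁ j) ≫ m₂') (snd H₂' H₁) b₂ (j ≫ b₂) :=
    (whiskerLeft_isPullback j H₂').paste_horiz k₂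
  have hP : IsPullback (pullback.fst b₂ j'') (pullback.snd b₂ j'') b₂ j'' :=
    IsPullback.of_hasPullback b₂ j''
  have cond : ((H₂' ◁ j) ≫ m₂') ≫ b₂ = (snd H₂' H₁ ≫ b₁) ≫ j'' := by
    rw [big.w, Category.assoc, sq₂]
  obtain ⟨m₂, hm₂⟩ : ∃ m : H₂' ⊗ H₁ ⟶ pullback b₂ j'',
      m = pullback.lift ((H₂' ◁ j) ≫ m₂') (snd H₂' H₁ ≫ b₁) cond := ⟨_, rfl⟩
  have hm₂1 : m₂ ≫ pullback.fst b₂ j'' = (H₂' ◁ j) ≫ m₂' := by rw [hm₂, pullback.lift_fst]
  have hm₂2 : m₂ ≫ pullback.snd b₂ j'' = snd H₂' H₁ ≫ b₁ := by rw [hm₂, pullback.lift_snd]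
  have sq1 : IsPullback m₂ (snd H₂' H₁) (pullback.snd b₂ j'') b₁ := by
    refine IsPullback.of_right ?_ hm₂2 hP
    rw [hm₂1, sq₂]
    exact big
  obtain ⟨jP, hjP⟩ : ∃ jP : H₁ ⟶ pullback b₂ j'', jP = pullback.lift j b₁ sq₂.symm := ⟨_, rfl⟩
  have hjP1 : jP ≫ pullback.fst b₂ j'' = j := by rw [hjP, pullback.lift_fst]
  have hjP2 : jP ≫ pullback.snd b₂ j'' = b₁ := by rw [hjP, pullback.lift_snd]
  have comm : (j' ▷ H₁) ≫ m₂ = m₁ ≫ jP := by
    apply pullback.hom_ext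
    · rw [Category.assoc, hm₂1, Category.assoc, hjP1, hm₂'', hm₁', MonObj.mul_comp,
        MonObj.comp_mul, MonObj.comp_mul, Category.assoc, sq₁]
      congr 1
      · rw [whiskerLeft_fst_assoc, whiskerRight_fst_assoc]
      · rw [whiskerLeft_snd, whiskerRight_snd_assoc]
    · rw [Category.assoc, hm₂2, Category.assoc, hjP2, whiskerRight_snd_assoc, k₁.w]
  have sq2 : IsPullback (j' ▷ H₁) m₁ m₂ jP := by
    refine IsPullback.of_right ?_ comm sq1.flip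
    rw [whiskerRight_snd, hjP2]
    exact k₁.flip
  -- descent
  haveI : QuasiCompact b₁.left := Groth.Agent.S14883.H5S14883.qc_of_sep b₁
  have hQb : (@Surjective ⊓ @Flat ⊓ @QuasiCompact : MorphismProperty Scheme.{u}) b₁.left :=
    ⟨⟨inferInstance, inferInstance⟩, inferInstance⟩
  have hQ : (@Surjective ⊓ @Flat ⊓ @QuasiCompact : MorphismProperty Scheme.{u}) m₂.left :=
    MorphismProperty.of_isPullback (P := @Surjective ⊓ @Flat ⊓ @QuasiCompact)
      (sq1.map (Over.forget _)).flip hQb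
  have hcl : IsClosedImmersion (j' ▷ H₁).left :=
    MorphismProperty.of_isPullback (P := @IsClosedImmersion)
      ((whiskerRight_isPullback j' H₁).map (Over.forget _)).flip hj'
  have h3 : IsClosedImmersion jP.left :=
    MorphismProperty.of_isPullback_of_descendsAlong (P := @IsClosedImmersion)
      (Q := @Surjective ⊓ @Flat ⊓ @QuasiCompact) (sq2.map (Over.forget _)) hQ hcl
  have h4 : IsClosedImmersion (pullback.fst b₂ j'').left :=
    MorphismProperty.of_isPullback (P := @IsClosedImmersion)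
      (hP.map (Over.forget _)).flip hj''
  have e : j.left = jP.left ≫ (pullback.fst b₂ j'').left := by
    rw [← Over.comp_left, hjP1]
  rw [e]
  infer_instance

end H5S16647

/-- In a commutative diagram of short exact sequences of S-group schemes that are flat, separated and of
finite presentation over a scheme S (in each row the first homomorphism is the kernel of the second
and the second is a flat surjection), if the two outer vertical homomorphisms are closed immersions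
then so is the middle one. -/
theorem result {S : Scheme.{u}}
    {H₁' H₁ H₁'' H₂' H₂ H₂'' : Over S} [GrpObj H₁'] [GrpObj H₁] [GrpObj H₁''] [GrpObj H₂'] [GrpObj H₂] [GrpObj H₂'']
    [Flat H₁'.hom] [Flat H₁.hom] [Flat H₁''.hom] [Flat H₂'.hom] [Flat H₂.hom] [Flat H₂''.hom]
    [IsSeparated H₁'.hom] [IsSeparated H₁.hom] [IsSeparated H₁''.hom]
    [IsSeparated H₂'.hom] [IsSeparated H₂.hom] [IsSeparated H₂''.hom]
    [QuasiCompact H₁'.hom] [QuasiCompact H₁.hom] [QuasiCompact H₁''.hom]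
    [QuasiCompact H₂'.hom] [QuasiCompact H₂.hom] [QuasiCompact H₂''.hom]
    [LocallyOfFinitePresentation H₁'.hom] [LocallyOfFinitePresentation H₁.hom] [LocallyOfFinitePresentation H₁''.hom]
    [LocallyOfFinitePresentation H₂'.hom] [LocallyOfFinitePresentation H₂.hom] [LocallyOfFinitePresentation H₂''.hom]
    (a₁ : H₁' ⟶ H₁) (b₁ : H₁ ⟶ H₁'') (a₂ : H₂' ⟶ H₂) (b₂ : H₂ ⟶ H₂'')
    [IsMonHom a₁] [IsMonHom b₁] [IsMonHom a₂] [IsMonHom b₂]
    (h₁ : AlgGrp.IsKernel a₁ b₁) (hb₁ : Flat b₁.left ∧ Surjective b₁.left)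
    (h₂ : AlgGrp.IsKernel a₂ b₂) (hb₂ : Flat b₂.left ∧ Surjective b₂.left)
    (j' : H₁' ⟶ H₂') (j : H₁ ⟶ H₂) (j'' : H₁'' ⟶ H₂'') [IsMonHom j'] [IsMonHom j] [IsMonHom j'']
    (sq₁ : a₁ ≫ j = j' ≫ a₂) (sq₂ : b₁ ≫ j'' = j ≫ b₂)
    (hj' : IsClosedImmersion j'.left) (hj'' : IsClosedImmersion j''.left) :
    IsClosedImmersion j.left := by
  haveI := hb₁.1
  haveI := hb₁.2
  exact H5S16647.main a₁ b₁ a₂ b₂ h₁ h₂ j' j j'' sq₁ sq₂ hj' hj''

end Groth.Agent.S16647
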