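import Groth.Statements.S16661
import Mathlib.LinearAlgebra.TensorProduct.Basis

set_option autoImplicit false
universe v u
open TensorProduct
open Conn

namespace Groth.Agent.S16661

section aux
variable {B Ω M : Type u} [CommRing B]
    [AddCommGroup Ω] [Module B Ω]
    [AddCommGroup M] [Module B M]

/-- trace as a sum of coordinate evaluations -/
theorem trace_eq_sum {ι : Type*} [Fintype ι] [DecidableEq ι] (b : Module.Basis ι B M) :
    LinearMap.trace B M = ∑ i, (b.coord i) ∘ₗ (LinearMap.applyₗ (b i) : (M →ₗ[B] M) →ₗ[B] M) := by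
  ext φ
  rw [LinearMap.trace_eq_matrix_trace B b, Matrix.trace]
  simp [LinearMap.toMatrix_apply]

theorem map_sum_left {ι : Type*} (s : Finset ι) {P Q : Type*} [AddCommGroup P] [Module B P]
    [AddCommGroup Q] [Module B Q] (f : ι → (P →ₗ[B] Q)) (x : P ⊗[B] Ω) :
    TensorProduct.map (∑ i ∈ s, f i) (LinearMap.id : Ω →ₗ[B] Ω) x =
      ∑ i ∈ s, TensorProduct.map (f i) LinearMap.id x := by
  classical
  induction s using Finset.induction_on with
  | empty => simp
  | insert a s ha ih =>
    rw [Finset.sum_insert ha, Finset.sum_insert ha, TensorProduct.map_add_left,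
      LinearMap.add_apply, ih]

theorem map_comp_left {P Q R : Type*} [AddCommGroup P] [Module B P]
    [AddCommGroup Q] [Module B Q] [AddCommGroup R] [Module B R]
    (g : Q →ₗ[B] R) (f : P →ₗ[B] Q) (x : P ⊗[B] Ω) :
    TensorProduct.map (g ∘ₗ f) (LinearMap.id : Ω →ₗ[B] Ω) x =
      TensorProduct.map g LinearMap.id (TensorProduct.map f LinearMap.id x) := by
  induction x using TensorProduct.induction_on with
  | zero => simp
  | tmul m ω => simp
  | add x y hx hy => simp only [map_add, hx, hy]

/-- identity (K) -/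
theorem coord_map {ι : Type*} [Fintype ι] [DecidableEq ι] (b : Module.Basis ι B M)
    (ψ : M →ₗ[B] M) (i : ι) (y : M ⊗[B] Ω) :
    TensorProduct.map (b.coord i) (LinearMap.id : Ω →ₗ[B] Ω)
      (TensorProduct.map ψ LinearMap.id y) =
    ∑ j, b.coord i (ψ (b j)) • TensorProduct.map (b.coord j) (LinearMap.id : Ω →ₗ[B] Ω) y := by
  induction y using TensorProduct.induction_on with
  | zero => simp
  | tmul m ω =>
    simp only [TensorProduct.map_tmul, LinearMap.id_coe, id_eq, TensorProduct.smul_tmul',
      ← TensorProduct.sum_tmul]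
    congr 1
    conv_lhs => rw [← b.sum_repr m]
    simp only [map_sum, map_smul, smul_eq_mul, Module.Basis.coord_apply]
    refine Finset.sum_congr rfl fun j _ => ?_
    ring
  | add x y hx hy => simp only [map_add, hx, hy, smul_add, Finset.sum_add_distrib]

end aux

/-- Let B be an A-algebra with a receptacle of differentials (Ω, δ), Ω a finite free B-module (the
affine-local form of differentials locally free of finite type), let M be a finite free B-module
(the local form of a vector bundle) with a connection ∇ : M → M ⊗ Ω, and let ∇_E be the induced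
connection on the B-linear endomorphisms of M, the one with (ev_m ⊗ 1)(∇_E φ) = ∇(φ m) − (φ ⊗ 1)(∇
m). Give B the connection b ↦ 1 ⊗ δ b. Then the trace map End_B(M) → B is horizontal: 1 ⊗ δ(tr φ) =
(tr ⊗ 1)(∇_E φ) for every endomorphism φ. -/
theorem result {A : Type v} {B Ω M : Type u}
    [CommRing A] [CommRing B] [Algebra A B]
    [AddCommGroup Ω] [Module B Ω] [Module A Ω] [IsScalarTower A B Ω] [Module.Finite B Ω] [Module.Free B Ω]
    [AddCommGroup M] [Module B M] [Module A M] [IsScalarTower A B M] [Module.Finite B M] [Module.Free B M]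
    (δ : Derivation A B Ω) (nabla : M →ₗ[A] M ⊗[B] Ω) (hc : Conn.IsConn δ nabla)
    (nablaE : (M →ₗ[B] M) →ₗ[A] (M →ₗ[B] M) ⊗[B] Ω) (hE : Conn.IsHomConn nabla nabla nablaE) :
    Conn.IsHorizontal nablaE (Conn.triv δ) (LinearMap.trace B M) := by
  classical
  intro φ
  let ι := Module.Free.ChooseBasisIndex B M
  let b : Module.Basis ι B M := Module.Free.chooseBasis B M
  rw [trace_eq_sum b, map_sum_left]
  simp only [map_comp_left]
  have h1 : ∀ i, nabla (φ (b i)) = ∑ j, (b.coord j (φ (b i)) • nabla (b j) +
      b j ⊗ₜ[B] δ (b.coord j (φ (b i)))) := by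
    intro i
    conv_lhs => rw [← b.sum_repr (φ (b i))]
    rw [map_sum]
    refine Finset.sum_congr rfl fun j _ => ?_
    rw [hc]; rfl
  have h2 : ∀ i, TensorProduct.map (b.coord i) (LinearMap.id : Ω →ₗ[B] Ω) (nabla (φ (b i))) =
      ∑ j, b.coord j (φ (b i)) • TensorProduct.map (b.coord i) (LinearMap.id : Ω →ₗ[B] Ω) (nabla (b j)) +
        (1 : B) ⊗ₜ[B] δ (b.coord i (φ (b i))) := by
    intro i
    rw [h1, map_sum]
    simp only [map_add, map_smul, TensorProduct.map_tmul, LinearMap.id_coe, id_eq]
    rw [Finset.sum_add_distrib]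
    congr 1
    rw [Finset.sum_eq_single i]
    · simp
    · intro j _ hji
      simp [hji]
    · simp
  simp only [hE φ, map_sub, coord_map b φ, h2]
  rw [Finset.sum_sub_distrib, Finset.sum_add_distrib, Finset.sum_comm, add_sub_cancel_left]
  simp only [LinearMap.sum_apply, LinearMap.comp_apply, LinearMap.applyₗ_apply_apply, map_sum,
    Conn.triv_apply]

end Groth.Agent.S16661
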