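import Groth.Statements.S16663
import Groth.Agent.S16661
import Mathlib.LinearAlgebra.TensorProduct.Basis

set_option autoImplicit false
universe v u
open TensorProduct
open Conn

namespace Groth.Agent.S16663

section aux
variable {B Ω E F : Type u} [CommRing B]
    [AddCommGroup Ω] [Module B Ω]
    [AddCommGroup E] [Module B E]
    [AddCommGroup F] [Module B F]

/-- Evaluations are jointly injective on `Hom(E, F) ⊗ Ω` when `Ω` is free. -/
theorem ext_of_apply [Module.Free B Ω] (x y : (E →ₗ[B] F) ⊗[B] Ω)
    (h : ∀ e : E, TensorProduct.map (LinearMap.applyₗ e) LinearMap.id x =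
      TensorProduct.map (LinearMap.applyₗ e) (LinearMap.id : Ω →ₗ[B] Ω) y) : x = y := by
  classical
  let b := Module.Free.chooseBasis B Ω
  have key : ∀ (z : (E →ₗ[B] F) ⊗[B] Ω) (e : E) i,
      TensorProduct.equivFinsuppOfBasisRight b
        (TensorProduct.map (LinearMap.applyₗ e) (LinearMap.id : Ω →ₗ[B] Ω) z) i =
      (TensorProduct.equivFinsuppOfBasisRight b z i) e := by
    intro z e i
    induction z using TensorProduct.induction_on with
    | zero => simp
    | tmul ψ ω => simp
    | add z₁ z₂ h₁ h₂ => simp only [map_add, Finsupp.add_apply, h₁, h₂, LinearMap.add_apply]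
  apply (TensorProduct.equivFinsuppOfBasisRight b).injective
  ext i e
  rw [← key, ← key, h e]

theorem apply_llcomp (ε : E →ₗ[B] E) (x : (E →ₗ[B] E) ⊗[B] Ω) (m : E) :
    TensorProduct.map (LinearMap.applyₗ m) (LinearMap.id : Ω →ₗ[B] Ω)
      (TensorProduct.map (LinearMap.llcomp B E E E ε) (LinearMap.id : Ω →ₗ[B] Ω) x) =
    TensorProduct.map ε LinearMap.id
      (TensorProduct.map (LinearMap.applyₗ m) (LinearMap.id : Ω →ₗ[B] Ω) x) := by
  induction x using TensorProduct.induction_on with
  | zero => simp
  | tmul ψ ω => simp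
  | add x y hx hy => simp only [map_add, hx, hy]

theorem map_comp_left {P Q R : Type*} [AddCommGroup P] [Module B P]
    [AddCommGroup Q] [Module B Q] [AddCommGroup R] [Module B R]
    (g : Q →ₗ[B] R) (f : P →ₗ[B] Q) (x : P ⊗[B] Ω) :
    TensorProduct.map (g ∘ₗ f) (LinearMap.id : Ω →ₗ[B] Ω) x =
      TensorProduct.map g LinearMap.id (TensorProduct.map f LinearMap.id x) := by
  induction x using TensorProduct.induction_on with
  | zero => simp
  | tmul m ω => simp
  | add x y hx hy => simp only [map_add, hx, hy]

theorem map_sum_left {ι : Type*} (s : Finset ι) {P Q : Type*} [AddCommGroup P] [Module B P]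
    [AddCommGroup Q] [Module B Q] (f : ι → (P →ₗ[B] Q)) (x : P ⊗[B] Ω) :
    TensorProduct.map (∑ i ∈ s, f i) (LinearMap.id : Ω →ₗ[B] Ω) x =
      ∑ i ∈ s, TensorProduct.map (f i) LinearMap.id x := by
  classical
  induction s using Finset.induction_on with
  | empty => simp
  | insert a s ha ih =>
    rw [Finset.sum_insert ha, Finset.sum_insert ha, TensorProduct.map_add_left,
      LinearMap.add_apply, ih]

theorem map_smul_left' {P Q : Type*} [AddCommGroup P] [Module B P]
    [AddCommGroup Q] [Module B Q] (c : B) (f : P →ₗ[B] Q) (x : P ⊗[B] Ω) :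
    TensorProduct.map (c • f) (LinearMap.id : Ω →ₗ[B] Ω) x =
      c • TensorProduct.map f LinearMap.id x := by
  rw [TensorProduct.map_smul_left, LinearMap.smul_apply]

end aux

/-- Let B be an A-algebra with a receptacle of differentials (Ω, δ), Ω a finite free B-module (the local
form of a weakly smooth scheme), and let M be a finitely ℤ-graded B-module presented as a finite
family of finite free B-modules M_i with integer degrees deg i (the local form of a graded vector
bundle), with total module Π_i M_i. Let ∇ be a connection on Π_i M_i preserving the grading, in the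
sense that (pr_j ⊗ 1)(∇(ι_i m)) = 0 for m ∈ M_i whenever deg i ≠ deg j, and let ∇_E be the induced
connection on the B-linear endomorphisms, the one with (ev_m ⊗ 1)(∇_E φ) = ∇(φ m) − (φ ⊗ 1)(∇ m).
Give B the connection b ↦ 1 ⊗ δ b. Then the supertrace, φ ↦ tr(ε ∘ φ) with ε = Σ_i (−1)^{deg i} ι_i
∘ pr_i the grading involution, is a horizontal map End_B(Π_i M_i) → B. -/
theorem result {A : Type v} {B Ω ι : Type u}
    [CommRing A] [CommRing B] [Algebra A B]
    [AddCommGroup Ω] [Module B Ω] [Module A Ω] [IsScalarTower A B Ω] [Module.Finite B Ω] [Module.Free B Ω]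
    [Fintype ι] [DecidableEq ι] (deg : ι → ℤ) (M : ι → Type u)
    [∀ i, AddCommGroup (M i)] [∀ i, Module B (M i)] [∀ i, Module A (M i)] [∀ i, IsScalarTower A B (M i)]
    [∀ i, Module.Free B (M i)] [∀ i, Module.Finite B (M i)]
    (δ : Derivation A B Ω) (nabla : (Π k, M k) →ₗ[A] (Π k, M k) ⊗[B] Ω) (hc : Conn.IsConn δ nabla)
    (hgr : ∀ i j : ι, deg i ≠ deg j → ∀ m : M i,
      TensorProduct.map (LinearMap.proj j : (Π k, M k) →ₗ[B] M j) LinearMap.id (nabla (LinearMap.single B M i m)) = 0)
    (nablaE : ((Π k, M k) →ₗ[B] (Π k, M k)) →ₗ[A] ((Π k, M k) →ₗ[B] (Π k, M k)) ⊗[B] Ω)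
    (hE : Conn.IsHomConn nabla nabla nablaE) :
    Conn.IsHorizontal nablaE (Conn.triv δ)
      (LinearMap.trace B (Π k, M k) ∘ₗ LinearMap.llcomp B (Π k, M k) (Π k, M k) (Π k, M k)
        (∑ i : ι, (LinearMap.single B M i) ∘ₗ (((-1 : B) ^ (deg i).natAbs) • (LinearMap.proj i : (Π k, M k) →ₗ[B] M i)))) := by
  classical
  set s : ι → B := fun i => (-1 : B) ^ (deg i).natAbs with hs
  set ε : (Π k, M k) →ₗ[B] (Π k, M k) := ∑ i : ι, (LinearMap.single B M i) ∘ₗ (s i • (LinearMap.proj i : (Π k, M k) →ₗ[B] M i))
    with hε
  -- δ kills the signs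
  have hδs : ∀ i, δ (s i) = 0 := by
    intro i
    simp only [hs]
    rw [Derivation.leibniz_pow]
    have : δ (-1 : B) = 0 := by rw [map_neg, Derivation.map_one_eq_zero, neg_zero]
    rw [this, smul_zero, smul_zero]
  -- ε is horizontal
  have hidsum : ∑ j, LinearMap.single B M j ∘ₗ (LinearMap.proj j : (Π k, M k) →ₗ[B] M j) = LinearMap.id := by
    refine LinearMap.ext fun m' => funext fun k => ?_
    simp only [LinearMap.sum_apply, LinearMap.comp_apply, LinearMap.proj_apply,
      LinearMap.single_apply, LinearMap.id_apply, Finset.sum_apply]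
    rw [Finset.sum_eq_single k]
    · simp
    · intro j _ hjk; simp [Pi.single_eq_of_ne (Ne.symm hjk)]
    · simp
  have hεhor : ∀ m' : (Π k, M k), nabla (ε m') = TensorProduct.map ε LinearMap.id (nabla m') := by
    have hsingle : ∀ i (m : M i), nabla (ε (LinearMap.single B M i m)) =
        TensorProduct.map ε LinearMap.id (nabla (LinearMap.single B M i m)) := by
      intro i m
      have h1 : ε (LinearMap.single B M i m) = s i • LinearMap.single B M i m := by
        simp only [hε, LinearMap.sum_apply, LinearMap.comp_apply, LinearMap.smul_apply,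
          LinearMap.proj_apply, LinearMap.single_apply]
        rw [Finset.sum_eq_single i]
        · simp [Pi.single_smul]
        · intro j _ hji; simp [Pi.single_eq_of_ne hji]
        · simp
      rw [h1, hc, hδs, TensorProduct.tmul_zero, add_zero]
      rw [hε, map_sum_left]
      simp only [map_comp_left, map_smul_left']
      have h2 : ∀ j, TensorProduct.map (LinearMap.single B M j) (LinearMap.id : Ω →ₗ[B] Ω)
          (s j • TensorProduct.map (LinearMap.proj j : (Π k, M k) →ₗ[B] M j) LinearMap.id
            (nabla (LinearMap.single B M i m))) =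
          s i • TensorProduct.map (LinearMap.single B M j) (LinearMap.id : Ω →ₗ[B] Ω)
            (TensorProduct.map (LinearMap.proj j : (Π k, M k) →ₗ[B] M j) LinearMap.id
              (nabla (LinearMap.single B M i m))) := by
        intro j
        by_cases hd : deg i = deg j
        · have : s j = s i := by simp only [hs, hd]
          rw [this, map_smul]
        · rw [hgr i j hd m, smul_zero, map_zero, smul_zero]
      simp only [h2]
      rw [← Finset.smul_sum]
      congr 1
      simp only [← map_comp_left]
      rw [← map_sum_left, hidsum, TensorProduct.map_id]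
      rfl
    intro m'
    have hm' : m' = ∑ i, LinearMap.single B M i (m' i) := by
      have := congrArg (fun f : (Π k, M k) →ₗ[B] (Π k, M k) => f m') hidsum
      simp only [LinearMap.sum_apply, LinearMap.comp_apply, LinearMap.proj_apply,
        LinearMap.id_apply] at this
      exact this.symm
    rw [hm', map_sum, map_sum, map_sum, map_sum]
    exact Finset.sum_congr rfl fun i _ => hsingle i (m' i)
  -- hence composition with ε is horizontal
  have hcomp : ∀ φ : (Π k, M k) →ₗ[B] (Π k, M k), nablaE (ε ∘ₗ φ) =
      TensorProduct.map (LinearMap.llcomp B (Π k, M k) (Π k, M k) (Π k, M k) ε) LinearMap.id (nablaE φ) := by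
    intro φ
    apply ext_of_apply
    intro m
    rw [apply_llcomp, hE, hE, map_sub, LinearMap.comp_apply, hεhor, map_comp_left]
  intro φ
  have htr := Groth.Agent.S16661.result δ nabla hc nablaE hE (ε ∘ₗ φ)
  rw [LinearMap.comp_apply, LinearMap.llcomp_apply', htr, hcomp, map_comp_left]

end Groth.Agent.S16663
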