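import Groth.Statements.S16666
import Mathlib.LinearAlgebra.TensorProduct.Basis

set_option autoImplicit false
universe v u
open TensorProduct
open Conn

namespace Groth.Agent.S16666

section aux
variable {B Ω E F G : Type u} [CommRing B]
    [AddCommGroup Ω] [Module B Ω]
    [AddCommGroup E] [Module B E]
    [AddCommGroup F] [Module B F]
    [AddCommGroup G] [Module B G]

/-- Evaluations are jointly injective on `Hom(E, F) ⊗ Ω` when `Ω` is free. -/
theorem ext_of_apply [Module.Free B Ω] (x y : (E →ₗ[B] F) ⊗[B] Ω)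
    (h : ∀ e : E, TensorProduct.map (LinearMap.applyₗ e) LinearMap.id x =
      TensorProduct.map (LinearMap.applyₗ e) (LinearMap.id : Ω →ₗ[B] Ω) y) : x = y := by
  classical
  let b := Module.Free.chooseBasis B Ω
  have key : ∀ (z : (E →ₗ[B] F) ⊗[B] Ω) (e : E) i,
      TensorProduct.equivFinsuppOfBasisRight b
        (TensorProduct.map (LinearMap.applyₗ e) (LinearMap.id : Ω →ₗ[B] Ω) z) i =
      (TensorProduct.equivFinsuppOfBasisRight b z i) e := by
    intro z e i
    induction z using TensorProduct.induction_on with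
    | zero => simp
    | tmul ψ ω => simp
    | add z₁ z₂ h₁ h₂ => simp only [map_add, Finsupp.add_apply, h₁, h₂, LinearMap.add_apply]
  apply (TensorProduct.equivFinsuppOfBasisRight b).injective
  ext i e
  rw [← key, ← key, h e]

theorem kappa_swapR (x : (E →ₗ[B] F) ⊗[B] Ω) (g : G) (e : E) :
    TensorProduct.map (LinearMap.applyₗ e) (LinearMap.id : Ω →ₗ[B] Ω)
      (TensorProduct.map (TensorProduct.rTensorHomToHomRTensor (RingHom.id B) E F G)
        (LinearMap.id : Ω →ₗ[B] Ω) (Conn.swapR (x ⊗ₜ[B] g))) =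
    Conn.swapR ((TensorProduct.map (LinearMap.applyₗ e) (LinearMap.id : Ω →ₗ[B] Ω) x) ⊗ₜ[B] g) := by
  induction x using TensorProduct.induction_on with
  | zero => simp
  | tmul ψ ω =>
    rw [Conn.swapR_tmul]
    simp only [TensorProduct.map_tmul, LinearMap.id_coe, id_eq, LinearMap.applyₗ_apply_apply,
      TensorProduct.rTensorHomToHomRTensor_apply]
    rw [Conn.swapR_tmul]
  | add x y hx hy =>
    rw [TensorProduct.add_tmul, map_add, map_add, map_add, hx, hy, map_add,
      TensorProduct.add_tmul, map_add]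

theorem kappa_assoc_symm (φ : E →ₗ[B] F) (y : G ⊗[B] Ω) (e : E) :
    TensorProduct.map (LinearMap.applyₗ e) (LinearMap.id : Ω →ₗ[B] Ω)
      (TensorProduct.map (TensorProduct.rTensorHomToHomRTensor (RingHom.id B) E F G)
        (LinearMap.id : Ω →ₗ[B] Ω)
        ((TensorProduct.assoc B (E →ₗ[B] F) G Ω).symm (φ ⊗ₜ[B] y))) =
    (TensorProduct.assoc B F G Ω).symm (φ e ⊗ₜ[B] y) := by
  induction y using TensorProduct.induction_on with
  | zero => simp
  | tmul χ ω => simp
  | add x y hx hy =>
    rw [TensorProduct.tmul_add, map_add, map_add, map_add, hx, hy, TensorProduct.tmul_add, map_add]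

theorem kappa_map (φ : E →ₗ[B] F) (g : G) (z : E ⊗[B] Ω) :
    TensorProduct.map (TensorProduct.rTensorHomToHomRTensor (RingHom.id B) E F G (φ ⊗ₜ[B] g))
      (LinearMap.id : Ω →ₗ[B] Ω) z =
    Conn.swapR ((TensorProduct.map φ (LinearMap.id : Ω →ₗ[B] Ω) z) ⊗ₜ[B] g) := by
  induction z using TensorProduct.induction_on with
  | zero => simp
  | tmul e ω =>
    simp only [TensorProduct.map_tmul, LinearMap.id_coe, id_eq,
      TensorProduct.rTensorHomToHomRTensor_apply]
    rw [Conn.swapR_tmul]
  | add x y hx hy =>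
    rw [map_add, hx, hy, map_add, TensorProduct.add_tmul, map_add]

end aux

/-- Let B be an A-algebra with a receptacle of differentials (Ω, δ), Ω a finite free B-module, and let
E, F, G be B-modules with connections ∇_E, ∇_F, ∇_G, E finitely presented. Equip Hom_B(E,F) and
Hom_B(E, F ⊗ G) with the induced connections (the connection ∇'' on Hom_B(E,Y) being the one with
(ev_e ⊗ 1)(∇'' φ) = ∇_Y(φ e) − (φ ⊗ 1)(∇_E e)), and F ⊗ G and Hom_B(E,F) ⊗ G with the tensor-product
connections. Then the canonical map Hom_B(E,F) ⊗ G → Hom_B(E, F ⊗ G), φ ⊗ g ↦ (e ↦ φ(e) ⊗ g), is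
horizontal. (The published statement is for bounded complexes with termwise connections, the Hom
complex and the tensor-product complex; this row is the case of single modules, that is, complexes
concentrated in one degree.) -/
theorem result {A : Type v} {B Ω E F G : Type u}
    [CommRing A] [CommRing B] [Algebra A B]
    [AddCommGroup Ω] [Module B Ω] [Module A Ω] [IsScalarTower A B Ω] [Module.Finite B Ω] [Module.Free B Ω]
    [AddCommGroup E] [Module B E] [Module A E] [IsScalarTower A B E] [Module.FinitePresentation B E]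
    [AddCommGroup F] [Module B F] [Module A F] [IsScalarTower A B F]
    [AddCommGroup G] [Module B G] [Module A G] [IsScalarTower A B G]
    (δ : Derivation A B Ω)
    (nE : E →ₗ[A] E ⊗[B] Ω) (hcE : Conn.IsConn δ nE)
    (nF : F →ₗ[A] F ⊗[B] Ω) (hcF : Conn.IsConn δ nF)
    (nG : G →ₗ[A] G ⊗[B] Ω) (hcG : Conn.IsConn δ nG)
    (nEF : (E →ₗ[B] F) →ₗ[A] (E →ₗ[B] F) ⊗[B] Ω) (hEF : Conn.IsHomConn nE nF nEF)
    (nFG : F ⊗[B] G →ₗ[A] (F ⊗[B] G) ⊗[B] Ω) (hFG : Conn.IsTensorConn nF nG nFG)
    (nH : (E →ₗ[B] F ⊗[B] G) →ₗ[A] (E →ₗ[B] F ⊗[B] G) ⊗[B] Ω) (hH : Conn.IsHomConn nE nFG nH)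
    (nS : (E →ₗ[B] F) ⊗[B] G →ₗ[A] ((E →ₗ[B] F) ⊗[B] G) ⊗[B] Ω) (hS : Conn.IsTensorConn nEF nG nS) :
    Conn.IsHorizontal nS nH (TensorProduct.rTensorHomToHomRTensor (RingHom.id B) E F G) := by
  intro t
  induction t using TensorProduct.induction_on with
  | zero => simp
  | tmul φ g =>
    apply ext_of_apply
    intro e
    rw [hS φ g, map_add, map_add, kappa_swapR, kappa_assoc_symm, hEF φ e, hH _ e,
      TensorProduct.rTensorHomToHomRTensor_apply, hFG (φ e) g, kappa_map, TensorProduct.sub_tmul,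
      map_sub]
    abel
  | add x y hx hy => rw [map_add, map_add, map_add, map_add, hx, hy]

end Groth.Agent.S16666
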