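import Groth.Statements.S16667
import Groth.Agent.Lib.helper9.Depth15

set_option autoImplicit false
universe u
open CAlg

namespace Groth.Agent.S16667

/-- Let A be a Noetherian integral domain satisfying Serre's condition (S_2), with fraction field K. An
element of K which lies in the localization A_p for every prime p of A with depth(A_p) = 1 lies in
A. -/
theorem result {A : Type u} [CommRing A] [IsDomain A]
    [IsNoetherianRing A] (hS2 : LocCoh.HasSk 2 A A) (x : FractionRing A)
    (hx : ∀ (p : Ideal A) [p.IsPrime],
      LocCoh.depth (Localization.AtPrime p) (Localization.AtPrime p) = 1 →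
        x ∈ Set.range (algebraMap (Localization.AtPrime p) (FractionRing A))) :
    x ∈ Set.range (algebraMap A (FractionRing A)) := by
  obtain ⟨⟨a, b⟩, hab⟩ := IsLocalization.surj (nonZeroDivisors A) x
  have hab' : x * algebraMap A (FractionRing A) (b : A) = algebraMap A (FractionRing A) a := hab
  have hb0 : (b : A) ≠ 0 := nonZeroDivisors.ne_zero b.2
  have hbreg : IsSMulRegular A (b : A) := by
    intro u v huv
    exact mul_left_cancel₀ hb0 (by simpa using huv)
  by_cases ha : (Submodule.Quotient.mk a : QuotSMulTop (b : A) A) = 0
  · rw [Submodule.Quotient.mk_eq_zero, Submodule.mem_smul_pointwise_iff_exists] at ha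
    obtain ⟨c, -, hc⟩ := ha
    refine ⟨c, ?_⟩
    have hbK : algebraMap A (FractionRing A) (b : A) ≠ 0 := by
      intro h0
      exact hb0 ((IsFractionRing.injective A (FractionRing A)) (by rw [h0, map_zero]))
    apply mul_right_cancel₀ hbK
    rw [hab', ← map_mul, ← hc, smul_eq_mul, mul_comm]
  · exfalso
    obtain ⟨P, hP, hle⟩ := exists_le_isAssociatedPrime_of_isNoetherianRing A
      (Submodule.Quotient.mk a : QuotSMulTop (b : A) A) ha
    have hPprime : P.IsPrime := hP.isPrime
    have hd0 := (Groth.Agent.Lib.helper9.Depth.depth_localization_eq_zero_iff P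
      (QuotSMulTop (b : A) A)).mpr hP
    have hbP : (b : A) ∈ P := by
      apply hle
      rw [Submodule.mem_colon_singleton, ← Submodule.Quotient.mk_smul, Submodule.mem_bot,
        Submodule.Quotient.mk_eq_zero, Submodule.mem_smul_pointwise_iff_exists]
      exact ⟨a, trivial, by simp [mul_comm]⟩
    have hnt : Nontrivial (LocalizedModule P.primeCompl A) :=
      (Groth.Agent.Lib.helper9.Depth.localizedModuleSelfEquiv P).toEquiv.nontrivial
    have h1 := (Groth.Agent.Lib.helper9.Depth.supportDim_depth_localization_quotSMulTop P A
      hbreg hbP).2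
    rw [hd0, zero_add, Groth.Agent.Lib.helper9.Depth.depth_localizedModule_self] at h1
    obtain ⟨z, hz⟩ := hx P h1.symm
    obtain ⟨⟨c, s⟩, hcs⟩ := IsLocalization.surj P.primeCompl z
    have hcs' : z * algebraMap A (Localization.AtPrime P) (s : A) =
        algebraMap A (Localization.AtPrime P) c := hcs
    have h2 := congrArg (algebraMap (Localization.AtPrime P) (FractionRing A)) hcs'
    rw [map_mul, hz, ← IsScalarTower.algebraMap_apply, ← IsScalarTower.algebraMap_apply] at h2
    -- a s = c b
    have h3 : a * (s : A) = c * (b : A) := by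
      apply IsFractionRing.injective A (FractionRing A)
      rw [map_mul, map_mul, ← hab', ← h2]
      ring
    have hsP : (s : A) ∈ P := by
      apply hle
      rw [Submodule.mem_colon_singleton, ← Submodule.Quotient.mk_smul, Submodule.mem_bot,
        Submodule.Quotient.mk_eq_zero, Submodule.mem_smul_pointwise_iff_exists]
      exact ⟨c, trivial, by rw [smul_eq_mul, smul_eq_mul, mul_comm (s : A), h3, mul_comm]⟩
    exact s.2 hsP

end Groth.Agent.S16667
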