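import Groth.Statements.S4113
import Groth.Agent.Lib.helper12.FinEtale
import Groth.Agent.Lib.helper12.Points

set_option autoImplicit false
set_option linter.style.haveILetI false
universe u
open CategoryTheory MonoidalCategory CartesianMonoidalCategory MonObj GrpObj AlgebraicGeometry CategoryTheory.Limits
open SGA3

namespace Groth.Agent.S4113

open TensorProduct Groth.Agent.H12Comod Groth.Agent.H12Pts

section derivations
variable {k : Type u} [Field k] {A : Type u} [CommRing A] [HopfAlgebra k A]

/-- the left-invariant operator `a ↦ Σ D(a₁) a₂` of a functional `D`. -/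
noncomputable def dtil (D : A →ₗ[k] k) : A →ₗ[k] A :=
  (TensorProduct.lid k A).toLinearMap ∘ₗ D.rTensor A ∘ₗ CoalgebraStruct.comul (R := k) (A := A)

/-- `φ ⊗ id` contracted -/
noncomputable def Lc' (φ : A →ₗ[k] k) : A ⊗[k] A →ₗ[k] A :=
  (TensorProduct.lid k A).toLinearMap ∘ₗ φ.rTensor A

@[simp] lemma Lc'_tmul (φ : A →ₗ[k] k) (x y : A) : Lc' φ (x ⊗ₜ[k] y) = φ x • y := by
  simp [Lc']

lemma dtil_apply (D : A →ₗ[k] k) (a : A) :
    dtil D a = Lc' D (CoalgebraStruct.comul (R := k) a) := rfl

lemma Lc'_counit_comul (a : A) :
    Lc' (CoalgebraStruct.counit (R := k) (A := A)) (CoalgebraStruct.comul (R := k) a) = a := by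
  have h := Coalgebra.rTensor_counit_comul (R := k) a
  show (TensorProduct.lid k A) ((CoalgebraStruct.counit (R := k) (A := A)).rTensor A
    (CoalgebraStruct.comul (R := k) a)) = a
  rw [h]
  simp

lemma Lc'_mul (D : A →ₗ[k] k)
    (hD : ∀ a b : A, D (a * b) = CoalgebraStruct.counit (R := k) a * D b +
      D a * CoalgebraStruct.counit (R := k) b) (s t : A ⊗[k] A) :
    Lc' D (s * t) = Lc' (CoalgebraStruct.counit (R := k) (A := A)) s * Lc' D t +
      Lc' D s * Lc' (CoalgebraStruct.counit (R := k) (A := A)) t := by
  induction s using TensorProduct.induction_on with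
  | zero => simp
  | add x y hx hy => simp only [add_mul, map_add, hx, hy]; ring
  | tmul x y =>
    induction t using TensorProduct.induction_on with
    | zero => simp
    | add x' y' hx hy => simp only [mul_add, map_add, hx, hy]; ring
    | tmul x' y' =>
      rw [Algebra.TensorProduct.tmul_mul_tmul, Lc'_tmul, Lc'_tmul, Lc'_tmul, Lc'_tmul, Lc'_tmul,
        hD, add_smul]
      simp only [smul_mul_smul_comm]

/-- `dtil D` is a derivation when `D` is a point derivation at the counit. -/
lemma dtil_mul (D : A →ₗ[k] k)
    (hD : ∀ a b : A, D (a * b) = CoalgebraStruct.counit (R := k) a * D b +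
      D a * CoalgebraStruct.counit (R := k) b) (a b : A) :
    dtil D (a * b) = a * dtil D b + dtil D a * b := by
  rw [dtil_apply, Bialgebra.comul_mul, Lc'_mul D hD, Lc'_counit_comul, Lc'_counit_comul]
  rfl

lemma dtil_idem (D : A →ₗ[k] k)
    (hD : ∀ a b : A, D (a * b) = CoalgebraStruct.counit (R := k) a * D b +
      D a * CoalgebraStruct.counit (R := k) b) (e : A) (he : IsIdempotentElem e) :
    dtil D e = 0 := by
  have h1 := dtil_mul D hD e e
  rw [he.eq] at h1
  have hee : e * e = e := he.eq
  have h2 : e * dtil D e = 0 := by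
    linear_combination (-e) * h1 + (-2 * dtil D e) * hee
  linear_combination h1 + 2 * h2

/-- a point applied to `dtil D` -/
lemma point_dtil (D : A →ₗ[k] k) (g : A →ₐ[k] k) (a : A) :
    g (dtil D a) = D (HopfRep.Comod.act k A A g a) := by
  rw [dtil_apply, act_eq]
  show g (Lc' D (CoalgebraStruct.comul (R := k) a)) =
    D (T A g.toLinearMap (CoalgebraStruct.comul (R := k) a))
  generalize CoalgebraStruct.comul (R := k) a = t
  induction t using TensorProduct.induction_on with
  | zero => simp
  | add x y hx hy => simp only [map_add, hx, hy]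
  | tmul x y => simp [mul_comm]

/-- the trace of `dtil D a` vanishes -/
lemma trace_dtil [Module.Finite k A] (D : A →ₗ[k] k)
    (hD : ∀ a b : A, D (a * b) = CoalgebraStruct.counit (R := k) a * D b +
      D a * CoalgebraStruct.counit (R := k) b) (a : A) :
    Algebra.trace k A (dtil D a) = 0 := by
  rw [Algebra.trace_apply]
  have h : Algebra.lmul k A (dtil D a) =
      dtil D * Algebra.lmul k A a - Algebra.lmul k A a * dtil D := by
    ext b
    rw [LinearMap.sub_apply, Module.End.mul_apply, Module.End.mul_apply]
    simp only [Algebra.coe_lmul_eq_mul, LinearMap.mul_apply']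
    rw [dtil_mul D hD]
    ring
  rw [h, map_sub, LinearMap.trace_mul_comm, sub_self]

end derivations


section alg
variable {k : Type u} [Field k] {A : Type u} [CommRing A] [HopfAlgebra k A]

lemma T_alg_mul (g : A →ₐ[k] k) (s t : A ⊗[k] A) :
    T A g.toLinearMap (s * t) = T A g.toLinearMap s * T A g.toLinearMap t := by
  induction s using TensorProduct.induction_on with
  | zero => simp
  | add x y hx hy => simp only [add_mul, map_add, hx, hy]
  | tmul x y =>
    induction t using TensorProduct.induction_on with
    | zero => simp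
    | add x' y' hx hy => simp only [mul_add, map_add, hx, hy]
    | tmul x' y' =>
      rw [Algebra.TensorProduct.tmul_mul_tmul, T_tmul, T_tmul, T_tmul]
      simp only [AlgHom.toLinearMap_apply, map_mul, smul_mul_smul_comm]

lemma act_regular_mul (g : A →ₐ[k] k) (a b : A) :
    HopfRep.Comod.act k A A g (a * b) =
      HopfRep.Comod.act k A A g a * HopfRep.Comod.act k A A g b := by
  rw [act_eq, act_eq, act_eq]
  show T A g.toLinearMap (CoalgebraStruct.comul (R := k) (a * b)) =
    T A g.toLinearMap (CoalgebraStruct.comul (R := k) a) *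
      T A g.toLinearMap (CoalgebraStruct.comul (R := k) b)
  rw [Bialgebra.comul_mul, T_alg_mul]

lemma act_inv_act (g : A →ₐ[k] k) (a : A) :
    HopfRep.Comod.act k A A g
      (HopfRep.Comod.act k A A ((WithConv.toConv g)⁻¹).ofConv a) = a := by
  have h := act_mul (k := k) (A := A) (V := A) (WithConv.toConv g) (WithConv.toConv g)⁻¹
  rw [mul_inv_cancel, act_one] at h
  have h2 := LinearMap.congr_fun h a
  rw [Module.End.mul_apply, Module.End.one_apply] at h2
  exact h2.symm

lemma act_act_inv (g : A →ₐ[k] k) (a : A) :
    HopfRep.Comod.act k A A ((WithConv.toConv g)⁻¹).ofConv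
      (HopfRep.Comod.act k A A g a) = a := by
  have h := act_mul (k := k) (A := A) (V := A) (WithConv.toConv g)⁻¹ (WithConv.toConv g)
  rw [inv_mul_cancel, act_one] at h
  have h2 := LinearMap.congr_fun h a
  rw [Module.End.mul_apply, Module.End.one_apply] at h2
  exact h2.symm

/-- over an algebraically closed field, if the rank is invertible then every point derivation at
the counit vanishes. -/
theorem pointDer_eq_zero [IsAlgClosed k] [Module.Finite k A]
    (h : (Module.finrank k A : k) ≠ 0) (D : A →ₗ[k] k)
    (hD : ∀ a b : A, D (a * b) = CoalgebraStruct.counit (R := k) a * D b +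
      D a * CoalgebraStruct.counit (R := k) b) : D = 0 := by
  classical
  by_contra hD0
  obtain ⟨y, hy⟩ : ∃ y, D y ≠ 0 := by
    by_contra hcon
    push Not at hcon
    exact hD0 (LinearMap.ext hcon)
  have hTr : ∀ a : A, IsNilpotent a → Algebra.trace k A a = 0 := by
    intro a ha
    rw [Algebra.trace_apply]
    apply (LinearMap.isNilpotent_trace_of_isNilpotent _).eq_zero
    exact ha.map (Algebra.lmul k A)
  have hmem := H12FE.exists_sum_points_of_nilpotent (Algebra.trace k A) hTr
  haveI : Finite (A →ₐ[k] k) := Finite.algHom k A k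
  haveI := Fintype.ofFinite (A →ₐ[k] k)
  obtain ⟨c, hc⟩ := (Submodule.mem_span_range_iff_exists_fun k).1 hmem
  have hc0 : ∀ g₀, c g₀ = 0 := by
    intro g₀
    obtain ⟨e, he, he1, he0⟩ := H12FE.exists_idempotent_point g₀
    set x := HopfRep.Comod.act k A A ((WithConv.toConv g₀)⁻¹).ofConv y with hx
    have hxy : HopfRep.Comod.act k A A g₀ x = y := act_inv_act g₀ y
    have h0 : Algebra.trace k A (dtil D (e * x)) = 0 := trace_dtil D hD _
    rw [dtil_mul D hD, dtil_idem D hD e he, zero_mul, add_zero, ← hc, LinearMap.sum_apply] at h0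
    rw [Finset.sum_eq_single g₀] at h0
    · rw [LinearMap.smul_apply, AlgHom.toLinearMap_apply, map_mul, he1, _root_.one_mul, point_dtil,
        hxy, smul_eq_mul] at h0
      exact (mul_eq_zero.1 h0).resolve_right hy
    · intro g _ hg
      rw [LinearMap.smul_apply, AlgHom.toLinearMap_apply, map_mul, he0 g hg, zero_mul, smul_zero]
    · intro hg
      exact absurd (Finset.mem_univ _) hg
  have hT0 : Algebra.trace k A = 0 := by
    rw [← hc]
    simp [hc0]
  have h1 := Algebra.trace_algebraMap (R := k) (S := A) (1 : k)
  rw [hT0, LinearMap.zero_apply, nsmul_eq_mul, _root_.mul_one] at h1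
  exact h h1.symm

end alg


section closed
variable {k : Type u} [Field k] {A : Type u} [CommRing A] [HopfAlgebra k A]

/-- the augmentation ideal is idempotent when the rank is invertible (k algebraically closed). -/
theorem augIdeal_sq [IsAlgClosed k] [Module.Finite k A]
    (h : (Module.finrank k A : k) ≠ 0) :
    RingHom.ker (Bialgebra.counitAlgHom k A : A →+* k) *
      RingHom.ker (Bialgebra.counitAlgHom k A : A →+* k) =
      RingHom.ker (Bialgebra.counitAlgHom k A : A →+* k) := by
  classical
  obtain ⟨I, hI⟩ : ∃ I : Ideal A, I = RingHom.ker (Bialgebra.counitAlgHom k A : A →+* k) :=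
    ⟨_, rfl⟩
  rw [← hI]
  have hImem : ∀ a : A, a ∈ I ↔ CoalgebraStruct.counit (R := k) a = 0 := by
    intro a
    rw [hI, RingHom.mem_ker]
    rfl
  apply le_antisymm Ideal.mul_le_right
  by_contra hnot
  set W : Submodule k A := (I * I).restrictScalars k ⊔ Submodule.span k {(1 : A)} with hW
  have hWlt : W < ⊤ := by
    rw [lt_top_iff_ne_top]
    intro hWtop
    apply hnot
    intro a ha
    have haW : a ∈ W := by rw [hWtop]; trivial
    rw [hW, Submodule.mem_sup] at haW
    obtain ⟨m, hm, n, hn, hsum⟩ := haW
    obtain ⟨c, rfl⟩ := Submodule.mem_span_singleton.1 hn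
    have hμ' : m ∈ I * I := hm
    have hμI : m ∈ I := Ideal.mul_le_right hμ'
    have h1 : CoalgebraStruct.counit (R := k) a = 0 := (hImem a).1 ha
    have h2 : CoalgebraStruct.counit (R := k) m = 0 := (hImem m).1 hμI
    rw [← hsum, map_add, h2, zero_add, map_smul, Bialgebra.counit_one, smul_eq_mul,
      _root_.mul_one] at h1
    rw [← hsum, h1, zero_smul, add_zero]
    exact hμ'
  obtain ⟨ξ, hξ0, hξW⟩ := Submodule.exists_le_ker_of_lt_top W hWlt
  have hξ1 : ξ 1 = 0 := by
    have : (1 : A) ∈ W := Submodule.mem_sup_right (Submodule.mem_span_singleton_self _)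
    exact hξW this
  have hξII : ∀ z ∈ I * I, ξ z = 0 := by
    intro z hz
    have : z ∈ W := Submodule.mem_sup_left hz
    exact hξW this
  have hdec : ∀ a : A, a - algebraMap k A (CoalgebraStruct.counit (R := k) a) ∈ I := by
    intro a
    rw [hImem, map_sub, Bialgebra.counit_algebraMap, sub_self]
  have hξdec : ∀ a : A, ξ (a - algebraMap k A (CoalgebraStruct.counit (R := k) a)) = ξ a := by
    intro a
    rw [map_sub, Algebra.algebraMap_eq_smul_one, map_smul, hξ1, smul_zero, sub_zero]
  have hξD : ∀ a b : A, ξ (a * b) = CoalgebraStruct.counit (R := k) a * ξ b +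
      ξ a * CoalgebraStruct.counit (R := k) b := by
    intro a b
    have h1 := hξII _ (Ideal.mul_mem_mul (hdec a) (hdec b))
    have h2 : (a - algebraMap k A (CoalgebraStruct.counit (R := k) a)) *
        (b - algebraMap k A (CoalgebraStruct.counit (R := k) b)) =
        a * b - CoalgebraStruct.counit (R := k) a • b - CoalgebraStruct.counit (R := k) b • a +
          (CoalgebraStruct.counit (R := k) a * CoalgebraStruct.counit (R := k) b) • (1 : A) := by
      simp only [Algebra.smul_def, map_mul]
      ring
    rw [h2, map_add, map_sub, map_sub, map_smul, map_smul, map_smul, hξ1, smul_zero,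
      add_zero, smul_eq_mul, smul_eq_mul] at h1
    linear_combination h1
  exact hξ0 (pointDer_eq_zero h ξ hξD)

/-- all maximal ideals are idempotent -/
theorem ker_point_sq [IsAlgClosed k] [Module.Finite k A]
    (h : (Module.finrank k A : k) ≠ 0) (g : A →ₐ[k] k) :
    RingHom.ker (g : A →+* k) * RingHom.ker (g : A →+* k) = RingHom.ker (g : A →+* k) := by
  apply le_antisymm Ideal.mul_le_right
  intro a ha
  rw [RingHom.mem_ker] at ha
  have h1 : HopfRep.Comod.act k A A g a ∈
      RingHom.ker (Bialgebra.counitAlgHom k A : A →+* k) := by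
    rw [RingHom.mem_ker]
    show CoalgebraStruct.counit (R := k) (HopfRep.Comod.act k A A g a) = 0
    rw [counit_act_regular]
    exact ha
  rw [← augIdeal_sq h] at h1
  have key : ∀ z ∈ RingHom.ker (Bialgebra.counitAlgHom k A : A →+* k) *
      RingHom.ker (Bialgebra.counitAlgHom k A : A →+* k),
      HopfRep.Comod.act k A A ((WithConv.toConv g)⁻¹).ofConv z ∈
        RingHom.ker (g : A →+* k) * RingHom.ker (g : A →+* k) := by
    intro z hz
    refine Submodule.mul_induction_on hz ?_ ?_
    · intro u hu v hv
      rw [act_regular_mul]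
      have hmem : ∀ w ∈ RingHom.ker (Bialgebra.counitAlgHom k A : A →+* k),
          HopfRep.Comod.act k A A ((WithConv.toConv g)⁻¹).ofConv w ∈ RingHom.ker (g : A →+* k) := by
        intro w hw
        rw [RingHom.mem_ker] at hw ⊢
        have h2 := counit_act_regular g (HopfRep.Comod.act k A A ((WithConv.toConv g)⁻¹).ofConv w)
        rw [act_inv_act] at h2
        show g _ = 0
        rw [← h2]
        exact hw
      exact Ideal.mul_mem_mul (hmem u hu) (hmem v hv)
    · intro x y hx hy
      rw [map_add]
      exact Ideal.add_mem _ hx hy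
  have := key _ h1
  rw [act_act_inv] at this
  exact this

theorem etale_closed [IsAlgClosed k] [Module.Finite k A]
    (h : (Module.finrank k A : k) ≠ 0) : Algebra.Etale k A := by
  haveI : IsReduced A := H12FE.isReduced_of_forall_ker_sq (k := k) (ker_point_sq h)
  exact H12FE.etale_of_isReduced

end closed


/-- Let A be a finite-dimensional commutative Hopf algebra over a field k (a finite algebraic k-group of
rank dim A). If the rank is invertible in k then A is an etale k-algebra. -/
theorem result (k : Type u) [Field k] (A : Type u) [CommRing A] [HopfAlgebra k A]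
    [Module.Finite k A] (h : (Module.finrank k A : k) ≠ 0) : Algebra.Etale k A := by
  let K := AlgebraicClosure k
  haveI : Module.Finite K (K ⊗[k] A) := Module.Finite.base_change k K A
  have hrank : (Module.finrank K (K ⊗[k] A) : K) ≠ 0 := by
    rw [Module.finrank_baseChange]
    intro h0
    apply h
    apply (algebraMap k K).injective
    rw [map_natCast, map_zero]
    exact h0
  haveI : Algebra.Etale K (K ⊗[k] A) := etale_closed hrank
  exact Algebra.Etale.of_etale_tensorProduct_of_faithfullyFlat K

end Groth.Agent.S4113
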