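import Groth.Statements.S16674
import Groth.Agent.S4113
import Groth.Agent.Lib.helper12.FinEtale
import Groth.Agent.Lib.helper12.TraceInt

set_option autoImplicit false
set_option linter.style.haveILetI false
universe u
open CartDual

namespace Groth.Agent.S16674

open TensorProduct in
/-- the trace form is an integral of the dual: `Tr * φ = φ(1) Tr`. -/
lemma trace_convMul {k : Type u} [Field k] {A : Type u} [CommRing A] [HopfAlgebra k A]
    [FiniteDimensional k A] (φ : WithConv (A →ₗ[k] k)) (b : A) :
    ((WithConv.toConv (Algebra.trace k A) : WithConv (A →ₗ[k] k)) * φ) b =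
      Algebra.trace k A b * φ 1 := by
  have h := Groth.Agent.H12Trace.trace_rTensor_comul k A b
  rw [LinearMap.convMul_apply]
  have key : ∀ t : A ⊗[k] A, LinearMap.mul' k k (TensorProduct.map
      (WithConv.toConv (Algebra.trace k A) : WithConv (A →ₗ[k] k)).ofConv φ.ofConv t) =
      φ.ofConv (TensorProduct.lid k A ((Algebra.trace k A).rTensor A t)) := by
    intro t
    induction t using TensorProduct.induction_on with
    | zero => simp
    | add x y hx hy => simp only [map_add, hx, hy]
    | tmul x y => simp
  have h2 := key (CoalgebraStruct.comul (R := k) b)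
  rw [h, map_smul, smul_eq_mul] at h2
  exact h2


/-- Let k be a field of characteristic p > 0 and A a finite-dimensional commutative and cocommutative
Hopf algebra over k, the coordinate ring of a finite commutative k-group scheme G, with Cartier dual
the convolution Hopf algebra Hom_k(A, k). Then G is étale-étale, i.e. both A and its dual are étale
k-algebras, if and only if p does not divide the rank dim_k A of G. -/
theorem result (k : Type u) [Field k] (p : ℕ) [Fact p.Prime] [CharP k p]
    (A : Type u) [CommRing A] [HopfAlgebra k A] [Coalgebra.IsCocomm k A] [FiniteDimensional k A] :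
    (Algebra.Etale k A ∧ Algebra.Etale k (CartDual.D k A)) ↔ ¬ p ∣ Module.finrank k A := by
  have hp : p.Prime := Fact.out
  have hfr : Module.finrank k (CartDual.D k A) = Module.finrank k A := by
    rw [(CartDual.toDual k A).finrank_eq]
    exact Subspace.dual_finrank_eq
  haveI : Nontrivial A := by
    refine ⟨⟨0, 1, fun h01 => ?_⟩⟩
    have := congrArg (Coalgebra.counit (R := k) (A := A)) h01
    rw [map_zero, Bialgebra.counit_one] at this
    exact zero_ne_one this
  constructor
  · rintro ⟨hA, hD⟩ hdvd
    haveI := hA
    haveI := hD
    haveI : IsReduced (CartDual.D k A) :=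
      Algebra.FormallyUnramified.isReduced_of_field k (CartDual.D k A)
    have hN : (Module.finrank k A : k) = 0 := (CharP.cast_eq_zero_iff k p _).2 hdvd
    set τ : CartDual.D k A := WithConv.toConv (Algebra.trace k A) with hτ
    have hsq : τ * τ = 0 := by
      apply WithConv.ofConv_injective
      apply LinearMap.ext
      intro b
      have h1 := trace_convMul τ b
      have h2 : τ (1 : A) = (Module.finrank k A : k) := by
        show Algebra.trace k A (1 : A) = _
        have := Algebra.trace_algebraMap (R := k) (S := A) (1 : k)
        rw [map_one] at this
        rw [this, nsmul_eq_mul, mul_one]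
      rw [h2, hN, mul_zero] at h1
      exact h1
    have hτ0 : τ = 0 := by
      apply IsReduced.eq_zero
      exact ⟨2, by rw [pow_two, hsq]⟩
    have : Algebra.trace k A = 0 := by
      have := congrArg WithConv.ofConv hτ0
      exact this
    exact Groth.Agent.H12FE.trace_ne_zero_of_etale (k := k) (A := A) this
  · intro hndvd
    have hN : (Module.finrank k A : k) ≠ 0 := by
      intro h0
      exact hndvd ((CharP.cast_eq_zero_iff k p _).1 h0)
    refine ⟨Groth.Agent.S4113.result k A hN, ?_⟩
    apply Groth.Agent.S4113.result k (CartDual.D k A)
    rw [hfr]
    exact hN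

end Groth.Agent.S16674
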