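import Groth.Statements.S17794
import Mathlib
import Groth.Agent.S5225
import Groth.Agent.Lib.helper15.DiagLfp

set_option autoImplicit false
universe u
open CategoryTheory CategoryTheory.Limits MonoidalCategory CartesianMonoidalCategory MonObj GrpObj AlgebraicGeometry
open GrpSch

namespace Groth.Agent.S17794

open Groth.Agent.S7490 Groth.Agent.Lib.H15

theorem isPullback_shear {S : Scheme.{u}} {G H N : Over S} [GrpObj G] [GrpObj H] (f : G ⟶ H)
    [IsMonHom f] (i : N ⟶ G) (hi : AlgGrp.IsKernel i f) {R : Over S} (p₁ p₂ : R ⟶ G)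
    (sqP : IsPullback p₁ p₂ f f) :
    ∃ δ : R ⟶ N, IsPullback p₁ δ (toUnit G) (toUnit N) := by
  have hi' : IsPullback i (toUnit N) f η[H] := hi
  have hcond : p₁ ≫ f = p₂ ≫ f := sqP.w
  haveI : Mono i := ⟨fun a b h => hi'.hom_ext h (toUnit_unique _ _)⟩
  have hδ : (p₁⁻¹ * p₂) ≫ f = toUnit _ ≫ η[H] := by
    rw [MonObj.mul_comp, GrpObj.inv_comp, hcond, _root_.inv_mul_cancel, Hom.one_def]
  have hif : ∀ {T : Over S} (n : T ⟶ N), (n ≫ i) ≫ f = 1 := by
    intro T n
    rw [Category.assoc, hi'.w, Hom.one_def, ← Category.assoc]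
    congr 1
    exact toUnit_unique _ _
  have hδi : hi'.lift (p₁⁻¹ * p₂) (toUnit _) hδ ≫ i = p₁⁻¹ * p₂ := hi'.lift_fst _ _ _
  have hlift : ∀ (c : PullbackCone (toUnit G) (toUnit N)),
      c.fst ≫ f = (c.fst * (c.snd ≫ i)) ≫ f := by
    intro c
    rw [MonObj.mul_comp, hif, _root_.mul_one]
  refine ⟨hi'.lift (p₁⁻¹ * p₂) (toUnit _) hδ, ⟨⟨toUnit_unique _ _⟩,
    ⟨PullbackCone.IsLimit.mk _ (fun c => sqP.lift c.fst (c.fst * (c.snd ≫ i)) (hlift c)) ?_ ?_ ?_⟩⟩⟩
  · intro c
    exact sqP.lift_fst _ _ _
  · intro c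
    rw [← cancel_mono i, Category.assoc, hδi, MonObj.comp_mul, GrpObj.comp_inv, sqP.lift_fst,
      sqP.lift_snd, _root_.inv_mul_cancel_left]
  · intro c m h1 h2
    apply sqP.hom_ext
    · rw [h1, sqP.lift_fst]
    · rw [sqP.lift_snd]
      have e : c.snd ≫ i = c.fst⁻¹ * (m ≫ p₂) := by
        rw [← h2, Category.assoc, hδi, MonObj.comp_mul, GrpObj.comp_inv, h1]
      rw [e, _root_.mul_inv_cancel_left]


/-- Let S be a scheme and f : G → H a homomorphism of S-group schemes, both of finite presentation over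
S (locally of finite presentation, quasi-compact and quasi-separated), and let i : N → G be the
kernel of f (the square formed by i, f, the unit section of H and N → S is cartesian). Then f is
faithfully flat (flat and surjective) if and only if the map of representable sheaves h_G → h_H
induced by f on the big fppf site of S is an epimorphism of sheaves of sets and N is flat over S. -/
theorem result {S : Scheme.{u}} {G H N : Over S} [GrpObj G] [GrpObj H] (f : G ⟶ H) [IsMonHom f] [LocallyOfFinitePresentation G.hom] [QuasiCompact G.hom] [QuasiSeparated G.hom] [LocallyOfFinitePresentation H.hom] [QuasiCompact H.hom] [QuasiSeparated H.hom] (i : N ⟶ G) (hi : AlgGrp.IsKernel i f) : (Flat f.left ∧ Surjective f.left) ↔ (Epi (QuotSh.repMap Scheme.fppfPrecoverage f) ∧ Flat N.hom) := by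
  have hlfpf : LocallyOfFinitePresentation f.left := by
    haveI : LocallyOfFinitePresentation (f.left ≫ H.hom) := by rw [Over.w f]; infer_instance
    exact locallyOfFinitePresentation_of_comp f.left H.hom
  have hi' : IsPullback i (toUnit N) f η[H] := hi
  constructor
  · rintro ⟨hfl, hsurj⟩
    refine ⟨?_, ?_⟩
    · have := Groth.Agent.S5225.epi_repMap_of_cover (@Flat ⊓ @LocallyOfFinitePresentation) f
        ⟨hfl, hlfpf⟩ hsurj
      exact this
    · have sqL := hi'.map (Over.forget S)
      exact MorphismProperty.of_isPullback (P := @Flat) sqL hfl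
  · rintro ⟨hepi, hN⟩
    have key2 : ∀ {V W : Over S} (g : V ⟶ W),
        QuotSh.repMap Scheme.fppfPrecoverage g =
          (QuotSh.repIsoUliftYoneda Scheme.fppfPrecoverage V).hom ≫ (AlgSp.yon S).map g ≫
            (QuotSh.repIsoUliftYoneda Scheme.fppfPrecoverage W).inv := by
      intro V W g
      rw [Groth.Agent.Lib.H15.Quot.yon_map_repIso_inv, Iso.hom_inv_id_assoc]
    have hepi' : Epi ((AlgSp.yon S).map f) := by
      have e : (AlgSp.yon S).map f = (QuotSh.repIsoUliftYoneda Scheme.fppfPrecoverage G).inv ≫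
          QuotSh.repMap Scheme.fppfPrecoverage f ≫
            (QuotSh.repIsoUliftYoneda Scheme.fppfPrecoverage H).hom := by
        rw [key2 f]
        simp
      rw [e]
      infer_instance
    have sqP := isPullback_over f
    obtain ⟨δ, sq⟩ := isPullback_shear f i hi _ _ sqP
    have sqL := sq.map (Over.forget S)
    have kpl := sqP.map (Over.forget S)
    have hfl : Flat (pullback.fst f.left f.left) :=
      MorphismProperty.of_isPullback (P := @Flat) sqL.flip hN
    have hsurj : Surjective (pullback.fst f.left f.left) := ⟨fun x =>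
      ⟨(pullback.lift (𝟙 _) (𝟙 _) rfl : G.left ⟶ pullback f.left f.left) x, by
        rw [← Scheme.Hom.comp_apply, pullback.lift_fst]; rfl⟩⟩
    have hlfp : LocallyOfFinitePresentation (pullback.fst f.left f.left) := inferInstance
    obtain ⟨h1, h2, h3⟩ := @Groth.Agent.S5224.descend S _ G H _ _ f hfl hsurj hlfp kpl hepi'
    exact ⟨h1, h2⟩

end Groth.Agent.S17794
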