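import Groth.Statements.S16676
import Mathlib
import Groth.Agent.S17794

set_option autoImplicit false
universe u
open CategoryTheory CategoryTheory.Limits MonoidalCategory CartesianMonoidalCategory MonObj GrpObj AlgebraicGeometry
open AbVar

namespace Groth.Agent.S16676


/-- The equivalence of its second and third conditions. Let X and Y be abelian varieties over a field k
(proper, geometrically integral k-group schemes), f : X → Y a homomorphism which is finite, flat and
surjective (an isogeny), and i : N → X the kernel of f (the square formed by i, f, the unit section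
of Y and the structure map of N is cartesian). Then f is universally injective (a purely inseparable
morphism) if and only if the scheme N is connected. (The published item also includes the equivalent
condition that the function field of X is purely inseparable over that of Y; that clause is not part
of this statement.) -/
theorem result (k : Type u) [Field k]
    (X Y : Over (Spec (CommRingCat.of k)))
    [GrpObj X] [IsProper X.hom] [GeometricallyIntegral X.hom]
    [GrpObj Y] [IsProper Y.hom] [GeometricallyIntegral Y.hom]
    (f : X ⟶ Y) [IsMonHom f] [IsFinite f.left] [Flat f.left] [Surjective f.left]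
    (N : Over (Spec (CommRingCat.of k))) (i : N ⟶ X) (hN : AlgGrp.IsKernel i f) :
    UniversallyInjective f.left ↔ ConnectedSpace ↥N.left := by
  have hN' : IsPullback i (toUnit N) f η[Y] := hN
  have sqN := hN'.map (Over.forget _)
  let e : 𝟙_ (Over (Spec (CommRingCat.of k))) ⟶ N :=
    hN'.lift η[X] (𝟙 _) (by rw [IsMonHom.one_hom, Category.id_comp])
  have he : e ≫ toUnit N = 𝟙 _ := hN'.lift_snd _ _ _
  have hel : e.left ≫ N.hom = 𝟙 _ := by
    have := congrArg (fun m => m.left) he
    exact this
  obtain ⟨pt⟩ : Nonempty ↥(𝟙_ (Over (Spec (CommRingCat.of k)))).left :=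
    (inferInstance : Nonempty ↥(Spec (CommRingCat.of k)))
  constructor
  · intro hui
    have h1 : UniversallyInjective N.hom :=
      MorphismProperty.of_isPullback (P := @UniversallyInjective) sqN hui
    haveI : Subsingleton ↥N.left := ⟨fun a b => N.hom.injective (Subsingleton.elim _ _)⟩
    exact { toPreconnectedSpace := inferInstance, toNonempty := ⟨e.left pt⟩ }
  · intro hconn
    have hNfin : IsFinite N.hom :=
      MorphismProperty.of_isPullback (P := @IsFinite) sqN (inferInstance : IsFinite f.left)
    haveI : LocallyQuasiFinite N.hom := inferInstance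
    haveI : DiscreteTopology ↥N.left := by
      have h1 := N.hom.isDiscrete_preimage_singleton (N.hom (e.left pt))
      have h2 : (N.hom ⁻¹' {N.hom (e.left pt)} : Set ↥N.left) = Set.univ :=
        Set.eq_univ_of_forall fun x => Subsingleton.elim (α := ↥(Spec (CommRingCat.of k))) _ _
      rw [h2] at h1
      exact isDiscrete_univ_iff.1 h1
    haveI : Subsingleton ↥N.left := subsingleton_of_preconnected_totallyDisconnected
    have hes : Surjective e.left := ⟨fun n => ⟨pt, Subsingleton.elim _ _⟩⟩
    have hNui : UniversallyInjective N.hom := by
      refine ⟨fun X' Y' i₁ i₂ f' sq => ?_⟩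
      have hw : 𝟙 Y' ≫ i₂ = (i₂ ≫ e.left) ≫ N.hom := by
        rw [Category.assoc, hel]
        exact (Category.id_comp _).trans (Category.comp_id _).symm
      let e' : Y' ⟶ X' := sq.lift (𝟙 Y') (i₂ ≫ e.left) hw
      have he'1 : e' ≫ f' = 𝟙 Y' := sq.lift_fst _ _ _
      have he'2 : e' ≫ i₁ = i₂ ≫ e.left := sq.lift_snd _ _ _
      have outer : IsPullback (e' ≫ f') i₂ i₂ (e.left ≫ N.hom) := by
        rw [he'1, hel]
        exact IsPullback.of_id_fst
      have left : IsPullback e' i₂ i₁ e.left := IsPullback.of_right outer he'2 sq
      have hs' : Surjective e' :=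
        MorphismProperty.of_isPullback (P := @Surjective) left.flip hes
      intro x y hxy
      obtain ⟨a, rfl⟩ := hs'.surj x
      obtain ⟨b, rfl⟩ := hs'.surj y
      have ha : f' (e' a) = a := by rw [← Scheme.Hom.comp_apply, he'1]; rfl
      have hb : f' (e' b) = b := by rw [← Scheme.Hom.comp_apply, he'1]; rfl
      have hab : a = b := by
        have := hxy
        change f' (e' a) = f' (e' b) at this
        rw [ha, hb] at this
        exact this
      rw [hab]
    have sqP := Groth.Agent.S7490.isPullback_over f
    obtain ⟨δ, sq⟩ := Groth.Agent.S17794.isPullback_shear f i hN _ _ sqP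
    have sqL := sq.map (Over.forget _)
    have kpl := sqP.map (Over.forget _)
    have h1 : UniversallyInjective (pullback.fst f.left f.left) :=
      MorphismProperty.of_isPullback (P := @UniversallyInjective) sqL.flip hNui
    have hQ : (@Surjective ⊓ @Flat ⊓ @QuasiCompact : MorphismProperty Scheme.{u}) f.left :=
      ⟨⟨inferInstance, inferInstance⟩, inferInstance⟩
    exact MorphismProperty.of_isPullback_of_descendsAlong (P := @UniversallyInjective)
      (Q := @Surjective ⊓ @Flat ⊓ @QuasiCompact) kpl hQ h1

end Groth.Agent.S16676
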