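import Groth.Statements.S16685
import Mathlib
import Groth.Agent.Lib.helper12.GrHopf2

set_option autoImplicit false
set_option linter.style.haveILetI false
universe u
open HopfRep

namespace Groth.Agent.S16685

/-- The description of the kernel of Frobenius established in the course of the proof. Let k be a field
of characteristic p > 0 and A a finite-dimensional commutative Hopf algebra over k which is a local
ring, the coordinate ring of a connected finite k-group scheme G; let I be the augmentation ideal
(the kernel of the counit), d = dim_k I/I² the dimension of the tangent space at the identity, and J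
⊆ A the ideal generated by the p-th powers of the elements of I, so that A/J is the coordinate ring
of the kernel G[F] of the relative Frobenius. Then A/J is isomorphic as a k-algebra to k[X_1, …,
X_d]/(X_1^p, …, X_d^p) (existence of an isomorphism; it depends on the choice of elements of I
lifting a basis of I/I²); in particular G[F] has rank p^d. -/
theorem result (k : Type u) [Field k] (p : ℕ) [Fact p.Prime] [CharP k p]
    (A : Type u) [CommRing A] [HopfAlgebra k A] [FiniteDimensional k A] [IsLocalRing A]
    (d : ℕ) (hd : Module.finrank k (RingHom.ker (Bialgebra.counitAlgHom k A).toRingHom).Cotangent = d) :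
    Nonempty ((A ⧸ Ideal.span ((fun a : A => a ^ p) '' (RingHom.ker (Bialgebra.counitAlgHom k A).toRingHom : Set A))) ≃ₐ[k]
      (MvPolynomial (Fin d) k ⧸ Ideal.span (Set.range fun i : Fin d => (MvPolynomial.X i : MvPolynomial (Fin d) k) ^ p))) := by
  haveI : IsNoetherianRing A := IsNoetherianRing.of_finite k A
  haveI : IsArtinianRing A := IsArtinianRing.of_finite k A
  have hfg : (Groth.Agent.H12GR.augI k A).FG := IsNoetherian.noetherian _
  haveI : Module.Finite k (Groth.Agent.H12GR.augI k A).Cotangent :=
    Groth.Agent.H12GR.finite_cotangent hfg
  have hne : Groth.Agent.H12GR.augI k A ≠ ⊤ := by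
    intro h
    have h1 : (1 : A) ∈ Groth.Agent.H12GR.augI k A := by rw [h]; trivial
    rw [Groth.Agent.H12GR.mem_augI, Bialgebra.counit_one] at h1
    exact one_ne_zero h1
  obtain ⟨N, hN⟩ := IsArtinianRing.isNilpotent_jacobson_bot (R := A)
  have hle : Groth.Agent.H12GR.augI k A ≤ Ideal.jacobson (⊥ : Ideal A) := by
    rw [IsLocalRing.jacobson_eq_maximalIdeal ⊥ bot_ne_top]
    exact IsLocalRing.le_maximalIdeal hne
  have hN' : Groth.Agent.H12GR.augI k A ^ N = ⊥ := by
    rw [eq_bot_iff, ← Ideal.zero_eq_bot, ← hN]
    exact Ideal.pow_right_mono hle N
  subst hd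
  exact Groth.Agent.H12GR.nonempty_algEquiv_truncated (k := k) (A := A) p N hN'

end Groth.Agent.S16685
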