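import Groth.Statements.S16688
import Groth.Agent.Lib.helper12.HopfAnti

set_option autoImplicit false
universe u v w
open ComodSub

namespace Groth.Agent.S16688

open TensorProduct

section aux
variable {k : Type u} [CommRing k] {A : Type v} [CommRing A] [HopfAlgebra k A]

/-- `a ⊗ v ↦ v ⊗ S a` -/
noncomputable def sig (V : Type*) [AddCommGroup V] [Module k V] : A ⊗[k] V →ₗ[k] V ⊗[k] A :=
  (TensorProduct.comm k A V).toLinearMap ∘ₗ (HopfAlgebraStruct.antipode (R := k) (A := A)).rTensor V

@[simp] lemma sig_tmul (V : Type*) [AddCommGroup V] [Module k V] (a : A) (v : V) :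
    sig (k := k) (A := A) V (a ⊗ₜ[k] v) = v ⊗ₜ[k] HopfAlgebraStruct.antipode (R := k) (A := A) a := by
  simp [sig]

lemma sig_natural {V V' : Type*} [AddCommGroup V] [Module k V] [AddCommGroup V'] [Module k V']
    (f : V →ₗ[k] V') :
    f.rTensor A ∘ₗ sig (k := k) (A := A) V = sig (k := k) (A := A) V' ∘ₗ f.lTensor A := by
  ext a v
  simp

lemma key2 (V : Type*) [AddCommGroup V] [Module k V] (t : A ⊗[k] A) (w : V) :
    (TensorProduct.assoc k V A A) ((sig (k := k) (A := A) V).rTensor A
      (sig (k := k) (A := A) (A ⊗[k] V) (TensorProduct.assoc k A A V (t ⊗ₜ[k] w)))) =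
    w ⊗ₜ[k] (TensorProduct.map (HopfAlgebraStruct.antipode (R := k) (A := A))
      (HopfAlgebraStruct.antipode (R := k) (A := A)) (TensorProduct.comm k A A t)) := by
  induction t using TensorProduct.induction_on with
  | zero => simp
  | add x y hx hy => simp only [TensorProduct.add_tmul, map_add, hx, hy, TensorProduct.tmul_add]
  | tmul b c => simp

end aux

/-- Let `k` be a commutative ring, `A` a commutative Hopf algebra over `k` with antipode `S`, and `M` a
`k`-module with a left `A`-comodule structure `m ↦ Σ m₋₁ ⊗ m₀`. Then the map `M → M ⊗ A`, `m ↦ Σ m₀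
⊗ S(m₋₁)`, is coassociative and counital: it is the coaction of a right `A`-comodule structure on
`M` (a right structure is determined by its coaction, so this structure is unique). -/
theorem result (k : Type u) [CommRing k]
    (A : Type v) [CommRing A] [HopfAlgebra k A]
    (M : Type w) [AddCommGroup M] [Module k M] (l : ComodSub.LComod k A M) :
    ∃ c : HopfRep.Comod k A M, c.coact = ComodSub.rcoactOfLeft l := by
  have hr : ComodSub.rcoactOfLeft l = sig (k := k) (A := A) M ∘ₗ l.coact := rfl
  refine ⟨{ coact := ComodSub.rcoactOfLeft l, coassoc := ?_, counit_comp := ?_ }, rfl⟩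
  · rw [hr]
    apply LinearMap.ext
    intro m
    simp only [LinearMap.comp_apply, LinearEquiv.coe_coe]
    have h1 : (sig (k := k) (A := A) M ∘ₗ l.coact).rTensor A (sig (k := k) (A := A) M (l.coact m)) =
        (sig (k := k) (A := A) M).rTensor A (sig (k := k) (A := A) (A ⊗[k] M)
          (l.coact.lTensor A (l.coact m))) := by
      rw [LinearMap.rTensor_comp, LinearMap.comp_apply]
      congr 1
      exact LinearMap.congr_fun (sig_natural (k := k) (A := A) l.coact) (l.coact m)
    rw [h1]
    have hco := LinearMap.congr_fun l.coassoc m
    simp only [LinearMap.comp_apply, LinearEquiv.coe_coe] at hco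
    rw [hco]
    generalize l.coact m = t
    induction t using TensorProduct.induction_on with
    | zero => simp
    | add x y hx hy => simp only [map_add, hx, hy]
    | tmul a w =>
      rw [LinearMap.rTensor_tmul, key2, sig_tmul, LinearMap.lTensor_tmul]
      congr 1
      exact (Groth.Agent.H12Hopf.comul_antipode (R := k) a).symm
  · rw [hr]
    apply LinearMap.ext
    intro m
    simp only [LinearMap.comp_apply, LinearMap.flip_apply, TensorProduct.mk_apply]
    have h2 : ∀ t : A ⊗[k] M, (CoalgebraStruct.counit (R := k) (A := A)).lTensor M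
        (sig (k := k) (A := A) M t) =
        TensorProduct.comm k k M ((CoalgebraStruct.counit (R := k) (A := A)).rTensor M t) := by
      intro t
      induction t using TensorProduct.induction_on with
      | zero => simp
      | add x y hx hy => simp only [map_add, hx, hy]
      | tmul a w =>
        simp only [sig_tmul, LinearMap.lTensor_tmul, LinearMap.rTensor_tmul, TensorProduct.comm_tmul]
        congr 1
        exact HopfAlgebra.counit_antipode a
    rw [h2]
    have hcu := LinearMap.congr_fun l.counit_comp m
    simp only [LinearMap.comp_apply, TensorProduct.mk_apply] at hcu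
    rw [hcu, TensorProduct.comm_tmul]

end Groth.Agent.S16688
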