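import Groth.Statements.S16707
import Mathlib.RingTheory.Flat.EquationalCriterion
import Mathlib.LinearAlgebra.TensorProduct.Quotient

set_option autoImplicit false
universe u v
open CAlg

namespace Groth.Agent.S16707

open TensorProduct

section aux

variable {A : Type u} [CommRing A] (I : Ideal A)

theorem one_tmul_eq_zero_iff {M : Type v} [AddCommGroup M] [Module A M] (m : M) :
    ((1 : A ⧸ I) ⊗ₜ[A] m = 0) ↔ m ∈ I • (⊤ : Submodule A M) := by
  rw [← (TensorProduct.quotTensorEquivQuotSMul M I).map_eq_zero_iff,
    TensorProduct.quotTensorEquivQuotSMul_mk_one_tmul, Submodule.Quotient.mk_eq_zero]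

theorem exists_one_tmul {M : Type v} [AddCommGroup M] [Module A M] (t : (A ⧸ I) ⊗[A] M) :
    ∃ m : M, (1 : A ⧸ I) ⊗ₜ[A] m = t := by
  obtain ⟨q, rfl⟩ := (TensorProduct.quotTensorEquivQuotSMul M I).symm.surjective t
  obtain ⟨m, rfl⟩ := Submodule.Quotient.mk_surjective _ q
  exact ⟨m, rfl⟩

theorem eq_bot_of_le_smul {M : Type v} [AddCommGroup M] [Module A M] (hI : IsNilpotent I)
    (K : Submodule A M) (hK : K ≤ I • K) : K = ⊥ := by
  obtain ⟨n, hn⟩ := hI
  have key : ∀ k : ℕ, K ≤ I ^ k • K := by
    intro k
    induction k with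
    | zero => simp
    | succ k ih =>
      calc K ≤ I • K := hK
        _ ≤ I • (I ^ k • K) := Submodule.smul_mono le_rfl ih
        _ = I ^ (k + 1) • K := by rw [← Submodule.mul_smul, pow_succ']
  have := key n
  rw [hn] at this
  simpa using this

end aux

/-- Let A be a commutative ring, I a nilpotent ideal of A and f : M → N a homomorphism of A-modules with
N flat over A (no finiteness assumption on M or N). If the base change of f to A/I, that is M/IM →
N/IN, is bijective, then f is bijective. -/
theorem result (A : Type u) [CommRing A] (I : Ideal A)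
    (hI : IsNilpotent I) (M N : Type v) [AddCommGroup M] [Module A M] [AddCommGroup N] [Module A N]
    [Module.Flat A N] (f : M →ₗ[A] N)
    (hf : Function.Bijective (f.baseChange (A ⧸ I))) :
    Function.Bijective f := by
  -- surjectivity
  have hsurj : Function.Surjective f := by
    rw [← LinearMap.range_eq_top]
    obtain ⟨n, hn⟩ := hI
    have h1 : (⊤ : Submodule A N) ≤ LinearMap.range f ⊔ I • ⊤ := by
      intro y _
      obtain ⟨t, ht⟩ := hf.2 ((1 : A ⧸ I) ⊗ₜ[A] y)
      obtain ⟨m, rfl⟩ := exists_one_tmul I t
      rw [LinearMap.baseChange_tmul] at ht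
      have : (1 : A ⧸ I) ⊗ₜ[A] (y - f m) = 0 := by
        rw [TensorProduct.tmul_sub, ht, sub_self]
      rw [one_tmul_eq_zero_iff] at this
      have h2 : y = f m + (y - f m) := by abel
      rw [h2]
      exact Submodule.add_mem_sup (LinearMap.mem_range_self f m) this
    have key : ∀ k : ℕ, (⊤ : Submodule A N) ≤ LinearMap.range f ⊔ I ^ k • ⊤ := by
      intro k
      induction k with
      | zero => simp
      | succ k ih =>
        calc (⊤ : Submodule A N) ≤ LinearMap.range f ⊔ I • ⊤ := h1
          _ ≤ LinearMap.range f ⊔ I • (LinearMap.range f ⊔ I ^ k • ⊤) :=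
              sup_le_sup_left (Submodule.smul_mono le_rfl ih) _
          _ ≤ LinearMap.range f ⊔ I ^ (k + 1) • ⊤ := by
              rw [Submodule.smul_sup, ← Submodule.mul_smul, ← pow_succ']
              refine sup_le le_sup_left (sup_le ?_ le_sup_right)
              exact le_trans Submodule.smul_le_right le_sup_left
    have := key n
    rw [hn] at this
    simpa using this
  refine ⟨?_, hsurj⟩
  -- injectivity
  rw [← LinearMap.ker_eq_bot]
  apply eq_bot_of_le_smul I hI
  intro m hm
  rw [LinearMap.mem_ker] at hm
  have h0 : (1 : A ⧸ I) ⊗ₜ[A] m = 0 := by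
    apply hf.1
    rw [LinearMap.baseChange_tmul, hm, TensorProduct.tmul_zero, map_zero]
  rw [one_tmul_eq_zero_iff] at h0
  have h0' : m ∈ I • Submodule.span A (Set.range (id : M → M)) := by
    simpa using h0
  rw [Submodule.mem_ideal_smul_span_iff_exists_sum] at h0'
  obtain ⟨a, ha, hsum⟩ := h0'
  simp only [id] at hsum
  -- the relation Σ a i • f i = 0 in N
  have hrel : ∑ i : a.support, a i • f (i : M) = 0 := by
    rw [Finset.sum_coe_sort a.support (fun i => a i • f i)]
    have : f (a.sum fun i c => c • i) = 0 := by rw [hsum, hm]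
    rw [Finsupp.sum, map_sum] at this
    simpa using this
  obtain ⟨k, b, y, hy, hb⟩ := Module.Flat.isTrivialRelation_of_sum_smul_eq_zero hrel
  choose m' hm' using fun j => hsurj (y j)
  have hmem : ∀ i : a.support, (i : M) - ∑ j, b i j • m' j ∈ LinearMap.ker f := by
    intro i
    have := hy i
    simp only at this
    rw [LinearMap.mem_ker, map_sub, map_sum, this]
    simp [hm']
  have hdecomp : m = ∑ i : a.support, a i • ((i : M) - ∑ j, b i j • m' j) := by
    have e1 : ∑ i : a.support, a i • ((i : M) - ∑ j, b i j • m' j) =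
        ∑ i : a.support, a i • (i : M) - ∑ j, (∑ i : a.support, a i * b i j) • m' j := by
      simp only [smul_sub, Finset.sum_sub_distrib, Finset.smul_sum, Finset.sum_smul, mul_smul]
      congr 1
      rw [Finset.sum_comm]
    rw [e1]
    simp only [hb, zero_smul, Finset.sum_const_zero, sub_zero]
    rw [Finset.sum_coe_sort a.support (fun i => a i • i)]
    exact hsum.symm
  rw [hdecomp]
  exact Submodule.sum_mem _ fun i _ => Submodule.smul_mem_smul (ha i) (hmem i)

end Groth.Agent.S16707
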