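import Groth.Statements.S16709
import Groth.Agent.Lib.helper29.ExactInv

set_option autoImplicit false
universe u v
open HopfRep

namespace Groth.Agent.S16709

open Groth.Agent.Lib.helper28.ComodMod Groth.Agent.Lib.helper29.Reynolds in
theorem forward (k : Type u) [Field k] (A : Type v) [CommRing A] [HopfAlgebra k A]
    (hG : HopfRep.IsLinearlyReductive k A)
    (V : Type v) [AddCommGroup V] [Module k V] [HopfRep.Comod k A V] (hfin : Module.Finite k V)
    (π : V →ₗ[k] k) (hπ : Function.Surjective π)
    (hhom : LinearMap.rTensor A π ∘ₗ HopfRep.Comod.coact (k := k) (A := A) (V := V) =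
      (TensorProduct.mk k k A).flip (1 : A) ∘ₗ π) :
    ∃ v ∈ HopfRep.fixedPts k A V, π v ≠ 0 := by
  have hπop : ∀ (φ : A →ₗ[k] k) (x : V), π (op φ x) = φ 1 • π x := by
    intro φ x
    rw [op_apply, ← T_rTensor π φ]
    have := LinearMap.congr_fun hhom x
    simp only [LinearMap.comp_apply, LinearMap.flip_apply, TensorProduct.mk_apply] at this
    rw [this, T_tmul]
  have hK : HopfRep.IsSubcomod (k := k) (A := A) (LinearMap.ker π) := by
    rw [isSubcomod_iff]
    intro φ x hx
    rw [LinearMap.mem_ker] at hx ⊢
    rw [hπop, hx, smul_zero]
  obtain ⟨L, hL, hc⟩ := hG V hfin _ hK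
  obtain ⟨v, hv⟩ := hπ 1
  have hvtop : v ∈ LinearMap.ker π ⊔ L := by rw [hc.sup_eq_top]; trivial
  obtain ⟨x, hx, l, hl, rfl⟩ := Submodule.mem_sup.mp hvtop
  have hπl : π l = 1 := by
    rw [map_add, LinearMap.mem_ker.mp hx, zero_add] at hv
    exact hv
  refine ⟨l, ?_, by rw [hπl]; exact one_ne_zero⟩
  rw [mem_fixedPts_iff]
  intro φ
  have h1 : op φ l - φ 1 • l ∈ L :=
    L.sub_mem ((isSubcomod_iff L).mp hL φ l hl) (L.smul_mem _ hl)
  have h2 : op φ l - φ 1 • l ∈ LinearMap.ker π := by
    rw [LinearMap.mem_ker, map_sub, hπop, map_smul, sub_self]
  have h3 : op φ l - φ 1 • l ∈ LinearMap.ker π ⊓ L := ⟨h2, h1⟩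
  rw [hc.inf_eq_bot, Submodule.mem_bot, sub_eq_zero] at h3
  exact h3

open TensorProduct in
/-- The equivalence of complete reducibility of finite-dimensional representations with the
invariant-section criterion. Let k be a field and A a finitely generated commutative Hopf algebra
over k, the coordinate ring of an affine algebraic group G. Then G is linearly reductive (every
finite-dimensional A-comodule is semisimple) if and only if for every finite-dimensional A-comodule
V and every surjective k-linear map π : V → k which is a comodule map to the trivial comodule (that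
is, (π ⊗ id) ∘ ρ_V = (c ↦ c ⊗ 1) ∘ π for the coaction ρ_V) there is a fixed vector v of V with π v ≠
0. (The published fourth condition is phrased with all G-fixed points of the projective space of V
and G-invariant linear forms; it fails for a fixed point on which G acts through a non-trivial
character, for instance the multiplicative group acting on a line with weight one, and this row
states the condition in the form the published proof uses: surjections onto the trivial
one-dimensional comodule.) -/
theorem result (k : Type u) [Field k] (A : Type v)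
    [CommRing A] [HopfAlgebra k A] (hA : Algebra.FiniteType k A) :
    HopfRep.IsLinearlyReductive k A ↔
      ∀ (V : Type v) [AddCommGroup V] [Module k V] [HopfRep.Comod k A V], Module.Finite k V →
        ∀ π : V →ₗ[k] k, Function.Surjective π →
          LinearMap.rTensor A π ∘ₗ HopfRep.Comod.coact (k := k) (A := A) (V := V) =
            (TensorProduct.mk k k A).flip (1 : A) ∘ₗ π →
          ∃ v ∈ HopfRep.fixedPts k A V, π v ≠ 0 := by
  constructor
  · intro hG V _ _ _ hfin π hπ hhom
    exact forward k A hG V hfin π hπ hhom
  · intro hcrit
    exact Groth.Agent.Lib.helper29.ExactInv.isLinearlyReductive_of_sectionCrit hcrit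

end Groth.Agent.S16709
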