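import Groth.Statements.S16717
import Groth.Agent.Lib.helper29.ExactInv

set_option autoImplicit false
universe u v
open HopfRep

namespace Groth.Agent.S16717

open TensorProduct in
/-- Equivalence of the exactness of invariants with complete reducibility of finite-dimensional
representations. Let k be a field and A a finitely generated commutative Hopf algebra over k (the
coordinate ring of an affine algebraic group G). Then every finite-dimensional A-comodule is
semisimple if and only if taking fixed vectors is exact, i.e. for every surjective comodule map φ :
V → W between A-comodules (of any dimension; φ k-linear with (φ ⊗ id) ∘ ρ_V = ρ_W ∘ φ) every fixed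
vector of W is the image of a fixed vector of V. -/
theorem result (k : Type u) [Field k] (A : Type v)
    [CommRing A] [HopfAlgebra k A] (hA : Algebra.FiniteType k A) :
    HopfRep.IsLinearlyReductive k A ↔
      ∀ (V W : Type v) [AddCommGroup V] [Module k V] [HopfRep.Comod k A V]
        [AddCommGroup W] [Module k W] [HopfRep.Comod k A W] (φ : V →ₗ[k] W),
        LinearMap.rTensor A φ ∘ₗ HopfRep.Comod.coact (k := k) (A := A) (V := V) =
            HopfRep.Comod.coact (k := k) (A := A) (V := W) ∘ₗ φ →
          Function.Surjective φ →
            ∀ w ∈ HopfRep.fixedPts k A W, ∃ v ∈ HopfRep.fixedPts k A V, φ v = w := by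
  open Groth.Agent.Lib.helper29.Reynolds in
  constructor
  · intro hG V W _ _ _ _ _ _ φ hφ hsurj w hw
    obtain ⟨EV, hEV⟩ := exists_reynolds (k := k) (A := A) hG V
    obtain ⟨EW, hEW⟩ := exists_reynolds (k := k) (A := A) hG W
    obtain ⟨v, rfl⟩ := hsurj w
    refine ⟨EV v, reynolds_mem_fixedPts hEV v, ?_⟩
    rw [← reynolds_natural hG hEV hEW φ hφ.symm v]
    exact (hEW.2.2 _).mpr hw
  · intro hex
    exact Groth.Agent.Lib.helper29.ExactInv.isLinearlyReductive_of_exactInv hex

end Groth.Agent.S16717
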