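import Groth.Statements.S16718
import Groth.Agent.Lib.helper12.Coeff

set_option autoImplicit false
universe u v w
open TensorProduct
open GLin

namespace Groth.Agent.S16718

/-- Let k be a field, A a finitely generated commutative Hopf algebra over k (an affine algebraic group
G), R a finitely generated commutative k-algebra carrying an A-comodule structure whose coaction is
an algebra homomorphism (an action of G on X = Spec R), and I an ideal of R which is a subcomodule
(a G-invariant closed subscheme Z of X). Then there is a finite-dimensional subcomodule W of R with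
W ⊆ I generating I as an ideal; equivalently there is a G-equivariant morphism f from X to the
affine space of a finite-dimensional G-representation with f⁻¹(0) = Z as closed subschemes. -/
theorem result (k : Type u) [Field k]
    (A : Type v) [CommRing A] [HopfAlgebra k A] (hA : Algebra.FiniteType k A)
    (R : Type w) [CommRing R] [Algebra k R] [HopfRep.Comod k A R] [GLin.IsCoactAlg k A R]
    (hR : Algebra.FiniteType k R) (I : Ideal R)
    (hI : HopfRep.IsSubcomod (k := k) (A := A) (I.restrictScalars k)) :
    ∃ W : Submodule k R, Module.Finite k W ∧ HopfRep.IsSubcomod (k := k) (A := A) W ∧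
      W ≤ I.restrictScalars k ∧ Ideal.span (W : Set R) = I := by
  classical
  have hnoeth : IsNoetherianRing R := Algebra.FiniteType.isNoetherianRing k R
  obtain ⟨s, hs⟩ := (isNoetherianRing_iff_ideal_fg R).1 hnoeth I
  have key : ∀ t : Finset R, (∀ f ∈ t, f ∈ I) → ∃ W : Submodule k R, Module.Finite k W ∧
      HopfRep.IsSubcomod (k := k) (A := A) W ∧ W ≤ I.restrictScalars k ∧ ∀ f ∈ t, f ∈ W := by
    intro t
    induction t using Finset.induction_on with
    | empty =>
      intro _
      exact ⟨⊥, inferInstance, Groth.Agent.H12Coeff.isSubcomod_bot, bot_le, by simp⟩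
    | insert f t hf ih =>
      intro hmem
      obtain ⟨W, hWfin, hWsub, hWI, hWt⟩ := ih fun g hg => hmem g (Finset.mem_insert_of_mem hg)
      obtain ⟨Wf, hWffin, hfWf, hWfsub⟩ :=
        Groth.Agent.H12Comod.exists_finite_subcomod (k := k) (C := A) f
      refine ⟨W ⊔ (Wf ⊓ I.restrictScalars k), ?_, ?_, ?_, ?_⟩
      · have : Module.Finite k ↥(Wf ⊓ I.restrictScalars k) :=
          Submodule.finiteDimensional_of_le inf_le_left
        exact Submodule.finite_sup _ _
      · exact Groth.Agent.H12Comod.isSubcomod_sup _ _ hWsub
          (Groth.Agent.H12Comod.isSubcomod_inf _ _ hWfsub hI)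
      · exact sup_le hWI inf_le_right
      · intro g hg
        rcases Finset.mem_insert.1 hg with rfl | hg
        · exact Submodule.mem_sup_right ⟨hfWf, hmem g (Finset.mem_insert_self _ _)⟩
        · exact Submodule.mem_sup_left (hWt g hg)
  obtain ⟨W, hWfin, hWsub, hWI, hWs⟩ := key s (fun f hf => by
    rw [← hs]; exact Ideal.subset_span hf)
  refine ⟨W, hWfin, hWsub, hWI, le_antisymm ?_ ?_⟩
  · exact Ideal.span_le.2 fun x hx => hWI hx
  · rw [← hs]
    exact Ideal.span_mono fun x hx => hWs x hx

end Groth.Agent.S16718
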