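import Groth.Statements.S16737
import Mathlib.Algebra.CharP.Invertible
import Mathlib.Algebra.MvPolynomial.PDeriv

set_option autoImplicit false
universe u v
open DeRham

namespace Groth.Agent.S16737

open MvPolynomial

theorem D_expand_eq_zero (p : ℕ) [Fact p.Prime]
    (R : Type u) [CommRing R] [CharP R p] (σ : Type v) (g : MvPolynomial σ R) :
    KaehlerDifferential.D R (MvPolynomial σ R) (MvPolynomial.expand p g) = 0 := by
  induction g using MvPolynomial.induction_on with
  | C a => simp
  | add g₁ g₂ h₁ h₂ => rw [map_add, map_add, h₁, h₂, add_zero]
  | mul_X g i h =>
    rw [map_mul, Derivation.leibniz, h, smul_zero, add_zero, expand_X, Derivation.leibniz_pow]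
    have : (p : MvPolynomial σ R) = 0 := by
      rw [← map_natCast (C : R →+* MvPolynomial σ R), CharP.cast_eq_zero R p, map_zero]
    rw [← Nat.cast_smul_eq_nsmul (MvPolynomial σ R), this, zero_smul, smul_zero]

/-- The case of affine space over an affine base of characteristic p, in degree zero. Let p be a prime
and R a commutative ring with p = 0 in R. For a polynomial f over R in any set of variables t_i, the
Kähler differential df in Ω_{R[t]/R} vanishes if and only if f is a polynomial in the p-th powers of
the variables, f = g(t_i^p). Equivalently, the functions on affine space over R killed by the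
differential of the de Rham complex are exactly the functions on its Frobenius twist. (The published
computation is for finitely many variables over a noetherian base of characteristic p; the statement
here allows any commutative ring with p = 0 and any set of variables.) -/
theorem result (p : ℕ) [Fact p.Prime]
    (R : Type u) [CommRing R] [CharP R p] (σ : Type v) (f : MvPolynomial σ R) :
    KaehlerDifferential.D R (MvPolynomial σ R) f = 0 ↔
      ∃ g : MvPolynomial σ R, f = MvPolynomial.expand p g := by
  have hp : p.Prime := Fact.out
  constructor
  · intro hD
    -- all partial derivatives vanish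
    have hpd : ∀ i, pderiv i f = 0 := by
      intro i
      rw [← KaehlerDifferential.mvPolynomialBasis_repr_apply, hD, map_zero, Finsupp.zero_apply]
    -- hence the support consists of multiples of p
    have hsupp : ∀ s ∈ f.support, ∀ i, p ∣ s i := by
      intro s hs i
      by_contra hndvd
      have hsi : 1 ≤ s i := by
        rcases Nat.eq_zero_or_pos (s i) with h | h
        · exact absurd (h ▸ dvd_zero p) hndvd
        · exact h
      have hcoeff := coeff_pderiv (i := i) f (s - Finsupp.single i 1)
      rw [hpd i, coeff_zero] at hcoeff
      have hs' : s - Finsupp.single i 1 + Finsupp.single i 1 = s := by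
        ext j
        by_cases hj : j = i
        · subst hj; simp; omega
        · simp [Ne.symm hj]
      rw [hs'] at hcoeff
      have hcast : ((((s - Finsupp.single i 1 : σ →₀ ℕ) i : ℕ)) : R) + 1 = ((s i : ℕ) : R) := by
        have : (s - Finsupp.single i 1 : σ →₀ ℕ) i + 1 = s i := by simp; omega
        rw [← this]; push_cast; rfl
      rw [hcast] at hcoeff
      have hunit : IsUnit ((s i : ℕ) : R) := (CharP.isUnit_natCast_iff hp).2 hndvd
      have : coeff s f = 0 := by
        have := hunit.mul_left_eq_zero.1 hcoeff.symm
        exact this
      exact (mem_support_iff.1 hs) this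
    refine ⟨∑ s ∈ f.support, monomial (Finsupp.mapRange (· / p) (by simp) s) (coeff s f), ?_⟩
    rw [map_sum]
    conv_lhs => rw [f.as_sum]
    refine Finset.sum_congr rfl fun s hs => ?_
    rw [expand_monomial]
    have hsp : p • Finsupp.mapRange (· / p) (by simp) s = s := by
      ext i
      rw [Finsupp.smul_apply, Finsupp.mapRange_apply, smul_eq_mul]
      exact Nat.mul_div_cancel' (hsupp s hs i)
    rw [hsp]
  · rintro ⟨g, rfl⟩
    exact D_expand_eq_zero p R σ g

end Groth.Agent.S16737
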