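import Groth.Statements.S16742
import Mathlib
import Groth.Agent.Lib.helper24.NilFlat

set_option autoImplicit false
universe u
open CAlg

namespace Groth.Agent.S16742

open TensorProduct in

/-- The equivalence in affine form, with flatness of the reduction in place of smoothness. Let p be a
prime, A~ a commutative ring flat over Z/p^2 and B~ an A~-algebra such that B~/pB~ is flat over
A~/pA~. Then B~ is flat over A~ if and only if every element of B~ killed by p is a multiple of p;
equivalently multiplication by p identifies B~/pB~ with pB~. (The published statement assumes the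
reduction smooth over A~/pA~ and the schemes noetherian, and phrases (b) as B~ being a lifting, that
is flat over A~; the statement here assumes only that the reduction is flat, where the equivalence
still holds by the local flatness criterion for the square-zero ideal generated by p.) -/
theorem result (p : ℕ) [Fact p.Prime]
    (Al : Type u) [CommRing Al] [Algebra (ZMod (p ^ 2)) Al] [Module.Flat (ZMod (p ^ 2)) Al]
    (Bl : Type u) [CommRing Bl] [Algebra Al Bl]
    (hB : Module.Flat (Al ⧸ Ideal.span {(p : Al)})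
      (Bl ⧸ (Ideal.span {(p : Al)}).map (algebraMap Al Bl))) :
    Module.Flat Al Bl ↔ ∀ b : Bl, (p : Bl) * b = 0 → b ∈ Ideal.span {(p : Bl)} := by
  -- `p * a = 0` in `ZMod (p^2)` implies `p ∣ a`
  have hZ : ∀ c : ZMod (p ^ 2), (p : ZMod (p ^ 2)) * c = 0 → ∃ d, c = (p : ZMod (p ^ 2)) * d := by
    intro c hc
    have hp := (Fact.out : p.Prime)
    haveI : NeZero (p ^ 2) := ⟨pow_ne_zero 2 hp.ne_zero⟩
    have h1 : ((p * c.val : ℕ) : ZMod (p ^ 2)) = 0 := by
      rw [Nat.cast_mul, ZMod.natCast_zmod_val]; exact hc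
    have h1 := (ZMod.natCast_eq_zero_iff _ _).mp h1
    have h1 : p * p ∣ p * c.val := dvd_trans (dvd_of_eq (pow_two p).symm) h1
    have h2 : p ∣ c.val := (Nat.mul_dvd_mul_iff_left hp.pos).mp h1
    obtain ⟨d, hd⟩ := h2
    refine ⟨(d : ZMod (p ^ 2)), ?_⟩
    rw [← ZMod.natCast_zmod_val c, hd, Nat.cast_mul]
  -- `p * a = 0` in `Al` implies `a ∈ p Al`
  have hA : ∀ a : Al, (p : Al) * a = 0 → ∃ d, a = (p : Al) * d := by
    intro a ha
    obtain ⟨κ, c, y, h1, h2⟩ := Module.Flat.isTrivialRelation_of_sum_smul_eq_zero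
      (R := ZMod (p ^ 2)) (M := Al) (f := fun _ : Fin 1 => (p : ZMod (p ^ 2))) (x := fun _ => a) (by
        simp only [Finset.univ_unique, Finset.sum_singleton]
        rw [Algebra.smul_def, map_natCast]; exact ha)
    have h1' : a = ∑ j, c 0 j • y j := h1 0
    have hc : ∀ j, ∃ d, c 0 j = (p : ZMod (p ^ 2)) * d := by
      intro j
      apply hZ
      have := h2 j
      simpa using this
    choose d hd using hc
    refine ⟨∑ j, d j • y j, ?_⟩
    conv_lhs => rw [h1']
    rw [Finset.mul_sum]
    refine Finset.sum_congr rfl fun j _ => ?_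
    rw [hd j, mul_smul, Algebra.smul_def (p : ZMod (p ^ 2)), map_natCast]
  have hpp : (p : Al) * (p : Al) = 0 := by
    have : ((p : ZMod (p ^ 2)) * (p : ZMod (p ^ 2))) = 0 := by
      rw [← Nat.cast_mul, ← pow_two]; exact ZMod.natCast_self _
    have h2 := congrArg (algebraMap (ZMod (p ^ 2)) Al) this
    simpa using h2
  constructor
  · intro hflat b hb
    obtain ⟨κ, c, y, h1, h2⟩ := Module.Flat.isTrivialRelation_of_sum_smul_eq_zero
      (R := Al) (M := Bl) (f := fun _ : Fin 1 => (p : Al)) (x := fun _ => b) (by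
        simp only [Finset.univ_unique, Finset.sum_singleton]
        rw [Algebra.smul_def, map_natCast]; exact hb)
    have h1' : b = ∑ j, c 0 j • y j := h1 0
    have hc : ∀ j, ∃ d, c 0 j = (p : Al) * d := by
      intro j
      apply hA
      have := h2 j
      simpa using this
    choose d hd using hc
    rw [Ideal.mem_span_singleton']
    refine ⟨∑ j, d j • y j, ?_⟩
    conv_rhs => rw [h1']
    rw [Finset.sum_mul]
    refine Finset.sum_congr rfl fun j _ => ?_
    rw [hd j, mul_smul, Algebra.smul_def (p : Al), map_natCast, mul_comm]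
  · intro hcond
    set I : Ideal Al := Ideal.span {(p : Al)} with hI
    have hInil : IsNilpotent I := by
      refine ⟨2, ?_⟩
      rw [hI, Ideal.span_singleton_pow, pow_two, hpp]
      simp
    -- flatness of the reduction
    haveI : Module.Flat (Al ⧸ I) ((Al ⧸ I) ⊗[Al] Bl) := by
      let e1 : ((Al ⧸ I) ⊗[Al] Bl) ≃ₗ[Al] Bl ⧸ (I • (⊤ : Submodule Al Bl)) :=
        TensorProduct.quotTensorEquivQuotSMul Bl I
      let e2 : (Bl ⧸ (I • (⊤ : Submodule Al Bl))) ≃ₗ[Al]
          Bl ⧸ ((I.map (algebraMap Al Bl)).restrictScalars Al) :=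
        Submodule.quotEquivOfEq _ _ (Ideal.smul_top_eq_map I)
      let e3 : (Bl ⧸ ((I.map (algebraMap Al Bl)).restrictScalars Al)) ≃ₗ[Al]
          Bl ⧸ (I.map (algebraMap Al Bl)) :=
        Submodule.Quotient.restrictScalarsEquiv Al (I.map (algebraMap Al Bl))
      let e : ((Al ⧸ I) ⊗[Al] Bl) ≃ₗ[Al] Bl ⧸ (I.map (algebraMap Al Bl)) := e1 ≪≫ₗ e2 ≪≫ₗ e3
      let e' : ((Al ⧸ I) ⊗[Al] Bl) ≃ₗ[Al ⧸ I] Bl ⧸ (I.map (algebraMap Al Bl)) :=
        LinearEquiv.extendScalarsOfSurjective Ideal.Quotient.mk_surjective e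
      exact Module.Flat.of_linearEquiv e'
    refine Groth.Agent.Lib.helper24.NilFlat.flat_of_isNilpotent I Bl hInil ?_
    rw [injective_iff_map_eq_zero]
    intro z hz
    -- every element is `p ⊗ b`
    have hrep : ∀ z : ↥I ⊗[Al] Bl, ∃ b : Bl, z = (⟨(p : Al), Ideal.subset_span rfl⟩ : ↥I) ⊗ₜ[Al] b := by
      intro z
      induction z using TensorProduct.induction_on with
      | zero => exact ⟨0, by simp⟩
      | tmul a b =>
        obtain ⟨a, ha⟩ := a
        obtain ⟨c, rfl⟩ := Ideal.mem_span_singleton'.mp ha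
        refine ⟨c • b, ?_⟩
        rw [← TensorProduct.smul_tmul]
        congr 1
      | add x y hx hy =>
        obtain ⟨b1, rfl⟩ := hx
        obtain ⟨b2, rfl⟩ := hy
        exact ⟨b1 + b2, by rw [TensorProduct.tmul_add]⟩
    obtain ⟨b, rfl⟩ := hrep z
    rw [LinearMap.rTensor_tmul] at hz
    have hz' : (p : Bl) * b = 0 := by
      have := congrArg (TensorProduct.lid Al Bl) hz
      simpa [Algebra.smul_def] using this
    obtain ⟨b', rfl⟩ := Ideal.mem_span_singleton'.mp (hcond b hz')
    have : b' * (p : Bl) = (p : Al) • b' := by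
      rw [Algebra.smul_def, map_natCast, mul_comm]
    rw [this, ← TensorProduct.smul_tmul]
    have h0 : (p : Al) • (⟨(p : Al), Ideal.subset_span rfl⟩ : ↥I) = 0 := by
      ext
      simp [hpp]
    rw [h0, TensorProduct.zero_tmul]

end Groth.Agent.S16742
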