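import Groth.Statements.S16762

set_option autoImplicit false
universe u
open CAlgX

namespace Groth.Agent.S16762

open TensorProduct

theorem key (A A' : Type u) [CommRing A] [CommRing A'] [Algebra A A']
    {M N : Type u} [AddCommGroup M] [Module A M] [AddCommGroup N] [Module A N] (f : M →ₗ[A] N)
    (Q' : Type u) [AddCommGroup Q'] [Module A Q'] [Module A' Q'] [IsScalarTower A A' Q'] :
    Function.Injective ((f.baseChange A').rTensor Q') ↔ Function.Injective (f.lTensor Q') := by
  rw [← LinearMap.lTensor_inj_iff_rTensor_inj]
  have h := TensorProduct.AlgebraTensorModule.lTensor_comp_cancelBaseChange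
    (R := A) (A := A') (B := A') (M := Q') f
  have h1 : ⇑(f.lTensor Q') ∘ ⇑(AlgebraTensorModule.cancelBaseChange A A' A' Q' M) =
      ⇑(AlgebraTensorModule.cancelBaseChange A A' A' Q' N) ∘ ⇑((f.baseChange A').lTensor Q') := by
    funext x
    exact congr($h x)
  rw [← EquivLike.injective_comp (AlgebraTensorModule.cancelBaseChange A A' A' Q' M) (f.lTensor Q'),
    h1, EquivLike.comp_injective]

/-- Let A → A' be faithfully flat and u : M → N a map of A-modules. Then u is universally injective (u ⊗
id_Q injective for every A-module Q) if and only if its base change A' ⊗_A M → A' ⊗_A N is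
universally injective as a map of A'-modules. -/
theorem result (A A' : Type u) [CommRing A] [CommRing A']
    [Algebra A A'] [Module.FaithfullyFlat A A'] {M N : Type u} [AddCommGroup M] [Module A M]
    [AddCommGroup N] [Module A N] (u : M →ₗ[A] N) :
    CAlgX.UniversallyInjective A u ↔ CAlgX.UniversallyInjective A' (u.baseChange A') := by
  constructor
  · intro h Q' _ _
    letI : Module A Q' := Module.compHom Q' (algebraMap A A')
    haveI : IsScalarTower A A' Q' := IsScalarTower.of_compHom A A' Q'
    rw [key A A' u Q', LinearMap.lTensor_inj_iff_rTensor_inj]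
    exact h Q'
  · intro h Q _ _
    have h1 := h (A' ⊗[A] Q)
    rw [key A A' u (A' ⊗[A] Q), LinearMap.lTensor_tensor] at h1
    rw [← LinearMap.lTensor_inj_iff_rTensor_inj,
      ← Module.FaithfullyFlat.lTensor_injective_iff_injective A A']
    simpa using h1

end Groth.Agent.S16762
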