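import Groth.Statements.S16765
import Mathlib
import Groth.Agent.Lib.helper22.UnramFibre

set_option autoImplicit false
universe u
open Unram17

namespace Groth.Agent.S16765

section Helpers

open CategoryTheory CategoryTheory.Limits AlgebraicGeometry TopologicalSpace

theorem isPullback_fiberMapOver {X Y S : Scheme.{u}} (g : Y ⟶ S) (h : X ⟶ S) (f : X ⟶ Y)
    (w : f ≫ g = h) (s : S) :
    IsPullback (h.fiberι s) (CohIII.fiberMapOver f h g w s) f (g.fiberι s) := by
  have hF2 : CohIII.fiberMapOver f h g w s ≫ g.fiberToSpecResidueField s =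
      h.fiberToSpecResidueField s := by
    unfold CohIII.fiberMapOver
    exact (pullback.lift_snd _ _ _).trans (Category.comp_id _)
  have hF1 : CohIII.fiberMapOver f h g w s ≫ g.fiberι s = h.fiberι s ≫ f := by
    unfold CohIII.fiberMapOver
    exact pullback.lift_fst _ _ _
  subst w
  have hg : IsPullback (g.fiberι s) (g.fiberToSpecResidueField s) g
      (S.fromSpecResidueField s) := IsPullback.of_hasPullback g (S.fromSpecResidueField s)
  have hh : IsPullback ((f ≫ g).fiberι s) ((f ≫ g).fiberToSpecResidueField s) (f ≫ g)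
      (S.fromSpecResidueField s) := IsPullback.of_hasPullback (f ≫ g) (S.fromSpecResidueField s)
  rw [← hF2] at hh
  exact IsPullback.of_bot hh hF1.symm hg

open Groth.Agent.H22.UnramFibre in
theorem main {X Y S : Scheme.{u}} (g : Y ⟶ S) (h : X ⟶ S)
    [LocallyOfFinitePresentation g] [LocallyOfFinitePresentation h] (f : X ⟶ Y) (w : f ≫ g = h)
    (x : ↥X)
    (x' : ↥(h.fiber (h x))) (hx' : (h.fiberι (h x)) x' = x) :
    (∃ U : X.Opens, x ∈ U ∧ FormallyUnramified (U.ι ≫ f)) ↔
      ∃ V : (h.fiber (h x)).Opens, x' ∈ V ∧
        FormallyUnramified (V.ι ≫ CohIII.fiberMapOver f h g w (h x)) := by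
  have hpb := isPullback_fiberMapOver g h f w (h x)
  constructor
  · rintro ⟨U, hxU, hU⟩
    refine ⟨h.fiberι (h x) ⁻¹ᵁ U, ?_, ?_⟩
    · change h.fiberι (h x) x' ∈ U
      rw [hx']
      exact hxU
    · have hpb2 : IsPullback (h.fiberι (h x) ∣_ U)
          ((h.fiberι (h x) ⁻¹ᵁ U).ι ≫ CohIII.fiberMapOver f h g w (h x)) (U.ι ≫ f)
          (g.fiberι (h x)) :=
        (isPullback_morphismRestrict (h.fiberι (h x)) U).paste_vert hpb
      exact MorphismProperty.of_isPullback (P := @FormallyUnramified) hpb2 hU
  · rintro ⟨V, hxV, hV⟩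
    haveI : LocallyOfFiniteType f := by
      haveI : LocallyOfFiniteType (f ≫ g) := by rw [w]; infer_instance
      exact locallyOfFiniteType_of_comp f g
    exact exists_open_formallyUnramified_of_isPullback f x (g.fiberι (h x)) _ _ hpb V x' hxV hx'

end Helpers

open AlgebraicGeometry CategoryTheory CategoryTheory.Limits in
/-- Let g : Y → S and h : X → S be locally of finite presentation, f : X → Y an S-morphism (f ≫ g = h;
in particular f is locally of finite presentation, so unramified amounts to formally unramified),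
and x a point of X with image s = h(x). Then f is unramified at x (formally unramified on an open
neighbourhood of x) if and only if the induced morphism of fibres X_s → Y_s is unramified at the
point of X_s lying over x. No flatness is needed. -/
theorem result {X Y S : Scheme.{u}} (g : Y ⟶ S) (h : X ⟶ S)
    [LocallyOfFinitePresentation g] [LocallyOfFinitePresentation h] (f : X ⟶ Y) (w : f ≫ g = h)
    (x : ↥X)
    (x' : ↥(h.fiber (h x))) (hx' : (h.fiberι (h x)) x' = x) :
    (∃ U : X.Opens, x ∈ U ∧ FormallyUnramified (U.ι ≫ f)) ↔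
      ∃ V : (h.fiber (h x)).Opens, x' ∈ V ∧ FormallyUnramified (V.ι ≫ CohIII.fiberMapOver f h g w (h x)) := by
  exact main g h f w x x' hx'

end Groth.Agent.S16765
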