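import Groth.Statements.S16795
import Groth.Agent.Lib.helper25.LogC

set_option autoImplicit false
universe v u
open LogConn

namespace Groth.Agent.S16795

open Groth.Agent.Lib.helper25.LogC in
theorem aux_set {B E : Type u} [CommRing B] [AddCommGroup E] [Module B E] {n m : ℕ}
    (t : Fin n → B) (f : Finset (Fin n) → E → E) (e : Fin m → E) (I : Finset (Fin n)) :
    (⋃ J ∈ I.powerset, Set.range (fun k : Fin m => (∏ i ∈ I \ J, t i) • f J (e k))) =
    ⋃ J ∈ I.powerset, (fun x => (∏ i ∈ I \ J, t i) • f J x) '' Set.range e := by
  refine Set.iUnion_congr fun J => Set.iUnion_congr fun _ => ?_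
  rw [← Set.range_comp]
  rfl

open TensorProduct in
/-- Let B be a commutative algebra over a commutative ring A, λ ∈ B, and t₁, …, tₙ ∈ B elements whose
differentials dt₁, …, dtₙ form a basis of the Kähler differentials Ω of B over A; let L be a
B-module free on ω₁, …, ωₙ with a B-linear ι : Ω → L sending dtᵢ to tᵢ ωᵢ (ωᵢ playing the role of
dlog tᵢ), and E a B-module with an A-linear ∇ : E → E ⊗ L obeying the λ-twisted Leibniz rule ∇(b e)
= b ∇e + λ e ⊗ ι(db); write ∇ᵢ for the components of ∇ in the basis ω, ∇_J for their composite over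
a finite index set J in increasing order, and E_I = Σ_{J ⊆ I} (∏_{i ∈ I∖J} tᵢ) · ∇_J(E) (an
A-submodule of E) for a finite index set I. Suppose E is generated over B by finitely many elements
e₁, …, e_m. Then for every finite index set I the piece E_I is the B-span of the finitely many
elements (∏_{i ∈ I∖J} tᵢ) · ∇_J(e_k), J ⊆ I, 1 ≤ k ≤ m; in particular E_I is a finitely generated
B-module. (The published statement is phrased for sheaves — E_w is quasi-coherent, resp. coherent,
when E is — and its proof exhibits these generators; flatness of ∇ is not used.) -/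
theorem result {A : Type v} {B L E : Type u} [CommRing A] [CommRing B]
    [Algebra A B] [AddCommGroup L] [Module B L] [Module A L] [IsScalarTower A B L]
    [AddCommGroup E] [Module B E] [Module A E] [IsScalarTower A B E]
    (lam : B) {n : ℕ} (t : Fin n → B) (bΩ : Module.Basis (Fin n) B (KaehlerDifferential A B))
    (hbΩ : ∀ i, bΩ i = KaehlerDifferential.D A B (t i))
    (ω : Module.Basis (Fin n) B L) (ι : KaehlerDifferential A B →ₗ[B] L)
    (hι : ∀ i, ι (KaehlerDifferential.D A B (t i)) = t i • ω i)
    (nabla : E →ₗ[A] E ⊗[B] L)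
    (hc : Conn.IsLamConn (ι.compDer (KaehlerDifferential.D A B)) lam nabla)
    {m : ℕ} (e : Fin m → E) (he : Submodule.span B (Set.range e) = ⊤) (I : Finset (Fin n)) :
    (Submodule.span B (⋃ J ∈ I.powerset, Set.range (fun k : Fin m =>
        (∏ i ∈ I \ J, t i) • LogConn.compProd nabla ω J (e k)))).restrictScalars A =
      LogConn.piece nabla ω t I := by
  have S := Groth.Agent.Lib.helper25.LogC.sys_of lam t bΩ hbΩ ω ι hι nabla hc
  have := S.gB_eq_pc he I
  rw [Groth.Agent.Lib.helper25.LogC.piece_eq, ← this]
  unfold Groth.Agent.Lib.helper25.LogC.gB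
  rw [← aux_set t (fun J => Groth.Agent.Lib.helper25.LogC.cP (LogConn.comp nabla ω) J) e I]
  rfl


end Groth.Agent.S16795
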