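import Groth.Statements.S1683
import Mathlib
import Groth.Agent.Lib.helper22.BlowUpU
import Groth.Agent.Lib.helper22.BlowUpMul

set_option autoImplicit false
universe u
open CategoryTheory CategoryTheory.Limits AlgebraicGeometry TopologicalSpace
open SDiv

namespace Groth.Agent.S1683

section Helpers

open Groth.Agent.H22.BlowUpU Groth.Agent.H22.BlowUpMul

theorem mul_comm' {X : Scheme.{u}} (𝓘 𝓙 : X.IdealSheafData) : 𝓘 * 𝓙 = 𝓙 * 𝓘 := by
  ext U : 2
  simp only [Scheme.IdealSheafData.ideal_mul, Pi.mul_apply]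
  exact mul_comm _ _

theorem main {X X' X'' : Scheme.{u}} (𝓘 𝓙 : X.IdealSheafData) (b : X' ⟶ X)
    (hb : BlowUp.IsBlowUp b 𝓘) (b' : X'' ⟶ X') (hb' : BlowUp.IsBlowUp b' (𝓙.comap b)) :
    BlowUp.IsBlowUp (b' ≫ b) (𝓘 * 𝓙) := by
  refine ⟨?_, ?_⟩
  · rw [Scheme.IdealSheafData.comap_comp, comap_mul, comap_mul]
    exact effCartier_mul _ _ (effCartier_comap_of_isBlowUp _ b' hb' _ hb.1) hb'.1
  · intro Y g hg
    rw [comap_mul] at hg
    have h1 : BlowUp.IsEffCartierIdeal (𝓘.comap g) := effCartier_of_mul _ _ hg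
    have h2 : BlowUp.IsEffCartierIdeal (𝓙.comap g) := by
      rw [mul_comm'] at hg
      exact effCartier_of_mul _ _ hg
    obtain ⟨h, hh, huniq⟩ := hb.2 Y g h1
    have h3 : BlowUp.IsEffCartierIdeal ((𝓙.comap b).comap h) := by
      rw [← Scheme.IdealSheafData.comap_comp, hh]; exact h2
    obtain ⟨h', hh', huniq'⟩ := hb'.2 Y h h3
    refine ⟨h', ?_, ?_⟩
    · show h' ≫ b' ≫ b = g
      rw [← Category.assoc, hh', hh]
    · intro k hk
      have hk' : k ≫ b' ≫ b = g := hk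
      apply huniq'
      apply huniq
      show (k ≫ b') ≫ b = g
      rw [Category.assoc, hk']

end Helpers

/-- Let 𝓘, 𝓙 be quasi-coherent ideal sheaves on X, b : X' ⟶ X a blowing-up along 𝓘 and b' : X'' ⟶ X' a
blowing-up along the inverse image ideal of 𝓙. Then b' ≫ b : X'' ⟶ X is a blowing-up of X along the
product ideal 𝓘𝓙. -/
theorem result {X X' X'' : Scheme.{u}} (𝓘 𝓙 : X.IdealSheafData) (b : X' ⟶ X) (hb : BlowUp.IsBlowUp b 𝓘)
    (b' : X'' ⟶ X') (hb' : BlowUp.IsBlowUp b' (𝓙.comap b)) : BlowUp.IsBlowUp (b' ≫ b) (𝓘 * 𝓙) := by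
  exact main 𝓘 𝓙 b hb b' hb'

end Groth.Agent.S1683
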