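import Groth.Statements.S16836
import Mathlib

set_option autoImplicit false
universe u v
open scoped Classical
open AbVar

namespace Groth.Agent.S16836
open scoped Classical
open Polynomial UniqueFactorizationMonoid

section helpers



/-- the bilinear count -/
noncomputable def rr {F : Type*} [Field F] (A B : Multiset F[X]) : ℕ :=
  (A.map fun a => B.count a * a.natDegree).sum

theorem rr_eq {F : Type*} [Field F] (A B : Multiset F[X]) :
    ∑ P ∈ A.toFinset, A.count P * B.count P * P.natDegree = rr A B := by
  unfold rr
  rw [Finset.sum_multiset_map_count]
  refine Finset.sum_congr rfl fun P _ => ?_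
  rw [smul_eq_mul, mul_assoc]

theorem rr_bind_left {F G : Type*} [Field F] [Field G] (s : Multiset G[X])
    (Fm : G[X] → Multiset F[X]) (B : Multiset F[X]) :
    rr (s.bind Fm) B = (s.map fun P => rr (Fm P) B).sum := by
  unfold rr
  rw [Multiset.map_bind, Multiset.sum_bind]

theorem rr_bind_right {F G : Type*} [Field F] [Field G] (s : Multiset G[X])
    (Fm : G[X] → Multiset F[X]) (A : Multiset F[X]) :
    rr A (s.bind Fm) = (s.map fun Q => rr A (Fm Q)).sum := by
  unfold rr
  simp only [Multiset.count_bind]
  rw [← Multiset.sum_map_sum_map]
  refine congrArg _ (Multiset.map_congr rfl fun a _ => ?_)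
  rw [Multiset.sum_map_mul_right]

theorem sum_ite_eq_count {α : Type*} [DecidableEq α] (s : Multiset α) (P : α) (c : ℕ) :
    (s.map fun Q => if P = Q then c else 0).sum = s.count P * c := by
  induction s using Multiset.induction_on with
  | empty => simp
  | cons a s ih =>
    rw [Multiset.map_cons, Multiset.sum_cons, ih, Multiset.count_cons]
    by_cases h : P = a
    · simp [h]; ring
    · simp [h]

section
variable {K : Type u} {L : Type v} [Field K] [PerfectField K] [Field L] [Algebra K L]

theorem monic_of_mem {F : Type*} [Field F] {f P : F[X]} (hP : P ∈ normalizedFactors f) :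
    P.Monic := by
  have h1 := normalize_normalized_factor P hP
  have h2 : P ≠ 0 := (irreducible_of_normalized_factor P hP).ne_zero
  rw [← h1]
  exact Polynomial.monic_normalize h2

theorem nf_map (f : K[X]) (hf : f ≠ 0) :
    normalizedFactors (f.map (algebraMap K L)) =
      (normalizedFactors f).bind fun P => normalizedFactors (P.map (algebraMap K L)) := by
  have h1 : Associated (normalizedFactors f).prod f := prod_normalizedFactors hf
  have h2 : Associated ((normalizedFactors f).prod.map (algebraMap K L))
      (f.map (algebraMap K L)) := h1.map (Polynomial.mapRingHom (algebraMap K L))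
  have h3 : (normalizedFactors f).prod.map (algebraMap K L) =
      ((normalizedFactors f).map (Polynomial.map (algebraMap K L))).prod := by
    have := map_multiset_prod (Polynomial.mapRingHom (algebraMap K L)) (normalizedFactors f)
    simpa using this
  have hinj : Function.Injective (algebraMap K L) := (algebraMap K L).injective
  have hf' : f.map (algebraMap K L) ≠ 0 := (Polynomial.map_ne_zero_iff hinj).2 hf
  have h0 : (0 : L[X]) ∉ (normalizedFactors f).map (Polynomial.map (algebraMap K L)) := by
    intro h
    obtain ⟨P, hP, hP0⟩ := Multiset.mem_map.1 h
    have : P = 0 := by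
      rwa [Polynomial.map_eq_zero_iff hinj] at hP0
    exact (irreducible_of_normalized_factor P hP).ne_zero this
  have hne : ((normalizedFactors f).map (Polynomial.map (algebraMap K L))).prod ≠ 0 :=
    Multiset.prod_ne_zero h0
  rw [h3] at h2
  rw [← (associated_iff_normalizedFactors_eq_normalizedFactors hne hf').1 h2,
    normalizedFactors_multiset_prod _ h0, Multiset.map_map]
  rfl

theorem nf_nodup {P : K[X]} (hP : Irreducible P) :
    (normalizedFactors (P.map (algebraMap K L))).Nodup := by
  have hinj : Function.Injective (algebraMap K L) := (algebraMap K L).injective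
  have hsep : (P.map (algebraMap K L)).Separable :=
    (PerfectField.separable_of_irreducible hP).map
  exact (squarefree_iff_nodup_normalizedFactors
    ((Polynomial.map_ne_zero_iff hinj).2 hP.ne_zero)).1 hsep.squarefree

theorem nf_deg {P : K[X]} (hP : Irreducible P) :
    ((normalizedFactors (P.map (algebraMap K L))).map natDegree).sum = P.natDegree := by
  have hinj : Function.Injective (algebraMap K L) := (algebraMap K L).injective
  have h0 : P.map (algebraMap K L) ≠ 0 := (Polynomial.map_ne_zero_iff hinj).2 hP.ne_zero
  have h1 : Associated (normalizedFactors (P.map (algebraMap K L))).prod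
      (P.map (algebraMap K L)) := prod_normalizedFactors h0
  have h2 := Polynomial.degree_eq_degree_of_associated h1
  have h3 : (normalizedFactors (P.map (algebraMap K L))).prod.natDegree
      = (P.map (algebraMap K L)).natDegree := Polynomial.natDegree_eq_of_degree_eq h2
  rw [Polynomial.natDegree_map] at h3
  rw [← h3, Polynomial.natDegree_multiset_prod]
  intro h
  exact (irreducible_of_normalized_factor 0 h).ne_zero rfl

theorem nf_disj {P Q : K[X]} (hP : Irreducible P) (hQ : Irreducible Q) (hPm : P.Monic)
    (hQm : Q.Monic) (hne : P ≠ Q) (a : L[X])
    (ha : a ∈ normalizedFactors (P.map (algebraMap K L))) :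
    (normalizedFactors (Q.map (algebraMap K L))).count a = 0 := by
  rw [Multiset.count_eq_zero]
  intro ha'
  have hcop : IsCoprime P Q := by
    rw [hP.coprime_iff_not_dvd]
    intro hdvd
    exact hne (Polynomial.eq_of_monic_of_associated hPm hQm (hP.associated_of_dvd hQ hdvd))
  have hcop' : IsCoprime (P.map (algebraMap K L)) (Q.map (algebraMap K L)) :=
    hcop.map (Polynomial.mapRingHom (algebraMap K L))
  have hu : IsUnit a := hcop'.isUnit_of_dvd' (dvd_of_mem_normalizedFactors ha)
    (dvd_of_mem_normalizedFactors ha')
  exact (irreducible_of_normalized_factor a ha).not_isUnit hu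

theorem rr_FF {P Q : K[X]} (hP : Irreducible P) (hQ : Irreducible Q) (hPm : P.Monic)
    (hQm : Q.Monic) :
    rr (normalizedFactors (P.map (algebraMap K L))) (normalizedFactors (Q.map (algebraMap K L)))
      = if P = Q then P.natDegree else 0 := by
  by_cases h : P = Q
  · subst h
    rw [if_pos rfl]
    unfold rr
    rw [← nf_deg (L := L) hP]
    refine congrArg _ (Multiset.map_congr rfl fun a ha => ?_)
    rw [Multiset.count_eq_one_of_mem (nf_nodup hP) ha, one_mul]
  · rw [if_neg h]
    unfold rr
    refine Multiset.sum_eq_zero fun x hx => ?_
    obtain ⟨a, ha, rfl⟩ := Multiset.mem_map.1 hx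
    rw [nf_disj hP hQ hPm hQm h a ha, zero_mul]

end



end helpers

open Polynomial UniqueFactorizationMonoid in
/-- Let K ⊆ L be a field extension and f₁, f₂ non-zero polynomials in K[t]. For a field F and
polynomials g₁, g₂ over F put r_F(g₁, g₂) = Σ_P mult_P(g₁) · mult_P(g₂) · deg P, the sum running
over the monic irreducible polynomials P in F[t] (mult_P the multiplicity of P as an irreducible
factor). Assume K is perfect. Then r_K(f₁, f₂) = r_L(f₁, f₂): the number does not depend on the
field over which the factorisations are taken. (Perfectness of K cannot be dropped: for K = F_p(s),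
L = K(s^{1/p}) and f₁ = f₂ = t^p − s the number is p over K and p² over L, since the irreducible t^p
− s becomes a p-th power over L; the published statement has no restriction on K, and its proof
requires the relevant K[t]-modules to remain semisimple after base change, which holds when every
irreducible factor stays squarefree over L, in particular for K perfect.) -/
theorem result (K : Type u) (L : Type v) [Field K] [PerfectField K] [Field L] [Algebra K L]
    (f₁ f₂ : K[X]) (h₁ : f₁ ≠ 0) (h₂ : f₂ ≠ 0) :
    ∑ P ∈ (normalizedFactors (f₁.map (algebraMap K L))).toFinset,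
        (normalizedFactors (f₁.map (algebraMap K L))).count P *
          (normalizedFactors (f₂.map (algebraMap K L))).count P * P.natDegree =
      ∑ P ∈ (normalizedFactors f₁).toFinset,
        (normalizedFactors f₁).count P * (normalizedFactors f₂).count P * P.natDegree := by
  rw [rr_eq, rr_eq, nf_map f₁ h₁, nf_map f₂ h₂, rr_bind_left]
  unfold rr
  refine congrArg _ (Multiset.map_congr rfl fun P hP => ?_)
  have hPi := irreducible_of_normalized_factor P hP
  have hPm := monic_of_mem hP
  change rr _ _ = _
  rw [rr_bind_right]
  refine Eq.trans ?_ (sum_ite_eq_count (normalizedFactors f₂) P P.natDegree)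
  refine congrArg _ (Multiset.map_congr rfl fun Q hQ => ?_)
  exact rr_FF hPi (irreducible_of_normalized_factor Q hQ) hPm (monic_of_mem hQ)

end Groth.Agent.S16836
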