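import Groth.Statements.S1688
import Groth.Agent.Lib.helper9.LocFree3

set_option autoImplicit false
universe u
open CategoryTheory CategoryTheory.Limits AlgebraicGeometry TopologicalSpace
open SDiv

namespace Groth.Agent.S1688

open CategoryTheory CategoryTheory.Limits AlgebraicGeometry in
set_option backward.isDefEq.respectTransparency false in
lemma main (X : Scheme.{u}) [IsIntegral X] [IsLocallyNoetherian X]
    (hreg : ∀ x : ↥X, IsRegularLocalRing (X.presheaf.stalk x))
    (hdim : topologicalKrullDim ↥X ≤ 1) (F : X.Modules) (hF : Coh.IsCoh F) :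
    (∀ x : ↥X, NoZeroSMulDivisors (X.presheaf.stalk x) (F.presheaf.stalk x)) ↔
      FlatMod.IsFinLocFree F := by
  obtain ⟨hq, hft⟩ := hF
  haveI : F.IsQuasicoherent := hq
  haveI : SheafOfModules.IsFiniteType.{u} F := hft
  haveI hfp : SheafOfModules.IsFinitePresentation.{u} F :=
    Groth.Agent.Lib.helper9.FPLocal.isFinitePresentation_of_isCoh F
  constructor
  · intro htf x
    haveI := hreg x
    have hd : ringKrullDim (X.presheaf.stalk x) ≤ 1 :=
      (Groth.Agent.Lib.helper9.LocFree.ringKrullDim_stalk_le_topologicalKrullDim X x).trans hdim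
    haveI : IsPrincipalIdealRing (X.presheaf.stalk x) :=
      Groth.Agent.Lib.helper9.LocFree.isPrincipalIdealRing_of_regular_dim_le_one _ hd
    haveI := htf x
    exact Groth.Agent.Lib.helper9.LocFree.exists_nhd_of_torsionFree_pid F x inferInstance
  · intro h x
    obtain ⟨V, n, hxV, ⟨i⟩⟩ := h x
    haveI := Groth.Agent.Lib.helper9.LocFree.free_stalk_of_restrict_iso F n i x hxV
    exact ⟨fun h => smul_eq_zero.mp h⟩


/-- Let X be a locally Noetherian integral scheme of dimension at most 1 all of whose local rings are
regular, and F a coherent module on X. Then F is torsion free (every stalk is a torsion-free module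
over the local ring) if and only if F is finite locally free. -/
theorem result (X : Scheme.{u}) [IsIntegral X] [IsLocallyNoetherian X] (hreg : ∀ x : ↥X, IsRegularLocalRing (X.presheaf.stalk x))
    (hdim : topologicalKrullDim ↥X ≤ 1) (F : X.Modules) (hF : Coh.IsCoh F) :
    (∀ x : ↥X, NoZeroSMulDivisors (X.presheaf.stalk x) (F.presheaf.stalk x)) ↔ FlatMod.IsFinLocFree F := by
  exact main X hreg hdim F hF

end Groth.Agent.S1688
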