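import Groth.Agent.Lib.helper10.GerbLib
import Groth.Agent.Lib.helper10.StkEquiv
import Groth.Agent.Lib.helper10.DiagRepr
import Groth.Agent.Lib.helper10.EquivComp
import Groth.Statements.S16885

set_option autoImplicit false
open CategoryTheory
universe v u
open Gerb

namespace Groth.Agent.S16885

open Groth.Agent.Lib.helper10 in
theorem gerbeOver_toSelf_of_equiv {C : Type u} [Category.{v} C] (J : GrothendieckTopology C)
    {𝒮₁ 𝒮₂ : BasedCategory.{v, max u v} C} (G : 𝒮₂ ⥤ᵇ 𝒮₁) (hG : FibCat.IsEquivOver G)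
    (h : Gerb.IsGerbeOver J (FibCat.toSelf 𝒮₁)) : Gerb.IsGerbeOver J (FibCat.toSelf 𝒮₂) :=
  GerbLib.of_iso J (DiagRepr.selfIso _ _) (GerbLib.precomp_equiv J G (FibCat.toSelf 𝒮₁) hG h)


/-- Let `𝒮₁`, `𝒮₂` be categories over `C` and `F : 𝒮₁ ⟶ 𝒮₂` a functor over `C` which is an equivalence
in the 2-category of categories over `C`. Then, for a topology `J` on `C`, `𝒮₁` is a gerbe over the
site `(C, J)` if and only if `𝒮₂` is. -/
theorem result {C : Type u} [Category.{v} C] (J : GrothendieckTopology C)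
    {𝒮₁ 𝒮₂ : BasedCategory.{v, max u v} C} (F : 𝒮₁ ⥤ᵇ 𝒮₂) (hF : FibCat.IsEquivOver F) :
    Gerb.IsGerbe J 𝒮₁ ↔ Gerb.IsGerbe J 𝒮₂ := by
  obtain ⟨G, hG⟩ := Groth.Agent.Lib.helper10.EquivComp.symm F hF
  constructor
  · rintro ⟨h1, h2⟩
    exact ⟨(Groth.Agent.Lib.helper10.StkEquiv.isStack_iff F hF J).mp h1,
      gerbeOver_toSelf_of_equiv J G hG h2⟩
  · rintro ⟨h1, h2⟩
    exact ⟨(Groth.Agent.Lib.helper10.StkEquiv.isStack_iff F hF J).mpr h1,
      gerbeOver_toSelf_of_equiv J F hF h2⟩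

end Groth.Agent.S16885
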