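import Groth.Statements.S1693
import Mathlib
-- import your own Groth.Agent.* helpers here

set_option autoImplicit false
universe u
open CategoryTheory CategoryTheory.Limits AlgebraicGeometry TopologicalSpace
open SDiv

namespace Groth.Agent.S1693

open TopologicalSpace in
/-- Components meeting a Noetherian open are finite in number. -/
theorem finite_components_meeting {W : Type u} [TopologicalSpace W] (V : Set W) (hV : IsOpen V)
    [NoetherianSpace V] : {T ∈ irreducibleComponents W | (T ∩ V).Nonempty}.Finite := by
  have hemb : Topology.IsOpenEmbedding (Subtype.val : V → W) := hV.isOpenEmbedding_subtypeVal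
  have hfin : (irreducibleComponents V).Finite := NoetherianSpace.finite_irreducibleComponents
  refine Set.Finite.of_finite_image (f := fun T : Set W ↦ (Subtype.val ⁻¹' T : Set V)) ?_ ?_
  · refine hfin.subset ?_
    rintro _ ⟨T, ⟨hT, hne⟩, rfl⟩
    exact preimage_mem_irreducibleComponents hT hemb (by simpa using hne)
  · rintro T₁ ⟨hT₁, hne₁⟩ T₂ ⟨hT₂, hne₂⟩ h12
    have key : ∀ T ∈ irreducibleComponents W, (T ∩ V).Nonempty →
        closure (Subtype.val '' (Subtype.val ⁻¹' T : Set V)) = T := by
      intro T hT hne
      apply closure_image_preimage_of_isPreirreducible _ hemb.isOpenMap T _ hT.1.2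
        (isClosed_of_mem_irreducibleComponents T hT)
      obtain ⟨w, hwT, hwV⟩ := hne
      exact ⟨⟨w, hwV⟩, hwT⟩
    simp only at h12
    rw [← key T₁ hT₁ hne₁, ← key T₂ hT₂ hne₂, h12]

/-- Let X be a locally Noetherian scheme and Z a closed subset. Then the irreducible components of Z
form a locally finite family of subsets of X. -/
theorem result (X : Scheme.{u}) [IsLocallyNoetherian X] (Z : Set ↥X) (hZ : IsClosed Z) :
    LocallyFinite (fun T : ↥(irreducibleComponents ↥Z) => ((↑) '' (T.1 : Set ↥Z) : Set ↥X)) := by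
  intro x
  obtain ⟨_, ⟨U, hU, rfl⟩, hxU, -⟩ :=
    X.isBasis_affineOpens.exists_subset_of_mem_open (Set.mem_univ x) isOpen_univ
  have hring : IsNoetherianRing Γ(X, U) := IsLocallyNoetherian.component_noetherian ⟨U, hU⟩
  have hnoeth : TopologicalSpace.NoetherianSpace U :=
    noetherianSpace_of_isAffineOpen U hU
  refine ⟨U, U.isOpen.mem_nhds hxU, ?_⟩
  -- V := Z ∩ U as an open of Z
  let V : Set ↥Z := Subtype.val ⁻¹' (U : Set ↥X)
  have hVo : IsOpen V := U.isOpen.preimage continuous_subtype_val
  have hVn : TopologicalSpace.NoetherianSpace V := by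
    have hind : Topology.IsInducing (fun v : V ↦ (⟨v.1.1, v.2⟩ : U)) := by
      have h1 : Topology.IsInducing (fun v : V ↦ (v.1.1 : X)) :=
        Topology.IsInducing.subtypeVal.comp Topology.IsInducing.subtypeVal
      exact Topology.IsInducing.of_comp (continuous_induced_rng.mpr h1.continuous)
        continuous_subtype_val h1
    exact @Topology.IsInducing.noetherianSpace _ _ _ _ hnoeth _ hind
  have hfin := finite_components_meeting V hVo
  have : {T : ↥(irreducibleComponents ↥Z) | (((↑) '' (T.1 : Set ↥Z) : Set ↥X) ∩ U).Nonempty} ⊆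
      Subtype.val ⁻¹' {T ∈ irreducibleComponents ↥Z | (T ∩ V).Nonempty} := by
    rintro ⟨T, hT⟩ ⟨y, ⟨z, hzT, rfl⟩, hyU⟩
    exact ⟨hT, z, hzT, hyU⟩
  exact (hfin.preimage Subtype.val_injective.injOn).subset this

end Groth.Agent.S1693
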