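import Groth.Statements.S1695
import Mathlib
import Groth.Agent.Lib.helper22.BlowUpU
import Groth.Agent.Lib.helper22.BlowUpAff
import Groth.Agent.Lib.helper22.BlowUpChart

set_option autoImplicit false
universe u
open CategoryTheory CategoryTheory.Limits AlgebraicGeometry TopologicalSpace
open SDiv

namespace Groth.Agent.S1695

section Helpers

open Groth.Agent.H22.CartierFlat Groth.Agent.H22.BlowUpU TopologicalSpace

variable {A : Type u} [CommRing A] {X' : Scheme.{u}}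

/-- ring map `A → Γ(X', O)` induced by `b`. -/
noncomputable def gam (b : X' ⟶ Spec (CommRingCat.of A)) (O : X'.Opens) : A →+* Γ(X', O) :=
  ((Scheme.ΓSpecIso (CommRingCat.of A)).inv ≫ b.appTop ≫
    X'.presheaf.map (homOfLE (le_top : O ≤ ⊤)).op).hom

lemma gam_res (b : X' ⟶ Spec (CommRingCat.of A)) {O O' : X'.Opens} (h : O' ≤ O) (x : A) :
    (X'.presheaf.map (homOfLE h).op).hom (gam b O x) = gam b O' x := by
  unfold gam
  simp only [CommRingCat.hom_comp, RingHom.comp_apply]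
  exact map_map_apply _ _ _ _

lemma ideal_eq (b : X' ⟶ Spec (CommRingCat.of A)) (I : Ideal A) (W : X'.affineOpens) :
    ((Curv2.idealSheaf A I).comap b).ideal W = I.map (gam b W.1) :=
  comap_idealSheaf_ideal A I b W

/-- on `V`, the element `a` generates the inverse image ideal and is a nonzerodivisor. -/
def Good (b : X' ⟶ Spec (CommRingCat.of A)) (I : Ideal A) (a : A) (V : X'.affineOpens) : Prop :=
  gam b V.1 a ∈ nonZeroDivisors Γ(X', V.1) ∧ I.map (gam b V.1) = Ideal.span {gam b V.1 a}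

/-- the open where `a` generates the exceptional ideal. -/
noncomputable def G (b : X' ⟶ Spec (CommRingCat.of A)) (I : Ideal A) (a : A) : X'.Opens :=
  ⨆ V : {V : X'.affineOpens // Good b I a V}, V.1.1

lemma good_basicOpen (b : X' ⟶ Spec (CommRingCat.of A)) (I : Ideal A) (a : A)
    (W : X'.affineOpens) (t u : Γ(X', W.1)) (ht : t ∈ nonZeroDivisors Γ(X', W.1))
    (hI : I.map (gam b W.1) = Ideal.span {t}) (hau : gam b W.1 a = t * u) :
    Good b I a (X'.affineBasicOpen u) := by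
  have hVW : X'.affineBasicOpen u ≤ W := X'.affineBasicOpen_le u
  obtain ⟨h1, h2⟩ := cartier_restrict_basicOpen ((Curv2.idealSheaf A I).comap b)
    (W := X'.affineBasicOpen u) hVW u rfl t ht (by rw [ideal_eq]; exact hI)
  rw [ideal_eq] at h2
  have hu : IsUnit ((X'.presheaf.map (homOfLE (show (X'.affineBasicOpen u).1 ≤ W.1 from hVW)).op).hom u) :=
    X'.toRingedSpace.isUnit_res_basicOpen u
  have hga : gam b (X'.affineBasicOpen u).1 a =
      (X'.presheaf.map (homOfLE (show (X'.affineBasicOpen u).1 ≤ W.1 from hVW)).op).hom t *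
      (X'.presheaf.map (homOfLE (show (X'.affineBasicOpen u).1 ≤ W.1 from hVW)).op).hom u := by
    rw [← gam_res b (show (X'.affineBasicOpen u).1 ≤ W.1 from hVW), hau, map_mul]
  refine ⟨?_, ?_⟩
  · rw [hga]
    exact mul_mem h1 hu.mem_nonZeroDivisors
  · rw [h2, hga, Ideal.span_singleton_mul_right_unit hu]

lemma exists_mem_G (b : X' ⟶ Spec (CommRingCat.of A)) (I : Ideal A)
    (hE : BlowUp.IsEffCartierIdeal ((Curv2.idealSheaf A I).comap b)) (x' : X') :
    ∃ a ∈ I, x' ∈ G b I a := by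
  obtain ⟨W, hxW, t, ht, hI⟩ := hE x'
  rw [ideal_eq] at hI
  set q := W.2.primeIdealOf ⟨x', hxW⟩ with hq
  haveI : q.asIdeal.IsPrime := q.2
  by_contra hcon
  push Not at hcon
  have hall : ∀ a ∈ I, ∀ u : Γ(X', W.1), gam b W.1 a = t * u → u ∈ q.asIdeal := by
    intro a ha u hau
    by_contra hu
    apply hcon a ha
    have hxu : x' ∈ X'.basicOpen u := by
      have h1 : W.2.fromSpec q = x' := W.2.fromSpec_primeIdealOf ⟨x', hxW⟩
      have h2 : q ∈ W.2.fromSpec ⁻¹ᵁ X'.basicOpen u := by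
        rw [W.2.fromSpec_preimage_basicOpen]; exact hu
      rw [← h1]; exact h2
    exact Opens.mem_iSup.mpr ⟨⟨X'.affineBasicOpen u, good_basicOpen b I a W t u ht hI hau⟩, hxu⟩
  have hle : I.map (gam b W.1) ≤ Ideal.span {t} * q.asIdeal := by
    rw [Ideal.map_le_iff_le_comap]
    intro a ha
    rw [Ideal.mem_comap]
    have h1 : gam b W.1 a ∈ Ideal.span {t} := hI ▸ Ideal.mem_map_of_mem _ ha
    obtain ⟨u, hu⟩ := Ideal.mem_span_singleton'.mp h1
    have hau : gam b W.1 a = t * u := by rw [← hu, mul_comm]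
    rw [hau]
    exact Ideal.mul_mem_mul (Ideal.mem_span_singleton_self t) (hall a ha u hau)
  have ht' : t ∈ Ideal.span {t} * q.asIdeal := hle (hI ▸ Ideal.mem_span_singleton_self t)
  obtain ⟨z, hz, hzt⟩ := Ideal.mem_span_singleton_mul.mp ht'
  have h1 : (z - 1) * t = 0 := by rw [sub_mul, one_mul, mul_comm, hzt, sub_self]
  have h2 : z = 1 := sub_eq_zero.mp ((mem_nonZeroDivisors_iff_right.mp ht) _ h1)
  rw [h2] at hz
  exact (Ideal.ne_top_iff_one _).mp (Ideal.IsPrime.ne_top inferInstance) hz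

lemma gam_G_regular (b : X' ⟶ Spec (CommRingCat.of A)) (I : Ideal A) (a : A) :
    gam b (G b I a) a ∈ Mero.regSub X' (G b I a) := by
  rintro ⟨w, hw⟩
  obtain ⟨⟨V, hV⟩, hwV⟩ := Opens.mem_iSup.mp hw
  have hVG : V.1 ≤ G b I a :=
    le_iSup (fun V : {V : X'.affineOpens // Good b I a V} => V.1.1) ⟨V, hV⟩
  have h1 := regSub_of_nzd_affine V.2 _ hV.1 ⟨w, hwV⟩
  have h2 := TopCat.Presheaf.germ_res_apply X'.presheaf (homOfLE hVG) w hwV (gam b (G b I a) a)
  rw [← h2]
  have h3 : (X'.presheaf.map (homOfLE hVG).op).hom (gam b (G b I a) a) = gam b V.1 a :=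
    gam_res b hVG a
  show X'.presheaf.germ V.1 w hwV ((X'.presheaf.map (homOfLE hVG).op).hom (gam b (G b I a) a)) ∈ _
  rw [h3]
  exact h1

lemma gam_G_div (b : X' ⟶ Spec (CommRingCat.of A)) (I : Ideal A) (a : A) (x : A) (hx : x ∈ I) :
    ∃ c : Γ(X', G b I a), gam b (G b I a) a * c = gam b (G b I a) x := by
  apply exists_div_of_locally' (G b I a) _ (gam_G_regular b I a)
  intro w hw
  obtain ⟨⟨V, hV⟩, hwV⟩ := Opens.mem_iSup.mp hw
  have hVG : V.1 ≤ G b I a :=
    le_iSup (fun V : {V : X'.affineOpens // Good b I a V} => V.1.1) ⟨V, hV⟩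
  have h1 : gam b V.1 x ∈ Ideal.span {gam b V.1 a} := hV.2 ▸ Ideal.mem_map_of_mem _ hx
  obtain ⟨c, hc⟩ := Ideal.mem_span_singleton'.mp h1
  refine ⟨V.1, hVG, hwV, c, ?_⟩
  have e1 : (X'.presheaf.map (homOfLE hVG).op).hom (gam b (G b I a) a) = gam b V.1 a :=
    gam_res b hVG a
  have e2 : (X'.presheaf.map (homOfLE hVG).op).hom (gam b (G b I a) x) = gam b V.1 x :=
    gam_res b hVG x
  show (X'.presheaf.map (homOfLE hVG).op).hom (gam b (G b I a) a) * c =
    (X'.presheaf.map (homOfLE hVG).op).hom (gam b (G b I a) x)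
  rw [e1, e2, mul_comm]
  exact hc


lemma map_mem_G (b : X' ⟶ Spec (CommRingCat.of A)) (I : Ideal A) (a : A) (ha : a ∈ I)
    (hE : BlowUp.IsEffCartierIdeal ((Curv2.idealSheaf A I).comap b))
    (h : Spec (CommRingCat.of ↥(BlowUp.affineAlgebra A I a)) ⟶ X')
    (hh : h ≫ b = Spec.map (CommRingCat.ofHom (algebraMap A ↥(BlowUp.affineAlgebra A I a))))
    (z : Spec (CommRingCat.of ↥(BlowUp.affineAlgebra A I a))) : h z ∈ G b I a := by
  obtain ⟨W₁, hwW₁, t₁, ht₁, hI₁⟩ := hE (h z)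
  rw [ideal_eq] at hI₁
  have h1 : gam b W₁.1 a ∈ Ideal.span {t₁} := hI₁ ▸ Ideal.mem_map_of_mem _ ha
  obtain ⟨u₁, hu₁⟩ := Ideal.mem_span_singleton'.mp h1
  have hau : gam b W₁.1 a = t₁ * u₁ := by rw [← hu₁, mul_comm]
  suffices hsuff : h z ∈ X'.basicOpen u₁ from
    Opens.mem_iSup.mpr ⟨⟨X'.affineBasicOpen u₁, good_basicOpen b I a W₁ t₁ u₁ ht₁ hI₁ hau⟩, hsuff⟩
  obtain ⟨_, ⟨Z, hZ, rfl⟩, hzZ, hZW : Z ≤ h ⁻¹ᵁ W₁.1⟩ :=
    (Spec (CommRingCat.of ↥(BlowUp.affineAlgebra A I a))).isBasis_affineOpens.exists_subset_of_mem_open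
      hwW₁ (h ⁻¹ᵁ W₁.1).isOpen
  set θ := (h.appLE W₁.1 Z hZW).hom with hθ
  set ρ : ↥(BlowUp.affineAlgebra A I a) →+* Γ((Spec (CommRingCat.of ↥(BlowUp.affineAlgebra A I a))), Z) :=
    ((Scheme.ΓSpecIso (CommRingCat.of ↥(BlowUp.affineAlgebra A I a))).inv ≫
      (Spec (CommRingCat.of ↥(BlowUp.affineAlgebra A I a))).presheaf.map (homOfLE (le_top : Z ≤ ⊤)).op).hom with hρ
  have key : (Scheme.ΓSpecIso (CommRingCat.of A)).inv ≫ b.appTop ≫
      X'.presheaf.map (homOfLE (le_top : W₁.1 ≤ ⊤)).op ≫ h.appLE W₁.1 Z hZW =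
      CommRingCat.ofHom (algebraMap A ↥(BlowUp.affineAlgebra A I a)) ≫
        (Scheme.ΓSpecIso (CommRingCat.of ↥(BlowUp.affineAlgebra A I a))).inv ≫
        (Spec (CommRingCat.of ↥(BlowUp.affineAlgebra A I a))).presheaf.map (homOfLE (le_top : Z ≤ ⊤)).op := by
    rw [Scheme.Hom.map_appLE]
    have e1 : h.appLE ⊤ Z (hZW.trans ((Opens.map h.base).map (homOfLE (le_top : W₁.1 ≤ ⊤))).le) =
        h.appTop ≫ (Spec (CommRingCat.of ↥(BlowUp.affineAlgebra A I a))).presheaf.map (homOfLE (le_top : Z ≤ ⊤)).op := by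
      rw [Scheme.Hom.appLE]; rfl
    rw [e1, ← Category.assoc b.appTop, ← Scheme.Hom.comp_appTop, hh, ← Category.assoc,
      ← Category.assoc, Scheme.ΓSpecIso_inv_naturality]
  have hθγ : ∀ x : A, θ (gam b W₁.1 x) = ρ (algebraMap A ↥(BlowUp.affineAlgebra A I a) x) := by
    intro x
    have := congrArg (fun φ => φ.hom x) key
    exact this
  have hρa : ρ (algebraMap A ↥(BlowUp.affineAlgebra A I a) a) ∈ nonZeroDivisors Γ((Spec (CommRingCat.of ↥(BlowUp.affineAlgebra A I a))), Z) := by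
    have h2 : (Scheme.ΓSpecIso (CommRingCat.of ↥(BlowUp.affineAlgebra A I a))).inv.hom
        (algebraMap A ↥(BlowUp.affineAlgebra A I a) a) ∈ nonZeroDivisors Γ((Spec (CommRingCat.of ↥(BlowUp.affineAlgebra A I a))), ⊤) :=
      nzd_map_of_bijective _ (ConcreteCategory.bijective_of_isIso
        (Scheme.ΓSpecIso (CommRingCat.of ↥(BlowUp.affineAlgebra A I a))).inv) _ (a_nzd A I a)
    have h3 := regSub_of_nzd_affine (isAffineOpen_top (Spec (CommRingCat.of ↥(BlowUp.affineAlgebra A I a)))) _ h2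
    exact nzd_of_regSub _ (Mero.regSub_res (homOfLE (le_top : Z ≤ ⊤)) h3)
  have hθt : θ t₁ ∈ Ideal.span {ρ (algebraMap A ↥(BlowUp.affineAlgebra A I a) a)} := by
    have h2 : t₁ ∈ I.map (gam b W₁.1) := hI₁.symm ▸ Ideal.mem_span_singleton_self t₁
    have h3 : θ t₁ ∈ (I.map (gam b W₁.1)).map θ := Ideal.mem_map_of_mem θ h2
    have h4 : θ.comp (gam b W₁.1) = ρ.comp (algebraMap A ↥(BlowUp.affineAlgebra A I a)) :=
      RingHom.ext hθγ
    rw [Ideal.map_map, h4, ← Ideal.map_map, map_eq_span_a A I a ha, Ideal.map_span,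
      Set.image_singleton] at h3
    exact h3
  obtain ⟨v, hv⟩ := Ideal.mem_span_singleton'.mp hθt
  have hunit : θ u₁ * v = 1 := by
    have h5 : ρ (algebraMap A ↥(BlowUp.affineAlgebra A I a) a) = θ t₁ * θ u₁ := by
      rw [← hθγ, hau, map_mul]
    have h6 : (θ u₁ * v - 1) * ρ (algebraMap A ↥(BlowUp.affineAlgebra A I a) a) = 0 := by
      rw [sub_mul, one_mul]
      nth_rewrite 2 [h5]
      rw [← hv]; ring
    exact sub_eq_zero.mp ((mem_nonZeroDivisors_iff_right.mp hρa) _ h6)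
  have hu : IsUnit (θ u₁) := IsUnit.of_mul_eq_one _ hunit
  have hz : z ∈ (Spec (CommRingCat.of ↥(BlowUp.affineAlgebra A I a))).basicOpen (h.appLE W₁.1 Z hZW u₁) := by
    rw [Scheme.basicOpen_of_isUnit _ hu]; exact hzZ
  rw [Scheme.basicOpen_appLE] at hz
  exact hz.2


theorem main (A : Type u) [CommRing A] (I : Ideal A) {X' : Scheme.{u}}
    (b : X' ⟶ Spec (CommRingCat.of A))
    (hb : BlowUp.IsBlowUp b (Scheme.IdealSheafData.ofIdealTop
      (I.map (Scheme.ΓSpecIso (CommRingCat.of A)).inv.hom))) (x' : ↥X') :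
    ∃ (a : A) (_ : a ∈ I) (V : X'.Opens)
      (e : (V : Scheme.{u}) ≅ Spec (CommRingCat.of ↥(BlowUp.affineAlgebra A I a))),
      x' ∈ V ∧ e.hom ≫ Spec.map (CommRingCat.ofHom (algebraMap A ↥(BlowUp.affineAlgebra A I a))) =
        V.ι ≫ b := by
  have hb' : BlowUp.IsBlowUp b (Curv2.idealSheaf A I) := hb
  obtain ⟨a, ha, hxG⟩ := exists_mem_G b I hb'.1 x'
  refine ⟨a, ha, G b I a, ?_⟩
  -- the ring map C → Γ(X', G)
  letI : Algebra A Γ(X', G b I a) := (gam b (G b I a)).toAlgebra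
  have he : algebraMap A Γ(X', G b I a) a ∈ nonZeroDivisors Γ(X', G b I a) :=
    nzd_of_regSub _ (gam_G_regular b I a)
  obtain ⟨ψ⟩ := exists_algHom A I a (R := Γ(X', G b I a)) he (fun x hx => gam_G_div b I a x hx)
  -- κ : G → Spec C
  let κ : ((G b I a : X'.Opens) : Scheme.{u}) ⟶ Spec (CommRingCat.of ↥(BlowUp.affineAlgebra A I a)) :=
    ((G b I a : X'.Opens) : Scheme.{u}).toSpecΓ ≫
      Spec.map (CommRingCat.ofHom ψ.toRingHom ≫ (G b I a).topIso.inv)
  have hκ : κ ≫ Spec.map (CommRingCat.ofHom (algebraMap A ↥(BlowUp.affineAlgebra A I a))) =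
      (G b I a).ι ≫ b := by
    rw [eq_toSpecΓ_comp ((G b I a).ι ≫ b)]
    show (((G b I a : X'.Opens) : Scheme.{u}).toSpecΓ ≫
      Spec.map (CommRingCat.ofHom ψ.toRingHom ≫ (G b I a).topIso.inv)) ≫ _ = _
    rw [Category.assoc, ← Spec.map_comp]
    congr 2
    have h1 : CommRingCat.ofHom (algebraMap A ↥(BlowUp.affineAlgebra A I a)) ≫
        CommRingCat.ofHom ψ.toRingHom = CommRingCat.ofHom (gam b (G b I a)) := by
      rw [← CommRingCat.ofHom_comp]
      congr 1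
      exact ψ.comp_algebraMap
    rw [← Category.assoc, h1, Scheme.Hom.comp_appTop]
    show ((Scheme.ΓSpecIso (CommRingCat.of A)).inv ≫ b.appTop ≫
      X'.presheaf.map (homOfLE (le_top : G b I a ≤ ⊤)).op) ≫ (G b I a).topIso.inv = _
    simp only [Category.assoc]
    congr 2
    rw [Scheme.Opens.ι_appTop, Scheme.Opens.topIso]
    change X'.presheaf.map _ ≫ X'.presheaf.map _ = X'.presheaf.map _
    rw [← X'.presheaf.map_comp]
    rfl
  -- h : Spec C → X'
  have hEC : BlowUp.IsEffCartierIdeal ((Curv2.idealSheaf A I).comap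
      (Spec.map (CommRingCat.ofHom (algebraMap A ↥(BlowUp.affineAlgebra A I a))))) :=
    effCartier_comap_SpecMap A ↥(BlowUp.affineAlgebra A I a) (algebraMap A _) I
      (algebraMap A ↥(BlowUp.affineAlgebra A I a) a) (a_nzd A I a) (map_eq_span_a A I a ha)
  obtain ⟨h, hh, -⟩ := hb'.2 _ _ hEC
  have hh' : h ≫ b = Spec.map (CommRingCat.ofHom (algebraMap A ↥(BlowUp.affineAlgebra A I a))) := hh
  have hrange : ∀ z, h z ∈ G b I a := map_mem_G b I a ha hb'.1 h hh'
  let h' : Spec (CommRingCat.of ↥(BlowUp.affineAlgebra A I a)) ⟶ ((G b I a : X'.Opens) : Scheme.{u}) :=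
    IsOpenImmersion.lift (G b I a).ι h (by
      rintro _ ⟨z, rfl⟩
      rw [Scheme.Opens.range_ι]
      exact hrange z)
  have hh'ι : h' ≫ (G b I a).ι = h := IsOpenImmersion.lift_fac _ _ _
  -- κ ≫ h = ι by uniqueness
  have hκh : κ ≫ h = (G b I a).ι := by
    have hg : BlowUp.IsEffCartierIdeal ((Curv2.idealSheaf A I).comap ((G b I a).ι ≫ b)) := by
      rw [Scheme.IdealSheafData.comap_comp]
      exact effCartier_comap_of_flat (G b I a).ι _ hb'.1
    obtain ⟨k, hk, huniq⟩ := hb'.2 _ ((G b I a).ι ≫ b) hg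
    rw [huniq (κ ≫ h) (by
        show (κ ≫ h) ≫ b = _
        rw [Category.assoc, hh', hκ]), huniq (G b I a).ι rfl]
  -- h' ≫ κ = 𝟙
  have hh'κ : h' ≫ κ = 𝟙 _ := by
    have hk : (h' ≫ κ) ≫ Spec.map (CommRingCat.ofHom (algebraMap A ↥(BlowUp.affineAlgebra A I a))) =
        Spec.map (CommRingCat.ofHom (algebraMap A ↥(BlowUp.affineAlgebra A I a))) := by
      rw [Category.assoc, hκ, ← Category.assoc, hh'ι, hh']
    obtain ⟨ρ, hρ⟩ : ∃ ρ : CommRingCat.of ↥(BlowUp.affineAlgebra A I a) ⟶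
        CommRingCat.of ↥(BlowUp.affineAlgebra A I a), Spec.map ρ = h' ≫ κ :=
      ⟨Spec.preimage (h' ≫ κ), Spec.map_preimage _⟩
    rw [← hρ, ← Spec.map_comp] at hk
    have hk2 := Spec.map_injective hk
    let ρa : ↥(BlowUp.affineAlgebra A I a) →ₐ[A] ↥(BlowUp.affineAlgebra A I a) :=
      { ρ.hom with
        commutes' := fun r => by
          have := congrArg (fun φ => φ.hom r) hk2
          exact this }
    have hρid : ρa = AlgHom.id A _ := algHom_ext_of_nzd A I a ρa (AlgHom.id A _) (a_nzd A I a)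
    have hρ1 : ρ = 𝟙 _ :=
      CommRingCat.hom_ext (RingHom.ext fun r => congrArg
        (fun φ : ↥(BlowUp.affineAlgebra A I a) →ₐ[A] ↥(BlowUp.affineAlgebra A I a) => φ r) hρid)
    rw [← hρ, hρ1, Spec.map_id]
  have hκh' : κ ≫ h' = 𝟙 _ := by
    rw [← cancel_mono (G b I a).ι, Category.assoc, hh'ι, hκh, Category.id_comp]
  exact ⟨⟨κ, h', hκh', hh'κ⟩, hxG, hκ⟩

end Helpers

/-- Let A be a ring, I an ideal, and b : X' ⟶ Spec A a blowing-up of Spec A along the ideal sheaf of I.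
Then every point of X' has an open neighbourhood which is isomorphic, over Spec A, to the spectrum
of an affine blow-up algebra A[I/a] for some a ∈ I. -/
theorem result (A : Type u) [CommRing A] (I : Ideal A) {X' : Scheme.{u}}
    (b : X' ⟶ Spec (CommRingCat.of A)) (hb : BlowUp.IsBlowUp b (Scheme.IdealSheafData.ofIdealTop (I.map (Scheme.ΓSpecIso (CommRingCat.of A)).inv.hom))) (x' : ↥X') :
    ∃ (a : A) (_ : a ∈ I) (V : X'.Opens) (e : (V : Scheme.{u}) ≅ Spec (CommRingCat.of ↥(BlowUp.affineAlgebra A I a))),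
      x' ∈ V ∧ e.hom ≫ Spec.map (CommRingCat.ofHom (algebraMap A ↥(BlowUp.affineAlgebra A I a))) = V.ι ≫ b := by
  exact main A I b hb x'

end Groth.Agent.S1695
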