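import Groth.Statements.S16962
import Mathlib

set_option autoImplicit false
universe u
open ConstAct TensorProduct

namespace Groth.Agent.S16962aux


theorem msa_ext {M : Type*} {A : Type*} [Monoid M] [Semiring A] (a a' : MulSemiringAction M A)
    (h : ∀ (g : M) (b : A), a.smul g b = a'.smul g b) : a = a' := by
  rcases a with @⟨@⟨@⟨@⟨⟨sm⟩, h2⟩, h1⟩, h3, h4⟩, h5, h6⟩
  rcases a' with @⟨@⟨@⟨@⟨⟨sm'⟩, h2'⟩, h1'⟩, h3', h4'⟩, h5', h6'⟩
  have : sm = sm' := by
    funext g b
    exact h g b
  subst this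
  rfl

variable (R : Type u) [CommRing R]
    (B : Type u) [CommRing B] [Algebra R B] (Γ : Type u) [Group Γ] [Fintype Γ] [DecidableEq Γ]

/-- `b ⊗ f ↦ φ f • b` -/
noncomputable def sl (φ : ConstGrp.F R Γ →ₗ[R] R) : B ⊗[R] ConstGrp.F R Γ →ₗ[R] B :=
  (TensorProduct.rid R B).toLinearMap ∘ₗ LinearMap.lTensor B φ

omit [Group Γ] [Fintype Γ] [DecidableEq Γ] in
theorem sl_tmul (φ : ConstGrp.F R Γ →ₗ[R] R) (b : B) (f : ConstGrp.F R Γ) :
    sl R B Γ φ (b ⊗ₜ f) = φ f • b := by
  simp [sl]

/-- evaluation at `g` on the second factor, as an algebra map -/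
noncomputable def slAlg (g : Γ) : B ⊗[R] ConstGrp.F R Γ →ₐ[R] B :=
  Algebra.TensorProduct.lift (AlgHom.id R B) ((Algebra.ofId R B).comp (ConstGrp.ev R g))
    (fun _ _ => Commute.all _ _)

omit [Group Γ] [Fintype Γ] [DecidableEq Γ] in
theorem slAlg_eq (g : Γ) : (slAlg R B Γ g).toLinearMap = sl R B Γ (ConstGrp.ev R g).toLinearMap := by
  apply TensorProduct.ext'
  intro b f
  rw [sl_tmul]
  simp [slAlg, Algebra.ofId_apply, Algebra.smul_def, mul_comm]

omit [Group Γ] in
theorem expand (t : B ⊗[R] ConstGrp.F R Γ) :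
    t = ∑ g : Γ, sl R B Γ (ConstGrp.ev R g).toLinearMap t ⊗ₜ[R] ConstGrp.e R g := by
  induction t using TensorProduct.induction_on with
  | zero => simp
  | tmul b f =>
    simp only [sl_tmul, AlgHom.toLinearMap_apply, ConstGrp.ev_apply]
    conv_lhs => rw [ConstGrp.eq_sum_smul_e f, TensorProduct.tmul_sum]
    refine Finset.sum_congr rfl fun g _ => ?_
    rw [TensorProduct.tmul_smul, TensorProduct.smul_tmul']
  | add x y hx hy =>
    simp only [map_add, TensorProduct.add_tmul, Finset.sum_add_distrib]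
    rw [← hx, ← hy]

/-- `b ⊗ (f ⊗ f') ↦ ψ (f ⊗ f') • b` -/
noncomputable def sl2 (ψ : ConstGrp.F R Γ ⊗[R] ConstGrp.F R Γ →ₗ[R] R) :
    B ⊗[R] (ConstGrp.F R Γ ⊗[R] ConstGrp.F R Γ) →ₗ[R] B :=
  (TensorProduct.rid R B).toLinearMap ∘ₗ LinearMap.lTensor B ψ

/-- `f ⊗ f' ↦ f g * f' h` -/
noncomputable def psi (g h : Γ) : ConstGrp.F R Γ ⊗[R] ConstGrp.F R Γ →ₗ[R] R :=
  (ConstGrp.ev R ((g, h) : Γ × Γ)).toLinearMap ∘ₗ (ConstGrp.pair R Γ).toLinearMap

omit [Group Γ] [Fintype Γ] [DecidableEq Γ] in
theorem psi_tmul (g h : Γ) (u v : ConstGrp.F R Γ) : psi R Γ g h (u ⊗ₜ v) = u g * v h := by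
  simp [psi]

theorem psi_comul (g h : Γ) :
    psi R Γ g h ∘ₗ (Coalgebra.comul (R := R) (A := ConstGrp.F R Γ)) = (ConstGrp.ev R (g * h)).toLinearMap := by
  apply LinearMap.ext
  intro f
  simp only [psi, LinearMap.comp_apply, AlgHom.toLinearMap_apply, ConstGrp.ev_apply]
  exact ConstGrp.pair_comul R Γ f g h

omit [Group Γ] [Fintype Γ] [DecidableEq Γ] in
theorem sl2_assoc (g h : Γ) (s : B ⊗[R] ConstGrp.F R Γ) (f : ConstGrp.F R Γ) :
    sl2 R B Γ (psi R Γ g h) (TensorProduct.assoc R B _ _ (s ⊗ₜ f)) =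
      f h • sl R B Γ (ConstGrp.ev R g).toLinearMap s := by
  induction s using TensorProduct.induction_on with
  | zero => simp
  | tmul b f' =>
    simp only [TensorProduct.assoc_tmul, sl2, LinearMap.comp_apply, LinearMap.lTensor_tmul, psi_tmul,
      LinearEquiv.coe_coe, TensorProduct.rid_tmul, sl_tmul, AlgHom.toLinearMap_apply, ConstGrp.ev_apply]
    rw [smul_smul, mul_comm]
  | add x y hx hy =>
    simp only [TensorProduct.add_tmul, map_add, smul_add, hx, hy]

variable [HopfRep.Comod R (ConstGrp.F R Γ) B]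

theorem sl2_rTensor (g h : Γ) (t : B ⊗[R] ConstGrp.F R Γ) :
    sl2 R B Γ (psi R Γ g h) (TensorProduct.assoc R B _ _
      ((HopfRep.Comod.coact (k := R) (A := ConstGrp.F R Γ) (V := B)).rTensor (ConstGrp.F R Γ) t)) =
    sl R B Γ (ConstGrp.ev R g).toLinearMap (HopfRep.Comod.coact (k := R) (A := ConstGrp.F R Γ) (V := B)
      (sl R B Γ (ConstGrp.ev R h).toLinearMap t)) := by
  induction t using TensorProduct.induction_on with
  | zero => simp
  | tmul b f =>
    rw [LinearMap.rTensor_tmul, sl2_assoc, sl_tmul, map_smul, map_smul]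
    rfl
  | add x y hx hy =>
    simp only [map_add, hx, hy]

/-- the candidate action, as a linear map -/
noncomputable def actLin (g : Γ) : B →ₗ[R] B :=
  sl R B Γ (ConstGrp.ev R g).toLinearMap ∘ₗ HopfRep.Comod.coact (k := R) (A := ConstGrp.F R Γ) (V := B)

theorem actLin_one (b : B) : actLin R B Γ 1 b = b := by
  have h := LinearMap.congr_fun (HopfRep.Comod.counit_comp (k := R) (A := ConstGrp.F R Γ) (V := B)) b
  have hc : (Coalgebra.counit (R := R) (A := ConstGrp.F R Γ)) = (ConstGrp.ev R (1 : Γ)).toLinearMap :=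
    LinearMap.ext fun f => rfl
  have h2 := congrArg (TensorProduct.rid R B) h
  simp only [LinearMap.comp_apply, LinearMap.flip_apply, TensorProduct.mk_apply, TensorProduct.rid_tmul,
    one_smul] at h2
  rw [← hc] at *
  exact h2

theorem actLin_mul (g h : Γ) (b : B) : actLin R B Γ (g * h) b = actLin R B Γ g (actLin R B Γ h b) := by
  have hco := LinearMap.congr_fun (HopfRep.Comod.coassoc (k := R) (A := ConstGrp.F R Γ) (V := B)) b
  have h2 := congrArg (sl2 R B Γ (psi R Γ g h)) hco
  simp only [LinearMap.comp_apply, LinearEquiv.coe_coe] at h2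
  rw [sl2_rTensor] at h2
  simp only [actLin, LinearMap.comp_apply]
  rw [h2, ← psi_comul, sl2, sl, LinearMap.lTensor_comp]
  rfl


variable [GLin.IsCoactAlg R (ConstGrp.F R Γ) B]

/-- the candidate action, as an algebra map -/
noncomputable def actAlg (g : Γ) : B →ₐ[R] B :=
  (slAlg R B Γ g).comp (GLin.coactAlgHom R (ConstGrp.F R Γ) B)

theorem actAlg_apply (g : Γ) (b : B) : actAlg R B Γ g b = actLin R B Γ g b := by
  have := LinearMap.congr_fun (slAlg_eq R B Γ g) (HopfRep.Comod.coact (k := R) (A := ConstGrp.F R Γ) (V := B) b)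
  exact this

/-- the action of `Γ` on `B` attached to the coaction -/
@[instance_reducible] noncomputable def msa : MulSemiringAction Γ B where
  smul g b := actAlg R B Γ g b
  one_smul b := by
    show actAlg R B Γ 1 b = b
    rw [actAlg_apply, actLin_one]
  mul_smul g h b := by
    show actAlg R B Γ (g * h) b = actAlg R B Γ g (actAlg R B Γ h b)
    rw [actAlg_apply, actAlg_apply, actAlg_apply, actLin_mul]
  smul_zero g := map_zero (actAlg R B Γ g)
  smul_add g := map_add (actAlg R B Γ g)
  smul_one g := map_one (actAlg R B Γ g)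
  smul_mul g := map_mul (actAlg R B Γ g)

theorem msa_smul (g : Γ) (b : B) :
    (msa R B Γ).smul g b = actLin R B Γ g b := actAlg_apply R B Γ g b


omit [GLin.IsCoactAlg R (ConstGrp.F R Γ) B] in
theorem smul_eq_of_coact (a' : MulSemiringAction Γ B) (scc : SMulCommClass Γ R B)
    (h : ConstAct.coactLin R B Γ = HopfRep.Comod.coact (k := R) (A := ConstGrp.F R Γ) (V := B))
    (g : Γ) (b : B) : g • b = actLin R B Γ g b := by
  rw [actLin, LinearMap.comp_apply, ← h, coactLin_apply, map_sum]
  simp only [sl_tmul, AlgHom.toLinearMap_apply, ConstGrp.ev_apply]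
  rw [Finset.sum_eq_single g]
  · simp
  · intro k _ hk
    rw [ConstGrp.e_apply_of_ne (Ne.symm hk), zero_smul]
  · intro hh; exact absurd (Finset.mem_univ _) hh

end Groth.Agent.S16962aux

open Groth.Agent.S16962aux

namespace Groth.Agent.S16962

open TensorProduct in
/-- Let R be a commutative ring, Γ a finite group and B a commutative R-algebra equipped with a comodule
structure over the Hopf algebra of R-valued functions on Γ (the coordinate ring of the constant
group scheme of Γ over Spec R, with basis the indicator functions e_γ) whose coaction B → B ⊗ Fun(Γ,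
R) is a homomorphism of algebras, i.e. an action of the constant group scheme on Spec B. Then there
is exactly one action of Γ on B by R-algebra automorphisms whose associated coaction b ↦ Σ_γ (γ · b)
⊗ e_γ is the given coaction; and for that action the ring of invariants of the comodule algebra (the
b whose coaction is b ⊗ 1) equals the ring of elements fixed by Γ. (That the coaction associated
with an action is a comodule algebra structure is the other direction of the published equivalence
and is a construction here.) -/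
theorem result (R : Type u) [CommRing R]
    (B : Type u) [CommRing B] [Algebra R B] (Γ : Type u) [Group Γ] [Fintype Γ] [DecidableEq Γ]
    [HopfRep.Comod R (ConstGrp.F R Γ) B] [GLin.IsCoactAlg R (ConstGrp.F R Γ) B] :
    ∃! a : MulSemiringAction Γ B, ∃ _ : SMulCommClass Γ R B,
      ConstAct.coactLin R B Γ = HopfRep.Comod.coact (k := R) (A := ConstGrp.F R Γ) (V := B) ∧
        GLin.invariants R (ConstGrp.F R Γ) B = ConstAct.inv R B Γ := by
  have hscc : @SMulCommClass Γ R B (msa R B Γ).toSMul _ := by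
    let _ := msa R B Γ
    refine ⟨fun g r b => ?_⟩
    show (msa R B Γ).smul g (r • b) = r • (msa R B Γ).smul g b
    rw [msa_smul, msa_smul, map_smul]
  have hcoact : @ConstAct.coactLin R _ B _ _ Γ _ _ _ (msa R B Γ) hscc =
      HopfRep.Comod.coact (k := R) (A := ConstGrp.F R Γ) (V := B) := by
    let _ := msa R B Γ
    apply LinearMap.ext
    intro b
    rw [coactLin_apply]
    conv_rhs => rw [expand R B Γ (HopfRep.Comod.coact (k := R) (A := ConstGrp.F R Γ) (V := B) b)]
    refine Finset.sum_congr rfl fun g _ => ?_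
    congr 1
    exact msa_smul R B Γ g b
  refine ⟨msa R B Γ, ⟨hscc, hcoact, ?_⟩, ?_⟩
  · let _ := msa R B Γ
    ext f
    rw [GLin.mem_invariants_iff, ConstAct.mem_inv]
    constructor
    · intro hf g
      show (msa R B Γ).smul g f = f
      rw [msa_smul, actLin, LinearMap.comp_apply, hf, sl_tmul]
      simp
    · intro hf
      rw [← hcoact, coactLin_apply]
      simp_rw [hf]
      rw [← TensorProduct.tmul_sum, ConstGrp.sum_e]
  · rintro a' ⟨scc, h, -⟩
    apply msa_ext
    intro g b
    rw [msa_smul]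
    exact smul_eq_of_coact R B Γ a' scc h g b

end Groth.Agent.S16962
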