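import Groth.Statements.S16963
import Mathlib

set_option autoImplicit false
universe u
open scoped BigOperators
open ConstAct

namespace Groth.Agent.S16963aux
open TensorProduct


variable (R : Type u) [CommRing R]
    (B : Type u) [CommRing B] [Algebra R B] (Γ : Type u) [Group Γ] [Fintype Γ] [DecidableEq Γ]
    [MulSemiringAction Γ B] [SMulCommClass Γ R B]

/-- evaluation at `h` on the second factor: `b ⊗ f ↦ f h • b` -/
noncomputable def evh (h : Γ) : B ⊗[R] ConstGrp.F R Γ →ₗ[R] B :=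
  (TensorProduct.rid R B).toLinearMap ∘ₗ LinearMap.lTensor B (ConstGrp.ev R h).toLinearMap

omit [Group Γ] [Fintype Γ] [DecidableEq Γ] [MulSemiringAction Γ B] [SMulCommClass Γ R B] in
theorem evh_tmul (h : Γ) (b : B) (f : ConstGrp.F R Γ) : evh R B Γ h (b ⊗ₜ f) = f h • b := by
  simp [evh]

omit [Group Γ] [Fintype Γ] [MulSemiringAction Γ B] [SMulCommClass Γ R B] in
theorem evh_tmul_e (h g : Γ) (b : B) : evh R B Γ h (b ⊗ₜ ConstGrp.e R g) = if h = g then b else 0 := by
  rw [evh_tmul, ConstGrp.e_apply]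
  split_ifs <;> simp

theorem forward (α : ConstGrp.F R Γ →ₗ[R] B)
    (hα : (ConstAct.coactLin R B Γ) ∘ₗ α = α.rTensor (ConstGrp.F R Γ) ∘ₗ (Coalgebra.comul (R := R) (A := ConstGrp.F R Γ)))
    (h1 : α 1 = 1) : ∑ γ : Γ, γ • α (ConstGrp.e R 1) = 1 := by
  have key : ∀ h : Γ, h • α (ConstGrp.e R 1) = α (ConstGrp.e R h⁻¹) := by
    intro h
    have := congrArg (evh R B Γ h) (LinearMap.congr_fun hα (ConstGrp.e R 1))
    simp only [LinearMap.comp_apply, coactLin_apply, ConstGrp.comul_e, map_sum, LinearMap.rTensor_tmul,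
      evh_tmul_e, mul_one] at this
    rw [Finset.sum_ite_eq, if_pos (Finset.mem_univ _)] at this
    rw [this]
    rw [Finset.sum_eq_single h⁻¹]
    · simp
    · intro b _ hb
      rw [if_neg]
      intro hh
      apply hb
      rw [hh, inv_inv]
    · intro hh; exact absurd (Finset.mem_univ _) hh
  rw [← h1, ← ConstGrp.sum_e, map_sum]
  simp_rw [key]
  exact Fintype.sum_equiv (Equiv.inv Γ) _ _ fun g => rfl




/-- the comodule map attached to `b`: `f ↦ Σ_g f g • (g⁻¹ • b)` -/
noncomputable def alpha (b : B) : ConstGrp.F R Γ →ₗ[R] B :=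
  ∑ g : Γ, ((ConstGrp.ev R g).toLinearMap).smulRight (g⁻¹ • b)

omit [SMulCommClass Γ R B] [DecidableEq Γ] in
theorem alpha_apply (b : B) (f : ConstGrp.F R Γ) : alpha R B Γ b f = ∑ g : Γ, f g • (g⁻¹ • b) := by
  simp [alpha, LinearMap.sum_apply]

omit [SMulCommClass Γ R B] in
theorem alpha_e (b : B) (g : Γ) : alpha R B Γ b (ConstGrp.e R g) = g⁻¹ • b := by
  rw [alpha_apply, Finset.sum_eq_single g]
  · simp
  · intro h _ hh
    rw [ConstGrp.e_apply_of_ne hh, zero_smul]
  · intro hh; exact absurd (Finset.mem_univ _) hh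

theorem backward (b : B) :
    (ConstAct.coactLin R B Γ) ∘ₗ (alpha R B Γ b) =
      (alpha R B Γ b).rTensor (ConstGrp.F R Γ) ∘ₗ (Coalgebra.comul (R := R) (A := ConstGrp.F R Γ)) := by
  apply ConstGrp.linearMap_ext
  intro g
  simp only [LinearMap.comp_apply, alpha_e, coactLin_apply, ConstGrp.comul_e, map_sum, LinearMap.rTensor_tmul]
  refine (Fintype.sum_equiv ((Equiv.inv Γ).trans (Equiv.mulRight g)) _ _ fun a => ?_).symm
  show (a⁻¹ • b) ⊗ₜ[R] ConstGrp.e R (a⁻¹ * g) = ((a⁻¹ * g) • g⁻¹ • b) ⊗ₜ[R] ConstGrp.e R (a⁻¹ * g)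
  rw [← mul_smul, mul_inv_cancel_right]


end Groth.Agent.S16963aux

open Groth.Agent.S16963aux

namespace Groth.Agent.S16963

open TensorProduct in
/-- Let R be a commutative ring and Γ a finite group acting on a commutative R-algebra B by R-algebra
automorphisms; regard B as a comodule algebra over the Hopf algebra of R-valued functions on Γ (the
constant group scheme of Γ acting on Spec B) through the coaction b ↦ Σ_γ (γ · b) ⊗ e_γ. Then the
action is tame — there is a comodule map α from the Hopf algebra, with its regular coaction, to B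
with α(1) = 1 (a total integral) — if and only if the trace b ↦ Σ_γ γ · b, which takes values in the
ring of invariants B^Γ, maps B onto B^Γ. -/
theorem result (R : Type u) [CommRing R]
    (B : Type u) [CommRing B] [Algebra R B] (Γ : Type u) [Group Γ] [Fintype Γ] [DecidableEq Γ]
    [MulSemiringAction Γ B] [SMulCommClass Γ R B] :
    letI := ConstAct.comod R B Γ
    (∃ α : ConstGrp.F R Γ →ₗ[R] B, Hoch.IsComodHom (ConstGrp.F R Γ) α ∧ α 1 = 1) ↔
      ∀ c : B, c ∈ ConstAct.inv R B Γ → ∃ b : B, ∑ γ : Γ, γ • b = c := by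
  constructor
  · rintro ⟨α, hα, h1⟩ c hc
    have htr := forward R B Γ α hα h1
    refine ⟨c * α (ConstGrp.e R 1), ?_⟩
    have : ∀ γ : Γ, γ • (c * α (ConstGrp.e R 1)) = c * γ • α (ConstGrp.e R 1) := by
      intro γ
      rw [smul_mul', (ConstAct.mem_inv R B Γ c).1 hc γ]
    simp_rw [this]
    rw [← Finset.mul_sum, htr, mul_one]
  · intro h
    obtain ⟨b, hb⟩ := h 1 (Subalgebra.one_mem _)
    refine ⟨alpha R B Γ b, backward R B Γ b, ?_⟩
    rw [alpha_apply]
    simp only [ConstGrp.one_apply, one_smul]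
    rw [← hb]
    exact Fintype.sum_equiv (Equiv.inv Γ) _ _ fun g => rfl

end Groth.Agent.S16963
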