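import Groth.Statements.S16979
import Mathlib

set_option autoImplicit false
universe u v
open CAlg

namespace Groth.Agent.S16979

open Polynomial

/-- Over a field `L`, if the characteristic polynomial of `M` splits and is separable, it divides
every polynomial annihilating `M`. -/
theorem charpoly_dvd_of_aeval_eq_zero {L : Type*} [Field L] {n : Type*} [Fintype n] [DecidableEq n]
    (M : Matrix n n L) (hsep : M.charpoly.Separable) (hsplit : M.charpoly.Splits)
    (r : L[X]) (hr : aeval M r = 0) : M.charpoly ∣ r := by
  by_cases hr0 : r = 0
  · rw [hr0]; exact dvd_zero _
  apply hsplit.dvd_of_roots_le_roots (Matrix.charpoly_monic M).ne_zero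
  rw [Multiset.le_iff_subset (nodup_roots hsep)]
  intro a ha
  rw [mem_roots hr0]
  rw [mem_roots (Matrix.charpoly_monic M).ne_zero, ← Matrix.charpoly_toLin',
    ← Module.End.hasEigenvalue_iff_isRoot_charpoly] at ha
  obtain ⟨v, hv⟩ := ha.exists_hasEigenvector
  have h1 : aeval (Matrix.toLin' M) r v = r.eval a • v :=
    Module.End.aeval_apply_of_hasEigenvector hv
  have h2 : aeval (Matrix.toLin' M) r = 0 := by
    have : aeval (Matrix.toLinAlgEquiv' M) r = Matrix.toLinAlgEquiv' (aeval M r) :=
      aeval_algHom_apply (Matrix.toLinAlgEquiv' : Matrix n n L ≃ₐ[L] _) M r
    rw [hr, map_zero] at this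
    exact this
  rw [h2, LinearMap.zero_apply] at h1
  exact (smul_eq_zero.1 h1.symm).resolve_right hv.2

/-- Let R be an integral domain with fraction field K and φ a square matrix over R whose characteristic
polynomial becomes separable in K[T] (equivalently, K[T] modulo the characteristic polynomial is
geometrically reduced over K). Then a polynomial f over R satisfies f(φ) = 0 exactly when the
characteristic polynomial of φ divides f in R[T]: the kernel of evaluation at φ (the minimal ideal
of φ) is the principal ideal generated by the characteristic polynomial. -/
theorem result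
    {R : Type u} [CommRing R] [IsDomain R] {n : Type v} [Fintype n] [DecidableEq n]
    (φ : Matrix n n R)
    (hsep : (φ.charpoly.map (algebraMap R (FractionRing R))).Separable) :
    RingHom.ker (Polynomial.aeval (R := R) φ) = Ideal.span {φ.charpoly} := by
  apply le_antisymm
  · intro f hf
    rw [RingHom.mem_ker] at hf
    rw [Ideal.mem_span_singleton]
    have hmonic := Matrix.charpoly_monic φ
    -- divide with remainder
    have hdiv := modByMonic_add_div f φ.charpoly
    set r := f %ₘ φ.charpoly with hr
    set q := f /ₘ φ.charpoly with hq
    have hr0 : aeval φ r = 0 := by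
      have : aeval φ f = aeval φ r + aeval φ φ.charpoly * aeval φ q := by
        rw [← hdiv, map_add, map_mul]
      rw [hf, Matrix.aeval_self_charpoly, zero_mul, add_zero] at this
      exact this.symm
    -- pass to an algebraic closure of the fraction field
    let K := FractionRing R
    let L := AlgebraicClosure K
    let g : R →+* L := (algebraMap K L).comp (algebraMap R K)
    have hginj : Function.Injective g :=
      (algebraMap K L).injective.comp (IsFractionRing.injective R K)
    have hchar : (φ.map g).charpoly = φ.charpoly.map g := Matrix.charpoly_map φ g
    have hsepL : (φ.map g).charpoly.Separable := by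
      rw [hchar, ← Polynomial.map_map]
      exact hsep.map
    have hsplit : (φ.map g).charpoly.Splits := IsAlgClosed.splits _
    have hrL : aeval (φ.map g) (r.map g) = 0 := by
      have h1 : aeval (φ.map g) (r.map g) = (aeval φ r).map g := by
        have h : (RingHom.mapMatrix g).comp (algebraMap R (Matrix n n R)) =
            (algebraMap L (Matrix n n L)).comp g := by
          ext a i j
          simp [Matrix.algebraMap_matrix_apply, apply_ite g]
        rw [aeval_def, eval₂_map, ← h, aeval_def]
        exact (Polynomial.hom_eval₂ r (algebraMap R (Matrix n n R)) (RingHom.mapMatrix g) φ).symm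
      rw [h1, hr0]
      simp
    have hdvd := charpoly_dvd_of_aeval_eq_zero (φ.map g) hsepL hsplit (r.map g) hrL
    have hr_eq : r = 0 := by
      by_contra hne
      have hne' : r.map g ≠ 0 := (Polynomial.map_ne_zero_iff hginj).2 hne
      have hdeg := Polynomial.natDegree_le_of_dvd hdvd hne'
      rw [hchar, natDegree_map_eq_of_injective hginj, natDegree_map_eq_of_injective hginj] at hdeg
      have hlt : r.degree < φ.charpoly.degree := degree_modByMonic_lt f hmonic
      have := natDegree_lt_natDegree hne hlt
      omega
    rw [hr_eq, zero_add] at hdiv
    exact ⟨q, hdiv.symm⟩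
  · rw [Ideal.span_le, Set.singleton_subset_iff, SetLike.mem_coe, RingHom.mem_ker]
    exact Matrix.aeval_self_charpoly φ

end Groth.Agent.S16979
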