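import Groth.Statements.S16981
import Mathlib

set_option autoImplicit false
universe u v
open CAlg

namespace Groth.Agent.S16981

section helpers


lemma noeth_of_surj {E S M : Type*} [CommRing E] [CommRing S] [Algebra E S] [AddCommGroup M]
    [Module E M] [Module S M] [IsScalarTower E S M]
    (hs : Function.Surjective (algebraMap E S)) [IsNoetherian S M] : IsNoetherian E M := by
  refine ⟨fun N => ?_⟩
  let N' : Submodule S M :=
    { carrier := N
      add_mem' := N.add_mem
      zero_mem' := N.zero_mem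
      smul_mem' := by
        intro a x hx
        obtain ⟨e, rfl⟩ := hs a
        rw [algebraMap_smul]
        exact N.smul_mem e hx }
  obtain ⟨S', hS'⟩ := IsNoetherian.noetherian N'
  refine ⟨S', ?_⟩
  have := Submodule.restrictScalars_span E S hs (S' : Set M)
  rw [hS'] at this
  rw [← this]
  rfl

variable {A : Type u} {E : Type v} [CommRing A] [CommRing E]

lemma noeth_E [IsNoetherianRing A] (f : E →+* A) (hf : Function.Surjective f)
    (hsq : RingHom.ker f ^ 2 = ⊥) (hfg : (RingHom.ker f).FG) : IsNoetherianRing E := by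
  set K := RingHom.ker f with hK
  have hA : IsNoetherianRing (E ⧸ K) :=
    isNoetherianRing_of_ringEquiv A (RingHom.quotientKerEquivOfSurjective hf).symm
  have hEK : IsNoetherian E (E ⧸ K) := noeth_of_surj (S := E ⧸ K) Ideal.Quotient.mk_surjective
  have htors : Module.IsTorsionBySet E K (K : Set E) := by
    intro x a
    have : (a : E) * (x : E) ∈ K ^ 2 := by
      rw [pow_two]; exact Ideal.mul_mem_mul a.2 x.2
    rw [hsq] at this
    exact Subtype.ext this
  let _ : Module (E ⧸ K) K := htors.module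
  have : IsScalarTower E (E ⧸ K) K := htors.isScalarTower
  have hfin : Module.Finite E K := Module.Finite.iff_fg.mpr hfg
  have hfin' : Module.Finite (E ⧸ K) K := Module.Finite.of_restrictScalars_finite E (E ⧸ K) K
  have hKn : IsNoetherian E K := noeth_of_surj (S := E ⧸ K) Ideal.Quotient.mk_surjective
  exact isNoetherian_of_range_eq_ker K.subtype K.mkQ (by simp)


lemma le_jacobson [IsLocalRing A] (f : E →+* A) (hf : Function.Surjective f)
    (hsq : RingHom.ker f ^ 2 = ⊥) :
    (IsLocalRing.maximalIdeal A).comap f ≤ Ideal.jacobson ⊥ := by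
  intro x hx
  rw [Ideal.mem_jacobson_bot]
  intro y
  have h1 : IsUnit (f (x * y + 1)) := by
    rw [map_add, map_mul, map_one]
    have : f x * f y ∈ IsLocalRing.maximalIdeal A := Ideal.mul_mem_right _ _ hx
    have h2 := IsLocalRing.isUnit_one_sub_self_of_mem_nonunits (-(f x * f y))
      (by simpa using this)
    simpa [sub_neg_eq_add, add_comm] using h2
  obtain ⟨w, hw⟩ := h1.exists_right_inv
  obtain ⟨v, rfl⟩ := hf w
  have hκ : (x * y + 1) * v - 1 ∈ RingHom.ker f := by
    rw [RingHom.mem_ker, map_sub, map_mul, hw, map_one, sub_self]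
  have hκ2 : ((x * y + 1) * v - 1) * ((x * y + 1) * v - 1) = 0 := by
    have : ((x * y + 1) * v - 1) * ((x * y + 1) * v - 1) ∈ RingHom.ker f ^ 2 := by
      rw [pow_two]; exact Ideal.mul_mem_mul hκ hκ
    rwa [hsq] at this
  refine IsUnit.of_mul_eq_one (v * (1 - ((x * y + 1) * v - 1))) ?_
  linear_combination (-1 : E) * hκ2


theorem precomplete [IsNoetherianRing A] [IsLocalRing A]
    [IsAdicComplete (IsLocalRing.maximalIdeal A) A]
    (f : E →+* A) (hf : Function.Surjective f)
    (hsq : RingHom.ker f ^ 2 = ⊥) (hfg : (RingHom.ker f).FG)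
    (x : ℕ → E)
    (hx : ∀ i j, i ≤ j → x i - x j ∈ ((IsLocalRing.maximalIdeal A).comap f) ^ i) :
    ∃ L : E, ∀ k, x k - L ∈ ((IsLocalRing.maximalIdeal A).comap f) ^ k := by
  obtain ⟨m, hm⟩ : ∃ m, m = IsLocalRing.maximalIdeal A := ⟨_, rfl⟩
  obtain ⟨n, hn⟩ : ∃ n, n = m.comap f := ⟨_, rfl⟩
  obtain ⟨K, hK⟩ : ∃ K, K = RingHom.ker f := ⟨_, rfl⟩
  have : IsAdicComplete m A := by rw [hm]; infer_instance
  rw [← hm, ← hn] at hx ⊢
  rw [← hK] at hsq hfg
  have hNoeth : IsNoetherianRing E := noeth_E f hf (by rw [← hK]; exact hsq) (by rw [← hK]; exact hfg)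
  have hmap : ∀ k, (n ^ k).map f = m ^ k := fun k => by
    rw [Ideal.map_pow, hn, Ideal.map_comap_of_surjective f hf]
  have hfn : ∀ k (z : E), z ∈ n ^ k → f z ∈ m ^ k := fun k z hz => by
    rw [← hmap k]; exact Ideal.mem_map_of_mem f hz
  have hdec : ∀ k (y : E), f y ∈ m ^ k → ∃ z ∈ n ^ k, ∃ κ ∈ K, y = z + κ := by
    intro k y hy
    rw [← hmap k, Ideal.mem_map_iff_of_surjective f hf] at hy
    obtain ⟨z, hz, hzy⟩ := hy
    exact ⟨z, hz, y - z, by rw [hK, RingHom.mem_ker, map_sub, hzy, sub_self], by ring⟩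
  have hKK : ∀ a ∈ K, ∀ b ∈ K, a * b = 0 := by
    intro a ha b hb
    have : a * b ∈ K ^ 2 := by rw [pow_two]; exact Ideal.mul_mem_mul ha hb
    rwa [hsq] at this
  have hpow : ∀ {i j : ℕ}, i ≤ j → n ^ j ≤ n ^ i := fun h => Ideal.pow_le_pow_right h
  have hpowm : ∀ {i j : ℕ}, i ≤ j → m ^ j ≤ m ^ i := fun h => Ideal.pow_le_pow_right h
  have hprecA : ∀ t : ℕ → A, (∀ i j, i ≤ j → t i - t j ∈ m ^ i) →
      ∃ a : A, ∀ k, t k - a ∈ m ^ k := by
    intro t ht
    obtain ⟨a, ha⟩ := IsPrecomplete.prec (I := m) (M := A) inferInstance (f := t) (by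
      intro i j hij
      rw [SModEq.sub_mem, smul_eq_mul, Ideal.mul_top]
      exact ht i j hij)
    refine ⟨a, fun k => ?_⟩
    have := ha k
    rwa [SModEq.sub_mem, smul_eq_mul, Ideal.mul_top] at this
  -- Step A
  obtain ⟨a, ha⟩ := hprecA (fun k => f (x k)) (fun i j hij => by
    rw [← map_sub]; exact hfn i _ (hx i j hij))
  obtain ⟨e, rfl⟩ := hf a
  -- Step B
  have hy : ∀ k, f (x k - e) ∈ m ^ k := fun k => by rw [map_sub]; exact ha k
  choose z hz κ hκ hyz using fun k => hdec k (x k - e) (hy k)
  -- Step C: Artin–Rees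
  obtain ⟨c, hc⟩ := Ideal.exists_pow_inf_eq_pow_smul n (K : Submodule E E)
  have hκdiff : ∀ j, κ (c + j + 1) - κ (c + j) ∈ n ^ j • (K : Submodule E E) := by
    intro j
    have h1 : κ (c + j + 1) - κ (c + j) ∈ n ^ (c + j) := by
      have e1 : κ (c + j + 1) - κ (c + j) =
          -(x (c + j) - x (c + j + 1)) - z (c + j + 1) + z (c + j) := by
        have h1 := hyz (c + j + 1)
        have h2 := hyz (c + j)
        linear_combination h2 - h1
      rw [e1]
      exact Ideal.add_mem _ (Ideal.sub_mem _ (neg_mem (hx _ _ (Nat.le_succ _)))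
        (hpow (Nat.le_succ _) (hz _))) (hz _)
    have h2 : κ (c + j + 1) - κ (c + j) ∈ K := K.sub_mem (hκ _) (hκ _)
    have h3 := hc (c + j) (by omega)
    have h4 : κ (c + j + 1) - κ (c + j) ∈ n ^ (c + j) • (⊤ : Submodule E E) ⊓ K :=
      ⟨by rw [smul_eq_mul, Ideal.mul_top]; exact h1, h2⟩
    rw [h3] at h4
    have h5 : c + j - c = j := by omega
    rw [h5] at h4
    exact Submodule.smul_mono le_rfl inf_le_right h4
  -- Step D: generators
  obtain ⟨s, g, hg⟩ := Submodule.fg_iff_exists_fin_generating_family.mp hfg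
  have hgK : ∀ i, g i ∈ K := fun i => by rw [← hg]; exact Submodule.subset_span ⟨i, rfl⟩
  have hν : ∀ j, ∃ ν : Fin s → E, (∀ i, ν i ∈ n ^ j) ∧
      ∑ i, ν i * g i = κ (c + j + 1) - κ (c + j) := by
    intro j
    have h := hκdiff j
    rw [← hg, Submodule.mem_ideal_smul_span_iff_exists_sum] at h
    obtain ⟨a, ha, hsum⟩ := h
    refine ⟨fun i => a i, ha, ?_⟩
    rw [← hsum, Finsupp.sum_fintype _ _ (fun i => by simp)]
    simp [smul_eq_mul]
  choose ν hνmem hνsum using hν
  -- Step E
  have hT : ∀ i : Fin s, ∃ β : A, ∀ j, (∑ l ∈ Finset.range j, f (ν l i)) - β ∈ m ^ j := by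
    intro i
    apply hprecA
    intro j j' hjj'
    rw [← neg_sub, Finset.sum_range_sub_sum_range hjj']
    refine neg_mem (Ideal.sum_mem _ fun l hl => ?_)
    rw [Finset.mem_filter] at hl
    exact hpowm hl.2 (hfn l _ (hνmem l i))
  choose β hβ using hT
  choose b hb using fun i => hf (β i)
  -- Step F
  have htel : ∀ j, κ (c + j) = κ c + ∑ l ∈ Finset.range j, ∑ i, ν l i * g i := by
    intro j
    have := Finset.sum_range_sub (fun l => κ (c + l)) j
    simp only [add_zero, ← add_assoc] at this
    rw [Finset.sum_congr rfl (fun l _ => hνsum l), this]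
    ring
  have hF : ∀ j, (κ c + ∑ i, b i * g i) - κ (c + j) ∈ n ^ j := by
    intro j
    have e1 : (κ c + ∑ i, b i * g i) - κ (c + j) =
        ∑ i, (b i - ∑ l ∈ Finset.range j, ν l i) * g i := by
      rw [htel j, Finset.sum_comm]
      simp only [sub_mul, Finset.sum_sub_distrib, Finset.sum_mul]
      ring
    rw [e1]
    refine Ideal.sum_mem _ fun i _ => ?_
    have h1 : f (b i - ∑ l ∈ Finset.range j, ν l i) ∈ m ^ j := by
      rw [map_sub, map_sum, hb, ← neg_sub]
      exact neg_mem (hβ i j)
    obtain ⟨z', hz', κ', hκ', h2⟩ := hdec j _ h1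
    rw [h2, add_mul, hKK κ' hκ' (g i) (hgK i), add_zero]
    exact Ideal.mul_mem_right _ _ hz'
  -- Step G
  refine ⟨e + (κ c + ∑ i, b i * g i), fun k => ?_⟩
  have e2 : x k - (e + (κ c + ∑ i, b i * g i)) =
      (x k - x (c + k)) + z (c + k) - ((κ c + ∑ i, b i * g i) - κ (c + k)) := by
    have := hyz (c + k)
    linear_combination this
  rw [e2]
  exact Ideal.sub_mem _ (Ideal.add_mem _ (hx _ _ (by omega)) (hpow (by omega) (hz _))) (hF k)


end helpers

/-- Let A be a complete Noetherian local ring and f : E → A a surjective ring homomorphism whose kernel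
has square zero and is finitely generated (equivalently, is a finite A-module for the induced module
structure). Then E is separated and complete for the adic topology of the inverse image of the
maximal ideal of A. (The published statement takes A to be the completion of a local ring of a
scheme of finite type over an Artinian local ring and the kernel the completion of a finite module;
this row assumes only that A is complete Noetherian local and the kernel finitely generated.) -/
theorem result
    {A : Type u} {E : Type v} [CommRing A] [CommRing E] [IsNoetherianRing A] [IsLocalRing A]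
    [IsAdicComplete (IsLocalRing.maximalIdeal A) A]
    (f : E →+* A) (hf : Function.Surjective f)
    (hsq : RingHom.ker f ^ 2 = ⊥) (hfg : (RingHom.ker f).FG) :
    IsAdicComplete ((IsLocalRing.maximalIdeal A).comap f) E := by
  have hNoeth : IsNoetherianRing E := noeth_E f hf hsq hfg
  have hH : IsHausdorff ((IsLocalRing.maximalIdeal A).comap f) E :=
    IsHausdorff.of_le_jacobson _ _ (le_jacobson f hf hsq)
  have hP : IsPrecomplete ((IsLocalRing.maximalIdeal A).comap f) E := by
    rw [isPrecomplete_iff]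
    intro x hx
    obtain ⟨L, hL⟩ := precomplete f hf hsq hfg x (fun i j hij => by
      have := hx hij
      rwa [SModEq.sub_mem, smul_eq_mul, Ideal.mul_top] at this)
    exact ⟨L, fun k => by rw [SModEq.sub_mem, smul_eq_mul, Ideal.mul_top]; exact hL k⟩
  exact { toIsHausdorff := hH, toIsPrecomplete := hP }

end Groth.Agent.S16981
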