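import Groth.Statements.S16983
import Mathlib.Tactic

set_option autoImplicit false
universe u
open DeformData

namespace Groth.Agent.S16983

/-- Let p be a prime, s ≥ 1, B a finite index set with a subset B₀ of exactly three elements, m_j ≥ 1
integers coprime to p, and σ_{i,j} (i < s, j ∈ B) rational numbers with m_j σ_{i,j} an integer, such
that Σ_j (σ_{i,j} − 1) = −2 for every i, the fractional part of σ_{i,j} equals that of p^i σ_{0,j},
no σ_{i,j} equals 1, and the minimum over i of ⌊σ_{i,j}⌋ is 0 for j ∈ B₀ and 1 for j ∉ B₀. Then for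
every i the fractional parts ⟨σ_{i,j}⟩ sum over j to 1 (purity), and ⌊σ_{i,j}⌋ is 0 on B₀ and 1 off
B₀ for every i. (The hypotheses are exactly the properties of the signature of a special deformation
datum on the projective line: each entry is an integer divided by a stabilizer order m_j in a group
of order prime to p, the degree identity coming from Riemann–Hurwitz, the Frobenius-twist relation
between fractional parts, and the speciality conditions; the statement is given here for any such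
tuple.) -/
theorem result
    {B : Type u} [Fintype B] [DecidableEq B] (B₀ : Finset B) (hB₀ : B₀.card = 3)
    (p : ℕ) (hp : p.Prime) (s : ℕ) (hs : 0 < s)
    (m : B → ℕ) (hm : ∀ j, 0 < m j) (hmp : ∀ j, Nat.Coprime (m j) p)
    (σ : Fin s → B → ℚ) (hint : ∀ i j, ∃ h : ℤ, σ i j = (h : ℚ) / (m j : ℚ))
    (hsum : ∀ i, ∑ j, (σ i j - 1) = -2)
    (hfract : ∀ i j, Int.fract (σ i j) = Int.fract ((p : ℚ) ^ (i : ℕ) * σ ⟨0, hs⟩ j))
    (hne : ∀ i j, σ i j ≠ 1)
    (hB₀min : ∀ j ∈ B₀, (∃ i, ⌊σ i j⌋ = 0) ∧ ∀ i, 0 ≤ ⌊σ i j⌋)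
    (hBmin : ∀ j ∉ B₀, (∃ i, ⌊σ i j⌋ = 1) ∧ ∀ i, 1 ≤ ⌊σ i j⌋) :
    (∀ i, ∑ j, Int.fract (σ i j) = 1) ∧ (∀ i j, ⌊σ i j⌋ = if j ∈ B₀ then 0 else 1) := by
  classical
  -- lower bound function
  set lb : B → ℤ := fun j => if j ∈ B₀ then 0 else 1 with hlb
  have hlb_le : ∀ i j, lb j ≤ ⌊σ i j⌋ := by
    intro i j
    by_cases hj : j ∈ B₀
    · simp only [hlb, hj, if_true]; exact (hB₀min j hj).2 i
    · simp only [hlb, hj, if_false]; exact (hBmin j hj).2 i
  have hlb_sum : ∑ j, lb j = (Fintype.card B : ℤ) - 3 := by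
    have h1 : ∀ j, lb j = 1 - (if j ∈ B₀ then 1 else 0) := by
      intro j; by_cases hj : j ∈ B₀ <;> simp [hlb, hj]
    simp only [h1, Finset.sum_sub_distrib, Finset.sum_boole]
    simp [hB₀]
  -- decomposition of the sum
  have hdecomp : ∀ i, ((∑ j, ⌊σ i j⌋ : ℤ) : ℚ) + ∑ j, Int.fract (σ i j) = (Fintype.card B : ℚ) - 2 := by
    intro i
    have h1 : ∑ j, σ i j = (Fintype.card B : ℚ) - 2 := by
      have := hsum i
      rw [Finset.sum_sub_distrib] at this
      simp at this
      linarith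
    rw [← h1]
    push_cast
    rw [← Finset.sum_add_distrib]
    exact Finset.sum_congr rfl fun j _ => Int.floor_add_fract (σ i j)
  have hfloor_ge : ∀ i, (Fintype.card B : ℤ) - 3 ≤ ∑ j, ⌊σ i j⌋ := by
    intro i
    rw [← hlb_sum]
    exact Finset.sum_le_sum fun j _ => hlb_le i j
  have hF_nonneg : ∀ i, 0 ≤ ∑ j, Int.fract (σ i j) :=
    fun i => Finset.sum_nonneg fun j _ => Int.fract_nonneg _
  -- the key claim: the sum of fractional parts is never zero
  have hF_ne : ∀ i₀, ∑ j, Int.fract (σ i₀ j) ≠ 0 := by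
    intro i₀ hzero
    have hA : ∀ j, Int.fract (σ i₀ j) = 0 := by
      intro j
      exact (Finset.sum_eq_zero_iff_of_nonneg (fun j _ => Int.fract_nonneg _)).1 hzero j
        (Finset.mem_univ j)
    have hBint : ∀ j, ∃ q : ℤ, σ ⟨0, hs⟩ j = (q : ℚ) := by
      intro j
      have h1 : Int.fract ((p : ℚ) ^ (i₀ : ℕ) * σ ⟨0, hs⟩ j) = 0 := by rw [← hfract, hA]
      obtain ⟨h, hh⟩ := hint ⟨0, hs⟩ j
      have hmne : (m j : ℚ) ≠ 0 := by exact_mod_cast (hm j).ne'
      set n : ℤ := ⌊(p : ℚ) ^ (i₀ : ℕ) * σ ⟨0, hs⟩ j⌋ with hn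
      have h2 : (p : ℚ) ^ (i₀ : ℕ) * σ ⟨0, hs⟩ j = (n : ℚ) := by
        have := Int.floor_add_fract ((p : ℚ) ^ (i₀ : ℕ) * σ ⟨0, hs⟩ j)
        rw [h1, add_zero] at this
        exact this.symm
      rw [hh] at h2
      have h3 : ((p : ℤ) ^ (i₀ : ℕ) * h : ℤ) = n * (m j : ℤ) := by
        have : (p : ℚ) ^ (i₀ : ℕ) * (h : ℚ) = (n : ℚ) * (m j : ℚ) := by
          field_simp at h2
          linarith
        exact_mod_cast this
      have hcop : IsCoprime ((m j : ℕ) : ℤ) ((p : ℤ) ^ (i₀ : ℕ)) := by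
        have : Nat.Coprime (m j) (p ^ (i₀ : ℕ)) := Nat.Coprime.pow_right _ (hmp j)
        have := Nat.isCoprime_iff_coprime.2 this
        simpa using this
      have hdvd : ((m j : ℕ) : ℤ) ∣ h := by
        apply hcop.dvd_of_dvd_mul_left
        exact ⟨n, by rw [h3]; ring⟩
      obtain ⟨q, hq⟩ := hdvd
      refine ⟨q, ?_⟩
      rw [hh, hq]
      push_cast
      field_simp
    have hC : ∀ i' j, Int.fract (σ i' j) = 0 := by
      intro i' j
      obtain ⟨q, hq⟩ := hBint j
      rw [hfract, hq]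
      have : (p : ℚ) ^ (i' : ℕ) * (q : ℚ) = (((p : ℤ) ^ (i' : ℕ) * q : ℤ) : ℚ) := by push_cast; ring
      rw [this, Int.fract_intCast]
    have hD : ∀ i' j, σ i' j = (⌊σ i' j⌋ : ℚ) := by
      intro i' j
      have := Int.floor_add_fract (σ i' j)
      rw [hC, add_zero] at this
      exact this.symm
    by_cases hex : ∃ j, j ∉ B₀
    · obtain ⟨j, hj⟩ := hex
      obtain ⟨i', hi'⟩ := (hBmin j hj).1
      apply hne i' j
      rw [hD i' j, hi']
      norm_num
    · push Not at hex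
      have hcard : Fintype.card B = 3 := by
        rw [← hB₀, ← Finset.card_univ]
        congr 1
        ext j; simp [hex j]
      have hsumI : ∑ j, ⌊σ i₀ j⌋ = 1 := by
        have := hdecomp i₀
        rw [hzero, add_zero, hcard] at this
        have h2 : ((∑ j, ⌊σ i₀ j⌋ : ℤ) : ℚ) = ((1 : ℤ) : ℚ) := by rw [this]; norm_num
        exact_mod_cast h2
      have hnn : ∀ j, 0 ≤ ⌊σ i₀ j⌋ := fun j => (hB₀min j (hex j)).2 i₀
      have hne1 : ∀ j, ⌊σ i₀ j⌋ ≠ 1 := by
        intro j h1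
        apply hne i₀ j
        rw [hD i₀ j, h1]; norm_num
      have hexpos : ∃ j, 0 < ⌊σ i₀ j⌋ := by
        by_contra hcon
        push Not at hcon
        have : ∑ j, ⌊σ i₀ j⌋ ≤ 0 := Finset.sum_nonpos fun j _ => hcon j
        omega
      obtain ⟨j, hj⟩ := hexpos
      have h2 : 2 ≤ ⌊σ i₀ j⌋ := by
        have := hne1 j
        omega
      have := Finset.single_le_sum (f := fun j => ⌊σ i₀ j⌋) (fun j _ => hnn j) (Finset.mem_univ j)
      omega
  -- conclude
  have hF_one : ∀ i, ∑ j, Int.fract (σ i j) = 1 := by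
    intro i
    set z : ℤ := (Fintype.card B : ℤ) - 2 - ∑ j, ⌊σ i j⌋ with hz
    have hFz : ∑ j, Int.fract (σ i j) = (z : ℚ) := by
      have := hdecomp i
      rw [hz]; push_cast
      push_cast at this
      linarith
    have hz0 : 0 ≤ z := by
      have := hF_nonneg i
      rw [hFz] at this
      exact_mod_cast this
    have hz1 : z ≤ 1 := by
      have := hfloor_ge i
      omega
    have hzne : z ≠ 0 := by
      intro h0
      apply hF_ne i
      rw [hFz, h0]; norm_num
    have : z = 1 := by omega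
    rw [hFz, this]; norm_num
  refine ⟨hF_one, ?_⟩
  intro i j
  have hsumeq : ∑ j, lb j = ∑ j, ⌊σ i j⌋ := by
    rw [hlb_sum]
    have := hdecomp i
    rw [hF_one i] at this
    have h2 : ((∑ j, ⌊σ i j⌋ : ℤ) : ℚ) = (((Fintype.card B : ℤ) - 3 : ℤ) : ℚ) := by
      push_cast; push_cast at this; linarith
    exact_mod_cast h2.symm
  have := (Finset.sum_eq_sum_iff_of_le (fun j _ => hlb_le i j)).1 hsumeq j (Finset.mem_univ j)
  rw [← this]

end Groth.Agent.S16983
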