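import Groth.Statements.S16984
import Mathlib

set_option autoImplicit false
universe u v w
open Hoch

namespace Groth.Agent.S16984

open TensorProduct

section aux
variable (k : Type u) [CommRing k] (A : Type v) [CommRing A] [Bialgebra k A]
  (P : Type w) [AddCommGroup P] [Module k P]

/-- `(p ⊗ a) ⊗ b ↦ ε(a) • (p ⊗ b)` -/
noncomputable def Psi : (P ⊗[k] A) ⊗[k] A →ₗ[k] P ⊗[k] A :=
  TensorProduct.map ((TensorProduct.rid k P).toLinearMap ∘ₗ
    (Coalgebra.counit (R := k) (A := A)).lTensor P) LinearMap.id

lemma Psi_tmul (p : P) (a b : A) :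
    Psi k A P ((p ⊗ₜ a) ⊗ₜ b) = (Coalgebra.counit (R := k) a • p) ⊗ₜ b := by
  simp [Psi]

lemma Psi_coactAux : Psi k A P ∘ₗ Hoch.Ind.coactAux k A P = LinearMap.id := by
  refine TensorProduct.ext' fun p a => ?_
  have key : (Psi k A P ∘ₗ (TensorProduct.assoc k P A A).symm.toLinearMap ∘ₗ
      TensorProduct.mk k P (A ⊗[k] A) p) =
      TensorProduct.mk k P A p ∘ₗ (TensorProduct.lid k A).toLinearMap ∘ₗ
        (Coalgebra.counit (R := k) (A := A)).rTensor A := by
    refine TensorProduct.ext' fun a b => ?_
    simp [Psi_tmul, TensorProduct.smul_tmul]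
  have h := LinearMap.congr_fun key (Coalgebra.comul (R := k) a)
  simp only [LinearMap.comp_apply, LinearEquiv.coe_coe, TensorProduct.mk_apply,
    Coalgebra.rTensor_counit_comul, TensorProduct.lid_tmul, one_smul] at h
  simpa [Hoch.Ind.coactAux_tmul] using h

end aux

open TensorProduct in
/-- Let k be a commutative ring, A a commutative k-bialgebra that is flat over k (the coordinate ring of
a flat affine group scheme over Spec k; flatness and commutativity are the standing hypotheses of
the appendix and are not needed for the assertion) and P a k-module. Then p ↦ p ⊗ 1 is an injection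
of P into the induced comodule P ⊗ A (coaction id ⊗ Δ) whose image is exactly the submodule of
invariants, i.e. the elements with coaction x ↦ x ⊗ 1. (The published statement writes the
coordinate-ring factor on the left and calls this module coinduced; this row is its degree-zero
part, the identification of P with the invariants of the coinduced module.) -/
theorem result (k : Type u) [CommRing k] (A : Type v) [CommRing A] [Bialgebra k A]
    [Module.Flat k A] (P : Type w) [AddCommGroup P] [Module k P] :
    Function.Injective ((Hoch.Ind.equiv k A P).toLinearMap ∘ₗ (TensorProduct.mk k P A).flip (1 : A)) ∧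
    LinearMap.range ((Hoch.Ind.equiv k A P).toLinearMap ∘ₗ (TensorProduct.mk k P A).flip (1 : A)) =
      HopfRep.fixedPts k A (Hoch.Ind k A P) := by
  constructor
  · intro p q hpq
    have h := congrArg (Hoch.Ind.counit k A P) hpq
    simpa using h
  · apply le_antisymm
    · rintro _ ⟨p, rfl⟩
      change HopfRep.Comod.coact (k := k) (A := A) (V := Hoch.Ind k A P) _ = _
      simp only [LinearMap.comp_apply, LinearMap.flip_apply, TensorProduct.mk_apply,
        LinearEquiv.coe_coe]
      rw [Hoch.Ind.coact_equiv_tmul, Bialgebra.comul_one]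
      rfl
    · intro x hx
      let y : P ⊗[k] A := x
      have hx' : Hoch.Ind.coactAux k A P y = y ⊗ₜ[k] (1 : A) := hx
      have h1 : Psi k A P (Hoch.Ind.coactAux k A P y) = y :=
        LinearMap.congr_fun (Psi_coactAux k A P) y
      rw [hx'] at h1
      have h2 : Psi k A P (y ⊗ₜ[k] (1 : A)) =
          ((TensorProduct.rid k P) ((Coalgebra.counit (R := k) (A := A)).lTensor P y)) ⊗ₜ[k] (1 : A) := by
        simp [Psi]
      refine ⟨(TensorProduct.rid k P) ((Coalgebra.counit (R := k) (A := A)).lTensor P y), ?_⟩
      exact h2.symm.trans h1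


end Groth.Agent.S16984
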