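import Groth.Statements.S1699
import Groth.Agent.Lib.helper9.Glue3
-- import your own Groth.Agent.* helpers here

set_option autoImplicit false
universe u
open CategoryTheory CategoryTheory.Limits AlgebraicGeometry TopologicalSpace
open SDiv

namespace Groth.Agent.S1699

/-- (1) if and only if (3): let X be a locally Noetherian scheme and U an open subscheme. Then U is
scheme-theoretically dense in X if and only if U contains every associated point of X (every point
whose local ring has its maximal ideal as an associated prime). -/
theorem result (X : Scheme.{u}) [IsLocallyNoetherian X] (U : X.Opens) :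
    CInt.IsSchematicallyDense U ↔ ∀ x : ↥X, IsAssociatedPrime (IsLocalRing.maximalIdeal ↑(X.presheaf.stalk x)) ↑(X.presheaf.stalk x) → x ∈ U := by
  have h0 := Groth.Agent.Lib.helper9.Glue.structureSheaf_res_injective_iff U
  have hkey : ∀ x : ↥X, LocCoh.depth ↑(X.presheaf.stalk x) ↑(X.presheaf.stalk x) = 0 ↔
      IsAssociatedPrime (IsLocalRing.maximalIdeal ↑(X.presheaf.stalk x)) ↑(X.presheaf.stalk x) :=
    fun x => Groth.Agent.Lib.helper9.LocalAlg.depth_eq_zero_iff _ _
  change (∀ V : X.Opens, Function.Injective (X.presheaf.map (homOfLE (inf_le_left : V ⊓ U ≤ V)).op)) ↔ _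
  rw [h0]
  constructor
  · intro h x hx
    by_contra hxU
    have h1 := h x hxU
    rw [(hkey x).mpr hx] at h1
    exact absurd h1 (by decide)
  · intro h x hxU
    rw [Order.one_le_iff_ne_zero]
    intro hd
    exact hxU (h x ((hkey x).mp hd))

end Groth.Agent.S1699
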