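import Groth.Statements.S17004
import Mathlib
import Groth.Agent.Lib.helper12.QuadCentre3

set_option autoImplicit false
set_option linter.style.haveILetI false
universe u
open scoped TensorProduct
open QuadGrp

namespace Groth.Agent.S17004

theorem scalar_comm {R : Type u} [CommRing R] {n : ℕ} (g : (Fin n → R) ≃ₗ[R] (Fin n → R)) (c : R)
    (hc : ∀ v, g v = c • v) (A : Type u) [CommRing A] [Algebra R A]
    (h : (A ⊗[R] (Fin n → R)) ≃ₗ[A] (A ⊗[R] (Fin n → R))) :
    g.baseChange R A (Fin n → R) (Fin n → R) * h = h * g.baseChange R A (Fin n → R) (Fin n → R) := by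
  have hg : ∀ y : A ⊗[R] (Fin n → R), g.baseChange R A (Fin n → R) (Fin n → R) y = algebraMap R A c • y := by
    intro y
    induction y using TensorProduct.induction_on with
    | zero => simp
    | tmul a v =>
      rw [LinearEquiv.baseChange_tmul, hc, TensorProduct.tmul_smul, algebraMap_smul]
    | add y z hy hz => rw [map_add, hy, hz, smul_add]
  ext y
  simp only [LinearEquiv.mul_apply, hg, map_smul]

theorem main {R : Type u} [CommRing R] (n : ℕ) (hn : 3 ≤ n)
    (Q : QuadraticForm R (Fin n → R))
    (hQ : QuadGrp.IsNondeg (Pi.basisFun R (Fin n)) (LinearEquiv.refl R R) Q)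
    (g : (Fin n → R) ≃ₗ[R] (Fin n → R)) (hg : g ∈ QuadGrp.O Q)
    (hbr : ∀ u w x : Fin n → R,
        g (QuadraticMap.polar Q x u • w - QuadraticMap.polar Q x w • u)
          = QuadraticMap.polar Q (g x) u • w - QuadraticMap.polar Q (g x) w • u) :
    ∃ c : R, c * c = 1 ∧ ∀ v, g v = c • v := by
  rcases Nat.even_or_odd n with he | ho
  · have hreg := hQ.1 he
    obtain ⟨c, hc⟩ := H12QC.scalar_of_bracket Q hn hreg.2 g hbr
    refine ⟨c, ?_, hc⟩
    refine H12QC.sq_eq_one_of_scalar Q (by omega) hreg.1 c fun v => ?_
    rw [← hc v]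
    exact hg v
  · have hsemi := hQ.2 ho
    obtain ⟨m, rfl⟩ := ho
    have hJ := H12QC.adj_top_of_semiregular m Q hsemi
    obtain ⟨c, hc⟩ := H12QC.scalar_of_adj_top Q hn g.toLinearMap (fun u w x => hbr u w x) hJ
    refine ⟨c, ?_, hc⟩
    refine H12QC.sq_eq_one_of_adj_top Q (by omega) hJ c fun v => ?_
    have := hc v
    rw [LinearEquiv.coe_coe] at this
    rw [← this]
    exact hg v


/-- Let Q be a non-degenerate quadratic form on R^n, n ≥ 3, over a commutative ring R (perfect polar
pairing for even n, unit half-discriminant in the standard basis for odd n). An isometry g of Q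
commutes, after base change to every R-algebra A, with every isometry of Q_A if and only if g is
multiplication by a scalar whose square is one. (Points-level form of: the functorial centre of the
orthogonal group is the central μ₂; the algebras range over the universe of R, which contains the
coordinate ring of the orthogonal group.) -/
theorem result (R : Type u) [CommRing R] (n : ℕ) (hn : 3 ≤ n)
    (Q : QuadraticForm R (Fin n → R))
    (hQ : QuadGrp.IsNondeg (Pi.basisFun R (Fin n)) (LinearEquiv.refl R R) Q)
    (g : (Fin n → R) ≃ₗ[R] (Fin n → R)) (hg : g ∈ QuadGrp.O Q) :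
    (∀ (A : Type u) [CommRing A] [Algebra R A], ∀ h ∈ QuadGrp.orth Q A,
        g.baseChange R A (Fin n → R) (Fin n → R) * h = h * g.baseChange R A (Fin n → R) (Fin n → R)) ↔
      ∃ c : R, c * c = 1 ∧ ∀ v, g v = c • v := by
  classical
  constructor
  · intro hcomm
    refine main n hn Q hQ g hg ?_
    intro u w x
    refine H12QC.bracket_of_comm Q g u w x (hcomm (DualNumber R) _ ?_)
    · unfold QuadGrp.orth
      rw [H12QC.O_baseChange_eq]
      exact H12QC.hEquiv_mem_O _ _ _ _ _
  · rintro ⟨c, -, hc⟩ A _ _ h _
    exact scalar_comm g c hc A h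

end Groth.Agent.S17004
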