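import Groth.Statements.S17006
import Mathlib
import Groth.Agent.Lib.helper12.QuadCentre

set_option autoImplicit false
set_option linter.style.haveILetI false
universe u
open scoped TensorProduct
open QuadGrp

namespace Groth.Agent.S17006

theorem scalar_comm {R : Type u} [CommRing R] {n : ℕ} (g : (Fin n → R) ≃ₗ[R] (Fin n → R)) (c : R)
    (hc : ∀ v, g v = c • v) (A : Type u) [CommRing A] [Algebra R A]
    (h : (A ⊗[R] (Fin n → R)) ≃ₗ[A] (A ⊗[R] (Fin n → R))) :
    g.baseChange R A (Fin n → R) (Fin n → R) * h = h * g.baseChange R A (Fin n → R) (Fin n → R) := by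
  have hg : ∀ y : A ⊗[R] (Fin n → R), g.baseChange R A (Fin n → R) (Fin n → R) y = algebraMap R A c • y := by
    intro y
    induction y using TensorProduct.induction_on with
    | zero => simp
    | tmul a v =>
      rw [LinearEquiv.baseChange_tmul, hc, TensorProduct.tmul_smul, algebraMap_smul]
    | add y z hy hz => rw [map_add, hy, hz, smul_add]
  ext y
  simp only [LinearEquiv.mul_apply, hg, map_smul]


/-- Let Q be a quadratic form on R^{2m}, m ≥ 2, over a commutative ring R, whose polar form is a perfect
pairing. An isometry g of Q satisfying the Dickson condition commutes, after base change to every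
R-algebra A, with every isometry of Q_A satisfying the Dickson condition if and only if g is
multiplication by a scalar whose square is one. (Points-level form of: for even rank at least 4 the
functorial centre of the special orthogonal group is the central μ₂ and coincides with that of the
naive one.) -/
theorem result (R : Type u) [CommRing R] (m : ℕ) (hm : 2 ≤ m)
    (Q : QuadraticForm R (Fin (2 * m) → R)) (hQ : QuadGrp.IsRegular Q)
    (g : (Fin (2 * m) → R) ≃ₗ[R] (Fin (2 * m) → R)) (hg : g ∈ QuadGrp.SO Q) :
    (∀ (A : Type u) [CommRing A] [Algebra R A], ∀ h ∈ QuadGrp.sorth Q A,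
        g.baseChange R A (Fin (2 * m) → R) (Fin (2 * m) → R) * h = h * g.baseChange R A (Fin (2 * m) → R) (Fin (2 * m) → R)) ↔
      ∃ c : R, c * c = 1 ∧ ∀ v, g v = c • v := by
  classical
  constructor
  · intro hcomm
    by_cases hR : Nontrivial R
    swap
    · rw [not_nontrivial_iff_subsingleton] at hR
      exact ⟨1, Subsingleton.elim _ _, fun v => Subsingleton.elim _ _⟩
    have hfin : Module.finrank R (Fin (2 * m) → R) = 2 * m := by simp
    have hbr : ∀ u w x : Fin (2 * m) → R,
        g (QuadraticMap.polar Q x u • w - QuadraticMap.polar Q x w • u)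
          = QuadraticMap.polar Q (g x) u • w - QuadraticMap.polar Q (g x) w • u := by
      intro u w x
      refine H12QC.bracket_of_comm Q g u w x (hcomm (DualNumber R) _ ?_)
      have hnt : Nontrivial (DualNumber R) := inferInstance
      have hfinA : Module.finrank (DualNumber R) (DualNumber R ⊗[R] (Fin (2 * m) → R)) = 2 * m := by
        rw [Module.finrank_baseChange, hfin]
      unfold QuadGrp.sorth QuadGrp.SO
      rw [if_pos (by rw [hfinA]; exact even_two_mul m)]
      exact H12QC.hEquiv_mem_SOeven _ _ _ _ _
    obtain ⟨c, hc⟩ := H12QC.scalar_of_bracket Q (by omega) hQ.2 g hbr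
    refine ⟨c, ?_, hc⟩
    have hgO : g ∈ QuadGrp.O Q := by
      unfold QuadGrp.SO at hg
      rw [if_pos (by rw [hfin]; exact even_two_mul m)] at hg
      exact hg.1
    refine H12QC.sq_eq_one_of_scalar Q (by omega) hQ.1 c fun v => ?_
    rw [← hc v]
    exact hgO v
  · rintro ⟨c, -, hc⟩ A _ _ h _
    exact scalar_comm g c hc A h

end Groth.Agent.S17006
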