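import Groth.Statements.S1701
import Mathlib
import Groth.Agent.Lib.helper22.CartierSch
import Groth.Agent.Lib.helper22.CartierSch2
import Groth.Agent.Lib.helper22.CartierFlat4
import Groth.Agent.Lib.helper22.CartierFlat5
import Groth.Agent.S1710

set_option autoImplicit false
universe u
open CategoryTheory CategoryTheory.Limits AlgebraicGeometry TopologicalSpace
open SDiv

namespace Groth.Agent.S1701

section Helpers

open Groth.Agent.H22.CartierFlat Groth.Agent.H22.EtaleFlat

theorem main {X S : Scheme.{u}} (f : X ⟶ S) (𝓘 : X.IdealSheafData)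
    (hD : (BlowUp.IsEffCartierIdeal 𝓘 ∧ Flat (𝓘.subschemeι ≫ f))) (d : ↥𝓘.subscheme)
    [IsNoetherianRing (X.presheaf.stalk (𝓘.subschemeι d))] :
    (f.stalkMap (𝓘.subschemeι d)).hom.Flat := by
  have hd : 𝓘.subschemeι d ∈ 𝓘.support := by
    rw [← SetLike.mem_coe, ← 𝓘.range_subschemeι]; exact Set.mem_range_self d
  generalize 𝓘.subschemeι d = x at *
  obtain ⟨V, hV, W, hWV, hxW, t, ht, hI⟩ := Groth.Agent.S1710.exists_chart f 𝓘 hD.1 x
  letI := (f.appLE V W.1 hWV).hom.toAlgebra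
  rw [flat_stalkMap_iff f hV W.2 hWV x hxW]
  -- Noetherian
  haveI : IsNoetherianRing (Localization.AtPrime (W.2.primeIdealOf ⟨x, hxW⟩).asIdeal) := by
    letI := TopCat.Presheaf.algebra_section_stalk X.presheaf (U := W.1) ⟨x, hxW⟩
    haveI := W.2.isLocalization_stalk ⟨x, hxW⟩
    exact isNoetherianRing_of_ringEquiv _
      (IsLocalization.algEquiv (W.2.primeIdealOf ⟨x, hxW⟩).asIdeal.primeCompl
        (X.presheaf.stalk x) (Localization.AtPrime (W.2.primeIdealOf ⟨x, hxW⟩).asIdeal)).toRingEquiv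
  have htp : t ∈ (W.2.primeIdealOf ⟨x, hxW⟩).asIdeal := by
    by_contra htq
    have hx't : x ∈ X.basicOpen t := by
      have e := W.2.fromSpec_primeIdealOf ⟨x, hxW⟩
      have : W.2.primeIdealOf ⟨x, hxW⟩ ∈ W.2.fromSpec ⁻¹ᵁ X.basicOpen t := by
        rw [W.2.fromSpec_preimage_basicOpen]
        exact htq
      have h2 : W.2.fromSpec (W.2.primeIdealOf ⟨x, hxW⟩) ∈ X.basicOpen t := this
      rwa [e] at h2
    rw [Scheme.IdealSheafData.mem_support_iff_of_mem (U := W) hxW, hI] at hd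
    rw [Scheme.mem_zeroLocus_iff] at hd
    exact hd t (Ideal.subset_span rfl) hx't
  have e1 := flat_quot_of_flat_subscheme f 𝓘 hD.2 hV W hWV
  rw [hI] at e1
  apply flat_of_nzd_of_flat_quot_local
    (algebraMap Γ(X, W.1) (Localization.AtPrime (W.2.primeIdealOf ⟨x, hxW⟩).asIdeal) t)
  · rw [IsLocalization.AtPrime.to_map_mem_maximal_iff _ (W.2.primeIdealOf ⟨x, hxW⟩).asIdeal]
    exact htp
  · exact IsLocalization.map_nonZeroDivisors_le (W.2.primeIdealOf ⟨x, hxW⟩).asIdeal.primeCompl _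
      (Submonoid.mem_map_of_mem _ ht)
  · exact flat_quot_baseChange (W.2.primeIdealOf ⟨x, hxW⟩).asIdeal.primeCompl t e1

end Helpers

/-- Let f : X ⟶ S be a morphism, 𝓘 the ideal sheaf of an effective Cartier divisor D ⊂ X such that D ⟶ S
is flat (a relative effective Cartier divisor), and x a point of D at which the local ring of X is
Noetherian. Then f is flat at x. -/
theorem result {X S : Scheme.{u}} (f : X ⟶ S) (𝓘 : X.IdealSheafData)
    (hD : (BlowUp.IsEffCartierIdeal 𝓘 ∧ Flat (𝓘.subschemeι ≫ f))) (d : ↥𝓘.subscheme) [IsNoetherianRing (X.presheaf.stalk (𝓘.subschemeι d))] :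
    (f.stalkMap (𝓘.subschemeι d)).hom.Flat := by
  exact main f 𝓘 hD d

end Groth.Agent.S1701
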