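import Groth.Statements.S17016
import Mathlib

set_option autoImplicit false
universe u
open QuadGrp

namespace Groth.Agent.S17016

open CliffordAlgebra

section
variable (R : Type u) [CommRing R] (m : ℕ)

theorem splitForm_apply (x : Fin (m * 2) → R) :
    QuadGrp.splitForm R (m * 2) x =
      ∑ i : Fin m, x (finProdFinEquiv (i, 0)) * x (finProdFinEquiv (i, 1)) := by
  unfold QuadGrp.splitForm
  have h2 : (m * 2) % 2 = 0 := Nat.mul_mod_left m 2
  rw [dif_neg (by omega), add_zero, sum_apply]
  refine Fintype.sum_equiv (finCongr (by omega : m * 2 / 2 = m)) _ _ fun i => ?_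
  simp only [QuadraticMap.linMulLin_apply, LinearMap.proj_apply]
  congr 2
  · apply Fin.ext; simp [finProdFinEquiv, h2]
  · apply Fin.ext; simp [finProdFinEquiv, h2, add_comm]

/-- the basis vectors -/
noncomputable def ee (j : Fin (m * 2)) : CliffordAlgebra (QuadGrp.splitForm R (m * 2)) :=
  ι (QuadGrp.splitForm R (m * 2)) (Pi.single j 1)

theorem polar_single (a b : Fin m × Fin 2) :
    QuadraticMap.polar (QuadGrp.splitForm R (m * 2)) (Pi.single (finProdFinEquiv a) 1)
      (Pi.single (finProdFinEquiv b) 1) =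
      if a.1 = b.1 ∧ a.2 ≠ b.2 then 1 else 0 := by
  classical
  unfold QuadraticMap.polar
  simp only [splitForm_apply, Pi.add_apply, Pi.single_apply, Equiv.apply_eq_iff_eq, Prod.ext_iff]
  obtain ⟨a1, a2⟩ := a
  obtain ⟨b1, b2⟩ := b
  fin_cases a2 <;> fin_cases b2 <;> simp [Finset.sum_ite_eq, Finset.sum_add_distrib, add_mul, mul_add, eq_comm]

theorem splitForm_single (a : Fin m × Fin 2) :
    QuadGrp.splitForm R (m * 2) (Pi.single (finProdFinEquiv a) 1) = 0 := by
  classical
  simp only [splitForm_apply, Pi.single_apply, Equiv.apply_eq_iff_eq, Prod.ext_iff]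
  obtain ⟨a1, a2⟩ := a
  fin_cases a2 <;> simp

theorem ee_sq (a : Fin m × Fin 2) : ee R m (finProdFinEquiv a) * ee R m (finProdFinEquiv a) = 0 := by
  unfold ee
  rw [ι_sq_scalar, splitForm_single, map_zero]

theorem ee_pair (i : Fin m) :
    ee R m (finProdFinEquiv (i, 0)) * ee R m (finProdFinEquiv (i, 1)) +
      ee R m (finProdFinEquiv (i, 1)) * ee R m (finProdFinEquiv (i, 0)) = 1 := by
  unfold ee
  rw [ι_mul_ι_add_swap, polar_single]
  simp

theorem ee_anti (a b : Fin m × Fin 2) (h : a.1 ≠ b.1) :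
    ee R m (finProdFinEquiv a) * ee R m (finProdFinEquiv b) =
      -(ee R m (finProdFinEquiv b) * ee R m (finProdFinEquiv a)) := by
  have := ι_mul_ι_add_swap (Q := QuadGrp.splitForm R (m * 2)) (Pi.single (finProdFinEquiv a) 1)
    (Pi.single (finProdFinEquiv b) 1)
  rw [polar_single, if_neg (fun hh => h hh.1), map_zero] at this
  exact eq_neg_of_add_eq_zero_left this

/-- the factors -/
noncomputable def uu (i : Fin m) : CliffordAlgebra (QuadGrp.splitForm R (m * 2)) :=
  1 - 2 * (ee R m (finProdFinEquiv (i, 0)) * ee R m (finProdFinEquiv (i, 1)))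

theorem pp_sq (i : Fin m) :
    (ee R m (finProdFinEquiv (i, 0)) * ee R m (finProdFinEquiv (i, 1))) *
      (ee R m (finProdFinEquiv (i, 0)) * ee R m (finProdFinEquiv (i, 1))) =
    ee R m (finProdFinEquiv (i, 0)) * ee R m (finProdFinEquiv (i, 1)) := by
  have h1 : ee R m (finProdFinEquiv (i, 1)) * ee R m (finProdFinEquiv (i, 0)) =
      1 - ee R m (finProdFinEquiv (i, 0)) * ee R m (finProdFinEquiv (i, 1)) :=
    eq_sub_of_add_eq' (ee_pair R m i)
  have h0 := ee_sq R m (i, 0)
  set e0 := ee R m (finProdFinEquiv (i, 0))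
  set e1 := ee R m (finProdFinEquiv (i, 1))
  calc e0 * e1 * (e0 * e1) = e0 * (e1 * e0) * e1 := by noncomm_ring
    _ = e0 * (1 - e0 * e1) * e1 := by rw [h1]
    _ = e0 * e1 - (e0 * e0) * (e1 * e1) := by noncomm_ring
    _ = e0 * e1 := by rw [h0]; simp

theorem uu_sq (i : Fin m) : uu R m i * uu R m i = 1 := by
  unfold uu
  have := pp_sq R m i
  set p := ee R m (finProdFinEquiv (i, 0)) * ee R m (finProdFinEquiv (i, 1))
  calc (1 - 2 * p) * (1 - 2 * p) = 1 - 4 * p + 4 * (p * p) := by noncomm_ring
    _ = 1 := by rw [this]; noncomm_ring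

theorem ee_comm_uu (c : Fin m × Fin 2) (i : Fin m) (h : c.1 ≠ i) :
    Commute (ee R m (finProdFinEquiv c)) (uu R m i) := by
  unfold uu
  have h0 := ee_anti R m c (i, 0) h
  have h1 := ee_anti R m c (i, 1) h
  set x := ee R m (finProdFinEquiv c)
  set e0 := ee R m (finProdFinEquiv (i, 0))
  set e1 := ee R m (finProdFinEquiv (i, 1))
  have hp : x * (e0 * e1) = (e0 * e1) * x := by
    calc x * (e0 * e1) = (x * e0) * e1 := by noncomm_ring
      _ = -(e0 * (x * e1)) := by rw [h0]; noncomm_ring
      _ = (e0 * e1) * x := by rw [h1]; noncomm_ring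
  show x * (1 - 2 * (e0 * e1)) = (1 - 2 * (e0 * e1)) * x
  calc x * (1 - 2 * (e0 * e1)) = x - 2 * (x * (e0 * e1)) := by noncomm_ring
    _ = (1 - 2 * (e0 * e1)) * x := by rw [hp]; noncomm_ring

theorem uu_comm (i k : Fin m) : Commute (uu R m i) (uu R m k) := by
  by_cases h : i = k
  · subst h; exact Commute.refl _
  · have h0 := ee_comm_uu R m (i, 0) k h
    have h1 := ee_comm_uu R m (i, 1) k h
    have : Commute (uu R m k) (uu R m i) := by
      unfold uu at h0 h1 ⊢
      exact ((Commute.one_right _).sub_right (((Commute.ofNat_right _ 2)).mul_right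
        ((h0.mul_left h1).symm)))
    exact this.symm

theorem ee_anti_uu (i : Fin m) (s : Fin 2) :
    ee R m (finProdFinEquiv (i, s)) * uu R m i = -(uu R m i * ee R m (finProdFinEquiv (i, s))) := by
  unfold uu
  have h1 : ee R m (finProdFinEquiv (i, 1)) * ee R m (finProdFinEquiv (i, 0)) =
      1 - ee R m (finProdFinEquiv (i, 0)) * ee R m (finProdFinEquiv (i, 1)) :=
    eq_sub_of_add_eq' (ee_pair R m i)
  have hs0 := ee_sq R m (i, 0)
  have hs1 := ee_sq R m (i, 1)
  set e0 := ee R m (finProdFinEquiv (i, 0))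
  set e1 := ee R m (finProdFinEquiv (i, 1))
  fin_cases s
  · show e0 * (1 - 2 * (e0 * e1)) = -((1 - 2 * (e0 * e1)) * e0)
    have hL : e0 * (1 - 2 * (e0 * e1)) = e0 := by
      calc e0 * (1 - 2 * (e0 * e1)) = e0 - 2 * ((e0 * e0) * e1) := by noncomm_ring
        _ = e0 := by rw [hs0]; simp
    have hR : (1 - 2 * (e0 * e1)) * e0 = -e0 := by
      calc (1 - 2 * (e0 * e1)) * e0 = e0 - 2 * (e0 * (e1 * e0)) := by noncomm_ring
        _ = e0 - 2 * (e0 * (1 - e0 * e1)) := by rw [h1]
        _ = -e0 + 2 * ((e0 * e0) * e1) := by noncomm_ring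
        _ = -e0 := by rw [hs0]; simp
    rw [hL, hR, neg_neg]
  · show e1 * (1 - 2 * (e0 * e1)) = -((1 - 2 * (e0 * e1)) * e1)
    calc e1 * (1 - 2 * (e0 * e1)) = e1 - 2 * ((e1 * e0) * e1) := by noncomm_ring
      _ = e1 - 2 * ((1 - e0 * e1) * e1) := by rw [h1]
      _ = -e1 + 2 * (e0 * (e1 * e1)) := by noncomm_ring
      _ = -e1 := by rw [hs1]; simp
      _ = -(e1 - 2 * (e0 * (e1 * e1))) := by rw [hs1]; simp
      _ = -((1 - 2 * (e0 * e1)) * e1) := by noncomm_ring


end

theorem list_prod_sq {A : Type*} [Monoid A] (L : List A)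
    (hc : ∀ x ∈ L, ∀ y ∈ L, Commute x y) (hs : ∀ x ∈ L, x * x = 1) : L.prod * L.prod = 1 := by
  induction L with
  | nil => simp
  | cons a L ih =>
    have hca : Commute a L.prod :=
      Commute.list_prod_right _ _ fun x hx => hc a (by simp) x (by simp [hx])
    rw [List.prod_cons]
    calc a * L.prod * (a * L.prod) = a * (L.prod * a) * L.prod := by simp only [mul_assoc]
      _ = a * (a * L.prod) * L.prod := by rw [hca.eq]
      _ = (a * a) * (L.prod * L.prod) := by simp only [mul_assoc]
      _ = 1 := by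
        rw [hs a (by simp), ih (fun x hx y hy => hc x (by simp [hx]) y (by simp [hy]))
          (fun x hx => hs x (by simp [hx])), one_mul]

theorem anti_list {A : Type*} [Ring A] {ι : Type*} [DecidableEq ι] (f : ι → A) (x : A) (i0 : ι)
    (hcomm : ∀ i, i ≠ i0 → Commute x (f i)) (hanti : x * f i0 = -(f i0 * x)) (L : List ι)
    (hL : L.Nodup) :
    (i0 ∉ L → x * (L.map f).prod = (L.map f).prod * x) ∧
      (i0 ∈ L → x * (L.map f).prod = -((L.map f).prod * x)) := by
  induction L with
  | nil => simp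
  | cons a L ih =>
    rw [List.nodup_cons] at hL
    obtain ⟨ih1, ih2⟩ := ih hL.2
    simp only [List.map_cons, List.prod_cons, List.mem_cons, not_or]
    constructor
    · rintro ⟨h1, h2⟩
      rw [← mul_assoc, (hcomm a (Ne.symm h1)).eq, mul_assoc, ih1 h2, mul_assoc]
    · intro h
      by_cases ha : i0 = a
      · subst ha
        rw [← mul_assoc, hanti, neg_mul, mul_assoc, ih1 hL.1, mul_assoc]
      · have h2 : i0 ∈ L := h.resolve_left ha
        rw [← mul_assoc, (hcomm a (Ne.symm ha)).eq, mul_assoc, ih2 h2, mul_neg, mul_assoc]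

/-- For the standard split quadratic form Σ x_{2i} x_{2i+1} on R^{2m} over any commutative ring R, with
standard basis vectors e_j in the Clifford algebra, the product w of the elements 1 − 2 e_{2i}
e_{2i+1} (i < m, which pairwise commute) satisfies w² = 1 and anticommutes with every e_j. (Hence w
is central in the even Clifford algebra; over rings in which 2 is invertible (1 − w)/2 is the
non-trivial central idempotent of the even part.) -/
theorem result (R : Type u) [CommRing R] (m : ℕ) :
    let Q := QuadGrp.splitForm R (m * 2)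
    let e : Fin (m * 2) → CliffordAlgebra Q := fun j => CliffordAlgebra.ι Q (Pi.single j 1)
    let w : CliffordAlgebra Q :=
      ((List.finRange m).map fun i => 1 - 2 * (e (finProdFinEquiv (i, 0)) * e (finProdFinEquiv (i, 1)))).prod
    w * w = 1 ∧ ∀ j : Fin (m * 2), e j * w = -(w * e j) := by
  intro Q e w
  have hw : w = ((List.finRange m).map (uu R m)).prod := rfl
  constructor
  · rw [hw]
    apply list_prod_sq
    · intro x hx y hy
      rw [List.mem_map] at hx hy
      obtain ⟨i, -, rfl⟩ := hx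
      obtain ⟨k, -, rfl⟩ := hy
      exact uu_comm R m i k
    · intro x hx
      rw [List.mem_map] at hx
      obtain ⟨i, -, rfl⟩ := hx
      exact uu_sq R m i
  · intro j
    obtain ⟨⟨i, s⟩, rfl⟩ := finProdFinEquiv.surjective j
    rw [hw]
    show ee R m (finProdFinEquiv (i, s)) * _ = -(_ * ee R m (finProdFinEquiv (i, s)))
    refine (anti_list (uu R m) (ee R m (finProdFinEquiv (i, s))) i ?_ (ee_anti_uu R m i s)
      (List.finRange m) (List.nodup_finRange m)).2 (List.mem_finRange i)
    intro k hk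
    exact ee_comm_uu R m (i, s) k (Ne.symm hk)

end Groth.Agent.S17016
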