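import Groth.Statements.S17017
import Mathlib

set_option autoImplicit false
universe u
open QuadGrp

namespace Groth.Agent.S17017

open CliffordAlgebra Pointwise

section
variable (k : Type u) [Field k]

theorem Q3_apply (x : Fin 3 → k) : QuadGrp.splitForm k 3 x = x 1 * x 2 + x 0 * x 0 := by
  unfold QuadGrp.splitForm
  rw [dif_pos (by norm_num), add_apply, sum_apply]
  have h : ∀ f : Fin (3 / 2) → k, ∑ i, f i = f ⟨0, by norm_num⟩ :=
    fun f => Fin.sum_univ_one (M := k) f
  rw [h]
  simp only [QuadraticMap.linMulLin_apply, LinearMap.proj_apply, QuadraticMap.comp_apply,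
    QuadraticMap.sq_apply]
  rfl

/-- basis vectors -/
noncomputable def e0 : CliffordAlgebra (QuadGrp.splitForm k 3) := ι _ ![1, 0, 0]
/-- basis vectors -/
noncomputable def e1 : CliffordAlgebra (QuadGrp.splitForm k 3) := ι _ ![0, 1, 0]
/-- basis vectors -/
noncomputable def e2 : CliffordAlgebra (QuadGrp.splitForm k 3) := ι _ ![0, 0, 1]

theorem h00 : e0 k * e0 k = 1 := by
  unfold e0; rw [ι_sq_scalar, Q3_apply]; simp
theorem h11 : e1 k * e1 k = 0 := by
  unfold e1; rw [ι_sq_scalar, Q3_apply]; simp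
theorem h22 : e2 k * e2 k = 0 := by
  unfold e2; rw [ι_sq_scalar, Q3_apply]; simp

theorem polar01 : QuadraticMap.polar (QuadGrp.splitForm k 3) ![1, 0, 0] ![0, 1, 0] = 0 := by
  unfold QuadraticMap.polar; simp only [Q3_apply]; simp
theorem polar02 : QuadraticMap.polar (QuadGrp.splitForm k 3) ![1, 0, 0] ![0, 0, 1] = 0 := by
  unfold QuadraticMap.polar; simp only [Q3_apply]; simp
theorem polar12 : QuadraticMap.polar (QuadGrp.splitForm k 3) ![0, 1, 0] ![0, 0, 1] = 1 := by
  unfold QuadraticMap.polar; simp only [Q3_apply]; simp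

theorem h10 : e1 k * e0 k = -(e0 k * e1 k) := by
  have h := ι_mul_ι_add_swap (Q := QuadGrp.splitForm k 3) ![1, 0, 0] ![0, 1, 0]
  rw [polar01, map_zero] at h
  exact eq_neg_of_add_eq_zero_right h
theorem h20 : e2 k * e0 k = -(e0 k * e2 k) := by
  have h := ι_mul_ι_add_swap (Q := QuadGrp.splitForm k 3) ![1, 0, 0] ![0, 0, 1]
  rw [polar02, map_zero] at h
  exact eq_neg_of_add_eq_zero_right h
theorem h21 : e2 k * e1 k = 1 - e1 k * e2 k := by
  have h := ι_mul_ι_add_swap (Q := QuadGrp.splitForm k 3) ![0, 1, 0] ![0, 0, 1]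
  rw [polar12, map_one] at h
  exact eq_sub_of_add_eq' h

variable (x : CliffordAlgebra (QuadGrp.splitForm k 3))
theorem h00' : e0 k * (e0 k * x) = x := by rw [← mul_assoc, h00, one_mul]
theorem h11' : e1 k * (e1 k * x) = 0 := by rw [← mul_assoc, h11, zero_mul]
theorem h22' : e2 k * (e2 k * x) = 0 := by rw [← mul_assoc, h22, zero_mul]
theorem h10' : e1 k * (e0 k * x) = -(e0 k * (e1 k * x)) := by
  rw [← mul_assoc, h10, neg_mul, mul_assoc]
theorem h20' : e2 k * (e0 k * x) = -(e0 k * (e2 k * x)) := by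
  rw [← mul_assoc, h20, neg_mul, mul_assoc]
theorem h21' : e2 k * (e1 k * x) = x - e1 k * (e2 k * x) := by
  rw [← mul_assoc, h21, sub_mul, one_mul, mul_assoc]

end

/-- normal form in the Clifford algebra of `x₀² + x₁x₂` -/
macro "cliff_nf" : tactic => `(tactic| simp only [mul_assoc, mul_add, add_mul, mul_sub, sub_mul,
  mul_neg, neg_mul, smul_mul_assoc, mul_smul_comm, mul_one, one_mul, mul_zero, zero_mul,
  h00, h11, h22, h10, h20, h21, h00', h11', h22', h10', h20', h21', smul_add, smul_sub, smul_neg,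
  smul_zero, neg_neg, sub_zero, zero_sub, add_zero, zero_add, neg_zero])

section
variable (k : Type u) [Field k]

/-- the general even element -/
noncomputable def q (α β γ δ : k) : CliffordAlgebra (QuadGrp.splitForm k 3) :=
  α • 1 + β • (e1 k * e2 k) + γ • (e0 k * e1 k) + δ • (e0 k * e2 k)

theorem q_mul (α β γ δ α' β' γ' δ' : k) : q k α β γ δ * q k α' β' γ' δ' =
    q k (α * α' - δ * γ') (α * β' + β * α' + β * β' - γ * δ' + δ * γ')
      (α * γ' + β * γ' + γ * α') (α * δ' + δ * α' + δ * β') := by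
  unfold q
  cliff_nf
  module

theorem ι_eq (m : Fin 3 → k) :
    ι (QuadGrp.splitForm k 3) m = m 0 • e0 k + m 1 • e1 k + m 2 • e2 k := by
  have h : m = m 0 • ![1, 0, 0] + m 1 • ![0, 1, 0] + m 2 • ![0, 0, 1] := by
    ext i; fin_cases i <;> simp
  conv_lhs => rw [h]
  simp only [map_add, map_smul]
  rfl

theorem ιι_eq (m₁ m₂ : Fin 3 → k) :
    ι (QuadGrp.splitForm k 3) m₁ * ι (QuadGrp.splitForm k 3) m₂ =
      q k (m₁ 0 * m₂ 0 + m₁ 2 * m₂ 1) (m₁ 1 * m₂ 2 - m₁ 2 * m₂ 1)
        (m₁ 0 * m₂ 1 - m₁ 1 * m₂ 0) (m₁ 0 * m₂ 2 - m₁ 2 * m₂ 0) := by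
  rw [ι_eq, ι_eq]
  unfold q
  cliff_nf
  module

theorem even_eq (x : CliffordAlgebra (QuadGrp.splitForm k 3))
    (hx : x ∈ evenOdd (QuadGrp.splitForm k 3) 0) : ∃ α β γ δ : k, x = q k α β γ δ := by
  induction x, hx using CliffordAlgebra.even_induction with
  | algebraMap r =>
    exact ⟨r, 0, 0, 0, by unfold q; simp [Algebra.algebraMap_eq_smul_one]⟩
  | add x y hx hy ihx ihy =>
    obtain ⟨α, β, γ, δ, rfl⟩ := ihx
    obtain ⟨α', β', γ', δ', rfl⟩ := ihy
    exact ⟨α + α', β + β', γ + γ', δ + δ', by unfold q; module⟩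
  | ι_mul_ι_mul m₁ m₂ x hx ih =>
    obtain ⟨α, β, γ, δ, rfl⟩ := ih
    rw [ιι_eq, q_mul]
    exact ⟨_, _, _, _, rfl⟩

theorem rev_e0 : reverse (e0 k) = e0 k := by unfold e0; exact reverse_ι _
theorem rev_e1 : reverse (e1 k) = e1 k := by unfold e1; exact reverse_ι _
theorem rev_e2 : reverse (e2 k) = e2 k := by unfold e2; exact reverse_ι _

theorem rev_q (α β γ δ : k) : reverse (q k α β γ δ) = q k (α + β) (-β) (-γ) (-δ) := by
  unfold q
  simp only [map_add, map_smul, reverse.map_mul, reverse.map_one, rev_e0, rev_e1, rev_e2]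
  cliff_nf
  module

/-- the central odd element -/
noncomputable def z : CliffordAlgebra (QuadGrp.splitForm k 3) :=
  (2 : k) • (e0 k * (e1 k * e2 k)) - e0 k

theorem z_sq : z k * z k = 1 := by
  unfold z
  cliff_nf
  module

theorem z_q (α β γ δ : k) : z k * q k α β γ δ = q k α β γ δ * z k := by
  unfold z q
  cliff_nf
  module

theorem z_ι (m : Fin 3 → k) :
    z k * ι (QuadGrp.splitForm k 3) m = q k (-m 0) (2 * m 0) (m 1) (-m 2) := by
  rw [ι_eq]
  unfold z q
  cliff_nf
  module

theorem z_q_ι (a c d : k) :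
    z k * q k (-a) (2 * a) c d = ι (QuadGrp.splitForm k 3) ![a, c, -d] := by
  rw [ι_eq]
  simp only [Matrix.cons_val_zero, Matrix.cons_val_one, Matrix.cons_val_two, Matrix.head_cons,
    Matrix.tail_cons]
  unfold z q
  cliff_nf
  module

theorem conj_mem (u u' : CliffordAlgebra (QuadGrp.splitForm k 3))
    (hu : u ∈ evenOdd (QuadGrp.splitForm k 3) 0) (hu' : u' ∈ evenOdd (QuadGrp.splitForm k 3) 0)
    (h1 : u * u' = 1) (m : Fin 3 → k) :
    ∃ m' : Fin 3 → k, u * ι (QuadGrp.splitForm k 3) m * u' = ι (QuadGrp.splitForm k 3) m' := by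
  obtain ⟨α, β, γ, δ, hq⟩ := even_eq k u hu
  obtain ⟨α', β', γ', δ', hq'⟩ := even_eq k u' hu'
  set w := q k (-m 0) (2 * m 0) (m 1) (-m 2) with hw
  have hzw : z k * ι (QuadGrp.splitForm k 3) m = w := z_ι k m
  obtain ⟨A, B, Γ, Δ, hy⟩ : ∃ A B Γ Δ : k, u * w * u' = q k A B Γ Δ := by
    rw [hq, hq', hw, q_mul, q_mul]; exact ⟨_, _, _, _, rfl⟩
  -- the conjugate is `z * y`
  have hconj : u * ι (QuadGrp.splitForm k 3) m * u' = z k * (u * w * u') := by
    have hzu : z k * u = u * z k := by rw [hq]; exact z_q k α β γ δ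
    calc u * ι (QuadGrp.splitForm k 3) m * u'
        = u * ((z k * z k) * ι (QuadGrp.splitForm k 3) m) * u' := by rw [z_sq, one_mul]
      _ = (u * z k) * (z k * ι (QuadGrp.splitForm k 3) m) * u' := by simp only [mul_assoc]
      _ = z k * (u * w * u') := by rw [← hzu, hzw]; simp only [mul_assoc]
  -- `reverse y = - y`
  have hrevw : reverse w = -w := by
    rw [hw, rev_q]; unfold q; module
  have hn : reverse u * u = (α * α + α * β + γ * δ) • (1 : CliffordAlgebra (QuadGrp.splitForm k 3)) := by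
    rw [hq, rev_q, q_mul]
    unfold q
    module
  have he1 : reverse u' * reverse u = 1 := by
    rw [← reverse.map_mul, h1, reverse.map_one]
  have hrevy : reverse (u * w * u') = -(u * w * u') := by
    rw [reverse.map_mul, reverse.map_mul, hrevw]
    have hkey : reverse u' * (w * reverse u) = u * w * u' := by
      calc reverse u' * (w * reverse u) = reverse u' * (w * (reverse u * (u * u'))) := by
            rw [h1, mul_one]
        _ = reverse u' * (w * ((reverse u * u) * u')) := by simp only [mul_assoc]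
        _ = reverse u' * (((reverse u * u) * w) * u') := by
            rw [hn]; simp only [smul_mul_assoc, mul_smul_comm, one_mul, mul_one]
        _ = (reverse u' * reverse u) * (u * w * u') := by simp only [mul_assoc]
        _ = u * w * u' := by rw [he1, one_mul]
    rw [neg_mul, mul_neg, hkey]
  have htr : (2 * A + B) • (1 : CliffordAlgebra (QuadGrp.splitForm k 3)) = 0 := by
    have h := hrevy
    rw [hy, rev_q] at h
    have h2 : q k A B Γ Δ + q k (A + B) (-B) (-Γ) (-Δ) = 0 := by rw [h]; exact add_neg_cancel _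
    rw [← h2]
    unfold q
    module
  by_cases hAB : 2 * A + B = 0
  · have hB : B = 2 * (-A) := by linear_combination hAB
    refine ⟨![-A, Γ, -Δ], ?_⟩
    rw [hconj, hy, hB]
    have := z_q_ι k (-A) Γ Δ
    rw [neg_neg] at this
    exact this
  · have h10 : (1 : CliffordAlgebra (QuadGrp.splitForm k 3)) = 0 := by
      have h := congrArg (fun t => (2 * A + B)⁻¹ • t) htr
      simp only [smul_smul, inv_mul_cancel₀ hAB, one_smul, smul_zero] at h
      exact h
    refine ⟨0, ?_⟩
    rw [map_zero]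
    exact eq_zero_of_zero_eq_one h10.symm _

theorem smul_mem (w : (CliffordAlgebra (QuadGrp.splitForm k 3))ˣ)
    (hw : w ∈ QuadGrp.evenUnits (QuadGrp.splitForm k 3))
    (x : CliffordAlgebra (QuadGrp.splitForm k 3))
    (hx : x ∈ LinearMap.range (ι (QuadGrp.splitForm k 3))) :
    ConjAct.toConjAct w • x ∈ LinearMap.range (ι (QuadGrp.splitForm k 3)) := by
  obtain ⟨m, rfl⟩ := hx
  have hw0 : (w : CliffordAlgebra (QuadGrp.splitForm k 3)) ∈ evenOdd _ 0 := hw
  have hw0' : ((w⁻¹ : (CliffordAlgebra (QuadGrp.splitForm k 3))ˣ) :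
      CliffordAlgebra (QuadGrp.splitForm k 3)) ∈ evenOdd _ 0 :=
    (QuadGrp.evenUnits (QuadGrp.splitForm k 3)).inv_mem hw
  obtain ⟨m', hm'⟩ := conj_mem k _ _ hw0 hw0' (Units.mul_inv w) m
  refine ⟨m', ?_⟩
  rw [ConjAct.units_smul_def, ConjAct.ofConjAct_toConjAct]
  exact hm'.symm

end

/-- Over a field k, for the standard split quadratic form x₀² + x₁x₂ on k³, every even unit of the
Clifford algebra normalises the subspace k³, i.e. lies in the naive Clifford group; so the even
Clifford group is the whole unit group of the even Clifford algebra. (The published claim is made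
over fields of characteristic different from 2; here it is stated for every field.) -/
theorem result (k : Type u) [Field k] :
    QuadGrp.evenUnits (QuadGrp.splitForm k 3) ≤ QuadGrp.GPin' (QuadGrp.splitForm k 3) := by
  intro u hu
  rw [QuadGrp.mem_GPin']
  apply le_antisymm
  · intro x hx
    obtain ⟨s, hs, rfl⟩ := (Submodule.mem_smul_pointwise_iff_exists _ _ _).mp hx
    exact smul_mem k u hu s hs
  · intro x hx
    refine (Submodule.mem_smul_pointwise_iff_exists _ _ _).mpr
      ⟨(ConjAct.toConjAct u)⁻¹ • x, ?_, smul_inv_smul _ _⟩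
    rw [← map_inv]
    exact smul_mem k u⁻¹ ((QuadGrp.evenUnits (QuadGrp.splitForm k 3)).inv_mem hu) x hx

end Groth.Agent.S17017
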