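import Groth.Statements.S1702
import Mathlib
import Groth.Agent.Lib.helper22.CartierSch
import Groth.Agent.Lib.helper22.CartierSch2
import Groth.Agent.Lib.helper22.CartierFlat3
import Groth.Agent.S1710

set_option autoImplicit false
universe u
open CategoryTheory CategoryTheory.Limits AlgebraicGeometry TopologicalSpace
open SDiv

namespace Groth.Agent.S1702

section Helpers

open Groth.Agent.H22.CartierFlat

theorem main {X S : Scheme.{u}} (f : X ⟶ S) (𝓘₁ 𝓘₂ : X.IdealSheafData)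
    (h₁ : (BlowUp.IsEffCartierIdeal 𝓘₁ ∧ Flat (𝓘₁.subschemeι ≫ f))) (h₂ : (BlowUp.IsEffCartierIdeal 𝓘₂ ∧ Flat (𝓘₂.subschemeι ≫ f))) : (BlowUp.IsEffCartierIdeal (𝓘₁ * 𝓘₂) ∧ Flat ((𝓘₁ * 𝓘₂).subschemeι ≫ f)) := by
  constructor
  · intro x
    obtain ⟨U₀, hxU₀, t₀, ht₀, hI₀⟩ := h₁.1 x
    obtain ⟨W, hWU, g, hWg, hxW, t₂, ht₂, hI₂⟩ := exists_good_nbhd 𝓘₂ h₂.1 U₀ x hxU₀
    obtain ⟨ht₁, hI₁⟩ := cartier_restrict_basicOpen 𝓘₁ hWU g hWg t₀ ht₀ hI₀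
    refine ⟨W, hxW, _ * t₂, mul_mem ht₁ ht₂, ?_⟩
    rw [← Ideal.span_singleton_mul_span_singleton, ← hI₁, ← hI₂]
    rfl
  · apply flat_subscheme_of_flat_quot
    intro x _
    obtain ⟨V, hV, W, hWV, hxW, t, ht, hI⟩ := Groth.Agent.S1710.exists_chart f 𝓘₁ h₁.1 x
    refine ⟨V, hV, W, hWV, hxW, ?_⟩
    letI := (f.appLE V W.1 hWV).hom.toAlgebra
    have e1 := flat_quot_of_flat_subscheme f 𝓘₁ h₁.2 hV W hWV
    have e2 := flat_quot_of_flat_subscheme f 𝓘₂ h₂.2 hV W hWV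
    rw [hI] at e1
    have hmul : (𝓘₁ * 𝓘₂).ideal W = Ideal.span {t} * 𝓘₂.ideal W := by
      rw [← hI]; rfl
    rw [hmul]
    exact flat_quot_mul t (𝓘₂.ideal W) ht e1 e2

end Helpers

/-- Let f : X ⟶ S be a morphism and 𝓘₁, 𝓘₂ ideal sheaves of effective Cartier divisors on X whose closed
subschemes are flat over S. Then the product ideal 𝓘₁𝓘₂ (the sum of the divisors) is again the ideal
of an effective Cartier divisor flat over S. -/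
theorem result {X S : Scheme.{u}} (f : X ⟶ S) (𝓘₁ 𝓘₂ : X.IdealSheafData)
    (h₁ : (BlowUp.IsEffCartierIdeal 𝓘₁ ∧ Flat (𝓘₁.subschemeι ≫ f))) (h₂ : (BlowUp.IsEffCartierIdeal 𝓘₂ ∧ Flat (𝓘₂.subschemeι ≫ f))) : (BlowUp.IsEffCartierIdeal (𝓘₁ * 𝓘₂) ∧ Flat ((𝓘₁ * 𝓘₂).subschemeι ≫ f)) := by
  exact main f 𝓘₁ 𝓘₂ h₁ h₂

end Groth.Agent.S1702
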