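import Groth.Statements.S1704
import Groth.Agent.Lib.helper9.CohB12

set_option autoImplicit false
universe u
open CategoryTheory CategoryTheory.Limits AlgebraicGeometry TopologicalSpace
open SDiv

namespace Groth.Agent.S1704

/-- Let X be a locally Noetherian scheme and F a quasi-coherent module. Then F is zero if and only if F
has no associated point. -/
theorem result (X : Scheme.{u}) [IsLocallyNoetherian X] (F : X.Modules) (hF : Coh.IsQCoh F) :
    IsZero F ↔ ∀ x : ↥X, ¬ Curv2.IsAssPoint F x := by
  haveI : F.IsQuasicoherent := hF
  constructor
  · intro h0 x hx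
    exact Groth.Agent.Lib.helper9.CohB.not_subsingleton_stalk_of_isAssPoint F x hx
      (Groth.Agent.Lib.helper9.CohB.subsingleton_stalk_of_isZero F h0 x)
  · intro h
    apply Groth.Agent.Lib.helper9.CohB.isZero_of_subsingleton_stalks
    intro x
    by_contra hx
    obtain ⟨y, -, hy⟩ := Groth.Agent.Lib.helper9.CohB.exists_isAssPoint_specializes F x hx
    exact h y hy

end Groth.Agent.S1704
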