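import Groth.Statements.S1705
import Groth.Agent.Lib.helper9.CohB12

set_option autoImplicit false
universe u
open CategoryTheory CategoryTheory.Limits AlgebraicGeometry TopologicalSpace
open SDiv

namespace Groth.Agent.S1705

/-- Let X be a locally Noetherian scheme, F a quasi-coherent module and U an open subset containing
every associated point of F. Then the restriction map Γ(X, F) → Γ(U, F) is injective. -/
theorem result (X : Scheme.{u}) [IsLocallyNoetherian X] (F : X.Modules) (hF : Coh.IsQCoh F)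
    (U : X.Opens) (hU : ∀ x : ↥X, Curv2.IsAssPoint F x → x ∈ U) :
    Function.Injective (F.presheaf.map (homOfLE (le_top : U ≤ ⊤)).op) := by
  haveI : F.IsQuasicoherent := hF
  refine (injective_iff_map_eq_zero (F.presheaf.map (homOfLE (le_top : U ≤ ⊤)).op).hom).mpr ?_
  intro s hs
  have hs' : Groth.Agent.Lib.helper9.ZC.res F (le_top : U ≤ ⊤) s = 0 := hs
  apply Groth.Agent.Lib.helper9.ZC.eq_zero_of_germ_eq_zero F ⊤ s
  intro x _
  obtain ⟨V, hV, hxV, -⟩ := TopologicalSpace.Opens.isBasis_iff_nbhd.mp X.isBasis_affineOpens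
    (show x ∈ (⊤ : X.Opens) from trivial)
  haveI : IsNoetherianRing Γ(X, V) := IsLocallyNoetherian.component_noetherian ⟨V, hV⟩
  have hinj := Groth.Agent.Lib.helper9.CohB.res_injective_of_ass_subset F hV U (fun q hq =>
    hU _ ((Groth.Agent.Lib.helper9.CohB.isAssPoint_fromSpec_iff F hV q).mpr hq))
  have e1 : Groth.Agent.Lib.helper9.ZC.res F (inf_le_left : V ⊓ U ≤ V)
      (Groth.Agent.Lib.helper9.ZC.res F (le_top : V ≤ ⊤) s) =
      Groth.Agent.Lib.helper9.ZC.res F (le_top : V ⊓ U ≤ ⊤) s :=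
    Groth.Agent.Lib.helper9.ZC.res_res F _ _ s
  have e2 : Groth.Agent.Lib.helper9.ZC.res F (inf_le_right : V ⊓ U ≤ U)
      (Groth.Agent.Lib.helper9.ZC.res F (le_top : U ≤ ⊤) s) =
      Groth.Agent.Lib.helper9.ZC.res F (le_top : V ⊓ U ≤ ⊤) s :=
    Groth.Agent.Lib.helper9.ZC.res_res F _ _ s
  have h1 : Groth.Agent.Lib.helper9.ZC.res F (inf_le_left : V ⊓ U ≤ V)
      (Groth.Agent.Lib.helper9.ZC.res F (le_top : V ≤ ⊤) s) = 0 := by
    rw [e1, ← e2, hs', map_zero]
  have h2 : Groth.Agent.Lib.helper9.ZC.res F (le_top : V ≤ ⊤) s = 0 :=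
    hinj (h1.trans (map_zero _).symm)
  have h3 := Groth.Agent.Lib.helper9.ZC.germ_res F (le_top : V ≤ ⊤) x hxV s
  rw [← h3, h2, map_zero]

end Groth.Agent.S1705
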