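import Groth.Statements.S1706
import Groth.Agent.Lib.helper9.WeakAssSch
import Groth.Agent.Lib.helper9.ZC5

set_option autoImplicit false
universe u
open CategoryTheory CategoryTheory.Limits AlgebraicGeometry TopologicalSpace
open SDiv

namespace Groth.Agent.S1706

/-- Let X be a scheme, F a quasi-coherent module and U an open subset containing every weakly associated
point of F. Then the restriction map Γ(X, F) → Γ(U, F) is injective. -/
theorem result (X : Scheme.{u}) (F : X.Modules) (hF : Coh.IsQCoh F)
    (U : X.Opens) (hU : ∀ x : ↥X, Curv2.IsWeakAssPoint F x → x ∈ U) :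
    Function.Injective (F.presheaf.map (homOfLE (le_top : U ≤ ⊤)).op) := by
  haveI : F.IsQuasicoherent := hF
  intro a b hab
  have h0 : a - b = 0 := by
    apply Groth.Agent.Lib.helper9.WeakAssSch.eq_zero_of_germ_eq_zero_of_weakAss F ⊤ (a - b)
    intro x hx hwx
    have hxU : x ∈ U := hU x hwx
    have h1 := Groth.Agent.Lib.helper9.ZC.germ_res F (le_top : U ≤ ⊤) x hxU (a - b)
    rw [← h1]
    have h2 : Groth.Agent.Lib.helper9.ZC.res F (le_top : U ≤ ⊤) (a - b) = 0 :=
      (map_sub (ConcreteCategory.hom (F.presheaf.map (homOfLE (le_top : U ≤ ⊤)).op)) a b).trans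
        (sub_eq_zero.mpr hab)
    rw [h2]
    exact map_zero (F.presheaf.germ U x hxU).hom
  exact sub_eq_zero.mp h0

end Groth.Agent.S1706
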