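import Groth.Statements.S17065
import Mathlib

set_option autoImplicit false
universe u
open CAlg

namespace Groth.Agent.S17065

/-- The local algebraic statement its proof establishes: let A be a Noetherian ring, I ≤ J radical
ideals and Â the J-adic completion of A. If J^n Â ⊆ I Â for some n, then the closed set V(J) is open
inside V(I) ⊆ Spec A. (Globally: if X₂ ⊆ X₁ are the completions of a locally Noetherian scheme along
nested closed subsets Z₂ ⊆ Z₁ and the ideal of Z₁ generates an ideal of definition of X₂, then X₂ is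
a union of connected components of X₁.) -/
theorem result (A : Type u) [CommRing A] [IsNoetherianRing A]
    (I J : Ideal A) (hIJ : I ≤ J) (hI : I.IsRadical) (hJ : J.IsRadical) (n : ℕ)
    (h : (J ^ n).map (algebraMap A (AdicCompletion J A)) ≤ I.map (algebraMap A (AdicCompletion J A))) :
    IsOpen ((fun x : PrimeSpectrum.zeroLocus (I : Set A) => (x : PrimeSpectrum A)) ⁻¹'
      PrimeSpectrum.zeroLocus (J : Set A)) := by
  have h1 : J ^ n ≤ I ⊔ J ^ (n + 1) := by
    intro x hx
    have h2 : algebraMap A (AdicCompletion J A) x ∈ I.map (algebraMap A (AdicCompletion J A)) :=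
      h (Ideal.mem_map_of_mem _ hx)
    have hle : I.map (algebraMap A (AdicCompletion J A)) ≤
        Ideal.comap (AdicCompletion.evalₐ J (n + 1))
          (I.map (Ideal.Quotient.mk (J ^ (n + 1)))) := by
      rw [Ideal.map_le_iff_le_comap]
      intro a ha
      rw [Ideal.mem_comap, Ideal.mem_comap, AlgHom.commutes]
      exact Ideal.mem_map_of_mem _ ha
    have h3 := hle h2
    rw [Ideal.mem_comap, AlgHom.commutes] at h3
    have h6 : x ∈ Ideal.comap (Ideal.Quotient.mk (J ^ (n + 1)))
        (I.map (Ideal.Quotient.mk (J ^ (n + 1)))) := h3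
    rw [Ideal.comap_map_of_surjective _ Ideal.Quotient.mk_surjective,
      ← RingHom.ker_eq_comap_bot, Ideal.mk_ker] at h6
    exact h6
  have hfg : (J.map (Ideal.Quotient.mk I) ^ n : Ideal (A ⧸ I)).FG := IsNoetherian.noetherian _
  have hin : (J.map (Ideal.Quotient.mk I) ^ n : Ideal (A ⧸ I)) ≤
      J.map (Ideal.Quotient.mk I) • (J.map (Ideal.Quotient.mk I) ^ n : Ideal (A ⧸ I)) := by
    rw [smul_eq_mul, ← pow_succ', ← Ideal.map_pow, ← Ideal.map_pow]
    calc (J ^ n).map (Ideal.Quotient.mk I)
        ≤ (I ⊔ J ^ (n + 1)).map (Ideal.Quotient.mk I) := Ideal.map_mono h1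
      _ = (J ^ (n + 1)).map (Ideal.Quotient.mk I) := by
        rw [Ideal.map_sup, Ideal.map_quotient_self, bot_sup_eq]
  obtain ⟨r, hr1, hr2⟩ :=
    Submodule.exists_sub_one_mem_and_smul_eq_zero_of_fg_of_le_smul _ _ hfg hin
  obtain ⟨r0, rfl⟩ := Ideal.Quotient.mk_surjective r
  have hr0 : r0 - 1 ∈ J := by
    have h7 : Ideal.Quotient.mk I (r0 - 1) ∈ J.map (Ideal.Quotient.mk I) := by
      rw [map_sub, map_one]
      exact hr1
    have h8 : r0 - 1 ∈ Ideal.comap (Ideal.Quotient.mk I) (J.map (Ideal.Quotient.mk I)) := h7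
    rw [Ideal.comap_map_of_surjective _ Ideal.Quotient.mk_surjective,
      ← RingHom.ker_eq_comap_bot, Ideal.mk_ker, sup_eq_left.2 hIJ] at h8
    exact h8
  have hr0' : ∀ x ∈ J ^ n, r0 * x ∈ I := by
    intro x hx
    have h9 := hr2 (Ideal.Quotient.mk I x)
      (by rw [← Ideal.map_pow]; exact Ideal.mem_map_of_mem _ hx)
    rw [smul_eq_mul, ← map_mul, Ideal.Quotient.eq_zero_iff_mem] at h9
    exact h9
  have hset : ((fun x : PrimeSpectrum.zeroLocus (I : Set A) => (x : PrimeSpectrum A)) ⁻¹'
      PrimeSpectrum.zeroLocus (J : Set A)) =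
      (fun x : PrimeSpectrum.zeroLocus (I : Set A) => (x : PrimeSpectrum A)) ⁻¹'
        (PrimeSpectrum.basicOpen r0 : Set (PrimeSpectrum A)) := by
    ext ⟨p, hp⟩
    simp only [Set.mem_preimage, PrimeSpectrum.mem_zeroLocus, SetLike.mem_coe,
      PrimeSpectrum.mem_basicOpen]
    rw [PrimeSpectrum.mem_zeroLocus] at hp
    constructor
    · intro hJp hr0p
      have h11 := p.asIdeal.sub_mem hr0p (hJp hr0)
      rw [sub_sub_cancel] at h11
      exact p.isPrime.ne_top ((Ideal.eq_top_iff_one _).2 h11)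
    · intro hr0p x hx
      have h10 : r0 * x ^ n ∈ p.asIdeal := hp (hr0' _ (Ideal.pow_mem_pow hx n))
      exact p.isPrime.mem_of_pow_mem n ((p.isPrime.mem_or_mem h10).resolve_left hr0p)
  rw [hset]
  exact (PrimeSpectrum.basicOpen r0).isOpen.preimage continuous_subtype_val

end Groth.Agent.S17065
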