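import Groth.Statements.S1707
import Groth.Agent.Lib.helper9.WeakAssSch
import Groth.Agent.Lib.helper9.ZC5

set_option autoImplicit false
universe u
open CategoryTheory CategoryTheory.Limits AlgebraicGeometry TopologicalSpace
open SDiv

namespace Groth.Agent.S1707

/-- Let X be a scheme, F a quasi-coherent module and x a point of the support of F such that no other
point of the support specializes to x. Then x is weakly associated to F. -/
theorem result (X : Scheme.{u}) (F : X.Modules) (hF : Coh.IsQCoh F) (x : ↥X)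
    (hx : x ∈ CohB1.support F) (hmax : ∀ y : ↥X, y ∈ CohB1.support F → y ⤳ x → y = x) : Curv2.IsWeakAssPoint F x := by
  haveI : F.IsQuasicoherent := hF
  obtain ⟨W, hW, hxW, -⟩ := exists_isAffineOpen_mem_and_subset (show x ∈ (⊤ : X.Opens) from trivial)
  obtain ⟨q, rfl⟩ := Groth.Agent.Lib.helper9.CohB.exists_fromSpec_eq hW hxW
  haveI : q.asIdeal.IsPrime := q.2
  rw [Groth.Agent.Lib.helper9.WeakAssSch.isWeakAssPoint_fromSpec_iff]
  have hns : ¬ Subsingleton (LocalizedModule q.asIdeal.primeCompl
      (Groth.Agent.Lib.helper9.CohB.Γmod (F.restrict hW.fromSpec))) := by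
    rw [(Groth.Agent.Lib.helper9.CohB.stalkSemiEquiv F hW q).subsingleton_iff]
    exact hx
  obtain ⟨n, hn⟩ := Groth.Agent.Lib.helper9.WeakAssSch.exists_mk_ne_zero q.asIdeal hns
  have hle := Groth.Agent.Lib.helper9.WeakAssSch.annihilator_le_of_mk_ne_zero n q.asIdeal hn
  obtain ⟨P, hP, hPq⟩ := Ideal.exists_minimalPrimes_le hle
  haveI : P.IsPrime := hP.1.1
  let p : PrimeSpectrum Γ(X, W) := ⟨P, hP.1.1⟩
  have hspec : hW.fromSpec p ⤳ hW.fromSpec q :=
    (Groth.Agent.Lib.helper9.CohB.fromSpec_specializes_iff hW p q).mpr hPq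
  have hsupp : hW.fromSpec p ∈ CohB1.support F := by
    change ¬ Subsingleton _
    rw [← (Groth.Agent.Lib.helper9.CohB.stalkSemiEquiv F hW p).subsingleton_iff]
    intro hsub
    exact Groth.Agent.Lib.helper9.WeakAssSch.mk_ne_zero_of_annihilator_le n P hP.1.2
      (Subsingleton.elim _ _)
  have heq := hmax _ hsupp hspec
  have hpq : p = q := hW.fromSpec.isOpenEmbedding.injective heq
  refine ⟨n, ?_⟩
  have hqP : q.asIdeal = P := by rw [← hpq]
  rw [hqP]
  exact hP

end Groth.Agent.S1707
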