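import Groth.Statements.S17075
import Mathlib.AlgebraicGeometry.PullbackCarrier

set_option autoImplicit false
universe u
open CategoryTheory CategoryTheory.Limits AlgebraicGeometry
open MorSch

namespace Groth.Agent.S17075


/-- Let g : X → S be a proper morphism, i : V → X a closed immersion and j : U → X an open immersion.
Then there is an open subset S₀ of S such that, for every scheme S' and every morphism f : S' → S,
the image of f lies in S₀ if and only if the base change V ×_S S' → X ×_S S' of i factors through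
the open subscheme U ×_S S', equivalently the composite V ×_S S' → V → X has image contained in the
image of j. -/
theorem result
    {V X U S : Scheme.{u}} (g : X ⟶ S) [IsProper g] (i : V ⟶ X) [IsClosedImmersion i]
    (j : U ⟶ X) [IsOpenImmersion j] :
    ∃ S₀ : S.Opens, ∀ (S' : Scheme.{u}) (f : S' ⟶ S),
      Set.range f ⊆ (S₀ : Set S) ↔
        Set.range (pullback.fst (i ≫ g) f ≫ i) ⊆ Set.range j := by
  have hZ : IsClosed (Set.range i \ Set.range j : Set X) :=
    i.isClosedEmbedding.isClosed_range.sdiff j.isOpenEmbedding.isOpen_range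
  have hgZ : IsClosed (g '' (Set.range i \ Set.range j)) := g.isClosedMap _ hZ
  refine ⟨⟨(g '' (Set.range i \ Set.range j))ᶜ, hgZ.isOpen_compl⟩, ?_⟩
  intro S' f
  have hrange : Set.range (pullback.fst (i ≫ g) f ≫ i) =
      i '' ((i ≫ g) ⁻¹' Set.range f) := by
    rw [← Scheme.Pullback.range_fst]
    ext x
    simp only [Set.mem_range, Set.mem_image, Scheme.Hom.comp_apply]
    constructor
    · rintro ⟨y, rfl⟩; exact ⟨_, ⟨y, rfl⟩, rfl⟩
    · rintro ⟨_, ⟨y, rfl⟩, rfl⟩; exact ⟨y, rfl⟩
  rw [hrange]
  simp only [TopologicalSpace.Opens.coe_mk]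
  constructor
  · rintro h _ ⟨v, hv, rfl⟩
    by_contra hnj
    have : g (i v) ∈ g '' (Set.range i \ Set.range j) := ⟨i v, ⟨⟨v, rfl⟩, hnj⟩, rfl⟩
    have hv' : g (i v) ∈ Set.range f := by
      simpa [Scheme.Hom.comp_apply] using hv
    exact h hv' this
  · rintro h _ ⟨s', rfl⟩ ⟨x, ⟨⟨v, rfl⟩, hnj⟩, hx⟩
    apply hnj
    apply h
    refine ⟨v, ?_, rfl⟩
    simp only [Set.mem_preimage, Scheme.Hom.comp_apply]
    exact ⟨s', hx.symm⟩


end Groth.Agent.S17075
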