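import Groth.Statements.S17077
import Mathlib

set_option autoImplicit false
universe u
open RatCurve

namespace Groth.Agent.S17077aux
open MvPolynomial

/-- scaling lemma for homogeneous polynomials -/
theorem aeval_mul_of_isHomogeneous {σ : Type*} {R S : Type*} [CommSemiring R] [CommSemiring S]
    [Algebra R S] {F : MvPolynomial σ R} {d : ℕ} (hF : F.IsHomogeneous d) (r : S) (g : σ → S) :
    aeval (fun l => r * g l) F = r ^ d * aeval g F := by
  conv_lhs => rw [F.as_sum]
  conv_rhs => rw [F.as_sum]
  rw [map_sum, map_sum, Finset.mul_sum]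
  refine Finset.sum_congr rfl fun m hm => ?_
  rw [aeval_monomial, aeval_monomial]
  have hdeg : ∑ i ∈ m.support, m i = d := by
    have h0 := hF (mem_support_iff.mp hm)
    have h1 : Finsupp.degree m = d := by rw [Finsupp.degree_eq_weight_one]; exact h0
    rw [← h1, Finsupp.degree_apply]
  simp only [Finsupp.prod, mul_pow, Finset.prod_mul_distrib, Finset.prod_pow_eq_pow_sum, hdeg]
  ring

theorem aeval_C_eq {σ : Type*} {k : Type*} [CommRing k] (v : σ → k) (F : MvPolynomial σ k) :
    aeval (fun l => (C (v l) : MvPolynomial σ k)) F = C (eval v F) := by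
  induction F using MvPolynomial.induction_on with
  | C a => simp
  | add p q hp hq => rw [map_add, hp, hq, map_add, map_add]
  | mul_X p n h => rw [map_mul, h, aeval_X, map_mul, eval_X, map_mul]

/-- congruence modulo `X i - t` -/
theorem dvd_sub_aeval_update {σ : Type*} [DecidableEq σ] {k : Type*} [CommRing k] (i : σ)
    (t : MvPolynomial σ k) (F : MvPolynomial σ k) :
    (X i - t) ∣ F - aeval (Function.update X i t) F := by
  induction F using MvPolynomial.induction_on with
  | C a => simp
  | add p q hp hq =>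
    rw [map_add]
    have : p + q - (aeval (Function.update X i t) p + aeval (Function.update X i t) q) =
        (p - aeval (Function.update X i t) p) + (q - aeval (Function.update X i t) q) := by ring
    rw [this]
    exact dvd_add hp hq
  | mul_X p n h =>
    rw [map_mul, aeval_X]
    have : p * X n - aeval (Function.update X i t) p * Function.update X i t n =
        (p - aeval (Function.update X i t) p) * X n +
          aeval (Function.update X i t) p * (X n - Function.update X i t n) := by ring
    rw [this]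
    refine dvd_add (Dvd.dvd.mul_right h _) (Dvd.dvd.mul_left ?_ _)
    by_cases hn : n = i
    · subst hn; rw [Function.update_self]
    · rw [Function.update_of_ne hn, sub_self]; exact dvd_zero _

variable {k : Type u} [Field k]

/-- a homogeneous binary form vanishing at `a` with `a j ≠ 0` is divisible by the linear form -/
theorem linear_dvd (i j : Fin 2) (hij : i ≠ j) (a : Fin 2 → k) (haj : a j ≠ 0)
    (F : MvPolynomial (Fin 2) k) (d : ℕ) (hF : F.IsHomogeneous d) (hFa : eval a F = 0) :
    (X i - C (a i / a j) * X j : MvPolynomial (Fin 2) k) ∣ F := by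
  set c := a i / a j with hc
  have hall : ∀ l : Fin 2, l = i ∨ l = j := by
    intro l; fin_cases l <;> fin_cases i <;> fin_cases j <;> simp_all
  set v : Fin 2 → k := Function.update (fun _ => 1) i c with hv
  have hvi : v i = c := by rw [hv, Function.update_self]
  have hvj : v j = 1 := by rw [hv, Function.update_of_ne hij.symm]
  -- a = a j • v
  have ha : a = fun l => a j * v l := by
    funext l
    rcases hall l with rfl | rfl
    · rw [hvi, hc]; field_simp
    · rw [hvj, mul_one]
  have hev : eval v F = 0 := by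
    have h1 := aeval_mul_of_isHomogeneous (S := k) hF (a j) v
    rw [← ha] at h1
    have h2 : (aeval a) F = eval a F := by rw [aeval_eq_eval]
    have h3 : (aeval v) F = eval v F := by rw [aeval_eq_eval]
    rw [h2, h3, hFa] at h1
    rcases mul_eq_zero.mp h1.symm with h | h
    · exact absurd h (pow_ne_zero d haj)
    · exact h
  have hφ : aeval (Function.update X i (C c * X j)) F = 0 := by
    have h1 : (Function.update X i (C c * X j) : Fin 2 → MvPolynomial (Fin 2) k) =
        fun l => X j * C (v l) := by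
      funext l
      rcases hall l with rfl | rfl
      · rw [Function.update_self, hvi, mul_comm]
      · rw [Function.update_of_ne hij.symm, hvj, map_one, mul_one]
    rw [h1, aeval_mul_of_isHomogeneous hF, aeval_C_eq, hev, map_zero, mul_zero]
  have := dvd_sub_aeval_update i (C c * X j) F
  rwa [hφ, sub_zero] at this

theorem backward {n : ℕ} (F : Fin n → MvPolynomial (Fin 2) k)
    (d : Fin n → ℕ) (hF : ∀ i, (F i).IsHomogeneous (d i))
    (h : ∃ a : Fin 2 → k, a ≠ 0 ∧ ∀ i, MvPolynomial.eval a (F i) = 0) :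
    ∃ H : MvPolynomial (Fin 2) k, ¬ IsUnit H ∧ ∀ i, H ∣ F i := by
  obtain ⟨a, ha, hFa⟩ := h
  obtain ⟨j, hj⟩ := Function.ne_iff.mp ha
  have hj' : a j ≠ 0 := hj
  obtain ⟨i, hij⟩ : ∃ i : Fin 2, i ≠ j := by
    fin_cases j
    · exact ⟨1, by decide⟩
    · exact ⟨0, by decide⟩
  refine ⟨X i - C (a i / a j) * X j, ?_, fun l => linear_dvd i j hij a hj' (F l) (d l) (hF l) (hFa l)⟩
  intro hu
  have h1 := hu.map (eval a)
  have h2 : eval a (X i - C (a i / a j) * X j : MvPolynomial (Fin 2) k) = 0 := by
    simp only [map_sub, eval_X, map_mul, eval_C]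
    field_simp
    ring
  rw [h2] at h1
  exact not_isUnit_zero h1

/-- a non-unit polynomial in two variables over an algebraically closed field has a zero other
than the origin -/
theorem exists_nonzero_zero [IsAlgClosed k] (H : MvPolynomial (Fin 2) k) (hH : ¬ IsUnit H) :
    ∃ a : Fin 2 → k, a ≠ 0 ∧ eval a H = 0 := by
  by_contra hcon
  push Not at hcon
  -- every zero of H is the origin
  have hzero : ∀ x ∈ zeroLocus k (Ideal.span {H}), x = 0 := by
    intro x hx
    by_contra hx0
    apply hcon x hx0
    have := hx H (Ideal.subset_span rfl)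
    rwa [aeval_eq_eval] at this
  have hX : ∀ l : Fin 2, ∃ N : ℕ, H ∣ (X l : MvPolynomial (Fin 2) k) ^ N := by
    intro l
    have hmem : (X l : MvPolynomial (Fin 2) k) ∈
        vanishingIdeal k (zeroLocus k (Ideal.span {H})) := by
      intro x hx
      rw [hzero x hx, aeval_X]
      rfl
    rw [vanishingIdeal_zeroLocus_eq_radical] at hmem
    obtain ⟨N, hN⟩ := hmem
    exact ⟨N, Ideal.mem_span_singleton.mp hN⟩
  obtain ⟨N, hN⟩ := hX 0
  obtain ⟨M, hM⟩ := hX 1
  obtain ⟨i, -, hi⟩ := (dvd_prime_pow (X_prime (R := k) (σ := Fin 2) (i := 0)) N).mp hN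
  obtain ⟨j, -, hj⟩ := (dvd_prime_pow (X_prime (R := k) (σ := Fin 2) (i := 1)) M).mp hM
  rcases Nat.eq_zero_or_pos i with hi0 | hipos
  · subst hi0
    rw [pow_zero] at hi
    exact hH (hi.symm.isUnit isUnit_one)
  · -- X 0 ∣ X 1 ^ j
    have h1 : (X 0 : MvPolynomial (Fin 2) k) ∣ X 0 ^ i := dvd_pow_self _ hipos.ne'
    have h2 : (X 0 : MvPolynomial (Fin 2) k) ∣ X 1 ^ j :=
      h1.trans ((hi.symm.trans hj).dvd)
    have h3 : (X 0 : MvPolynomial (Fin 2) k) ∣ X 1 :=
      (X_prime (R := k) (σ := Fin 2) (i := 0)).dvd_of_dvd_pow h2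
    obtain ⟨G, hG⟩ := h3
    have := congrArg (eval (![0, 1] : Fin 2 → k)) hG
    simp at this

theorem forward [IsAlgClosed k] {n : ℕ} (F : Fin n → MvPolynomial (Fin 2) k)
    (h : ∃ H : MvPolynomial (Fin 2) k, ¬ IsUnit H ∧ ∀ i, H ∣ F i) :
    ∃ a : Fin 2 → k, a ≠ 0 ∧ ∀ i, MvPolynomial.eval a (F i) = 0 := by
  obtain ⟨H, hH, hdvd⟩ := h
  obtain ⟨a, ha, haH⟩ := exists_nonzero_zero H hH
  refine ⟨a, ha, fun i => ?_⟩
  obtain ⟨G, hG⟩ := hdvd i
  rw [hG, map_mul, haH, zero_mul]

theorem main [IsAlgClosed k] {n : ℕ} (F : Fin n → MvPolynomial (Fin 2) k)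
    (d : Fin n → ℕ) (hF : ∀ i, (F i).IsHomogeneous (d i)) :
    (∃ H : MvPolynomial (Fin 2) k, ¬ IsUnit H ∧ ∀ i, H ∣ F i) ↔
      ∃ a : Fin 2 → k, a ≠ 0 ∧ ∀ i, MvPolynomial.eval a (F i) = 0 :=
  ⟨forward F, backward F d hF⟩

end Groth.Agent.S17077aux

namespace Groth.Agent.S17077

/-- Let k be an algebraically closed field and F_0, …, F_{n-1} homogeneous polynomials in k[u, v] (of
possibly different degrees). Then the F_i have a common factor which is not a unit if and only if
they have a common zero (a, b) ≠ (0, 0) in k², that is, a common zero in the projective line. -/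
theorem result
    {k : Type u} [Field k] [IsAlgClosed k] {n : ℕ} (F : Fin n → MvPolynomial (Fin 2) k)
    (d : Fin n → ℕ) (hF : ∀ i, (F i).IsHomogeneous (d i)) :
    (∃ H : MvPolynomial (Fin 2) k, ¬ IsUnit H ∧ ∀ i, H ∣ F i) ↔
      ∃ a : Fin 2 → k, a ≠ 0 ∧ ∀ i, MvPolynomial.eval a (F i) = 0 := by
  exact Groth.Agent.S17077aux.main F d hF

end Groth.Agent.S17077
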