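import Groth.Statements.S17078
import Mathlib
import Groth.Agent.S17077

set_option autoImplicit false
universe u
open RatCurve

namespace Groth.Agent.S17078aux
open MvPolynomial Groth.Agent.S17077aux

/-- homogeneous component of a product with a homogeneous factor -/
theorem homogeneousComponent_mul_of_isHomogeneous {σ : Type*} {R : Type*} [CommSemiring R]
    {F : MvPolynomial σ R} {d : ℕ} (hF : F.IsHomogeneous d) (G : MvPolynomial σ R) (m : ℕ)
    (hdm : d ≤ m) :
    homogeneousComponent m (F * G) = F * homogeneousComponent (m - d) G := by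
  conv_lhs => rw [← sum_homogeneousComponent G]
  rw [Finset.mul_sum, map_sum]
  have hterm : ∀ j : ℕ, homogeneousComponent m (F * homogeneousComponent j G) =
      if j = m - d then F * homogeneousComponent j G else 0 := by
    intro j
    have hmem : F * homogeneousComponent j G ∈ homogeneousSubmodule σ R (d + j) :=
      hF.mul (homogeneousComponent_isHomogeneous j G)
    rw [homogeneousComponent_of_mem hmem]
    by_cases hj : j = m - d
    · rw [if_pos hj, if_pos (by omega)]
    · rw [if_neg hj, if_neg (by omega)]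
  simp_rw [hterm]
  rw [Finset.sum_ite_eq']
  by_cases hmem : m - d ∈ Finset.range (G.totalDegree + 1)
  · rw [if_pos hmem]
  · rw [if_neg hmem]
    rw [Finset.mem_range, not_lt] at hmem
    have : homogeneousComponent (m - d) G = 0 := by
      apply homogeneousComponent_eq_zero
      omega
    rw [this, mul_zero]

variable {k : Type u} [Field k] [IsAlgClosed k]

theorem backward {n : ℕ} (F : Fin n → MvPolynomial (Fin 2) k)
    (h : ∃ m : ℕ, ∀ P : MvPolynomial (Fin 2) k, P.IsHomogeneous m →
        ∃ G : Fin n → MvPolynomial (Fin 2) k, P = ∑ i, F i * G i) :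
    ¬ ∃ H : MvPolynomial (Fin 2) k, ¬ IsUnit H ∧ ∀ i, H ∣ F i := by
  rintro ⟨H, hH, hdvd⟩
  obtain ⟨m, hm⟩ := h
  obtain ⟨a, ha, haH⟩ := exists_nonzero_zero H hH
  obtain ⟨j, hj⟩ := Function.ne_iff.mp ha
  have hj' : a j ≠ 0 := hj
  obtain ⟨G, hG⟩ := hm (X j ^ m) (isHomogeneous_X_pow j m)
  have h1 := congrArg (eval a) hG
  rw [map_pow, eval_X, map_sum] at h1
  have h2 : ∀ i, eval a (F i * G i) = 0 := by
    intro i
    obtain ⟨Q, hQ⟩ := hdvd i
    rw [hQ, map_mul, map_mul, haH, zero_mul, zero_mul]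
  rw [Finset.sum_eq_zero (fun i _ => h2 i)] at h1
  exact pow_ne_zero m hj' h1

theorem forward {n : ℕ} (F : Fin n → MvPolynomial (Fin 2) k)
    (d : ℕ) (hF : ∀ i, (F i).IsHomogeneous d)
    (h : ¬ ∃ H : MvPolynomial (Fin 2) k, ¬ IsUnit H ∧ ∀ i, H ∣ F i) :
    ∃ m : ℕ, d ≤ m ∧ ∀ P : MvPolynomial (Fin 2) k, P.IsHomogeneous m →
        ∃ G : Fin n → MvPolynomial (Fin 2) k, (∀ i, (G i).IsHomogeneous (m - d)) ∧
          P = ∑ i, F i * G i := by
  have hnz : ¬ ∃ a : Fin 2 → k, a ≠ 0 ∧ ∀ i, eval a (F i) = 0 :=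
    fun hz => h (Groth.Agent.S17077aux.backward F (fun _ => d) hF hz)
  set I : Ideal (MvPolynomial (Fin 2) k) := Ideal.span (Set.range F) with hI
  have hzero : ∀ x ∈ zeroLocus k I, x = 0 := by
    intro x hx
    by_contra hx0
    apply hnz
    refine ⟨x, hx0, fun i => ?_⟩
    have := hx (F i) (Ideal.subset_span ⟨i, rfl⟩)
    rwa [aeval_eq_eval] at this
  have hX : ∀ l : Fin 2, ∃ N : ℕ, (X l : MvPolynomial (Fin 2) k) ^ N ∈ I := by
    intro l
    have hmem : (X l : MvPolynomial (Fin 2) k) ∈ vanishingIdeal k (zeroLocus k I) := by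
      intro x hx
      rw [hzero x hx, aeval_X]
      rfl
    rw [vanishingIdeal_zeroLocus_eq_radical] at hmem
    exact hmem
  obtain ⟨N0, hN0⟩ := hX 0
  obtain ⟨N1, hN1⟩ := hX 1
  refine ⟨max d (N0 + N1), le_max_left _ _, fun P hP => ?_⟩
  set m := max d (N0 + N1) with hm
  have hPI : P ∈ I := by
    rw [P.as_sum]
    refine Ideal.sum_mem _ fun s hs => ?_
    have hdeg : s 0 + s 1 = m := by
      have h0 := hP (mem_support_iff.mp hs)
      have h1 : Finsupp.degree s = m := by rw [Finsupp.degree_eq_weight_one]; exact h0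
      rw [← h1, Finsupp.degree_eq_sum, Fin.sum_univ_two]
    rw [monomial_eq, Finsupp.prod_fintype _ _ (fun i => pow_zero _), Fin.prod_univ_two]
    have hcase : N0 ≤ s 0 ∨ N1 ≤ s 1 := by
      have : N0 + N1 ≤ m := le_max_right _ _
      omega
    rcases hcase with hc | hc
    · have : (X 0 : MvPolynomial (Fin 2) k) ^ s 0 ∈ I := by
        rw [← Nat.sub_add_cancel hc, pow_add]
        exact I.mul_mem_left _ hN0
      exact I.mul_mem_left _ (I.mul_mem_right _ this)
    · have : (X 1 : MvPolynomial (Fin 2) k) ^ s 1 ∈ I := by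
        rw [← Nat.sub_add_cancel hc, pow_add]
        exact I.mul_mem_left _ hN1
      exact I.mul_mem_left _ (I.mul_mem_left _ this)
  obtain ⟨G', hG'⟩ := (Ideal.mem_span_range_iff_exists_fun).mp hPI
  refine ⟨fun i => homogeneousComponent (m - d) (G' i),
    fun i => homogeneousComponent_isHomogeneous _ _, ?_⟩
  have h1 : homogeneousComponent m P = P := by
    rw [homogeneousComponent_of_mem hP, if_pos rfl]
  rw [← h1, ← hG', map_sum]
  refine Finset.sum_congr rfl fun i _ => ?_
  rw [mul_comm, homogeneousComponent_mul_of_isHomogeneous (hF i) _ _ (le_max_left _ _)]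

theorem main {n : ℕ} (F : Fin n → MvPolynomial (Fin 2) k)
    (d : ℕ) (hF : ∀ i, (F i).IsHomogeneous d) :
    (¬ ∃ H : MvPolynomial (Fin 2) k, ¬ IsUnit H ∧ ∀ i, H ∣ F i) ↔
      ∃ m : ℕ, d ≤ m ∧ ∀ P : MvPolynomial (Fin 2) k, P.IsHomogeneous m →
        ∃ G : Fin n → MvPolynomial (Fin 2) k, (∀ i, (G i).IsHomogeneous (m - d)) ∧
          P = ∑ i, F i * G i := by
  constructor
  · exact forward F d hF
  · rintro ⟨m, -, hm⟩
    apply backward F
    refine ⟨m, fun P hP => ?_⟩
    obtain ⟨G, -, hG⟩ := hm P hP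
    exact ⟨G, hG⟩

end Groth.Agent.S17078aux

namespace Groth.Agent.S17078

/-- Let k be an algebraically closed field and F_0, …, F_{n-1} homogeneous polynomials of degree d in
k[u, v]. Then the F_i have no common factor other than units if and only if there is an integer m ≥
d such that every homogeneous polynomial of degree m can be written Σ_i F_i G_i with each G_i
homogeneous of degree m − d, i.e. the k-linear map (G_i)_i ↦ Σ_i F_i G_i from n copies of k[u,
v]_{m−d} to k[u, v]_m is surjective. -/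
theorem result
    {k : Type u} [Field k] [IsAlgClosed k] {n : ℕ} (F : Fin n → MvPolynomial (Fin 2) k)
    (d : ℕ) (hF : ∀ i, (F i).IsHomogeneous d) :
    (¬ ∃ H : MvPolynomial (Fin 2) k, ¬ IsUnit H ∧ ∀ i, H ∣ F i) ↔
      ∃ m : ℕ, d ≤ m ∧ ∀ P : MvPolynomial (Fin 2) k, P.IsHomogeneous m →
        ∃ G : Fin n → MvPolynomial (Fin 2) k, (∀ i, (G i).IsHomogeneous (m - d)) ∧
          P = ∑ i, F i * G i := by
  exact Groth.Agent.S17078aux.main F d hF

end Groth.Agent.S17078
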