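import Groth.Statements.S17079
import Mathlib

set_option autoImplicit false
universe u
open CategoryTheory CategoryTheory.Limits AlgebraicGeometry
open MorSch

namespace Groth.Agent.S17079
open CategoryTheory CategoryTheory.Limits AlgebraicGeometry Opposite

section helpers



section
variable {X S S' : Scheme.{u}} (gX : X ⟶ S) (h : S' ⟶ S)

/-- the big pasted pullback square -/
lemma bigsq (T' : Over S') :
    IsPullback (pullback.fst T'.hom (pullback.snd gX h))
      (pullback.snd T'.hom (pullback.snd gX h) ≫ pullback.fst gX h) (T'.hom ≫ h) gX :=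
  (IsPullback.of_hasPullback T'.hom (pullback.snd gX h)).paste_vert
    (IsPullback.of_hasPullback gX h).flip

/-- B ⋙ map h ≅ map h ⋙ A' objectwise -/
noncomputable def theta (T' : Over S') :
    (Over.map h).obj ((Over.map (pullback.snd gX h)).obj
      ((Over.pullback (pullback.snd gX h)).obj T')) ≅
    (Over.map gX).obj ((Over.pullback gX).obj ((Over.map h).obj T')) :=
  Over.isoMk (bigsq gX h T').isoPullback (by
    simp only [Over.map_obj_hom, Over.pullback_obj_hom, Over.mk_hom, Functor.id_obj,
      Functor.const_obj_obj, Over.map_obj_left, Over.pullback_obj_left, Over.mk_left]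
    rw [← Category.assoc]
    erw [(bigsq gX h T').isoPullback_hom_snd]
    simp [pullback.condition])

lemma theta_nat {T'' T' : Over S'} (φ : T'' ⟶ T') :
    (Over.map h).map ((Over.map (pullback.snd gX h)).map
      ((Over.pullback (pullback.snd gX h)).map φ)) ≫ (theta gX h T').hom =
    (theta gX h T'').hom ≫ (Over.map gX).map ((Over.pullback gX).map ((Over.map h).map φ)) := by
  ext
  apply pullback.hom_ext
  · simp [theta]
    rw [pullback.lift_fst, pullback.lift_fst]
    erw [(bigsq gX h T'').isoPullback_hom_fst_assoc]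
  · simp [theta]
    rw [pullback.lift_snd, pullback.lift_snd_assoc]
    erw [(bigsq gX h T'').isoPullback_hom_snd]

end

/-- `e.homEquiv` with its target written as a hom-set -/
noncomputable def eH {X Y S : Scheme.{u}} (gX : X ⟶ S) (gY : Y ⟶ S)
    (M : Over S) (e : (Flatn.morS gX gY).RepresentableBy M) (T : Over S) :
    (T ⟶ M) ≃ ((Over.map gX).obj ((Over.pullback gX).obj T) ⟶ Over.mk gY) :=
  e.homEquiv

lemma eH_comp {X Y S : Scheme.{u}} (gX : X ⟶ S) (gY : Y ⟶ S)
    (M : Over S) (e : (Flatn.morS gX gY).RepresentableBy M) {T₁ T₂ : Over S} (ψ : T₁ ⟶ T₂)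
    (s : T₂ ⟶ M) :
    eH gX gY M e T₁ (ψ ≫ s) = (Over.map gX).map ((Over.pullback gX).map ψ) ≫ eH gX gY M e T₂ s :=
  e.homEquiv_comp ψ s

/-- the forward map of the representing bijection -/
noncomputable def hFun {X Y S S' : Scheme.{u}} (gX : X ⟶ S) (gY : Y ⟶ S) (h : S' ⟶ S)
    (M : Over S) (e : (Flatn.morS gX gY).RepresentableBy M) (T' : Over S')
    (t : T' ⟶ (Over.pullback h).obj M) :
      ((Over.map (pullback.snd gX h)).obj ((Over.pullback (pullback.snd gX h)).obj T') ⟶
        (Over.pullback h).obj (Over.mk gY)) :=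
  (Over.mapPullbackAdj h).homEquiv _ (Over.mk gY)
    ((theta gX h T').hom ≫
      eH gX gY M e _ (((Over.mapPullbackAdj h).homEquiv T' M).symm t))

/-- the backward map of the representing bijection -/
noncomputable def hInv {X Y S S' : Scheme.{u}} (gX : X ⟶ S) (gY : Y ⟶ S) (h : S' ⟶ S)
    (M : Over S) (e : (Flatn.morS gX gY).RepresentableBy M) (T' : Over S')
    (b : (Over.map (pullback.snd gX h)).obj ((Over.pullback (pullback.snd gX h)).obj T') ⟶
        (Over.pullback h).obj (Over.mk gY)) : T' ⟶ (Over.pullback h).obj M :=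
  (Over.mapPullbackAdj h).homEquiv T' M
    ((eH gX gY M e _).symm
      ((theta gX h T').inv ≫ ((Over.mapPullbackAdj h).homEquiv _ (Over.mk gY)).symm b))

lemma hInv_hFun {X Y S S' : Scheme.{u}} (gX : X ⟶ S) (gY : Y ⟶ S) (h : S' ⟶ S)
    (M : Over S) (e : (Flatn.morS gX gY).RepresentableBy M) (T' : Over S')
    (t : T' ⟶ (Over.pullback h).obj M) : hInv gX gY h M e T' (hFun gX gY h M e T' t) = t := by
  unfold hInv hFun
  simp

lemma hFun_hInv {X Y S S' : Scheme.{u}} (gX : X ⟶ S) (gY : Y ⟶ S) (h : S' ⟶ S)
    (M : Over S) (e : (Flatn.morS gX gY).RepresentableBy M) (T' : Over S')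
    (b : (Over.map (pullback.snd gX h)).obj ((Over.pullback (pullback.snd gX h)).obj T') ⟶
        (Over.pullback h).obj (Over.mk gY)) : hFun gX gY h M e T' (hInv gX gY h M e T' b) = b := by
  unfold hInv hFun
  simp

lemma hFun_comp {X Y S S' : Scheme.{u}} (gX : X ⟶ S) (gY : Y ⟶ S) (h : S' ⟶ S)
    (M : Over S) (e : (Flatn.morS gX gY).RepresentableBy M) {T'' T' : Over S'} (φ : T'' ⟶ T')
    (t : T' ⟶ (Over.pullback h).obj M) :
    hFun gX gY h M e T'' (φ ≫ t) =
      (Over.map (pullback.snd gX h)).map ((Over.pullback (pullback.snd gX h)).map φ) ≫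
        hFun gX gY h M e T' t := by
  unfold hFun
  rw [← Adjunction.homEquiv_naturality_left, ← Category.assoc, theta_nat, Category.assoc,
    Adjunction.homEquiv_naturality_left_symm, eH_comp]

/-- the representing bijection -/
noncomputable def hEquiv {X Y S S' : Scheme.{u}} (gX : X ⟶ S) (gY : Y ⟶ S) (h : S' ⟶ S)
    (M : Over S) (e : (Flatn.morS gX gY).RepresentableBy M) (T' : Over S') :
    (T' ⟶ (Over.pullback h).obj M) ≃
      ((Over.map (pullback.snd gX h)).obj ((Over.pullback (pullback.snd gX h)).obj T') ⟶
        (Over.pullback h).obj (Over.mk gY)) where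
  toFun := hFun gX gY h M e T'
  invFun := hInv gX gY h M e T'
  left_inv := hInv_hFun gX gY h M e T'
  right_inv := hFun_hInv gX gY h M e T'



end helpers

/-- Let gX : X → S and gY : Y → S be morphisms and suppose the functor Mor_S(X, Y) — sending an S-scheme
T to the set of S-morphisms T ×_S X → Y, with base change as transition maps — is represented by an
S-scheme M. Then for every morphism h : S' → S the functor Mor_{S'}(X ×_S S', Y ×_S S') on
S'-schemes is represented by M ×_S S'. (The published statement assumes X and Y projective over S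
with X flat and S, S' locally Noetherian; this row assumes only that the functor is represented by
M. Only the existence of a representing structure on M ×_S S' is asserted, not its compatibility
with the one on M.) -/
theorem result
    {X Y S S' : Scheme.{u}} (gX : X ⟶ S) (gY : Y ⟶ S) (h : S' ⟶ S)
    (M : Over S) (e : (Flatn.morS gX gY).RepresentableBy M) :
    Nonempty ((Flatn.morS (pullback.snd gX h) (pullback.snd gY h)).RepresentableBy
      (Over.mk (pullback.snd M.hom h))) := by
  exact ⟨{ homEquiv := hEquiv gX gY h M e _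
           homEquiv_comp := fun φ t => hFun_comp gX gY h M e φ t }⟩

end Groth.Agent.S17079
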