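import Groth.Statements.S1708
import Groth.Agent.Lib.helper9.PushAff
import Groth.Agent.Lib.helper9.WeakAssSch

set_option autoImplicit false
universe u
open CategoryTheory CategoryTheory.Limits AlgebraicGeometry TopologicalSpace
open SDiv

namespace Groth.Agent.S1708

lemma exists_weakAss_comap {B A' : Type u} [CommRing B] [CommRing A'] (φ : B →+* A')
    {N N' : Type u} [AddCommGroup N] [Module A' N] [AddCommGroup N'] [Module B N']
    (e : N' ≃+ N) (he : ∀ (c : B) (x : N'), e (c • x) = φ c • e x) (q : Ideal B)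
    (hq : q ∈ FlatCA.weakAss B N') : ∃ 𝔭 ∈ FlatCA.weakAss A' N, 𝔭.comap φ = q := by
  obtain ⟨m, hm⟩ := hq
  have hann : (Submodule.span B {m}).annihilator =
      ((Submodule.span A' {e m}).annihilator).comap φ := by
    ext c
    rw [Ideal.mem_comap, Submodule.mem_annihilator_span_singleton,
      Submodule.mem_annihilator_span_singleton, ← he]
    exact (AddEquiv.map_eq_zero_iff e).symm
  rw [hann] at hm
  obtain ⟨𝔭, h𝔭, h𝔭q⟩ := Ideal.exists_minimalPrimes_comap_eq φ q hm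
  exact ⟨𝔭, ⟨e m, h𝔭⟩, h𝔭q⟩

open AlgebraicGeometry CategoryTheory Opposite TopologicalSpace Scheme.Modules
  Groth.Agent.Lib.helper9.CohB Groth.Agent.Lib.helper9.AffSect
  Groth.Agent.Lib.helper9.QcohLoc Groth.Agent.Lib.helper9.PushAff
  Groth.Agent.Lib.helper9.WeakAssSch in
set_option backward.isDefEq.respectTransparency false in
lemma main {X S : Scheme.{u}} (f : X ⟶ S) [IsAffineHom f] (F : X.Modules) [F.IsQuasicoherent]
    (s : ↥S) (hs : Curv2.IsWeakAssPoint ((pushforward f).obj F) s) :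
    ∃ x : ↥X, f x = s ∧ Curv2.IsWeakAssPoint F x := by
  haveI hPqc : ((pushforward f).obj F).IsQuasicoherent := isQuasicoherent_pushforward f F
  obtain ⟨W, hW, hsW, -⟩ := exists_isAffineOpen_mem_and_subset (x := s) (U := ⊤) trivial
  obtain ⟨q, rfl⟩ := exists_fromSpec_eq hW hsW
  rw [isWeakAssPoint_fromSpec_iff] at hs
  have hU' : IsAffineOpen (f ⁻¹ᵁ (hW.fromSpec ''ᵁ ⊤)) := by
    rw [image_top hW]
    exact hW.preimage f
  have hi0 : hW.fromSpec ''ᵁ ⊤ ≤ W := image_le hW ⊤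
  have hi : f ⁻¹ᵁ (hW.fromSpec ''ᵁ ⊤) ≤ f ⁻¹ᵁ W := fun x hx => hi0 hx
  obtain ⟨𝔭, h𝔭, h𝔭q⟩ := exists_weakAss_comap
    ((f.app (hW.fromSpec ''ᵁ ⊤)).hom.comp (S.presheaf.map (homOfLE (image_le hW ⊤)).op).hom)
    (N := Γmod (F.restrict hU'.fromSpec))
    (N' := Γmod (((pushforward f).obj F).restrict hW.fromSpec))
    ((show Γmod (((pushforward f).obj F).restrict hW.fromSpec) ≃+
        Γ(F, f ⁻¹ᵁ (hW.fromSpec ''ᵁ ⊤)) from
      { toFun := fun x => x
        invFun := fun x => x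
        left_inv := fun _ => rfl
        right_inv := fun _ => rfl
        map_add' := fun _ _ => rfl }).trans (sectEquiv F hU').symm.toAddEquiv)
    (fun c x => by
      show (sectEquiv F hU').symm (c • x) = _ • (sectEquiv F hU').symm x
      rw [smul_H f F hW ⊤ c x]
      exact (sectEquiv F hU').symm.map_smul _ _)
    q.asIdeal hs
  have h𝔭prime : 𝔭.IsPrime := by
    obtain ⟨m, hm⟩ := h𝔭
    exact hm.1.1
  refine ⟨hU'.fromSpec (⟨𝔭, h𝔭prime⟩ : PrimeSpectrum Γ(X, f ⁻¹ᵁ (hW.fromSpec ''ᵁ ⊤))), ?_,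
    (isWeakAssPoint_fromSpec_iff F hU' ⟨𝔭, h𝔭prime⟩).mpr h𝔭⟩
  have h1 := IsAffineOpen.SpecMap_appLE_fromSpec f hW hU' hi
  have h2 : f (hU'.fromSpec (⟨𝔭, h𝔭prime⟩ : PrimeSpectrum Γ(X, f ⁻¹ᵁ (hW.fromSpec ''ᵁ ⊤)))) =
      hW.fromSpec (Spec.map (f.appLE W _ hi)
        (⟨𝔭, h𝔭prime⟩ : PrimeSpectrum Γ(X, f ⁻¹ᵁ (hW.fromSpec ''ᵁ ⊤)))) := by
    rw [← Scheme.Hom.comp_apply, ← Scheme.Hom.comp_apply, h1]
  rw [h2]
  congr 1
  apply PrimeSpectrum.ext
  rw [← h𝔭q]
  ext c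
  have hnat : (f.appLE W _ hi) c = f.app (hW.fromSpec ''ᵁ ⊤)
      (S.presheaf.map (homOfLE (image_le hW ⊤)).op c) := by
    have hn := f.naturality (homOfLE hi0).op
    have h3 : f.app (hW.fromSpec ''ᵁ ⊤) (S.presheaf.map (homOfLE hi0).op c) =
        X.presheaf.map ((Opens.map f.base).map (homOfLE hi0)).op (f.app W c) :=
      congrArg (fun φ => φ.hom c) hn
    exact h3.symm
  show (f.appLE W _ hi) c ∈ 𝔭 ↔ _
  rw [hnat]
  rfl


/-- Let f : X ⟶ S be an affine morphism and F a quasi-coherent module on X. Then every weakly associated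
point of f_* F is the image of a weakly associated point of F. -/
theorem result {X S : Scheme.{u}} (f : X ⟶ S) [IsAffineHom f] (F : X.Modules) (hF : Coh.IsQCoh F)
    (s : ↥S) (hs : Curv2.IsWeakAssPoint ((Scheme.Modules.pushforward f).obj F) s) :
    ∃ x : ↥X, f x = s ∧ Curv2.IsWeakAssPoint F x := by
  haveI : F.IsQuasicoherent := hF
  exact main f F s hs

end Groth.Agent.S1708
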