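import Groth.Statements.S17080
import Mathlib

set_option autoImplicit false
universe u
open CategoryTheory CategoryTheory.Limits AlgebraicGeometry
open MorSch

namespace Groth.Agent.S17080
open CategoryTheory CategoryTheory.Limits AlgebraicGeometry Opposite

section helpers



lemma keyK {X Y U S M T : Scheme.{u}} (gX : X ⟶ S) (m : M ⟶ S)
    (u : pullback m gX ⟶ Y) (j : U ⟶ Y) (t : T ⟶ S) (φ : T ⟶ M)
    (ht : φ ≫ m = t)
    (q : pullback t gX ⟶ pullback m gX)
    (hq1 : q ≫ pullback.fst m gX = pullback.fst t gX ≫ φ)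
    (hq2 : q ≫ pullback.snd m gX = pullback.snd t gX) :
    (Set.range φ ⊆ (pullback.fst m gX '' (u ⁻¹' Set.range j)ᶜ)ᶜ) ↔
      Set.range (q ≫ u) ⊆ Set.range j := by
  subst ht
  have sq : IsPullback q (pullback.fst (φ ≫ m) gX) (pullback.fst m gX) φ := by
    refine IsPullback.of_right (h₁₂ := pullback.snd m gX) (v₁₃ := gX) (h₂₂ := m) ?_ hq1
      (IsPullback.of_hasPullback m gX).flip
    rw [hq2]
    exact (IsPullback.of_hasPullback (φ ≫ m) gX).flip
  constructor
  · rintro hφ _ ⟨w, rfl⟩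
    by_contra hw
    have h1 : pullback.fst m gX (q w) ∈ (pullback.fst m gX '' (u ⁻¹' Set.range j)ᶜ) :=
      ⟨q w, by simpa using hw, rfl⟩
    have h2 : pullback.fst m gX (q w) = φ (pullback.fst (φ ≫ m) gX w) := by
      rw [← Scheme.Hom.comp_apply, hq1, Scheme.Hom.comp_apply]
    rw [h2] at h1
    exact hφ ⟨_, rfl⟩ h1
  · rintro hq _ ⟨x, rfl⟩ ⟨z, hz, hzx⟩
    obtain ⟨w', hw1, hw2⟩ := Scheme.Pullback.exists_preimage_pullback (f := pullback.fst m gX)
      (g := φ) z x hzx
    have hqw : q (sq.isoPullback.inv w') = z := by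
      rw [← Scheme.Hom.comp_apply, sq.isoPullback_inv_fst, hw1]
    apply hz
    have := hq ⟨sq.isoPullback.inv w', rfl⟩
    rw [Scheme.Hom.comp_apply, hqw] at this
    exact this

/-- `e.homEquiv` with its target written as a hom-set -/
noncomputable def eH {X Y S : Scheme.{u}} (gX : X ⟶ S) (gY : Y ⟶ S)
    (M : Over S) (e : (Flatn.morS gX gY).RepresentableBy M) (T : Over S) :
    (T ⟶ M) ≃ ((Over.map gX).obj ((Over.pullback gX).obj T) ⟶ Over.mk gY) :=
  e.homEquiv

lemma eH_comp {X Y S : Scheme.{u}} (gX : X ⟶ S) (gY : Y ⟶ S)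
    (M : Over S) (e : (Flatn.morS gX gY).RepresentableBy M) {T₁ T₂ : Over S} (ψ : T₁ ⟶ T₂)
    (s : T₂ ⟶ M) :
    eH gX gY M e T₁ (ψ ≫ s) = (Over.map gX).map ((Over.pullback gX).map ψ) ≫ eH gX gY M e T₂ s :=
  e.homEquiv_comp ψ s

section
variable {X Y U S : Scheme.{u}} (gX : X ⟶ S) [IsProper gX] (gY : Y ⟶ S) (j : U ⟶ Y)
  [IsOpenImmersion j] (M : Over S) (e : (Flatn.morS gX gY).RepresentableBy M)

/-- the universal morphism -/
noncomputable def univ : (Over.map gX).obj ((Over.pullback gX).obj M) ⟶ Over.mk gY :=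
  eH gX gY M e M (𝟙 M)

omit [IsProper gX] in
lemma eH_eq (T : Over S) (ψ : T ⟶ M) :
    eH gX gY M e T ψ = (Over.map gX).map ((Over.pullback gX).map ψ) ≫ univ gX gY M e := by
  have := eH_comp gX gY M e ψ (𝟙 M)
  rwa [Category.comp_id] at this

/-- the open locus where the universal morphism lands in `U` -/
noncomputable def M0 : M.left.Opens :=
  ⟨(pullback.fst M.hom gX '' ((univ gX gY M e).left ⁻¹' Set.range j)ᶜ)ᶜ,
    ((pullback.fst M.hom gX).isClosedMap _
      ((j.isOpenEmbedding.isOpen_range.preimage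
        (univ gX gY M e).left.continuous).isClosed_compl)).isOpen_compl⟩

lemma K' (T : Over S) (ψ : T ⟶ M) :
    Set.range ψ.left ⊆ (M0 gX gY j M e : Set M.left) ↔
      Set.range (eH gX gY M e T ψ).left ⊆ Set.range j := by
  rw [eH_eq]
  exact keyK gX M.hom (univ gX gY M e).left j T.hom ψ.left (Over.w ψ)
    ((Over.map gX).map ((Over.pullback gX).map ψ)).left
    (by simp; exact pullback.lift_fst _ _ _) (by simp; exact pullback.lift_snd _ _ _)

/-- `U → Y` as a morphism over `S` -/
noncomputable def jO : Over.mk (j ≫ gY) ⟶ Over.mk gY := Over.homMk j rfl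

/-- `M₀ → M` as a morphism over `S` -/
noncomputable def iO : Over.mk ((M0 gX gY j M e).ι ≫ M.hom) ⟶ M :=
  Over.homMk (M0 gX gY j M e).ι rfl

omit [IsProper gX] in
instance : Mono (jO gY j) := by
  have : Mono (jO gY j).left := by
    show Mono j
    infer_instance
  exact Over.mono_of_mono_left _

instance : Mono (iO gX gY j M e) := by
  have : Mono (iO gX gY j M e).left := by
    show Mono (M0 gX gY j M e).ι
    infer_instance
  exact Over.mono_of_mono_left _

lemma fwd_range (T : Over S) (φ : T ⟶ Over.mk ((M0 gX gY j M e).ι ≫ M.hom)) :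
    Set.range (eH gX gY M e T (φ ≫ iO gX gY j M e)).left ⊆ Set.range j := by
  rw [← K' gX gY j M e T (φ ≫ iO gX gY j M e)]
  rintro _ ⟨x, rfl⟩
  have : (φ ≫ iO gX gY j M e).left x = (M0 gX gY j M e).ι (φ.left x) := by
    show (φ.left ≫ (M0 gX gY j M e).ι) x = _
    rw [Scheme.Hom.comp_apply]
  rw [this]
  exact (φ.left x).2

/-- forward map -/
noncomputable def fwd (T : Over S) (φ : T ⟶ Over.mk ((M0 gX gY j M e).ι ≫ M.hom)) :
    (Over.map gX).obj ((Over.pullback gX).obj T) ⟶ Over.mk (j ≫ gY) :=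
  Over.homMk (IsOpenImmersion.lift j (eH gX gY M e T (φ ≫ iO gX gY j M e)).left
    (fwd_range gX gY j M e T φ)) (by
    have := Over.w (eH gX gY M e T (φ ≫ iO gX gY j M e))
    simp only [Over.mk_hom] at this ⊢
    rw [← Category.assoc, IsOpenImmersion.lift_fac]
    exact this)

lemma fwd_comp (T : Over S) (φ : T ⟶ Over.mk ((M0 gX gY j M e).ι ≫ M.hom)) :
    fwd gX gY j M e T φ ≫ jO gY j = eH gX gY M e T (φ ≫ iO gX gY j M e) := by
  ext
  simp [fwd, jO, IsOpenImmersion.lift_fac]

omit [IsProper gX] in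
lemma comp_jO_left (T : Over S)
    (b : (Over.map gX).obj ((Over.pullback gX).obj T) ⟶ Over.mk (j ≫ gY)) :
    (b ≫ jO gY j).left = b.left ≫ j := rfl

lemma bwd_range (T : Over S)
    (b : (Over.map gX).obj ((Over.pullback gX).obj T) ⟶ Over.mk (j ≫ gY)) :
    Set.range ((eH gX gY M e T).symm (b ≫ jO gY j)).left ⊆
      Set.range (M0 gX gY j M e).ι := by
  rw [Scheme.Opens.range_ι, K' gX gY j M e T, Equiv.apply_symm_apply, comp_jO_left]
  rintro _ ⟨x, rfl⟩
  exact ⟨b.left x, by rw [Scheme.Hom.comp_apply]⟩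

/-- backward map -/
noncomputable def bwd (T : Over S)
    (b : (Over.map gX).obj ((Over.pullback gX).obj T) ⟶ Over.mk (j ≫ gY)) :
    T ⟶ Over.mk ((M0 gX gY j M e).ι ≫ M.hom) :=
  Over.homMk (IsOpenImmersion.lift (M0 gX gY j M e).ι
    ((eH gX gY M e T).symm (b ≫ jO gY j)).left (bwd_range gX gY j M e T b)) (by
    have := Over.w ((eH gX gY M e T).symm (b ≫ jO gY j))
    simp only [Over.mk_hom] at this ⊢
    rw [← Category.assoc, IsOpenImmersion.lift_fac]
    exact this)

lemma bwd_comp (T : Over S)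
    (b : (Over.map gX).obj ((Over.pullback gX).obj T) ⟶ Over.mk (j ≫ gY)) :
    bwd gX gY j M e T b ≫ iO gX gY j M e = (eH gX gY M e T).symm (b ≫ jO gY j) := by
  ext
  simp [bwd, iO, IsOpenImmersion.lift_fac]

/-- the representing bijection for `Mor(X, U)` -/
noncomputable def e0Equiv (T : Over S) :
    (T ⟶ Over.mk ((M0 gX gY j M e).ι ≫ M.hom)) ≃
      ((Over.map gX).obj ((Over.pullback gX).obj T) ⟶ Over.mk (j ≫ gY)) where
  toFun := fwd gX gY j M e T
  invFun := bwd gX gY j M e T
  left_inv φ := by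
    rw [← cancel_mono (iO gX gY j M e), bwd_comp, fwd_comp, Equiv.symm_apply_apply]
  right_inv b := by
    rw [← cancel_mono (jO gY j), fwd_comp, bwd_comp, Equiv.apply_symm_apply]

lemma fwd_nat {T₁ T₂ : Over S} (f : T₁ ⟶ T₂)
    (φ : T₂ ⟶ Over.mk ((M0 gX gY j M e).ι ≫ M.hom)) :
    fwd gX gY j M e T₁ (f ≫ φ) =
      (Over.map gX).map ((Over.pullback gX).map f) ≫ fwd gX gY j M e T₂ φ := by
  rw [← cancel_mono (jO gY j), fwd_comp, Category.assoc, Category.assoc, fwd_comp, eH_comp]

end



end helpers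

/-- Let gX : X → S be proper and flat, gY : Y → S separated and j : U → Y an open immersion, and suppose
the functor Mor_S(X, Y) — S-schemes T ↦ S-morphisms T ×_S X → Y — is represented by an S-scheme M
via e. Then there are an open subset M₀ of M and a representation e₀ of Mor_S(X, U) by the open
subscheme M₀ (viewed over S through M) which is compatible with e: for every S-morphism φ : T → M₀,
the S-morphism T ×_S X → Y classified by φ followed by the inclusion M₀ → M is the S-morphism T ×_S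
X → U classified by φ, followed by j. In particular the morphism Mor_S(X, U) → Mor_S(X, Y) induced
by j is an open immersion. (Published for X projective and flat and Y quasi-projective over a
locally Noetherian S, which is how M is known to exist there; representability is taken as a
hypothesis here.) -/
theorem result
    {X Y U S : Scheme.{u}} (gX : X ⟶ S) [IsProper gX] [Flat gX] (gY : Y ⟶ S) [IsSeparated gY]
    (j : U ⟶ Y) [IsOpenImmersion j] (M : Over S) (e : (Flatn.morS gX gY).RepresentableBy M) :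
    ∃ (M₀ : M.left.Opens)
      (e₀ : (Flatn.morS gX (j ≫ gY)).RepresentableBy (Over.mk (M₀.ι ≫ M.hom))),
      ∀ (T : Over S) (φ : T ⟶ Over.mk (M₀.ι ≫ M.hom)),
        (e.homEquiv (φ ≫ Over.homMk M₀.ι rfl) :
            (Over.map gX).obj ((Over.pullback gX).obj T) ⟶ Over.mk gY) =
          (e₀.homEquiv φ : (Over.map gX).obj ((Over.pullback gX).obj T) ⟶ Over.mk (j ≫ gY)) ≫
            (Over.homMk j rfl : Over.mk (j ≫ gY) ⟶ Over.mk gY) := by
  refine ⟨M0 gX gY j M e, { homEquiv := e0Equiv gX gY j M e _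
                            homEquiv_comp := fun f φ => fwd_nat gX gY j M e f φ }, ?_⟩
  intro T φ
  exact (fwd_comp gX gY j M e T φ).symm

end Groth.Agent.S17080
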