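import Groth.Statements.S17088
import Mathlib


set_option autoImplicit false
universe u
open CategoryTheory CategoryTheory.Limits AlgebraicGeometry
open MorSch

namespace Groth.Agent.S17088

theorem isPullback_of_mono {C : Type*} [Category C] {A B Y : C} (a : A ⟶ B) (m : B ⟶ Y) [Mono m] :
    IsPullback a (𝟙 A) m (a ≫ m) := by
  refine ⟨⟨by simp⟩, ⟨PullbackCone.IsLimit.mk _ (fun s => s.snd) ?_ ?_ ?_⟩⟩
  · intro s
    have := s.condition
    rw [← cancel_mono m, Category.assoc]
    exact this.symm
  · intro s; simp
  · intro s l _ h2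
    simpa using h2

theorem eq_comap_of_closedImmersion {P Q : Scheme.{u}} (m : P ⟶ Q) [Mono m] (I : P.IdealSheafData)
    [IsClosedImmersion (I.subschemeι ≫ m)] :
    I = (I.subschemeι ≫ m).ker.comap m := by
  have hp := isPullback_of_mono I.subschemeι m
  rw [← Scheme.IdealSheafData.ker_fst_of_isClosedImmersion (I.subschemeι ≫ m) m]
  have h1 : hp.isoPullback.hom ≫ pullback.fst m (I.subschemeι ≫ m) = I.subschemeι :=
    hp.isoPullback_hom_fst
  conv_lhs => rw [← Scheme.IdealSheafData.ker_subschemeι I, ← h1]
  exact Scheme.Hom.ker_comp_of_isIso _ _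


/-- Let f : X → S be a separated morphism, ι : W → X an immersion and T an S-scheme. For every closed
subscheme V of W ×_S T which is proper and flat over T — a T-point of the Hilbert functor of W over
S — the composite V → W ×_S T → X ×_S T is a closed immersion, and the map sending V to the ideal
sheaf of this composite, from T-points of the Hilbert functor of W to ideal sheaves on X ×_S T, is
injective: an immersion induces a monomorphism of Hilbert functors. -/
theorem result
    {W X S : Scheme.{u}} (f : X ⟶ S) [IsSeparated f] (ι : W ⟶ X) [IsImmersion ι]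
    (T : Over S) :
    (∀ V : FGA.HilbSet (ι ≫ f) T,
      IsClosedImmersion (V.1.subschemeι ≫ pullback.map (ι ≫ f) T.hom f T.hom ι (𝟙 T.left) (𝟙 S)
          (Category.comp_id _) ((Category.comp_id _).trans (Category.id_comp _).symm))) ∧
    Function.Injective (fun V : FGA.HilbSet (ι ≫ f) T =>
      (V.1.subschemeι ≫ pullback.map (ι ≫ f) T.hom f T.hom ι (𝟙 T.left) (𝟙 S)
          (Category.comp_id _) ((Category.comp_id _).trans (Category.id_comp _).symm)).ker) := by
  have hm : IsImmersion (pullback.map (ι ≫ f) T.hom f T.hom ι (𝟙 T.left) (𝟙 S)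
      (Category.comp_id _) ((Category.comp_id _).trans (Category.id_comp _).symm)) :=
    MorphismProperty.pullbackMap (P := @IsImmersion) (inferInstance : IsImmersion ι)
      (inferInstance : IsImmersion (𝟙 T.left)) rfl (Category.id_comp _).symm
  have hclosed : ∀ V : FGA.HilbSet (ι ≫ f) T,
      IsClosedImmersion (V.1.subschemeι ≫ pullback.map (ι ≫ f) T.hom f T.hom ι (𝟙 T.left) (𝟙 S)
          (Category.comp_id _) ((Category.comp_id _).trans (Category.id_comp _).symm)) := by
    intro V
    haveI : IsProper (V.1.subschemeι ≫ PicF.XTproj (ι ≫ f) T) := V.2.1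
    haveI : IsProper ((V.1.subschemeι ≫ pullback.map (ι ≫ f) T.hom f T.hom ι (𝟙 T.left) (𝟙 S)
          (Category.comp_id _) ((Category.comp_id _).trans (Category.id_comp _).symm)) ≫
          pullback.snd f T.hom) := by
      have e : (V.1.subschemeι ≫ pullback.map (ι ≫ f) T.hom f T.hom ι (𝟙 T.left) (𝟙 S)
          (Category.comp_id _) ((Category.comp_id _).trans (Category.id_comp _).symm)) ≫
          pullback.snd f T.hom = V.1.subschemeι ≫ PicF.XTproj (ι ≫ f) T := by
        rw [Category.assoc]
        congr 1
        exact (pullback.lift_snd _ _ _).trans (Category.comp_id _)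
      rw [e]; infer_instance
    haveI : IsProper (V.1.subschemeι ≫ pullback.map (ι ≫ f) T.hom f T.hom ι (𝟙 T.left) (𝟙 S)
          (Category.comp_id _) ((Category.comp_id _).trans (Category.id_comp _).symm)) :=
      IsProper.of_comp _ (pullback.snd f T.hom)
    exact IsClosedImmersion.of_isPreimmersion _ (Scheme.Hom.isClosedMap _).isClosed_range
  refine ⟨hclosed, ?_⟩
  intro V V' hVV'
  dsimp only at hVV'
  haveI := hclosed V
  haveI := hclosed V'
  apply Subtype.ext
  rw [eq_comap_of_closedImmersion (pullback.map (ι ≫ f) T.hom f T.hom ι (𝟙 T.left) (𝟙 S)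
      (Category.comp_id _) ((Category.comp_id _).trans (Category.id_comp _).symm)) V.1,
    eq_comap_of_closedImmersion (pullback.map (ι ≫ f) T.hom f T.hom ι (𝟙 T.left) (𝟙 S)
      (Category.comp_id _) ((Category.comp_id _).trans (Category.id_comp _).symm)) V'.1, hVV']

end Groth.Agent.S17088
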