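import Groth.Statements.S1709
import Groth.Agent.Lib.helper9.PushAff
import Groth.Agent.Lib.helper9.WeakAssSch
import Groth.Agent.S1708
import Mathlib.RingTheory.Ideal.MinimalPrime.Colon

set_option autoImplicit false
universe u
open CategoryTheory CategoryTheory.Limits AlgebraicGeometry TopologicalSpace
open SDiv

namespace Groth.Agent.S1709

lemma comap_mem_weakAss {B A' : Type u} [CommRing B] [CommRing A'] [IsNoetherianRing A']
    (φ : B →+* A') {N N' : Type u} [AddCommGroup N] [Module A' N] [AddCommGroup N']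
    [Module B N'] (e : N' ≃+ N) (he : ∀ (c : B) (x : N'), e (c • x) = φ c • e x)
    (𝔭 : Ideal A') (h𝔭 : 𝔭 ∈ FlatCA.weakAss A' N) : 𝔭.comap φ ∈ FlatCA.weakAss B N' := by
  obtain ⟨m, hm⟩ := h𝔭
  haveI : 𝔭.IsPrime := hm.1.1
  have hcol : ∀ m : N, (Submodule.span A' {m}).annihilator =
      (⊥ : Submodule A' N).colon {m} := by
    intro m
    ext r
    rw [Submodule.mem_annihilator_span_singleton, Submodule.mem_colon_singleton,
      Submodule.mem_bot]
  rw [hcol] at hm
  obtain ⟨m', hm'⟩ := Submodule.exists_eq_colon_of_mem_minimalPrimes hm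
  rw [← hcol] at hm'
  refine ⟨e.symm m', ?_⟩
  have hann : (Submodule.span B {e.symm m'}).annihilator = 𝔭.comap φ := by
    rw [hm']
    ext c
    rw [Ideal.mem_comap, Submodule.mem_annihilator_span_singleton,
      Submodule.mem_annihilator_span_singleton, ← AddEquiv.map_eq_zero_iff e, he,
      AddEquiv.apply_symm_apply]
  rw [hann]
  exact ⟨⟨Ideal.comap_isPrime φ 𝔭, le_rfl⟩, fun J hJ _ => hJ.2⟩

open AlgebraicGeometry in
lemma isAssPoint_iff_isWeakAssPoint {X : Scheme.{u}} (F : X.Modules) (x : X) :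
    Curv2.IsAssPoint F x ↔ Curv2.IsWeakAssPoint F x := by
  have hker : ∀ m : F.presheaf.stalk x,
      LinearMap.ker (LinearMap.toSpanSingleton (X.presheaf.stalk x) (F.presheaf.stalk x) m) =
        (⊥ : Submodule (X.presheaf.stalk x) (F.presheaf.stalk x)).colon {m} := by
    intro m
    ext r
    rw [LinearMap.mem_ker, LinearMap.toSpanSingleton_apply, Submodule.mem_colon_singleton,
      Submodule.mem_bot]
  unfold Curv2.IsAssPoint Curv2.IsWeakAssPoint IsAssociatedPrime
  rw [Submodule.isAssociatedPrime_def]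
  constructor
  · rintro ⟨-, m, hm⟩
    exact ⟨m, by rw [hker]; exact hm.symm⟩
  · rintro ⟨m, hm⟩
    exact ⟨(IsLocalRing.maximalIdeal.isMaximal _).isPrime, m, by rw [← hker]; exact hm.symm⟩

open AlgebraicGeometry CategoryTheory Opposite TopologicalSpace Scheme.Modules
  Groth.Agent.Lib.helper9.CohB Groth.Agent.Lib.helper9.AffSect
  Groth.Agent.Lib.helper9.QcohLoc Groth.Agent.Lib.helper9.PushAff
  Groth.Agent.Lib.helper9.WeakAssSch in
set_option backward.isDefEq.respectTransparency false in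
lemma push_weakAss {X S : Scheme.{u}} (f : X ⟶ S) [IsAffineHom f] [IsLocallyNoetherian X]
    (F : X.Modules) [F.IsQuasicoherent] (x : X) (hx : Curv2.IsWeakAssPoint F x) :
    Curv2.IsWeakAssPoint ((pushforward f).obj F) (f x) := by
  haveI hPqc : ((pushforward f).obj F).IsQuasicoherent := isQuasicoherent_pushforward f F
  obtain ⟨W, hW, hsW, -⟩ := exists_isAffineOpen_mem_and_subset (x := f x) (U := ⊤) trivial
  have hU' : IsAffineOpen (f ⁻¹ᵁ (hW.fromSpec ''ᵁ ⊤)) := by
    rw [image_top hW]
    exact hW.preimage f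
  have hxU' : x ∈ f ⁻¹ᵁ (hW.fromSpec ''ᵁ ⊤) := by
    rw [image_top hW]
    exact hsW
  have hi0 : hW.fromSpec ''ᵁ ⊤ ≤ W := image_le hW ⊤
  have hi : f ⁻¹ᵁ (hW.fromSpec ''ᵁ ⊤) ≤ f ⁻¹ᵁ W := fun x hx => hi0 hx
  obtain ⟨P, rfl⟩ := exists_fromSpec_eq hU' hxU'
  rw [isWeakAssPoint_fromSpec_iff] at hx
  haveI : IsNoetherianRing Γ(X, f ⁻¹ᵁ (hW.fromSpec ''ᵁ ⊤)) :=
    IsLocallyNoetherian.component_noetherian ⟨_, hU'⟩
  have hq := comap_mem_weakAss
    ((f.app (hW.fromSpec ''ᵁ ⊤)).hom.comp (S.presheaf.map (homOfLE (image_le hW ⊤)).op).hom)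
    (N := Γmod (F.restrict hU'.fromSpec))
    (N' := Γmod (((pushforward f).obj F).restrict hW.fromSpec))
    ((show Γmod (((pushforward f).obj F).restrict hW.fromSpec) ≃+
        Γ(F, f ⁻¹ᵁ (hW.fromSpec ''ᵁ ⊤)) from
      { toFun := fun x => x
        invFun := fun x => x
        left_inv := fun _ => rfl
        right_inv := fun _ => rfl
        map_add' := fun _ _ => rfl }).trans (sectEquiv F hU').symm.toAddEquiv)
    (fun c x => by
      show (sectEquiv F hU').symm (c • x) = _ • (sectEquiv F hU').symm x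
      rw [smul_H f F hW ⊤ c x]
      exact (sectEquiv F hU').symm.map_smul _ _)
    P.asIdeal hx
  have h1 := IsAffineOpen.SpecMap_appLE_fromSpec f hW hU' hi
  have h2 : f (hU'.fromSpec P) = hW.fromSpec (Spec.map (f.appLE W _ hi) P) := by
    rw [← Scheme.Hom.comp_apply, ← Scheme.Hom.comp_apply, h1]
  rw [h2, isWeakAssPoint_fromSpec_iff]
  have hnat : ∀ c, (f.appLE W _ hi) c = f.app (hW.fromSpec ''ᵁ ⊤)
      (S.presheaf.map (homOfLE (image_le hW ⊤)).op c) := by
    intro c
    have hn := f.naturality (homOfLE hi0).op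
    have h3 : f.app (hW.fromSpec ''ᵁ ⊤) (S.presheaf.map (homOfLE hi0).op c) =
        X.presheaf.map ((Opens.map f.base).map (homOfLE hi0)).op (f.app W c) :=
      congrArg (fun φ => φ.hom c) hn
    exact h3.symm
  have hid : (Spec.map (f.appLE W _ hi) P).asIdeal = P.asIdeal.comap
      ((f.app (hW.fromSpec ''ᵁ ⊤)).hom.comp
        (S.presheaf.map (homOfLE (image_le hW ⊤)).op).hom) := by
    ext c
    show (f.appLE W _ hi) c ∈ P.asIdeal ↔ _
    rw [hnat]
    rfl
  rw [hid]
  exact hq

open AlgebraicGeometry CategoryTheory Opposite TopologicalSpace Scheme.Modules in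
lemma main {X S : Scheme.{u}} (f : X ⟶ S) [IsAffineHom f] [IsLocallyNoetherian X]
    (F : X.Modules) [F.IsQuasicoherent] :
    (fun x => f x) '' {x : ↥X | Curv2.IsAssPoint F x} =
        {s : ↥S | Curv2.IsAssPoint ((pushforward f).obj F) s} ∧
      {s : ↥S | Curv2.IsAssPoint ((pushforward f).obj F) s} =
        {s : ↥S | Curv2.IsWeakAssPoint ((pushforward f).obj F) s} ∧
      {s : ↥S | Curv2.IsWeakAssPoint ((pushforward f).obj F) s} =
        (fun x => f x) '' {x : ↥X | Curv2.IsWeakAssPoint F x} := by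
  have hW2 : {s : ↥S | Curv2.IsWeakAssPoint ((pushforward f).obj F) s} =
      (fun x => f x) '' {x : ↥X | Curv2.IsWeakAssPoint F x} := by
    ext s
    constructor
    · intro hs
      obtain ⟨x, hx, hxw⟩ := Groth.Agent.S1708.main f F s hs
      exact ⟨x, hxw, hx⟩
    · rintro ⟨x, hxw, rfl⟩
      exact push_weakAss f F x hxw
  have e1 : {x : ↥X | Curv2.IsAssPoint F x} = {x : ↥X | Curv2.IsWeakAssPoint F x} := by
    ext x
    exact isAssPoint_iff_isWeakAssPoint F x
  have e2 : {s : ↥S | Curv2.IsAssPoint ((pushforward f).obj F) s} =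
      {s : ↥S | Curv2.IsWeakAssPoint ((pushforward f).obj F) s} := by
    ext s
    exact isAssPoint_iff_isWeakAssPoint _ s
  rw [e1, e2]
  exact ⟨hW2.symm, rfl, hW2⟩


/-- Let f : X ⟶ S be an affine morphism with X locally Noetherian and F a quasi-coherent module on X.
Then the following subsets of S coincide: the image of the associated points of F, the associated
points of f_* F, the weakly associated points of f_* F, and the image of the weakly associated
points of F. -/
theorem result {X S : Scheme.{u}} (f : X ⟶ S) [IsAffineHom f] [IsLocallyNoetherian X] (F : X.Modules)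
    (hF : Coh.IsQCoh F) :
    (fun x => f x) '' {x : ↥X | Curv2.IsAssPoint F x} = {s : ↥S | Curv2.IsAssPoint ((Scheme.Modules.pushforward f).obj F) s} ∧
      {s : ↥S | Curv2.IsAssPoint ((Scheme.Modules.pushforward f).obj F) s} =
        {s : ↥S | Curv2.IsWeakAssPoint ((Scheme.Modules.pushforward f).obj F) s} ∧
      {s : ↥S | Curv2.IsWeakAssPoint ((Scheme.Modules.pushforward f).obj F) s} =
        (fun x => f x) '' {x : ↥X | Curv2.IsWeakAssPoint F x} := by
  haveI : F.IsQuasicoherent := hF
  exact main f F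

end Groth.Agent.S1709
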