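import Groth.Statements.S17142
import Groth.Agent.Lib.helper25.IsocA

set_option autoImplicit false
universe u v
open Isoc

namespace Groth.Agent.S17142


/-- Let k be a perfect field of characteristic p, a ∈ ℤ, W = W(k) with fraction field L, and (N, F) a
σ^a-F-isocrystal over k (N finite-dimensional over L, F a bijective σ^a-semilinear endomorphism).
Let M₁, M₂ be W-lattices in N and let o₁(n) = ord_{M₁}(F^n), o₂(n) = ord_{M₂}(F^n) for n ≥ 1
(largest r with F^n(M_i) ⊆ p^r M_i). If o₁(n)/n → lam₁ and o₂(n)/n → lam₂ then lam₁ = lam₂; so the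
limit defining the first Newton slope is independent of the chosen lattice. -/
theorem result (p : ℕ) [Fact p.Prime] (k : Type u) [Field k] [CharP k p] [PerfectRing k p] (a : ℤ)
    (N : Type v) [AddCommGroup N] [Module (WittVector p k) N] [Module (FractionRing (WittVector p k)) N]
    [IsScalarTower (WittVector p k) (FractionRing (WittVector p k)) N]
    (F : N →ₛₗ[Isoc.frob p k a] N) (hF : Isoc.IsIsoc F)
    (M₁ M₂ : Submodule (WittVector p k) N) (hM₁ : M₁.IsLattice (FractionRing (WittVector p k))) (hM₂ : M₂.IsLattice (FractionRing (WittVector p k)))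
    (o₁ o₂ : ℕ → ℤ) (ho₁ : ∀ n : ℕ, 1 ≤ n → Isoc.IsOrd M₁ F n (o₁ n))
    (ho₂ : ∀ n : ℕ, 1 ≤ n → Isoc.IsOrd M₂ F n (o₂ n)) (lam₁ lam₂ : ℝ)
    (h₁ : Filter.Tendsto (fun n : ℕ => (o₁ n : ℝ) / n) Filter.atTop (nhds lam₁))
    (h₂ : Filter.Tendsto (fun n : ℕ => (o₂ n : ℝ) / n) Filter.atTop (nhds lam₂)) :
    lam₁ = lam₂ := by
  classical
  have hτ := Groth.Agent.Lib.helper25.IsocA.good_frob (p := p) (k := k) a
  obtain ⟨C, hC⟩ := Groth.Agent.Lib.helper25.IsocA.isOrd_compare hτ F hM₁ hM₂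
  obtain ⟨C', hC'⟩ := Groth.Agent.Lib.helper25.IsocA.isOrd_compare hτ F hM₂ hM₁
  have hsub : Filter.Tendsto (fun n : ℕ => (o₁ n : ℝ) / n - (o₂ n : ℝ) / n) Filter.atTop
      (nhds (lam₁ - lam₂)) := h₁.sub h₂
  have hzero : Filter.Tendsto (fun n : ℕ => (o₁ n : ℝ) / n - (o₂ n : ℝ) / n) Filter.atTop
      (nhds 0) := by
    have hb : Filter.Tendsto (fun n : ℕ => ((C + C' : ℕ) : ℝ) / n) Filter.atTop (nhds 0) :=
      tendsto_const_div_atTop_nhds_zero_nat _
    apply squeeze_zero_norm' _ hb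
    filter_upwards [Filter.eventually_ge_atTop 1] with n hn
    have hn0 : (0 : ℝ) < n := by exact_mod_cast hn
    have e1 := hC n _ _ (ho₁ n hn) (ho₂ n hn)
    have e2 := hC' n _ _ (ho₂ n hn) (ho₁ n hn)
    rw [← sub_div, Real.norm_eq_abs, abs_div, abs_of_pos hn0]
    apply div_le_div_of_nonneg_right _ hn0.le
    rw [abs_le]
    have e1' : ((o₁ n : ℤ) : ℝ) - (C : ℝ) ≤ (o₂ n : ℝ) := by exact_mod_cast e1
    have e2' : ((o₂ n : ℤ) : ℝ) - (C' : ℝ) ≤ (o₁ n : ℝ) := by exact_mod_cast e2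
    push_cast
    have hCn : (0 : ℝ) ≤ C := Nat.cast_nonneg _
    have hCn' : (0 : ℝ) ≤ C' := Nat.cast_nonneg _
    constructor <;> linarith
  have := tendsto_nhds_unique hsub hzero
  linarith


end Groth.Agent.S17142
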