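import Groth.Statements.S17143
import Groth.Agent.Lib.helper25.IsocC

set_option autoImplicit false
universe u v
open Isoc

namespace Groth.Agent.S17143


/-- Let k be a perfect field of characteristic p, a ∈ ℤ, W = W(k) with fraction field L, and (N, F) a
σ^a-F-isocrystal over k (N finite-dimensional over L, F a bijective σ^a-semilinear endomorphism)
with first Newton slope λ₁(N, F) = lam. Then for m ∈ ℤ and n ∈ ℕ the twisted iterate (N, p^m F^n), a
σ^(an)-F-isocrystal, has first Newton slope n · lam + m. (The published statement allows every n ∈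
ℤ, with F^n the inverse iterate for n < 0; that case is false in general, since the first slope of
(N, F⁻¹) is minus the LARGEST slope of (N, F): for N = N_0 ⊕ N_1, the sum of the standard
isocrystals of slopes 0 and 1, λ₁(N, F) = 0 while λ₁(N, F⁻¹) = −1. Only n ≥ 0 is stated here.) -/
theorem result (p : ℕ) [Fact p.Prime] (k : Type u) [Field k] [CharP k p] [PerfectRing k p] (a : ℤ)
    (N : Type v) [AddCommGroup N] [Module (WittVector p k) N] [Module (FractionRing (WittVector p k)) N]
    [IsScalarTower (WittVector p k) (FractionRing (WittVector p k)) N]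
    (F : N →ₛₗ[Isoc.frob p k a] N) (hF : Isoc.IsIsoc F) (lam : ℝ) (hlam : Isoc.IsFirstSlope F lam) (m : ℤ) (n : ℕ) :
    Isoc.IsFirstSlope ((p : (FractionRing (WittVector p k))) ^ m • Isoc.iter F n) (n * lam + m) := by
  classical
  have hτ := Groth.Agent.Lib.helper25.IsocA.good_frob (p := p) (k := k) a
  obtain ⟨M, hM, o, ho, hlim⟩ := hlam
  have hne : M ≠ ⊥ := Groth.Agent.Lib.helper25.IsocA.IsOrd.ne_bot (ho 1 le_rfl)
  refine ⟨M, hM, fun j => (if n = 0 then 0 else o (n * j)) + m * j, ?_, ?_⟩
  · intro j hj
    rw [Groth.Agent.Lib.helper25.IsocC.isOrd_twist_iff hτ]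
    by_cases hn : n = 0
    · subst hn
      rw [if_pos rfl, zero_mul]
      exact Groth.Agent.Lib.helper25.IsocC.isOrd_zero_iter hM.fg hne F
    · rw [if_neg hn]
      exact ho _ (Nat.one_le_iff_ne_zero.2 (Nat.mul_ne_zero hn (by omega)))
  · by_cases hn : n = 0
    · subst hn
      simp only [if_true, Nat.cast_zero, zero_mul, zero_add]
      apply tendsto_const_nhds.congr'
      filter_upwards [Filter.eventually_ge_atTop 1] with j hj
      have hj0 : (j : ℝ) ≠ 0 := by
        have : (0 : ℝ) < j := by exact_mod_cast hj
        exact this.ne'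
      push_cast
      field_simp
    · simp only [if_neg hn]
      have hn1 : 1 ≤ n := Nat.one_le_iff_ne_zero.2 hn
      have hcomp : Filter.Tendsto (fun j : ℕ => (o (n * j) : ℝ) / ((n * j : ℕ) : ℝ)) Filter.atTop
          (nhds lam) := by
        have hmul : Filter.Tendsto (fun j : ℕ => n * j) Filter.atTop Filter.atTop :=
          Filter.tendsto_atTop_mono (fun j => Nat.le_mul_of_pos_left j hn1) Filter.tendsto_id
        exact hlim.comp hmul
      have h2 : Filter.Tendsto (fun j : ℕ => (n : ℝ) * ((o (n * j) : ℝ) / ((n * j : ℕ) : ℝ)) + m)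
          Filter.atTop (nhds (n * lam + m)) := (hcomp.const_mul (n : ℝ)).add_const _
      apply h2.congr'
      filter_upwards [Filter.eventually_ge_atTop 1] with j hj
      have hj0 : (j : ℝ) ≠ 0 := by
        have : (0 : ℝ) < j := by exact_mod_cast hj
        exact this.ne'
      have hn0 : (n : ℝ) ≠ 0 := by exact_mod_cast hn
      push_cast
      field_simp


end Groth.Agent.S17143
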