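import Groth.Statements.S17157
import Mathlib

set_option autoImplicit false
universe u
open Isoc

namespace Groth.Agent.S17157

section aux

variable (p : ℕ) [Fact p.Prime] (k : Type u) [Field k] [CharP k p] [PerfectRing k p]

lemma charZero_K : CharZero (FractionRing (WittVector p k)) := by
  obtain ⟨ℓ, hℓ⟩ := CharP.exists (FractionRing (WittVector p k))
  rcases CharP.char_is_prime_or_zero (FractionRing (WittVector p k)) ℓ with hprime | hzero
  · exfalso
    have h0 : ((ℓ : ℕ) : FractionRing (WittVector p k)) = 0 := CharP.cast_eq_zero _ ℓ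
    have h1 : ((ℓ : ℕ) : WittVector p k) = 0 := by
      apply IsFractionRing.injective (WittVector p k) (FractionRing (WittVector p k))
      rw [map_natCast, map_zero]; exact h0
    have h2 : ((ℓ : ℕ) : k) = 0 := by
      have := congrArg (WittVector.constantCoeff (p := p) (R := k)) h1
      simpa using this
    have h3 : p ∣ ℓ := (CharP.cast_eq_zero_iff k p ℓ).1 h2
    have h4 : p = ℓ := (Nat.prime_dvd_prime_iff_eq (Fact.out : p.Prime) hprime).1 h3
    exact WittVector.FractionRing.p_nonzero p k (h4 ▸ h0)
  · subst hzero
    exact CharP.charP_to_charZero _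

lemma frob_iter_W [Finite k] : ∃ f : ℕ, 0 < f ∧ ∀ x : WittVector p k, (WittVector.frobenius)^[f] x = x := by
  classical
  have : Fintype k := Fintype.ofFinite k
  obtain ⟨n, -, hn⟩ := FiniteField.card k p
  refine ⟨n, n.pos, fun x => ?_⟩
  have key : ∀ (i : ℕ) (y : WittVector p k) (j : ℕ),
      ((WittVector.frobenius)^[i] y).coeff j = y.coeff j ^ (p ^ i) := by
    intro i
    induction i with
    | zero => intro y j; simp
    | succ i ih =>
      intro y j
      rw [Function.iterate_succ', Function.comp_apply, WittVector.coeff_frobenius_charP, ih,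
        ← pow_mul, ← pow_succ]
  ext j
  rw [key, ← hn, FiniteField.pow_card]

lemma frob_iter_K [Finite k] : ∃ f : ℕ, 0 < f ∧
    ∀ y : FractionRing (WittVector p k), (⇑(Isoc.frob p k 1))^[f] y = y := by
  obtain ⟨f, hf, hW⟩ := frob_iter_W p k
  refine ⟨f, hf, fun y => ?_⟩
  have hstep : ∀ (i : ℕ) (a : WittVector p k),
      (⇑(Isoc.frob p k 1))^[i] (algebraMap _ (FractionRing (WittVector p k)) a) =
        algebraMap _ (FractionRing (WittVector p k)) ((WittVector.frobenius)^[i] a) := by
    intro i
    induction i with
    | zero => intro a; rfl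
    | succ i ih =>
      intro a
      rw [Function.iterate_succ', Function.comp_apply, ih, Isoc.frob_algebraMap, zpow_one,
        Function.iterate_succ', Function.comp_apply]
      rfl
  obtain ⟨a, b, hb, rfl⟩ := IsFractionRing.div_surjective (A := WittVector p k) y
  have hpow : ∀ z, (⇑(Isoc.frob p k 1))^[f] z = ((Isoc.frob p k 1) ^ f) z := by
    intro z; rw [RingHom.coe_pow]
  rw [hpow, map_div₀, ← hpow, ← hpow, hstep, hstep, hW, hW]

end aux

/-- Let k be a finite field of characteristic p, W = W(k), L its fraction field with Frobenius σ, and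
let U be the σ-semilinear endomorphism of L² = (Fin 2 → L) determined by U(e₀) = e₀ and U(e₁) = e₀ +
e₁ on the standard basis. Then (L², U) is an F-isocrystal in which the sub-isocrystal L · e₀ admits
no U-stable complementary L-subspace; in particular the category of F-isocrystals over a finite
field is not semisimple. (Over an algebraically closed field a complement exists.) -/
theorem result
    (p : ℕ) [Fact p.Prime] (k : Type u) [Field k] [CharP k p] [PerfectRing k p] [Finite k]
    (U : (Fin 2 → (FractionRing (WittVector p k))) →ₛₗ[Isoc.frob p k 1] (Fin 2 → (FractionRing (WittVector p k))))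
    (hU0 : U (Pi.single 0 1) = Pi.single 0 1)
    (hU1 : U (Pi.single 1 1) = Pi.single 0 1 + Pi.single 1 1)
    (Q : Submodule (FractionRing (WittVector p k)) (Fin 2 → (FractionRing (WittVector p k)))) (hQ : ∀ x ∈ Q, U x ∈ Q) :
    ¬ IsCompl (Submodule.span (FractionRing (WittVector p k)) {(Pi.single 0 1 : Fin 2 → (FractionRing (WittVector p k)))}) Q := by
  intro hc
  set L := FractionRing (WittVector p k) with hL
  have : CharZero L := charZero_K p k
  obtain ⟨f, hfpos, hf⟩ := frob_iter_K p k
  set e₀ : Fin 2 → L := Pi.single 0 1 with he₀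
  set e₁ : Fin 2 → L := Pi.single 1 1 with he₁
  have hmem : e₁ ∈ Submodule.span L {e₀} ⊔ Q := by rw [hc.sup_eq_top]; trivial
  obtain ⟨y, hy, z, hz, hyz⟩ := Submodule.mem_sup.1 hmem
  obtain ⟨a, rfl⟩ := Submodule.mem_span_singleton.1 hy
  have hz' : z = e₁ - a • e₀ := by rw [← hyz]; abel
  have hUz : U z = e₀ + e₁ - (Isoc.frob p k 1) a • e₀ := by
    rw [hz', map_sub, map_smulₛₗ, hU0, hU1]
  have hdiff : U z - z = (1 - (Isoc.frob p k 1) a + a) • e₀ := by
    rw [hUz, hz']
    simp only [sub_smul, add_smul, one_smul]
    abel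
  have hQ' : (1 - (Isoc.frob p k 1) a + a) • e₀ ∈ Q := by
    rw [← hdiff]; exact Q.sub_mem (hQ z hz) hz
  have hP' : (1 - (Isoc.frob p k 1) a + a) • e₀ ∈ Submodule.span L {e₀} :=
    Submodule.smul_mem _ _ (Submodule.mem_span_singleton_self _)
  have hzero := Submodule.disjoint_def.1 hc.disjoint _ hP' hQ'
  have hcoef : 1 - (Isoc.frob p k 1) a + a = 0 := by
    have := congrFun hzero 0
    simpa [he₀] using this
  have hτa : (Isoc.frob p k 1) a = a + 1 := by linear_combination -hcoef
  have hiter : ∀ i : ℕ, (⇑(Isoc.frob p k 1))^[i] a = a + i := by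
    intro i
    induction i with
    | zero => simp
    | succ i ih =>
      rw [Function.iterate_succ', Function.comp_apply, ih, map_add, map_natCast, hτa]
      push_cast; ring
  have := hiter f
  rw [hf] at this
  have hf0 : (f : L) = 0 := by linear_combination -this
  have : f = 0 := by exact_mod_cast hf0
  omega


end Groth.Agent.S17157
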