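import Groth.Statements.S1717
import Groth.Agent.Lib.helper9.Depth19

set_option autoImplicit false
universe u
open LocCoh

namespace Groth.Agent.S1717

/-- Let A be a catenary Noetherian local ring satisfying Serre's condition (S_2). Then Spec A is
equidimensional: for every minimal prime p of A the dimension of A/p equals the dimension of A. -/
theorem result (A : Type u) [CommRing A] [IsLocalRing A] [IsNoetherianRing A] (hc : CAlg.IsCatenary A) (hS : LocCoh.HasSk 2 A A) (p : Ideal A) (hp : p ∈ minimalPrimes A) : ringKrullDim (A ⧸ p) = ringKrullDim A := by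
  refine Groth.Agent.Lib.helper9.Depth.ringKrullDim_quotient_minimalPrime_eq hc ?_ p hp
  intro q _ hq
  have h1 := hS q
  rw [Module.supportDim_eq_of_equiv (Groth.Agent.Lib.helper9.Depth.localizedModuleSelfEquiv q),
    Groth.Agent.Lib.helper9.Depth.supportDim_self_localization,
    Groth.Agent.Lib.helper9.Depth.depth_localizedModule_self] at h1
  have e : ((2 : ℕ) : WithBot ℕ∞) = (((2 : ℕ∞)) : WithBot ℕ∞) := rfl
  have h2 : ((2 : ℕ) : WithBot ℕ∞) ≤ ((q.height : ℕ∞) : WithBot ℕ∞) := by
    rw [e]
    exact WithBot.coe_le_coe.mpr hq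
  rw [min_eq_left h2, e] at h1
  exact WithBot.coe_le_coe.mp h1

end Groth.Agent.S1717
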