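import Groth.Statements.S17173
import Groth.Agent.Lib.helper25.LabGraphBI

set_option autoImplicit false
universe u
open LabGraph

namespace Groth.Agent.S17173

open Groth.Agent.Lib.helper25.LabGraphBI

section aux

variable {V E : Type u} [Fintype V] [Fintype E] [DecidableEq V] [DecidableEq E]

/-- the potential -/
def Pot (ends : E → V × V) (K : ℤ) (c : V → ℤ) (φ : V → ℤ) : ℤ :=
  K * ∑ e : E, (φ (ends e).1 - φ (ends e).2) ^ 2 - 2 * ∑ v : V, φ v * c v

/-- total variation along edges -/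
def ES (ends : E → V × V) (φ : V → ℤ) : ℤ := ∑ e : E, |φ (ends e).1 - φ (ends e).2|

lemma ES_nonneg (ends : E → V × V) (φ : V → ℤ) : 0 ≤ ES ends φ :=
  Finset.sum_nonneg fun _ _ => abs_nonneg _

lemma chain_bound (ends : E → V × V) {v₀ v : V}
    (h : Relation.ReflTransGen (LabGraph.Adj ends) v₀ v) :
    ∃ n : ℕ, ∀ φ : V → ℤ, |φ v - φ v₀| ≤ n * ES ends φ := by
  induction h with
  | refl => exact ⟨0, fun φ => by simp⟩
  | @tail b c _ hadj ih =>
    obtain ⟨n, hn⟩ := ih
    refine ⟨n + 1, fun φ => ?_⟩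
    have hstep : |φ c - φ b| ≤ ES ends φ := by
      obtain ⟨e, he | he⟩ := hadj
      · have := Finset.single_le_sum (f := fun e => |φ (ends e).1 - φ (ends e).2|)
          (fun _ _ => abs_nonneg _) (Finset.mem_univ e)
        simp only [he] at this
        rw [abs_sub_comm]
        exact this
      · have := Finset.single_le_sum (f := fun e => |φ (ends e).1 - φ (ends e).2|)
          (fun _ _ => abs_nonneg _) (Finset.mem_univ e)
        simp only [he] at this
        exact this
    have h1 := abs_sub_le (φ c) (φ b) (φ v₀)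
    have h2 := hn φ
    push_cast
    linarith

lemma Pot_lower (ends : E → V × V) (hconn : LabGraph.Connected ends) (K : ℤ) (hK : 1 ≤ K)
    (c : V → ℤ) (hc : ∑ v : V, c v = 0) : ∃ B : ℤ, ∀ φ : V → ℤ, B ≤ Pot ends K c φ := by
  obtain ⟨⟨v₀⟩, hcon⟩ := hconn
  choose n hn using fun v => chain_bound ends (hcon v₀ v)
  set T : ℤ := ∑ v : V, (n v : ℤ) * |c v| with hT
  refine ⟨-((Fintype.card E : ℤ) * T ^ 2), fun φ => ?_⟩
  set S := ES ends φ with hS
  have hS0 : 0 ≤ S := ES_nonneg ends φ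
  -- (1)
  have h1 : ∑ v : V, φ v * c v ≤ S * T := by
    have e1 : ∑ v : V, φ v * c v = ∑ v : V, (φ v - φ v₀) * c v := by
      simp only [sub_mul, Finset.sum_sub_distrib, ← Finset.mul_sum, hc, mul_zero, sub_zero]
    rw [e1, hT, Finset.mul_sum]
    refine Finset.sum_le_sum fun v _ => ?_
    calc (φ v - φ v₀) * c v ≤ |(φ v - φ v₀) * c v| := le_abs_self _
      _ = |φ v - φ v₀| * |c v| := abs_mul _ _
      _ ≤ ((n v : ℤ) * S) * |c v| := mul_le_mul_of_nonneg_right (hn v φ) (abs_nonneg _)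
      _ = S * ((n v : ℤ) * |c v|) := by ring
  -- (2)
  have h2 : 2 * T * S - (Fintype.card E : ℤ) * T ^ 2 ≤ ∑ e : E, (φ (ends e).1 - φ (ends e).2) ^ 2 := by
    have : 0 ≤ ∑ e : E, ((φ (ends e).1 - φ (ends e).2) ^ 2 - 2 * T * |φ (ends e).1 - φ (ends e).2| + T ^ 2) := by
      refine Finset.sum_nonneg fun e _ => ?_
      have := sq_nonneg (|φ (ends e).1 - φ (ends e).2| - T)
      have h3 := sq_abs (φ (ends e).1 - φ (ends e).2)
      nlinarith
    rw [Finset.sum_add_distrib, Finset.sum_sub_distrib, ← Finset.mul_sum] at this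
    simp only [Finset.sum_const, Finset.card_univ, nsmul_eq_mul] at this
    rw [hS]
    unfold ES
    linarith
  -- (3)
  have hQ0 : 0 ≤ ∑ e : E, (φ (ends e).1 - φ (ends e).2) ^ 2 :=
    Finset.sum_nonneg fun _ _ => sq_nonneg _
  unfold Pot
  nlinarith

lemma exists_min (ends : E → V × V) (hconn : LabGraph.Connected ends) (K : ℤ) (hK : 1 ≤ K)
    (c : V → ℤ) (hc : ∑ v : V, c v = 0) :
    ∃ φ : V → ℤ, ∀ φ' : V → ℤ, Pot ends K c φ ≤ Pot ends K c φ' := by
  obtain ⟨B, hB⟩ := Pot_lower ends hconn K hK c hc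
  obtain ⟨lb, ⟨φ, hφ⟩, hlb⟩ := Int.exists_least_of_bdd (P := fun z => ∃ φ, Pot ends K c φ = z)
    ⟨B, fun z ⟨φ, hφ⟩ => hφ ▸ hB φ⟩ ⟨_, ⟨fun _ => 0, rfl⟩⟩
  exact ⟨φ, fun φ' => hφ ▸ hlb _ ⟨φ', rfl⟩⟩

lemma Pot_shift_add (ends : E → V × V) (K : ℤ) (c : V → ℤ) (φ : V → ℤ) (Y : Finset V) :
    Pot ends K c (fun u => φ u + (if u ∈ Y then 1 else 0)) =
      Pot ends K c φ + K * (LabGraph.cut ends Y : ℤ)
        - 2 * (∑ v ∈ Y, c v + K * ∑ v ∈ Y, LabGraph.twist ends φ v) := by
  unfold Pot
  rw [cut_eq_sum, twist_sum]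
  have e1 : ∑ e : E, ((φ (ends e).1 + (if (ends e).1 ∈ Y then 1 else 0)) -
      (φ (ends e).2 + (if (ends e).2 ∈ Y then 1 else 0))) ^ 2 =
      ∑ e : E, (φ (ends e).1 - φ (ends e).2) ^ 2 +
      ∑ e : E, (if ((ends e).1 ∈ Y ∧ (ends e).2 ∉ Y) ∨ ((ends e).1 ∉ Y ∧ (ends e).2 ∈ Y)
        then (1 : ℤ) else 0) -
      2 * ∑ e : E, ((if (ends e).1 ∈ Y then φ (ends e).2 - φ (ends e).1 else 0) +
        (if (ends e).2 ∈ Y then φ (ends e).1 - φ (ends e).2 else 0)) := by
    rw [Finset.mul_sum, ← Finset.sum_add_distrib, ← Finset.sum_sub_distrib]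
    refine Finset.sum_congr rfl fun e _ => ?_
    by_cases h1 : (ends e).1 ∈ Y <;> by_cases h2 : (ends e).2 ∈ Y <;> simp [h1, h2] <;> ring
  have e2 : ∑ v : V, (φ v + (if v ∈ Y then 1 else 0)) * c v =
      ∑ v : V, φ v * c v + ∑ v ∈ Y, c v := by
    simp only [add_mul, Finset.sum_add_distrib, ite_mul, one_mul, zero_mul]
    congr 1
    rw [Finset.sum_ite_mem, Finset.univ_inter]
  rw [e1, e2]
  ring

lemma Pot_shift_sub (ends : E → V × V) (K : ℤ) (c : V → ℤ) (φ : V → ℤ) (Y : Finset V) :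
    Pot ends K c (fun u => φ u - (if u ∈ Y then 1 else 0)) =
      Pot ends K c φ + K * (LabGraph.cut ends Y : ℤ)
        + 2 * (∑ v ∈ Y, c v + K * ∑ v ∈ Y, LabGraph.twist ends φ v) := by
  unfold Pot
  rw [cut_eq_sum, twist_sum]
  have e1 : ∑ e : E, ((φ (ends e).1 - (if (ends e).1 ∈ Y then 1 else 0)) -
      (φ (ends e).2 - (if (ends e).2 ∈ Y then 1 else 0))) ^ 2 =
      ∑ e : E, (φ (ends e).1 - φ (ends e).2) ^ 2 +
      ∑ e : E, (if ((ends e).1 ∈ Y ∧ (ends e).2 ∉ Y) ∨ ((ends e).1 ∉ Y ∧ (ends e).2 ∈ Y)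
        then (1 : ℤ) else 0) +
      2 * ∑ e : E, ((if (ends e).1 ∈ Y then φ (ends e).2 - φ (ends e).1 else 0) +
        (if (ends e).2 ∈ Y then φ (ends e).1 - φ (ends e).2 else 0)) := by
    rw [Finset.mul_sum, ← Finset.sum_add_distrib, ← Finset.sum_add_distrib]
    refine Finset.sum_congr rfl fun e _ => ?_
    by_cases h1 : (ends e).1 ∈ Y <;> by_cases h2 : (ends e).2 ∈ Y <;> simp [h1, h2] <;> ring
  have e2 : ∑ v : V, (φ v - (if v ∈ Y then 1 else 0)) * c v =
      ∑ v : V, φ v * c v - ∑ v ∈ Y, c v := by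
    simp only [sub_mul, Finset.sum_sub_distrib, ite_mul, one_mul, zero_mul]
    congr 1
    rw [Finset.sum_ite_mem, Finset.univ_inter]
  rw [e1, e2]
  ring

end aux

open LabGraph in
/-- Let Γ be the weighted dual graph of a quasistable curve X of genus g ≥ 3 over an algebraically
closed field (vertices the irreducible components C_v with weight the geometric genus, one edge per
node, a loop for a node on a single component): Γ is connected, every weight-zero vertex without
loop is joined to the other vertices by at least two edges, and no edge joins two exceptional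
vertices (weight zero, no loop, exactly two edges to other vertices). Let d be a multidegree of any
total degree D (the combinatorial section fixes an arbitrary integer d; g ≥ 3 is the paper's
standing assumption). Then the degree class of d contains a representative satisfying the Basic
Inequality: there is a multidegree d', differing from d by the twist of some integer vertex
labelling (the multidegree of a divisor Σ φ_v C_v on the total space of a regular smoothing), such
that for every set Y of vertices 2·|(2g - 2)·d'_Y - D·canDeg Y| ≤ cut Y·(2g - 2), where canDeg Y = 2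
g_Y - 2 + cut Y is the degree of the dualizing sheaf on the subcurve Y and cut Y the number of nodes
where Y meets the rest of X. -/
theorem result {V E : Type u} [Fintype V] [Fintype E]
    [DecidableEq V] [DecidableEq E] (ends : E → V × V) (w : V → ℕ) (hX : IsQuasistableGraph ends w)
    (hg : 3 ≤ genus ends w) (d : V → ℤ) :
    ∃ d' : V → ℤ, TwistEquiv ends d' d ∧ SatisfiesBI ends w d' := by
  classical
  have hKpos : 0 < canDeg ends w Finset.univ := by rw [canDeg_univ]; linarith
  set K := canDeg ends w Finset.univ with hK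
  set D := ∑ v : V, d v with hD
  set kk : V → ℤ := fun v => 2 * (w v : ℤ) - 2 + (endCount ends Finset.univ v : ℤ) with hkk
  have hKsum : K = ∑ v : V, kk v := rfl
  set c : V → ℤ := fun v => K * d v - D * kk v with hc
  have hcsum : ∑ v : V, c v = 0 := by
    simp only [hc, Finset.sum_sub_distrib, ← Finset.mul_sum, ← hKsum, ← hD]
    ring
  obtain ⟨φ, hφ⟩ := exists_min ends hX.1.1 K (by omega) c hcsum
  refine ⟨fun v => d v + twist ends φ v, ⟨φ, fun v => by ring⟩, ?_⟩
  intro Y
  have htot : ∑ v : V, (d v + twist ends φ v) = D := by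
    rw [Finset.sum_add_distrib, twist_sum_zero, add_zero]
  have hY : ∑ v ∈ Y, (d v + twist ends φ v) = ∑ v ∈ Y, d v + ∑ v ∈ Y, twist ends φ v := by
    rw [Finset.sum_add_distrib]
  have hcY : ∑ v ∈ Y, c v = K * ∑ v ∈ Y, d v - D * canDeg ends w Y := by
    simp only [hc, Finset.sum_sub_distrib, ← Finset.mul_sum]
    rfl
  have m1 := hφ (fun u => φ u + (if u ∈ Y then 1 else 0))
  have m2 := hφ (fun u => φ u - (if u ∈ Y then 1 else 0))
  rw [Pot_shift_add] at m1
  rw [Pot_shift_sub] at m2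
  show 2 * |K * (∑ v ∈ Y, (d v + twist ends φ v)) - (∑ v : V, (d v + twist ends φ v)) * canDeg ends w Y|
    ≤ (cut ends Y : ℤ) * K
  rw [htot, hY]
  rcases abs_cases (K * (∑ v ∈ Y, d v + ∑ v ∈ Y, twist ends φ v) - D * canDeg ends w Y)
    with ⟨h, _⟩ | ⟨h, _⟩ <;> rw [h] <;> nlinarith


end Groth.Agent.S17173
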