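import Groth.Statements.S17174
import Groth.Agent.Lib.helper25.LabGraphBI

set_option autoImplicit false
universe u
open LabGraph

namespace Groth.Agent.S17174

open Groth.Agent.Lib.helper25.LabGraphBI

open LabGraph in
/-- Let Γ be the weighted dual graph of a Deligne–Mumford semistable curve X of genus g ≥ 3 over an
algebraically closed field (connected; every weight-zero vertex without loop is joined to the other
vertices by at least two edges), and let d, d' be two multidegrees of the same (arbitrary) total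
degree D (g ≥ 3 being the paper's standing assumption) which both satisfy the Basic Inequality and
lie in the same degree class (d - d' is a twist). Then d - d' can be written in normal form: there
is a labelling h of the vertices by natural numbers taking exactly the values 0, 1, …, q, with d -
d' equal to the twist of h (that is, d - d' = Σ_v h(v)·c_v with c_v the multidegree of O(C_v)), such
that for distinct levels i ≠ j in {0, …, q} the subcurves on h⁻¹(i) and h⁻¹(j) meet (some edge joins
the two levels) exactly when |i - j| = 1. -/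
theorem result {V E : Type u} [Fintype V] [Fintype E]
    [DecidableEq V] [DecidableEq E] (ends : E → V × V) (w : V → ℕ) (hX : IsSemistableGraph ends w)
    (hg : 3 ≤ genus ends w) (d d' : V → ℤ)
    (hBI : SatisfiesBI ends w d) (hBI' : SatisfiesBI ends w d') (heq : TwistEquiv ends d d') :
    ∃ (q : ℕ) (h : V → ℕ), (∀ v : V, h v ≤ q) ∧ (∀ i : ℕ, i ≤ q → ∃ v : V, h v = i) ∧
      (∀ v : V, d v - d' v = twist ends (fun u => (h u : ℤ)) v) ∧
      (∀ i j : ℕ, i ≤ q → j ≤ q → i ≠ j →
        ((∃ e : E, (h (ends e).1 = i ∧ h (ends e).2 = j) ∨ (h (ends e).1 = j ∧ h (ends e).2 = i)) ↔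
          (i + 1 = j ∨ j + 1 = i))) := by
  classical
  obtain ⟨φ, hφ⟩ := heq
  obtain ⟨hV, hconn⟩ := hX.1
  obtain ⟨vmin, -, hvmin⟩ := Finset.exists_min_image Finset.univ φ ⟨hV.some, Finset.mem_univ _⟩
  set mn := φ vmin with hmn
  let h : V → ℕ := fun v => (φ v - mn).toNat
  have hcast : ∀ v, (h v : ℤ) = φ v - mn := fun v =>
    Int.toNat_of_nonneg (sub_nonneg.2 (hvmin v (Finset.mem_univ _)))
  obtain ⟨vmax, -, hvmax⟩ := Finset.exists_max_image Finset.univ h ⟨hV.some, Finset.mem_univ _⟩
  set q := h vmax with hq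
  let ψ : V → ℤ := fun u => (h u : ℤ)
  have htw : ∀ v, twist ends ψ v = twist ends φ v := by
    intro v
    have : ψ = fun u => φ u + (-mn) := by
      funext u
      simp only [ψ, hcast]
      ring
    rw [this, twist_add_const]
  have hh0 : h vmin = 0 := by simp [h, hmn]
  have hKpos : 0 < canDeg ends w Finset.univ := by rw [canDeg_univ]; linarith
  set K := canDeg ends w Finset.univ with hK
  have hsum : ∑ v : V, d v = ∑ v : V, d' v := by
    have h0 : ∑ v : V, (d v - d' v) = 0 := by
      rw [Finset.sum_congr rfl (fun v _ => hφ v)]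
      exact twist_sum_zero ends φ
    rw [Finset.sum_sub_distrib] at h0
    linarith
  -- key claim (D)
  have hD : ∀ (i : ℕ), 1 ≤ i → ∀ e : E,
      ((i ≤ h (ends e).1 ∧ h (ends e).2 < i) → h (ends e).1 = h (ends e).2 + 1) ∧
      ((i ≤ h (ends e).2 ∧ h (ends e).1 < i) → h (ends e).2 = h (ends e).1 + 1) := by
    intro i hi
    set Y : Finset V := Finset.univ.filter (fun v => i ≤ h v) with hY
    have memY : ∀ v, v ∈ Y ↔ i ≤ h v := fun v => by simp [hY]
    have b1 := hBI Y
    have b2 := hBI' Y
    rw [← hsum] at b2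
    have a1 := neg_abs_le (K * ∑ v ∈ Y, d v - (∑ v : V, d v) * canDeg ends w Y)
    have a2 := le_abs_self (K * ∑ v ∈ Y, d' v - (∑ v : V, d v) * canDeg ends w Y)
    have hdiff : -(cut ends Y : ℤ) ≤ ∑ v ∈ Y, d v - ∑ v ∈ Y, d' v := by
      have : K * (-(cut ends Y : ℤ)) ≤ K * (∑ v ∈ Y, d v - ∑ v ∈ Y, d' v) := by
        nlinarith
      exact le_of_mul_le_mul_left this hKpos
    have hedge : ∑ v ∈ Y, d v - ∑ v ∈ Y, d' v = ∑ e : E,
        ((if (ends e).1 ∈ Y then ψ (ends e).2 - ψ (ends e).1 else 0) +
          (if (ends e).2 ∈ Y then ψ (ends e).1 - ψ (ends e).2 else 0)) := by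
      rw [← Finset.sum_sub_distrib, Finset.sum_congr rfl (fun v _ => hφ v),
        ← Finset.sum_congr rfl (fun v _ => htw v), twist_sum]
    rw [hedge, cut_eq_sum] at hdiff
    have hnonpos : ∀ e ∈ (Finset.univ : Finset E),
        ((if (ends e).1 ∈ Y then ψ (ends e).2 - ψ (ends e).1 else 0) +
          (if (ends e).2 ∈ Y then ψ (ends e).1 - ψ (ends e).2 else 0)) +
        (if ((ends e).1 ∈ Y ∧ (ends e).2 ∉ Y) ∨ ((ends e).1 ∉ Y ∧ (ends e).2 ∈ Y)
          then (1 : ℤ) else 0) ≤ 0 := by
      intro e _
      by_cases h1 : (ends e).1 ∈ Y <;> by_cases h2 : (ends e).2 ∈ Y <;>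
        simp only [h1, h2, if_true, if_false, not_true, not_false_eq_true, and_true, and_false,
          or_false, false_or, true_and, and_self, or_self] <;>
        simp only [memY, not_le] at h1 h2 <;> (try simp only [ψ]) <;> omega
    have hsum0 : ∑ e : E, (((if (ends e).1 ∈ Y then ψ (ends e).2 - ψ (ends e).1 else 0) +
          (if (ends e).2 ∈ Y then ψ (ends e).1 - ψ (ends e).2 else 0)) +
        (if ((ends e).1 ∈ Y ∧ (ends e).2 ∉ Y) ∨ ((ends e).1 ∉ Y ∧ (ends e).2 ∈ Y)
          then (1 : ℤ) else 0)) = 0 := by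
      apply le_antisymm (Finset.sum_nonpos hnonpos)
      rw [Finset.sum_add_distrib]
      linarith
    have hzero := (Finset.sum_eq_zero_iff_of_nonpos hnonpos).1 hsum0
    intro e
    have he := hzero e (Finset.mem_univ e)
    constructor
    · rintro ⟨h1, h2⟩
      have m1 : (ends e).1 ∈ Y := (memY _).2 h1
      have m2 : (ends e).2 ∉ Y := fun hc => by have := (memY _).1 hc; omega
      simp only [m1, m2, if_true, if_false, not_true, not_false_eq_true, and_true, and_false,
        or_false, false_or, true_and, and_self, or_self, ψ] at he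
      omega
    · rintro ⟨h1, h2⟩
      have m1 : (ends e).2 ∈ Y := (memY _).2 h1
      have m2 : (ends e).1 ∉ Y := fun hc => by have := (memY _).1 hc; omega
      simp only [m1, m2, if_true, if_false, not_true, not_false_eq_true, and_true, and_false,
        or_false, false_or, true_and, and_self, or_self, ψ] at he
      omega
  -- every edge joins levels differing by at most one
  have hD' : ∀ e : E, h (ends e).1 ≤ h (ends e).2 + 1 ∧ h (ends e).2 ≤ h (ends e).1 + 1 := by
    intro e
    constructor
    · by_contra hlt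
      push_neg at hlt
      have := (hD (h (ends e).1) (by omega) e).1 ⟨le_refl _, by omega⟩
      omega
    · by_contra hlt
      push_neg at hlt
      have := (hD (h (ends e).2) (by omega) e).2 ⟨le_refl _, by omega⟩
      omega
  -- adjacent levels are joined
  have hE : ∀ i : ℕ, 1 ≤ i → i ≤ q → ∃ e : E,
      (h (ends e).1 = i ∧ h (ends e).2 + 1 = i) ∨ (h (ends e).2 = i ∧ h (ends e).1 + 1 = i) := by
    intro i hi hiq
    set Y : Finset V := Finset.univ.filter (fun v => i ≤ h v) with hY
    have memY : ∀ v, v ∈ Y ↔ i ≤ h v := fun v => by simp [hY]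
    have hvmaxY : vmax ∈ Y := (memY _).2 hiq
    have hvminY : vmin ∉ Y := fun hc => by have := (memY _).1 hc; omega
    obtain ⟨e, he | he⟩ := exists_crossing ends hX.1 Y hvmaxY hvminY
    · have h1 := (memY _).1 he.1
      have h2 : h (ends e).2 < i := by
        by_contra hc; exact he.2 ((memY _).2 (by omega))
      have := (hD i hi e).1 ⟨h1, h2⟩
      have := hD' e
      exact ⟨e, Or.inl ⟨by omega, by omega⟩⟩
    · have h1 := (memY _).1 he.2
      have h2 : h (ends e).1 < i := by
        by_contra hc; exact he.1 ((memY _).2 (by omega))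
      have := (hD i hi e).2 ⟨h1, h2⟩
      have := hD' e
      exact ⟨e, Or.inr ⟨by omega, by omega⟩⟩
  refine ⟨q, h, fun v => hvmax v (Finset.mem_univ _), ?_, fun v => by rw [hφ v, ← htw v], ?_⟩
  · intro i hiq
    rcases Nat.eq_zero_or_pos i with rfl | hpos
    · exact ⟨vmin, hh0⟩
    · obtain ⟨e, he | he⟩ := hE i hpos hiq
      · exact ⟨_, he.1⟩
      · exact ⟨_, he.1⟩
  · intro i j hi hj hij
    constructor
    · rintro ⟨e, ⟨h1, h2⟩ | ⟨h1, h2⟩⟩
      · have := hD' e
        omega
      · have := hD' e
        omega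
    · rintro (hij' | hij')
      · obtain ⟨e, he | he⟩ := hE j (by omega) hj
        · exact ⟨e, Or.inr ⟨he.1, by omega⟩⟩
        · exact ⟨e, Or.inl ⟨by omega, he.1⟩⟩
      · obtain ⟨e, he | he⟩ := hE i (by omega) hi
        · exact ⟨e, Or.inl ⟨he.1, by omega⟩⟩
        · exact ⟨e, Or.inr ⟨by omega, he.1⟩⟩


end Groth.Agent.S17174
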