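import Groth.Statements.S17175
import Mathlib.Tactic
import Mathlib.RingTheory.PowerSeries.NoZeroDivisors

set_option autoImplicit false
universe u
open CAlg

namespace Groth.Agent.S17175

open PowerSeries in
/-- Let k be a field, O₀ = k[[x, y]]/(xy) the complete local ring of a node and Õ₀ = k[[x]] × k[[y]] its
normalization, O₀ being embedded in Õ₀ by h ↦ (h(x, 0), h(0, y)) as the subring of pairs with equal
constant coefficients. Regard Õ₀ as an O₀-module: it is the rank-one torsion-free O₀-module that is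
not free. Then every O₀-linear endomorphism of this module is Õ₀-linear, i.e. it is multiplication
by a unique element of Õ₀; consequently its O₀-endomorphism ring is Õ₀ and its O₀-automorphism group
is the unit group of Õ₀. Here an O₀-linear endomorphism is an additive map of k[[X]] × k[[X]]
commuting with multiplication by every pair whose two constant coefficients agree. (The source works
over an algebraically closed field; only the field structure is used.) -/
theorem result (k : Type u) [Field k]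
    (φ : (k⟦X⟧ × k⟦X⟧) →+ (k⟦X⟧ × k⟦X⟧))
    (hφ : ∀ a s : k⟦X⟧ × k⟦X⟧, constantCoeff a.1 = constantCoeff a.2 → φ (a * s) = a * φ s) :
    ∃! b : k⟦X⟧ × k⟦X⟧, ∀ s : k⟦X⟧ × k⟦X⟧, φ s = b * s := by
  have hX : (X : k⟦X⟧) ≠ 0 := X_ne_zero
  refine ⟨φ 1, ?_, ?_⟩
  · -- existence
    -- value on e1 = (1, 0)
    have h1 : (X, 0) * φ ((1, 0) : k⟦X⟧ × k⟦X⟧) = (X, 0) * φ 1 := by
      have ha := hφ ((X, 0) : k⟦X⟧ × k⟦X⟧) (1, 0) (by simp)
      have hb := hφ ((X, 0) : k⟦X⟧ × k⟦X⟧) 1 (by simp)
      rw [← ha, ← hb]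
      congr 1
      simp
    have h2 : ((0, X) : k⟦X⟧ × k⟦X⟧) * φ ((1, 0) : k⟦X⟧ × k⟦X⟧) = 0 := by
      have ha := hφ ((0, X) : k⟦X⟧ × k⟦X⟧) (1, 0) (by simp)
      rw [← ha]
      have : ((0, X) : k⟦X⟧ × k⟦X⟧) * (1, 0) = 0 := by simp
      rw [this, map_zero]
    have he1 : φ ((1, 0) : k⟦X⟧ × k⟦X⟧) = φ 1 * (1, 0) := by
      have h1' := congrArg Prod.fst h1
      have h2' := congrArg Prod.snd h2
      simp only [Prod.fst_mul, Prod.snd_mul, Prod.snd_zero] at h1' h2'
      have h1'' := mul_left_cancel₀ hX h1'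
      have h2'' := (mul_eq_zero.1 h2').resolve_left hX
      ext <;> simp [h1'', h2'']
    intro s
    -- decompose s = s' + (c,c) * e1 with s' ∈ O
    set c : k⟦X⟧ := C (constantCoeff s.1 - constantCoeff s.2) with hc
    have hs : s = (s.1 - c, s.2) * 1 + (c, c) * (1, 0) := by
      ext <;> simp
    have hO : constantCoeff (s.1 - c, s.2).1 = constantCoeff (s.1 - c, s.2).2 := by
      simp [hc]
    have hO2 : constantCoeff ((c, c) : k⟦X⟧ × k⟦X⟧).1 = constantCoeff ((c, c) : k⟦X⟧ × k⟦X⟧).2 := rfl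
    conv_lhs => rw [hs]
    rw [map_add, hφ _ _ hO, hφ _ _ hO2, he1]
    conv_rhs => rw [hs]
    ring
  · intro b hb
    have := hb 1
    rw [mul_one] at this
    exact this.symm

end Groth.Agent.S17175
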