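import Groth.Statements.S17179
import Mathlib

set_option autoImplicit false
universe u
open LabGraph

namespace Groth.Agent.S17179

open LabGraph in
lemma sum_vertex_edge {V E : Type u} [Fintype V] [Fintype E] [DecidableEq V] [DecidableEq E]
    (ends : E → V × V) (a b : E → ℤ) (Y : Finset V) :
    ∑ v ∈ Y, ∑ e : E, ((if (ends e).1 = v then a e else 0) + (if (ends e).2 = v then b e else 0)) =
      ∑ e : E, ((if (ends e).1 ∈ Y then a e else 0) + (if (ends e).2 ∈ Y then b e else 0)) := by
  rw [Finset.sum_comm]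
  refine Finset.sum_congr rfl fun e _ => ?_
  rw [Finset.sum_add_distrib, Finset.sum_ite_eq, Finset.sum_ite_eq]

open LabGraph in
lemma cut_eq_sum {V E : Type u} [Fintype V] [Fintype E] [DecidableEq V] [DecidableEq E]
    (ends : E → V × V) (Y : Finset V) :
    (cut ends Y : ℤ) = ∑ e : E, (if ((ends e).1 ∈ Y ∧ (ends e).2 ∉ Y) ∨ ((ends e).1 ∉ Y ∧ (ends e).2 ∈ Y)
      then (1 : ℤ) else 0) := by
  unfold cut
  rw [Finset.card_filter]
  push_cast
  rfl

open LabGraph in
lemma twist_sum_zero {V E : Type u} [Fintype V] [Fintype E] [DecidableEq V] [DecidableEq E]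
    (ends : E → V × V) (φ : V → ℤ) : ∑ v : V, twist ends φ v = 0 := by
  unfold twist
  rw [sum_vertex_edge ends (fun e => φ (ends e).2 - φ (ends e).1) (fun e => φ (ends e).1 - φ (ends e).2)
    Finset.univ]
  simp

open LabGraph in
lemma canDeg_univ {V E : Type u} [Fintype V] [Fintype E] [DecidableEq V] [DecidableEq E]
    (ends : E → V × V) (w : V → ℕ) : canDeg ends w Finset.univ = 2 * genus ends w - 2 := by
  unfold canDeg genus endCount
  rw [Finset.sum_add_distrib, Finset.sum_sub_distrib, ← Finset.mul_sum]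
  have h := sum_vertex_edge ends (fun _ => (1 : ℤ)) (fun _ => (1 : ℤ)) Finset.univ
  simp only [Finset.mem_univ, if_true] at h
  push_cast
  rw [h]
  simp
  ring

open LabGraph in
/-- Let Γ be the weighted dual graph of a Deligne–Mumford semistable curve X of genus g ≥ 3 (connected;
every weight-zero vertex without loop joined to the other vertices by at least two edges), d a
multidegree of total degree D satisfying the Basic Inequality, and Z a set of vertices whose degree
equals the upper extreme M_Z of the inequality, that is 2((2g - 2)·d_Z - D·canDeg Z) = cut Z·(2g -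
2). Then d + z again satisfies the Basic Inequality, where z, the multidegree of O(Z) on the total
space of a regular smoothing, is the twist of the indicator function of Z (it lowers the degree on Z
by cut Z and raises it on each outside vertex by its number of edges to Z). -/
theorem result {V E : Type u} [Fintype V] [Fintype E]
    [DecidableEq V] [DecidableEq E] (ends : E → V × V) (w : V → ℕ) (hX : IsSemistableGraph ends w)
    (hg : 3 ≤ genus ends w) (d : V → ℤ) (hBI : SatisfiesBI ends w d) (Z : Finset V)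
    (hZ : 2 * (canDeg ends w Finset.univ * (∑ v ∈ Z, d v) - (∑ v : V, d v) * canDeg ends w Z) =
      (cut ends Z : ℤ) * canDeg ends w Finset.univ) :
    SatisfiesBI ends w (fun v => d v + twist ends (fun u => if u ∈ Z then 1 else 0) v) := by
  classical
  intro Y
  have hKnn : 0 ≤ canDeg ends w Finset.univ := by rw [canDeg_univ]; linarith
  set K := canDeg ends w Finset.univ with hK
  set D := ∑ v : V, d v with hD
  set ι : V → ℤ := fun u => if u ∈ Z then 1 else 0 with hι
  -- BI bounds
  have hbi : ∀ S : Finset V,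
      2 * (K * (∑ v ∈ S, d v) - D * canDeg ends w S) ≤ (cut ends S : ℤ) * K ∧
      -((cut ends S : ℤ) * K) ≤ 2 * (K * (∑ v ∈ S, d v) - D * canDeg ends w S) := by
    intro S
    have h1 := hBI S
    have h2 := le_abs_self (K * (∑ v ∈ S, d v) - D * canDeg ends w S)
    have h3 := neg_abs_le (K * (∑ v ∈ S, d v) - D * canDeg ends w S)
    constructor <;> linarith
  -- additivity
  have hadd1 : ∀ f : V → ℤ, ∑ v ∈ Y ∪ Z, f v + ∑ v ∈ Y ∩ Z, f v = ∑ v ∈ Y, f v + ∑ v ∈ Z, f v :=
    fun f => Finset.sum_union_inter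
  have hadd2 : ∀ f : V → ℤ, ∑ v ∈ Y ∩ Z, f v + ∑ v ∈ Y \ Z, f v = ∑ v ∈ Y, f v :=
    fun f => Finset.sum_inter_add_sum_sdiff Y Z f
  have hadd3 : ∀ f : V → ℤ, ∑ v ∈ Y ∩ Z, f v + ∑ v ∈ Z \ Y, f v = ∑ v ∈ Z, f v := fun f => by
    rw [Finset.inter_comm]; exact Finset.sum_inter_add_sum_sdiff Z Y f
  -- the twist sum over Y as an edge sum
  have hz : ∑ v ∈ Y, twist ends ι v = ∑ e : E,
      ((if (ends e).1 ∈ Y then ι (ends e).2 - ι (ends e).1 else 0) +
        (if (ends e).2 ∈ Y then ι (ends e).1 - ι (ends e).2 else 0)) := by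
    unfold twist
    exact sum_vertex_edge ends (fun e => ι (ends e).2 - ι (ends e).1)
      (fun e => ι (ends e).1 - ι (ends e).2) Y
  set zY := ∑ v ∈ Y, twist ends ι v with hzY
  -- edge inequalities
  have hU : (cut ends (Y ∪ Z) : ℤ) + cut ends (Y ∩ Z) - cut ends Z + 2 * zY ≤ cut ends Y := by
    rw [hz, cut_eq_sum, cut_eq_sum, cut_eq_sum, cut_eq_sum, Finset.mul_sum,
      ← Finset.sum_add_distrib, ← Finset.sum_sub_distrib, ← Finset.sum_add_distrib]
    refine Finset.sum_le_sum fun e _ => ?_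
    by_cases h1 : (ends e).1 ∈ Y <;> by_cases h2 : (ends e).2 ∈ Y <;>
      by_cases h3 : (ends e).1 ∈ Z <;> by_cases h4 : (ends e).2 ∈ Z <;>
      simp [h1, h2, h3, h4, hι, Finset.mem_union, Finset.mem_inter]
  have hL : 0 ≤ (cut ends Z : ℤ) - cut ends (Z \ Y) - cut ends (Y \ Z) + 2 * zY + cut ends Y := by
    rw [hz, cut_eq_sum, cut_eq_sum, cut_eq_sum, cut_eq_sum, Finset.mul_sum,
      ← Finset.sum_sub_distrib, ← Finset.sum_sub_distrib, ← Finset.sum_add_distrib,
      ← Finset.sum_add_distrib]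
    refine Finset.sum_nonneg fun e _ => ?_
    by_cases h1 : (ends e).1 ∈ Y <;> by_cases h2 : (ends e).2 ∈ Y <;>
      by_cases h3 : (ends e).1 ∈ Z <;> by_cases h4 : (ends e).2 ∈ Z <;>
      simp [h1, h2, h3, h4, hι, Finset.mem_sdiff]
  have hU' := mul_le_mul_of_nonneg_left hU hKnn
  have hL' := mul_nonneg hKnn hL
  -- rewrite the goal
  have htot : ∑ v : V, (d v + twist ends ι v) = D := by
    rw [Finset.sum_add_distrib, twist_sum_zero, add_zero]
  have hY : ∑ v ∈ Y, (d v + twist ends ι v) = ∑ v ∈ Y, d v + zY := by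
    rw [Finset.sum_add_distrib]
  show 2 * |K * (∑ v ∈ Y, (d v + twist ends ι v)) - (∑ v : V, (d v + twist ends ι v)) * canDeg ends w Y|
    ≤ (cut ends Y : ℤ) * K
  rw [htot, hY]
  have c1 := hadd1 d
  have c2 := hadd2 d
  have c3 := hadd3 d
  have k1 := hadd1 (fun v => 2 * (w v : ℤ) - 2 + (endCount ends Finset.univ v : ℤ))
  have k2 := hadd2 (fun v => 2 * (w v : ℤ) - 2 + (endCount ends Finset.univ v : ℤ))
  have k3 := hadd3 (fun v => 2 * (w v : ℤ) - 2 + (endCount ends Finset.univ v : ℤ))
  have b1 := (hbi (Y ∪ Z)).1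
  have b2 := (hbi (Y ∩ Z)).1
  have b3 := (hbi (Z \ Y)).1
  have b4 := (hbi (Y \ Z)).2
  unfold canDeg at b1 b2 b3 b4 hZ ⊢
  have e1 := congrArg (fun t => K * t) c1
  have e2 := congrArg (fun t => K * t) c2
  have e3 := congrArg (fun t => K * t) c3
  have f1 := congrArg (fun t => D * t) k1
  have f2 := congrArg (fun t => D * t) k2
  have f3 := congrArg (fun t => D * t) k3
  simp only [mul_add] at e1 e2 e3 f1 f2 f3
  rcases abs_cases (K * (∑ v ∈ Y, d v + zY) - D * ∑ v ∈ Y, (2 * (w v : ℤ) - 2 + (endCount ends Finset.univ v : ℤ)))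
    with ⟨h, _⟩ | ⟨h, _⟩ <;> rw [h] <;> linarith


end Groth.Agent.S17179
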