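import Groth.Statements.S17247
import Groth.Agent.Lib.helper16.FFG2

set_option autoImplicit false
open FunFld

namespace Groth.Agent.S17247

/-- Let `K/k` be a function field of one variable of genus one over an algebraically closed field `k` of
characteristic zero (an elliptic curve `E`), `A` a place, and `g ≥ 3` an odd integer. Inside
`H⁰(O_E((2g-2)A)) = L((2g-2)A)` consider `V = L(gA)` (dimension `g`) and any hyperplane `V₁` of it
containing `L((g-2)A)`: `L((g-2)A) ⊆ V₁ ⊆ L(gA)`, `dim V₁ = g - 1`. Vanishing orders are those of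
sections of `O_E((2g-2)A)`: a member `f` vanishes to order at least `n` at a place `Q` when `f ∈
L((2g-2)A - nQ)`, and the weight of `V₁` at `Q` is `∑_{n=1}^{2g-2} dim (V₁ ∩ L((2g-2)A - nQ)) - (g-1
choose 2)` (the sum of the `g - 1` vanishing orders minus `0 + 1 + ⋯ + (g-2)`). Then the weight of
`V₁` at every place `Q ≠ A` is at most `2`. (The published statement is for a smooth elliptic curve
over the complex numbers and allows every odd positive `g`; for `g = 1` the inclusion `O(gA) ⊆
O((2g-2)A)` it uses fails, so `g ≥ 3` here.) -/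
theorem result
    (k K : Type*) [Field k] [IsAlgClosed k] [CharZero k] [Field K] [Algebra k K]
    (hK : FunFld.IsFunctionField k K) (hg1 : FunFld.genus k K = 1)
    (g : ℕ) (hodd : Odd g) (h3 : 3 ≤ g) (A : FunFld.Place k K)
    (V₁ : Submodule k K) (hlo : FunFld.L (Finsupp.single A ((g : ℤ) - 2)) ≤ V₁)
    (hhi : V₁ ≤ FunFld.L (Finsupp.single A (g : ℤ))) (hdim : Module.finrank k ↥V₁ + 1 = g)
    (Q : FunFld.Place k K) (hQ : Q ≠ A) :
    (∑ n ∈ Finset.range (2 * g - 2), Module.finrank k
        ↥(V₁ ⊓ FunFld.L (Finsupp.single A (2 * (g : ℤ) - 2) - Finsupp.single Q ((n : ℤ) + 1)))) ≤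
      (g - 1).choose 2 + 2 := by
  open Groth.Agent.Lib.helper16.FF in
  have hdeg : ∀ R : Place k K, R.deg = 1 := fun R => deg_eq_one_of_isAlgClosed hK R
  obtain ⟨m, rfl⟩ : ∃ m, g = 2 * m + 3 := by
    obtain ⟨t, ht⟩ := hodd
    exact ⟨t - 1, by omega⟩
  have hfdL : ∀ D : Divisor k K, FiniteDimensional k (L D) := fun D => finiteDimensional_L hK D
  have hfd : FiniteDimensional k V₁ := by
    have := hfdL (Finsupp.single A ((2 * m + 3 : ℕ) : ℤ))
    exact Submodule.finiteDimensional_of_le hhi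
  have hdimV : Module.finrank k ↥V₁ = 2 * m + 2 := by omega
  have hlo' : L (Finsupp.single A (2 * (m : ℤ) + 1)) ≤ V₁ := by
    have e : ((2 * m + 3 : ℕ) : ℤ) - 2 = 2 * (m : ℤ) + 1 := by push_cast; ring
    rw [e] at hlo
    exact hlo
  have hhi' : V₁ ≤ L (Finsupp.single A (2 * (m : ℤ) + 3)) := by
    have e : ((2 * m + 3 : ℕ) : ℤ) = 2 * (m : ℤ) + 3 := by push_cast; ring
    rw [e] at hhi
    exact hhi
  have hellA : Module.finrank k ↥(L (Finsupp.single A (2 * (m : ℤ) + 1))) = 2 * m + 1 := by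
    have := ell_eq_deg_of_genus_one hK hg1 (D := (Finsupp.single A (2 * (m : ℤ) + 1) : Divisor k K))
      (by rw [deg_single, hdeg]; push_cast; omega)
    rw [deg_single, hdeg] at this
    unfold ell at this
    push_cast at this
    omega
  -- the two basic bounds
  have hb1 : ∀ (b n : ℤ), Module.finrank k ↥(V₁ ⊓ L (Finsupp.single A b - Finsupp.single Q n)) ≤
      1 + ell (Finsupp.single A (2 * (m : ℤ) + 1) - Finsupp.single Q n : Divisor k K) := by
    intro b n
    have h1 := finrank_add_finrank_le_inf (W := V₁)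
      (X := V₁ ⊓ L (Finsupp.single A b - Finsupp.single Q n))
      (Y := L (Finsupp.single A (2 * (m : ℤ) + 1))) inf_le_left hlo'
    have h2 : V₁ ⊓ L (Finsupp.single A b - Finsupp.single Q n) ⊓
        L (Finsupp.single A (2 * (m : ℤ) + 1)) ≤
        L (Finsupp.single A (2 * (m : ℤ) + 1) - Finsupp.single Q n) := by
      refine le_trans ?_ (L_single_inf_L_sub_le hQ (2 * (m : ℤ) + 1) b n)
      exact le_inf inf_le_right (inf_le_left.trans inf_le_right)
    have h3 := Submodule.finrank_mono h2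
    unfold ell
    omega
  have hb2 : ∀ (b n : ℤ), Module.finrank k ↥(V₁ ⊓ L (Finsupp.single A b - Finsupp.single Q n)) ≤
      ell (Finsupp.single A (2 * (m : ℤ) + 3) - Finsupp.single Q n : Divisor k K) := by
    intro b n
    have h2 : V₁ ⊓ L (Finsupp.single A b - Finsupp.single Q n) ≤
        L (Finsupp.single A (2 * (m : ℤ) + 3) - Finsupp.single Q n) := by
      refine le_trans ?_ (L_single_inf_L_sub_le hQ (2 * (m : ℤ) + 3) b n)
      exact le_inf (inf_le_left.trans hhi') inf_le_right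
    exact Submodule.finrank_mono h2
  -- degrees
  have hdegs : ∀ a n : ℤ, Divisor.deg (k := k) (K := K)
      (Finsupp.single A a - Finsupp.single Q n) = a - n := by
    intro a n
    rw [deg_sub, deg_single, deg_single, hdeg, hdeg]
    push_cast
    ring
  -- the individual bounds
  set b : ℤ := 2 * ((2 * m + 3 : ℕ) : ℤ) - 2 with hbdef
  have hF1 : ∀ n : ℕ, n < 2 * m →
      Module.finrank k ↥(V₁ ⊓ L (Finsupp.single A b - Finsupp.single Q ((n : ℤ) + 1))) ≤
        2 * m + 1 - n := by
    intro n hn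
    have h1 := hb1 b ((n : ℤ) + 1)
    have h2 := ell_eq_deg_of_genus_one hK hg1
      (D := (Finsupp.single A (2 * (m : ℤ) + 1) - Finsupp.single Q ((n : ℤ) + 1) : Divisor k K))
      (by rw [hdegs]; omega)
    rw [hdegs] at h2
    omega
  have hF2 : Module.finrank k
      ↥(V₁ ⊓ L (Finsupp.single A b - Finsupp.single Q (((2 * m + 0 : ℕ) : ℤ) + 1))) ≤
        1 + ell (Finsupp.single A (2 * (m : ℤ) + 1) - Finsupp.single Q (2 * (m : ℤ) + 1) :
          Divisor k K) := by
    have h1 := hb1 b (2 * (m : ℤ) + 1)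
    have e : (((2 * m + 0 : ℕ) : ℤ) + 1) = 2 * (m : ℤ) + 1 := by push_cast; ring
    rw [e]
    exact h1
  have hF3 : Module.finrank k
      ↥(V₁ ⊓ L (Finsupp.single A b - Finsupp.single Q (((2 * m + (1 + 0) : ℕ) : ℤ) + 1))) ≤ 1 := by
    have h1 := hb2 b (((2 * m + (1 + 0) : ℕ) : ℤ) + 1)
    have h2 := ell_eq_deg_of_genus_one hK hg1
      (D := (Finsupp.single A (2 * (m : ℤ) + 3) -
        Finsupp.single Q (((2 * m + (1 + 0) : ℕ) : ℤ) + 1) : Divisor k K))
      (by rw [hdegs]; push_cast; omega)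
    have hd : (2 * (m : ℤ) + 3) - (((2 * m + (1 + 0) : ℕ) : ℤ) + 1) = 1 := by push_cast; ring
    rw [hdegs, hd] at h2
    omega
  have hF4 : Module.finrank k
      ↥(V₁ ⊓ L (Finsupp.single A b - Finsupp.single Q (((2 * m + (1 + (1 + 0)) : ℕ) : ℤ) + 1))) ≤
        ell (Finsupp.single A (2 * (m : ℤ) + 3) - Finsupp.single Q (2 * (m : ℤ) + 3) :
          Divisor k K) := by
    have h1 := hb2 b (2 * (m : ℤ) + 3)
    have e : (((2 * m + (1 + (1 + 0)) : ℕ) : ℤ) + 1) = 2 * (m : ℤ) + 3 := by push_cast; ring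
    rw [e]
    exact h1
  have hF5 : ∀ n : ℕ, Module.finrank k
      ↥(V₁ ⊓ L (Finsupp.single A b -
        Finsupp.single Q (((2 * m + (1 + (1 + (1 + n))) : ℕ) : ℤ) + 1))) = 0 := by
    intro n
    have h1 := hb2 b (((2 * m + (1 + (1 + (1 + n))) : ℕ) : ℤ) + 1)
    rw [ell_eq_zero_of_deg_neg hK (by rw [hdegs]; push_cast; omega)] at h1
    omega
  -- the two torsion indicators
  have he1 : ell (Finsupp.single A (2 * (m : ℤ) + 1) - Finsupp.single Q (2 * (m : ℤ) + 1) :
      Divisor k K) ≤ 1 := by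
    have := ell_le_deg_add_one hK
      (Finsupp.single A (2 * (m : ℤ) + 1) - Finsupp.single Q (2 * (m : ℤ) + 1) : Divisor k K)
      (by rw [hdegs]; omega)
    rw [hdegs] at this
    omega
  have he2 : ell (Finsupp.single A (2 * (m : ℤ) + 3) - Finsupp.single Q (2 * (m : ℤ) + 3) :
      Divisor k K) ≤ 1 := by
    have := ell_le_deg_add_one hK
      (Finsupp.single A (2 * (m : ℤ) + 3) - Finsupp.single Q (2 * (m : ℤ) + 3) : Divisor k K)
      (by rw [hdegs]; omega)
    rw [hdegs] at this
    omega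
  have he12 : ell (Finsupp.single A (2 * (m : ℤ) + 1) - Finsupp.single Q (2 * (m : ℤ) + 1) :
      Divisor k K) + ell (Finsupp.single A (2 * (m : ℤ) + 3) - Finsupp.single Q (2 * (m : ℤ) + 3) :
      Divisor k K) ≤ 1 := by
    by_contra hcon
    exact not_both_principal_odd hK (by omega) (hdeg A) (hdeg Q) hQ m (by omega) (by omega)
  have hgauss : ∀ t : ℕ, ∑ j ∈ Finset.range t, (t - j) = (t + 1).choose 2 := by
    intro t
    induction t with
    | zero => simp
    | succ t ih =>
      rw [Finset.sum_range_succ']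
      simp only [Nat.add_sub_add_right, Nat.sub_zero]
      rw [ih, Nat.choose_succ_succ (t + 1) 1]
      simp
      ring
  rw [show 2 * (2 * m + 3) - 2 = 2 * m + (1 + (1 + (1 + (2 * m + 1)))) by omega,
    Finset.sum_range_add, Finset.sum_range_add, Finset.sum_range_add, Finset.sum_range_add,
    Finset.sum_range_one, Finset.sum_range_one, Finset.sum_range_one]
  have hs1 : ∑ n ∈ Finset.range (2 * m), Module.finrank k
      ↥(V₁ ⊓ L (Finsupp.single A b - Finsupp.single Q ((n : ℤ) + 1))) ≤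
      ∑ n ∈ Finset.range (2 * m), (2 * m + 1 - n) :=
    Finset.sum_le_sum fun n hn => hF1 n (Finset.mem_range.mp hn)
  have hs1' : ∑ n ∈ Finset.range (2 * m), (2 * m + 1 - n) = (2 * m + 1).choose 2 + 2 * m := by
    rw [← hgauss (2 * m)]
    have : ∀ n ∈ Finset.range (2 * m), 2 * m + 1 - n = (2 * m - n) + 1 := by
      intro n hn
      have := Finset.mem_range.mp hn
      omega
    rw [Finset.sum_congr rfl this, Finset.sum_add_distrib]
    simp
  have hs5 : ∑ n ∈ Finset.range (2 * m + 1), Module.finrank k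
      ↥(V₁ ⊓ L (Finsupp.single A b -
        Finsupp.single Q (((2 * m + (1 + (1 + (1 + n))) : ℕ) : ℤ) + 1))) = 0 :=
    Finset.sum_eq_zero fun n _ => hF5 n
  have hch : (2 * m + 3 - 1).choose 2 = (2 * m + 1).choose 2 + (2 * m + 1) := by
    rw [show 2 * m + 3 - 1 = (2 * m + 1) + 1 by omega, Nat.choose_succ_succ (2 * m + 1) 1]
    simp
    ring
  rw [hch]
  omega

end Groth.Agent.S17247
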