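import Groth.Statements.S17248
import Groth.Agent.Lib.helper16.FFG2

set_option autoImplicit false
open FunFld

namespace Groth.Agent.S17248

/-- Let `K/k` be a function field of one variable of genus one over an algebraically closed field `k` of
characteristic zero (an elliptic curve `E`), `A` a place, and `g ≥ 3` an integer. Inside
`H⁰(O_E((2g-2)A)) = L((2g-2)A)` consider `V = L(gA)` (dimension `g`) and any hyperplane `V₁` of it
containing `L((g-2)A)`: `L((g-2)A) ⊆ V₁ ⊆ L(gA)`, `dim V₁ = g - 1`. Vanishing orders are those of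
sections of `O_E((2g-2)A)`: a member `f` vanishes to order at least `n` at a place `Q` when `f ∈
L((2g-2)A - nQ)`, and the weight of `V₁` at `Q` is `∑_{n=1}^{2g-2} dim (V₁ ∩ L((2g-2)A - nQ)) - (g-1
choose 2)` (the sum of the `g - 1` vanishing orders minus `0 + 1 + ⋯ + (g-2)`). Then the weight of
`V₁` at `A` is `(g-1)² + ε` with `ε ∈ {0, 1}`. (The published statement is for a smooth elliptic
curve over the complex numbers and `g` odd positive; `g ≥ 3` here since the ambient inclusion needs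
it; this row does not assume `g` odd.) -/
theorem result
    (k K : Type*) [Field k] [IsAlgClosed k] [CharZero k] [Field K] [Algebra k K]
    (hK : FunFld.IsFunctionField k K) (hg1 : FunFld.genus k K = 1)
    (g : ℕ) (h3 : 3 ≤ g) (A : FunFld.Place k K)
    (V₁ : Submodule k K) (hlo : FunFld.L (Finsupp.single A ((g : ℤ) - 2)) ≤ V₁)
    (hhi : V₁ ≤ FunFld.L (Finsupp.single A (g : ℤ))) (hdim : Module.finrank k ↥V₁ + 1 = g) :
    ∃ ε : ℕ, ε ≤ 1 ∧
      (∑ n ∈ Finset.range (2 * g - 2), Module.finrank k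
        ↥(V₁ ⊓ FunFld.L (Finsupp.single A (2 * (g : ℤ) - 2) - Finsupp.single A ((n : ℤ) + 1)))) =
      (g - 1).choose 2 + (g - 1) ^ 2 + ε := by
  open Groth.Agent.Lib.helper16.FF in
  have hdeg : ∀ R : Place k K, R.deg = 1 := fun R => deg_eq_one_of_isAlgClosed hK R
  obtain ⟨h, rfl⟩ : ∃ h, g = h + 2 := ⟨g - 2, by omega⟩
  have hfdL : ∀ D : Divisor k K, FiniteDimensional k (L D) := fun D => finiteDimensional_L hK D
  have hfd : FiniteDimensional k V₁ := Submodule.finiteDimensional_of_le hhi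
  -- `ℓ(mA) = m` for `m ≥ 1`
  have hell : ∀ m : ℕ, 1 ≤ m → Module.finrank k ↥(L (Finsupp.single A (m : ℤ))) = m := by
    intro m hm
    have := ell_eq_of_deg_ge hK (D := (Finsupp.single A (m : ℤ) : Divisor k K))
      (by rw [deg_single, hdeg, hg1]; push_cast; omega)
    rw [deg_single, hdeg, hg1] at this
    unfold ell at this
    push_cast at this
    omega
  have hell0 : Module.finrank k ↥(L (Finsupp.single A (0 : ℤ))) = 1 := by
    have := ell_zero (k := k) (K := K) hK
    unfold ell at this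
    rw [Finsupp.single_zero]
    exact this
  have hdiv : ∀ n : ℕ, L (Finsupp.single A (2 * ((h + 2 : ℕ) : ℤ) - 2) -
      Finsupp.single A ((n : ℤ) + 1)) =
      L (Finsupp.single A (2 * (h : ℤ) + 1 - n)) := by
    intro n
    rw [← Finsupp.single_sub]
    congr 2
    push_cast
    ring
  have hlo' : L (Finsupp.single A (h : ℤ)) ≤ V₁ := by
    refine le_trans (le_of_eq ?_) hlo
    congr 2
    push_cast
    ring
  have hdimV : Module.finrank k ↥V₁ = h + 1 := by omega
  have hF1 : ∀ n, n < h → Module.finrank k ↥(V₁ ⊓ L (Finsupp.single A (2 * (h : ℤ) + 1 - n))) =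
      h + 1 := by
    intro n hn
    rw [inf_eq_left.mpr (hhi.trans (L_single_mono A (by push_cast; omega)))]
    exact hdimV
  have hF2 : h ≤ Module.finrank k ↥(V₁ ⊓ L (Finsupp.single A (2 * (h : ℤ) + 1 - (h : ℕ)))) ∧
      Module.finrank k ↥(V₁ ⊓ L (Finsupp.single A (2 * (h : ℤ) + 1 - (h : ℕ)))) ≤ h + 1 := by
    constructor
    · have h1 : L (Finsupp.single A (h : ℤ)) ≤
          V₁ ⊓ L (Finsupp.single A (2 * (h : ℤ) + 1 - (h : ℕ))) :=
        le_inf hlo' (L_single_mono A (by omega))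
      have h2 := Submodule.finrank_mono h1
      rw [hell h (by omega)] at h2
      exact h2
    · have h2 := Submodule.finrank_mono
        (inf_le_left : V₁ ⊓ L (Finsupp.single A (2 * (h : ℤ) + 1 - (h : ℕ))) ≤ V₁)
      omega
  have hF3 : ∀ j, j < h →
      Module.finrank k ↥(V₁ ⊓ L (Finsupp.single A (2 * (h : ℤ) + 1 - ((h + 1 + j : ℕ) : ℤ)))) =
      h - j := by
    intro j hj
    have e : (2 * (h : ℤ) + 1 - ((h + 1 + j : ℕ) : ℤ)) = ((h - j : ℕ) : ℤ) := by
      push_cast [Nat.cast_sub hj.le]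
      ring
    rw [e, inf_eq_right.mpr ((L_single_mono A (by push_cast [Nat.cast_sub hj.le]; omega)).trans hlo')]
    exact hell _ (by omega)
  have hF4 : Module.finrank k ↥(V₁ ⊓ L (Finsupp.single A (2 * (h : ℤ) + 1 - ((2 * h + 1 : ℕ) : ℤ)))) =
      1 := by
    have e : (2 * (h : ℤ) + 1 - ((2 * h + 1 : ℕ) : ℤ)) = 0 := by
      push_cast
      ring
    rw [e, inf_eq_right.mpr ((L_single_mono A (by omega)).trans hlo')]
    exact hell0
  have hgauss : ∀ m : ℕ, ∑ j ∈ Finset.range m, (m - j) = (m + 1).choose 2 := by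
    intro m
    induction m with
    | zero => simp
    | succ m ih =>
      rw [Finset.sum_range_succ']
      simp only [Nat.add_sub_add_right, Nat.sub_zero]
      rw [ih, Nat.choose_succ_succ (m + 1) 1]
      simp
      ring
  obtain ⟨ε, hε⟩ : ∃ ε, Module.finrank k ↥(V₁ ⊓ L (Finsupp.single A (2 * (h : ℤ) + 1 - (h : ℕ)))) =
      h + ε := ⟨_, (Nat.add_sub_cancel' hF2.1).symm⟩
  refine ⟨ε, by omega, ?_⟩
  have hsum0 : ∑ n ∈ Finset.range (2 * (h + 2) - 2), Module.finrank k
        ↥(V₁ ⊓ FunFld.L (Finsupp.single A (2 * ((h + 2 : ℕ) : ℤ) - 2) - Finsupp.single A ((n : ℤ) + 1))) =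
      ∑ n ∈ Finset.range (2 * (h + 2) - 2), Module.finrank k
        ↥(V₁ ⊓ FunFld.L (Finsupp.single A (2 * (h : ℤ) + 1 - n))) := by
    apply Finset.sum_congr rfl
    intro n _
    rw [hdiv n]
  rw [hsum0]
  rw [show 2 * (h + 2) - 2 = h + (1 + (h + 1)) by omega, Finset.sum_range_add,
    Finset.sum_range_add, Finset.sum_range_add, Finset.sum_range_one, Finset.sum_range_one]
  rw [Finset.sum_congr rfl (fun n hn => hF1 n (Finset.mem_range.mp hn))]
  have e3 : ∑ x ∈ Finset.range h, Module.finrank k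
      ↥(V₁ ⊓ L (Finsupp.single A (2 * (h : ℤ) + 1 - ((h + (1 + x) : ℕ) : ℤ)))) =
      ∑ x ∈ Finset.range h, (h - x) := by
    apply Finset.sum_congr rfl
    intro x hx
    rw [← add_assoc]
    exact hF3 x (Finset.mem_range.mp hx)
  rw [e3, hgauss]
  have e2 : Module.finrank k ↥(V₁ ⊓ L (Finsupp.single A (2 * (h : ℤ) + 1 - ((h + 0 : ℕ) : ℤ)))) =
      h + ε := hε
  have e4 : Module.finrank k
      ↥(V₁ ⊓ L (Finsupp.single A (2 * (h : ℤ) + 1 - ((h + (1 + (h + 0)) : ℕ) : ℤ)))) = 1 := by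
    rw [show h + (1 + (h + 0)) = 2 * h + 1 by ring]
    exact hF4
  rw [e2, e4]
  simp only [Finset.sum_const, Finset.card_range, smul_eq_mul]
  rw [show h + 2 - 1 = h + 1 by omega]
  ring

end Groth.Agent.S17248
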