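import Groth.Statements.S17249
import Groth.Agent.Lib.helper16.FFG2

set_option autoImplicit false
open FunFld

namespace Groth.Agent.S17249

/-- Let `K/k` be a function field of one variable of genus two over an algebraically closed field `k` of
characteristic zero (a smooth curve `X` of genus `2`), `C` a canonical divisor, `A` a place with
`ℓ(2A) = 1` (not a Weierstrass point), and `P`, `Q` places with `Q ≠ A`. Then `ℓ(C + 2A - P - 3Q) =
1` and `ℓ(C + 2A - P - Q) = 2` do not both hold: the two-dimensional complete system `H⁰(ω_X(2A -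
P))` (of degree `3`) has no point `Q ≠ A` of weight three. (The published statement concerns a
general pointed curve `(X, A)` of genus two over the complex numbers and a point `P` of `X`; this
row assumes only `ℓ(2A) = 1`.) -/
theorem result
    (k K : Type*) [Field k] [IsAlgClosed k] [CharZero k] [Field K] [Algebra k K]
    (hK : FunFld.IsFunctionField k K) (hg : FunFld.genus k K = 2)
    (C : FunFld.Divisor k K) (hC : FunFld.IsCanonical k K C)
    (A P Q : FunFld.Place k K) (hA : Module.finrank k ↥(FunFld.L (Finsupp.single A (2 : ℤ))) = 1) (hQ : Q ≠ A) :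
    ¬ (Module.finrank k ↥(FunFld.L (C + Finsupp.single A (2 : ℤ) - Finsupp.single P (1 : ℤ) - Finsupp.single Q (3 : ℤ))) = 1 ∧
       Module.finrank k ↥(FunFld.L (C + Finsupp.single A (2 : ℤ) - Finsupp.single P (1 : ℤ) - Finsupp.single Q (1 : ℤ))) = 2) := by
  open Groth.Agent.Lib.helper16.FF in
  rintro ⟨-, h2⟩
  have hdeg : ∀ R : Place k K, R.deg = 1 := fun R => deg_eq_one_of_isAlgClosed hK R
  obtain ⟨hC1, hC2⟩ := isCanonical_ell_deg hK hC
  have hrr := riemann_roch hK hC
    (C + Finsupp.single A (2 : ℤ) - Finsupp.single P (1 : ℤ) - Finsupp.single Q (1 : ℤ))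
  have hCD : C - (C + Finsupp.single A (2 : ℤ) - Finsupp.single P (1 : ℤ) -
      Finsupp.single Q (1 : ℤ)) =
      Finsupp.single P (1 : ℤ) + Finsupp.single Q (1 : ℤ) - Finsupp.single A (2 : ℤ) := by abel
  rw [hCD] at hrr
  have hdegD : (C + Finsupp.single A (2 : ℤ) - Finsupp.single P (1 : ℤ) -
      Finsupp.single Q (1 : ℤ)).deg = 2 := by
    rw [deg_sub, deg_sub, deg_add, deg_single, deg_single, deg_single, hdeg, hdeg, hdeg, hC2, hg]
    norm_num
  have hell : ell (Finsupp.single P (1 : ℤ) + Finsupp.single Q (1 : ℤ) -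
      Finsupp.single A (2 : ℤ)) = 1 := by
    have h2' : ell (C + Finsupp.single A (2 : ℤ) - Finsupp.single P (1 : ℤ) -
      Finsupp.single Q (1 : ℤ)) = 2 := h2
    rw [h2', hdegD, hg] at hrr
    push_cast at hrr
    omega
  have hdegE : Divisor.deg (k := k) (K := K) (Finsupp.single P (1 : ℤ) + Finsupp.single Q (1 : ℤ) -
      Finsupp.single A (2 : ℤ)) = 0 := by
    rw [deg_sub, deg_add, deg_single, deg_single, deg_single, hdeg, hdeg, hdeg]
    norm_num
  obtain ⟨x, hx0, hx⟩ := exists_div_eq_neg_of_ell_pos hK hdegE (by omega)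
  have h3 : ell (Finsupp.single A (2 : ℤ) - Finsupp.single Q (1 : ℤ) : Divisor k K) = 1 := by
    have : (Finsupp.single A (2 : ℤ) - Finsupp.single Q (1 : ℤ) : Divisor k K) =
        Finsupp.single P (1 : ℤ) + FunFld.div k x := by
      rw [hx]; abel
    rw [this, ell_add_div hK _ hx0, ell_single_eq_one hK (by omega) (hdeg P)]
  have h4 := ell_sub_single_lt_of_nonneg hK (D := Finsupp.single A (2 : ℤ))
    (Finsupp.single_nonneg.mpr (by norm_num)) (Q := Q) (Finsupp.single_eq_of_ne hQ)
  have h5 : ell (Finsupp.single A (2 : ℤ) : Divisor k K) = 1 := hA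
  omega

end Groth.Agent.S17249
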