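import Groth.Statements.S17250
import Groth.Agent.Lib.helper16.FFG2

set_option autoImplicit false
open FunFld

namespace Groth.Agent.S17250

/-- Let `K/k` be a function field of one variable of genus two over an algebraically closed field `k` of
characteristic zero (a smooth curve `X` of genus `2`), `C` a canonical divisor, `A` a place with
`ℓ(2A) = 1`, and `P`, `Q` places different from `A`. Then `ℓ(C + 3A - P - 4Q) = 1` and `ℓ(C + 3A - P
- 2Q) = 2` do not both hold (the three-dimensional complete system `H⁰(ω_X(3A - P))`, of degree `4`,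
has no point `Q ≠ A` with two independent sections vanishing to order at least `2` there and one
vanishing to order at least `4`). (The published statement concerns a general pointed curve `(X, A)`
of genus two over the complex numbers and a point `P ≠ A`; this row assumes `ℓ(2A) = 1` in place of
generality.) -/
theorem result
    (k K : Type*) [Field k] [IsAlgClosed k] [CharZero k] [Field K] [Algebra k K]
    (hK : FunFld.IsFunctionField k K) (hg : FunFld.genus k K = 2)
    (C : FunFld.Divisor k K) (hC : FunFld.IsCanonical k K C)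
    (A P Q : FunFld.Place k K) (hA : Module.finrank k ↥(FunFld.L (Finsupp.single A (2 : ℤ))) = 1) (hP : P ≠ A) (hQ : Q ≠ A) :
    ¬ (Module.finrank k ↥(FunFld.L (C + Finsupp.single A (3 : ℤ) - Finsupp.single P (1 : ℤ) - Finsupp.single Q (4 : ℤ))) = 1 ∧
       Module.finrank k ↥(FunFld.L (C + Finsupp.single A (3 : ℤ) - Finsupp.single P (1 : ℤ) - Finsupp.single Q (2 : ℤ))) = 2) := by
  open Groth.Agent.Lib.helper16.FF in
  rintro ⟨h1, h2⟩
  have hdeg : ∀ R : Place k K, R.deg = 1 := fun R => deg_eq_one_of_isAlgClosed hK R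
  obtain ⟨hC1, hC2⟩ := isCanonical_ell_deg hK hC
  -- the first system: a function with divisor `P + 4Q - C - 3A`
  have hdeg1 : (C + Finsupp.single A (3 : ℤ) - Finsupp.single P (1 : ℤ) -
      Finsupp.single Q (4 : ℤ)).deg = 0 := by
    rw [deg_sub, deg_sub, deg_add, deg_single, deg_single, deg_single, hdeg, hdeg, hdeg, hC2, hg]
    norm_num
  have h1' : ell (C + Finsupp.single A (3 : ℤ) - Finsupp.single P (1 : ℤ) -
      Finsupp.single Q (4 : ℤ)) = 1 := h1
  obtain ⟨f, hf0, hf⟩ := exists_div_eq_neg_of_ell_pos hK hdeg1 (by omega)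
  -- the second system: `P + 2Q ~ 3A`
  have hrr := riemann_roch hK hC
    (C + Finsupp.single A (3 : ℤ) - Finsupp.single P (1 : ℤ) - Finsupp.single Q (2 : ℤ))
  have hCD : C - (C + Finsupp.single A (3 : ℤ) - Finsupp.single P (1 : ℤ) -
      Finsupp.single Q (2 : ℤ)) =
      Finsupp.single P (1 : ℤ) + Finsupp.single Q (2 : ℤ) - Finsupp.single A (3 : ℤ) := by abel
  rw [hCD] at hrr
  have hdegD : (C + Finsupp.single A (3 : ℤ) - Finsupp.single P (1 : ℤ) -
      Finsupp.single Q (2 : ℤ)).deg = 2 := by
    rw [deg_sub, deg_sub, deg_add, deg_single, deg_single, deg_single, hdeg, hdeg, hdeg, hC2, hg]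
    norm_num
  have hell : ell (Finsupp.single P (1 : ℤ) + Finsupp.single Q (2 : ℤ) -
      Finsupp.single A (3 : ℤ)) = 1 := by
    have h2' : ell (C + Finsupp.single A (3 : ℤ) - Finsupp.single P (1 : ℤ) -
      Finsupp.single Q (2 : ℤ)) = 2 := h2
    rw [h2', hdegD, hg] at hrr
    push_cast at hrr
    omega
  have hdegE : Divisor.deg (k := k) (K := K) (Finsupp.single P (1 : ℤ) + Finsupp.single Q (2 : ℤ) -
      Finsupp.single A (3 : ℤ)) = 0 := by
    rw [deg_sub, deg_add, deg_single, deg_single, deg_single, hdeg, hdeg, hdeg]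
    norm_num
  obtain ⟨h, hh0, hh⟩ := exists_div_eq_neg_of_ell_pos hK hdegE (by omega)
  -- hence `3A - P ~ C`
  have hhhf : h * h * f ≠ 0 := mul_ne_zero (mul_ne_zero hh0 hh0) hf0
  have hQ4 : (Finsupp.single Q (4 : ℤ) : Divisor k K) =
      Finsupp.single Q (2 : ℤ) + Finsupp.single Q (2 : ℤ) := by
    rw [← Finsupp.single_add]; norm_num
  have h3 : ell (Finsupp.single A (3 : ℤ) - Finsupp.single P (1 : ℤ) : Divisor k K) = 2 := by
    have : (Finsupp.single A (3 : ℤ) - Finsupp.single P (1 : ℤ) : Divisor k K) =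
        C + FunFld.div k (h * h * f) := by
      rw [Groth.Agent.Lib.helper16.FF.div_mul hK (mul_ne_zero hh0 hh0) hf0, Groth.Agent.Lib.helper16.FF.div_mul hK hh0 hh0, hf, hh, hQ4]; abel
    rw [this, ell_add_div hK _ hhhf, hC1, hg]
  have h4 := ell_sub_single_lt_of_nonneg hK (D := Finsupp.single A (3 : ℤ))
    (Finsupp.single_nonneg.mpr (by norm_num)) (Q := P) (Finsupp.single_eq_of_ne hP)
  have h5 : (ell (Finsupp.single A (3 : ℤ) : Divisor k K) : ℤ) = 3 + 1 - 2 := by
    have := ell_eq_of_deg_ge hK (D := (Finsupp.single A (3 : ℤ) : Divisor k K))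
      (by rw [deg_single, hdeg, hg]; norm_num)
    rw [deg_single, hdeg, hg] at this
    push_cast at this
    linarith
  omega

end Groth.Agent.S17250
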