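import Groth.Statements.S17251
import Groth.Agent.Lib.helper16.FFG2

set_option autoImplicit false
open FunFld

namespace Groth.Agent.S17251

/-- Let `K/k` be a function field of one variable of genus two over an algebraically closed field `k` of
characteristic zero (a smooth curve `Y` of genus `2`), `C` a canonical divisor, `B` a place with
`ℓ(2B) = 1` (not a Weierstrass point) and `Q ≠ B` a place. Then `ℓ(C + B - 2Q) = 1` and `ℓ(C + 3B -
4Q) = 1` do not both hold: the complete systems `H⁰(ω_Y(B))` (dimension `2`, degree `3`) and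
`H⁰(ω_Y(3B))` (dimension `4`, degree `5`) have no ramification point in common on `Y` minus `B`.
(The published statement concerns a general pointed curve `(Y, B)` of genus two over the complex
numbers; this row assumes only `ℓ(2B) = 1`.) -/
theorem result
    (k K : Type*) [Field k] [IsAlgClosed k] [CharZero k] [Field K] [Algebra k K]
    (hK : FunFld.IsFunctionField k K) (hg : FunFld.genus k K = 2)
    (C : FunFld.Divisor k K) (hC : FunFld.IsCanonical k K C)
    (B Q : FunFld.Place k K) (hB : Module.finrank k ↥(FunFld.L (Finsupp.single B (2 : ℤ))) = 1) (hQ : Q ≠ B) :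
    ¬ (Module.finrank k ↥(FunFld.L (C + Finsupp.single B (1 : ℤ) - Finsupp.single Q (2 : ℤ))) = 1 ∧
       Module.finrank k ↥(FunFld.L (C + Finsupp.single B (3 : ℤ) - Finsupp.single Q (4 : ℤ))) = 1) := by
  open Groth.Agent.Lib.helper16.FF in
  rintro ⟨h1, h2⟩
  have hdeg : ∀ R : Place k K, R.deg = 1 := fun R => deg_eq_one_of_isAlgClosed hK R
  obtain ⟨hC1, hC2⟩ := isCanonical_ell_deg hK hC
  -- step 1: `ℓ(2Q - B) = 1`
  have hrr := riemann_roch hK hC
    (C + Finsupp.single B (1 : ℤ) - Finsupp.single Q (2 : ℤ))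
  have hCD : C - (C + Finsupp.single B (1 : ℤ) - Finsupp.single Q (2 : ℤ)) =
      Finsupp.single Q (2 : ℤ) - Finsupp.single B (1 : ℤ) := by abel
  rw [hCD] at hrr
  have hdegD : (C + Finsupp.single B (1 : ℤ) - Finsupp.single Q (2 : ℤ)).deg = 1 := by
    rw [deg_sub, deg_add, deg_single, deg_single, hdeg, hdeg, hC2, hg]
    norm_num
  have hell : ell (Finsupp.single Q (2 : ℤ) - Finsupp.single B (1 : ℤ) : Divisor k K) = 1 := by
    have h1' : ell (C + Finsupp.single B (1 : ℤ) - Finsupp.single Q (2 : ℤ)) = 1 := h1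
    rw [h1', hdegD, hg] at hrr
    push_cast at hrr
    omega
  -- step 2: `ℓ(2Q) = 2`, hence `2Q ~ C`
  have h3 := ell_sub_single_lt_of_nonneg hK (D := Finsupp.single Q (2 : ℤ))
    (Finsupp.single_nonneg.mpr (by norm_num)) (Q := B) (Finsupp.single_eq_of_ne hQ.symm)
  have hrr2 := riemann_roch hK hC (Finsupp.single Q (2 : ℤ))
  rw [deg_single, hdeg, hg] at hrr2
  have hdegE : (C - Finsupp.single Q (2 : ℤ)).deg = 0 := by
    rw [deg_sub, deg_single, hdeg, hC2, hg]
    norm_num
  have hpos : 0 < ell (C - Finsupp.single Q (2 : ℤ)) := by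
    push_cast at hrr2
    omega
  obtain ⟨u, hu0, hu⟩ := exists_div_eq_neg_of_ell_pos hK hdegE hpos
  -- step 3: `ℓ(3B - C) = 1`
  have hQ4 : (Finsupp.single Q (4 : ℤ) : Divisor k K) =
      Finsupp.single Q (2 : ℤ) + Finsupp.single Q (2 : ℤ) := by
    rw [← Finsupp.single_add]; norm_num
  have hui : u⁻¹ ≠ 0 := inv_ne_zero hu0
  have h4 : ell (Finsupp.single B (3 : ℤ) - C) = 1 := by
    have : C + Finsupp.single B (3 : ℤ) - Finsupp.single Q (4 : ℤ) =
        (Finsupp.single B (3 : ℤ) - C) + FunFld.div k (u⁻¹ * u⁻¹) := by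
      rw [Groth.Agent.Lib.helper16.FF.div_mul hK hui hui, div_inv hK, hu, hQ4]; abel
    have h2' : ell (C + Finsupp.single B (3 : ℤ) - Finsupp.single Q (4 : ℤ)) = 1 := h2
    rw [this, ell_add_div hK _ (mul_ne_zero hui hui)] at h2'
    exact h2'
  -- step 4: `3B ~ C + R'`
  have hdegF : Divisor.deg (k := k) (K := K) (Finsupp.single B (3 : ℤ) - C) = 1 := by
    rw [deg_sub, deg_single, hdeg, hC2, hg]
    norm_num
  obtain ⟨w, R', hw0, hw⟩ := exists_single_eq_of_ell_pos hK hdegF (by omega)
  have hwi : w⁻¹ ≠ 0 := inv_ne_zero hw0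
  have h5 : ell (Finsupp.single B (3 : ℤ) - Finsupp.single R' (1 : ℤ) : Divisor k K) = 2 := by
    have : (Finsupp.single B (3 : ℤ) - Finsupp.single R' (1 : ℤ) : Divisor k K) =
        C + FunFld.div k w⁻¹ := by
      rw [div_inv hK, ← hw]; abel
    rw [this, ell_add_div hK _ hwi, hC1, hg]
  have h6 : (ell (Finsupp.single B (3 : ℤ) : Divisor k K) : ℤ) = 3 + 1 - 2 := by
    have := ell_eq_of_deg_ge hK (D := (Finsupp.single B (3 : ℤ) : Divisor k K))
      (by rw [deg_single, hdeg, hg]; norm_num)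
    rw [deg_single, hdeg, hg] at this
    push_cast at this
    linarith
  by_cases hR : R' = B
  · subst hR
    have h7 : (Finsupp.single R' (3 : ℤ) - Finsupp.single R' (1 : ℤ) : Divisor k K) =
        Finsupp.single R' (2 : ℤ) := by
      rw [← Finsupp.single_sub]; norm_num
    rw [h7] at h5
    have h8 : ell (Finsupp.single R' (2 : ℤ) : Divisor k K) = 1 := hB
    omega
  · have h7 := ell_sub_single_lt_of_nonneg hK (D := Finsupp.single B (3 : ℤ))
      (Finsupp.single_nonneg.mpr (by norm_num)) (Q := R') (Finsupp.single_eq_of_ne hR)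
    omega

end Groth.Agent.S17251
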