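import Groth.Agent.Lib.helper10.GraphBC
import Groth.Agent.Lib.helper10.FpProd
import Groth.Agent.S12784
import Groth.Agent.S12785
import Groth.Agent.S12786
import Groth.Statements.S17264

set_option autoImplicit false
open CategoryTheory
universe v u
open FibCat

namespace Groth.Agent.S17264

open Groth.Agent.Lib.helper10 in
/-- transfer of representability along a 2-cartesian square -/
theorem of_cart {C : Type u} [Category.{v} C] {𝒳 𝒴 𝒳' 𝒴' : BasedCategory.{v, max u v} C}
    (f : 𝒳 ⥤ᵇ 𝒴) (f' : 𝒳' ⥤ᵇ 𝒴') (H : 𝒴' ⥤ᵇ 𝒴)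
    (E : 𝒳' ⥤ᵇ FibCat.fp H f) (hE : FibCat.IsEquivOver E)
    (e : f' ≅ BasedFunctor.comp E (FibCat.fpFst H f))
    (hf : FibCat.IsRepresentable1 f) : FibCat.IsRepresentable1 f' :=
  (Groth.Agent.S12784.result (FibCat.fpFst H f) f' E (BasedFunctor.id _) hE
    (EquivComp.id_isEquivOver _) e).mp (Groth.Agent.S12786.result f H hf)


/-- Let C be a category with fibre products and let f : 𝒳 → 𝒴 and g : 𝒴 → 𝒵 be functors over C between
categories fibred in groupoids over C. If the composite g ∘ f is a representable 1-morphism (its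
2-fibre product with every slice category C/U is equivalent over C to a slice category) and the
diagonal 𝒴 → 𝒴 ×_𝒵 𝒴 of g is a representable 1-morphism, then f is a representable 1-morphism. This
is the case of the source's lemma in which the class of test objects is the class of representable
categories over C. -/
theorem result {C : Type u} [Category.{v} C]
    [Limits.HasPullbacks C] {𝒳 𝒴 𝒵 : BasedCategory.{v, max u v} C}
    (h𝒳 : FibCat.IsFibGrpd 𝒳.p) (h𝒴 : FibCat.IsFibGrpd 𝒴.p) (h𝒵 : FibCat.IsFibGrpd 𝒵.p)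
    (f : 𝒳 ⥤ᵇ 𝒴) (g : 𝒴 ⥤ᵇ 𝒵)
    (hgf : FibCat.IsRepresentable1 (BasedFunctor.comp f g))
    (hΔ : FibCat.IsRepresentable1 (FibCat.diag g)) :
    FibCat.IsRepresentable1 f := by
  -- the graph of `f` is a base change of the diagonal of `g`
  have h1 : FibCat.IsRepresentable1
      (FibCat.fpLift (F := BasedFunctor.comp f g) (G := g) (BasedFunctor.id 𝒳) f (Iso.refl _)) :=
    of_cart (FibCat.diag g) _ (Groth.Agent.Lib.helper10.GraphBC.H (BasedFunctor.comp f g) g f (Iso.refl _))
      (Groth.Agent.Lib.helper10.GraphBC.E (BasedFunctor.comp f g) g f (Iso.refl _))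
      (Groth.Agent.Lib.helper10.GraphBC.E_isEquivOver (BasedFunctor.comp f g) g f (Iso.refl _))
      (Iso.refl _) hΔ
  -- the second projection is a base change of `f ⋙ g`
  have h2 : FibCat.IsRepresentable1 (FibCat.fpSnd (BasedFunctor.comp f g) g) :=
    (Groth.Agent.S12784.result (FibCat.fpFst g (BasedFunctor.comp f g))
      (FibCat.fpSnd (BasedFunctor.comp f g) g)
      (Groth.Agent.Lib.helper10.FpProd.swap (BasedFunctor.comp f g) g) (BasedFunctor.id _)
      (Groth.Agent.Lib.helper10.FpProd.swap_isEquivOver _ _)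
      (Groth.Agent.Lib.helper10.EquivComp.id_isEquivOver _) (Iso.refl _)).mp
      (Groth.Agent.S12786.result (BasedFunctor.comp f g) g hgf)
  exact Groth.Agent.S12785.result _ _ h1 h2

end Groth.Agent.S17264
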