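import Groth.Statements.S17266

set_option autoImplicit false
open CategoryTheory
universe v u
open Stk

namespace Groth.Agent.S17266

universe v₂ u₂ v₃ u₃ v₄ u₄

section whisker
variable {C : Type u} [Category.{v} C]
variable {𝒳 : BasedCategory.{v₂, u₂} C} {𝒴 : BasedCategory.{v₃, u₃} C} {𝒵 : BasedCategory.{v₄, u₄} C}

/-- left whiskering of an isomorphism of based functors -/
def wL (F : 𝒳 ⥤ᵇ 𝒴) {G H : 𝒴 ⥤ᵇ 𝒵} (e : G ≅ H) :
    BasedFunctor.comp F G ≅ BasedFunctor.comp F H :=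
  BasedNatIso.mkNatIso (Functor.isoWhiskerLeft F.toFunctor ((BasedNatTrans.forgetful 𝒴 𝒵).mapIso e))
    (fun a => e.hom.isHomLift (F.w_obj a))

/-- right whiskering of an isomorphism of based functors -/
def wR {F G : 𝒳 ⥤ᵇ 𝒴} (e : F ≅ G) (H : 𝒴 ⥤ᵇ 𝒵) :
    BasedFunctor.comp F H ≅ BasedFunctor.comp G H :=
  BasedNatIso.mkNatIso (Functor.isoWhiskerRight ((BasedNatTrans.forgetful 𝒳 𝒴).mapIso e) H.toFunctor)
    (fun a => by
      have : 𝒴.p.IsHomLift (𝟙 (𝒳.p.obj a)) (e.hom.toNatTrans.app a) := inferInstance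
      exact BasedFunctor.preserves_isHomLift H (𝟙 (𝒳.p.obj a)) (e.hom.toNatTrans.app a))

theorem bf_ext (F G : 𝒳 ⥤ᵇ 𝒴) (h : F.toFunctor = G.toFunctor) : F = G := by
  cases F; cases G; simp only at h; subst h; rfl

end whisker


/-- Let C be a category with a Grothendieck topology J and let F : 𝒳 → 𝒴, G : 𝒴 → 𝒵 be functors over C
between categories fibred in groupoids over C. Say that a functor H : 𝒜 → ℬ over C is covering when
for every object U of C and every functor b : C/U → ℬ over C there is a J-covering sieve of U such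
that for each of its arrows h : V → U the composite of C/V → C/U with b is 2-isomorphic over C to H
∘ a for some functor a : C/V → 𝒜 over C (locally on the base every object of ℬ lifts to 𝒜 up to
isomorphism). If F and G are covering, then the composite G ∘ F is covering. -/
theorem result {C : Type u} [Category.{v} C] (J : GrothendieckTopology C)
    {𝒳 𝒴 𝒵 : BasedCategory.{v, max u v} C}
    (h𝒳 : FibCat.IsFibGrpd 𝒳.p) (h𝒴 : FibCat.IsFibGrpd 𝒴.p) (h𝒵 : FibCat.IsFibGrpd 𝒵.p)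
    (F : 𝒳 ⥤ᵇ 𝒴) (G : 𝒴 ⥤ᵇ 𝒵)
    (hF : (∀ (U : C) (y : FibCat.overCat U ⥤ᵇ 𝒴), ∃ R ∈ J U, ∀ ⦃V : C⦄ (h : V ⟶ U), R.arrows h →
        ∃ x : FibCat.overCat V ⥤ᵇ 𝒳,
          Nonempty (BasedFunctor.comp x F ≅ BasedFunctor.comp (⟨Over.map h, Over.mapForget_eq h⟩ : FibCat.overCat V ⥤ᵇ FibCat.overCat U) y)))
    (hG : (∀ (U : C) (y : FibCat.overCat U ⥤ᵇ 𝒵), ∃ R ∈ J U, ∀ ⦃V : C⦄ (h : V ⟶ U), R.arrows h →
        ∃ x : FibCat.overCat V ⥤ᵇ 𝒴,
          Nonempty (BasedFunctor.comp x G ≅ BasedFunctor.comp (⟨Over.map h, Over.mapForget_eq h⟩ : FibCat.overCat V ⥤ᵇ FibCat.overCat U) y))) :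
    (∀ (U : C) (y : FibCat.overCat U ⥤ᵇ 𝒵), ∃ R ∈ J U, ∀ ⦃V : C⦄ (h : V ⟶ U), R.arrows h →
        ∃ x : FibCat.overCat V ⥤ᵇ 𝒳,
          Nonempty (BasedFunctor.comp x (BasedFunctor.comp F G) ≅ BasedFunctor.comp (⟨Over.map h, Over.mapForget_eq h⟩ : FibCat.overCat V ⥤ᵇ FibCat.overCat U) y)) := by
  intro U z
  obtain ⟨R, hR, hRz⟩ := hG U z
  choose y hy using hRz
  choose R' hR' hx using fun (V : C) (h : V ⟶ U) (hh : R.arrows h) => hF V (y h hh)
  refine ⟨Sieve.bind R (fun V h hh => R' V h hh), J.bind_covering hR (fun V h hh => hR' V h hh), ?_⟩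
  intro W k hk
  obtain ⟨V, g, f, hf, hg, rfl⟩ := hk
  obtain ⟨x, ⟨ex⟩⟩ := hx V f hf g hg
  obtain ⟨ey⟩ := hy f hf
  refine ⟨x, ⟨?_⟩⟩
  have e1 : BasedFunctor.comp x (BasedFunctor.comp F G) ≅
      BasedFunctor.comp (BasedFunctor.comp (⟨Over.map g, Over.mapForget_eq g⟩ : FibCat.overCat W ⥤ᵇ FibCat.overCat V) (y f hf)) G :=
    wR ex G
  have e2 : BasedFunctor.comp (BasedFunctor.comp (⟨Over.map g, Over.mapForget_eq g⟩ : FibCat.overCat W ⥤ᵇ FibCat.overCat V) (y f hf)) G ≅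
      BasedFunctor.comp (⟨Over.map g, Over.mapForget_eq g⟩ : FibCat.overCat W ⥤ᵇ FibCat.overCat V)
        (BasedFunctor.comp (⟨Over.map f, Over.mapForget_eq f⟩ : FibCat.overCat V ⥤ᵇ FibCat.overCat U) z) :=
    wL (⟨Over.map g, Over.mapForget_eq g⟩ : FibCat.overCat W ⥤ᵇ FibCat.overCat V) ey
  have e3 : BasedFunctor.comp (⟨Over.map g, Over.mapForget_eq g⟩ : FibCat.overCat W ⥤ᵇ FibCat.overCat V)
        (BasedFunctor.comp (⟨Over.map f, Over.mapForget_eq f⟩ : FibCat.overCat V ⥤ᵇ FibCat.overCat U) z) =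
      BasedFunctor.comp (⟨Over.map (g ≫ f), Over.mapForget_eq (g ≫ f)⟩ : FibCat.overCat W ⥤ᵇ FibCat.overCat U) z := by
    have : (⟨Over.map (g ≫ f), Over.mapForget_eq (g ≫ f)⟩ : FibCat.overCat W ⥤ᵇ FibCat.overCat U) =
        BasedFunctor.comp (⟨Over.map g, Over.mapForget_eq g⟩ : FibCat.overCat W ⥤ᵇ FibCat.overCat V)
          (⟨Over.map f, Over.mapForget_eq f⟩ : FibCat.overCat V ⥤ᵇ FibCat.overCat U) := by
      apply bf_ext
      exact Over.mapComp_eq g f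
    rw [this]
    rfl
  exact e1 ≪≫ e2 ≪≫ eqToIso e3


end Groth.Agent.S17266
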