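import Groth.Statements.S1728
import Mathlib
-- import your own Groth.Agent.* helpers here

set_option autoImplicit false
universe u
open InjHull

namespace Groth.Agent.S1728

theorem backward (R : Type u) [CommRing R] (I : Type u) [AddCommGroup I] [Module R I] [Module.Injective R I] (E : Submodule R I)
    (H : ∀ E' : Submodule R I, E ≤ E' → (∀ N : Submodule R I, N ≤ E' → N ≠ ⊥ → N ⊓ E ≠ ⊥) → E' = E) :
    Module.Injective R E := by
  -- Zorn: maximal C with C ⊓ E = ⊥
  obtain ⟨C, hCmax⟩ : ∃ C : Submodule R I, Maximal (· ∈ {C : Submodule R I | C ⊓ E = ⊥}) C := by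
    apply zorn_le₀ {C : Submodule R I | C ⊓ E = ⊥}
    intro c hcS hc
    by_cases hne : c.Nonempty
    · refine ⟨sSup c, ?_, fun x hx => le_sSup hx⟩
      rw [Set.mem_ofPred_eq, eq_bot_iff]
      rintro x ⟨hx1, hx2⟩
      rw [SetLike.mem_coe, Submodule.mem_sSup_of_directed hne hc.directedOn] at hx1
      obtain ⟨y, hy, hxy⟩ := hx1
      have h1 : y ⊓ E = ⊥ := hcS hy
      rw [← h1]
      exact ⟨hxy, hx2⟩
    · refine ⟨⊥, by simp, ?_⟩
      intro z hz
      exact absurd ⟨z, hz⟩ hne
  have hCE : C ⊓ E = ⊥ := hCmax.prop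
  have hCle : ∀ D : Submodule R I, D ⊓ E = ⊥ → C ≤ D → D ≤ C := fun D hD hCD => hCmax.le_of_ge hD hCD
  -- φ : E → I ⧸ C
  let φ : E →ₗ[R] I ⧸ C := C.mkQ ∘ₗ E.subtype
  have hφ : Function.Injective φ := by
    rw [← LinearMap.ker_eq_bot, eq_bot_iff]
    intro e he
    have h1 : (e : I) ∈ C := by
      have : C.mkQ (e : I) = 0 := he
      rwa [Submodule.mkQ_apply, Submodule.Quotient.mk_eq_zero] at this
    have h2 : (e : I) ∈ C ⊓ E := ⟨h1, e.2⟩
    rw [hCE, Submodule.mem_bot] at h2
    rw [Submodule.mem_bot]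
    exact Subtype.ext h2
  obtain ⟨ψ, hψ⟩ := Module.Injective.extension_property R I E (I ⧸ C) φ hφ E.subtype
  let θ : I →ₗ[R] I := ψ ∘ₗ C.mkQ
  have hθE : ∀ e : I, e ∈ E → θ e = e := by
    intro e he
    exact LinearMap.congr_fun hψ ⟨e, he⟩
  have hθC : ∀ c : I, c ∈ C → θ c = 0 := by
    intro c hc
    change ψ (C.mkQ c) = 0
    rw [Submodule.mkQ_apply, (Submodule.Quotient.mk_eq_zero C).mpr hc, map_zero]
  have hrange : LinearMap.range θ = E := by
    apply H
    · intro e he
      exact ⟨e, hθE e he⟩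
    · intro N hN hN0 hNE
      apply hN0
      have hD : (N.comap θ) ≤ C := by
        apply hCle
        · rw [eq_bot_iff]
          rintro e ⟨he1, he2⟩
          have h1 : θ e ∈ N := he1
          rw [hθE e he2] at h1
          have h2 : e ∈ N ⊓ E := ⟨h1, he2⟩
          rwa [hNE] at h2
        · intro c hc
          change θ c ∈ N
          rw [hθC c hc]
          exact N.zero_mem
      rw [eq_bot_iff]
      intro n hn
      obtain ⟨y, rfl⟩ := hN hn
      have hy : y ∈ C := hD hn
      rw [hθC y hy]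
      exact Submodule.zero_mem _
  let ρ : I →ₗ[R] E := θ.codRestrict E (fun x => by rw [← hrange]; exact ⟨x, rfl⟩)
  have hρ : ∀ e : E, ρ (e : I) = e := by
    intro e
    apply Subtype.ext
    exact hθE e e.2
  refine ⟨fun X Y _ _ _ _ f hf g => ?_⟩
  obtain ⟨h, hh⟩ := Module.Injective.out f hf (E.subtype ∘ₗ g)
  refine ⟨ρ ∘ₗ h, fun x => ?_⟩
  rw [LinearMap.comp_apply, hh x]
  exact hρ (g x)

/-- Let I be an injective R-module and E a submodule of I. Then E is an injective module if and only if
every submodule E' of I containing E, such that every nonzero submodule of E' meets E nontrivially,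
is equal to E. -/
theorem result (R : Type u) [CommRing R] (I : Type u) [AddCommGroup I] [Module R I] [Module.Injective R I] (E : Submodule R I) : Module.Injective R E ↔ ∀ E' : Submodule R I, E ≤ E' → (∀ N : Submodule R I, N ≤ E' → N ≠ ⊥ → N ⊓ E ≠ ⊥) → E' = E := by
  constructor
  · intro hE E' hle hess
    -- retraction r : E' → E
    obtain ⟨r, hr⟩ := Module.Injective.extension_property R E E E' (Submodule.inclusion hle)
      (Submodule.inclusion_injective hle) LinearMap.id
    have hr' : ∀ e : E, r (Submodule.inclusion hle e) = e := fun e ↦ LinearMap.congr_fun hr e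
    -- kernel of r, as a submodule of I
    let N : Submodule R I := (LinearMap.ker r).map E'.subtype
    have hNle : N ≤ E' := by
      rintro _ ⟨x, -, rfl⟩
      exact x.2
    have hNE : N ⊓ E = ⊥ := by
      rw [eq_bot_iff]
      rintro x ⟨⟨y, hy, rfl⟩, hxE⟩
      have h1 : y = Submodule.inclusion hle ⟨E'.subtype y, hxE⟩ := Subtype.ext rfl
      have h2 : r y = 0 := hy
      rw [h1, hr'] at h2
      have : E'.subtype y = ((⟨E'.subtype y, hxE⟩ : E) : I) := rfl
      rw [Submodule.mem_bot, this, h2]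
      rfl
    have hN : N = ⊥ := by
      by_contra hne
      exact hess N hNle hne hNE
    apply le_antisymm _ hle
    intro x hx
    -- x - r x ∈ ker r
    have h3 : r (⟨x, hx⟩ - Submodule.inclusion hle (r ⟨x, hx⟩)) = 0 := by
      rw [map_sub, hr', sub_self]
    have h4 : E'.subtype (⟨x, hx⟩ - Submodule.inclusion hle (r ⟨x, hx⟩)) ∈ N := ⟨_, h3, rfl⟩
    rw [hN, Submodule.mem_bot] at h4
    have h5 : x = (r ⟨x, hx⟩ : I) := by
      have : E'.subtype (⟨x, hx⟩ - Submodule.inclusion hle (r ⟨x, hx⟩)) =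
          x - (r ⟨x, hx⟩ : I) := rfl
      rw [this] at h4
      exact sub_eq_zero.mp h4
    rw [h5]
    exact (r ⟨x, hx⟩).2
  · intro H
    exact backward R I E H

end Groth.Agent.S1728
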