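import Groth.Statements.S1729
-- import your own Groth.Agent.* helpers here

set_option autoImplicit false
universe u
open Dual2

namespace Groth.Agent.S1729

/-- Over a local ring, every finite module M admits a projective cover: a surjection from a projective
module P onto M such that no proper submodule of P maps onto M. -/
theorem result (R : Type u) [CommRing R] [IsLocalRing R] (M : Type u) [AddCommGroup M] [Module R M] [Module.Finite R M] : ∃ (P : Type u) (_ : AddCommGroup P) (_ : Module R P) (f : P →ₗ[R] M), Dual2.IsProjectiveCover f := by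
  classical
  have hex : ∃ n : ℕ, ∃ s : Fin n → M, Submodule.span R (Set.range s) = ⊤ :=
    Module.Finite.exists_fin (R := R) (M := M)
  obtain ⟨s, hs⟩ := Nat.find_spec hex
  have hmin : ∀ k < Nat.find hex, ¬ ∃ s : Fin k → M, Submodule.span R (Set.range s) = ⊤ :=
    fun k hk => Nat.find_min hex hk
  generalize Nat.find hex = n at s hs hmin
  let f : (Fin n → R) →ₗ[R] M := Fintype.linearCombination R s
  have hfapp : ∀ x : Fin n → R, f x = ∑ i, x i • s i := fun x => Fintype.linearCombination_apply R s x
  have hfsurj : Function.Surjective f := by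
    rw [← LinearMap.range_eq_top, Fintype.range_linearCombination]; exact hs
  have hker : ∀ x : Fin n → R, f x = 0 → ∀ i, x i ∈ IsLocalRing.maximalIdeal R := by
    intro x hx i
    by_contra hi
    have hu : IsUnit (x i) := by
      rwa [IsLocalRing.mem_maximalIdeal, mem_nonunits_iff, not_not] at hi
    obtain ⟨u, hu⟩ := hu
    rw [hfapp, ← Finset.add_sum_erase _ _ (Finset.mem_univ i)] at hx
    -- the family without index i
    let s' : {j : Fin n // j ≠ i} → M := fun j => s j.1
    have hsi : s i ∈ Submodule.span R (Set.range s') := by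
      have h1 : x i • s i = - ∑ j ∈ Finset.univ.erase i, x j • s j := eq_neg_of_add_eq_zero_left hx
      have h2 : s i = (↑u⁻¹ : R) • (x i • s i) := by
        rw [smul_smul, ← hu, Units.inv_mul, one_smul]
      rw [h2, h1]
      refine Submodule.smul_mem _ _ (Submodule.neg_mem _ (Submodule.sum_mem _ fun j hj => ?_))
      refine Submodule.smul_mem _ _ (Submodule.subset_span ⟨⟨j, Finset.ne_of_mem_erase hj⟩, rfl⟩)
    have hs' : Submodule.span R (Set.range s') = ⊤ := by
      rw [eq_top_iff, ← hs, Submodule.span_le]
      rintro _ ⟨j, rfl⟩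
      by_cases hj : j = i
      · rw [hj]; exact hsi
      · exact Submodule.subset_span ⟨⟨j, hj⟩, rfl⟩
    let e := Fintype.equivFin {j : Fin n // j ≠ i}
    have hcard : Fintype.card {j : Fin n // j ≠ i} < n := by
      have : Fintype.card {j : Fin n // j ≠ i} = Fintype.card (Fin n) - Fintype.card {j : Fin n // j = i} :=
        Fintype.card_subtype_compl _
      rw [this, Fintype.card_fin, Fintype.card_subtype_eq]
      have := i.pos
      omega
    refine hmin _ hcard ⟨s' ∘ e.symm, ?_⟩
    rw [Set.range_comp, e.symm.range_eq_univ, Set.image_univ, hs']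
  refine ⟨Fin n → R, inferInstance, inferInstance, f, inferInstance, hfsurj, ?_⟩
  intro N hN
  rw [eq_top_iff]
  apply Submodule.le_of_le_smul_of_le_jacobson_bot (I := IsLocalRing.maximalIdeal R)
    (Module.Finite.fg_top) (IsLocalRing.maximalIdeal_le_jacobson ⊥)
  intro y _
  have hy : f y ∈ Submodule.map f N := by rw [hN]; trivial
  obtain ⟨z, hzN, hz⟩ := hy
  have hyz : f (y - z) = 0 := by rw [map_sub, hz, sub_self]
  have hmem := hker _ hyz
  have : y = z + (y - z) := by abel
  rw [this]
  refine Submodule.add_mem_sup hzN ?_
  rw [pi_eq_sum_univ (y - z)]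
  refine Submodule.sum_mem _ fun j _ => ?_
  exact Submodule.smul_mem_smul (hmem j) Submodule.mem_top

end Groth.Agent.S1729
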