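import Groth.Statements.S17321
import Mathlib
import Groth.Agent.Lib.helper26.FinAlg

set_option autoImplicit false
universe u v
open CAlg

namespace Groth.Agent.S17321



/-- Let k be an algebraically closed field and A a commutative k-algebra which is finite-dimensional as
a k-vector space (the coordinate ring of a finite k-scheme). Then the space Der(A) of k-derivations
A → A is zero if and only if A is reduced. -/
theorem result (k : Type u) [Field k] [IsAlgClosed k]
    (A : Type v) [CommRing A] [Algebra k A] [Module.Finite k A] :
    Subsingleton (Derivation k A A) ↔ IsReduced A := by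
  classical
  haveI : IsArtinianRing A := IsArtinianRing.of_finite k A
  constructor
  · -- no derivations ⇒ reduced
    intro hsub
    by_contra hnr
    -- some maximal ideal with m^2 ≠ m
    have hex : ∃ m : Ideal A, m.IsMaximal ∧ m ^ 2 ≠ m := by
      by_contra hall
      push Not at hall
      apply hnr
      refine ⟨fun x hx => ?_⟩
      by_contra hx0
      have hann : (Ideal.span {x}).annihilator ≠ ⊤ := by
        intro h
        apply hx0
        have h1 : (1 : A) ∈ (Ideal.span {x}).annihilator := by rw [h]; trivial
        rw [Submodule.mem_annihilator] at h1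
        have := h1 x (Ideal.mem_span_singleton_self x)
        simpa using this
      obtain ⟨m, hm, hle⟩ := Ideal.exists_le_maximal _ hann
      have hidem : IsIdempotentElem m := by
        unfold IsIdempotentElem
        rw [← pow_two]
        exact hall m hm
      obtain ⟨ε, hε, hmε⟩ := (Ideal.isIdempotentElem_iff_of_fg m
        ((isNoetherianRing_iff_ideal_fg A).mp inferInstance m)).mp hidem
      have hxm : x ∈ m := by
        have hxn : x ∈ nilradical A := mem_nilradical.mpr hx
        rw [nilradical_eq_sInf, Ideal.mem_sInf] at hxn
        exact hxn hm.isPrime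
      rw [hmε, Ideal.mem_span_singleton'] at hxm
      obtain ⟨y, hy⟩ := hxm
      have h1 : (1 - ε) ∈ (Ideal.span {x}).annihilator := by
        rw [Submodule.mem_annihilator]
        intro w hw
        rw [Ideal.mem_span_singleton'] at hw
        obtain ⟨t, rfl⟩ := hw
        rw [← hy, smul_eq_mul]
        have : (1 - ε) * (t * (y * ε)) = t * y * (ε - ε * ε) := by ring
        rw [this, hε.eq, sub_self, mul_zero]
      have h2 : (1 - ε) ∈ m := hle h1
      have h3 : ε ∈ m := by rw [hmε]; exact Ideal.mem_span_singleton_self ε
      have h4 : (1 : A) ∈ m := by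
        have := m.add_mem h2 h3
        simpa using this
      exact hm.ne_top ((Ideal.eq_top_iff_one m).mpr h4)
    obtain ⟨m, hm, hm2⟩ := hex
    haveI := hm
    obtain ⟨χ₀, hχ₀⟩ := Groth.Agent.Lib.helper26.FinAlg.exists_algHom_ker_eq k A m
    -- z ≠ 0 with m z = 0
    have hmin : m ∈ (Module.annihilator A A).minimalPrimes := by
      refine ⟨⟨hm.isPrime, ?_⟩, ?_⟩
      · intro a ha
        rw [Module.mem_annihilator] at ha
        have := ha 1
        simp at this
        rw [this]
        exact m.zero_mem
      · rintro q ⟨hq, _⟩ hqm
        haveI := hq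
        have hqmax : q.IsMaximal := IsArtinianRing.isMaximal_of_isPrime q
        exact (hqmax.eq_of_le hm.ne_top hqm).ge
    have hass := Module.associatedPrimes.minimalPrimes_annihilator_subset_associatedPrimes A A hmin
    rw [AssociatedPrimes.mem_iff, isAssociatedPrime_iff] at hass
    obtain ⟨_, z, hz⟩ := hass
    have hmz : ∀ a ∈ m, a * z = 0 := by
      intro a ha
      rw [hz, Submodule.mem_colon_singleton] at ha
      simpa using ha
    have hz0 : z ≠ 0 := by
      intro h
      apply hm.ne_top
      rw [hz, h]
      ext a
      simp [Submodule.mem_colon_singleton]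
    -- x₀ ∈ m \ m^2
    have hlt : m ^ 2 < m := lt_of_le_of_ne (Ideal.pow_le_self (by norm_num)) hm2
    obtain ⟨x₀, hx₀m, hx₀⟩ := Set.exists_of_ssubset hlt
    have hx₀' : x₀ ∉ (m ^ 2).restrictScalars k := hx₀
    obtain ⟨lam, hlam, hlam0⟩ :=
      Submodule.exists_dual_map_eq_bot_of_notMem hx₀' inferInstance
    have hlam2 : ∀ w ∈ m ^ 2, lam w = 0 := by
      intro w hw
      have : lam w ∈ ((m ^ 2).restrictScalars k).map lam := ⟨w, hw, rfl⟩
      rw [hlam0] at this
      exact this
    -- point derivation
    let d : A →ₗ[k] k := lam - (lam 1) • χ₀.toLinearMap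
    have hd : ∀ x, d x = lam (x - algebraMap k A (χ₀ x)) := by
      intro x
      show lam x - lam 1 • χ₀ x = _
      rw [map_sub, Algebra.algebraMap_eq_smul_one, map_smul, smul_eq_mul, smul_eq_mul, mul_comm]
    have hu : ∀ x, x - algebraMap k A (χ₀ x) ∈ m := by
      intro x
      rw [← hχ₀, RingHom.mem_ker, map_sub, AlgHom.commutes]
      simp
    have hdmul : ∀ x y, d (x * y) = χ₀ x * d y + χ₀ y * d x := by
      intro x y
      rw [hd, hd, hd]
      have e : x * y - algebraMap k A (χ₀ (x * y))
          = χ₀ x • (y - algebraMap k A (χ₀ y)) + χ₀ y • (x - algebraMap k A (χ₀ x))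
            + (x - algebraMap k A (χ₀ x)) * (y - algebraMap k A (χ₀ y)) := by
        rw [map_mul, map_mul, Algebra.smul_def, Algebra.smul_def]
        ring
      rw [e, map_add, map_add, map_smul, map_smul, smul_eq_mul, smul_eq_mul]
      have : lam ((x - algebraMap k A (χ₀ x)) * (y - algebraMap k A (χ₀ y))) = 0 := by
        apply hlam2
        rw [pow_two]
        exact Ideal.mul_mem_mul (hu x) (hu y)
      rw [this, add_zero]
    have hxz : ∀ x, x * z = χ₀ x • z := by
      intro x
      have := hmz _ (hu x)
      rw [sub_mul, sub_eq_zero] at this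
      rw [this, Algebra.smul_def]
    let D : Derivation k A A := Derivation.mk' (d.smulRight z) (by
      intro x y
      simp only [LinearMap.smulRight_apply, smul_eq_mul]
      rw [hdmul, mul_smul_comm, mul_smul_comm, hxz, hxz, smul_smul, smul_smul, add_smul]
      rw [mul_comm (d y), mul_comm (d x)])
    have hD : D x₀ ≠ 0 := by
      show d x₀ • z ≠ 0
      have h1 : χ₀ x₀ = 0 := by
        have h0 : x₀ ∈ RingHom.ker χ₀ := by rw [hχ₀]; exact hx₀m
        exact h0
      have h2 : d x₀ = lam x₀ := by
        rw [hd, h1, map_zero, sub_zero]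
      rw [h2]
      exact smul_ne_zero hlam hz0
    apply hD
    rw [Subsingleton.elim D 0]
    rfl
  · -- reduced ⇒ no derivations
    intro hred
    have hfinE := Groth.Agent.Lib.helper26.FinAlg.finite_algHom k A
    cases nonempty_fintype (A →ₐ[k] k)
    obtain ⟨σ, hσ⟩ := Groth.Agent.Lib.helper26.FinAlg.exists_section k A
    have hσ' : ∀ c, Groth.Agent.Lib.helper26.FinAlg.ev k A (σ c) = c := fun c =>
      congrFun (congrArg DFunLike.coe hσ) c
    have hidemD : ∀ (D : Derivation k A A) (e : A), IsIdempotentElem e → D e = 0 := by
      intro D e he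
      have h1 : D e = e • D e + e • D e := by
        conv_lhs => rw [← he.eq]
        rw [D.leibniz]
      have h2 : e • D e = 0 := by
        have := congrArg (fun t => e • t) h1
        simp only [smul_add, smul_smul, he.eq] at this
        have h3 : e • D e + 0 = e • D e + e • D e := by rw [add_zero]; exact this
        exact (add_left_cancel h3).symm
      rw [h1, h2, add_zero]
    refine ⟨fun D D' => ?_⟩
    have key : ∀ D : Derivation k A A, D = 0 := by
      intro D
      ext a
      have ha : a = σ (Groth.Agent.Lib.helper26.FinAlg.ev k A a) := by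
        have : σ (Groth.Agent.Lib.helper26.FinAlg.ev k A a) - a ∈ nilradical A := by
          rw [← Groth.Agent.Lib.helper26.FinAlg.ker_ev k A, RingHom.mem_ker, map_sub, hσ', sub_self]
        rw [nilradical_eq_zero] at this
        exact (sub_eq_zero.mp this).symm
      show D a = 0
      rw [ha]
      generalize Groth.Agent.Lib.helper26.FinAlg.ev k A a = c
      rw [Groth.Agent.Lib.helper26.FinAlg.pi_eq_sum_single k A c]
      simp only [map_sum, map_smul]
      apply Finset.sum_eq_zero
      intro χ _
      have hidem : IsIdempotentElem (Pi.single χ (1 : k) : (A →ₐ[k] k) → k) := by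
        unfold IsIdempotentElem
        rw [← Pi.single_mul, mul_one]
      rw [D.map_smul, hidemD D _ (hidem.map σ), smul_zero]
    rw [key D, key D']

end Groth.Agent.S17321
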