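import Groth.Statements.S17322
import Groth.Agent.Lib.helper29.GaloisMap
import Groth.Agent.Lib.helper29.CharpolyBC
import Mathlib.RingTheory.Adjoin.Tower
import Mathlib.RingTheory.IntegralClosure.IsIntegralClosure.Basic
import Mathlib.Algebra.Polynomial.Lifts
import Mathlib.RingTheory.FiniteType

set_option autoImplicit false
universe u v w
open Hopf

namespace Groth.Agent.S17322

open TensorProduct
open Groth.Agent.Lib.helper29

section
variable {k : Type u} [Field k] {A : Type v} [CommRing A] [HopfAlgebra k A]
  {R : Type w} [CommRing R] [Algebra k R] [HopfRep.Comod k A R] [GLin.IsCoactAlg k A R]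

/-- coassociativity in algebra form -/
theorem coassoc_alg (r : R) :
    Algebra.TensorProduct.map (GLin.coactAlgHom k A R) (AlgHom.id k A) (GLin.coactAlgHom k A R r) =
      (Algebra.TensorProduct.assoc k k k R A A).symm
        (Algebra.TensorProduct.map (AlgHom.id k R) (Bialgebra.comulAlgHom k A)
          (GLin.coactAlgHom k A R r)) := by
  have hco := LinearMap.congr_fun (HopfRep.Comod.coassoc (k := k) (A := A) (V := R)) r
  simp only [LinearMap.comp_apply, LinearEquiv.coe_coe] at hco
  have h1 : ∀ t : R ⊗[k] A, Algebra.TensorProduct.map (GLin.coactAlgHom k A R) (AlgHom.id k A) t =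
      (HopfRep.Comod.coact (k := k) (A := A) (V := R)).rTensor A t := by
    intro t
    induction t using TensorProduct.induction_on with
    | zero => simp
    | tmul x a => simp
    | add x y hx hy => simp only [map_add, hx, hy]
  have h2 : ∀ t : R ⊗[k] A, Algebra.TensorProduct.map (AlgHom.id k R) (Bialgebra.comulAlgHom k A) t =
      (CoalgebraStruct.comul (R := k) (A := A)).lTensor R t := by
    intro t
    induction t using TensorProduct.induction_on with
    | zero => simp
    | tmul x a => simp
    | add x y hx hy => simp only [map_add, hx, hy]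
  have h3 : ∀ t : (R ⊗[k] A) ⊗[k] A, (Algebra.TensorProduct.assoc k k k R A A) t =
      TensorProduct.assoc k R A A t := by
    intro t
    induction t using TensorProduct.induction_on with
    | zero => simp
    | tmul x a =>
      induction x using TensorProduct.induction_on with
      | zero => simp
      | tmul x c => simp
      | add x y hx hy => simp only [TensorProduct.add_tmul, map_add, hx, hy]
    | add x y hx hy => simp only [map_add, hx, hy]
  rw [AlgEquiv.eq_symm_apply, h1, h2, h3]
  exact hco

/-- the counit retraction `R ⊗ A → R` as an `R`-algebra map -/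
noncomputable def epsR : R ⊗[k] A →ₐ[R] R :=
  (Algebra.TensorProduct.rid k R R).toAlgHom.comp
    (Algebra.TensorProduct.map (AlgHom.id R R) (Bialgebra.counitAlgHom k A))

theorem epsR_coact (r : R) : epsR (k := k) (A := A) (GLin.coactAlgHom k A R r) = r := by
  have hcu := LinearMap.congr_fun (HopfRep.Comod.counit_comp (k := k) (A := A) (V := R)) r
  simp only [LinearMap.comp_apply, LinearMap.flip_apply, TensorProduct.mk_apply] at hcu
  have h1 : ∀ t : R ⊗[k] A, epsR (k := k) (A := A) t =
      TensorProduct.rid k R ((CoalgebraStruct.counit (R := k) (A := A)).lTensor R t) := by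
    intro t
    induction t using TensorProduct.induction_on with
    | zero => simp
    | tmul x a => simp [epsR]
    | add x y hx hy => simp only [map_add, hx, hy]
  rw [h1, GLin.coactAlgHom_apply, hcu]
  simp

/-- the key identity for the translation automorphism -/
theorem Psi_incl (y : R ⊗[k] A) :
    GaloisMap.Psi (S := R ⊗[k] A) (Algebra.TensorProduct.includeRight : A →ₐ[k] R ⊗[k] A)
      (Algebra.TensorProduct.map (Algebra.TensorProduct.includeLeft : R →ₐ[k] R ⊗[k] A)
        (AlgHom.id k A) y) =
      (Algebra.TensorProduct.assoc k k k R A A).symm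
        (Algebra.TensorProduct.map (AlgHom.id k R) (Bialgebra.comulAlgHom k A) y) := by
  induction y using TensorProduct.induction_on with
  | zero => simp
  | tmul r a =>
    rw [Algebra.TensorProduct.map_tmul, Algebra.TensorProduct.map_tmul, GaloisMap.Psi_apply,
      GaloisMap.E_tmul, GaloisMap.g_apply]
    simp only [AlgHom.coe_id, id_eq, Bialgebra.comulAlgHom_apply,
      Algebra.TensorProduct.includeLeft_apply]
    generalize CoalgebraStruct.comul (R := k) a = t
    induction t using TensorProduct.induction_on with
    | zero => simp
    | tmul u v => simp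
    | add x y hx hy => simp only [map_add, mul_add, TensorProduct.tmul_add, hx, hy]
  | add x y hx hy => simp only [map_add, hx, hy]

end

theorem aux (k : Type u) [Field k]
    (A : Type v) [CommRing A] [HopfAlgebra k A] [Module.Finite k A]
    (R : Type w) [CommRing R] [Algebra k R] [Algebra.FiniteType k R]
    [HopfRep.Comod k A R] [GLin.IsCoactAlg k A R] :
    Algebra.FiniteType k ↥(GLin.invariants k A R) ∧ Module.Finite ↥(GLin.invariants k A R) R := by
  classical
  let b := Module.finBasis k A
  -- integrality
  have hint : ∀ r : R, IsIntegral ↥(GLin.invariants k A R) r := by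
    intro r
    by_cases hnt : Nontrivial R
    swap
    · rw [not_nontrivial_iff_subsingleton] at hnt
      rw [Subsingleton.elim r 0]
      exact isIntegral_zero
    let ρ := GLin.coactAlgHom k A R
    let P : Polynomial R := (CharpolyBC.Mat b R (ρ r)).charpoly
    have hmonic : P.Monic := Matrix.charpoly_monic _
    have hroot : Polynomial.aeval r P = 0 := by
      have h1 := CharpolyBC.aeval_charpoly b (ρ r)
      have h2 := congrArg (epsR (k := k) (A := A)) h1
      rw [← Polynomial.aeval_algHom_apply, map_zero, epsR_coact] at h2
      exact h2
    have hmapρ : P.map (ρ : R →+* R ⊗[k] A) =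
        (CharpolyBC.Mat b (R ⊗[k] A)
          (Algebra.TensorProduct.map ρ (AlgHom.id k A) (ρ r))).charpoly := by
      rw [← CharpolyBC.Mat_map, ← Matrix.charpoly_map]
      rfl
    have hmapι : P.map ((Algebra.TensorProduct.includeLeft : R →ₐ[k] R ⊗[k] A) : R →+* R ⊗[k] A) =
        (CharpolyBC.Mat b (R ⊗[k] A)
          (Algebra.TensorProduct.map (Algebra.TensorProduct.includeLeft : R →ₐ[k] R ⊗[k] A)
            (AlgHom.id k A) (ρ r))).charpoly := by
      rw [← CharpolyBC.Mat_map, ← Matrix.charpoly_map]
      rfl
    have heq : P.map (ρ : R →+* R ⊗[k] A) =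
        P.map ((Algebra.TensorProduct.includeLeft : R →ₐ[k] R ⊗[k] A) : R →+* R ⊗[k] A) := by
      rw [hmapρ, hmapι, coassoc_alg, ← Psi_incl, CharpolyBC.charpoly_algEquiv]
    have hcoeff : ∀ i, P.coeff i ∈ GLin.invariants k A R := by
      intro i
      rw [GLin.mem_invariants_iff]
      have := congrArg (fun p => Polynomial.coeff p i) heq
      simp only [Polynomial.coeff_map] at this
      exact this
    have hlifts : P ∈ Polynomial.lifts (algebraMap ↥(GLin.invariants k A R) R) := by
      rw [Polynomial.lifts_iff_coeff_lifts]
      intro i
      exact ⟨⟨P.coeff i, hcoeff i⟩, rfl⟩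
    obtain ⟨Q, hQ, -, hQm⟩ := Polynomial.lifts_and_degree_eq_and_monic hlifts hmonic
    refine ⟨Q, hQm, ?_⟩
    rw [← Polynomial.eval_map, hQ]
    have : Polynomial.aeval r P = Polynomial.eval r P := Polynomial.coe_aeval_eq_eval r ▸ rfl
    rw [← this]
    exact hroot
  haveI : Algebra.IsIntegral ↥(GLin.invariants k A R) R := ⟨hint⟩
  haveI : Algebra.FiniteType ↥(GLin.invariants k A R) R :=
    Algebra.FiniteType.of_restrictScalars_finiteType k ↥(GLin.invariants k A R) R
  haveI hfin : Module.Finite ↥(GLin.invariants k A R) R := Algebra.IsIntegral.finite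
  refine ⟨?_, hfin⟩
  constructor
  exact fg_of_fg_of_fg k ↥(GLin.invariants k A R) R (Algebra.FiniteType.out) hfin.1
    Subtype.val_injective

/-- Let k be an algebraically closed field, A a commutative Hopf algebra over k which is
finite-dimensional as a k-vector space (a finite group scheme G = Spec A over k), and R a finitely
generated commutative k-algebra with an A-comodule structure whose coaction R → R ⊗ A is a k-algebra
homomorphism (an action of G on the affine scheme Spec R). Then the subalgebra R^G of invariants
(elements whose coaction is r ⊗ 1) is finitely generated as a k-algebra, and R is finitely generated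
as a module over R^G. -/
theorem result (k : Type u) [Field k] [IsAlgClosed k]
    (A : Type v) [CommRing A] [HopfAlgebra k A] [Module.Finite k A]
    (R : Type w) [CommRing R] [Algebra k R] [Algebra.FiniteType k R]
    [HopfRep.Comod k A R] [GLin.IsCoactAlg k A R] :
    Algebra.FiniteType k ↥(GLin.invariants k A R) ∧ Module.Finite ↥(GLin.invariants k A R) R := by
  exact aux k A R

end Groth.Agent.S17322
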