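import Groth.Statements.S17323
import Mathlib
import Groth.Agent.Lib.helper26.FinAlg

set_option autoImplicit false
universe u v
open CAlg

namespace Groth.Agent.S17323



/-- Let k be an algebraically closed field and A a commutative k-algebra which is finite-dimensional as
a k-vector space. Then A has a largest reduced subalgebra: a k-subalgebra B which is reduced and
contains every reduced k-subalgebra of A; moreover the composite of the inclusion B → A with the
projection A → A/nilradical(A) is bijective. -/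
theorem result (k : Type u) [Field k] [IsAlgClosed k]
    (A : Type v) [CommRing A] [Algebra k A] [Module.Finite k A] :
    ∃ B : Subalgebra k A, IsReduced ↥B ∧ (∀ C : Subalgebra k A, IsReduced ↥C → C ≤ B) ∧
      Function.Bijective ((Ideal.Quotient.mkₐ k (nilradical A)).comp B.val) := by
  classical
  have hfinE := Groth.Agent.Lib.helper26.FinAlg.finite_algHom k A
  cases nonempty_fintype (A →ₐ[k] k)
  obtain ⟨σ, hσ⟩ := Groth.Agent.Lib.helper26.FinAlg.exists_section k A
  have hσ' : ∀ c, Groth.Agent.Lib.helper26.FinAlg.ev k A (σ c) = c := fun c =>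
    congrFun (congrArg DFunLike.coe hσ) c
  have hmk : ∀ a : A, Ideal.Quotient.mk (nilradical A) (σ (Groth.Agent.Lib.helper26.FinAlg.ev k A a))
      = Ideal.Quotient.mk (nilradical A) a := by
    intro a
    rw [Ideal.Quotient.eq, ← Groth.Agent.Lib.helper26.FinAlg.ker_ev k A, RingHom.mem_ker, map_sub,
      hσ', sub_self]
  refine ⟨σ.range, ?_, ?_, ?_⟩
  · refine ⟨fun x hx => ?_⟩
    obtain ⟨x, ⟨c, rfl⟩⟩ := x
    obtain ⟨n, hn⟩ := hx
    have h1 : (σ c) ^ n = 0 := by
      have := congrArg Subtype.val hn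
      simpa using this
    have h2 : c ^ n = 0 := by
      have := congrArg (Groth.Agent.Lib.helper26.FinAlg.ev k A) h1
      rw [map_pow, hσ', map_zero] at this
      exact this
    have h3 : c = 0 := by
      funext χ
      have := congrFun h2 χ
      simp only [Pi.pow_apply, Pi.zero_apply] at this
      exact eq_zero_of_pow_eq_zero this
    apply Subtype.ext
    simp [h3]
  · intro C hC
    haveI : Module.Finite k ↥C := Module.Finite.of_injective C.val.toLinearMap Subtype.val_injective
    have hfinEC := Groth.Agent.Lib.helper26.FinAlg.finite_algHom k ↥C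
    cases nonempty_fintype (↥C →ₐ[k] k)
    obtain ⟨τ, hτ⟩ := Groth.Agent.Lib.helper26.FinAlg.exists_section k ↥C
    have hτ' : ∀ c, Groth.Agent.Lib.helper26.FinAlg.ev k ↥C (τ c) = c := fun c =>
      congrFun (congrArg DFunLike.coe hτ) c
    intro x hx
    -- x = τ (ev x) in C
    have hxτ : τ (Groth.Agent.Lib.helper26.FinAlg.ev k ↥C ⟨x, hx⟩) = ⟨x, hx⟩ := by
      have : τ (Groth.Agent.Lib.helper26.FinAlg.ev k ↥C ⟨x, hx⟩) - ⟨x, hx⟩ ∈ nilradical ↥C := by
        rw [← Groth.Agent.Lib.helper26.FinAlg.ker_ev k ↥C, RingHom.mem_ker, map_sub, hτ', sub_self]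
      rw [nilradical_eq_zero] at this
      exact sub_eq_zero.mp this
    have hx2 : x = C.val (τ (Groth.Agent.Lib.helper26.FinAlg.ev k ↥C ⟨x, hx⟩)) := by
      rw [hxτ]; rfl
    rw [hx2]
    set c := Groth.Agent.Lib.helper26.FinAlg.ev k ↥C ⟨x, hx⟩ with hc
    rw [Groth.Agent.Lib.helper26.FinAlg.pi_eq_sum_single k ↥C c]
    simp only [map_sum, map_smul]
    apply Subalgebra.sum_mem
    intro χ _
    apply Subalgebra.smul_mem
    have hidem : IsIdempotentElem (Pi.single χ (1 : k) : (↥C →ₐ[k] k) → k) := by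
      unfold IsIdempotentElem
      rw [← Pi.single_mul, mul_one]
    have hidem2 : IsIdempotentElem (C.val (τ (Pi.single χ (1 : k)))) := (hidem.map τ).map C.val
    rw [← Groth.Agent.Lib.helper26.FinAlg.idem_mem_range k A σ hσ hidem2]
    exact ⟨_, rfl⟩
  · constructor
    · rw [injective_iff_map_eq_zero]
      rintro ⟨x, ⟨c, rfl⟩⟩ hx
      have h1 : Ideal.Quotient.mk (nilradical A) (σ c) = 0 := hx
      rw [Ideal.Quotient.eq_zero_iff_mem, ← Groth.Agent.Lib.helper26.FinAlg.ker_ev k A,
        RingHom.mem_ker, hσ'] at h1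
      apply Subtype.ext
      simp [h1]
    · intro x
      obtain ⟨a, rfl⟩ := Ideal.Quotient.mk_surjective x
      refine ⟨⟨σ (Groth.Agent.Lib.helper26.FinAlg.ev k A a), ⟨_, rfl⟩⟩, ?_⟩
      exact hmk a

end Groth.Agent.S17323
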