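import Groth.Statements.S17324
import Mathlib
import Groth.Agent.Lib.helper26.FinAlg

set_option autoImplicit false
universe u v
open CAlg

namespace Groth.Agent.S17324



/-- (i) ⟺ (ii): let k be an algebraically closed field, A a commutative k-algebra which is
finite-dimensional as a k-vector space and is a local ring with maximal ideal m, and a_1, …, a_m ∈
m. Then A is generated as a k-algebra by a_1, …, a_m if and only if m is generated as an ideal by
a_1, …, a_m. (The printed lemma has a third equivalent condition, that the images of the a_i span
m/m²; its equivalence with (ii) is Nakayama's lemma.) -/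
theorem result (k : Type u) [Field k] [IsAlgClosed k]
    (A : Type v) [CommRing A] [Algebra k A] [Module.Finite k A] [IsLocalRing A]
    (m : ℕ) (a : Fin m → A) (ha : ∀ i, a i ∈ IsLocalRing.maximalIdeal A) :
    Algebra.adjoin k (Set.range a) = ⊤ ↔ Ideal.span (Set.range a) = IsLocalRing.maximalIdeal A := by
  classical
  haveI : IsArtinianRing A := IsArtinianRing.of_finite k A
  obtain ⟨χ₀, hχ₀⟩ := Groth.Agent.Lib.helper26.FinAlg.exists_algHom_ker_eq k A (IsLocalRing.maximalIdeal A)
  have hχa : ∀ i, χ₀ (a i) = 0 := by
    intro i
    have := ha i
    rw [← hχ₀, RingHom.mem_ker] at this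
    exact this
  have hJm : Ideal.span (Set.range a) ≤ IsLocalRing.maximalIdeal A := by
    rw [Ideal.span_le]
    rintro _ ⟨i, rfl⟩
    exact ha i
  constructor
  · intro htop
    apply le_antisymm hJm
    intro x hx
    have key : ∀ y ∈ Algebra.adjoin k (Set.range a),
        y - algebraMap k A (χ₀ y) ∈ Ideal.span (Set.range a) := by
      intro y hy
      induction hy using Algebra.adjoin_induction with
      | mem y hy =>
        obtain ⟨i, rfl⟩ := hy
        rw [hχa, map_zero, sub_zero]
        exact Ideal.subset_span ⟨i, rfl⟩
      | algebraMap r =>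
        rw [AlgHom.commutes]
        simp
      | add y y' _ _ h1 h2 =>
        rw [map_add, map_add]
        have : y + y' - (algebraMap k A (χ₀ y) + algebraMap k A (χ₀ y'))
            = (y - algebraMap k A (χ₀ y)) + (y' - algebraMap k A (χ₀ y')) := by ring
        rw [this]
        exact Ideal.add_mem _ h1 h2
      | mul y y' _ _ h1 h2 =>
        rw [map_mul, map_mul]
        have : y * y' - algebraMap k A (χ₀ y) * algebraMap k A (χ₀ y')
            = (y - algebraMap k A (χ₀ y)) * y' + algebraMap k A (χ₀ y) * (y' - algebraMap k A (χ₀ y')) := by
          ring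
        rw [this]
        exact Ideal.add_mem _ (Ideal.mul_mem_right _ _ h1) (Ideal.mul_mem_left _ _ h2)
    have h1 := key x (by rw [htop]; exact Algebra.mem_top)
    have h2 : χ₀ x = 0 := by
      rw [← hχ₀, RingHom.mem_ker] at hx
      exact hx
    rw [h2, map_zero, sub_zero] at h1
    exact h1
  · intro hJ
    rw [eq_top_iff]
    have hnil : IsNilpotent (IsLocalRing.maximalIdeal A) := by
      have := IsArtinianRing.isNilpotent_jacobson_bot (R := A)
      rwa [IsLocalRing.jacobson_eq_maximalIdeal ⊥ bot_ne_top] at this
    obtain ⟨N, hN⟩ := hnil
    have claim : ∀ j : ℕ, ∀ x : A, ∃ b ∈ Algebra.adjoin k (Set.range a),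
        x - b ∈ IsLocalRing.maximalIdeal A ^ j := by
      intro j
      induction j with
      | zero =>
        intro x
        exact ⟨0, Subalgebra.zero_mem _, by simp⟩
      | succ j ih =>
        intro x
        have hy : x - algebraMap k A (χ₀ x) ∈ Ideal.span (Set.range a) := by
          rw [hJ, ← hχ₀, RingHom.mem_ker, map_sub, AlgHom.commutes]
          simp
        rw [Ideal.mem_span_range_iff_exists_fun] at hy
        obtain ⟨r, hr⟩ := hy
        choose b hbB hb using fun i => ih (r i)
        refine ⟨algebraMap k A (χ₀ x) + ∑ i, b i * a i, ?_, ?_⟩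
        · apply Subalgebra.add_mem
          · exact Subalgebra.algebraMap_mem _ _
          · apply Subalgebra.sum_mem
            intro i _
            exact Subalgebra.mul_mem _ (hbB i) (Algebra.subset_adjoin ⟨i, rfl⟩)
        · have : x - (algebraMap k A (χ₀ x) + ∑ i, b i * a i) = ∑ i, (r i - b i) * a i := by
            have h3 : x - (algebraMap k A (χ₀ x) + ∑ i, b i * a i)
                = (x - algebraMap k A (χ₀ x)) - ∑ i, b i * a i := by ring
            rw [h3, ← hr, ← Finset.sum_sub_distrib]
            apply Finset.sum_congr rfl
            intro i _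
            ring
          rw [this]
          apply Ideal.sum_mem
          intro i _
          rw [pow_succ]
          exact Ideal.mul_mem_mul (hb i) (ha i)
    intro x _
    obtain ⟨b, hbB, hb⟩ := claim N x
    rw [hN] at hb
    have : x = b := sub_eq_zero.mp hb
    rw [this]
    exact hbB

end Groth.Agent.S17324
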