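import Groth.Statements.S17325
import Mathlib

set_option autoImplicit false
set_option linter.style.haveILetI false
universe u v
open LieAlg

namespace Groth.Agent.S17325

/-- a non-nilpotent endomorphism of a finite-dimensional space over an algebraically closed field
has a nonzero eigenvalue. -/
lemma exists_nonzero_eigen (k : Type*) [Field k] [IsAlgClosed k] (V : Type*) [AddCommGroup V]
    [Module k V] [FiniteDimensional k V] (u : Module.End k V) (hu : ¬ IsNilpotent u) :
    ∃ c : k, c ≠ 0 ∧ ∃ v : V, v ≠ 0 ∧ u v = c • v := by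
  by_contra hcon
  push_neg at hcon
  apply hu
  rw [LinearMap.isNilpotent_iff_charpoly]
  have hs : u.charpoly.Splits := IsAlgClosed.splits _
  have hm : u.charpoly.Monic := LinearMap.charpoly_monic u
  have hroots : ∀ c ∈ u.charpoly.roots, c = 0 := by
    intro c hc
    by_contra hc0
    have hroot : u.charpoly.IsRoot c := (Polynomial.mem_roots hm.ne_zero).1 hc
    have hev : Module.End.HasEigenvalue u c :=
      (Module.End.hasEigenvalue_iff_isRoot_charpoly u c).2 hroot
    obtain ⟨v, hv⟩ := hev.exists_hasEigenvector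
    exact hcon c hc0 v hv.2 hv.apply_eq_smul
  have hrep : u.charpoly.roots = Multiset.replicate (Multiset.card u.charpoly.roots) 0 :=
    Multiset.eq_replicate_card.2 hroots
  conv_lhs => rw [hs.eq_prod_roots_of_monic hm, hrep]
  simp [← hs.natDegree_eq_card_roots, LinearMap.charpoly_natDegree]


/-- Let k be an algebraically closed field of characteristic p > 0, V a finite-dimensional k-vector
space and g a nonzero k-linear subspace of End_k(V) closed under the p-th power map u ↦ u^p. Then g
contains a nonzero u with u^p = c u for some c ∈ k, i.e. a line k u closed under p-th powers. (The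
published lemma concerns an abstract nonzero finite-dimensional restricted Lie algebra; this row
concerns subspaces of End_k(V) closed under p-th powers, a class that contains every restricted Lie
subalgebra of gl(V).) -/
theorem result (k : Type u) [Field k] [IsAlgClosed k]
    (p : ℕ) [Fact p.Prime] [CharP k p] (V : Type v) [AddCommGroup V] [Module k V] [FiniteDimensional k V]
    (g : Submodule k (Module.End k V)) (hg : ∀ u ∈ g, u ^ p ∈ g) (hne : g ≠ ⊥) :
    ∃ u ∈ g, u ≠ 0 ∧ ∃ c : k, u ^ p = c • u := by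
  classical
  have hp : p.Prime := Fact.out
  by_cases hnil : ∃ n ∈ g, n ≠ 0 ∧ IsNilpotent n
  · obtain ⟨n, hng, hn0, ⟨m, hm⟩⟩ := hnil
    have hw : ∀ i, n ^ p ^ i ∈ g := by
      intro i
      induction i with
      | zero => simpa using hng
      | succ i ih => rw [pow_succ, pow_mul]; exact hg _ ih
    have hex : ∃ j, n ^ p ^ j = 0 :=
      ⟨m, by rw [← Nat.sub_add_cancel (Nat.lt_pow_self hp.one_lt).le, pow_add, hm, mul_zero]⟩
    have hj : n ^ p ^ (Nat.find hex) = 0 := Nat.find_spec hex
    have hj0 : Nat.find hex ≠ 0 := by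
      intro h0
      rw [h0] at hj
      simp at hj
      exact hn0 hj
    obtain ⟨j', hj'⟩ := Nat.exists_eq_succ_of_ne_zero hj0
    refine ⟨n ^ p ^ j', hw j', ?_, 0, ?_⟩
    · exact fun h => Nat.find_min hex (by omega : j' < Nat.find hex) h
    · rw [zero_smul, ← pow_mul, ← pow_succ, ← Nat.succ_eq_add_one, ← hj', hj]
  · push_neg at hnil
    obtain ⟨u₀, hu₀g, hu₀⟩ := Submodule.exists_mem_ne_zero_of_ne_bot hne
    let S : Set ℕ := {d | ∃ u ∈ g, u ≠ 0 ∧ Module.finrank k (LinearMap.ker u) = d}
    have hSne : S.Nonempty := ⟨_, u₀, hu₀g, hu₀, rfl⟩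
    have hSbdd : BddAbove S := ⟨Module.finrank k V, by
      rintro d ⟨u, -, -, rfl⟩
      exact Submodule.finrank_le _⟩
    obtain ⟨u, hug, hu0, hmax⟩ : ∃ u ∈ g, u ≠ 0 ∧ ∀ u' ∈ g, u' ≠ 0 →
        Module.finrank k (LinearMap.ker u') ≤ Module.finrank k (LinearMap.ker u) := by
      obtain ⟨u, hug, hu0, hd⟩ := Nat.sSup_mem hSne hSbdd
      exact ⟨u, hug, hu0, fun u' hu'g hu'0 => by
        rw [hd]; exact le_csSup hSbdd ⟨u', hu'g, hu'0, rfl⟩⟩
    obtain ⟨c, hc, v, hv, huv⟩ := exists_nonzero_eigen k V u (hnil u hug hu0)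
    set u' := c⁻¹ • u with hu'
    have hu'g : u' ∈ g := g.smul_mem _ hug
    have hu'0 : u' ≠ 0 := smul_ne_zero (inv_ne_zero hc) hu0
    have hu'v : u' v = v := by
      rw [hu', LinearMap.smul_apply, huv, smul_smul, inv_mul_cancel₀ hc, one_smul]
    have hker : LinearMap.ker u' = LinearMap.ker u := by
      ext x
      rw [LinearMap.mem_ker, LinearMap.mem_ker, hu', LinearMap.smul_apply,
        smul_eq_zero_iff_right (inv_ne_zero hc)]
    have hyg : u' ^ p - u' ∈ g := g.sub_mem (hg _ hu'g) hu'g
    refine ⟨u', hu'g, hu'0, 1, ?_⟩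
    rw [one_smul]
    by_contra hne'
    have hy0 : u' ^ p - u' ≠ 0 := by rwa [sub_ne_zero]
    have hle : LinearMap.ker u' ≤ LinearMap.ker (u' ^ p - u') := by
      intro x hx
      rw [LinearMap.mem_ker] at hx ⊢
      have : (u' ^ p) x = 0 := by
        obtain ⟨q, hq⟩ : ∃ q, p = q + 1 := ⟨p - 1, (Nat.succ_pred_eq_of_pos hp.pos).symm⟩
        rw [hq, pow_succ, Module.End.mul_apply, hx, map_zero]
      rw [LinearMap.sub_apply, this, hx, sub_zero]
    have hvy : v ∈ LinearMap.ker (u' ^ p - u') := by
      rw [LinearMap.mem_ker, LinearMap.sub_apply, Module.End.pow_apply,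
        Function.iterate_fixed hu'v, hu'v, sub_self]
    have hvu : v ∉ LinearMap.ker u' := by
      rw [LinearMap.mem_ker, hu'v]; exact hv
    have hlt : LinearMap.ker u' < LinearMap.ker (u' ^ p - u') :=
      lt_of_le_of_ne hle (fun h => hvu (h ▸ hvy))
    have h1 := Submodule.finrank_lt_finrank_of_lt hlt
    have h2 := hmax _ hyg hy0
    rw [hker] at h1
    omega

end Groth.Agent.S17325
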