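import Groth.Statements.S17326
import Mathlib
import Groth.Agent.Lib.helper26.FinAlg

set_option autoImplicit false
universe u v
open CAlg

namespace Groth.Agent.S17326



/-- Let k be an algebraically closed field of characteristic p > 0, A a commutative k-algebra which is
finite-dimensional as a k-vector space (a finite k-scheme X), and n ≥ 1. The n-th iterated relative
Frobenius morphism X → X^(p^n) is an isomorphism if and only if X is reduced; on rings: the map a ↦
a^(p^n) of A to itself (which is the ring homomorphism underlying the relative Frobenius, the twist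
A^(p^n) having the same underlying ring as A) is bijective if and only if A is reduced. -/
theorem result (k : Type u) [Field k] [IsAlgClosed k]
    (p : ℕ) [Fact p.Prime] [CharP k p] (A : Type v) [CommRing A] [Algebra k A] [Module.Finite k A]
    (n : ℕ) (hn : 1 ≤ n) :
    Function.Bijective (fun a : A => a ^ p ^ n) ↔ IsReduced A := by
  have hp : p.Prime := Fact.out
  have hq : 0 < p ^ n := pow_pos hp.pos n
  constructor
  · intro hbij
    have hinj : Function.Injective (fun a : A => a ^ p ^ n) := hbij.1
    -- iterates
    have hiter : ∀ j : ℕ, Function.Injective (fun a : A => a ^ (p ^ n) ^ j) := by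
      intro j
      induction j with
      | zero => intro a b h; simpa using h
      | succ j ih =>
        intro a b h
        apply hinj
        apply ih
        show (a ^ p ^ n) ^ (p ^ n) ^ j = (b ^ p ^ n) ^ (p ^ n) ^ j
        have e : ∀ x : A, (x ^ p ^ n) ^ (p ^ n) ^ j = x ^ (p ^ n) ^ (j + 1) := by
          intro x
          rw [← pow_mul, ← pow_succ']
        rw [e, e]
        exact h
    refine ⟨fun a ha => ?_⟩
    obtain ⟨N, hN⟩ := ha
    have h2 : 2 ≤ p ^ n := by
      calc 2 ≤ p := hp.two_le
        _ = p ^ 1 := (pow_one p).symm
        _ ≤ p ^ n := Nat.pow_le_pow_right hp.pos hn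
    have hlt : N < (p ^ n) ^ N := Nat.lt_pow_self h2
    apply hiter N
    simp only
    rw [zero_pow (by positivity)]
    exact pow_eq_zero_of_le hlt.le hN
  · intro hred
    have hker : ∀ a b : A, (∀ f : A →ₐ[k] k, f a = f b) → a = b := by
      intro a b h
      have : a - b ∈ nilradical A := by
        rw [Groth.Agent.Lib.helper26.FinAlg.mem_nilradical_iff k A]
        intro f
        rw [map_sub, h f, sub_self]
      rw [nilradical_eq_zero] at this
      exact sub_eq_zero.mp this
    constructor
    · intro a b hab
      apply hker
      intro f
      have h1 : (f a) ^ p ^ n = (f b) ^ p ^ n := by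
        rw [← map_pow, ← map_pow]
        exact congrArg f hab
      have h2 : (f a - f b) ^ p ^ n = 0 := by
        rw [sub_pow_char_pow, h1, sub_self]
      exact sub_eq_zero.mp ((pow_eq_zero_iff (hq.ne')).mp h2)
    · intro b
      have hc : ∀ f : A →ₐ[k] k, ∃ c : k, c ^ p ^ n = f b := fun f =>
        IsAlgClosed.exists_pow_nat_eq (f b) hq
      choose c hc using hc
      obtain ⟨a, ha⟩ := Groth.Agent.Lib.helper26.FinAlg.ev_surjective k A c
      refine ⟨a, ?_⟩
      apply hker
      intro f
      rw [map_pow]
      have : f a = c f := congrFun ha f
      rw [this, hc f]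

end Groth.Agent.S17326
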