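import Groth.Statements.S17327
import Groth.Agent.Lib.helper12.Translate

set_option autoImplicit false
set_option linter.style.haveILetI false
universe u v
open Hopf

namespace Groth.Agent.S17327

/-- Let k be an algebraically closed field of characteristic p > 0, A a commutative Hopf algebra over k
which is finite-dimensional as a k-vector space (a finite group scheme G = Spec A), I the
augmentation ideal (kernel of the counit) and n ≥ 1. The n-th Frobenius kernel G_n is the closed
subgroup scheme cut out by the ideal generated by the p^n-th powers f^(p^n), f ∈ I; it is trivial,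
i.e. that ideal equals I, if and only if G is reduced. -/
theorem result (k : Type u) [Field k] [IsAlgClosed k]
    (p : ℕ) [Fact p.Prime] [CharP k p] (A : Type v) [CommRing A] [HopfAlgebra k A] [Module.Finite k A]
    (n : ℕ) (hn : 1 ≤ n) :
    Ideal.span ((fun f : A => f ^ p ^ n) '' (RingHom.ker (Bialgebra.counitAlgHom k A) : Set A)) =
      RingHom.ker (Bialgebra.counitAlgHom k A) ↔ IsReduced A := by
  classical
  have hco : RingHom.ker (Bialgebra.counitAlgHom k A) =
      RingHom.ker (Bialgebra.counitAlgHom k A : A →+* k) := rfl
  have hp : p.Prime := Fact.out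
  have hpn : 2 ≤ p ^ n := by
    calc 2 ≤ p := hp.two_le
      _ = p ^ 1 := (pow_one p).symm
      _ ≤ p ^ n := Nat.pow_le_pow_right hp.pos hn
  have hImem : ∀ a : A, a ∈ RingHom.ker (Bialgebra.counitAlgHom k A) ↔
      Bialgebra.counitAlgHom k A a = 0 := fun a => RingHom.mem_ker
  have hJle : Ideal.span ((fun f : A => f ^ p ^ n) '' (RingHom.ker (Bialgebra.counitAlgHom k A) :
      Set A)) ≤ RingHom.ker (Bialgebra.counitAlgHom k A) *
        RingHom.ker (Bialgebra.counitAlgHom k A) := by
    rw [Ideal.span_le]
    rintro _ ⟨f, hf, rfl⟩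
    have hf' : f ∈ RingHom.ker (Bialgebra.counitAlgHom k A) := hf
    show f ^ p ^ n ∈ _
    have e : p ^ n = 1 + (p ^ n - 1) := by omega
    rw [e, pow_add, pow_one]
    refine Ideal.mul_mem_mul hf' ?_
    exact Ideal.pow_mem_of_mem _ hf' _ (by omega)
  constructor
  · intro h
    apply Groth.Agent.H12Transl.isReduced_of_augIdeal_sq (k := k)
    rw [← hco]
    apply le_antisymm Ideal.mul_le_right
    exact h.ge.trans hJle
  · intro hred
    apply le_antisymm (hJle.trans Ideal.mul_le_right)
    intro f hf
    rw [hImem] at hf
    haveI : Finite (A →ₐ[k] k) := Finite.algHom k A k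
    haveI := Fintype.ofFinite (A →ₐ[k] k)
    have hex := fun g : A →ₐ[k] k => Groth.Agent.H12FE.exists_idempotent_point (k := k) g
    choose e he he1 he0 using hex
    have hc := fun g : A →ₐ[k] k =>
      IsAlgClosed.exists_pow_nat_eq (g f) (Nat.pos_of_ne_zero (by omega : p ^ n ≠ 0))
    choose c hc using hc
    set h : A := ∑ g, c g • e g with hh
    have hgh : ∀ g' : A →ₐ[k] k, g' h = c g' := by
      intro g'
      rw [hh, map_sum, Finset.sum_eq_single g']
      · rw [map_smul, he1, smul_eq_mul, mul_one]
      · intro g _ hg
        rw [map_smul, he0 g g' (Ne.symm hg), smul_zero]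
      · intro hg
        exact absurd (Finset.mem_univ _) hg
    have hpow : h ^ p ^ n = f := by
      rw [← sub_eq_zero]
      apply Groth.Agent.H12FE.eq_zero_of_forall_point (k := k)
      intro g
      rw [map_sub, map_pow, hgh, hc, sub_self]
    have hhI : h ∈ RingHom.ker (Bialgebra.counitAlgHom k A) := by
      rw [hImem, hgh]
      have := hc (Bialgebra.counitAlgHom k A)
      rw [hf] at this
      exact eq_zero_of_pow_eq_zero this
    rw [← hpow]
    exact Ideal.subset_span ⟨h, hhI, rfl⟩

end Groth.Agent.S17327
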