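import Groth.Statements.S1733
-- import your own Groth.Agent.* helpers here

set_option autoImplicit false
universe u
open LocCoh

namespace Groth.Agent.S1733

/-- Let f_1, …, f_r and g be elements of a ring (r ≥ 1). If the family f_1, …, f_{r-1}, f_r g is
independent (every linear relation has coefficients in the ideal the family generates), then f_1, …,
f_r is independent. -/
theorem result (A : Type u) [CommRing A] (r : ℕ) (f : Fin (r + 1) → A) (g : A) (h : Dual2.Independent (Function.update f (Fin.last r) (f (Fin.last r) * g))) : Dual2.Independent f := by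
  classical
  set f' := Function.update f (Fin.last r) (f (Fin.last r) * g) with hf'
  have hf'c : ∀ i : Fin r, f' i.castSucc = f i.castSucc := fun i => by
    rw [hf', Function.update_of_ne (Fin.castSucc_lt_last i).ne]
  have hf'l : f' (Fin.last r) = f (Fin.last r) * g := by rw [hf', Function.update_self]
  have hle : Ideal.span (Set.range f') ≤ Ideal.span (Set.range f) := by
    rw [Ideal.span_le]
    rintro _ ⟨i, rfl⟩
    by_cases hi : i = Fin.last r
    · subst hi
      rw [hf'l]
      exact Ideal.mul_mem_right _ _ (Ideal.subset_span ⟨_, rfl⟩)
    · rw [hf', Function.update_of_ne hi]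
      exact Ideal.subset_span ⟨_, rfl⟩
  intro a ha
  rw [Fin.sum_univ_castSucc] at ha
  -- step 1
  have h1 := h (Function.update (fun i => a i * g) (Fin.last r) (a (Fin.last r))) (by
    rw [Fin.sum_univ_castSucc]
    simp only [Function.update_self, hf'l, hf'c, Function.update_of_ne (Fin.castSucc_lt_last _).ne]
    have : ∑ i : Fin r, a i.castSucc * g * f i.castSucc = g * ∑ i : Fin r, a i.castSucc * f i.castSucc := by
      rw [Finset.mul_sum]; exact Finset.sum_congr rfl fun i _ => by ring
    rw [this]
    linear_combination g * ha) (Fin.last r)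
  rw [Function.update_self] at h1
  obtain ⟨b, hb⟩ := (Ideal.mem_span_range_iff_exists_fun).mp h1
  rw [Fin.sum_univ_castSucc] at hb
  simp only [hf'l, hf'c] at hb
  have h2 := h (Function.update (fun i => a i + b i * f (Fin.last r)) (Fin.last r) (b (Fin.last r) * f (Fin.last r))) (by
    rw [Fin.sum_univ_castSucc]
    simp only [Function.update_self, hf'l, hf'c, Function.update_of_ne (Fin.castSucc_lt_last _).ne]
    have : ∑ i : Fin r, (a i.castSucc + b i.castSucc * f (Fin.last r)) * f i.castSucc =
        ∑ i : Fin r, a i.castSucc * f i.castSucc + f (Fin.last r) * ∑ i : Fin r, b i.castSucc * f i.castSucc := by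
      rw [Finset.mul_sum, ← Finset.sum_add_distrib]; exact Finset.sum_congr rfl fun i _ => by ring
    rw [this]
    linear_combination ha + f (Fin.last r) * hb)
  intro i
  by_cases hi : i = Fin.last r
  · subst hi
    exact hle h1
  · have h3 := hle (h2 i)
    rw [Function.update_of_ne hi] at h3
    have : a i = (a i + b i * f (Fin.last r)) - b i * f (Fin.last r) := by ring
    rw [this]
    exact Ideal.sub_mem _ h3 (Ideal.mul_mem_left _ _ (Ideal.subset_span ⟨_, rfl⟩))

end Groth.Agent.S1733
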