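import Groth.Statements.S17330
import Mathlib
import Groth.Agent.S17325
import Groth.Agent.Lib.helper12.PointDer

set_option autoImplicit false
set_option linter.style.haveILetI false
set_option linter.unusedSectionVars false
universe u v
open Hopf

namespace Groth.Agent.S17330

open Groth.Agent.H12PD Polynomial TensorProduct

section general
variable {k : Type u} [Field k] {A : Type v} [CommRing A] [Bialgebra k A]

/-- an invariant operator is determined by its composite with the counit. -/
lemma isInv_eq_dtil {L : Module.End k A} (hL : IsInv L) :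
    L = dtil (CoalgebraStruct.counit (R := k) (A := A) ∘ₗ L) := by
  ext a
  rw [dtil_apply]
  have h1 : Lc (CoalgebraStruct.counit (R := k) (A := A) ∘ₗ L) =
      Lc (CoalgebraStruct.counit (R := k) (A := A)) ∘ₗ L.rTensor A := by
    apply TensorProduct.ext'
    intro x y
    simp
  rw [h1, LinearMap.comp_apply, ← hL.apply, Lc_counit_comul]

lemma counit_comp_ne_zero {L : Module.End k A} (hL : IsInv L) (h0 : L ≠ 0) :
    ∃ a : A, CoalgebraStruct.counit (R := k) (L a) ≠ 0 := by
  by_contra hcon
  push Not at hcon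
  apply h0
  rw [isInv_eq_dtil hL]
  have : CoalgebraStruct.counit (R := k) (A := A) ∘ₗ L = 0 := LinearMap.ext hcon
  rw [this]
  ext a
  simp [dtil, Lc]

lemma isDer_one {L : Module.End k A} (hL : IsDer L) : L 1 = 0 := by
  have h := hL 1 1
  rw [mul_one, one_mul, mul_one] at h
  have : L 1 + L 1 = L 1 + 0 := by rw [add_zero]; exact h.symm
  exact add_left_cancel this

lemma isDer_pow_one {L : Module.End k A} (hL : IsDer L) (n : ℕ) (hn : n ≠ 0) : (L ^ n) 1 = 0 := by
  obtain ⟨m, rfl⟩ := Nat.exists_eq_succ_of_ne_zero hn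
  rw [pow_succ, Module.End.mul_apply, isDer_one hL, map_zero]

end general

section alpha
variable {k : Type u} [Field k] (p : ℕ) [Fact p.Prime] [CharP k p] {A : Type v} [CommRing A]
  [Bialgebra k A]

lemma factorial_ne_zero' {n : ℕ} (hn : n < p) : (n.factorial : k) ≠ 0 := by
  have hp : p.Prime := Fact.out
  intro h
  rw [CharP.cast_eq_zero_iff k p, hp.dvd_factorial] at h
  omega

/-- coefficient functionals `a ↦ ε(uⁱ a) / i!` -/
noncomputable def cf (u : Module.End k A) (i : ℕ) : A →ₗ[k] k :=
  CoalgebraStruct.counit (R := k) (A := A) ∘ₗ (((i.factorial : k)⁻¹) • (u ^ i))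

lemma cf_apply (u : Module.End k A) (i : ℕ) (a : A) :
    cf u i a = (i.factorial : k)⁻¹ * CoalgebraStruct.counit (R := k) ((u ^ i) a) := by
  simp [cf]

noncomputable def Fpoly (u : Module.End k A) (a : A) : k[X] :=
  ∑ i ∈ Finset.range p, C (cf u i a) * X ^ i

lemma coeff_Fpoly (u : Module.End k A) (a : A) (n : ℕ) :
    (Fpoly p u a).coeff n = if n < p then cf u n a else 0 := by
  rw [Fpoly, Polynomial.finsetSum_coeff]
  simp only [Polynomial.coeff_C_mul_X_pow]
  rw [Finset.sum_ite_eq (Finset.range p) n]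
  simp [Finset.mem_range]

lemma mk_eq_sum (P : k[X]) :
    AlphaP.mk p k P = ∑ n ∈ Finset.range p, P.coeff n • (AlphaP.x p k) ^ n := by
  have h := Polynomial.as_sum_range' P (p + P.natDegree + 1) (by omega)
  conv_lhs => rw [h]
  rw [map_sum]
  have h2 : ∀ n, AlphaP.mk p k (Polynomial.monomial n (P.coeff n)) =
      P.coeff n • (AlphaP.x p k) ^ n := by
    intro n
    rw [← Polynomial.C_mul_X_pow_eq_monomial, map_mul, map_pow, AlphaP.mk_X,
      ← Polynomial.algebraMap_eq, AlgHom.commutes, Algebra.smul_def]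
  simp only [h2]
  have hle : p ≤ p + P.natDegree + 1 := by omega
  rw [← Finset.sum_range_add_sum_Ico _ hle]
  have : ∑ n ∈ Finset.Ico p (p + P.natDegree + 1), P.coeff n • (AlphaP.x p k) ^ n = 0 := by
    refine Finset.sum_eq_zero fun n hn => ?_
    rw [AlphaP.x_pow_of_le p k (Finset.mem_Ico.1 hn).1, smul_zero]
  rw [this, add_zero]

lemma mk_eq_of_coeff (P Q : k[X]) (h : ∀ n < p, P.coeff n = Q.coeff n) :
    AlphaP.mk p k P = AlphaP.mk p k Q := by
  rw [mk_eq_sum, mk_eq_sum]
  exact Finset.sum_congr rfl fun n hn => by rw [h n (Finset.mem_range.1 hn)]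

/-- the candidate map to `α_p` -/
noncomputable def fα (u : Module.End k A) : A →ₗ[k] AlphaP.A p k :=
  ∑ i ∈ Finset.range p, (cf u i).smulRight ((AlphaP.x p k) ^ i)

lemma fα_apply (u : Module.End k A) (a : A) :
    fα p u a = ∑ i ∈ Finset.range p, cf u i a • (AlphaP.x p k) ^ i := by
  simp [fα, LinearMap.sum_apply]

lemma fα_eq_mk (u : Module.End k A) (a : A) : fα p u a = AlphaP.mk p k (Fpoly p u a) := by
  rw [fα_apply, mk_eq_sum]
  refine Finset.sum_congr rfl fun n hn => ?_
  rw [coeff_Fpoly, if_pos (Finset.mem_range.1 hn)]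

lemma fα_one {u : Module.End k A} (hu : IsDer u) : fα p u 1 = 1 := by
  have hp : p.Prime := Fact.out
  rw [fα_apply, Finset.sum_eq_single_of_mem 0 (Finset.mem_range.2 hp.pos)]
  · simp [cf_apply]
  · intro j _ hj
    rw [cf_apply, isDer_pow_one hu j hj, map_zero, mul_zero, zero_smul]

lemma fα_mul {u : Module.End k A} (hu : IsDer u) (a b : A) :
    fα p u (a * b) = fα p u a * fα p u b := by
  rw [fα_eq_mk, fα_eq_mk, fα_eq_mk, ← map_mul]
  apply mk_eq_of_coeff
  intro n hn
  rw [coeff_Fpoly, if_pos hn, Polynomial.coeff_mul,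
    Finset.Nat.sum_antidiagonal_eq_sum_range_succ (fun i j => (Fpoly p u a).coeff i *
      (Fpoly p u b).coeff j), cf_apply, leibniz_pow hu, map_sum, Finset.mul_sum]
  refine Finset.sum_congr rfl fun j hj => ?_
  have hjn : j ≤ n := Nat.lt_succ_iff.1 (Finset.mem_range.1 hj)
  rw [coeff_Fpoly, coeff_Fpoly, if_pos (by omega), if_pos (by omega), cf_apply, cf_apply,
    map_nsmul, Bialgebra.counit_mul, nsmul_eq_mul]
  have h1 : (n.factorial : k) ≠ 0 := factorial_ne_zero' p hn
  have h2 : (j.factorial : k) ≠ 0 := factorial_ne_zero' p (by omega)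
  have h3 : ((n - j).factorial : k) ≠ 0 := factorial_ne_zero' p (by omega)
  have h4 : (n.choose j : k) * (j.factorial : k) * ((n - j).factorial : k) = (n.factorial : k) := by
    exact_mod_cast congrArg (Nat.cast : ℕ → k) (Nat.choose_mul_factorial_mul_factorial hjn)
  field_simp
  rw [← h4]
  ring

end alpha


lemma sum_antidiag_eq {M : Type*} [AddCommMonoid M] (q : ℕ) (g : ℕ → ℕ → M) :
    ∑ n ∈ Finset.range q, ∑ ij ∈ Finset.HasAntidiagonal.antidiagonal n, g ij.1 ij.2 =
      ∑ i ∈ Finset.range q, ∑ j ∈ Finset.range q, if i + j < q then g i j else 0 := by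
  rw [Finset.sum_sigma', ← Finset.sum_product', ← Finset.sum_filter]
  refine Finset.sum_bij' (fun x _ => x.2) (fun y _ => ⟨y.1 + y.2, y⟩) ?_ ?_ ?_ ?_ ?_
  · rintro ⟨n, i, j⟩ hx
    simp only [Finset.mem_sigma, Finset.mem_range, Finset.HasAntidiagonal.mem_antidiagonal] at hx
    simp only [Finset.mem_filter, Finset.mem_product, Finset.mem_range]
    omega
  · rintro ⟨i, j⟩ hy
    simp only [Finset.mem_filter, Finset.mem_product, Finset.mem_range] at hy
    simp only [Finset.mem_sigma, Finset.mem_range, Finset.HasAntidiagonal.mem_antidiagonal]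
    exact ⟨hy.2, trivial⟩
  · rintro ⟨n, i, j⟩ hx
    simp only [Finset.mem_sigma, Finset.mem_range, Finset.HasAntidiagonal.mem_antidiagonal] at hx
    simp only [Sigma.mk.injEq, heq_eq_eq, and_true]
    exact hx.2
  · rintro ⟨i, j⟩ _
    rfl
  · rintro ⟨n, i, j⟩ _
    rfl

section alpha2
variable {k : Type u} [Field k] (p : ℕ) [Fact p.Prime] [CharP k p] {A : Type v} [CommRing A]
  [Bialgebra k A]

lemma fα_counit (u : Module.End k A) (a : A) :
    CoalgebraStruct.counit (R := k) (fα p u a) = CoalgebraStruct.counit (R := k) a := by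
  have hp : p.Prime := Fact.out
  rw [fα_apply, map_sum, Finset.sum_eq_single_of_mem 0 (Finset.mem_range.2 hp.pos)]
  · simp [cf_apply]
  · intro j _ hj
    rw [map_smul, Bialgebra.counit_pow, AlphaP.counit_x, zero_pow hj, smul_zero]

lemma comul_x_pow (n : ℕ) :
    CoalgebraStruct.comul (R := k) ((AlphaP.x p k) ^ n) =
      ∑ ij ∈ Finset.HasAntidiagonal.antidiagonal n, (n.choose ij.1) •
        (((AlphaP.x p k) ^ ij.1) ⊗ₜ[k] ((AlphaP.x p k) ^ ij.2)) := by
  rw [Bialgebra.comul_pow, AlphaP.comul_x, (Commute.all _ _).add_pow']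
  refine Finset.sum_congr rfl fun ij _ => ?_
  rw [Algebra.TensorProduct.tmul_pow, Algebra.TensorProduct.tmul_pow, one_pow, one_pow,
    Algebra.TensorProduct.tmul_mul_tmul, mul_one, one_mul]

lemma fα_comul {u : Module.End k A} (hu : IsInv u) (hup : u ^ p = 0) (a : A) :
    TensorProduct.map (fα p u) (fα p u) (CoalgebraStruct.comul (R := k) a) =
      CoalgebraStruct.comul (R := k) (fα p u a) := by
  have hM : ∀ i ∈ Finset.range p, IsInv (((i.factorial : k)⁻¹) • (u ^ i)) :=
    fun i _ => (hu.pow i).smul _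
  rw [map_comul_eq (Finset.range p) (fun i => ((i.factorial : k)⁻¹) • (u ^ i)) hM
    (fun i => (AlphaP.x p k) ^ i) (fα p u) (fun a => by rw [fα_apply]; rfl)]
  rw [fα_apply, map_sum]
  simp only [map_smul, comul_x_pow, Finset.smul_sum]
  have hR : ∑ x ∈ Finset.range p, ∑ x_1 ∈ Finset.HasAntidiagonal.antidiagonal x,
      (cf u x) a • x.choose x_1.1 • (((AlphaP.x p k) ^ x_1.1) ⊗ₜ[k] ((AlphaP.x p k) ^ x_1.2)) =
      ∑ n ∈ Finset.range p, ∑ ij ∈ Finset.HasAntidiagonal.antidiagonal n,
        (fun i j => cf u (i + j) a • ((i + j).choose i) •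
          (((AlphaP.x p k) ^ i) ⊗ₜ[k] ((AlphaP.x p k) ^ j))) ij.1 ij.2 := by
    refine Finset.sum_congr rfl fun n _ => Finset.sum_congr rfl fun ij hij => ?_
    rw [Finset.HasAntidiagonal.mem_antidiagonal] at hij
    subst hij
    rfl
  rw [hR, sum_antidiag_eq p (fun i j => cf u (i + j) a • ((i + j).choose i) •
    (((AlphaP.x p k) ^ i) ⊗ₜ[k] ((AlphaP.x p k) ^ j)))]
  · refine Finset.sum_congr rfl fun i hi => Finset.sum_congr rfl fun j hj => ?_
    have hi' := Finset.mem_range.1 hi
    have hj' := Finset.mem_range.1 hj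
    simp only [LinearMap.smul_apply, map_smul, smul_eq_mul]
    rw [← Module.End.mul_apply, ← pow_add]
    split_ifs with hij
    · rw [cf_apply, ← Nat.cast_smul_eq_nsmul k, smul_smul]
      congr 1
      have h1 : ((i + j).factorial : k) ≠ 0 := factorial_ne_zero' p hij
      have h2 : (i.factorial : k) ≠ 0 := factorial_ne_zero' p hi'
      have h3 : (j.factorial : k) ≠ 0 := factorial_ne_zero' p hj'
      have h4 : ((i + j).choose i : k) * (i.factorial : k) * (j.factorial : k) =
          ((i + j).factorial : k) := by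
        have := Nat.choose_mul_factorial_mul_factorial (Nat.le_add_right i j)
        rw [Nat.add_sub_cancel_left] at this
        exact_mod_cast congrArg (Nat.cast : ℕ → k) this
      rw [add_comm j i]
      field_simp
      rw [← h4]
      ring
    · have : u ^ (j + i) = 0 := by
        rw [show j + i = p + (j + i - p) by omega, pow_add, hup, zero_mul]
      rw [this]
      simp

end alpha2

section general2
variable {k : Type u} [Field k] {A : Type v} [CommRing A] [Bialgebra k A]

/-- from a vector in the kernel of an invariant operator `N` not killed by the invariant operator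
`u`, find one in the kernel of `N` on which `ε ∘ u` does not vanish. -/
lemma exists_counit_ne_zero_of_ker {u N : Module.End k A} (hu : IsInv u) (hN : IsInv N) (a : A)
    (ha : N a = 0) (hua : u a ≠ 0) :
    ∃ a' : A, N a' = 0 ∧ CoalgebraStruct.counit (R := k) (u a') ≠ 0 := by
  classical
  let b := Module.Free.chooseBasis k A
  obtain ⟨c, hc⟩ := TensorProduct.eq_repr_basis_right b (CoalgebraStruct.comul (R := k) a)
  have hNc : ∀ i, N (c i) = 0 := by
    have h1 : N.rTensor A (CoalgebraStruct.comul (R := k) a) = 0 := by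
      rw [← hN.apply, ha, map_zero]
    rw [← hc, map_finsuppSum] at h1
    simp only [LinearMap.rTensor_tmul] at h1
    have h2 : ((c.mapRange N (map_zero N)).sum fun i m => m ⊗ₜ[k] b i) = 0 := by
      rw [Finsupp.sum_mapRange_index (fun i => by simp)]
      exact h1
    have h3 := TensorProduct.sum_tmul_basis_right_eq_zero b _ h2
    intro i
    have := DFunLike.congr_fun h3 i
    simpa using this
  by_contra hcon
  push Not at hcon
  apply hua
  rw [isInv_eq_dtil hu, dtil_apply, ← hc, map_finsuppSum]
  refine Finset.sum_eq_zero fun i _ => ?_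
  show Lc (CoalgebraStruct.counit (R := k) (A := A) ∘ₗ u) (c i ⊗ₜ[k] b i) = 0
  rw [Lc_tmul, LinearMap.comp_apply, hcon (c i) (hNc i), zero_smul]

end general2

section alpha3
variable {k : Type u} [Field k] (p : ℕ) [Fact p.Prime] [CharP k p] {A : Type v} [CommRing A]
  [Bialgebra k A]

/-- the algebra map to `α_p` -/
noncomputable def fαAlg {u : Module.End k A} (hu : IsDer u) : A →ₐ[k] AlphaP.A p k :=
  AlgHom.ofLinearMap (fα p u) (fα_one p hu) (fα_mul p hu)

lemma fαAlg_apply {u : Module.End k A} (hu : IsDer u) (a : A) : fαAlg p hu a = fα p u a := rfl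

lemma fα_of_sq {u : Module.End k A} (a : A) (ha : (u ^ 2) a = 0) :
    fα p u a = CoalgebraStruct.counit (R := k) a • (1 : AlphaP.A p k) +
      CoalgebraStruct.counit (R := k) (u a) • AlphaP.x p k := by
  have hp : p.Prime := Fact.out
  have h2 : 2 ≤ p := hp.two_le
  rw [fα_apply, ← Finset.sum_subset (Finset.range_subset_range.2 h2)]
  · rw [Finset.sum_range_succ, Finset.sum_range_one]
    simp [cf_apply]
  · intro i _ hi
    have hi2 : 2 ≤ i := by
      by_contra h
      exact hi (Finset.mem_range.2 (by omega))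
    rw [cf_apply, show i = (i - 2) + 2 by omega, pow_add, Module.End.mul_apply, ha, map_zero,
      map_zero, mul_zero, zero_smul]

theorem fα_surjective {u : Module.End k A} (hu : IsDer u) (hinv : IsInv u) (hu0 : u ≠ 0)
    (hup : u ^ p = 0) : Function.Surjective (fαAlg p hu) := by
  classical
  have hp : p.Prime := Fact.out
  -- an element not killed by u
  obtain ⟨a₀, ha₀⟩ : ∃ a₀, u a₀ ≠ 0 := by
    by_contra hcon
    push Not at hcon
    exact hu0 (LinearMap.ext hcon)
  have hex : ∃ m, (u ^ m) a₀ = 0 := ⟨p, by rw [hup]; rfl⟩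
  have hm : (u ^ (Nat.find hex)) a₀ = 0 := Nat.find_spec hex
  have hm2 : 2 ≤ Nat.find hex := by
    by_contra h
    have h' : Nat.find hex = 0 ∨ Nat.find hex = 1 := by omega
    rcases h' with h' | h'
    · rw [h', pow_zero, Module.End.one_apply] at hm
      rw [hm, map_zero] at ha₀
      exact ha₀ rfl
    · rw [h', pow_one] at hm
      exact ha₀ hm
  obtain ⟨a, ha2, hau⟩ : ∃ a, (u ^ 2) a = 0 ∧ u a ≠ 0 := by
    refine ⟨(u ^ (Nat.find hex - 2)) a₀, ?_, ?_⟩
    · rw [← Module.End.mul_apply, ← pow_add, show 2 + (Nat.find hex - 2) = Nat.find hex by omega]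
      exact hm
    · have := Nat.find_min hex (show Nat.find hex - 1 < Nat.find hex by omega)
      intro h
      apply this
      rw [show Nat.find hex - 1 = 1 + (Nat.find hex - 2) by omega, pow_add, pow_one,
        Module.End.mul_apply]
      exact h
  obtain ⟨a', ha'2, ha'u⟩ := exists_counit_ne_zero_of_ker hinv (hinv.pow 2) a ha2 hau
  -- an element mapping to x
  have hx : ∃ z : A, fαAlg p hu z = AlphaP.x p k := by
    refine ⟨(CoalgebraStruct.counit (R := k) (u a'))⁻¹ •
      (a' - CoalgebraStruct.counit (R := k) a' • (1 : A)), ?_⟩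
    rw [map_smul, map_sub, map_smul, map_one, fαAlg_apply, fα_of_sq p a' ha'2, add_sub_cancel_left,
      smul_smul, inv_mul_cancel₀ ha'u, one_smul]
  obtain ⟨z, hz⟩ := hx
  intro y
  obtain ⟨P, rfl⟩ := AlphaP.mk_surjective p k y
  refine ⟨Polynomial.aeval z P, ?_⟩
  rw [← Polynomial.aeval_algHom_apply, hz, AlphaP.aeval_x]

theorem alpha_case {u : Module.End k A} (hu : IsDer u) (hinv : IsInv u) (hu0 : u ≠ 0)
    (hup : u ^ p = 0) : ∃ f : A →ₐc[k] AlphaP.A p k, Function.Surjective f := by
  refine ⟨BialgHom.ofAlgHom (fαAlg p hu) ?_ ?_, ?_⟩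
  · ext a
    exact fα_counit p u a
  · ext a
    exact fα_comul p hinv hup a
  · exact fα_surjective p hu hinv hu0 hup

end alpha3

section mupoly
variable (k : Type u) [Field k] (p : ℕ) [Fact p.Prime] [CharP k p]

/-- the prime field inside `k` -/
noncomputable def cst (i : ZMod p) : k := ZMod.castHom (dvd_refl p) k i

lemma cst_injective : Function.Injective (cst k p) := (ZMod.castHom (dvd_refl p) k).injective

lemma cst_zero : cst k p 0 = 0 := map_zero _

lemma cst_add (i j : ZMod p) : cst k p (i + j) = cst k p i + cst k p j := map_add _ i j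

lemma cst_pow (i : ZMod p) : cst k p i ^ p = cst k p i := by
  rw [cst, ← map_pow, ZMod.pow_card]

lemma cst_sub_pow {i j : ZMod p} (h : i ≠ j) : (cst k p j - cst k p i) ^ (p - 1) = 1 := by
  show ((ZMod.castHom (dvd_refl p) k) j - (ZMod.castHom (dvd_refl p) k) i) ^ (p - 1) = 1
  rw [← map_sub, ← map_pow, ZMod.pow_card_sub_one_eq_one (sub_ne_zero.2 (Ne.symm h)),
    map_one]

/-- Lagrange idempotent polynomials for the points of the prime field -/
noncomputable def Pp (i : ZMod p) : k[X] := 1 - (X - C (cst k p i)) ^ (p - 1)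

lemma eval_Pp (i j : ZMod p) : (Pp k p i).eval (cst k p j) = if i = j then 1 else 0 := by
  have hp : p.Prime := Fact.out
  have hp1 : p - 1 ≠ 0 := by have := hp.two_le; omega
  rw [Pp, eval_sub, eval_one, eval_pow, eval_sub, eval_X, eval_C]
  split_ifs with h
  · rw [h, sub_self, zero_pow hp1, sub_zero]
  · rw [cst_sub_pow k p h, sub_self]

lemma natDegree_Pp (i : ZMod p) : (Pp k p i).natDegree ≤ p - 1 := by
  rw [Pp]
  refine (natDegree_sub_le _ _).trans ?_
  rw [natDegree_one]
  refine max_le (Nat.zero_le _) ?_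
  refine natDegree_pow_le.trans ?_
  rw [natDegree_X_sub_C, mul_one]

lemma sum_Pp : ∑ i : ZMod p, Pp k p i = 1 := by
  classical
  have hp : p.Prime := Fact.out
  refine Polynomial.eq_of_natDegree_lt_card_of_eval_eq _ _ (cst_injective k p) ?_ ?_
  · intro j
    rw [eval_finsetSum, eval_one]
    simp only [eval_Pp]
    rw [Finset.sum_ite_eq' Finset.univ j]
    simp
  · rw [natDegree_one, ZMod.card, max_lt_iff]
    refine ⟨lt_of_le_of_lt (natDegree_sum_le_of_forall_le _ _ fun i _ => natDegree_Pp k p i) ?_,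
      hp.pos⟩
    have := hp.two_le
    omega

lemma X_sub_mul_Pp (i : ZMod p) : (X - C (cst k p i)) * Pp k p i = X - X ^ p := by
  have hp : p.Prime := Fact.out
  haveI : CharP k[X] p := inferInstance
  have h1 : (X - C (cst k p i)) * (X - C (cst k p i)) ^ (p - 1) = (X - C (cst k p i)) ^ p := by
    rw [← pow_succ', Nat.sub_add_cancel hp.pos]
  rw [Pp, mul_sub, mul_one, h1, sub_pow_char, ← C_pow, cst_pow]
  ring

end mupoly

section mu
variable {k : Type u} [Field k] (p : ℕ) [Fact p.Prime] [CharP k p] {A : Type v} [CommRing A]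
  [Bialgebra k A]

/-- eigenprojections -/
noncomputable def proj (T : Module.End k A) (i : ZMod p) : Module.End k A :=
  Polynomial.aeval T (Pp k p i)

lemma aeval_apply_eigen (T : Module.End k A) (P : k[X]) (μ' : k) (x : A) (hx : T x = μ' • x) :
    (Polynomial.aeval T P) x = P.eval μ' • x := by
  by_cases hx0 : x = 0
  · rw [hx0, map_zero, smul_zero]
  · exact Module.End.aeval_apply_of_hasEigenvector
      ⟨Module.End.mem_eigenspace_iff.2 hx, hx0⟩

lemma T_proj {T : Module.End k A} (hT : T ^ p = T) (i : ZMod p) (x : A) :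
    T (proj p T i x) = cst k p i • proj p T i x := by
  have h := congrArg (fun P => (Polynomial.aeval T P) x) (X_sub_mul_Pp k p i)
  simp only [map_mul, map_sub, aeval_X, aeval_C, map_pow, hT, sub_self, LinearMap.zero_apply,
    Module.End.mul_apply, LinearMap.sub_apply, Module.algebraMap_end_apply] at h
  exact sub_eq_zero.1 h

lemma proj_eigen {T : Module.End k A} (i j : ZMod p) (x : A) (hx : T x = cst k p j • x) :
    proj p T i x = if i = j then x else 0 := by
  rw [proj, aeval_apply_eigen T _ _ x hx, eval_Pp]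
  split_ifs <;> simp

lemma proj_proj {T : Module.End k A} (hT : T ^ p = T) (i j : ZMod p) (x : A) :
    proj p T i (proj p T j x) = if i = j then proj p T j x else 0 :=
  proj_eigen p i j _ (T_proj p hT j x)

lemma sum_proj (T : Module.End k A) (x : A) : ∑ i : ZMod p, proj p T i x = x := by
  have h := congrArg (fun P => (Polynomial.aeval T P) x) (sum_Pp k p)
  simpa [proj, map_sum, LinearMap.sum_apply] using h

lemma isInv_proj {T : Module.End k A} (hinv : IsInv T) (i : ZMod p) : IsInv (proj p T i) :=
  isInv_aeval hinv _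

lemma T_mul_eigen {T : Module.End k A} (hT : IsDer T) (j l : ZMod p) (x y : A)
    (hx : T x = cst k p j • x) (hy : T y = cst k p l • y) :
    T (x * y) = cst k p (j + l) • (x * y) := by
  rw [hT, hx, hy, cst_add, add_smul, mul_smul_comm, smul_mul_assoc, add_comm]

lemma proj_mul {T : Module.End k A} (hT : IsDer T) (hTp : T ^ p = T) (i : ZMod p) (a b : A) :
    proj p T i (a * b) = ∑ j : ZMod p, proj p T j a * proj p T (i - j) b := by
  classical
  conv_lhs => rw [← sum_proj p T a, ← sum_proj p T b, Finset.sum_mul_sum, map_sum]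
  refine Finset.sum_congr rfl fun j _ => ?_
  rw [map_sum]
  have : ∀ l : ZMod p, proj p T i (proj p T j a * proj p T l b) =
      if l = i - j then proj p T j a * proj p T l b else 0 := by
    intro l
    rw [proj_eigen p i (j + l) _ (T_mul_eigen p hT j l _ _ (T_proj p hTp j a) (T_proj p hTp l b))]
    have : i = j + l ↔ l = i - j := by
      constructor
      · intro h; rw [h]; ring
      · intro h; rw [h]; ring
    simp only [this]
  simp only [this]
  rw [Finset.sum_ite_eq' Finset.univ (i - j)]
  simp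

lemma proj_one {T : Module.End k A} (hT : IsDer T) (i : ZMod p) :
    proj p T i 1 = if i = 0 then 1 else 0 := by
  apply proj_eigen p i 0
  rw [isDer_one hT, cst_zero, zero_smul]

/-- basis elements of the group algebra of `μ_p` -/
noncomputable def em (i : ZMod p) : MonoidAlgebra k (Multiplicative (ZMod p)) :=
  MonoidAlgebra.single (Multiplicative.ofAdd i) 1

lemma em_mul (i j : ZMod p) : em (k := k) p i * em p j = em p (i + j) := by
  rw [em, em, em, MonoidAlgebra.single_mul_single, mul_one, ofAdd_add]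

lemma em_zero : em (k := k) p 0 = 1 := by
  rw [em, ofAdd_zero, MonoidAlgebra.one_def]

/-- the candidate map to `μ_p` -/
noncomputable def fμ (T : Module.End k A) : A →ₗ[k] MonoidAlgebra k (Multiplicative (ZMod p)) :=
  ∑ i : ZMod p, (CoalgebraStruct.counit (R := k) (A := A) ∘ₗ proj p T i).smulRight (em p i)

lemma fμ_apply (T : Module.End k A) (a : A) :
    fμ p T a = ∑ i : ZMod p, CoalgebraStruct.counit (R := k) (proj p T i a) • em p i := by
  simp [fμ, LinearMap.sum_apply]

lemma fμ_one {T : Module.End k A} (hT : IsDer T) : fμ p T 1 = 1 := by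
  classical
  rw [fμ_apply]
  simp only [proj_one p hT]
  rw [Finset.sum_eq_single_of_mem 0 (Finset.mem_univ _)]
  · simp [em_zero]
  · intro j _ hj
    rw [if_neg hj, map_zero, zero_smul]

lemma fμ_mul {T : Module.End k A} (hT : IsDer T) (hTp : T ^ p = T) (a b : A) :
    fμ p T (a * b) = fμ p T a * fμ p T b := by
  classical
  rw [fμ_apply, fμ_apply, fμ_apply, Finset.sum_mul_sum]
  simp only [proj_mul p hT hTp, map_sum, Finset.sum_smul]
  rw [Finset.sum_comm]
  refine Finset.sum_congr rfl fun j _ => ?_
  rw [← Equiv.sum_comp (Equiv.addRight j)]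
  refine Finset.sum_congr rfl fun l _ => ?_
  rw [Equiv.coe_addRight, add_sub_cancel_right, Bialgebra.counit_mul, smul_mul_smul_comm, em_mul,
    add_comm j l]

lemma counit_em (i : ZMod p) :
    CoalgebraStruct.counit (R := k) (em (k := k) p i) = 1 := by
  rw [em, MonoidAlgebra.counit_single]
  rfl

lemma comul_em (i : ZMod p) :
    CoalgebraStruct.comul (R := k) (em (k := k) p i) = em p i ⊗ₜ[k] em p i := by
  rw [em, MonoidAlgebra.comul_single]
  simp

lemma fμ_counit (T : Module.End k A) (a : A) :
    CoalgebraStruct.counit (R := k) (fμ p T a) = CoalgebraStruct.counit (R := k) a := by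
  rw [fμ_apply, map_sum]
  simp only [map_smul, counit_em, smul_eq_mul, mul_one]
  rw [← map_sum, sum_proj]

lemma fμ_comul {T : Module.End k A} (hinv : IsInv T) (hTp : T ^ p = T) (a : A) :
    TensorProduct.map (fμ p T) (fμ p T) (CoalgebraStruct.comul (R := k) a) =
      CoalgebraStruct.comul (R := k) (fμ p T a) := by
  classical
  rw [map_comul_eq Finset.univ (proj p T) (fun i _ => isInv_proj p hinv i) (em p) (fμ p T)
    (fun a => fμ_apply p T a)]
  rw [fμ_apply, map_sum]
  refine Finset.sum_congr rfl fun i _ => ?_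
  simp only [proj_proj p hTp]
  rw [Finset.sum_eq_single_of_mem i (Finset.mem_univ _)]
  · rw [if_pos rfl, map_smul, comul_em]
  · intro j _ hj
    rw [if_neg hj, map_zero, zero_smul]

noncomputable def fμAlg {T : Module.End k A} (hT : IsDer T) (hTp : T ^ p = T) :
    A →ₐ[k] MonoidAlgebra k (Multiplicative (ZMod p)) :=
  AlgHom.ofLinearMap (fμ p T) (fμ_one p hT) (fμ_mul p hT hTp)

lemma fμAlg_apply {T : Module.End k A} (hT : IsDer T) (hTp : T ^ p = T) (a : A) :
    fμAlg p hT hTp a = fμ p T a := rfl

lemma em_nsmul (i : ZMod p) (m : ℕ) : em (k := k) p (m • i) = em p i ^ m := by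
  induction m with
  | zero => rw [zero_smul, pow_zero, em_zero]
  | succ m ih => rw [succ_nsmul, pow_succ, ← ih, em_mul]

theorem fμ_surjective {T : Module.End k A} (hT : IsDer T) (hinv : IsInv T) (hT0 : T ≠ 0)
    (hTp : T ^ p = T) : Function.Surjective (fμAlg p hT hTp) := by
  classical
  have hp : p.Prime := Fact.out
  obtain ⟨a, ha⟩ := counit_comp_ne_zero hinv hT0
  -- some nonzero eigenvalue with nonzero counit
  have hsum : CoalgebraStruct.counit (R := k) (T a) =
      ∑ i : ZMod p, cst k p i * CoalgebraStruct.counit (R := k) (proj p T i a) := by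
    conv_lhs => rw [← sum_proj p T a, map_sum, map_sum]
    refine Finset.sum_congr rfl fun i _ => ?_
    rw [T_proj p hTp, map_smul, smul_eq_mul]
  obtain ⟨i, hi0, hi⟩ : ∃ i : ZMod p, i ≠ 0 ∧
      CoalgebraStruct.counit (R := k) (proj p T i a) ≠ 0 := by
    by_contra hcon
    push Not at hcon
    apply ha
    rw [hsum]
    refine Finset.sum_eq_zero fun i _ => ?_
    by_cases hi : i = 0
    · rw [hi, cst_zero, zero_mul]
    · rw [hcon i hi, mul_zero]
  -- em i in the range
  have hrange : em (k := k) p i ∈ (fμAlg p hT hTp).range := by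
    refine ⟨(CoalgebraStruct.counit (R := k) (proj p T i a))⁻¹ • proj p T i a, ?_⟩
    change fμAlg p hT hTp ((CoalgebraStruct.counit (R := k) (proj p T i a))⁻¹ • proj p T i a) = _
    rw [map_smul, fμAlg_apply, fμ_apply]
    simp only [proj_proj p hTp]
    rw [Finset.sum_eq_single_of_mem i (Finset.mem_univ _)]
    · rw [if_pos rfl, smul_smul, inv_mul_cancel₀ hi, one_smul]
    · intro j _ hj
      rw [if_neg hj, map_zero, zero_smul]
  have hall : ∀ j : ZMod p, em (k := k) p j ∈ (fμAlg p hT hTp).range := by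
    intro j
    have hj : j = (j / i).val • i := by
      rw [nsmul_eq_mul, ZMod.natCast_val, ZMod.cast_id', id, div_mul_cancel₀ j hi0]
    rw [hj, em_nsmul]
    exact Subalgebra.pow_mem _ hrange _
  intro y
  rw [← AlgHom.mem_range]
  induction y using MonoidAlgebra.induction_on with
  | of g =>
    have : (MonoidAlgebra.of k (Multiplicative (ZMod p))) g = em p (Multiplicative.toAdd g) := by
      rw [em, ofAdd_toAdd]; rfl
    rw [this]
    exact hall _
  | add x y hx hy => exact Subalgebra.add_mem _ hx hy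
  | smul r x hx => exact Subalgebra.smul_mem _ hx r

theorem mu_case {T : Module.End k A} (hT : IsDer T) (hinv : IsInv T) (hT0 : T ≠ 0)
    (hTp : T ^ p = T) :
    ∃ f : A →ₐc[k] MonoidAlgebra k (Multiplicative (ZMod p)), Function.Surjective f := by
  refine ⟨BialgHom.ofAlgHom (fμAlg p hT hTp) ?_ ?_, ?_⟩
  · ext a
    exact fμ_counit p T a
  · ext a
    exact fμ_comul p hinv hTp a
  · exact fμ_surjective p hT hinv hT0 hTp

end mu

/-- Let k be an algebraically closed field of characteristic p > 0 and A a commutative Hopf algebra over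
k, finite-dimensional as a k-vector space and not reduced (a non-reduced finite group scheme G =
Spec A). Then G contains a subgroup scheme isomorphic to μ_p or to α_p: there is a surjective
bialgebra homomorphism from A onto the group algebra of the cyclic group of order p (the Hopf
algebra of μ_p, group elements group-like) or onto k[X]/(X^p) with X primitive (the Hopf algebra of
α_p). -/
theorem result (k : Type u) [Field k] [IsAlgClosed k]
    (p : ℕ) [Fact p.Prime] [CharP k p] (A : Type v) [CommRing A] [HopfAlgebra k A] [Module.Finite k A]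
    (hA : ¬ IsReduced A) :
    (∃ f : A →ₐc[k] MonoidAlgebra k (Multiplicative (ZMod p)), Function.Surjective f) ∨
      (∃ f : A →ₐc[k] AlphaP.A p k, Function.Surjective f) := by
  classical
  have hp : p.Prime := Fact.out
  obtain ⟨ξ, hξ0, hξ⟩ := exists_pointDer_of_not_isReduced (k := k) hA
  have hmem : dtil ξ ∈ invDer k A := dtil_mem_invDer ξ hξ
  have hd0 : dtil ξ ≠ 0 := by
    intro h
    apply hξ0
    ext a
    rw [← counit_dtil ξ a, h]
    simp
  have hne : invDer k A ≠ ⊥ := by
    intro h
    rw [h, Submodule.mem_bot] at hmem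
    exact hd0 hmem
  obtain ⟨u, hug, hu0, c, hc⟩ := Groth.Agent.S17325.result k p A (invDer k A)
    (fun u hu => pow_p_mem_invDer p hu) hne
  by_cases hc0 : c = 0
  · right
    rw [hc0, zero_smul] at hc
    exact alpha_case p hug.1 hug.2 hu0 hc
  · left
    have hp1 : 0 < p - 1 := by have := hp.two_le; omega
    obtain ⟨l, hl⟩ := IsAlgClosed.exists_pow_nat_eq (c⁻¹) hp1
    have hl0 : l ≠ 0 := by
      intro h
      rw [h, zero_pow hp1.ne'] at hl
      exact inv_ne_zero hc0 hl.symm
    have hTmem : l • u ∈ invDer k A := Submodule.smul_mem _ l hug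
    have hT0 : l • u ≠ 0 := smul_ne_zero hl0 hu0
    have hTp : (l • u) ^ p = l • u := by
      rw [_root_.smul_pow, hc, smul_smul]
      congr 1
      have : l ^ p = l ^ (p - 1) * l := by rw [← pow_succ, Nat.sub_add_cancel hp.pos]
      rw [this, hl, mul_assoc, mul_comm l c, ← mul_assoc, inv_mul_cancel₀ hc0, one_mul]
    exact mu_case p hTmem.1 hTmem.2 hT0 hTp

end Groth.Agent.S17330
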