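import Groth.Statements.S17331
import Mathlib
import Groth.Agent.Lib.helper12.FinHopf2
import Groth.Agent.S17330

set_option autoImplicit false
set_option linter.style.haveILetI false
universe u v
open Hopf

namespace Groth.Agent.S17331

/-- Let k be an algebraically closed field of characteristic p > 0, ℓ a prime, and A a commutative Hopf
algebra over k of dimension ℓ as a k-vector space (a finite group scheme G of prime order ℓ). If ℓ ≠
p then G ≅ ℤ/ℓ: A is isomorphic as a bialgebra to the algebra of k-valued functions on the cyclic
group of order ℓ. If ℓ = p then G is isomorphic to ℤ/p, μ_p or α_p: A is isomorphic as a bialgebra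
to the algebra of functions on the cyclic group of order p, to its group algebra (group elements
group-like), or to k[X]/(X^p) with X primitive. -/
theorem result (k : Type u) [Field k] [IsAlgClosed k]
    (p : ℕ) [Fact p.Prime] [CharP k p] (A : Type v) [CommRing A] [HopfAlgebra k A]
    (ℓ : ℕ) [Fact ℓ.Prime] (hA : Module.finrank k A = ℓ) :
    (ℓ ≠ p → Nonempty (A ≃ₐc[k] ConstGrp.F k (Multiplicative (ZMod ℓ)))) ∧
      (ℓ = p → Nonempty (A ≃ₐc[k] ConstGrp.F k (Multiplicative (ZMod p))) ∨
        Nonempty (A ≃ₐc[k] MonoidAlgebra k (Multiplicative (ZMod p))) ∨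
        Nonempty (A ≃ₐc[k] AlphaP.A p k)) := by
  classical
  have hl : ℓ.Prime := Fact.out
  have hp : p.Prime := Fact.out
  haveI : Module.Finite k A := Module.finite_of_finrank_pos (by rw [hA]; exact hl.pos)
  have hcase := Groth.Agent.H12FH.isReduced_or_of_finrank_prime (k := k) (A := A) hl hA
  have hnr_eq : ¬ IsReduced A → ℓ = p := by
    intro hnr
    rcases hcase with hred | ⟨h0, _⟩
    · exact absurd hred hnr
    · have hdvd : p ∣ ℓ := (CharP.cast_eq_zero_iff k p ℓ).1 h0
      exact ((Nat.prime_dvd_prime_iff_eq hp hl).1 hdvd).symm
  refine ⟨fun hne => ?_, fun heq => ?_⟩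
  · have hred : IsReduced A := by
      by_contra hnr
      exact hne (hnr_eq hnr)
    exact Groth.Agent.H12FH.nonempty_bialgEquiv_constGrp ℓ hA
  · by_cases hred : IsReduced A
    · left
      have := Groth.Agent.H12FH.nonempty_bialgEquiv_constGrp (k := k) (A := A) p (hA.trans heq)
      exact this
    · right
      have hAp : Module.finrank k A = p := hA.trans heq
      rcases Groth.Agent.S17330.result k p A hred with ⟨f, hf⟩ | ⟨f, hf⟩
      · left
        have hdim : Module.finrank k (MonoidAlgebra k (Multiplicative (ZMod p))) = p := by
          rw [Module.finrank_eq_card_basis (MonoidAlgebra.basis (Multiplicative (ZMod p)) k)]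
          rw [Fintype.card_multiplicative, ZMod.card]
        have hinj : Function.Injective f :=
          (LinearMap.injective_iff_surjective_of_finrank_eq_finrank (f := (f : A →ₗ[k] _))
            (hAp.trans hdim.symm)).2 hf
        exact ⟨BialgEquiv.ofBijective f ⟨hinj, hf⟩⟩
      · right
        have hdim : Module.finrank k (AlphaP.A p k) = p := by
          rw [Module.finrank_eq_card_basis (AlphaP.basis p k), Fintype.card_fin]
        have hinj : Function.Injective f :=
          (LinearMap.injective_iff_surjective_of_finrank_eq_finrank (f := (f : A →ₗ[k] _))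
            (hAp.trans hdim.symm)).2 hf
        exact ⟨BialgEquiv.ofBijective f ⟨hinj, hf⟩⟩

end Groth.Agent.S17331
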