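import Groth.Statements.S17332
import Mathlib

set_option autoImplicit false
universe u v w
open CAlg

namespace Groth.Agent.S17332



/-- Let k be a field, E and F finite sets, and O(E), O(F) the k-algebras of k-valued functions with
pointwise operations. Then every k-algebra homomorphism u : O(F) → O(E) is pull-back along a unique
map φ : E → F, i.e. u(g) = g ∘ φ for all g. (In the source k is algebraically closed; the printed
argument only uses that k is a field.) -/
theorem result (k : Type u) [Field k] (E : Type v) [Finite E]
    (F : Type w) [Finite F] (u : (F → k) →ₐ[k] (E → k)) :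
    ∃! φ : E → F, ∀ g : F → k, u g = g ∘ φ := by
  classical
  cases nonempty_fintype F
  have key : ∀ χ : (F → k) →ₐ[k] k, ∃ f : F, ∀ g : F → k, χ g = g f := by
    intro χ
    have hsum : ∑ f : F, χ (Pi.single f 1) = 1 := by
      rw [← map_sum]
      have : (∑ f : F, (Pi.single f (1 : k) : F → k)) = 1 := by
        ext x
        simp [Finset.sum_apply, Pi.single_apply]
      rw [this, map_one]
    have hex : ∃ f : F, χ (Pi.single f 1) ≠ 0 := by
      by_contra hcon
      push Not at hcon
      rw [Finset.sum_eq_zero (fun f _ => hcon f)] at hsum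
      exact zero_ne_one hsum
    obtain ⟨f₀, hf₀⟩ := hex
    refine ⟨f₀, fun g => ?_⟩
    have h1 : g * Pi.single f₀ (1 : k) = g f₀ • Pi.single f₀ (1 : k) := by
      ext x
      by_cases hx : x = f₀
      · subst hx; simp
      · simp [Pi.single_apply, hx]
    have h2 := congrArg χ h1
    rw [map_mul, map_smul, smul_eq_mul] at h2
    exact mul_right_cancel₀ hf₀ h2
  choose ψ hψ using fun e : E => key ((Pi.evalAlgHom k (fun _ : E => k) e).comp u)
  refine ⟨ψ, ?_, ?_⟩
  · intro g
    ext e
    exact hψ e g
  · intro φ hφ
    funext e
    have h1 := congrFun (hφ (Pi.single (ψ e) (1 : k))) e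
    have h2 := hψ e (Pi.single (ψ e) (1 : k))
    have h3 : u (Pi.single (ψ e) (1 : k)) e = (Pi.single (ψ e) (1 : k) : F → k) (ψ e) := h2
    rw [h3] at h1
    simp only [Pi.single_eq_same, Function.comp_apply] at h1
    by_contra hne
    rw [Pi.single_eq_of_ne hne] at h1
    exact one_ne_zero h1

end Groth.Agent.S17332
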