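import Groth.Statements.S17333
-- import your own Groth.Agent.* helpers here

set_option autoImplicit false
universe u v w
open CAlg

namespace Groth.Agent.S17333

/-- Let k be a field and A = B × C a decomposable commutative k-algebra. Then the natural map Der(B) ×
Der(C) → Der(A) is bijective: every k-derivation D : A → A is (b, c) ↦ (D₁ b, D₂ c) for a unique
pair of k-derivations D₁ : B → B, D₂ : C → C. Compatibility with brackets is not stated. (The
published statement takes k algebraically closed; this row takes any field.) -/
theorem result (k : Type u) [Field k] (B : Type v) [CommRing B] [Algebra k B]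
    (C : Type w) [CommRing C] [Algebra k C] (D : Derivation k (B × C) (B × C)) :
    ∃! P : Derivation k B B × Derivation k C C, ∀ (b : B) (c : C), D (b, c) = (P.1 b, P.2 c) := by
  have he1 : D ((1 : B), (0 : C)) = 0 := by
    have h := D.leibniz ((1 : B), (0 : C)) ((1 : B), (0 : C))
    have hmul : ((1 : B), (0 : C)) * ((1 : B), (0 : C)) = ((1 : B), (0 : C)) := by
      ext <;> simp
    rw [hmul] at h
    set x := D ((1 : B), (0 : C)) with hx
    have h1 : x.1 = 0 := by
      have := congrArg Prod.fst h
      simpa using this
    have h2 : x.2 = 0 := by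
      have := congrArg Prod.snd h
      simpa using this
    exact Prod.ext h1 h2
  have he2 : D ((0 : B), (1 : C)) = 0 := by
    have h := D.leibniz ((0 : B), (1 : C)) ((0 : B), (1 : C))
    have hmul : ((0 : B), (1 : C)) * ((0 : B), (1 : C)) = ((0 : B), (1 : C)) := by
      ext <;> simp
    rw [hmul] at h
    set x := D ((0 : B), (1 : C)) with hx
    have h2 : x.2 = 0 := by
      have := congrArg Prod.snd h
      simpa using this
    have h1 : x.1 = 0 := by
      have := congrArg Prod.fst h
      simpa using this
    exact Prod.ext h1 h2
  have hb : ∀ (b : B) (c : C), D (b, 0) = ((D (b, c)).1, 0) := by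
    intro b c
    have h := D.leibniz ((1 : B), (0 : C)) (b, c)
    have hmul : ((1 : B), (0 : C)) * (b, c) = (b, 0) := by ext <;> simp
    rw [hmul, he1] at h
    rw [h]
    ext <;> simp
  have hc : ∀ (b : B) (c : C), D (0, c) = (0, (D (b, c)).2) := by
    intro b c
    have h := D.leibniz ((0 : B), (1 : C)) (b, c)
    have hmul : ((0 : B), (1 : C)) * (b, c) = (0, c) := by ext <;> simp
    rw [hmul, he2] at h
    rw [h]
    ext <;> simp
  have hsplit : ∀ (b : B) (c : C), D (b, c) = ((D (b, 0)).1, (D (0, c)).2) := by
    intro b c
    rw [hb b c, hc b c]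
  let D₁ : Derivation k B B :=
    { toFun := fun b => (D (b, 0)).1
      map_add' := fun x y => by
        have : ((x + y, (0 : C)) : B × C) = (x, 0) + (y, 0) := by ext <;> simp
        rw [this, map_add]; rfl
      map_smul' := fun r x => by
        have : ((r • x, (0 : C)) : B × C) = r • (x, 0) := by ext <;> simp
        rw [this, D.map_smul]; rfl
      map_one_eq_zero' := by
        show (D ((1 : B), (0 : C))).1 = 0
        rw [he1]; rfl
      leibniz' := fun x y => by
        have : ((x * y, (0 : C)) : B × C) = (x, 0) * (y, 0) := by ext <;> simp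
        show (D (x * y, 0)).1 = x • (D (y, 0)).1 + y • (D (x, 0)).1
        rw [this, D.leibniz]
        simp }
  let D₂ : Derivation k C C :=
    { toFun := fun c => (D (0, c)).2
      map_add' := fun x y => by
        have : (((0 : B), x + y) : B × C) = (0, x) + (0, y) := by ext <;> simp
        rw [this, map_add]; rfl
      map_smul' := fun r x => by
        have : (((0 : B), r • x) : B × C) = r • (0, x) := by ext <;> simp
        rw [this, D.map_smul]; rfl
      map_one_eq_zero' := by
        show (D ((0 : B), (1 : C))).2 = 0
        rw [he2]; rfl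
      leibniz' := fun x y => by
        have : (((0 : B), x * y) : B × C) = (0, x) * (0, y) := by ext <;> simp
        show (D (0, x * y)).2 = x • (D (0, y)).2 + y • (D (0, x)).2
        rw [this, D.leibniz]
        simp }
  refine ⟨(D₁, D₂), fun b c => hsplit b c, ?_⟩
  rintro ⟨P₁, P₂⟩ hP
  have h1 : P₁ = D₁ := by
    ext b
    have := hP b 0
    show P₁ b = (D (b, 0)).1
    rw [this]
  have h2 : P₂ = D₂ := by
    ext c
    have := hP 0 c
    show P₂ c = (D (0, c)).2
    rw [this]
  rw [h1, h2]

end Groth.Agent.S17333
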