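import Groth.Statements.S17334
import Mathlib

set_option autoImplicit false
universe u v
open CAlg

namespace Groth.Agent.S17334



/-- Let k be a field and A a nonzero commutative k-algebra which is finite-dimensional as a k-vector
space. Then A is indecomposable (no decomposition as a product of two nonzero rings, i.e. no
idempotent other than 0 and 1) if and only if A is a local ring. (In the source k is algebraically
closed and the lemma adds that the maximal ideal is then the nilradical, is nilpotent, and has
residue field k; the equivalence itself uses only that k is a field, and the zero algebra is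
excluded here explicitly.) -/
theorem result (k : Type u) [Field k]
    (A : Type v) [CommRing A] [Algebra k A] [Module.Finite k A] [Nontrivial A] :
    (∀ e : A, IsIdempotentElem e → e = 0 ∨ e = 1) ↔ IsLocalRing A := by
  constructor
  · intro h
    haveI : IsArtinianRing A := IsArtinianRing.of_finite k A
    obtain ⟨m, hm⟩ := Ideal.exists_maximal A
    refine IsLocalRing.of_unique_max_ideal ⟨m, hm, ?_⟩
    intro q hq
    by_contra hne
    haveI := hm.isPrime
    obtain ⟨r, hr, hidem, hall⟩ := IsArtinianRing.exists_not_mem_forall_mem_of_ne m
    rcases h r hidem with h0 | h1
    · exact hr (h0 ▸ m.zero_mem)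
    · have := hall q hq.isPrime hne
      rw [h1] at this
      exact hq.ne_top ((Ideal.eq_top_iff_one q).2 this)
  · intro hloc e he
    rcases IsLocalRing.isUnit_or_isUnit_one_sub_self e with hu | hu
    · right
      have h1 : e * (1 - e) = 0 := by
        rw [mul_sub, mul_one, he.eq, sub_self]
      have := hu.mul_right_eq_zero.mp h1
      exact (sub_eq_zero.mp this).symm
    · left
      have h1 : (1 - e) * e = 0 := by
        rw [sub_mul, one_mul, he.eq, sub_self]
      exact hu.mul_right_eq_zero.mp h1

end Groth.Agent.S17334
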