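import Groth.Statements.S17336
import Mathlib
import Groth.Agent.Lib.helper26.FinAlg

set_option autoImplicit false
universe u v
open CAlg

namespace Groth.Agent.S17336



/-- Let k be an algebraically closed field and A a commutative k-algebra which is finite-dimensional as
a k-vector space (a finite scheme X = Spec A with largest reduced subscheme X_red = Spec
(A/nilradical A) and immersion i : X_red → X). Then there is a unique morphism r : X → X_red with r
∘ i = id; on rings: the projection A → A/nilradical(A) admits exactly one section that is a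
k-algebra homomorphism. -/
theorem result (k : Type u) [Field k]
    [IsAlgClosed k] (A : Type v) [CommRing A] [Algebra k A] [Module.Finite k A] :
    ∃! s : (A ⧸ nilradical A) →ₐ[k] A,
      (Ideal.Quotient.mkₐ k (nilradical A)).comp s = AlgHom.id k (A ⧸ nilradical A) := by
  classical
  haveI := Groth.Agent.Lib.helper26.FinAlg.finite_algHom k A
  cases nonempty_fintype (A →ₐ[k] k)
  obtain ⟨σ, hσ⟩ := Groth.Agent.Lib.helper26.FinAlg.exists_section k A
  have hσ' : ∀ c, Groth.Agent.Lib.helper26.FinAlg.ev k A (σ c) = c := fun c =>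
    congrFun (congrArg DFunLike.coe hσ) c
  have hkill : ∀ a ∈ nilradical A, Groth.Agent.Lib.helper26.FinAlg.ev k A a = 0 := by
    intro a ha
    rw [← Groth.Agent.Lib.helper26.FinAlg.ker_ev k A] at ha
    exact ha
  let evbar : (A ⧸ nilradical A) →ₐ[k] ((A →ₐ[k] k) → k) :=
    Ideal.Quotient.liftₐ (nilradical A) (Groth.Agent.Lib.helper26.FinAlg.ev k A) hkill
  have hevbar : ∀ a : A, evbar (Ideal.Quotient.mk (nilradical A) a) =
      Groth.Agent.Lib.helper26.FinAlg.ev k A a := fun a => rfl
  have hmk : ∀ a : A, Ideal.Quotient.mk (nilradical A) (σ (Groth.Agent.Lib.helper26.FinAlg.ev k A a))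
      = Ideal.Quotient.mk (nilradical A) a := by
    intro a
    rw [Ideal.Quotient.eq, ← Groth.Agent.Lib.helper26.FinAlg.ker_ev k A, RingHom.mem_ker, map_sub,
      hσ', sub_self]
  refine ⟨σ.comp evbar, ?_, ?_⟩
  · apply AlgHom.ext
    intro x
    obtain ⟨a, rfl⟩ := Ideal.Quotient.mk_surjective x
    exact hmk a
  · intro s' hs'
    have hs'' : ∀ x, Ideal.Quotient.mk (nilradical A) (s' x) = x := fun x =>
      congrFun (congrArg DFunLike.coe hs') x
    apply AlgHom.ext
    intro x
    obtain ⟨a, rfl⟩ := Ideal.Quotient.mk_surjective x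
    show s' (Ideal.Quotient.mk (nilradical A) a) = σ (Groth.Agent.Lib.helper26.FinAlg.ev k A a)
    set c := Groth.Agent.Lib.helper26.FinAlg.ev k A a with hc
    rw [← hmk a, ← hc]
    have hcsum := Groth.Agent.Lib.helper26.FinAlg.pi_eq_sum_single k A c
    have key : ∀ χ : A →ₐ[k] k, s' (Ideal.Quotient.mk (nilradical A) (σ (Pi.single χ (1 : k))))
        = σ (Pi.single χ (1 : k)) := by
      intro χ
      have hidem : IsIdempotentElem (Pi.single χ (1 : k) : (A →ₐ[k] k) → k) := by
        unfold IsIdempotentElem
        rw [← Pi.single_mul, mul_one]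
      apply Groth.Agent.Lib.helper26.FinAlg.idem_eq_of_ev_eq k A
      · exact ((hidem.map σ).map (Ideal.Quotient.mk (nilradical A))).map s'
      · exact hidem.map σ
      · rw [← hevbar, hs'', hevbar]
    conv_lhs => rw [hcsum]
    conv_rhs => rw [hcsum]
    simp only [map_sum, map_smul]
    apply Finset.sum_congr rfl
    intro χ _
    have e : Ideal.Quotient.mk (nilradical A) (c χ • σ (Pi.single χ (1 : k)))
        = c χ • Ideal.Quotient.mk (nilradical A) (σ (Pi.single χ (1 : k))) :=
      map_smul (Ideal.Quotient.mkₐ k (nilradical A)) (c χ) (σ (Pi.single χ (1 : k)))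
    rw [e, map_smul, key χ]

end Groth.Agent.S17336
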