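import Groth.Statements.S1734
import Mathlib

set_option autoImplicit false
universe u
open LocCoh

namespace Groth.Agent.S1734

section
variable {A : Type u} [CommRing A]

theorem mem_span_update {r : ℕ} (f : Fin (r + 1) → A) (c x : A) :
    x ∈ Ideal.span (Set.range (Function.update f (Fin.last r) c)) ↔
      ∃ (a : Fin r → A) (b : A), x = ∑ i, a i * f i.castSucc + b * c := by
  rw [Ideal.mem_span_range_iff_exists_fun]
  constructor
  · rintro ⟨c', rfl⟩
    refine ⟨fun i => c' i.castSucc, c' (Fin.last r), ?_⟩
    rw [Fin.sum_univ_castSucc]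
    simp only [Function.update_self, Function.update_of_ne (Fin.castSucc_lt_last _).ne]
  · rintro ⟨a, b, rfl⟩
    refine ⟨Fin.snoc (α := fun _ => A) a b, ?_⟩
    rw [Fin.sum_univ_castSucc]
    simp only [Function.update_self, Function.update_of_ne (Fin.castSucc_lt_last _).ne,
      Fin.snoc_castSucc, Fin.snoc_last]

theorem mem_span_self {r : ℕ} (f : Fin (r + 1) → A) (x : A) :
    x ∈ Ideal.span (Set.range f) ↔
      ∃ (a : Fin r → A) (b : A), x = ∑ i, a i * f i.castSucc + b * f (Fin.last r) := by
  rw [← mem_span_update f (f (Fin.last r)) x, Function.update_eq_self]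

theorem result' (r : ℕ) (f : Fin (r + 1) → A) (g : A)
    (h : Dual2.Independent (Function.update f (Fin.last r) (f (Fin.last r) * g))) :
    Module.length A (A ⧸ Ideal.span (Set.range (Function.update f (Fin.last r) (f (Fin.last r) * g)))) =
      Module.length A (A ⧸ Ideal.span (Set.range f)) +
        Module.length A (A ⧸ Ideal.span (Set.range (Function.update f (Fin.last r) g))) := by
  set fr := f (Fin.last r) with hfr
  set I₁ := Ideal.span (Set.range (Function.update f (Fin.last r) (fr * g))) with hI₁
  set I₂ := Ideal.span (Set.range (Function.update f (Fin.last r) g)) with hI₂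
  set I₃ := Ideal.span (Set.range f) with hI₃
  have h12 : I₁ ≤ I₂ := by
    intro x hx
    obtain ⟨a, b, rfl⟩ := (mem_span_update f _ x).1 hx
    exact (mem_span_update f _ _).2 ⟨a, b * fr, by ring⟩
  have h13 : I₁ ≤ I₃ := by
    intro x hx
    obtain ⟨a, b, rfl⟩ := (mem_span_update f _ x).1 hx
    exact (mem_span_self f _).2 ⟨a, b * g, by ring⟩
  have hmul : I₂ ≤ Submodule.comap (LinearMap.mulLeft A fr) I₁ := by
    intro x hx
    obtain ⟨a, b, rfl⟩ := (mem_span_update f _ x).1 hx
    rw [Submodule.mem_comap, LinearMap.mulLeft_apply]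
    refine (mem_span_update f _ _).2 ⟨fun i => fr * a i, b, ?_⟩
    rw [mul_add, Finset.mul_sum]
    congr 1
    · exact Finset.sum_congr rfl fun i _ => by ring
    · ring
  have hcolon : ∀ x, fr * x ∈ I₁ → x ∈ I₂ := by
    intro x hx
    obtain ⟨a, b, hab⟩ := (mem_span_update f _ _).1 hx
    have hrel := h (Fin.snoc (α := fun _ => A) (fun i => a i * g) (b * g - x)) (by
      rw [Fin.sum_univ_castSucc]
      simp only [Function.update_self, Function.update_of_ne (Fin.castSucc_lt_last _).ne,
        Fin.snoc_castSucc, Fin.snoc_last]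
      have : ∑ i : Fin r, a i * g * f i.castSucc = g * ∑ i : Fin r, a i * f i.castSucc := by
        rw [Finset.mul_sum]; exact Finset.sum_congr rfl fun i _ => by ring
      rw [this]
      linear_combination (-g) * hab) (Fin.last r)
    rw [Fin.snoc_last] at hrel
    have h2 : b * g ∈ I₂ := (mem_span_update f _ _).2 ⟨0, b, by simp⟩
    have : x = b * g - (b * g - x) := by ring
    rw [this]
    exact I₂.sub_mem h2 (h12 hrel)
  let i : (A ⧸ I₂) →ₗ[A] (A ⧸ I₁) := Submodule.mapQ I₂ I₁ (LinearMap.mulLeft A fr) hmul
  let p : (A ⧸ I₁) →ₗ[A] (A ⧸ I₃) := Submodule.mapQ I₁ I₃ LinearMap.id h13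
  have hi : Function.Injective i := by
    rw [← LinearMap.ker_eq_bot, LinearMap.ker_eq_bot']
    intro q hq
    obtain ⟨x, rfl⟩ := Submodule.Quotient.mk_surjective _ q
    rw [Submodule.mapQ_apply, LinearMap.mulLeft_apply, Submodule.Quotient.mk_eq_zero] at hq
    exact (Submodule.Quotient.mk_eq_zero _).2 (hcolon x hq)
  have hp : Function.Surjective p := by
    intro q
    obtain ⟨x, rfl⟩ := Submodule.Quotient.mk_surjective _ q
    exact ⟨Submodule.Quotient.mk x, rfl⟩
  have hex : Function.Exact i p := by
    intro y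
    obtain ⟨x, rfl⟩ := Submodule.Quotient.mk_surjective _ y
    rw [Submodule.mapQ_apply, LinearMap.id_apply, Submodule.Quotient.mk_eq_zero]
    constructor
    · intro hx
      obtain ⟨a, b, rfl⟩ := (mem_span_self f _).1 hx
      refine ⟨Submodule.Quotient.mk b, ?_⟩
      rw [Submodule.mapQ_apply, LinearMap.mulLeft_apply, Submodule.Quotient.eq]
      refine (mem_span_update f _ _).2 ⟨fun i => - a i, 0, ?_⟩
      simp only [neg_mul, Finset.sum_neg_distrib, zero_mul, add_zero]
      ring
    · rintro ⟨z, hz⟩
      obtain ⟨z, rfl⟩ := Submodule.Quotient.mk_surjective _ z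
      rw [Submodule.mapQ_apply, LinearMap.mulLeft_apply, Submodule.Quotient.eq] at hz
      have h1 : fr * z ∈ I₃ := (mem_span_self f _).2 ⟨0, z, by
        simp only [Pi.zero_apply, zero_mul, Finset.sum_const_zero, zero_add]; exact mul_comm _ _⟩
      have : x = fr * z - (fr * z - x) := by ring
      rw [this]
      exact I₃.sub_mem h1 (h13 hz)
  rw [Module.length_eq_add_of_exact i p hi hp hex, add_comm]
end

/-- Let f_1, …, f_r, g be elements of a ring A (r ≥ 1) such that f_1, …, f_{r-1}, f_r g is independent
and A/(f_1, …, f_{r-1}, f_r g) has finite length. Then length A/(f_1, …, f_{r-1}, f_r g) = length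
A/(f_1, …, f_r) + length A/(f_1, …, f_{r-1}, g). -/
theorem result (A : Type u) [CommRing A] (r : ℕ) (f : Fin (r + 1) → A) (g : A) (h : Dual2.Independent (Function.update f (Fin.last r) (f (Fin.last r) * g))) (hfin : IsFiniteLength A (A ⧸ Ideal.span (Set.range (Function.update f (Fin.last r) (f (Fin.last r) * g))))) : Module.length A (A ⧸ Ideal.span (Set.range (Function.update f (Fin.last r) (f (Fin.last r) * g)))) = Module.length A (A ⧸ Ideal.span (Set.range f)) + Module.length A (A ⧸ Ideal.span (Set.range (Function.update f (Fin.last r) g))) := by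
  exact result' r f g h

end Groth.Agent.S1734
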