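import Groth.Statements.S1735
import Mathlib
import Groth.Agent.Lib.helper19.Chevalley

set_option autoImplicit false
universe u
open LocCoh

namespace Groth.Agent.S1735

theorem closed_of_krull {S : Type u} [CommRing S] [IsLocalRing S] [IsNoetherianRing S]
    (I : Ideal S) (x : S) (hx : ∀ n, x ∈ I ⊔ IsLocalRing.maximalIdeal S ^ n) : x ∈ I := by
  have h := Ideal.iInf_pow_smul_eq_bot_of_isLocalRing (R := S) (M := S ⧸ I)
    (I := IsLocalRing.maximalIdeal S) (Ideal.IsPrime.ne_top inferInstance)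
  have hmem : (Ideal.Quotient.mk I x : S ⧸ I) ∈
      (⨅ i : ℕ, IsLocalRing.maximalIdeal S ^ i • ⊤ : Submodule S (S ⧸ I)) := by
    rw [Submodule.mem_iInf]
    intro n
    obtain ⟨a, ha, b, hb, rfl⟩ := Submodule.mem_sup.mp (hx n)
    rw [map_add, Ideal.Quotient.eq_zero_iff_mem.mpr ha, zero_add]
    have : (Ideal.Quotient.mk I b : S ⧸ I) = b • (1 : S ⧸ I) := by
      rw [Algebra.smul_def, mul_one]
      rfl
    rw [this]
    exact Submodule.smul_mem_smul hb Submodule.mem_top
  rw [h] at hmem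
  exact Ideal.Quotient.eq_zero_iff_mem.mp ((Submodule.mem_bot _).mp hmem)

/-- Chevalley's lemma. -/
theorem chevalley {S : Type u} [CommRing S] [IsLocalRing S] [IsNoetherianRing S]
    [IsAdicComplete (IsLocalRing.maximalIdeal S) S]
    (I : ℕ → Ideal S) (hI : Antitone I) (hbot : ⨅ n, I n = ⊥) (e : ℕ) :
    ∃ n, I n ≤ IsLocalRing.maximalIdeal S ^ e := by
  let J : ℕ → Ideal S := fun n => I n ⊔ IsLocalRing.maximalIdeal S ^ n
  have hJ : Antitone J := fun a b hab => sup_le_sup (hI hab) (Ideal.pow_le_pow_right hab)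
  have hJm : ∀ n, ∃ N, IsLocalRing.maximalIdeal S ^ N ≤ J n := fun n => ⟨n, le_sup_right⟩
  obtain ⟨n, hn⟩ := Groth.Agent.Lib.helper19.exists_le_iInf_sup_pow J hJ hJm e
  have hinf : ⨅ n, J n = ⊥ := by
    rw [eq_bot_iff, ← hbot]
    refine le_iInf fun j => ?_
    intro x hx
    have hx' : ∀ n, x ∈ I j ⊔ IsLocalRing.maximalIdeal S ^ n := by
      intro n
      have h1 : x ∈ J (max n j) := (Submodule.mem_iInf _).mp hx (max n j)
      exact (sup_le_sup (hI (le_max_right n j)) (Ideal.pow_le_pow_right (le_max_left n j))) h1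
    exact closed_of_krull (I j) x hx'
  refine ⟨n, le_trans le_sup_left (hn.trans ?_)⟩
  rw [hinf, bot_sup_eq]

/-- primes strictly above a prime of coheight one are maximal. -/
theorem eq_maximal_of_lt {A : Type u} [CommRing A] [IsLocalRing A] (p : Ideal A) [p.IsPrime]
    (hp : ringKrullDim (A ⧸ p) = 1) (P : Ideal A) [hP : P.IsPrime] (hpP : p < P) :
    P = IsLocalRing.maximalIdeal A := by
  by_contra hne
  have hPm : P < IsLocalRing.maximalIdeal A :=
    lt_of_le_of_ne (IsLocalRing.le_maximalIdeal hP.ne_top) hne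
  rw [ringKrullDim_quotient] at hp
  let a : PrimeSpectrum.zeroLocus (p : Set A) := ⟨⟨p, inferInstance⟩, by
    rw [PrimeSpectrum.mem_zeroLocus]⟩
  let b : PrimeSpectrum.zeroLocus (p : Set A) := ⟨⟨P, hP⟩, by
    rw [PrimeSpectrum.mem_zeroLocus]
    exact hpP.le⟩
  let c : PrimeSpectrum.zeroLocus (p : Set A) := ⟨⟨IsLocalRing.maximalIdeal A, inferInstance⟩, by
    rw [PrimeSpectrum.mem_zeroLocus]
    exact (hpP.trans hPm).le⟩
  have hab : a < b := hpP
  have hbc : b < c := hPm
  let s : LTSeries (PrimeSpectrum.zeroLocus (p : Set A)) :=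
    ((RelSeries.singleton _ a).snoc b hab).snoc c (by
      rw [RelSeries.last_snoc]
      exact hbc)
  have hlen : s.length = 2 := rfl
  have h1 := Order.LTSeries.length_le_krullDim s
  rw [hp, hlen] at h1
  have : ((2 : ℕ) : WithBot ℕ∞) ≤ ((1 : ℕ) : WithBot ℕ∞) := by exact_mod_cast h1
  have h2 : (2 : ℕ) ≤ 1 := by exact_mod_cast this
  omega

/-- Let A be a complete Noetherian local domain and p a prime ideal with dim(A/p) = 1. For every n ≥ 1
there is m ≥ n such that the m-th symbolic power of p (the contraction of p^m A_p to A) is contained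
in p^n. -/
theorem result (A : Type u) [CommRing A] [IsDomain A] [IsLocalRing A] [IsNoetherianRing A] [IsAdicComplete (IsLocalRing.maximalIdeal A) A] (p : Ideal A) [p.IsPrime] (hp : ringKrullDim (A ⧸ p) = 1) (n : ℕ) (hn : 1 ≤ n) : ∃ m : ℕ, n ≤ m ∧ ((Ideal.map (algebraMap A (Localization.AtPrime p)) p) ^ m).comap (algebraMap A (Localization.AtPrime p)) ≤ p ^ n := by
  classical
  let φ := algebraMap A (Localization.AtPrime p)
  let Is : ℕ → Ideal A := fun m => ((p.map φ) ^ m).comap φ
  have hIs : Antitone Is := fun a b hab => Ideal.comap_mono (Ideal.pow_le_pow_right hab)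
  have hφinj : Function.Injective φ := by
    apply IsLocalization.injective (Localization.AtPrime p) (M := p.primeCompl)
    apply le_nonZeroDivisors_of_noZeroDivisors
    intro h0
    exact h0 p.zero_mem
  have hbot : ⨅ m, Is m = ⊥ := by
    rw [eq_bot_iff]
    intro x hx
    have h1 : φ x ∈ ⨅ i : ℕ, (p.map φ) ^ i := by
      rw [Submodule.mem_iInf]
      intro m
      exact (Submodule.mem_iInf _).mp hx m
    rw [Ideal.iInf_pow_eq_bot_of_isLocalRing (p.map φ) (by
      rw [Localization.AtPrime.map_eq_maximalIdeal]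
      exact Ideal.IsPrime.ne_top inferInstance)] at h1
    rw [Ideal.mem_bot]
    exact hφinj (by rw [(Ideal.mem_bot).mp h1, map_zero])
  -- an element outside `p` carrying `Is n` into `p ^ n`
  have hloc : ∀ g ∈ Is n, ∃ s : A, s ∉ p ∧ g * s ∈ p ^ n := by
    intro g hg
    have h1 : φ g ∈ (p ^ n).map φ := by
      rw [Ideal.map_pow]
      exact hg
    obtain ⟨⟨a, s⟩, has⟩ := (IsLocalization.mem_map_algebraMap_iff p.primeCompl _).mp h1
    refine ⟨s, s.2, ?_⟩
    have : g * s = a := hφinj (by rw [map_mul]; exact has)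
    rw [this]
    exact a.2
  obtain ⟨G, hG⟩ := (isNoetherian_def.mp inferInstance (Is n) : (Is n).FG)
  choose! sf hsf1 hsf2 using hloc
  let s : A := ∏ g ∈ G, sf g
  have hGmem : ∀ g ∈ G, g ∈ Is n := fun g hg => hG ▸ Ideal.subset_span hg
  have hs : s ∉ p := by
    intro h
    obtain ⟨g, hg, hgp⟩ := (Ideal.IsPrime.prod_mem_iff).mp h
    exact hsf1 g (hGmem g hg) hgp
  let Q : Ideal A := (p ^ n).colon (Is n : Set A)
  have hsQ : s ∈ Q := by
    rw [Submodule.mem_colon]
    intro x hx
    have hx' : x ∈ Submodule.span A (G : Set A) := by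
      rw [hG]
      exact hx
    refine Submodule.span_induction ?_ ?_ ?_ ?_ hx'
    · intro g hg
      obtain ⟨c, hc⟩ := Finset.dvd_prod_of_mem sf hg
      change s * g ∈ p ^ n
      have : s * g = c * (g * sf g) := by
        change (∏ g ∈ G, sf g) * g = _
        rw [hc]
        ring
      rw [this]
      exact Ideal.mul_mem_left _ _ (hsf2 g (hGmem g hg))
    · simp
    · intro u v _ _ hu hv
      rw [smul_add]
      exact Ideal.add_mem _ hu hv
    · intro a u _ hu
      rw [smul_comm]
      exact Ideal.mul_mem_left _ _ hu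
  have hpQ : p ^ n ≤ Q := by
    intro a ha
    rw [Submodule.mem_colon]
    intro x _
    exact Ideal.mul_mem_right _ _ ha
  have hrad : IsLocalRing.maximalIdeal A ≤ Q.radical := by
    rw [Ideal.radical_eq_sInf]
    refine le_sInf ?_
    rintro P ⟨hQP, hPprime⟩
    have hpP : p ≤ P := hPprime.le_of_pow_le (hpQ.trans hQP)
    have hne : p ≠ P := fun h => hs (h ▸ hQP hsQ)
    haveI := hPprime
    rw [eq_maximal_of_lt p hp P (lt_of_le_of_ne hpP hne)]
  obtain ⟨k, hk⟩ := Ideal.exists_pow_le_of_le_radical_of_fg hrad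
    (isNoetherian_def.mp inferInstance _)
  have hmul : IsLocalRing.maximalIdeal A ^ k * Is n ≤ p ^ n := by
    rw [Ideal.mul_le]
    intro a ha x hx
    exact (Submodule.mem_colon.mp (hk ha)) x hx
  -- Artin–Rees
  obtain ⟨c, hc⟩ := Ideal.exists_pow_inf_eq_pow_smul (IsLocalRing.maximalIdeal A)
    (Is n : Submodule A A)
  have hAR : IsLocalRing.maximalIdeal A ^ (k + c) ⊓ Is n ≤ p ^ n := by
    have h1 := hc (k + c) (Nat.le_add_left c k)
    rw [Nat.add_sub_cancel] at h1
    have h2 : (IsLocalRing.maximalIdeal A ^ (k + c) • (⊤ : Submodule A A)) =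
        IsLocalRing.maximalIdeal A ^ (k + c) := by
      rw [smul_eq_mul, Ideal.mul_top]
    rw [h2] at h1
    rw [h1]
    refine le_trans ?_ hmul
    rw [smul_eq_mul]
    exact Ideal.mul_mono_right inf_le_right
  obtain ⟨m0, hm0⟩ := chevalley Is hIs hbot (k + c)
  refine ⟨max m0 n, le_max_right _ _, ?_⟩
  refine le_trans ?_ hAR
  exact le_inf ((hIs (le_max_left m0 n)).trans hm0) (hIs (le_max_right m0 n))

end Groth.Agent.S1735
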