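import Groth.Statements.S17360
import Mathlib

set_option autoImplicit false
universe u
open scoped TensorProduct
open AzInv

namespace Groth.Agent.S17360

section Two
variable {R : Type u} [CommRing R]

/-- sign -/
def sg (R : Type*) [CommRing R] (k l : Fin 2) : R := if k = l then 1 else -1

lemma sg_mul_self (k l : Fin 2) : sg R k l * sg R k l = 1 := by
  unfold sg; split_ifs <;> simp

lemma J_entry (J : (Matrix (Fin 2) (Fin 2) R)ˣ)
    (hJ : (↑J : Matrix (Fin 2) (Fin 2) R) = Matrix.of ![![0, -1], ![1, 0]])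
    (M : Matrix (Fin 2) (Fin 2) R) (k l : Fin 2) :
    ((↑J : Matrix (Fin 2) (Fin 2) R) * Matrix.transpose M *
      (↑J⁻¹ : Matrix (Fin 2) (Fin 2) R)) k l = sg R k l * M (Fin.rev l) (Fin.rev k) := by
  have hJinv : (↑J⁻¹ : Matrix (Fin 2) (Fin 2) R) = Matrix.of ![![0, 1], ![-1, 0]] := by
    apply Units.inv_eq_of_mul_eq_one_right
    rw [hJ]; ext i j; fin_cases i <;> fin_cases j <;> simp [Matrix.mul_apply, Fin.sum_univ_two]
  rw [hJ, hJinv]
  fin_cases k <;> fin_cases l <;> simp [Matrix.mul_apply, Fin.sum_univ_two, sg, Fin.rev, Matrix.vecMul, dotProduct]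

lemma tprime_entry (hlam : ∀ r : R, (AlgEquiv.refl : R ≃ₐ[R] R) ((AlgEquiv.refl : R ≃ₐ[R] R) r) = r)
    (J : (Matrix (Fin 2) (Fin 2) R)ˣ)
    (hJ : (↑J : Matrix (Fin 2) (Fin 2) R) = Matrix.of ![![0, -1], ![1, 0]])
    (hJt : AzInv.LamInv.transpose (AlgEquiv.refl : R ≃ₐ[R] R) (Fin 2) hlam (↑J : Matrix (Fin 2) (Fin 2) R) = (-1 : R) • (↑J : Matrix (Fin 2) (Fin 2) R))
    (hneg : (AlgEquiv.refl : R ≃ₐ[R] R) (-1) * (-1) = 1) (n' : ℕ)
    (b : Matrix (Fin n') (Fin n') (Matrix (Fin 2) (Fin 2) R)) (i j : Fin n') (k l : Fin 2) :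
    (((AzInv.LamInv.transpose (AlgEquiv.refl : R ≃ₐ[R] R) (Fin 2) hlam).conj J (-1) hJt hneg).matrix
      (Fin n') b) i j k l = sg R k l * b j i (Fin.rev l) (Fin.rev k) := by
  rw [LamInv.matrix_apply, LamInv.conj_apply]
  have : (LamInv.transpose (AlgEquiv.refl : R ≃ₐ[R] R) (Fin 2) hlam) (b j i) =
      Matrix.transpose (b j i) := by
    ext a c; rfl
  rw [this]; exact J_entry J hJ (b j i) k l

end Two


section Source
variable {R : Type u} [CommRing R] (S' : Type u) [CommRing S'] [Algebra R S'] (n : ℕ)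
   (hlam : ∀ r : R, (AlgEquiv.refl : R ≃ₐ[R] R) ((AlgEquiv.refl : R ≃ₐ[R] R) r) = r)

/-- the diagonal idempotents -/
noncomputable def ee (i : Fin n) : S' ⊗[R] Matrix (Fin n) (Fin n) R :=
  (1 : S') ⊗ₜ[R] Matrix.single i i (1 : R)

/-- the diagonal coefficient functionals -/
noncomputable def φ (i : Fin n) : S' ⊗[R] Matrix (Fin n) (Fin n) R →ₗ[S'] S' :=
  (TensorProduct.AlgebraTensorModule.rid R S' S').toLinearMap ∘ₗ
    (LinearMap.baseChange S' (Matrix.entryLinearMap R R i i))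

lemma φ_tmul (i : Fin n) (s : S') (a : Matrix (Fin n) (Fin n) R) :
    φ S' n i (s ⊗ₜ[R] a) = a i i • s := by
  simp [φ]

lemma sum_ee : ∑ i, ee S' n i = (1 : S' ⊗[R] Matrix (Fin n) (Fin n) R) := by
  simp only [ee]
  rw [← TensorProduct.tmul_sum, Matrix.sum_single_one]
  rfl

lemma ee_mul (i : Fin n) (x : S' ⊗[R] Matrix (Fin n) (Fin n) R) :
    ee S' n i * x * ee S' n i = φ S' n i x • ee S' n i := by
  induction x using TensorProduct.induction_on with
  | zero => simp
  | add x y hx hy => rw [mul_add, add_mul, hx, hy, map_add, add_smul]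
  | tmul s a =>
    rw [φ_tmul, ee, Algebra.TensorProduct.tmul_mul_tmul, Algebra.TensorProduct.tmul_mul_tmul,
      Matrix.single_mul_mul_single, one_mul, mul_one, one_mul, mul_one, TensorProduct.smul_tmul',
      smul_eq_mul, mul_one]
    rw [show Matrix.single i i (a i i) = a i i • Matrix.single i i (1 : R) by
      rw [Matrix.smul_single, smul_eq_mul, mul_one]]
    rw [TensorProduct.tmul_smul, TensorProduct.smul_tmul']

lemma φ_T (i : Fin n) (x : S' ⊗[R] Matrix (Fin n) (Fin n) R) :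
    φ S' n i (((LamInv.self (AlgEquiv.refl : R ≃ₐ[R] R) hlam).matrix (Fin n)).bc R
      (AlgEquiv.refl : R ≃ₐ[R] R) S' x) = φ S' n i x := by
  induction x using TensorProduct.induction_on with
  | zero => simp
  | add x y hx hy => rw [map_add, map_add, hx, hy, map_add]
  | tmul s a =>
    rw [LamInv.bc_tmul, φ_tmul, φ_tmul]
    rfl

lemma T_ee (i : Fin n) :
    ((LamInv.self (AlgEquiv.refl : R ≃ₐ[R] R) hlam).matrix (Fin n)).bc R
      (AlgEquiv.refl : R ≃ₐ[R] R) S' (ee S' n i) = ee S' n i := by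
  rw [ee, LamInv.bc_tmul]
  congr 1
  ext a c
  rw [LamInv.matrix_apply]
  show Matrix.single i i (1 : R) c a = Matrix.single i i (1 : R) a c
  simp only [Matrix.single_apply]
  by_cases h1 : i = a <;> by_cases h2 : i = c <;> simp [h1, h2]

lemma ee_skew (h2 : IsUnit (2 : S')) (i : Fin n) (z : S' ⊗[R] Matrix (Fin n) (Fin n) R)
    (hz : ((LamInv.self (AlgEquiv.refl : R ≃ₐ[R] R) hlam).matrix (Fin n)).bc R
      (AlgEquiv.refl : R ≃ₐ[R] R) S' z = -z) : ee S' n i * z * ee S' n i = 0 := by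
  rw [ee_mul]
  have h := φ_T S' n hlam i z
  rw [hz, map_neg] at h
  have h3 : (2 : S') * φ S' n i z = 0 := by
    rw [two_mul]
    nth_rewrite 1 [← h]
    exact neg_add_cancel _
  rw [h2.mul_right_eq_zero] at h3
  rw [h3, zero_smul]

end Source


section Target
variable (R : Type u) [CommRing R] (S' : Type u) [CommRing S'] [Algebra R S'] (n' : ℕ)

/-- entrywise base change to flat matrices -/
noncomputable def g : Matrix (Fin n') (Fin n') (Matrix (Fin 2) (Fin 2) R) →ₐ[R]
    Matrix (Fin n' × Fin 2) (Fin n' × Fin 2) S' :=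
  ((Algebra.ofId R S').mapMatrix).comp (Matrix.compAlgEquiv (Fin n') (Fin 2) R R).toAlgHom

lemma g_apply (b : Matrix (Fin n') (Fin n') (Matrix (Fin 2) (Fin 2) R)) (α β : Fin n' × Fin 2) :
    g R S' n' b α β = algebraMap R S' (b α.1 β.1 α.2 β.2) := rfl

/-- the comparison map -/
noncomputable def Ξ : S' ⊗[R] Matrix (Fin n') (Fin n') (Matrix (Fin 2) (Fin 2) R) →ₐ[S']
    Matrix (Fin n' × Fin 2) (Fin n' × Fin 2) S' :=
  Algebra.TensorProduct.lift (Algebra.ofId S' _) (g R S' n')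
    (fun x y => show Commute ((Algebra.ofId S' (Matrix (Fin n' × Fin 2) (Fin n' × Fin 2) S')) x)
      (g R S' n' y) from Algebra.commute_algebraMap_left x _)

lemma Ξ_tmul (s : S') (b : Matrix (Fin n') (Fin n') (Matrix (Fin 2) (Fin 2) R))
    (α β : Fin n' × Fin 2) :
    Ξ R S' n' (s ⊗ₜ[R] b) α β = s * algebraMap R S' (b α.1 β.1 α.2 β.2) := by
  rw [Ξ, Algebra.TensorProduct.lift_tmul]
  show (algebraMap S' (Matrix (Fin n' × Fin 2) (Fin n' × Fin 2) S') s * g R S' n' b) α β = _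
  rw [← Algebra.smul_def, Matrix.smul_apply, g_apply, smul_eq_mul]

omit n' in
lemma map_sg (k l : Fin 2) : algebraMap R S' (sg R k l) = sg S' k l := by
  unfold sg; split_ifs <;> simp

lemma Ξ_T (hlam : ∀ r : R, (AlgEquiv.refl : R ≃ₐ[R] R) ((AlgEquiv.refl : R ≃ₐ[R] R) r) = r)
    (J : (Matrix (Fin 2) (Fin 2) R)ˣ)
    (hJ : (↑J : Matrix (Fin 2) (Fin 2) R) = Matrix.of ![![0, -1], ![1, 0]])
    (hJt : AzInv.LamInv.transpose (AlgEquiv.refl : R ≃ₐ[R] R) (Fin 2) hlam (↑J : Matrix (Fin 2) (Fin 2) R) = (-1 : R) • (↑J : Matrix (Fin 2) (Fin 2) R))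
    (hneg : (AlgEquiv.refl : R ≃ₐ[R] R) (-1) * (-1) = 1)
    (x : S' ⊗[R] Matrix (Fin n') (Fin n') (Matrix (Fin 2) (Fin 2) R)) (i j : Fin n') (k l : Fin 2) :
    Ξ R S' n' ((((AzInv.LamInv.transpose (AlgEquiv.refl : R ≃ₐ[R] R) (Fin 2) hlam).conj J (-1) hJt
      hneg).matrix (Fin n')).bc R (AlgEquiv.refl : R ≃ₐ[R] R) S' x) (i, k) (j, l) =
      sg S' k l * Ξ R S' n' x (j, Fin.rev l) (i, Fin.rev k) := by
  induction x using TensorProduct.induction_on with
  | zero => simp
  | add x y hx hy => rw [map_add, map_add, Matrix.add_apply, hx, hy, map_add, Matrix.add_apply, mul_add]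
  | tmul s b =>
    rw [LamInv.bc_tmul, Ξ_tmul, Ξ_tmul]
    show s * algebraMap R S' ((((AzInv.LamInv.transpose (AlgEquiv.refl : R ≃ₐ[R] R) (Fin 2)
      hlam).conj J (-1) hJt hneg).matrix (Fin n') b) i j k l) = _
    rw [tprime_entry hlam J hJ hJt hneg, map_mul, map_sg R S']
    ring

omit [Algebra R S'] in
lemma mul_single_mul (X : Matrix (Fin n' × Fin 2) (Fin n' × Fin 2) S') (p q α β : Fin n' × Fin 2) :
    (X * Matrix.single p q (1 : S') * X) α β = X α p * X q β := by
  rw [Matrix.mul_apply, Finset.sum_eq_single q]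
  · rw [Matrix.mul_single_apply_same, mul_one]
  · intro δ _ hδ
    rw [Matrix.mul_single_apply_of_ne (c := (1 : S')) p q α δ hδ X, zero_mul]
  · intro h; exact absurd (Finset.mem_univ _) h

end Target


theorem result' (R : Type u) [CommRing R] (hlam : ∀ r : R, (AlgEquiv.refl : R ≃ₐ[R] R) ((AlgEquiv.refl : R ≃ₐ[R] R) r) = r)
    [Nontrivial R] (h2 : IsUnit (2 : R))
    (J : (Matrix (Fin 2) (Fin 2) R)ˣ) (hJ : (↑J : Matrix (Fin 2) (Fin 2) R) = Matrix.of ![![0, -1], ![1, 0]])
    (hJt : AzInv.LamInv.transpose (AlgEquiv.refl : R ≃ₐ[R] R) (Fin 2) hlam (↑J : Matrix (Fin 2) (Fin 2) R) = (-1 : R) • (↑J : Matrix (Fin 2) (Fin 2) R))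
    (hneg : (AlgEquiv.refl : R ≃ₐ[R] R) (-1) * (-1) = 1) :
    ¬ AzInv.SameType R (AlgEquiv.refl : R ≃ₐ[R] R) (AzInv.LamInv.self (AlgEquiv.refl : R ≃ₐ[R] R) hlam) ((AzInv.LamInv.transpose (AlgEquiv.refl : R ≃ₐ[R] R) (Fin 2) hlam).conj J (-1) hJt hneg) := by
  rintro ⟨n, n', hn, hn', S', iCR, iAlg, iEt, iFF, f, hf1, hf2⟩
  haveI : Nontrivial S' := by
    haveI : Nontrivial (S' ⊗[R] R) := Module.FaithfullyFlat.lTensor_nontrivial R S' R
    exact (TensorProduct.rid R S').symm.toEquiv.nontrivial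
  have h2' : IsUnit (2 : S') := by
    have := h2.map (algebraMap R S'); rwa [map_ofNat] at this
  obtain ⟨tO, htO⟩ : ∃ t, t = (LamInv.self (AlgEquiv.refl : R ≃ₐ[R] R) hlam).matrix (Fin n) := ⟨_, rfl⟩
  obtain ⟨tS, htS⟩ : ∃ t, t = ((AzInv.LamInv.transpose (AlgEquiv.refl : R ≃ₐ[R] R) (Fin 2) hlam).conj J (-1) hJt hneg).matrix (Fin n') := ⟨_, rfl⟩
  rw [← htO, ← htS] at hf2
  have hfs : ∀ y, tO.bc R (AlgEquiv.refl : R ≃ₐ[R] R) S' (f.symm y) =
      f.symm (tS.bc R (AlgEquiv.refl : R ≃ₐ[R] R) S' y) := by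
    intro y
    apply f.injective
    rw [hf2, f.apply_symm_apply, f.apply_symm_apply]
  obtain ⟨X, hX⟩ : ∃ X : Fin n → Matrix (Fin n' × Fin 2) (Fin n' × Fin 2) S',
      X = fun i => Ξ R S' n' (f (ee S' n i)) := ⟨_, rfl⟩
  have hsum : ∑ i, X i = 1 := by
    rw [hX]
    simp only []
    rw [← map_sum, ← map_sum, sum_ee, map_one, map_one]
  have hsym : ∀ i (a c : Fin n') (k l : Fin 2),
      X i (a, k) (c, l) = sg S' k l * X i (c, Fin.rev l) (a, Fin.rev k) := by
    intro i a c k l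
    have := Ξ_T R S' n' hlam J hJ hJt hneg (f (ee S' n i)) a c k l
    rw [← htS, ← hf2, htO, T_ee] at this
    rw [hX]
    exact this
  have hzero : ∀ i (b : Matrix (Fin n') (Fin n') (Matrix (Fin 2) (Fin 2) R)), tS b = -b →
      X i * Ξ R S' n' ((1 : S') ⊗ₜ[R] b) * X i = 0 := by
    intro i b hb
    have hz' : tS.bc R (AlgEquiv.refl : R ≃ₐ[R] R) S' ((1 : S') ⊗ₜ[R] b) = -((1 : S') ⊗ₜ[R] b) := by
      rw [LamInv.bc_tmul, hb, TensorProduct.tmul_neg]
    have hz : tO.bc R (AlgEquiv.refl : R ≃ₐ[R] R) S' (f.symm ((1 : S') ⊗ₜ[R] b)) =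
        -(f.symm ((1 : S') ⊗ₜ[R] b)) := by
      rw [hfs, hz', map_neg]
    rw [htO] at hz
    have h0 := ee_skew S' n hlam h2' i _ hz
    have h1 := congrArg (fun w => Ξ R S' n' (f w)) h0
    simp only [map_mul, map_zero, f.apply_symm_apply] at h1
    rw [hX]
    exact h1
  have hb01 : ∀ j : Fin n', tS (Matrix.single j j (Matrix.single (0 : Fin 2) 1 (1 : R))) =
      -(Matrix.single j j (Matrix.single (0 : Fin 2) 1 (1 : R))) := by
    intro j
    ext a c k l
    rw [htS, tprime_entry hlam J hJ hJt hneg]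
    by_cases ha : j = a
    · subst ha
      by_cases hc : j = c
      · subst hc
        fin_cases k <;> fin_cases l <;> simp [Matrix.single_apply, sg, Fin.rev]
      · fin_cases k <;> fin_cases l <;> simp [Matrix.single_apply, sg, hc, Fin.rev]
    · fin_cases k <;> fin_cases l <;> simp [Matrix.single_apply, sg, ha, Fin.rev]
  have hb10 : ∀ j : Fin n', tS (Matrix.single j j (Matrix.single (1 : Fin 2) 0 (1 : R))) =
      -(Matrix.single j j (Matrix.single (1 : Fin 2) 0 (1 : R))) := by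
    intro j
    ext a c k l
    rw [htS, tprime_entry hlam J hJ hJt hneg]
    by_cases ha : j = a
    · subst ha
      by_cases hc : j = c
      · subst hc
        fin_cases k <;> fin_cases l <;> simp [Matrix.single_apply, sg, Fin.rev]
      · fin_cases k <;> fin_cases l <;> simp [Matrix.single_apply, sg, hc, Fin.rev]
    · fin_cases k <;> fin_cases l <;> simp [Matrix.single_apply, sg, ha, Fin.rev]
  have hΞ01 : ∀ j : Fin n', Ξ R S' n' ((1 : S') ⊗ₜ[R]
      (Matrix.single j j (Matrix.single (0 : Fin 2) 1 (1 : R)))) =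
      Matrix.single (j, (0 : Fin 2)) (j, (1 : Fin 2)) (1 : S') := by
    intro j
    ext ⟨a, k⟩ ⟨c, l⟩
    rw [Ξ_tmul, one_mul]
    by_cases ha : j = a
    · subst ha
      by_cases hc : j = c
      · subst hc
        fin_cases k <;> fin_cases l <;> simp [Matrix.single_apply]
      · fin_cases k <;> fin_cases l <;> simp [Matrix.single_apply, hc]
    · fin_cases k <;> fin_cases l <;> simp [Matrix.single_apply, ha]
  have hΞ10 : ∀ j : Fin n', Ξ R S' n' ((1 : S') ⊗ₜ[R]
      (Matrix.single j j (Matrix.single (1 : Fin 2) 0 (1 : R)))) =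
      Matrix.single (j, (1 : Fin 2)) (j, (0 : Fin 2)) (1 : S') := by
    intro j
    ext ⟨a, k⟩ ⟨c, l⟩
    rw [Ξ_tmul, one_mul]
    by_cases ha : j = a
    · subst ha
      by_cases hc : j = c
      · subst hc
        fin_cases k <;> fin_cases l <;> simp [Matrix.single_apply]
      · fin_cases k <;> fin_cases l <;> simp [Matrix.single_apply, hc]
    · fin_cases k <;> fin_cases l <;> simp [Matrix.single_apply, ha]
  have h01 : ∀ i j α β, X i α (j, (0 : Fin 2)) * X i (j, (1 : Fin 2)) β = 0 := by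
    intro i j α β
    have := hzero i _ (hb01 j)
    rw [hΞ01] at this
    rw [← mul_single_mul, this, Matrix.zero_apply]
  have h10 : ∀ i j α β, X i α (j, (1 : Fin 2)) * X i (j, (0 : Fin 2)) β = 0 := by
    intro i j α β
    have := hzero i _ (hb10 j)
    rw [hΞ10] at this
    rw [← mul_single_mul, this, Matrix.zero_apply]
  have hsq : ∀ i (a c : Fin n') (k l : Fin 2), X i (a, k) (c, l) * X i (a, k) (c, l) = 0 := by
    intro i a c k l
    have hrr : Fin.rev (Fin.rev k) = k := Fin.rev_rev k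
    fin_cases l
    · have h := h01 i c (a, k) (a, Fin.rev k)
      rw [hsym i c a 1 (Fin.rev k), hrr] at h
      have hr1 : Fin.rev (1 : Fin 2) = 0 := rfl
      rw [hr1] at h
      show X i (a, k) (c, 0) * X i (a, k) (c, 0) = 0
      calc X i (a, k) (c, 0) * X i (a, k) (c, 0)
          = (sg S' 1 (Fin.rev k) * sg S' 1 (Fin.rev k)) * (X i (a, k) (c, 0) * X i (a, k) (c, 0)) := by
            rw [sg_mul_self, one_mul]
        _ = sg S' 1 (Fin.rev k) * (X i (a, k) (c, 0) * (sg S' 1 (Fin.rev k) * X i (a, k) (c, 0))) := by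
            ring
        _ = 0 := by rw [h, mul_zero]
    · have h := h10 i c (a, k) (a, Fin.rev k)
      rw [hsym i c a 0 (Fin.rev k), hrr] at h
      have hr1 : Fin.rev (0 : Fin 2) = 1 := rfl
      rw [hr1] at h
      show X i (a, k) (c, 1) * X i (a, k) (c, 1) = 0
      calc X i (a, k) (c, 1) * X i (a, k) (c, 1)
          = (sg S' 0 (Fin.rev k) * sg S' 0 (Fin.rev k)) * (X i (a, k) (c, 1) * X i (a, k) (c, 1)) := by
            rw [sg_mul_self, one_mul]
        _ = sg S' 0 (Fin.rev k) * (X i (a, k) (c, 1) * (sg S' 0 (Fin.rev k) * X i (a, k) (c, 1))) := by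
            ring
        _ = 0 := by rw [h, mul_zero]
  have hone : (1 : S') ∈ nilradical S' := by
    have h1 : (1 : S') = ∑ i, X i ((⟨0, hn'⟩ : Fin n'), (0 : Fin 2)) ((⟨0, hn'⟩ : Fin n'), (0 : Fin 2)) := by
      rw [← Matrix.sum_apply, hsum, Matrix.one_apply_eq]
    rw [h1]
    apply Ideal.sum_mem
    intro i _
    rw [mem_nilradical]
    exact ⟨2, by rw [pow_two]; exact hsq i _ _ _ _⟩
  rw [mem_nilradical] at hone
  obtain ⟨m, hm⟩ := hone
  rw [one_pow] at hm
  exact one_ne_zero hm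

/-- Let `R` be a nontrivial commutative ring in which `2` is a unit, with the trivial involution. This
row states the second half of the count of types: the identity of `R` (the orthogonal type) and the
standard symplectic involution `x ↦ J xᵀ J⁻¹` of the `2 × 2` matrix algebra, `J` the matrix with
rows `(0, -1)` and `(1, 0)`, do not have the same type, i.e. for no positive sizes do the matrix
algebras over `R` with the transpose and over `M_2(R)` with the involution induced by the symplectic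
one become isomorphic as `R`-algebras with involution after an etale faithfully flat base change of
`R`. (The source states that the monoid of types is isomorphic to the group of global square roots
of `1`, for a locally ringed topos with trivial involution and `2` invertible; the row is the affine
case.) -/
theorem result (R : Type u) [CommRing R] (hlam : ∀ r : R, (AlgEquiv.refl : R ≃ₐ[R] R) ((AlgEquiv.refl : R ≃ₐ[R] R) r) = r)
    [Nontrivial R] (h2 : IsUnit (2 : R))
    (J : (Matrix (Fin 2) (Fin 2) R)ˣ) (hJ : (↑J : Matrix (Fin 2) (Fin 2) R) = Matrix.of ![![0, -1], ![1, 0]])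
    (hJt : AzInv.LamInv.transpose (AlgEquiv.refl : R ≃ₐ[R] R) (Fin 2) hlam (↑J : Matrix (Fin 2) (Fin 2) R) = (-1 : R) • (↑J : Matrix (Fin 2) (Fin 2) R))
    (hneg : (AlgEquiv.refl : R ≃ₐ[R] R) (-1) * (-1) = 1) :
    ¬ AzInv.SameType R (AlgEquiv.refl : R ≃ₐ[R] R) (AzInv.LamInv.self (AlgEquiv.refl : R ≃ₐ[R] R) hlam) ((AzInv.LamInv.transpose (AlgEquiv.refl : R ≃ₐ[R] R) (Fin 2) hlam).conj J (-1) hJt hneg) := by
  exact result' R hlam h2 J hJ hJt hneg

end Groth.Agent.S17360
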