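import Groth.Statements.S1737
import Mathlib

set_option autoImplicit false
universe u
open LocCoh

namespace Groth.Agent.S1737

namespace S1737aux

variable {A : Type u} [CommRing A] (T : Set (PrimeSpectrum A)) (M : Type u) [AddCommGroup M]
  [Module A M]

/-- sections supported in `T` -/
def N : Submodule A M where
  carrier := {m | ∀ q : PrimeSpectrum A, q ∉ T → ∃ s : A, s ∉ q.asIdeal ∧ s • m = 0}
  zero_mem' := fun q _ => ⟨1, q.asIdeal.one_notMem, by simp⟩
  add_mem' := by
    intro a b ha hb q hq
    obtain ⟨s, hs, hsa⟩ := ha q hq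
    obtain ⟨t, ht, htb⟩ := hb q hq
    refine ⟨s * t, q.isPrime.mul_notMem hs ht, ?_⟩
    rw [smul_add, mul_smul, mul_smul, htb, smul_zero, add_zero, smul_comm, hsa, smul_zero]
  smul_mem' := by
    intro c a ha q hq
    obtain ⟨s, hs, hsa⟩ := ha q hq
    exact ⟨s, hs, by rw [smul_comm, hsa, smul_zero]⟩

theorem mem_N {m : M} : m ∈ N T M ↔ ∀ q : PrimeSpectrum A, q ∉ T → ∃ s : A, s ∉ q.asIdeal ∧ s • m = 0 :=
  Iff.rfl

/-- a regular element in the maximal ideal gives depth ≥ 1 -/
theorem one_le_depth {R : Type u} [CommRing R] [IsLocalRing R] {L : Type u} [AddCommGroup L]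
    [Module R L] (r : R) (hr : r ∈ IsLocalRing.maximalIdeal R) (hreg : IsSMulRegular L r) :
    1 ≤ LocCoh.depth R L := by
  unfold LocCoh.depth LocCoh.idealDepth
  split_ifs with h
  · exact le_top
  · refine le_iSup₂_of_le [r] ⟨?_, ?_⟩ (by simp)
    · rw [RingTheory.Sequence.isWeaklyRegular_cons_iff]
      exact ⟨hreg, RingTheory.Sequence.IsWeaklyRegular.nil _ _⟩
    · intro x hx
      rw [List.mem_singleton] at hx
      rw [hx]; exact hr

end S1737aux

/-- Let A be a Noetherian ring, T ⊆ Spec A stable under specialization and M a finite A-module. There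
are a finite A-module M' and a surjection M → M' which is bijective after localizing at every prime
outside T and such that M'_p has depth ≥ 1 over A_p for every p in T. (The source states this for
coherent modules on a Noetherian scheme, with uniqueness.) -/
theorem result (A : Type u) [CommRing A] [IsNoetherianRing A] (T : Set (PrimeSpectrum A)) (hT : StableUnderSpecialization T) (M : Type u) [AddCommGroup M] [Module A M] [Module.Finite A M] : ∃ (M' : Type u) (_ : AddCommGroup M') (_ : Module A M') (_ : Module.Finite A M') (f : M →ₗ[A] M'), Function.Surjective f ∧ (∀ p : PrimeSpectrum A, p ∉ T → Function.Bijective (LocalizedModule.map p.asIdeal.primeCompl f)) ∧ ∀ p : PrimeSpectrum A, p ∈ T → 1 ≤ LocCoh.depth (Localization.AtPrime p.asIdeal) (LocalizedModule p.asIdeal.primeCompl M') := by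
  classical
  let N := S1737aux.N T M
  refine ⟨M ⧸ N, inferInstance, inferInstance, inferInstance, N.mkQ, N.mkQ_surjective, ?_, ?_⟩
  · intro p hp
    refine ⟨?_, LocalizedModule.map_surjective _ _ N.mkQ_surjective⟩
    rw [injective_iff_map_eq_zero]
    intro x hx
    induction x using LocalizedModule.induction_on with
    | h m s =>
      rw [LocalizedModule.map_mk, ← LocalizedModule.zero_mk s, LocalizedModule.mk_eq] at hx
      obtain ⟨u, hu⟩ := hx
      rw [smul_zero, smul_zero] at hu
      -- u • s • mkQ m = 0 → (u*s) • m ∈ N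
      have hmem : ((u : A) * (s : A)) • m ∈ N := by
        rw [← Submodule.Quotient.mk_eq_zero, Submodule.Quotient.mk_smul, mul_smul]
        exact hu
      obtain ⟨t, ht, htm⟩ := hmem p hp
      rw [← LocalizedModule.zero_mk s, LocalizedModule.mk_eq]
      refine ⟨⟨t * (u * s), ?_⟩, ?_⟩
      · exact p.asIdeal.primeCompl.mul_mem ht (p.asIdeal.primeCompl.mul_mem u.2 s.2)
      · rw [smul_zero, smul_zero]
        change (t * ((u : A) * (s : A))) • ((s : A) • m) = 0
        rw [smul_comm, mul_smul, htm, smul_zero]
  · intro p hp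
    let S := p.asIdeal.primeCompl
    let Rp := Localization.AtPrime p.asIdeal
    let L := LocalizedModule S (M ⧸ N)
    let g := LocalizedModule.mkLinearMap S (M ⧸ N)
    haveI : Module.Finite Rp L := Module.Finite.of_isLocalizedModule S g
    by_contra hdepth
    have hno : ∀ r ∈ IsLocalRing.maximalIdeal Rp, ¬ IsSMulRegular L r :=
      fun r hr hreg => hdepth (S1737aux.one_le_depth r hr hreg)
    haveI : Nontrivial L := by
      by_contra hnt
      rw [not_nontrivial_iff_subsingleton] at hnt
      exact hno 0 (zero_mem _) IsSMulRegular.zero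
    have hexist : ∃ P ∈ associatedPrimes Rp L, IsLocalRing.maximalIdeal Rp ≤ P := by
      rcases associatedPrimes.nonempty Rp L with ⟨Ia, hIa⟩
      apply (Ideal.subset_union_prime_finite (associatedPrimes.finite Rp L) Ia Ia _).mp
      · rw [biUnion_associatedPrimes_eq_compl_regular Rp L]
        exact fun r hr => hno r hr
      · exact fun I hin _ _ => IsAssociatedPrime.isPrime hin
    obtain ⟨P, hP, hle⟩ := hexist
    have hPeq : IsLocalRing.maximalIdeal Rp = P :=
      (IsLocalRing.maximalIdeal.isMaximal Rp).eq_of_le hP.isPrime.ne_top hle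
    rw [← hPeq] at hP
    have hass : p.asIdeal ∈ associatedPrimes A (M ⧸ N) := by
      have := Module.associatedPrimes.comap_mem_associatedPrimes_of_mem_associatedPrimes_of_isLocalizedModule_of_fg
        S g _ hP ((isNoetherianRing_iff_ideal_fg A).mp ‹_› _)
      rwa [← Ideal.under_def, Localization.AtPrime.under_maximalIdeal] at this
    obtain ⟨hprime, y, hy⟩ := isAssociatedPrime_iff.mp hass
    obtain ⟨x, rfl⟩ := N.mkQ_surjective y
    have hxN : x ∈ N := by
      intro q hq
      have hnle : ¬ p.asIdeal ≤ q.asIdeal :=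
        fun hle => hq (hT ((PrimeSpectrum.le_iff_specializes p q).mp hle) hp)
      obtain ⟨s, hsp, hsq⟩ := Set.not_subset.mp hnle
      have h1 : s • N.mkQ x = 0 := by
        have : s ∈ Submodule.colon ⊥ {N.mkQ x} := hy ▸ hsp
        rwa [Submodule.mem_colon_singleton, Submodule.mem_bot] at this
      have hsx : s • x ∈ N := by
        rwa [← map_smul, Submodule.mkQ_apply, Submodule.Quotient.mk_eq_zero] at h1
      obtain ⟨t, ht, htx⟩ := hsx q hq
      exact ⟨t * s, q.isPrime.mul_notMem ht hsq, by rw [mul_smul]; exact htx⟩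
    have h0 : N.mkQ x = 0 := by rwa [Submodule.mkQ_apply, Submodule.Quotient.mk_eq_zero]
    apply hprime.ne_top
    rw [hy, h0]
    ext r
    simp [Submodule.mem_colon_singleton]

end Groth.Agent.S1737
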