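import Groth.Statements.S17386
import Mathlib
import Groth.Agent.Lib.helper22.BlowUpU
import Groth.Agent.Lib.helper22.BlowUpMul

set_option autoImplicit false
universe u
open BlowUp

namespace Groth.Agent.S17386


open Groth.Agent.H22.BlowUpU Groth.Agent.H22.BlowUpMul Groth.Agent.H22.CartierFlat

theorem exists_factor {R : Type*} [CommRing R] {ι : Type*} (A : ι → Ideal R) (f : R)
    (hf : f ∈ nonZeroDivisors R) (hA : (⨆ i, A i) = Ideal.span {f}) (𝔭 : Ideal R) [h𝔭 : 𝔭.IsPrime] :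
    ∃ j, ∃ c : R, c ∉ 𝔭 ∧ c * f ∈ A j := by
  by_contra hcon
  push Not at hcon
  have hle : ∀ j, A j ≤ Ideal.span {f} * 𝔭 := by
    intro j a ha
    have ha' : a ∈ Ideal.span {f} := hA ▸ (le_iSup A j ha)
    obtain ⟨c, rfl⟩ := Ideal.mem_span_singleton'.mp ha'
    rw [Ideal.mem_span_singleton_mul]
    refine ⟨c, ?_, mul_comm _ _⟩
    by_contra hc
    exact hcon j c hc ha
  have h1 : f ∈ Ideal.span {f} * 𝔭 := by
    have h0 : f ∈ ⨆ i, A i := hA ▸ Ideal.mem_span_singleton_self f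
    exact (iSup_le hle) h0
  obtain ⟨s, hs, hfs⟩ := Ideal.mem_span_singleton_mul.mp h1
  have hs1 : s = 1 := by
    have h2 : (s - 1) * f = 0 := by rw [sub_mul, one_mul, mul_comm, hfs, sub_self]
    exact sub_eq_zero.mp ((mem_nonZeroDivisors_iff_right.mp hf) _ h2)
  exact h𝔭.ne_top ((Ideal.eq_top_iff_one _).mpr (hs1 ▸ hs))

open AlgebraicGeometry CategoryTheory Limits in
/-- Let X be any scheme, J_1, …, J_n quasi-coherent ideals on X with closed subschemes Y_i, and b : X' →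
X a blowing up of X in the ideal J_1 + ⋯ + J_n of the intersection of the Y_i. For each i let b_i' :
Y_i' → Y_i be a blowing up of Y_i in the inverse image of J_1 + ⋯ + J_n and k_i : Y_i' → X' the
morphism with k_i ≫ b = b_i' ≫ (Y_i → X), so that the image of k_i is the strict transform of Y_i.
Then the strict transforms have empty common intersection: no point of X' lies in the image of every
k_i. -/
theorem result
    {X X' : Scheme.{u}} {n : ℕ} (𝓙 : Fin n → X.IdealSheafData) (b : X' ⟶ X)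
    (hb : BlowUp.IsBlowUp b (⨆ i, 𝓙 i))
    (Y' : Fin n → Scheme.{u}) (b' : ∀ i, Y' i ⟶ (𝓙 i).subscheme)
    (hb' : ∀ i, BlowUp.IsBlowUp (b' i) ((⨆ j, 𝓙 j).comap (𝓙 i).subschemeι))
    (k : ∀ i, Y' i ⟶ X') (hk : ∀ i, k i ≫ b = b' i ≫ (𝓙 i).subschemeι) :
    (⋂ i, Set.range (fun y => k i y)) = (∅ : Set X') := by
  rw [Set.eq_empty_iff_forall_notMem]
  intro x' hx'
  rw [Set.mem_iInter] at hx'
  choose y hy using hx'
  have hy' : ∀ i, k i (y i) = x' := hy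
  obtain ⟨_, ⟨W, hW, rfl⟩, hbW, -⟩ := X.isBasis_affineOpens.exists_subset_of_mem_open
    (show b x' ∈ (⊤ : X.Opens) from trivial) (⊤ : X.Opens).isOpen
  obtain ⟨_, ⟨U₁, hU₁, rfl⟩, hxU₁, hU₁W⟩ := X'.isBasis_affineOpens.exists_subset_of_mem_open
    (show x' ∈ b ⁻¹ᵁ W from hbW) (b ⁻¹ᵁ W).isOpen
  obtain ⟨W', hW'U₁, g₁, -, hxW', f, hf, hI⟩ :=
    exists_good_nbhd ((⨆ i, 𝓙 i).comap b) hb.1 ⟨U₁, hU₁⟩ x' hxU₁
  have e : W'.1 ≤ b ⁻¹ᵁ W := le_trans hW'U₁ hU₁W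
  have hI2 := comap_ideal_eq_map (⨆ i, 𝓙 i) b W' ⟨W, hW⟩ e
  have hsup : (⨆ i, Ideal.map (b.appLE W W'.1 e).hom ((𝓙 i).ideal ⟨W, hW⟩)) = Ideal.span {f} := by
    rw [← hI, hI2, ← Ideal.map_iSup]
    congr 1
    rw [Scheme.IdealSheafData.ideal_iSup, iSup_apply]
  let 𝔭 : Ideal Γ(X', W'.1) :=
    Ideal.comap (X'.presheaf.germ W'.1 x' hxW').hom (IsLocalRing.maximalIdeal _)
  haveI : 𝔭.IsPrime := Ideal.comap_isPrime _ _
  obtain ⟨j, c, hc, hcf⟩ := exists_factor _ f hf hsup 𝔭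
  have hxc : x' ∈ X'.basicOpen c := by
    rw [Scheme.mem_basicOpen _ _ x' hxW']
    by_contra h
    exact hc (by
      show (X'.presheaf.germ W'.1 x' hxW').hom c ∈ IsLocalRing.maximalIdeal _
      rw [IsLocalRing.mem_maximalIdeal]; exact h)
  have hk' : (⨆ i, 𝓙 i).comap (k j ≫ b) = ((⨆ i, 𝓙 i).comap (𝓙 j).subschemeι).comap (b' j) := by
    rw [hk j, Scheme.IdealSheafData.comap_comp]
  have hcart : BlowUp.IsEffCartierIdeal (((⨆ i, 𝓙 i).comap b).comap (k j)) := by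
    rw [← Scheme.IdealSheafData.comap_comp, hk']; exact (hb' j).1
  have hyW' : y j ∈ k j ⁻¹ᵁ W'.1 := by
    show k j (y j) ∈ W'.1
    rw [hy' j]; exact hxW'
  obtain ⟨_, ⟨N₁, hN₁, rfl⟩, hyN₁, hN₁W'⟩ := (Y' j).isBasis_affineOpens.exists_subset_of_mem_open
    hyW' (k j ⁻¹ᵁ W'.1).isOpen
  obtain ⟨N, hNN₁, g₂, -, hyN, t, ht, hIt⟩ :=
    exists_good_nbhd (((⨆ i, 𝓙 i).comap b).comap (k j)) hcart ⟨N₁, hN₁⟩ (y j) hyN₁
  have e2 : N.1 ≤ k j ⁻¹ᵁ W'.1 := le_trans hNN₁ hN₁W'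
  have hIt2 := comap_ideal_eq_map ((⨆ i, 𝓙 i).comap b) (k j) N W' e2
  have ht_mem : t ∈ Ideal.span {((k j).appLE W'.1 N.1 e2).hom f} := by
    have h0 : Ideal.span {t} = Ideal.span {((k j).appLE W'.1 N.1 e2).hom f} := by
      rw [← hIt, hIt2, hI, Ideal.map_span, Set.image_singleton]
    rw [← h0]; exact Ideal.mem_span_singleton_self t
  obtain ⟨r, hr⟩ := Ideal.mem_span_singleton'.mp ht_mem
  have hbot : (𝓙 j).comap (k j ≫ b) = ⊥ := by
    rw [hk j, eq_bot_iff, ← Scheme.IdealSheafData.le_map_iff_comap_le,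
      Scheme.IdealSheafData.map_bot]
    calc 𝓙 j = (𝓙 j).subschemeι.ker := (𝓙 j).ker_subschemeι.symm
      _ ≤ _ := Scheme.Hom.le_ker_comp _ _
  have hzero : ((k j).appLE W'.1 N.1 e2).hom (c * f) = 0 := by
    have h1 : ((k j).appLE W'.1 N.1 e2).hom (c * f) ∈ Ideal.map ((k j).appLE W'.1 N.1 e2).hom
        (Ideal.map (b.appLE W W'.1 e).hom ((𝓙 j).ideal ⟨W, hW⟩)) := Ideal.mem_map_of_mem _ hcf
    have h2 : Ideal.map ((k j).appLE W'.1 N.1 e2).hom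
        (Ideal.map (b.appLE W W'.1 e).hom ((𝓙 j).ideal ⟨W, hW⟩)) = ⊥ := by
      rw [← comap_ideal_eq_map (𝓙 j) b W' ⟨W, hW⟩ e,
        ← comap_ideal_eq_map ((𝓙 j).comap b) (k j) N W' e2,
        ← Scheme.IdealSheafData.comap_comp, hbot]
      rfl
    rw [h2] at h1
    exact (Submodule.mem_bot _).mp h1
  have hψc : ((k j).appLE W'.1 N.1 e2).hom c = 0 := by
    apply (mem_nonZeroDivisors_iff_right.mp ht)
    rw [← hr]
    calc ((k j).appLE W'.1 N.1 e2).hom c * (r * ((k j).appLE W'.1 N.1 e2).hom f)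
        = r * ((k j).appLE W'.1 N.1 e2).hom (c * f) := by rw [map_mul]; ring
      _ = 0 := by rw [hzero, mul_zero]
  have hyc : y j ∈ (Y' j).basicOpen (((k j).appLE W'.1 N.1 e2).hom c) := by
    have h0 := Scheme.basicOpen_appLE (k j) N.1 W'.1 e2 c
    rw [show (Y' j).basicOpen (((k j).appLE W'.1 N.1 e2).hom c) =
      (Y' j).basicOpen ((k j).appLE W'.1 N.1 e2 c) from rfl, h0]
    refine ⟨hyN, ?_⟩
    show k j (y j) ∈ X'.basicOpen c
    rw [hy' j]; exact hxc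
  rw [hψc, Scheme.basicOpen_zero] at hyc
  exact hyc

end Groth.Agent.S17386
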