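import Groth.Statements.S17391
import Mathlib
import Groth.Agent.Lib.helper22.BlowUpU
import Groth.Agent.Lib.helper22.BlowUpMul

set_option autoImplicit false
universe u
open BlowUp

namespace Groth.Agent.S17391


open AlgebraicGeometry CategoryTheory Limits
open Groth.Agent.H22.BlowUpU Groth.Agent.H22.BlowUpMul Groth.Agent.H22.CartierFlat

/-- The prime ideal of sections over `O` vanishing at the point `w ∈ O`. -/
noncomputable def pt (S : Scheme.{u}) (O : S.Opens) (w : S) (hw : w ∈ O) : Ideal Γ(S, O) :=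
  Ideal.comap (S.presheaf.germ O w hw).hom (IsLocalRing.maximalIdeal _)

instance pt_isPrime (S : Scheme.{u}) (O : S.Opens) (w : S) (hw : w ∈ O) : (pt S O w hw).IsPrime :=
  Ideal.comap_isPrime _ _

theorem mem_pt {S : Scheme.{u}} {O : S.Opens} {w : S} (hw : w ∈ O) (a : Γ(S, O)) :
    a ∈ pt S O w hw ↔ w ∉ S.basicOpen a := by
  rw [Scheme.mem_basicOpen _ _ w hw]
  show (S.presheaf.germ O w hw).hom a ∈ IsLocalRing.maximalIdeal _ ↔ _
  rw [IsLocalRing.mem_maximalIdeal]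
  rfl

theorem map_le_pt {S₁ S₂ : Scheme.{u}} (h : S₁ ⟶ S₂) (O₁ : S₁.Opens) (O₂ : S₂.Opens)
    (e : O₁ ≤ h ⁻¹ᵁ O₂) (w : S₁) (hw : w ∈ O₁) (A : Ideal Γ(S₂, O₂))
    (hA : A ≤ pt S₂ O₂ (h w) (e hw)) :
    Ideal.map (h.appLE O₂ O₁ e).hom A ≤ pt S₁ O₁ w hw := by
  rw [Ideal.map_le_iff_le_comap]
  intro a ha
  rw [Ideal.mem_comap, mem_pt]
  intro hmem
  have h0 := Scheme.basicOpen_appLE h O₁ O₂ e a
  rw [show S₁.basicOpen ((h.appLE O₂ O₁ e).hom a) = S₁.basicOpen (h.appLE O₂ O₁ e a) from rfl,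
    h0] at hmem
  exact ((mem_pt (S := S₂) (O := O₂) (w := h w) (e hw) a).mp (hA ha)) hmem.2

theorem not_mem_pt_map {S₁ S₂ : Scheme.{u}} (h : S₁ ⟶ S₂) (O₁ : S₁.Opens) (O₂ : S₂.Opens)
    (e : O₁ ≤ h ⁻¹ᵁ O₂) (w : S₁) (hw : w ∈ O₁) (a : Γ(S₂, O₂)) (ha : h w ∈ S₂.basicOpen a) :
    w ∈ S₁.basicOpen ((h.appLE O₂ O₁ e).hom a) := by
  have h0 := Scheme.basicOpen_appLE h O₁ O₂ e a
  rw [show S₁.basicOpen ((h.appLE O₂ O₁ e).hom a) = S₁.basicOpen (h.appLE O₂ O₁ e a) from rfl, h0]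
  exact ⟨hw, ha⟩

theorem ideal_le_pt_of_mem_support {S : Scheme.{u}} (𝓘 : S.IdealSheafData) (O : S.affineOpens)
    (w : S) (hw : w ∈ O.1) (hs : w ∈ 𝓘.support) : 𝓘.ideal O ≤ pt S O.1 w hw := by
  intro a ha
  rw [mem_pt]
  rw [Scheme.IdealSheafData.mem_support_iff_of_mem hw] at hs
  exact (Scheme.mem_zeroLocus_iff _ _ _).mp hs a ha

theorem mem_basicOpen_of_not_mem_support {S : Scheme.{u}} (𝓔 : S.IdealSheafData)
    (O : S.affineOpens) (t : Γ(S, O.1)) (hI : 𝓔.ideal O = Ideal.span {t}) (w : S) (hw : w ∈ O.1)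
    (hs : w ∉ 𝓔.support) : w ∈ S.basicOpen t := by
  by_contra h
  apply hs
  rw [Scheme.IdealSheafData.mem_support_iff_of_mem hw, hI, Scheme.zeroLocus_span,
    Scheme.zeroLocus_singleton]
  exact h

theorem exists_factor {R : Type*} [CommRing R] {ι : Type*} (A : ι → Ideal R) (f : R)
    (hf : f ∈ nonZeroDivisors R) (hA : (⨆ i, A i) = Ideal.span {f}) (𝔭 : Ideal R) [h𝔭 : 𝔭.IsPrime] :
    ∃ j, ∃ c : R, c ∉ 𝔭 ∧ c * f ∈ A j := by
  by_contra hcon
  push Not at hcon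
  have hle : ∀ j, A j ≤ Ideal.span {f} * 𝔭 := by
    intro j a ha
    have ha' : a ∈ Ideal.span {f} := hA ▸ (le_iSup A j ha)
    obtain ⟨c, rfl⟩ := Ideal.mem_span_singleton'.mp ha'
    rw [Ideal.mem_span_singleton_mul]
    refine ⟨c, ?_, mul_comm _ _⟩
    by_contra hc
    exact hcon j c hc ha
  have h1 : f ∈ Ideal.span {f} * 𝔭 := by
    have h0 : f ∈ ⨆ i, A i := hA ▸ Ideal.mem_span_singleton_self f
    exact (iSup_le hle) h0
  obtain ⟨s, hs, hfs⟩ := Ideal.mem_span_singleton_mul.mp h1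
  have hs1 : s = 1 := by
    have h2 : (s - 1) * f = 0 := by rw [sub_mul, one_mul, mul_comm, hfs, sub_self]
    exact sub_eq_zero.mp ((mem_nonZeroDivisors_iff_right.mp hf) _ h2)
  exact h𝔭.ne_top ((Ideal.eq_top_iff_one _).mpr (hs1 ▸ hs))

theorem appLE_congr {S₁ S₂ : Scheme.{u}} {h₁ h₂ : S₁ ⟶ S₂} (heq : h₁ = h₂) (O₂ : S₂.Opens)
    (O₁ : S₁.Opens) (e₁ : O₁ ≤ h₁ ⁻¹ᵁ O₂) (e₂ : O₁ ≤ h₂ ⁻¹ᵁ O₂) :
    h₁.appLE O₂ O₁ e₁ = h₂.appLE O₂ O₁ e₂ := by
  subst heq; rfl

open AlgebraicGeometry CategoryTheory Limits in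
/-- Let X and Z be schemes, p : Z → X a morphism, U ⊆ V ⊆ X open subschemes, and f : Y → Z a
quasi-compact immersion whose composite with p lands in U. Let I₁ be a quasi-coherent ideal on X
whose support contains V ∖ U and is disjoint from U, and I₂ a quasi-coherent ideal whose support
lies in supp(I₁) ∖ V. Assume that the closed subscheme p⁻¹(V(I₁²)) ∩ Ȳ of Z, where Ȳ is the
scheme-theoretic image of f, is contained in p⁻¹(V(I₂)) as a closed subscheme: the inverse image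
ideal of I₂ on Z lies in the sum of the inverse image ideal of I₁² and the kernel ideal of f. Then
for every blowing up q : X' → X of X in I₁ + I₂, writing Z' = Z ×_X X' → X' and Y' = Y ×_Z Z' → Z'
for the base changes, the closure in Z' of the image of Y' is disjoint from the preimage in Z' of
the closure in X' of q⁻¹(V ∖ U). (The blowing up is an isomorphism over V, since the support of I₁ +
I₂ is that of I₂ and lies in X ∖ V; the point is that the closure of q⁻¹(V ∖ U) in X', which may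
reach over X ∖ V, still misses the closure of Y'.) -/
theorem result
    {X Y Z X' : Scheme.{u}} (p : Z ⟶ X) (U V : X.Opens) (hUV : U ≤ V)
    (f : Y ⟶ Z) [IsImmersion f] [QuasiCompact f] (hY : Set.range (fun y => p (f y)) ⊆ (U : Set X))
    (𝓘₁ 𝓘₂ : X.IdealSheafData)
    (h₁ : (V : Set X) \ (U : Set X) ⊆ (𝓘₁.support : Set X)) (h₁' : Disjoint (𝓘₁.support : Set X) (U : Set X))
    (h₂ : (𝓘₂.support : Set X) ⊆ (𝓘₁.support : Set X) \ (V : Set X))
    (hincl : 𝓘₂.comap p ≤ (𝓘₁ * 𝓘₁).comap p ⊔ f.ker)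
    (q : X' ⟶ X) (hq : BlowUp.IsBlowUp q (𝓘₁ ⊔ 𝓘₂)) :
    Disjoint (closure (Set.range (fun y => (pullback.snd f (pullback.fst p q)) y)))
      ((fun z => (pullback.snd p q) z) ⁻¹'
        closure ((fun x' => q x') ⁻¹' ((V : Set X) \ (U : Set X)))) := by
  rw [Set.disjoint_left]
  intro z' hz1 hz2
  have hz2' : pullback.snd p q z' ∈ closure ((fun x' => q x') ⁻¹' ((V : Set X) \ (U : Set X))) :=
    hz2
  -- the point x' = snd z' lies over the support of 𝓘₁
  have hx1 : q (pullback.snd p q z') ∈ 𝓘₁.support := by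
    have hcl : IsClosed ((fun x' => q x') ⁻¹' (𝓘₁.support : Set X)) :=
      𝓘₁.support.isClosed.preimage q.continuous
    have hsub : closure ((fun x' => q x') ⁻¹' ((V : Set X) \ (U : Set X))) ⊆
        (fun x' => q x') ⁻¹' (𝓘₁.support : Set X) := closure_minimal (fun w hw => h₁ hw) hcl
    exact hsub hz2'
  -- points of X' lying over the complement of supp 𝓘₁ ∩ supp 𝓘₂ are off the exceptional divisor
  have hoff : ∀ ξ : X', (q ξ ∉ 𝓘₁.support ∨ q ξ ∉ 𝓘₂.support) →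
      ξ ∉ ((𝓘₁ ⊔ 𝓘₂).comap q).support := by
    intro ξ hξ hmem
    rw [Scheme.IdealSheafData.support_comap, Scheme.IdealSheafData.support_sup] at hmem
    have hmem' : q ξ ∈ 𝓘₁.support ∧ q ξ ∈ 𝓘₂.support := hmem
    rcases hξ with h | h
    · exact h hmem'.1
    · exact h hmem'.2
  -- local data at x'
  obtain ⟨_, ⟨W, hW, rfl⟩, hxW, -⟩ := X.isBasis_affineOpens.exists_subset_of_mem_open
    (show q (pullback.snd p q z') ∈ (⊤ : X.Opens) from trivial) (⊤ : X.Opens).isOpen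
  obtain ⟨_, ⟨U₁, hU₁, rfl⟩, hxU₁, hU₁W⟩ := X'.isBasis_affineOpens.exists_subset_of_mem_open
    (show pullback.snd p q z' ∈ q ⁻¹ᵁ W from hxW) (q ⁻¹ᵁ W).isOpen
  obtain ⟨W', hW'U₁, g₁, -, hxW', t, ht, hI⟩ :=
    exists_good_nbhd ((𝓘₁ ⊔ 𝓘₂).comap q) hq.1 ⟨U₁, hU₁⟩ (pullback.snd p q z') hxU₁
  have e : W'.1 ≤ q ⁻¹ᵁ W := le_trans hW'U₁ hU₁W
  have hI2 := comap_ideal_eq_map (𝓘₁ ⊔ 𝓘₂) q W' ⟨W, hW⟩ e
  have hsup : Ideal.map (q.appLE W W'.1 e).hom (𝓘₁.ideal ⟨W, hW⟩) ⊔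
      Ideal.map (q.appLE W W'.1 e).hom (𝓘₂.ideal ⟨W, hW⟩) = Ideal.span {t} := by
    rw [← hI, hI2, ← Ideal.map_sup]
    rfl
  have hA₁t : Ideal.map (q.appLE W W'.1 e).hom (𝓘₁.ideal ⟨W, hW⟩) ≤ Ideal.span {t} :=
    hsup ▸ le_sup_left
  -- elements of A₁ vanish at every point of W' over supp 𝓘₁
  have hA₁pt : ∀ (w : X') (hw : w ∈ W'.1), q w ∈ 𝓘₁.support →
      Ideal.map (q.appLE W W'.1 e).hom (𝓘₁.ideal ⟨W, hW⟩) ≤ pt X' W'.1 w hw := by
    intro w hw hws
    exact map_le_pt q W'.1 W e w hw _ (ideal_le_pt_of_mem_support 𝓘₁ ⟨W, hW⟩ (q w) (e hw) hws)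
  obtain ⟨j, c, hc, hct⟩ := exists_factor
    (fun b : Bool => cond b (Ideal.map (q.appLE W W'.1 e).hom (𝓘₁.ideal ⟨W, hW⟩))
      (Ideal.map (q.appLE W W'.1 e).hom (𝓘₂.ideal ⟨W, hW⟩))) t ht
    (by rw [iSup_bool_eq]; exact hsup) (pt X' W'.1 (pullback.snd p q z') hxW')
  have hxc : pullback.snd p q z' ∈ X'.basicOpen c := by
    by_contra h
    exact hc ((mem_pt hxW' c).mpr h)
  cases j with
  | true =>
    -- the exceptional ideal is generated near x' by an element of A₁: impossible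
    have hct' : c * t ∈ Ideal.map (q.appLE W W'.1 e).hom (𝓘₁.ideal ⟨W, hW⟩) := hct
    obtain ⟨w, hwc, hwVU⟩ := mem_closure_iff.mp hz2' (X'.basicOpen c) (X'.basicOpen c).isOpen hxc
    have hwVU' : q w ∈ (V : Set X) \ (U : Set X) := hwVU
    have hwW' : w ∈ W'.1 := X'.basicOpen_le c hwc
    have hw2 : q w ∉ 𝓘₂.support := fun hmem => (h₂ hmem).2 hwVU'.1
    have hwt : w ∈ X'.basicOpen t :=
      mem_basicOpen_of_not_mem_support _ W' t hI w hwW' (hoff w (Or.inr hw2))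
    have hwct : w ∈ X'.basicOpen (c * t) := by
      rw [Scheme.basicOpen_mul]; exact ⟨hwc, hwt⟩
    exact ((mem_pt hwW' (c * t)).mp (hA₁pt w hwW' (h₁ hwVU') hct')) hwct
  | false =>
    have hct' : c * t ∈ Ideal.map (q.appLE W W'.1 e).hom (𝓘₂.ideal ⟨W, hW⟩) := hct
    -- local data at z and z'
    have hpz : p (pullback.fst p q z') = q (pullback.snd p q z') := by
      rw [← Scheme.Hom.comp_apply, ← Scheme.Hom.comp_apply, pullback.condition]
    obtain ⟨_, ⟨M, hM, rfl⟩, hzM, hMW⟩ := Z.isBasis_affineOpens.exists_subset_of_mem_open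
      (show pullback.fst p q z' ∈ p ⁻¹ᵁ W from by
        show p (pullback.fst p q z') ∈ W
        rw [hpz]; exact hxW) (p ⁻¹ᵁ W).isOpen
    obtain ⟨_, ⟨M', hM', rfl⟩, hzM', hM'le⟩ :=
      (pullback p q).isBasis_affineOpens.exists_subset_of_mem_open
      (show z' ∈ (pullback.fst p q ⁻¹ᵁ M) ⊓ (pullback.snd p q ⁻¹ᵁ W'.1) from ⟨hzM, hxW'⟩)
      ((pullback.fst p q ⁻¹ᵁ M) ⊓ (pullback.snd p q ⁻¹ᵁ W'.1)).isOpen
    have e₂ : M' ≤ pullback.fst p q ⁻¹ᵁ M := le_trans hM'le inf_le_left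
    have e₃ : M' ≤ pullback.snd p q ⁻¹ᵁ W'.1 := le_trans hM'le inf_le_right
    -- compatibility of the ring maps
    have hcomp : ((pullback.fst p q).appLE M M' e₂).hom.comp (p.appLE W M hMW).hom =
        ((pullback.snd p q).appLE W'.1 M' e₃).hom.comp (q.appLE W W'.1 e).hom := by
      have h1 := Scheme.Hom.appLE_comp_appLE (pullback.fst p q) p W M M' hMW e₂
      have h2 := Scheme.Hom.appLE_comp_appLE (pullback.snd p q) q W W'.1 M' e e₃
      have h3 := appLE_congr (pullback.condition (f := p) (g := q)) W M'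
        (e₂.trans ((TopologicalSpace.Opens.map (pullback.fst p q).base).map (homOfLE hMW)).le)
        (e₃.trans ((TopologicalSpace.Opens.map (pullback.snd p q).base).map (homOfLE e)).le)
      rw [← CommRingCat.hom_comp, ← CommRingCat.hom_comp, h1, h2, h3]
    -- the inclusion hypothesis on M
    have hinclM : Ideal.map (p.appLE W M hMW).hom (𝓘₂.ideal ⟨W, hW⟩) ≤
        Ideal.map (p.appLE W M hMW).hom (𝓘₁.ideal ⟨W, hW⟩ * 𝓘₁.ideal ⟨W, hW⟩) ⊔
          f.ker.ideal ⟨M, hM⟩ := by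
      have h0 := Scheme.IdealSheafData.le_def.mp hincl ⟨M, hM⟩
      rw [comap_ideal_eq_map 𝓘₂ p ⟨M, hM⟩ ⟨W, hW⟩ hMW] at h0
      have h1 : ((𝓘₁ * 𝓘₁).comap p ⊔ f.ker).ideal ⟨M, hM⟩ =
          ((𝓘₁ * 𝓘₁).comap p).ideal ⟨M, hM⟩ ⊔ f.ker.ideal ⟨M, hM⟩ := rfl
      rw [h1, comap_ideal_eq_map (𝓘₁ * 𝓘₁) p ⟨M, hM⟩ ⟨W, hW⟩ hMW] at h0
      exact h0
    -- push everything to M'
    have hkey : ((pullback.snd p q).appLE W'.1 M' e₃).hom (c * t) ∈
        Ideal.span {((pullback.snd p q).appLE W'.1 M' e₃).hom t} *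
          Ideal.map ((pullback.snd p q).appLE W'.1 M' e₃).hom
            (Ideal.map (q.appLE W W'.1 e).hom (𝓘₁.ideal ⟨W, hW⟩)) ⊔
        Ideal.map ((pullback.fst p q).appLE M M' e₂).hom (f.ker.ideal ⟨M, hM⟩) := by
      have h1 : ((pullback.snd p q).appLE W'.1 M' e₃).hom (c * t) ∈
          Ideal.map ((pullback.snd p q).appLE W'.1 M' e₃).hom
            (Ideal.map (q.appLE W W'.1 e).hom (𝓘₂.ideal ⟨W, hW⟩)) :=
        Ideal.mem_map_of_mem _ hct'
      rw [Ideal.map_map, ← hcomp, ← Ideal.map_map] at h1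
      have h2 := Ideal.map_mono (f := ((pullback.fst p q).appLE M M' e₂).hom) hinclM h1
      rw [Ideal.map_sup, Ideal.map_map, hcomp, ← Ideal.map_map, Ideal.map_mul] at h2
      have hsq : Ideal.map ((pullback.snd p q).appLE W'.1 M' e₃).hom
            (Ideal.map (q.appLE W W'.1 e).hom (𝓘₁.ideal ⟨W, hW⟩) *
              Ideal.map (q.appLE W W'.1 e).hom (𝓘₁.ideal ⟨W, hW⟩)) ≤
          Ideal.span {((pullback.snd p q).appLE W'.1 M' e₃).hom t} *
            Ideal.map ((pullback.snd p q).appLE W'.1 M' e₃).hom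
              (Ideal.map (q.appLE W W'.1 e).hom (𝓘₁.ideal ⟨W, hW⟩)) := by
        calc Ideal.map ((pullback.snd p q).appLE W'.1 M' e₃).hom
              (Ideal.map (q.appLE W W'.1 e).hom (𝓘₁.ideal ⟨W, hW⟩) *
                Ideal.map (q.appLE W W'.1 e).hom (𝓘₁.ideal ⟨W, hW⟩))
            ≤ Ideal.map ((pullback.snd p q).appLE W'.1 M' e₃).hom
              (Ideal.span {t} * Ideal.map (q.appLE W W'.1 e).hom (𝓘₁.ideal ⟨W, hW⟩)) :=
              Ideal.map_mono (Ideal.mul_mono_left hA₁t)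
          _ = _ := by rw [Ideal.map_mul, Ideal.map_span, Set.image_singleton]
      have hsq' := sup_le_sup_right hsq
        (Ideal.map ((pullback.fst p q).appLE M M' e₂).hom (f.ker.ideal ⟨M, hM⟩))
      exact hsq' h2
    obtain ⟨y₀, hy₀, κ', hκ', hsum⟩ := Submodule.mem_sup.mp hkey
    obtain ⟨m, hm, hTm⟩ := Ideal.mem_span_singleton_mul.mp hy₀
    -- u = γ c - m is a unit at z'
    have hm𝔮 : m ∈ pt (pullback p q) M' z' hzM' :=
      map_le_pt (pullback.snd p q) M' W'.1 e₃ z' hzM' _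
        (hA₁pt (pullback.snd p q z') hxW' hx1) hm
    have hγc : z' ∈ (pullback p q).basicOpen (((pullback.snd p q).appLE W'.1 M' e₃).hom c) :=
      not_mem_pt_map (pullback.snd p q) M' W'.1 e₃ z' hzM' c hxc
    have hu : z' ∈ (pullback p q).basicOpen
        (((pullback.snd p q).appLE W'.1 M' e₃).hom c - m) := by
      by_contra h
      have h1 := (mem_pt hzM' _).mpr h
      have h2 : ((pullback.snd p q).appLE W'.1 M' e₃).hom c ∈ pt (pullback p q) M' z' hzM' := by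
        have := Ideal.add_mem _ h1 hm𝔮
        rwa [sub_add_cancel] at this
      exact ((mem_pt hzM' _).mp h2) hγc
    have hTu : ((pullback.snd p q).appLE W'.1 M' e₃).hom t *
        (((pullback.snd p q).appLE W'.1 M' e₃).hom c - m) = κ' := by
      have hκ'eq : κ' = ((pullback.snd p q).appLE W'.1 M' e₃).hom (c * t) - y₀ := by
        rw [← hsum]; ring
      rw [mul_sub, hTm, hκ'eq, map_mul]; ring
    -- a point of the image of Y' in the basic open of u
    obtain ⟨ζ, hζu, y', hy'⟩ := mem_closure_iff.mp hz1 _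
      ((pullback p q).basicOpen (((pullback.snd p q).appLE W'.1 M' e₃).hom c - m)).isOpen hu
    have hy'' : pullback.snd f (pullback.fst p q) y' = ζ := hy'
    have hζM' : ζ ∈ M' := (pullback p q).basicOpen_le _ hζu
    have hfy : pullback.fst p q ζ = f (pullback.fst f (pullback.fst p q) y') := by
      rw [← hy'', ← Scheme.Hom.comp_apply, ← Scheme.Hom.comp_apply, pullback.condition]
    have hqξ : q (pullback.snd p q ζ) ∈ U := by
      have h1 : q (pullback.snd p q ζ) = p (pullback.fst p q ζ) := by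
        rw [← Scheme.Hom.comp_apply, ← Scheme.Hom.comp_apply, pullback.condition]
      rw [h1, hfy]
      exact hY ⟨_, rfl⟩
    have hξ1 : q (pullback.snd p q ζ) ∉ 𝓘₁.support :=
      fun hmem => Set.disjoint_left.mp h₁' hmem hqξ
    have hξt : pullback.snd p q ζ ∈ X'.basicOpen t :=
      mem_basicOpen_of_not_mem_support _ W' t hI _ (e₃ hζM') (hoff _ (Or.inl hξ1))
    have hζT : ζ ∈ (pullback p q).basicOpen (((pullback.snd p q).appLE W'.1 M' e₃).hom t) :=
      not_mem_pt_map (pullback.snd p q) M' W'.1 e₃ ζ hζM' t hξt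
    have hζTu : ζ ∈ (pullback p q).basicOpen κ' := by
      rw [← hTu, Scheme.basicOpen_mul]; exact ⟨hζT, hζu⟩
    -- but κ' vanishes at ζ
    have hK : f.ker.ideal ⟨M, hM⟩ ≤ pt Z M (pullback.fst p q ζ) (e₂ hζM') := by
      intro κ hκ
      rw [mem_pt, hfy]
      intro hmem
      rw [Scheme.Hom.ker_apply, RingHom.mem_ker] at hκ
      have h1 : pullback.fst f (pullback.fst p q) y' ∈ f ⁻¹ᵁ Z.basicOpen κ := hmem
      rw [Scheme.preimage_basicOpen] at h1
      rw [show Y.basicOpen ((f.app M) κ) = Y.basicOpen ((f.app M).hom κ) from rfl, hκ,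
        Scheme.basicOpen_zero] at h1
      exact h1
    have hκ'pt := map_le_pt (pullback.fst p q) M' M e₂ ζ hζM' _ hK hκ'
    exact ((mem_pt hζM' κ').mp hκ'pt) hζTu

end Groth.Agent.S17391
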