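import Groth.Statements.S17393
import Mathlib
import Groth.Agent.Lib.helper22.BlowUpU
import Groth.Agent.Lib.helper22.BlowUpMul

set_option autoImplicit false
universe u
open BlowUp

namespace Groth.Agent.S17393


open Groth.Agent.H22.BlowUpU Groth.Agent.H22.BlowUpMul Groth.Agent.H22.CartierFlat

open AlgebraicGeometry CategoryTheory Limits in
/-- Let X be any scheme, I and I' quasi-coherent ideals on X (of closed subschemes Y and Y'), b : X' → X
a blowing up of X in I + I' (the ideal of Y ∩ Y'), b' : Ỹ → Y a blowing up of Y = V(I) in the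
inverse image of I + I' and k : Ỹ → X' the morphism with k ≫ b = b' ≫ (Y → X), whose image is the
strict transform of Y. For an affine open V of X, a section s of I over V, and an affine open V' ⊆
b⁻¹(V) of X' which meets the image of k, the ideal of the inverse image ideal sheaf (I + I')·O_X' on
V' is not the principal ideal generated by the pullback of s. Equivalently the strict transform of Y
does not meet the open locus U(s) where s generates the (invertible) inverse image ideal; since the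
U(s) for s ranging over local sections of I and of I' cover X', the strict transform of Y lies in
the union of the U(s) with s a local section of I'. -/
theorem result
    {X X' Yt : Scheme.{u}} (𝓘 𝓘' : X.IdealSheafData) (b : X' ⟶ X) (hb : BlowUp.IsBlowUp b (𝓘 ⊔ 𝓘'))
    (b' : Yt ⟶ 𝓘.subscheme) (hb' : BlowUp.IsBlowUp b' ((𝓘 ⊔ 𝓘').comap 𝓘.subschemeι))
    (k : Yt ⟶ X') (hk : k ≫ b = b' ≫ 𝓘.subschemeι)
    (V : X.affineOpens) (s : Γ(X, V.1)) (hs : s ∈ 𝓘.ideal V)
    (V' : X'.affineOpens) (hV' : V'.1 ≤ b ⁻¹ᵁ V.1)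
    (hmeet : (Set.range (fun y => k y) ∩ (V'.1 : Set X')).Nonempty) :
    ((𝓘 ⊔ 𝓘').comap b).ideal V' ≠ Ideal.span {(b.appLE V.1 V'.1 hV').hom s} := by
  intro heq
  obtain ⟨x', ⟨y, hy⟩, hxV'⟩ := hmeet
  have hy' : k y = x' := hy
  have hk' : (𝓘 ⊔ 𝓘').comap (k ≫ b) = ((𝓘 ⊔ 𝓘').comap 𝓘.subschemeι).comap b' := by
    rw [hk, Scheme.IdealSheafData.comap_comp]
  have hcart : BlowUp.IsEffCartierIdeal (((𝓘 ⊔ 𝓘').comap b).comap k) := by
    rw [← Scheme.IdealSheafData.comap_comp, hk']; exact hb'.1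
  have hyV' : y ∈ k ⁻¹ᵁ V'.1 := by
    show k y ∈ V'.1
    rw [hy']; exact hxV'
  obtain ⟨_, ⟨N₁, hN₁, rfl⟩, hyN₁, hN₁V'⟩ := Yt.isBasis_affineOpens.exists_subset_of_mem_open
    hyV' (k ⁻¹ᵁ V'.1).isOpen
  obtain ⟨N, hNN₁, g₂, -, hyN, t, ht, hIt⟩ :=
    exists_good_nbhd (((𝓘 ⊔ 𝓘').comap b).comap k) hcart ⟨N₁, hN₁⟩ y hyN₁
  have e2 : N.1 ≤ k ⁻¹ᵁ V'.1 := le_trans hNN₁ hN₁V'
  have hIt2 := comap_ideal_eq_map ((𝓘 ⊔ 𝓘').comap b) k N V' e2
  have hbot : 𝓘.comap (k ≫ b) = ⊥ := by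
    rw [hk, eq_bot_iff, ← Scheme.IdealSheafData.le_map_iff_comap_le,
      Scheme.IdealSheafData.map_bot]
    calc 𝓘 = 𝓘.subschemeι.ker := 𝓘.ker_subschemeι.symm
      _ ≤ _ := Scheme.Hom.le_ker_comp _ _
  have hzero : (k.appLE V'.1 N.1 e2).hom ((b.appLE V.1 V'.1 hV').hom s) = 0 := by
    have h1 : (k.appLE V'.1 N.1 e2).hom ((b.appLE V.1 V'.1 hV').hom s) ∈
        Ideal.map (k.appLE V'.1 N.1 e2).hom
          (Ideal.map (b.appLE V.1 V'.1 hV').hom (𝓘.ideal V)) :=
      Ideal.mem_map_of_mem _ (Ideal.mem_map_of_mem _ hs)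
    have h2 : Ideal.map (k.appLE V'.1 N.1 e2).hom
        (Ideal.map (b.appLE V.1 V'.1 hV').hom (𝓘.ideal V)) = ⊥ := by
      rw [← comap_ideal_eq_map 𝓘 b V' V hV',
        ← comap_ideal_eq_map (𝓘.comap b) k N V' e2,
        ← Scheme.IdealSheafData.comap_comp, hbot]
      rfl
    rw [h2] at h1
    exact (Submodule.mem_bot _).mp h1
  have ht0 : t = 0 := by
    have h0 : Ideal.span {t} = ⊥ := by
      rw [← hIt, hIt2, heq, Ideal.map_span, Set.image_singleton, hzero]
      simp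
    exact Ideal.span_singleton_eq_bot.mp h0
  have h10 : (1 : Γ(Yt, N.1)) = 0 :=
    (mem_nonZeroDivisors_iff_right.mp ht) 1 (by rw [ht0, mul_zero])
  have hy1 : y ∈ Yt.basicOpen (1 : Γ(Yt, N.1)) := by
    rw [Scheme.mem_basicOpen _ _ y hyN, map_one]
    exact isUnit_one
  rw [h10, Scheme.basicOpen_zero] at hy1
  exact hy1

end Groth.Agent.S17393
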