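import Groth.Statements.S17409
import Mathlib

set_option autoImplicit false
universe u
open Prym5

namespace Groth.Agent.S17409

/-- Over a perfect field K of characteristic different from 2 and 3, let G₂, G₃, G₄ be polynomials in
two variables x, y and consider G₂ z² + 2 G₃ z + G₄ as a polynomial in the three variables x, y, z.
If it lies in the square of the ideal (x, y, z) — the surface it defines has a double point at the
origin — then the discriminant G₃² − G₂ G₄ lies in the square of the ideal (x, y) of K[x, y], so the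
plane curve G₃² − G₂ G₄ = 0 is singular at the origin. (This is the affine-local form used in the
published proof: the surface is a quartic with a node at the centre of projection placed at infinity
on the z-axis, and the curve is the branch sextic of that projection.) -/
theorem result (K : Type u) [Field K] [PerfectField K]
    (h2 : (2 : K) ≠ 0) (h3 : (3 : K) ≠ 0) (G₂ G₃ G₄ : MvPolynomial (Fin 2) K)
    (h : MvPolynomial.rename (Fin.castSucc : Fin 2 → Fin 3) G₂ * MvPolynomial.X (2 : Fin 3) ^ 2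
        + 2 * MvPolynomial.rename (Fin.castSucc : Fin 2 → Fin 3) G₃ * MvPolynomial.X (2 : Fin 3)
        + MvPolynomial.rename (Fin.castSucc : Fin 2 → Fin 3) G₄
        ∈ (Ideal.span (Set.range (MvPolynomial.X : Fin 3 → MvPolynomial (Fin 3) K))) ^ 2) :
    G₃ ^ 2 - G₂ * G₄ ∈ (Ideal.span (Set.range (MvPolynomial.X : Fin 2 → MvPolynomial (Fin 2) K))) ^ 2 := by
  classical
  rw [MvPolynomial.mem_pow_idealOfVars_iff'] at h
  have hinj : Function.Injective (Fin.castSucc : Fin 2 → Fin 3) := Fin.castSucc_injective 2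
  have hz : ∀ μ : Fin 2 →₀ ℕ, (μ.mapDomain (Fin.castSucc : Fin 2 → Fin 3)) (2 : Fin 3) = 0 := by
    intro μ
    apply Finsupp.mapDomain_of_notMem_range
    rintro ⟨i, hi⟩
    fin_cases i <;> simp [Fin.ext_iff] at hi
  have hzsupp : ∀ μ : Fin 2 →₀ ℕ,
      (2 : Fin 3) ∉ (μ.mapDomain (Fin.castSucc : Fin 2 → Fin 3)).support := by
    intro μ
    rw [Finsupp.mem_support_iff, hz]
    simp
  have hG4 : G₄ ∈ (Ideal.span (Set.range (MvPolynomial.X : Fin 2 → MvPolynomial (Fin 2) K))) ^ 2 := by
    rw [MvPolynomial.mem_pow_idealOfVars_iff']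
    intro μ hμ
    have h0 := h (μ.mapDomain Fin.castSucc) (by rw [Finsupp.degree_mapDomain]; exact hμ)
    rw [MvPolynomial.coeff_add, MvPolynomial.coeff_add,
      MvPolynomial.coeff_rename_mapDomain _ hinj] at h0
    have t1 : MvPolynomial.coeff (μ.mapDomain Fin.castSucc)
        (MvPolynomial.rename (Fin.castSucc : Fin 2 → Fin 3) G₂ * MvPolynomial.X (2 : Fin 3) ^ 2) = 0 := by
      rw [pow_two, ← mul_assoc, MvPolynomial.coeff_mul_X', if_neg (hzsupp μ)]
    have t2 : MvPolynomial.coeff (μ.mapDomain Fin.castSucc)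
        (2 * MvPolynomial.rename (Fin.castSucc : Fin 2 → Fin 3) G₃ * MvPolynomial.X (2 : Fin 3)) = 0 := by
      rw [MvPolynomial.coeff_mul_X', if_neg (hzsupp μ)]
    rw [t1, t2, zero_add, zero_add] at h0
    exact h0
  have hG3 : G₃ ∈ Ideal.span (Set.range (MvPolynomial.X : Fin 2 → MvPolynomial (Fin 2) K)) := by
    rw [← pow_one (Ideal.span (Set.range (MvPolynomial.X : Fin 2 → MvPolynomial (Fin 2) K))),
      MvPolynomial.mem_pow_idealOfVars_iff']
    intro μ hμ
    have hμ0 : μ = 0 := by
      have : Finsupp.degree μ = 0 := by omega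
      exact (Finsupp.degree_eq_zero_iff μ).mp this
    subst hμ0
    have h0 := h (Finsupp.single (2 : Fin 3) 1) (by rw [Finsupp.degree_single]; norm_num)
    rw [MvPolynomial.coeff_add, MvPolynomial.coeff_add] at h0
    have hs : (2 : Fin 3) ∈ (Finsupp.single (2 : Fin 3) 1).support := by simp
    have hs0 : (2 : Fin 3) ∉ ((0 : Fin 3 →₀ ℕ)).support := by simp
    have t1 : MvPolynomial.coeff (Finsupp.single (2 : Fin 3) 1)
        (MvPolynomial.rename (Fin.castSucc : Fin 2 → Fin 3) G₂ * MvPolynomial.X (2 : Fin 3) ^ 2) = 0 := by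
      rw [pow_two, ← mul_assoc, MvPolynomial.coeff_mul_X', if_pos hs, tsub_self,
        MvPolynomial.coeff_mul_X', if_neg hs0]
    have t2 : MvPolynomial.coeff (Finsupp.single (2 : Fin 3) 1)
        (2 * MvPolynomial.rename (Fin.castSucc : Fin 2 → Fin 3) G₃ * MvPolynomial.X (2 : Fin 3)) =
        2 * MvPolynomial.coeff 0 G₃ := by
      have e2 : (2 : MvPolynomial (Fin 3) K) = MvPolynomial.C 2 := (map_ofNat MvPolynomial.C 2).symm
      have e0 : ((0 : Fin 2 →₀ ℕ).mapDomain (Fin.castSucc : Fin 2 → Fin 3)) = 0 :=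
        Finsupp.mapDomain_zero
      rw [MvPolynomial.coeff_mul_X', if_pos hs, tsub_self, e2, MvPolynomial.coeff_C_mul, ← e0,
        MvPolynomial.coeff_rename_mapDomain _ hinj]
    have t3 : MvPolynomial.coeff (Finsupp.single (2 : Fin 3) 1)
        (MvPolynomial.rename (Fin.castSucc : Fin 2 → Fin 3) G₄) = 0 := by
      apply MvPolynomial.coeff_rename_eq_zero
      intro u hu
      have h5 := congrArg (fun m : Fin 3 →₀ ℕ => m (2 : Fin 3)) hu
      simp only [hz, Finsupp.single_eq_same] at h5
      omega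
    rw [t1, t2, t3, zero_add, add_zero] at h0
    exact (mul_eq_zero.mp h0).resolve_left h2
  have h3 : G₃ ^ 2 ∈ (Ideal.span (Set.range (MvPolynomial.X : Fin 2 → MvPolynomial (Fin 2) K))) ^ 2 :=
    Ideal.pow_mem_pow hG3 2
  have h4 : G₂ * G₄ ∈ (Ideal.span (Set.range (MvPolynomial.X : Fin 2 → MvPolynomial (Fin 2) K))) ^ 2 :=
    Ideal.mul_mem_left _ _ hG4
  exact Ideal.sub_mem _ h3 h4

end Groth.Agent.S17409
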