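import Groth.Statements.S1741
-- import your own Groth.Agent.* helpers here
import Mathlib
import Groth.Agent.Lib.helper6.TorExtShift

set_option autoImplicit false
universe u
open CategoryTheory
attribute [local instance] HasDerivedCategory.standard
open LocCoh

namespace Groth.Agent.S1741

/-- Equivalence of (4) and (7) in the Noetherian case. Let R be a Noetherian ring, α : M → M' a map of
R-modules with M finite, and e ≥ 0. Then precomposition with α kills all classes in Ext^{e+1}(M', N)
(maps M' → N[e+1] in D(R)) for every module N if and only if the map Tor_{e+1}(M, N) → Tor_{e+1}(M',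
N) induced by α is zero for every module N. -/
theorem result (R : Type u) [CommRing R] [IsNoetherianRing R] (M M' : Type u) [AddCommGroup M] [Module R M] [Module.Finite R M] [AddCommGroup M'] [Module R M'] (α : M →ₗ[R] M') (e : ℕ) : (∀ (N : Type u) [AddCommGroup N] [Module R N] (φ : Dual.inD R M' ⟶ (Dual.inD R N)⟦((e : ℤ) + 1)⟧), (DerivedCategory.singleFunctor (ModuleCat.{u} R) 0).map (ModuleCat.ofHom α) ≫ φ = 0) ↔ (∀ (N : Type u) [AddCommGroup N] [Module R N], ((CategoryTheory.Tor (ModuleCat.{u} R) (e + 1)).map (ModuleCat.ofHom α)).app (ModuleCat.of R N) = 0) := by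
  have key := Groth.Agent.Lib.helper6.TorExtShift.PE_iff_PT (A := R) e M M' α
  have tr : ∀ (N : Type u) [AddCommGroup N] [Module R N],
      (∀ φ : Dual.inD R M' ⟶ (Dual.inD R N)⟦((e : ℤ) + 1)⟧,
        (DerivedCategory.singleFunctor (ModuleCat.{u} R) 0).map (ModuleCat.ofHom α) ≫ φ = 0) ↔
      (∀ x : Abelian.Ext (ModuleCat.of R M') (ModuleCat.of R N) (e + 1),
        (Abelian.Ext.mk₀ (ModuleCat.ofHom α)).comp x (zero_add (e + 1)) = 0) := by
    intro N _ _
    exact Groth.Agent.Lib.helper6.TorExtShift.transl (ModuleCat.ofHom α) ((e : ℤ) + 1) (e + 1)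
      (by push_cast; rfl)
  constructor
  · intro h N _ _
    refine key.mp ?_ (ModuleCat.of R N)
    intro Y x
    exact (tr Y).mp (h Y) x
  · intro h N _ _
    refine (tr N).mpr ?_
    intro x
    exact key.mpr (fun N' => h N') (ModuleCat.of R N) x

end Groth.Agent.S1741
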