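import Groth.Statements.S17414
import Mathlib

set_option autoImplicit false
universe u
open Prym5

namespace Groth.Agent.S17414aux
open MvPolynomial

variable {K : Type u} [Field K]

theorem mem_vars_iff {σ : Type*} (p : MvPolynomial σ K) :
    p ∈ Ideal.span (Set.range (X : σ → MvPolynomial σ K)) ↔ constantCoeff p = 0 := by
  have h := mem_pow_idealOfVars_iff' (σ := σ) (R := K) 1 p
  rw [pow_one] at h
  rw [h]
  constructor
  · intro hh
    exact hh 0 (by simp)
  · intro hh x hx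
    have : x = 0 := by
      rw [Nat.lt_one_iff] at hx
      exact (Finsupp.degree_eq_zero_iff x).1 hx
    rw [this]; exact hh

noncomputable abbrev ρ (K : Type u) [Field K] : MvPolynomial (Fin 2) K →ₐ[K] MvPolynomial (Fin 3) K :=
  rename (Fin.castSucc : Fin 2 → Fin 3)

noncomputable abbrev r (K : Type u) [Field K] : MvPolynomial (Fin 3) K →ₐ[K] MvPolynomial (Fin 2) K :=
  aeval ![X 0, X 1, 0]

theorem r_ρ (p : MvPolynomial (Fin 2) K) : r K (ρ K p) = p := by
  show aeval _ (rename _ p) = p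
  rw [aeval_rename]
  have : (![X 0, X 1, 0] : Fin 3 → MvPolynomial (Fin 2) K) ∘ Fin.castSucc = X := by
    funext i; fin_cases i <;> rfl
  rw [this, aeval_X_left_apply]

noncomputable abbrev m (K : Type u) [Field K] : Ideal (MvPolynomial (Fin 2) K) := Ideal.span (Set.range X)
noncomputable abbrev M (K : Type u) [Field K] : Ideal (MvPolynomial (Fin 3) K) := Ideal.span (Set.range X)

theorem map_ρ_le : Ideal.map (ρ K) (m K) ≤ M K := by
  rw [Ideal.map_span, Ideal.span_le]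
  rintro _ ⟨_, ⟨i, rfl⟩, rfl⟩
  apply Ideal.subset_span
  exact ⟨Fin.castSucc i, (rename_X _ _).symm⟩

theorem map_r_le : Ideal.map (r K) (M K) ≤ m K := by
  rw [Ideal.map_span, Ideal.span_le]
  rintro _ ⟨_, ⟨i, rfl⟩, rfl⟩
  fin_cases i
  · have : r K (X 0) = X 0 := by simp [r]
    show r K (X 0) ∈ _
    rw [this]; exact Ideal.subset_span ⟨0, rfl⟩
  · have : r K (X 1) = X 1 := by simp [r]
    show r K (X 1) ∈ _
    rw [this]; exact Ideal.subset_span ⟨1, rfl⟩
  · have : r K (X 2) = 0 := by simp [r]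
    show r K (X 2) ∈ _
    rw [this]; exact Ideal.zero_mem _

theorem ρ_mem_pow (k : ℕ) (p : MvPolynomial (Fin 2) K) (hp : p ∈ m K ^ k) : ρ K p ∈ M K ^ k := by
  have h1 : ρ K p ∈ Ideal.map (ρ K) (m K ^ k) := Ideal.mem_map_of_mem _ hp
  rw [Ideal.map_pow] at h1
  exact Ideal.pow_right_mono map_ρ_le k h1

theorem r_mem_pow (k : ℕ) (p : MvPolynomial (Fin 3) K) (hp : p ∈ M K ^ k) : r K p ∈ m K ^ k := by
  have h1 : r K p ∈ Ideal.map (r K) (M K ^ k) := Ideal.mem_map_of_mem _ hp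
  rw [Ideal.map_pow] at h1
  exact Ideal.pow_right_mono map_r_le k h1

theorem ρ_mem_sq_iff (p : MvPolynomial (Fin 2) K) : ρ K p ∈ M K ^ 2 ↔ p ∈ m K ^ 2 := by
  constructor
  · intro h
    have := r_mem_pow 2 _ h
    rwa [r_ρ] at this
  · exact ρ_mem_pow 2 p

theorem main (G₂ G₃ G₄ : MvPolynomial (Fin 2) K)
    (hQ : ρ K G₂ * X (2 : Fin 3) ^ 2 + 2 * ρ K G₃ * X (2 : Fin 3) + ρ K G₄ ∈ M K)
    (hD : G₃ ^ 2 - G₂ * G₄ ∈ m K) :
    G₃ ^ 2 - G₂ * G₄ ∈ m K ^ 2 ↔
      (ρ K G₂ * X (2 : Fin 3) ^ 2 + 2 * ρ K G₃ * X (2 : Fin 3) + ρ K G₄ ∈ M K ^ 2 ∨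
        (G₂ ∈ m K ∧ G₃ ∈ m K ∧ G₄ ∈ m K)) := by
  have hz : (X (2 : Fin 3) : MvPolynomial (Fin 3) K) ∈ M K := Ideal.subset_span ⟨2, rfl⟩
  have g4 : constantCoeff G₄ = 0 := by
    rw [mem_vars_iff] at hQ
    simpa [constantCoeff_rename] using hQ
  have g3 : constantCoeff G₃ = 0 := by
    rw [mem_vars_iff] at hD
    simp only [map_sub, map_pow, map_mul, g4, mul_zero, sub_zero] at hD
    exact pow_eq_zero_iff (by norm_num) |>.1 hD
  have hG3 : G₃ ∈ m K := (mem_vars_iff G₃).2 g3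
  have hG4 : G₄ ∈ m K := (mem_vars_iff G₄).2 g4
  have hG2' : G₂ - C (constantCoeff G₂) ∈ m K := by
    rw [mem_vars_iff]; simp
  -- key1
  have key1 : G₃ ^ 2 - G₂ * G₄ ∈ m K ^ 2 ↔ C (constantCoeff G₂) * G₄ ∈ m K ^ 2 := by
    have hsum : G₃ ^ 2 - G₂ * G₄ + C (constantCoeff G₂) * G₄ ∈ m K ^ 2 := by
      have e : G₃ ^ 2 - G₂ * G₄ + C (constantCoeff G₂) * G₄ =
          G₃ ^ 2 - (G₂ - C (constantCoeff G₂)) * G₄ := by ring
      rw [e]
      refine Ideal.sub_mem _ (Ideal.pow_mem_pow hG3 2) ?_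
      rw [pow_two]
      exact Ideal.mul_mem_mul hG2' hG4
    constructor
    · intro h
      have := Ideal.sub_mem _ hsum h
      rwa [add_sub_cancel_left] at this
    · intro h
      have := Ideal.sub_mem _ hsum h
      rwa [add_sub_cancel_right] at this
  -- key2
  have key2 : ρ K G₂ * X (2 : Fin 3) ^ 2 + 2 * ρ K G₃ * X (2 : Fin 3) + ρ K G₄ ∈ M K ^ 2 ↔
      ρ K G₄ ∈ M K ^ 2 := by
    have hrest : ρ K G₂ * X (2 : Fin 3) ^ 2 + 2 * ρ K G₃ * X (2 : Fin 3) ∈ M K ^ 2 := by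
      refine Ideal.add_mem _ (Ideal.mul_mem_left _ _ (Ideal.pow_mem_pow hz 2)) ?_
      rw [mul_assoc]
      refine Ideal.mul_mem_left _ _ ?_
      rw [pow_two]
      refine Ideal.mul_mem_mul ?_ hz
      have := ρ_mem_pow 1 G₃ (by rwa [pow_one])
      rwa [pow_one] at this
    constructor
    · intro h
      have := Ideal.sub_mem _ h hrest
      rwa [add_sub_cancel_left] at this
    · intro h
      exact Ideal.add_mem _ hrest h
  rw [key1, key2, ρ_mem_sq_iff]
  by_cases g2 : constantCoeff G₂ = 0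
  · rw [g2, C_0, zero_mul]
    constructor
    · intro _
      exact Or.inr ⟨(mem_vars_iff G₂).2 g2, hG3, hG4⟩
    · intro _
      exact Ideal.zero_mem _
  · have hu : IsUnit (C (constantCoeff G₂) : MvPolynomial (Fin 2) K) :=
      (isUnit_iff_ne_zero.2 g2).map C
    constructor
    · intro h
      left
      obtain ⟨v, hv⟩ := hu
      have := Ideal.mul_mem_left _ (↑v⁻¹ : MvPolynomial (Fin 2) K) h
      rwa [← hv, ← mul_assoc, Units.inv_mul, one_mul] at this
    · rintro (h | ⟨h, -, -⟩)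
      · exact Ideal.mul_mem_left _ _ h
      · exact absurd ((mem_vars_iff G₂).1 h) g2

end Groth.Agent.S17414aux

namespace Groth.Agent.S17414

/-- Over a perfect field K of characteristic different from 2 and 3, let G₂, G₃, G₄ be polynomials in x,
y, let h = G₂ z² + 2 G₃ z + G₄ in K[x, y, z] and D = G₃² − G₂ G₄ in K[x, y]. Suppose h ∈ (x, y, z) —
the origin Q lies on the surface h = 0 — and D ∈ (x, y) — the image of Q under (x, y, z) ↦ (x, y)
lies on the discriminant curve D = 0. Then D ∈ (x, y)², i.e. the image point is singular on the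
discriminant curve, if and only if either h ∈ (x, y, z)², i.e. Q is a singular point of the surface,
or G₂, G₃, G₄ ∈ (x, y), i.e. Q lies on all three cones G₂ = G₃ = G₄ = 0. (Affine-local form, in a
chart where the node projected from sits at infinity on the z-axis and Q at the origin, of the
published claim: for a point Q ≠ P of the nodal quartic whose projection lies on the branch sextic,
the projection is singular on the sextic exactly when Q is singular on the quartic or lies on the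
cones u₂ = u₃ = u₄ = 0.) -/
theorem result (K : Type u) [Field K] [PerfectField K]
    (h2 : (2 : K) ≠ 0) (h3 : (3 : K) ≠ 0) (G₂ G₃ G₄ : MvPolynomial (Fin 2) K)
    (hQ : MvPolynomial.rename (Fin.castSucc : Fin 2 → Fin 3) G₂ * MvPolynomial.X (2 : Fin 3) ^ 2
        + 2 * MvPolynomial.rename (Fin.castSucc : Fin 2 → Fin 3) G₃ * MvPolynomial.X (2 : Fin 3)
        + MvPolynomial.rename (Fin.castSucc : Fin 2 → Fin 3) G₄
        ∈ Ideal.span (Set.range (MvPolynomial.X : Fin 3 → MvPolynomial (Fin 3) K)))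
    (hD : G₃ ^ 2 - G₂ * G₄ ∈ Ideal.span (Set.range (MvPolynomial.X : Fin 2 → MvPolynomial (Fin 2) K))) :
    G₃ ^ 2 - G₂ * G₄ ∈ (Ideal.span (Set.range (MvPolynomial.X : Fin 2 → MvPolynomial (Fin 2) K))) ^ 2 ↔
      (MvPolynomial.rename (Fin.castSucc : Fin 2 → Fin 3) G₂ * MvPolynomial.X (2 : Fin 3) ^ 2
          + 2 * MvPolynomial.rename (Fin.castSucc : Fin 2 → Fin 3) G₃ * MvPolynomial.X (2 : Fin 3)
          + MvPolynomial.rename (Fin.castSucc : Fin 2 → Fin 3) G₄
          ∈ (Ideal.span (Set.range (MvPolynomial.X : Fin 3 → MvPolynomial (Fin 3) K))) ^ 2 ∨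
        (G₂ ∈ Ideal.span (Set.range (MvPolynomial.X : Fin 2 → MvPolynomial (Fin 2) K)) ∧
          G₃ ∈ Ideal.span (Set.range (MvPolynomial.X : Fin 2 → MvPolynomial (Fin 2) K)) ∧
          G₄ ∈ Ideal.span (Set.range (MvPolynomial.X : Fin 2 → MvPolynomial (Fin 2) K)))) := by
  exact Groth.Agent.S17414aux.main G₂ G₃ G₄ hQ hD

end Groth.Agent.S17414
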