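import Groth.Statements.S1742
import Groth.Agent.Lib.helper9.Depth23
-- import your own Groth.Agent.* helpers here

set_option autoImplicit false
universe u
open LocCoh

namespace Groth.Agent.S1742

/-- Let A be a Noetherian ring, I an ideal, M a finite A-module and p a prime containing I such that the
IA_p-depth of M_p is a finite number e. Then there is an open subset U of Spec A meeting V(p) such
that the IA_q-depth of M_q is at least e for every q in U ∩ V(p). -/
theorem result (A : Type u) [CommRing A] [IsNoetherianRing A] (I : Ideal A) (M : Type u) [AddCommGroup M] [Module A M] [Module.Finite A M] (p : PrimeSpectrum A) (hp : I ≤ p.asIdeal) (e : ℕ) (he : LocCoh.idealDepth (I.map (algebraMap A (Localization.AtPrime p.asIdeal))) (LocalizedModule p.asIdeal.primeCompl M) = e) : ∃ U : Set (PrimeSpectrum A), IsOpen U ∧ (U ∩ PrimeSpectrum.zeroLocus (p.asIdeal : Set A)).Nonempty ∧ ∀ q : PrimeSpectrum A, q ∈ U → p ≤ q → (e : ℕ∞) ≤ LocCoh.idealDepth (I.map (algebraMap A (Localization.AtPrime q.asIdeal))) (LocalizedModule q.asIdeal.primeCompl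 M) := by
  classical
  obtain ⟨ys, hlen, hreg, hmem⟩ :=
    Groth.Agent.Lib.helper9.DepthHom.exists_of_le_idealDepth
      (I := I.map (algebraMap A (Localization.AtPrime p.asIdeal)))
      (M := LocalizedModule p.asIdeal.primeCompl M) e he.ge
  obtain ⟨xs, hlen', hxs, hxsreg⟩ :=
    Groth.Agent.Lib.helper9.Depth.exists_lift_isWeaklyRegular_ideal p.asIdeal I ys _ hreg hmem
  obtain ⟨f, hfp, hf⟩ :=
    Groth.Agent.Lib.helper9.Depth.exists_notMem_isWeaklyRegular_localization p.asIdeal xs M hxsreg
  refine ⟨(PrimeSpectrum.basicOpen f : Set (PrimeSpectrum A)), (PrimeSpectrum.basicOpen f).isOpen,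
    ⟨p, hfp, ?_⟩, ?_⟩
  · rw [PrimeSpectrum.mem_zeroLocus]
  · intro q hq _
    have h1 := hf q.asIdeal hq
    have h2 := Groth.Agent.Lib.helper9.DepthHom.length_le_idealDepth
      (I := I.map (algebraMap A (Localization.AtPrime q.asIdeal))) h1 (by
        intro r hr
        obtain ⟨a, ha, rfl⟩ := List.mem_map.mp hr
        exact Ideal.mem_map_of_mem _ (hxs a ha))
    rw [List.length_map, hlen', hlen] at h2
    exact h2

end Groth.Agent.S1742
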