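import Groth.Statements.S17444
import Mathlib

set_option autoImplicit false
universe u v
open SSRed

namespace Groth.Agent.S17444



/-- Let K be a field of characteristic zero, V a K-vector space and g a K-linear endomorphism of V such
that g - 1 is nilpotent (a unipotent automorphism). Then for every integer n > 0 the endomorphisms
gⁿ - 1 and g - 1 have the same kernel: a vector fixed by gⁿ is fixed by g. (The published statement
assumes V finite-dimensional; this row allows any V.) -/
theorem result (K : Type u) (V : Type v) [Field K] [CharZero K]
    [AddCommGroup V] [Module K V] (g : Module.End K V) (hg : IsNilpotent (g - 1)) (n : ℕ) (hn : 0 < n) :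
    LinearMap.ker (g ^ n - 1) = LinearMap.ker (g - 1) := by
  have aux : ∀ (N : Module.End K V), IsNilpotent N →
      LinearMap.ker ((1 + N) ^ n - 1) = LinearMap.ker N := by
    intro N hN
    have hcomm : Commute ((1 + N) ^ n - 1) N := by
      apply Commute.sub_left
      · apply Commute.pow_left
        exact (Commute.one_left N).add_left (Commute.refl N)
      · exact Commute.one_left N
    have key : ∀ (w : V), N (N w) = 0 → ∀ j : ℕ,
        ((1 + N) ^ j) w = w + (j : K) • N w ∧ ((1 + N) ^ j) (N w) = N w := by
      intro w hw j
      induction j with
      | zero => simp
      | succ j ih =>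
        obtain ⟨ih1, ih2⟩ := ih
        constructor
        · rw [pow_succ, Module.End.mul_apply]
          have : (1 + N) w = w + N w := by simp
          rw [this, map_add, ih1, ih2]
          push_cast
          rw [add_smul, one_smul]
          abel
        · rw [pow_succ, Module.End.mul_apply]
          have : (1 + N) (N w) = N w := by simp [hw]
          rw [this, ih2]
    apply le_antisymm
    · obtain ⟨m, hm⟩ := hN
      have main : ∀ (m : ℕ) (v : V), (N ^ m) v = 0 → ((1 + N) ^ n - 1) v = 0 → N v = 0 := by
        intro m
        induction m with
        | zero =>
          intro v hv _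
          simp at hv
          simp [hv]
        | succ m ih =>
          intro v hv hv2
          have h1 : N (N v) = 0 := by
            apply ih (N v)
            · rw [← Module.End.mul_apply, ← pow_succ]; exact hv
            · rw [← Module.End.mul_apply, hcomm.eq, Module.End.mul_apply, hv2, map_zero]
          have h2 := (key v h1 n).1
          have h3 : ((1 + N) ^ n - 1) v = (n : K) • N v := by
            rw [LinearMap.sub_apply, h2]; simp
          rw [hv2] at h3
          have hn0 : (n : K) ≠ 0 := by exact_mod_cast hn.ne'
          exact (smul_eq_zero.mp h3.symm).resolve_left hn0
      intro v hv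
      rw [LinearMap.mem_ker] at hv ⊢
      exact main m v (by rw [hm]; rfl) hv
    · intro v hv
      rw [LinearMap.mem_ker] at hv ⊢
      have h1 : N (N v) = 0 := by rw [hv, map_zero]
      have h2 := (key v h1 n).1
      rw [LinearMap.sub_apply, h2, hv]; simp
  have h := aux (g - 1) hg
  rwa [add_sub_cancel] at h

end Groth.Agent.S17444
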