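import Groth.Statements.S17446
import Mathlib

set_option autoImplicit false
universe u v
open SSRed

namespace Groth.Agent.S17446

section
variable {K : Type u} {V : Type v} [Field K] [AddCommGroup V] [Module K V]

/-- the coercion as a monoid hom -/
noncomputable def ι : (V ≃ₗ[K] V) →* Module.End K V where
  toFun x := (x : Module.End K V)
  map_one' := rfl
  map_mul' _ _ := rfl

theorem ι_apply (x : V ≃ₗ[K] V) : ι x = (x : Module.End K V) := rfl

/-- span of `x - 1` for `x ∈ H` -/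
noncomputable def Dof (H : Subgroup (V ≃ₗ[K] V)) : Submodule K (Module.End K V) :=
  Submodule.span K ((fun x => ι x - 1) '' (H : Set (V ≃ₗ[K] V)))

noncomputable def Rof (H : Subgroup (V ≃ₗ[K] V)) : Submodule K (Module.End K V) :=
  Submodule.span K (ι '' (H : Set (V ≃ₗ[K] V)))

theorem Rof_mul (H : Subgroup (V ≃ₗ[K] V)) : Rof H * Rof H ≤ Rof H := by
  unfold Rof
  rw [Submodule.span_mul_span, Submodule.span_le]
  rintro _ ⟨_, ⟨x, hx, rfl⟩, _, ⟨y, hy, rfl⟩, rfl⟩
  exact Submodule.subset_span ⟨x * y, H.mul_mem hx hy, map_mul ι x y⟩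

theorem one_mem_Rof (H : Subgroup (V ≃ₗ[K] V)) : (1 : Module.End K V) ∈ Rof H :=
  Submodule.subset_span ⟨1, H.one_mem, map_one ι⟩

theorem one_le_Rof (H : Subgroup (V ≃ₗ[K] V)) : 1 ≤ Rof H :=
  Submodule.one_le.mpr (one_mem_Rof H)

theorem Dof_le_Rof {H' H : Subgroup (V ≃ₗ[K] V)} (h : H' ≤ H) : Dof H' ≤ Rof H := by
  unfold Dof
  rw [Submodule.span_le]
  rintro _ ⟨x, hx, rfl⟩
  exact Submodule.sub_mem _ (Submodule.subset_span ⟨x, h hx, rfl⟩) (one_mem_Rof H)

theorem Dof_pow_eq_bot (H : Subgroup (V ≃ₗ[K] V)) (n : ℕ)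
    (h : ∀ f : Fin n → ↥H,
      (List.ofFn fun i => (((f i : ↥H) : V ≃ₗ[K] V) : Module.End K V) - 1).prod = 0) :
    Dof H ^ n = ⊥ := by
  unfold Dof
  rw [Submodule.span_pow, Submodule.span_eq_bot]
  intro a ha
  rw [Set.mem_pow] at ha
  obtain ⟨f, rfl⟩ := ha
  choose g hg hfg using fun i => (f i).2
  have := h (fun i => ⟨g i, hg i⟩)
  rw [← this]
  congr 1
  apply congrArg
  funext i
  rw [← hfg i]
  rfl

theorem prod_mem_Dof_pow (H : Subgroup (V ≃ₗ[K] V)) (n : ℕ) (f : Fin n → ↥H) :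
    (List.ofFn fun i => (((f i : ↥H) : V ≃ₗ[K] V) : Module.End K V) - 1).prod ∈ Dof H ^ n := by
  apply Submodule.pow_subset_pow
  rw [Set.mem_pow]
  exact ⟨fun i => ⟨(((f i : ↥H) : V ≃ₗ[K] V) : Module.End K V) - 1,
    Submodule.subset_span ⟨f i, (f i).2, rfl⟩⟩, rfl⟩

end

/-- Let K be a field, V a finite-dimensional K-vector space and H₁, H₂ subgroups of the group of
K-linear automorphisms of V such that H₂ normalizes H₁. Call the action of a subgroup H unipotent
when, for some n, every product (h₁ - 1)(h₂ - 1)⋯(hₙ - 1) with all hᵢ in H is the zero endomorphism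
(equivalently, V has an H-stable flag on whose successive quotients H acts trivially). If H₁ and H₂
act unipotently, then the subgroup generated by H₁ and H₂ acts unipotently. (In the published result
H₁ and H₂ are the absolute Galois groups of two finite Galois extensions of a strictly henselian
discretely valued field over which an abelian variety becomes semistable, acting on its rational
ℓ-adic Tate module, and the conclusion is semistability over the intersection of the two fields; the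
printed argument uses only that H₂ normalizes H₁.) -/
theorem result (K : Type u) (V : Type v) [Field K]
    [AddCommGroup V] [Module K V] [FiniteDimensional K V]
    (H₁ H₂ : Subgroup (V ≃ₗ[K] V)) (hnorm : ∀ g ∈ H₂, ∀ h ∈ H₁, g * h * g⁻¹ ∈ H₁)
    (h₁ : ∃ n : ℕ, ∀ f : Fin n → ↥H₁,
      (List.ofFn fun i => (((f i : ↥H₁) : V ≃ₗ[K] V) : Module.End K V) - 1).prod = 0)
    (h₂ : ∃ n : ℕ, ∀ f : Fin n → ↥H₂,
      (List.ofFn fun i => (((f i : ↥H₂) : V ≃ₗ[K] V) : Module.End K V) - 1).prod = 0) :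
    ∃ n : ℕ, ∀ f : Fin n → ↥(H₁ ⊔ H₂),
      (List.ofFn fun i => (((f i : ↥(H₁ ⊔ H₂)) : V ≃ₗ[K] V) : Module.End K V) - 1).prod = 0 := by
  obtain ⟨n, hn⟩ := h₁
  obtain ⟨m, hm⟩ := h₂
  set H := H₁ ⊔ H₂ with hH
  have hH₁ : H₁ ≤ H := le_sup_left
  have hH₂ : H₂ ≤ H := le_sup_right
  have hLE : H₂ ≤ Subgroup.normalizer H₁ := by
    intro g hg
    rw [Subgroup.mem_normalizer_iff]
    intro h
    refine ⟨fun hh => hnorm g hg h hh, fun hh => ?_⟩
    have := hnorm g⁻¹ (H₂.inv_mem hg) _ hh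
    simpa [mul_assoc] using this
  have hHn : H ≤ Subgroup.normalizer H₁ := sup_le Subgroup.le_normalizer hLE
  have hconj : ∀ x ∈ H, ∀ h ∈ H₁, x * h * x⁻¹ ∈ H₁ := fun x hx h hh =>
    (Subgroup.mem_normalizer_iff.mp (hHn hx) h).mp hh
  have hdecomp : ∀ x ∈ H, ∃ h ∈ H₁, ∃ g ∈ H₂, h * g = x := by
    intro x hx
    have : x ∈ ((H₁ ⊔ H₂ : Subgroup (V ≃ₗ[K] V)) : Set (V ≃ₗ[K] V)) := hx
    rw [Subgroup.coe_mul_of_right_le_normalizer_left H₁ H₂ hLE] at this
    obtain ⟨h, hh, g, hg, rfl⟩ := this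
    exact ⟨h, hh, g, hg, rfl⟩
  set R := Rof H with hR
  set D₁ := Dof H₁ with hD₁
  set D₂ := Dof H₂ with hD₂
  set D := Dof H with hD
  have hRR : R * R ≤ R := Rof_mul H
  have h1R : 1 ≤ R := one_le_Rof H
  have hD₁R : D₁ ≤ R := Dof_le_Rof hH₁
  have hD₂R : D₂ ≤ R := Dof_le_Rof hH₂
  -- (a)
  have ha : R * D₁ ≤ D₁ * R := by
    rw [hR, hD₁, Rof, Dof, Submodule.span_mul_span, Submodule.span_le]
    rintro _ ⟨_, ⟨x, hx, rfl⟩, _, ⟨h, hh, rfl⟩, rfl⟩
    have : ι x * (ι h - 1) = (ι (x * h * x⁻¹) - 1) * ι x := by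
      rw [mul_sub, sub_mul, ← map_mul, ← map_mul, mul_one, one_mul]
      congr 2
      group
    change ι x * (ι h - 1) ∈ _
    rw [this]
    exact Submodule.mul_mem_mul (Submodule.subset_span ⟨_, hconj x hx h hh, rfl⟩)
      (Submodule.subset_span ⟨x, hx, rfl⟩)
  set T := D₁ * R with hT
  have hTR : T * R ≤ T := by
    rw [hT, mul_assoc]; exact mul_le_mul' le_rfl hRR
  have hRT : R * T ≤ T := by
    rw [hT, ← mul_assoc]
    calc R * D₁ * R ≤ D₁ * R * R := mul_le_mul' ha le_rfl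
      _ = D₁ * (R * R) := mul_assoc _ _ _
      _ ≤ D₁ * R := mul_le_mul' le_rfl hRR
  have hTleR : T ≤ R := le_trans (mul_le_mul' hD₁R le_rfl) hRR
  -- (b)
  have hb : D ≤ T ⊔ D₂ := by
    rw [hD, Dof, Submodule.span_le]
    rintro _ ⟨x, hx, rfl⟩
    obtain ⟨h, hh, g, hg, rfl⟩ := hdecomp x hx
    have : ι (h * g) - 1 = (ι h - 1) * ι g + (ι g - 1) := by
      rw [map_mul]; noncomm_ring
    change ι (h * g) - 1 ∈ _
    rw [this]
    refine Submodule.add_mem_sup ?_ (Submodule.subset_span ⟨g, hg, rfl⟩)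
    exact Submodule.mul_mem_mul (Submodule.subset_span ⟨h, hh, rfl⟩)
      (Submodule.subset_span ⟨g, hH₂ hg, rfl⟩)
  have hpowR : ∀ k : ℕ, D₂ ^ k ≤ R := by
    intro k
    induction k with
    | zero => simpa using h1R
    | succ k ih =>
      rw [pow_succ]
      exact le_trans (mul_le_mul' ih hD₂R) hRR
  -- F7
  have hF7 : ∀ k : ℕ, T ^ k ≤ D₁ ^ k * R := by
    intro k
    induction k with
    | zero => simpa using h1R
    | succ k ih =>
      calc T ^ (k + 1) = T ^ k * T := pow_succ _ _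
        _ ≤ D₁ ^ k * R * (D₁ * R) := mul_le_mul' ih le_rfl
        _ = D₁ ^ k * (R * D₁) * R := by simp only [mul_assoc]
        _ ≤ D₁ ^ k * (D₁ * R) * R :=
            mul_le_mul' (mul_le_mul' le_rfl ha) le_rfl
        _ = D₁ ^ (k + 1) * (R * R) := by rw [pow_succ]; simp only [mul_assoc]
        _ ≤ D₁ ^ (k + 1) * R := mul_le_mul' le_rfl hRR
  -- F9
  have hF9 : ∀ k : ℕ, D ^ k ≤ D₂ ^ k * R ⊔ T := by
    intro k
    induction k with
    | zero => simpa using le_sup_of_le_left h1R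
    | succ k ih =>
      have hX : D₂ ^ k * R ⊔ T ≤ R :=
        sup_le (le_trans (mul_le_mul' (hpowR k) le_rfl) hRR) hTleR
      calc D ^ (k + 1) = D * D ^ k := pow_succ' _ _
        _ ≤ (T ⊔ D₂) * (D₂ ^ k * R ⊔ T) := mul_le_mul' hb ih
        _ = T * (D₂ ^ k * R ⊔ T) ⊔ D₂ * (D₂ ^ k * R ⊔ T) := Submodule.sup_mul _ _ _
        _ ≤ D₂ ^ (k + 1) * R ⊔ T := by
          refine sup_le ?_ ?_
          · exact le_sup_of_le_right (le_trans (mul_le_mul' le_rfl hX) hTR)
          · rw [Submodule.mul_sup]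
            refine sup_le ?_ ?_
            · rw [← mul_assoc, ← pow_succ']
              exact le_sup_left
            · exact le_sup_of_le_right (le_trans (mul_le_mul' hD₂R le_rfl) hRT)
  have hD₁n : D₁ ^ n = ⊥ := Dof_pow_eq_bot H₁ n hn
  have hD₂m : D₂ ^ m = ⊥ := Dof_pow_eq_bot H₂ m hm
  have hDm : D ^ m ≤ T := by
    have := hF9 m
    rwa [hD₂m, Submodule.bot_mul, bot_sup_eq] at this
  have hTn : T ^ n = ⊥ := by
    have := hF7 n
    rwa [hD₁n, Submodule.bot_mul, le_bot_iff] at this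
  have hDmn : D ^ (m * n) = ⊥ := by
    rw [pow_mul, ← le_bot_iff, ← hTn]
    exact pow_le_pow_left' hDm n
  refine ⟨m * n, fun f => ?_⟩
  have := prod_mem_Dof_pow H (m * n) f
  rw [← hD, hDmn] at this
  exact (Submodule.mem_bot K).mp this

end Groth.Agent.S17446
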