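import Groth.Statements.S17466
import Mathlib

set_option autoImplicit false
universe u v
open BigOperators
open NRGIT

namespace Groth.Agent.S17466

open HomogeneousLocalization

section
variable {R : Type u} {A : Type v} [CommRing R] [CommRing A] [Algebra R A]
    (𝒜 : ℕ → Submodule R A) [GradedAlgebra 𝒜]
variable {g : A} {s : ℕ} (hg : g ∈ 𝒜 s) (B : Subalgebra (𝒜 0) (Away 𝒜 g))

/-- good elements -/
def G (N : ℕ) (q : A) : Prop := ∃ hq : q ∈ 𝒜 (N • s), Away.mk 𝒜 hg N q hq ∈ B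

lemma G_cast {N N' : ℕ} (h : N = N') {q : A} (hG : G 𝒜 hg B N q) : G 𝒜 hg B N' q := h ▸ hG

lemma G_zero {a : A} (ha : a ∈ 𝒜 0) : G 𝒜 hg B 0 a := by
  have ha' : a ∈ 𝒜 (0 • s) := by simpa using ha
  refine ⟨ha', ?_⟩
  have : Away.mk 𝒜 hg 0 a ha' = algebraMap (𝒜 0) (Away 𝒜 g) ⟨a, ha⟩ := by
    apply HomogeneousLocalization.val_injective
    rw [Away.val_mk, HomogeneousLocalization.algebraMap_eq]
    show _ = Localization.mk a 1
    congr 1; ext; simp
  rw [this]; exact B.algebraMap_mem _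

lemma G_mul {N N' : ℕ} {q q' : A} (h : G 𝒜 hg B N q) (h' : G 𝒜 hg B N' q') :
    G 𝒜 hg B (N + N') (q * q') := by
  obtain ⟨hq, hb⟩ := h; obtain ⟨hq', hb'⟩ := h'
  have hqq : q * q' ∈ 𝒜 ((N + N') • s) := by
    rw [add_smul]; exact SetLike.mul_mem_graded hq hq'
  refine ⟨hqq, ?_⟩
  have : Away.mk 𝒜 hg (N+N') (q*q') hqq = Away.mk 𝒜 hg N q hq * Away.mk 𝒜 hg N' q' hq' := by
    apply HomogeneousLocalization.val_injective
    rw [val_mul, Away.val_mk, Away.val_mk, Away.val_mk, Localization.mk_mul]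
    congr 1; ext; simp [pow_add]
  rw [this]; exact B.mul_mem hb hb'

lemma G_add {N : ℕ} {q q' : A} (h : G 𝒜 hg B N q) (h' : G 𝒜 hg B N q') :
    G 𝒜 hg B N (q + q') := by
  obtain ⟨hq, hb⟩ := h; obtain ⟨hq', hb'⟩ := h'
  refine ⟨add_mem hq hq', ?_⟩
  have : Away.mk 𝒜 hg N (q+q') (add_mem hq hq') = Away.mk 𝒜 hg N q hq + Away.mk 𝒜 hg N q' hq' := by
    apply HomogeneousLocalization.val_injective
    rw [val_add, Away.val_mk, Away.val_mk, Away.val_mk, Localization.add_mk_self]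
  rw [this]; exact B.add_mem hb hb'

lemma G_pow {f : A} (h : G 𝒜 hg B 1 f) (e : ℕ) : G 𝒜 hg B e (f ^ e) := by
  induction e with
  | zero =>
    rw [pow_zero]
    exact G_zero 𝒜 hg B (SetLike.GradedOne.one_mem)
  | succ e ih =>
    rw [pow_succ]
    exact G_mul 𝒜 hg B ih h

end


section main
variable {R : Type u} {A : Type v} [CommRing R] [CommRing A] [Algebra R A]
    (𝒜 : ℕ → Submodule R A) [GradedAlgebra 𝒜]
    {n : ℕ} (σ : Fin n → A) (hσ : ∀ i, σ i ∈ 𝒜 1) {s : ℕ}

include hσ in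
lemma sigma_pow_mem (i : Fin n) : σ i ^ s ∈ 𝒜 s := by
  have := SetLike.pow_mem_graded s (hσ i)
  simpa using this

variable {g : A} (hg : g ∈ 𝒜 s) (B : Subalgebra (𝒜 0) (Away 𝒜 g))
  (hB : ∀ f (hf : f ∈ 𝒜 (1 • s)), Away.mk 𝒜 hg 1 f hf ∈ B)

include hB in
lemma G_one {f : A} (hf : f ∈ 𝒜 s) : G 𝒜 hg B 1 f := ⟨by simpa using hf, hB f _⟩

include hB hσ in
lemma G_sigma (i : Fin n) (e : ℕ) : G 𝒜 hg B e (σ i ^ (s * e)) := by
  rw [pow_mul]
  exact G_pow 𝒜 hg B (G_one 𝒜 hg B hB (sigma_pow_mem 𝒜 σ hσ i)) e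

include hB hσ in
lemma G_prod (e : Fin n → ℕ) (t : Finset (Fin n)) :
    G 𝒜 hg B (∑ i ∈ t, e i) (∏ i ∈ t, σ i ^ (s * e i)) := by
  induction t using Finset.induction_on with
  | empty =>
    rw [Finset.sum_empty, Finset.prod_empty]
    exact G_zero 𝒜 hg B SetLike.GradedOne.one_mem
  | insert a t ha ih =>
    rw [Finset.sum_insert ha, Finset.prod_insert ha]
    exact G_mul 𝒜 hg B (G_sigma 𝒜 σ hσ hg B hB a (e a)) ih

include hB hσ in
lemma claim1 (i : Fin n)
    (hgen : Algebra.adjoin (𝒜 0)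
      {z : HomogeneousLocalization.Away 𝒜 (σ i) |
        ∃ f ∈ 𝒜 s, z.val = Localization.mk f ⟨σ i ^ s, Submonoid.pow_mem _ (Submonoid.mem_powers (σ i)) s⟩} = ⊤)
    (z : Away 𝒜 (σ i)) :
    ∃ N q, G 𝒜 hg B N q ∧ z.val = Localization.mk q ⟨σ i ^ (s * N), Submonoid.pow_mem _ (Submonoid.mem_powers (σ i)) (s * N)⟩ := by
  have hz : z ∈ Algebra.adjoin (𝒜 0)
      {z : HomogeneousLocalization.Away 𝒜 (σ i) |
        ∃ f ∈ 𝒜 s, z.val = Localization.mk f ⟨σ i ^ s, Submonoid.pow_mem _ (Submonoid.mem_powers (σ i)) s⟩} := by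
    rw [hgen]; trivial
  induction hz using Algebra.adjoin_induction with
  | mem z hz =>
    obtain ⟨f, hf, hval⟩ := hz
    refine ⟨1, f, G_one 𝒜 hg B hB hf, ?_⟩
    rw [hval]; congr 1; ext; simp
  | algebraMap a =>
    refine ⟨0, a, G_zero 𝒜 hg B a.2, ?_⟩
    show Localization.mk (a : A) 1 = _
    congr 1; ext; simp
  | add z1 z2 _ _ h1 h2 =>
    obtain ⟨N1, q1, hG1, hv1⟩ := h1
    obtain ⟨N2, q2, hG2, hv2⟩ := h2
    refine ⟨N1 + N2, q1 * σ i ^ (s * N2) + q2 * σ i ^ (s * N1),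
      G_add 𝒜 hg B (G_mul 𝒜 hg B hG1 (G_sigma 𝒜 σ hσ hg B hB i N2))
        (G_cast 𝒜 hg B (add_comm N2 N1) (G_mul 𝒜 hg B hG2 (G_sigma 𝒜 σ hσ hg B hB i N1))), ?_⟩
    rw [val_add, hv1, hv2, Localization.add_mk, Localization.mk_eq_mk_iff,
      Localization.r_iff_exists]
    refine ⟨1, ?_⟩
    simp only [Submonoid.coe_mul, OneMemClass.coe_one]
    ring
  | mul z1 z2 _ _ h1 h2 =>
    obtain ⟨N1, q1, hG1, hv1⟩ := h1
    obtain ⟨N2, q2, hG2, hv2⟩ := h2
    refine ⟨N1 + N2, q1 * q2, G_mul 𝒜 hg B hG1 hG2, ?_⟩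
    rw [val_mul, hv1, hv2, Localization.mk_mul]
    congr 1; ext
    simp only [Submonoid.coe_mul]
    ring

end main


theorem result'
    {R : Type u} {A : Type v} [CommRing R] [CommRing A] [Algebra R A]
    (𝒜 : ℕ → Submodule R A) [GradedAlgebra 𝒜]
    {n : ℕ} (σ : Fin n → A) (hσ : ∀ i, σ i ∈ 𝒜 1) {s : ℕ} (hs : 0 < s)
    (hgen : ∀ i, Algebra.adjoin (𝒜 0)
      {z : HomogeneousLocalization.Away 𝒜 (σ i) |
        ∃ f ∈ 𝒜 s, z.val = Localization.mk f ⟨σ i ^ s, Submonoid.pow_mem _ (Submonoid.mem_powers (σ i)) s⟩} = ⊤)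
    (K : Fin n → ℕ) (hK : ∑ i, K i = s) :
    Algebra.adjoin (𝒜 0)
      {z : HomogeneousLocalization.Away 𝒜 (∏ i, σ i ^ K i) |
        ∃ f ∈ 𝒜 s, z.val = Localization.mk f ⟨∏ i, σ i ^ K i, Submonoid.mem_powers _⟩} = ⊤ := by
  have hg : (∏ i, σ i ^ K i) ∈ 𝒜 s := by
    have : ∀ t : Finset (Fin n), (∏ i ∈ t, σ i ^ K i) ∈ 𝒜 (∑ i ∈ t, K i) := by
      intro t
      induction t using Finset.induction_on with
      | empty =>
        rw [Finset.sum_empty, Finset.prod_empty]
        exact SetLike.GradedOne.one_mem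
      | insert a t ha ih =>
        rw [Finset.prod_insert ha, Finset.sum_insert ha]
        refine SetLike.mul_mem_graded ?_ ih
        simpa using SetLike.pow_mem_graded (K a) (hσ a)
    rw [← hK]; exact this _
  set g := ∏ i, σ i ^ K i with hgdef
  set B := Algebra.adjoin (𝒜 0)
      {z : HomogeneousLocalization.Away 𝒜 g |
        ∃ f ∈ 𝒜 s, z.val = Localization.mk f ⟨g, Submonoid.mem_powers _⟩} with hBdef
  have hB : ∀ f (hf : f ∈ 𝒜 (1 • s)), Away.mk 𝒜 hg 1 f hf ∈ B := by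
    intro f hf
    apply Algebra.subset_adjoin
    refine ⟨f, by simpa using hf, ?_⟩
    rw [Away.val_mk]; congr 1; ext; simp
  rw [eq_top_iff]
  rintro z0 -
  obtain ⟨m, a, ha, rfl⟩ := Away.mk_surjective 𝒜 hg z0
  obtain ⟨i0, hi0⟩ : ∃ i0, 0 < K i0 := by
    by_contra hcon
    push_neg at hcon
    have : ∑ i, K i = 0 := Finset.sum_eq_zero (fun i _ => Nat.le_zero.1 (hcon i))
    omega
  have ha' : a ∈ 𝒜 ((s * m) • 1) := by simpa [mul_comm] using ha
  obtain ⟨N, q, hGq, hval⟩ := claim1 𝒜 σ hσ hg B hB i0 (hgen i0)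
    (Away.mk 𝒜 (hσ i0) (s*m) a ha')
  rw [Away.val_mk, Localization.mk_eq_mk_iff, Localization.r_iff_exists] at hval
  obtain ⟨⟨c, L, rfl⟩, hc⟩ := hval
  simp only at hc
  obtain ⟨s', hs'⟩ : ∃ s', s = s' + 1 := ⟨s - 1, by omega⟩
  have key : σ i0 ^ (s * (L + N)) * a = σ i0 ^ (s * (L + m)) * q := by
    have h1 : σ i0 ^ (L * s') * _ = σ i0 ^ (L * s') * _ := congrArg (fun x => σ i0 ^ (L * s') * x) hc
    have e1 : s * (L + N) = L * s' + (L + s * N) := by rw [hs']; ring
    have e2 : s * (L + m) = L * s' + (L + s * m) := by rw [hs']; ring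
    rw [e1, e2, pow_add, pow_add, pow_add, pow_add, mul_assoc, mul_assoc, mul_assoc, mul_assoc]
    exact h1
  have hG1 : G 𝒜 hg B ((L + m) + N) (σ i0 ^ (s * (L + N)) * a) := by
    rw [key]
    exact G_mul 𝒜 hg B (G_sigma 𝒜 σ hσ hg B hB i0 (L + m)) hGq
  set P := L + N with hP
  set K' : Fin n → ℕ := Function.update K i0 (K i0 - 1) with hK'
  have hK'sum : ∑ i, K' i + 1 = s := by
    have h1 : ∀ i, K' i + (if i = i0 then 1 else 0) = K i := by
      intro i
      by_cases h : i = i0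
      · subst h; simp [hK']; omega
      · simp [hK', Function.update_of_ne h, h]
    have h2 : ∑ i, (K' i + (if i = i0 then 1 else 0)) = ∑ i, K i :=
      Finset.sum_congr rfl (fun i _ => h1 i)
    rw [Finset.sum_add_distrib, Finset.sum_ite_eq' Finset.univ i0, if_pos (Finset.mem_univ _),
      hK] at h2
    exact h2
  have hprod : g ^ (s * P) = σ i0 ^ (s * P) * ∏ i, σ i ^ (s * (K' i * P)) := by
    rw [hgdef, ← Finset.prod_pow]
    rw [← Finset.mul_prod_erase Finset.univ _ (Finset.mem_univ i0),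
      ← Finset.mul_prod_erase Finset.univ (fun i => σ i ^ (s * (K' i * P))) (Finset.mem_univ i0)]
    have h3 : ∀ i ∈ Finset.univ.erase i0, (σ i ^ K i) ^ (s * P) = σ i ^ (s * (K' i * P)) := by
      intro i hi
      have hne : i ≠ i0 := Finset.ne_of_mem_erase hi
      rw [hK', Function.update_of_ne hne, ← pow_mul]
      congr 1; ring
    rw [Finset.prod_congr rfl h3, ← mul_assoc]
    congr 1
    rw [hK', Function.update_self, ← pow_mul, ← pow_add]
    congr 1
    have : K i0 = (K i0 - 1) + 1 := by omega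
    conv_lhs => rw [this]
    ring
  have hG2 : G 𝒜 hg B (((L + m) + N) + ∑ i, K' i * P) (g ^ (s * P) * a) := by
    have := G_mul 𝒜 hg B hG1 (G_prod 𝒜 σ hσ hg B hB (fun i => K' i * P) Finset.univ)
    rw [hprod]
    convert this using 1
    ring
  obtain ⟨hmem, hin⟩ := hG2
  have hfin : Away.mk 𝒜 hg m a ha =
      Away.mk 𝒜 hg (((L + m) + N) + ∑ i, K' i * P) (g ^ (s * P) * a) hmem := by
    apply HomogeneousLocalization.val_injective
    rw [Away.val_mk, Away.val_mk, Localization.mk_eq_mk_iff, Localization.r_iff_exists]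
    refine ⟨1, ?_⟩
    simp only [OneMemClass.coe_one, one_mul]
    have hN : ((L + m) + N) + ∑ i, K' i * P = m + s * P := by
      rw [← Finset.sum_mul, ← hK'sum, hP]; ring
    rw [hN, pow_add]; ring
  rw [hfin]; exact hin

/-- Let A be a commutative algebra graded by the natural numbers, let σ_1, …, σ_n be homogeneous
elements of degree 1 and let s ≥ 1 be an integer such that, for every i, the degree-zero homogeneous
localisation of A away from σ_i is generated over A_0 by the fractions f / σ_i ^ s with f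
homogeneous of degree s. Then for every exponent vector K = (k_1, …, k_n) with k_1 + ⋯ + k_n = s,
the degree-zero homogeneous localisation of A away from the monomial σ^K = ∏ σ_i ^ (k_i) is
generated over A_0 by the fractions f / σ^K with f homogeneous of degree s. (Equivalently: the
natural map from the degree-zero localisation of the symmetric algebra on A_s, taken away from σ^K
viewed as an element of degree one, to the degree-zero localisation of A away from σ^K is
surjective. The published lemma concerns the algebra of invariant sections of the powers of a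
linearised line bundle on an irreducible projective scheme over a field, with the σ_i a basis of a
weight space of sections, and concludes a closed immersion of a quotient into an open piece of a
projective space; this row keeps only the graded-algebra step, for any commutative graded algebra,
with the base field replaced by A_0, which generates nothing new since a / 1 = a σ^s / σ^s for a of
degree zero.) -/
theorem result
    {R : Type u} {A : Type v} [CommRing R] [CommRing A] [Algebra R A]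
    (𝒜 : ℕ → Submodule R A) [GradedAlgebra 𝒜]
    {n : ℕ} (σ : Fin n → A) (hσ : ∀ i, σ i ∈ 𝒜 1) {s : ℕ} (hs : 0 < s)
    (hgen : ∀ i, Algebra.adjoin (𝒜 0)
      {z : HomogeneousLocalization.Away 𝒜 (σ i) |
        ∃ f ∈ 𝒜 s, z.val = Localization.mk f ⟨σ i ^ s, Submonoid.pow_mem _ (Submonoid.mem_powers (σ i)) s⟩} = ⊤)
    (K : Fin n → ℕ) (hK : ∑ i, K i = s) :
    Algebra.adjoin (𝒜 0)
      {z : HomogeneousLocalization.Away 𝒜 (∏ i, σ i ^ K i) |
        ∃ f ∈ 𝒜 s, z.val = Localization.mk f ⟨∏ i, σ i ^ K i, Submonoid.mem_powers _⟩} = ⊤ := by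
  exact result' 𝒜 σ hσ hs hgen K hK

end Groth.Agent.S17466
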