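import Groth.Statements.S17469
-- import your own Groth.Agent.* helpers here

set_option autoImplicit false
universe u
open CategoryTheory AlgebraicGeometry
open Variety

namespace Groth.Agent.S17469

/-- Let X be a locally Noetherian integral scheme all of whose local rings are integrally closed domains
and U an open subset of X. A section of O_X over U that is integral over the ring of global sections
of X, the latter acting through restriction, is itself the restriction of a global section. (The
published lemma is stated for an irreducible normal variety and for the graded ring of sections over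
U of all non-negative powers of a line bundle, integral over the corresponding ring of sections over
X; for the trivial line bundle its homogeneous components are the present statement, which is made
here for any locally Noetherian normal integral scheme.) -/
theorem result
    (X : Scheme.{u}) [AlgebraicGeometry.IsIntegral X] [IsLocallyNoetherian X]
    (hX : Pi1.IsNormalScheme X) (U : X.Opens) (b : Γ(X, U))
    (hb : (X.presheaf.map (homOfLE le_top : U ⟶ ⊤).op).hom.IsIntegralElem b) :
    b ∈ Set.range (X.presheaf.map (homOfLE le_top : U ⟶ ⊤).op).hom := by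
  classical
  by_cases hU : (U : Set X).Nonempty
  swap
  · have hUe : U = ⊥ := by
      ext x
      rw [Set.not_nonempty_iff_eq_empty] at hU
      simp [hU]
    subst hUe
    haveI : Subsingleton Γ(X, (⊥ : X.Opens)) := inferInstance
    exact ⟨0, Subsingleton.elim _ _⟩
  set η := genericPoint X with hηdef
  have hη : ∀ W : X.Opens, (W : Set X).Nonempty → η ∈ W := fun W h =>
    ((genericPoint_spec X).mem_open_set_iff W.isOpen).mpr (by simpa using h)
  have hηU : η ∈ U := hη U hU
  set bK : X.functionField := X.presheaf.germ U η hηU b with hbK
  have hcomp : ∀ (W : X.Opens) (x : X) (hx : x ∈ W) (hW : η ∈ W) (s : Γ(X, W)),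
      algebraMap (X.presheaf.stalk x) X.functionField (X.presheaf.germ W x hx s)
        = X.presheaf.germ W η hW s := by
    intro W x hx hW s
    simp only [RingHom.algebraMap_toAlgebra, ← ConcreteCategory.comp_apply]
    simp
    rfl
  have key : ∀ x : X, ∃ t : X.presheaf.stalk x,
      algebraMap (X.presheaf.stalk x) X.functionField t = bK := by
    intro x
    haveI := (hX x).2
    apply IsIntegrallyClosed.algebraMap_eq_of_integral
    obtain ⟨p, hp, hpe⟩ := hb
    refine ⟨p.map (X.presheaf.germ ⊤ x trivial).hom, hp.map _, ?_⟩
    rw [Polynomial.eval₂_map]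
    have hcc : (algebraMap (X.presheaf.stalk x) X.functionField).comp
        (X.presheaf.germ ⊤ x trivial).hom =
        (X.presheaf.germ U η hηU).hom.comp (X.presheaf.map (homOfLE le_top : U ⟶ ⊤).op).hom := by
      ext s
      simp only [RingHom.comp_apply]
      rw [hcomp ⊤ x trivial trivial s]
      exact (X.presheaf.germ_res_apply (homOfLE le_top : U ⟶ ⊤) η hηU s).symm
    rw [hcc, hbK, ← Polynomial.hom_eval₂, hpe, map_zero]
  have key2 : ∀ x : X, ∃ (V : X.Opens) (hxV : x ∈ V) (hV : η ∈ V) (s : Γ(X, V)),
      X.presheaf.germ V η hV s = bK := by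
    intro x
    obtain ⟨t, ht⟩ := key x
    obtain ⟨V, hxV, s, hs⟩ := X.presheaf.exists_germ_eq t
    have hV : η ∈ V := hη V ⟨x, hxV⟩
    refine ⟨V, hxV, hV, s, ?_⟩
    rw [← hcomp V x hxV hV s, hs, ht]
  choose V hxV hV s hs using key2
  have hcompat : TopCat.Presheaf.IsCompatible X.presheaf V s := by
    intro x y
    have hxy : η ∈ V x ⊓ V y := ⟨hV x, hV y⟩
    apply germ_injective_of_isIntegral X η hxy
    rw [X.presheaf.germ_res_apply, X.presheaf.germ_res_apply]
    exact (hs x).trans (hs y).symm
  obtain ⟨gl, hgl, -⟩ := X.sheaf.existsUnique_gluing' V ⊤ (fun x => homOfLE le_top)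
    (fun x _ => TopologicalSpace.Opens.mem_iSup.mpr ⟨x, hxV x⟩) s hcompat
  refine ⟨gl, ?_⟩
  apply germ_injective_of_isIntegral X η hηU
  rw [X.presheaf.germ_res_apply]
  have h1 := hgl η
  have h2 : X.presheaf.germ (V η) η (hV η) (X.presheaf.map (homOfLE le_top : V η ⟶ ⊤).op gl) = bK := by
    rw [show X.presheaf.map (homOfLE le_top : V η ⟶ ⊤).op gl = s η from h1]; exact hs η
  rw [X.presheaf.germ_res_apply] at h2
  exact h2

end Groth.Agent.S17469
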