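import Groth.Statements.S17471
import Mathlib

set_option autoImplicit false
universe u v w x
open RootCh

namespace Groth.Agent.S17471



/-- Let Φ be a finite, reduced, crystallographic, irreducible root system with a base, and θ a positive
root such that θ + β is a root for no positive root β (so θ is the highest root). Then Σ_{β>0} ⟨β,
θ^∨⟩² = 2 + Σ_{β>0} ⟨β, θ^∨⟩ = 2(1 + ⟨ρ, θ^∨⟩), ρ being half the sum of the positive roots; in the
source the left side is the index of the adjoint representation obtained from its formal character,
and 1 + ⟨ρ, θ^∨⟩ is the dual Coxeter number. -/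
theorem result
    {ι : Type u} {R : Type v} {M : Type w} {N : Type x}
    [Field R] [LinearOrder R] [IsStrictOrderedRing R]
    [AddCommGroup M] [Module R M] [AddCommGroup N] [Module R N] [Fintype ι]
    (P : RootPairing ι R M N) [P.IsRootSystem] [P.IsCrystallographic] [P.IsReduced]
    [P.IsIrreducible] (b : P.Base) (θ : ι) (hθ : b.IsPos θ)
    (hmax : ∀ i : ι, b.IsPos i → P.root θ + P.root i ∉ Set.range P.root) :
    ∑ i ∈ Finset.univ.filter (fun i => 0 < b.height i), P.pairing i θ ^ 2 =
      2 + ∑ i ∈ Finset.univ.filter (fun i => 0 < b.height i), P.pairing i θ := by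
  classical
  have hneg : ∀ i : ι, b.height (P.reflectionPerm i i) = - b.height i := fun i =>
    b.height_reflectionPerm_self i
  -- key: pairingIn ℤ i θ ∈ {0,1} for positive i ≠ θ
  have key : ∀ i, b.IsPos i → i ≠ θ → P.pairingIn ℤ i θ = 0 ∨ P.pairingIn ℤ i θ = 1 := by
    intro i hi hiθ
    have hpair : ∀ j k : ι, P.root j = P.root k - P.root θ →
        P.pairingIn ℤ j θ = P.pairingIn ℤ k θ - 2 := by
      intro j k hjk
      have h1 : P.pairing j θ = P.pairing k θ - 2 := by
        rw [← P.root_coroot_eq_pairing, hjk, map_sub, LinearMap.sub_apply,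
          P.root_coroot_eq_pairing, P.root_coroot_eq_pairing, P.pairing_same]
      apply (FaithfulSMul.algebraMap_injective ℤ R)
      rw [P.algebraMap_pairingIn ℤ, h1, map_sub, P.algebraMap_pairingIn ℤ]
      simp
    have hge : 0 ≤ P.pairingIn ℤ i θ := by
      by_contra hlt
      push Not at hlt
      have hne : P.root i ≠ - P.root θ := by
        intro h
        rw [P.root_eq_neg_iff] at h
        have := hneg θ
        rw [← h] at this
        rw [b.isPos_iff] at hi hθ
        omega
      have := P.root_add_root_mem_of_pairingIn_neg hlt hne
      rw [add_comm] at this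
      exact hmax i hi this
    have hle : P.pairingIn ℤ i θ ≤ 1 := by
      by_contra hgt
      push Not at hgt
      obtain ⟨j, hj⟩ := P.root_sub_root_mem_of_pairingIn_pos (by omega : 0 < P.pairingIn ℤ i θ) hiθ
      by_cases hjpos : b.IsPos j
      · apply hmax j hjpos
        exact ⟨i, by rw [hj]; abel⟩
      · -- j negative
        have hj' : b.IsPos (P.reflectionPerm j j) := by
          rw [b.isPos_iff, hneg j]
          rw [b.isPos_iff] at hjpos
          have := b.height_ne_zero j
          omega
        have hjθ : j ≠ θ := fun h => hjpos (h ▸ hθ)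
        have hpj : P.pairingIn ℤ j θ = P.pairingIn ℤ i θ - 2 := hpair j i hj
        -- root j - root θ ∈ range
        have hmem : P.root j - P.root θ ∈ Set.range P.root := by
          rcases (show P.pairingIn ℤ j θ = 0 ∨ 0 < P.pairingIn ℤ j θ by omega) with h0 | hpos
          · refine ⟨P.reflectionPerm θ i, ?_⟩
            rw [P.root_reflectionPerm, P.reflection_apply_root]
            have : P.pairing i θ = 2 := by
              rw [← P.algebraMap_pairingIn ℤ, show P.pairingIn ℤ i θ = 2 by omega]
              simp
            rw [this, hj, two_smul]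
            abel
          · exact P.root_sub_root_mem_of_pairingIn_pos hpos hjθ
        apply hmax _ hj'
        rw [← P.neg_mem_range_root_iff]
        have : -(P.root θ + P.root (P.reflectionPerm j j)) = P.root j - P.root θ := by
          rw [P.root_reflectionPerm, P.reflection_apply_self]
          abel
        rw [this]
        exact hmem
    omega
  have key2 : ∀ i ∈ (Finset.univ.filter (fun i => 0 < b.height i)).erase θ,
      P.pairing i θ ^ 2 = P.pairing i θ := by
    intro i hi
    rw [Finset.mem_erase, Finset.mem_filter] at hi
    rcases key i hi.2.2 hi.1 with h | h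
    · rw [← P.algebraMap_pairingIn ℤ, h]; simp
    · rw [← P.algebraMap_pairingIn ℤ, h]; simp
  have hθmem : θ ∈ Finset.univ.filter (fun i => 0 < b.height i) := by
    rw [Finset.mem_filter]; exact ⟨Finset.mem_univ _, hθ⟩
  rw [← Finset.add_sum_erase _ _ hθmem, ← Finset.add_sum_erase _ (fun i => P.pairing i θ) hθmem,
    Finset.sum_congr rfl key2, P.pairing_same]
  ring

end Groth.Agent.S17471
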