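import Groth.Statements.S1748
import Mathlib
import Groth.Agent.Lib.helper8.DualSelfA
import Groth.Agent.Lib.helper8.PolyInjD
import Groth.Agent.Lib.helper2.InjDimR

set_option autoImplicit false
universe u
open CategoryTheory
open scoped TensorProduct Polynomial
attribute [local instance] HasDerivedCategory.standard
open InjHull

namespace Groth.Agent.S1748

/-- Let A be a Noetherian ring and E an injective A-module. Then A[x] ⊗_A E, as an object of D(A[x]) in
degree 0, has injective amplitude in [0, 1]: it is quasi-isomorphic to a complex of injective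
A[x]-modules concentrated in degrees 0 and 1. In particular it has finite injective dimension. -/
theorem result (A : Type u) [CommRing A] [IsNoetherianRing A] (E : Type u) [AddCommGroup E] [Module A E] [Module.Injective A E] : DRing.HasInjAmplitudeIn A[X] 0 1 (Dual.inD A[X] (A[X] ⊗[A] E)) := by
  rw [Groth.Agent.Lib.helper2.InjDimR.hasInjAmplitudeIn_iff]
  intro N _ _ i hi
  have hinj := Groth.Agent.H8.PolyInj.hasInjectiveDimensionLT_two_polynomial_tensor (A := A) E
  rcases hi with hi | hi
  · exact Groth.Agent.H8.DualSelf.subsingleton_hom_shift_neg A[X] _ _ i hi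
  · obtain ⟨k, rfl⟩ := Int.eq_ofNat_of_zero_le (show (0 : ℤ) ≤ i by omega)
    rw [Groth.Agent.H8.DualSelf.subsingleton_hom_shift_iff]
    exact HasInjectiveDimensionLT.subsingleton (ModuleCat.of A[X] (A[X] ⊗[A] E)) 2 k (by omega) _

end Groth.Agent.S1748
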