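import Groth.Statements.S17500
import Mathlib

set_option autoImplicit false
universe u
open TorsMod

namespace Groth.Agent.S17500

open TensorProduct

/-- In `ℤ/p^n`, the annihilator of `p^i` is generated by `p^(n-i)`. -/
theorem ann_pow (p n : ℕ) [Fact p.Prime] (i : ℕ) (hi : i ≤ n) (a : ZMod (p ^ n))
    (ha : (p : ZMod (p ^ n)) ^ i * a = 0) : ∃ b : ZMod (p ^ n), a = (p : ZMod (p ^ n)) ^ (n - i) * b := by
  have hp : 0 < p := (Fact.out : p.Prime).pos
  have hpn : NeZero (p ^ n) := ⟨(pow_pos hp n).ne'⟩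
  have h1 : ((p ^ i * a.val : ℕ) : ZMod (p ^ n)) = 0 := by
    push_cast
    rw [ZMod.natCast_zmod_val]
    exact ha
  rw [ZMod.natCast_eq_zero_iff] at h1
  have h2 : p ^ (n - i) ∣ a.val := by
    have : p ^ n = p ^ i * p ^ (n - i) := by rw [← pow_add, Nat.add_sub_cancel' hi]
    exact Nat.dvd_of_mul_dvd_mul_left (pow_pos hp i) ((dvd_of_eq this.symm).trans h1)
  obtain ⟨b, hb⟩ := h2
  refine ⟨(b : ZMod (p ^ n)), ?_⟩
  have := congrArg (Nat.cast (R := ZMod (p ^ n))) hb
  rw [ZMod.natCast_zmod_val] at this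
  rw [this]
  push_cast
  rfl

/-- Every element of `ℤ/p^n` is a unit times a power `p^j` with `j ≤ n`. -/
theorem unit_mul_pow (p n : ℕ) [Fact p.Prime] (a : ZMod (p ^ n)) :
    ∃ j ≤ n, ∃ u : (ZMod (p ^ n))ˣ, a = u * (p : ZMod (p ^ n)) ^ j := by
  have hpp : p.Prime := Fact.out
  have hp : 0 < p := hpp.pos
  have hpn : NeZero (p ^ n) := ⟨(pow_pos hp n).ne'⟩
  have hpn0 : ((p : ZMod (p ^ n)) ^ n) = 0 := by
    exact_mod_cast ZMod.natCast_self (p ^ n)
  by_cases h0 : a.val = 0
  · refine ⟨n, le_rfl, 1, ?_⟩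
    rw [hpn0, mul_zero]
    exact (ZMod.val_eq_zero a).mp h0
  · obtain ⟨j, c, hc, hjc⟩ := Nat.exists_eq_pow_mul_and_not_dvd h0 p hpp.ne_one
    have hlt : a.val < p ^ n := ZMod.val_lt a
    have hj : j ≤ n := by
      by_contra hcon
      push Not at hcon
      have h1 : p ^ n ≤ p ^ j := Nat.pow_le_pow_right hp hcon.le
      have h2 : p ^ j ≤ a.val := by
        rw [hjc]
        exact Nat.le_mul_of_pos_right _ (Nat.pos_of_ne_zero (by rintro rfl; simp at hc))
      omega
    have hcop : Nat.Coprime c (p ^ n) := by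
      apply Nat.Coprime.pow_right
      exact ((Nat.Prime.coprime_iff_not_dvd hpp).mpr hc).symm
    refine ⟨j, hj, ZMod.unitOfCoprime c hcop, ?_⟩
    have := congrArg (Nat.cast (R := ZMod (p ^ n))) hjc
    rw [ZMod.natCast_zmod_val] at this
    rw [this, ZMod.coe_unitOfCoprime]
    push_cast
    ring

/-- Let p be a prime number, n a natural number and H a module over ℤ/p^nℤ. Then H is flat over ℤ/p^nℤ
if and only if, for every i with 0 ≤ i ≤ n, the kernel of multiplication by p^i on H coincides with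
the image of multiplication by p^(n-i) on H. (The published item is phrased for an fppf sheaf of
ℤ/p^nℤ-modules on a scheme; this is the case of a single module, which is the case the argument
treats.) -/
theorem result (p n : ℕ) [Fact p.Prime]
    (H : Type u) [AddCommGroup H] [Module (ZMod (p ^ n)) H] :
    Module.Flat (ZMod (p ^ n)) H ↔
      ∀ i : ℕ, i ≤ n →
        LinearMap.ker ((p ^ i : ZMod (p ^ n)) • (LinearMap.id : H →ₗ[ZMod (p ^ n)] H)) =
          LinearMap.range ((p ^ (n - i) : ZMod (p ^ n)) • (LinearMap.id : H →ₗ[ZMod (p ^ n)] H)) := by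
  have hpn0 : ((p : ZMod (p ^ n)) ^ n) = 0 := by
    exact_mod_cast ZMod.natCast_self (p ^ n)
  constructor
  · intro hflat i hi
    apply le_antisymm
    · intro h hh
      rw [LinearMap.mem_ker, LinearMap.smul_apply, LinearMap.id_apply] at hh
      have hrel : ∑ _k : Fin 1, (fun _ : Fin 1 => (p : ZMod (p ^ n)) ^ i) _k • (fun _ : Fin 1 => h) _k = 0 := by
        simpa using hh
      obtain ⟨k, a, y, hxy, hfa⟩ := Module.Flat.isTrivialRelation_of_sum_smul_eq_zero hrel
      have hb : ∀ j, ∃ b : ZMod (p ^ n), a 0 j = (p : ZMod (p ^ n)) ^ (n - i) * b := by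
        intro j
        apply ann_pow p n i hi
        simpa using hfa j
      choose b hb using hb
      refine ⟨∑ j, b j • y j, ?_⟩
      have h0 : h = ∑ j, a 0 j • y j := hxy 0
      rw [LinearMap.smul_apply, LinearMap.id_apply, Finset.smul_sum, h0]
      refine Finset.sum_congr rfl fun j _ => ?_
      rw [hb j, mul_smul]
    · rintro h ⟨w, rfl⟩
      rw [LinearMap.mem_ker]
      simp only [LinearMap.smul_apply, LinearMap.id_apply, smul_smul]
      rw [← pow_add, Nat.add_sub_cancel' hi, hpn0, zero_smul]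
  · intro hker
    rw [Module.Flat.iff_rTensor_injective']
    intro I
    have hPIR : IsPrincipalIdealRing (ZMod (p ^ n)) :=
      IsPrincipalIdealRing.of_surjective (Int.castRingHom (ZMod (p ^ n))) ZMod.intCast_surjective
    obtain ⟨a, rfl⟩ := (IsPrincipalIdealRing.principal I).principal
    rw [injective_iff_map_eq_zero]
    let a' : Ideal.span ({a} : Set (ZMod (p ^ n))) := ⟨a, Ideal.subset_span rfl⟩
    have hform : ∀ z : (Ideal.span ({a} : Set (ZMod (p ^ n))) : Type _) ⊗[ZMod (p ^ n)] H,
        ∃ m : H, z = a' ⊗ₜ m := by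
      intro z
      induction z using TensorProduct.induction_on with
      | zero => exact ⟨0, (TensorProduct.tmul_zero _ _).symm⟩
      | tmul x m =>
        obtain ⟨r, hr⟩ := Ideal.mem_span_singleton'.mp x.2
        refine ⟨r • m, ?_⟩
        rw [TensorProduct.tmul_smul, TensorProduct.smul_tmul']
        congr 1
        exact Subtype.ext (by simp [a', hr])
      | add z w hz hw =>
        obtain ⟨m1, rfl⟩ := hz
        obtain ⟨m2, rfl⟩ := hw
        exact ⟨m1 + m2, (TensorProduct.tmul_add _ _ _).symm⟩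
    intro z hz
    obtain ⟨m, rfl⟩ := hform z
    rw [LinearMap.rTensor_tmul, Submodule.subtype_apply] at hz
    have hz' : a • m = 0 := by
      have := congrArg (TensorProduct.lid _ H) hz
      simpa [a'] using this
    obtain ⟨j, hj, u, rfl⟩ := unit_mul_pow p n a
    have hz2 : (p : ZMod (p ^ n)) ^ j • m = 0 := by
      have := congrArg (fun t => ((u⁻¹ : (ZMod (p ^ n))ˣ) : ZMod (p ^ n)) • t) hz'
      simpa [smul_smul, ← mul_assoc] using this
    have hmem : m ∈ LinearMap.ker (((p : ZMod (p ^ n)) ^ j) • (LinearMap.id : H →ₗ[ZMod (p ^ n)] H)) := by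
      rw [LinearMap.mem_ker]; simpa using hz2
    rw [hker j hj] at hmem
    obtain ⟨w, hw⟩ := hmem
    rw [LinearMap.smul_apply, LinearMap.id_apply] at hw
    rw [← hw, TensorProduct.tmul_smul, TensorProduct.smul_tmul']
    have : (p : ZMod (p ^ n)) ^ (n - j) • a' = 0 := by
      apply Subtype.ext
      simp only [a', Submodule.coe_smul, smul_eq_mul, Submodule.coe_zero]
      rw [mul_comm, mul_assoc, ← pow_add, Nat.add_sub_cancel' hj, hpn0, mul_zero]
    rw [this, TensorProduct.zero_tmul]

end Groth.Agent.S17500
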