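import Groth.Statements.S17512
import Mathlib

set_option autoImplicit false
universe u
open ThetaRep

namespace Groth.Agent.S17512aux
open scoped commutatorElement

variable {k : Type u} [Field k] {Γ : Type u} [Group Γ] (ι : kˣ →* Γ)
  (hι : Function.Injective ι) (hcent : ι.range = Subgroup.center Γ)
  (hcomm : commutator Γ ≤ ι.range)

include hcomm in
lemma comm_mem (x y : Γ) : ⁅x, y⁆ ∈ ι.range :=
  hcomm (Subgroup.commutator_mem_commutator (Subgroup.mem_top x) (Subgroup.mem_top y))

include hcent hcomm in
lemma comm_central (x y g : Γ) : g * ⁅x, y⁆ = ⁅x, y⁆ * g := by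
  have h := comm_mem ι hcomm x y
  rw [hcent, Subgroup.mem_center_iff] at h
  exact h g

include hcent hcomm in
lemma comm_mul_left (x y w : Γ) : ⁅x * y, w⁆ = ⁅x, w⁆ * ⁅y, w⁆ := by
  have h1 : ⁅x * y, w⁆ = x * ⁅y, w⁆ * x⁻¹ * ⁅x, w⁆ := by
    simp only [commutatorElement_def]; group
  rw [h1, comm_central ι hcent hcomm y w x, mul_assoc (⁅y, w⁆), mul_inv_cancel, mul_one,
    ← comm_central ι hcent hcomm y w]

include hcent hcomm in
lemma comm_mul_right (x y w : Γ) : ⁅x, y * w⁆ = ⁅x, y⁆ * ⁅x, w⁆ := by
  have h1 : ⁅x, y * w⁆ = ⁅x, y⁆ * (y * ⁅x, w⁆ * y⁻¹) := by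
    simp only [commutatorElement_def]; group
  rw [h1, comm_central ι hcent hcomm x w y, mul_assoc (⁅x, w⁆), mul_inv_cancel, mul_one]

/-- the commutator pairing with values in `kˣ`. -/
noncomputable def cfun (x y : Γ) : kˣ :=
  (MonoidHom.ofInjective hι).symm ⟨⁅x, y⁆, comm_mem ι hcomm x y⟩

lemma ι_cfun (x y : Γ) : ι (cfun ι hι hcomm x y) = ⁅x, y⁆ := by
  unfold cfun
  have := (MonoidHom.ofInjective hι).apply_symm_apply ⟨⁅x, y⁆, comm_mem ι hcomm x y⟩
  exact congrArg Subtype.val this

include hcent in
lemma cfun_mul_left (x y w : Γ) :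
    cfun ι hι hcomm (x * y) w = cfun ι hι hcomm x w * cfun ι hι hcomm y w := by
  apply hι
  rw [map_mul, ι_cfun, ι_cfun, ι_cfun, comm_mul_left ι hcent hcomm]

include hcent in
lemma cfun_mul_right (x y w : Γ) :
    cfun ι hι hcomm x (y * w) = cfun ι hι hcomm x y * cfun ι hι hcomm x w := by
  apply hι
  rw [map_mul, ι_cfun, ι_cfun, ι_cfun, comm_mul_right ι hcent hcomm]

lemma cfun_eq_one_iff (x y : Γ) : cfun ι hι hcomm x y = 1 ↔ x * y = y * x := by
  rw [← hι.eq_iff, ι_cfun, map_one, commutatorElement_eq_one_iff_mul_comm]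

include hcent in
lemma range_normal : ι.range.Normal := by rw [hcent]; infer_instance

/-- `y ↦ c(x, y)` as a homomorphism. -/
noncomputable def φ (x : Γ) : Γ →* kˣ :=
  MonoidHom.mk' (cfun ι hι hcomm x) (cfun_mul_right ι hι hcent hcomm x)

lemma φ_apply (x y : Γ) : φ ι hι hcent hcomm x y = cfun ι hι hcomm x y := rfl

lemma φ_range (x : Γ) : ∀ z ∈ ι.range, φ ι hι hcent hcomm x z = 1 := by
  intro z hz
  rw [φ_apply, cfun_eq_one_iff]
  rw [hcent, Subgroup.mem_center_iff] at hz
  exact hz x

include hcent in
lemma cfun_range_left (z : Γ) (hz : z ∈ ι.range) (w : Γ) : cfun ι hι hcomm z w = 1 := by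
  rw [cfun_eq_one_iff]
  rw [hcent, Subgroup.mem_center_iff] at hz
  exact (hz w).symm

section quot
variable [hn : ι.range.Normal]

/-- descended to the quotient. -/
noncomputable def φbar (x : Γ) : (Γ ⧸ ι.range) →* kˣ :=
  QuotientGroup.lift ι.range (φ ι hι hcent hcomm x) (φ_range ι hι hcent hcomm x)

lemma φbar_mk (x y : Γ) :
    φbar ι hι hcent hcomm x (QuotientGroup.mk y) = cfun ι hι hcomm x y := rfl

/-- `x ↦ c(x, ·)`. -/
noncomputable def Ψ : Γ →* ((Γ ⧸ ι.range) →* kˣ) :=
  MonoidHom.mk' (φbar ι hι hcent hcomm) (by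
    intro x y
    refine MonoidHom.ext (fun w => ?_)
    induction w using QuotientGroup.induction_on with
    | H w =>
      rw [MonoidHom.mul_apply, φbar_mk, φbar_mk, φbar_mk, cfun_mul_left ι hι hcent hcomm])

lemma Ψ_apply (x : Γ) : Ψ ι hι hcent hcomm x = φbar ι hι hcent hcomm x := rfl

lemma Ψ_range : ∀ z ∈ ι.range, Ψ ι hι hcent hcomm z = 1 := by
  intro z hz
  refine MonoidHom.ext (fun w => ?_)
  induction w using QuotientGroup.induction_on with
  | H w =>
    rw [Ψ_apply, φbar_mk, MonoidHom.one_apply, cfun_range_left ι hι hcent hcomm z hz]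

/-- descended in the first variable too. -/
noncomputable def Ψbar : (Γ ⧸ ι.range) →* ((Γ ⧸ ι.range) →* kˣ) :=
  QuotientGroup.lift ι.range (Ψ ι hι hcent hcomm) (Ψ_range ι hι hcent hcomm)

lemma Ψbar_mk (x y : Γ) : Ψbar ι hι hcent hcomm (QuotientGroup.mk x) (QuotientGroup.mk y) =
    cfun ι hι hcomm x y := rfl

lemma Ψbar_injective : Function.Injective (Ψbar ι hι hcent hcomm) := by
  rw [injective_iff_map_eq_one]
  intro a ha
  induction a using QuotientGroup.induction_on with
  | H x =>
    rw [QuotientGroup.eq_one_iff, hcent, Subgroup.mem_center_iff]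
    intro g
    have := DFunLike.congr_fun ha (QuotientGroup.mk g)
    rw [Ψbar_mk, MonoidHom.one_apply, cfun_eq_one_iff] at this
    exact this.symm

end quot

section count
variable [IsAlgClosed k] [hn : ι.range.Normal] [Finite (Γ ⧸ ι.range)]

include hcomm in
/-- `Γ / Z` is commutative. -/
lemma quot_mul_comm (a b : Γ ⧸ ι.range) : a * b = b * a := by
  induction a using QuotientGroup.induction_on with
  | H a =>
    induction b using QuotientGroup.induction_on with
    | H b =>
      rw [← QuotientGroup.mk_mul, ← QuotientGroup.mk_mul, QuotientGroup.eq]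
      have : (a * b)⁻¹ * (b * a) = ⁅b⁻¹, a⁻¹⁆ := by
        simp only [commutatorElement_def]; group
      rw [this]; exact comm_mem ι hcomm _ _

/-- `Γ / Z` is commutative. -/
noncomputable abbrev commK (h : ∀ a b : Γ ⧸ ι.range, a * b = b * a) : CommGroup (Γ ⧸ ι.range) :=
  { (inferInstance : Group (Γ ⧸ ι.range)) with mul_comm := h }

include hι hcent hcomm in
theorem index_centralizer (hcop : (Nat.card (Γ ⧸ ι.range)).Coprime (ringExpChar k))
    (H : Subgroup Γ) (hH : ι.range ≤ H) :
    (Subgroup.centralizer (H : Set Γ)).index = ι.range.relIndex H := by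
  letI : CommGroup (Γ ⧸ ι.range) := commK ι (quot_mul_comm ι hcomm)
  have hexp_dvd : Monoid.exponent (Γ ⧸ ι.range) ∣ Nat.card (Γ ⧸ ι.range) :=
    Group.exponent_dvd_nat_card
  have hexp_ne : Monoid.exponent (Γ ⧸ ι.range) ≠ 0 := Monoid.exponent_ne_zero_of_finite
  haveI : NeZero ((Monoid.exponent (Γ ⧸ ι.range) : ℕ) : k) := by
    constructor
    intro h0
    rw [ringChar.spec] at h0
    have hp0 : ringChar k ≠ 0 := by
      intro h; rw [h, zero_dvd_iff] at h0; exact hexp_ne h0
    have hprime : (ringChar k).Prime :=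
      (CharP.char_is_prime_or_zero k (ringChar k)).resolve_right hp0
    have hexpchar : ringExpChar k = ringChar k := by
      unfold ringExpChar; exact max_eq_left hprime.one_le
    rw [hexpchar] at hcop
    have hdvd : ringChar k ∣ Nat.card (Γ ⧸ ι.range) := h0.trans hexp_dvd
    have := Nat.Coprime.eq_one_of_dvd hcop.symm hdvd
    exact hprime.one_lt.ne' this
  haveI hE : HasEnoughRootsOfUnity k (Monoid.exponent (Γ ⧸ ι.range)) := inferInstance
  have hcard : Nat.card ((Γ ⧸ ι.range) →* kˣ) = Nat.card (Γ ⧸ ι.range) :=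
    CommGroup.card_monoidHom_of_hasEnoughRootsOfUnity _ _
  haveI : Finite ((Γ ⧸ ι.range) →* kˣ) := by
    obtain ⟨e⟩ := CommGroup.monoidHom_mulEquiv_of_hasEnoughRootsOfUnity (Γ ⧸ ι.range) k
    exact Finite.of_equiv _ e.symm.toEquiv
  have hbij : Function.Bijective (Ψbar ι hι hcent hcomm) :=
    (Nat.bijective_iff_injective_and_card _).mpr ⟨Ψbar_injective ι hι hcent hcomm, hcard.symm⟩
  set Hb : Subgroup (Γ ⧸ ι.range) := H.map (QuotientGroup.mk' ι.range) with hHb
  have hres : Function.Surjective (MonoidHom.domRestrictHom Hb kˣ) :=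
    MonoidHom.domRestrict_surjective (M := k) Hb
  let R : Γ →* (Hb →* kˣ) :=
    ((MonoidHom.domRestrictHom Hb kˣ).comp (Ψbar ι hι hcent hcomm)).comp
      (QuotientGroup.mk' ι.range)
  have hRsurj : Function.Surjective R :=
    (hres.comp hbij.surjective).comp (QuotientGroup.mk'_surjective _)
  have hker : R.ker = Subgroup.centralizer (H : Set Γ) := by
    ext x
    rw [MonoidHom.mem_ker, Subgroup.mem_centralizer_iff]
    constructor
    · intro hx h hh
      have := DFunLike.congr_fun hx ⟨QuotientGroup.mk h, Subgroup.mem_map_of_mem _ hh⟩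
      have h2 : cfun ι hι hcomm x h = 1 := this
      rw [cfun_eq_one_iff] at h2
      exact h2.symm
    · intro hx
      refine MonoidHom.ext (fun ⟨hb, hhb⟩ => ?_)
      obtain ⟨h, hh, rfl⟩ := hhb
      show cfun ι hι hcomm x h = 1
      rw [cfun_eq_one_iff]
      exact (hx h hh).symm
  have h1 : (Subgroup.centralizer (H : Set Γ)).index = Nat.card (Hb →* kˣ) := by
    rw [← hker, Subgroup.index_ker, MonoidHom.range_eq_top.mpr hRsurj, Subgroup.card_top]
  haveI : HasEnoughRootsOfUnity k (Monoid.exponent Hb) :=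
    hE.of_dvd k <| Monoid.exponent_submonoid_dvd Hb.toSubmonoid
  have h2 : Nat.card (Hb →* kˣ) = Nat.card Hb :=
    CommGroup.card_monoidHom_of_hasEnoughRootsOfUnity _ _
  have h3 : Nat.card Hb * Hb.index = Nat.card (Γ ⧸ ι.range) := Subgroup.card_mul_index Hb
  have h4 : Hb.index = H.index :=
    Subgroup.index_map_eq H (QuotientGroup.mk'_surjective _)
      (by rw [QuotientGroup.ker_mk']; exact hH)
  have h5 : ι.range.relIndex H * H.index = ι.range.index := Subgroup.relIndex_mul_index hH
  have h6 : H.index ≠ 0 := by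
    intro h0; rw [h0, mul_zero] at h5; exact Subgroup.index_ne_zero_of_finite h5.symm
  rw [h1, h2]
  rw [h4, ← Subgroup.index_eq_card, ← h5] at h3
  exact Nat.eq_of_mul_eq_mul_right (Nat.pos_of_ne_zero h6) h3

end count

theorem main (k : Type u) [Field k] [IsAlgClosed k]
    (Γ : Type u) [Group Γ] (ι : kˣ →* Γ) (hι : Function.Injective ι)
    (hcent : ι.range = Subgroup.center Γ) (hcomm : commutator Γ ≤ ι.range)
    [Finite (Γ ⧸ ι.range)] (hcop : (Nat.card (Γ ⧸ ι.range)).Coprime (ringExpChar k))
    (H : Subgroup Γ) (hH : ι.range ≤ H) :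
    List.TFAE [
      IsMulCommutative H ∧ ∀ H' : Subgroup Γ, IsMulCommutative H' → H ≤ H' → H' = H,
      IsMulCommutative H ∧ (ι.range.relIndex H) ^ 2 = ι.range.index,
      H = Subgroup.centralizer (H : Set Γ)] := by
  haveI hn : ι.range.Normal := range_normal ι hcent
  have hidx := index_centralizer ι hι hcent hcomm hcop H hH
  have hZC : ι.range ≤ Subgroup.centralizer (H : Set Γ) := by
    intro z hz
    rw [Subgroup.mem_centralizer_iff]
    rw [hcent, Subgroup.mem_center_iff] at hz
    intro h _; exact hz h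
  have hprod : ι.range.relIndex (Subgroup.centralizer (H : Set Γ)) * ι.range.relIndex H =
      ι.range.index := by
    rw [← hidx]; exact Subgroup.relIndex_mul_index hZC
  have hN0 : ι.range.index ≠ 0 := Subgroup.index_ne_zero_of_finite
  tfae_have 1 → 3 := by
    rintro ⟨hc, hmax⟩
    have hle : H ≤ Subgroup.centralizer (H : Set Γ) :=
      Subgroup.le_centralizer_iff_isMulCommutative.mpr hc
    apply le_antisymm hle
    intro x hx
    have hx' := Subgroup.mem_centralizer_iff.mp hx
    have hcomm' : IsMulCommutative (Subgroup.closure ((H : Set Γ) ∪ {x})) := by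
      apply Subgroup.isMulCommutative_closure
      intro a ha b hb
      rcases ha with ha | ha <;> rcases hb with hb | hb
      · exact (Subgroup.mem_centralizer_iff.mp (hle ha) b hb).symm
      · rw [Set.mem_singleton_iff] at hb; rw [hb]; exact hx' a ha
      · rw [Set.mem_singleton_iff] at ha; rw [ha]; exact (hx' b hb).symm
      · rw [Set.mem_singleton_iff] at ha hb; rw [ha, hb]
    have := hmax _ hcomm' (by intro h hh; exact Subgroup.subset_closure (Or.inl hh))
    rw [← this]; exact Subgroup.subset_closure (Or.inr rfl)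
  tfae_have 3 → 1 := by
    intro h
    have hc : IsMulCommutative H := Subgroup.le_centralizer_iff_isMulCommutative.mp h.le
    refine ⟨hc, fun H' hc' hHH' => ?_⟩
    apply le_antisymm _ hHH'
    have h1 : H' ≤ Subgroup.centralizer (H' : Set Γ) :=
      Subgroup.le_centralizer_iff_isMulCommutative.mpr hc'
    have h2 : Subgroup.centralizer (H' : Set Γ) ≤ Subgroup.centralizer (H : Set Γ) :=
      Subgroup.centralizer_le hHH'
    rw [h]
    exact h1.trans h2
  tfae_have 2 → 3 := by
    rintro ⟨hc, hsq⟩
    have hle : H ≤ Subgroup.centralizer (H : Set Γ) :=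
      Subgroup.le_centralizer_iff_isMulCommutative.mpr hc
    apply le_antisymm hle
    have ha0 : ι.range.relIndex H ≠ 0 := by
      intro h0; rw [h0, mul_zero] at hprod; exact hN0 hprod.symm
    have hab : ι.range.relIndex (Subgroup.centralizer (H : Set Γ)) = ι.range.relIndex H := by
      rw [← hsq, pow_two] at hprod
      exact Nat.eq_of_mul_eq_mul_right (Nat.pos_of_ne_zero ha0) hprod
    have h3 := Subgroup.relIndex_mul_relIndex ι.range H (Subgroup.centralizer (H : Set Γ)) hH hle
    rw [hab] at h3
    have h4 : H.relIndex (Subgroup.centralizer (H : Set Γ)) = 1 := by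
      have : ι.range.relIndex H * H.relIndex (Subgroup.centralizer (H : Set Γ)) =
          ι.range.relIndex H * 1 := by rw [h3, mul_one]
      exact Nat.eq_of_mul_eq_mul_left (Nat.pos_of_ne_zero ha0) this
    exact Subgroup.relIndex_eq_one.mp h4
  tfae_have 3 → 2 := by
    intro h
    have hc : IsMulCommutative H := Subgroup.le_centralizer_iff_isMulCommutative.mp h.le
    refine ⟨hc, ?_⟩
    rw [← h] at hprod
    rw [pow_two]; exact hprod
  tfae_finish

end Groth.Agent.S17512aux

namespace Groth.Agent.S17512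

/-- For the group of k-points of a non-degenerate theta group with constant K, let k be an algebraically
closed field and Γ a group given with an injective homomorphism ι from kˣ onto the centre of Γ such
that K = Γ/ι(kˣ) is finite and commutative (all commutators lie in ι(kˣ)) of order prime to the
characteristic exponent of k — the group of k-points of a non-degenerate theta group 1 → G_m → G → K
→ 1 with rank(K) prime to char(k). Subgroups of K correspond to subgroups H of Γ containing ι(kˣ);
such an H is totally isotropic for the commutator pairing exactly when it is commutative, and its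
orthogonal corresponds to the centralizer of H. For a subgroup H ⊇ ι(kˣ) the following are
equivalent: (i) H is commutative and maximal among commutative subgroups of Γ; (ii) H is commutative
and [H : ι(kˣ)]² = [Γ : ι(kˣ)]; (iii) H is its own centralizer. (The published lemma is for an
arbitrary non-degenerate theta group scheme, where (iii) ⇔ (ii) ⇒ (i) always and (i) ⇒ (iii) needs k
algebraically closed; this row is the case of the group of k-points with K constant.) -/
theorem result
    (k : Type u) [Field k] [IsAlgClosed k]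
    (Γ : Type u) [Group Γ] (ι : kˣ →* Γ) (hι : Function.Injective ι)
    (hcent : ι.range = Subgroup.center Γ) (hcomm : commutator Γ ≤ ι.range)
    [Finite (Γ ⧸ ι.range)] (hcop : (Nat.card (Γ ⧸ ι.range)).Coprime (ringExpChar k))
    (H : Subgroup Γ) (hH : ι.range ≤ H) :
    List.TFAE [
      IsMulCommutative H ∧ ∀ H' : Subgroup Γ, IsMulCommutative H' → H ≤ H' → H' = H,
      IsMulCommutative H ∧ (ι.range.relIndex H) ^ 2 = ι.range.index,
      H = Subgroup.centralizer (H : Set Γ)] := by
  exact Groth.Agent.S17512aux.main k Γ ι hι hcent hcomm hcop H hH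

end Groth.Agent.S17512
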