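import Groth.Statements.S17536
import Mathlib

set_option autoImplicit false
universe u v w
open W4c5adicflatcompl
open CAlg

namespace Groth.Agent.S17536



/-- If the A-module M is I-adically separated then so is the module of I-adically decaying functions
from a set Z to M. -/
theorem result {A : Type u} [CommRing A] (I : Ideal A) (Z : Type v)
    (M : Type w) [AddCommGroup M] [Module A M] [IsHausdorff I M] :
    IsHausdorff I (decaying I Z M) := by
  have key : ∀ (n : ℕ) (f : decaying I Z M), f ∈ (I ^ n • ⊤ : Submodule A (decaying I Z M)) →
      ∀ z, (f : Z → M) z ∈ (I ^ n • ⊤ : Submodule A M) := by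
    intro n f hf
    refine Submodule.smul_induction_on hf ?_ ?_
    · intro r hr g _ z
      exact Submodule.smul_mem_smul hr Submodule.mem_top
    · intro g h hg hh z
      exact Submodule.add_mem _ (hg z) (hh z)
  refine ⟨fun f hf => ?_⟩
  apply Subtype.ext
  funext z
  apply IsHausdorff.haus (inferInstance : IsHausdorff I M)
  intro n
  rw [SModEq.zero]
  have := hf n
  rw [SModEq.zero] at this
  exact key n f this z

end Groth.Agent.S17536
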