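import Groth.Statements.S17537
import Mathlib
import Groth.Agent.Lib.helper26.AdicFin

set_option autoImplicit false
universe u v
open CAlg

namespace Groth.Agent.S17537

open Groth.Agent.Lib.helper26.AdicSum in
theorem ker_eval_le {A : Type u} [CommRing A] (I : Ideal A)
    (M : Type v) [AddCommGroup M] [Module A M]
    (hC : ∀ (n : ℕ) (x : AdicCompletion I M), ∃ y : M,
        x - AdicCompletion.of I M y ∈ (I ^ n • ⊤ : Submodule A (AdicCompletion I M)))
    (n : ℕ) (z : AdicCompletion I M) (hz : AdicCompletion.eval I M n z = 0) :
    z ∈ (I ^ n • ⊤ : Submodule A (AdicCompletion I M)) := by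
  obtain ⟨y, hy⟩ := hC n z
  have h1 := eval_eq_zero_of_mem_F I hy
  rw [map_sub, hz, zero_sub, neg_eq_zero, AdicCompletion.eval_of, Submodule.mkQ_apply,
    Submodule.Quotient.mk_eq_zero] at h1
  have h2 : AdicCompletion.of I M y ∈ (I ^ n • ⊤ : Submodule A (AdicCompletion I M)) :=
    of_mem_F I h1
  have h3 : z = (z - AdicCompletion.of I M y) + AdicCompletion.of I M y := by abel
  rw [h3]
  exact Submodule.add_mem _ hy h2

/-- For a commutative ring A, an ideal I and an A-module M, the I-adic completion M^ of M is itself
I-adically complete if and only if, for every n, every element of M^ is congruent modulo I^n M^ to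
the image of an element of M (the maps M/I^n M → M^/I^n M^ are surjective). -/
theorem result {A : Type u} [CommRing A] (I : Ideal A)
    (M : Type v) [AddCommGroup M] [Module A M] :
    IsAdicComplete I (AdicCompletion I M) ↔
      ∀ (n : ℕ) (x : AdicCompletion I M), ∃ y : M,
        x - AdicCompletion.of I M y ∈ (I ^ n • ⊤ : Submodule A (AdicCompletion I M)) := by
  constructor
  · intro h n x
    have : IsPrecomplete I (AdicCompletion I M) := h.toIsPrecomplete
    obtain ⟨y, hy⟩ := Submodule.Quotient.mk_surjective _ (AdicCompletion.eval I M n x)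
    exact ⟨y, Groth.Agent.Lib.helper26.AdicSum.sub_of_mem_F_of_eval_eq I x n y hy.symm⟩
  · intro hC
    have hpre : IsPrecomplete I (AdicCompletion I M) := by
      refine ⟨fun f hf => ?_⟩
      have hcompat : ∀ {m n : ℕ} (hmn : m ≤ n),
          AdicCompletion.transitionMap I M hmn ((f n).val n) = (f m).val m := by
        intro m n hmn
        rw [AdicCompletion.transitionMap_comp_eval_apply]
        have h1 := hf hmn
        rw [SModEq.sub_mem] at h1
        have h2 := Groth.Agent.Lib.helper26.AdicSum.eval_eq_zero_of_mem_F I h1
        rw [map_sub, sub_eq_zero, AdicCompletion.eval_apply, AdicCompletion.eval_apply] at h2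
        exact h2.symm
      refine ⟨⟨fun n => (f n).val n, fun hmn => hcompat hmn⟩, fun n => ?_⟩
      rw [SModEq.sub_mem]
      apply ker_eval_le I M hC
      rw [map_sub, sub_eq_zero, AdicCompletion.eval_apply, AdicCompletion.eval_apply]
    exact { toIsHausdorff := inferInstance, toIsPrecomplete := hpre }

end Groth.Agent.S17537
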