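import Groth.Statements.S17538
import Mathlib

set_option autoImplicit false
universe u v
open CAlg

namespace Groth.Agent.S17538



/-- For a commutative ring A, an ideal I and an A-module M, the canonical map from the I-adic completion
M^ to the I-adic completion of M^ admits an A-linear retraction (it is a split injection). (That M^
is I-adically separated is standard.) -/
theorem result {A : Type u} [CommRing A] (I : Ideal A)
    (M : Type v) [AddCommGroup M] [Module A M] :
    ∃ ψ : AdicCompletion I (AdicCompletion I M) →ₗ[A] AdicCompletion I M,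
      ψ ∘ₗ AdicCompletion.of I (AdicCompletion I M) = LinearMap.id := by
  classical
  let g : ∀ n, (AdicCompletion I M ⧸ (I ^ n • ⊤ : Submodule A (AdicCompletion I M))) →ₗ[A]
      (M ⧸ (I ^ n • ⊤ : Submodule A M)) :=
    fun n => Submodule.liftQ _ (AdicCompletion.eval I M n)
      (AdicCompletion.pow_smul_top_le_ker_eval (I := I) (M := M) n)
  have hg : ∀ n (z : AdicCompletion I M), g n (Submodule.Quotient.mk z) = z.val n :=
    fun n z => rfl
  let f : ∀ n, AdicCompletion I (AdicCompletion I M) →ₗ[A] (M ⧸ (I ^ n • ⊤ : Submodule A M)) :=
    fun n => g n ∘ₗ AdicCompletion.eval I (AdicCompletion I M) n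
  have hf : ∀ {m n : ℕ} (hle : m ≤ n), AdicCompletion.transitionMap I M hle ∘ₗ f n = f m := by
    intro m n hle
    refine LinearMap.ext fun y => ?_
    simp only [f, LinearMap.comp_apply, AdicCompletion.eval_apply]
    obtain ⟨z, hz⟩ := Submodule.Quotient.mk_surjective _ (y.val n)
    have hm : y.val m = Submodule.Quotient.mk z := by
      have := AdicCompletion.transitionMap_comp_eval_apply I (AdicCompletion I M) hle y
      rw [← this, ← hz]
      rfl
    rw [← hz, hm, hg, hg]
    exact AdicCompletion.transitionMap_comp_eval_apply I M hle z
  refine ⟨AdicCompletion.lift I f hf, ?_⟩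
  refine LinearMap.ext fun x => ?_
  apply AdicCompletion.ext
  intro n
  rw [LinearMap.comp_apply, AdicCompletion.eval_lift_apply]
  simp only [f, LinearMap.comp_apply, AdicCompletion.eval_apply, AdicCompletion.of_apply,
    LinearMap.id_apply]
  exact hg n x

end Groth.Agent.S17538
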