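import Groth.Statements.S17544
import Mathlib
import Groth.Agent.Lib.helper26.AdicDec

set_option autoImplicit false
universe u v w
open W4c5adicflatcompl
open CAlg

namespace Groth.Agent.S17544



/-- For a Noetherian ring A which is I-adically complete, a set Z and n ≥ 0, reduction modulo I^n maps
the decaying functions Z → A onto the finitely supported functions Z → A/I^n, and its kernel, the
decaying functions with all values in I^n, equals I^n times the module of decaying functions; so
(A/I^n) ⊗ F_dec(Z, A) → F_fin(Z, A/I^n) is bijective. -/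
theorem result {A : Type u} [CommRing A] [IsNoetherianRing A]
    (I : Ideal A) [IsAdicComplete I A] (Z : Type v) (n : ℕ) :
    (∀ g : Z →₀ A ⧸ I ^ n, ∃ f : decaying I Z A,
        ∀ z, Ideal.Quotient.mk (I ^ n) ((f : Z → A) z) = g z) ∧
      ∀ f : decaying I Z A,
        f ∈ (I ^ n • ⊤ : Submodule A (decaying I Z A)) ↔ ∀ z, (f : Z → A) z ∈ I ^ n := by
  classical
  constructor
  · intro g
    let ℓ : A ⧸ I ^ n → A := fun q => if q = 0 then 0 else Function.surjInv Ideal.Quotient.mk_surjective q
    have hℓ : ∀ q, Ideal.Quotient.mk (I ^ n) (ℓ q) = q := by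
      intro q
      by_cases hq : q = 0
      · simp [ℓ, hq]
      · simp only [ℓ, hq, if_false]
        exact Function.surjInv_eq _ q
    have hdec : (fun z => ℓ (g z)) ∈ decaying I Z A := by
      intro k
      refine g.support.finite_toSet.subset ?_
      intro z hz
      rw [Finset.mem_coe, Finsupp.mem_support_iff]
      intro h0
      apply hz
      simp [ℓ, h0]
    exact ⟨⟨fun z => ℓ (g z), hdec⟩, fun z => hℓ (g z)⟩
  · intro f
    haveI : IsHausdorff I A := inferInstance
    open Groth.Agent.Lib.helper26.AdicSum in
    rw [show (I ^ n • ⊤ : Submodule A (decaying I Z A)) = F I n from rfl, mem_F_iff_apply_mem]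
    open Groth.Agent.Lib.helper26.AdicSum in
    simp only [mem_F_self_iff]

end Groth.Agent.S17544
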