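import Groth.Statements.S17549
import Groth.Agent.Lib.helper26.AdicProj

set_option autoImplicit false
universe u
open W4c5adicflatcompl
open CAlg

namespace Groth.Agent.S17549



/-- Over a Noetherian ring A with I-adic completion Â, an A-module P is I-adically projective
(I-adically complete, and every A-linear map from P to the target of a surjection between I-adically
complete modules lifts along that surjection) exactly when P is a retract of some module of
I-adically decaying functions Z → Â: there are a set Z, an A-linear map i from P to the decaying
functions Z → Â and an A-linear map r back with r ∘ i the identity of P. Test modules, P and Z live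
in the universe of A. -/
theorem result {A : Type u} [CommRing A] [IsNoetherianRing A]
    (I : Ideal A) (P : Type u) [AddCommGroup P] [Module A P] :
    IsAdicProjective I P ↔
      ∃ (Z : Type u) (i : P →ₗ[A] decaying I Z (AdicCompletion I A))
        (r : decaying I Z (AdicCompletion I A) →ₗ[A] P), r ∘ₗ i = LinearMap.id := by
  open Groth.Agent.Lib.helper26.AdicSum in
  constructor
  · rintro ⟨hc, hlift⟩
    have hD : IsAdicComplete I (decaying I P (AdicCompletion I A)) :=
      isAdicComplete_decaying_hat P
    obtain ⟨χ, hχ⟩ := hlift (decaying I P (AdicCompletion I A)) P hD hc
      (univMap (I := I) (Z := P) (M := P) id) univMap_id_surjective LinearMap.id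
    exact ⟨P, χ, univMap (I := I) (Z := P) (M := P) id, hχ⟩
  · rintro ⟨Z, i, r, hri⟩
    have hD : IsAdicComplete I (decaying I Z (AdicCompletion I A)) :=
      isAdicComplete_decaying_hat Z
    refine ⟨isAdicComplete_of_retract i r hri, ?_⟩
    intro M N _ _ _ _ hM hN φ hφ ψ
    exact lift_of_retract i r hri φ hφ ψ

end Groth.Agent.S17549
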