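import Groth.Statements.S17552
import Groth.Agent.Lib.helper26.AdicFree

set_option autoImplicit false
universe u
open W4c5adicflatcompl
open CAlg

namespace Groth.Agent.S17552



/-- For a complete Noetherian local ring A (maximal ideal m, m-adic completion Â), an A-module M is
isomorphic to the module of m-adically decaying functions Z → Â for some set Z (m-adically free)
exactly when M is flat and m-adically complete. M and Z live in the universe of A. -/
theorem result {A : Type u} [CommRing A] [IsNoetherianRing A] [IsLocalRing A]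
    [IsAdicComplete (IsLocalRing.maximalIdeal A) A]
    (M : Type u) [AddCommGroup M] [Module A M] :
    IsAdicFree (IsLocalRing.maximalIdeal A) M ↔
      Module.Flat A M ∧ IsAdicComplete (IsLocalRing.maximalIdeal A) M := by
  open Groth.Agent.Lib.helper26.AdicSum in
  have ℓ₀ : ∀ Z : Type u, decaying (IsLocalRing.maximalIdeal A) Z A ≃ₗ[A]
      decaying (IsLocalRing.maximalIdeal A) Z (AdicCompletion (IsLocalRing.maximalIdeal A) A) :=
    fun Z => decayingCongr Z (AdicCompletion.ofLinearEquiv (IsLocalRing.maximalIdeal A) A)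
  constructor
  · rintro ⟨Z, ⟨ℓ⟩⟩
    have ℓ' := ℓ ≪≫ₗ (ℓ₀ Z).symm
    have h1 : Module.Flat A (decaying (IsLocalRing.maximalIdeal A) Z A) :=
      Groth.Agent.Lib.helper26.AdicSum.flat_decaying
    have h2 : IsAdicComplete (IsLocalRing.maximalIdeal A)
        (decaying (IsLocalRing.maximalIdeal A) Z A) :=
      Groth.Agent.Lib.helper26.AdicSum.isAdicComplete_decaying
    refine ⟨Module.Flat.of_linearEquiv ℓ', ?_⟩
    exact Groth.Agent.Lib.helper26.AdicSum.isAdicComplete_of_retract ℓ'.toLinearMap
      ℓ'.symm.toLinearMap (by ext x; simp)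
  · rintro ⟨hflat, hcomp⟩
    obtain ⟨Z, ⟨ℓ⟩⟩ := Groth.Agent.Lib.helper26.AdicSum.exists_equiv_decaying_of_flat
      (I := IsLocalRing.maximalIdeal A) M
    exact ⟨Z, ⟨ℓ ≪≫ₗ ℓ₀ Z⟩⟩

end Groth.Agent.S17552
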