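import Groth.Statements.S1757
import Mathlib
import Groth.Agent.S1733
import Groth.Agent.S1734

set_option autoImplicit false
universe u
open LocCoh

namespace Groth.Agent.S1757

section
variable {A : Type u} [CommRing A]

theorem indep_comp_equiv {r : ℕ} (F : Fin r → A) (σ : Fin r ≃ Fin r) :
    Dual2.Independent (F ∘ σ) ↔ Dual2.Independent F := by
  have hr : Set.range (F ∘ σ) = Set.range F := σ.surjective.range_comp F
  constructor
  · intro h a ha i
    have := h (a ∘ σ) (by
      rw [← ha]
      exact Equiv.sum_comp σ (fun k => a k * F k)) (σ.symm i)
    rw [hr] at this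
    simpa using this
  · intro h a ha i
    have := h (a ∘ σ.symm) (by
      rw [← ha]
      rw [← Equiv.sum_comp σ (fun k => (a ∘ σ.symm) k * F k)]
      simp) (σ i)
    rw [hr]
    simpa using this

/-- Lech's lemma at general position -/
theorem lech {r : ℕ} (F : Fin (r + 1) → A) (j : Fin (r + 1)) (u g : A) (hj : F j = u * g)
    (h : Dual2.Independent F) :
    Dual2.Independent (Function.update F j u) ∧
    Module.length A (A ⧸ Ideal.span (Set.range F)) =
      Module.length A (A ⧸ Ideal.span (Set.range (Function.update F j u))) +
        Module.length A (A ⧸ Ideal.span (Set.range (Function.update F j g))) := by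
  set σ : Fin (r + 1) ≃ Fin (r + 1) := Equiv.swap j (Fin.last r) with hσ
  have hσl : σ (Fin.last r) = j := Equiv.swap_apply_right _ _
  have hσs : σ.symm j = Fin.last r := by rw [hσ, Equiv.symm_swap, Equiv.swap_apply_left]
  set f := (Function.update F j u) ∘ σ with hf
  have hfl : f (Fin.last r) = u := by rw [hf, Function.comp_apply, hσl, Function.update_self]
  have h1 : Function.update f (Fin.last r) (f (Fin.last r) * g) = F ∘ σ := by
    rw [hfl, hf, ← hσs, ← Function.update_comp_equiv, Function.update_idem, ← hj,
      Function.update_eq_self]
  have h2 : Function.update f (Fin.last r) g = (Function.update F j g) ∘ σ := by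
    rw [hf, ← hσs, ← Function.update_comp_equiv, Function.update_idem]
  have hind : Dual2.Independent (Function.update f (Fin.last r) (f (Fin.last r) * g)) := by
    rw [h1]; exact (indep_comp_equiv F σ).2 h
  refine ⟨?_, ?_⟩
  · have := Groth.Agent.S1733.result A r f g hind
    rw [hf] at this
    exact (indep_comp_equiv _ σ).1 this
  · have := Groth.Agent.S1734.result' r f g hind
    rw [h1, h2, hf, σ.surjective.range_comp, σ.surjective.range_comp,
      σ.surjective.range_comp] at this
    exact this

theorem prod_split {r : ℕ} (e : Fin r → ℕ) (j : Fin r) (b : ℕ) :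
    ∏ i, ((Function.update e j b i : ℕ) : ℕ∞) = (b : ℕ∞) * ∏ i ∈ Finset.univ.erase j, (e i : ℕ∞) := by
  rw [← Finset.mul_prod_erase Finset.univ _ (Finset.mem_univ j), Function.update_self]
  congr 1
  refine Finset.prod_congr rfl fun i hi => ?_
  rw [Function.update_of_ne (Finset.ne_of_mem_erase hi)]

theorem main [IsLocalRing A] (r : ℕ) (x : Fin r → A)
    (hx : Ideal.span (Set.range x) = IsLocalRing.maximalIdeal A) (n : ℕ) :
    ∀ e : Fin r → ℕ, (∀ i, 0 < e i) → ∑ i, e i = n →
      Dual2.Independent (fun i => x i ^ e i) →
      Module.length A (A ⧸ Ideal.span (Set.range (fun i => x i ^ e i))) = ∏ i, (e i : ℕ∞) := by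
  induction n using Nat.strong_induction_on with
  | _ n ih =>
    intro e he hsum hind
    by_cases hall : ∀ i, e i = 1
    · have h1 : (fun i => x i ^ e i) = x := by
        funext i; rw [hall i, pow_one]
      rw [h1, hx]
      simp only [hall, Nat.cast_one, Finset.prod_const_one]
      rw [Module.length_eq_one_iff]
      exact isSimpleModule_iff_isCoatom.2 (IsLocalRing.maximalIdeal.isMaximal A).out
    · push_neg at hall
      obtain ⟨j, hj⟩ := hall
      have hj2 : 2 ≤ e j := by have := he j; omega
      obtain ⟨r', rfl⟩ : ∃ r', r = r' + 1 :=
        Nat.exists_eq_succ_of_ne_zero (by rintro rfl; exact j.elim0)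
      set F : Fin (r' + 1) → A := fun i => x i ^ e i with hF
      have hFj : F j = x j ^ (e j - 1) * x j := by
        show x j ^ e j = x j ^ (e j - 1) * x j
        rw [← pow_succ, Nat.sub_add_cancel (by omega)]
      have hFj' : F j = x j * x j ^ (e j - 1) := by rw [hFj, mul_comm]
      have hu : Function.update F j (x j ^ (e j - 1)) =
          fun i => x i ^ (Function.update e j (e j - 1) i) := by
        funext i
        by_cases hi : i = j
        · subst hi; rw [Function.update_self, Function.update_self]
        · rw [Function.update_of_ne hi, Function.update_of_ne hi]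
      have hg : Function.update F j (x j) =
          fun i => x i ^ (Function.update e j 1 i) := by
        funext i
        by_cases hi : i = j
        · subst hi; rw [Function.update_self, Function.update_self, pow_one]
        · rw [Function.update_of_ne hi, Function.update_of_ne hi]
      obtain ⟨hind1, hlen⟩ := lech F j _ _ hFj hind
      obtain ⟨hind2, -⟩ := lech F j _ _ hFj' hind
      rw [hu] at hind1 hlen
      rw [hg] at hind2 hlen
      have hsum1 : ∑ i, Function.update e j (e j - 1) i < n := by
        rw [← hsum, ← Finset.add_sum_erase Finset.univ _ (Finset.mem_univ j),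
          ← Finset.add_sum_erase Finset.univ e (Finset.mem_univ j), Function.update_self]
        have : ∑ i ∈ Finset.univ.erase j, Function.update e j (e j - 1) i =
            ∑ i ∈ Finset.univ.erase j, e i :=
          Finset.sum_congr rfl fun i hi => Function.update_of_ne (Finset.ne_of_mem_erase hi) _ _
        rw [this]; omega
      have hsum2 : ∑ i, Function.update e j 1 i < n := by
        rw [← hsum, ← Finset.add_sum_erase Finset.univ _ (Finset.mem_univ j),
          ← Finset.add_sum_erase Finset.univ e (Finset.mem_univ j), Function.update_self]
        have : ∑ i ∈ Finset.univ.erase j, Function.update e j 1 i =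
            ∑ i ∈ Finset.univ.erase j, e i :=
          Finset.sum_congr rfl fun i hi => Function.update_of_ne (Finset.ne_of_mem_erase hi) _ _
        rw [this]; omega
      have hpos1 : ∀ i, 0 < Function.update e j (e j - 1) i := by
        intro i
        by_cases hi : i = j
        · subst hi; rw [Function.update_self]; omega
        · rw [Function.update_of_ne hi]; exact he i
      have hpos2 : ∀ i, 0 < Function.update e j 1 i := by
        intro i
        by_cases hi : i = j
        · subst hi; rw [Function.update_self]; omega
        · rw [Function.update_of_ne hi]; exact he i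
      rw [hlen, ih _ hsum1 _ hpos1 rfl hind1, ih _ hsum2 _ hpos2 rfl hind2, prod_split, prod_split,
        ← add_mul, ← Finset.mul_prod_erase Finset.univ _ (Finset.mem_univ j)]
      congr 1
      have : e j = (e j - 1) + 1 := by omega
      conv_rhs => rw [this]
      push_cast
      rfl
end

/-- Let A be a local ring whose maximal ideal is generated by x_1, …, x_r, and let e_1, …, e_r be
positive integers such that x_1^{e_1}, …, x_r^{e_r} are independent. Then the length of
A/(x_1^{e_1}, …, x_r^{e_r}) equals the product e_1 ⋯ e_r. -/
theorem result (A : Type u) [CommRing A] [IsLocalRing A] (r : ℕ) (x : Fin r → A) (hx : Ideal.span (Set.range x) = IsLocalRing.maximalIdeal A) (e : Fin r → ℕ) (he : ∀ i, 0 < e i) (hind : Dual2.Independent (fun i => x i ^ e i)) : Module.length A (A ⧸ Ideal.span (Set.range (fun i => x i ^ e i))) = ∏ i, (e i : ℕ∞) := by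
  exact main r x hx _ e he rfl hind

end Groth.Agent.S1757
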