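import Groth.Statements.S17583
import Groth.Agent.Lib.helper9.PullFF2

set_option autoImplicit false
open CategoryTheory CategoryTheory.Limits AlgebraicGeometry
open PosLin

namespace Groth.Agent.S17583

set_option backward.isDefEq.respectTransparency false in
open Groth.Agent.Lib.helper9.PullFF in
lemma main {X Y : Scheme.{0}} (f : X ⟶ Y) (hfs : IsIso (ClSub.unitToPush f))
    (L : Y.Modules) (hL : PicF.IsInvertible L) :
    IsIso ((Scheme.Modules.pullbackPushforwardAdjunction f).unit.app L) := by
  have hf' : ∀ U : Y.Opens, Function.Bijective (f.app U) := by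
    intro U
    haveI : IsIso ((ClSub.unitToPush f).app U) :=
      (Scheme.Modules.Hom.isIso_iff_isIso_app.mp hfs) U
    have hb := ConcreteCategory.bijective_of_isIso ((ClSub.unitToPush f).app U)
    constructor
    · intro a b hab
      exact hb.1 hab
    · intro b
      obtain ⟨a, ha⟩ := hb.2 b
      exact ⟨a, ha⟩
  exact isIso_unit_of_isInvertible f hf' L hL


/-- Let X and Y each be a projective variety over the complex numbers (an integral scheme, proper over
ℂ, with an ample invertible module), and let f : X → Y be an algebraic fibre space: a surjective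
morphism over ℂ such that the canonical map O_Y → f_*O_X is an isomorphism. Then for every
invertible O_Y-module L the unit L → f_* f^* L of the pullback–pushforward adjunction is an
isomorphism; taking global sections, H^0(X, f^*L) = H^0(Y, L) (the printed statement is this
equality for the powers L^⊗m, m > 0, and adds the equality of Iitaka dimensions, which is not stated
here). -/
theorem result (X : Scheme.{0}) [X.Over (Spec (CommRingCat.of ℂ))] [IsIntegral X] [IsProper (X ↘ Spec (CommRingCat.of ℂ))]
    (HX : X.Modules) (hHX : CohB1.IsAmple HX)
    (Y : Scheme.{0}) [Y.Over (Spec (CommRingCat.of ℂ))] [IsIntegral Y] [IsProper (Y ↘ Spec (CommRingCat.of ℂ))]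
    (HY : Y.Modules) (hHY : CohB1.IsAmple HY)
    (f : X ⟶ Y) (hf : f ≫ (Y ↘ Spec (CommRingCat.of ℂ)) = X ↘ Spec (CommRingCat.of ℂ)) [Surjective f]
    (hfs : IsIso (ClSub.unitToPush f))
    (L : Y.Modules) (hL : PicF.IsInvertible L) :
    IsIso ((Scheme.Modules.pullbackPushforwardAdjunction f).unit.app L) := by
  exact main f hfs L hL

end Groth.Agent.S17583
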