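import Groth.Statements.S17584
import Groth.Agent.Lib.helper4.Normal1
import Groth.Prelude.Def_ClSub2

set_option autoImplicit false
open CategoryTheory CategoryTheory.Limits AlgebraicGeometry
open PosLin

namespace Groth.Agent.S17584

set_option backward.isDefEq.respectTransparency false in
lemma isNormalScheme_opens' {X : Scheme.{0}} (hX : Pi1.IsNormalScheme X) (V : X.Opens) :
    Pi1.IsNormalScheme (V : Scheme.{0}) := by
  intro x
  obtain ⟨hd, hc⟩ := hX x.1
  let e : (V : Scheme.{0}).presheaf.stalk x ≃+* X.presheaf.stalk x.1 :=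
    (V.stalkIso x).commRingCatIsoToRingEquiv
  have hd' : IsDomain ((V : Scheme.{0}).presheaf.stalk x) := e.injective.isDomain e.toRingHom
  exact ⟨hd', IsIntegrallyClosed.of_equiv e.symm⟩

set_option backward.isDefEq.respectTransparency false in
lemma main (X Y : Scheme.{0}) [IsIntegral X] [IsIntegral Y] (f : X ⟶ Y) [Surjective f]
    (hfs : IsIso (ClSub.unitToPush f)) (hX : Pi1.IsNormalScheme X) : Pi1.IsNormalScheme Y := by
  have hf' : ∀ U : Y.Opens, IsIso (f.app U) := by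
    intro U
    haveI : IsIso ((ClSub.unitToPush f).app U) :=
      (Scheme.Modules.Hom.isIso_iff_isIso_app.mp hfs) U
    have hb := ConcreteCategory.bijective_of_isIso ((ClSub.unitToPush f).app U)
    rw [ConcreteCategory.isIso_iff_bijective]
    constructor
    · intro a b hab
      exact hb.1 hab
    · intro b
      obtain ⟨a, ha⟩ := hb.2 b
      exact ⟨a, ha⟩
  intro y
  refine ⟨inferInstance, ?_⟩
  obtain ⟨V, hV, hyV, -⟩ := exists_isAffineOpen_mem_and_subset (x := y) (U := ⊤) trivial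
  obtain ⟨x, hx⟩ := f.surjective y
  have hxW : x ∈ f ⁻¹ᵁ V := by
    show f x ∈ V
    rw [hx]; exact hyV
  haveI : Nonempty (f ⁻¹ᵁ V) := ⟨⟨x, hxW⟩⟩
  haveI : Nonempty ((f ⁻¹ᵁ V : X.Opens) : Scheme.{0}) := ⟨⟨x, hxW⟩⟩
  haveI : IsIntegral ((f ⁻¹ᵁ V : X.Opens) : Scheme.{0}) :=
    isIntegral_of_isOpenImmersion (f ⁻¹ᵁ V).ι
  have h1 : IsIntegrallyClosed (Γ(((f ⁻¹ᵁ V : X.Opens) : Scheme.{0}), ⊤) : Type) :=
    Groth.Agent.H4Normal.isIntegrallyClosed_top _ (isNormalScheme_opens' hX (f ⁻¹ᵁ V))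
  have h2 : IsIntegrallyClosed (Γ(X, f ⁻¹ᵁ V) : Type) :=
    IsIntegrallyClosed.of_equiv ((f ⁻¹ᵁ V).topIso.commRingCatIsoToRingEquiv)
  haveI := hf' V
  have h3 : IsIntegrallyClosed (Γ(Y, V) : Type) :=
    IsIntegrallyClosed.of_equiv ((asIso (f.app V)).commRingCatIsoToRingEquiv.symm)
  haveI : Nonempty V := ⟨⟨y, hyV⟩⟩
  haveI : IsDomain (Γ(Y, V) : Type) := IsIntegral.component_integral V
  letI := TopCat.Presheaf.algebra_section_stalk Y.presheaf ⟨y, hyV⟩
  haveI : IsLocalization.AtPrime (Y.presheaf.stalk y) (hV.primeIdealOf ⟨y, hyV⟩).asIdeal :=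
    hV.isLocalization_stalk ⟨y, hyV⟩
  exact isIntegrallyClosed_of_isLocalization (Y.presheaf.stalk y)
    (hV.primeIdealOf ⟨y, hyV⟩).asIdeal.primeCompl (Ideal.primeCompl_le_nonZeroDivisors _)


/-- Let X and Y each be a projective variety over the complex numbers (an integral scheme, proper over
ℂ, with an ample invertible module), and f : X → Y an algebraic fibre space (a surjective morphism
over ℂ with O_Y → f_*O_X an isomorphism). If X is normal, then Y is normal. -/
theorem result (X : Scheme.{0}) [X.Over (Spec (CommRingCat.of ℂ))] [IsIntegral X] [IsProper (X ↘ Spec (CommRingCat.of ℂ))]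
    (HX : X.Modules) (hHX : CohB1.IsAmple HX)
    (Y : Scheme.{0}) [Y.Over (Spec (CommRingCat.of ℂ))] [IsIntegral Y] [IsProper (Y ↘ Spec (CommRingCat.of ℂ))]
    (HY : Y.Modules) (hHY : CohB1.IsAmple HY)
    (f : X ⟶ Y) (hf : f ≫ (Y ↘ Spec (CommRingCat.of ℂ)) = X ↘ Spec (CommRingCat.of ℂ)) [Surjective f]
    (hfs : IsIso (ClSub.unitToPush f))
    (hX : Pi1.IsNormalScheme X) : Pi1.IsNormalScheme Y := by
  exact main X Y f hfs hX

end Groth.Agent.S17584
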