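import Groth.Statements.S17592
import Groth.Agent.Lib.helper3.PairEtale
import Groth.Agent.Lib.lead.HenselLift
-- import your own Groth.Agent.* helpers here

set_option autoImplicit false
universe u
open Hensel

namespace Groth.Agent.S17592

open TensorProduct

/-- Let R → S be an étale ring map and I an ideal of R such that the induced map R/I → S/IS is
bijective. Then a Henselization of the pair (S, IS), regarded as an R-algebra, is a Henselization of
the pair (R, I). -/
theorem result (R : Type u) [CommRing R] (I : Ideal R)
    (S : Type u) [CommRing S] [Algebra R S] [Algebra.Etale R S]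
    (hq : Function.Bijective
      (Ideal.quotientMap (I.map (algebraMap R S)) (algebraMap R S) Ideal.le_comap_map))
    (H : Type u) [CommRing H] [Algebra S H] [Algebra R H] [IsScalarTower R S H]
    (hH : Hens2.IsPairHenselization S (I.map (algebraMap R S)) H) :
    Hens2.IsPairHenselization R I H := by
  classical
  refine ⟨?_, ?_⟩
  · have := hH.1
    rwa [Ideal.map_map, ← IsScalarTower.algebraMap_eq] at this
  · intro C _ J f hC hfJ
    letI : Algebra R C := f.toAlgebra
    have hJjac : J ≤ Ideal.jacobson ⊥ := hC.jac
    have hle : ∀ f' : S →ₐ[R] C, (I.map (algebraMap R S)).map f'.toRingHom ≤ J := by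
      intro f'
      rw [Ideal.map_map]
      have : f'.toRingHom.comp (algebraMap R S) = f := by
        ext r; exact f'.commutes r
      rw [this]; exact hfJ
    have hsurj : ∀ s : S, ∃ r : R, s - algebraMap R S r ∈ I.map (algebraMap R S) := by
      intro s
      obtain ⟨x, hx⟩ := hq.2 (Ideal.Quotient.mk _ s)
      obtain ⟨r, rfl⟩ := Ideal.Quotient.mk_surjective x
      refine ⟨r, ?_⟩
      rw [Ideal.quotientMap_mk] at hx
      rw [← Ideal.Quotient.eq]
      exact hx.symm
    -- the map `S → C/J`
    let e : (R ⧸ I) ≃+* (S ⧸ I.map (algebraMap R S)) := RingEquiv.ofBijective _ hq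
    have hIJ : I ≤ J.comap f := by
      rw [← Ideal.map_le_iff_le_comap]; exact hfJ
    let σr : S →+* C ⧸ J :=
      (Ideal.quotientMap J f hIJ).comp (e.symm.toRingHom.comp (Ideal.Quotient.mk _))
    have hσr : ∀ r : R, σr (algebraMap R S r) = algebraMap R (C ⧸ J) r := by
      intro r
      have h1 : e (Ideal.Quotient.mk I r) =
          Ideal.Quotient.mk (I.map (algebraMap R S)) (algebraMap R S r) := by
        change Ideal.quotientMap (I.map (algebraMap R S)) (algebraMap R S) Ideal.le_comap_map
          (Ideal.Quotient.mk I r) = _
        rw [Ideal.quotientMap_mk]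
      have h2 : e.symm (Ideal.Quotient.mk (I.map (algebraMap R S)) (algebraMap R S r)) =
          Ideal.Quotient.mk I r := by
        rw [← h1, RingEquiv.symm_apply_apply]
      change Ideal.quotientMap J f hIJ
        (e.symm (Ideal.Quotient.mk (I.map (algebraMap R S)) (algebraMap R S r))) = _
      rw [h2, Ideal.quotientMap_mk]
      rfl
    let σ₀ : S →ₐ[R] C ⧸ J := { σr with commutes' := hσr }
    let σ : C ⊗[R] S →ₐ[C] C ⧸ J :=
      Algebra.TensorProduct.lift (Algebra.ofId C (C ⧸ J)) σ₀ (fun _ _ => Commute.all _ _)
    obtain ⟨τ, -⟩ := Groth.Agent.Lib.helper3.PairEtale.exists_lift C J (C ⊗[R] S) σ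
    let f' : S →ₐ[R] C := (τ.restrictScalars R).comp Algebra.TensorProduct.includeRight
    obtain ⟨g, hg, hgu⟩ := hH.2 C J f'.toRingHom hC (hle f')
    refine ⟨g, ?_, ?_⟩
    · change g.comp (algebraMap R H) = f
      ext r
      rw [RingHom.comp_apply, IsScalarTower.algebraMap_apply R S H]
      have := RingHom.congr_fun hg (algebraMap R S r)
      simp only [RingHom.comp_apply] at this
      rw [this]
      exact f'.commutes r
    · intro g' hg'
      have hg'' : g'.comp (algebraMap R H) = f := hg'
      apply hgu
      have hcomm : ∀ r : R, (g'.comp (algebraMap S H)) (algebraMap R S r) = algebraMap R C r := by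
        intro r
        rw [RingHom.comp_apply, ← IsScalarTower.algebraMap_apply R S H]
        exact RingHom.congr_fun hg'' r
      let f'' : S →ₐ[R] C := { g'.comp (algebraMap S H) with commutes' := hcomm }
      have heq : f'' = f' := by
        apply Groth.Agent.Lib.lead.HenselLocal.unramified_algHom_ext_of_le_jacobson J hJjac
        intro s
        obtain ⟨r, hr⟩ := hsurj s
        have h1 : f'' (s - algebraMap R S r) ∈ J := hle f'' (Ideal.mem_map_of_mem _ hr)
        have h2 : f' (s - algebraMap R S r) ∈ J := hle f' (Ideal.mem_map_of_mem _ hr)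
        have : f'' s - f' s = f'' (s - algebraMap R S r) - f' (s - algebraMap R S r) := by
          rw [map_sub, map_sub, f''.commutes, f'.commutes]; ring
        rw [this]
        exact J.sub_mem h1 h2
      ext s
      exact AlgHom.congr_fun heq s

end Groth.Agent.S17592
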