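import Groth.Statements.S17595
import Mathlib
import Groth.Agent.Lib.helper3.OpenNbhd
-- import your own Groth.Agent.* helpers here

set_option autoImplicit false
universe u
open Hensel

namespace Groth.Agent.S17595

theorem exists_away_quasiFinite (A R : Type u) [CommRing A] [CommRing R] [Algebra A R]
    [Algebra.FiniteType A R] (p : Ideal R) [p.IsPrime] [Algebra.QuasiFiniteAt A p] :
    ∃ r : R, r ∉ p ∧ Algebra.QuasiFinite A (Localization.Away r) := by
  obtain ⟨S', hS', r, hrp, H⟩ :=
    Algebra.QuasiFiniteAt.exists_fg_and_exists_notMem_and_awayMap_bijective (R := A) p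
  have : Module.Finite A S' := ⟨(Submodule.fg_top _).mpr hS'⟩
  have : Algebra.QuasiFinite A (Localization.Away r) := .trans _ S' _
  have : Algebra.QuasiFinite A (Localization.Away r.1) :=
    .of_surjective_algHom (Localization.awayMapₐ S'.val r) H.2
  exact ⟨r.1, hrp, this⟩

theorem quasiFinite_away_of_cover (A R : Type u) [CommRing A] [CommRing R] [Algebra A R]
    (g : R)
    (hg : ∀ q : PrimeSpectrum R, g ∉ q.asIdeal →
      ∃ r : R, r ∉ q.asIdeal ∧ Algebra.QuasiFinite A (Localization.Away r)) :
    Algebra.QuasiFinite A (Localization.Away g) := by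
  rw [← RingHom.quasiFinite_algebraMap]
  let s : Set (Localization.Away g) :=
    {x | ∃ r : R, Algebra.QuasiFinite A (Localization.Away r) ∧ x = algebraMap R _ r}
  refine RingHom.QuasiFinite.ofLocalizationSpanTarget _ s ?_ ?_
  · by_contra hne
    obtain ⟨m, hm, hle⟩ := Ideal.exists_le_maximal _ hne
    have hmp := hm.isPrime
    have hgm : g ∉ m.comap (algebraMap R (Localization.Away g)) := by
      intro hgm
      rw [Ideal.mem_comap] at hgm
      exact hm.ne_top (Ideal.eq_top_of_isUnit_mem _ hgm (IsLocalization.Away.algebraMap_isUnit g))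
    obtain ⟨r, hr, hqf⟩ := hg ⟨m.comap (algebraMap R (Localization.Away g)), inferInstance⟩ hgm
    exact hr (hle (Ideal.subset_span ⟨r, hqf, rfl⟩))
  · rintro ⟨x, r, hqf, rfl⟩
    dsimp only
    rw [← IsScalarTower.algebraMap_eq, RingHom.quasiFinite_algebraMap]
    let T := Localization.Away (algebraMap R (Localization.Away g) r)
    have hru : IsUnit (algebraMap R T r) := by
      rw [IsScalarTower.algebraMap_apply R (Localization.Away g) T]
      exact IsLocalization.Away.algebraMap_isUnit _
    have hgu : IsUnit (algebraMap R T g) := by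
      rw [IsScalarTower.algebraMap_apply R (Localization.Away g) T]
      exact (IsLocalization.Away.algebraMap_isUnit g).map _
    let f : Localization.Away r →ₐ[R] T :=
      IsLocalization.Away.liftAlgHom r (f := Algebra.ofId _ _) hru
    refine Algebra.QuasiFinite.of_forall_exists_mul_mem_range (f.restrictScalars A) fun x ↦ ?_
    obtain ⟨y, ⟨_, m, rfl⟩, rfl⟩ := IsLocalization.exists_mk'_eq
      (Submonoid.powers (algebraMap R (Localization.Away g) r)) x
    obtain ⟨a, ⟨_, n, rfl⟩, rfl⟩ := IsLocalization.exists_mk'_eq (Submonoid.powers g) y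
    refine ⟨algebraMap R _ (g ^ n * r ^ m), ?_, algebraMap R _ a, ?_⟩
    · simpa [f] using (hgu.pow n).mul (hru.pow m)
    · show f (algebraMap R _ a) = _ * f (algebraMap R _ (g ^ n * r ^ m))
      rw [AlgHom.commutes, AlgHom.commutes,
        IsScalarTower.algebraMap_apply R (Localization.Away g) T (g ^ n * r ^ m), map_mul,
        map_mul, mul_comm (algebraMap _ T _), ← mul_assoc, map_pow _ r,
        IsLocalization.mk'_spec, ← map_mul, IsLocalization.mk'_spec,
        ← IsScalarTower.algebraMap_apply]

/-- Suppose (A, I) is a Henselian pair, and R is an A-algebra of finite presentation for which A → R is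
quasi-finite at each prime of R that contains IR. Then there is an étale R-algebra R' such that R/IR
→ R'/IR' is bijective and A → R' is quasi-finite. -/
theorem result (A : Type u) [CommRing A] (I : Ideal A) [HenselianRing A I]
    (R : Type u) [CommRing R] [Algebra A R] [Algebra.FinitePresentation A R]
    (h : ∀ (p : Ideal R) [p.IsPrime], I.map (algebraMap A R) ≤ p → Algebra.QuasiFiniteAt A p)
    : ∃ (R' : Type u) (_ : CommRing R') (_ : Algebra R R') (_ : Algebra A R') (_ : IsScalarTower A R R'),
      Algebra.Etale R R' ∧
      Function.Bijective (Ideal.quotientMap ((I.map (algebraMap A R)).map (algebraMap R R'))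
        (algebraMap R R') Ideal.le_comap_map) ∧ Algebra.QuasiFinite A R' := by
  have hft : Algebra.FiniteType A R := inferInstance
  let U : Set (PrimeSpectrum R) :=
    ⋃ r ∈ {r : R | Algebra.QuasiFinite A (Localization.Away r)},
      (PrimeSpectrum.basicOpen r : Set (PrimeSpectrum R))
  have hU : IsOpen U := isOpen_biUnion fun r _ => (PrimeSpectrum.basicOpen r).isOpen
  obtain ⟨g, hg, hgU⟩ := Groth.Agent.Lib.helper3.OpenNbhd.exists_basicOpen
    (I.map (algebraMap A R)) U hU (by
      intro p hp
      rw [PrimeSpectrum.mem_zeroLocus] at hp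
      have := h p.asIdeal hp
      obtain ⟨r, hr, hqf⟩ := exists_away_quasiFinite A R p.asIdeal
      exact Set.mem_biUnion (show r ∈ {r : R | Algebra.QuasiFinite A (Localization.Away r)} from hqf)
        (by simpa using hr))
  refine ⟨Localization.Away g, inferInstance, inferInstance, inferInstance, inferInstance,
    ?_, ?_, ?_⟩
  · exact Algebra.Etale.of_isLocalizationAway g
  · exact Groth.Agent.Lib.helper3.OpenNbhd.away_bijective _ g hg _
  · refine quasiFinite_away_of_cover A R g fun q hq => ?_
    have : q ∈ U := hgU (by simpa using hq)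
    obtain ⟨r, hr, hqr⟩ := Set.mem_iUnion₂.mp this
    exact ⟨r, by simpa using hqr, hr⟩

end Groth.Agent.S17595
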