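import Groth.Statements.S1958
import Groth.Agent.Lib.helper3.PairHzn7
import Groth.Agent.Lib.lead.PairHz
import Groth.Agent.Lib.lead.PairHzQuot
import Groth.Agent.Lib.lead.Hensel
-- import your own Groth.Agent.* helpers here

set_option autoImplicit false
universe u
open EtAlg

namespace Groth.Agent.S1958

theorem sup_pow_smul_top {A : Type*} [CommRing A] (I : Ideal A) {B : Type*} [AddCommGroup B]
    [Module A B] (N : Submodule A B) (h : N ⊔ I • (⊤ : Submodule A B) = ⊤) (n : ℕ) :
    N ⊔ I ^ n • (⊤ : Submodule A B) = ⊤ := by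
  induction n with
  | zero => simp [Ideal.one_eq_top]
  | succ n ih =>
    have hle : I ^ n • (⊤ : Submodule A B) ≤ N ⊔ I ^ (n + 1) • (⊤ : Submodule A B) := by
      calc I ^ n • (⊤ : Submodule A B) = I ^ n • (N ⊔ I • (⊤ : Submodule A B)) := by rw [h]
        _ = I ^ n • N ⊔ I ^ n • (I • (⊤ : Submodule A B)) := Submodule.smul_sup _ _ _
        _ ≤ N ⊔ I ^ (n + 1) • (⊤ : Submodule A B) := by
          apply sup_le_sup Submodule.smul_le_right
          rw [← mul_smul, ← pow_succ]
    apply eq_top_iff.mpr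
    calc (⊤ : Submodule A B) = N ⊔ I ^ n • (⊤ : Submodule A B) := ih.symm
      _ ≤ N ⊔ I ^ (n + 1) • (⊤ : Submodule A B) := sup_le le_sup_left hle

/-- for a henselization `B` of `(A, I)`: `A → B/I^n B` is surjective -/
theorem exists_sub_mem_pow (A : Type u) [CommRing A] (I : Ideal A) (B : Type u) [CommRing B]
    [Algebra A B] (hB : Hens2.IsPairHenselization A I B) (n : ℕ) (b : B) :
    ∃ a : A, b - algebraMap A B a ∈ (I ^ n).map (algebraMap A B) := by
  let N : Submodule A B := LinearMap.range (Algebra.linearMap A B)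
  have h : N ⊔ I • (⊤ : Submodule A B) = ⊤ := by
    rw [eq_top_iff]
    intro b _
    obtain ⟨r, hr⟩ := Groth.Agent.Lib.lead.PairHzQuot.exists_sub_mem hB b
    have : b = algebraMap A B r + (b - algebraMap A B r) := by ring
    rw [this]
    refine Submodule.add_mem_sup ⟨r, rfl⟩ ?_
    rw [Ideal.smul_top_eq_map]
    exact hr
  have hn := sup_pow_smul_top I N h n
  have hb : b ∈ N ⊔ I ^ n • (⊤ : Submodule A B) := by rw [hn]; trivial
  obtain ⟨y, ⟨a, rfl⟩, z, hz, hyz⟩ := Submodule.mem_sup.mp hb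
  refine ⟨a, ?_⟩
  rw [Ideal.smul_top_eq_map] at hz
  have : b - algebraMap A B a = z := by
    rw [← hyz]
    change Algebra.linearMap A B a + z - algebraMap A B a = z
    rw [Algebra.linearMap_apply]; ring
  rw [this]
  exact hz

/-- for a henselization `B` of `(A, I)`: `A/I^n → B/I^n B` is injective -/
theorem mem_pow_of_algebraMap_mem (A : Type u) [CommRing A] (I : Ideal A) (B : Type u) [CommRing B]
    [Algebra A B] (hB : Hens2.IsPairHenselization A I B) (n : ℕ) (a : A)
    (ha : algebraMap A B a ∈ (I ^ n).map (algebraMap A B)) : a ∈ I ^ n := by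
  let K : Ideal (A ⧸ I ^ n) := I.map (Ideal.Quotient.mk (I ^ n))
  have hK : ∀ x ∈ K, IsNilpotent x := by
    intro x hx
    refine ⟨n, ?_⟩
    have h1 : x ^ n ∈ K ^ n := Ideal.pow_mem_pow hx n
    rw [← Ideal.map_pow, Ideal.map_quotient_self, Ideal.mem_bot] at h1
    exact h1
  have hQ : HenselianRing (A ⧸ I ^ n) K := Groth.Agent.Lib.lead.Hensel.henselian_of_nil K hK
  obtain ⟨g, hg, -⟩ := hB.2 (A ⧸ I ^ n) K (Ideal.Quotient.mk (I ^ n)) hQ le_rfl
  have h1 : g (algebraMap A B a) ∈ ((I ^ n).map (algebraMap A B)).map g :=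
    Ideal.mem_map_of_mem _ ha
  rw [Ideal.map_map, hg, Ideal.map_quotient_self, Ideal.mem_bot] at h1
  have h2 : g (algebraMap A B a) = Ideal.Quotient.mk (I ^ n) a := RingHom.congr_fun hg a
  rw [h2] at h1
  exact Ideal.Quotient.eq_zero_iff_mem.mp h1

/-- Let (A, I) be a pair and B a henselization of it (universal henselian pair under (A, I)). Then B is
flat over A and for every n the map A/I^n -> B/I^n B is bijective. -/
theorem result (A : Type u) [CommRing A] (I : Ideal A) (B : Type u) [CommRing B]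
    [Algebra A B] (hB : Hens2.IsPairHenselization A I B) :
    Module.Flat A B ∧ ∀ n : ℕ, Function.Bijective
      (Ideal.quotientMap ((I ^ n).map (algebraMap A B)) (algebraMap A B) Ideal.le_comap_map) := by
  obtain ⟨e⟩ := Groth.Agent.Lib.lead.PairHz.algEquiv_of_isPairHenselization hB
    (Groth.Agent.Lib.helper3.PairHzn.isPairHenselization (A := A) (I := I))
  refine ⟨Module.Flat.of_linearEquiv e.toLinearEquiv, fun n => ⟨?_, ?_⟩⟩
  · rw [injective_iff_map_eq_zero]
    intro x hx
    obtain ⟨a, rfl⟩ := Ideal.Quotient.mk_surjective x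
    rw [Ideal.quotientMap_mk, Ideal.Quotient.eq_zero_iff_mem] at hx
    rw [Ideal.Quotient.eq_zero_iff_mem]
    exact mem_pow_of_algebraMap_mem A I B hB n a hx
  · intro y
    obtain ⟨b, rfl⟩ := Ideal.Quotient.mk_surjective y
    obtain ⟨a, ha⟩ := exists_sub_mem_pow A I B hB n b
    refine ⟨Ideal.Quotient.mk (I ^ n) a, ?_⟩
    rw [Ideal.quotientMap_mk]
    symm
    rw [Ideal.Quotient.eq]
    exact ha

end Groth.Agent.S1958
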