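import Groth.Statements.S17596
import Mathlib
import Groth.Agent.Lib.helper3.PairFin
import Groth.Agent.Lib.helper3.OpenNbhd
import Groth.Agent.Lib.helper3.PairHzn3
import Groth.Agent.Lib.lead.PairHz
import Groth.Agent.S0526
import Groth.Agent.S1958
-- import your own Groth.Agent.* helpers here

set_option autoImplicit false
universe u
open Hensel

namespace Groth.Agent.S17596

open Groth.Agent.Lib.helper3 in
/-- a henselian étale neighbourhood is the henselization -/
theorem isPairHenselization_of_etale_henselian (R : Type u) [CommRing R] (J : Ideal R)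
    (C : Type u) [CommRing C] [Algebra R C] [Algebra.Etale R C]
    [hC : HenselianRing C (J.map (algebraMap R C))]
    (hbij : Function.Bijective (Ideal.quotientMap (J.map (algebraMap R C)) (algebraMap R C)
      Ideal.le_comap_map)) : Hens2.IsPairHenselization R J C := by
  obtain ⟨χ, hχ⟩ := PairHzn.exists_aug_of_bijective J hbij
  refine ⟨hC, ?_⟩
  intro T _ K f hT hfK
  letI : Algebra R T := f.toAlgebra
  obtain ⟨g, -⟩ := PairHzn.exists_algHom_henselian J C χ T K hfK
  refine ⟨g.toRingHom, ?_, ?_⟩
  · ext r; exact g.commutes r
  · intro g' hg'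
    let g'' : C →ₐ[R] T := { g' with commutes' := fun r => RingHom.congr_fun hg' r }
    have := PairHzn.algHom_ext_of_le_jacobson J χ hχ K hT.jac hfK g'' g
    ext c; exact AlgHom.congr_fun this c

/-- generators of `R/IR` from finiteness of `A/I → B/IB` -/
theorem exists_generators (A : Type u) [CommRing A] (I : Ideal A)
    (R : Type u) [CommRing R] [Algebra A R]
    (B : Type u) [CommRing B] [Algebra R B] [Algebra A B] [IsScalarTower A R B]
    (hB : Hens2.IsPairHenselization R (I.map (algebraMap A R)) B)
    (hfin : (Ideal.quotientMap (I.map (algebraMap A B)) (algebraMap A B) Ideal.le_comap_map).Finite) :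
    ∃ (X : Finset (B ⧸ I.map (algebraMap A B))) (v : (B ⧸ I.map (algebraMap A B)) → R),
      ∀ r : R, ∃ a : (B ⧸ I.map (algebraMap A B)) → A,
        r - ∑ x ∈ X, a x • v x ∈ I.map (algebraMap A R) := by
  classical
  set J := I.map (algebraMap A R) with hJ
  set IB := I.map (algebraMap A B) with hIB
  have hJB : J.map (algebraMap R B) = IB := by
    rw [hJ, Ideal.map_map, ← IsScalarTower.algebraMap_eq]
  letI := (Ideal.quotientMap IB (algebraMap A B) Ideal.le_comap_map).toAlgebra
  have hfin' : Module.Finite (A ⧸ I) (B ⧸ IB) := hfin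
  obtain ⟨s, hs⟩ := hfin'.fg_top
  choose bf hbf using (Ideal.Quotient.mk_surjective : Function.Surjective (Ideal.Quotient.mk IB))
  choose af haf using (Ideal.Quotient.mk_surjective : Function.Surjective (Ideal.Quotient.mk I))
  have hx : ∀ b : B, ∃ x : R, b - algebraMap R B x ∈ IB := by
    intro b
    obtain ⟨x, hx⟩ := Groth.Agent.S1958.exists_sub_mem_pow R J B hB 1 b
    rw [pow_one, hJB] at hx
    exact ⟨x, hx⟩
  choose xf hxf using hx
  refine ⟨s, fun y => xf (bf y), fun r => ?_⟩
  have hr : Ideal.Quotient.mk IB (algebraMap R B r) ∈ Submodule.span (A ⧸ I) (s : Set (B ⧸ IB)) := by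
    rw [hs]; exact Submodule.mem_top
  obtain ⟨c, -, hc⟩ := Submodule.mem_span_finset.mp hr
  refine ⟨fun y => af (c y), ?_⟩
  have hsmul : ∀ y : B ⧸ IB, c y • y = Ideal.Quotient.mk IB (algebraMap A B (af (c y)) * bf y) := by
    intro y
    rw [Algebra.smul_def]
    change (Ideal.quotientMap IB (algebraMap A B) Ideal.le_comap_map) (c y) * y = _
    have h0 := Ideal.quotientMap_mk (J := I) (I := IB) (f := algebraMap A B)
      (H := Ideal.le_comap_map) (x := af (c y))
    rw [haf] at h0
    rw [map_mul, hbf, ← h0]
  have h1 : algebraMap R B r - ∑ y ∈ s, algebraMap A B (af (c y)) * bf y ∈ IB := by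
    rw [← Ideal.Quotient.eq_zero_iff_mem, map_sub, map_sum, sub_eq_zero, ← hc]
    exact Finset.sum_congr rfl fun y _ => (hsmul y)
  have h2 : algebraMap R B (r - ∑ y ∈ s, af (c y) • xf (bf y)) ∈ IB := by
    have : algebraMap R B (r - ∑ y ∈ s, af (c y) • xf (bf y))
        = (algebraMap R B r - ∑ y ∈ s, algebraMap A B (af (c y)) * bf y)
          + ∑ y ∈ s, algebraMap A B (af (c y)) * (bf y - algebraMap R B (xf (bf y))) := by
      rw [map_sub, map_sum, sub_add, ← Finset.sum_sub_distrib]
      congr 1
      refine Finset.sum_congr rfl fun y _ => ?_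
      rw [Algebra.smul_def, map_mul, ← IsScalarTower.algebraMap_apply]
      ring
    rw [this]
    exact IB.add_mem h1 (IB.sum_mem fun y _ => IB.mul_mem_left _ (hxf _))
  have h3 := Groth.Agent.S1958.mem_pow_of_algebraMap_mem R J B hB 1 _ (by rwa [pow_one, hJB])
  rwa [pow_one] at h3

/-- Let (A, I) be a Henselian pair and let B be a Henselization of the pair (R, IR) for a finitely
presented A-algebra R (that is, A → B is a Henselian finitely presented map of Henselian pairs). If
the induced map A/I → B/IB is module-finite, then B is module-finite and finitely presented over A. -/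
theorem result (A : Type u) [CommRing A] (I : Ideal A)
    [HenselianRing A I] (R : Type u) [CommRing R] [Algebra A R] [Algebra.FinitePresentation A R]
    (B : Type u) [CommRing B] [Algebra R B] [Algebra A B] [IsScalarTower A R B]
    (hB : Hens2.IsPairHenselization R (I.map (algebraMap A R)) B)
    (hfin : (Ideal.quotientMap (I.map (algebraMap A B)) (algebraMap A B) Ideal.le_comap_map).Finite) :
    Module.Finite A B ∧ Algebra.FinitePresentation A B := by
  obtain ⟨X, v, hX⟩ := exists_generators A I R B hB hfin
  obtain ⟨g, hg1, hgfin⟩ :=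
    Groth.Agent.Lib.helper3.PairFin.exists_away_finite_of_finite_quotient A I R X v hX
  haveI : Algebra.IsIntegral A (Localization.Away g) := Algebra.IsIntegral.of_finite A _
  have hhens : HenselianRing (Localization.Away g)
      ((I.map (algebraMap A R)).map (algebraMap R (Localization.Away g))) := by
    rw [Ideal.map_map, ← IsScalarTower.algebraMap_eq]
    exact Groth.Agent.S0526.result A I (Localization.Away g)
  haveI : Algebra.Etale R (Localization.Away g) := Algebra.Etale.of_isLocalizationAway g
  have hH : Hens2.IsPairHenselization R (I.map (algebraMap A R)) (Localization.Away g) :=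
    isPairHenselization_of_etale_henselian R _ (Localization.Away g)
      (Groth.Agent.Lib.helper3.OpenNbhd.away_bijective _ g hg1 _)
  obtain ⟨e⟩ := Groth.Agent.Lib.lead.PairHz.algEquiv_of_isPairHenselization hB hH
  let e' : B ≃ₐ[A] Localization.Away g := e.restrictScalars A
  haveI : Algebra.FinitePresentation R (Localization.Away g) :=
    IsLocalization.Away.finitePresentation g
  haveI : Algebra.FinitePresentation A (Localization.Away g) :=
    Algebra.FinitePresentation.trans A R _
  exact ⟨Module.Finite.equiv e'.symm.toLinearEquiv, Algebra.FinitePresentation.equiv e'.symm⟩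

end Groth.Agent.S17596
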