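import Groth.Statements.S17597
import Mathlib
import Groth.Agent.S17596
-- import your own Groth.Agent.* helpers here

set_option autoImplicit false
universe u
open Hensel

namespace Groth.Agent.S17597

/-- Let (A, I) be a Henselian pair and let B be a Henselization of the pair (R, IR) for a finitely
presented A-algebra R (so A → B is Henselian finitely presented). If the induced map A/I → B/IB is
surjective, then A → B is surjective. -/
theorem result (A : Type u) [CommRing A] (I : Ideal A)
    [HenselianRing A I] (R : Type u) [CommRing R] [Algebra A R] [Algebra.FinitePresentation A R]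
    (B : Type u) [CommRing B] [Algebra R B] [Algebra A B] [IsScalarTower A R B]
    (hB : Hens2.IsPairHenselization R (I.map (algebraMap A R)) B)
    (hsurj : Function.Surjective
      (Ideal.quotientMap (I.map (algebraMap A B)) (algebraMap A B) Ideal.le_comap_map)) :
    Function.Surjective (algebraMap A B) := by
  have hfin : Module.Finite A B :=
    (Groth.Agent.S17596.result A I R B hB (RingHom.Finite.of_surjective _ hsurj)).1
  let N : Submodule A B := LinearMap.range (Algebra.linearMap A B)
  have hIjac : I ≤ Ideal.jacobson ⊥ := HenselianRing.jac
  have htop : (⊤ : Submodule A B) ≤ N := by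
    refine Submodule.le_of_le_smul_of_le_jacobson_bot hfin.fg_top hIjac ?_
    intro b _
    obtain ⟨ā, ha⟩ := hsurj (Ideal.Quotient.mk _ b)
    obtain ⟨a, rfl⟩ := Ideal.Quotient.mk_surjective ā
    rw [Ideal.quotientMap_mk, Ideal.Quotient.eq] at ha
    have : b = algebraMap A B a + (b - algebraMap A B a) := by ring
    rw [this]
    refine Submodule.add_mem_sup ⟨a, rfl⟩ ?_
    rw [Ideal.smul_top_eq_map]
    have h2 : b - algebraMap A B a = -(algebraMap A B a - b) := by ring
    rw [h2]
    exact Submodule.neg_mem _ ha
  intro b
  obtain ⟨a, ha⟩ := htop (Submodule.mem_top : b ∈ ⊤)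
  exact ⟨a, ha⟩

end Groth.Agent.S17597
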