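import Groth.Statements.S17598
import Mathlib
import Groth.Agent.Lib.helper3.HFP
import Groth.Agent.Lib.helper3.EtaleLiftQuot
import Groth.Agent.S17596
import Groth.Agent.S17597
import Groth.Agent.S1958
-- import your own Groth.Agent.* helpers here

set_option autoImplicit false
universe u
open Hensel

namespace Groth.Agent.S17598

theorem etale_congr (A : Type u) [CommRing A] (B : Type u) [CommRing B] [Algebra A B]
    {I J : Ideal A} (h : I = J)
    (het : Algebra.Etale (A ⧸ I) (B ⧸ I.map (algebraMap A B))) :
    Algebra.Etale (A ⧸ J) (B ⧸ J.map (algebraMap A B)) := by subst h; exact het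

open Groth.Agent.Lib.helper3 in
/-- the main construction -/
theorem main (A : Type u) [CommRing A] (I : Ideal A)
    [HenselianRing A I] (R₀ : Type u) [CommRing R₀] [Algebra A R₀] [Algebra.FinitePresentation A R₀]
    (B : Type u) [CommRing B] [Algebra R₀ B] [Algebra A B] [IsScalarTower A R₀ B]
    (hB : Hens2.IsPairHenselization R₀ (I.map (algebraMap A R₀)) B)
    (het : ∀ r : ℕ, 1 ≤ r → Algebra.Etale (A ⧸ I ^ r) (B ⧸ (I ^ r).map (algebraMap A B))) :
    ∃ (R : Type u) (_ : CommRing R) (_ : Algebra A R) (H : Type u) (_ : CommRing H) (_ : Algebra R H)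
      (_ : Algebra A H) (_ : IsScalarTower A R H),
      Algebra.Etale A R ∧ Hens2.IsPairHenselization R (I.map (algebraMap A R)) H ∧
      ∃ φ : H →ₐ[A] B, Function.Surjective φ ∧ (RingHom.ker φ).FG ∧
        ∀ n : ℕ, RingHom.ker φ ≤ (I ^ n).map (algebraMap A H) := by
  classical
  set IB := I.map (algebraMap A B) with hIB
  have hIBeq : (I.map (algebraMap A R₀)).map (algebraMap R₀ B) = IB := by
    rw [Ideal.map_map, ← IsScalarTower.algebraMap_eq]
  haveI hBh : HenselianRing B IB := by
    have := hB.1
    rwa [hIBeq] at this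
  haveI hCet : Algebra.Etale (A ⧸ I) (B ⧸ IB) := etale_congr A B (pow_one I) (het 1 le_rfl)
  obtain ⟨R, _, _, hRet, ψ, hψs, hψk⟩ := EtaleLiftQuot.exists_etale_lift A I (B ⧸ IB)
  obtain ⟨φR, hφR⟩ := HFP.exists_lift_etale A B IB R ψ
  let H := PairHzn.Hzn R (I.map (algebraMap A R))
  have hH : Hens2.IsPairHenselization R (I.map (algebraMap A R)) H := PairHzn.isPairHenselization
  letI algAH : Algebra A H := ((algebraMap R H).comp (algebraMap A R)).toAlgebra
  haveI towerARH : IsScalarTower A R H := IsScalarTower.of_algebraMap_eq (fun _ => rfl)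
  have hφRA : φR.toRingHom.comp (algebraMap A R) = algebraMap A B := by
    ext a; exact φR.commutes a
  have hJB : (I.map (algebraMap A R)).map φR.toRingHom ≤ IB := by
    rw [Ideal.map_map, hφRA]
  obtain ⟨θ₀, hθ₀, -⟩ := hH.2 B IB φR.toRingHom hBh hJB
  have hθ₀R : ∀ r : R, θ₀ (algebraMap R H r) = φR r := fun r => RingHom.congr_fun hθ₀ r
  let θ : H →ₐ[A] B :=
    { θ₀ with
      commutes' := fun a => by
        change θ₀ (algebraMap R H (algebraMap A R a)) = _
        rw [hθ₀R, φR.commutes] }
  have hθR : ∀ r : R, θ (algebraMap R H r) = φR r := hθ₀R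
  letI algHB : Algebra H B := θ.toRingHom.toAlgebra
  haveI towerAHB : IsScalarTower A H B := IsScalarTower.of_algebraMap_eq (fun a => (θ.commutes a).symm)
  have halgHB : ∀ h : H, algebraMap H B h = θ h := fun h => rfl
  obtain ⟨T, _, _, hTfp, _, _, hT⟩ := HFP.exists_fp_over_hens A I R₀ B hB R H hH
  set KH := I.map (algebraMap A H) with hKH
  haveI hHh : HenselianRing H KH := by
    have := hH.1
    rwa [Ideal.map_map, ← IsScalarTower.algebraMap_eq] at this
  have hKHB : KH.map (algebraMap H B) = IB := by
    rw [hKH, Ideal.map_map, ← IsScalarTower.algebraMap_eq]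
  have hs : ∀ b : B, ∃ r : R, b - φR r ∈ IB := by
    intro b
    obtain ⟨r, hr⟩ := hψs (Ideal.Quotient.mk IB b)
    refine ⟨r, ?_⟩
    rw [← Ideal.Quotient.eq, hφR, hr]
  have hk : ∀ r : R, φR r ∈ IB → r ∈ I.map (algebraMap A R) := by
    intro r hr
    apply hψk
    rw [RingHom.mem_ker, ← hφR]
    exact Ideal.Quotient.eq_zero_iff_mem.mpr hr
  have hsurj : Function.Surjective
      (Ideal.quotientMap (KH.map (algebraMap H B)) (algebraMap H B) Ideal.le_comap_map) := by
    intro y
    obtain ⟨b, rfl⟩ := Ideal.Quotient.mk_surjective y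
    obtain ⟨r, hr⟩ := hs b
    refine ⟨Ideal.Quotient.mk KH (algebraMap R H r), ?_⟩
    rw [Ideal.quotientMap_mk, Ideal.Quotient.eq, hKHB, halgHB, hθR]
    have : φR r - b = -(b - φR r) := by ring
    rw [this]
    exact IB.neg_mem hr
  have h97 : Function.Surjective (algebraMap H B) :=
    Groth.Agent.S17597.result H KH T B hT hsurj
  have h96 := Groth.Agent.S17596.result H KH T B hT (RingHom.Finite.of_surjective _ hsurj)
  haveI : Algebra.FinitePresentation H B := h96.2
  have hfg : (RingHom.ker (Algebra.ofId H B).toRingHom).FG :=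
    Algebra.FinitePresentation.ker_fG_of_surjective (Algebra.ofId H B) h97
  refine ⟨R, inferInstance, inferInstance, H, inferInstance, inferInstance, algAH, towerARH, hRet, hH,
    θ, h97, hfg, ?_⟩
  intro n x hx
  rw [RingHom.mem_ker] at hx
  rcases Nat.eq_zero_or_pos n with rfl | hn
  · rw [pow_zero, Ideal.one_eq_top, Ideal.map_top]; trivial
  haveI : Module.Flat (A ⧸ I ^ n) (B ⧸ (I ^ n).map (algebraMap A B)) := by
    haveI := het n hn
    infer_instance
  obtain ⟨r, hr⟩ := Groth.Agent.S1958.exists_sub_mem_pow R (I.map (algebraMap A R)) H hH n x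
  have hpow : ((I.map (algebraMap A R)) ^ n).map (algebraMap R H) = (I ^ n).map (algebraMap A H) := by
    rw [← Ideal.map_pow, Ideal.map_map, ← IsScalarTower.algebraMap_eq]
  rw [hpow] at hr
  have h1 : φR r ∈ (I ^ n).map (algebraMap A B) := by
    have h2 : θ (x - algebraMap R H r) ∈ ((I ^ n).map (algebraMap A H)).map (algebraMap H B) :=
      Ideal.mem_map_of_mem (algebraMap H B) hr
    rw [Ideal.map_map, ← IsScalarTower.algebraMap_eq, map_sub, hx, zero_sub, hθR] at h2
    have := neg_mem h2
    rwa [neg_neg] at this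
  have h3 : r ∈ (I ^ n).map (algebraMap A R) :=
    HFP.mem_pow_of_map_mem A I R B φR n hn hs hk r h1
  have h4 : algebraMap R H r ∈ (I ^ n).map (algebraMap A H) := by
    have := Ideal.mem_map_of_mem (algebraMap R H) h3
    rwa [Ideal.map_map, ← IsScalarTower.algebraMap_eq] at this
  have : x = (x - algebraMap R H r) + algebraMap R H r := by ring
  rw [this]
  exact Ideal.add_mem _ hr h4

/-- Let (A, I) be a Henselian pair and let B be a Henselization of the pair (R₀, IR₀) for a finitely
presented A-algebra R₀ (so A → B is a Henselian finitely presented map of Henselian pairs). Assume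
that A/I^r → B/I^rB is étale for every r ≥ 1 (for Henselian finitely presented maps this is
equivalent to the h-formally étale lifting property). Then there exist an étale A-algebra R, a
Henselization H of the pair (R, IR) and a surjective A-algebra map H → B whose kernel is a finitely
generated ideal contained in I^n H for every n. -/
theorem result (A : Type u) [CommRing A] (I : Ideal A)
    [HenselianRing A I] (R₀ : Type u) [CommRing R₀] [Algebra A R₀] [Algebra.FinitePresentation A R₀]
    (B : Type u) [CommRing B] [Algebra R₀ B] [Algebra A B] [IsScalarTower A R₀ B]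
    (hB : Hens2.IsPairHenselization R₀ (I.map (algebraMap A R₀)) B)
    (het : ∀ r : ℕ, 1 ≤ r → Algebra.Etale (A ⧸ I ^ r) (B ⧸ (I ^ r).map (algebraMap A B))) :
    ∃ (R : Type u) (_ : CommRing R) (_ : Algebra A R) (H : Type u) (_ : CommRing H) (_ : Algebra R H)
      (_ : Algebra A H) (_ : IsScalarTower A R H),
      Algebra.Etale A R ∧ Hens2.IsPairHenselization R (I.map (algebraMap A R)) H ∧
      ∃ φ : H →ₐ[A] B, Function.Surjective φ ∧ (RingHom.ker φ).FG ∧
        ∀ n : ℕ, RingHom.ker φ ≤ (I ^ n).map (algebraMap A H) := by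
  exact main A I R₀ B hB het

end Groth.Agent.S17598
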