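import Groth.Statements.S17600
import Mathlib
import Groth.Agent.S17598
import Groth.Agent.Lib.helper3.AdicIso
import Groth.Agent.Lib.lead.PairHz
-- import your own Groth.Agent.* helpers here

set_option autoImplicit false
universe u
open Hensel

namespace Groth.Agent.S17600

/-- a surjection from a henselian pair onto a flat algebra with finitely generated kernel inside
`IH` is injective -/
theorem injective_of_flat (A : Type u) [CommRing A] (I : Ideal A)
    (H : Type u) [CommRing H] [Algebra A H] (hjac : I.map (algebraMap A H) ≤ Ideal.jacobson ⊥)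
    (B : Type u) [CommRing B] [Algebra A B] [Module.Flat A B]
    (φ : H →ₐ[A] B) (hφs : Function.Surjective φ) (hfg : (RingHom.ker φ).FG)
    (hle : RingHom.ker φ ≤ I.map (algebraMap A H)) : Function.Injective φ := by
  set K : Ideal H := RingHom.ker φ with hK
  set KH : Ideal H := I.map (algebraMap A H) with hKH
  have hKK : K ≤ KH • K := by
    intro x hx
    have hx' : x ∈ LinearMap.ker φ.toLinearMap := by
      rw [LinearMap.mem_ker]
      change φ x = 0
      exact (RingHom.mem_ker (f := φ)).mp hx
    have hxI : ((⟨x, hx'⟩ : LinearMap.ker φ.toLinearMap) : H) ∈ (I • ⊤ : Submodule A H) := by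
      rw [Ideal.smul_top_eq_map]; exact hle hx
    have h1 := Groth.Agent.Lib.helper3.AdicIso.mem_smul_top_ker_of_flat φ.toLinearMap hφs I
      ⟨x, hx'⟩ hxI
    have key : ∀ y ∈ (I • ⊤ : Submodule A (LinearMap.ker φ.toLinearMap)), (y : H) ∈ KH • K := by
      intro y hy
      refine Submodule.smul_induction_on hy ?_ ?_
      · intro i hi k _
        have hk : (k : H) ∈ K := by
          rw [hK, RingHom.mem_ker]; exact (LinearMap.mem_ker).mp k.2
        have : ((i • k : LinearMap.ker φ.toLinearMap) : H) = algebraMap A H i • (k : H) := by
          rw [Submodule.coe_smul, Algebra.smul_def, smul_eq_mul]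
        rw [this]
        exact Submodule.smul_mem_smul (Ideal.mem_map_of_mem _ hi) hk
      · intro y z hy hz
        rw [Submodule.coe_add]
        exact Submodule.add_mem _ hy hz
    exact key _ h1
  have hbot : K = ⊥ := Submodule.eq_bot_of_le_smul_of_le_jacobson_bot KH K hfg hKK hjac
  rw [injective_iff_map_eq_zero]
  intro x hx
  have : x ∈ K := (RingHom.mem_ker).mpr hx
  rw [hbot] at this
  exact this

/-- Let (A, I) be a Henselian pair and let B be a Henselization of the pair (R₀, IR₀) for a finitely
presented A-algebra R₀ (so A → B is Henselian finitely presented). If B is flat over A and A/I^r →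
B/I^rB is étale for every r ≥ 1 (the h-formally étale property, in its equivalent form for Henselian
finitely presented maps), then A → B is h-étale: there is an étale A-algebra R, with an R-algebra
structure on B compatible with that of A, such that B is a Henselization of the pair (R, IR). -/
theorem result (A : Type u) [CommRing A] (I : Ideal A)
    [HenselianRing A I] (R₀ : Type u) [CommRing R₀] [Algebra A R₀] [Algebra.FinitePresentation A R₀]
    (B : Type u) [CommRing B] [Algebra R₀ B] [Algebra A B] [IsScalarTower A R₀ B]
    (hB : Hens2.IsPairHenselization R₀ (I.map (algebraMap A R₀)) B) [Module.Flat A B]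
    (het : ∀ r : ℕ, 1 ≤ r → Algebra.Etale (A ⧸ I ^ r) (B ⧸ (I ^ r).map (algebraMap A B))) :
    ∃ (R : Type u) (_ : CommRing R) (_ : Algebra A R) (_ : Algebra R B) (_ : IsScalarTower A R B),
      Algebra.Etale A R ∧ Hens2.IsPairHenselization R (I.map (algebraMap A R)) B := by
  obtain ⟨R, _, _, H, _, _, _, _, hRet, hH, φ, hφs, hfg, hpow⟩ :=
    Groth.Agent.S17598.result A I R₀ B hB het
  have hle : RingHom.ker φ ≤ I.map (algebraMap A H) := by
    have := hpow 1
    rwa [pow_one] at this
  have hjac : I.map (algebraMap A H) ≤ Ideal.jacobson ⊥ := by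
    have := hH.1.jac
    rwa [Ideal.map_map, ← IsScalarTower.algebraMap_eq] at this
  have hinj := injective_of_flat A I H hjac B φ hφs hfg hle
  letI : Algebra R B := (φ.toRingHom.comp (algebraMap R H)).toAlgebra
  haveI : IsScalarTower A R B := IsScalarTower.of_algebraMap_eq (fun a => by
    change algebraMap A B a = φ (algebraMap R H (algebraMap A R a))
    rw [← IsScalarTower.algebraMap_apply, φ.commutes])
  let φR : H →ₐ[R] B := { φ.toRingHom with commutes' := fun r => rfl }
  let e : H ≃ₐ[R] B := AlgEquiv.ofBijective φR ⟨hinj, hφs⟩
  exact ⟨R, inferInstance, inferInstance, inferInstance, inferInstance, hRet,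
    Groth.Agent.Lib.lead.PairHz.isPairHenselization_of_algEquiv hH e⟩

end Groth.Agent.S17600
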