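import Groth.Statements.S17602
import Groth.Agent.S1958
import Groth.Agent.S0534
-- import your own Groth.Agent.* helpers here

set_option autoImplicit false
universe u
open Hensel

namespace Groth.Agent.S17602

open TensorProduct

/-- for a henselization `B` of `(R, IR)` (`R` an `A`-algebra): `(A/K) ⊗_A R ≅ B/KB` for `K = I^r` -/
theorem exists_equiv (A : Type u) [CommRing A] (I : Ideal A)
    (R : Type u) [CommRing R] [Algebra A R]
    (B : Type u) [CommRing B] [Algebra R B] [Algebra A B] [IsScalarTower A R B]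
    (hB : Hens2.IsPairHenselization R (I.map (algebraMap A R)) B) (r : ℕ) :
    Nonempty (((A ⧸ I ^ r) ⊗[A] R) ≃ₐ[A ⧸ I ^ r] (B ⧸ (I ^ r).map (algebraMap A B))) := by
  have hpowR : (I.map (algebraMap A R)) ^ r = (I ^ r).map (algebraMap A R) := (Ideal.map_pow _ _ _).symm
  have hpowB : ((I.map (algebraMap A R)) ^ r).map (algebraMap R B) = (I ^ r).map (algebraMap A B) := by
    rw [hpowR, Ideal.map_map, ← IsScalarTower.algebraMap_eq]
  let g : R →ₐ[A] (B ⧸ (I ^ r).map (algebraMap A B)) :=
    (Ideal.Quotient.mkₐ A _).comp (IsScalarTower.toAlgHom A R B)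
  let f : ((A ⧸ I ^ r) ⊗[A] R) →ₐ[A ⧸ I ^ r] (B ⧸ (I ^ r).map (algebraMap A B)) :=
    Algebra.TensorProduct.lift (Algebra.ofId _ _) g (fun _ _ => Commute.all _ _)
  have hf1 : ∀ x : R, f (1 ⊗ₜ x) = Ideal.Quotient.mk _ (algebraMap R B x) := by
    intro x
    simp [f, g]
  refine ⟨AlgEquiv.ofBijective f ⟨?_, ?_⟩⟩
  · rw [injective_iff_map_eq_zero]
    intro z hz
    obtain ⟨x, rfl⟩ := Groth.Agent.S0534.exists_one_tmul (I ^ r) z
    rw [hf1, Ideal.Quotient.eq_zero_iff_mem, ← hpowB] at hz
    have hx := Groth.Agent.S1958.mem_pow_of_algebraMap_mem R (I.map (algebraMap A R)) B hB r x hz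
    rw [hpowR] at hx
    rw [Groth.Agent.S0534.one_tmul_eq_zero_iff, Ideal.smul_top_eq_map]
    exact hx
  · intro y
    obtain ⟨b, rfl⟩ := Ideal.Quotient.mk_surjective y
    obtain ⟨x, hx⟩ := Groth.Agent.S1958.exists_sub_mem_pow R (I.map (algebraMap A R)) B hB r b
    rw [hpowB] at hx
    refine ⟨1 ⊗ₜ x, ?_⟩
    rw [hf1]
    symm
    rw [Ideal.Quotient.eq]
    exact hx

/-- With converse part: let (A, I) be a Henselian pair, R an étale A-algebra and B a Henselization of
the pair (R, IR), with the induced A-algebra structure (so A → B is h-étale). Then B is flat over A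
and A/I^r → B/I^rB is étale for every r ≥ 1. -/
theorem result (A : Type u) [CommRing A] (I : Ideal A) [HenselianRing A I]
    (R : Type u) [CommRing R] [Algebra A R] [Algebra.Etale A R]
    (B : Type u) [CommRing B] [Algebra R B] [Algebra A B] [IsScalarTower A R B]
    (hB : Hens2.IsPairHenselization R (I.map (algebraMap A R)) B) :
    Module.Flat A B ∧ ∀ r : ℕ, 1 ≤ r → Algebra.Etale (A ⧸ I ^ r) (B ⧸ (I ^ r).map (algebraMap A B)) := by
  refine ⟨?_, fun r _ => ?_⟩
  · haveI : Module.Flat R B := (Groth.Agent.S1958.result R (I.map (algebraMap A R)) B hB).1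
    exact Module.Flat.trans A R B
  · obtain ⟨e⟩ := exists_equiv A I R B hB r
    exact Algebra.Etale.of_equiv e

end Groth.Agent.S17602
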