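import Groth.Statements.S17604
import Groth.Agent.Lib.helper3.PairEtale
import Groth.Agent.Lib.lead.HenselLift
import Groth.Agent.Lib.lead.PairHzQuot
-- import your own Groth.Agent.* helpers here

set_option autoImplicit false
universe u
open Hensel

namespace Groth.Agent.S17604

open TensorProduct

/-- Let (A, I) be a Henselian pair, R and R' étale A-algebras, and B, B' Henselizations of the pairs (R,
IR), (R', IR') with their induced A-algebra structures (so B and B' are h-étale over A). Then
reduction modulo I is a bijection from A-algebra maps B → B' to A-algebra maps B/IB → B'/IB': two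
A-algebra maps B → B' that agree modulo IB' are equal, and every A-algebra map B/IB → B'/IB' is
induced by an A-algebra map B → B'. -/
theorem result (A : Type u) [CommRing A]
    (I : Ideal A) [HenselianRing A I]
    (R : Type u) [CommRing R] [Algebra A R] [Algebra.Etale A R]
    (B : Type u) [CommRing B] [Algebra R B] [Algebra A B] [IsScalarTower A R B]
    (hB : Hens2.IsPairHenselization R (I.map (algebraMap A R)) B)
    (R' : Type u) [CommRing R'] [Algebra A R'] [Algebra.Etale A R']
    (B' : Type u) [CommRing B'] [Algebra R' B'] [Algebra A B'] [IsScalarTower A R' B']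
    (hB' : Hens2.IsPairHenselization R' (I.map (algebraMap A R')) B') :
    (∀ φ ψ : B →ₐ[A] B', (∀ b : B, φ b - ψ b ∈ I.map (algebraMap A B')) → φ = ψ) ∧
    ∀ χ : (B ⧸ I.map (algebraMap A B)) →ₐ[A] (B' ⧸ I.map (algebraMap A B')),
      ∃ φ : B →ₐ[A] B', ∀ b : B,
        Ideal.Quotient.mk (I.map (algebraMap A B')) (φ b) = χ (Ideal.Quotient.mk (I.map (algebraMap A B)) b) := by
  classical
  obtain ⟨J', hJ'def⟩ : ∃ J' : Ideal B', J' = I.map (algebraMap A B') := ⟨_, rfl⟩
  obtain ⟨J, hJdef⟩ : ∃ J : Ideal B, J = I.map (algebraMap A B) := ⟨_, rfl⟩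
  have hmapB' : (I.map (algebraMap A R')).map (algebraMap R' B') = J' := by
    rw [Ideal.map_map, ← IsScalarTower.algebraMap_eq, hJ'def]
  have hmapB : (I.map (algebraMap A R)).map (algebraMap R B) = J := by
    rw [Ideal.map_map, ← IsScalarTower.algebraMap_eq, hJdef]
  have hHens' : HenselianRing B' J' := by rw [← hmapB']; exact hB'.1
  have hJ'jac : J' ≤ Ideal.jacobson ⊥ := hHens'.jac
  rw [← hJ'def, ← hJdef]
  -- an `A`-algebra map `g : R → B'` sends `IR` into `J'`
  have hle : ∀ g : R →ₐ[A] B', (I.map (algebraMap A R)).map g.toRingHom ≤ J' := by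
    intro g
    rw [Ideal.map_map, hJ'def]
    have : g.toRingHom.comp (algebraMap A R) = algebraMap A B' := by
      ext a; exact g.commutes a
    rw [this]
  constructor
  · intro φ ψ h
    have h1 : φ.comp (IsScalarTower.toAlgHom A R B) = ψ.comp (IsScalarTower.toAlgHom A R B) := by
      apply Groth.Agent.Lib.lead.HenselLocal.unramified_algHom_ext_of_le_jacobson J' hJ'jac
      intro r
      exact h _
    obtain ⟨k, -, hku⟩ := hB.2 B' J' (φ.comp (IsScalarTower.toAlgHom A R B)).toRingHom hHens'
      (hle _)
    have e1 : φ.toRingHom = k := hku _ (by ext r; rfl)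
    have e2 : ψ.toRingHom = k := hku _ (by
      ext r
      exact (AlgHom.congr_fun h1 r).symm)
    ext b
    exact RingHom.congr_fun (e1.trans e2.symm) b
  · intro χ
    let σ₀ : R →ₐ[A] B' ⧸ J' :=
      (χ.comp (Ideal.Quotient.mkₐ A J)).comp (IsScalarTower.toAlgHom A R B)
    let σ : B' ⊗[A] R →ₐ[B'] B' ⧸ J' :=
      Algebra.TensorProduct.lift (Algebra.ofId B' (B' ⧸ J')) σ₀ (fun _ _ => Commute.all _ _)
    obtain ⟨τ, hτ⟩ := Groth.Agent.Lib.helper3.PairEtale.exists_lift B' J' (B' ⊗[A] R) σ
    let g : R →ₐ[A] B' := (τ.restrictScalars A).comp Algebra.TensorProduct.includeRight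
    have hg : ∀ r : R, Ideal.Quotient.mk J' (g r) = σ₀ r := by
      intro r
      have := AlgHom.congr_fun hτ (1 ⊗ₜ r)
      simp only [AlgHom.comp_apply, Ideal.Quotient.mkₐ_eq_mk] at this
      change Ideal.Quotient.mk J' (τ (1 ⊗ₜ r)) = _
      rw [this]
      simp only [σ, Algebra.TensorProduct.lift_tmul, map_one, one_mul]
    obtain ⟨k, hk, -⟩ := hB.2 B' J' g.toRingHom hHens' (hle g)
    have hkalg : ∀ a : A, k (algebraMap A B a) = algebraMap A B' a := by
      intro a
      rw [IsScalarTower.algebraMap_apply A R B]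
      have := RingHom.congr_fun hk (algebraMap A R a)
      simp only [RingHom.comp_apply] at this
      rw [this]
      exact g.commutes a
    let φ : B →ₐ[A] B' := { k with commutes' := hkalg }
    have hφJ : ∀ x ∈ J, φ x ∈ J' := by
      intro x hx
      have : J.map φ.toRingHom ≤ J' := by
        rw [hJdef, Ideal.map_map, hJ'def]
        have : φ.toRingHom.comp (algebraMap A B) = algebraMap A B' := by
          ext a; exact φ.commutes a
        rw [this]
      exact this (Ideal.mem_map_of_mem _ hx)
    refine ⟨φ, fun b => ?_⟩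
    obtain ⟨r, hr⟩ := Groth.Agent.Lib.lead.PairHzQuot.exists_sub_mem hB b
    rw [hmapB] at hr
    have e1 : Ideal.Quotient.mk J b = Ideal.Quotient.mk J (algebraMap R B r) := by
      rw [← sub_eq_zero, ← map_sub, Ideal.Quotient.eq_zero_iff_mem]; exact hr
    have e2 : Ideal.Quotient.mk J' (φ b) = Ideal.Quotient.mk J' (φ (algebraMap R B r)) := by
      rw [← sub_eq_zero, ← map_sub, ← map_sub, Ideal.Quotient.eq_zero_iff_mem]
      exact hφJ _ hr
    rw [e1, e2]
    have e3 : φ (algebraMap R B r) = g r := RingHom.congr_fun hk r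
    rw [e3, hg]
    rfl

end Groth.Agent.S17604
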