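import Groth.Statements.S17605
import Mathlib
-- import your own Groth.Agent.* helpers here

set_option autoImplicit false
universe u
open Hensel

namespace Groth.Agent.S17605

/-- Let A be a ring with an ideal I and let f₁, f₂ be elements of A such that D(f₂) ∩ V(I) ⊆ D(f₁) ∩
V(I) in Spec A. If H₁ is a Henselization of the pair (A_{f₁}, IA_{f₁}) and H₂ a Henselization of the
pair (A_{f₂}, IA_{f₂}), with their induced A-algebra structures, then there is exactly one A-algebra
map H₁ → H₂. -/
theorem result (A : Type u) [CommRing A]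
    (I : Ideal A) (f₁ f₂ : A)
    (h : (PrimeSpectrum.basicOpen f₂ : Set (PrimeSpectrum A)) ∩ PrimeSpectrum.zeroLocus (I : Set A) ⊆
      (PrimeSpectrum.basicOpen f₁ : Set (PrimeSpectrum A)) ∩ PrimeSpectrum.zeroLocus (I : Set A))
    (H₁ : Type u) [CommRing H₁] [Algebra (Localization.Away f₁) H₁] [Algebra A H₁]
    [IsScalarTower A (Localization.Away f₁) H₁]
    (hH₁ : Hens2.IsPairHenselization (Localization.Away f₁)
      (I.map (algebraMap A (Localization.Away f₁))) H₁)
    (H₂ : Type u) [CommRing H₂] [Algebra (Localization.Away f₂) H₂] [Algebra A H₂]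
    [IsScalarTower A (Localization.Away f₂) H₂]
    (hH₂ : Hens2.IsPairHenselization (Localization.Away f₂)
      (I.map (algebraMap A (Localization.Away f₂))) H₂) :
    Nonempty (H₁ →ₐ[A] H₂) ∧ Subsingleton (H₁ →ₐ[A] H₂) := by
  classical
  have hJ : (I.map (algebraMap A (Localization.Away f₂))).map (algebraMap (Localization.Away f₂) H₂) =
      I.map (algebraMap A H₂) := by
    rw [Ideal.map_map, ← IsScalarTower.algebraMap_eq]
  have hhens : HenselianRing H₂ (I.map (algebraMap A H₂)) := hJ ▸ hH₂.1
  -- f₂ is a unit in H₂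
  have hu2 : IsUnit (algebraMap A H₂ f₂) := by
    rw [IsScalarTower.algebraMap_apply A (Localization.Away f₂) H₂]
    exact (IsLocalization.Away.algebraMap_isUnit f₂).map _
  -- f₁ is a unit in H₂
  have hu1 : IsUnit (algebraMap A H₂ f₁) := by
    by_contra hnu
    obtain ⟨P, hP, hfP⟩ := exists_max_ideal_of_mem_nonunits (mem_nonunits_iff.mpr hnu)
    have hJP : I.map (algebraMap A H₂) ≤ P := by
      refine le_trans hhens.jac ?_
      exact sInf_le ⟨bot_le, hP⟩
    haveI := hP.isPrime
    let p : PrimeSpectrum A := ⟨P.comap (algebraMap A H₂), inferInstance⟩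
    have hp : p ∈ (PrimeSpectrum.basicOpen f₂ : Set (PrimeSpectrum A)) ∩
        PrimeSpectrum.zeroLocus (I : Set A) := by
      constructor
      · change f₂ ∉ P.comap (algebraMap A H₂)
        intro hmem
        exact hP.ne_top (Ideal.eq_top_of_isUnit_mem _ hmem hu2)
      · intro a ha
        change algebraMap A H₂ a ∈ P
        exact hJP (Ideal.mem_map_of_mem _ ha)
    have := (h hp).1
    exact this hfP
  -- the map from the localization
  let g₀ : Localization.Away f₁ →+* H₂ := IsLocalization.Away.lift f₁ hu1
  have hg₀ : g₀.comp (algebraMap A (Localization.Away f₁)) = algebraMap A H₂ :=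
    IsLocalization.Away.lift_comp f₁ hu1
  have hle : (I.map (algebraMap A (Localization.Away f₁))).map g₀ ≤ I.map (algebraMap A H₂) := by
    rw [Ideal.map_map, hg₀]
  obtain ⟨g, hg, huniq⟩ := hH₁.2 H₂ (I.map (algebraMap A H₂)) g₀ hhens hle
  refine ⟨⟨{ g with commutes' := fun a => ?_ }⟩, ⟨fun φ ψ => ?_⟩⟩
  · change g (algebraMap A H₁ a) = algebraMap A H₂ a
    rw [IsScalarTower.algebraMap_apply A (Localization.Away f₁) H₁, ← hg₀]
    exact congrArg (fun t => t (algebraMap A (Localization.Away f₁) a)) hg
  · have key : ∀ χ : H₁ →ₐ[A] H₂, χ.toRingHom = g := by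
      intro χ
      apply huniq
      apply IsLocalization.ringHom_ext (Submonoid.powers f₁)
      ext a
      change χ (algebraMap (Localization.Away f₁) H₁ (algebraMap A (Localization.Away f₁) a)) =
        g₀ (algebraMap A (Localization.Away f₁) a)
      rw [← IsScalarTower.algebraMap_apply A (Localization.Away f₁) H₁, χ.commutes]
      exact (congrArg (fun t => t a) hg₀).symm
    apply AlgHom.coe_ringHom_injective
    exact (key φ).trans (key ψ).symm

end Groth.Agent.S17605
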