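import Groth.Statements.S17607
import Groth.Agent.Lib.helper3.PairHzn8
import Groth.Agent.S19568
-- import your own Groth.Agent.* helpers here

set_option autoImplicit false
universe u
open Hensel

namespace Groth.Agent.S17607

open Groth.Agent.Lib.helper3.PairHzn

theorem forward (A : Type u) [CommRing A] (I : Ideal A) (B : Type u) [CommRing B] [Algebra A B]
    (n : ℕ) (P : Type u) [CommRing P] [Algebra (MvPolynomial (Fin n) A) P] [Algebra A P]
    [IsScalarTower A (MvPolynomial (Fin n) A) P]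
    (hP : Hens2.IsPairHenselization (MvPolynomial (Fin n) A)
          (I.map (algebraMap A (MvPolynomial (Fin n) A))) P)
    (φ : P →ₐ[A] B) (hφ : Function.Surjective φ) (hker : (RingHom.ker φ).FG) :
    ∃ (R : Type u) (_ : CommRing R) (_ : Algebra A R) (_ : Algebra R B) (_ : IsScalarTower A R B),
      Algebra.FinitePresentation A R ∧ Hens2.IsPairHenselization R (I.map (algebraMap A R)) B := by
  classical
  obtain ⟨F, hF⟩ := hker
  obtain ⟨C, _, _, _, χ, hχ, ψ, hψ⟩ := exists_common_nbhd (MvPolynomial (Fin n) A)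
    (I.map (algebraMap A (MvPolynomial (Fin n) A))) P hP F
  let cf : F → C := fun x => (hψ x x.2).choose
  have hcf : ∀ x : F, ψ (cf x) = x := fun x => (hψ x x.2).choose_spec
  let 𝔠 : Ideal C := Ideal.span (Set.range cf)
  have h𝔠fg : 𝔠.FG := Submodule.fg_span (Set.finite_range cf)
  letI algCP : Algebra C P := ψ.toRingHom.toAlgebra
  haveI towerSCP : IsScalarTower (MvPolynomial (Fin n) A) C P :=
    IsScalarTower.of_algebraMap_eq (fun s => (ψ.commutes s).symm)
  have h𝔠map : 𝔠.map (algebraMap C P) = RingHom.ker φ := by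
    change 𝔠.map ψ.toRingHom = _
    rw [Ideal.map_span, ← hF]
    congr 1
    ext y
    constructor
    · rintro ⟨c, ⟨x, rfl⟩, rfl⟩
      change ψ (cf x) ∈ _
      rw [hcf]; exact x.2
    · intro hy
      exact ⟨cf ⟨y, hy⟩, ⟨⟨y, hy⟩, rfl⟩, hcf ⟨y, hy⟩⟩
  have hP' := Groth.Agent.S19568.isPairHenselization_of_nbhd (MvPolynomial (Fin n) A)
    (I.map (algebraMap A (MvPolynomial (Fin n) A))) P hP C χ hχ
  have hq := isPairHenselization_quot C _ P hP' 𝔠
  letI algAC : Algebra A C :=
    ((algebraMap (MvPolynomial (Fin n) A) C).comp (algebraMap A (MvPolynomial (Fin n) A))).toAlgebra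
  haveI towerASC : IsScalarTower A (MvPolynomial (Fin n) A) C :=
    IsScalarTower.of_algebraMap_eq (fun _ => rfl)
  haveI fpAC : Algebra.FinitePresentation A C :=
    Algebra.FinitePresentation.trans A (MvPolynomial (Fin n) A) C
  haveI fpAR : Algebra.FinitePresentation A (C ⧸ 𝔠) := Algebra.FinitePresentation.quotient h𝔠fg
  let e₁ : (P ⧸ 𝔠.map (algebraMap C P)) ≃+* (P ⧸ RingHom.ker φ.toRingHom) :=
    Ideal.quotEquivOfEq h𝔠map
  let e₂ : (P ⧸ RingHom.ker φ.toRingHom) ≃+* B := RingHom.quotientKerEquivOfSurjective hφ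
  let e : (P ⧸ 𝔠.map (algebraMap C P)) ≃+* B := e₁.trans e₂
  have he : ∀ p : P, e (Ideal.Quotient.mk _ p) = φ p := by
    intro p
    change e₂ (e₁ (Ideal.Quotient.mk _ p)) = _
    rw [Ideal.quotEquivOfEq_mk]
    exact RingHom.quotientKerEquivOfSurjective_apply_mk hφ p
  letI algRB : Algebra (C ⧸ 𝔠) B :=
    ((e : (P ⧸ 𝔠.map (algebraMap C P)) →+* B).comp
      (algebraMap (C ⧸ 𝔠) (P ⧸ 𝔠.map (algebraMap C P)))).toAlgebra
  have hAB : ∀ a : A, algebraMap A B a = algebraMap (C ⧸ 𝔠) B (algebraMap A (C ⧸ 𝔠) a) := by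
    intro a
    change _ = e ((algebraMap (C ⧸ 𝔠) (P ⧸ 𝔠.map (algebraMap C P)))
      (Ideal.Quotient.mk 𝔠 (algebraMap A C a)))
    have h1 : (algebraMap (C ⧸ 𝔠) (P ⧸ 𝔠.map (algebraMap C P)))
        (Ideal.Quotient.mk 𝔠 (algebraMap A C a)) =
        Ideal.Quotient.mk _ (algebraMap C P (algebraMap A C a)) := rfl
    rw [h1, he]
    have h2 : algebraMap C P (algebraMap A C a) = algebraMap A P a := by
      change ψ (algebraMap (MvPolynomial (Fin n) A) C (algebraMap A (MvPolynomial (Fin n) A) a)) = _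
      rw [ψ.commutes, ← IsScalarTower.algebraMap_apply]
    rw [h2, φ.commutes]
  haveI towerARB : IsScalarTower A (C ⧸ 𝔠) B := IsScalarTower.of_algebraMap_eq hAB
  refine ⟨C ⧸ 𝔠, inferInstance, inferInstance, algRB, towerARB, fpAR, ?_⟩
  let eₐ : (P ⧸ 𝔠.map (algebraMap C P)) ≃ₐ[C ⧸ 𝔠] B := { e with commutes' := fun r => rfl }
  have := Groth.Agent.Lib.lead.PairHz.isPairHenselization_of_algEquiv hq eₐ
  have hI : ((I.map (algebraMap A (MvPolynomial (Fin n) A))).map
      (algebraMap (MvPolynomial (Fin n) A) C)).map (Ideal.Quotient.mk 𝔠) =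
      I.map (algebraMap A (C ⧸ 𝔠)) := by
    rw [Ideal.map_map, Ideal.map_map]
    rfl
  rwa [hI] at this

theorem backward (A : Type u) [CommRing A] (I : Ideal A) (B : Type u) [CommRing B] [Algebra A B]
    (R : Type u) [CommRing R] [Algebra A R] [Algebra R B] [IsScalarTower A R B]
    [Algebra.FinitePresentation A R]
    (hB : Hens2.IsPairHenselization R (I.map (algebraMap A R)) B) :
    ∃ (n : ℕ) (P : Type u) (_ : CommRing P) (_ : Algebra (MvPolynomial (Fin n) A) P) (_ : Algebra A P)
        (_ : IsScalarTower A (MvPolynomial (Fin n) A) P),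
        Hens2.IsPairHenselization (MvPolynomial (Fin n) A)
          (I.map (algebraMap A (MvPolynomial (Fin n) A))) P ∧
        ∃ φ : P →ₐ[A] B, Function.Surjective φ ∧ (RingHom.ker φ).FG := by
  classical
  obtain ⟨n, f, hf, hkerfg⟩ := Algebra.FinitePresentation.out (R := A) (A := R)
  set J : Ideal (MvPolynomial (Fin n) A) := I.map (algebraMap A (MvPolynomial (Fin n) A)) with hJ
  let P := Hzn (MvPolynomial (Fin n) A) J
  letI algAP : Algebra A P :=
    ((algebraMap (MvPolynomial (Fin n) A) P).comp (algebraMap A (MvPolynomial (Fin n) A))).toAlgebra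
  haveI towerP : IsScalarTower A (MvPolynomial (Fin n) A) P :=
    IsScalarTower.of_algebraMap_eq (fun _ => rfl)
  have hP : Hens2.IsPairHenselization (MvPolynomial (Fin n) A) J P := isPairHenselization
  set 𝔠 : Ideal (MvPolynomial (Fin n) A) := RingHom.ker f.toRingHom with h𝔠
  have hq := isPairHenselization_quot (MvPolynomial (Fin n) A) J P hP 𝔠
  let ε : (MvPolynomial (Fin n) A ⧸ 𝔠) ≃+* R :=
    (Ideal.quotientKerAlgEquivOfSurjective hf).toRingEquiv
  have hε : ∀ s, ε (Ideal.Quotient.mk 𝔠 s) = f s := fun s => rfl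
  letI algSB : Algebra (MvPolynomial (Fin n) A ⧸ 𝔠) B :=
    ((algebraMap R B).comp (ε : (MvPolynomial (Fin n) A ⧸ 𝔠) →+* R)).toAlgebra
  have hJmap : (J.map (Ideal.Quotient.mk 𝔠)).map (ε : (MvPolynomial (Fin n) A ⧸ 𝔠) →+* R) =
      I.map (algebraMap A R) := by
    rw [hJ, Ideal.map_map, Ideal.map_map]
    congr 1
    ext a
    change ε (Ideal.Quotient.mk 𝔠 (algebraMap A (MvPolynomial (Fin n) A) a)) = _
    rw [hε, f.commutes]
  have hB' : Hens2.IsPairHenselization (MvPolynomial (Fin n) A ⧸ 𝔠) (J.map (Ideal.Quotient.mk 𝔠)) B :=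
    isPairHenselization_of_ringEquiv_base ε _ _ hJmap B rfl hB
  obtain ⟨e⟩ := Groth.Agent.Lib.lead.PairHz.algEquiv_of_isPairHenselization hq hB'
  let φr : P →+* B := (e : (P ⧸ 𝔠.map (algebraMap (MvPolynomial (Fin n) A) P)) →+* B).comp
    (Ideal.Quotient.mk _)
  have hφr : ∀ a : A, φr (algebraMap A P a) = algebraMap A B a := by
    intro a
    change e (Ideal.Quotient.mk _ (algebraMap (MvPolynomial (Fin n) A) P
      (algebraMap A (MvPolynomial (Fin n) A) a))) = _
    have h1 : Ideal.Quotient.mk (𝔠.map (algebraMap (MvPolynomial (Fin n) A) P))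
        (algebraMap (MvPolynomial (Fin n) A) P (algebraMap A (MvPolynomial (Fin n) A) a)) =
        algebraMap (MvPolynomial (Fin n) A ⧸ 𝔠) (P ⧸ 𝔠.map (algebraMap (MvPolynomial (Fin n) A) P))
          (Ideal.Quotient.mk 𝔠 (algebraMap A (MvPolynomial (Fin n) A) a)) := rfl
    rw [h1, e.commutes]
    change algebraMap R B (ε (Ideal.Quotient.mk 𝔠 (algebraMap A (MvPolynomial (Fin n) A) a))) = _
    rw [hε, f.commutes, ← IsScalarTower.algebraMap_apply]
  let φ : P →ₐ[A] B := { φr with commutes' := hφr }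
  refine ⟨n, P, inferInstance, inferInstance, algAP, towerP, hP, φ, ?_, ?_⟩
  · intro b
    obtain ⟨y, hy⟩ := e.surjective b
    obtain ⟨p, rfl⟩ := Ideal.Quotient.mk_surjective y
    exact ⟨p, hy⟩
  · have hk : RingHom.ker φ = 𝔠.map (algebraMap (MvPolynomial (Fin n) A) P) := by
      ext p
      rw [RingHom.mem_ker]
      change e (Ideal.Quotient.mk _ p) = 0 ↔ _
      rw [map_eq_zero_iff e e.injective, Ideal.Quotient.eq_zero_iff_mem]
    rw [hk]
    exact hkerfg.map _

/-- Let (A, I) and (B, IB) be Henselian pairs with B an A-algebra. Then the following are equivalent: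
(i) A → B is Henselian finitely presented, i.e. there are n, a Henselization P of the pair
(A[X₁,…,Xₙ], I·A[X₁,…,Xₙ]) (a Henselized polynomial ring) and a surjective A-algebra map P → B with
finitely generated kernel; (ii) there are a finitely presented A-algebra R and an R-algebra
structure on B compatible with that of A for which B is a Henselization of the pair (R, IR). -/
theorem result (A : Type u) [CommRing A] (I : Ideal A)
    [HenselianRing A I] (B : Type u) [CommRing B] [Algebra A B]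
    [HenselianRing B (I.map (algebraMap A B))] :
    (∃ (n : ℕ) (P : Type u) (_ : CommRing P) (_ : Algebra (MvPolynomial (Fin n) A) P) (_ : Algebra A P)
        (_ : IsScalarTower A (MvPolynomial (Fin n) A) P),
        Hens2.IsPairHenselization (MvPolynomial (Fin n) A)
          (I.map (algebraMap A (MvPolynomial (Fin n) A))) P ∧
        ∃ φ : P →ₐ[A] B, Function.Surjective φ ∧ (RingHom.ker φ).FG) ↔
    ∃ (R : Type u) (_ : CommRing R) (_ : Algebra A R) (_ : Algebra R B) (_ : IsScalarTower A R B),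
      Algebra.FinitePresentation A R ∧ Hens2.IsPairHenselization R (I.map (algebraMap A R)) B := by
  constructor
  · rintro ⟨n, P, _, _, _, _, hP, φ, hφ, hker⟩
    exact forward A I B n P hP φ hφ hker
  · rintro ⟨R, _, _, _, _, hfp, hB⟩
    exact backward A I B R hB

end Groth.Agent.S17607
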