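import Groth.Statements.S17608
import Groth.Agent.Lib.helper3.PairHzn11
-- import your own Groth.Agent.* helpers here

set_option autoImplicit false
universe u
open Hensel

namespace Groth.Agent.S17608

open TensorProduct Groth.Agent.Lib.helper3.PairHzn

/-- Let (A, I) be a Henselian pair, let B be a Henselization of the pair (R, IR) for a finitely
presented A-algebra R, and let C be a Henselization of the pair (S, IS) for a finitely presented
B-algebra S, all algebra structures being compatible (so A → B and B → C are Henselian finitely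
presented maps of Henselian pairs). Then the composite A → C is Henselian finitely presented: there
are a finitely presented A-algebra T and a T-algebra structure on C compatible with that of A for
which C is a Henselization of the pair (T, IT). -/
theorem result (A : Type u) [CommRing A] (I : Ideal A) [HenselianRing A I]
    (R : Type u) [CommRing R] [Algebra A R] [Algebra.FinitePresentation A R]
    (B : Type u) [CommRing B] [Algebra R B] [Algebra A B] [IsScalarTower A R B]
    (hB : Hens2.IsPairHenselization R (I.map (algebraMap A R)) B)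
    (S : Type u) [CommRing S] [Algebra B S] [Algebra A S] [IsScalarTower A B S] [Algebra.FinitePresentation B S]
    (C : Type u) [CommRing C] [Algebra S C] [Algebra B C] [Algebra A C] [IsScalarTower B S C]
    [IsScalarTower A B C]
    (hC : Hens2.IsPairHenselization S (I.map (algebraMap A S)) C) :
    ∃ (T : Type u) (_ : CommRing T) (_ : Algebra A T) (_ : Algebra T C) (_ : IsScalarTower A T C),
      Algebra.FinitePresentation A T ∧ Hens2.IsPairHenselization T (I.map (algebraMap A T)) C := by
  classical
  obtain ⟨m, πS, hπS, G, hG⟩ := Algebra.FinitePresentation.out (R := B) (A := S)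
  let F : Finset B := G.biUnion (fun g => g.coeffs)
  obtain ⟨C₀, _, _, _, χ₀, hχ₀, ψ₀, hψ₀⟩ :=
    exists_common_nbhd R (I.map (algebraMap A R)) B hB F
  letI algC₀B : Algebra C₀ B := ψ₀.toRingHom.toAlgebra
  haveI towerRC₀B : IsScalarTower R C₀ B :=
    IsScalarTower.of_algebraMap_eq (fun r => (ψ₀.commutes r).symm)
  have hB₀ := Groth.Agent.S19568.isPairHenselization_of_nbhd R (I.map (algebraMap A R)) B hB C₀ χ₀ hχ₀
  have hlift : ∀ g ∈ G, ∃ g' : MvPolynomial (Fin m) C₀, MvPolynomial.map (algebraMap C₀ B) g' = g := by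
    intro g hg
    have : g ∈ Set.range (MvPolynomial.map (algebraMap C₀ B)) := by
      rw [MvPolynomial.mem_range_map_iff_coeffs_subset]
      intro x hx
      have hxF : x ∈ F := Finset.mem_biUnion.mpr ⟨g, hg, hx⟩
      obtain ⟨c, hc⟩ := hψ₀ x hxF
      exact ⟨c, hc⟩
    exact this
  let lift : G → MvPolynomial (Fin m) C₀ := fun g => (hlift g.1 g.2).choose
  have hliftspec : ∀ g : G, MvPolynomial.map (algebraMap C₀ B) (lift g) = g.1 :=
    fun g => (hlift g.1 g.2).choose_spec
  let G' : Finset (MvPolynomial (Fin m) C₀) := Finset.univ.image lift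
  have himage : (fun g => MvPolynomial.map (algebraMap C₀ B) g) '' (G' : Set (MvPolynomial (Fin m) C₀)) =
      (G : Set (MvPolynomial (Fin m) B)) := by
    ext y
    constructor
    · rintro ⟨g', hg', rfl⟩
      obtain ⟨g, -, rfl⟩ := Finset.mem_image.mp hg'
      change MvPolynomial.map (algebraMap C₀ B) (lift g) ∈ _
      rw [hliftspec]
      exact g.2
    · intro hy
      exact ⟨lift ⟨y, hy⟩, Finset.mem_image_of_mem _ (Finset.mem_univ _), hliftspec ⟨y, hy⟩⟩
  have hker : RingHom.ker πS.toRingHom = Ideal.span
      ((fun g => MvPolynomial.map (algebraMap C₀ B) g) '' (G' : Set (MvPolynomial (Fin m) C₀))) := by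
    rw [himage, hG]
  have hKS : I.map (algebraMap A S) = ((I.map (algebraMap A R)).map (algebraMap R C₀)).map
      ((algebraMap B S).comp (algebraMap C₀ B)) := by
    rw [Ideal.map_map, Ideal.map_map]
    congr 1
    ext a
    change algebraMap A S a = algebraMap B S (algebraMap C₀ B (algebraMap R C₀ (algebraMap A R a)))
    rw [← IsScalarTower.algebraMap_apply R C₀ B, ← IsScalarTower.algebraMap_apply A R B,
      ← IsScalarTower.algebraMap_apply A B S]
  obtain ⟨τ, hτ, hT⟩ := isPairHenselization_descend C₀ ((I.map (algebraMap A R)).map (algebraMap R C₀))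
    B hB₀ m G' S πS hπS hker C (I.map (algebraMap A S)) hKS hC
  letI algTC : Algebra (MvPolynomial (Fin m) C₀ ⧸ Ideal.span (G' : Set (MvPolynomial (Fin m) C₀))) C :=
    ((algebraMap S C).comp τ).toAlgebra
  letI algAC₀ : Algebra A C₀ := ((algebraMap R C₀).comp (algebraMap A R)).toAlgebra
  haveI towerARC₀ : IsScalarTower A R C₀ := IsScalarTower.of_algebraMap_eq (fun _ => rfl)
  have htower : ∀ a : A, algebraMap A C a = algebraMap
      (MvPolynomial (Fin m) C₀ ⧸ Ideal.span (G' : Set (MvPolynomial (Fin m) C₀))) C
      (algebraMap A (MvPolynomial (Fin m) C₀ ⧸ Ideal.span (G' : Set (MvPolynomial (Fin m) C₀))) a) := by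
    intro a
    change _ = algebraMap S C (τ (Ideal.Quotient.mk _ (MvPolynomial.C (algebraMap A C₀ a))))
    rw [hτ, MvPolynomial.map_C, ← MvPolynomial.algebraMap_eq, πS.commutes]
    have h1 : algebraMap C₀ B (algebraMap A C₀ a) = algebraMap A B a := by
      change algebraMap C₀ B (algebraMap R C₀ (algebraMap A R a)) = _
      rw [← IsScalarTower.algebraMap_apply R C₀ B, ← IsScalarTower.algebraMap_apply A R B]
    rw [h1, ← IsScalarTower.algebraMap_apply B S C, ← IsScalarTower.algebraMap_apply A B C]
  haveI towerATC : IsScalarTower A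
      (MvPolynomial (Fin m) C₀ ⧸ Ideal.span (G' : Set (MvPolynomial (Fin m) C₀))) C :=
    IsScalarTower.of_algebraMap_eq htower
  have hfg : (Ideal.span (G' : Set (MvPolynomial (Fin m) C₀))).FG := ⟨G', rfl⟩
  haveI fpC₀T : Algebra.FinitePresentation C₀
      (MvPolynomial (Fin m) C₀ ⧸ Ideal.span (G' : Set (MvPolynomial (Fin m) C₀))) :=
    Algebra.FinitePresentation.quotient hfg
  haveI fpAC₀ : Algebra.FinitePresentation A C₀ := Algebra.FinitePresentation.trans A R C₀
  haveI fpAT : Algebra.FinitePresentation A
      (MvPolynomial (Fin m) C₀ ⧸ Ideal.span (G' : Set (MvPolynomial (Fin m) C₀))) :=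
    Algebra.FinitePresentation.trans A C₀ _
  refine ⟨MvPolynomial (Fin m) C₀ ⧸ Ideal.span (G' : Set (MvPolynomial (Fin m) C₀)), inferInstance,
    inferInstance, algTC, towerATC, fpAT, ?_⟩
  have hid : I.map (algebraMap A (MvPolynomial (Fin m) C₀ ⧸ Ideal.span (G' : Set (MvPolynomial (Fin m) C₀)))) =
      ((I.map (algebraMap A R)).map (algebraMap R C₀)).map
        (algebraMap C₀ (MvPolynomial (Fin m) C₀ ⧸ Ideal.span (G' : Set (MvPolynomial (Fin m) C₀)))) := by
    rw [Ideal.map_map, Ideal.map_map, RingHom.comp_assoc, ← IsScalarTower.algebraMap_eq A R C₀,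
      ← IsScalarTower.algebraMap_eq A C₀]
  rw [hid]
  exact hT

end Groth.Agent.S17608
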