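import Groth.Statements.S17609
import Groth.Agent.Lib.helper3.PairHzn10
-- import your own Groth.Agent.* helpers here

set_option autoImplicit false
universe u
open Hensel

namespace Groth.Agent.S17609

open TensorProduct Groth.Agent.Lib.helper3.PairHzn

/-- Let (A, I) be a Henselian pair and let B, C be Henselizations of the pairs (R, IR), (S, IS) for
finitely presented A-algebras R and S, with their induced A-algebra structures (so A → B and A → C
are Henselian finitely presented). Then every A-algebra map B → C (encoded as a B-algebra structure
on C compatible with that of A) is Henselian finitely presented: there are a finitely presented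
B-algebra T and a T-algebra structure on C compatible with that of B for which C is a Henselization
of the pair (T, IBT). -/
theorem result (A : Type u) [CommRing A] (I : Ideal A) [HenselianRing A I]
    (R : Type u) [CommRing R] [Algebra A R] [Algebra.FinitePresentation A R]
    (B : Type u) [CommRing B] [Algebra R B] [Algebra A B] [IsScalarTower A R B]
    (hB : Hens2.IsPairHenselization R (I.map (algebraMap A R)) B)
    (S : Type u) [CommRing S] [Algebra A S] [Algebra.FinitePresentation A S]
    (C : Type u) [CommRing C] [Algebra S C] [Algebra A C] [IsScalarTower A S C]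
    (hC : Hens2.IsPairHenselization S (I.map (algebraMap A S)) C)
    [Algebra B C] [IsScalarTower A B C] :
    ∃ (T : Type u) (_ : CommRing T) (_ : Algebra B T) (_ : Algebra T C) (_ : IsScalarTower B T C),
      Algebra.FinitePresentation B T ∧
      Hens2.IsPairHenselization T ((I.map (algebraMap A B)).map (algebraMap B T)) C := by
  classical
  let θ : R →ₐ[A] C := (IsScalarTower.toAlgHom A B C).comp (IsScalarTower.toAlgHom A R B)
  obtain ⟨S', _, _, _, χ, hχ, algAS', towerASS', ψ, ρ, hψρ⟩ :=
    fp_factor A S (I.map (algebraMap A S)) C hC R θ
  letI algS'C : Algebra S' C := ψ.toRingHom.toAlgebra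
  haveI towerSS'C : IsScalarTower S S' C :=
    IsScalarTower.of_algebraMap_eq (fun s => (ψ.commutes s).symm)
  have hC' := Groth.Agent.S19568.isPairHenselization_of_nbhd S (I.map (algebraMap A S)) C hC S' χ hχ
  letI algRS' : Algebra R S' := ρ.toRingHom.toAlgebra
  haveI towerARS' : IsScalarTower A R S' :=
    IsScalarTower.of_algebraMap_eq (fun a => (ρ.commutes a).symm)
  letI algRC : Algebra R C := ((algebraMap B C).comp (algebraMap R B)).toAlgebra
  haveI towerRBC : IsScalarTower R B C := IsScalarTower.of_algebraMap_eq (fun _ => rfl)
  haveI towerRS'C : IsScalarTower R S' C :=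
    IsScalarTower.of_algebraMap_eq (fun r => (hψρ r).symm)
  have hideal : (I.map (algebraMap A R)).map (algebraMap R S') =
      (I.map (algebraMap A S)).map (algebraMap S S') := by
    rw [Ideal.map_map, Ideal.map_map, ← IsScalarTower.algebraMap_eq, ← IsScalarTower.algebraMap_eq]
  have hC'' : Hens2.IsPairHenselization S' ((I.map (algebraMap A R)).map (algebraMap R S')) C := by
    rw [hideal]; exact hC'
  letI algTC : Algebra (B ⊗[R] S') C :=
    (Algebra.TensorProduct.lift (IsScalarTower.toAlgHom R B C) (IsScalarTower.toAlgHom R S' C)
      (fun _ _ => Commute.all _ _)).toRingHom.toAlgebra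
  have hμ : ∀ (b : B) (s : S'),
      algebraMap (B ⊗[R] S') C (b ⊗ₜ s) = algebraMap B C b * algebraMap S' C s := by
    intro b s
    change (Algebra.TensorProduct.lift (IsScalarTower.toAlgHom R B C) (IsScalarTower.toAlgHom R S' C)
      (fun _ _ => Commute.all _ _)) (b ⊗ₜ s) = _
    rw [Algebra.TensorProduct.lift_tmul]
    rfl
  haveI towerBTC : IsScalarTower B (B ⊗[R] S') C := IsScalarTower.of_algebraMap_eq (fun b => by
    rw [Algebra.TensorProduct.algebraMap_apply, Algebra.algebraMap_self, RingHom.id_apply, hμ,
      map_one, mul_one])
  haveI fpAS' : Algebra.FinitePresentation A S' := Algebra.FinitePresentation.trans A S S'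
  haveI fpRS' : Algebra.FinitePresentation R S' :=
    Algebra.FinitePresentation.of_restrict_scalars_finitePresentation A R S'
  have hfinal := isPairHenselization_baseChange R (I.map (algebraMap A R)) B hB S' C hC'' hμ
  refine ⟨B ⊗[R] S', inferInstance, inferInstance, algTC, towerBTC, inferInstance, ?_⟩
  have hid : (I.map (algebraMap A B)).map (algebraMap B (B ⊗[R] S')) =
      (I.map (algebraMap A R)).map (algebraMap R (B ⊗[R] S')) := by
    rw [Ideal.map_map, Ideal.map_map]
    congr 1
    ext a
    change algebraMap B (B ⊗[R] S') (algebraMap A B a) = algebraMap R (B ⊗[R] S') (algebraMap A R a)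
    rw [Algebra.TensorProduct.algebraMap_apply, Algebra.TensorProduct.algebraMap_apply,
      Algebra.algebraMap_self, RingHom.id_apply, ← IsScalarTower.algebraMap_apply A R B]
  rw [hid]
  exact hfinal

end Groth.Agent.S17609
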