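import Groth.Statements.S17610
import Groth.Agent.Lib.helper3.FormalQuot
import Groth.Agent.S17602
-- import your own Groth.Agent.* helpers here

set_option autoImplicit false
universe u
open Hensel

namespace Groth.Agent.S17610

open TensorProduct

theorem map_quot_eq_bot {A : Type u} [CommRing A] (K : Ideal A) (E : Type u) [CommRing E]
    [Algebra A E] (hE : K.map (algebraMap A E) = ⊥) (L : Ideal E) :
    K.map (algebraMap A (E ⧸ L)) = ⊥ := by
  rw [IsScalarTower.algebraMap_eq A E (E ⧸ L), ← Ideal.map_map, hE, Ideal.map_bot]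

theorem finitePresentation_quot (A : Type u) [CommRing A] (I : Ideal A)
    (R₀ : Type u) [CommRing R₀] [Algebra A R₀] [Algebra.FinitePresentation A R₀]
    (B : Type u) [CommRing B] [Algebra R₀ B] [Algebra A B] [IsScalarTower A R₀ B]
    (hB : Hens2.IsPairHenselization R₀ (I.map (algebraMap A R₀)) B) (r : ℕ) :
    Algebra.FinitePresentation (A ⧸ I ^ r) (B ⧸ (I ^ r).map (algebraMap A B)) := by
  obtain ⟨e⟩ := Groth.Agent.S17602.exists_equiv A I R₀ B hB r
  exact Algebra.FinitePresentation.equiv e

/-- Let (A, I) be a Henselian pair and let B be a Henselization of the pair (R₀, IR₀) for a finitely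
presented A-algebra R₀ (so A → B is a Henselian finitely presented map of Henselian pairs). Then A →
B is h-formally étale, meaning that for all A-algebras E and C annihilated by some power I^N (N ≥
1), every surjective A-algebra map p : E → C with nilpotent kernel and every A-algebra map u : B →
C, there is exactly one A-algebra map v : B → E with p ∘ v = u, if and only if A/I^r → B/I^rB is
étale for every r ≥ 1. (Test algebras E, C are taken in the universe of A.) -/
theorem result (A : Type u) [CommRing A] (I : Ideal A)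
    [HenselianRing A I] (R₀ : Type u) [CommRing R₀] [Algebra A R₀] [Algebra.FinitePresentation A R₀]
    (B : Type u) [CommRing B] [Algebra R₀ B] [Algebra A B] [IsScalarTower A R₀ B]
    (hB : Hens2.IsPairHenselization R₀ (I.map (algebraMap A R₀)) B) :
    (∀ (E C : Type u) [CommRing E] [CommRing C] [Algebra A E] [Algebra A C] (N : ℕ), 1 ≤ N →
        (I ^ N).map (algebraMap A E) = ⊥ → (I ^ N).map (algebraMap A C) = ⊥ →
        ∀ (p : E →ₐ[A] C), Function.Surjective p → (∃ M : ℕ, 1 ≤ M ∧ RingHom.ker p ^ M = ⊥) →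
        ∀ u : B →ₐ[A] C, ∃! v : B →ₐ[A] E, p.comp v = u) ↔
    ∀ r : ℕ, 1 ≤ r → Algebra.Etale (A ⧸ I ^ r) (B ⧸ (I ^ r).map (algebraMap A B)) := by
  constructor
  · intro H r hr
    have hk : ∀ (E : Type u) [CommRing E] [Algebra A E] (L : Ideal E), L ^ 2 = ⊥ →
        ∃ M : ℕ, 1 ≤ M ∧ RingHom.ker (Ideal.Quotient.mkₐ A L) ^ M = ⊥ := by
      intro E _ _ L hL
      refine ⟨2, by norm_num, ?_⟩
      have hkk : RingHom.ker (Ideal.Quotient.mkₐ A L) = L := by
        ext x
        rw [RingHom.mem_ker, Ideal.Quotient.mkₐ_eq_mk, Ideal.Quotient.eq_zero_iff_mem]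
      rw [hkk, hL]
    haveI fs : Algebra.FormallySmooth (A ⧸ I ^ r) (B ⧸ (I ^ r).map (algebraMap A B)) := by
      apply Groth.Agent.Lib.helper3.FormalQuot.formallySmooth_of_lift
      intro E _ _ hE L hL u
      obtain ⟨v, hv, -⟩ := H E (E ⧸ L) r hr hE (map_quot_eq_bot _ E hE L)
        (Ideal.Quotient.mkₐ A L) (Ideal.Quotient.mkₐ_surjective A L) (hk E L hL) u
      exact ⟨v, hv⟩
    haveI fu : Algebra.FormallyUnramified (A ⧸ I ^ r) (B ⧸ (I ^ r).map (algebraMap A B)) := by
      apply Groth.Agent.Lib.helper3.FormalQuot.formallyUnramified_of_unique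
      intro E _ _ hE L hL v₁ v₂ h
      obtain ⟨v, -, hvu⟩ := H E (E ⧸ L) r hr hE (map_quot_eq_bot _ E hE L)
        (Ideal.Quotient.mkₐ A L) (Ideal.Quotient.mkₐ_surjective A L) (hk E L hL)
        ((Ideal.Quotient.mkₐ A L).comp v₁)
      rw [hvu v₁ rfl, hvu v₂ h.symm]
    haveI fe : Algebra.FormallyEtale (A ⧸ I ^ r) (B ⧸ (I ^ r).map (algebraMap A B)) :=
      Algebra.FormallyEtale.of_formallyUnramified_and_formallySmooth
    haveI fp := finitePresentation_quot A I R₀ B hB r
    exact { formallyEtale := fe, finitePresentation := fp }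
  · intro het E C _ _ _ _ N hN hE hC p hp hM u
    haveI := het N hN
    obtain ⟨M, -, hker⟩ := hM
    have hnil : IsNilpotent (RingHom.ker p) := ⟨M, hker⟩
    obtain ⟨v, hv⟩ := Groth.Agent.Lib.helper3.FormalQuot.exists_lift_of_formallySmooth (I ^ N) B E C
      hE hC p hp hnil u
    refine ⟨v, hv, fun v' hv' => ?_⟩
    exact Groth.Agent.Lib.helper3.FormalQuot.lift_unique_of_formallyUnramified (I ^ N) B E C
      hE hC p hnil v' v (hv'.trans hv.symm)

end Groth.Agent.S17610
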