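import Groth.Statements.S17613
import Groth.Agent.Lib.lead.FPColim
import Groth.Agent.Lib.lead.PairColimConst
-- import your own Groth.Agent.* helpers here

set_option autoImplicit false
universe u
open Hensel

namespace Groth.Agent.S17613

/-- Let (A, I) be a Henselian pair and let B be a Henselization of the pair (R₀, IR₀) for a finitely
presented A-algebra R₀ (so A → B is Henselian finitely presented). Let (R_a) be a directed system of
A-algebras with A-compatible transition maps such that each (R_a, IR_a) is a Henselian pair, and let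
L be its direct limit with the induced A-algebra structure. Then the canonical map from the colimit
of the Hom_A(B, R_a) to Hom_A(B, L) is bijective: every A-algebra map B → L factors through some
R_a, and two A-algebra maps B → R_a whose composites with R_a → L agree become equal after passing
to some R_b. (Index set in the universe of the rings.) -/
theorem result (A : Type u) [CommRing A] (I : Ideal A)
    [HenselianRing A I] (R₀ : Type u) [CommRing R₀] [Algebra A R₀] [Algebra.FinitePresentation A R₀]
    (B : Type u) [CommRing B] [Algebra R₀ B] [Algebra A B] [IsScalarTower A R₀ B]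
    (hB : Hens2.IsPairHenselization R₀ (I.map (algebraMap A R₀)) B)
    {κ : Type u} [Preorder κ] [IsDirectedOrder κ] [Nonempty κ]
    (Ra : κ → Type u) [∀ a, CommRing (Ra a)] [∀ a, Algebra A (Ra a)]
    [∀ a, HenselianRing (Ra a) (I.map (algebraMap A (Ra a)))]
    (t : ∀ a b : κ, a ≤ b → (Ra a →+* Ra b)) [DirectedSystem Ra (fun a b h => t a b h)]
    (ht : ∀ (a b : κ) (h : a ≤ b), (t a b h).comp (algebraMap A (Ra a)) = algebraMap A (Ra b))
    [Algebra A (DirectLimit Ra t)]
    (halg : ∀ (a : κ) (x : A), algebraMap A (DirectLimit Ra t) x =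
      DirectLimit.Ring.of Ra t a (algebraMap A (Ra a) x)) :
    (∀ χ : B →ₐ[A] DirectLimit Ra t, ∃ (a : κ) (φ : B →ₐ[A] Ra a),
        ∀ x : B, DirectLimit.Ring.of Ra t a (φ x) = χ x) ∧
    ∀ (a : κ) (φ ψ : B →ₐ[A] Ra a),
      (∀ x : B, DirectLimit.Ring.of Ra t a (φ x) = DirectLimit.Ring.of Ra t a (ψ x)) →
      ∃ (b : κ) (h : a ≤ b), ∀ x : B, t a b h (φ x) = t a b h (ψ x) := by
  classical
  have hL : HenselianRing (DirectLimit Ra t) (I.map (algebraMap A (DirectLimit Ra t))) :=
    Groth.Agent.Lib.lead.PairColimConst.henselian_colim A I Ra t ht halg (fun i => inferInstance)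
  -- compatibility of ideals
  have hle : ∀ (C : Type u) [CommRing C] [Algebra A C] (ρ : R₀ →ₐ[A] C),
      (I.map (algebraMap A R₀)).map ρ.toRingHom ≤ I.map (algebraMap A C) := by
    intro C _ _ ρ
    rw [Ideal.map_map]
    have : ρ.toRingHom.comp (algebraMap A R₀) = algebraMap A C := ρ.comp_algebraMap
    rw [this]
  -- uniqueness of extensions
  have huniq : ∀ (C : Type u) [CommRing C] [Algebra A C],
      HenselianRing C (I.map (algebraMap A C)) → ∀ (ρ : R₀ →ₐ[A] C) (y₁ y₂ : B →+* C),
      y₁.comp (algebraMap R₀ B) = ρ.toRingHom → y₂.comp (algebraMap R₀ B) = ρ.toRingHom →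
      y₁ = y₂ := by
    intro C _ _ hC ρ y₁ y₂ h1 h2
    obtain ⟨g0, -, hu⟩ := hB.2 C (I.map (algebraMap A C)) ρ.toRingHom hC (hle C ρ)
    rw [hu y₁ h1, hu y₂ h2]
  refine ⟨?_, ?_⟩
  · intro χ
    obtain ⟨a, φ₀, hφ₀⟩ := Groth.Agent.Lib.lead.FPColim.exists_factor A Ra t ht halg R₀
      (χ.comp (IsScalarTower.toAlgHom A R₀ B))
    obtain ⟨gB, hgB, -⟩ := hB.2 (Ra a) (I.map (algebraMap A (Ra a))) φ₀.toRingHom inferInstance
      (hle (Ra a) φ₀)
    have hcomm : ∀ r : A, gB (algebraMap A B r) = algebraMap A (Ra a) r := by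
      intro r
      rw [IsScalarTower.algebraMap_apply A R₀ B]
      have := RingHom.congr_fun hgB (algebraMap A R₀ r)
      simp only [RingHom.comp_apply] at this
      rw [this]
      exact φ₀.commutes r
    refine ⟨a, { gB with commutes' := hcomm }, fun x => ?_⟩
    change ((DirectLimit.Ring.of Ra t a).comp gB) x = χ.toRingHom x
    have h1 : ((DirectLimit.Ring.of Ra t a).comp gB).comp (algebraMap R₀ B) =
        (χ.comp (IsScalarTower.toAlgHom A R₀ B)).toRingHom := by
      ext r
      have := RingHom.congr_fun hgB r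
      simp only [RingHom.comp_apply] at this ⊢
      rw [this]
      exact hφ₀ r
    have h2 : χ.toRingHom.comp (algebraMap R₀ B) =
        (χ.comp (IsScalarTower.toAlgHom A R₀ B)).toRingHom := by
      ext r; rfl
    rw [huniq (DirectLimit Ra t) hL (χ.comp (IsScalarTower.toAlgHom A R₀ B)) _ _ h1 h2]
  · intro a φ ψ h
    obtain ⟨b, hab, hb⟩ := Groth.Agent.Lib.lead.FPColim.exists_eq A Ra t ht R₀ a
      (φ.comp (IsScalarTower.toAlgHom A R₀ B)) (ψ.comp (IsScalarTower.toAlgHom A R₀ B))
      (fun x => h _)
    refine ⟨b, hab, fun x => ?_⟩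
    have h1 : ((t a b hab).comp φ.toRingHom).comp (algebraMap R₀ B) =
        ((Groth.Agent.Lib.lead.FPColim.gA A Ra t ht a b hab).comp
          (φ.comp (IsScalarTower.toAlgHom A R₀ B))).toRingHom := by
      ext r; rfl
    have h2 : ((t a b hab).comp ψ.toRingHom).comp (algebraMap R₀ B) =
        ((Groth.Agent.Lib.lead.FPColim.gA A Ra t ht a b hab).comp
          (φ.comp (IsScalarTower.toAlgHom A R₀ B))).toRingHom := by
      ext r
      exact (hb r).symm
    have := huniq (Ra b) inferInstance _ _ _ h1 h2
    exact RingHom.congr_fun this x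

end Groth.Agent.S17613
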