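import Groth.Statements.S17616
import Mathlib
import Groth.Agent.Lib.helper3.OpenNbhd
-- import your own Groth.Agent.* helpers here

set_option autoImplicit false
universe u
open Hensel

namespace Groth.Agent.S17616

/-- Let P be a property of ring maps (between rings in a fixed universe), and say that f : B → B' has P
at a prime q of B' if the composite B → B' → B'_g has P for some g ∉ q. Assume (i) for every
finitely presented f : B → B' the set of primes of B' at which f has P is ind-constructible in Spec
B', and f has P as soon as it has P at every prime; (ii) every étale ring map has P; (iii) for g : C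
→ C' and h : C' → C'', if h has P at a prime q of C'' and g has P at the inverse image of q in C',
then h ∘ g has P at q. Now suppose (A, I) is a Henselian pair, and take an A-algebra R of finite
presentation for which A → R has P at each prime of R that contains IR. Then there is an étale
R-algebra R' with R/IR → R'/IR' bijective such that A → R' has P. -/
theorem result
    (P : ∀ ⦃B B' : Type u⦄ [CommRing B] [CommRing B'], (B →+* B') → Prop)
    (PAt : ∀ ⦃B B' : Type u⦄ [CommRing B] [CommRing B'], (B →+* B') → Ideal B' → Prop)
    (hPAt : ∀ ⦃B B' : Type u⦄ [CommRing B] [CommRing B'] (f : B →+* B') (q : Ideal B'),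
      PAt f q ↔ ∃ g : B', g ∉ q ∧ P ((algebraMap B' (Localization.Away g)).comp f))
    (h₁ : ∀ ⦃B B' : Type u⦄ [CommRing B] [CommRing B'] (f : B →+* B'), f.FinitePresentation →
      ProCons.IsIndConstructible {q : PrimeSpectrum B' | PAt f q.asIdeal} ∧
        ((∀ q : PrimeSpectrum B', PAt f q.asIdeal) → P f))
    (h₂ : ∀ ⦃B B' : Type u⦄ [CommRing B] [CommRing B'] (f : B →+* B'), f.Etale → P f)
    (h₃ : ∀ ⦃C C' C'' : Type u⦄ [CommRing C] [CommRing C'] [CommRing C''] (g : C →+* C')
      (h : C' →+* C'') (q : Ideal C'') [q.IsPrime],
      PAt h q → PAt g (q.comap h) → PAt (h.comp g) q)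
    (A : Type u) [CommRing A] (I : Ideal A) [HenselianRing A I]
    (R : Type u) [CommRing R] [Algebra A R] [Algebra.FinitePresentation A R]
    (hR : ∀ (p : Ideal R) [p.IsPrime], I.map (algebraMap A R) ≤ p → PAt (algebraMap A R) p) :
    ∃ (R' : Type u) (_ : CommRing R') (_ : Algebra R R') (_ : Algebra A R') (_ : IsScalarTower A R R'),
      Algebra.Etale R R' ∧
      Function.Bijective (Ideal.quotientMap ((I.map (algebraMap A R)).map (algebraMap R R'))
        (algebraMap R R') Ideal.le_comap_map) ∧ P (algebraMap A R') := by
  let U : Set (PrimeSpectrum R) := {q | PAt (algebraMap A R) q.asIdeal}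
  have hUeq : U = ⋃ g ∈ {g : R | P ((algebraMap R (Localization.Away g)).comp (algebraMap A R))},
      (PrimeSpectrum.basicOpen g : Set (PrimeSpectrum R)) := by
    ext q
    simp only [U, Set.mem_setOf_eq, hPAt, Set.mem_iUnion, SetLike.mem_coe,
      PrimeSpectrum.mem_basicOpen, exists_prop]
    exact ⟨fun ⟨g, hg, hP⟩ => ⟨g, hP, hg⟩, fun ⟨g, hP, hg⟩ => ⟨g, hg, hP⟩⟩
  have hU : IsOpen U := by
    rw [hUeq]
    exact isOpen_biUnion fun r _ => (PrimeSpectrum.basicOpen r).isOpen
  obtain ⟨g, hg, hgU⟩ := Groth.Agent.Lib.helper3.OpenNbhd.exists_basicOpen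
    (I.map (algebraMap A R)) U hU (by
      intro p hp
      rw [PrimeSpectrum.mem_zeroLocus] at hp
      exact hR p.asIdeal hp)
  have het : Algebra.Etale R (Localization.Away g) := Algebra.Etale.of_isLocalizationAway g
  refine ⟨Localization.Away g, inferInstance, inferInstance, inferInstance, inferInstance,
    het, Groth.Agent.Lib.helper3.OpenNbhd.away_bijective _ g hg _, ?_⟩
  have hfp : (algebraMap A (Localization.Away g)).FinitePresentation := by
    rw [RingHom.finitePresentation_algebraMap]
    have : Algebra.FinitePresentation R (Localization.Away g) :=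
      IsLocalization.Away.finitePresentation g
    exact Algebra.FinitePresentation.trans A R _
  refine (h₁ _ hfp).2 fun q => ?_
  rw [IsScalarTower.algebraMap_eq A R (Localization.Away g)]
  refine h₃ (algebraMap A R) (algebraMap R (Localization.Away g)) q.asIdeal ?_ ?_
  · rw [hPAt]
    refine ⟨1, fun h1 => q.2.ne_top ((Ideal.eq_top_iff_one _).mpr h1), h₂ _ ?_⟩
    have h1 : (algebraMap R (Localization.Away g)).Etale := RingHom.etale_algebraMap.mpr het
    have h2 : (algebraMap (Localization.Away g) (Localization.Away (1 : Localization.Away g))).Etale :=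
      RingHom.etale_algebraMap.mpr (Algebra.Etale.of_isLocalizationAway 1)
    exact RingHom.Etale.stableUnderComposition _ _ h1 h2
  · have : (PrimeSpectrum.comap (algebraMap R (Localization.Away g)) q) ∈ U := by
      apply hgU
      simp only [SetLike.mem_coe, PrimeSpectrum.mem_basicOpen, PrimeSpectrum.comap_asIdeal,
        Ideal.mem_comap]
      intro hgq
      exact q.2.ne_top (Ideal.eq_top_of_isUnit_mem _ hgq (IsLocalization.Away.algebraMap_isUnit g))
    exact this

end Groth.Agent.S17616
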