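import Groth.Statements.S1994
import Mathlib
import Groth.Agent.Lib.helper3.PairHzn9
import Groth.Agent.Lib.helper3.AdicIso
import Groth.Agent.Lib.lead.PairHz
import Groth.Agent.Lib.lead.PairHzQuot
import Groth.Agent.S0543
-- import your own Groth.Agent.* helpers here

set_option autoImplicit false
universe u
open EtAlg

namespace Groth.Agent.S1994

open TensorProduct

/-- every henselization of a pair is flat -/
theorem flat_of_isPairHenselization (A : Type u) [CommRing A] (I : Ideal A)
    (B : Type u) [CommRing B] [Algebra A B] (hB : Hens2.IsPairHenselization A I B) :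
    Module.Flat A B := by
  obtain ⟨e⟩ := Groth.Agent.Lib.lead.PairHz.algEquiv_of_isPairHenselization
    (Groth.Agent.Lib.helper3.PairHzn.isPairHenselization (A := A) (I := I)) hB
  exact Module.Flat.of_linearEquiv e.toLinearEquiv.symm

/-- a henselian pair is its own henselization -/
theorem isPairHenselization_self (S : Type u) [CommRing S] (K : Ideal S) [hK : HenselianRing S K] :
    Hens2.IsPairHenselization S K S := by
  refine ⟨by rw [Algebra.algebraMap_self, Ideal.map_id]; exact hK, ?_⟩
  intro T _ J f _ _
  refine ⟨f, by ext; simp, ?_⟩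
  intro g hg
  ext x
  have := RingHom.congr_fun hg x
  simpa using this

/-- the completion of a Noetherian ring is faithfully flat over the henselization -/
theorem noetherian_of_isPairHenselization (A : Type u) [CommRing A] [IsNoetherianRing A]
    (I : Ideal A) (B : Type u) [CommRing B] [Algebra A B]
    (hB : Hens2.IsPairHenselization A I B) : IsNoetherianRing B := by
  have hfg : I.FG := IsNoetherian.noetherian I
  let Ah := AdicCompletion I A
  let K : Ideal Ah := I.map (algebraMap A Ah)
  haveI : IsAdicComplete K Ah := AdicCompletion.isAdicComplete_self I hfg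
  haveI hKh : HenselianRing Ah K := inferInstance
  haveI : IsNoetherianRing Ah := Groth.Agent.S0543.result A I
  obtain ⟨g, hg, -⟩ := hB.2 Ah K (algebraMap A Ah) hKh le_rfl
  letI : Algebra B Ah := g.toAlgebra
  haveI : IsScalarTower A B Ah := IsScalarTower.of_algebraMap_eq (fun a => (RingHom.congr_fun hg a).symm)
  have hself : Hens2.IsPairHenselization Ah (I.map (algebraMap A Ah)) Ah :=
    isPairHenselization_self Ah K
  let μ : B ⊗[A] Ah →ₐ[A] Ah :=
    Algebra.TensorProduct.productMap (IsScalarTower.toAlgHom A B Ah) (AlgHom.id A Ah)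
  letI : Algebra (B ⊗[A] Ah) Ah := μ.toRingHom.toAlgebra
  have hμ : ∀ (b : B) (s : Ah), algebraMap (B ⊗[A] Ah) Ah (b ⊗ₜ s) = algebraMap B Ah b * algebraMap Ah Ah s := by
    intro b s
    change μ (b ⊗ₜ s) = _
    simp [μ]
  have h1 := Groth.Agent.Lib.helper3.PairHzn.isPairHenselization_baseChange A I B hB Ah Ah hself hμ
  haveI hflat1 : Module.Flat (B ⊗[A] Ah) Ah := flat_of_isPairHenselization _ _ _ h1
  haveI : IsScalarTower B (B ⊗[A] Ah) Ah := by
    refine IsScalarTower.of_algebraMap_eq (R := B) (S := B ⊗[A] Ah) (A := Ah) (fun b => ?_)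
    have h0 : algebraMap B (B ⊗[A] Ah) b = b ⊗ₜ[A] (1 : Ah) := by
      rw [Algebra.TensorProduct.algebraMap_apply, Algebra.algebraMap_self, RingHom.id_apply]
    rw [h0, hμ, map_one, mul_one]
  haveI hflat2 : Module.Flat B (B ⊗[A] Ah) := inferInstance
  haveI hflat : Module.Flat B Ah := Module.Flat.trans B (B ⊗[A] Ah) Ah
  -- faithful flatness
  have hBjac : I.map (algebraMap A B) ≤ Ideal.jacobson ⊥ := hB.1.jac
  haveI : Module.FaithfullyFlat B Ah := by
    refine ⟨fun m hm htop => ?_⟩
    have hIm : I.map (algebraMap A B) ≤ m := by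
      refine hBjac.trans ?_
      rw [Ideal.jacobson]
      exact sInf_le ⟨bot_le, hm⟩
    -- `ρ : Ah → A/I` and its composite with `B → Ah`
    let ρ : Ah →ₐ[A] A ⧸ I := AdicCompletion.evalOneₐ I
    have h1mem : (1 : Ah) ∈ (m • ⊤ : Submodule B Ah) := by rw [htop]; trivial
    -- every element of `m • ⊤` maps under `ρ` into the image of `m`
    have key : ∀ x ∈ (m • ⊤ : Submodule B Ah), ∃ b ∈ m, ρ x = ρ (algebraMap B Ah b) := by
      intro x hx
      refine Submodule.smul_induction_on hx ?_ ?_
      · intro c hc y _
        obtain ⟨a, ha⟩ := Ideal.Quotient.mk_surjective (ρ y)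
        refine ⟨c * algebraMap A B a, m.mul_mem_right _ hc, ?_⟩
        rw [Algebra.smul_def, map_mul, map_mul, map_mul, ← IsScalarTower.algebraMap_apply,
          AlgHom.commutes, Ideal.Quotient.algebraMap_eq, ha]
      · rintro x y ⟨b, hb, hx⟩ ⟨b', hb', hy⟩
        exact ⟨b + b', m.add_mem hb hb', by rw [map_add, map_add, map_add, hx, hy]⟩
    obtain ⟨b, hbm, hb⟩ := key 1 h1mem
    -- `1 - b ∈ IB`
    obtain ⟨a, ha⟩ := Groth.Agent.Lib.lead.PairHzQuot.exists_sub_mem hB (1 - b)
    have hρI : ∀ z ∈ I.map (algebraMap A B), ρ (algebraMap B Ah z) = 0 := by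
      intro z hz
      have h2 : algebraMap B Ah z ∈ (I.map (algebraMap A B)).map (algebraMap B Ah) :=
        Ideal.mem_map_of_mem _ hz
      rw [Ideal.map_map, ← IsScalarTower.algebraMap_eq] at h2
      have h3 : ρ (algebraMap B Ah z) ∈ (I.map (algebraMap A Ah)).map ρ.toRingHom :=
        Ideal.mem_map_of_mem _ h2
      rw [Ideal.map_map] at h3
      have h4 : ρ.toRingHom.comp (algebraMap A Ah) = Ideal.Quotient.mk I := by
        ext a; exact ρ.commutes a
      rw [h4, Ideal.map_quotient_self, Ideal.mem_bot] at h3
      exact h3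
    have h5 : ρ (algebraMap B Ah (1 - b - algebraMap A B a)) = 0 := hρI _ ha
    simp only [map_sub, map_one] at h5
    rw [← hb, map_one, sub_self, zero_sub, neg_eq_zero,
      ← IsScalarTower.algebraMap_apply, AlgHom.commutes, Ideal.Quotient.algebraMap_eq,
      Ideal.Quotient.eq_zero_iff_mem] at h5
    have h6 : algebraMap A B a ∈ m := hIm (Ideal.mem_map_of_mem _ h5)
    have h7 : (1 : B) ∈ m := by
      have : (1 : B) = (1 - b - algebraMap A B a) + b + algebraMap A B a := by ring
      rw [this]
      exact m.add_mem (m.add_mem (hIm ha) hbm) h6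
    exact hm.ne_top ((Ideal.eq_top_iff_one _).mpr h7)
  have hN : IsNoetherian Ah (Ah ⊗[B] B) :=
    isNoetherian_of_linearEquiv (AlgebraTensorModule.rid B Ah Ah).symm
  exact Submodule.IsNoetherian.of_isNoetherian_tensorProduct_of_faithfullyFlat hN

/-- Let (A, I) be a pair with A Noetherian and B a henselization of the pair. Then B is Noetherian and
flat over A, and the induced map of adic completions, from the I-adic completion of A to the IB-adic
completion of B, is bijective. -/
theorem result (A : Type u) [CommRing A] [IsNoetherianRing A] (I : Ideal A)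
    (B : Type u) [CommRing B] [Algebra A B] (hB : Hens2.IsPairHenselization A I B) :
    IsNoetherianRing B ∧ Module.Flat A B ∧
      Function.Bijective (AdicCompletion.map I (Algebra.linearMap A B) :
        AdicCompletion I A → AdicCompletion I B) := by
  haveI hflat : Module.Flat A B := flat_of_isPairHenselization A I B hB
  refine ⟨noetherian_of_isPairHenselization A I B hB, hflat, ?_⟩
  apply Groth.Agent.Lib.helper3.AdicIso.map_bijective I (Algebra.linearMap A B)
  · intro y
    obtain ⟨a, ha⟩ := Groth.Agent.Lib.lead.PairHzQuot.exists_sub_mem hB y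
    refine ⟨a, ?_⟩
    rw [Ideal.smul_top_eq_map]
    exact ha
  · intro x hx
    rw [Ideal.smul_top_eq_map] at hx
    have := Groth.Agent.Lib.lead.PairHzQuot.mem_of_algebraMap_mem hB x hx
    rw [Ideal.smul_top_eq_map, Algebra.algebraMap_self, Ideal.map_id]
    exact this

end Groth.Agent.S1994
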