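import Groth.Statements.S17617
import Mathlib
import Groth.Agent.S1994
import Groth.Agent.Lib.helper3.PairHzn7
import Groth.Agent.Lib.lead.PairHzQuot
-- import your own Groth.Agent.* helpers here

set_option autoImplicit false
universe u
open Hensel

namespace Groth.Agent.S17617

open TensorProduct

/-- flat base change preserves exactness -/
theorem exact_baseChange_of_flat {A : Type u} [CommRing A] (H : Type u) [CommRing H] [Algebra A H]
    [Module.Flat A H] {M' M M'' : Type u} [AddCommGroup M'] [Module A M'] [AddCommGroup M]
    [Module A M] [AddCommGroup M''] [Module A M''] (f : M' →ₗ[A] M) (g : M →ₗ[A] M'')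
    (h : Function.Exact f g) : Function.Exact (f.baseChange H) (g.baseChange H) := by
  have := Module.Flat.lTensor_exact H h
  rw [LinearMap.baseChange_eq_ltensor, LinearMap.baseChange_eq_ltensor]
  exact this

/-- the henselization of a local ring along an ideal in the maximal ideal is faithfully flat -/
theorem faithfullyFlat_of_isPairHenselization (R : Type u) [CommRing R] [IsLocalRing R]
    (J : Ideal R) (hJ : J ≤ IsLocalRing.maximalIdeal R)
    (H : Type u) [CommRing H] [Algebra R H] (hH : Hens2.IsPairHenselization R J H) :
    Module.FaithfullyFlat R H := by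
  haveI : Module.Flat R H := Groth.Agent.S1994.flat_of_isPairHenselization R J H hH
  refine ⟨?_⟩
  intro m hm htop
  have hmm : m = IsLocalRing.maximalIdeal R := IsLocalRing.eq_maximalIdeal hm
  have hbot : HenselianRing (R ⧸ m) ⊥ :=
    { jac := bot_le
      is_henselian := fun f _ a₀ h₁ _ => ⟨a₀, by rwa [Ideal.mem_bot] at h₁, by simp⟩ }
  obtain ⟨g, hg, -⟩ := hH.2 (R ⧸ m) ⊥ (Ideal.Quotient.mk m) hbot (by
    rw [Ideal.map_le_iff_le_comap]
    intro x hx
    rw [Ideal.mem_comap, Ideal.mem_bot, Ideal.Quotient.eq_zero_iff_mem, hmm]
    exact hJ hx)
  have h1 : (1 : H) ∈ m.map (algebraMap R H) := by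
    have h0 : (1 : H) ∈ m • (⊤ : Submodule R H) := by rw [htop]; trivial
    refine Submodule.smul_induction_on h0 ?_ ?_
    · intro r hr n _
      rw [Algebra.smul_def]
      exact Ideal.mul_mem_right _ _ (Ideal.mem_map_of_mem _ hr)
    · intro x y hx hy
      exact Ideal.add_mem _ hx hy
  have h2 : g 1 ∈ (m.map (algebraMap R H)).map g := Ideal.mem_map_of_mem _ h1
  rw [Ideal.map_map, hg, Ideal.map_quotient_self, Ideal.mem_bot, map_one] at h2
  have h3 : (Ideal.Quotient.mk m) 1 = 0 := by rw [map_one]; exact h2
  rw [Ideal.Quotient.eq_zero_iff_mem] at h3
  exact hm.ne_top ((Ideal.eq_top_iff_one m).mpr h3)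

section tower
variable {A : Type u} [CommRing A] (B : Type u) [CommRing B] [Algebra A B]
  (H : Type u) [CommRing H] [Algebra B H] [Algebra A H] [IsScalarTower A B H]

/-- naturality of `cancelBaseChange` -/
theorem cancel_natural {M' M : Type u} [AddCommGroup M'] [Module A M'] [AddCommGroup M]
    [Module A M] (f : M' →ₗ[A] M) (x : H ⊗[B] (B ⊗[A] M')) :
    TensorProduct.AlgebraTensorModule.cancelBaseChange A B H H M
      (((f.baseChange B).baseChange H) x) =
    (f.baseChange H) (TensorProduct.AlgebraTensorModule.cancelBaseChange A B H H M' x) := by
  induction x using TensorProduct.induction_on with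
  | zero => simp
  | add x y hx hy => rw [map_add, map_add, hx, hy, map_add, map_add]
  | tmul h y =>
    induction y using TensorProduct.induction_on with
    | zero => simp
    | add x y hx hy => rw [TensorProduct.tmul_add, map_add, map_add, hx, hy, map_add, map_add]
    | tmul b m =>
      simp [TensorProduct.AlgebraTensorModule.cancelBaseChange_tmul]

theorem exact_tower {M' M M'' : Type u} [AddCommGroup M'] [Module A M'] [AddCommGroup M]
    [Module A M] [AddCommGroup M''] [Module A M''] (f : M' →ₗ[A] M) (g : M →ₗ[A] M'')
    (h : Function.Exact (f.baseChange H) (g.baseChange H)) :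
    Function.Exact ((f.baseChange B).baseChange H) ((g.baseChange B).baseChange H) := by
  intro y
  let e' := TensorProduct.AlgebraTensorModule.cancelBaseChange A B H H M'
  let e := TensorProduct.AlgebraTensorModule.cancelBaseChange A B H H M
  let e'' := TensorProduct.AlgebraTensorModule.cancelBaseChange A B H H M''
  constructor
  · intro hy
    have h1 : (g.baseChange H) (e y) = 0 := by
      rw [← cancel_natural B H g y, hy, map_zero]
    obtain ⟨x, hx⟩ := (h (e y)).mp h1
    refine ⟨e'.symm x, ?_⟩
    apply e.injective
    rw [cancel_natural B H f, LinearEquiv.apply_symm_apply, hx]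
  · rintro ⟨x, rfl⟩
    apply e''.injective
    rw [cancel_natural B H g, cancel_natural B H f, map_zero]
    exact (h _).mpr ⟨_, rfl⟩

end tower

/-- exactness can be checked after `A_P ⊗ -` for maximal `P` -/
theorem exact_of_baseChange_maximal {A : Type u} [CommRing A]
    {M' M M'' : Type u} [AddCommGroup M'] [Module A M'] [AddCommGroup M] [Module A M]
    [AddCommGroup M''] [Module A M''] (f : M' →ₗ[A] M) (g : M →ₗ[A] M'')
    (h : ∀ (P : Ideal A) [P.IsMaximal],
      Function.Exact (f.baseChange (Localization.AtPrime P)) (g.baseChange (Localization.AtPrime P))) :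
    Function.Exact f g := by
  refine exact_of_isLocalized_maximal
    (fun P _ => Localization.AtPrime P ⊗[A] M') (fun P _ => TensorProduct.mk A (Localization.AtPrime P) M' 1)
    (fun P _ => Localization.AtPrime P ⊗[A] M) (fun P _ => TensorProduct.mk A (Localization.AtPrime P) M 1)
    (fun P _ => Localization.AtPrime P ⊗[A] M'') (fun P _ => TensorProduct.mk A (Localization.AtPrime P) M'' 1)
    f g ?_
  intro P hP
  have e1 : IsLocalizedModule.map P.primeCompl (TensorProduct.mk A (Localization.AtPrime P) M' 1)
      (TensorProduct.mk A (Localization.AtPrime P) M 1) f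
      = (f.baseChange (Localization.AtPrime P)).restrictScalars A := by
    apply IsLocalizedModule.linearMap_ext P.primeCompl (TensorProduct.mk A (Localization.AtPrime P) M' 1)
      (TensorProduct.mk A (Localization.AtPrime P) M 1)
    ext m
    have := IsLocalizedModule.map_apply P.primeCompl (TensorProduct.mk A (Localization.AtPrime P) M' 1)
      (TensorProduct.mk A (Localization.AtPrime P) M 1) f m
    simpa using this
  have e2 : IsLocalizedModule.map P.primeCompl (TensorProduct.mk A (Localization.AtPrime P) M 1)
      (TensorProduct.mk A (Localization.AtPrime P) M'' 1) g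
      = (g.baseChange (Localization.AtPrime P)).restrictScalars A := by
    apply IsLocalizedModule.linearMap_ext P.primeCompl (TensorProduct.mk A (Localization.AtPrime P) M 1)
      (TensorProduct.mk A (Localization.AtPrime P) M'' 1)
    ext m
    have := IsLocalizedModule.map_apply P.primeCompl (TensorProduct.mk A (Localization.AtPrime P) M 1)
      (TensorProduct.mk A (Localization.AtPrime P) M'' 1) g m
    simpa using this
  rw [e1, e2]
  exact h P

/-- Let (A, I) be a Henselian pair and let M' → M → M'' be A-linear maps with zero composite. Then M' →
M → M'' is exact if and only if for every prime ideal p of A containing I and every Henselization H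
of the pair (A_p, IA_p), the sequence H ⊗_A M' → H ⊗_A M → H ⊗_A M'' is exact. (The modules H ⊗_A M
are the stalks at p of the sheaf associated to M on the affine Henselian scheme of (A, I), and
exactness of a sequence of such sheaves is exactness at every stalk, so this is the statement that
the sequence of modules is exact exactly when the associated sequence of sheaves is.) -/
theorem result (A : Type u) [CommRing A]
    (I : Ideal A) [HenselianRing A I]
    (M' M M'' : Type u) [AddCommGroup M'] [Module A M'] [AddCommGroup M] [Module A M]
    [AddCommGroup M''] [Module A M''] (f : M' →ₗ[A] M) (g : M →ₗ[A] M'') (hfg : g.comp f = 0) :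
    Function.Exact f g ↔
    ∀ (p : Ideal A) [p.IsPrime], I ≤ p →
      ∀ (H : Type u) [CommRing H] [Algebra (Localization.AtPrime p) H] [Algebra A H]
        [IsScalarTower A (Localization.AtPrime p) H],
        Hens2.IsPairHenselization (Localization.AtPrime p)
          (I.map (algebraMap A (Localization.AtPrime p))) H →
        Function.Exact (f.baseChange H) (g.baseChange H) := by
  constructor
  · intro hex p _ _ H _ _ _ _ hH
    haveI : Module.Flat (Localization.AtPrime p) H :=
      Groth.Agent.S1994.flat_of_isPairHenselization _ _ H hH
    haveI : Module.Flat A H := Module.Flat.trans A (Localization.AtPrime p) H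
    exact exact_baseChange_of_flat H f g hex
  · intro h
    apply exact_of_baseChange_maximal
    intro P hP
    have hIP : I ≤ P := by
      refine le_trans (HenselianRing.jac (R := A) (I := I)) ?_
      exact sInf_le ⟨bot_le, hP⟩
    let J : Ideal (Localization.AtPrime P) := I.map (algebraMap A (Localization.AtPrime P))
    let H := Groth.Agent.Lib.helper3.PairHzn.Hzn (Localization.AtPrime P) J
    letI : Algebra A H :=
      ((algebraMap (Localization.AtPrime P) H).comp (algebraMap A (Localization.AtPrime P))).toAlgebra
    haveI : IsScalarTower A (Localization.AtPrime P) H := IsScalarTower.of_algebraMap_eq (fun _ => rfl)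
    have hH : Hens2.IsPairHenselization (Localization.AtPrime P) J H :=
      Groth.Agent.Lib.helper3.PairHzn.isPairHenselization
    have hex := h P hIP H hH
    have hJ : J ≤ IsLocalRing.maximalIdeal (Localization.AtPrime P) := by
      rw [← Localization.AtPrime.map_eq_maximalIdeal]
      exact Ideal.map_mono hIP
    haveI : Module.FaithfullyFlat (Localization.AtPrime P) H :=
      faithfullyFlat_of_isPairHenselization _ J hJ H hH
    have h2 := exact_tower (Localization.AtPrime P) H f g hex
    rw [LinearMap.baseChange_eq_ltensor, LinearMap.baseChange_eq_ltensor] at h2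
    exact (Module.FaithfullyFlat.lTensor_exact_iff_exact (Localization.AtPrime P) H _ _).mp h2

end Groth.Agent.S17617
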