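import Groth.Statements.S17620
import Groth.Agent.Lib.lead.PairHzQuot
-- import your own Groth.Agent.* helpers here

set_option autoImplicit false
universe u
open Hensel

namespace Groth.Agent.S17620

/-- Let R be a local ring and J an ideal of R contained in the maximal ideal, let H be a Henselization
of the pair (R, J) which is a local ring with local structure map R → H, and let S be a strict
Henselization of the local ring H. Then S, with its composite R-algebra structure, is a strict
Henselization of the local ring R. (This is the identification of the strict Henselization of the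
local ring of a scheme at a point with that of the local ring of its Henselization along a closed
subscheme through the point.) -/
theorem result
    (R : Type u) [CommRing R] [IsLocalRing R] (J : Ideal R) (hJ : J ≤ IsLocalRing.maximalIdeal R)
    (H : Type u) [CommRing H] [IsLocalRing H] [Algebra R H] [IsLocalHom (algebraMap R H)]
    (hH : Hens2.IsPairHenselization R J H)
    (S : Type u) [CommRing S] [IsLocalRing S] [Algebra H S] [IsLocalHom (algebraMap H S)]
    [Hensel.IsStrictHenselization H S]
    [Algebra R S] [IsScalarTower R H S] [IsLocalHom (algebraMap R S)] :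
    Hensel.IsStrictHenselization R S := by
  have hJH : J.map (algebraMap R H) ≤ IsLocalRing.maximalIdeal H :=
    (Ideal.map_mono hJ).trans
      (((IsLocalRing.local_hom_TFAE (algebraMap R H)).out 0 2 rfl rfl).mp inferInstance)
  have key : ∀ x : H, ∃ r : R, x - algebraMap R H r ∈ J.map (algebraMap R H) :=
    Groth.Agent.Lib.lead.PairHzQuot.exists_sub_mem hH
  have hS := (inferInstance : Hensel.IsStrictHenselization H S)
  have hsurj : Function.Surjective (algebraMap (IsLocalRing.ResidueField R)
      (IsLocalRing.ResidueField H)) := by
    intro y
    obtain ⟨x, rfl⟩ := IsLocalRing.residue_surjective y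
    obtain ⟨r, hr⟩ := key x
    refine ⟨IsLocalRing.residue R r, ?_⟩
    rw [IsLocalRing.ResidueField.algebraMap_residue]
    symm
    rw [← sub_eq_zero, ← map_sub, IsLocalRing.residue_eq_zero_iff]
    exact hJH hr
  haveI hsc : IsSepClosure (IsLocalRing.ResidueField H) (IsLocalRing.ResidueField S) :=
    hS.isSepClosure
  haveI : IsSepClosed (IsLocalRing.ResidueField S) := hsc.sep_closed
  haveI : Algebra.IsSeparable (IsLocalRing.ResidueField H) (IsLocalRing.ResidueField S) :=
    hsc.separable
  haveI : Algebra.IsSeparable (IsLocalRing.ResidueField R) (IsLocalRing.ResidueField H) :=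
    ⟨fun y => by
      obtain ⟨x, rfl⟩ := hsurj y
      exact isSeparable_algebraMap x⟩
  refine { henselian := hS.henselian, isSepClosure := ?_, universal := ?_ }
  · exact { sep_closed := inferInstance
            separable := Algebra.IsSeparable.trans (IsLocalRing.ResidueField R)
              (IsLocalRing.ResidueField H) (IsLocalRing.ResidueField S) }
  · intro T _ _ f hf τ hτ
    have hJT : J.map f ≤ IsLocalRing.maximalIdeal T :=
      (Ideal.map_mono hJ).trans (((IsLocalRing.local_hom_TFAE f).out 0 2 rfl rfl).mp hf)
    obtain ⟨h, hh, hhu⟩ := hH.2 T (IsLocalRing.maximalIdeal T) f inferInstance hJT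
    have hmem : ∀ x : H, x ∈ IsLocalRing.maximalIdeal H → h x ∈ IsLocalRing.maximalIdeal T := by
      intro x hx
      obtain ⟨r, hr⟩ := key x
      have hrm : r ∈ IsLocalRing.maximalIdeal R := by
        by_contra hru
        have hu : IsUnit r := by
          by_contra hnu
          exact hru ((IsLocalRing.mem_maximalIdeal r).mpr hnu)
        have h1 : algebraMap R H r ∈ IsLocalRing.maximalIdeal H := by
          have : algebraMap R H r = x - (x - algebraMap R H r) := by ring
          rw [this]
          exact Ideal.sub_mem _ hx (hJH hr)
        exact (IsLocalRing.mem_maximalIdeal _).mp h1 (hu.map _)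
      have h2 : h x = f r + h (x - algebraMap R H r) := by
        rw [map_sub, ← RingHom.congr_fun hh r]
        simp
      rw [h2]
      refine Ideal.add_mem _ ?_ ?_
      · have : f r ∈ (IsLocalRing.maximalIdeal R).map f := Ideal.mem_map_of_mem _ hrm
        exact (((IsLocalRing.local_hom_TFAE f).out 0 2 rfl rfl).mp hf) this
      · have : h (x - algebraMap R H r) ∈ (J.map (algebraMap R H)).map h :=
          Ideal.mem_map_of_mem _ hr
        rw [Ideal.map_map, hh] at this
        exact hJT this
    haveI hloc : IsLocalHom h := by
      constructor
      intro x hx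
      by_contra hnu
      exact (IsLocalRing.mem_maximalIdeal _).mp (hmem x ((IsLocalRing.mem_maximalIdeal x).mpr hnu)) hx
    have hτ' : τ.comp (IsLocalRing.ResidueField.map (algebraMap H S)) =
        IsLocalRing.ResidueField.map h := by
      apply RingHom.ext
      intro y
      obtain ⟨x, rfl⟩ := IsLocalRing.residue_surjective y
      obtain ⟨r, hr⟩ := key x
      have e1 : IsLocalRing.residue H x = IsLocalRing.residue H (algebraMap R H r) := by
        rw [← sub_eq_zero, ← map_sub, IsLocalRing.residue_eq_zero_iff]
        exact hJH hr
      rw [e1]
      have e2 := RingHom.congr_fun hτ (IsLocalRing.residue R r)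
      simp only [RingHom.comp_apply, IsLocalRing.ResidueField.map_residue] at e2 ⊢
      rw [← IsScalarTower.algebraMap_apply R H S, e2, ← RingHom.congr_fun hh r]
      rfl
    obtain ⟨g, ⟨hg1, hg2⟩, hgu⟩ := hS.universal T h τ hτ'
    refine ⟨g, ⟨?_, hg2⟩, ?_⟩
    · rw [IsScalarTower.algebraMap_eq R H S, ← RingHom.comp_assoc, hg1, hh]
    · rintro g' ⟨hg'1, hg'2⟩
      apply hgu
      refine ⟨?_, hg'2⟩
      apply hhu
      change (g'.comp (algebraMap H S)).comp (algebraMap R H) = f
      rw [RingHom.comp_assoc, ← IsScalarTower.algebraMap_eq R H S, hg'1]

end Groth.Agent.S17620
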