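import Groth.Statements.S17635
import Mathlib

set_option autoImplicit false
open Finset
open Variety

namespace Groth.Agent.S17635



noncomputable def N {r : ℕ} (v : Fin r → ℚ) : ℝ := ‖(fun j => ((v j : ℚ) : ℝ))‖

noncomputable def Sg (n : ℕ) (a b : ℝ) : ℝ := (Finset.Icc 1 n).sum (fun q => a ^ (n - q) * b ^ q)

theorem Sg_nonneg {n : ℕ} {a b : ℝ} (ha : 0 ≤ a) (hb : 0 ≤ b) : 0 ≤ Sg n a b :=
  Finset.sum_nonneg (fun q _ => by positivity)

theorem Sg_mono {n : ℕ} {a b a' b' : ℝ} (ha : 0 ≤ a) (hb : 0 ≤ b) (haa' : a ≤ a') (hbb' : b ≤ b') :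
    Sg n a b ≤ Sg n a' b' := by
  apply Finset.sum_le_sum
  intro q _
  have ha' : 0 ≤ a' := ha.trans haa'
  have hb' : 0 ≤ b' := hb.trans hbb'
  gcongr

theorem Sg_mul (n : ℕ) (D a b : ℝ) : Sg n (D * a) (D * b) = D ^ n * Sg n a b := by
  rw [Sg, Sg, Finset.mul_sum]
  apply Finset.sum_congr rfl
  intro q hq
  have hq' : q ≤ n := (Finset.mem_Icc.mp hq).2
  have : D ^ n = D ^ (n - q) * D ^ q := by rw [← pow_add, Nat.sub_add_cancel hq']
  rw [mul_pow, mul_pow, this]
  ring

theorem N_nonneg {r : ℕ} (v : Fin r → ℚ) : 0 ≤ N v := norm_nonneg _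

theorem abs_le_N {r : ℕ} (v : Fin r → ℚ) (j : Fin r) : |((v j : ℚ) : ℝ)| ≤ N v := by
  have := norm_le_pi_norm (fun j => ((v j : ℚ) : ℝ)) j
  rwa [Real.norm_eq_abs] at this

theorem N_le_iff {r : ℕ} (v : Fin r → ℚ) {c : ℝ} (hc : 0 ≤ c) :
    N v ≤ c ↔ ∀ j, |((v j : ℚ) : ℝ)| ≤ c := by
  rw [N, pi_norm_le_iff_of_nonneg hc]
  simp only [Real.norm_eq_abs]

theorem N_smul {r : ℕ} (D : ℕ) (v : Fin r → ℚ) : N ((D : ℚ) • v) = D * N v := by
  have : (fun j => ((((D : ℚ) • v) j : ℚ) : ℝ)) = (D : ℝ) • (fun j => ((v j : ℚ) : ℝ)) := by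
    funext j
    simp
  rw [N, this, norm_smul, Real.norm_natCast]
  rfl

section main
variable (r n : ℕ) (f : (Fin r → ℚ) → ℝ)

/-- step A: changing one coordinate by an integer -/
theorem stepA
    (hdir : ∀ i : Fin r, ∃ Ci : ℝ, ∀ (v : Fin r → ℚ) (b : ℕ), 1 ≤ b →
      |f (v - (b : ℚ) • Pi.single i 1) - f v| ≤
        Ci * (Finset.Icc 1 n).sum (fun q => ‖(fun j => ((v j : ℚ) : ℝ))‖ ^ (n - q) * (b : ℝ) ^ q))
    (i : Fin r) : ∃ Ci : ℝ, 0 ≤ Ci ∧ ∀ (v : Fin r → ℚ) (z : ℤ),
      |f v - f (v - (z : ℚ) • Pi.single i 1)| ≤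
        Ci * Sg n (max (N v) (N (v - (z : ℚ) • Pi.single i 1))) |(z : ℝ)| := by
  obtain ⟨C0, hC0⟩ := hdir i
  refine ⟨|C0|, abs_nonneg _, ?_⟩
  intro v z
  have hmaxnn : 0 ≤ max (N v) (N (v - (z : ℚ) • Pi.single i 1)) :=
    le_max_of_le_left (N_nonneg v)
  rcases lt_trichotomy z 0 with hz | hz | hz
  · -- z < 0
    obtain ⟨b, hb⟩ : ∃ b : ℕ, (b : ℤ) = -z := ⟨(-z).toNat, Int.toNat_of_nonneg (by omega)⟩
    have hb1 : 1 ≤ b := by omega
    have hzb : (z : ℚ) = -(b : ℚ) := by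
      have : (z : ℤ) = -(b : ℤ) := by omega
      rw [this]; push_cast; ring
    have h1 := hC0 (v - (z : ℚ) • Pi.single i 1) b hb1
    have h2 : v - (z : ℚ) • Pi.single i 1 - (b : ℚ) • Pi.single i 1 = v := by
      rw [hzb]; module
    rw [h2] at h1
    have hbz : (b : ℝ) = |(z : ℝ)| := by
      have : (z : ℝ) = -(b : ℝ) := by exact_mod_cast hzb
      rw [this, abs_neg, abs_of_nonneg (Nat.cast_nonneg b)]
    calc |f v - f (v - (z : ℚ) • Pi.single i 1)|
        ≤ C0 * Sg n (N (v - (z : ℚ) • Pi.single i 1)) (b : ℝ) := h1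
      _ ≤ |C0| * Sg n (N (v - (z : ℚ) • Pi.single i 1)) (b : ℝ) :=
          mul_le_mul_of_nonneg_right (le_abs_self _)
            (Sg_nonneg (N_nonneg _) (Nat.cast_nonneg b))
      _ ≤ |C0| * Sg n (max (N v) (N (v - (z : ℚ) • Pi.single i 1))) |(z : ℝ)| := by
          apply mul_le_mul_of_nonneg_left _ (abs_nonneg _)
          rw [hbz]
          exact Sg_mono (N_nonneg _) (abs_nonneg _) (le_max_right _ _) le_rfl
  · subst hz
    simp only [Int.cast_zero, zero_smul, sub_zero, sub_self, abs_zero]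
    exact mul_nonneg (abs_nonneg _) (Sg_nonneg (by simpa using N_nonneg v) le_rfl)
  · -- z > 0
    obtain ⟨b, hb⟩ : ∃ b : ℕ, (b : ℤ) = z := ⟨z.toNat, Int.toNat_of_nonneg (by omega)⟩
    have hb1 : 1 ≤ b := by omega
    have hzb : (z : ℚ) = (b : ℚ) := by
      rw [← hb]; push_cast; ring
    have h1 := hC0 v b hb1
    rw [← hzb, abs_sub_comm] at h1
    have hbz : (b : ℝ) = |(z : ℝ)| := by
      have : (z : ℝ) = (b : ℝ) := by exact_mod_cast hzb
      rw [this, abs_of_nonneg (Nat.cast_nonneg b)]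
    calc |f v - f (v - (z : ℚ) • Pi.single i 1)|
        ≤ C0 * Sg n (N v) (b : ℝ) := h1
      _ ≤ |C0| * Sg n (N v) (b : ℝ) :=
          mul_le_mul_of_nonneg_right (le_abs_self _)
            (Sg_nonneg (N_nonneg _) (Nat.cast_nonneg b))
      _ ≤ |C0| * Sg n (max (N v) (N (v - (z : ℚ) • Pi.single i 1))) |(z : ℝ)| := by
          apply mul_le_mul_of_nonneg_left _ (abs_nonneg _)
          rw [hbz]
          exact Sg_mono (N_nonneg _) (abs_nonneg _) (le_max_left _ _) le_rfl

end main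

section stepB
variable (r n : ℕ) (f : (Fin r → ℚ) → ℝ)

theorem stepB (C : Fin r → ℝ) (hC0 : ∀ i, 0 ≤ C i)
    (hC : ∀ i (v : Fin r → ℚ) (z : ℤ),
      |f v - f (v - (z : ℚ) • Pi.single i 1)| ≤
        C i * Sg n (max (N v) (N (v - (z : ℚ) • Pi.single i 1))) |(z : ℝ)|)
    (S : Finset (Fin r)) : ∀ v w : Fin r → ℚ, (∀ j, j ∉ S → v j = w j) →
      (∀ j, ∃ z : ℤ, v j - w j = z) →
      |f v - f w| ≤ (∑ i ∈ S, C i) * Sg n (max (N v) (N w)) (N (v - w)) := by
  classical
  induction S using Finset.induction_on with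
  | empty =>
    intro v w hvw _
    have : v = w := funext fun j => hvw j (Finset.notMem_empty j)
    subst this
    simp only [sub_self, abs_zero, Finset.sum_empty, zero_mul, le_refl]
  | insert i S' hi ih =>
    intro v w hvw hint
    obtain ⟨z, hz⟩ := hint i
    set u : Fin r → ℚ := Function.update v i (w i) with hu
    have hu' : u = v - (z : ℚ) • Pi.single i 1 := by
      funext j
      by_cases hj : j = i
      · subst hj
        simp only [hu, Function.update_self, Pi.sub_apply, Pi.smul_apply, Pi.single_eq_same,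
          smul_eq_mul, mul_one, ← hz]
        ring
      · simp only [hu, Function.update_of_ne hj, Pi.sub_apply, Pi.smul_apply,
          Pi.single_eq_of_ne hj, smul_zero, sub_zero]
    have huw : ∀ j, j ∉ S' → u j = w j := by
      intro j hj
      by_cases hji : j = i
      · subst hji
        simp [hu]
      · rw [hu, Function.update_of_ne hji]
        exact hvw j (by simp [hji, hj])
    have huint : ∀ j, ∃ z : ℤ, u j - w j = z := by
      intro j
      by_cases hji : j = i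
      · subst hji
        exact ⟨0, by simp [hu]⟩
      · rw [hu, Function.update_of_ne hji]
        exact hint j
    have hM : 0 ≤ max (N v) (N w) := le_max_of_le_left (N_nonneg v)
    -- bounds
    have hNu : N u ≤ max (N v) (N w) := by
      rw [N_le_iff u hM]
      intro j
      by_cases hji : j = i
      · subst hji
        simp only [hu, Function.update_self]
        exact (abs_le_N w j).trans (le_max_right _ _)
      · rw [hu, Function.update_of_ne hji]
        exact (abs_le_N v j).trans (le_max_left _ _)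
    have hz' : |(z : ℝ)| ≤ N (v - w) := by
      have := abs_le_N (v - w) i
      rw [Pi.sub_apply, hz] at this
      simpa using this
    have hNuw : N (u - w) ≤ N (v - w) := by
      rw [N_le_iff _ (N_nonneg _)]
      intro j
      by_cases hji : j = i
      · subst hji
        simp only [hu, Pi.sub_apply, Function.update_self, sub_self, Rat.cast_zero, abs_zero]
        exact N_nonneg _
      · have := abs_le_N (v - w) j
        simpa only [hu, Pi.sub_apply, Function.update_of_ne hji] using this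
    have h1 := hC i v z
    rw [← hu'] at h1
    have h2 := ih u w huw huint
    have hsum0 : 0 ≤ ∑ i ∈ S', C i := Finset.sum_nonneg fun i _ => hC0 i
    calc |f v - f w| = |(f v - f u) + (f u - f w)| := by ring_nf
      _ ≤ |f v - f u| + |f u - f w| := abs_add_le _ _
      _ ≤ C i * Sg n (max (N v) (N u)) |(z : ℝ)| +
          (∑ i ∈ S', C i) * Sg n (max (N u) (N w)) (N (u - w)) := add_le_add h1 h2
      _ ≤ C i * Sg n (max (N v) (N w)) (N (v - w)) +
          (∑ i ∈ S', C i) * Sg n (max (N v) (N w)) (N (v - w)) := by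
          apply add_le_add
          · apply mul_le_mul_of_nonneg_left _ (hC0 i)
            exact Sg_mono (le_max_of_le_left (N_nonneg v)) (abs_nonneg _)
              (max_le (le_max_left _ _) hNu) hz'
          · apply mul_le_mul_of_nonneg_left _ hsum0
            exact Sg_mono (le_max_of_le_left (N_nonneg u)) (N_nonneg _)
              (max_le hNu (le_max_right _ _)) hNuw
      _ = (∑ i ∈ insert i S', C i) * Sg n (max (N v) (N w)) (N (v - w)) := by
          rw [Finset.sum_insert hi]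
          ring

end stepB

section stepC
variable (r n : ℕ) (f : (Fin r → ℚ) → ℝ)

theorem final (_hf0 : ∀ v, 0 ≤ f v)
    (hhom : ∀ (q : ℚ) (v : Fin r → ℚ), 0 < q → f (q • v) = (q : ℝ) ^ n * f v)
    (hdir : ∀ i : Fin r, ∃ Ci : ℝ, ∀ (v : Fin r → ℚ) (b : ℕ), 1 ≤ b →
      |f (v - (b : ℚ) • Pi.single i 1) - f v| ≤
        Ci * (Finset.Icc 1 n).sum (fun q => ‖(fun j => ((v j : ℚ) : ℝ))‖ ^ (n - q) * (b : ℝ) ^ q)) :
    ∃ C : ℝ, 0 < C ∧ ∀ v w : Fin r → ℚ,
      |f v - f w| ≤ C * Sg n (max (N v) (N w)) (N (v - w)) := by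
  classical
  choose C hC0 hC using stepA r n f hdir
  have hsum0 : 0 ≤ ∑ i, C i := Finset.sum_nonneg fun i _ => hC0 i
  refine ⟨(∑ i, C i) + 1, by linarith, ?_⟩
  intro v w
  -- common denominator
  set D : ℕ := ∏ j, (v j - w j).den with hD
  have hDpos : 0 < D := Finset.prod_pos fun j _ => Rat.den_pos _
  have hDq : (0 : ℚ) < (D : ℚ) := by exact_mod_cast hDpos
  have hDr : (0 : ℝ) < (D : ℝ) := by exact_mod_cast hDpos
  have hint : ∀ j, ∃ z : ℤ, ((D : ℚ) • v) j - ((D : ℚ) • w) j = z := by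
    intro j
    obtain ⟨c, hc⟩ : (v j - w j).den ∣ D := Finset.dvd_prod_of_mem _ (Finset.mem_univ j)
    refine ⟨c * (v j - w j).num, ?_⟩
    simp only [Pi.smul_apply, smul_eq_mul]
    rw [← mul_sub, hc]
    push_cast
    rw [mul_comm ((v j - w j).den : ℚ), mul_assoc, mul_comm ((v j - w j).den : ℚ),
      Rat.mul_den_eq_num]
  have h1 := stepB r n f C hC0 hC Finset.univ ((D : ℚ) • v) ((D : ℚ) • w)
    (fun j hj => absurd (Finset.mem_univ j) hj) hint
  have h2 : (D : ℚ) • v - (D : ℚ) • w = (D : ℚ) • (v - w) := by rw [smul_sub]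
  rw [hhom _ v hDq, hhom _ w hDq, h2, N_smul, N_smul, N_smul, ← mul_sub, abs_mul,
    ← mul_max_of_nonneg _ _ (le_of_lt hDr), Sg_mul, Rat.cast_natCast,
    abs_of_nonneg (pow_nonneg (le_of_lt hDr) n)] at h1
  have hDn : (0 : ℝ) < (D : ℝ) ^ n := pow_pos hDr n
  have h3 : (D : ℝ) ^ n * |f v - f w| ≤
      (D : ℝ) ^ n * ((∑ i, C i) * Sg n (max (N v) (N w)) (N (v - w))) := by
    calc (D : ℝ) ^ n * |f v - f w| ≤ (∑ i, C i) * ((D : ℝ) ^ n * Sg n (max (N v) (N w)) (N (v - w))) := h1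
      _ = (D : ℝ) ^ n * ((∑ i, C i) * Sg n (max (N v) (N w)) (N (v - w))) := by ring
  have h4 := le_of_mul_le_mul_left h3 hDn
  have hS : 0 ≤ Sg n (max (N v) (N w)) (N (v - w)) :=
    Sg_nonneg (le_max_of_le_left (N_nonneg v)) (N_nonneg _)
  calc |f v - f w| ≤ (∑ i, C i) * Sg n (max (N v) (N w)) (N (v - w)) := h4
    _ ≤ ((∑ i, C i) + 1) * Sg n (max (N v) (N w)) (N (v - w)) := by
        apply mul_le_mul_of_nonneg_right _ hS
        linarith

end stepC


/-- Let r and n be natural numbers and f : ℚ^r → ℝ a nonnegative function which is homogeneous of degree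
n for positive rational scalars, f(q · v) = q^n · f(v) for q > 0; give ℚ^r the maximum norm ‖v‖ =
max_j |v_j| of its standard basis. Suppose that for every standard basis vector e_i there is a
constant C_i with |f(v − b · e_i) − f(v)| ≤ C_i · Σ_{q=1}^{n} ‖v‖^{n−q} · b^q for all v ∈ ℚ^r and
all integers b ≥ 1. Then there is a constant C > 0 such that |f(v) − f(w)| ≤ C · Σ_{q=1}^{n}
max(‖v‖, ‖w‖)^{n−q} · ‖v − w‖^q for all v, w ∈ ℚ^r. (The source allows any norm on an r-dimensional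
rational vector space with a chosen basis and argues with the maximum norm of that basis, which is
the case stated here.) -/
theorem result (r n : ℕ) (f : (Fin r → ℚ) → ℝ)
    (hf0 : ∀ v, 0 ≤ f v)
    (hhom : ∀ (q : ℚ) (v : Fin r → ℚ), 0 < q → f (q • v) = (q : ℝ) ^ n * f v)
    (hdir : ∀ i : Fin r, ∃ Ci : ℝ, ∀ (v : Fin r → ℚ) (b : ℕ), 1 ≤ b →
      |f (v - (b : ℚ) • Pi.single i 1) - f v| ≤
        Ci * (Finset.Icc 1 n).sum (fun q => ‖(fun j => ((v j : ℚ) : ℝ))‖ ^ (n - q) * (b : ℝ) ^ q)) :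
    ∃ C : ℝ, 0 < C ∧ ∀ v w : Fin r → ℚ,
      |f v - f w| ≤ C * (Finset.Icc 1 n).sum (fun q =>
        (max ‖(fun j => ((v j : ℚ) : ℝ))‖ ‖(fun j => ((w j : ℚ) : ℝ))‖) ^ (n - q) *
          ‖(fun j => ((v j - w j : ℚ) : ℝ))‖ ^ q) := by
  obtain ⟨C, hC, h⟩ := final r n f hf0 hhom hdir
  exact ⟨C, hC, fun v w => h v w⟩

end Groth.Agent.S17635
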