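import Groth.Statements.S17649
import Groth.Agent.Lib.helper9.PushQCQS
import Groth.Agent.Lib.helper9.QcohLocal
import Groth.Agent.Lib.helper9.ZeroRestr

set_option autoImplicit false
universe u
open CategoryTheory CategoryTheory.Limits AlgebraicGeometry
open QCohCat

namespace Groth.Agent.S17649

open CategoryTheory CategoryTheory.Limits AlgebraicGeometry Opposite Scheme.Modules
  Groth.Agent.Lib.helper9.ZC Groth.Agent.Lib.helper9.ZeroRestr in
set_option backward.isDefEq.respectTransparency false in
lemma main {X : Scheme.{u}} (U V : X.Opens) [QuasiCompact U.ι]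
    (F : X.Modules) (hF : Coh.IsQCoh F)
    (h : IsZero ((Scheme.Modules.restrictFunctor (U ⊓ V).ι).obj F)) :
    ∃ (A : X.Modules) (i : A ⟶ F), Mono i ∧ Coh.IsQCoh A ∧
      IsZero ((Scheme.Modules.restrictFunctor U.ι).obj A) ∧
      IsZero ((Scheme.Modules.restrictFunctor V.ι).obj (cokernel i)) := by
  haveI : F.IsQuasicoherent := hF
  haveI h1 : (F.restrict U.ι).IsQuasicoherent := inferInstance
  haveI h4 : ((pushforward U.ι).obj (F.restrict U.ι)).IsQuasicoherent :=
    Groth.Agent.Lib.helper9.PushQCQS.isQuasicoherent_pushforward_qcqs U.ι _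
  let η : F ⟶ (pushforward U.ι).obj (F.restrict U.ι) := (restrictAdjunction U.ι).unit.app F
  have hA : (kernel η).IsQuasicoherent :=
    Groth.Agent.Lib.helper9.QcohLocal.isQuasicoherent_kernel η
  refine ⟨kernel η, kernel.ι η, inferInstance, hA, ?_, ?_⟩
  · apply isZero_restrict_of_sections
    intro W hW t
    apply app_injective_of_mono (kernel.ι η) W
    rw [map_zero]
    have hc : kernel.ι η ≫ η = 0 := kernel.condition η
    have h0 : η.app W ((kernel.ι η).app W t) = 0 :=
      congrArg (fun ψ : kernel η ⟶ (pushforward U.ι).obj (F.restrict U.ι) => ψ.app W t) hc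
    have hle : U.ι ''ᵁ U.ι ⁻¹ᵁ W ≤ W := U.ι.image_preimage_le W
    have hge : W ≤ U.ι ''ᵁ U.ι ⁻¹ᵁ W := by
      rw [ZClos.ι_image_preimage]
      exact le_inf hW le_rfl
    have h1 : res F hle ((kernel.ι η).app W t) = 0 := h0
    have h2 : res F hge (res F hle ((kernel.ι η).app W t)) = (kernel.ι η).app W t := by
      rw [res_res]
      exact res_self F W _
    rw [← h2, h1, map_zero]
  · apply isZero_restrict_of_sections
    intro W hW c
    apply app_injective_of_mono (Abelian.factorThruCoimage η) W
    rw [map_zero]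
    have hle2 : U.ι ''ᵁ U.ι ⁻¹ᵁ W ≤ U ⊓ V := by
      rw [ZClos.ι_image_preimage]
      exact inf_le_inf_left U hW
    exact sections_eq_zero_of_isZero_restrict F (U ⊓ V) h (U.ι ''ᵁ U.ι ⁻¹ᵁ W) hle2
      (show Γ(F, U.ι ''ᵁ U.ι ⁻¹ᵁ W) from (Abelian.factorThruCoimage η).app W c)


/-- Suppose the scheme X is quasi-compact and quasi-separated, and take two quasi-compact opens U, V ⊆
X. Given a quasi-compact open W, denote by S_W the class of quasi-coherent O_X-modules that restrict
to zero on W. Then S_{U ∩ V} is the smallest localizing subcategory of Qcoh(X) that contains both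
S_U and S_V; concretely (this is the inclusion that is not formal): any quasi-coherent O_X-module F
satisfying F|_{U ∩ V} = 0 arises as an extension of a quasi-coherent module that is zero on V by a
quasi-coherent submodule that is zero on U — one can find a monomorphism A ⟶ F where A is
quasi-coherent, A|_U = 0 and (F/A)|_V = 0. -/
theorem result {X : Scheme.{u}}
    [CompactSpace X] [QuasiSeparatedSpace X] (U V : X.Opens) [QuasiCompact U.ι] [QuasiCompact V.ι]
    (F : X.Modules) (hF : Coh.IsQCoh F) (h : IsZero ((Scheme.Modules.restrictFunctor (U ⊓ V).ι).obj F)) :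
    ∃ (A : X.Modules) (i : A ⟶ F), Mono i ∧ Coh.IsQCoh A ∧
      IsZero ((Scheme.Modules.restrictFunctor U.ι).obj A) ∧
      IsZero ((Scheme.Modules.restrictFunctor V.ι).obj (cokernel i)) := by
  exact main U V F hF h

end Groth.Agent.S17649
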