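import Groth.Statements.S17658
import Groth.Agent.Lib.helper13.LeadMono

set_option autoImplicit false
universe u
open Surf

namespace Groth.Agent.S17658

/-- In the polynomial ring k[T₀,T₁,U,V] over a field k, bigraded by deg T₀ = deg T₁ = (0,1), deg U =
(1,−1), deg V = (1,0) (the Cox ring of the Hirzebruch surface F₁; its piece of bidegree (a,b) is the
space of sections of O(a(E+F)+bF)), let S_(a,b) denote the k-span of the monomials of bidegree
(a,b), so that S_(0,c) is the space of forms of degree c in T₀, T₁. A subspace W ⊆ S_(a,b) is called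
c-generating when W·S_(0,c) = S_(a,b+c). Fix a monomial order and natural numbers a, b, c, and let
W₀(a,b,c) be the set of monomials U^i V^(a−i) T₀^(b+i−j(c+1)) T₁^(j(c+1)) with 0 ≤ i ≤ a, j ≥ 0 and
j(c+1) < b+i, together with the monomials U^i V^(a−i) T₁^(b+i) with 0 ≤ i ≤ a. If every monomial of
W₀(a,b,c) is the leading monomial of some nonzero element of W, then W is c-generating. (The source
fixes the graded lexicographic order with U > V > T₀ > T₁ and works over the complex numbers; its
argument uses only that leading monomials are multiplicative and that W₀(a,b,c)·S_(0,c) contains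
every monomial of S_(a,b+c), so any monomial order and any field are allowed here. The printed index
j runs from 1; with that range the statement fails already for a = 0, b = c = 1 and W spanned by T₁,
and the range from 0 used here is the one matching the accompanying dimension count.) Variables are
indexed T₀ = 0, T₁ = 1, U = 2, V = 3. -/
theorem result (k : Type u) [Field k]
    (mo : MonomialOrder (Fin 4)) (a b c : ℕ) (W : Submodule k (MvPolynomial (Fin 4) k))
    (hW : W ≤ Submodule.span k {f : MvPolynomial (Fin 4) k | ∃ e : Fin 4 →₀ ℕ, e 2 + e 3 = a ∧ e 0 + e 1 = b + e 2 ∧ f = MvPolynomial.monomial e 1})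
    (h₁ : ∀ i j : ℕ, i ≤ a → j * (c + 1) < b + i → ∃ w ∈ W, w ≠ 0 ∧
      mo.degree w = Finsupp.single 0 (b + i - j * (c + 1)) + Finsupp.single 1 (j * (c + 1)) +
        Finsupp.single 2 i + Finsupp.single 3 (a - i))
    (h₂ : ∀ i : ℕ, i ≤ a → ∃ w ∈ W, w ≠ 0 ∧
      mo.degree w = Finsupp.single 1 (b + i) + Finsupp.single 2 i + Finsupp.single 3 (a - i)) :
    W * Submodule.span k {f : MvPolynomial (Fin 4) k | ∃ e : Fin 4 →₀ ℕ, e 2 + e 3 = 0 ∧ e 0 + e 1 = c + e 2 ∧ f = MvPolynomial.monomial e 1} =
      Submodule.span k {f : MvPolynomial (Fin 4) k | ∃ e : Fin 4 →₀ ℕ, e 2 + e 3 = a ∧ e 0 + e 1 = (b + c) + e 2 ∧ f = MvPolynomial.monomial e 1} := by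
  classical
  have hspan : ∀ (A B : (Fin 4 →₀ ℕ) → Prop),
      Submodule.span k {f : MvPolynomial (Fin 4) k | ∃ e : Fin 4 →₀ ℕ, A e ∧ B e ∧ f = MvPolynomial.monomial e 1}
        = MvPolynomial.restrictSupport k {e | A e ∧ B e} := by
    intro A B
    rw [MvPolynomial.restrictSupport_eq_span]
    congr 1
    ext f
    constructor
    · rintro ⟨e, hA, hB, rfl⟩
      exact ⟨e, ⟨hA, hB⟩, rfl⟩
    · rintro ⟨e, ⟨hA, hB⟩, rfl⟩
      exact ⟨e, hA, hB, rfl⟩
  have e1 := hspan (fun e => e 2 + e 3 = a) (fun e => e 0 + e 1 = b + e 2)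
  have e2 := hspan (fun e => e 2 + e 3 = 0) (fun e => e 0 + e 1 = c + e 2)
  have e3 := hspan (fun e => e 2 + e 3 = a) (fun e => e 0 + e 1 = (b + c) + e 2)
  rw [e1] at hW
  rw [e2, e3]
  refine Groth.Agent.Lib.helper13.LeadMono.eq_restrictSupport_of_leading mo _ _ ?_ ?_
  · refine le_trans (Submodule.mul_le.mpr (fun m hm n hn => Submodule.mul_mem_mul (hW hm) hn)) ?_
    rw [← MvPolynomial.restrictSupport_add]
    refine MvPolynomial.restrictSupport_mono (R := k) ?_
    rintro e ⟨x, ⟨hx1, hx2⟩, y, ⟨hy1, hy2⟩, rfl⟩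
    have hx1' : x 2 + x 3 = a := hx1
    have hx2' : x 0 + x 1 = b + x 2 := hx2
    have hy1' : y 2 + y 3 = 0 := hy1
    have hy2' : y 0 + y 1 = c + y 2 := hy2
    show (x + y) 2 + (x + y) 3 = a ∧ (x + y) 0 + (x + y) 1 = b + c + (x + y) 2
    simp only [Finsupp.add_apply]
    constructor <;> omega
  · rintro e ⟨h1', h2'⟩
    have h1 : e 2 + e 3 = a := h1'
    have h2 : e 0 + e 1 = b + c + e 2 := h2'
    by_cases hq : e 1 < b + e 2
    · obtain ⟨j, s, hJ, hs⟩ : ∃ j s, j * (c + 1) + s = e 1 ∧ s ≤ c :=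
        ⟨e 1 / (c + 1), e 1 % (c + 1), by rw [mul_comm]; exact Nat.div_add_mod _ _,
          Nat.lt_succ_iff.mp (Nat.mod_lt _ (Nat.succ_pos c))⟩
      obtain ⟨w, hwW, hw0, hwdeg⟩ := h₁ (e 2) j (by omega) (by omega)
      set mm : MvPolynomial (Fin 4) k := MvPolynomial.monomial
        (Finsupp.single 0 (c - s) + Finsupp.single 1 s) 1 with hmm
      have hm0 : mm ≠ 0 := by
        rw [hmm, Ne, MvPolynomial.monomial_eq_zero]
        exact one_ne_zero
      have hmS : mm ∈ MvPolynomial.restrictSupport k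
          {e : Fin 4 →₀ ℕ | e 2 + e 3 = 0 ∧ e 0 + e 1 = c + e 2} := by
        rw [hmm, MvPolynomial.monomial_mem_restrictSupport]
        left
        simp only [Set.mem_setOf_eq, Finsupp.add_apply, Finsupp.single_apply]
        simp
        omega
      refine ⟨w * mm, Submodule.mul_mem_mul hwW hmS, mul_ne_zero hw0 hm0, ?_⟩
      rw [mo.degree_mul hw0 hm0, hwdeg, hmm, mo.degree_monomial, if_neg one_ne_zero]
      ext x
      fin_cases x <;> simp [Finsupp.add_apply, Finsupp.single_apply] <;> omega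
    · obtain ⟨w, hwW, hw0, hwdeg⟩ := h₂ (e 2) (by omega)
      set mm : MvPolynomial (Fin 4) k := MvPolynomial.monomial
        (Finsupp.single 0 (c - (e 1 - (b + e 2))) + Finsupp.single 1 (e 1 - (b + e 2))) 1 with hmm
      have hm0 : mm ≠ 0 := by
        rw [hmm, Ne, MvPolynomial.monomial_eq_zero]
        exact one_ne_zero
      have hmS : mm ∈ MvPolynomial.restrictSupport k
          {e : Fin 4 →₀ ℕ | e 2 + e 3 = 0 ∧ e 0 + e 1 = c + e 2} := by
        rw [hmm, MvPolynomial.monomial_mem_restrictSupport]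
        left
        simp only [Set.mem_setOf_eq, Finsupp.add_apply, Finsupp.single_apply]
        simp
        omega
      refine ⟨w * mm, Submodule.mul_mem_mul hwW hmS, mul_ne_zero hw0 hm0, ?_⟩
      rw [mo.degree_mul hw0 hm0, hwdeg, hmm, mo.degree_monomial, if_neg one_ne_zero]
      ext x
      fin_cases x <;> simp [Finsupp.add_apply, Finsupp.single_apply] <;> omega

end Groth.Agent.S17658
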