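import Groth.Statements.S17662
import Mathlib

set_option autoImplicit false
universe u
open CIDisc

namespace Groth.Agent.S17662aux

open Matrix Equiv

variable {R : Type u} [CommRing R]

/-- the type of `e`-element subsets -/
abbrev Sub (r e : ℕ) := {s : Finset (Fin r) // s.card = e}

/-- the increasing enumeration of an `e`-subset -/
def emb {r e : ℕ} (s : Sub r e) : Fin e → Fin r := s.1.orderEmbOfFin s.2

lemma emb_injective {r e : ℕ} (s : Sub r e) : Function.Injective (emb s) :=
  (s.1.orderEmbOfFin s.2).injective

lemma range_emb {r e : ℕ} (s : Sub r e) : Set.range (emb s) = (s.1 : Set (Fin r)) :=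
  Finset.range_orderEmbOfFin s.1 s.2

/-- Step 1: expansion over all functions. -/
theorem det_mul_expand {e r : ℕ} (A : Matrix (Fin e) (Fin r) R) (N : Matrix (Fin r) (Fin e) R) :
    (A * N).det = ∑ φ : Fin e → Fin r, (∏ a, N (φ a) a) * (A.submatrix id φ).det := by
  classical
  rw [← Matrix.det_transpose]
  have hrows : (A * N)ᵀ = fun a => ∑ k : Fin r, N k a • (fun b => A b k) := by
    funext a b
    simp [Matrix.mul_apply, Finset.sum_apply, mul_comm]
  have h1 : ((A * N)ᵀ).det = (Matrix.detRowAlternating (R := R) (n := Fin e)).toMultilinearMap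
      (fun a => ∑ k : Fin r, N k a • (fun b => A b k)) := by
    rw [hrows]; rfl
  rw [h1, MultilinearMap.map_sum]
  apply Finset.sum_congr rfl
  intro φ _
  rw [MultilinearMap.map_smul_univ]
  simp only [smul_eq_mul]
  congr 1
  change Matrix.det (fun a b => A b (φ a)) = _
  rw [← Matrix.det_transpose (A.submatrix id φ)]
  rfl

/-- Cauchy–Binet. -/
theorem cauchy_binet {e r : ℕ} (A : Matrix (Fin e) (Fin r) R) (N : Matrix (Fin r) (Fin e) R) :
    (A * N).det = ∑ s : Sub r e, (A.submatrix id (emb s)).det * (N.submatrix (emb s) id).det := by
  classical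
  rw [det_mul_expand]
  -- restrict to injective functions
  rw [← Finset.sum_filter_add_sum_filter_not Finset.univ (fun φ : Fin e → Fin r => Function.Injective φ)]
  have hz : ∑ φ ∈ Finset.univ.filter (fun φ : Fin e → Fin r => ¬ Function.Injective φ),
      (∏ a, N (φ a) a) * (A.submatrix id φ).det = 0 := by
    apply Finset.sum_eq_zero
    intro φ hφ
    rw [Finset.mem_filter] at hφ
    obtain ⟨a, b, hab, hne⟩ : ∃ a b, φ a = φ b ∧ a ≠ b := by
      have := hφ.2
      unfold Function.Injective at this
      push Not at this
      exact this
    rw [Matrix.det_zero_of_column_eq hne (by intro k; simp [hab]), mul_zero]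
  rw [hz, add_zero]
  -- right side as double sum
  have hR : ∀ s : Sub r e, (A.submatrix id (emb s)).det * (N.submatrix (emb s) id).det =
      ∑ τ : Perm (Fin e), (∏ a, N (emb s (τ a)) a) * (A.submatrix id (emb s ∘ τ)).det := by
    intro s
    rw [Matrix.det_apply' (N.submatrix (emb s) id), Finset.mul_sum]
    apply Finset.sum_congr rfl
    intro τ _
    have : A.submatrix id (emb s ∘ τ) = (A.submatrix id (emb s)).submatrix id τ := by
      ext a b; rfl
    rw [this, Matrix.det_permute']
    simp only [Matrix.submatrix_apply, id_eq]
    ring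
  simp_rw [hR]
  rw [← Finset.sum_product']
  symm
  apply Finset.sum_bij (fun (p : Sub r e × Perm (Fin e)) _ => emb p.1 ∘ p.2)
  · intro p _
    rw [Finset.mem_filter]
    exact ⟨Finset.mem_univ _, (emb_injective p.1).comp p.2.injective⟩
  · rintro ⟨s1, τ1⟩ _ ⟨s2, τ2⟩ _ heq
    simp only at heq
    have hs : s1 = s2 := by
      apply Subtype.ext
      apply Finset.coe_injective
      rw [← range_emb s1, ← range_emb s2]
      have h1 : Set.range (emb s1) = Set.range (emb s1 ∘ τ1) := by
        rw [Set.range_comp, τ1.surjective.range_eq, Set.image_univ]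
      have h2 : Set.range (emb s2) = Set.range (emb s2 ∘ τ2) := by
        rw [Set.range_comp, τ2.surjective.range_eq, Set.image_univ]
      rw [h1, h2, heq]
    subst hs
    have : τ1 = τ2 := by
      ext a
      have := congrFun heq a
      exact congrArg Fin.val (emb_injective s1 this)
    rw [this]
  · intro φ hφ
    rw [Finset.mem_filter] at hφ
    have hinj := hφ.2
    let s : Sub r e := ⟨Finset.univ.image φ, by
      rw [Finset.card_image_of_injective _ hinj]; simp⟩
    have hmem : ∀ a, φ a ∈ Set.range (emb s) := by
      intro a
      rw [range_emb]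
      exact Finset.mem_coe.mpr (Finset.mem_image_of_mem φ (Finset.mem_univ a))
    choose idx hidx using hmem
    have hidx_inj : Function.Injective idx := by
      intro a b hab
      apply hinj
      rw [← hidx a, ← hidx b, hab]
    let τ : Perm (Fin e) := Equiv.ofBijective idx (Finite.injective_iff_bijective.mp hidx_inj)
    refine ⟨(s, τ), Finset.mem_univ _, ?_⟩
    funext a
    exact hidx a
  · rintro ⟨s, τ⟩ _
    rfl


theorem main (e r n : ℕ)
    (M : Matrix (Fin r) (Fin n) R)
    (A : {s : Finset (Fin r) // s.card = e} → Matrix (Fin e) (Fin r) R)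
    (hA : IsUnit (Matrix.det (Matrix.of fun i j : {s : Finset (Fin r) // s.card = e} =>
      ((A i).submatrix id (j.1.orderEmbOfFin j.2)).det))) :
    (⨆ i, Ideal.span (Set.range fun t : {s : Finset (Fin n) // s.card = e} =>
        ((A i * M).submatrix id (t.1.orderEmbOfFin t.2)).det)) =
      Ideal.span (Set.range fun p : {s : Finset (Fin r) // s.card = e} × {s : Finset (Fin n) // s.card = e} =>
        (M.submatrix (p.1.1.orderEmbOfFin p.1.2) (p.2.1.orderEmbOfFin p.2.2)).det) := by
  classical
  set C : Matrix (Sub r e) (Sub r e) R :=
    Matrix.of fun i j => ((A i).submatrix id (emb j)).det with hC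
  let mm : Sub r e → Sub n e → R := fun s t => (M.submatrix (emb s) (emb t)).det
  have hkey : ∀ (i : Sub r e) (t : Sub n e),
      ((A i * M).submatrix id (emb t)).det = ∑ s, C i s * mm s t := by
    intro i t
    have : (A i * M).submatrix id (emb t) = A i * M.submatrix id (emb t) := by
      ext a b
      simp [Matrix.mul_apply]
    rw [this, cauchy_binet]
    rfl
  have hinv : ∀ (s : Sub r e) (t : Sub n e),
      mm s t = ∑ i, C⁻¹ s i * ((A i * M).submatrix id (emb t)).det := by
    intro s t
    simp_rw [hkey, Finset.mul_sum]
    rw [Finset.sum_comm]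
    have h1 : ∀ s' : Sub r e, ∑ i, C⁻¹ s i * (C i s' * mm s' t) = (C⁻¹ * C) s s' * mm s' t := by
      intro s'
      rw [Matrix.mul_apply, Finset.sum_mul]
      apply Finset.sum_congr rfl
      intro i _
      ring
    simp_rw [h1, Matrix.nonsing_inv_mul C hA, Matrix.one_apply]
    simp
  apply le_antisymm
  · apply iSup_le
    intro i
    rw [Ideal.span_le]
    rintro _ ⟨t, rfl⟩
    change ((A i * M).submatrix id (emb t)).det ∈ _
    rw [hkey]
    exact Ideal.sum_mem _ fun s _ => Ideal.mul_mem_left _ _ (Ideal.subset_span ⟨(s, t), rfl⟩)
  · rw [Ideal.span_le]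
    rintro _ ⟨⟨s, t⟩, rfl⟩
    change mm s t ∈ _
    rw [hinv]
    refine Ideal.sum_mem _ fun i _ => Ideal.mul_mem_left _ _ ?_
    exact (le_iSup (fun i => Ideal.span (Set.range fun t : Sub n e =>
        ((A i * M).submatrix id (t.1.orderEmbOfFin t.2)).det)) i) (Ideal.subset_span ⟨t, rfl⟩)

end Groth.Agent.S17662aux

namespace Groth.Agent.S17662

/-- Let R be a commutative ring, M an r × n matrix over R and e ≥ 0; for each e-element set L of row
indices let A_L be an e × r matrix over R, and form the square matrix, indexed by the e-element sets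
of row indices, whose (L, L') entry is the e × e minor of A_L on the columns L'. If the determinant
of that square matrix is a unit, then the sum over L of the ideals generated by the e × e minors of
the products A_L · M is the ideal generated by all e × e minors of M. (In the source R is the
coordinate ring of an affine scheme X of codimension e cut out by f_1, …, f_r in affine n-space, M
is the image of the Jacobian matrix of the f_j, the A_L have entries in the ground field and cut out
complete intersections Z_L = V(A_L · f), so that the two sides are Σ_L Jac(Z_L) and Jac(X); the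
source states the equality for general A_L and establishes it under the present invertibility
condition, which it shows to be generic.) -/
theorem result {R : Type u} [CommRing R] (e r n : ℕ)
    (M : Matrix (Fin r) (Fin n) R)
    (A : {s : Finset (Fin r) // s.card = e} → Matrix (Fin e) (Fin r) R)
    (hA : IsUnit (Matrix.det (Matrix.of fun i j : {s : Finset (Fin r) // s.card = e} =>
      ((A i).submatrix id (j.1.orderEmbOfFin j.2)).det))) :
    (⨆ i, Ideal.span (Set.range fun t : {s : Finset (Fin n) // s.card = e} =>
        ((A i * M).submatrix id (t.1.orderEmbOfFin t.2)).det)) =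
      Ideal.span (Set.range fun p : {s : Finset (Fin r) // s.card = e} × {s : Finset (Fin n) // s.card = e} =>
        (M.submatrix (p.1.1.orderEmbOfFin p.1.2) (p.2.1.orderEmbOfFin p.2.2)).det) := by
  exact Groth.Agent.S17662aux.main e r n M A hA

end Groth.Agent.S17662
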