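import Groth.Statements.S17677
import Groth.Agent.Lib.helper12.HochVanish
import Mathlib.RingTheory.Coalgebra.MonoidAlgebra
import Mathlib.RingTheory.Bialgebra.MonoidAlgebra

set_option autoImplicit false
universe u
open Hoch

namespace Groth.Agent.S17677

/-- Let k be a commutative ring, M a commutative monoid and V a right comodule over the monoid bialgebra
k[M] (a quasi-coherent module with an action of the diagonalizable monoid scheme Spec k[M]). Then
every 1-cocycle of the Hochschild complex of V is a 1-coboundary, i.e. the first Hochschild
cohomology module of the diagonalizable monoid with coefficients in V is zero. (The source works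
over an algebraic space with M finitely generated and cancellative, hypotheses it uses only to
identify modules under the monoid with comodules; the cocycle computation, which is the affine
statement given here, uses neither.) -/
theorem result (k : Type u) [CommRing k] (M : Type u)
    [AddCommMonoid M] (V : Type u) [AddCommGroup V] [Module k V]
    [HopfRep.Comod k (AddMonoidAlgebra k M) V] :
    Hoch.cocycles k (AddMonoidAlgebra k M) V 1 ≤ Hoch.coboundaries k (AddMonoidAlgebra k M) V 1 := by
  classical
  let lam : AddMonoidAlgebra k M →ₗ[k] k :=
    (Finsupp.lapply (0 : M)) ∘ₗ (AddMonoidAlgebra.coeffLinearEquiv k).toLinearMap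
  have hlam : ∀ (m : M) (r : k), lam (AddMonoidAlgebra.single m r) = if m = 0 then r else 0 := by
    intro m r
    show (AddMonoidAlgebra.single m r).coeff 0 = _
    rw [AddMonoidAlgebra.coeff_single, Finsupp.single_apply]
  have h1 : lam 1 = 1 := by
    rw [AddMonoidAlgebra.one_def, hlam, if_pos rfl]
  have hinv : ∀ a : AddMonoidAlgebra k M,
      Groth.Agent.H12Hoch.sL k (AddMonoidAlgebra k M) lam (AddMonoidAlgebra k M)
        (Coalgebra.comul (R := k) a) = lam a • (1 : AddMonoidAlgebra k M) := by
    intro a
    induction a using AddMonoidAlgebra.induction_linear with
    | zero => simp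
    | add f g hf hg => rw [map_add, map_add, map_add, hf, hg, add_smul]
    | single m r =>
      rw [AddMonoidAlgebra.comul_single]
      simp only [CommSemiring.comul_apply, TensorProduct.map_tmul, AddMonoidAlgebra.lsingle_apply,
        Groth.Agent.H12Hoch.sL_tmul, hlam]
      split_ifs with h
      · subst h
        rw [AddMonoidAlgebra.one_def]
      · simp
  exact Groth.Agent.H12Hoch.cocycles_le_coboundaries k (AddMonoidAlgebra k M) V lam h1 hinv 0

end Groth.Agent.S17677
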