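import Groth.Statements.S17679
import Mathlib

set_option autoImplicit false
open DiagMon

namespace Groth.Agent.S17679



/-- For n ≥ 1 the minimal number of generators of ℤ^n as an additive monoid is n + 1: some n + 1
elements generate ℤ^n as a monoid, and every finite set generating ℤ^n as a monoid has at least n +
1 elements. (For n = 0 the empty set generates the zero monoid, so the count n + 1 is stated for n ≥
1 only.) -/
theorem result (n : ℕ) (hn : 1 ≤ n) :
    (∃ s : Finset (Fin n → ℤ), s.card = n + 1 ∧ AddSubmonoid.closure (s : Set (Fin n → ℤ)) = ⊤) ∧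
    ∀ s : Finset (Fin n → ℤ), AddSubmonoid.closure (s : Set (Fin n → ℤ)) = ⊤ → n + 1 ≤ s.card := by
  classical
  constructor
  · -- generators e_i and w = (-1,…,-1)
    let e : Fin n → (Fin n → ℤ) := fun i => Pi.single i 1
    let w : Fin n → ℤ := fun _ => -1
    have he_inj : Function.Injective e := by
      intro i j hij
      by_contra hne
      have := congrFun hij i
      simp [e, Pi.single_apply, hne] at this
    have hw : w ∉ Finset.univ.image e := by
      intro hmem
      obtain ⟨i, -, hi⟩ := Finset.mem_image.mp hmem
      have := congrFun hi i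
      simp [e, w] at this
    refine ⟨insert w (Finset.univ.image e), ?_, ?_⟩
    · rw [Finset.card_insert_of_notMem hw, Finset.card_image_of_injective _ he_inj]
      simp
    · rw [eq_top_iff]
      intro v _
      let c : ℕ := ∑ i, (v i).natAbs
      have hc : ∀ j, 0 ≤ v j + c := by
        intro j
        have h1 : (v j).natAbs ≤ c := Finset.single_le_sum (f := fun i => (v i).natAbs)
          (fun _ _ => Nat.zero_le _) (Finset.mem_univ j)
        have h2 : -(v j) ≤ ((v j).natAbs : ℤ) := by
          rw [Int.natCast_natAbs]
          exact neg_le_abs _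
        have h3 : ((v j).natAbs : ℤ) ≤ (c : ℤ) := by exact_mod_cast h1
        linarith
      have hv : v = ∑ i, (v i + c).toNat • e i + c • w := by
        funext j
        rw [Pi.add_apply, Finset.sum_apply]
        simp only [Pi.smul_apply, e, w, Pi.single_apply, smul_eq_mul]
        rw [Finset.sum_eq_single j]
        · simp only [if_true, nsmul_eq_mul, mul_one, mul_neg]
          rw [Int.toNat_of_nonneg (hc j)]
          ring
        · intro b _ hb
          simp [hb.symm]
        · intro h
          exact absurd (Finset.mem_univ j) h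
      rw [hv]
      refine AddSubmonoid.add_mem _ (AddSubmonoid.sum_mem _ fun i _ => ?_) ?_
      · refine AddSubmonoid.nsmul_mem _ (AddSubmonoid.subset_closure ?_) _
        rw [Finset.coe_insert]
        exact Set.mem_insert_of_mem _ (Finset.mem_coe.mpr (Finset.mem_image_of_mem e (Finset.mem_univ i)))
      · refine AddSubmonoid.nsmul_mem _ (AddSubmonoid.subset_closure ?_) _
        rw [Finset.coe_insert]
        exact Set.mem_insert _ _
  · intro s hs
    by_contra hlt
    have hcard : s.card ≤ n := by omega
    have hspan : ⊤ ≤ Submodule.span ℤ (Set.range (Subtype.val : s → (Fin n → ℤ))) := by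
      intro v _
      have hv : v ∈ AddSubmonoid.closure (s : Set (Fin n → ℤ)) := by rw [hs]; trivial
      rw [Subtype.range_coe_subtype]
      exact (AddSubmonoid.closure_le (S := (Submodule.span ℤ (s : Set (Fin n → ℤ))).toAddSubmonoid).mpr
        Submodule.subset_span) hv
    have hli : LinearIndependent ℤ (Subtype.val : s → (Fin n → ℤ)) :=
      linearIndependent_of_top_le_span_of_card_le_finrank hspan (by simpa using hcard)
    have hne : s.Nonempty := by
      by_contra h
      rw [Finset.not_nonempty_iff_eq_empty] at h
      subst h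
      have h1 : (Pi.single (⟨0, hn⟩ : Fin n) (1 : ℤ) : Fin n → ℤ) ∈
          AddSubmonoid.closure ((∅ : Finset (Fin n → ℤ)) : Set (Fin n → ℤ)) := by rw [hs]; trivial
      rw [Finset.coe_empty, AddSubmonoid.closure_empty, AddSubmonoid.mem_bot] at h1
      have := congrFun h1 ⟨0, hn⟩
      simp at this
    obtain ⟨v₀, hv₀⟩ := hne
    have hneg : -v₀ ∈ AddSubmonoid.closure (s : Set (Fin n → ℤ)) := by rw [hs]; trivial
    obtain ⟨a, ha⟩ := AddSubmonoid.mem_closure_finset'.mp hneg
    have hrel : ∑ i : s, ((a i : ℤ) + if i = ⟨v₀, hv₀⟩ then 1 else 0) • (i : Fin n → ℤ) = 0 := by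
      simp only [add_smul, Finset.sum_add_distrib, ite_smul, one_smul, zero_smul]
      rw [Finset.sum_ite_eq' Finset.univ (⟨v₀, hv₀⟩ : s), if_pos (Finset.mem_univ _)]
      have h2 : ∑ i : s, (a i : ℤ) • (i : Fin n → ℤ) = ∑ i : s, a i • (i : Fin n → ℤ) := by
        refine Finset.sum_congr rfl fun i _ => ?_
        rw [natCast_zsmul]
      rw [h2, ← ha]
      simp
    have h3 := Fintype.linearIndependent_iff.mp hli _ hrel ⟨v₀, hv₀⟩
    simp only [if_true] at h3
    omega

end Groth.Agent.S17679
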