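import Groth.Statements.S17682
import Mathlib

set_option autoImplicit false
universe u v w u'
open DiagMon

namespace Groth.Agent.S17682



/-- Let R be a commutative ring, A a commutative R-algebra graded by a commutative monoid M, N a
submonoid of M and R' a commutative R-algebra. For every R-algebra homomorphism F : A → R' vanishing
on the homogeneous elements of degree outside N there is a unique R-algebra homomorphism f : A →
R'[M] which is graded (a homogeneous element of degree m goes to a multiple of X^m), vanishes on
homogeneous elements of degree outside N, and composes with the augmentation X^m ↦ 1 to F. In the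
dictionary where an M-grading of A is an action of the diagonalizable monoid scheme Spec R[M] on
Spec A and graded maps A → R'[M] supported on N are equivariant maps from the monoid scheme of N
over R', this says that the attractor of Spec A for the magnet N is represented by the closed
subscheme of Spec A defined by the homogeneous elements of degree outside N. -/
theorem result (R : Type u) [CommRing R]
    (A : Type v) [CommRing A] [Algebra R A] (M : Type w) [AddCommMonoid M] [DecidableEq M]
    (𝒜 : M → Submodule R A) [GradedAlgebra 𝒜] (N : AddSubmonoid M) (R' : Type u') [CommRing R']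
    [Algebra R R'] (F : A →ₐ[R] R') (hF : ∀ m, m ∉ N → ∀ a ∈ 𝒜 m, F a = 0) :
    ∃! f : A →ₐ[R] AddMonoidAlgebra R' M,
      (∀ m, ∀ a ∈ 𝒜 m, f a =
          AddMonoidAlgebra.single m (Bialgebra.counitAlgHom R' (AddMonoidAlgebra R' M) (f a))) ∧
      (∀ m, m ∉ N → ∀ a ∈ 𝒜 m, f a = 0) ∧
      ∀ a, Bialgebra.counitAlgHom R' (AddMonoidAlgebra R' M) (f a) = F a := by
  classical
  let g : ∀ m, 𝒜 m →ₗ[R] AddMonoidAlgebra R' M := fun m =>
    (AddMonoidAlgebra.lsingle (R := R) (S := R') m) ∘ₗ F.toLinearMap ∘ₗ (𝒜 m).subtype
  obtain ⟨fl, hfl⟩ : ∃ fl : A →ₗ[R] AddMonoidAlgebra R' M,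
      ∀ m, ∀ a ∈ 𝒜 m, fl a = AddMonoidAlgebra.single m (F a) := by
    refine ⟨(DirectSum.toModule R M _ g) ∘ₗ (DirectSum.decomposeLinearEquiv 𝒜).toLinearMap, ?_⟩
    intro m a ha
    rw [LinearMap.comp_apply, LinearEquiv.coe_toLinearMap, DirectSum.decomposeLinearEquiv_apply,
      DirectSum.decompose_of_mem 𝒜 ha, ← DirectSum.lof_eq_of R, DirectSum.toModule_lof]
    rfl
  have h1 : fl 1 = 1 := by
    rw [hfl 0 1 (SetLike.GradedOne.one_mem), map_one, AddMonoidAlgebra.one_def]
  have hmul : ∀ x y, fl (x * y) = fl x * fl y := by
    intro x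
    induction x using DirectSum.Decomposition.inductionOn 𝒜 with
    | zero => intro y; simp
    | @homogeneous i a =>
      intro y
      induction y using DirectSum.Decomposition.inductionOn 𝒜 with
      | zero => simp
      | @homogeneous j b =>
        rw [hfl (i + j) _ (SetLike.GradedMul.mul_mem a.2 b.2), hfl i _ a.2, hfl j _ b.2, map_mul,
          AddMonoidAlgebra.single_mul_single]
      | add y y' hy hy' => rw [mul_add, map_add, hy, hy', map_add, mul_add]
    | add x x' hx hx' =>
      intro y
      rw [add_mul, map_add, hx, hx', map_add, add_mul]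
  let f : A →ₐ[R] AddMonoidAlgebra R' M := AlgHom.ofLinearMap fl h1 hmul
  have hf : ∀ m, ∀ a ∈ 𝒜 m, f a = AddMonoidAlgebra.single m (F a) := hfl
  have hcounit : ∀ (m : M) (r : R'), Bialgebra.counitAlgHom R' (AddMonoidAlgebra R' M)
      (AddMonoidAlgebra.single m r) = r := fun m r => by
    simp [AddMonoidAlgebra.counit_single]
  refine ⟨f, ⟨?_, ?_, ?_⟩, ?_⟩
  · intro m a ha
    rw [hf m a ha, hcounit]
  · intro m hm a ha
    rw [hf m a ha, hF m hm a ha, AddMonoidAlgebra.single_zero]
  · intro a
    induction a using DirectSum.Decomposition.inductionOn 𝒜 with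
    | zero => simp
    | @homogeneous i a => rw [hf i _ a.2, hcounit]
    | add a a' ha ha' => rw [map_add, map_add, ha, ha', map_add]
  · rintro f' ⟨h1', -, h3'⟩
    refine AlgHom.ext fun a => ?_
    induction a using DirectSum.Decomposition.inductionOn 𝒜 with
    | zero => simp
    | @homogeneous i a => rw [h1' i _ a.2, h3', hf i _ a.2]
    | add a a' ha ha' => rw [map_add, map_add, ha, ha']

end Groth.Agent.S17682
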