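import Groth.Statements.S17683
import Mathlib

set_option autoImplicit false
universe u
open DiagMon

namespace Groth.Agent.S17683



/-- Let N be a commutative monoid and F a submonoid of N. The additive projection ℤ[N] → ℤ[F] of monoid
algebras keeping the monomials with exponent in F and killing the others is multiplicative, i.e. F
is a face of N, if and only if for all x, y in N the sum x + y lies in F exactly when both x and y
do. -/
theorem result {N : Type u} [AddCommMonoid N] (F : AddSubmonoid N) :
    (∀ a b : AddMonoidAlgebra ℤ N,
        AddMonoidAlgebra.comapDomain ((↑) : F → N) Subtype.val_injective (a * b) =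
          AddMonoidAlgebra.comapDomain ((↑) : F → N) Subtype.val_injective a *
            AddMonoidAlgebra.comapDomain ((↑) : F → N) Subtype.val_injective b) ↔
      ∀ x y : N, x + y ∈ F ↔ (x ∈ F ∧ y ∈ F) := by
  classical
  have hsingle : ∀ (x : N) (r : ℤ), x ∈ F → ∀ hx : x ∈ F,
      AddMonoidAlgebra.comapDomain ((↑) : F → N) Subtype.val_injective (AddMonoidAlgebra.single x r)
        = AddMonoidAlgebra.single (⟨x, hx⟩ : F) r := by
    intro x r _ hx
    exact AddMonoidAlgebra.comapDomain_single_map ((↑) : F → N) Subtype.val_injective ⟨x, hx⟩ r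
  have hsingle0 : ∀ (x : N) (r : ℤ), x ∉ F →
      AddMonoidAlgebra.comapDomain ((↑) : F → N) Subtype.val_injective (AddMonoidAlgebra.single x r)
        = 0 := by
    intro x r hx
    ext ⟨y, hy⟩
    have hne : x ≠ y := fun hh => hx (hh ▸ hy)
    simp [hne]
  constructor
  · intro h x y
    constructor
    · intro hxy
      have h1 := h (AddMonoidAlgebra.single x 1) (AddMonoidAlgebra.single y 1)
      rw [AddMonoidAlgebra.single_mul_single, hsingle _ _ hxy hxy] at h1
      have hne : (AddMonoidAlgebra.single (⟨x + y, hxy⟩ : F) ((1 : ℤ) * 1)) ≠ 0 := by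
        rw [AddMonoidAlgebra.single_ne_zero]; norm_num
      constructor
      · by_contra hx
        rw [hsingle0 x 1 hx, zero_mul] at h1
        exact hne h1
      · by_contra hy
        rw [hsingle0 y 1 hy, mul_zero] at h1
        exact hne h1
    · rintro ⟨hx, hy⟩
      exact F.add_mem hx hy
  · intro h a b
    induction a using AddMonoidAlgebra.induction_linear with
    | zero => simp [AddMonoidAlgebra.comapDomain_zero]
    | add a₁ a₂ h₁ h₂ =>
      rw [add_mul, AddMonoidAlgebra.comapDomain_add, AddMonoidAlgebra.comapDomain_add, h₁, h₂, add_mul]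
    | single x r =>
      induction b using AddMonoidAlgebra.induction_linear with
      | zero => simp [AddMonoidAlgebra.comapDomain_zero]
      | add b₁ b₂ h₁ h₂ =>
        rw [mul_add, AddMonoidAlgebra.comapDomain_add, AddMonoidAlgebra.comapDomain_add, h₁, h₂, mul_add]
      | single y s =>
        rw [AddMonoidAlgebra.single_mul_single]
        by_cases hx : x ∈ F
        · by_cases hy : y ∈ F
          · have hxy : x + y ∈ F := F.add_mem hx hy
            rw [hsingle _ _ hxy hxy, hsingle _ _ hx hx, hsingle _ _ hy hy,
              AddMonoidAlgebra.single_mul_single]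
            rfl
          · have hxy : x + y ∉ F := fun hh => hy ((h x y).1 hh).2
            rw [hsingle0 _ _ hxy, hsingle0 y s hy, mul_zero]
        · have hxy : x + y ∉ F := fun hh => hx ((h x y).1 hh).1
          rw [hsingle0 _ _ hxy, hsingle0 x r hx, zero_mul]

end Groth.Agent.S17683
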