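import Groth.Statements.S17687
import Mathlib

set_option autoImplicit false
universe u v w
open DiagMon

namespace Groth.Agent.S17687



/-- Let R be a commutative ring and A a commutative R-algebra of finite type graded by a commutative
monoid M. Then the set of ideals J_N, N running over all submonoids of M, where J_N is generated by
the homogeneous elements of degree not in N (the ideal of the attractor of Spec A for the magnet N),
is finite: Spec A has finitely many attractors and hence finitely many pure magnets. (The source
assumes Spec A of finite presentation over the base; its proof uses only a finite set of homogeneous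
algebra generators, so finite type is assumed here.) -/
theorem result (R : Type u) [CommRing R] (A : Type v) [CommRing A]
    [Algebra R A] [Algebra.FiniteType R A] (M : Type w) [AddCommMonoid M] [DecidableEq M]
    (𝒜 : M → Submodule R A) [GradedAlgebra 𝒜] :
    (Set.range fun N : AddSubmonoid M => Ideal.span {a : A | ∃ m : M, m ∉ N ∧ a ∈ 𝒜 m}).Finite := by
  classical
  obtain ⟨s, hs⟩ := (Algebra.FiniteType.out : (⊤ : Subalgebra R A).FG)
  let T : Finset (M × A) := s.biUnion fun a =>
    (DirectSum.decompose 𝒜 a).support.image fun m => (m, ((DirectSum.decompose 𝒜 a) m : A))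
  have hT_mem : ∀ p ∈ T, p.2 ∈ 𝒜 p.1 := by
    intro p hp
    obtain ⟨a, -, hp⟩ := Finset.mem_biUnion.mp hp
    obtain ⟨m, -, rfl⟩ := Finset.mem_image.mp hp
    exact SetLike.coe_mem _
  have hT_adj : Algebra.adjoin R ((T.image Prod.snd : Finset A) : Set A) = ⊤ := by
    rw [eq_top_iff, ← hs]
    apply Algebra.adjoin_le
    intro a ha
    rw [SetLike.mem_coe, ← DirectSum.sum_support_decompose 𝒜 a]
    refine Subalgebra.sum_mem _ fun m hm => Algebra.subset_adjoin ?_
    rw [Finset.mem_coe, Finset.mem_image]
    refine ⟨(m, ((DirectSum.decompose 𝒜 a) m : A)), ?_, rfl⟩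
    exact Finset.mem_biUnion.mpr ⟨a, ha, Finset.mem_image.mpr ⟨m, hm, rfl⟩⟩
  let J' : AddSubmonoid M → Ideal A := fun N =>
    Ideal.span (((T.filter fun p => p.1 ∉ N).image Prod.snd : Finset A) : Set A)
  have key : ∀ N : AddSubmonoid M,
      Ideal.span {a : A | ∃ m : M, m ∉ N ∧ a ∈ 𝒜 m} = J' N := by
    intro N
    apply le_antisymm
    · -- every homogeneous element of degree outside N lies in J' N
      have hP : ∀ x : A, x ∈ Algebra.adjoin R ((T.image Prod.snd : Finset A) : Set A) →
          ∀ m, m ∉ N → ((DirectSum.decompose 𝒜 x) m : A) ∈ J' N := by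
        intro x hx
        induction hx using Algebra.adjoin_induction with
        | mem t ht =>
          intro m hm
          rw [Finset.mem_coe, Finset.mem_image] at ht
          obtain ⟨p, hp, rfl⟩ := ht
          by_cases hpm : p.1 = m
          · rw [← hpm, DirectSum.decompose_of_mem_same 𝒜 (hT_mem p hp)]
            refine Ideal.subset_span ?_
            rw [Finset.mem_coe, Finset.mem_image]
            exact ⟨p, Finset.mem_filter.mpr ⟨hp, hpm ▸ hm⟩, rfl⟩
          · rw [DirectSum.decompose_of_mem_ne 𝒜 (hT_mem p hp) hpm]
            exact Ideal.zero_mem _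
        | algebraMap r =>
          intro m hm
          have h0 : m ≠ 0 := fun h => hm (h ▸ N.zero_mem)
          rw [DirectSum.decompose_of_mem_ne 𝒜 (SetLike.algebraMap_mem_graded 𝒜 r) (Ne.symm h0)]
          exact Ideal.zero_mem _
        | add x y _ _ hx hy =>
          intro m hm
          rw [DirectSum.decompose_add, DirectSum.add_apply, Submodule.coe_add]
          exact Ideal.add_mem _ (hx m hm) (hy m hm)
        | mul x y _ _ hx hy =>
          intro m hm
          rw [DirectSum.decompose_mul, DirectSum.coe_mul_apply]
          refine Ideal.sum_mem _ fun ij hij => ?_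
          have hsum : ij.1 + ij.2 = m := (Finset.mem_filter.mp hij).2
          by_cases h1 : ij.1 ∈ N
          · have h2 : ij.2 ∉ N := fun h2 => hm (hsum ▸ N.add_mem h1 h2)
            exact Ideal.mul_mem_left _ _ (hy _ h2)
          · exact Ideal.mul_mem_right _ _ (hx _ h1)
      rw [Ideal.span_le]
      rintro a ⟨m, hm, ha⟩
      have := hP a (by rw [hT_adj]; trivial) m hm
      rwa [DirectSum.decompose_of_mem_same 𝒜 ha] at this
    · rw [Ideal.span_le]
      intro t ht
      rw [Finset.mem_coe, Finset.mem_image] at ht
      obtain ⟨p, hp, rfl⟩ := ht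
      obtain ⟨hpT, hpN⟩ := Finset.mem_filter.mp hp
      exact Ideal.subset_span ⟨p.1, hpN, hT_mem p hpT⟩
  have hsub : (Set.range fun N : AddSubmonoid M =>
      Ideal.span {a : A | ∃ m : M, m ∉ N ∧ a ∈ 𝒜 m}) ⊆
      (fun T' : Finset (M × A) => Ideal.span ((T'.image Prod.snd : Finset A) : Set A)) ''
        (T.powerset : Set (Finset (M × A))) := by
    rintro _ ⟨N, rfl⟩
    refine ⟨T.filter fun p => p.1 ∉ N, ?_, (key N).symm⟩
    rw [Finset.mem_coe, Finset.mem_powerset]
    exact Finset.filter_subset _ _
  exact (Set.Finite.image _ (Finset.finite_toSet _)).subset hsub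

end Groth.Agent.S17687
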