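import Groth.Statements.S18498
import Mathlib
-- import your own Groth.Agent.* helpers here

set_option autoImplicit false
universe u
open CategoryTheory CategoryTheory.Limits AlgebraicGeometry MonObj
open Neron

namespace Groth.Agent.S18498

namespace H5S18498

open CategoryTheory CategoryTheory.Limits AlgebraicGeometry


lemma genPt_dom (R : Type u) [CommRing R] [IsDomain R] :
    IsSchemeTheoreticallyDominant (Neron.genPt R) := by
  haveI : IsDominant (Neron.genPt R) := by
    rw [isDominant_iff]
    refine (PrimeSpectrum.denseRange_comap_iff_ker_le_nilRadical _).mpr ?_
    have h0 : RingHom.ker (algebraMap R (FractionRing R)) = ⊥ :=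
      (RingHom.injective_iff_ker_eq_bot _).mp (IsFractionRing.injective R (FractionRing R))
    intro x hx
    have : x ∈ RingHom.ker (algebraMap R (FractionRing R)) := hx
    rw [h0] at this
    rw [Ideal.mem_bot.mp this]
    exact Ideal.zero_mem _
  exact IsSchemeTheoreticallyDominant.of_isDominant _

end H5S18498

namespace H5S18498

open CategoryTheory CategoryTheory.Limits AlgebraicGeometry


theorem main (R : Type u) [CommRing R] [IsDedekindDomain R]
    (X Y : Over (Spec (CommRingCat.of R))) [Flat X.hom] [IsSeparated Y.hom] (f g : X ⟶ Y)
    (h : (Neron.genericFibre R).map f = (Neron.genericFibre R).map g) : f = g := by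
  haveI := genPt_dom R
  haveI : QuasiCompact (Neron.genPt R) := inferInstance
  -- the projection from the generic fibre is scheme-theoretically dominant
  have hdom : IsSchemeTheoreticallyDominant (pullback.fst X.hom (Neron.genPt R)) := inferInstance
  -- it equalizes f and g
  have heq : pullback.fst X.hom (Neron.genPt R) ≫ f.left =
      pullback.fst X.hom (Neron.genPt R) ≫ g.left := by
    have e1 : ((Over.pullback (Neron.genPt R)).map f).left ≫ pullback.fst Y.hom (Neron.genPt R) =
        pullback.fst X.hom (Neron.genPt R) ≫ f.left := by
      simp only [Over.pullback_map_left]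
      exact pullback.lift_fst _ _ _
    have e2 : ((Over.pullback (Neron.genPt R)).map g).left ≫ pullback.fst Y.hom (Neron.genPt R) =
        pullback.fst X.hom (Neron.genPt R) ≫ g.left := by
      simp only [Over.pullback_map_left]
      exact pullback.lift_fst _ _ _
    rw [← e1, ← e2]
    have : (Over.pullback (Neron.genPt R)).map f = (Over.pullback (Neron.genPt R)).map g := h
    rw [this]
  -- the equalizer in Over
  let j : Over.mk (pullback.fst X.hom (Neron.genPt R) ≫ X.hom) ⟶ X :=
    Over.homMk (pullback.fst X.hom (Neron.genPt R)) rfl
  have hj : j ≫ f = j ≫ g := by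
    ext
    exact heq
  let l := equalizer.lift j hj
  have hl : l.left ≫ (equalizer.ι f g).left = pullback.fst X.hom (Neron.genPt R) := by
    rw [← Over.comp_left, equalizer.lift_ι]
    rfl
  haveI : IsClosedImmersion (equalizer.ι f g).left := inferInstance
  have hker : (equalizer.ι f g).left.ker = ⊥ := by
    have h1 := Scheme.Hom.le_ker_comp l.left (equalizer.ι f g).left
    rw [hl, hdom.ker_eq_bot] at h1
    exact le_bot_iff.mp h1
  haveI : IsIso (equalizer.ι f g).left := IsClosedImmersion.isIso_iff_ker_eq_bot.mpr hker
  haveI : IsIso ((Over.forget _).map (equalizer.ι f g)) := by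
    change IsIso (equalizer.ι f g).left
    infer_instance
  haveI : IsIso (equalizer.ι f g) := isIso_of_reflects_iso (equalizer.ι f g) (Over.forget _)
  exact (cancel_epi (equalizer.ι f g)).mp (equalizer.condition f g)

end H5S18498

/-- Let R be a Dedekind domain with fraction field K, X a Spec R-scheme which is flat over Spec R, Y a
Spec R-scheme which is separated over Spec R, and f, g : X → Y two R-morphisms whose restrictions to
generic fibres X_K → Y_K are equal. Then f = g: an R-morphism from a flat R-scheme to a separated
R-scheme is determined by its generic fibre. (The source states this for algebraic spaces over a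
connected Dedekind scheme; the case of schemes over an affine base is stated.) -/
theorem result (R : Type u) [CommRing R] [IsDedekindDomain R]
    (X Y : Over (Spec (CommRingCat.of R))) [Flat X.hom] [IsSeparated Y.hom] (f g : X ⟶ Y)
    (h : (Neron.genericFibre R).map f = (Neron.genericFibre R).map g) : f = g := by
  exact H5S18498.main R X Y f g h

end Groth.Agent.S18498
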