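import Groth.Statements.S17688
import Mathlib
import Groth.Agent.S18498
-- import your own Groth.Agent.* helpers here

set_option autoImplicit false
universe u
open CategoryTheory CategoryTheory.Limits AlgebraicGeometry MonObj
open Neron

namespace Groth.Agent.S17688

namespace H5S17688

open CategoryTheory CategoryTheory.Limits AlgebraicGeometry MonObj


theorem main
    (R : Type u) [CommRing R] [IsDomain R] [IsDiscreteValuationRing R]
    (p : ℕ) (hp : p.Prime) [CharP (FractionRing R) p]
    (U : Over (Spec (CommRingCat.of R))) [GrpObj U] [IsCommMonObj U] [Flat U.hom] [IsSeparated U.hom]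
    (N : ℕ) (hN : (𝟙 (Red.bc (Neron.genPt R) U) : Red.bc (Neron.genPt R) U ⟶ Red.bc (Neron.genPt R) U) ^ (p ^ N) = 1)
    (ℓ : ℕ) (hℓ : ℓ.Prime) (hℓu : IsUnit (ℓ : R)) :
    IsIso ((𝟙 U : U ⟶ U) ^ ℓ) := by
  -- ℓ ≠ p
  have hne : ℓ ≠ p := by
    rintro rfl
    have h1 : IsUnit ((ℓ : ℕ) : FractionRing R) := by
      have := hℓu.map (algebraMap R (FractionRing R))
      simpa using this
    have h2 : ((ℓ : ℕ) : FractionRing R) = 0 := CharP.cast_eq_zero _ _
    rw [h2] at h1
    exact not_isUnit_zero h1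
  have hcop : Nat.Coprime ℓ (p ^ N) := Nat.Coprime.pow_right _ ((Nat.coprime_primes hℓ hp).mpr hne)
  -- the p^N power of the identity is trivial
  have hx : (𝟙 U : U ⟶ U) ^ (p ^ N) = 1 := by
    apply Groth.Agent.S18498.H5S18498.main R U U
    have e1 : (Neron.genericFibre R).map ((𝟙 U : U ⟶ U) ^ (p ^ N)) =
        ((Neron.genericFibre R).map (𝟙 U)) ^ (p ^ N) :=
      map_pow (Functor.homMonoidHom (Over.pullback (Neron.genPt R)) (X := U) (M := U)) _ _
    have e2 : (Neron.genericFibre R).map (1 : U ⟶ U) = 1 :=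
      Functor.map_one (Over.pullback (Neron.genPt R))
    rw [e1, e2, CategoryTheory.Functor.map_id]
    exact hN
  -- group theory in Hom(U,U)
  letI : Group (U ⟶ U) := Hom.group
  have hord : orderOf (𝟙 U : U ⟶ U) ∣ p ^ N := orderOf_dvd_of_pow_eq_one hx
  have hcop' : Nat.Coprime ℓ (orderOf (𝟙 U : U ⟶ U)) := Nat.Coprime.coprime_dvd_right hord hcop
  obtain ⟨a, ha⟩ := exists_pow_eq_self_of_coprime hcop'
  refine ⟨(𝟙 U : U ⟶ U) ^ a, ?_, ?_⟩
  · rw [MonObj.comp_pow, Category.comp_id]
    exact ha
  · rw [MonObj.comp_pow, Category.comp_id, ← pow_mul, mul_comm, pow_mul]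
    exact ha

end H5S17688

/-- Let R be a discrete valuation ring whose fraction field K has characteristic p > 0, and let U be a
flat, separated, commutative group scheme over Spec R whose generic fibre U_K is annihilated by a
power p^N of p (in the group of endomorphisms of U_K as a K-scheme, the p^N-th power of the identity
is the unit). Then for every prime ℓ invertible in R the ℓ-th power map of U (the ℓ-th power of the
identity in the group of R-morphisms U → U) is an isomorphism. -/
theorem result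
    (R : Type u) [CommRing R] [IsDomain R] [IsDiscreteValuationRing R]
    (p : ℕ) (hp : p.Prime) [CharP (FractionRing R) p]
    (U : Over (Spec (CommRingCat.of R))) [GrpObj U] [IsCommMonObj U] [Flat U.hom] [IsSeparated U.hom]
    (N : ℕ) (hN : (𝟙 (Red.bc (Neron.genPt R) U) : Red.bc (Neron.genPt R) U ⟶ Red.bc (Neron.genPt R) U) ^ (p ^ N) = 1)
    (ℓ : ℕ) (hℓ : ℓ.Prime) (hℓu : IsUnit (ℓ : R)) :
    IsIso ((𝟙 U : U ⟶ U) ^ ℓ) := by
  exact H5S17688.main R p hp U N hN ℓ hℓ hℓu

end Groth.Agent.S17688
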