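import Groth.Statements.S17689
import Groth.Agent.Lib.helper11.CharPUH
import Mathlib.RingTheory.DedekindDomain.Dvr

set_option autoImplicit false
universe u
open CategoryTheory AlgebraicGeometry
open Neron

namespace Groth.Agent.S17689


open CategoryTheory AlgebraicGeometry
open Groth.Agent.Lib.helper11.UHRing Groth.Agent.Lib.helper11.CharPUH

/-- Let R ⊆ S be a finite extension of discrete valuation rings (the structure map R → S is injective
and S is a finite R-module) such that the induced extension K ⊆ L of fraction fields is purely
inseparable. Then the morphism Spec S → Spec R is a universal homeomorphism: every base change of it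
is a homeomorphism on underlying spaces. (No excellence hypothesis is needed here.) -/
theorem result
    (R S K L : Type u) [CommRing R] [IsDomain R] [IsDiscreteValuationRing R]
    [CommRing S] [IsDomain S] [IsDiscreteValuationRing S] [Algebra R S] [Module.Finite R S] [FaithfulSMul R S]
    [Field K] [Field L] [Algebra R K] [IsFractionRing R K] [Algebra S L] [IsFractionRing S L]
    [Algebra K L] [Algebra R L] [IsScalarTower R S L] [IsScalarTower R K L] [IsPurelyInseparable K L] :
    FlatMor.IsUnivHomeo (Spec.map (CommRingCat.ofHom (algebraMap R S))) := by

  have hinjRS : Function.Injective (algebraMap R S) := FaithfulSMul.algebraMap_injective R S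
  have hinjSL : Function.Injective (algebraMap S L) := IsFractionRing.injective S L
  have hinjRK : Function.Injective (algebraMap R K) := IsFractionRing.injective R K
  have hker : ∀ a, algebraMap R S a = 0 → IsNilpotent a := fun a ha => by
    have : a = 0 := hinjRS (by rw [ha, map_zero])
    rw [this]
    exact IsNilpotent.zero
  obtain ⟨q, hq⟩ : ∃ q, ExpChar K q := ⟨ringExpChar K, inferInstance⟩
  have key : ∀ s : S, ∃ n : ℕ, s ^ q ^ n ∈ (algebraMap R S).range := by
    intro s
    obtain ⟨n, k, hk⟩ := IsPurelyInseparable.pow_mem K q (algebraMap S L s)
    have hint : IsIntegral R (s ^ q ^ n) := Algebra.IsIntegral.isIntegral _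
    have hint2 : IsIntegral R (algebraMap K L k) := by
      rw [hk, ← map_pow]
      exact hint.map (IsScalarTower.toAlgHom R S L)
    have hint3 : IsIntegral R k :=
      (isIntegral_algHom_iff (IsScalarTower.toAlgHom R K L) (algebraMap K L).injective).mp hint2
    obtain ⟨r, hr⟩ := IsIntegrallyClosed.isIntegral_iff.mp hint3
    refine ⟨n, r, hinjSL ?_⟩
    rw [map_pow, ← hk, ← hr, ← IsScalarTower.algebraMap_apply, ← IsScalarTower.algebraMap_apply]
  cases hq with
  | zero =>
    refine uh_of_surjective _ (fun s => ?_) hker
    obtain ⟨n, r, hr⟩ := key s
    exact ⟨r, by simpa using hr⟩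
  | prime hprime =>
    haveI : Fact q.Prime := ⟨hprime⟩
    have h0 : (q : R) = 0 := hinjRK (by rw [map_natCast, map_zero]; exact CharP.cast_eq_zero K q)
    haveI : CharP S q := (CharP.charP_iff_prime_eq_zero hprime).mpr (by
      rw [← map_natCast (algebraMap R S), h0, map_zero])
    exact uh_of_pow_mem q (algebraMap R S) hker key

end Groth.Agent.S17689
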