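import Groth.Statements.S17714
import Mathlib
import Groth.Agent.Lib.helper26.Todd2

set_option autoImplicit false
open MoretBailly

namespace Groth.Agent.S17714


open Groth.Agent.Lib.helper26 in
theorem aux0 (n d : ℕ) (s : ℤ) (hn : 2 ≤ n) (h4 : n % 4 = 0) (hd : 1 ≤ d) :
    ∃ P : ℕ, ∀ p : ℕ, P ≤ p → (toddPoly n d s).eval (p : ℚ) < 0 := by
  apply eventually_neg_of_leadingCoeff_neg _ n (by omega)
  · rw [toddPoly_coeff, if_pos (by omega), toddC_top]
    have hB := bernoulli'_neg_of_mod_four n hn h4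
    have hd' : (0 : ℚ) < (d : ℚ) ^ n := by positivity
    have hf : (0 : ℚ) < (n.factorial : ℚ) := by positivity
    exact mul_neg_of_pos_of_neg hd' (div_neg_of_neg_of_pos hB hf)
  · intro j hj
    rw [toddPoly_coeff, if_neg (by omega)]

open Groth.Agent.Lib.helper26 in
/-- odd case: `n = m + 1` with `m % 4 = 0` or `m % 4 = 2`; sign of second coefficient -/
theorem aux1 (m d : ℕ) (s : ℤ) (hm : 2 ≤ m) (heven : m % 2 = 0)
    (hneg : bernoulli' m * ((2 * (s : ℚ) - d - (m + 1 : ℕ) - 1) / 2) < 0) (hd : 1 ≤ d) :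
    ∃ P : ℕ, ∀ p : ℕ, P ≤ p → (toddPoly (m + 1) d s).eval (p : ℚ) < 0 := by
  apply eventually_neg_of_leadingCoeff_neg _ m (by omega)
  · rw [toddPoly_coeff, if_pos (by omega), toddC_second]
    have hd' : (0 : ℚ) < (d : ℚ) ^ m := by positivity
    have hf : (0 : ℚ) < (m.factorial : ℚ) := by positivity
    have : (d : ℚ) ^ m * (bernoulli' m / (m.factorial : ℚ)) *
        ((2 * (s : ℚ) - d - (m + 1 : ℕ) - 1) / 2) =
        ((d : ℚ) ^ m / (m.factorial : ℚ)) * (bernoulli' m * ((2 * (s : ℚ) - d - (m + 1 : ℕ) - 1) / 2)) := by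
      field_simp
    rw [this]
    exact mul_neg_of_pos_of_neg (div_pos hd' hf) hneg
  · intro j hj
    rw [toddPoly_coeff]
    split_ifs with h
    · have hj' : j = m + 1 := by omega
      subst hj'
      rw [toddC_top, bernoulli'_eq_zero_of_odd (by rw [Nat.odd_iff]; omega) (by omega)]
      simp
    · rfl


/-- Let n ≥ 2 and d ≥ 1 be natural numbers with n congruent to 0 or 1 modulo 4, and s an integer with 2s
> n + d + 1. Write B(x) = x/(1 - e^(-x)) for the exponential generating series of the Bernoulli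
numbers (B'_1 = 1/2). Then for all sufficiently large natural numbers p the coefficient of x^n in
B(-dx)^(-1) B(-dpx) B(x)^(n+1) e^((dp-d-n-1+s)x) is strictly negative. (The published statement
asserts this for every n ≥ 2 not congruent to 2 modulo 4. For n congruent to 3 modulo 4 the
coefficient is a polynomial in p of degree n - 1 with leading coefficient (2s-d-n-1) B'_(n-1)
d^(n-1)/(2 (n-1)!) > 0, so it is eventually positive: for n = 3, d = 1, s = 3 it equals (p^2 -
1)/24. The residues 0 and 1 are exactly the ones the leading-term argument gives.) -/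
theorem result (n d : ℕ) (s : ℤ) (hn : 2 ≤ n)
    (hmod : n % 4 = 0 ∨ n % 4 = 1) (hd : 1 ≤ d) (hs : (n : ℤ) + d + 1 < 2 * s) :
    ∃ P : ℕ, ∀ p : ℕ, P ≤ p →
      PowerSeries.coeff n ((PowerSeries.rescale (-(d : ℚ)) (bernoulli'PowerSeries ℚ))⁻¹ * PowerSeries.rescale (-((d : ℚ) * p)) (bernoulli'PowerSeries ℚ) * bernoulli'PowerSeries ℚ ^ (n + 1) * PowerSeries.rescale ((d : ℚ) * p - d - n - 1 + s) (PowerSeries.exp ℚ)) < 0 := by
  open Groth.Agent.Lib.helper26 in
  simp only [todd_coeff, ← toddPoly_eval]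
  rcases hmod with h4 | h4
  · exact aux0 n d s hn h4 hd
  · obtain ⟨m, rfl⟩ : ∃ m, n = m + 1 := ⟨n - 1, by omega⟩
    apply aux1 m d s (by omega) (by omega) _ hd
    open Groth.Agent.Lib.helper26 in
    have hB := bernoulli'_neg_of_mod_four m (by omega) (by omega)
    apply mul_neg_of_neg_of_pos hB
    have : ((m + 1 : ℕ) : ℚ) + d + 1 < 2 * (s : ℚ) := by exact_mod_cast hs
    linarith

end Groth.Agent.S17714
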