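import Groth.Statements.S17721
import Mathlib

set_option autoImplicit false
universe u
open CAlg

namespace Groth.Agent.S17721


open PowerSeries in
theorem key {R : Type u} [CommRing R] [IsDomain R] [IsDiscreteValuationRing R] (ϖ : R)
    (hϖ : Irreducible ϖ) :
    ∀ (n : ℕ) (g f : PowerSeries R) (d : R), g * f = PowerSeries.C d → Associated d (ϖ ^ n) →
      ∀ i, PowerSeries.coeff 0 f ∣ PowerSeries.coeff i f := by
  intro n
  induction n with
  | zero =>
    intro g f d hgf hd i
    have hdu : IsUnit d := by
      rw [pow_zero] at hd
      exact hd.symm.isUnit isUnit_one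
    have h00 : PowerSeries.coeff 0 g * PowerSeries.coeff 0 f = d := by
      have := congrArg (PowerSeries.coeff 0) hgf
      simpa [PowerSeries.coeff_mul] using this
    have : IsUnit (PowerSeries.coeff 0 f) := by
      rw [← h00] at hdu
      exact isUnit_of_mul_isUnit_right hdu
    exact this.dvd
  | succ m ih =>
    intro g f d hgf hd i
    by_cases hfu : IsUnit (PowerSeries.coeff 0 f)
    · exact hfu.dvd
    obtain ⟨u, hu⟩ := hd.symm
    -- d = ϖ^(m+1) * u
    set d' : R := ϖ ^ m * u with hd'
    have hdd' : d = ϖ * d' := by rw [← hu, hd', pow_succ]; ring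
    have hd'a : Associated d' (ϖ ^ m) := (Associated.symm ⟨u, rfl⟩)
    have hmax : IsLocalRing.maximalIdeal R = Ideal.span {ϖ} := hϖ.maximalIdeal_eq
    have hCϖ : (PowerSeries.C ϖ : PowerSeries R) ≠ 0 := by
      intro h
      have := congrArg (PowerSeries.coeff 0) h
      simp at this
      exact hϖ.ne_zero this
    -- factor out ϖ from a series with all coeffs in the max ideal
    have factor : ∀ h : PowerSeries R, PowerSeries.map (IsLocalRing.residue R) h = 0 →
        ∃ h' : PowerSeries R, h = PowerSeries.C ϖ * h' := by
      intro h hh
      have hmem : ∀ j, ϖ ∣ PowerSeries.coeff j h := by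
        intro j
        have := congrArg (PowerSeries.coeff j) hh
        rw [PowerSeries.coeff_map, map_zero, IsLocalRing.residue_eq_zero_iff, hmax,
          Ideal.mem_span_singleton] at this
        exact this
      choose c hc using hmem
      refine ⟨PowerSeries.mk c, ?_⟩
      ext j
      rw [PowerSeries.coeff_C_mul, PowerSeries.coeff_mk, hc j]
    have hred : PowerSeries.map (IsLocalRing.residue R) g * PowerSeries.map (IsLocalRing.residue R) f = 0 := by
      rw [← map_mul, hgf, PowerSeries.map_C]
      have : IsLocalRing.residue R d = 0 := by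
        rw [IsLocalRing.residue_eq_zero_iff, hmax, Ideal.mem_span_singleton, hdd']
        exact dvd_mul_right _ _
      rw [this, map_zero]
    rcases mul_eq_zero.mp hred with hg0 | hf0
    · obtain ⟨g', hg'⟩ := factor g hg0
      have : g' * f = PowerSeries.C d' := by
        apply mul_left_cancel₀ hCϖ
        rw [← mul_assoc, ← hg', hgf, hdd', map_mul]
      exact ih g' f d' this hd'a i
    · obtain ⟨f', hf'⟩ := factor f hf0
      have : g * f' = PowerSeries.C d' := by
        apply mul_left_cancel₀ hCϖ
        rw [mul_left_comm, ← hf', hgf, hdd', map_mul]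
      have h1 := ih g f' d' this hd'a i
      rw [hf', PowerSeries.coeff_C_mul, PowerSeries.coeff_C_mul]
      exact mul_dvd_mul_left _ h1

open Polynomial IsLocalRing in
/-- Let R be a complete discrete valuation ring with fraction field K, and f a polynomial over R with
non-zero constant term a₀ such that a₀ does not divide some coefficient of f of positive degree
(equivalently, the Newton polygon of f has a side of negative slope). Let b be the power series over
K with b · f = a₀, the expansion of the geometric series in 1 − f/a₀. Then the valuations of the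
coefficients b_j are not bounded below: for every non-zero c in R there is an index j with c · b_j
outside R. -/
theorem result
    (R : Type u) [CommRing R] [IsDomain R] [IsDiscreteValuationRing R]
    [IsAdicComplete (maximalIdeal R) R]
    (K : Type u) [Field K] [Algebra R K] [IsFractionRing R K]
    (f : R[X]) (h0 : f.coeff 0 ≠ 0) (hslope : ∃ i : ℕ, 0 < i ∧ ¬ (f.coeff 0 ∣ f.coeff i))
    (b : PowerSeries K)
    (hb : b * ((f.map (algebraMap R K) : K[X]) : PowerSeries K) = PowerSeries.C (algebraMap R K (f.coeff 0))) :
    ∀ c : R, c ≠ 0 → ∃ j : ℕ, algebraMap R K c * PowerSeries.coeff j b ∉ (algebraMap R K).range := by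
  intro c hc
  by_contra hcon
  push Not at hcon
  choose g hg using hcon
  obtain ⟨ϖ, hϖ⟩ := IsDiscreteValuationRing.exists_irreducible R
  have hinj : Function.Injective (algebraMap R K) := IsFractionRing.injective R K
  have hmap : PowerSeries.map (algebraMap R K) (PowerSeries.mk g) = PowerSeries.C (algebraMap R K c) * b := by
    ext j
    rw [PowerSeries.coeff_map, PowerSeries.coeff_mk, PowerSeries.coeff_C_mul]
    exact hg j
  have hfmap : PowerSeries.map (algebraMap R K) (f : PowerSeries R) = ((f.map (algebraMap R K) : K[X]) : PowerSeries K) := by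
    ext j
    simp [Polynomial.coeff_coe]
  have hgf : PowerSeries.mk g * (f : PowerSeries R) = PowerSeries.C (c * f.coeff 0) := by
    have hinj' : Function.Injective (PowerSeries.map (algebraMap R K)) := by
      intro a b hab
      ext j
      have := congrArg (PowerSeries.coeff j) hab
      rw [PowerSeries.coeff_map, PowerSeries.coeff_map] at this
      exact hinj this
    apply hinj'
    rw [map_mul, hmap, hfmap, mul_assoc, hb, PowerSeries.map_C, map_mul, map_mul]
  have hne : c * f.coeff 0 ≠ 0 := mul_ne_zero hc h0
  obtain ⟨n, hn⟩ := IsDiscreteValuationRing.associated_pow_irreducible hne hϖ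
  have := key ϖ hϖ n _ _ _ hgf hn
  obtain ⟨i, -, hi⟩ := hslope
  apply hi
  have h2 := this i
  rwa [Polynomial.coeff_coe, Polynomial.coeff_coe] at h2

end Groth.Agent.S17721
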