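import Groth.Statements.S17722
import Mathlib

set_option autoImplicit false
universe u
open CAlg

namespace Groth.Agent.S17722


open TensorProduct in
/-- a free ideal is principal -/
theorem free_ideal_isPrincipal {R : Type*} [CommRing R] [Nontrivial R] (p : Ideal R)
    [Module.Free R p] : p.IsPrincipal := by
  classical
  obtain ⟨⟨ι, b⟩⟩ := Module.Free.exists_basis (R := R) (M := p)
  have hsub : Subsingleton ι := by
    constructor
    intro i j
    by_contra hij
    have h1 : (b j : R) • b i = (b i : R) • b j := by
      ext
      simp [mul_comm]
    have h2 := congrArg (fun x => b.repr x i) h1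
    simp only [map_smul, Module.Basis.repr_self, Finsupp.smul_single, smul_eq_mul, mul_one,
      Finsupp.single_eq_same, Finsupp.single_apply, if_neg (Ne.symm hij)] at h2
    have h3 : b j = 0 := Subtype.ext h2
    exact b.ne_zero j h3
  by_cases hne : Nonempty ι
  · obtain ⟨i⟩ := hne
    refine ⟨⟨(b i : R), ?_⟩⟩
    apply le_antisymm
    · intro x hx
      have hx' : (⟨x, hx⟩ : p) = (b.repr ⟨x, hx⟩ i) • b i := by
        apply b.ext_elem
        intro k
        have hk : k = i := Subsingleton.elim k i
        subst hk
        simp
      have hx'' : x = (b.repr ⟨x, hx⟩ i) * (b i : R) := by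
        have := congrArg Subtype.val hx'
        simpa using this
      rw [Ideal.submodule_span_eq, Ideal.mem_span_singleton']
      exact ⟨_, hx''.symm⟩
    · rw [Ideal.submodule_span_eq, Ideal.span_singleton_le_iff_mem]
      exact (b i).2
  · rw [not_nonempty_iff] at hne
    have : p = ⊥ := by
      rw [eq_bot_iff]
      intro x hx
      have : (⟨x, hx⟩ : p) = 0 := by
        apply b.ext_elem
        intro k
        exact (hne.false k).elim
      have := congrArg Subtype.val this
      simpa using this
    rw [this]
    exact bot_isPrincipal


/-- Let R → R' be a faithfully flat ring map between Noetherian integrally closed local domains, and p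
an ideal of R. If the ideal pR' generated by the image of p is principal, then p is principal. (The
second assertion of the published lemma, descent of unique factorization, is not part of this row.) -/
theorem result
    (R R' : Type u) [CommRing R] [CommRing R'] [IsDomain R] [IsDomain R']
    [IsNoetherianRing R] [IsNoetherianRing R'] [IsLocalRing R] [IsLocalRing R']
    [IsIntegrallyClosed R] [IsIntegrallyClosed R']
    [Algebra R R'] [Module.FaithfullyFlat R R']
    (p : Ideal R) (hp : (p.map (algebraMap R R')).IsPrincipal) :
    p.IsPrincipal := by
  classical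
  obtain ⟨a, ha⟩ := hp
  by_cases ha0 : a = 0
  · have h0 : p.map (algebraMap R R') = ⊥ := by rw [ha, ha0]; simp
    have hp0 : p = ⊥ := by
      apply Ideal.map_injective_of_faithfullyFlat (B := R')
      rw [h0, Ideal.map_bot]
    rw [hp0]; exact bot_isPrincipal
  open TensorProduct in
  let φ : R' ⊗[R] p →ₗ[R'] R' :=
    (TensorProduct.AlgebraTensorModule.rid R R' R').toLinearMap ∘ₗ (p.subtype.baseChange R')
  have hφ_apply : ∀ (r' : R') (x : p), φ (r' ⊗ₜ x) = r' * algebraMap R R' x := by
    intro r' x
    simp [φ, Algebra.smul_def, mul_comm]
  have hφ_inj : Function.Injective φ := by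
    have h1 : Function.Injective (p.subtype.baseChange R') :=
      Module.Flat.lTensor_preserves_injective_linearMap (M := R') p.subtype Subtype.val_injective
    intro x y hxy
    apply h1
    exact (TensorProduct.AlgebraTensorModule.rid R R' R').injective hxy
  have hrange : LinearMap.range φ = p.map (algebraMap R R') := by
    apply le_antisymm
    · rintro _ ⟨t, rfl⟩
      refine TensorProduct.induction_on t ?_ ?_ ?_
      · simp
      · intro r' x
        rw [hφ_apply]
        exact Ideal.mul_mem_left _ _ (Ideal.mem_map_of_mem _ x.2)
      · intro x y hx hy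
        rw [map_add]; exact Ideal.add_mem _ hx hy
    · rw [Ideal.map, Ideal.span_le]
      rintro _ ⟨x, hx, rfl⟩
      refine ⟨(1 : R') ⊗ₜ[R] (⟨x, hx⟩ : p), ?_⟩
      rw [hφ_apply]; simp
  let e : (TensorProduct R R' p) ≃ₗ[R'] R' :=
    (LinearEquiv.ofInjective φ hφ_inj).trans
      ((LinearEquiv.ofEq _ _ (hrange.trans ha)).trans
        (LinearEquiv.toSpanNonzeroSingleton R' R' a ha0).symm)
  have : Module.Flat R' (TensorProduct R R' p) := Module.Flat.of_linearEquiv e
  have : Module.Flat R p := Module.Flat.of_flat_tensorProduct R p R'
  have : Module.Free R p := Module.free_of_flat_of_isLocalRing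
  exact free_ideal_isPrincipal p

end Groth.Agent.S17722
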