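import Groth.Statements.S17723
import Mathlib

set_option autoImplicit false
universe u
open LabGraph

namespace Groth.Agent.S17723

section aux
variable {V E : Type u} [Fintype V] [Fintype E] [DecidableEq V] [DecidableEq E]
variable (ends : E → V × V) (l : E → ℕ)

/-- the span of the elementary-Cartier functions -/
def SS : Submodule ℤ (V → ℤ) := Submodule.span ℤ {g : V → ℤ | ∃ n : ℕ, 0 < n ∧ (∀ v, (n : ℤ) ∣ g v) ∧
      ∀ e, ¬ (l e ∣ n) → g (ends e).1 = g (ends e).2}

lemma mem_SS_of (g : V → ℤ) (n : ℕ) (hn : 0 < n) (h1 : ∀ v, (n : ℤ) ∣ g v)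
    (h2 : ∀ e, ¬ (l e ∣ n) → g (ends e).1 = g (ends e).2) : g ∈ SS ends l :=
  Submodule.subset_span ⟨n, hn, h1, h2⟩

lemma digit_step (q : ℕ) (hq : q.Prime) (j : ℕ) (N' : ℕ) (hN' : 0 < N')
    (hdiv : ∀ e, ¬ (q ^ (j + 1) ∣ l e) → l e ∣ N' * q ^ j)
    (fj : V → ℤ) (hfj : ∀ e i, q ^ (i + j) ∣ l e → (q : ℤ) ^ i ∣ fj (ends e).1 - fj (ends e).2) :
    ∃ fj' : V → ℤ, (fun v => (N' : ℤ) * (q : ℤ) ^ j * (fj v - q * fj' v)) ∈ SS ends l ∧
      ∀ e i, q ^ (i + (j + 1)) ∣ l e → (q : ℤ) ^ i ∣ fj' (ends e).1 - fj' (ends e).2 := by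
  classical
  let r : V → V → Prop := fun a b => ∃ e, q ^ (j + 1) ∣ l e ∧ (ends e = (a, b) ∨ ends e = (b, a))
  let st : Setoid V := Relation.EqvGen.setoid r
  let rep : V → V := fun v => (Quotient.mk st v).out
  have hrep : ∀ v, Relation.EqvGen r (rep v) v := fun v => Quotient.mk_out (s := st) v
  have hq0 : (q : ℤ) ≠ 0 := by exact_mod_cast hq.ne_zero
  have key : ∀ a b, Relation.EqvGen r a b → (q : ℤ) ∣ fj a - fj b := by
    intro a b hab
    induction hab with
    | rel a b hr =>
      obtain ⟨e, he, hends | hends⟩ := hr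
      · have := hfj e 1 (by simpa [add_comm] using he)
        rw [hends] at this; simpa using this
      · have := hfj e 1 (by simpa [add_comm] using he)
        rw [hends] at this
        have h2 : fj a - fj b = -(fj b - fj a) := by ring
        rw [h2]; exact (dvd_neg).2 (by simpa using this)
    | refl a => simp
    | symm a b _ ih =>
      have h2 : fj b - fj a = -(fj a - fj b) := by ring
      rw [h2]; exact (dvd_neg).2 ih
    | trans a b c _ _ ih1 ih2 =>
      have h2 : fj a - fj c = (fj a - fj b) + (fj b - fj c) := by ring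
      rw [h2]; exact dvd_add ih1 ih2
  let h : V → ℤ := fun v => fj (rep v)
  have hdvd : ∀ v, (q : ℤ) ∣ fj v - h v := fun v => key v (rep v) (Relation.EqvGen.symm _ _ (hrep v))
  have hedge : ∀ e, q ^ (j + 1) ∣ l e → h (ends e).1 = h (ends e).2 := by
    intro e he
    have : Quotient.mk st (ends e).1 = Quotient.mk st (ends e).2 :=
      Quotient.sound (Relation.EqvGen.rel _ _ ⟨e, he, Or.inl rfl⟩)
    simp only [h, rep, this]
  refine ⟨fun v => (fj v - h v) / q, ?_, ?_⟩
  · have hfun : (fun v => (N' : ℤ) * (q : ℤ) ^ j * (fj v - q * ((fj v - h v) / q))) =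
        fun v => (N' : ℤ) * (q : ℤ) ^ j * h v := by
      funext v
      rw [Int.mul_ediv_cancel' (hdvd v)]; ring
    rw [hfun]
    refine mem_SS_of ends l _ (N' * q ^ j) (Nat.mul_pos hN' (pow_pos hq.pos j)) ?_ ?_
    · intro v
      push_cast
      exact Dvd.intro _ rfl
    · intro e he
      have : q ^ (j + 1) ∣ l e := by
        by_contra hcon
        exact he (hdiv e hcon)
      simp only [hedge e this]
  · intro e i he
    have he1 : q ^ (j + 1) ∣ l e := dvd_trans (pow_dvd_pow q (by omega)) he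
    have hh := hedge e he1
    have h1 := hfj e (i + 1) (by convert he using 2; ring)
    have e1 := Int.mul_ediv_cancel' (hdvd (ends e).1)
    have e2 := Int.mul_ediv_cancel' (hdvd (ends e).2)
    have h3 : fj (ends e).1 - fj (ends e).2 =
        (q : ℤ) * ((fj (ends e).1 - h (ends e).1) / q - (fj (ends e).2 - h (ends e).2) / q) := by
      rw [mul_sub, e1, e2, hh]; ring
    rw [h3, pow_succ'] at h1
    exact (mul_dvd_mul_iff_left hq0).1 h1

lemma digits (hl : ∀ e, 0 < l e) (f : V → ℤ) (hf : LabGraph.IsCartier ends l f)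
    (q : ℕ) (hq : q.Prime) (N' : ℕ) (hN' : 0 < N')
    (hdiv : ∀ e j, ¬ (q ^ (j + 1) ∣ l e) → l e ∣ N' * q ^ j) (j : ℕ) :
    ∃ fj : V → ℤ, (fun v => (N' : ℤ) * (f v - (q : ℤ) ^ j * fj v)) ∈ SS ends l ∧
      ∀ e i, q ^ (i + j) ∣ l e → (q : ℤ) ^ i ∣ fj (ends e).1 - fj (ends e).2 := by
  induction j with
  | zero =>
    refine ⟨f, ?_, ?_⟩
    · have : (fun v => (N' : ℤ) * (f v - (q : ℤ) ^ 0 * f v)) = 0 := by
        funext v; simp
      rw [this]; exact Submodule.zero_mem _
    · intro e i he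
      have h1 : ((q ^ i : ℕ) : ℤ) ∣ (l e : ℤ) := by exact_mod_cast (by simpa using he)
      have := dvd_trans h1 (hf e)
      simpa using this
  | succ j ih =>
    obtain ⟨fj, h1, h2⟩ := ih
    obtain ⟨fj', h3, h4⟩ := digit_step ends l q hq j N' hN' (fun e => hdiv e j) fj h2
    refine ⟨fj', ?_, h4⟩
    have : (fun v => (N' : ℤ) * (f v - (q : ℤ) ^ (j + 1) * fj' v)) =
        (fun v => (N' : ℤ) * (f v - (q : ℤ) ^ j * fj v)) +
          (fun v => (N' : ℤ) * (q : ℤ) ^ j * (fj v - q * fj' v)) := by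
      funext v
      simp only [Pi.add_apply]
      ring
    rw [this]
    exact Submodule.add_mem _ h1 h3

lemma hdiv_of (hl : ∀ e, 0 < l e) (q : ℕ) (hq : q.Prime) (a N' N : ℕ) (hN : N = q ^ a * N')
    (hqN' : ¬ q ∣ N') (hlN : ∀ e, l e ∣ N) :
    ∀ e j, ¬ (q ^ (j + 1) ∣ l e) → l e ∣ N' * q ^ j := by
  intro e j hnd
  obtain ⟨b, l', hl', hb⟩ := Nat.exists_eq_pow_mul_and_not_dvd (hl e).ne' q hq.ne_one
  have hbj : b ≤ j := by
    by_contra hcon
    push_neg at hcon
    apply hnd
    rw [hb]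
    exact dvd_mul_of_dvd_left (pow_dvd_pow q hcon) _
  have hl'N : l' ∣ q ^ a * N' := by
    rw [← hN]
    exact dvd_trans (Dvd.intro_left _ hb.symm) (hlN e)
  have hcop : Nat.Coprime l' (q ^ a) :=
    Nat.Coprime.pow_right a ((Nat.Prime.coprime_iff_not_dvd hq).2 hl').symm
  have hl'N' : l' ∣ N' := hcop.dvd_of_dvd_mul_left hl'N
  rw [hb, mul_comm N']
  exact mul_dvd_mul (pow_dvd_pow q hbj) hl'N'

end aux

/-- Let G be a finite connected multigraph with endpoint map ends and edge labels l taking positive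
integer values. We say g : V → ℤ is elementary-Cartier if, for some integer n ≥ 1, all values of g
are multiples of n and, for each edge whose label fails to divide n, g agrees at its two endpoints
(equivalently, once the edges with label dividing n are removed, g takes a single value on each
connected piece of what remains). Then every Cartier function f (for each edge, the label divides
the difference of the values of f at its endpoints) lies in the ℤ-span of the elementary-Cartier
functions. -/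
theorem result
    {V E : Type u} [Fintype V] [Fintype E] [DecidableEq V] [DecidableEq E]
    (ends : E → V × V) (l : E → ℕ) (hl : ∀ e, 0 < l e) (hconn : LabGraph.Connected ends)
    (f : V → ℤ) (hf : LabGraph.IsCartier ends l f) :
    f ∈ Submodule.span ℤ {g : V → ℤ | ∃ n : ℕ, 0 < n ∧ (∀ v, (n : ℤ) ∣ g v) ∧
      ∀ e, ¬ (l e ∣ n) → g (ends e).1 = g (ends e).2} := by
  classical
  show f ∈ SS ends l
  set N : ℕ := ∏ e, l e with hNdef
  have hNpos : 0 < N := Finset.prod_pos fun e _ => hl e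
  have hlN : ∀ e, l e ∣ N := fun e => Finset.dvd_prod_of_mem l (Finset.mem_univ e)
  have hNall : ∀ g : V → ℤ, (fun v => (N : ℤ) * g v) ∈ SS ends l := fun g =>
    mem_SS_of ends l _ N hNpos (fun v => Dvd.intro _ rfl) (fun e he => absurd (hlN e) he)
  have hprime : ∀ q : ℕ, q.Prime → q ∣ N →
      ∃ N' : ℕ, ¬ q ∣ N' ∧ (fun v => (N' : ℤ) * f v) ∈ SS ends l := by
    intro q hq hqN
    obtain ⟨a, N', hqN', hN⟩ := Nat.exists_eq_pow_mul_and_not_dvd hNpos.ne' q hq.ne_one
    have hN'pos : 0 < N' := Nat.pos_of_ne_zero (fun h => by simp [h] at hqN')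
    obtain ⟨fa, h1, -⟩ := digits ends l hl f hf q hq N' hN'pos
      (hdiv_of l hl q hq a N' N hN hqN' hlN) a
    refine ⟨N', hqN', ?_⟩
    have : (fun v => (N' : ℤ) * f v) =
        (fun v => (N' : ℤ) * (f v - (q : ℤ) ^ a * fa v)) + (fun v => (N : ℤ) * fa v) := by
      funext v
      simp only [Pi.add_apply]
      rw [hN]; push_cast; ring
    rw [this]
    exact Submodule.add_mem _ h1 (hNall fa)
  let I : Ideal ℤ := (SS ends l).comap (LinearMap.toSpanSingleton ℤ (V → ℤ) f)
  have hmemI : ∀ c : ℤ, c ∈ I ↔ (fun v => c * f v) ∈ SS ends l := by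
    intro c
    have : (LinearMap.toSpanSingleton ℤ (V → ℤ) f) c = fun v => c * f v := by
      funext v; simp [LinearMap.toSpanSingleton_apply]
    simp only [I, Submodule.mem_comap, this]
  suffices h1 : (1 : ℤ) ∈ I by
    have := (hmemI 1).1 h1
    simpa using this
  obtain ⟨g, hg⟩ := (IsPrincipalIdealRing.principal I).principal
  have hNI : (N : ℤ) ∈ I := (hmemI N).2 (hNall f)
  have hgN : g ∣ (N : ℤ) := by
    rw [hg] at hNI; exact Ideal.mem_span_singleton.1 hNI
  by_cases hg1 : g.natAbs = 1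
  · have hu : IsUnit g := Int.isUnit_iff_natAbs_eq.2 hg1
    rw [hg]
    exact Ideal.mem_span_singleton.2 hu.dvd
  · exfalso
    obtain ⟨p, hp, hpg⟩ := Nat.exists_prime_and_dvd hg1
    have hpg' : (p : ℤ) ∣ g := Int.natCast_dvd.2 hpg
    have hpN : p ∣ N := Int.natCast_dvd_natCast.1 (dvd_trans hpg' hgN)
    obtain ⟨N', hpN', hN'⟩ := hprime p hp hpN
    have hN'I : (N' : ℤ) ∈ I := (hmemI N').2 hN'
    rw [hg] at hN'I
    have hgN' : g ∣ (N' : ℤ) := Ideal.mem_span_singleton.1 hN'I
    exact hpN' (Int.natCast_dvd_natCast.1 (dvd_trans hpg' hgN'))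


end Groth.Agent.S17723
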