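import Groth.Statements.S17724
import Mathlib
import Groth.Agent.Lib.helper22.LabGraphCycle

set_option autoImplicit false
universe u v
open LabGraph

namespace Groth.Agent.S17724

section Helpers

open Groth.Agent.H22.Circ Groth.Agent.H22.Tree Groth.Agent.H22.MT Groth.Agent.H22.Cycle

variable {V E : Type u} [Fintype V] [Fintype E] [DecidableEq V] [DecidableEq E] {L : Type v}

theorem key (ends : E → V × V) (lab : E → L) (n : E → ℕ)
    (hconn : LabGraph.Connected ends)
    (hcirc : ∀ C : Finset E, LabGraph.IsCircuit ends C → ∀ e ∈ C, ∀ e' ∈ C, lab e = lab e')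
    (f : V → ℤ) (hf : LabGraph.IsCartier ends n f) (v₀ : V) (hv₀ : f v₀ = 0) :
    f ∈ AddSubmonoid.closure {g : V → ℤ | LabGraph.IsCartier ends n g ∧ (∃ B : Finset E, (∀ e ∈ B, ∀ e' ∈ B, lab e = lab e') ∧ ∀ e, e ∉ B → g (ends e).1 = g (ends e).2) ∧ g v₀ = 0} := by
  classical
  haveI : Nonempty V := hconn.1
  have hreach : ∀ a b, Reach ends Finset.univ a b := by
    intro a b
    have := hconn.2 a b
    unfold Reach
    refine Relation.ReflTransGen.mono ?_ _ _ this
    rintro x y ⟨e, h⟩
    exact ⟨e, Finset.mem_univ _, h⟩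
  obtain ⟨T, -, hT⟩ := exists_spanningTree_subset ends _ Finset.univ rfl hreach
  set ω : L → E → ℤ := fun l e => if lab e = l then f (ends e).2 - f (ends e).1 else 0 with hω
  have hkill : ∀ l (γ : E → ℤ), (∀ v, boundary ends γ v = 0) → ∑ e, γ e * ω l e = 0 := by
    intro l γ hγ
    let F : (E → ℤ) →+ ℤ :=
      { toFun := fun γ => ∑ e, γ e * ω l e
        map_zero' := by simp
        map_add' := fun a b => by simp [add_mul, Finset.sum_add_distrib] }
    refine cycle_induction ends T hT F ?_ γ hγ
    intro C c hC hsupp hcyc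
    show ∑ e, c e * ω l e = 0
    by_cases hex : ∃ e₀ ∈ C, lab e₀ = l
    · obtain ⟨e₀, he₀, hl⟩ := hex
      have : ∀ e, c e * ω l e = c e * (f (ends e).2 - f (ends e).1) := by
        intro e
        by_cases heC : e ∈ C
        · have : lab e = l := (hcirc C hC e heC e₀ he₀).trans hl
          simp [hω, this]
        · rw [hsupp e heC, zero_mul, zero_mul]
      simp_rw [this]
      rw [sum_mul_cobd]
      simp [hcyc]
    · push_neg at hex
      apply Finset.sum_eq_zero
      intro e _
      by_cases heC : e ∈ C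
      · simp [hω, hex e heC]
      · rw [hsupp e heC, zero_mul]
  choose φ hφ using fun l => exists_potential ends hreach v₀ (ω l) (hkill l)
  set ψ : L → V → ℤ := fun l v => φ l v - φ l v₀ with hψ
  have hψd : ∀ l e, ψ l (ends e).2 - ψ l (ends e).1 = ω l e := by
    intro l e
    simp only [hψ]
    have := hφ l e
    linarith
  have hψmem : ∀ l, ψ l ∈ {g : V → ℤ | LabGraph.IsCartier ends n g ∧ (∃ B : Finset E, (∀ e ∈ B, ∀ e' ∈ B, lab e = lab e') ∧ ∀ e, e ∉ B → g (ends e).1 = g (ends e).2) ∧ g v₀ = 0} := by
    intro l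
    refine ⟨?_, ⟨Finset.univ.filter fun e => lab e = l, ?_, ?_⟩, ?_⟩
    · intro e
      have h1 : ψ l (ends e).1 - ψ l (ends e).2 = - ω l e := by
        have := hψd l e; linarith
      rw [h1]
      by_cases h : lab e = l
      · have : ω l e = f (ends e).2 - f (ends e).1 := by simp [hω, h]
        rw [this, neg_sub]
        exact hf e
      · have : ω l e = 0 := by simp [hω, h]
        rw [this, neg_zero]
        exact dvd_zero _
    · intro e he e' he'
      simp only [Finset.mem_filter, Finset.mem_univ, true_and] at he he'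
      rw [he, he']
    · intro e he
      simp only [Finset.mem_filter, Finset.mem_univ, true_and] at he
      have : ω l e = 0 := by simp [hω, he]
      have h2 := hψd l e
      rw [this] at h2
      linarith
    · simp [hψ]
  set Λ : Finset L := Finset.univ.image lab with hΛ
  set g : V → ℤ := f - ∑ l ∈ Λ, ψ l with hg
  have hgd : ∀ e, g (ends e).1 = g (ends e).2 := by
    intro e
    have h1 : ∑ l ∈ Λ, ω l e = f (ends e).2 - f (ends e).1 := by
      rw [Finset.sum_eq_single (lab e)]
      · simp [hω]
      · intro l _ hl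
        simp [hω, Ne.symm hl]
      · intro h
        exact absurd (Finset.mem_image_of_mem lab (Finset.mem_univ e)) h
    have h2 : ∑ l ∈ Λ, (ψ l (ends e).2 - ψ l (ends e).1) = f (ends e).2 - f (ends e).1 := by
      rw [← h1]
      exact Finset.sum_congr rfl fun l _ => hψd l e
    rw [Finset.sum_sub_distrib] at h2
    simp only [hg, Pi.sub_apply, Finset.sum_apply]
    linarith
  have hgconst : ∀ a b, g a = g b := by
    intro a b
    have := hconn.2 a b
    induction this with
    | refl => rfl
    | tail _ hbc ih =>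
      rw [ih]
      obtain ⟨e, he⟩ := hbc
      rcases he with he | he
      · have := hgd e; rw [he] at this; exact this
      · have := hgd e; rw [he] at this; exact this.symm
  have hg0 : g = 0 := by
    funext a
    rw [hgconst a v₀]
    simp only [hg, Pi.sub_apply, Finset.sum_apply, hv₀, Pi.zero_apply]
    simp [hψ]
  have hfsum : f = ∑ l ∈ Λ, ψ l := by
    rw [hg, sub_eq_zero] at hg0
    exact hg0
  rw [hfsum]
  exact sum_mem fun l _ => AddSubmonoid.subset_closure (hψmem l)

theorem main (ends : E → V × V) (lab : E → L) (n : E → ℕ) (hn : ∀ e, 0 < n e)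
    (hconn : LabGraph.Connected ends)
    (hcirc : ∀ C : Finset E, LabGraph.IsCircuit ends C → ∀ e ∈ C, ∀ e' ∈ C, lab e = lab e')
    (f : V → ℤ) (hf : LabGraph.IsCartier ends n f) :
    f ∈ AddSubmonoid.closure {g : V → ℤ | LabGraph.IsCartier ends n g ∧ (∃ B : Finset E, (∀ e ∈ B, ∀ e' ∈ B, lab e = lab e') ∧ ∀ e, e ∉ B → g (ends e).1 = g (ends e).2)} ∧
    ∀ v₀ : V, f v₀ = 0 →
      f ∈ AddSubmonoid.closure {g : V → ℤ | LabGraph.IsCartier ends n g ∧ (∃ B : Finset E, (∀ e ∈ B, ∀ e' ∈ B, lab e = lab e') ∧ ∀ e, e ∉ B → g (ends e).1 = g (ends e).2) ∧ g v₀ = 0} := by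
  refine ⟨?_, fun v₀ hv₀ => key ends lab n hconn hcirc f hf v₀ hv₀⟩
  obtain ⟨r⟩ := hconn.1
  set f' : V → ℤ := f - fun _ => f r with hf'
  have hf'c : IsCartier ends n f' := by
    intro e
    have := hf e
    simpa [hf'] using this
  have h1 := key ends lab n hconn hcirc f' hf'c r (by simp [hf'])
  have h2 : f' ∈ AddSubmonoid.closure {g : V → ℤ | LabGraph.IsCartier ends n g ∧ (∃ B : Finset E, (∀ e ∈ B, ∀ e' ∈ B, lab e = lab e') ∧ ∀ e, e ∉ B → g (ends e).1 = g (ends e).2)} := by
    refine AddSubmonoid.closure_mono ?_ h1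
    rintro g ⟨h1, h2, -⟩
    exact ⟨h1, h2⟩
  have h3 : (fun _ : V => f r) ∈ AddSubmonoid.closure {g : V → ℤ | LabGraph.IsCartier ends n g ∧ (∃ B : Finset E, (∀ e ∈ B, ∀ e' ∈ B, lab e = lab e') ∧ ∀ e, e ∉ B → g (ends e).1 = g (ends e).2)} := by
    apply AddSubmonoid.subset_closure
    refine ⟨?_, ∅, ?_, ?_⟩
    · intro e; simp
    · intro e he; simp at he
    · intro e _; rfl
  have : f = f' + fun _ => f r := by rw [hf']; abel
  rw [this]
  exact add_mem h2 h3

end Helpers

/-- Let G be a finite connected multigraph with endpoint map ends, whose edges carry labels lab in a set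
L and positive integer labels n, and suppose the L-labels are constant along every circuit. Say g :
V → ℤ is pre-achievable when for some finite set B of edges all carrying the same L-label, g takes
equal values at the two endpoints of every edge outside B (so g is constant on the connected
components of the graph with B deleted); say g is Cartier when for every edge e the integer n(e)
divides the difference of the values of g at its endpoints. Then every Cartier function f is a
finite sum of functions each of which is Cartier and pre-achievable, and when f vanishes at a vertex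
v₀ the summands can all be taken to vanish at v₀. -/
theorem result
    {V E : Type u} [Fintype V] [Fintype E] [DecidableEq V] [DecidableEq E] {L : Type v}
    (ends : E → V × V) (lab : E → L) (n : E → ℕ) (hn : ∀ e, 0 < n e)
    (hconn : LabGraph.Connected ends)
    (hcirc : ∀ C : Finset E, LabGraph.IsCircuit ends C → ∀ e ∈ C, ∀ e' ∈ C, lab e = lab e')
    (f : V → ℤ) (hf : LabGraph.IsCartier ends n f) :
    f ∈ AddSubmonoid.closure {g : V → ℤ | LabGraph.IsCartier ends n g ∧ (∃ B : Finset E, (∀ e ∈ B, ∀ e' ∈ B, lab e = lab e') ∧ ∀ e, e ∉ B → g (ends e).1 = g (ends e).2)} ∧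
    ∀ v₀ : V, f v₀ = 0 →
      f ∈ AddSubmonoid.closure {g : V → ℤ | LabGraph.IsCartier ends n g ∧ (∃ B : Finset E, (∀ e ∈ B, ∀ e' ∈ B, lab e = lab e') ∧ ∀ e, e ∉ B → g (ends e).1 = g (ends e).2) ∧ g v₀ = 0} := by
  exact main ends lab n hn hconn hcirc f hf

end Groth.Agent.S17724
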