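import Groth.Statements.S17725
import Mathlib

set_option autoImplicit false
universe u
open SpecSp

namespace Groth.Agent.S17725



open AlgebraicGeometry in
/-- In a connected Noetherian scheme any two points p, q are linked by a finite chain of points p = x₁,
…, xₙ = q such that for each i one of x_i, x_{i+1} is a specialization of the other; equivalently, p
and q are related by the equivalence relation generated by the specialization relation. -/
theorem result
    (X : Scheme.{u}) [IsNoetherian X] [ConnectedSpace X] (p q : X) :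
    Relation.EqvGen (fun x y : X => x ⤳ y) p q := by
  classical
  set r : X → X → Prop := Relation.EqvGen (fun x y : X => x ⤳ y) with hr
  let S : Set X := {x | r p x}
  have hcomp : ∀ Z ∈ irreducibleComponents X, ∀ x ∈ Z, ∀ y ∈ Z, r x y := by
    intro Z hZ x hx y hy
    have hirr : IsIrreducible Z := hZ.1
    have hcl : IsClosed Z := isClosed_of_mem_irreducibleComponents Z hZ
    have hgen := hirr.isGenericPoint_genericPoint hcl
    have h1 : hirr.genericPoint ⤳ x := hgen.specializes hx
    have h2 : hirr.genericPoint ⤳ y := hgen.specializes hy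
    exact Relation.EqvGen.trans _ _ _ (Relation.EqvGen.symm _ _ (Relation.EqvGen.rel _ _ h1))
      (Relation.EqvGen.rel _ _ h2)
  have hfin : (irreducibleComponents X).Finite :=
    TopologicalSpace.NoetherianSpace.finite_irreducibleComponents
  have hcover : ∀ x : X, ∃ Z ∈ irreducibleComponents X, x ∈ Z := fun x =>
    ⟨irreducibleComponent x, irreducibleComponent_mem_irreducibleComponents x, mem_irreducibleComponent⟩
  have hS : S = ⋃₀ {Z ∈ irreducibleComponents X | (Z ∩ S).Nonempty} := by
    ext x
    constructor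
    · intro hx
      obtain ⟨Z, hZ, hxZ⟩ := hcover x
      exact ⟨Z, ⟨hZ, ⟨x, hxZ, hx⟩⟩, hxZ⟩
    · rintro ⟨Z, ⟨hZ, ⟨y, hyZ, hyS⟩⟩, hxZ⟩
      exact Relation.EqvGen.trans _ _ _ hyS (hcomp Z hZ y hyZ x hxZ)
  have hSc : Sᶜ = ⋃₀ {Z ∈ irreducibleComponents X | ¬ (Z ∩ S).Nonempty} := by
    ext x
    constructor
    · intro hx
      obtain ⟨Z, hZ, hxZ⟩ := hcover x
      refine ⟨Z, ⟨hZ, ?_⟩, hxZ⟩
      rintro ⟨y, hyZ, hyS⟩
      exact hx (Relation.EqvGen.trans _ _ _ hyS (hcomp Z hZ y hyZ x hxZ))
    · rintro ⟨Z, ⟨hZ, hne⟩, hxZ⟩ hxS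
      exact hne ⟨x, hxZ, hxS⟩
  have hclosed : IsClosed S := by
    rw [hS]
    rw [Set.sUnion_eq_biUnion]
    apply Set.Finite.isClosed_biUnion (hfin.subset (Set.sep_subset _ _))
    intro Z hZ
    exact isClosed_of_mem_irreducibleComponents Z hZ.1
  have hopen : IsOpen S := by
    rw [← isClosed_compl_iff, hSc]
    rw [Set.sUnion_eq_biUnion]
    apply Set.Finite.isClosed_biUnion (hfin.subset (Set.sep_subset _ _))
    intro Z hZ
    exact isClosed_of_mem_irreducibleComponents Z hZ.1
  have huniv : S = Set.univ := IsClopen.eq_univ ⟨hclosed, hopen⟩ ⟨p, Relation.EqvGen.refl p⟩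
  have : q ∈ S := huniv ▸ Set.mem_univ q
  exact this

end Groth.Agent.S17725
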