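import Groth.Statements.S17726
import Mathlib

set_option autoImplicit false
universe u
open CAlg

namespace Groth.Agent.S17726



/-- Let f and g be non-zero-divisors of a commutative ring A, not both units; think of them as local
equations, at a point of the union of the supports, of two effective Cartier divisors E and D. If
the ideals generated by g^{m₁} and f^{n₁} coincide, and likewise for g^{m₂} and f^{n₂}, then m₁ n₂ =
m₂ n₁. So all pairs (m, n) with m D = n E locally at the point are proportional, and the saturation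
of the monoid they form is generated by a single element. -/
theorem result
    (A : Type u) [CommRing A] (f g : A)
    (hf : f ∈ nonZeroDivisors A) (hg : g ∈ nonZeroDivisors A) (hfg : ¬ (IsUnit f ∧ IsUnit g))
    (m₁ n₁ m₂ n₂ : ℕ)
    (h₁ : Ideal.span {g ^ m₁} = Ideal.span {f ^ n₁})
    (h₂ : Ideal.span {g ^ m₂} = Ideal.span {f ^ n₂}) :
    m₁ * n₂ = m₂ * n₁ := by
  -- associated-ness from span equality
  have assoc_of_span : ∀ a b : A, a ∈ nonZeroDivisors A →
      Ideal.span {a} = Ideal.span {b} → ∃ u : A, IsUnit u ∧ a * u = b := by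
    intro a b ha hab
    have h1 : b ∈ Ideal.span {a} := by rw [hab]; exact Ideal.mem_span_singleton_self b
    have h2 : a ∈ Ideal.span {b} := by rw [← hab]; exact Ideal.mem_span_singleton_self a
    rw [Ideal.mem_span_singleton'] at h1 h2
    obtain ⟨u, hu⟩ := h1
    obtain ⟨v, hv⟩ := h2
    refine ⟨u, ?_, by rw [mul_comm]; exact hu⟩
    have h3 : a * (v * u) = a * 1 := by
      rw [mul_one]
      calc a * (v * u) = v * (u * a) := by ring
        _ = v * b := by rw [hu]
        _ = a := hv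
    have h4 : v * u = 1 := by
      have h5 : (v * u - 1) * a = 0 := by
        have : (v * u - 1) * a = a * (v * u) - a * 1 := by ring
        rw [this, h3, sub_self]
      have h6 := (mem_nonZeroDivisors_iff_right.mp ha) _ h5
      exact sub_eq_zero.mp h6
    exact IsUnit.of_mul_eq_one v (by rw [mul_comm]; exact h4)
  -- a non-unit nonzerodivisor has injective powers up to units
  have pow_inj : ∀ c : A, c ∈ nonZeroDivisors A → ¬ IsUnit c → ∀ a b : ℕ,
      (∃ u : A, IsUnit u ∧ c ^ a * u = c ^ b) → a ≤ b := by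
    intro c hc hcu a b ⟨u, hu, hab⟩
    by_contra hlt
    push Not at hlt
    obtain ⟨e, rfl⟩ : ∃ e, a = b + (e + 1) := ⟨a - b - 1, by omega⟩
    have h1 : c ^ b * (c ^ (e + 1) * u - 1) = 0 := by
      have : c ^ b * (c ^ (e + 1) * u - 1) = c ^ (b + (e + 1)) * u - c ^ b := by ring
      rw [this, hab, sub_self]
    have hcb : c ^ b ∈ nonZeroDivisors A := pow_mem hc b
    have h2 : c ^ (e + 1) * u - 1 = 0 := by
      have := (mem_nonZeroDivisors_iff_right.mp hcb) (c ^ (e + 1) * u - 1) (by rw [mul_comm]; exact h1)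
      exact this
    have h3 : c * (c ^ e * u) = 1 := by
      have := sub_eq_zero.mp h2
      rw [← this]; ring
    exact hcu (IsUnit.of_mul_eq_one _ h3)
  obtain ⟨u₁, hu₁, e₁⟩ := assoc_of_span _ _ (pow_mem hg m₁) h₁
  obtain ⟨u₂, hu₂, e₂⟩ := assoc_of_span _ _ (pow_mem hg m₂) h₂
  obtain ⟨v₁, hv₁, e₁'⟩ := assoc_of_span _ _ (pow_mem hf n₁) h₁.symm
  obtain ⟨v₂, hv₂, e₂'⟩ := assoc_of_span _ _ (pow_mem hf n₂) h₂.symm
  by_cases hgu : IsUnit g
  · have hfu : ¬ IsUnit f := fun h => hfg ⟨h, hgu⟩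
    -- f^n₁ is a unit hence n₁ = 0
    have hn₁ : n₁ = 0 := by
      have : n₁ ≤ 0 := by
        apply pow_inj f hf hfu n₁ 0
        have hunit : IsUnit (f ^ n₁) := by
          rw [← e₁]; exact (hgu.pow m₁).mul hu₁
        obtain ⟨w, hw⟩ := hunit
        refine ⟨((w⁻¹ : Aˣ) : A), Units.isUnit _, ?_⟩
        rw [← hw]; simp
      omega
    have hn₂ : n₂ = 0 := by
      have : n₂ ≤ 0 := by
        apply pow_inj f hf hfu n₂ 0
        have hunit : IsUnit (f ^ n₂) := by
          rw [← e₂]; exact (hgu.pow m₂).mul hu₂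
        obtain ⟨w, hw⟩ := hunit
        refine ⟨((w⁻¹ : Aˣ) : A), Units.isUnit _, ?_⟩
        rw [← hw]; simp
      omega
    rw [hn₁, hn₂]; ring
  · -- g^(m₁ n₂) ~ f^(n₁ n₂) ~ g^(m₂ n₁)
    have k1 : g ^ (m₁ * n₂) * u₁ ^ n₂ = f ^ (n₁ * n₂) := by
      rw [pow_mul, pow_mul, ← mul_pow, e₁]
    have k2 : g ^ (m₂ * n₁) * u₂ ^ n₁ = f ^ (n₁ * n₂) := by
      rw [pow_mul, mul_comm n₁ n₂, pow_mul, ← mul_pow, e₂]
    obtain ⟨w₁, hw₁⟩ := hu₁.pow n₂
    obtain ⟨w₂, hw₂⟩ := hu₂.pow n₁
    apply le_antisymm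
    · apply pow_inj g hg hgu
      refine ⟨(w₁ * w₂⁻¹ : Aˣ), Units.isUnit _, ?_⟩
      rw [Units.val_mul, ← mul_assoc, hw₁, k1, ← k2, ← hw₂, mul_assoc]; simp
    · apply pow_inj g hg hgu
      refine ⟨(w₂ * w₁⁻¹ : Aˣ), Units.isUnit _, ?_⟩
      rw [Units.val_mul, ← mul_assoc, hw₂, k2, ← k1, ← hw₁, mul_assoc]; simp

end Groth.Agent.S17726
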