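import Groth.Statements.S17727
import Mathlib
import Groth.Agent.S5434
-- import your own Groth.Agent.* helpers here

set_option autoImplicit false
universe u
open Neron

namespace Groth.Agent.S17727

namespace H5S17727
open AlgebraicGeometry CategoryTheory Limits TopologicalSpace
open Groth.Agent.S5434.H5S5434

lemma dense_restrict {E : Scheme.{u}} (W D : E.Opens) (hD : CInt.IsSchematicallyDense D) :
    CInt.IsSchematicallyDense (W.ι ⁻¹ᵁ D) := by
  intro O
  have e : W.ι ''ᵁ (O ⊓ W.ι ⁻¹ᵁ D) = W.ι ''ᵁ O ⊓ D := by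
    ext x
    constructor
    · rintro ⟨w, ⟨hwO, hwD⟩, rfl⟩
      exact ⟨⟨w, hwO, rfl⟩, hwD⟩
    · rintro ⟨⟨w, hwO, rfl⟩, hwD⟩
      exact ⟨w, ⟨hwO, hwD⟩, rfl⟩
  have h1 := hD (W.ι ''ᵁ O)
  have hc : (W : Scheme.{u}).presheaf.map (homOfLE (inf_le_left : O ⊓ W.ι ⁻¹ᵁ D ≤ O)).op =
      E.presheaf.map (homOfLE (inf_le_left : W.ι ''ᵁ O ⊓ D ≤ W.ι ''ᵁ O)).op ≫
      E.presheaf.map (eqToHom e).op := by
    rw [← Functor.map_comp]
    rfl
  rw [hc]
  intro x y hxy
  apply h1
  have hinj : Function.Injective (E.presheaf.map (eqToHom e).op).hom :=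
    (ConcreteCategory.bijective_of_isIso (E.presheaf.map (eqToHom e).op)).1
  apply hinj
  exact hxy


theorem main {E S : Scheme.{u}} (f : E ⟶ S) (U : S.Opens)
    (hiso : IsIso (morphismRestrict f U)) (hdense : CInt.IsSchematicallyDense (f ⁻¹ᵁ U))
    (σ : S ⟶ E) (hσ : σ ≫ f = 𝟙 S) (s : S) :
    ∃ W : E.Opens, σ.base s ∈ W ∧ IsOpenImmersion (W.ι ≫ f) := by
  have hpt : ∀ t : S, f.base (σ.base t) = t := fun t => by
    rw [← Scheme.Hom.comp_apply, hσ]
    rfl
  obtain ⟨E₀, hE₀, hsE₀, -⟩ := Opens.isBasis_iff_nbhd.1 E.isBasis_affineOpens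
    (U := ⊤) (x := σ.base s) trivial
  let S₁ : S.Opens := σ ⁻¹ᵁ E₀
  let W : E.Opens := E₀ ⊓ f ⁻¹ᵁ S₁
  have hsW : σ.base s ∈ W := ⟨hsE₀, by
    show f.base (σ.base s) ∈ S₁
    rw [hpt]
    exact hsE₀⟩
  refine ⟨W, hsW, ?_⟩
  haveI : IsAffine (E₀ : Scheme.{u}) := hE₀
  haveI : (W : Scheme.{u}).IsSeparated := by
    constructor
    have : terminal.from (W : Scheme.{u}) =
        E.homOfLE (inf_le_left : W ≤ E₀) ≫ terminal.from (E₀ : Scheme.{u}) :=
      terminal.hom_ext _ _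
    rw [this]
    infer_instance
  have hr : Set.range (W.ι ≫ f ≫ σ).base ⊆ Set.range W.ι.base := by
    rintro _ ⟨w, rfl⟩
    rw [Scheme.Opens.range_ι]
    have hw : f.base w.1 ∈ S₁ := w.2.2
    refine ⟨hw, ?_⟩
    show f.base (σ.base (f.base w.1)) ∈ S₁
    rw [hpt]
    exact hw
  let r : (W : Scheme.{u}) ⟶ W := IsOpenImmersion.lift W.ι (W.ι ≫ f ≫ σ) hr
  have hrι : r ≫ W.ι = W.ι ≫ f ≫ σ := IsOpenImmersion.lift_fac _ _ _
  have hA : (f ⁻¹ᵁ U).ι ≫ f ≫ σ = (f ⁻¹ᵁ U).ι := by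
    have hrU : Set.range (U.ι ≫ σ).base ⊆ Set.range (f ⁻¹ᵁ U).ι.base := by
      rintro _ ⟨t, rfl⟩
      rw [Scheme.Opens.range_ι]
      show f.base (σ.base t.1) ∈ U
      rw [hpt]
      exact t.2
    let σU := IsOpenImmersion.lift (f ⁻¹ᵁ U).ι (U.ι ≫ σ) hrU
    have hσU : σU ≫ (f ⁻¹ᵁ U).ι = U.ι ≫ σ := IsOpenImmersion.lift_fac _ _ _
    have h1 : σU ≫ (f ∣_ U) = 𝟙 _ := by
      rw [← cancel_mono U.ι, Category.assoc, morphismRestrict_ι, ← Category.assoc, hσU,
        Category.assoc, hσ]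
      simp
    have h2 : (f ∣_ U) ≫ σU = 𝟙 _ := by
      have : σU = inv (f ∣_ U) := by
        rw [← cancel_mono (f ∣_ U), h1, IsIso.inv_hom_id]
      rw [this, IsIso.hom_inv_id]
    rw [← Category.assoc, ← morphismRestrict_ι, Category.assoc, ← hσU, ← Category.assoc, h2,
      Category.id_comp]
  have hr1 : r = 𝟙 _ := by
    let D : (W : Scheme.{u}).Opens := W.ι ⁻¹ᵁ (f ⁻¹ᵁ U)
    have hD : CInt.IsSchematicallyDense D := dense_restrict W _ hdense
    let XO : Over S := Over.mk (W.ι ≫ f)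
    have hrS : r ≫ XO.hom = XO.hom := by
      show r ≫ W.ι ≫ f = W.ι ≫ f
      rw [← Category.assoc, hrι, Category.assoc, Category.assoc, hσ, Category.comp_id]
    haveI : IsSeparated XO.hom := inferInstanceAs (IsSeparated (W.ι ≫ f))
    have key := eq_of_sep XO XO D hD (Over.homMk r hrS) (𝟙 XO) (by
      show D.ι ≫ r = D.ι ≫ 𝟙 _
      rw [Category.comp_id, ← cancel_mono W.ι, Category.assoc, hrι]
      have hrD : Set.range (D.ι ≫ W.ι).base ⊆ Set.range (f ⁻¹ᵁ U).ι.base := by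
        rintro _ ⟨d, rfl⟩
        rw [Scheme.Opens.range_ι]
        exact d.2
      rw [← Category.assoc, ← IsOpenImmersion.lift_fac (f ⁻¹ᵁ U).ι (D.ι ≫ W.ι) hrD,
        Category.assoc, hA])
    exact congrArg (fun k => k.left) key
  have hf₁ : Set.range (W.ι ≫ f).base ⊆ Set.range S₁.ι.base := by
    rintro _ ⟨w, rfl⟩
    rw [Scheme.Opens.range_ι]
    exact w.2.2
  have hσW : Set.range (S₁.ι ≫ σ).base ⊆ Set.range W.ι.base := by
    rintro _ ⟨t, rfl⟩
    rw [Scheme.Opens.range_ι]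
    refine ⟨t.2, ?_⟩
    show f.base (σ.base t.1) ∈ S₁
    rw [hpt]
    exact t.2
  let f₁ := IsOpenImmersion.lift S₁.ι (W.ι ≫ f) hf₁
  let σW := IsOpenImmersion.lift W.ι (S₁.ι ≫ σ) hσW
  have hf₁ι : f₁ ≫ S₁.ι = W.ι ≫ f := IsOpenImmersion.lift_fac _ _ _
  have hσWι : σW ≫ W.ι = S₁.ι ≫ σ := IsOpenImmersion.lift_fac _ _ _
  have e1 : f₁ ≫ σW = 𝟙 _ := by
    rw [← hr1, ← cancel_mono W.ι, Category.assoc, hσWι, ← Category.assoc, hf₁ι, Category.assoc, hrι]
  have e2 : σW ≫ f₁ = 𝟙 _ := by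
    rw [← cancel_mono S₁.ι, Category.assoc, hf₁ι, ← Category.assoc, hσWι, Category.assoc, hσ]
    simp
  haveI : IsIso f₁ := ⟨σW, e1, e2⟩
  rw [← hf₁ι]
  infer_instance

end H5S17727

open CategoryTheory AlgebraicGeometry in
/-- Let f : E → S be a morphism of schemes and U ⊆ S a schematically dense open subscheme such that f
restricts to an isomorphism over U and the preimage of U is schematically dense in E. Then for every
section σ of f and every point s of S there is an open neighbourhood W of σ(s) in E on which f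
restricts to an open immersion. (The published statements conclude that the section lands in the
étale locus of f, in one published form for an algebraic space E, in another for f locally of finite
type over a Noetherian base; the affine-local argument gives the sharper conclusion recorded here,
for schemes.) -/
theorem result
    {E S : Scheme.{u}} (f : E ⟶ S) (U : S.Opens) (hU : CInt.IsSchematicallyDense U)
    (hiso : IsIso (morphismRestrict f U)) (hdense : CInt.IsSchematicallyDense (f ⁻¹ᵁ U))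
    (σ : S ⟶ E) (hσ : σ ≫ f = 𝟙 S) (s : S) :
    ∃ W : E.Opens, σ.base s ∈ W ∧ IsOpenImmersion (W.ι ≫ f) := by
  exact H5S17727.main f U hiso hdense σ hσ s

end Groth.Agent.S17727
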