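import Groth.Statements.S17731
import Mathlib
-- import your own Groth.Agent.* helpers here

set_option autoImplicit false
universe u
open Neron

namespace Groth.Agent.S17731

namespace H5S17731
open CategoryTheory CategoryTheory.Limits

universe v u'
variable {C : Type u'} [Category.{v} C] [HasPullbacks C]

theorem map_left_fst {S S₀ : C} (j : S₀ ⟶ S) {A B : Over S} (p : A ⟶ B) :
    ((Over.pullback j).map p).left ≫ pullback.fst B.hom j = pullback.fst A.hom j ≫ p.left := by
  simp only [Over.pullback_map_left]
  exact pullback.lift_fst _ _ _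

theorem map_left_snd {S S₀ : C} (j : S₀ ⟶ S) {A B : Over S} (p : A ⟶ B) :
    ((Over.pullback j).map p).left ≫ pullback.snd B.hom j = pullback.snd A.hom j := by
  simp only [Over.pullback_map_left]
  exact pullback.lift_snd _ _ _

section
variable {S S' U U' : C} (g : S' ⟶ S) (j : U ⟶ S) (j' : U' ⟶ S') (g₀ : U' ⟶ U)
  (sq : IsPullback g₀ j' j g) (Y' : Over S')

/-- comparison map -/
noncomputable def θ : pullback (Y'.hom ≫ g) j ⟶ pullback Y'.hom j' :=
  pullback.lift (pullback.fst _ _)
    (sq.lift (pullback.snd _ _) (pullback.fst _ _ ≫ Y'.hom)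
      (by rw [Category.assoc, pullback.condition]))
    (by rw [sq.lift_snd])

noncomputable def θ' : pullback Y'.hom j' ⟶ pullback (Y'.hom ≫ g) j :=
  pullback.lift (pullback.fst _ _) (pullback.snd _ _ ≫ g₀)
    (by rw [← Category.assoc, pullback.condition, Category.assoc, Category.assoc, sq.w])

theorem θ_fst : θ g j j' g₀ sq Y' ≫ pullback.fst _ _ = pullback.fst _ _ :=
  pullback.lift_fst _ _ _

theorem θ_snd : θ g j j' g₀ sq Y' ≫ pullback.snd _ _ ≫ g₀ = pullback.snd _ _ := by
  unfold θ
  rw [← Category.assoc, pullback.lift_snd, sq.lift_fst]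

theorem θ'_fst : θ' g j j' g₀ sq Y' ≫ pullback.fst _ _ = pullback.fst _ _ :=
  pullback.lift_fst _ _ _

theorem θ'_snd : θ' g j j' g₀ sq Y' ≫ pullback.snd _ _ = pullback.snd _ _ ≫ g₀ :=
  pullback.lift_snd _ _ _

theorem θ'_θ : θ' g j j' g₀ sq Y' ≫ θ g j j' g₀ sq Y' = 𝟙 _ := by
  apply pullback.hom_ext
  · rw [Category.assoc, θ_fst, θ'_fst, Category.id_comp]
  · apply sq.hom_ext
    · rw [Category.assoc, Category.assoc, θ_snd, θ'_snd, Category.id_comp]
    · rw [Category.assoc, Category.assoc, ← pullback.condition, ← Category.assoc (θ _ _ _ _ _ _),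
        θ_fst, ← Category.assoc, θ'_fst, Category.id_comp, pullback.condition]

end

theorem inj {S S' U U' : C} (g : S' ⟶ S) (j : U ⟶ S) (j' : U' ⟶ S') (g₀ : U' ⟶ U)
    (sq : IsPullback g₀ j' j g) (N : Over S) (Y' : Over S')
    (hN : Function.Injective (fun f : Over.mk (Y'.hom ≫ g) ⟶ N => (Over.pullback j).map f)) :
    Function.Injective (fun f : Y' ⟶ (Over.pullback g).obj N => (Over.pullback j').map f) := by
  intro f₁ f₂ h
  simp only at h
  have hw : ∀ f : Y' ⟶ (Over.pullback g).obj N, f.left ≫ pullback.snd N.hom g = Y'.hom :=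
    fun f => Over.w f
  have hφ : ∀ f : Y' ⟶ (Over.pullback g).obj N,
      (f.left ≫ pullback.fst N.hom g) ≫ N.hom = (Over.mk (Y'.hom ≫ g)).hom := by
    intro f
    rw [Category.assoc, pullback.condition, ← Category.assoc, hw f]
    rfl
  let φ : (Y' ⟶ (Over.pullback g).obj N) → (Over.mk (Y'.hom ≫ g) ⟶ N) :=
    fun f => Over.homMk (f.left ≫ pullback.fst N.hom g) (hφ f)
  have hφl : ∀ f, (φ f).left = f.left ≫ pullback.fst N.hom g := fun f => rfl
  have h1 : pullback.fst Y'.hom j' ≫ f₁.left = pullback.fst Y'.hom j' ≫ f₂.left := by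
    have := congrArg (fun t => t.left ≫ pullback.fst _ _) h
    simp only [map_left_fst] at this
    exact this
  have h2 : φ f₁ = φ f₂ := by
    apply hN
    simp only
    ext
    apply pullback.hom_ext
    · rw [map_left_fst, map_left_fst, hφl, hφl]
      have e : pullback.fst (Over.mk (Y'.hom ≫ g)).hom j =
          θ g j j' g₀ sq Y' ≫ pullback.fst Y'.hom j' := (θ_fst g j j' g₀ sq Y').symm
      rw [e, Category.assoc, Category.assoc, ← Category.assoc (pullback.fst Y'.hom j'), h1,
        Category.assoc]
    · rw [map_left_snd, map_left_snd]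
  ext
  apply pullback.hom_ext
  · have := congrArg (fun t => t.left) h2
    simpa [hφl] using this
  · rw [hw, hw]

end H5S17731

open CategoryTheory AlgebraicGeometry in
/-- Let S be a scheme, U ⊆ S a schematically dense open subscheme and N → S a smooth S-scheme having
uniqueness in the Néron mapping property with respect to U: for every smooth S-scheme Y, restriction
to U is injective on S-morphisms Y → N. Then for every smooth morphism g : S' → S the base change N
×_S S' → S' has uniqueness in the Néron mapping property with respect to g⁻¹(U): for every smooth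
S'-scheme Y', restriction to g⁻¹(U) is injective on S'-morphisms Y' → N ×_S S'. (The published
statement is for models which are algebraic spaces, tested against smooth algebraic spaces; this row
states the case of a scheme model tested against smooth schemes. The companion assertion that Néron
models are preserved by smooth base change is not restated here.) -/
theorem result
    {S S' : Scheme.{u}} (g : S' ⟶ S) [Smooth g]
    (U : S.Opens) (hU : CInt.IsSchematicallyDense U) (N : Over S) [Smooth N.hom]
    (hN : ∀ Y : Over S, Smooth Y.hom →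
      Function.Injective (fun f : Y ⟶ N => (Over.pullback U.ι).map f))
    (Y' : Over S') [Smooth Y'.hom] :
    Function.Injective (fun f : Y' ⟶ (Over.pullback g).obj N => (Over.pullback (g ⁻¹ᵁ U).ι).map f) := by
  exact H5S17731.inj g U.ι (g ⁻¹ᵁ U).ι (g ∣_ U) (isPullback_morphismRestrict g U) N Y'
    (hN (Over.mk (Y'.hom ≫ g)) (by simp only [Over.mk_hom]; infer_instance))

end Groth.Agent.S17731
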