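import Groth.Statements.S1774
import Mathlib
import Groth.Agent.Lib.helper2.ResLin
-- import your own Groth.Agent.* helpers here

set_option autoImplicit false
universe u
open CategoryTheory
attribute [local instance] HasDerivedCategory.standard
open Dual

namespace Groth.Agent.S1774

/-- Let A → B be a finite homomorphism of Noetherian rings and R : D(A) → D(B) a right adjoint to
restriction of scalars D(B) → D(A). If K in D(A) is bounded below (its cohomology modules vanish
below some degree) and all its cohomology modules are finite A-modules, then all cohomology modules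
of R(K) are finite B-modules. -/
theorem result (A B : Type u) [CommRing A] [CommRing B] [Algebra A B] [IsNoetherianRing A] [IsNoetherianRing B] [Module.Finite A B] (R : Dual.D A ⥤ Dual.D B) (adj : DRing.restrictD (algebraMap A B) ⊣ R) (K : Dual.D A) (a : ℤ) (hKa : ∀ i : ℤ, i < a → Subsingleton (Dual.HD A K i)) (hK : ∀ i : ℤ, Module.Finite A (Dual.HD A K i)) (i : ℤ) : Module.Finite B (Dual.HD B (R.obj K) i) := by
  open Groth.Agent.Lib.helper2 Groth.Agent.Lib.helper17.DRingRes DerivedCategory in
  let φ := algebraMap A B
  have : K.IsGE a := by
    rw [DerivedCategory.isGE_iff]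
    intro j hj
    have := hKa j hj
    exact ModuleCat.isZero_of_subsingleton _
  have hB : Module.Finite A ((resF φ).obj (ModuleCat.of B B)) := by
    let e : B ≃ₗ[A] ((resF φ).obj (ModuleCat.of B B)) :=
      { toFun := fun b => b
        invFun := fun b => b
        map_add' := fun _ _ => rfl
        map_smul' := fun a b => by
          change a • b = φ a • b
          rw [Algebra.smul_def]
          rfl
        left_inv := fun _ => rfl
        right_inv := fun _ => rfl }
    exact Module.Finite.equiv e
  let S := Q.obj (CorepR.S B i)
  have hfin : Module.Finite A ((resD φ).obj S ⟶ K) := ResLin.finite_hom_res_S φ hB i K a hK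
  obtain ⟨ρ, hρ⟩ := CorepR.exists_surj B i (R.obj K)
  apply finite_of_finite_resF φ
  let Ψ : ((resD φ).obj S ⟶ K) →ₗ[A]
      ((resF φ).obj ((DerivedCategory.homologyFunctor (ModuleCat.{u} B) i).obj (R.obj K))) :=
    { toFun := fun x => ρ (adj.homEquiv S K x)
      map_add' := fun x y => by
        rw [adj.homAddEquiv_add, map_add]
        rfl
      map_smul' := fun c x => by
        have h1 : c • x = (resD φ).map (φ c • 𝟙 S) ≫ x := by
          rw [ResLin.resD_map_smul, Linear.smul_comp, Category.id_comp]
        rw [h1, adj.homEquiv_naturality_left, Linear.smul_comp, Category.id_comp, map_smul]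
        rfl }
  exact Module.Finite.of_surjective Ψ (hρ.comp (adj.homEquiv S K).surjective)

end Groth.Agent.S1774
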