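import Groth.Statements.S17751
import Mathlib

set_option autoImplicit false
universe u
open LocCoh

namespace Groth.Agent.S17751



/-- Suppose R is a Noetherian ring, r is a natural number, and I is an ideal of R. Then there are
elements f_1, …, f_r of I such that for every prime ideal p of R of height less than r, p contains I
if and only if p contains f_1, …, f_r. (For r = 0 there is nothing to prove.) -/
theorem result (R : Type u) [CommRing R] [IsNoetherianRing R] (I : Ideal R) (r : ℕ) : ∃ f : Fin r → R, (∀ i, f i ∈ I) ∧ ∀ (p : Ideal R) [p.IsPrime], p.height < r → (I ≤ p ↔ Ideal.span (Set.range f) ≤ p) := by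
  classical
  have key : ∀ r : ℕ, ∃ f : Fin r → R, (∀ i, f i ∈ I) ∧
      ∀ (p : Ideal R), p.IsPrime → Ideal.span (Set.range f) ≤ p → ¬ I ≤ p → (r : ℕ∞) ≤ p.height := by
    intro r
    induction r with
    | zero => exact ⟨Fin.elim0, fun i => i.elim0, fun p _ _ _ => by simp⟩
    | succ r ih =>
      obtain ⟨f, hfI, hf⟩ := ih
      set J := Ideal.span (Set.range f) with hJ
      have hfin : (J.minimalPrimes).Finite := Ideal.finite_minimalPrimes_of_isNoetherianRing R J
      set S : Finset (Ideal R) := hfin.toFinset.filter (fun q => ¬ I ≤ q) with hS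
      have hSprime : ∀ q ∈ S, q.IsPrime := by
        intro q hq
        rw [hS, Finset.mem_filter, Set.Finite.mem_toFinset] at hq
        exact hq.1.1.1
      have havoid : ¬ ((I : Set R) ⊆ ⋃ q ∈ (↑S : Set (Ideal R)), (id q : Ideal R)) := by
        rw [Ideal.subset_union_prime (f := id) ⊤ ⊤ (fun q hq _ _ => hSprime q hq)]
        rintro ⟨q, hq, hIq⟩
        rw [hS, Finset.mem_filter] at hq
        exact hq.2 hIq
      rw [Set.not_subset] at havoid
      obtain ⟨x, hxI, hx⟩ := havoid
      have hxS : ∀ q ∈ S, x ∉ q := by
        intro q hq hxq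
        apply hx
        simp only [Set.mem_iUnion]
        exact ⟨q, hq, hxq⟩
      refine ⟨Fin.snoc f x, ?_, ?_⟩
      · intro i
        refine Fin.lastCases ?_ (fun j => ?_) i
        · simpa using hxI
        · simpa using hfI j
      · intro p hp hfp hIp
        have hJp : J ≤ p := by
          rw [hJ, Ideal.span_le]
          rintro _ ⟨i, rfl⟩
          apply hfp
          apply Ideal.subset_span
          exact ⟨Fin.castSucc i, by simp⟩
        have hxp : x ∈ p := by
          apply hfp
          apply Ideal.subset_span
          exact ⟨Fin.last r, by simp⟩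
        obtain ⟨q, hqmin, hqp⟩ := Ideal.exists_minimalPrimes_le hJp
        have hqprime : q.IsPrime := hqmin.1.1
        have hIq : ¬ I ≤ q := fun h => hIp (h.trans hqp)
        have hqS : q ∈ S := by
          rw [hS, Finset.mem_filter, Set.Finite.mem_toFinset]
          exact ⟨hqmin, hIq⟩
        have hlt : q < p := lt_of_le_of_ne hqp (fun h => hxS q hqS (h ▸ hxp))
        have h1 : (r : ℕ∞) ≤ q.height := hf q hqprime hqmin.1.2 hIq
        have h2 : q.height < p.height := Ideal.height_strict_mono_of_isPrime hlt
        have h3 : (r : ℕ∞) < p.height := lt_of_le_of_lt h1 h2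
        push_cast
        exact Order.add_one_le_of_lt h3
  obtain ⟨f, hfI, hf⟩ := key r
  refine ⟨f, hfI, ?_⟩
  intro p hp hht
  constructor
  · intro hIp
    refine le_trans ?_ hIp
    rw [Ideal.span_le]
    rintro _ ⟨i, rfl⟩
    exact hfI i
  · intro hfp
    by_contra hIp
    exact absurd (hf p hp hfp hIp) (not_le.mpr hht)

end Groth.Agent.S17751
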