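import Groth.Statements.S17754
import Mathlib
import Groth.Agent.Lib.helper21.LocalCrit

set_option autoImplicit false
universe u
open CAlg

namespace Groth.Agent.S17754



/-- Let R be a complete Noetherian local ring with maximal ideal m, and let I_0 ⊇ I_1 ⊇ I_2 ⊇ ⋯ be a
descending sequence of ideals of R whose intersection is zero. Then for every natural number n there
is an index s with I_s contained in m^n; that is, the filtration by the I_s is at least as fine as
the m-adic one. -/
theorem result (R : Type u) [CommRing R] [IsNoetherianRing R] [IsLocalRing R] [IsAdicComplete (IsLocalRing.maximalIdeal R) R] (I : ℕ → Ideal R) (hI : Antitone I) (hinf : ⨅ s, I s = ⊥) (n : ℕ) : ∃ s : ℕ, I s ≤ IsLocalRing.maximalIdeal R ^ n := by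
  classical
  set m := IsLocalRing.maximalIdeal R with hm
  -- stabilization modulo `m^j`
  have hstab : ∀ j : ℕ, ∃ s₀ : ℕ, ∀ s, s₀ ≤ s → I s₀ ≤ I s ⊔ m ^ j := by
    intro j
    haveI := Groth.Agent.H21.isArtinian_quot_maximalIdeal_pow (R := R) j
    let f : ℕ →o (Submodule R (R ⧸ m ^ j))ᵒᵈ :=
      ⟨fun s => OrderDual.toDual (Submodule.map (Submodule.mkQ (m ^ j)) (I s)),
        fun a b hab => Submodule.map_mono (hI hab)⟩
    obtain ⟨s₀, hs₀⟩ := IsArtinian.monotone_stabilizes f
    refine ⟨s₀, fun s hs => ?_⟩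
    have h1 : Submodule.map (Submodule.mkQ (m ^ j)) (I s₀) =
        Submodule.map (Submodule.mkQ (m ^ j)) (I s) := hs₀ s hs
    have h2 := congrArg (Submodule.comap (Submodule.mkQ (m ^ j))) h1
    rw [Submodule.comap_map_mkQ, Submodule.comap_map_mkQ] at h2
    calc I s₀ ≤ m ^ j ⊔ I s₀ := le_sup_right
      _ = m ^ j ⊔ I s := h2
      _ = I s ⊔ m ^ j := sup_comm _ _
  choose t ht using hstab
  -- a monotone choice of stabilization indices with `T j ≥ j`
  let T : ℕ → ℕ := fun j => (Finset.range (j + 1)).sup t ⊔ j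
  have hTt : ∀ j, t j ≤ T j := fun j =>
    le_sup_of_le_left (Finset.le_sup (f := t) (Finset.mem_range.mpr (Nat.lt_succ_self j)))
  have hTj : ∀ j, j ≤ T j := fun j => le_sup_right
  have hTmono : Monotone T := by
    intro a b hab
    refine sup_le_sup (Finset.sup_mono ?_) hab
    intro x hx
    rw [Finset.mem_range] at hx ⊢
    omega
  have hT : ∀ j s, T j ≤ s → I (T j) ≤ I s ⊔ m ^ j := by
    intro j s hs
    exact (hI (hTt j)).trans (ht j s ((hTt j).trans hs))
  -- closedness of the ideals
  have hclosed : ∀ (J : Ideal R) (L : R), (∀ j, L ∈ J ⊔ m ^ j) → L ∈ J := by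
    intro J L hL
    have h1 : (⨅ i : ℕ, m ^ i • ⊤ : Submodule R (R ⧸ J)) = ⊥ :=
      Ideal.iInf_pow_smul_eq_bot_of_isLocalRing _ (IsLocalRing.maximalIdeal.isMaximal R).ne_top
    have h2 : Submodule.mkQ J L ∈ (⨅ i : ℕ, m ^ i • ⊤ : Submodule R (R ⧸ J)) := by
      rw [Submodule.mem_iInf]
      intro j
      obtain ⟨a, ha, b, hb, hab⟩ := Submodule.mem_sup.mp (hL j)
      rw [← hab, map_add]
      have : Submodule.mkQ J a = 0 := by
        rw [Submodule.mkQ_apply, Submodule.Quotient.mk_eq_zero]; exact ha
      rw [this, zero_add]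
      have : Submodule.mkQ J b = b • Submodule.mkQ J (1 : R) := by
        rw [← map_smul, smul_eq_mul, mul_one]
      rw [this]
      exact Submodule.smul_mem_smul hb trivial
    rw [h1, Submodule.mem_bot, Submodule.mkQ_apply, Submodule.Quotient.mk_eq_zero] at h2
    exact h2
  refine ⟨T n, fun x hx => ?_⟩
  -- the approximating sequence
  have hstep : ∀ j (z : R), z ∈ I (T j) → ∃ z', z' ∈ I (T (j + 1)) ∧ z - z' ∈ m ^ j := by
    intro j z hz
    have := hT j (T (j + 1)) (hTmono (Nat.le_succ j)) hz
    obtain ⟨a, ha, b, hb, hab⟩ := Submodule.mem_sup.mp this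
    exact ⟨a, ha, by rw [← hab, add_sub_cancel_left]; exact hb⟩
  let g : ℕ → R → R := fun j z => if h : z ∈ I (T j) then (hstep j z h).choose else 0
  have hg1 : ∀ j z, z ∈ I (T j) → g j z ∈ I (T (j + 1)) := by
    intro j z hz
    simp only [g, dif_pos hz]
    exact (hstep j z hz).choose_spec.1
  have hg2 : ∀ j z, z ∈ I (T j) → z - g j z ∈ m ^ j := by
    intro j z hz
    simp only [g, dif_pos hz]
    exact (hstep j z hz).choose_spec.2
  let y : ℕ → R := fun i => Nat.rec x (fun i z => g (n + i) z) i
  have hy0 : y 0 = x := rfl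
  have hysucc : ∀ i, y (i + 1) = g (n + i) (y i) := fun i => rfl
  have hymem : ∀ i, y i ∈ I (T (n + i)) := by
    intro i
    induction i with
    | zero => exact hx
    | succ i ih => rw [hysucc]; exact hg1 _ _ ih
  have hydiff : ∀ i d, y i - y (i + d) ∈ m ^ (n + i) := by
    intro i d
    induction d with
    | zero => simp
    | succ d ih =>
      have h1 : y (i + d) - y (i + d + 1) ∈ m ^ (n + (i + d)) := by
        rw [hysucc]; exact hg2 _ _ (hymem _)
      have h2 : y i - y (i + (d + 1)) = (y i - y (i + d)) + (y (i + d) - y (i + d + 1)) := by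
        rw [← add_assoc]; ring
      rw [h2]
      exact Ideal.add_mem _ ih (Ideal.pow_le_pow_right (by omega) h1)
  obtain ⟨L, hL⟩ := IsPrecomplete.prec' (I := m) (M := R) y (by
    intro a b hab
    rw [SModEq.sub_mem, smul_eq_mul, Ideal.mul_top]
    obtain ⟨d, rfl⟩ := Nat.exists_eq_add_of_le hab
    exact Ideal.pow_le_pow_right (by omega) (hydiff a d))
  have hL' : ∀ i, y i - L ∈ m ^ i := by
    intro i
    have := hL i
    rwa [SModEq.sub_mem, smul_eq_mul, Ideal.mul_top] at this
  -- the limit lies in every `I s`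
  have hL0 : L = 0 := by
    have : L ∈ ⨅ s, I s := by
      rw [Submodule.mem_iInf]
      intro s
      apply hclosed
      intro j
      -- choose `i ≥ max s j`
      set i := max s j with hi
      have h1 : y i ∈ I s := hI ((le_max_left s j).trans ((Nat.le_add_left i n).trans (hTj _))) (hymem i)
      have h2 : y i - L ∈ m ^ j := Ideal.pow_le_pow_right (le_max_right s j) (hL' i)
      have : L = y i - (y i - L) := by ring
      rw [this]
      exact Submodule.sub_mem _ (Submodule.mem_sup_left h1) (Submodule.mem_sup_right h2)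
    rw [hinf] at this
    exact this
  have h3 : x - y n ∈ m ^ n := by
    have := hydiff 0 n
    rw [hy0, zero_add, add_zero] at this
    exact this
  have h4 := hL' n
  rw [hL0, sub_zero] at h4
  have : x = (x - y n) + y n := by ring
  rw [this]
  exact Ideal.add_mem _ h3 h4

end Groth.Agent.S17754
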