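import Groth.Statements.S17779
import Mathlib
import Groth.Agent.Lib.helper26.FwdDiff

set_option autoImplicit false
open DRR

namespace Groth.Agent.S17779



/-- For natural numbers n and k with k ≤ n + 1, the alternating sum over j = 0, …, n of (−1)^(n−j) C(n,
j) j^k (with the convention 0^0 = 1) equals n! · n(n+1)/2 when k = n + 1, equals n! when k = n, and
vanishes when k < n. (The published statement takes n ≥ 1 and divides through by n!; the case n = 0
holds as well and is included.) -/
theorem result (n k : ℕ) (hk : k ≤ n + 1) :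
    (∑ j ∈ Finset.range (n + 1), (-1 : ℤ) ^ (n - j) * (n.choose j : ℤ) * (j : ℤ) ^ k) =
      (if k = n + 1 then (((n + 1).choose 2 * n.factorial : ℕ) : ℤ)
        else if k = n then (n.factorial : ℤ) else 0) := by
  have h1 := fwdDiff_iter_eq_sum_shift (h := (1 : ℤ)) (fun r : ℤ ↦ r ^ k) n 0
  have h2 : (∑ j ∈ Finset.range (n + 1), ((-1 : ℤ) ^ (n - j) * (n.choose j : ℤ)) • ((0 : ℤ) + j • (1 : ℤ)) ^ k)
      = ∑ j ∈ Finset.range (n + 1), (-1 : ℤ) ^ (n - j) * (n.choose j : ℤ) * (j : ℤ) ^ k := by
    apply Finset.sum_congr rfl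
    intro j _
    simp
  rw [h2] at h1
  rw [← h1]
  rcases Nat.lt_or_ge k n with hlt | hge
  · rw [Groth.Agent.Lib.helper26.fwdDiff_iter_pow_eq_zero 1 hlt]
    have e1 : k ≠ n + 1 := by omega
    have e2 : k ≠ n := by omega
    simp [e1, e2]
  · rcases Nat.eq_or_lt_of_le hge with heq | hgt
    · subst heq
      rw [Groth.Agent.Lib.helper26.fwdDiff_iter_pow_self 1 n]
      have e1 : n ≠ n + 1 := by omega
      simp [e1]
    · have heq : k = n + 1 := by omega
      subst heq
      rw [Groth.Agent.Lib.helper26.fwdDiff_iter_pow_succ 1 n 0]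
      simp

end Groth.Agent.S17779
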