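import Groth.Statements.S17781
import Mathlib

set_option autoImplicit false
open Variety

namespace Groth.Agent.S17781

section helpers



theorem lucas_one (p : ℕ) [hp : Fact p.Prime] : ∀ (k m : ℕ), 1 ≤ m →
    Nat.choose (p^k*m - 1) (p^k - 1) ≡ 1 [MOD p] := by
  have hp1 : 1 ≤ p := hp.out.one_lt.le
  have hmod : ∀ t : ℕ, (p * t + (p - 1)) % p = p - 1 := by
    intro t
    rw [Nat.mul_add_mod]
    exact Nat.mod_eq_of_lt (by omega)
  have hdiv : ∀ t : ℕ, (p * t + (p - 1)) / p = t := by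
    intro t
    rw [Nat.mul_add_div (by omega), Nat.div_eq_of_lt (by omega)]
    simp
  intro k
  induction k with
  | zero => intro m hm; simp [Nat.ModEq]
  | succ k ih =>
    intro m hm
    obtain ⟨t, ht⟩ : ∃ t, p^k*m = t+1 := by
      have : 0 < p^k*m := Nat.mul_pos (pow_pos (by omega) _) (by omega)
      exact ⟨p^k*m - 1, by omega⟩
    obtain ⟨s, hs⟩ : ∃ s, p^k = s+1 := by
      have : 0 < p^k := (pow_pos (by omega) _)
      exact ⟨p^k - 1, by omega⟩
    have e1 : p^(k+1)*m - 1 = p * t + (p - 1) := by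
      have : p^(k+1)*m = p * (t+1) := by rw [← ht]; ring
      rw [this, mul_add]; omega
    have e2 : p^(k+1) - 1 = p * s + (p - 1) := by
      have : p^(k+1) = p * (s+1) := by rw [← hs]; ring
      rw [this, mul_add]; omega
    have h := @Choose.choose_modEq_choose_mod_mul_choose_div_nat (p^(k+1)*m - 1) (p^(k+1) - 1) p _
    rw [e1, e2, hmod, hmod, hdiv, hdiv, Nat.choose_self, one_mul] at h
    rw [e1, e2]
    refine h.trans ?_
    have := ih m hm
    rw [ht, hs] at this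
    simpa using this

/-- p-part: if `q = p^k ∣ d`, then `C(d,q) = (d/q) * C(d-1,q-1)` with second factor prime to p. -/
theorem choose_pp (p : ℕ) [hp : Fact p.Prime] (k d : ℕ) (hd : 1 ≤ d) (hq : p^k ∣ d) :
    ∃ c, Nat.choose d (p^k) = (d / p^k) * c ∧ ¬ p ∣ c := by
  obtain ⟨m, rfl⟩ := hq
  have hqpos : 0 < p^k := pow_pos hp.out.pos _
  have hm : 1 ≤ m := by
    rcases Nat.eq_zero_or_pos m with h | h
    · subst h; simp at hd
    · exact h
  refine ⟨Nat.choose (p^k*m - 1) (p^k - 1), ?_, ?_⟩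
  · rw [Nat.mul_div_cancel_left _ hqpos]
    have h := Nat.add_one_mul_choose_eq (p^k*m - 1) (p^k - 1)
    have e1 : (p^k*m - 1) + 1 = p^k*m := by
      have : 0 < p^k*m := Nat.mul_pos hqpos hm
      omega
    have e2 : (p^k - 1) + 1 = p^k := by omega
    rw [e1, e2] at h
    have : p^k * (m * (p^k*m - 1).choose (p^k - 1)) = p^k * ((p^k*m).choose (p^k)) := by
      rw [mul_comm (p^k) ((p^k*m).choose (p^k)), ← h]; ring
    exact (Nat.eq_of_mul_eq_mul_left hqpos this).symm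
  · intro hdvd
    have h1 := lucas_one p k m hm
    have h0 : Nat.choose (p^k*m - 1) (p^k - 1) ≡ 0 [MOD p] := (Nat.modEq_zero_iff_dvd).2 hdvd
    have := h1.symm.trans h0
    rw [Nat.modEq_zero_iff_dvd] at this
    exact hp.out.one_lt.ne' (Nat.dvd_one.1 this)

theorem F3 (d N δ g : ℕ) (hd : 1 ≤ d) (hδd : δ ∣ d) (hδ1 : 1 ≤ δ) (hδN : δ ≤ N)
    (hg : ∀ n, 1 ≤ n → n ≤ N → g ∣ Nat.choose d n) : g ∣ d / δ := by
  rw [Nat.dvd_iff_prime_pow_dvd_dvd]
  intro p j hp hpj
  have : Fact p.Prime := ⟨hp⟩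
  -- k = v_p(δ)
  obtain ⟨k, r, hr, hδeq⟩ := Nat.exists_eq_pow_mul_and_not_dvd (by omega : δ ≠ 0) p hp.ne_one
  have hqδ : p^k ∣ δ := ⟨r, hδeq⟩
  have hqd : p^k ∣ d := hqδ.trans hδd
  have hqpos : 0 < p^k := pow_pos hp.pos _
  have hqN : p^k ≤ N := (Nat.le_of_dvd (by omega) hqδ).trans hδN
  obtain ⟨c, hc, hpc⟩ := choose_pp p k d hd hqd
  have h1 : p^j ∣ (d / p^k) * c := by
    rw [← hc]; exact hpj.trans (hg _ hqpos hqN)
  have h2 : p^j ∣ d / p^k :=
    (Nat.Coprime.pow_left j ((Nat.Prime.coprime_iff_not_dvd hp).2 hpc)).dvd_of_dvd_mul_right h1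
  -- d / p^k = (d/δ) * r
  obtain ⟨e, rfl⟩ := hδd
  have hδpos : 0 < δ := by omega
  rw [Nat.mul_div_cancel_left _ hδpos]
  have h3 : δ * e / p^k = e * r := by
    rw [hδeq, mul_assoc, Nat.mul_div_cancel_left _ hqpos, mul_comm]
  rw [h3] at h2
  exact (Nat.Coprime.pow_left j ((Nat.Prime.coprime_iff_not_dvd hp).2 hr)).dvd_of_dvd_mul_right h2

theorem F4 (d m : ℕ) (hd : 1 ≤ d) (hm : 1 ≤ m) :
    d / Nat.gcd m d ∣ Nat.choose d m := by
  set δ := Nat.gcd m d with hδ
  have hδpos : 0 < δ := Nat.gcd_pos_of_pos_left _ hm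
  obtain ⟨m', hm'⟩ : δ ∣ m := Nat.gcd_dvd_left _ _
  obtain ⟨d', hd'⟩ : δ ∣ d := Nat.gcd_dvd_right _ _
  have hcop : Nat.Coprime m' d' := by
    have := Nat.coprime_div_gcd_div_gcd (m := m) (n := d) hδpos
    rwa [← hδ, hm', hd', Nat.mul_div_cancel_left _ hδpos, Nat.mul_div_cancel_left _ hδpos] at this
  have hdd : d / δ = d' := by rw [hd', Nat.mul_div_cancel_left _ hδpos]
  rw [hdd]
  -- m * C(d,m) = d * C(d-1,m-1)
  have h := Nat.add_one_mul_choose_eq (d - 1) (m - 1)
  have e1 : (d-1) + 1 = d := by omega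
  have e2 : (m-1) + 1 = m := by omega
  rw [e1, e2] at h
  -- d * C(d-1,m-1) = C(d,m) * m
  have h' : d' * (d-1).choose (m-1) = d.choose m * m' := by
    apply Nat.eq_of_mul_eq_mul_left hδpos
    calc δ * (d' * (d-1).choose (m-1)) = d * (d-1).choose (m-1) := by rw [hd']; ring
      _ = d.choose m * m := h
      _ = δ * (d.choose m * m') := by rw [hm']; ring
  have : d' ∣ d.choose m * m' := ⟨_, h'.symm⟩
  exact hcop.symm.dvd_of_dvd_mul_right this



end helpers

/-- Let d ≥ 1 and N ≥ 1 be integers and let I(d, N) be the greatest common divisor of the quotients d/δ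
over the divisors δ of d with 1 ≤ δ ≤ N. Then I(d, N) equals the greatest common divisor of the
integers χ(d, n) = 1 − (−1)^n C(d − 1, n) for 1 ≤ n ≤ N (χ(d, n) is the Euler characteristic of O_H
for a degree-d hypersurface H in projective n-space). Both greatest common divisors are taken in ℤ,
normalised to be non-negative. -/
theorem result (d N : ℕ) (hd : 1 ≤ d) (hN : 1 ≤ N) :
    (Finset.Icc 1 N).gcd (fun n => 1 - (-1 : ℤ) ^ n * ((d - 1).choose n : ℤ)) =
      ((Finset.Icc 1 N).filter (fun δ => δ ∣ d)).gcd (fun δ => ((d / δ : ℕ) : ℤ)) := by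
  set a : ℕ → ℤ := fun n => 1 - (-1 : ℤ) ^ n * ((d - 1).choose n : ℤ) with ha
  have a0 : a 0 = 0 := by simp [ha]
  have astep : ∀ n, a (n+1) = a n + (-1)^n * (d.choose (n+1) : ℤ) := by
    intro n
    have : d.choose (n+1) = (d-1).choose n + (d-1).choose (n+1) := by
      obtain ⟨e, rfl⟩ : ∃ e, d = e + 1 := ⟨d - 1, by omega⟩
      simp [Nat.choose_succ_succ]
    simp only [ha]
    rw [this]; push_cast; ring
  apply dvd_antisymm_of_normalize_eq (Finset.normalize_gcd ..) (Finset.normalize_gcd ..)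
  · -- LHS ∣ RHS
    apply Finset.dvd_gcd
    intro δ hδ
    rw [Finset.mem_filter, Finset.mem_Icc] at hδ
    set G := (Finset.Icc 1 N).gcd a with hG
    have hGa : ∀ n, 1 ≤ n → n ≤ N → G ∣ a n := fun n h1 h2 =>
      Finset.gcd_dvd (Finset.mem_Icc.2 ⟨h1, h2⟩)
    have hGc : ∀ n, 1 ≤ n → n ≤ N → G ∣ (d.choose n : ℤ) := by
      intro n h1 h2
      obtain ⟨m, rfl⟩ : ∃ m, n = m + 1 := ⟨n - 1, by omega⟩
      have hm : G ∣ a m := by
        rcases Nat.eq_zero_or_pos m with h | h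
        · subst h; rw [a0]; exact dvd_zero _
        · exact hGa m h (by omega)
      have h3 : G ∣ a (m+1) - a m := dvd_sub (hGa _ h1 h2) hm
      rw [astep] at h3
      have h4 : a m + (-1)^m * (d.choose (m+1) : ℤ) - a m = (-1)^m * (d.choose (m+1) : ℤ) := by ring
      rw [h4] at h3
      rcases neg_one_pow_eq_or ℤ m with h | h
      · rw [h, one_mul] at h3; exact h3
      · rw [h, neg_one_mul, dvd_neg] at h3; exact h3
    have := F3 d N δ G.natAbs hd hδ.2 hδ.1.1 hδ.1.2 (fun n h1 h2 => by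
      have := hGc n h1 h2
      exact Int.natAbs_dvd_natAbs.2 this |>.trans (by simp))
    exact Int.natAbs_dvd.1 (Int.natCast_dvd_natCast.2 this)
  · apply Finset.dvd_gcd
    intro n hn
    rw [Finset.mem_Icc] at hn
    set G := ((Finset.Icc 1 N).filter (fun δ => δ ∣ d)).gcd (fun δ => ((d / δ : ℕ) : ℤ)) with hG
    have hGc : ∀ m, 1 ≤ m → m ≤ N → G ∣ (d.choose m : ℤ) := by
      intro m h1 h2
      have hδpos : 0 < Nat.gcd m d := Nat.gcd_pos_of_pos_left _ h1
      have hmem : Nat.gcd m d ∈ (Finset.Icc 1 N).filter (fun δ => δ ∣ d) := by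
        rw [Finset.mem_filter, Finset.mem_Icc]
        exact ⟨⟨hδpos, (Nat.le_of_dvd h1 (Nat.gcd_dvd_left _ _)).trans h2⟩, Nat.gcd_dvd_right _ _⟩
      have h3 : G ∣ ((d / Nat.gcd m d : ℕ) : ℤ) := Finset.gcd_dvd hmem
      exact h3.trans (Int.natCast_dvd_natCast.2 (F4 d m hd h1))
    have key : ∀ m, m ≤ N → G ∣ a m := by
      intro m
      induction m with
      | zero => intro _; rw [a0]; exact dvd_zero _
      | succ m ih =>
        intro hm
        rw [astep]
        exact dvd_add (ih (by omega)) (Dvd.dvd.mul_left (hGc _ (by omega) hm) _)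
    exact key n hn.2

end Groth.Agent.S17781
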