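import Groth.Statements.S17797
import Mathlib

set_option autoImplicit false
universe u
open CAlg

namespace Groth.Agent.S17797

section Aux

/-- a subalgebra `D` of `S` such that every element of `S` is a fraction of elements of `D` with unit
denominator: `S` is a localization of `D`. -/
theorem isLocalization_of_fractions {R S : Type u} [CommRing R] [CommRing S] [Algebra R S]
    (D : Subalgebra R S) (h : ∀ s : S, ∃ t ∈ D, IsUnit t ∧ s * t ∈ D) :
    IsLocalization ((IsUnit.submonoid S).comap (algebraMap D S)) S := by
  constructor; constructor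
  · exact fun y ↦ y.prop
  · intro s
    obtain ⟨t, ht, ht', h⟩ := h s
    exact ⟨⟨⟨_, h⟩, ⟨t, ht⟩, ht'⟩, rfl⟩
  · intro x y e
    exact ⟨1, by simpa using Subtype.ext e⟩

end Aux

/-- Suppose k is a field of characteristic zero and S is a local domain that is an essentially
finite-type k-algebra. Then there are an extension field K of k, a K-algebra A of finite type and a
maximal ideal m of A such that S is isomorphic over k to the localization A_m. -/
theorem result (k : Type u) [Field k] [CharZero k] (S : Type u) [CommRing S] [IsDomain S] [IsLocalRing S] [Algebra k S] [Algebra.EssFiniteType k S] : ∃ (K : Type u) (_ : Field K) (_ : Algebra k K) (A : Type u) (_ : CommRing A) (_ : Algebra K A) (_ : Algebra k A) (_ : IsScalarTower k K A) (_ : Algebra.FiniteType K A) (m : Ideal A) (_ : m.IsMaximal), Nonempty (S ≃ₐ[k] Localization.AtPrime m) := by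
  classical
  let κ := IsLocalRing.ResidueField S
  let res : S →ₐ[k] κ := { IsLocalRing.residue S with commutes' := fun r => rfl }
  let σ := Algebra.EssFiniteType.finset k S
  -- κ is algebraic over the subalgebra generated by the images of σ
  have hmap : ∀ c ∈ Algebra.adjoin k (σ : Set S), res c ∈ Algebra.adjoin k (res '' (σ : Set S)) := by
    intro c hc
    rw [← AlgHom.map_adjoin]
    exact ⟨c, hc, rfl⟩
  haveI halg : Algebra.IsAlgebraic (Algebra.adjoin k (res '' (σ : Set S))) κ := by
    constructor
    intro x
    obtain ⟨s, rfl⟩ := IsLocalRing.residue_surjective x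
    obtain ⟨⟨c, w⟩, hcw⟩ := IsLocalization.surj (Algebra.EssFiniteType.submonoid k S) s
    have hw : IsUnit (w.1.1 : S) := w.2
    have hcw' : s * (w.1.1 : S) = c.1 := hcw
    let a' : Algebra.adjoin k (res '' (σ : Set S)) := ⟨res c.1, hmap _ c.2⟩
    let b' : Algebra.adjoin k (res '' (σ : Set S)) := ⟨res w.1.1, hmap _ w.1.2⟩
    have hb' : b' ≠ 0 := by
      intro h
      have h1 : res (w.1.1 : S) = 0 := congrArg Subtype.val h
      have h2 : (w.1.1 : S) ∈ IsLocalRing.maximalIdeal S := (IsLocalRing.residue_eq_zero_iff _).mp h1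
      exact h2 hw
    refine ⟨Polynomial.C b' * Polynomial.X - Polynomial.C a', ?_, ?_⟩
    · intro h
      have := congrArg (fun p => Polynomial.coeff p 1) h
      simp at this
      exact hb' this
    · simp only [map_sub, map_mul, Polynomial.aeval_C, Polynomial.aeval_X]
      show res w.1.1 * res s - res c.1 = 0
      rw [← map_mul, mul_comm, hcw', sub_self]
  obtain ⟨ub, hub, hu⟩ := exists_isTranscendenceBasis_subset (R := k) (res '' (σ : Set S))
  have hch : ∀ j : ub, ∃ s : S, s ∈ (σ : Set S) ∧ res s = j := fun j => hub j.2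
  choose ℓ hℓσ hℓ using hch
  let P := MvPolynomial ub k
  let a0 : P →ₐ[k] S := MvPolynomial.aeval ℓ
  have hresa0 : ∀ p : P, res (a0 p) = MvPolynomial.aeval (Subtype.val : ub → κ) p := by
    intro p
    show (res.comp a0) p = _
    congr 1
    apply MvPolynomial.algHom_ext
    intro j
    simp [a0, hℓ]
  have ha0unit : ∀ y : nonZeroDivisors P, IsUnit (a0.toRingHom y) := by
    intro y
    by_contra hy
    have h1 : res (a0 y) = 0 := (IsLocalRing.residue_eq_zero_iff _).mpr hy
    rw [hresa0] at h1
    have h2 : (y : P) = 0 := hu.1 (by rw [h1, map_zero])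
    exact nonZeroDivisors.ne_zero y.2 h2
  let K := FractionRing P
  let hK : K →+* S := IsLocalization.lift (M := nonZeroDivisors P) (g := a0.toRingHom) ha0unit
  letI : Algebra K S := hK.toAlgebra
  have hKP : ∀ p : P, algebraMap K S (algebraMap P K p) = a0 p := fun p => IsLocalization.lift_eq _ p
  haveI : IsScalarTower k K S := IsScalarTower.of_algebraMap_eq (fun c => by
    rw [IsScalarTower.algebraMap_apply k P K, hKP, AlgHom.commutes])
  letI : Algebra K κ := (res.toRingHom.comp (algebraMap K S)).toAlgebra
  haveI : IsScalarTower K S κ := IsScalarTower.of_algebraMap_eq (fun c => rfl)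
  let resK : S →ₐ[K] κ := { res.toRingHom with commutes' := fun r => rfl }
  -- κ is algebraic over K
  haveI hKalg : Algebra.IsAlgebraic K κ := by
    haveI := hu.isAlgebraic
    let f : Algebra.adjoin k (Set.range (Subtype.val : ub → κ)) →+* K :=
      (algebraMap P K).comp (hu.1.aevalEquiv.symm : _ →+* P)
    refine Algebra.IsAlgebraic.ringHom_of_comp_eq f (RingHom.id κ) ?_ Function.surjective_id ?_
    · exact (IsFractionRing.injective P K).comp hu.1.aevalEquiv.symm.injective
    · ext d
      obtain ⟨p, rfl⟩ := hu.1.aevalEquiv.surjective d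
      show algebraMap K κ (algebraMap P K (hu.1.aevalEquiv.symm (hu.1.aevalEquiv p))) = _
      rw [AlgEquiv.symm_apply_apply]
      show res (algebraMap K S (algebraMap P K p)) = _
      rw [hKP, hresa0]
      rfl
  let A : Subalgebra K S := Algebra.adjoin K (σ : Set S)
  let f : A →ₐ[K] κ := resK.comp A.val
  let m : Ideal A := RingHom.ker f
  haveI hmprime : m.IsPrime := RingHom.ker_isPrime f
  have hmem : ∀ a : A, a ∈ m ↔ ¬ IsUnit (a : S) := by
    intro a
    rw [RingHom.mem_ker]
    show res (a : S) = 0 ↔ _
    exact IsLocalRing.residue_eq_zero_iff _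
  haveI hmax : m.IsMaximal := by
    apply Ideal.Quotient.maximal_of_isField
    haveI : Algebra.IsIntegral K κ := Algebra.IsAlgebraic.isIntegral
    haveI : Algebra.IsIntegral K (A ⧸ m) := by
      constructor
      intro x
      have hinj : Function.Injective (Ideal.kerLiftAlg f) := Ideal.kerLiftAlg_injective f
      exact (isIntegral_algHom_iff (Ideal.kerLiftAlg f) hinj).mp (Algebra.IsIntegral.isIntegral _)
    exact isField_of_isIntegral_of_isField' (R := K) (S := A ⧸ m) (Field.toIsField K)
  haveI : Algebra.FiniteType K A := by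
    constructor
    rw [Subalgebra.fg_top]
    exact ⟨σ, rfl⟩
  have hsub : ∀ c ∈ Algebra.adjoin k (σ : Set S), c ∈ A := by
    intro c hc
    have : Algebra.adjoin k (σ : Set S) ≤ A.restrictScalars k :=
      Algebra.adjoin_le (fun x hx => Algebra.subset_adjoin hx)
    exact this hc
  have hfrac : ∀ s : S, ∃ t ∈ A, IsUnit t ∧ s * t ∈ A := by
    intro s
    obtain ⟨⟨c, w⟩, hcw⟩ := IsLocalization.surj (Algebra.EssFiniteType.submonoid k S) s
    have hw : IsUnit (w.1.1 : S) := w.2
    have hcw' : s * (w.1.1 : S) = c.1 := hcw
    exact ⟨w.1.1, hsub _ w.1.2, hw, by rw [hcw']; exact hsub _ c.2⟩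
  have hloc0 := isLocalization_of_fractions A hfrac
  have hprimeCompl : m.primeCompl = (IsUnit.submonoid S).comap (algebraMap A S) := by
    ext a
    rw [Ideal.mem_primeCompl_iff, hmem, not_not]
    rfl
  haveI hloc : IsLocalization.AtPrime S m := by
    show IsLocalization m.primeCompl S
    rw [hprimeCompl]; exact hloc0
  refine ⟨K, inferInstance, inferInstance, A, inferInstance, inferInstance, inferInstance,
    inferInstance, inferInstance, m, hmax, ⟨?_⟩⟩
  exact (IsLocalization.algEquiv m.primeCompl S (Localization.AtPrime m)).restrictScalars k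

end Groth.Agent.S17797
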