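import Groth.Statements.S17825
import Mathlib
-- import your own Groth.Agent.* helpers here

set_option autoImplicit false
universe u
open CategoryTheory CategoryTheory.Limits AlgebraicGeometry
open JacVar

namespace Groth.Agent.S17825

namespace H5S17825
open CategoryTheory CategoryTheory.Limits Opposite

universe v u'
variable {C : Type u'} [Category.{v} C] [HasEqualizers C]

theorem main (Y : C) (F : Cᵒᵖ ⥤ Type v) (f : yoneda.obj Y ⟶ F) (s : F ⟶ yoneda.obj Y)
    (hsf : s ≫ f = 𝟙 F) :
    ∃ ε : Y ⟶ Y, ∃ e : F ≅ yoneda.obj (equalizer ε (𝟙 Y)),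
      e.hom ≫ yoneda.map (equalizer.ι ε (𝟙 Y)) = s := by
  let ε : Y ⟶ Y := s.app (op Y) (f.app (op Y) (𝟙 Y))
  have hε : ∀ (T : Cᵒᵖ) (y : T.unop ⟶ Y), s.app T (f.app T y) = y ≫ ε := by
    intro T y
    have h1 := NatTrans.naturality_apply (f ≫ s) (y.op) (𝟙 Y)
    simp only [yoneda_obj_map, NatTrans.comp_app_apply, Quiver.Hom.unop_op,
      TypeCat.ofHom_apply, Category.comp_id, Opposite.op_unop] at h1
    exact h1
  have hsfx : ∀ (T : Cᵒᵖ) (x : F.obj T), f.app T (s.app T x) = x := by
    intro T x
    have := ConcreteCategory.congr_hom (NatTrans.congr_app hsf T) x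
    simpa using this
  have hcond : ∀ (T : Cᵒᵖ) (x : F.obj T), (s.app T x : T.unop ⟶ Y) ≫ ε = s.app T x ≫ 𝟙 Y := by
    intro T x
    rw [← hε, hsfx, Category.comp_id]
  refine ⟨ε, ⟨{ app := fun T => ↾ (fun x => equalizer.lift (s.app T x) (hcond T x)), naturality := ?_ },
    yoneda.map (equalizer.ι ε (𝟙 Y)) ≫ f, ?_, ?_⟩, ?_⟩
  · intro T T' g
    ext x
    apply equalizer.hom_ext
    have := NatTrans.naturality_apply s g x
    simp only [types_comp_apply, yoneda_obj_map, TypeCat.ofHom_apply, TypeCat.Fun.toFun_apply] at this ⊢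
    rw [equalizer.lift_ι, Category.assoc, equalizer.lift_ι]
    exact this
  · ext T x
    simp only [NatTrans.comp_app_apply, yoneda_map_app, equalizer.lift_ι, NatTrans.id_app,
      types_id_apply, TypeCat.ofHom_apply, TypeCat.Fun.toFun_apply]
    exact hsfx T x
  · ext T z
    apply equalizer.hom_ext
    simp only [NatTrans.comp_app_apply, yoneda_map_app, equalizer.lift_ι, NatTrans.id_app,
      types_id_apply, TypeCat.ofHom_apply, TypeCat.Fun.toFun_apply]
    rw [hε, Category.assoc, equalizer.condition, Category.comp_id]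
  · ext T x
    simp only [NatTrans.comp_app_apply, yoneda_map_app, equalizer.lift_ι, TypeCat.ofHom_apply,
      TypeCat.Fun.toFun_apply]

end H5S17825

/-- Let S be a scheme, Y an S-scheme separated over S, F a presheaf of sets on the category of
S-schemes, f : h_Y ⟶ F a morphism from the functor of points of Y, and s : F ⟶ h_Y a section of f (s
followed by f is the identity). Then F is represented by a closed subscheme of Y: there are an
S-scheme Z, a morphism i : Z ⟶ Y over S which is a closed immersion, and an isomorphism F ≅ h_Z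
whose composite with h_i : h_Z ⟶ h_Y is s. (The published lemma treats the case where Y is the r-th
symmetric power of a curve, F the functor of degree-r invertible families modulo twisting and f the
divisor-class map.) -/
theorem result {S : Scheme.{u}} (Y : Over S) [IsSeparated Y.hom]
    (F : (Over S)ᵒᵖ ⥤ Type u) (f : yoneda.obj Y ⟶ F) (s : F ⟶ yoneda.obj Y) (hsf : s ≫ f = 𝟙 F) :
    ∃ (Z : Over S) (i : Z ⟶ Y), IsClosedImmersion i.left ∧
      ∃ e : F ≅ yoneda.obj Z, e.hom ≫ yoneda.map i = s := by
  obtain ⟨ε, e, he⟩ := H5S17825.main Y F f s hsf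
  exact ⟨equalizer ε (𝟙 Y), equalizer.ι ε (𝟙 Y), inferInstance, e, he⟩

end Groth.Agent.S17825
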