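import Groth.Statements.S17843
import Mathlib

set_option autoImplicit false
universe u v
open CAlg

namespace Groth.Agent.S17843

open Polynomial

section helpers

open Polynomial

section
variable {R : Type*} [CommRing R]

lemma exists_lift_alg {P B C : Type*} [CommRing P] [CommRing B] [CommRing C] [Algebra R P]
    [Algebra R B] [Algebra R C] (π : P →ₐ[R] B) (hπ : Function.Surjective π) (g : P →ₐ[R] C)
    (hg : ∀ z, π z = 0 → g z = 0) : ∃ y : B →ₐ[R] C, ∀ z, y (π z) = g z := by
  refine ⟨(Ideal.Quotient.liftₐ (RingHom.ker π) g (fun a ha => hg a ha)).comp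
    (Ideal.quotientKerAlgEquivOfSurjective hπ).symm.toAlgHom, fun z => ?_⟩
  have : (Ideal.quotientKerAlgEquivOfSurjective hπ).symm (π z) =
      Ideal.Quotient.mk (RingHom.ker π) z := by
    rw [AlgEquiv.symm_apply_eq]
    rfl
  simp only [AlgHom.comp_apply, AlgEquiv.coe_toAlgHom]
  rw [this]
  rfl

/-- killing: a polynomial over `R` mapping to zero over `R[1/r]` with zero constant term is killed by
`T ↦ r^s T` for all large `s`. -/
lemma kill (r : R) (g : R[X]) (h0 : g.coeff 0 = 0)
    (hg : g.map (algebraMap R (Localization.Away r)) = 0) :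
    ∃ s : ℕ, ∀ s', s ≤ s' → g.comp (C (r ^ s') * X) = 0 := by
  have hc : ∀ d, ∃ e : ℕ, r ^ e * g.coeff d = 0 := by
    intro d
    have h1 : algebraMap R (Localization.Away r) (g.coeff d) = 0 := by
      have := congrArg (fun q => q.coeff d) hg
      simpa using this
    rw [IsLocalization.map_eq_zero_iff (Submonoid.powers r)] at h1
    obtain ⟨⟨_, e, rfl⟩, he⟩ := h1
    exact ⟨e, he⟩
  choose e he using hc
  refine ⟨(Finset.range (g.natDegree + 1)).sup e, fun s' hs' => ?_⟩
  ext d
  rw [comp_C_mul_X_coeff, coeff_zero]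
  by_cases hd : d = 0
  · subst hd; rw [h0, zero_mul]
  by_cases hd2 : d ≤ g.natDegree
  · have h1 : e d ≤ s' := le_trans (Finset.le_sup (f := e) (Finset.mem_range.mpr (by omega))) hs'
    have h2 : e d ≤ s' * d := le_trans h1 (Nat.le_mul_of_pos_right _ (Nat.pos_of_ne_zero hd))
    rw [← pow_mul, ← Nat.sub_add_cancel h2, pow_add, mul_comm (g.coeff d), mul_assoc, he, mul_zero]
  · rw [coeff_eq_zero_of_natDegree_lt (by omega), zero_mul]

/-- lifting: a polynomial over `R[1/r]` whose constant term comes from `a ∈ R` becomes, after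
`T ↦ r^n T` for large `n`, the image of a polynomial over `R` with constant term `a`. -/
lemma liftp (r : R) (p : (Localization.Away r)[X]) (a : R)
    (ha : p.coeff 0 = algebraMap R (Localization.Away r) a) :
    ∃ n : ℕ, ∀ n', n ≤ n' → ∃ q : R[X], q.coeff 0 = a ∧
      q.map (algebraMap R (Localization.Away r)) =
        p.comp (C (algebraMap R (Localization.Away r) (r ^ n')) * X) := by
  have hc : ∀ d, ∃ (b : R) (e : ℕ), p.coeff d * algebraMap R _ (r ^ e) = algebraMap R _ b := by
    intro d
    obtain ⟨⟨b, ⟨_, e, rfl⟩⟩, h⟩ := IsLocalization.surj (Submonoid.powers r) (p.coeff d)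
    exact ⟨b, e, h⟩
  choose b e hbe using hc
  refine ⟨(Finset.range (p.natDegree + 1)).sup e, fun n' hn' => ?_⟩
  refine ⟨∑ d ∈ Finset.range (p.natDegree + 1),
    monomial d (if d = 0 then a else b d * r ^ (n' * d - e d)), ?_, ?_⟩
  · rw [finsetSum_coeff]
    simp only [coeff_monomial]
    rw [Finset.sum_eq_single 0]
    · simp
    · intro d _ hd
      rw [if_neg hd]
    · intro h; exact absurd (Finset.mem_range.mpr (Nat.succ_pos _)) h
  · ext d
    rw [comp_C_mul_X_coeff, coeff_map, finsetSum_coeff]
    simp only [coeff_monomial]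
    by_cases hd2 : d ≤ p.natDegree
    · rw [Finset.sum_eq_single d]
      · rw [if_pos rfl]
        by_cases hd : d = 0
        · subst hd; rw [if_pos rfl, ha]; simp
        · rw [if_neg hd]
          have h1 : e d ≤ n' := le_trans (Finset.le_sup (f := e) (Finset.mem_range.mpr (by omega))) hn'
          have h2 : e d ≤ n' * d := le_trans h1 (Nat.le_mul_of_pos_right _ (Nat.pos_of_ne_zero hd))
          rw [map_mul, ← hbe, map_pow, map_pow, map_pow, mul_assoc, ← pow_add, ← pow_mul,
            Nat.add_sub_cancel' h2]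
      · intro d' _ hd'
        rw [if_neg hd']
      · intro h; exact absurd (Finset.mem_range.mpr (by omega)) h
    · rw [coeff_eq_zero_of_natDegree_lt (by omega), zero_mul, Finset.sum_eq_zero, map_zero]
      intro d' hd'
      rw [if_neg (by have := Finset.mem_range.mp hd'; omega)]

end

end helpers

/-- In the case of an affine scheme of finite presentation, let B be a finitely presented R-algebra, r ∈
R, and x : B → R[1/r][T] an R-algebra homomorphism whose value at T = 0, a homomorphism B → R[1/r],
is induced by a homomorphism x̃₀ : B → R. Then for every large enough n, the homomorphism x(rⁿT) : B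
→ R[1/r][T] is induced by a homomorphism x̃ : B → R[T] whose value at T = 0 is x̃₀. The published
statement is for algebraic spaces locally of finite presentation over R; this row takes an affine
scheme of finite presentation. -/
theorem result
    (R : Type u) (B : Type v) [CommRing R] [CommRing B] [Algebra R B]
    [Algebra.FinitePresentation R B] (r : R)
    (x : B →ₐ[R] Polynomial (Localization.Away r))
    (x₀ : B →ₐ[R] R)
    (hx₀ : (algebraMap R (Localization.Away r)).comp x₀.toRingHom =
      (Polynomial.evalRingHom 0).comp x.toRingHom) :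
    ∃ N : ℕ, ∀ n : ℕ, N ≤ n →
      ∃ y : B →ₐ[R] Polynomial R,
        (Polynomial.evalRingHom 0).comp y.toRingHom = x₀.toRingHom ∧
        (Polynomial.mapRingHom (algebraMap R (Localization.Away r))).comp y.toRingHom =
          (Polynomial.aeval (Polynomial.C (algebraMap R (Localization.Away r) (r ^ n)) * Polynomial.X) :
              Polynomial (Localization.Away r) →ₐ[Localization.Away r] Polynomial (Localization.Away r)).toRingHom.comp
            x.toRingHom := by
  classical
  obtain ⟨k, π, hπ, hfg⟩ := Algebra.FinitePresentation.out (R := R) (A := B)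
  obtain ⟨F, hF⟩ := hfg
  have hA : ∀ i : Fin k, ∃ n, ∀ n', n ≤ n' → ∃ q : R[X], q.coeff 0 = x₀ (π (MvPolynomial.X i)) ∧
      q.map (algebraMap R (Localization.Away r)) =
        (x (π (MvPolynomial.X i))).comp (C (algebraMap R (Localization.Away r) (r ^ n')) * X) := by
    intro i
    apply liftp r
    have := congrArg (fun φ => φ (π (MvPolynomial.X i))) hx₀
    simp only [RingHom.comp_apply] at this
    rw [coeff_zero_eq_eval_zero]
    exact this.symm
  choose nA hnA using hA
  obtain ⟨n', hn'def⟩ : ∃ n' : ℕ, n' = Finset.univ.sup nA := ⟨_, rfl⟩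
  have hn' : ∀ i, nA i ≤ n' := fun i => hn'def ▸ Finset.le_sup (Finset.mem_univ i)
  choose q hq0 hqmap using fun i => hnA i n' (hn' i)
  obtain ⟨y', hy'def⟩ : ∃ y' : MvPolynomial (Fin k) R →ₐ[R] R[X], y' = MvPolynomial.aeval q := ⟨_, rfl⟩
  have hy'0 : ∀ z, (y' z).coeff 0 = x₀ (π z) := by
    intro z
    have : ((Polynomial.aeval (0 : R)).comp y' : MvPolynomial (Fin k) R →ₐ[R] R) = x₀.comp π := by
      apply MvPolynomial.algHom_ext
      intro i
      simp [hy'def, ← coeff_zero_eq_eval_zero, hq0]
    have := congrArg (fun φ => φ z) this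
    simpa [coeff_zero_eq_eval_zero] using this
  have hy'map : ∀ z, (y' z).map (algebraMap R (Localization.Away r)) =
      (x (π z)).comp (C (algebraMap R (Localization.Away r) (r ^ n')) * X) := by
    intro z
    have : (Polynomial.mapRingHom (algebraMap R (Localization.Away r))).comp y'.toRingHom =
        ((Polynomial.compRingHom (C (algebraMap R (Localization.Away r) (r ^ n')) * X)).comp
          x.toRingHom).comp π.toRingHom := by
      apply MvPolynomial.ringHom_ext
      · intro c; simp [hy'def]
      · intro i; simp [hy'def, hqmap]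
    exact congrArg (fun φ => φ z) this
  have hB : ∀ f ∈ F, ∃ s, ∀ s', s ≤ s' → (y' f).comp (C (r ^ s') * X) = 0 := by
    intro f hf
    have hfker : π f = 0 := by
      have : f ∈ RingHom.ker π := hF ▸ Ideal.subset_span hf
      exact this
    apply kill r (y' f)
    · rw [hy'0, hfker, map_zero]
    · rw [hy'map, hfker, map_zero, zero_comp]
  choose! sB hsB using hB
  refine ⟨n' + F.sup sB, fun n hn => ?_⟩
  obtain ⟨s', hs'def⟩ : ∃ s' : ℕ, s' = n - n' := ⟨_, rfl⟩
  have hs' : F.sup sB ≤ s' := by omega
  have hns : n = n' + s' := by omega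
  obtain ⟨g, hgdef⟩ : ∃ g : MvPolynomial (Fin k) R →ₐ[R] R[X],
      g = (Polynomial.aeval (C (r ^ s') * X) : R[X] →ₐ[R] R[X]).comp y' := ⟨_, rfl⟩
  have hg : ∀ z, g z = (y' z).comp (C (r ^ s') * X) := fun z => by rw [hgdef]; rfl
  have hgker : ∀ z, π z = 0 → g z = 0 := by
    intro z hz
    have hz' : z ∈ Ideal.span (F : Set (MvPolynomial (Fin k) R)) := by rw [hF]; exact hz
    have : Ideal.span (F : Set (MvPolynomial (Fin k) R)) ≤ RingHom.ker g := by
      rw [Ideal.span_le]
      intro f hf
      change g f = 0
      rw [hg]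
      exact hsB f hf s' (le_trans (Finset.le_sup hf) hs')
    exact this hz'
  obtain ⟨y, hy⟩ := exists_lift_alg π hπ g hgker
  refine ⟨y, ?_, ?_⟩
  · apply RingHom.ext
    intro b
    obtain ⟨z, rfl⟩ := hπ b
    simp only [RingHom.comp_apply, AlgHom.toRingHom_eq_coe, RingHom.coe_coe, hy, hg,
      coe_evalRingHom]
    rw [← coeff_zero_eq_eval_zero, comp_C_mul_X_coeff, pow_zero, mul_one, hy'0]
  · apply RingHom.ext
    intro b
    obtain ⟨z, rfl⟩ := hπ b
    simp only [RingHom.comp_apply, AlgHom.toRingHom_eq_coe, RingHom.coe_coe, hy, hg,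
      coe_mapRingHom]
    rw [Polynomial.map_comp, hy'map]
    ext d
    simp only [Polynomial.map_mul, Polynomial.map_C, Polynomial.map_X, ← comp_eq_aeval,
      comp_C_mul_X_coeff]
    rw [hns, pow_add, map_mul, map_pow, map_pow, mul_pow, mul_assoc]

end Groth.Agent.S17843
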