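import Groth.Statements.S17859
import Mathlib

set_option autoImplicit false
open CategoryTheory MonoidalCategory
universe u
open Algz

namespace Groth.Agent.S17859

open TensorProduct in
theorem lemmaA {R : Type u} [CommRing R] {M : Type u} [AddCommGroup M] [Module R M] {n : ℕ}
    (x : Fin n → M) (φ : Fin n → Module.Dual R M) (h : ∀ m : M, m = ∑ i, φ i m • x i) :
    (contractLeft R M).rTensor _ ∘ₗ
        (TensorProduct.assoc R _ _ _).symm.toLinearMap ∘ₗ
          (LinearMap.toSpanSingleton R (M ⊗[R] Module.Dual R M)
            (∑ i, x i ⊗ₜ[R] φ i)).lTensor (Module.Dual R M) =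
      (TensorProduct.lid R _).symm.toLinearMap ∘ₗ (TensorProduct.rid R _).toLinearMap := by
  apply TensorProduct.ext
  refine LinearMap.ext fun f => ?_
  apply LinearMap.ext_ring
  rw [LinearMap.compr₂ₛₗ_apply, LinearMap.compr₂ₛₗ_apply, TensorProduct.mk_apply]
  simp only [LinearMap.coe_comp, Function.comp_apply, LinearEquiv.coe_toLinearMap]
  rw [rid_tmul, one_smul, lid_symm_apply]
  simp only [LinearMap.lTensor_tmul, LinearMap.toSpanSingleton_apply, one_smul]
  rw [TensorProduct.tmul_sum, map_sum]
  simp only [assoc_symm_tmul]
  rw [map_sum]
  simp only [LinearMap.rTensor_tmul, contractLeft_apply]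
  have hf : f = ∑ i, f (x i) • φ i := by
    refine LinearMap.ext fun m => ?_
    conv_lhs => rw [h m]
    simp [mul_comm]
  conv_rhs => rw [hf]
  rw [TensorProduct.tmul_sum]
  refine Finset.sum_congr rfl fun i _ => ?_
  rw [TensorProduct.tmul_smul, TensorProduct.smul_tmul', smul_eq_mul, mul_one]

open TensorProduct in
theorem lemmaB {R : Type u} [CommRing R] {M : Type u} [AddCommGroup M] [Module R M] {n : ℕ}
    (x : Fin n → M) (φ : Fin n → Module.Dual R M) (h : ∀ m : M, m = ∑ i, φ i m • x i) :
    (contractLeft R M).lTensor _ ∘ₗ
        (TensorProduct.assoc R _ _ _).toLinearMap ∘ₗ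
          (LinearMap.toSpanSingleton R (M ⊗[R] Module.Dual R M)
            (∑ i, x i ⊗ₜ[R] φ i)).rTensor M =
      (TensorProduct.rid R _).symm.toLinearMap ∘ₗ (TensorProduct.lid R _).toLinearMap := by
  apply TensorProduct.ext
  apply LinearMap.ext_ring
  refine LinearMap.ext fun m => ?_
  rw [LinearMap.compr₂ₛₗ_apply, LinearMap.compr₂ₛₗ_apply, TensorProduct.mk_apply]
  simp only [LinearMap.coe_comp, Function.comp_apply, LinearEquiv.coe_toLinearMap]
  rw [lid_tmul, one_smul, rid_symm_apply]
  simp only [LinearMap.rTensor_tmul, LinearMap.toSpanSingleton_apply, one_smul]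
  rw [TensorProduct.sum_tmul, map_sum]
  simp only [assoc_tmul]
  rw [map_sum]
  simp only [LinearMap.lTensor_tmul, contractLeft_apply]
  conv_rhs => rw [h m]
  rw [TensorProduct.sum_tmul]
  refine Finset.sum_congr rfl fun i _ => ?_
  rw [TensorProduct.smul_tmul, smul_eq_mul, mul_one]

/-- Over an affine scheme, that is for modules over a commutative ring `R`, a finitely generated
projective `R`-module `M`, viewed as an object of the monoidal category of `R`-modules (tensor
product over `R`), has a right dual. (The published statement is the equivalence, for quasi-coherent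
sheaves on a quasi-compact quasi-separated scheme, between being dualizable and being a vector
bundle; stated here is the affine case of the implication from vector bundle to dualizable. The
converse implication, that a module admitting a dual is finitely generated projective, is stated
separately and is not repeated here.) -/
theorem result (R : Type u) [CommRing R] (M : ModuleCat.{u} R)
    [Module.Finite R M] [Module.Projective R M] : Nonempty (HasRightDual M) := by
  obtain ⟨n, f, g, -, -, hfg⟩ := Module.Finite.exists_comp_eq_id_of_projective R M
  let x : Fin n → M := fun i => f (Pi.single i 1)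
  let φ : Fin n → Module.Dual R M := fun i => LinearMap.proj i ∘ₗ g
  have h : ∀ m : M, m = ∑ i, φ i m • x i := by
    intro m
    have h1 : f (g m) = m := by
      have := congrArg (fun t => t m) hfg
      simpa using this
    conv_lhs => rw [← h1]
    have h2 : g m = ∑ i, (g m i) • (Pi.single i 1 : Fin n → R) := by
      funext j
      simp [Finset.sum_apply, Pi.single_apply]
    conv_lhs => rw [h2]
    rw [map_sum]
    refine Finset.sum_congr rfl fun i _ => ?_
    rw [map_smul]
    rfl
  refine ⟨{ rightDual := ModuleCat.of R (Module.Dual R M), exact := ?_ }⟩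
  exact
    { coevaluation' := ModuleCat.ofHom (LinearMap.toSpanSingleton R _ (∑ i, x i ⊗ₜ[R] φ i))
      evaluation' := ModuleCat.ofHom (contractLeft R M)
      coevaluation_evaluation' := by
        ext : 1
        exact lemmaA x φ h
      evaluation_coevaluation' := by
        ext : 1
        exact lemmaB x φ h }

end Groth.Agent.S17859
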