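import Groth.Statements.S17863
import Mathlib

set_option autoImplicit false
open CategoryTheory AlgebraicGeometry
universe u
open Algz

namespace Groth.Agent.S17863

section Helpers

/-- ring map associated with a `C`-point of `X`. -/
noncomputable def ρ {X : Scheme.{u}} {C : CommRingCat.{u}} (g : Spec C ⟶ X) : Γ(X, ⊤) ⟶ C :=
  g.appTop ≫ (Scheme.ΓSpecIso C).hom

lemma comp_toSpecΓ {X : Scheme.{u}} {C : CommRingCat.{u}} (g : Spec C ⟶ X) :
    g ≫ X.toSpecΓ = Spec.map (ρ g) := by
  rw [Scheme.toSpecΓ_naturality, ρ, Spec.map_comp, SpecMap_ΓSpecIso_hom]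

lemma ρ_comp {X : Scheme.{u}} {C D : CommRingCat.{u}} (g : Spec C ⟶ X) (h : C ⟶ D) :
    ρ (Spec.map h ≫ g) = ρ g ≫ h := by
  rw [ρ, ρ, Scheme.Hom.comp_appTop, Category.assoc, Category.assoc, Scheme.ΓSpecIso_naturality]

theorem main (A : Type u) [CommRing A] (I : Ideal A) [IsAdicComplete I A]
    (X : Scheme.{u}) [X.IsQuasiAffine] :
    (∀ f g : Spec (CommRingCat.of A) ⟶ X,
      (∀ n : ℕ, Spec.map (CommRingCat.ofHom (Ideal.Quotient.mk (I ^ n))) ≫ f =
        Spec.map (CommRingCat.ofHom (Ideal.Quotient.mk (I ^ n))) ≫ g) → f = g) ∧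
    (∀ e : ∀ n : ℕ, Spec (CommRingCat.of (A ⧸ I ^ n)) ⟶ X,
      (∀ n : ℕ, Spec.map (CommRingCat.ofHom (Ideal.Quotient.factorPowSucc I n)) ≫ e (n + 1) = e n) →
      ∃ f : Spec (CommRingCat.of A) ⟶ X,
        ∀ n : ℕ, Spec.map (CommRingCat.ofHom (Ideal.Quotient.mk (I ^ n))) ≫ f = e n) := by
  constructor
  · intro f g H
    have hρ : ρ f = ρ g := by
      ext r
      have h0 : (ρ f).hom r - (ρ g).hom r = 0 := by
        apply IsHausdorff.haus (I := I) (M := A) inferInstance
        intro n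
        have h1 := congr($(ρ_comp f (CommRingCat.ofHom (Ideal.Quotient.mk (I ^ n)))).hom r)
        have h2 := congr($(ρ_comp g (CommRingCat.ofHom (Ideal.Quotient.mk (I ^ n)))).hom r)
        rw [H n] at h1
        have h3 : Ideal.Quotient.mk (I ^ n) ((ρ f).hom r) = Ideal.Quotient.mk (I ^ n) ((ρ g).hom r) :=
          h1.symm.trans h2
        rw [SModEq.zero, smul_eq_mul, Ideal.mul_top]
        rw [← Ideal.Quotient.eq]
        exact h3
      exact sub_eq_zero.mp h0
    have : f ≫ X.toSpecΓ = g ≫ X.toSpecΓ := by rw [comp_toSpecΓ, comp_toSpecΓ, hρ]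
    exact (cancel_mono X.toSpecΓ).mp this
  · intro e he
    let ψn : ∀ n : ℕ, Γ(X, ⊤) →+* A ⧸ I ^ (id n) := fun n => (ρ (e n)).hom
    have hψ : ∀ {m : ℕ}, (Ideal.Quotient.factorPow I (strictMono_id.monotone m.le_succ)).comp
        (ψn (m + 1)) = ψn m := by
      intro m
      have := ρ_comp (e (m + 1)) (CommRingCat.ofHom (Ideal.Quotient.factorPowSucc I m))
      rw [he m] at this
      exact congr($(this).hom).symm
    let ψ : Γ(X, ⊤) →+* A := IsAdicComplete.StrictMono.liftRingHom I strictMono_id ψn hψ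
    have hψn : ∀ n, (Ideal.Quotient.mk (I ^ n)).comp ψ = (ρ (e n)).hom := fun n =>
      IsAdicComplete.StrictMono.mk_comp_liftRingHom I strictMono_id ψn hψ (n := n)
    let Ψ : Spec (CommRingCat.of A) ⟶ Spec Γ(X, ⊤) := Spec.map (CommRingCat.ofHom ψ)
    have hΨn : ∀ n, Spec.map (CommRingCat.ofHom (Ideal.Quotient.mk (I ^ n))) ≫ Ψ =
        e n ≫ X.toSpecΓ := by
      intro n
      rw [comp_toSpecΓ, ← Spec.map_comp]
      congr 1
      ext x
      exact congr($(hψn n) x)
    -- range condition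
    have hrange : Set.range Ψ ⊆ Set.range X.toSpecΓ := by
      rintro _ ⟨q, rfl⟩
      let U : (Spec (CommRingCat.of A)).Opens := Ψ ⁻¹ᵁ X.toSpecΓ.opensRange
      suffices q ∈ U from this
      obtain ⟨m, hm, hqm⟩ := Ideal.exists_le_maximal q.asIdeal q.isPrime.ne_top
      let m' : Spec (CommRingCat.of A) := ⟨m, hm.isPrime⟩
      have hspec : q ⤳ m' := (PrimeSpectrum.le_iff_specializes q m').mp hqm
      refine hspec.mem_open U.2 ?_
      have hIm : I ^ 1 ≤ m := by
        rw [pow_one]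
        refine (IsAdicComplete.le_jacobson_bot I).trans ?_
        exact sInf_le ⟨bot_le, hm⟩
      have hm'range : m' ∈ Set.range (Spec.map (CommRingCat.ofHom (Ideal.Quotient.mk (I ^ 1)))) := by
        have := range_comap_of_surjective _ (Ideal.Quotient.mk (I ^ 1))
          Ideal.Quotient.mk_surjective
        rw [Ideal.mk_ker] at this
        have h2 : m' ∈ PrimeSpectrum.zeroLocus ((I ^ 1 : Ideal A) : Set A) := hIm
        rw [← this] at h2
        exact h2
      obtain ⟨q', hq'⟩ := hm'range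
      show Ψ m' ∈ Set.range X.toSpecΓ
      rw [← hq', ← Scheme.Hom.comp_apply, hΨn 1, Scheme.Hom.comp_apply]
      exact Set.mem_range_self _
    refine ⟨IsOpenImmersion.lift X.toSpecΓ Ψ hrange, fun n => ?_⟩
    rw [← cancel_mono X.toSpecΓ, Category.assoc, IsOpenImmersion.lift_fac, hΨn]

end Helpers


/-- Let `A` be a commutative ring which is `I`-adically complete for an ideal `I` and let `X` be a
quasi-affine scheme. Then the natural map from `X(A)` to compatible systems in the `X(A/I^n)` is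
bijective: two morphisms `Spec A ⟶ X` with the same restriction to every `Spec (A/I^n)` are equal,
and every family of morphisms `Spec (A/I^n) ⟶ X` compatible with the transition maps `Spec (A/I^n) ⟶
Spec (A/I^(n+1))` is the family of restrictions of a morphism `Spec A ⟶ X`. -/
theorem result (A : Type u) [CommRing A] (I : Ideal A) [IsAdicComplete I A]
    (X : Scheme.{u}) [X.IsQuasiAffine] :
    (∀ f g : Spec (CommRingCat.of A) ⟶ X,
      (∀ n : ℕ, Spec.map (CommRingCat.ofHom (Ideal.Quotient.mk (I ^ n))) ≫ f =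
        Spec.map (CommRingCat.ofHom (Ideal.Quotient.mk (I ^ n))) ≫ g) → f = g) ∧
    (∀ e : ∀ n : ℕ, Spec (CommRingCat.of (A ⧸ I ^ n)) ⟶ X,
      (∀ n : ℕ, Spec.map (CommRingCat.ofHom (Ideal.Quotient.factorPowSucc I n)) ≫ e (n + 1) = e n) →
      ∃ f : Spec (CommRingCat.of A) ⟶ X,
        ∀ n : ℕ, Spec.map (CommRingCat.ofHom (Ideal.Quotient.mk (I ^ n))) ≫ f = e n) := by
  exact main A I X

end Groth.Agent.S17863
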