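import Groth.Statements.S17865
import Mathlib

set_option autoImplicit false
open CategoryTheory AlgebraicGeometry
universe u
open Algz

namespace Groth.Agent.S17865
open CategoryTheory AlgebraicGeometry Limits

section helpers



theorem hasSect {U Y Y' : Scheme.{u}} (f : U ⟶ Y) (g : Y' ⟶ Y) (W : Set Y)
    (h : W4c5algebraiztannaka.HasSectOver f W) :
    W4c5algebraiztannaka.HasSectOver (pullback.snd f g) ((fun y : Y' => g y) ⁻¹' W) := by
  obtain ⟨T, i, s, hi, hr, hs⟩ := h
  refine ⟨pullback i g, pullback.snd i g, pullback.lift (pullback.fst i g ≫ s) (pullback.snd i g)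
    (by rw [Category.assoc, hs, pullback.condition]), inferInstance, ?_, pullback.lift_snd _ _ _⟩
  have := Scheme.Pullback.range_snd i g
  rw [← hr]
  exact this



end helpers

/-- In the case of schemes. Let `f : U ⟶ Y` be a Nisnevich cover of length at most `m` of quasi-compact
quasi-separated schemes (an etale morphism together with a chain of `m` closed constructible subsets
`∅ = Z_0 ⊆ ⋯ ⊆ Z_m = Y` such that `f` has a section over each `Z_(k+1) ∖ Z_k`), and `g : Y' ⟶ Y` a
morphism from a quasi-compact quasi-separated scheme. Then the base change `U ×_Y Y' ⟶ Y'` is a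
Nisnevich cover of length at most `m`. (The original form is for quasi-compact quasi-separated
algebraic spaces; stated here for schemes.) -/
theorem result {U Y Y' : Scheme.{u}} (f : U ⟶ Y) (g : Y' ⟶ Y)
    [CompactSpace U] [QuasiSeparatedSpace U] [CompactSpace Y] [QuasiSeparatedSpace Y]
    [CompactSpace Y'] [QuasiSeparatedSpace Y'] (m : ℕ)
    (hf : W4c5algebraiztannaka.IsNisCoverLen f m) :
    W4c5algebraiztannaka.IsNisCoverLen (Limits.pullback.snd f g) m := by
  obtain ⟨het, Z, h0, hm, hmono, hZ, hsec⟩ := hf
  haveI := het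
  refine ⟨inferInstance, fun k => (fun y : Y' => g y) ⁻¹' Z k, ?_, ?_, ?_, ?_, ?_⟩
  · simp [h0]
  · simp [hm]
  · intro a b hab
    exact Set.preimage_mono (hmono hab)
  · intro k
    exact ⟨(hZ k).1.preimage g.continuous, g.isConstructible_preimage (hZ k).2⟩
  · intro k
    have := hasSect f g _ (hsec k)
    rwa [Set.preimage_sdiff] at this

end Groth.Agent.S17865
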