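import Groth.Statements.S17866
import Mathlib

set_option autoImplicit false
open CategoryTheory AlgebraicGeometry
universe u
open Algz

namespace Groth.Agent.S17866
open CategoryTheory AlgebraicGeometry Limits Topology

section helpers


open W4c5algebraiztannaka


theorem constr_isCompact {X : Type*} [TopologicalSpace X] [CompactSpace X] {s : Set X}
    (hs : IsConstructible s) : IsCompact s := by
  induction s, hs using BooleanSubalgebra.closure_sdiff_sup_induction with
  | isSublattice =>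
    exact ⟨fun s hs t ht ↦ ⟨hs.1.union ht.1, hs.2.union ht.2⟩,
      fun s hs t ht ↦ ⟨hs.1.inter ht.1, hs.2.inter_isOpen ht.2 ht.1⟩⟩
  | bot_mem => exact ⟨isOpen_empty, .empty⟩
  | top_mem => exact ⟨isOpen_univ, .univ⟩
  | sdiff U hU V hV => exact hU.2.isCompact.diff hV.1
  | sup s _ t _ hs' ht' => exact hs'.union ht'

/-- image of a constructible set under an embedding with range `C ∩ O` -/
theorem lemA {Y T : Type*} [TopologicalSpace Y] [TopologicalSpace T] [QuasiSeparatedSpace Y]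
    (O C : Set Y) (hO : IsOpen O) (hOc : IsCompact O) (hC : IsClosed C) (hCc : IsCompact Cᶜ)
    (f : T → Y) (hf : IsEmbedding f) (hr : Set.range f = C ∩ O) (E : Set T)
    (hE : IsConstructible E) : IsConstructible (f '' E) := by
  have hmem : ∀ t, f t ∈ O := fun t => (hr ▸ Set.mem_range_self t : f t ∈ C ∩ O).2
  let f' : T → O := Set.codRestrict f O hmem
  have hf' : IsEmbedding f' := hf.codRestrict O hmem
  have hrange : Set.range f' = Subtype.val ⁻¹' C := by
    ext ⟨y, hy⟩
    constructor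
    · rintro ⟨t, ht⟩
      have : f t = y := congrArg Subtype.val ht
      show y ∈ C
      rw [← this]
      exact (hr ▸ Set.mem_range_self t : f t ∈ C ∩ O).1
    · intro hyC
      have : y ∈ Set.range f := by rw [hr]; exact ⟨hyC, hy⟩
      obtain ⟨t, rfl⟩ := this
      exact ⟨t, rfl⟩
  have hcl : IsClosedEmbedding f' := ⟨hf', by rw [hrange]; exact hC.preimage continuous_subtype_val⟩
  have hval : IsOpenEmbedding (Subtype.val : O → Y) := hO.isOpenEmbedding_subtypeVal
  have hretro : IsRetrocompact (Set.range f')ᶜ := by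
    rw [hrange, ← Set.preimage_compl]
    exact (hCc.isRetrocompact hC.isOpen_compl).preimage_of_isOpenEmbedding hval
  have h1 := hE.image_of_isClosedEmbedding hcl hretro
  have h2 := h1.image_of_isOpenEmbedding hval
    (by rw [Subtype.range_coe]; exact hOc.isRetrocompact hO)
  rw [Set.image_image] at h2
  exact h2

/-- closedness -/
theorem lemB {Y T : Type*} [TopologicalSpace Y] [TopologicalSpace T]
    (D C : Set Y) (hD : IsClosed D) (hC : IsClosed C)
    (f : T → Y) (hf : IsEmbedding f) (hr : Set.range f = C \ D) (E : Set T)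
    (hE : IsClosed E) : IsClosed (D ∪ f '' E) := by
  obtain ⟨E', hE', rfl⟩ := hf.isInducing.isClosed_iff.1 hE
  have : D ∪ f '' (f ⁻¹' E') = D ∪ (E' ∩ C) := by
    rw [Set.image_preimage_eq_inter_range, hr]
    ext y
    simp only [Set.mem_union, Set.mem_inter_iff, Set.mem_sdiff]
    tauto
  rw [this]
  exact hD.union (hE'.inter hC)



theorem hasSect_empty {U Y : Scheme.{u}} (f : U ⟶ Y) : HasSectOver f ∅ := by
  let T : Scheme.{u} := ((⊥ : Y.Opens) : Scheme.{u})
  haveI : IsEmpty T := by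
    constructor
    rintro ⟨x, hx⟩
    exact hx
  refine ⟨T, (⊥ : Y.Opens).ι, (isInitialOfIsEmpty (X := T)).to U, inferInstance, ?_,
    (isInitialOfIsEmpty (X := T)).hom_ext _ _⟩
  ext y
  simp only [Set.mem_range, Set.mem_empty_iff_false, iff_false]
  rintro ⟨t, -⟩
  exact IsEmpty.false t

/-- the ℕ-indexed form of a flag -/
def NFlag {U Y : Scheme.{u}} (f : U ⟶ Y) (m : ℕ) (z : ℕ → Set Y) : Prop :=
  z 0 = ∅ ∧ (∀ n, m ≤ n → z n = Set.univ) ∧ Monotone z ∧ (∀ n, IsClosed (z n)) ∧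
    (∀ n, IsConstructible (z n)) ∧ ∀ n, HasSectOver f (z (n + 1) \ z n)

theorem toN {U Y : Scheme.{u}} (f : U ⟶ Y) (m : ℕ) (h : IsNisCoverLen f m) :
    ∃ z, NFlag f m z := by
  obtain ⟨-, Z, h0, hm, hmono, hZ, hsec⟩ := h
  refine ⟨fun n => if h : n < m + 1 then Z ⟨n, h⟩ else Set.univ, ?_, ?_, ?_, ?_, ?_, ?_⟩
  · simpa using h0
  · intro n hn
    by_cases h : n < m + 1
    · have : n = m := by omega
      subst this
      simpa [Fin.last] using hm
    · simp [h]
  · intro a b hab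
    by_cases hb : b < m + 1
    · have ha : a < m + 1 := by omega
      simp only [ha, hb, dif_pos]
      exact hmono (by exact_mod_cast hab)
    · simp [hb]
  · intro n
    by_cases h : n < m + 1
    · simpa [h] using (hZ _).1
    · simp [h]
  · intro n
    by_cases h : n < m + 1
    · simpa [h] using (hZ _).2
    · simp [h]
  · intro n
    by_cases h : n < m
    · have h1 : n < m + 1 := by omega
      have h2 : n + 1 < m + 1 := by omega
      simp only [h1, h2, dif_pos]
      exact hsec ⟨n, h⟩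
    · by_cases h' : n < m + 1
      · have : n = m := by omega
        subst this
        have h2 : ¬ (n + 1 < n + 1) := by omega
        simp only [h2, dif_neg, not_false_eq_true, h', dif_pos]
        have : Z ⟨n, h'⟩ = Set.univ := by simpa [Fin.last] using hm
        rw [this]
        simpa using hasSect_empty f
      · have h2 : ¬ (n + 1 < m + 1) := by omega
        simp only [h2, h', dif_neg, not_false_eq_true]
        simpa using hasSect_empty f

theorem ofN {U Y : Scheme.{u}} (f : U ⟶ Y) [Etale f] (m : ℕ) (z : ℕ → Set Y) (h : NFlag f m z) :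
    IsNisCoverLen f m := by
  obtain ⟨h0, hm, hmono, hcl, hco, hsec⟩ := h
  refine ⟨inferInstance, fun k => z k.val, by simpa using h0, by simpa using hm m le_rfl, ?_,
    fun k => ⟨hcl _, hco _⟩, ?_⟩
  · intro a b hab
    exact hmono (by exact_mod_cast hab)
  · intro k
    simpa using hsec k.val


theorem main {Y₁ Y₂ Y₃ : Scheme.{u}} (g₁ : Y₁ ⟶ Y₂) (g₂ : Y₂ ⟶ Y₃)
    [CompactSpace Y₂] [QuasiSeparatedSpace Y₂]
    [CompactSpace Y₃] [QuasiSeparatedSpace Y₃] (m₁ m₂ : ℕ) (hm₁ : 0 < m₁)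
    (z1 : ℕ → Set Y₂) (z2 : ℕ → Set Y₃)
    (h₁ : NFlag g₁ m₁ z1) (h₂ : NFlag g₂ m₂ z2) :
    ∃ z, NFlag (g₁ ≫ g₂) (m₁ * m₂) z := by
  obtain ⟨a0, am, amono, acl, aco, asec⟩ := h₁
  obtain ⟨b0, bm, bmono, bcl, bco, bsec⟩ := h₂
  choose T1 i1 s1 hi1 hr1 hs1 using asec
  choose T2 i2 s2 hi2 hr2 hs2 using bsec
  let B : ℕ → ℕ → Set Y₃ := fun K L => z2 K ∪ (fun t => i2 K t) '' ((fun t => s2 K t) ⁻¹' z1 L)
  have hB0 : ∀ K, B K 0 = z2 K := by
    intro K
    simp [B, a0]
  have hBm : ∀ K, B K m₁ = z2 (K + 1) := by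
    intro K
    simp only [B, am m₁ le_rfl, Set.preimage_univ, Set.image_univ]
    rw [hr2 K]
    exact Set.union_sdiff_cancel (bmono (Nat.le_succ K))
  have hBmono : ∀ K L L', L ≤ L' → B K L ⊆ B K L' := by
    intro K L L' h
    exact Set.union_subset_union_right _ (Set.image_mono (Set.preimage_mono (amono h)))
  have hemb : ∀ K, IsEmbedding (fun t => i2 K t) := fun K => (i2 K).isEmbedding
  have hBcl : ∀ K L, IsClosed (B K L) := by
    intro K L
    exact lemB (z2 K) (z2 (K + 1)) (bcl K) (bcl (K + 1)) _ (hemb K) (hr2 K) _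
      ((acl L).preimage (s2 K).continuous)
  have hBco : ∀ K L, IsConstructible (B K L) := by
    intro K L
    refine (bco K).union ?_
    refine lemA (z2 K)ᶜ (z2 (K + 1)) (bcl K).isOpen_compl (constr_isCompact (bco K).compl)
      (bcl (K + 1)) (constr_isCompact (bco (K + 1)).compl) _ (hemb K) ?_ _
      ((s2 K).isConstructible_preimage (aco L))
    rw [hr2 K]
    rfl
  let W : ℕ → Set Y₃ := fun n => B (n / m₁) (n % m₁)
  have hWsucc : ∀ n, W (n + 1) = B (n / m₁) (n % m₁ + 1) := by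
    intro n
    have hn := Nat.div_add_mod n m₁
    have hL : n % m₁ < m₁ := Nat.mod_lt n hm₁
    by_cases h : n % m₁ + 1 < m₁
    · have e1 : (n + 1) / m₁ = n / m₁ := by
        have : n + 1 = m₁ * (n / m₁) + (n % m₁ + 1) := by omega
        rw [this, Nat.mul_add_div hm₁, Nat.div_eq_of_lt h, add_zero]
      have e2 : (n + 1) % m₁ = n % m₁ + 1 := by
        have : n + 1 = m₁ * (n / m₁) + (n % m₁ + 1) := by omega
        rw [this, Nat.mul_add_mod, Nat.mod_eq_of_lt h]
      show B ((n + 1) / m₁) ((n + 1) % m₁) = _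
      rw [e1, e2]
    · have hLm : n % m₁ + 1 = m₁ := by omega
      have hn1 : n + 1 = m₁ * (n / m₁ + 1) := by
        rw [Nat.mul_add, Nat.mul_one]; omega
      have e1 : (n + 1) / m₁ = n / m₁ + 1 := by
        rw [hn1, Nat.mul_div_cancel_left _ hm₁]
      have e2 : (n + 1) % m₁ = 0 := by
        rw [hn1, Nat.mul_mod_right]
      show B ((n + 1) / m₁) ((n + 1) % m₁) = _
      rw [e1, e2, hB0, hLm, hBm]
  refine ⟨W, ?_, ?_, ?_, ?_, ?_, ?_⟩
  · show B (0 / m₁) (0 % m₁) = ∅
    simp [hB0, b0]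
  · intro n hn
    show B (n / m₁) (n % m₁) = Set.univ
    have : m₂ ≤ n / m₁ := (Nat.le_div_iff_mul_le hm₁).2 (by rw [Nat.mul_comm]; exact hn)
    simp only [B, bm _ this, Set.univ_union]
  · refine monotone_nat_of_le_succ fun n => ?_
    rw [hWsucc]
    exact hBmono _ _ _ (Nat.le_succ _)
  · intro n; exact hBcl _ _
  · intro n; exact hBco _ _
  · intro n
    rw [hWsucc]
    set K := n / m₁
    set L := n % m₁
    have hdiff : B K (L + 1) \ B K L =
        (fun t => i2 K t) '' ((fun t => s2 K t) ⁻¹' (z1 (L + 1) \ z1 L)) := by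
      have hdisj : ∀ t, i2 K t ∉ z2 K := by
        intro t
        have : i2 K t ∈ Set.range (fun t => i2 K t) := ⟨t, rfl⟩
        rw [hr2 K] at this
        exact this.2
      have hinj : Function.Injective (fun t => i2 K t) := (hemb K).injective
      ext y
      simp only [B, Set.mem_sdiff, Set.mem_union, Set.mem_image, Set.mem_preimage]
      constructor
      · rintro ⟨h1 | ⟨t, ht, rfl⟩, h2⟩
        · exact absurd (Or.inl h1) h2
        · refine ⟨t, ⟨ht, fun h => h2 (Or.inr ⟨t, h, rfl⟩)⟩, rfl⟩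
      · rintro ⟨t, ⟨ht1, ht2⟩, rfl⟩
        refine ⟨Or.inr ⟨t, ht1, rfl⟩, ?_⟩
        rintro (h | ⟨t', ht', he⟩)
        · exact hdisj t h
        · have := hinj he
          subst this
          exact ht2 ht'
    rw [hdiff, ← hr1 L]
    refine ⟨pullback (s2 K) (i1 L), pullback.fst (s2 K) (i1 L) ≫ i2 K,
      pullback.snd (s2 K) (i1 L) ≫ s1 L, inferInstance, ?_, ?_⟩
    · have := Scheme.Pullback.range_fst (s2 K) (i1 L)
      ext y
      simp only [Set.mem_range, Set.mem_image, Set.mem_preimage, Scheme.Hom.comp_base,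
        TopCat.hom_comp, ContinuousMap.comp_apply]
      constructor
      · rintro ⟨t, rfl⟩
        refine ⟨pullback.fst (s2 K) (i1 L) t, ?_, rfl⟩
        have ht : pullback.fst (s2 K) (i1 L) t ∈ Set.range (pullback.fst (s2 K) (i1 L)) := ⟨t, rfl⟩
        rw [this] at ht
        exact ht
      · rintro ⟨t, ht, rfl⟩
        have ht' : t ∈ Set.range (pullback.fst (s2 K) (i1 L)) := by rw [this]; exact ht
        obtain ⟨t', rfl⟩ := ht'
        exact ⟨t', rfl⟩
    · rw [Category.assoc, ← Category.assoc (s1 L), hs1, ← pullback.condition_assoc, hs2]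


theorem zero_case {Y₁ Y₂ Y₃ : Scheme.{u}} (g₁ : Y₁ ⟶ Y₂) (g₂ : Y₂ ⟶ Y₃) (m₂ : ℕ)
    (z1 : ℕ → Set Y₂) (z2 : ℕ → Set Y₃)
    (h₁ : NFlag g₁ 0 z1) (h₂ : NFlag g₂ m₂ z2) :
    ∃ z, NFlag (g₁ ≫ g₂) (0 * m₂) z := by
  obtain ⟨a0, am, -, -, -, -⟩ := h₁
  obtain ⟨b0, bm, bmono, bcl, bco, bsec⟩ := h₂
  choose T2 i2 s2 hi2 hr2 hs2 using bsec
  have hY2 : IsEmpty Y₂ := by
    constructor
    intro y
    have : y ∈ z1 0 := by rw [am 0 le_rfl]; trivial
    rw [a0] at this
    exact this
  have hY3 : IsEmpty Y₃ := by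
    constructor
    intro y
    have hex : ∃ n, y ∈ z2 n := ⟨m₂, by rw [bm m₂ le_rfl]; trivial⟩
    classical
    have hmin : ∀ {m : ℕ}, m < Nat.find hex → y ∉ z2 m := fun h => Nat.find_min hex h
    have hspec := Nat.find_spec hex
    rcases hn : Nat.find hex with _ | k
    · rw [hn, b0] at hspec
      exact hspec
    · rw [hn] at hspec
      have hk : y ∉ z2 k := hmin (by omega)
      have : y ∈ z2 (k + 1) \ z2 k := ⟨hspec, hk⟩
      rw [← hr2 k] at this
      obtain ⟨t, -⟩ := this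
      exact hY2.false (s2 k t)
  refine ⟨fun _ => ∅, rfl, fun n _ => (Set.univ_eq_empty_iff.2 hY3).symm, monotone_const,
    fun _ => isClosed_empty, fun _ => ?_, fun _ => ?_⟩
  · exact IsConstructible.empty
  · simpa using hasSect_empty (g₁ ≫ g₂)



end helpers

/-- In the case of schemes. Let `g₁ : Y₁ ⟶ Y₂` and `g₂ : Y₂ ⟶ Y₃` be Nisnevich covers of quasi-compact
quasi-separated schemes of lengths at most `m₁` and `m₂` respectively. Then `g₁ ≫ g₂` is a Nisnevich
cover of length at most `m₁ * m₂`. (The original form is for quasi-compact quasi-separated algebraic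
spaces; stated here for schemes.) -/
theorem result {Y₁ Y₂ Y₃ : Scheme.{u}} (g₁ : Y₁ ⟶ Y₂) (g₂ : Y₂ ⟶ Y₃)
    [CompactSpace Y₁] [QuasiSeparatedSpace Y₁] [CompactSpace Y₂] [QuasiSeparatedSpace Y₂]
    [CompactSpace Y₃] [QuasiSeparatedSpace Y₃] (m₁ m₂ : ℕ)
    (h₁ : W4c5algebraiztannaka.IsNisCoverLen g₁ m₁) (h₂ : W4c5algebraiztannaka.IsNisCoverLen g₂ m₂) :
    W4c5algebraiztannaka.IsNisCoverLen (g₁ ≫ g₂) (m₁ * m₂) := by
  haveI := h₁.etale
  haveI := h₂.etale
  obtain ⟨z1, hz1⟩ := toN g₁ m₁ h₁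
  obtain ⟨z2, hz2⟩ := toN g₂ m₂ h₂
  rcases Nat.eq_zero_or_pos m₁ with rfl | hm₁
  · obtain ⟨z, hz⟩ := zero_case g₁ g₂ m₂ z1 z2 hz1 hz2
    exact ofN _ _ z hz
  · obtain ⟨z, hz⟩ := main g₁ g₂ m₁ m₂ hm₁ z1 z2 hz1 hz2
    exact ofN _ _ z hz

end Groth.Agent.S17866
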