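import Groth.Statements.S17869
import Mathlib

set_option autoImplicit false
open CategoryTheory AlgebraicGeometry
universe u
open Algz

namespace Groth.Agent.S17869
open CategoryTheory AlgebraicGeometry Limits

section helpers



set_option backward.isDefEq.respectTransparency false in
instance etaleLocSrc : IsZariskiLocalAtSource (@Etale.{u}) :=
  HasRingHomProperty.instIsZariskiLocalAtSource (Q := RingHom.Etale)

/-- the flag -/
def ZZ {U : Scheme.{u}} (k : ℕ) (V : Fin k → U.Opens) (j : Fin (k + 1)) : Set U :=
  (⋃ i ∈ {i : Fin k | j.val ≤ i.val}, (V i : Set U))ᶜ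

theorem mem_ZZ {U : Scheme.{u}} (k : ℕ) (V : Fin k → U.Opens) (j : Fin (k + 1)) (x : U) :
    x ∈ ZZ k V j ↔ ∀ i : Fin k, j.val ≤ i.val → x ∉ V i := by
  simp [ZZ]



end helpers

/-- In the case of schemes. Let `U` be a quasi-compact quasi-separated scheme and `V 0, …, V (k-1)`
quasi-compact open subschemes which cover `U`. Then the canonical morphism from the disjoint union
`∐ V i` to `U` is a Nisnevich cover of length at most `k`. (The published example states more
generally that, for a Nisnevich cover of `Y` of length at most `m` with source `U`, the composite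
from the disjoint union `∐ V i` to `Y` has length at most `m * k`; stated here is the case of the
identity of `U`, to which the published argument reduces, and the general bound follows by composing
Nisnevich covers. The original form is for quasi-compact quasi-separated algebraic spaces, with the
members of the cover quasi-compact; stated here for schemes.) -/
theorem result {U : Scheme.{u}} [CompactSpace U] [QuasiSeparatedSpace U]
    (k : ℕ) (V : Fin k → U.Opens) (hV : ∀ i, IsCompact (V i : Set U)) (hcov : ⨆ i, V i = ⊤) :
    W4c5algebraiztannaka.IsNisCoverLen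
      (Limits.Sigma.desc (fun i => (V i).ι) : (∐ fun i => ((V i : U.Opens) : Scheme.{u})) ⟶ U) k := by
  refine ⟨IsZariskiLocalAtSource.sigmaDesc (P := @Etale) (fun i => inferInstance), ZZ k V,
    ?_, ?_, ?_, ?_, ?_⟩
  · ext x
    simp only [mem_ZZ, Set.mem_empty_iff_false, iff_false, not_forall]
    have hx : x ∈ (⨆ i, V i : U.Opens) := by rw [hcov]; trivial
    obtain ⟨i, hi⟩ := TopologicalSpace.Opens.mem_iSup.1 hx
    exact ⟨i, by simp, fun h => h hi⟩
  · ext x
    simp only [mem_ZZ, Set.mem_univ, iff_true]
    intro i hi
    exact absurd hi (by simp [Fin.last])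
  · intro a b hab x hx
    rw [mem_ZZ] at hx ⊢
    intro i hi
    exact hx i (le_trans (by exact_mod_cast hab) hi)
  · intro j
    have hfin : ({i : Fin k | j.val ≤ i.val} : Set (Fin k)).Finite := Set.toFinite _
    have hopen : IsOpen (⋃ i ∈ {i : Fin k | j.val ≤ i.val}, (V i : Set U)) :=
      isOpen_biUnion fun i _ => (V i).isOpen
    have hcomp : IsCompact (⋃ i ∈ {i : Fin k | j.val ≤ i.val}, (V i : Set U)) :=
      hfin.isCompact_biUnion fun i _ => hV i
    exact ⟨hopen.isClosed_compl, ((hcomp.isRetrocompact hopen).isConstructible hopen).compl⟩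
  · intro j
    have hcl : IsClosed ((fun x : (V j : Scheme.{u}) => (V j).ι x) ⁻¹' ZZ k V j.succ) := by
      have hopen : IsOpen (⋃ i ∈ {i : Fin k | j.succ.val ≤ i.val}, (V i : Set U)) :=
        isOpen_biUnion fun i _ => (V i).isOpen
      exact hopen.isClosed_compl.preimage (V j).ι.continuous
    let C : TopologicalSpace.Closeds (V j : Scheme.{u}) := ⟨_, hcl⟩
    let I := Scheme.IdealSheafData.vanishingIdeal C
    refine ⟨I.subscheme, I.subschemeι ≫ (V j).ι, I.subschemeι ≫ Sigma.ι (fun i => ((V i : U.Opens) : Scheme.{u})) j, inferInstance, ?_, ?_⟩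
    · ext x
      simp only [Scheme.Hom.comp_base, TopCat.hom_comp, ContinuousMap.comp_apply]
      constructor
      · rintro ⟨t, rfl⟩
        have ht : I.subschemeι t ∈ (I.support : Set (V j : Scheme.{u})) := by
          rw [← Scheme.IdealSheafData.range_subschemeι]
          exact ⟨t, rfl⟩
        rw [Scheme.IdealSheafData.coe_support_vanishingIdeal] at ht
        refine ⟨ht, ?_⟩
        rw [mem_ZZ]
        intro h
        exact h j (by simp) (I.subschemeι t).2
      · rintro ⟨h1, h2⟩
        rw [mem_ZZ] at h1 h2
        push Not at h2
        obtain ⟨i, hi, hxi⟩ := h2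
        have hij : i = j := by
          by_contra hne
          have : j.succ.val ≤ i.val := by
            simp only [Fin.val_succ, Fin.val_castSucc] at hi ⊢
            have : (j : ℕ) ≠ i := fun h => hne (Fin.ext h.symm)
            omega
          exact h1 i this hxi
        subst hij
        have hx' : (⟨x, hxi⟩ : (V i : Scheme.{u})) ∈ (I.support : Set (V i : Scheme.{u})) := by
          rw [Scheme.IdealSheafData.coe_support_vanishingIdeal]
          show (V i).ι ⟨x, hxi⟩ ∈ ZZ k V i.succ
          rw [mem_ZZ]
          exact h1
        rw [← Scheme.IdealSheafData.range_subschemeι] at hx'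
        obtain ⟨t, ht⟩ := hx'
        refine ⟨t, ?_⟩
        show (V i).ι (I.subschemeι t) = x
        rw [ht]
        rfl
    · rw [Category.assoc, Sigma.ι_desc]

end Groth.Agent.S17869
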