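import Groth.Statements.S17872
import Mathlib

set_option autoImplicit false
universe u v
open GRRSing

namespace Groth.Agent.S17872



/-- Let H be a vector space over a field K and let b_0, …, b_l be elements of H. If the sum of the t ^ i
• b_i vanishes for infinitely many scalars t of K, then all the b_i are zero. -/
theorem result {K : Type u} {H : Type v} [Field K] [AddCommGroup H] [Module K H]
    (l : ℕ) (b : Fin (l + 1) → H)
    (h : Set.Infinite {t : K | ∑ i : Fin (l + 1), t ^ (i : ℕ) • b i = 0}) :
    b = 0 := by
  funext i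
  rw [Pi.zero_apply]
  rw [← Module.forall_dual_apply_eq_zero_iff K]
  intro φ
  -- the polynomial ∑ φ(b i) X^i has infinitely many roots
  set P : Polynomial K := ∑ i : Fin (l + 1), Polynomial.C (φ (b i)) * Polynomial.X ^ (i : ℕ) with hP
  have hroots : ∀ t ∈ {t : K | ∑ i : Fin (l + 1), t ^ (i : ℕ) • b i = 0}, P.IsRoot t := by
    intro t ht
    have h1 : φ (∑ i : Fin (l + 1), t ^ (i : ℕ) • b i) = 0 := by rw [ht, map_zero]
    rw [map_sum] at h1
    rw [Polynomial.IsRoot, hP, Polynomial.eval_finsetSum]
    rw [← h1]
    apply Finset.sum_congr rfl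
    intro j _
    rw [Polynomial.eval_mul, Polynomial.eval_C, Polynomial.eval_pow, Polynomial.eval_X,
      map_smul, smul_eq_mul, mul_comm]
  have hP0 : P = 0 := by
    by_contra hne
    exact h ((Polynomial.finite_setOfPred_isRoot hne).subset hroots)
  have hcoeff : P.coeff (i : ℕ) = φ (b i) := by
    rw [hP, Polynomial.finsetSum_coeff]
    rw [Finset.sum_eq_single i]
    · simp
    · intro j _ hji
      rw [Polynomial.coeff_C_mul, Polynomial.coeff_X_pow]
      have : (i : ℕ) ≠ (j : ℕ) := fun h => hji (Fin.ext h.symm)
      simp [this]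
    · intro h; exact absurd (Finset.mem_univ i) h
  rw [← hcoeff, hP0, Polynomial.coeff_zero]

end Groth.Agent.S17872
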