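import Groth.Statements.S17873
import Mathlib
import Groth.Agent.Lib.helper9.Depth21
import Groth.Agent.Lib.helper9.DepthHom

set_option autoImplicit false
universe u
open GRRSing

namespace Groth.Agent.S17873

/-- coset prime avoidance: if `(x) + I ⊄ P` for finitely many primes `P`, some `x + y`, `y ∈ I`,
avoids all of them. -/
theorem coset_avoidance {R : Type u} [CommRing R] (I : Ideal R) (x : R) (s : Finset (Ideal R))
    (hs : ∀ P ∈ s, P.IsPrime) (h : ∀ P ∈ s, ¬ (Ideal.span {x} ⊔ I ≤ P)) :
    ∃ y ∈ I, ∀ P ∈ s, x + y ∉ P := by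
  classical
  have hmax : ∀ P ∈ s, ∃ Q, P ≤ Q ∧ Maximal (· ∈ s) Q := fun P hP => s.exists_le_maximal hP
  let A := s.filter (fun P => Maximal (· ∈ s) P ∧ x ∈ P)
  let B := s.filter (fun P => Maximal (· ∈ s) P ∧ x ∉ P)
  let K : Ideal R := I ⊓ B.inf id
  have hK : ¬ ((K : Set R) ⊆ ⋃ P ∈ (A : Set (Ideal R)), ((id P : Ideal R) : Set R)) := by
    intro hsub
    obtain ⟨P', hP'A, hKP'⟩ := (Ideal.subset_union_prime (f := id) (s := A) ⊥ ⊥
      (fun i hi _ _ => hs i (Finset.mem_filter.mp hi).1)).mp hsub
    obtain ⟨hP's, hP'max, hxP'⟩ := Finset.mem_filter.mp hP'A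
    have hP'prime := hs P' hP's
    have hle : I * ∏ P ∈ B, id P ≤ P' := by
      refine le_trans ?_ hKP'
      refine le_trans Ideal.mul_le_inf ?_
      exact inf_le_inf_left _ Ideal.prod_le_inf
    rcases (hP'prime.mul_le).mp hle with h1 | h2
    · apply h P' hP's
      rw [sup_le_iff, Ideal.span_le, Set.singleton_subset_iff]
      exact ⟨hxP', h1⟩
    · obtain ⟨P, hPB, hPP'⟩ := (hP'prime.prod_le).mp h2
      obtain ⟨hPs, hPmax, hxP⟩ := Finset.mem_filter.mp hPB
      have : P' ≤ P := hPmax.2 hP's hPP'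
      exact hxP (this hxP')
  obtain ⟨y, hyK, hy⟩ := Set.not_subset.mp hK
  refine ⟨y, hyK.1, fun P hP hxy => ?_⟩
  obtain ⟨Q, hPQ, hQmax⟩ := hmax P hP
  have hxyQ : x + y ∈ Q := hPQ hxy
  by_cases hxQ : x ∈ Q
  · apply hy
    have hQA : Q ∈ A := Finset.mem_filter.mpr ⟨hQmax.1, hQmax, hxQ⟩
    refine Set.mem_biUnion (Finset.mem_coe.mpr hQA) ?_
    have : y = (x + y) - x := by ring
    rw [this]
    exact Q.sub_mem hxyQ hxQ
  · apply hxQ
    have hQB : Q ∈ B := Finset.mem_filter.mpr ⟨hQmax.1, hQmax, hxQ⟩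
    have hyQ : y ∈ Q := by
      have h1 : B.inf id ≤ id Q := Finset.inf_le hQB
      exact h1 hyK.2
    have : x = (x + y) - y := by ring
    rw [this]
    exact Q.sub_mem hxyQ hyQ

open LocCoh RingTheory.Sequence in
theorem step_exists {T : Type u} [CommRing T] [IsNoetherianRing T] [IsLocalRing T]
    (J : Ideal T) (hJ : J ≠ ⊤) (j : ℕ) (hj : idealDepth J T = j) (c : ℕ) (hjc : j ≤ c)
    (h0 : ∃ ts : List T, ts.length = c ∧ Ideal.ofList ts = J) :
    ∀ i ≤ j, ∃ ts : List T, ts.length = c ∧ Ideal.ofList ts = J ∧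
      IsWeaklyRegular T (ts.take i) := by
  classical
  have hJm : J ≤ IsLocalRing.maximalIdeal T := IsLocalRing.le_maximalIdeal hJ
  intro i
  induction i with
  | zero =>
    intro _
    obtain ⟨ts, h1, h2⟩ := h0
    exact ⟨ts, h1, h2, by rw [List.take_zero]; exact IsWeaklyRegular.nil T T⟩
  | succ i ih =>
    intro hi
    obtain ⟨ts, hlen, hofl, hreg⟩ := ih (by omega)
    have hilt : i < ts.length := by omega
    set L := ts.take i with hL
    set x := ts[i] with hx
    set Rr := ts.drop (i + 1) with hRr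
    have hts : ts = L ++ x :: Rr := by
      rw [hL, hx, hRr, ← List.drop_eq_getElem_cons hilt, List.take_append_drop]
    have hLlen : L.length = i := by rw [hL, List.length_take]; omega
    have hLJ : ∀ a ∈ L, a ∈ J := fun a ha => by
      rw [← hofl]
      exact Ideal.subset_span (List.mem_of_mem_take ha)
    have hIM : J • (⊤ : Submodule T T) ≠ ⊤ :=
      Groth.Agent.Lib.helper9.Depth.smul_top_ne_top_of_le_maximalIdeal T hJm
    have hdepth := Groth.Agent.Lib.helper9.Depth.idealDepth_quot_ofList_add_length (I := J)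
      L T hIM hreg hLJ
    rw [hj, hLlen] at hdepth
    have hone : ((1 : ℕ) : ℕ∞) ≤ idealDepth J (T ⧸ (Ideal.ofList L • (⊤ : Submodule T T))) := by
      generalize idealDepth J (T ⧸ (Ideal.ofList L • (⊤ : Submodule T T))) = t at hdepth
      induction t using ENat.recTopCoe with
      | top => exact le_top
      | coe t =>
        have : t + i = j := by exact_mod_cast hdepth
        exact_mod_cast (by omega : 1 ≤ t)
    obtain ⟨rs, hrslen, hrsreg, hrsJ⟩ :=
      Groth.Agent.Lib.helper9.DepthHom.exists_of_le_idealDepth (I := J)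
        (M := T ⧸ (Ideal.ofList L • (⊤ : Submodule T T))) 1 hone
    obtain ⟨r, rfl⟩ := List.length_eq_one_iff.mp hrslen
    rw [isWeaklyRegular_singleton_iff] at hrsreg
    have hrJ : r ∈ J := hrsJ r (by simp)
    -- the associated primes
    have hfin := associatedPrimes.finite T (T ⧸ (Ideal.ofList L • (⊤ : Submodule T T)))
    have hann : ∀ P ∈ associatedPrimes T (T ⧸ (Ideal.ofList L • (⊤ : Submodule T T))),
        Ideal.ofList L ≤ P := by
      intro P hP a ha
      apply hP.annihilator_le
      rw [Submodule.mem_annihilator]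
      intro m _
      obtain ⟨m, rfl⟩ := Submodule.Quotient.mk_surjective _ m
      rw [← Submodule.Quotient.mk_smul, Submodule.Quotient.mk_eq_zero]
      exact Submodule.smul_mem_smul ha Submodule.mem_top
    have hzd : ∀ a : T, (∀ P ∈ associatedPrimes T (T ⧸ (Ideal.ofList L • (⊤ : Submodule T T))),
        a ∉ P) → IsSMulRegular (T ⧸ (Ideal.ofList L • (⊤ : Submodule T T))) a := by
      intro a ha
      rw [isSMulRegular_iff_right_eq_zero_of_smul]
      intro m hm
      by_contra hm0
      have hmem : a ∈ {r : T | ∃ x : T ⧸ (Ideal.ofList L • (⊤ : Submodule T T)),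
          x ≠ 0 ∧ r • x = 0} := ⟨m, hm0, hm⟩
      rw [← biUnion_associatedPrimes_eq_zero_divisors] at hmem
      obtain ⟨P, hP, haP⟩ := Set.mem_iUnion₂.mp hmem
      exact ha P hP haP
    have hJeq : J = Ideal.ofList L ⊔ (Ideal.span {x} ⊔ Ideal.ofList Rr) := by
      rw [← hofl, hts, Ideal.ofList_append, Ideal.ofList_cons]
    have havoid : ∀ P ∈ hfin.toFinset, ¬ (Ideal.span {x} ⊔ Ideal.ofList Rr ≤ P) := by
      intro P hP hle
      have hP' := hfin.mem_toFinset.mp hP
      have hJP : J ≤ P := by
        rw [hJeq]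
        exact sup_le (hann P hP') hle
      have hrP : r ∈ ⋃ p ∈ associatedPrimes T (T ⧸ (Ideal.ofList L • (⊤ : Submodule T T))),
          (p : Set T) := Set.mem_iUnion₂.mpr ⟨P, hP', hJP hrJ⟩
      rw [biUnion_associatedPrimes_eq_zero_divisors] at hrP
      obtain ⟨m, hm0, hm⟩ := hrP
      exact hm0 (hrsreg.right_eq_zero_of_smul hm)
    obtain ⟨y, hyR, hy⟩ := coset_avoidance (Ideal.ofList Rr) x hfin.toFinset
      (fun P hP => (hfin.mem_toFinset.mp hP).isPrime) havoid
    refine ⟨L ++ (x + y) :: Rr, ?_, ?_, ?_⟩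
    · rw [← hlen]
      conv_rhs => rw [hts]
      simp
    · rw [Ideal.ofList_append, Ideal.ofList_cons, hJeq]
      congr 1
      apply le_antisymm
      · refine sup_le ?_ le_sup_right
        rw [Ideal.span_le, Set.singleton_subset_iff]
        exact Ideal.add_mem _ (Ideal.mem_sup_left (Ideal.subset_span rfl))
          (Ideal.mem_sup_right hyR)
      · refine sup_le ?_ le_sup_right
        rw [Ideal.span_le, Set.singleton_subset_iff]
        have h5 : (x + y) - y ∈ Ideal.span {x + y} ⊔ Ideal.ofList Rr :=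
          Ideal.sub_mem _ (Ideal.mem_sup_left (Ideal.subset_span rfl))
            (Ideal.mem_sup_right hyR)
        rwa [add_sub_cancel_right] at h5
    · have htake : (L ++ (x + y) :: Rr).take (i + 1) = L ++ [x + y] := by
        rw [List.take_append, hLlen]
        simp
        omega
      rw [htake, isWeaklyRegular_append_iff, isWeaklyRegular_singleton_iff]
      refine ⟨hreg, hzd _ fun P hP => ?_⟩
      exact hy P (hfin.mem_toFinset.mpr hP)

/-- Let T be a Cohen–Macaulay Noetherian local ring, J a proper ideal of T, j the grade of J (the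
J-depth of T, i.e. the supremum of the lengths of T-regular sequences inside J; a natural number
here) and c the minimal number of generators of J (equal to the dimension of J/𝔪J over the residue
field). Then j ≤ c and there is a generating sequence t_1, …, t_c of J such that t_1, …, t_j is a
T-regular sequence. (The published statement does not exclude J = T; there c = 1 while the grade,
read as the depth of T, can exceed 1, so this row assumes J proper.) -/
theorem result {T : Type u} [CommRing T] [LocCoh.IsCohenMacaulayLocalRing T]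
    (J : Ideal T) (hJ : J ≠ ⊤) (j : ℕ) (hj : LocCoh.idealDepth J T = j) :
    j ≤ Submodule.spanFinrank J ∧
      ∃ ts : List T, ts.length = Submodule.spanFinrank J ∧ Ideal.ofList ts = J ∧
        RingTheory.Sequence.IsRegular T (ts.take j) := by
  classical
  have hJm : J ≤ IsLocalRing.maximalIdeal T := IsLocalRing.le_maximalIdeal hJ
  obtain ⟨s, hscard, hsspan⟩ :=
    Submodule.FG.exists_span_finset_card_eq_spanFinrank (isNoetherian_def.mp inferInstance J)
  have h0 : ∃ ts : List T, ts.length = Submodule.spanFinrank J ∧ Ideal.ofList ts = J := by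
    refine ⟨s.toList, by rw [Finset.length_toList, hscard], ?_⟩
    rw [← hsspan]
    unfold Ideal.ofList
    congr 1
    ext a
    simp
  have hjc : j ≤ Submodule.spanFinrank J := by
    obtain ⟨ts, hlen, hofl⟩ := h0
    have hmem : ∀ a ∈ ts, a ∈ IsLocalRing.maximalIdeal T := fun a ha =>
      hJm (hofl ▸ Ideal.subset_span ha)
    have := Groth.Agent.Lib.helper9.Depth.idealDepth_ofList_le T ts hmem
    rw [hofl, hj, hlen] at this
    exact_mod_cast this
  refine ⟨hjc, ?_⟩
  obtain ⟨ts, hlen, hofl, hreg⟩ := step_exists J hJ j hj _ hjc h0 j le_rfl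
  refine ⟨ts, hlen, hofl, hreg, ?_⟩
  have hle : Ideal.ofList (ts.take j) ≤ IsLocalRing.maximalIdeal T := by
    refine le_trans ?_ hJm
    rw [← hofl]
    exact Ideal.span_mono fun a ha => List.mem_of_mem_take ha
  intro h
  have h2 : Ideal.ofList (ts.take j) • (⊤ : Submodule T T) = Ideal.ofList (ts.take j) := by
    rw [smul_eq_mul, Ideal.mul_top]
  rw [h2] at h
  exact (IsLocalRing.maximalIdeal.isMaximal T).ne_top (top_le_iff.mp (h ▸ hle))

end Groth.Agent.S17873
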