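import Groth.Statements.S17875
import Mathlib

set_option autoImplicit false
universe u
open Polynomial
open GRRSing

namespace Groth.Agent.S17875

theorem sub_one_pow_eq {R : Type*} [CommRing R] [Algebra ℚ R] (r : R) (k : ℕ) :
    (r - 1) ^ k = ∑ u ∈ Finset.range (k + 1), (((-1 : ℚ) ^ (u + k) * (k.choose u : ℚ))) • r ^ u := by
  rw [sub_pow]
  apply Finset.sum_congr rfl
  intro u _
  rw [Algebra.smul_def, map_mul, map_pow, map_neg, map_one, map_natCast, one_pow]
  ring

theorem pow_eq_zero_of_gt {R : Type*} [CommRing R] (x : R) (δ : ℕ) (hx : x ^ (δ + 1) = 0) (k : ℕ)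
    (hk : δ < k) : x ^ k = 0 := by
  obtain ⟨m, rfl⟩ : ∃ m, k = (δ + 1) + m := ⟨k - (δ + 1), by omega⟩
  rw [pow_add, hx, zero_mul]

theorem part_one {R : Type*} [CommRing R] [Algebra ℚ R] (r : R) (δ : ℕ)
    (hr : (r - 1) ^ (δ + 1) = 0) (n : ℕ) :
    r ^ n = ∑ k ∈ Finset.range (δ + 1),
      ((descPochhammer ℚ k).eval (n : ℚ) / (k.factorial : ℚ)) • (r - 1) ^ k := by
  have hterm : ∀ k : ℕ, ((descPochhammer ℚ k).eval (n : ℚ) / (k.factorial : ℚ)) • (r - 1) ^ k =
      (n.choose k : R) * (r - 1) ^ k := by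
    intro k
    rw [descPochhammer_eval_eq_descFactorial, Nat.descFactorial_eq_factorial_mul_choose]
    have hk : (k.factorial : ℚ) ≠ 0 := Nat.cast_ne_zero.mpr (Nat.factorial_ne_zero k)
    rw [Nat.cast_mul, mul_div_cancel_left₀ _ hk, Nat.cast_smul_eq_nsmul, nsmul_eq_mul]
  rw [Finset.sum_congr rfl (fun k _ => hterm k)]
  have h0 : r ^ n = ∑ k ∈ Finset.range (n + 1), (n.choose k : R) * (r - 1) ^ k := by
    have : r = (r - 1) + 1 := by ring
    conv_lhs => rw [this, add_pow]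
    apply Finset.sum_congr rfl
    intro k _
    rw [one_pow, mul_one, mul_comm]
  rw [h0]
  set N := max n δ + 1 with hN
  have h1 : ∑ k ∈ Finset.range (n + 1), (n.choose k : R) * (r - 1) ^ k =
      ∑ k ∈ Finset.range N, (n.choose k : R) * (r - 1) ^ k := by
    apply Finset.sum_subset
    · intro k hk
      rw [Finset.mem_range] at hk ⊢
      omega
    · intro k _ hk
      rw [Finset.mem_range, not_lt] at hk
      rw [Nat.choose_eq_zero_of_lt (by omega), Nat.cast_zero, zero_mul]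
  have h2 : ∑ k ∈ Finset.range (δ + 1), (n.choose k : R) * (r - 1) ^ k =
      ∑ k ∈ Finset.range N, (n.choose k : R) * (r - 1) ^ k := by
    apply Finset.sum_subset
    · intro k hk
      rw [Finset.mem_range] at hk ⊢
      omega
    · intro k _ hk
      rw [Finset.mem_range, not_lt] at hk
      rw [pow_eq_zero_of_gt (r - 1) δ hr k (by omega), mul_zero]
  rw [h1, h2]

theorem coeff_descPochhammer {R : Type*} [CommRing R] (k j : ℕ) :
    (descPochhammer R k).coeff j = (((descPochhammer ℤ k).coeff j : ℤ) : R) := by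
  rw [← descPochhammer_map (Int.castRingHom R) k, Polynomial.coeff_map]
  rfl

theorem coeff_descPochhammer_eq_zero (k j : ℕ) (h : k < j) :
    (descPochhammer ℤ k).coeff j = 0 := by
  apply Polynomial.coeff_eq_zero_of_natDegree_lt
  rw [descPochhammer_natDegree]
  exact h

theorem rat_identity (k u : ℕ) (hu : u ≤ k) (s : ℚ) :
    (k.factorial : ℚ)⁻¹ * (s * ((-1 : ℚ) ^ (u + k) * (k.choose u : ℚ))) =
      ((-1 : ℚ) ^ (k - u) * s) / ((u.factorial * (k - u).factorial : ℕ) : ℚ) := by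
  have h1 : (-1 : ℚ) ^ (u + k) = (-1) ^ (k - u) := by
    have : u + k = (k - u) + 2 * u := by omega
    rw [this, pow_add, pow_mul]
    simp
  rw [h1, Nat.cast_choose ℚ hu]
  have hk : (k.factorial : ℚ) ≠ 0 := Nat.cast_ne_zero.mpr (Nat.factorial_ne_zero k)
  have hu' : (u.factorial : ℚ) ≠ 0 := Nat.cast_ne_zero.mpr (Nat.factorial_ne_zero u)
  have hku : ((k - u).factorial : ℚ) ≠ 0 := Nat.cast_ne_zero.mpr (Nat.factorial_ne_zero _)
  push_cast
  field_simp

/-- Let R be a commutative ℚ-algebra, r an element of R and δ a natural number with (r - 1) ^ (δ + 1) =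
0. Write s(k, j) for the signed Stirling numbers of the first kind, the coefficients of x (x - 1) ⋯
(x - k + 1) = Σ_j s(k, j) x ^ j. Then (i) for every natural number n, r ^ n = Σ_{k ≤ δ} [n (n - 1) ⋯
(n - k + 1) / k!] (r - 1) ^ k; and (ii) in the polynomial ring R[x], Σ_{k ≤ δ} [x (x - 1) ⋯ (x - k +
1) / k!] (r - 1) ^ k = Σ_{j ≤ δ} [Σ_{k ≤ δ} Σ_{u ≤ k} (-1) ^ (k - u) s(k, j) / (u! (k - u)!) · r ^
u] x ^ j. -/
theorem result {R : Type u} [CommRing R] [Algebra ℚ R]
    (r : R) (δ : ℕ) (hr : (r - 1) ^ (δ + 1) = 0) :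
    (∀ n : ℕ, r ^ n = ∑ k ∈ Finset.range (δ + 1), ((descPochhammer ℚ k).eval (n : ℚ) / (k.factorial : ℚ)) • (r - 1) ^ k) ∧
    (∑ k ∈ Finset.range (δ + 1), ((k.factorial : ℚ)⁻¹ • (descPochhammer R k * Polynomial.C ((r - 1) ^ k))) =
      ∑ j ∈ Finset.range (δ + 1), Polynomial.C (∑ k ∈ Finset.range (δ + 1), ∑ u ∈ Finset.range (k + 1),
        (((-1 : ℚ) ^ (k - u) * (((descPochhammer ℤ k).coeff j : ℤ) : ℚ)) / ((u.factorial * (k - u).factorial : ℕ) : ℚ)) • r ^ u) * Polynomial.X ^ j) := by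
  refine ⟨part_one r δ hr, ?_⟩
  ext j
  simp only [Polynomial.finsetSum_coeff, Polynomial.coeff_smul, Polynomial.coeff_mul_C,
    Polynomial.coeff_C_mul, Polynomial.coeff_X_pow, mul_ite, mul_one, mul_zero,
    Finset.sum_ite_eq, Finset.mem_range]
  by_cases hj : j < δ + 1
  · rw [if_pos hj]
    apply Finset.sum_congr rfl
    intro k _
    rw [coeff_descPochhammer, ← zsmul_eq_mul, ← Int.cast_smul_eq_zsmul ℚ, sub_one_pow_eq,
      Finset.smul_sum, Finset.smul_sum]
    apply Finset.sum_congr rfl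
    intro u hu
    rw [Finset.mem_range] at hu
    rw [smul_smul, smul_smul, mul_assoc, rat_identity k u (by omega)]
  · rw [if_neg hj]
    apply Finset.sum_eq_zero
    intro k hk
    rw [Finset.mem_range] at hk
    rw [coeff_descPochhammer, coeff_descPochhammer_eq_zero k j (by omega), Int.cast_zero, zero_mul,
      smul_zero]

end Groth.Agent.S17875
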