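import Groth.Statements.S17878
import Mathlib

set_option autoImplicit false
universe u
open Filter Topology
open GRRSing

namespace Groth.Agent.S17878



open Filter Topology

/-- `S j y = ∑ k, k^j y^k` -/
noncomputable def S (j : ℕ) (y : ℂ) : ℂ := ∑' k : ℕ, (k : ℂ) ^ j * y ^ k

theorem hasSum_S (j : ℕ) {y : ℂ} (hy : ‖y‖ < 1) :
    HasSum (fun k : ℕ => (k : ℂ) ^ j * y ^ k) (S j y) :=
  (summable_pow_mul_geometric_of_norm_lt_one j hy).hasSum

theorem S_rec (j : ℕ) {y : ℂ} (hy : ‖y‖ < 1) :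
    S j y = (if j = 0 then 1 else 0) + y * ∑ i ∈ Finset.range (j + 1), (j.choose i : ℂ) * S i y := by
  have hs := summable_pow_mul_geometric_of_norm_lt_one j hy
  rw [S, hs.tsum_eq_zero_add]
  congr 1
  · by_cases hj : j = 0
    · subst hj; simp
    · simp [hj]
  · have h1 : ∀ k : ℕ, ((k + 1 : ℕ) : ℂ) ^ j * y ^ (k + 1) =
        y * ∑ i ∈ Finset.range (j + 1), (j.choose i : ℂ) * ((k : ℂ) ^ i * y ^ k) := by
      intro k
      push_cast
      rw [add_pow, Finset.sum_mul, Finset.mul_sum]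
      apply Finset.sum_congr rfl
      intro i _
      rw [one_pow, pow_succ]
      ring
    simp_rw [h1]
    rw [tsum_mul_left, Summable.tsum_finsetSum]
    · congr 1
      apply Finset.sum_congr rfl
      intro i _
      rw [tsum_mul_left, S]
    · intro i _
      exact (summable_pow_mul_geometric_of_norm_lt_one i hy).mul_left _

theorem S_eq (j : ℕ) {y : ℂ} (hy : ‖y‖ < 1) :
    S j y = ((if j = 0 then 1 else 0) + y * ∑ i ∈ Finset.range j, (j.choose i : ℂ) * S i y) /
      (1 - y) := by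
  have h1 := S_rec j hy
  rw [Finset.sum_range_succ, Nat.choose_self, Nat.cast_one, one_mul] at h1
  have hne : (1 : ℂ) - y ≠ 0 := by
    intro h
    have : y = 1 := by linear_combination -h
    rw [this] at hy
    simp at hy
  rw [eq_div_iff hne]
  linear_combination h1

/-- the recurrence for the numbers `E j` -/
theorem E_rec (E : ℕ → ℚ)
    (hE : PowerSeries.mk (fun j => E j / (j.factorial : ℚ)) * (PowerSeries.exp ℚ + 1) = 2)
    (m : ℕ) :
    2 * E m + ∑ i ∈ Finset.range m, (m.choose i : ℚ) * E i = if m = 0 then 2 else 0 := by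
  have h1 := congrArg (PowerSeries.coeff m) hE
  rw [PowerSeries.coeff_mul, Finset.Nat.sum_antidiagonal_eq_sum_range_succ
    (fun i l => PowerSeries.coeff i (PowerSeries.mk fun j => E j / (j.factorial : ℚ)) *
      PowerSeries.coeff l (PowerSeries.exp ℚ + 1))] at h1
  simp only [PowerSeries.coeff_mk, map_add, PowerSeries.coeff_exp, PowerSeries.coeff_one,
    Algebra.algebraMap_self, RingHom.id_apply] at h1
  have h2 : PowerSeries.coeff m (2 : PowerSeries ℚ) = if m = 0 then 2 else 0 := by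
    have : (2 : PowerSeries ℚ) = PowerSeries.C (2 : ℚ) := (map_ofNat PowerSeries.C 2).symm
    rw [this, PowerSeries.coeff_C]
  rw [h2, Finset.sum_range_succ] at h1
  simp only [Nat.sub_self, Nat.factorial_zero, Nat.cast_one, ne_eq, one_ne_zero,
    not_false_eq_true, div_self, if_true] at h1
  have hm : (m.factorial : ℚ) ≠ 0 := Nat.cast_ne_zero.mpr (Nat.factorial_ne_zero m)
  have h3 : ∑ i ∈ Finset.range m, E i / (i.factorial : ℚ) *
      (1 / ((m - i).factorial : ℚ) + if m - i = 0 then 1 else 0) =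
      (∑ i ∈ Finset.range m, (m.choose i : ℚ) * E i) / (m.factorial : ℚ) := by
    rw [Finset.sum_div]
    apply Finset.sum_congr rfl
    intro i hi
    have hi' : i < m := Finset.mem_range.mp hi
    have hne : m - i ≠ 0 := by omega
    rw [if_neg hne, add_zero, Nat.choose_eq_factorial_div_factorial hi'.le,
      Nat.cast_div (Nat.factorial_mul_factorial_dvd_factorial hi'.le)
        (by exact_mod_cast Nat.mul_ne_zero (Nat.factorial_ne_zero _) (Nat.factorial_ne_zero _))]
    push_cast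
    have h4 : (i.factorial : ℚ) ≠ 0 := Nat.cast_ne_zero.mpr (Nat.factorial_ne_zero i)
    have h5 : ((m - i).factorial : ℚ) ≠ 0 := Nat.cast_ne_zero.mpr (Nat.factorial_ne_zero _)
    field_simp
  rw [h3] at h1
  have h6 : (∑ i ∈ Finset.range m, (m.choose i : ℚ) * E i) + 2 * E m =
      (m.factorial : ℚ) * (if m = 0 then 2 else 0) := by
    rw [← h1]
    field_simp
    ring
  by_cases hm0 : m = 0
  · subst hm0
    simp at h6 ⊢
    linarith
  · rw [if_neg hm0] at h6 ⊢
    linarith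

theorem tendsto_S (E : ℕ → ℚ)
    (hE : PowerSeries.mk (fun j => E j / (j.factorial : ℚ)) * (PowerSeries.exp ℚ + 1) = 2)
    (j : ℕ) :
    Tendsto (fun y : ℝ => S j (y : ℂ)) (𝓝[Set.Ioo (-1 : ℝ) 1] (-1 : ℝ))
      (𝓝 (((E j : ℚ) : ℂ) / 2)) := by
  induction j using Nat.strong_induction_on with
  | _ j ih =>
    have hy : Tendsto (fun y : ℝ => (y : ℂ)) (𝓝[Set.Ioo (-1 : ℝ) 1] (-1 : ℝ))
        (𝓝 ((-1 : ℝ) : ℂ)) :=
      (Complex.continuous_ofReal.tendsto _).mono_left nhdsWithin_le_nhds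
    have hnum : Tendsto (fun y : ℝ => (if j = 0 then (1 : ℂ) else 0) +
        (y : ℂ) * ∑ i ∈ Finset.range j, (j.choose i : ℂ) * S i (y : ℂ))
        (𝓝[Set.Ioo (-1 : ℝ) 1] (-1 : ℝ))
        (𝓝 ((if j = 0 then (1 : ℂ) else 0) +
          ((-1 : ℝ) : ℂ) * ∑ i ∈ Finset.range j, (j.choose i : ℂ) * (((E i : ℚ) : ℂ) / 2))) := by
      apply Tendsto.const_add
      apply hy.mul
      apply tendsto_finsetSum
      intro i hi
      exact (ih i (Finset.mem_range.mp hi)).const_mul _
    have hden : Tendsto (fun y : ℝ => (1 : ℂ) - (y : ℂ)) (𝓝[Set.Ioo (-1 : ℝ) 1] (-1 : ℝ))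
        (𝓝 (1 - ((-1 : ℝ) : ℂ))) := hy.const_sub 1
    have hdiv := hnum.div hden (by norm_num)
    have hval : ((if j = 0 then (1 : ℂ) else 0) +
          ((-1 : ℝ) : ℂ) * ∑ i ∈ Finset.range j, (j.choose i : ℂ) * (((E i : ℚ) : ℂ) / 2)) /
        (1 - ((-1 : ℝ) : ℂ)) = ((E j : ℚ) : ℂ) / 2 := by
      have h := E_rec E hE j
      have h' := congrArg (fun q : ℚ => (q : ℂ)) h
      simp only [Rat.cast_add, Rat.cast_mul, Rat.cast_ofNat, Rat.cast_sum, Rat.cast_natCast] at h'
      have h2 : ∑ i ∈ Finset.range j, (j.choose i : ℂ) * (((E i : ℚ) : ℂ) / 2) =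
          (∑ i ∈ Finset.range j, (j.choose i : ℂ) * ((E i : ℚ) : ℂ)) / 2 := by
        rw [Finset.sum_div]
        apply Finset.sum_congr rfl
        intro i _
        ring
      rw [h2]
      by_cases hj : j = 0
      · subst hj
        simp only [if_true, Finset.range_zero, Finset.sum_empty, Rat.cast_ofNat] at h' ⊢
        push_cast
        linear_combination (-1 / 4 : ℂ) * h'
      · simp only [if_neg hj, Rat.cast_zero] at h' ⊢
        push_cast
        linear_combination (-1 / 4 : ℂ) * h'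
    rw [hval] at hdiv
    refine hdiv.congr' ?_
    filter_upwards [self_mem_nhdsWithin] with y hy'
    have : ‖(y : ℂ)‖ < 1 := by
      rw [Complex.norm_real, Real.norm_eq_abs, abs_lt]
      exact ⟨hy'.1, hy'.2⟩
    exact (S_eq j this).symm

section Tval

variable {T : Type*} [NormedCommRing T] [NormedAlgebra ℂ T]

theorem term_eq (P : Polynomial T) (y : ℂ) (k : ℕ) :
    y ^ k • P.eval (k : T) =
      ∑ j ∈ Finset.range (P.natDegree + 1), ((k : ℂ) ^ j * y ^ k) • P.coeff j := by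
  rw [Polynomial.eval_eq_sum_range, Finset.smul_sum]
  apply Finset.sum_congr rfl
  intro j _
  have : (k : T) = (k : ℂ) • (1 : T) := by
    rw [← Algebra.algebraMap_eq_smul_one, map_natCast]
  rw [this, smul_pow, one_pow, mul_smul_comm, mul_one, smul_smul, mul_comm]

theorem hasSum_main (P : Polynomial T) {y : ℂ} (hy : ‖y‖ < 1) :
    HasSum (fun k : ℕ => y ^ k • P.eval (k : T))
      (∑ j ∈ Finset.range (P.natDegree + 1), S j y • P.coeff j) := by
  simp_rw [term_eq]
  apply hasSum_sum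
  intro j _
  exact (hasSum_S j hy).smul_const _

theorem main (E : ℕ → ℚ)
    (hE : PowerSeries.mk (fun j => E j / (j.factorial : ℚ)) * (PowerSeries.exp ℚ + 1) = 2)
    (P : Polynomial T) :
    (∀ y : ℂ, ‖y‖ < 1 → Summable (fun k : ℕ => y ^ k • P.eval (k : T))) ∧
    Tendsto (fun y : ℝ => ∑' k : ℕ, ((y : ℂ) ^ k) • P.eval (k : T))
      (𝓝[Set.Ioo (-1 : ℝ) 1] (-1 : ℝ))
      (𝓝 ((2 : ℂ)⁻¹ • ∑ j ∈ Finset.range (P.natDegree + 1), ((E j : ℚ) : ℂ) • P.coeff j)) := by
  refine ⟨fun y hy => (hasSum_main P hy).summable, ?_⟩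
  have h1 : Tendsto (fun y : ℝ => ∑ j ∈ Finset.range (P.natDegree + 1), S j (y : ℂ) • P.coeff j)
      (𝓝[Set.Ioo (-1 : ℝ) 1] (-1 : ℝ))
      (𝓝 (∑ j ∈ Finset.range (P.natDegree + 1), (((E j : ℚ) : ℂ) / 2) • P.coeff j)) :=
    tendsto_finsetSum _ (fun j _ => (tendsto_S E hE j).smul_const _)
  have h2 : ∑ j ∈ Finset.range (P.natDegree + 1), (((E j : ℚ) : ℂ) / 2) • P.coeff j =
      (2 : ℂ)⁻¹ • ∑ j ∈ Finset.range (P.natDegree + 1), ((E j : ℚ) : ℂ) • P.coeff j := by
    rw [Finset.smul_sum]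
    apply Finset.sum_congr rfl
    intro j _
    rw [smul_smul]
    congr 1
    ring
  rw [h2] at h1
  refine h1.congr' ?_
  filter_upwards [self_mem_nhdsWithin] with y hy'
  have : ‖(y : ℂ)‖ < 1 := by
    rw [Complex.norm_real, Real.norm_eq_abs, abs_lt]
    exact ⟨hy'.1, hy'.2⟩
  exact ((hasSum_main P this).tsum_eq).symm

end Tval


/-- Let T be a nonzero commutative normed ℂ-algebra such that the map ℂ → T/nilradical(T) is surjective,
let P = Σ_j d_j x ^ j be a polynomial over T and put h_k = P(k). Let E_0, E_1, … be the rational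
numbers with 2/(e^t + 1) = Σ_j E_j t ^ j / j! (so E_0 = 1, E_1 = -1/2). Then for every complex y
with |y| < 1 the series Σ_k h_k y ^ k converges in T, and as y → -1 along real y in (-1, 1) its sum
tends to (1/2) Σ_j E_j d_j. (The published statement allows any norm topology on T as a complex
vector space; this row takes T a normed ℂ-algebra.) -/
theorem result {T : Type u} [NormedCommRing T] [NormedAlgebra ℂ T] [Nontrivial T]
    (hT : Function.Surjective (algebraMap ℂ (T ⧸ nilradical T)))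
    (E : ℕ → ℚ) (hE : PowerSeries.mk (fun j => E j / (j.factorial : ℚ)) * (PowerSeries.exp ℚ + 1) = 2)
    (P : Polynomial T) :
    (∀ y : ℂ, ‖y‖ < 1 → Summable (fun k : ℕ => y ^ k • P.eval (k : T))) ∧
    Tendsto (fun y : ℝ => ∑' k : ℕ, ((y : ℂ) ^ k) • P.eval (k : T)) (𝓝[Set.Ioo (-1 : ℝ) 1] (-1 : ℝ))
      (𝓝 ((2 : ℂ)⁻¹ • ∑ j ∈ Finset.range (P.natDegree + 1), ((E j : ℚ) : ℂ) • P.coeff j)) := by
  exact main E hE P

end Groth.Agent.S17878
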