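import Groth.Statements.S17881

set_option autoImplicit false
universe u
open CAlg

namespace Groth.Agent.S17881

/-- Let O be a subring of a nontrivial commutative ring A. The following are equivalent: (i) A is a
local ring, every non-unit of A belongs to O, and for every unit u of A one of u, u⁻¹ belongs to O —
equivalently O is the preimage in the local ring A of a valuation ring of the residue field of A,
which makes O a semi-valuation ring with semi-fraction ring A; (ii) for all f, g in A generating the
unit ideal, either f ∈ gO or g ∈ fO. (A is taken nontrivial: over the zero ring (ii) holds and (i)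
fails.) -/
theorem result (A : Type u) [CommRing A] [Nontrivial A]
    (O : Subring A) :
    (IsLocalRing A ∧ (∀ a : A, ¬ IsUnit a → a ∈ O) ∧ (∀ u : Aˣ, (u : A) ∈ O ∨ ((u⁻¹ : Aˣ) : A) ∈ O)) ↔
      ∀ f g : A, IsCoprime f g → (∃ o ∈ O, f = g * o) ∨ (∃ o ∈ O, g = f * o) := by
  constructor
  · rintro ⟨hloc, hnon, hunit⟩ f g hfg
    have key : ∀ (u : Aˣ) (x : A), (∃ o ∈ O, (u : A) = x * o) ∨ (∃ o ∈ O, x = (u : A) * o) := by
      intro u x
      by_cases hx : IsUnit x
      · obtain ⟨v, rfl⟩ := hx
        rcases hunit (u⁻¹ * v) with h | h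
        · right
          refine ⟨_, h, ?_⟩
          simp [Units.val_mul, ← mul_assoc]
        · left
          refine ⟨_, h, ?_⟩
          simp [← mul_assoc]
      · right
        refine ⟨((u⁻¹ : Aˣ) : A) * x, hnon _ ?_, ?_⟩
        · intro h
          apply hx
          have := (Units.isUnit u).mul h
          simpa [← mul_assoc] using this
        · simp [← mul_assoc]
    have hfg' : IsUnit f ∨ IsUnit g := by
      obtain ⟨a, b, hab⟩ := hfg
      have h1 : IsUnit (a * f + b * g) := by rw [hab]; exact isUnit_one
      rcases IsLocalRing.isUnit_or_isUnit_of_isUnit_add h1 with h | h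
      · exact Or.inl (isUnit_of_mul_isUnit_right h)
      · exact Or.inr (isUnit_of_mul_isUnit_right h)
    rcases hfg' with hf | hg
    · obtain ⟨u, rfl⟩ := hf
      exact key u g
    · obtain ⟨u, rfl⟩ := hg
      exact (key u f).symm
  · intro h
    refine ⟨?_, ?_, ?_⟩
    · refine IsLocalRing.of_isUnit_or_isUnit_one_sub_self ?_
      intro a
      have hc : IsCoprime a (1 - a) := ⟨1, 1, by ring⟩
      rcases h a (1 - a) hc with ⟨o, -, ho⟩ | ⟨o, -, ho⟩
      · right
        refine IsUnit.of_mul_eq_one (o + 1) ?_
        have : (1 - a) * (o + 1) = (1 - a) * o + (1 - a) := by ring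
        rw [this, ← ho]; ring
      · left
        refine IsUnit.of_mul_eq_one (1 + o) ?_
        have : a * (1 + o) = a + a * o := by ring
        rw [this, ← ho]; ring
    · intro a ha
      have hc : IsCoprime a 1 := isCoprime_one_right
      rcases h a 1 hc with ⟨o, ho, hao⟩ | ⟨o, -, hao⟩
      · rw [one_mul] at hao; rwa [hao]
      · exact absurd (IsUnit.of_mul_eq_one o hao.symm) ha
    · intro u
      have hc : IsCoprime (u : A) 1 := isCoprime_one_right
      rcases h u 1 hc with ⟨o, ho, hao⟩ | ⟨o, ho, hao⟩
      · left; rw [one_mul] at hao; rwa [hao]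
      · right
        have : ((u⁻¹ : Aˣ) : A) = o := by
          have h2 : (u : A) * o = 1 := hao.symm
          calc ((u⁻¹ : Aˣ) : A) = ((u⁻¹ : Aˣ) : A) * ((u : A) * o) := by rw [h2, mul_one]
            _ = o := by simp [← mul_assoc]
        rwa [this]

end Groth.Agent.S17881
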