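import Groth.Statements.S17882
import Mathlib

set_option autoImplicit false
universe u
open CAlg

namespace Groth.Agent.S17882



/-- Let B be a commutative ring, r ≥ 1, N a finitely generated submodule of B^r, and n_1, …, n_r ∈ N.
Suppose the determinant of the matrix with rows n_1, …, n_r is a nonzerodivisor of B and that the
determinant of every matrix whose rows lie in N is a multiple of it (the image of the top exterior
power of N in that of B^r ≅ B is the principal ideal generated by n_1 ∧ ⋯ ∧ n_r, a nonzerodivisor).
Then n_1, …, n_r are linearly independent over B and span N: N is free of rank r with this basis. -/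
theorem result (B : Type u) [CommRing B] (r : ℕ) (hr : 0 < r)
    (N : Submodule B (Fin r → B)) (hN : N.FG) (n : Fin r → (Fin r → B)) (hn : ∀ i, n i ∈ N)
    (hgen : ∀ m : Fin r → (Fin r → B), (∀ i, m i ∈ N) →
      Matrix.det (Matrix.of m) ∈ Ideal.span {Matrix.det (Matrix.of n)})
    (hnzd : Matrix.det (Matrix.of n) ∈ nonZeroDivisors B) :
    LinearIndependent B n ∧ Submodule.span B (Set.range n) = N := by
  classical
  set M : Matrix (Fin r) (Fin r) B := Matrix.of n with hM
  set d := M.det with hd
  have hdz : ∀ x : B, d * x = 0 → x = 0 := fun x hx =>
    (mem_nonZeroDivisors_iff_right.mp hnzd) x (by rw [mul_comm]; exact hx)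
  constructor
  · rw [Fintype.linearIndependent_iff]
    intro c hc i
    have h1 : Matrix.vecMul c M = 0 := by
      funext j
      have := congrFun hc j
      simp only [Finset.sum_apply, Pi.smul_apply, smul_eq_mul, Pi.zero_apply] at this
      simp only [Matrix.vecMul, dotProduct, Pi.zero_apply]
      exact this
    have h2 : Matrix.vecMul (Matrix.vecMul c M) M.adjugate = d • c := by
      rw [Matrix.vecMul_vecMul, Matrix.mul_adjugate, Matrix.vecMul_smul, Matrix.vecMul_one]
    rw [h1, Matrix.zero_vecMul] at h2
    have h3 := congrFun h2 i
    simp only [Pi.zero_apply, Pi.smul_apply, smul_eq_mul] at h3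
    exact hdz _ h3.symm
  · apply le_antisymm
    · rw [Submodule.span_le]
      rintro _ ⟨i, rfl⟩
      exact hn i
    · intro m hm
      have ha : ∀ i, ∃ a : B, (M.updateRow i m).det = d * a := by
        intro i
        have h1 := hgen (fun k => (M.updateRow i m) k) (by
          intro k
          by_cases hk : k = i
          · subst hk; simp only [Matrix.updateRow_self]; exact hm
          · simp only [Matrix.updateRow_ne hk]; exact hn k)
        rw [Ideal.mem_span_singleton'] at h1
        obtain ⟨a, ha⟩ := h1
        refine ⟨a, ?_⟩
        rw [mul_comm]
        exact ha.symm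
      choose a ha using ha
      have h1 : M.transpose.mulVec (Matrix.cramer M.transpose m) = d • m := by
        rw [Matrix.mulVec_cramer, Matrix.det_transpose]
      have h2 : ∀ j, d * (m j - ∑ i, a i * n i j) = 0 := by
        intro j
        have := congrFun h1 j
        simp only [Matrix.mulVec, dotProduct, Matrix.transpose_apply, Matrix.cramer_transpose_apply,
          Pi.smul_apply, smul_eq_mul, ha] at this
        rw [mul_sub, ← this, Finset.mul_sum, ← Finset.sum_sub_distrib]
        apply Finset.sum_eq_zero
        intro i _
        simp only [hM, Matrix.of_apply]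
        ring
      have h3 : m = ∑ i, a i • n i := by
        funext j
        have := hdz _ (h2 j)
        simp only [Finset.sum_apply, Pi.smul_apply, smul_eq_mul]
        exact sub_eq_zero.mp this
      rw [h3]
      exact Submodule.sum_mem _ (fun i _ => Submodule.smul_mem _ _ (Submodule.subset_span ⟨i, rfl⟩))

end Groth.Agent.S17882
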