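import Groth.Statements.S17887
import Mathlib
import Groth.Agent.Lib.helper26.BlowIso
import Groth.Agent.Lib.helper26.CartCompl
import Groth.Agent.Lib.helper26.FlatCart

set_option autoImplicit false
universe u
open CategoryTheory AlgebraicGeometry
open BlowUp

namespace Groth.Agent.S17887


open CategoryTheory.Limits TopologicalSpace
open Groth.Agent.Lib.helper26.BlowIso Groth.Agent.Lib.helper26.CartCompl
  Groth.Agent.Lib.helper26.FlatCart

/-- Let X be a Noetherian scheme, U ⊆ X an open subscheme that is schematically dense in X, I a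
quasi-coherent ideal sheaf on X whose support does not meet U, and π : X' → X a blowing-up of X
along I. Then π⁻¹(U) is schematically dense in X'. -/
theorem result {X X' : Scheme.{u}} [IsNoetherian X]
    (U : X.Opens) [IsSchemeTheoreticallyDominant U.ι] (𝓘 : X.IdealSheafData)
    (hU : Disjoint (𝓘.support : Set X) (U : Set X)) (π : X' ⟶ X) (hπ : BlowUp.IsBlowUp π 𝓘) :
    IsSchemeTheoreticallyDominant (π ⁻¹ᵁ U).ι := by
  have hiso : IsIso (π ∣_ 𝓘.support.compl) := isIso_morphismRestrict_compl 𝓘 π hπ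
  have heq : π ⁻¹ᵁ 𝓘.support.compl = (𝓘.comap π).support.compl := by
    ext x
    rw [Scheme.IdealSheafData.support_comap]
    rfl
  have hDdom : IsSchemeTheoreticallyDominant (π ⁻¹ᵁ 𝓘.support.compl).ι := by
    haveI := dominant_compl_of_effCartier (𝓘.comap π) hπ.1
    exact dominant_of_eq _ _ heq
  have hgflat : Flat ((π ⁻¹ᵁ 𝓘.support.compl).ι ≫ π) := by
    rw [← morphismRestrict_ι]; infer_instance
  have hO : IsSchemeTheoreticallyDominant
      (((π ⁻¹ᵁ 𝓘.support.compl).ι ≫ π) ⁻¹ᵁ U).ι :=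
    IsSchemeTheoreticallyDominant.of_isPullback (f := U.ι)
      (g := (π ⁻¹ᵁ 𝓘.support.compl).ι ≫ π)
      (isPullback_morphismRestrict ((π ⁻¹ᵁ 𝓘.support.compl).ι ≫ π) U)
  have himg : (π ⁻¹ᵁ 𝓘.support.compl).ι ''ᵁ (((π ⁻¹ᵁ 𝓘.support.compl).ι ≫ π) ⁻¹ᵁ U) =
      π ⁻¹ᵁ U := by
    ext x'
    constructor
    · rintro ⟨d, hd, rfl⟩
      exact hd
    · intro hx
      have hxV : π x' ∈ 𝓘.support.compl := fun hmem => Set.disjoint_left.mp hU hmem hx
      exact ⟨⟨x', hxV⟩, hx, rfl⟩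
  have hfin : IsSchemeTheoreticallyDominant
      ((π ⁻¹ᵁ 𝓘.support.compl).ι ''ᵁ (((π ⁻¹ᵁ 𝓘.support.compl).ι ≫ π) ⁻¹ᵁ U)).ι := by
    rw [← Scheme.Hom.isoImage_inv_ι]; infer_instance
  exact dominant_of_eq _ _ himg.symm

end Groth.Agent.S17887
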