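import Groth.Statements.S17889
import Mathlib
import Groth.Agent.Lib.helper22.BlowUpU
import Groth.Agent.Lib.helper22.BlowUpMul

set_option autoImplicit false
universe u
open CategoryTheory AlgebraicGeometry TopologicalSpace
open BlowUp

namespace Groth.Agent.S17889


open AlgebraicGeometry CategoryTheory Limits
open Groth.Agent.H22.BlowUpU Groth.Agent.H22.BlowUpMul Groth.Agent.H22.CartierFlat

/-- The prime ideal of sections over `O` vanishing at the point `w ∈ O`. -/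
noncomputable def pt (S : Scheme.{u}) (O : S.Opens) (w : S) (hw : w ∈ O) : Ideal Γ(S, O) :=
  Ideal.comap (S.presheaf.germ O w hw).hom (IsLocalRing.maximalIdeal _)

instance pt_isPrime (S : Scheme.{u}) (O : S.Opens) (w : S) (hw : w ∈ O) : (pt S O w hw).IsPrime :=
  Ideal.comap_isPrime _ _

theorem mem_pt {S : Scheme.{u}} {O : S.Opens} {w : S} (hw : w ∈ O) (a : Γ(S, O)) :
    a ∈ pt S O w hw ↔ w ∉ S.basicOpen a := by
  rw [Scheme.mem_basicOpen _ _ w hw]
  show (S.presheaf.germ O w hw).hom a ∈ IsLocalRing.maximalIdeal _ ↔ _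
  rw [IsLocalRing.mem_maximalIdeal]
  rfl

theorem map_le_pt {S₁ S₂ : Scheme.{u}} (h : S₁ ⟶ S₂) (O₁ : S₁.Opens) (O₂ : S₂.Opens)
    (e : O₁ ≤ h ⁻¹ᵁ O₂) (w : S₁) (hw : w ∈ O₁) (A : Ideal Γ(S₂, O₂))
    (hA : A ≤ pt S₂ O₂ (h w) (e hw)) :
    Ideal.map (h.appLE O₂ O₁ e).hom A ≤ pt S₁ O₁ w hw := by
  rw [Ideal.map_le_iff_le_comap]
  intro a ha
  rw [Ideal.mem_comap, mem_pt]
  intro hmem
  have h0 := Scheme.basicOpen_appLE h O₁ O₂ e a
  rw [show S₁.basicOpen ((h.appLE O₂ O₁ e).hom a) = S₁.basicOpen (h.appLE O₂ O₁ e a) from rfl,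
    h0] at hmem
  exact ((mem_pt (S := S₂) (O := O₂) (w := h w) (e hw) a).mp (hA ha)) hmem.2

theorem not_mem_pt_map {S₁ S₂ : Scheme.{u}} (h : S₁ ⟶ S₂) (O₁ : S₁.Opens) (O₂ : S₂.Opens)
    (e : O₁ ≤ h ⁻¹ᵁ O₂) (w : S₁) (hw : w ∈ O₁) (a : Γ(S₂, O₂)) (ha : h w ∈ S₂.basicOpen a) :
    w ∈ S₁.basicOpen ((h.appLE O₂ O₁ e).hom a) := by
  have h0 := Scheme.basicOpen_appLE h O₁ O₂ e a
  rw [show S₁.basicOpen ((h.appLE O₂ O₁ e).hom a) = S₁.basicOpen (h.appLE O₂ O₁ e a) from rfl, h0]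
  exact ⟨hw, ha⟩

theorem ideal_le_pt_of_mem_support {S : Scheme.{u}} (𝓘 : S.IdealSheafData) (O : S.affineOpens)
    (w : S) (hw : w ∈ O.1) (hs : w ∈ 𝓘.support) : 𝓘.ideal O ≤ pt S O.1 w hw := by
  intro a ha
  rw [mem_pt]
  rw [Scheme.IdealSheafData.mem_support_iff_of_mem hw] at hs
  exact (Scheme.mem_zeroLocus_iff _ _ _).mp hs a ha

theorem mem_basicOpen_of_not_mem_support {S : Scheme.{u}} (𝓔 : S.IdealSheafData)
    (O : S.affineOpens) (t : Γ(S, O.1)) (hI : 𝓔.ideal O = Ideal.span {t}) (w : S) (hw : w ∈ O.1)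
    (hs : w ∉ 𝓔.support) : w ∈ S.basicOpen t := by
  by_contra h
  apply hs
  rw [Scheme.IdealSheafData.mem_support_iff_of_mem hw, hI, Scheme.zeroLocus_span,
    Scheme.zeroLocus_singleton]
  exact h

theorem exists_factor {R : Type*} [CommRing R] {ι : Type*} (A : ι → Ideal R) (f : R)
    (hf : f ∈ nonZeroDivisors R) (hA : (⨆ i, A i) = Ideal.span {f}) (𝔭 : Ideal R) [h𝔭 : 𝔭.IsPrime] :
    ∃ j, ∃ c : R, c ∉ 𝔭 ∧ c * f ∈ A j := by
  by_contra hcon
  push Not at hcon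
  have hle : ∀ j, A j ≤ Ideal.span {f} * 𝔭 := by
    intro j a ha
    have ha' : a ∈ Ideal.span {f} := hA ▸ (le_iSup A j ha)
    obtain ⟨c, rfl⟩ := Ideal.mem_span_singleton'.mp ha'
    rw [Ideal.mem_span_singleton_mul]
    refine ⟨c, ?_, mul_comm _ _⟩
    by_contra hc
    exact hcon j c hc ha
  have h1 : f ∈ Ideal.span {f} * 𝔭 := by
    have h0 : f ∈ ⨆ i, A i := hA ▸ Ideal.mem_span_singleton_self f
    exact (iSup_le hle) h0
  obtain ⟨s, hs, hfs⟩ := Ideal.mem_span_singleton_mul.mp h1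
  have hs1 : s = 1 := by
    have h2 : (s - 1) * f = 0 := by rw [sub_mul, one_mul, mul_comm, hfs, sub_self]
    exact sub_eq_zero.mp ((mem_nonZeroDivisors_iff_right.mp hf) _ h2)
  exact h𝔭.ne_top ((Ideal.eq_top_iff_one _).mpr (hs1 ▸ hs))

theorem appLE_congr {S₁ S₂ : Scheme.{u}} {h₁ h₂ : S₁ ⟶ S₂} (heq : h₁ = h₂) (O₂ : S₂.Opens)
    (O₁ : S₁.Opens) (e₁ : O₁ ≤ h₁ ⁻¹ᵁ O₂) (e₂ : O₁ ≤ h₂ ⁻¹ᵁ O₂) :
    h₁.appLE O₂ O₁ e₁ = h₂.appLE O₂ O₁ e₂ := by
  subst heq; rfl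

/-- Let X be a Noetherian scheme, X₀ ⊆ X an open subscheme, p : Z → X a morphism of finite type with Z
Noetherian, and F ⊆ X, G ⊆ Z closed subsets with p⁻¹(F ∩ X₀) ∩ G = ∅. Let a be a quasi-coherent
ideal sheaf on X whose support does not meet X₀, which contains the vanishing ideal I_F of F, and
which is contained in the kernel ideal of V(I_F·O_Z + I_G) → Z → X (the ideal of the
scheme-theoretic image under p of p⁻¹(F) ∩ G). Let π : X' → X be a blowing-up along a, Z' = Z ×_X X'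
with projections π' : Z' → Z and p' : Z' → X'. Then p'⁻¹ of the closure in X' of π⁻¹(F ∩ X₀) is
disjoint from the closure in Z' of π'⁻¹(G ∩ p⁻¹(X₀)). Taking a to be that kernel ideal shows such an
a exists. -/
theorem result
    {X Z : Scheme.{u}} [IsNoetherian X] [IsNoetherian Z] (p : Z ⟶ X) [LocallyOfFiniteType p]
    (X₀ : X.Opens) (F : Closeds X) (G : Closeds Z)
    (hFG : p.base ⁻¹' ((F : Set X) ∩ (X₀ : Set X)) ∩ (G : Set Z) = ∅)
    (𝔞 : X.IdealSheafData) (h₁ : Disjoint (𝔞.support : Set X) (X₀ : Set X))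
    (h₂ : Scheme.IdealSheafData.vanishingIdeal F ≤ 𝔞)
    (h₃ : 𝔞 ≤ (((Scheme.IdealSheafData.vanishingIdeal F).comap p ⊔
      Scheme.IdealSheafData.vanishingIdeal G).subschemeι ≫ p).ker)
    {X' : Scheme.{u}} (π : X' ⟶ X) (hπ : BlowUp.IsBlowUp π 𝔞) :
    (Limits.pullback.snd p π).base ⁻¹' closure (π.base ⁻¹' ((F : Set X) ∩ (X₀ : Set X))) ∩
      closure ((Limits.pullback.fst p π).base ⁻¹' ((G : Set Z) ∩ (p ⁻¹ᵁ X₀ : Set Z))) = ∅ := by
  rw [Set.eq_empty_iff_forall_notMem]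
  rintro z' ⟨hz2, hz1⟩
  have hz2' : pullback.snd p π z' ∈ closure ((fun x' => π x') ⁻¹' ((F : Set X) ∩ (X₀ : Set X))) :=
    hz2
  have hz1' : z' ∈ closure ((fun ζ => pullback.fst p π ζ) ⁻¹' ((G : Set Z) ∩ (p ⁻¹ᵁ X₀ : Set Z))) :=
    hz1
  -- reformulate h₃
  have h₃' : 𝔞.comap p ≤ (Scheme.IdealSheafData.vanishingIdeal F).comap p ⊔
      Scheme.IdealSheafData.vanishingIdeal G := by
    have h0 := h₃
    rw [← Scheme.IdealSheafData.map_bot, Scheme.IdealSheafData.le_map_iff_comap_le,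
      Scheme.IdealSheafData.comap_comp, ← Scheme.IdealSheafData.le_map_iff_comap_le,
      Scheme.IdealSheafData.map_bot, Scheme.IdealSheafData.ker_subschemeι] at h0
    exact h0
  -- points of X' over X₀ are off the exceptional divisor
  have hoff : ∀ ξ : X', π ξ ∈ X₀ → ξ ∉ (𝔞.comap π).support := by
    intro ξ hξ hmem
    rw [Scheme.IdealSheafData.support_comap] at hmem
    have hmem' : π ξ ∈ 𝔞.support := hmem
    exact Set.disjoint_left.mp h₁ hmem' hξ
  have hFsupp : ∀ x : X, x ∈ F → x ∈ (Scheme.IdealSheafData.vanishingIdeal F).support := by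
    intro x hx
    show x ∈ ((Scheme.IdealSheafData.vanishingIdeal F).support : Set X)
    rw [Scheme.IdealSheafData.coe_support_vanishingIdeal]; exact hx
  have hGsupp : ∀ x : Z, x ∈ G → x ∈ (Scheme.IdealSheafData.vanishingIdeal G).support := by
    intro x hx
    show x ∈ ((Scheme.IdealSheafData.vanishingIdeal G).support : Set Z)
    rw [Scheme.IdealSheafData.coe_support_vanishingIdeal]; exact hx
  -- local data at x'
  obtain ⟨_, ⟨W, hW, rfl⟩, hxW, -⟩ := X.isBasis_affineOpens.exists_subset_of_mem_open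
    (show π (pullback.snd p π z') ∈ (⊤ : X.Opens) from trivial) (⊤ : X.Opens).isOpen
  obtain ⟨_, ⟨U₁, hU₁, rfl⟩, hxU₁, hU₁W⟩ := X'.isBasis_affineOpens.exists_subset_of_mem_open
    (show pullback.snd p π z' ∈ π ⁻¹ᵁ W from hxW) (π ⁻¹ᵁ W).isOpen
  obtain ⟨W', hW'U₁, g₁, -, hxW', t, ht, hI⟩ :=
    exists_good_nbhd (𝔞.comap π) hπ.1 ⟨U₁, hU₁⟩ (pullback.snd p π z') hxU₁
  have e : W'.1 ≤ π ⁻¹ᵁ W := le_trans hW'U₁ hU₁W
  have hI2 := comap_ideal_eq_map 𝔞 π W' ⟨W, hW⟩ e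
  -- A_F ≤ (t) * 𝔭
  have hAF : Ideal.map (π.appLE W W'.1 e).hom
      ((Scheme.IdealSheafData.vanishingIdeal F).ideal ⟨W, hW⟩) ≤
      Ideal.span {t} * pt X' W'.1 (pullback.snd p π z') hxW' := by
    rw [Ideal.map_le_iff_le_comap]
    intro a ha
    rw [Ideal.mem_comap]
    have h1 : (π.appLE W W'.1 e).hom a ∈ Ideal.span {t} := by
      rw [← hI, hI2]
      exact Ideal.mem_map_of_mem _ (Scheme.IdealSheafData.le_def.mp h₂ ⟨W, hW⟩ ha)
    obtain ⟨r, hr⟩ := Ideal.mem_span_singleton'.mp h1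
    rw [Ideal.mem_span_singleton_mul]
    refine ⟨r, ?_, by rw [mul_comm]; exact hr⟩
    rw [mem_pt]
    intro hxr
    obtain ⟨w, hwr, hwF⟩ := mem_closure_iff.mp hz2' (X'.basicOpen r) (X'.basicOpen r).isOpen hxr
    have hwF' : π w ∈ (F : Set X) ∩ (X₀ : Set X) := hwF
    have hwW' : w ∈ W'.1 := X'.basicOpen_le r hwr
    have hwt : w ∈ X'.basicOpen t :=
      mem_basicOpen_of_not_mem_support _ W' t hI w hwW' (hoff w hwF'.2)
    have hwrt : w ∈ X'.basicOpen ((π.appLE W W'.1 e).hom a) := by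
      rw [← hr, Scheme.basicOpen_mul]; exact ⟨hwr, hwt⟩
    have h2 : (π.appLE W W'.1 e).hom a ∈ pt X' W'.1 w hwW' :=
      map_le_pt π W'.1 W e w hwW' _
        (ideal_le_pt_of_mem_support _ ⟨W, hW⟩ (π w) (e hwW') (hFsupp _ hwF'.1))
        (Ideal.mem_map_of_mem _ ha)
    exact ((mem_pt hwW' _).mp h2) hwrt
  -- local data at z and z'
  have hpz : p (pullback.fst p π z') = π (pullback.snd p π z') := by
    rw [← Scheme.Hom.comp_apply, ← Scheme.Hom.comp_apply, pullback.condition]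
  obtain ⟨_, ⟨M, hM, rfl⟩, hzM, hMW⟩ := Z.isBasis_affineOpens.exists_subset_of_mem_open
    (show pullback.fst p π z' ∈ p ⁻¹ᵁ W from by
      show p (pullback.fst p π z') ∈ W
      rw [hpz]; exact hxW) (p ⁻¹ᵁ W).isOpen
  obtain ⟨_, ⟨M', hM', rfl⟩, hzM', hM'le⟩ :=
    (pullback p π).isBasis_affineOpens.exists_subset_of_mem_open
    (show z' ∈ (pullback.fst p π ⁻¹ᵁ M) ⊓ (pullback.snd p π ⁻¹ᵁ W'.1) from ⟨hzM, hxW'⟩)
    ((pullback.fst p π ⁻¹ᵁ M) ⊓ (pullback.snd p π ⁻¹ᵁ W'.1)).isOpen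
  have e₂ : M' ≤ pullback.fst p π ⁻¹ᵁ M := le_trans hM'le inf_le_left
  have e₃ : M' ≤ pullback.snd p π ⁻¹ᵁ W'.1 := le_trans hM'le inf_le_right
  have hcomp : ((pullback.fst p π).appLE M M' e₂).hom.comp (p.appLE W M hMW).hom =
      ((pullback.snd p π).appLE W'.1 M' e₃).hom.comp (π.appLE W W'.1 e).hom := by
    have h1 := Scheme.Hom.appLE_comp_appLE (pullback.fst p π) p W M M' hMW e₂
    have h2 := Scheme.Hom.appLE_comp_appLE (pullback.snd p π) π W W'.1 M' e e₃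
    have h3 := appLE_congr (pullback.condition (f := p) (g := π)) W M'
      (e₂.trans ((TopologicalSpace.Opens.map (pullback.fst p π).base).map (homOfLE hMW)).le)
      (e₃.trans ((TopologicalSpace.Opens.map (pullback.snd p π).base).map (homOfLE e)).le)
    rw [← CommRingCat.hom_comp, ← CommRingCat.hom_comp, h1, h2, h3]
  have hinclM : Ideal.map (p.appLE W M hMW).hom (𝔞.ideal ⟨W, hW⟩) ≤
      Ideal.map (p.appLE W M hMW).hom ((Scheme.IdealSheafData.vanishingIdeal F).ideal ⟨W, hW⟩) ⊔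
        (Scheme.IdealSheafData.vanishingIdeal G).ideal ⟨M, hM⟩ := by
    have h0 := Scheme.IdealSheafData.le_def.mp h₃' ⟨M, hM⟩
    rw [comap_ideal_eq_map 𝔞 p ⟨M, hM⟩ ⟨W, hW⟩ hMW] at h0
    have h1 : ((Scheme.IdealSheafData.vanishingIdeal F).comap p ⊔
        Scheme.IdealSheafData.vanishingIdeal G).ideal ⟨M, hM⟩ =
        ((Scheme.IdealSheafData.vanishingIdeal F).comap p).ideal ⟨M, hM⟩ ⊔
          (Scheme.IdealSheafData.vanishingIdeal G).ideal ⟨M, hM⟩ := rfl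
    rw [h1, comap_ideal_eq_map (Scheme.IdealSheafData.vanishingIdeal F) p ⟨M, hM⟩ ⟨W, hW⟩ hMW] at h0
    exact h0
  have hkey : ((pullback.snd p π).appLE W'.1 M' e₃).hom t ∈
      Ideal.span {((pullback.snd p π).appLE W'.1 M' e₃).hom t} *
        pt (pullback p π) M' z' hzM' ⊔
      Ideal.map ((pullback.fst p π).appLE M M' e₂).hom
        ((Scheme.IdealSheafData.vanishingIdeal G).ideal ⟨M, hM⟩) := by
    have h1 : ((pullback.snd p π).appLE W'.1 M' e₃).hom t ∈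
        Ideal.map ((pullback.snd p π).appLE W'.1 M' e₃).hom
          (Ideal.map (π.appLE W W'.1 e).hom (𝔞.ideal ⟨W, hW⟩)) := by
      rw [← hI2, hI]
      exact Ideal.mem_map_of_mem _ (Ideal.mem_span_singleton_self t)
    rw [Ideal.map_map, ← hcomp, ← Ideal.map_map] at h1
    have h2 := Ideal.map_mono (f := ((pullback.fst p π).appLE M M' e₂).hom) hinclM h1
    rw [Ideal.map_sup, Ideal.map_map, hcomp, ← Ideal.map_map] at h2
    have hsq : Ideal.map ((pullback.snd p π).appLE W'.1 M' e₃).hom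
          (Ideal.map (π.appLE W W'.1 e).hom
            ((Scheme.IdealSheafData.vanishingIdeal F).ideal ⟨W, hW⟩)) ≤
        Ideal.span {((pullback.snd p π).appLE W'.1 M' e₃).hom t} *
          pt (pullback p π) M' z' hzM' := by
      calc Ideal.map ((pullback.snd p π).appLE W'.1 M' e₃).hom
            (Ideal.map (π.appLE W W'.1 e).hom
              ((Scheme.IdealSheafData.vanishingIdeal F).ideal ⟨W, hW⟩))
          ≤ Ideal.map ((pullback.snd p π).appLE W'.1 M' e₃).hom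
            (Ideal.span {t} * pt X' W'.1 (pullback.snd p π z') hxW') := Ideal.map_mono hAF
        _ = Ideal.span {((pullback.snd p π).appLE W'.1 M' e₃).hom t} *
            Ideal.map ((pullback.snd p π).appLE W'.1 M' e₃).hom
              (pt X' W'.1 (pullback.snd p π z') hxW') := by
            rw [Ideal.map_mul, Ideal.map_span, Set.image_singleton]
        _ ≤ _ := Ideal.mul_mono_right
            (map_le_pt (pullback.snd p π) M' W'.1 e₃ z' hzM' _ le_rfl)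
    have hsq' := sup_le_sup_right hsq
      (Ideal.map ((pullback.fst p π).appLE M M' e₂).hom
        ((Scheme.IdealSheafData.vanishingIdeal G).ideal ⟨M, hM⟩))
    exact hsq' h2
  obtain ⟨y₀, hy₀, κ', hκ', hsum⟩ := Submodule.mem_sup.mp hkey
  obtain ⟨m, hm, hTm⟩ := Ideal.mem_span_singleton_mul.mp hy₀
  have hu : z' ∈ (pullback p π).basicOpen (1 - m) := by
    by_contra h
    have h1 := (mem_pt hzM' _).mpr h
    have h2 : (1 : Γ(pullback p π, M')) ∈ pt (pullback p π) M' z' hzM' := by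
      have := Ideal.add_mem _ h1 hm
      rwa [sub_add_cancel] at this
    exact (pt_isPrime _ _ _ _).ne_top ((Ideal.eq_top_iff_one _).mpr h2)
  have hTu : ((pullback.snd p π).appLE W'.1 M' e₃).hom t * (1 - m) = κ' := by
    have hκ'eq : κ' = ((pullback.snd p π).appLE W'.1 M' e₃).hom t - y₀ := by
      rw [← hsum]; ring
    rw [mul_sub, hTm, hκ'eq, mul_one]
  obtain ⟨ζ, hζu, hζG⟩ := mem_closure_iff.mp hz1' _
    ((pullback p π).basicOpen (1 - m)).isOpen hu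
  have hζG' : pullback.fst p π ζ ∈ (G : Set Z) ∩ (p ⁻¹ᵁ X₀ : Set Z) := hζG
  have hζM' : ζ ∈ M' := (pullback p π).basicOpen_le _ hζu
  have hqξ : π (pullback.snd p π ζ) ∈ X₀ := by
    have h1 : π (pullback.snd p π ζ) = p (pullback.fst p π ζ) := by
      rw [← Scheme.Hom.comp_apply, ← Scheme.Hom.comp_apply, pullback.condition]
    rw [h1]
    exact hζG'.2
  have hξt : pullback.snd p π ζ ∈ X'.basicOpen t :=
    mem_basicOpen_of_not_mem_support _ W' t hI _ (e₃ hζM') (hoff _ hqξ)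
  have hζT : ζ ∈ (pullback p π).basicOpen (((pullback.snd p π).appLE W'.1 M' e₃).hom t) :=
    not_mem_pt_map (pullback.snd p π) M' W'.1 e₃ ζ hζM' t hξt
  have hζTu : ζ ∈ (pullback p π).basicOpen κ' := by
    rw [← hTu, Scheme.basicOpen_mul]; exact ⟨hζT, hζu⟩
  have hK : (Scheme.IdealSheafData.vanishingIdeal G).ideal ⟨M, hM⟩ ≤
      pt Z M (pullback.fst p π ζ) (e₂ hζM') :=
    ideal_le_pt_of_mem_support _ ⟨M, hM⟩ _ (e₂ hζM') (hGsupp _ hζG'.1)
  have hκ'pt := map_le_pt (pullback.fst p π) M' M e₂ ζ hζM' _ hK hκ'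
  exact ((mem_pt hζM' κ').mp hκ'pt) hζTu

end Groth.Agent.S17889
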