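import Groth.Statements.S17897
import Mathlib

set_option autoImplicit false
universe u
open CategoryTheory AlgebraicGeometry
open ValCrit

namespace Groth.Agent.S17897

section Helpers
open AlgebraicGeometry CategoryTheory Limits TopologicalSpace IsLocalRing

/-- a morphism from a local Spec whose closed point lands in `U` factors through `U` -/
lemma range_subset {X : Scheme.{u}} {S : CommRingCat.{u}} [IsLocalRing S] (ψ : Spec S ⟶ X)
    (U : X.Opens) (h : ψ (closedPoint S) ∈ U) : Set.range ψ ⊆ Set.range U.ι := by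
  have := Scheme.preimage_eq_top_of_closedPoint_mem ψ h
  rintro _ ⟨z, rfl⟩
  have hz : z ∈ ψ ⁻¹ᵁ U := by rw [this]; trivial
  simpa using hz

/-- morphisms from Spec S into an affine open `U` correspond to ring homs -/
lemma exists_ringHom {X : Scheme.{u}} {S : CommRingCat.{u}} (ψ : Spec S ⟶ X)
    (U : X.Opens) (hU : IsAffineOpen U) (h : Set.range ψ ⊆ Set.range U.ι) :
    ∃ β : Γ(X, U) ⟶ S, Spec.map β ≫ hU.fromSpec = ψ := by
  let ψU : Spec S ⟶ U := IsOpenImmersion.lift U.ι ψ h
  obtain ⟨β, hβ⟩ := Spec.map_surjective (ψU ≫ hU.isoSpec.hom)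
  refine ⟨β, ?_⟩
  rw [hβ, IsAffineOpen.fromSpec, Category.assoc, Iso.hom_inv_id_assoc]
  exact IsOpenImmersion.lift_fac _ _ _

theorem main {X Y : Scheme.{u}} (f : Y ⟶ X)
    (K : Type u) [Field K] (R : ValuationSubring K)
    (i : Spec (CommRingCat.of K) ⟶ Y) (φ : Spec (CommRingCat.of ↥R) ⟶ X)
    (w : Spec.map (CommRingCat.ofHom R.subtype) ≫ φ = i ≫ f)
    (y : Y) (g : Y.residueField y ⟶ CommRingCat.of K) (hg : Spec.map g ≫ Y.fromSpecResidueField y = i)
    (ρ : ↥(R.comap g.hom) →+* ↥R)
    (hρ : ∀ x : ↥(R.comap g.hom), ((ρ x : ↥R) : K) = g.hom (x : ↑(Y.residueField y))) :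
    ∃! φ' : Spec (CommRingCat.of ↥(R.comap g.hom)) ⟶ X,
      Spec.map (CommRingCat.ofHom ρ) ≫ φ' = φ ∧
      Spec.map (CommRingCat.ofHom (R.comap g.hom).subtype) ≫ φ' = Y.fromSpecResidueField y ≫ f := by
  let R' : ValuationSubring (Y.residueField y) := R.comap g.hom
  -- ρ is a local hom
  have hloc : IsLocalHom ρ := by
    constructor
    intro x hx
    have hx0 : (x : Y.residueField y) ≠ 0 := by
      intro h0
      have : x = 0 := Subtype.ext h0
      rw [this, map_zero] at hx
      exact not_isUnit_zero hx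
    obtain ⟨u, hu⟩ := hx
    have hmem : ((x : Y.residueField y))⁻¹ ∈ R' := by
      show g.hom _ ∈ R
      rw [map_inv₀, ← hρ, ← hu]
      have : ((u : R) : K)⁻¹ = ((u⁻¹ : Rˣ) : R) := by
        apply inv_eq_of_mul_eq_one_left
        have h := congrArg (fun r : R => (r : K)) (Units.inv_mul u)
        exact h
      rw [this]
      exact Subtype.coe_prop _
    refine ⟨⟨x, ⟨_, hmem⟩, ?_, ?_⟩, rfl⟩
    · apply Subtype.ext; simp [mul_inv_cancel₀ hx0]
    · apply Subtype.ext; simp [inv_mul_cancel₀ hx0]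
  -- the affine open
  obtain ⟨U, hU, hxU⟩ : ∃ U : X.Opens, IsAffineOpen U ∧
      φ (closedPoint (CommRingCat.of ↥R)) ∈ U := by
    obtain ⟨_, ⟨U, hU : IsAffineOpen U, rfl⟩, hxU, -⟩ :=
      X.isBasis_affineOpens.exists_subset_of_mem_open
        (Set.mem_univ (φ (closedPoint (CommRingCat.of ↥R)))) isOpen_univ
    exact ⟨U, hU, hxU⟩
  have hφr := range_subset φ U hxU
  obtain ⟨α, hα⟩ := exists_ringHom φ U hU hφr
  -- the morphism from Spec κ(y)
  have hψr : Set.range (Y.fromSpecResidueField y ≫ f) ⊆ Set.range U.ι := by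
    rintro _ ⟨z, rfl⟩
    have hz : Spec.map g (⊥ : PrimeSpectrum K) = z := Subsingleton.elim _ _
    rw [← hz]
    show (Spec.map g ≫ Y.fromSpecResidueField y ≫ f) _ ∈ _
    rw [reassoc_of% hg, ← w]
    exact hφr ⟨_, rfl⟩
  obtain ⟨β, hβ⟩ := exists_ringHom _ U hU hψr
  have hαβ : α ≫ CommRingCat.ofHom R.subtype = β ≫ g := by
    apply Spec.map_injective
    rw [← cancel_mono hU.fromSpec]
    rw [Spec.map_comp, Spec.map_comp, Category.assoc, Category.assoc, hα, hβ, w, reassoc_of% hg]
  have hmem : ∀ a, β.hom a ∈ R' := by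
    intro a
    show g.hom _ ∈ R
    have := congr($(hαβ).hom a)
    simp only [CommRingCat.hom_comp, RingHom.coe_comp, Function.comp_apply,
      CommRingCat.hom_ofHom] at this
    rw [← this]
    exact Subtype.coe_prop _
  let β' : Γ(X, U) ⟶ CommRingCat.of R' := CommRingCat.ofHom (β.hom.codRestrict R'.toSubring hmem)
  have hβ'1 : β' ≫ CommRingCat.ofHom R'.subtype = β := by
    ext a; rfl
  have hβ'2 : β' ≫ CommRingCat.ofHom ρ = α := by
    ext a
    have := congr($(hαβ).hom a)
    simp only [CommRingCat.hom_comp, RingHom.coe_comp, Function.comp_apply,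
      CommRingCat.hom_ofHom] at this
    simp only [CommRingCat.hom_comp, RingHom.coe_comp, Function.comp_apply,
      CommRingCat.hom_ofHom]
    rw [hρ]
    exact this.symm
  refine ⟨Spec.map β' ≫ hU.fromSpec, ⟨?_, ?_⟩, ?_⟩
  · rw [← Spec.map_comp_assoc, hβ'2, hα]
  · rw [← Spec.map_comp_assoc, hβ'1, hβ]
  · rintro φ'' ⟨h1, h2⟩
    have hcl : φ'' (closedPoint (CommRingCat.of R')) ∈ U := by
      have : closedPoint (CommRingCat.of R') =
          Spec.map (CommRingCat.ofHom ρ) (closedPoint (CommRingCat.of ↥R)) :=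
        (IsLocalRing.comap_closedPoint ρ).symm
      rw [this]
      show (Spec.map (CommRingCat.ofHom ρ) ≫ φ'') _ ∈ U
      rw [h1]
      exact hxU
    obtain ⟨β'', hβ''⟩ := exists_ringHom φ'' U hU (range_subset φ'' U hcl)
    rw [← hβ'']
    congr 2
    have : β'' ≫ CommRingCat.ofHom R'.subtype = β := by
      apply Spec.map_injective
      rw [← cancel_mono hU.fromSpec, hβ, ← h2, ← hβ'', Spec.map_comp_assoc]
    ext a
    have := congr($(this).hom a)
    exact this

end Helpers


/-- Let f : Y → X be a morphism of schemes (not assumed separated), R a valuation ring with fraction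
field K, and i : Spec K → Y, φ : Spec R → X with i ≫ f = (Spec K → Spec R) ≫ φ. Let y be the point
of Y hit by i and g : κ(y) → K the induced embedding, R' = g⁻¹(R) the induced valuation ring of κ(y)
and ρ : R' → R the restriction of g. Then φ factors uniquely through Spec R → Spec R': there is a
unique φ' : Spec R' → X with (Spec ρ) ≫ φ' = φ whose restriction to the generic point Spec κ(y) is
the canonical morphism Spec κ(y) → Y followed by f. (Here y and g are given as data with Spec g
followed by Spec κ(y) → Y equal to i, and ρ as data by its defining equation.) -/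
theorem result {X Y : Scheme.{u}} (f : Y ⟶ X)
    (K : Type u) [Field K] (R : ValuationSubring K)
    (i : Spec (CommRingCat.of K) ⟶ Y) (φ : Spec (CommRingCat.of ↥R) ⟶ X)
    (w : Spec.map (CommRingCat.ofHom R.subtype) ≫ φ = i ≫ f)
    (y : Y) (g : Y.residueField y ⟶ CommRingCat.of K) (hg : Spec.map g ≫ Y.fromSpecResidueField y = i)
    (ρ : ↥(R.comap g.hom) →+* ↥R)
    (hρ : ∀ x : ↥(R.comap g.hom), ((ρ x : ↥R) : K) = g.hom (x : ↑(Y.residueField y))) :
    ∃! φ' : Spec (CommRingCat.of ↥(R.comap g.hom)) ⟶ X,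
      Spec.map (CommRingCat.ofHom ρ) ≫ φ' = φ ∧
      Spec.map (CommRingCat.ofHom (R.comap g.hom).subtype) ≫ φ' = Y.fromSpecResidueField y ≫ f := by
  exact main f K R i φ w y g hg ρ hρ

end Groth.Agent.S17897
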