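import Groth.Statements.S17898
import Mathlib

set_option autoImplicit false
universe u
open CategoryTheory AlgebraicGeometry
open ValCrit

namespace Groth.Agent.S17898

section Helpers
open AlgebraicGeometry CategoryTheory Limits TopologicalSpace IsLocalRing

/-- a morphism from a local Spec whose closed point lands in `U` factors through `U` -/
lemma range_subset {X : Scheme.{u}} {S : CommRingCat.{u}} [IsLocalRing S] (ψ : Spec S ⟶ X)
    (U : X.Opens) (h : ψ (closedPoint S) ∈ U) : Set.range ψ ⊆ Set.range U.ι := by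
  have := Scheme.preimage_eq_top_of_closedPoint_mem ψ h
  rintro _ ⟨z, rfl⟩
  have hz : z ∈ ψ ⁻¹ᵁ U := by rw [this]; trivial
  simpa using hz

/-- morphisms from Spec S into an affine open `U` correspond to ring homs -/
lemma exists_ringHom {X : Scheme.{u}} {S : CommRingCat.{u}} (ψ : Spec S ⟶ X)
    (U : X.Opens) (hU : IsAffineOpen U) (h : Set.range ψ ⊆ Set.range U.ι) :
    ∃ β : Γ(X, U) ⟶ S, Spec.map β ≫ hU.fromSpec = ψ := by
  let ψU : Spec S ⟶ U := IsOpenImmersion.lift U.ι ψ h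
  obtain ⟨β, hβ⟩ := Spec.map_surjective (ψU ≫ hU.isoSpec.hom)
  refine ⟨β, ?_⟩
  rw [hβ, IsAffineOpen.fromSpec, Category.assoc, Iso.hom_inv_id_assoc]
  exact IsOpenImmersion.lift_fac _ _ _

lemma exists_affine {X : Scheme.{u}} (x : X) : ∃ U : X.Opens, IsAffineOpen U ∧ x ∈ U := by
  obtain ⟨_, ⟨U, hU : IsAffineOpen U, rfl⟩, hxU, -⟩ :=
    X.isBasis_affineOpens.exists_subset_of_mem_open (Set.mem_univ x) isOpen_univ
  exact ⟨U, hU, hxU⟩

lemma eq_of_injective {X : Scheme.{u}} {R R' : Type u} [CommRing R] [IsLocalRing R] [CommRing R']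
    (ι : R →+* R') (hι : Function.Injective ι) (ψ₁ ψ₂ : Spec (CommRingCat.of R) ⟶ X)
    (h : Spec.map (CommRingCat.ofHom ι) ≫ ψ₁ = Spec.map (CommRingCat.ofHom ι) ≫ ψ₂)
    (hc : ψ₁ (closedPoint R) = ψ₂ (closedPoint R)) : ψ₁ = ψ₂ := by
  obtain ⟨U, hU, hxU⟩ := exists_affine (ψ₁ (closedPoint R))
  obtain ⟨a₁, ha₁⟩ := exists_ringHom ψ₁ U hU (range_subset (S := CommRingCat.of R) ψ₁ U hxU)
  obtain ⟨a₂, ha₂⟩ := exists_ringHom ψ₂ U hU (range_subset (S := CommRingCat.of R) ψ₂ U (hc ▸ hxU))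
  have : a₁ ≫ CommRingCat.ofHom ι = a₂ ≫ CommRingCat.ofHom ι := by
    apply Spec.map_injective
    rw [← cancel_mono hU.fromSpec, Spec.map_comp, Spec.map_comp, Category.assoc, Category.assoc,
      ha₁, ha₂, h]
  have : a₁ = a₂ := by
    ext a
    apply hι
    exact congr($(this).hom a)
  rw [← ha₁, ← ha₂, this]

theorem main {X Y : Scheme.{u}} (f : Y ⟶ X)
    (K : Type u) [Field K] (R R' : ValuationSubring K) (hRR' : R ≤ R')
    (ι : ↥R →+* ↥R') (hι : ∀ x : ↥R, ((ι x : ↥R') : K) = (x : K))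
    (i : Spec (CommRingCat.of K) ⟶ Y) (φ : Spec (CommRingCat.of ↥R) ⟶ X)
    (w : Spec.map (CommRingCat.ofHom R.subtype) ≫ φ = i ≫ f)
    (g : Spec (CommRingCat.of ↥R') ⟶ Y) (hg₁ : Spec.map (CommRingCat.ofHom R'.subtype) ≫ g = i)
    (hg₂ : g ≫ f = Spec.map (CommRingCat.ofHom ι) ≫ φ)
    (Rt : ValuationSubring (IsLocalRing.ResidueField ↥R')) (σ : ↥R →+* ↥Rt) (hσs : Function.Surjective σ)
    (hσ : ∀ x : ↥R, ((σ x : ↥Rt) : IsLocalRing.ResidueField ↥R') = IsLocalRing.residue ↥R' (ι x))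
    (ht : Spec (CommRingCat.of ↥Rt) ⟶ Y)
    (hht₁ : Spec.map (CommRingCat.ofHom Rt.subtype) ≫ ht =
      Spec.map (CommRingCat.ofHom (IsLocalRing.residue ↥R')) ≫ g)
    (hht₂ : ht ≫ f = Spec.map (CommRingCat.ofHom σ) ≫ φ) :
    ∃! h : Spec (CommRingCat.of ↥R) ⟶ Y, Spec.map (CommRingCat.ofHom R.subtype) ≫ h = i ∧ h ≫ f = φ ∧
      Spec.map (CommRingCat.ofHom ι) ≫ h = g ∧ Spec.map (CommRingCat.ofHom σ) ≫ h = ht := by
  have hιinj : Function.Injective ι := by
    intro a b hab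
    apply Subtype.ext
    rw [← hι, ← hι, hab]
  have hσloc : IsLocalHom σ := IsLocalHom.of_surjective σ hσs
  have hcp : closedPoint ↥R = Spec.map (CommRingCat.ofHom σ) (closedPoint ↥Rt) :=
    (IsLocalRing.comap_closedPoint σ).symm
  -- the maximal ideal of R' lies in R
  have hmax : ∀ z : ↥R', z ∈ maximalIdeal ↥R' → (z : K) ∈ R := by
    intro z hz
    by_cases hz0 : (z : K) = 0
    · rw [hz0]; exact zero_mem _
    rcases R.mem_or_inv_mem (z : K) with h | h
    · exact h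
    · exfalso
      have : IsUnit z := by
        refine ⟨⟨z, ⟨_, hRR' h⟩, ?_, ?_⟩, rfl⟩
        · apply Subtype.ext; simp [mul_inv_cancel₀ hz0]
        · apply Subtype.ext; simp [inv_mul_cancel₀ hz0]
      exact hz this
  -- affine open around the image of the closed point of `Rt`
  obtain ⟨V, hV, hyV⟩ := exists_affine (ht (closedPoint ↥Rt))
  have hhtr := range_subset (S := CommRingCat.of ↥Rt) ht V hyV
  obtain ⟨γ, hγ⟩ := exists_ringHom ht V hV hhtr
  have hgcl : g (closedPoint ↥R') ∈ V := by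
    have h1 : closedPoint ↥R' = Spec.map (CommRingCat.ofHom (IsLocalRing.residue ↥R'))
        (⊥ : PrimeSpectrum (IsLocalRing.ResidueField ↥R')) :=
      (IsLocalRing.PrimeSpectrum.comap_residue _ _).symm
    rw [h1]
    show (Spec.map (CommRingCat.ofHom (IsLocalRing.residue ↥R')) ≫ g) _ ∈ V
    rw [← hht₁]
    have : ht (Spec.map (CommRingCat.ofHom Rt.subtype)
        (⊥ : PrimeSpectrum (IsLocalRing.ResidueField ↥R'))) ∈ V := by
      simpa using hhtr ⟨Spec.map (CommRingCat.ofHom Rt.subtype)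
        (⊥ : PrimeSpectrum (IsLocalRing.ResidueField ↥R')), rfl⟩
    exact this
  obtain ⟨β, hβ⟩ := exists_ringHom g V hV (range_subset (S := CommRingCat.of ↥R') g V hgcl)
  have hβγ : β ≫ CommRingCat.ofHom (IsLocalRing.residue ↥R') =
      γ ≫ CommRingCat.ofHom Rt.subtype := by
    apply Spec.map_injective
    rw [← cancel_mono hV.fromSpec, Spec.map_comp, Spec.map_comp, Category.assoc, Category.assoc,
      hβ, hγ, hht₁]
  have hβγ' : ∀ b, IsLocalRing.residue ↥R' (β.hom b) = ((γ.hom b : ↥Rt) : IsLocalRing.ResidueField ↥R') :=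
    fun b => congr($(hβγ).hom b)
  have hmem : ∀ b, ((β.hom b : ↥R') : K) ∈ R := by
    intro b
    obtain ⟨r, hr⟩ := hσs (γ.hom b)
    have h1 : β.hom b - ι r ∈ maximalIdeal ↥R' := by
      rw [← IsLocalRing.residue_eq_zero_iff, map_sub, hβγ', ← hσ, hr, sub_self]
    have h2 := hmax _ h1
    have h3 : ((β.hom b : ↥R') : K) = ((β.hom b - ι r : ↥R') : K) + (r : K) := by
      rw [← hι]; push_cast; ring
    rw [h3]
    exact add_mem h2 r.2
  let β₀ : Γ(Y, V) ⟶ CommRingCat.of ↥R :=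
    CommRingCat.ofHom ((R'.subtype.comp β.hom).codRestrict R.toSubring hmem)
  have hβ₀ : ∀ b, ((β₀.hom b : ↥R) : K) = ((β.hom b : ↥R') : K) := fun b => rfl
  have h3 : β₀ ≫ CommRingCat.ofHom ι = β := by
    ext b
    show ((ι (β₀.hom b) : ↥R') : K) = _
    rw [hι, hβ₀]
  have h1 : β₀ ≫ CommRingCat.ofHom R.subtype = β ≫ CommRingCat.ofHom R'.subtype := by
    ext b; rfl
  have h4 : β₀ ≫ CommRingCat.ofHom σ = γ := by
    ext b
    show ((σ (β₀.hom b) : ↥Rt) : IsLocalRing.ResidueField ↥R') = _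
    rw [hσ, ← hβγ']
    congr 1
    exact congr($(h3).hom b)
  have e3 : Spec.map (CommRingCat.ofHom ι) ≫ Spec.map β₀ ≫ hV.fromSpec = g := by
    rw [← Spec.map_comp_assoc, h3, hβ]
  have e4 : Spec.map (CommRingCat.ofHom σ) ≫ Spec.map β₀ ≫ hV.fromSpec = ht := by
    rw [← Spec.map_comp_assoc, h4, hγ]
  refine ⟨Spec.map β₀ ≫ hV.fromSpec, ⟨?_, ?_, e3, e4⟩, ?_⟩
  · rw [← Spec.map_comp_assoc, h1, Spec.map_comp_assoc, hβ, hg₁]
  · apply eq_of_injective ι hιinj
    · rw [← Category.assoc, e3, hg₂]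
    · rw [hcp]
      have e : Spec.map (CommRingCat.ofHom σ) ≫ (Spec.map β₀ ≫ hV.fromSpec) ≫ f =
          Spec.map (CommRingCat.ofHom σ) ≫ φ := by rw [← Category.assoc, e4, hht₂]
      show (Spec.map (CommRingCat.ofHom σ) ≫ (Spec.map β₀ ≫ hV.fromSpec) ≫ f) _ =
        (Spec.map (CommRingCat.ofHom σ) ≫ φ) _
      rw [e]
  · rintro h' ⟨-, -, h'3, h'4⟩
    apply eq_of_injective ι hιinj
    · rw [h'3, e3]
    · rw [hcp]
      show (Spec.map (CommRingCat.ofHom σ) ≫ h') _ =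
        (Spec.map (CommRingCat.ofHom σ) ≫ Spec.map β₀ ≫ hV.fromSpec) _
      rw [h'4, e4]

end Helpers


/-- Let f : Y → X be a morphism of schemes (not assumed separated), K a field with valuation rings R ⊆
R' (inclusion ι), i : Spec K → Y and φ : Spec R → X a commutative square over f, and g : Spec R' → Y
a lift of Spec R' → Spec R → X restricting to i on Spec K. Let K̃ be the residue field of R', R̃ ⊆
K̃ the image of R (a valuation ring of K̃) with the surjection σ : R → R̃. Then every h̃ : Spec R̃ →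
Y whose restriction to Spec K̃ is Spec K̃ → Spec R' → Y (via g) and which lies over Spec R̃ → Spec R
→ X is induced by a unique h : Spec R → Y compatible with the whole diagram: h restricts to i on
Spec K, lies over φ, restricts to g along Spec R' → Spec R and to h̃ along Spec R̃ → Spec R. (ι, R̃,
σ are given as data pinned by their defining equations.) -/
theorem result {X Y : Scheme.{u}} (f : Y ⟶ X)
    (K : Type u) [Field K] (R R' : ValuationSubring K) (hRR' : R ≤ R')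
    (ι : ↥R →+* ↥R') (hι : ∀ x : ↥R, ((ι x : ↥R') : K) = (x : K))
    (i : Spec (CommRingCat.of K) ⟶ Y) (φ : Spec (CommRingCat.of ↥R) ⟶ X)
    (w : Spec.map (CommRingCat.ofHom R.subtype) ≫ φ = i ≫ f)
    (g : Spec (CommRingCat.of ↥R') ⟶ Y) (hg₁ : Spec.map (CommRingCat.ofHom R'.subtype) ≫ g = i)
    (hg₂ : g ≫ f = Spec.map (CommRingCat.ofHom ι) ≫ φ)
    (Rt : ValuationSubring (IsLocalRing.ResidueField ↥R')) (σ : ↥R →+* ↥Rt) (hσs : Function.Surjective σ)
    (hσ : ∀ x : ↥R, ((σ x : ↥Rt) : IsLocalRing.ResidueField ↥R') = IsLocalRing.residue ↥R' (ι x))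
    (ht : Spec (CommRingCat.of ↥Rt) ⟶ Y)
    (hht₁ : Spec.map (CommRingCat.ofHom Rt.subtype) ≫ ht =
      Spec.map (CommRingCat.ofHom (IsLocalRing.residue ↥R')) ≫ g)
    (hht₂ : ht ≫ f = Spec.map (CommRingCat.ofHom σ) ≫ φ) :
    ∃! h : Spec (CommRingCat.of ↥R) ⟶ Y, Spec.map (CommRingCat.ofHom R.subtype) ≫ h = i ∧ h ≫ f = φ ∧
      Spec.map (CommRingCat.ofHom ι) ≫ h = g ∧ Spec.map (CommRingCat.ofHom σ) ≫ h = ht := by
  exact main f K R R' hRR' ι hι i φ w g hg₁ hg₂ Rt σ hσs hσ ht hht₁ hht₂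

end Groth.Agent.S17898
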