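import Groth.Statements.S17900
import Mathlib

set_option autoImplicit false
universe u
open TensorProduct
open Pinch

namespace Groth.Agent.S17900


theorem flat_prod {R : Type u} [CommRing R] {M N : Type u} [AddCommGroup M] [AddCommGroup N]
    [Module R M] [Module R N] [Module.Flat R M] [Module.Flat R N] : Module.Flat R (M × N) := by
  rw [Module.Flat.iff_rTensor_preserves_injective_linearMap]
  intro A A' _ _ _ _ i hi
  have h : (TensorProduct.prodRight R R A' M N).toLinearMap ∘ₗ (i.rTensor (M × N)) =
      ((i.rTensor M).prodMap (i.rTensor N)) ∘ₗ (TensorProduct.prodRight R R A M N).toLinearMap := by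
    ext a m <;> simp
  have hinj : Function.Injective (((i.rTensor M).prodMap (i.rTensor N)) ∘ₗ
      (TensorProduct.prodRight R R A M N).toLinearMap) := by
    rw [LinearMap.coe_comp]
    apply Function.Injective.comp _ (LinearEquiv.injective _)
    exact Function.Injective.prodMap (Module.Flat.rTensor_preserves_injective_linearMap i hi)
      (Module.Flat.rTensor_preserves_injective_linearMap i hi)
  rw [← h] at hinj
  exact Function.Injective.of_comp hinj

/-- kernel of a surjection of flat modules onto a flat module is flat -/
theorem flat_of_exact {R : Type u} [CommRing R] {M N P : Type u} [AddCommGroup M] [AddCommGroup N]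
    [AddCommGroup P] [Module R M] [Module R N] [Module R P] [Module.Flat R N] [Module.Flat R P]
    (g : M →ₗ[R] N) (f : N →ₗ[R] P) (hg : Function.Injective g) (hf : Function.Surjective f)
    (hex : Function.Exact g f) : Module.Flat R M := by
  rw [Module.Flat.iff_rTensor_preserves_injective_linearMap]
  intro A A' _ _ _ _ i hi
  have h1 : Function.Injective (g.lTensor A) :=
    LinearMap.lTensor_injective_of_exact_of_flat f hf g hg hex A
  have h2 : Function.Injective (i.rTensor N) :=
    Module.Flat.rTensor_preserves_injective_linearMap i hi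
  have hcomm : (i.rTensor N) ∘ₗ (g.lTensor A) = (g.lTensor A') ∘ₗ (i.rTensor M) := by
    rw [LinearMap.rTensor_comp_lTensor, LinearMap.lTensor_comp_rTensor]
  have h3 : Function.Injective ((g.lTensor A') ∘ₗ (i.rTensor M)) := by
    rw [← hcomm]; exact h2.comp h1
  exact Function.Injective.of_comp h3


/-- Let R be a commutative ring and let B' → B → A, B' → A' → A be a commutative square of R-algebras
which is a fibre square (B' = B ×_A A') with A' → A surjective. If B, A' and A are flat over R then
B' is flat over R. -/
theorem result (R B' B A' A : Type u) [CommRing R] [CommRing B'] [CommRing B] [CommRing A'] [CommRing A]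
    [Algebra B' B] [Algebra B' A'] [Algebra B A] [Algebra A' A] [Algebra B' A]
    [IsScalarTower B' B A] [IsScalarTower B' A' A]
    [Algebra R B'] [Algebra R B] [Algebra R A'] [Algebra R A]
    [IsScalarTower R B' B] [IsScalarTower R B' A'] [IsScalarTower R B' A] [IsScalarTower R B A] [IsScalarTower R A' A]
    (hsq : EtMil.IsFibreSquare B' B A' A)
    [Module.Flat R B] [Module.Flat R A'] [Module.Flat R A] :
    Module.Flat R B' := by
  classical
  obtain ⟨hsurj, hfib⟩ := hsq
  let g : B' →ₗ[R] B × A' :=
    (IsScalarTower.toAlgHom R B' B).toLinearMap.prod (IsScalarTower.toAlgHom R B' A').toLinearMap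
  let f : B × A' →ₗ[R] A :=
    (IsScalarTower.toAlgHom R B A).toLinearMap.coprod (-(IsScalarTower.toAlgHom R A' A).toLinearMap)
  have hg : Function.Injective g := by
    intro x y hxy
    have h1 : algebraMap B' B x = algebraMap B' B y := congrArg Prod.fst hxy
    have h2 : algebraMap B' A' x = algebraMap B' A' y := congrArg Prod.snd hxy
    obtain ⟨z, -, hz⟩ := hfib (algebraMap B' B y) (algebraMap B' A' y)
      (by rw [← IsScalarTower.algebraMap_apply, ← IsScalarTower.algebraMap_apply])
    rw [hz x ⟨h1, h2⟩, hz y ⟨rfl, rfl⟩]
  have hf : Function.Surjective f := by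
    intro a
    obtain ⟨a', rfl⟩ := hsurj a
    exact ⟨(0, -a'), by simp [f]⟩
  have hex : Function.Exact g f := by
    intro x
    constructor
    · intro hx
      have : algebraMap B A x.1 = algebraMap A' A x.2 := by
        have : algebraMap B A x.1 - algebraMap A' A x.2 = 0 := by simpa [f, sub_eq_add_neg] using hx
        exact sub_eq_zero.mp this
      obtain ⟨z, ⟨hz1, hz2⟩, -⟩ := hfib x.1 x.2 this
      exact ⟨z, Prod.ext hz1 hz2⟩
    · rintro ⟨z, rfl⟩
      simp [f, g, ← IsScalarTower.algebraMap_apply]
  have : Module.Flat R (B × A') := flat_prod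
  exact flat_of_exact g f hg hf hex

end Groth.Agent.S17900
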