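import Groth.Statements.S17901
import Mathlib

set_option autoImplicit false
universe u
open TensorProduct
open Pinch

namespace Groth.Agent.S17901


theorem map_eq_lTensor {R R' X Y : Type u} [CommRing R] [CommRing R'] [Algebra R R'] [CommRing X]
    [CommRing Y] [Algebra R X] [Algebra R Y] (φ : X →ₐ[R] Y) (t : TensorProduct R R' X) :
    Algebra.TensorProduct.map (AlgHom.id R R') φ t = LinearMap.lTensor R' φ.toLinearMap t := by
  induction t using TensorProduct.induction_on with
  | zero => simp
  | tmul a b => simp
  | add x y hx hy => rw [map_add, map_add, hx, hy]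


/-- Let R be a commutative ring and let B' → B → A, B' → A' → A be a fibre square of R-algebras (B' = B
×_A A') with A' → A surjective, where B, A' and A are flat over R. Then for every commutative
R-algebra R' the square obtained by applying R' ⊗_R − is again a fibre square: R' ⊗_R A' → R' ⊗_R A
is surjective and every pair of elements of R' ⊗_R B and R' ⊗_R A' with the same image in R' ⊗_R A
is the image of a unique element of R' ⊗_R B'. (The published lemma concludes that the base-changed
square of spectra is co-cartesian in ringed spaces; this row states the ring form, surjective edge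
and fibre product, which its proof establishes before translating it to ringed spaces.) -/
theorem result (R B' B A' A : Type u) [CommRing R] [CommRing B'] [CommRing B] [CommRing A'] [CommRing A]
    [Algebra B' B] [Algebra B' A'] [Algebra B A] [Algebra A' A] [Algebra B' A]
    [IsScalarTower B' B A] [IsScalarTower B' A' A]
    [Algebra R B'] [Algebra R B] [Algebra R A'] [Algebra R A]
    [IsScalarTower R B' B] [IsScalarTower R B' A'] [IsScalarTower R B' A] [IsScalarTower R B A] [IsScalarTower R A' A]
    (hsq : EtMil.IsFibreSquare B' B A' A)
    [Module.Flat R B] [Module.Flat R A'] [Module.Flat R A]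
    (R' : Type u) [CommRing R'] [Algebra R R'] :
    Function.Surjective (Algebra.TensorProduct.map (AlgHom.id R R') (IsScalarTower.toAlgHom R A' A)) ∧
    ∀ (x : R' ⊗[R] B) (y : R' ⊗[R] A'),
      Algebra.TensorProduct.map (AlgHom.id R R') (IsScalarTower.toAlgHom R B A) x =
        Algebra.TensorProduct.map (AlgHom.id R R') (IsScalarTower.toAlgHom R A' A) y →
      ∃! z : R' ⊗[R] B',
        Algebra.TensorProduct.map (AlgHom.id R R') (IsScalarTower.toAlgHom R B' B) z = x ∧
        Algebra.TensorProduct.map (AlgHom.id R R') (IsScalarTower.toAlgHom R B' A') z = y := by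
  classical
  obtain ⟨hsurj, hfib⟩ := hsq
  let g : B' →ₗ[R] B × A' :=
    (IsScalarTower.toAlgHom R B' B).toLinearMap.prod (IsScalarTower.toAlgHom R B' A').toLinearMap
  let f : B × A' →ₗ[R] A :=
    (IsScalarTower.toAlgHom R B A).toLinearMap.coprod (-(IsScalarTower.toAlgHom R A' A).toLinearMap)
  have hg : Function.Injective g := by
    intro x y hxy
    have h1 : algebraMap B' B x = algebraMap B' B y := congrArg Prod.fst hxy
    have h2 : algebraMap B' A' x = algebraMap B' A' y := congrArg Prod.snd hxy
    obtain ⟨z, -, hz⟩ := hfib (algebraMap B' B y) (algebraMap B' A' y)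
      (by rw [← IsScalarTower.algebraMap_apply, ← IsScalarTower.algebraMap_apply])
    rw [hz x ⟨h1, h2⟩, hz y ⟨rfl, rfl⟩]
  have hf : Function.Surjective f := by
    intro a
    obtain ⟨a', rfl⟩ := hsurj a
    exact ⟨(0, -a'), by simp [f]⟩
  have hex : Function.Exact g f := by
    intro x
    constructor
    · intro hx
      have : algebraMap B A x.1 = algebraMap A' A x.2 := by
        have : algebraMap B A x.1 - algebraMap A' A x.2 = 0 := by simpa [f, sub_eq_add_neg] using hx
        exact sub_eq_zero.mp this
      obtain ⟨z, ⟨hz1, hz2⟩, -⟩ := hfib x.1 x.2 this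
      exact ⟨z, Prod.ext hz1 hz2⟩
    · rintro ⟨z, rfl⟩
      simp [f, g, ← IsScalarTower.algebraMap_apply]
  have hginj : Function.Injective (g.lTensor R') :=
    LinearMap.lTensor_injective_of_exact_of_flat f hf g hg hex R'
  have hexT : Function.Exact (g.lTensor R') (f.lTensor R') := lTensor_exact R' hex hf
  constructor
  · intro t
    have hs : Function.Surjective (LinearMap.lTensor R' (IsScalarTower.toAlgHom R A' A).toLinearMap) :=
      LinearMap.lTensor_surjective R' hsurj
    obtain ⟨s, hs⟩ := hs t
    exact ⟨s, by rw [map_eq_lTensor, hs]⟩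
  · intro x y hxy
    rw [map_eq_lTensor, map_eq_lTensor] at hxy
    -- the element w
    set w : TensorProduct R R' (B × A') := (TensorProduct.prodRight R R R' B A').symm (x, y) with hw
    have hfst : LinearMap.lTensor R' (LinearMap.fst R B A') w = x := by
      have : LinearMap.lTensor R' (LinearMap.fst R B A') =
          (LinearMap.fst R _ _) ∘ₗ (TensorProduct.prodRight R R R' B A').toLinearMap := by
        ext a b <;> simp
      rw [this, hw]; simp
    have hsnd : LinearMap.lTensor R' (LinearMap.snd R B A') w = y := by
      have : LinearMap.lTensor R' (LinearMap.snd R B A') =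
          (LinearMap.snd R _ _) ∘ₗ (TensorProduct.prodRight R R R' B A').toLinearMap := by
        ext a b <;> simp
      rw [this, hw]; simp
    have hfw : f.lTensor R' w = 0 := by
      have hfdecomp : f = (IsScalarTower.toAlgHom R B A).toLinearMap ∘ₗ (LinearMap.fst R B A') -
          (IsScalarTower.toAlgHom R A' A).toLinearMap ∘ₗ (LinearMap.snd R B A') := by
        ext p <;> simp [f]
      rw [hfdecomp, LinearMap.lTensor_sub, LinearMap.sub_apply, LinearMap.lTensor_comp,
        LinearMap.lTensor_comp, LinearMap.comp_apply, LinearMap.comp_apply, hfst, hsnd, hxy, sub_self]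
    obtain ⟨z, hz⟩ := (hexT w).mp hfw
    have hz1 : LinearMap.lTensor R' (IsScalarTower.toAlgHom R B' B).toLinearMap z = x := by
      have : (IsScalarTower.toAlgHom R B' B).toLinearMap = (LinearMap.fst R B A') ∘ₗ g := by
        ext b; simp [g]
      rw [this, LinearMap.lTensor_comp, LinearMap.comp_apply, hz, hfst]
    have hz2 : LinearMap.lTensor R' (IsScalarTower.toAlgHom R B' A').toLinearMap z = y := by
      have : (IsScalarTower.toAlgHom R B' A').toLinearMap = (LinearMap.snd R B A') ∘ₗ g := by
        ext b; simp [g]
      rw [this, LinearMap.lTensor_comp, LinearMap.comp_apply, hz, hsnd]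
    refine ⟨z, ⟨by rw [map_eq_lTensor, hz1], by rw [map_eq_lTensor, hz2]⟩, ?_⟩
    rintro z' ⟨h1, h2⟩
    rw [map_eq_lTensor] at h1 h2
    apply hginj
    rw [hz]
    -- g.lTensor z' = w : compare via prodRight
    apply (TensorProduct.prodRight R R R' B A').injective
    have e1 : ((TensorProduct.prodRight R R R' B A') (g.lTensor R' z')).1 = x := by
      have : (LinearMap.fst R _ _) ∘ₗ (TensorProduct.prodRight R R R' B A').toLinearMap ∘ₗ (g.lTensor R') =
          LinearMap.lTensor R' (IsScalarTower.toAlgHom R B' B).toLinearMap := by
        ext a b <;> simp [g]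
      have := LinearMap.congr_fun this z'
      simpa [h1] using this
    have e2 : ((TensorProduct.prodRight R R R' B A') (g.lTensor R' z')).2 = y := by
      have : (LinearMap.snd R _ _) ∘ₗ (TensorProduct.prodRight R R R' B A').toLinearMap ∘ₗ (g.lTensor R') =
          LinearMap.lTensor R' (IsScalarTower.toAlgHom R B' A').toLinearMap := by
        ext a b <;> simp [g]
      have := LinearMap.congr_fun this z'
      simpa [h2] using this
    rw [hw, LinearEquiv.apply_symm_apply]
    exact Prod.ext e1 e2

end Groth.Agent.S17901
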