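import Groth.Statements.S17902
import Mathlib

set_option autoImplicit false
universe u
open CAlg

namespace Groth.Agent.S17902

namespace Groth.Agent.S17902.aux
open IsLocalRing

theorem mk_mem_of_mem_smul {A : Type u} [CommRing A] (M : Type u) [AddCommGroup M] [Module A M]
    (p : Ideal A) [p.IsPrime] {x : M} (hx : x ∈ p • (⊤ : Submodule A M)) :
    LocalizedModule.mkLinearMap p.primeCompl M x ∈
      maximalIdeal (Localization.AtPrime p) •
        (⊤ : Submodule (Localization.AtPrime p) (LocalizedModule p.primeCompl M)) := by
  refine Submodule.smul_induction_on hx ?_ ?_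
  · intro c hc y _
    rw [map_smul, ← algebraMap_smul (Localization.AtPrime p) c]
    refine Submodule.smul_mem_smul ?_ Submodule.mem_top
    exact (IsLocalization.AtPrime.to_map_mem_maximal_iff (Localization.AtPrime p) p c).mpr hc
  · intro x y hx hy
    rw [map_add]; exact Submodule.add_mem _ hx hy

theorem step_nakayama {A : Type u} [CommRing A] (M : Type u) [AddCommGroup M] [Module A M]
    [Module.Finite A M] (p : Ideal A) [p.IsPrime] {n : ℕ} (s m : Fin n → M) (a : A) (ha : a ∉ p)
    (hm : Submodule.span (Localization.AtPrime p)
      (Set.range fun j => LocalizedModule.mkLinearMap p.primeCompl M (m j)) = ⊤)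
    (hs : ∀ j, s j - a • m j ∈ p • (⊤ : Submodule A M)) :
    Submodule.span (Localization.AtPrime p)
      (Set.range fun j => LocalizedModule.mkLinearMap p.primeCompl M (s j)) = ⊤ := by
  set N := Submodule.span (Localization.AtPrime p)
      (Set.range fun j => LocalizedModule.mkLinearMap p.primeCompl M (s j)) with hN
  have hu : IsUnit (algebraMap A (Localization.AtPrime p) a) :=
    IsLocalization.map_units (Localization.AtPrime p) (⟨a, ha⟩ : p.primeCompl)
  have hfg : (⊤ : Submodule (Localization.AtPrime p) (LocalizedModule p.primeCompl M)).FG :=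
    Module.Finite.fg_top
  rw [eq_top_iff]
  refine Submodule.le_of_le_smul_of_le_jacobson_bot hfg
    (I := maximalIdeal (Localization.AtPrime p)) ?_ ?_
  · rw [IsLocalRing.jacobson_eq_maximalIdeal _ bot_ne_top]
  · have key : ∀ j, LocalizedModule.mkLinearMap p.primeCompl M (m j) ∈
        N ⊔ maximalIdeal (Localization.AtPrime p) •
          (⊤ : Submodule (Localization.AtPrime p) (LocalizedModule p.primeCompl M)) := by
      intro j
      have h1 := mk_mem_of_mem_smul M p (hs j)
      rw [map_sub, map_smul] at h1
      have h2 : LocalizedModule.mkLinearMap p.primeCompl M (s j) ∈ N :=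
        Submodule.subset_span ⟨j, rfl⟩
      have h3 : a • LocalizedModule.mkLinearMap p.primeCompl M (m j) ∈
          N ⊔ maximalIdeal (Localization.AtPrime p) • ⊤ := by
        have : a • LocalizedModule.mkLinearMap p.primeCompl M (m j) =
            LocalizedModule.mkLinearMap p.primeCompl M (s j) -
            (LocalizedModule.mkLinearMap p.primeCompl M (s j) -
              a • LocalizedModule.mkLinearMap p.primeCompl M (m j)) := by abel
        rw [this]
        exact Submodule.sub_mem _ (Submodule.mem_sup_left h2) (Submodule.mem_sup_right h1)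
      have h4 : LocalizedModule.mkLinearMap p.primeCompl M (m j) =
          ((hu.unit⁻¹ : (Localization.AtPrime p)ˣ) : Localization.AtPrime p) •
            (a • LocalizedModule.mkLinearMap p.primeCompl M (m j)) := by
        rw [← algebraMap_smul (Localization.AtPrime p) a, smul_smul]
        have : ((hu.unit⁻¹ : (Localization.AtPrime p)ˣ) : Localization.AtPrime p) *
            algebraMap A (Localization.AtPrime p) a = 1 := hu.val_inv_mul
        rw [this, one_smul]
      rw [h4]
      exact Submodule.smul_mem _ _ h3
    calc (⊤ : Submodule (Localization.AtPrime p) (LocalizedModule p.primeCompl M))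
        = Submodule.span (Localization.AtPrime p)
          (Set.range fun j => LocalizedModule.mkLinearMap p.primeCompl M (m j)) := hm.symm
      _ ≤ _ := by
        rw [Submodule.span_le]
        rintro _ ⟨j, rfl⟩
        exact key j

theorem exists_local_gens {A : Type u} [CommRing A] (M : Type u) [AddCommGroup M] [Module A M]
    [Module.Finite A M] [Module.Projective A M] (p : PrimeSpectrum A) {n : ℕ}
    (hn : Module.rankAtStalk M p = n) :
    ∃ m : Fin n → M, Submodule.span (Localization.AtPrime p.asIdeal)
      (Set.range fun j => LocalizedModule.mkLinearMap p.asIdeal.primeCompl M (m j)) = ⊤ := by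
  haveI : Module.Free (Localization.AtPrime p.asIdeal) (LocalizedModule p.asIdeal.primeCompl M) :=
    Module.free_of_flat_of_isLocalRing
  let b : Module.Basis (Fin n) (Localization.AtPrime p.asIdeal)
      (LocalizedModule p.asIdeal.primeCompl M) := Module.finBasisOfFinrankEq _ _ hn
  have hsurj : ∀ j, ∃ (m : M) (t : p.asIdeal.primeCompl), b j = LocalizedModule.mk m t := by
    intro j
    induction b j using LocalizedModule.induction_on with
    | h m t => exact ⟨m, t, rfl⟩
  choose m t hmt using hsurj
  refine ⟨m, ?_⟩
  rw [eq_top_iff, ← b.span_eq, Submodule.span_le]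
  rintro _ ⟨j, rfl⟩
  have hu : IsUnit (algebraMap A (Localization.AtPrime p.asIdeal) (t j)) :=
    IsLocalization.map_units (Localization.AtPrime p.asIdeal) (t j)
  have h1 : LocalizedModule.mkLinearMap p.asIdeal.primeCompl M (m j) =
      algebraMap A (Localization.AtPrime p.asIdeal) (t j) • b j := by
    rw [hmt j, algebraMap_smul, LocalizedModule.mkLinearMap_apply, LocalizedModule.smul'_mk]
    exact (LocalizedModule.mk_cancel (t j) (m j)).symm
  have h2 : b j = ((hu.unit⁻¹ : (Localization.AtPrime p.asIdeal)ˣ) :
      Localization.AtPrime p.asIdeal) • LocalizedModule.mkLinearMap p.asIdeal.primeCompl M (m j) := by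
    rw [h1, smul_smul]
    have : ((hu.unit⁻¹ : (Localization.AtPrime p.asIdeal)ˣ) : Localization.AtPrime p.asIdeal) *
        algebraMap A (Localization.AtPrime p.asIdeal) (t j) = 1 := hu.val_inv_mul
    rw [this, one_smul]
  rw [SetLike.mem_coe, h2]
  exact Submodule.smul_mem _ _ (Submodule.subset_span ⟨j, rfl⟩)

end Groth.Agent.S17902.aux

open Groth.Agent.S17902.aux in

/-- Let A be a commutative ring, M a finitely generated projective A-module, n a natural number and P a
finite set of prime ideals of A such that for every p in P there is g outside p with M_g free of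
rank n over A_g. Then there exist n elements of M and an open subset U of Spec A containing P such
that for every prime q in U the images of these elements in M_q form a basis of M_q over A_q. (The
published conclusion is that the associated sheaf is free of rank n on some open neighbourhood of P;
the form given here, with n global elements of M, is what its proof produces.) -/
theorem result (A : Type u) [CommRing A] (M : Type u) [AddCommGroup M] [Module A M]
    [Module.Finite A M] [Module.Projective A M] (n : ℕ) (P : Finset (PrimeSpectrum A))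
    (hP : ∀ p ∈ P, ∃ g : A, g ∉ p.asIdeal ∧
      Nonempty (Module.Basis (Fin n) (Localization.Away g) (LocalizedModule (Submonoid.powers g) M))) :
    ∃ (s : Fin n → M) (U : Set (PrimeSpectrum A)), IsOpen U ∧ (∀ p ∈ P, p ∈ U) ∧
      ∀ q ∈ U,
        LinearIndependent (Localization.AtPrime q.asIdeal)
            (fun j => LocalizedModule.mkLinearMap q.asIdeal.primeCompl M (s j)) ∧
          Submodule.span (Localization.AtPrime q.asIdeal)
            (Set.range fun j => LocalizedModule.mkLinearMap q.asIdeal.primeCompl M (s j)) = ⊤ := by
  classical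
  haveI : Module.FinitePresentation A M := Module.finitePresentation_of_projective A M
  -- (1) ranks
  have hrank : ∀ p ∈ P, Module.rankAtStalk M p = n := by
    intro p hp
    obtain ⟨g, hg, ⟨b⟩⟩ := hP p hp
    have hdisj : Disjoint (Submonoid.powers g : Set A) (p.asIdeal : Set A) := by
      rw [Set.disjoint_left]
      rintro x ⟨k, rfl⟩ hx
      exact hg (p.2.mem_of_pow_mem k hx)
    have hprime : (p.asIdeal.map (algebraMap A (Localization.Away g))).IsPrime :=
      IsLocalization.isPrime_of_isPrime_disjoint (Submonoid.powers g) _ _ p.2 hdisj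
    let p' : PrimeSpectrum (Localization.Away g) := ⟨_, hprime⟩
    have hcomap : p'.comap (algebraMap A (Localization.Away g)) = p :=
      PrimeSpectrum.ext
        (IsLocalization.under_map_of_isPrime_disjoint (Submonoid.powers g) _ p.2 hdisj)
    haveI : Nontrivial (Localization.Away g) := ⟨⟨0, 1, fun h =>
      hprime.ne_top ((Ideal.eq_top_iff_one _).mpr (h ▸ Ideal.zero_mem _))⟩⟩
    haveI : Module.Free (Localization.Away g) (LocalizedModule (Submonoid.powers g) M) :=
      Module.Free.of_basis b
    have h1 := Module.rankAtStalk_isBaseChange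
      (LocalizedModule.isBaseChange (Submonoid.powers g) M) p'
    rw [hcomap] at h1
    rw [← h1, Module.rankAtStalk_eq_finrank_of_free, Module.finrank_eq_card_basis b,
      Fintype.card_fin]
    rfl
  -- (2) rank locus
  have hW : IsOpen {q : PrimeSpectrum A | Module.rankAtStalk M q = n} :=
    (Module.isLocallyConstant_rankAtStalk (R := A) (M := M)).isOpen_fiber n
  -- (3) maximal elements
  set P' : Finset (PrimeSpectrum A) := P.filter (fun q => Maximal (· ∈ P) q) with hP'
  have hP'P : ∀ q ∈ P', q ∈ P := fun q hq => (Finset.mem_filter.mp hq).1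
  have hex_a : ∀ p : PrimeSpectrum A, ∃ a : A, p ∈ P' →
      (a ∉ p.asIdeal ∧ ∀ q ∈ P', q ≠ p → a ∈ q.asIdeal) := by
    intro p
    by_cases hp : p ∈ P'
    · have hnot : ¬ ((P'.erase p).inf fun q => q.asIdeal) ≤ p.asIdeal := by
        intro hle
        obtain ⟨q, hq, hqp⟩ := (Ideal.IsPrime.inf_le' p.2).mp hle
        have hq' := Finset.mem_erase.mp hq
        have hqmax : Maximal (· ∈ P) q := (Finset.mem_filter.mp hq'.2).2
        have hpq : p ≤ q := hqmax.2 (hP'P p hp) hqp
        exact hq'.1 (le_antisymm hqp hpq)
      obtain ⟨a, haI, hap⟩ := SetLike.not_le_iff_exists.mp hnot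
      refine ⟨a, fun _ => ⟨hap, fun q hq hqp => ?_⟩⟩
      exact (Submodule.mem_finsetInf.mp haI) q (Finset.mem_erase.mpr ⟨hqp, hq⟩)
    · exact ⟨0, fun h => absurd h hp⟩
  choose a ha using hex_a
  have hex_m : ∀ p : PrimeSpectrum A, ∃ m : Fin n → M, p ∈ P →
      Submodule.span (Localization.AtPrime p.asIdeal)
        (Set.range fun j => LocalizedModule.mkLinearMap p.asIdeal.primeCompl M (m j)) = ⊤ := by
    intro p
    by_cases hp : p ∈ P
    · obtain ⟨m, hm⟩ := exists_local_gens M p (hrank p hp)
      exact ⟨m, fun _ => hm⟩
    · exact ⟨fun _ => 0, fun h => absurd h hp⟩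
  choose m hm using hex_m
  -- (4) the global elements
  set s : Fin n → M := fun j => ∑ p ∈ P', a p • m p j with hs
  have hgen' : ∀ p ∈ P', Submodule.span (Localization.AtPrime p.asIdeal)
      (Set.range fun j => LocalizedModule.mkLinearMap p.asIdeal.primeCompl M (s j)) = ⊤ := by
    intro p hp
    refine step_nakayama M p.asIdeal s (m p) (a p) (ha p hp).1 (hm p (hP'P p hp)) ?_
    intro j
    have h1 : s j - a p • m p j = ∑ q ∈ P'.erase p, a q • m q j := by
      rw [Finset.sum_erase_eq_sub hp]
    rw [h1]
    refine Submodule.sum_mem _ fun q hq => ?_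
    have hq' := Finset.mem_erase.mp hq
    exact Submodule.smul_mem_smul ((ha q hq'.2).2 p hp (Ne.symm hq'.1)) Submodule.mem_top
  -- (5) the cokernel
  set φ : (Fin n → A) →ₗ[A] M := Fintype.linearCombination A s with hφ
  have hφs : ∀ j, φ (Pi.single j 1) = s j := fun j => by
    rw [hφ, Fintype.linearCombination_apply_single, one_smul]
  have hV : IsOpen (Module.support A (M ⧸ LinearMap.range φ))ᶜ := by
    rw [Module.support_eq_zeroLocus]
    exact (PrimeSpectrum.isClosed_zeroLocus _).isOpen_compl
  have hmapmk : ∀ (q : PrimeSpectrum A) (j : Fin n),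
      LocalizedModule.map q.asIdeal.primeCompl φ
        (LocalizedModule.mkLinearMap q.asIdeal.primeCompl (Fin n → A) (Pi.single j 1)) =
      LocalizedModule.mkLinearMap q.asIdeal.primeCompl M (s j) := by
    intro q j
    rw [LocalizedModule.mkLinearMap_apply, LocalizedModule.map_mk, hφs,
      LocalizedModule.mkLinearMap_apply]
  -- surjectivity of the localized map vs span
  have hspan_of_surj : ∀ q : PrimeSpectrum A,
      Function.Surjective (LocalizedModule.map q.asIdeal.primeCompl φ) ↔
      Submodule.span (Localization.AtPrime q.asIdeal)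
        (Set.range fun j => LocalizedModule.mkLinearMap q.asIdeal.primeCompl M (s j)) = ⊤ := by
    intro q
    let b' : Module.Basis (Fin n) (Localization.AtPrime q.asIdeal)
        (LocalizedModule q.asIdeal.primeCompl (Fin n → A)) :=
      (Pi.basisFun A (Fin n)).ofIsLocalizedModule (Localization.AtPrime q.asIdeal)
        q.asIdeal.primeCompl (LocalizedModule.mkLinearMap q.asIdeal.primeCompl (Fin n → A))
    have hb' : ∀ j, LocalizedModule.map q.asIdeal.primeCompl φ (b' j) =
        LocalizedModule.mkLinearMap q.asIdeal.primeCompl M (s j) := by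
      intro j
      rw [Module.Basis.ofIsLocalizedModule_apply, Pi.basisFun_apply, hmapmk]
    have hrange : LinearMap.range (LocalizedModule.map q.asIdeal.primeCompl φ) =
        Submodule.span (Localization.AtPrime q.asIdeal)
          (Set.range fun j => LocalizedModule.mkLinearMap q.asIdeal.primeCompl M (s j)) := by
      rw [LinearMap.range_eq_map, ← b'.span_eq, Submodule.map_span, ← Set.range_comp]
      congr 2
      funext j
      exact hb' j
    rw [← hrange, LinearMap.range_eq_top]
  refine ⟨s, {q | Module.rankAtStalk M q = n} ∩ (Module.support A (M ⧸ LinearMap.range φ))ᶜ,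
    hW.inter hV, ?_, ?_⟩
  · intro p hp
    refine ⟨hrank p hp, ?_⟩
    obtain ⟨p₁, hpp₁, hmax⟩ := P.exists_le_maximal hp
    have hp₁ : p₁ ∈ P' := Finset.mem_filter.mpr ⟨hmax.1, hmax⟩
    have h1 : p₁ ∉ Module.support A (M ⧸ LinearMap.range φ) := by
      rw [Module.notMem_support_iff,
        ← LinearMap.localizedMap_surjective_iff_subsingleton_localized_coker, hspan_of_surj]
      exact hgen' p₁ hp₁
    exact fun h => h1 (Module.mem_support_mono hpp₁ h)
  · rintro q ⟨hq1, hq2⟩
    have hsurj : Function.Surjective (LocalizedModule.map q.asIdeal.primeCompl φ) := by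
      rw [LinearMap.localizedMap_surjective_iff_subsingleton_localized_coker,
        ← Module.notMem_support_iff]
      exact hq2
    refine ⟨?_, (hspan_of_surj q).mp hsurj⟩
    haveI : Module.Free (Localization.AtPrime q.asIdeal)
        (LocalizedModule q.asIdeal.primeCompl M) := Module.free_of_flat_of_isLocalRing
    haveI : Nontrivial A := ⟨⟨0, 1, fun h =>
      q.2.ne_top ((Ideal.eq_top_iff_one _).mpr (h ▸ Ideal.zero_mem _))⟩⟩
    have hfr : Module.finrank (Localization.AtPrime q.asIdeal)
        (LocalizedModule q.asIdeal.primeCompl (Fin n → A)) = n := by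
      have := congrFun (Module.rankAtStalk_eq_finrank_of_free (R := A) (M := Fin n → A)) q
      rw [Module.finrank_fin_fun] at this
      exact this
    haveI : Module.Free (Localization.AtPrime q.asIdeal)
        (LocalizedModule q.asIdeal.primeCompl (Fin n → A)) := Module.free_of_flat_of_isLocalRing
    have hbij : Function.Bijective (LocalizedModule.map q.asIdeal.primeCompl φ) :=
      OrzechProperty.bijective_of_surjective_of_finrank_le _ hsurj (by
        rw [hfr]; exact hq1.ge)
    let b' : Module.Basis (Fin n) (Localization.AtPrime q.asIdeal)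
        (LocalizedModule q.asIdeal.primeCompl (Fin n → A)) :=
      (Pi.basisFun A (Fin n)).ofIsLocalizedModule (Localization.AtPrime q.asIdeal)
        q.asIdeal.primeCompl (LocalizedModule.mkLinearMap q.asIdeal.primeCompl (Fin n → A))
    have hli := b'.linearIndependent.map' _ (LinearMap.ker_eq_bot.mpr hbij.1)
    have heq : (⇑(LocalizedModule.map q.asIdeal.primeCompl φ) ∘ ⇑b') =
        fun j => LocalizedModule.mkLinearMap q.asIdeal.primeCompl M (s j) := by
      funext j
      rw [Function.comp_apply, Module.Basis.ofIsLocalizedModule_apply, Pi.basisFun_apply, hmapmk]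
    rw [heq] at hli
    exact hli

end Groth.Agent.S17902
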