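import Groth.Statements.S17914
import Mathlib

set_option autoImplicit false
universe u
open scoped TensorProduct
open PolLaw

namespace Groth.Agent.S17914

section aux

variable {R R' Q Q' : Type u} [CommRing R] [CommRing R'] [Algebra R R']
    [CommRing Q] [Algebra R Q] [CommRing Q'] [Algebra R Q'] [Algebra Q Q'] [Algebra R' Q']
    [IsScalarTower R Q Q'] [IsScalarTower R R' Q']

theorem bcAlong_tmul {X Y : Type u} [AddCommGroup X] [Module R X] [AddCommGroup Y] [Module R Y]
    [Module Q Y] [IsScalarTower R Q Y] (g : X →ₗ[R] Y) (P : Type u) [CommRing P] [Algebra R P]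
    [Algebra Q P] [IsScalarTower R Q P] (p : P) (x : X) :
    PolLaw.bcAlong g P (p ⊗ₜ[R] x) = p ⊗ₜ[Q] g x := by
  unfold PolLaw.bcAlong
  simp [TensorProduct.AlgebraTensorModule.cancelBaseChange_symm_tmul]

/-- the `P`-algebra isomorphism `P ⊗[R] R' ≃ P ⊗[Q] Q'` for a pushout square -/
noncomputable def eP [Algebra.IsPushout R Q R' Q'] (P : Type u) [CommRing P] [Algebra R P]
    [Algebra Q P] [IsScalarTower R Q P] : P ⊗[R] R' ≃ₐ[P] P ⊗[Q] Q' :=
  (Algebra.TensorProduct.cancelBaseChange R Q P P R').symm.trans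
    (Algebra.TensorProduct.congr AlgEquiv.refl (Algebra.IsPushout.equiv R Q R' Q'))

theorem eP_tmul [Algebra.IsPushout R Q R' Q'] (P : Type u) [CommRing P] [Algebra R P]
    [Algebra Q P] [IsScalarTower R Q P] (p : P) (r : R') :
    eP (R := R) (R' := R') (Q := Q) (Q' := Q') P (p ⊗ₜ[R] r) = p ⊗ₜ[Q] algebraMap R' Q' r := by
  unfold eP
  simp [Algebra.IsPushout.equiv_tmul]

theorem bcAlong_eq_eP [Algebra.IsPushout R Q R' Q'] (P : Type u) [CommRing P] [Algebra R P]
    [Algebra Q P] [IsScalarTower R Q P] (z : P ⊗[R] R') :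
    PolLaw.bcAlong (IsScalarTower.toAlgHom R R' Q').toLinearMap P z =
      eP (R := R) (R' := R') (Q := Q) (Q' := Q') P z := by
  induction z using TensorProduct.induction_on with
  | zero => simp
  | tmul p r => rw [bcAlong_tmul, eP_tmul]; rfl
  | add x y hx hy => rw [map_add, map_add, hx, hy]

/-- the comparison map `P ⊗[Q] Q → S ⊗[R] Q` for `P = Q ⊗[R] S` -/
noncomputable def Phi (S : Type u) [CommRing S] [Algebra R S] :
    (Q ⊗[R] S) ⊗[Q] Q →ₗ[R] S ⊗[R] Q :=
  (TensorProduct.comm R Q S).toLinearMap ∘ₗ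
    ((TensorProduct.AlgebraTensorModule.rid Q Q (Q ⊗[R] S)).toLinearMap.restrictScalars R)

theorem Phi_tmul (S : Type u) [CommRing S] [Algebra R S] (s : S) (q q' : Q) :
    Phi (R := R) (Q := Q) S ((q ⊗ₜ[R] s) ⊗ₜ[Q] q') = s ⊗ₜ[R] (q' * q) := by
  unfold Phi
  simp [TensorProduct.smul_tmul']

end aux

theorem core {R R' Q Q' : Type u} [CommRing R] [CommRing R'] [Algebra R R']
    [CommRing Q] [Algebra R Q] [CommRing Q'] [Algebra R Q'] [Algebra Q Q'] [Algebra R' Q']
    [IsScalarTower R Q Q'] [IsScalarTower R R' Q'] [Algebra.IsPushout R R' Q Q']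
    [Module.Free R R'] [Module.Finite R R'] [Module.Free Q Q'] [Module.Finite Q Q']
    (d : ℕ) (hd : Module.finrank R R' = d) (hd' : Module.finrank Q Q' = d)
    {C : Type u} [CommRing C] [Algebra R C] (γ : PolLaw.MulLaw R R' C d)
    (π : C →ₐ[R] R) (hπ : PolLaw.MulLaw.postcomp π γ = PolLaw.normLaw R R' d hd)
    {C' : Type u} [CommRing C'] [Algebra R C'] [Algebra Q C'] [IsScalarTower R Q C']
    (γ' : PolLaw.MulLaw Q Q' C' d)
    (π' : C' →ₐ[Q] Q) (hπ' : PolLaw.MulLaw.postcomp π' γ' = PolLaw.normLaw Q Q' d hd')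
    (θ : C →ₐ[R] C')
    (hθ : ∀ (P : Type u) [CommRing P] [Algebra R P] [Algebra Q P] [IsScalarTower R Q P] (z : P ⊗[R] R'),
      γ'.law.toFun' P (PolLaw.bcAlong (IsScalarTower.toAlgHom R R' Q').toLinearMap P z) =
        PolLaw.bcAlong θ.toLinearMap P (γ.law.toFun' P z))
    (S : Type u) [CommRing S] [Algebra R S] (z : S ⊗[R] R') :
    ((π'.restrictScalars R).comp θ).toLinearMap.lTensor S (γ.law.toFun' S z) =
      ((Algebra.ofId R Q).comp π).toLinearMap.lTensor S (γ.law.toFun' S z) := by
  haveI : Algebra.IsPushout R Q R' Q' := Algebra.IsPushout.symm inferInstance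
  let P := Q ⊗[R] S
  let ι : S →ₐ[R] P := Algebra.TensorProduct.includeRight
  have h1 : γ.law.toFun' P (ι.toLinearMap.rTensor R' z) = ι.toLinearMap.rTensor C (γ.law.toFun' S z) :=
    (congrFun (γ.law.isCompat' ι) z).symm
  have h2 := hθ P (ι.toLinearMap.rTensor R' z)
  rw [h1] at h2
  -- norm identities
  have hn1 : π.toLinearMap.lTensor S (γ.law.toFun' S z) = Algebra.norm S z ⊗ₜ[R] (1 : R) := by
    have := congrArg (fun F => F.law.toFun' S z) hπ
    simp only [PolLaw.normLaw_apply] at this
    exact this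
  have hw : PolLaw.bcAlong (Q := Q) (IsScalarTower.toAlgHom R R' Q').toLinearMap P
      (ι.toLinearMap.rTensor R' z) = eP (R := R) (R' := R') (Q := Q) (Q' := Q') P
      (ι.toLinearMap.rTensor R' z) := bcAlong_eq_eP P _
  rw [hw] at h2
  have hn2 : π'.toLinearMap.lTensor P (γ'.law.toFun' P
      (eP (R := R) (R' := R') (Q := Q) (Q' := Q') P (ι.toLinearMap.rTensor R' z))) =
      Algebra.norm P (eP (R := R) (R' := R') (Q := Q) (Q' := Q') P
        (ι.toLinearMap.rTensor R' z)) ⊗ₜ[Q] (1 : Q) := by
    have := congrArg (fun F => F.law.toFun' P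
      (eP (R := R) (R' := R') (Q := Q) (Q' := Q') P (ι.toLinearMap.rTensor R' z))) hπ'
    simp only [PolLaw.normLaw_apply] at this
    exact this
  have hn3 : Algebra.norm P (eP (R := R) (R' := R') (Q := Q) (Q' := Q') P
        (ι.toLinearMap.rTensor R' z)) = ι (Algebra.norm S z) := by
    rw [Algebra.norm_eq_of_algEquiv, PolLaw.rTensor_algHom_apply,
      ← PolLaw.detAct_self, ← PolLaw.detAct_self, PolLaw.detAct_map]
  have hA : ∀ y : S ⊗[R] C, Phi (R := R) (Q := Q) S (π'.toLinearMap.lTensor P
      (PolLaw.bcAlong (Q := Q) θ.toLinearMap P (ι.toLinearMap.rTensor C y))) =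
      ((π'.restrictScalars R).comp θ).toLinearMap.lTensor S y := by
    intro y
    induction y using TensorProduct.induction_on with
    | zero => simp
    | tmul s c =>
      rw [LinearMap.rTensor_tmul, bcAlong_tmul, LinearMap.lTensor_tmul, LinearMap.lTensor_tmul]
      show Phi (R := R) (Q := Q) S (((1 : Q) ⊗ₜ[R] s) ⊗ₜ[Q] π' (θ c)) = s ⊗ₜ[R] π' (θ c)
      rw [Phi_tmul, mul_one]
    | add x y hx hy => simp only [map_add, hx, hy]
  rw [← hA, ← h2, hn2, hn3]
  rw [AlgHom.comp_toLinearMap, LinearMap.lTensor_comp, LinearMap.comp_apply, hn1,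
    LinearMap.lTensor_tmul]
  show Phi (R := R) (Q := Q) S (((1 : Q) ⊗ₜ[R] Algebra.norm S z) ⊗ₜ[Q] (1 : Q)) = _
  rw [Phi_tmul, mul_one]
  simp

/-- Affine-free form, stated through universal properties. Let R → R' be a commutative algebra that is
free of rank d as an R-module, Q a commutative R-algebra, and Q' a commutative ring under Q and R'
which is their pushout over R and is free of rank d over Q. Let (C, γ) be the degree-d divided power
algebra of R' over R with its universal multiplicative law (hypothesis: every multiplicative law of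
degree d out of R' factors uniquely through γ) and π : C → R the R-algebra map with π ∘ γ = the norm
law of R' over R; let (C', γ', π') be the analogous data for Q' over Q. Let θ : C → C' be an
R-algebra homomorphism compatible with the two universal laws over every commutative Q-algebra P:
γ'_P applied to the image of z ∈ P ⊗_R R' in P ⊗_Q Q' equals (p ⊗ c ↦ p ⊗ θ c) applied to γ_P(z) (so
θ is the base-change homomorphism of divided power algebras). Then π' (θ c) is the image in Q of π c
for every c ∈ C: the algebra map attached to the norm commutes with base change. (The published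
lemma is for a finite locally free extension of constant rank and states the commutativity of each
of three squares; this row assumes R' free over R and states the commutativity of the composite.) -/
theorem result {R R' Q Q' : Type u} [CommRing R] [CommRing R'] [Algebra R R']
    [CommRing Q] [Algebra R Q] [CommRing Q'] [Algebra R Q'] [Algebra Q Q'] [Algebra R' Q']
    [IsScalarTower R Q Q'] [IsScalarTower R R' Q'] [Algebra.IsPushout R R' Q Q']
    [Module.Free R R'] [Module.Finite R R'] [Module.Free Q Q'] [Module.Finite Q Q']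
    (d : ℕ) (hd : Module.finrank R R' = d) (hd' : Module.finrank Q Q' = d)
    {C : Type u} [CommRing C] [Algebra R C] (γ : PolLaw.MulLaw R R' C d) (hγ : PolLaw.IsGammaD γ)
    (π : C →ₐ[R] R) (hπ : PolLaw.MulLaw.postcomp π γ = PolLaw.normLaw R R' d hd)
    {C' : Type u} [CommRing C'] [Algebra R C'] [Algebra Q C'] [IsScalarTower R Q C']
    (γ' : PolLaw.MulLaw Q Q' C' d) (hγ' : PolLaw.IsGammaD γ')
    (π' : C' →ₐ[Q] Q) (hπ' : PolLaw.MulLaw.postcomp π' γ' = PolLaw.normLaw Q Q' d hd')
    (θ : C →ₐ[R] C')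
    (hθ : ∀ (P : Type u) [CommRing P] [Algebra R P] [Algebra Q P] [IsScalarTower R Q P] (z : P ⊗[R] R'),
      γ'.law.toFun' P (PolLaw.bcAlong (IsScalarTower.toAlgHom R R' Q').toLinearMap P z) =
        PolLaw.bcAlong θ.toLinearMap P (γ.law.toFun' P z)) :
    ∀ c : C, π' (θ c) = algebraMap R Q (π c) := by
  intro c
  let f1 : C →ₐ[R] Q := (Algebra.ofId R Q).comp π
  let f2 : C →ₐ[R] Q := (π'.restrictScalars R).comp θ
  suffices h : f2 = f1 from DFunLike.congr_fun h c
  obtain ⟨f, hf, huniq⟩ := hγ Q (PolLaw.MulLaw.postcomp f1 γ)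
  have e1 : f1 = f := huniq f1 rfl
  have e2 : f2 = f := by
    apply huniq f2
    show PolLaw.postcomp f2.toLinearMap γ.law = PolLaw.postcomp f1.toLinearMap γ.law
    ext S _ _ z
    letI : CommRing S := { Algebra.semiringToRing R with mul_comm := mul_comm }
    exact core d hd hd' γ π hπ γ' π' hπ' θ hθ S z
  rw [e1, e2]

end Groth.Agent.S17914
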