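import Groth.Statements.S17933
import Mathlib

set_option autoImplicit false
universe u
open MultCrv

namespace Groth.Agent.S17933



/-- Let R be a discrete valuation ring, n ≥ 1, A = R[X]/(X^n) with z the class of X, and M a finitely
generated A-module. Then M is torsion-free as an R-module if and only if the submodule M^(1) of
elements killed by z is a free R-module. (This is the statement at a closed point of the sheaf
statement: for a primitive multiple curve of multiplicity n the local ring at a closed point is of
the form R[X]/(X^n) with R the local ring of the reduced smooth curve, torsion-freeness is the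
absence of sections with finite support, and local freeness on the reduced curve is freeness of the
stalk; the row is stated for every discrete valuation ring R.) -/
theorem result (R : Type u) [CommRing R] [IsDomain R] [IsDiscreteValuationRing R] (n : ℕ) (hn : 1 ≤ n) (M : Type u) [AddCommGroup M] [Module (MultCrv.Rn R n) M] [Module R M] [IsScalarTower R (MultCrv.Rn R n) M] [Module.Finite (MultCrv.Rn R n) M] : Module.IsTorsionFree R M ↔ Module.Free R ↥(MultCrv.filt2 R n M 1) := by
  have hfinRn : Module.Finite R (MultCrv.Rn R n) :=
    (Polynomial.monic_X_pow n).finite_adjoinRoot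
  have hfinM : Module.Finite R M := Module.Finite.trans (MultCrv.Rn R n) M
  have hz : MultCrv.z R n ^ n = 0 := by
    rw [MultCrv.z, ← map_pow, Ideal.Quotient.eq_zero_iff_mem]
    exact Ideal.mem_span_singleton_self _
  let ι : ↥(MultCrv.filt2 R n M 1) →ₗ[R] M := (MultCrv.filt2 R n M 1).subtype.restrictScalars R
  have hι : Function.Injective ι := Subtype.val_injective
  have hfin1 : Module.Finite R ↥(MultCrv.filt2 R n M 1) := Module.Finite.of_injective ι hι
  constructor
  · intro htf
    rw [Module.free_iff_isTorsionFree]
    exact Function.Injective.moduleIsTorsionFree ι hι (fun r m => map_smul ι r m)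
  · intro hfree
    have htf1 : Module.IsTorsionFree R ↥(MultCrv.filt2 R n M 1) := Module.free_iff_isTorsionFree.mp hfree
    apply Module.IsTorsionFree.of_smul_eq_zero
    intro r u hru
    by_contra hcon
    push Not at hcon
    obtain ⟨hr, hu⟩ := hcon
    have key : ∀ k : ℕ, ∀ u : M, MultCrv.z R n ^ k • u = 0 → r • u = 0 → u = 0 := by
      intro k
      induction k with
      | zero =>
        intro u hu _
        simpa using hu
      | succ k ih =>
        intro u hu hru
        have hmem : MultCrv.z R n ^ k • u ∈ MultCrv.filt2 R n M 1 := by
          show MultCrv.z R n ^ 1 • (MultCrv.z R n ^ k • u) = 0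
          rw [smul_smul, ← pow_add, add_comm]
          exact hu
        have h1 : r • (⟨MultCrv.z R n ^ k • u, hmem⟩ : ↥(MultCrv.filt2 R n M 1)) = 0 := by
          apply Subtype.ext
          show r • (MultCrv.z R n ^ k • u) = 0
          rw [smul_comm, hru, smul_zero]
        have h2 : (⟨MultCrv.z R n ^ k • u, hmem⟩ : ↥(MultCrv.filt2 R n M 1)) = 0 :=
          (smul_eq_zero.mp h1).resolve_left hr
        have h3 : MultCrv.z R n ^ k • u = 0 := congrArg Subtype.val h2
        exact ih u h3 hru
    apply hu
    apply key n u _ hru
    rw [hz]
    exact zero_smul (MultCrv.Rn R n) u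

end Groth.Agent.S17933
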