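import Groth.Statements.S17934
import Mathlib

set_option autoImplicit false
universe u
open MultCrv

namespace Groth.Agent.S17934



/-- Let R be a discrete valuation ring, n ≥ 1, A = R[X]/(X^n) with z the class of X, and M a finitely
generated A-module that is torsion-free as an R-module. Then for 1 ≤ i ≤ n the graded piece
M^(i)/M^(i-1) of the second canonical filtration (M^(i) the elements killed by z^i) is a free
R-module. (Statement at a closed point of the sheaf statement on a primitive multiple curve of
multiplicity n, whose local rings are of the form R[X]/(X^n) with R the local ring of the reduced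
smooth curve; stated for every discrete valuation ring R.) -/
theorem result (R : Type u) [CommRing R] [IsDomain R] [IsDiscreteValuationRing R] (n : ℕ) (hn : 1 ≤ n) (M : Type u) [AddCommGroup M] [Module (MultCrv.Rn R n) M] [Module R M] [IsScalarTower R (MultCrv.Rn R n) M] [Module.Finite (MultCrv.Rn R n) M] [Module.IsTorsionFree R M] (i : ℕ) (hi : 1 ≤ i) (hin : i ≤ n) : Module.Free R (MultCrv.G2 R n M i) := by
  have hfinRn : Module.Finite R (MultCrv.Rn R n) :=
    (Polynomial.monic_X_pow n).finite_adjoinRoot
  have hfinM : Module.Finite R M := Module.Finite.trans (MultCrv.Rn R n) M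
  let ι : ↥(MultCrv.filt2 R n M i) →ₗ[R] M := (MultCrv.filt2 R n M i).subtype.restrictScalars R
  have hι : Function.Injective ι := Subtype.val_injective
  have hfin1 : Module.Finite R ↥(MultCrv.filt2 R n M i) := Module.Finite.of_injective ι hι
  let π : ↥(MultCrv.filt2 R n M i) →ₗ[R] MultCrv.G2 R n M i :=
    (Submodule.mkQ (Submodule.comap (MultCrv.filt2 R n M i).subtype (MultCrv.filt2 R n M (i - 1)))).restrictScalars R
  have hπ : Function.Surjective π := Submodule.mkQ_surjective _
  have hfin2 : Module.Finite R (MultCrv.G2 R n M i) := Module.Finite.of_surjective π hπ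
  rw [Module.free_iff_isTorsionFree]
  apply Module.IsTorsionFree.of_smul_eq_zero
  intro r x hrx
  obtain ⟨u, rfl⟩ := hπ x
  by_cases hr : r = 0
  · exact Or.inl hr
  · right
    rw [← map_smul] at hrx
    have h1 : r • u ∈ Submodule.comap (MultCrv.filt2 R n M i).subtype (MultCrv.filt2 R n M (i - 1)) :=
      (Submodule.Quotient.mk_eq_zero _).mp hrx
    have h2 : MultCrv.z R n ^ (i - 1) • (r • (u : M)) = 0 := h1
    rw [smul_comm] at h2
    have h3 : MultCrv.z R n ^ (i - 1) • (u : M) = 0 := (smul_eq_zero.mp h2).resolve_left hr
    apply (Submodule.Quotient.mk_eq_zero _).mpr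
    exact h3

end Groth.Agent.S17934
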