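import Groth.Statements.S17946
import Mathlib

set_option autoImplicit false
universe u
open MultCrv

namespace Groth.Agent.S17946



/-- Let R be a discrete valuation ring, n ≥ 1, A = R[X]/(X^n) with z the class of X, and φ : M → N an
A-linear map of finitely generated A-modules. Then φ is injective if and only if its restriction to
the submodule M^(1) of elements killed by z is injective. The induced maps M^(i)/M^(i-1) →
N^(i)/N^(i-1), 1 ≤ i < n, with M^(j) the elements killed by z^j, are then injective as well; that
immediate consequence, which the published statement includes, is not part of this row. (Statement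
at a closed point of the sheaf statement on a primitive multiple curve of multiplicity n with local
rings R[X]/(X^n); stated for every discrete valuation ring R.) -/
theorem result (R : Type u) [CommRing R] [IsDomain R] [IsDiscreteValuationRing R] (n : ℕ) (hn : 1 ≤ n) (M N : Type u) [AddCommGroup M] [Module (MultCrv.Rn R n) M] [Module.Finite (MultCrv.Rn R n) M] [AddCommGroup N] [Module (MultCrv.Rn R n) N] [Module.Finite (MultCrv.Rn R n) N] (φ : M →ₗ[MultCrv.Rn R n] N) : Function.Injective φ ↔ ∀ u : M, u ∈ MultCrv.filt2 R n M 1 → φ u = 0 → u = 0 := by
  constructor
  · intro h u _ hu
    exact h (by rw [hu, map_zero])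
  · intro h
    rw [injective_iff_map_eq_zero]
    have hz : MultCrv.z R n ^ n = 0 := by
      rw [MultCrv.z, ← map_pow, Ideal.Quotient.eq_zero_iff_mem]
      exact Ideal.mem_span_singleton_self _
    -- induction: if z^k u = 0 and φ u = 0 then u = 0
    have key : ∀ k : ℕ, ∀ u : M, MultCrv.z R n ^ k • u = 0 → φ u = 0 → u = 0 := by
      intro k
      induction k with
      | zero =>
        intro u hu _
        simpa using hu
      | succ k ih =>
        intro u hu hφ
        have h1 : MultCrv.z R n ^ k • u = 0 := by
          apply h
          · show MultCrv.z R n ^ 1 • (MultCrv.z R n ^ k • u) = 0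
            rw [smul_smul, ← pow_add, add_comm]
            exact hu
          · rw [map_smul, hφ, smul_zero]
        exact ih u h1 hφ
    intro u hu
    apply key n u _ hu
    rw [hz]
    exact zero_smul (MultCrv.Rn R n) u

end Groth.Agent.S17946
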