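import Groth.Statements.S17962
import Mathlib

set_option autoImplicit false
open CategoryTheory CategoryTheory.Limits AlgebraicGeometry
universe u
open Hensel

namespace Groth.Agent.S17962



/-- Let i : X₀ ⟶ X be a closed immersion such that (X, X₀) is a henselian couple, i.e. for every finite
morphism g : Y ⟶ X every open-closed subset of Y ×_X X₀ is the inverse image under the first
projection of exactly one open-closed subset of Y. Then for every finite morphism h : Y ⟶ X the
couple (Y, Y ×_X X₀), with the first projection as closed immersion, is again henselian. -/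
theorem result {X X₀ : Scheme.{u}}
    (i : X₀ ⟶ X) [IsClosedImmersion i]
    (hX : ∀ (Y : Scheme.{u}) (g : Y ⟶ X), IsFinite g →
      ∀ V : Set ↥(pullback g (i)), IsClopen V →
        ∃! U : Set ↥Y, IsClopen U ∧ (pullback.fst g (i)).base ⁻¹' U = V)
    {Y : Scheme.{u}} (h : Y ⟶ X) [IsFinite h] :
    ∀ (Z : Scheme.{u}) (g : Z ⟶ Y), IsFinite g →
      ∀ V : Set ↥(pullback g (pullback.fst h i)), IsClopen V →
        ∃! U : Set ↥Z, IsClopen U ∧ (pullback.fst g (pullback.fst h i)).base ⁻¹' U = V := by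
  intro Z g hgfin V hV
  haveI := hgfin
  let e := pullbackRightPullbackFstIso h i g
  have he1 : e.hom ≫ pullback.fst (g ≫ h) i = pullback.fst g (pullback.fst h i) :=
    pullbackRightPullbackFstIso_hom_fst h i g
  have he2 : e.inv ≫ pullback.fst g (pullback.fst h i) = pullback.fst (g ≫ h) i :=
    pullbackRightPullbackFstIso_inv_fst h i g
  let V' : Set ↥(pullback (g ≫ h) i) := e.inv.base ⁻¹' V
  have hV' : IsClopen V' := hV.preimage e.inv.continuous
  have hfin : IsFinite (g ≫ h) := inferInstance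
  obtain ⟨U, ⟨hU, hUV⟩, huniq⟩ := hX Z (g ≫ h) hfin V' hV'
  refine ⟨U, ⟨hU, ?_⟩, ?_⟩
  · rw [← he1]
    have : (e.hom ≫ pullback.fst (g ≫ h) i).base ⁻¹' U
        = e.hom.base ⁻¹' ((pullback.fst (g ≫ h) i).base ⁻¹' U) := rfl
    rw [this, hUV]
    show e.hom.base ⁻¹' (e.inv.base ⁻¹' V) = V
    have h2 : e.hom.base ⁻¹' (e.inv.base ⁻¹' V) = (e.hom ≫ e.inv).base ⁻¹' V := rfl
    rw [h2, e.hom_inv_id]
    rfl
  · rintro U' ⟨hU', hU'V⟩
    apply huniq
    refine ⟨hU', ?_⟩
    rw [← he2]
    have : (e.inv ≫ pullback.fst g (pullback.fst h i)).base ⁻¹' U'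
        = e.inv.base ⁻¹' ((pullback.fst g (pullback.fst h i)).base ⁻¹' U') := rfl
    rw [this, hU'V]

end Groth.Agent.S17962
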