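import Groth.Statements.S17969
import Mathlib

set_option autoImplicit false
universe u
open scoped TensorProduct
open CAlg

namespace Groth.Agent.S17969

/-- Let A be an integrally closed domain with fraction field K and B a commutative A-algebra which is
finite and torsion-free as an A-module and generated as an A-algebra by a single element x. Let P be
the characteristic polynomial of multiplication by 1 ⊗ x on the finite free K-module K ⊗_A B. Then P
has coefficients in A, namely P is the image of a monic polynomial over A, and the kernel of the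
A-algebra map A[T] → B sending T to x is generated by that polynomial, so that B is A[T]/(P). -/
theorem result
    (A : Type u) [CommRing A] [IsDomain A] [IsIntegrallyClosed A]
    (B : Type u) [CommRing B] [Algebra A B] [Module.Finite A B] [NoZeroSMulDivisors A B]
    (x : B) (hx : Algebra.adjoin A {x} = ⊤) :
    ∃ P : Polynomial A, P.Monic ∧
      Polynomial.map (algebraMap A (FractionRing A)) P =
        (LinearMap.mulLeft (FractionRing A) ((1 : FractionRing A) ⊗ₜ[A] x)).charpoly ∧
      RingHom.ker (Polynomial.aeval x).toRingHom = Ideal.span {P} := by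
  classical
  set K := FractionRing A with hK
  set y : K ⊗[A] B := (1 : K) ⊗ₜ[A] x with hy
  -- the inclusion `B → K ⊗ B` is injective
  have hinj : Function.Injective (Algebra.TensorProduct.includeRight : B →ₐ[A] K ⊗[A] B) := by
    rw [injective_iff_map_eq_zero]
    intro b hb
    have h1 : (TensorProduct.mk A K B 1) b = 0 := hb
    rw [IsLocalizedModule.eq_zero_iff (nonZeroDivisors A)] at h1
    obtain ⟨s, hs⟩ := h1
    have hs0 : (s : A) ≠ 0 := nonZeroDivisors.coe_ne_zero s
    have : (s : A) • b = 0 := hs
    exact (smul_eq_zero.mp this).resolve_left hs0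
  have hx_int : IsIntegral A x := IsIntegral.of_finite A x
  have hy_int : IsIntegral K y := IsIntegral.of_finite K y
  -- `aeval y` on base-changed polynomials
  have haeval : ∀ Q : Polynomial A, Polynomial.aeval y (Q.map (algebraMap A K)) =
      (Algebra.TensorProduct.includeRight : B →ₐ[A] K ⊗[A] B) (Polynomial.aeval x Q) := by
    intro Q
    rw [Polynomial.aeval_map_algebraMap, ← Polynomial.aeval_algHom_apply]
    rfl
  -- `y` generates
  have hy_top : Algebra.adjoin K {y} = ⊤ := by
    rw [eq_top_iff]
    intro z _
    induction z using TensorProduct.induction_on with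
    | zero => exact Subalgebra.zero_mem _
    | add z₁ z₂ h₁ h₂ => exact Subalgebra.add_mem _ (h₁ trivial) (h₂ trivial)
    | tmul c b =>
      have hb : b ∈ Algebra.adjoin A {x} := by rw [hx]; trivial
      rw [Algebra.adjoin_singleton_eq_range_aeval] at hb
      obtain ⟨Q, hQ⟩ := hb
      rw [← hQ]
      change c ⊗ₜ[A] (Polynomial.aeval x Q) ∈ _
      have h1 : c ⊗ₜ[A] (Polynomial.aeval x Q) =
          c • (Algebra.TensorProduct.includeRight : B →ₐ[A] K ⊗[A] B) (Polynomial.aeval x Q) := by
        rw [Algebra.TensorProduct.includeRight_apply, TensorProduct.smul_tmul', smul_eq_mul, mul_one]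
      rw [h1, ← haeval]
      refine Subalgebra.smul_mem _ ?_ c
      rw [Algebra.adjoin_singleton_eq_range_aeval]
      exact ⟨_, rfl⟩
  -- charpoly = minpoly
  set pb := PowerBasis.ofAdjoinEqTop hy_int hy_top with hpb
  have hchar : (LinearMap.mulLeft K y).charpoly = minpoly K y := by
    have h1 := charpoly_leftMulMatrix pb
    rw [PowerBasis.ofAdjoinEqTop_gen, Algebra.leftMulMatrix_apply, LinearMap.charpoly_toMatrix] at h1
    exact h1
  -- descend the minimal polynomial
  have hdvd : minpoly K y ∣ (minpoly A x).map (algebraMap A K) := by
    apply minpoly.dvd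
    rw [haeval, minpoly.aeval, map_zero]
  obtain ⟨g', hg'⟩ := IsIntegrallyClosed.eq_map_mul_C_of_dvd K (minpoly.monic hx_int) hdvd
  have hmonic : (minpoly K y).Monic := minpoly.monic hy_int
  rw [hmonic.leadingCoeff, Polynomial.C_1, mul_one] at hg'
  have hfrac : Function.Injective (algebraMap A K) := IsFractionRing.injective A K
  have hg'monic : g'.Monic := Polynomial.monic_of_injective hfrac (by rw [hg']; exact hmonic)
  refine ⟨g', hg'monic, by rw [hg', hchar], ?_⟩
  ext Q
  rw [RingHom.mem_ker, Ideal.mem_span_singleton]
  have h1 : (Polynomial.aeval x).toRingHom Q = 0 ↔ Polynomial.aeval y (Q.map (algebraMap A K)) = 0 := by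
    rw [haeval]
    change Polynomial.aeval x Q = 0 ↔ _
    constructor
    · intro h
      rw [h, map_zero]
    · intro h
      exact hinj (by rw [h, map_zero])
  rw [h1, ← minpoly.dvd_iff, ← hg', Polynomial.map_dvd_map _ hfrac hg'monic]

end Groth.Agent.S17969
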