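import Groth.Statements.S17970
import Mathlib
import Groth.Agent.Lib.helper27.LocalProd

set_option autoImplicit false
universe u
open Hensel

namespace Groth.Agent.S17970

/-- Let A be a local ring with maximal ideal m and B a commutative A-algebra which is finitely generated
as an A-module. Then B is ring-isomorphic to a finite product of local rings if and only if every
idempotent of B/mB is the image of an idempotent of B. (Reduction modulo mB is always injective on
the idempotents of B, because mB lies in the Jacobson radical of B; so this surjectivity amounts to
the bijectivity on idempotents in the printed assertion.) -/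
theorem result
    (A : Type u) [CommRing A] [IsLocalRing A] (B : Type u) [CommRing B] [Algebra A B] [Module.Finite A B] :
    (∃ (ι : Type u) (_ : Fintype ι) (C : ι → Type u) (_ : ∀ j, CommRing (C j)),
        (∀ j, IsLocalRing (C j)) ∧ Nonempty (B ≃+* (∀ j, C j))) ↔
      Set.SurjOn (Ideal.Quotient.mk (Ideal.map (algebraMap A B) (IsLocalRing.maximalIdeal A)))
        {e : B | IsIdempotentElem e} {e | IsIdempotentElem e} := by
  classical
  constructor
  · rintro ⟨ι, hι, C, hC, hloc, ⟨σ⟩⟩
    exact Groth.Agent.Lib.helper27.LocalProd.surjOn_idem_of_equiv C σ
  · intro h
    have hfin := Groth.Agent.Lib.helper27.LocalProd.finite_maximalSpectrum A B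
    have hbij : Function.Bijective (MaximalSpectrum.toPiLocalization B) :=
      ⟨MaximalSpectrum.toPiLocalization_injective B,
        Groth.Agent.Lib.helper27.LocalProd.toPiLocalization_surjective_of_lift (A := A) h⟩
    exact ⟨MaximalSpectrum B, Fintype.ofFinite _, fun n => Localization.AtPrime n.asIdeal,
      fun n => inferInstance, fun n => inferInstance,
      ⟨RingEquiv.ofBijective (MaximalSpectrum.toPiLocalization B : B →+* _) hbij⟩⟩

end Groth.Agent.S17970
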