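import Groth.Statements.S17971
import Mathlib
import Groth.Agent.S0521
import Groth.Agent.Lib.helper3.ClopenLift2
-- import your own Groth.Agent.* helpers here

set_option autoImplicit false
open CategoryTheory CategoryTheory.Limits AlgebraicGeometry
universe u
open Hensel

namespace Groth.Agent.S17971

/-- For a commutative ring A and an ideal I, the pair (A, I) is henselian if and only if the couple
(Spec A, Spec (A/I)) is henselian, i.e. if and only if for every finite morphism g : Y ⟶ Spec A
every open-closed subset of Y ×_{Spec A} Spec (A/I) is the inverse image under the first projection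
of exactly one open-closed subset of Y. -/
theorem result (A : Type u) [CommRing A] (I : Ideal A) :
    HenselianRing A I ↔
    ∀ (Y : Scheme.{u}) (g : Y ⟶ Spec (CommRingCat.of A)), IsFinite g →
      ∀ V : Set ↥(pullback g (Spec.map (CommRingCat.ofHom (Ideal.Quotient.mk I)))), IsClopen V →
        ∃! U : Set ↥Y, IsClopen U ∧ (pullback.fst g (Spec.map (CommRingCat.ofHom (Ideal.Quotient.mk I)))).base ⁻¹' U = V := by
  rw [Groth.Agent.S0521.result A I]
  constructor
  · intro H Y g hg
    haveI : IsFinite g := hg
    haveI : IsAffine Y := isAffine_of_isAffineHom g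
    let φ : CommRingCat.of A ⟶ Γ(Y, ⊤) := (Scheme.ΓSpecIso (CommRingCat.of A)).inv ≫ g.appTop
    have hφ : Y.isoSpec.inv ≫ g = Spec.map φ := by
      rw [← Scheme.isoSpec_inv_naturality, Scheme.isoSpec_Spec_inv, ← Spec.map_comp]
    haveI : IsFinite (Spec.map φ) := hφ ▸ inferInstance
    have hfin : φ.hom.Finite := (IsFinite.SpecMap_iff φ).mp inferInstance
    letI : Algebra A Γ(Y, ⊤) := φ.hom.toAlgebra
    haveI : Module.Finite A Γ(Y, ⊤) := hfin
    exact (Groth.Agent.Lib.helper3.ClopenLift.main A I Γ(Y, ⊤) g Y.isoSpec hφ).mpr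
      (H Γ(Y, ⊤) inferInstance)
  · intro H B _ _ hfin
    have hg : IsFinite (Spec.map (CommRingCat.ofHom (algebraMap A B))) :=
      (IsFinite.SpecMap_iff _).mpr (RingHom.finite_algebraMap.mpr hfin)
    exact (Groth.Agent.Lib.helper3.ClopenLift.main A I B
      (Spec.map (CommRingCat.ofHom (algebraMap A B))) (Iso.refl _) (Category.id_comp _)).mp
      (H _ _ hg)

end Groth.Agent.S17971
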