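import Groth.Statements.S17975
import Mathlib
-- import your own Groth.Agent.* helpers here

set_option autoImplicit false
universe u
open Hensel

namespace Groth.Agent.S17975

open Polynomial IsLocalRing in
theorem aux
    (A : Type u) [CommRing A] [IsLocalRing A] (C : Type u) [CommRing C] [Algebra A C] [Module.Finite A C]
    (Q₀ : Polynomial (IsLocalRing.ResidueField A)) (hQ₀ : Q₀.Monic)
    (I : Ideal C) (hI : I = Ideal.map (algebraMap A C) (IsLocalRing.maximalIdeal A))
    (e : (C ⧸ I) ≃ₐ[A] AdjoinRoot Q₀)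
    (x : C) (hx : e (Ideal.Quotient.mk I x) = AdjoinRoot.root Q₀) :
    Algebra.adjoin A {x} = ⊤ ∧
      ∃ Q : Polynomial A, Q.Monic ∧ Q.natDegree = Q₀.natDegree ∧
        Polynomial.map (IsLocalRing.residue A) Q = Q₀ ∧ Polynomial.aeval x Q = 0 := by
  classical
  obtain ⟨n, hn⟩ : ∃ n : ℕ, n = Q₀.natDegree := ⟨_, rfl⟩
  rw [← hn]
  -- key computation
  have key : ∀ G : A[X], e (Ideal.Quotient.mk I (aeval x G)) = AdjoinRoot.mk Q₀ (G.map (residue A)) := by
    intro G
    have h1 : Ideal.Quotient.mk I (aeval x G) = aeval (Ideal.Quotient.mk I x) G := by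
      rw [← Ideal.Quotient.mkₐ_eq_mk A I, aeval_algHom_apply]
    rw [h1, ← aeval_algHom_apply, hx, ← AdjoinRoot.aeval_eq]
    exact (aeval_map_algebraMap (ResidueField A) (AdjoinRoot.root Q₀) G).symm
  let N : Submodule A C := Submodule.map (aeval x).toLinearMap (degreeLT A n)
  have hN : N = ⊤ := by
    rw [eq_top_iff]
    apply Submodule.le_of_le_smul_of_le_jacobson_bot (I := maximalIdeal A) Module.Finite.fg_top
      (IsLocalRing.maximalIdeal_le_jacobson _)
    intro c _
    obtain ⟨g, hg⟩ := AdjoinRoot.mk_surjective (e (Ideal.Quotient.mk I c))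
    have hg' : AdjoinRoot.mk Q₀ (g %ₘ Q₀) = AdjoinRoot.mk Q₀ g := by
      rw [AdjoinRoot.mk_eq_mk]
      refine ⟨-(g /ₘ Q₀), ?_⟩
      have := modByMonic_add_div g Q₀
      linear_combination this
    have hlift : g %ₘ Q₀ ∈ Polynomial.lifts (residue A) := by
      obtain ⟨P, hP⟩ := Polynomial.map_surjective (residue A) residue_surjective (g %ₘ Q₀)
      exact (Polynomial.mem_lifts _).mpr ⟨P, hP⟩
    obtain ⟨G, hGmap, hGdeg⟩ := Polynomial.exists_degree_eq_of_mem_lifts hlift
    have hGlt : G ∈ degreeLT A n := by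
      rw [mem_degreeLT, hGdeg]
      calc (g %ₘ Q₀).degree < Q₀.degree := degree_modByMonic_lt _ hQ₀
        _ ≤ n := hn ▸ degree_le_natDegree
    have hdiff : c - aeval x G ∈ I := by
      rw [← Ideal.Quotient.eq_zero_iff_mem, map_sub]
      have h2 : e (Ideal.Quotient.mk I c - Ideal.Quotient.mk I (aeval x G)) =
          e (Ideal.Quotient.mk I c) - e (Ideal.Quotient.mk I (aeval x G)) := map_sub e _ _
      rw [key, hGmap, hg', hg, sub_self] at h2
      exact e.injective (h2.trans (map_zero e).symm)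
    have hc : c = aeval x G + (c - aeval x G) := by ring
    rw [hc]
    refine Submodule.add_mem_sup ⟨G, hGlt, rfl⟩ ?_
    rw [Ideal.smul_top_eq_map, ← hI]
    exact hdiff
  have hadj : Algebra.adjoin A {x} = ⊤ := by
    rw [eq_top_iff]
    intro c _
    have : c ∈ N := by rw [hN]; trivial
    obtain ⟨G, -, rfl⟩ := this
    rw [Algebra.adjoin_singleton_eq_range_aeval]
    exact ⟨G, rfl⟩
  refine ⟨hadj, ?_⟩
  have hxn : x ^ n ∈ N := by rw [hN]; trivial
  obtain ⟨P, hP, hPx⟩ := hxn
  have hP' : P.degree < n := mem_degreeLT.mp hP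
  have hPx' : aeval x P = x ^ n := hPx
  have hQm : (X ^ n - P).Monic := monic_X_pow_sub hP'
  have hQdeg : (X ^ n - P).natDegree = n := by
    have h1 : (X ^ n - P).degree = ((X : A[X]) ^ n).degree := by
      apply degree_sub_eq_left_of_degree_lt
      rwa [degree_X_pow]
    rw [degree_X_pow] at h1
    exact natDegree_eq_of_degree_eq_some h1
  have hQx : aeval x (X ^ n - P) = 0 := by
    rw [map_sub, map_pow, aeval_X, hPx', sub_self]
  refine ⟨X ^ n - P, hQm, hQdeg, ?_, hQx⟩
  apply eq_of_monic_of_dvd_of_natDegree_le hQ₀ (hQm.map _)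
  · have := key (X ^ n - P)
    rw [hQx, map_zero, map_zero] at this
    rw [← AdjoinRoot.mk_eq_zero]
    exact this.symm
  · rw [hQm.natDegree_map, hQdeg, hn]

/-- Let A be a local ring with maximal ideal m and residue field k, C a commutative A-algebra which is
finitely generated as an A-module, Q₀ a monic polynomial of degree n over k, e an A-algebra
isomorphism from C/mC to k[T]/(Q₀), and x an element of C whose class is sent by e to the class of
T. Then x generates C as an A-algebra, and x is a root of a monic polynomial Q over A of degree n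
whose reduction modulo m equals Q₀. -/
theorem result
    (A : Type u) [CommRing A] [IsLocalRing A] (C : Type u) [CommRing C] [Algebra A C] [Module.Finite A C]
    (Q₀ : Polynomial (IsLocalRing.ResidueField A)) (hQ₀ : Q₀.Monic)
    (e : (C ⧸ Ideal.map (algebraMap A C) (IsLocalRing.maximalIdeal A)) ≃ₐ[A] AdjoinRoot Q₀)
    (x : C) (hx : e (Ideal.Quotient.mk (Ideal.map (algebraMap A C) (IsLocalRing.maximalIdeal A)) x) = AdjoinRoot.root Q₀) :
    Algebra.adjoin A {x} = ⊤ ∧
      ∃ Q : Polynomial A, Q.Monic ∧ Q.natDegree = Q₀.natDegree ∧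
        Polynomial.map (IsLocalRing.residue A) Q = Q₀ ∧ Polynomial.aeval x Q = 0 :=
  aux A C Q₀ hQ₀ _ rfl e x hx

end Groth.Agent.S17975
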