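import Groth.Statements.S17979
import Mathlib

set_option autoImplicit false
universe u
open Hensel

namespace Groth.Agent.S17979

open Polynomial in
theorem map_le_jacobson_of_finite (A : Type u) [CommRing A] (I : Ideal A)
    (hI : I ≤ Ideal.jacobson ⊥) (B : Type u) [CommRing B] [Algebra A B] [Module.Finite A B] :
    Ideal.map (algebraMap A B) I ≤ Ideal.jacobson ⊥ := by
  have hint : Algebra.IsIntegral A B := inferInstance
  rw [Ideal.jacobson, le_sInf_iff]
  rintro n ⟨-, hn⟩
  rw [Ideal.map_le_iff_le_comap]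
  have hmax : (Ideal.comap (algebraMap A B) n).IsMaximal :=
    Ideal.isMaximal_comap_of_isIntegral_of_isMaximal n
  refine hI.trans ?_
  rw [Ideal.jacobson]
  exact sInf_le ⟨bot_le, hmax⟩

open Polynomial in
/-- Let A be a local ring with residue field k and Q, R polynomials over A with Q monic. If the images
of Q and R in k[T] generate the unit ideal, then Q and R already generate the unit ideal of A[T]. -/
theorem result (A : Type u) [CommRing A] [IsLocalRing A]
    (Q R : Polynomial A) (hQ : Q.Monic)
    (h : IsCoprime (Polynomial.map (IsLocalRing.residue A) Q) (Polynomial.map (IsLocalRing.residue A) R)) :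
    IsCoprime Q R := by
  classical
  -- B = A[X]/(Q) is finite over A
  haveI : Module.Finite A (AdjoinRoot Q) := hQ.finite_adjoinRoot
  set m := IsLocalRing.maximalIdeal A with hm
  have hjac : Ideal.map (algebraMap A (AdjoinRoot Q)) m ≤ Ideal.jacobson ⊥ :=
    map_le_jacobson_of_finite A m (IsLocalRing.maximalIdeal_le_jacobson ⊥) (AdjoinRoot Q)
  obtain ⟨a, b, hab⟩ := h
  obtain ⟨a', rfl⟩ := Polynomial.map_surjective (IsLocalRing.residue A) IsLocalRing.residue_surjective a
  obtain ⟨b', rfl⟩ := Polynomial.map_surjective (IsLocalRing.residue A) IsLocalRing.residue_surjective b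
  -- c = a' Q + b' R - 1 has coefficients in m
  set c := a' * Q + b' * R - 1 with hc
  have hcmap : Polynomial.map (IsLocalRing.residue A) c = 0 := by
    rw [hc]; simp only [Polynomial.map_sub, Polynomial.map_add, Polynomial.map_mul, Polynomial.map_one]
    rw [hab]; simp
  have hcoeff : ∀ n, c.coeff n ∈ m := by
    intro n
    have : (Polynomial.map (IsLocalRing.residue A) c).coeff n = 0 := by rw [hcmap]; simp
    rw [Polynomial.coeff_map] at this
    exact (IsLocalRing.residue_eq_zero_iff _).mp this
  -- image of c in AdjoinRoot Q lies in map m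
  have hcmem : AdjoinRoot.mk Q c ∈ Ideal.map (algebraMap A (AdjoinRoot Q)) m := by
    rw [Polynomial.as_sum_range_C_mul_X_pow c, map_sum]
    refine Ideal.sum_mem _ fun i _ => ?_
    rw [map_mul]
    refine Ideal.mul_mem_right _ _ ?_
    rw [AdjoinRoot.mk_C]
    exact Ideal.mem_map_of_mem _ (hcoeff i)
  -- so mk (b' R) = 1 + mk c - mk(a' Q) = 1 + mk c is a unit
  have hunit : IsUnit (AdjoinRoot.mk Q (b' * R)) := by
    have h1 : AdjoinRoot.mk Q (b' * R) = AdjoinRoot.mk Q c * 1 + 1 := by
      have : b' * R = c + 1 - a' * Q := by rw [hc]; ring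
      rw [this, map_sub, map_add, map_one, map_mul, AdjoinRoot.mk_self, mul_zero, sub_zero, mul_one]
    rw [h1]
    exact Ideal.mem_jacobson_bot.mp (hjac hcmem) 1
  obtain ⟨u, hu⟩ := hunit.exists_right_inv
  obtain ⟨u', rfl⟩ := AdjoinRoot.mk_surjective u
  rw [← map_mul, ← map_one (AdjoinRoot.mk Q), AdjoinRoot.mk_eq_mk] at hu
  obtain ⟨d, hd⟩ := hu
  -- b' R u' - 1 = Q d
  refine ⟨-d, b' * u', ?_⟩
  have : b' * R * u' = 1 + Q * d := by rw [← hd]; ring
  calc -d * Q + b' * u' * R = b' * R * u' - Q * d := by ring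
    _ = 1 := by rw [this]; ring

end Groth.Agent.S17979
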