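import Groth.Statements.S17981
import Mathlib

set_option autoImplicit false
universe u
open Hensel

namespace Groth.Agent.S17981

theorem map_le_jacobson_of_finite (A : Type u) [CommRing A] (I : Ideal A)
    (hI : I ≤ Ideal.jacobson ⊥) (B : Type u) [CommRing B] [Algebra A B] [Module.Finite A B] :
    Ideal.map (algebraMap A B) I ≤ Ideal.jacobson ⊥ := by
  have hint : Algebra.IsIntegral A B := inferInstance
  rw [Ideal.jacobson, le_sInf_iff]
  rintro n ⟨-, hn⟩
  rw [Ideal.map_le_iff_le_comap]
  have hmax : (Ideal.comap (algebraMap A B) n).IsMaximal :=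
    Ideal.isMaximal_comap_of_isIntegral_of_isMaximal n
  refine hI.trans ?_
  rw [Ideal.jacobson]
  exact sInf_le ⟨bot_le, hmax⟩

/-- Let A be a commutative ring, I an ideal contained in the Jacobson radical of A, and B a commutative
A-algebra which is finitely generated as an A-module. Then two idempotents of B with the same image
in B/IB are equal. -/
theorem result (A : Type u) [CommRing A] (I : Ideal A)
    (hI : I ≤ Ideal.jacobson ⊥) (B : Type u) [CommRing B] [Algebra A B] [Module.Finite A B] :
    Set.InjOn (Ideal.Quotient.mk (Ideal.map (algebraMap A B) I)) {e : B | IsIdempotentElem e} := by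
  intro e he e' he' h
  simp only [Set.mem_setOf_eq] at he he'
  have hmem : e - e' ∈ Ideal.map (algebraMap A B) I := by
    rw [← Ideal.Quotient.eq]; exact h
  have hjac : e - e' ∈ Ideal.jacobson (⊥ : Ideal B) :=
    map_le_jacobson_of_finite A I hI B hmem
  -- (e - e')^3 = e - e'
  have h3 : (e - e') * (1 - (e - e') ^ 2) = 0 := by
    have h1 : e * e = e := he
    have h2 : e' * e' = e' := he'
    have : (e - e') * (1 - (e - e') ^ 2) = (e - e') - (e*e*e - 3 * (e*e)*e' + 3 * e * (e'*e') - e'*e'*e') := by ring
    rw [this, h1, h2, h1, h2]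
    have : e - e' - (e - 3 * e * e' + 3 * e * e' - e') = 0 := by ring
    exact this
  have hunit : IsUnit (1 - (e - e') ^ 2) := by
    have hx : (e - e') ^ 2 ∈ Ideal.jacobson (⊥ : Ideal B) := Ideal.pow_mem_of_mem _ hjac 2 (by norm_num)
    have := (Ideal.mem_jacobson_bot.mp hx) (-1)
    have h' : (e - e') ^ 2 * (-1) + 1 = 1 - (e - e') ^ 2 := by ring
    rwa [h'] at this
  have : e - e' = 0 := by
    have := hunit.mul_left_eq_zero.mp h3
    exact this
  exact sub_eq_zero.mp this

end Groth.Agent.S17981
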