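import Groth.Statements.S17983
import Mathlib

set_option autoImplicit false
universe u
open WeilNum

namespace Groth.Agent.S17983aux
open Polynomial

/-- core reciprocity lemma over a field -/
theorem core {F : Type*} [Field F] (Pc : F[X]) (n d : ℕ) (q : F) (hq : q ≠ 0)
    (hmonic : Pc.Monic) (hn : Pc.natDegree = n)
    (hnodup : Pc.roots.Nodup) (hcard : Pc.roots.card = n)
    (h0 : Pc.coeff 0 = q ^ d)
    (hroot : ∀ z ∈ Pc.roots, ∃ w ∈ Pc.roots, w ≠ 0 ∧ z = q * w⁻¹) :
    ∀ i ≤ n, Pc.coeff (n - i) * q ^ (n - i) = q ^ d * Pc.coeff i := by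
  classical
  have h00 : Pc.coeff 0 ≠ 0 := by rw [h0]; exact pow_ne_zero _ hq
  have hrevdeg : Pc.reverse.natDegree = n := by
    rw [reverse_natDegree, hn]
    have : Pc.natTrailingDegree = 0 := natTrailingDegree_eq_zero.mpr (Or.inr h00)
    rw [this, Nat.sub_zero]
  set Q : F[X] := Pc.reverse.scaleRoots q with hQ
  have hQcoeff : ∀ i ≤ n, Q.coeff i = Pc.coeff (n - i) * q ^ (n - i) := by
    intro i hi
    rw [hQ, coeff_scaleRoots, coeff_reverse, hrevdeg, hn, revAt_le hi]
  have hQdeg : Q.natDegree = n := by rw [hQ, natDegree_scaleRoots, hrevdeg]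
  have hQroot : ∀ z ∈ Pc.roots, Q.eval z = 0 := by
    intro z hz
    obtain ⟨w, hw, hw0, rfl⟩ := hroot z hz
    rw [hQ, scaleRoots_eval_mul]
    have h1 : Pc.reverse.eval w⁻¹ * w ^ Pc.natDegree = Pc.eval w := by
      letI : Invertible w := invertibleOfNonzero hw0
      have := eval₂_reverse_mul_pow (RingHom.id F) w Pc
      simpa [eval₂_id] using this
    have h2 : Pc.eval w = 0 := (mem_roots hmonic.ne_zero).mp hw
    rw [h2] at h1
    have h3 : Pc.reverse.eval w⁻¹ = 0 := by
      rcases mul_eq_zero.mp h1 with h | h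
      · exact h
      · exact absurd h (pow_ne_zero _ hw0)
    rw [h3, mul_zero]
  set D : F[X] := Q - C (q ^ d) * Pc with hD
  have hDzero : D = 0 := by
    by_cases hn0 : n = 0
    · -- degree zero: both constants
      have hPc1 : Pc = 1 := by
        exact hmonic.natDegree_eq_zero.mp (hn.trans hn0)
      have hd : q ^ d = 1 := by rw [← h0, hPc1]; simp
      have hQ1 : Q = C (Q.coeff 0) := eq_C_of_natDegree_eq_zero (hQdeg.trans hn0)
      rw [hD, hQ1, hQcoeff 0 (Nat.zero_le _), hn0, hPc1, hd]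
      simp
    apply eq_zero_of_natDegree_lt_card_of_eval_eq_zero' D Pc.roots.toFinset
    · intro z hz
      rw [Multiset.mem_toFinset] at hz
      rw [hD, eval_sub, hQroot z hz, eval_mul, (mem_roots hmonic.ne_zero).mp hz, mul_zero,
        sub_zero]
    · rw [Multiset.toFinset_card_of_nodup hnodup, hcard]
      have hdeglt : D.degree < (n : WithBot ℕ) := by
        rw [degree_lt_iff_coeff_zero]
        intro m hm
        rcases hm.lt_or_eq with hlt | heq
        · rw [hD, coeff_sub, coeff_C_mul, coeff_eq_zero_of_natDegree_lt (by omega),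
            coeff_eq_zero_of_natDegree_lt (by omega), mul_zero, sub_zero]
        · subst heq
          rw [hD, coeff_sub, coeff_C_mul, hQcoeff n le_rfl, Nat.sub_self, pow_zero, mul_one, h0,
            ← hn, hmonic.coeff_natDegree, mul_one, sub_self]
      by_cases hD0 : D = 0
      · rw [hD0, natDegree_zero]; omega
      · exact (natDegree_lt_iff_degree_lt hD0).mpr hdeglt
  intro i hi
  rw [← hQcoeff i hi]
  have : Q = C (q ^ d) * Pc := sub_eq_zero.mp hDzero
  rw [this, coeff_C_mul]

theorem main (p e : ℕ) [Fact p.Prime] (he : 0 < e)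
    (K : Type u) [Field K] [CharZero K] (π : K) (hπ : IsIntegral ℤ π)
    (hweil : ∀ z ∈ (minpoly ℤ π).aroots ℂ, ‖z‖ = Real.sqrt ((p : ℝ) ^ e))
    (hnr : ∀ z ∈ (minpoly ℤ π).aroots ℂ, z.im ≠ 0) :
    Even (minpoly ℤ π).natDegree ∧
      ∀ r ≤ (minpoly ℤ π).natDegree / 2,
        (minpoly ℤ π).coeff ((minpoly ℤ π).natDegree / 2 - r) =
          (p : ℤ) ^ (e * r) * (minpoly ℤ π).coeff ((minpoly ℤ π).natDegree / 2 + r) := by
  classical
  set P := minpoly ℤ π with hP
  set n := P.natDegree with hn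
  set Pc : ℂ[X] := P.map (algebraMap ℤ ℂ) with hPc
  have hPmonic : P.Monic := minpoly.monic hπ
  have hmonic : Pc.Monic := hPmonic.map _
  have hdeg : Pc.natDegree = n := hPmonic.natDegree_map _
  have hroots : P.aroots ℂ = Pc.roots := rfl
  rw [hroots] at hweil hnr
  have hsplit : Pc.Splits := IsAlgClosed.splits Pc
  have hcard : Pc.roots.card = n := by rw [← hsplit.natDegree_eq_card_roots, hdeg]
  have hsep : Pc.Separable := by
    have h1 : minpoly ℚ π = P.map (algebraMap ℤ ℚ) :=
      minpoly.isIntegrallyClosed_eq_field_fractions' ℚ hπ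
    have h2 : (minpoly ℚ π).Separable := (minpoly.irreducible hπ.tower_top).separable
    have h3 : Pc = (P.map (algebraMap ℤ ℚ)).map (algebraMap ℚ ℂ) := by
      rw [Polynomial.map_map]; congr 1
    rw [h3, ← h1]; exact h2.map
  have hnodup : Pc.roots.Nodup := nodup_roots hsep
  have hconj : ∀ z ∈ Pc.roots, (starRingEnd ℂ) z ∈ Pc.roots := by
    intro z hz
    rw [mem_roots hmonic.ne_zero, IsRoot.def] at hz ⊢
    rw [hPc, eval_map] at hz ⊢
    have := congrArg (starRingEnd ℂ) hz
    rw [hom_eval₂, map_zero] at this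
    have hcomp : (starRingEnd ℂ).comp (algebraMap ℤ ℂ) = algebraMap ℤ ℂ := RingHom.ext_int _ _
    rw [hcomp] at this
    exact this
  -- evenness
  have heven : Even n := by
    have h1 : (∑ z ∈ Pc.roots.toFinset, (1 : ZMod 2)) = 0 := by
      apply Finset.sum_involution (fun z _ => (starRingEnd ℂ) z)
      · intro z hz; rfl
      · intro z hz _ h
        exact hnr z (Multiset.mem_toFinset.mp hz) (Complex.conj_eq_iff_im.mp h)
      · intro z hz; exact Multiset.mem_toFinset.mpr (hconj z (Multiset.mem_toFinset.mp hz))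
      · intro z hz; exact Complex.conj_conj z
    rw [Finset.sum_const, Multiset.toFinset_card_of_nodup hnodup, hcard, nsmul_eq_mul,
      mul_one] at h1
    exact ZMod.natCast_eq_zero_iff_even.mp h1
  refine ⟨heven, ?_⟩
  obtain ⟨d, hd⟩ := heven
  have hnd : n / 2 = d := by omega
  rw [hnd]
  set qr : ℝ := (p : ℝ) ^ e with hqr
  set q : ℂ := (p : ℂ) ^ e with hq
  have hp0 : (p : ℝ) ≠ 0 := by exact_mod_cast (Fact.out : p.Prime).ne_zero
  have hqr0 : 0 < qr := by positivity
  have hq0 : q ≠ 0 := by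
    rw [hq]; apply pow_ne_zero; exact_mod_cast (Fact.out : p.Prime).ne_zero
  have hqq : (qr : ℂ) = q := by rw [hqr, hq]; push_cast; rfl
  have hzz : ∀ z ∈ Pc.roots, z * (starRingEnd ℂ) z = q := by
    intro z hz
    rw [Complex.mul_conj, Complex.normSq_eq_norm_sq, hweil z hz, Real.sq_sqrt hqr0.le, hqq]
  have hcoeff : ∀ j, Pc.coeff j = (P.coeff j : ℂ) := by
    intro j; rw [hPc, coeff_map]; rfl
  -- absolute value of constant coefficient
  have habs : ‖(P.coeff 0 : ℂ)‖ = qr ^ d := by
    rw [← hcoeff, hsplit.coeff_zero_eq_prod_roots_of_monic hmonic, hdeg, hd,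
      Even.neg_one_pow ⟨d, rfl⟩, one_mul]
    have h1 : ‖Pc.roots.prod‖ = (Pc.roots.map (fun z => ‖z‖)).prod :=
      map_multiset_prod (normHom (α := ℂ)) Pc.roots
    rw [h1]
    have h2 : Pc.roots.map (fun z => ‖z‖) = Pc.roots.map (fun _ => Real.sqrt qr) :=
      Multiset.map_congr rfl (fun z hz => hweil z hz)
    rw [h2, Multiset.map_const', Multiset.prod_replicate, hcard, hd, ← two_mul, pow_mul,
      Real.sq_sqrt hqr0.le]
  -- positivity
  have hpos : 0 < P.coeff 0 := by
    by_contra hle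
    push Not at hle
    set Pr : ℝ[X] := P.map (algebraMap ℤ ℝ) with hPr
    have hPrmonic : Pr.Monic := hPmonic.map _
    have hPrdeg : Pr.natDegree = n := hPmonic.natDegree_map _
    have hnpos : 0 < n := minpoly.natDegree_pos hπ
    have htend := Pr.tendsto_atTop_of_leadingCoeff_nonneg
      (by rw [← natDegree_pos_iff_degree_pos, hPrdeg]; exact hnpos)
      (by rw [hPrmonic.leadingCoeff]; norm_num)
    obtain ⟨x, hx1, hx0⟩ :=
      ((htend.eventually_ge_atTop 0).and (Filter.eventually_ge_atTop 0)).exists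
    have h0 : Pr.eval 0 ≤ 0 := by
      rw [← coeff_zero_eq_eval_zero, hPr, coeff_map]
      have : ((P.coeff 0 : ℤ) : ℝ) ≤ 0 := by exact_mod_cast hle
      exact this
    have hivt := intermediate_value_Icc hx0 (Pr.continuous.continuousOn (s := Set.Icc 0 x))
    obtain ⟨y, -, hy⟩ := hivt ⟨h0, hx1⟩
    have hyroot : (y : ℂ) ∈ Pc.roots := by
      rw [mem_roots hmonic.ne_zero, IsRoot.def]
      have h3 : Pc = Pr.map (algebraMap ℝ ℂ) := by
        rw [hPr, Polynomial.map_map]; congr 1
      rw [h3, eval_map]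
      have : (y : ℂ) = algebraMap ℝ ℂ y := rfl
      have hy' : eval y Pr = 0 := hy
      rw [this, eval₂_at_apply, hy', map_zero]
    exact hnr _ hyroot (Complex.ofReal_im y)
  have h0 : Pc.coeff 0 = q ^ d := by
    rw [hcoeff, ← hqq]
    have h1 : |((P.coeff 0 : ℤ) : ℝ)| = qr ^ d := by
      rw [← habs]
      exact (Complex.norm_intCast _).symm
    have h2 : (0 : ℝ) < ((P.coeff 0 : ℤ) : ℝ) := by exact_mod_cast hpos
    rw [abs_of_pos h2] at h1
    rw [← Complex.ofReal_pow, ← h1]
    push_cast; rfl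
  have hroot : ∀ z ∈ Pc.roots, ∃ w ∈ Pc.roots, w ≠ 0 ∧ z = q * w⁻¹ := by
    intro z hz
    have hw0 : (starRingEnd ℂ) z ≠ 0 := by
      intro h
      have := hzz z hz
      rw [h, mul_zero] at this
      exact hq0 this.symm
    exact ⟨(starRingEnd ℂ) z, hconj z hz, hw0, (eq_mul_inv_iff_mul_eq₀ hw0).mpr (hzz z hz)⟩
  have hcore := core Pc n d q hq0 hmonic hdeg hnodup hcard h0 hroot
  intro r hr
  have h1 := hcore (d - r) (by omega)
  have h2 : n - (d - r) = d + r := by omega
  rw [h2, pow_add, hcoeff, hcoeff] at h1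
  have h3 : ((P.coeff (d - r) : ℤ) : ℂ) = q ^ r * (P.coeff (d + r) : ℂ) := by
    have hqd : q ^ d ≠ 0 := pow_ne_zero _ hq0
    apply mul_left_cancel₀ hqd
    rw [← h1]; ring
  have h4 : q ^ r = (((p : ℤ) ^ (e * r) : ℤ) : ℂ) := by
    rw [hq, ← pow_mul]; push_cast; rfl
  rw [h4] at h3
  exact_mod_cast h3

end Groth.Agent.S17983aux

namespace Groth.Agent.S17983

/-- Let p be a prime number, e ≥ 1 and q = p^e. Let π be an element of a field of characteristic zero
which is integral over ℤ, with minimal polynomial P over ℤ, and assume that every complex root of P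
has absolute value √q and that no complex root of P is real (π is a nonreal Weil q-number). Then the
degree of P is even, say 2d, and writing a_j for the coefficient of x^j in P one has a_{d−r} = q^r ·
a_{d+r} for every 0 ≤ r ≤ d. -/
theorem result (p e : ℕ) [Fact p.Prime] (he : 0 < e)
    (K : Type u) [Field K] [CharZero K] (π : K) (hπ : IsIntegral ℤ π)
    (hweil : ∀ z ∈ (minpoly ℤ π).aroots ℂ, ‖z‖ = Real.sqrt ((p : ℝ) ^ e))
    (hnr : ∀ z ∈ (minpoly ℤ π).aroots ℂ, z.im ≠ 0) :
    Even (minpoly ℤ π).natDegree ∧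
      ∀ r ≤ (minpoly ℤ π).natDegree / 2,
        (minpoly ℤ π).coeff ((minpoly ℤ π).natDegree / 2 - r) =
          (p : ℤ) ^ (e * r) * (minpoly ℤ π).coeff ((minpoly ℤ π).natDegree / 2 + r) := by
  exact Groth.Agent.S17983aux.main p e he K π hπ hweil hnr

end Groth.Agent.S17983
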