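import Groth.Statements.S17989
import Groth.Agent.Lib.helper21.GorRing

set_option autoImplicit false
universe u
open CategoryTheory
open CAlg

namespace Groth.Agent.S17989

/-- Let S be a Gorenstein ring (a Noetherian ring all of whose localizations at prime ideals have finite
injective dimension as modules over themselves) of Krull dimension 1, and let M be a finitely
generated reflexive S-module (the canonical map M → M** is bijective). Then Ext¹_S(M, S) = 0. -/
theorem result (S : Type u) [CommRing S]
    [LocCoh.IsGorensteinRing S] (hdim : ringKrullDim S = 1)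
    (M : Type u) [AddCommGroup M] [Module S M] [Module.Finite S M] [Module.IsReflexive S M] :
    Subsingleton (Abelian.Ext (ModuleCat.of S M) (ModuleCat.of S S) 1) := by
  have hinj : HasInjectiveDimensionLT (ModuleCat.of S S) (1 + 1) :=
    Groth.Agent.H21.GorRing.hasInjectiveDimensionLT_of_isGorensteinRing S 1 (by
      rw [hdim]; rfl)
  have hSN : IsNoetherianRing S := inferInstance
  obtain ⟨m, π, hπ⟩ := Module.Finite.exists_fin' S (Module.Dual S M)
  let j : M →ₗ[S] (Fin m → S) := LinearMap.pi (fun i => π (Pi.single i 1))
  have hj : Function.Injective j := by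
    rw [injective_iff_map_eq_zero]
    intro x hx
    have h1 : ∀ f : Module.Dual S M, f x = 0 := by
      intro f
      obtain ⟨v, rfl⟩ := hπ f
      have hv : v = ∑ i, v i • (Pi.single i (1 : S) : Fin m → S) := by
        ext k
        simp [Finset.sum_apply, Pi.single_apply]
      rw [hv, map_sum, LinearMap.sum_apply]
      apply Finset.sum_eq_zero
      intro i _
      rw [map_smul, LinearMap.smul_apply]
      have : (π (Pi.single i 1)) x = 0 := congrFun hx i
      rw [this, smul_zero]
    have h2 : Module.Dual.eval S M x = 0 := by
      ext f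
      exact h1 f
    exact (Module.IsReflexive.bijective_dual_eval' (R := S) (M := M)).1
      (h2.trans (map_zero _).symm)
  have hex : Function.Exact j (Submodule.mkQ (LinearMap.range j)) := by
    rw [LinearMap.exact_iff, Submodule.ker_mkQ]
  have w : ModuleCat.ofHom j ≫ ModuleCat.ofHom (Submodule.mkQ (LinearMap.range j)) = 0 := by
    refine ModuleCat.hom_ext (LinearMap.ext fun q => ?_)
    exact hex.apply_apply_eq_zero q
  have hS : (ShortComplex.mk _ _ w).ShortExact :=
    ModuleCat.shortComplex_shortExact _ hex hj (Submodule.mkQ_surjective _)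
  have hP : Projective (ModuleCat.of S (Fin m → S)) :=
    ModuleCat.projective_of_free (Pi.basisFun S (Fin m))
  refine ⟨fun a b => ?_⟩
  have key : ∀ z : Abelian.Ext (ModuleCat.of S M) (ModuleCat.of S S) 1, z = 0 := by
    intro z
    obtain ⟨z₂, hz₂⟩ := Abelian.Ext.contravariant_sequence_exact₁ hS (ModuleCat.of S S) z
      (rfl : 1 + 1 = 1 + 1)
      (Abelian.Ext.eq_zero_of_hasInjectiveDimensionLT _ (1 + 1) le_rfl)
    rw [← hz₂, Abelian.Ext.eq_zero_of_projective (P := ModuleCat.of S (Fin m → S)) z₂,
      Abelian.Ext.comp_zero]
  rw [key a, key b]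

end Groth.Agent.S17989
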