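import Groth.Statements.S18019
import Mathlib

set_option autoImplicit false
universe u
open ClassStk

namespace Groth.Agent.S18019

open Polynomial in
theorem invariant_mem (R : Type u) [CommRing R] [IsDomain R]
    [CharP R 2] (a : R) (ha : a ≠ 0) :
    ∀ (n : ℕ) (f : Polynomial R), f.natDegree ≤ n → taylor a f = f →
      f ∈ Algebra.adjoin R ({X * (X + C a)} : Set (Polynomial R)) := by
  set u : R[X] := X * (X + C a) with hu
  have humonic : u.Monic := by
    rw [hu]; exact (monic_X).mul (monic_X_add_C a)
  have hudeg : u.degree = 2 := by
    rw [hu, degree_mul, degree_X, degree_X_add_C]; rfl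
  have hunat : u.natDegree = 2 := natDegree_eq_of_degree_eq_some hudeg
  have h2 : (2 : R) = 0 := by
    have := CharP.cast_eq_zero R 2
    exact_mod_cast this
  have hutaylor : taylor a u = u := by
    rw [hu, taylor_mul, taylor_X]
    simp only [taylor_apply, add_comp, X_comp, C_comp]
    have : (C a + C a : R[X]) = 0 := by rw [← C_add, ← two_mul, h2, zero_mul, C_0]
    have h3 : X + C a + C a = (X : R[X]) := by rw [add_assoc, this, add_zero]
    rw [h3]; ring
  intro n
  induction n using Nat.strong_induction_on with
  | _ n ih =>
    intro f hfn hf
    set q := f /ₘ u with hq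
    set r := f %ₘ u with hr
    have hdecomp : r + u * q = f := modByMonic_add_div f u
    have hrdeg : r.degree < u.degree := degree_modByMonic_lt f humonic
    -- apply taylor
    have h1 : taylor a r + u * taylor a q = f := by
      have := congrArg (taylor a) hdecomp
      rw [map_add, taylor_mul, hutaylor, hf] at this
      exact this
    have hrdeg' : (taylor a r).degree < u.degree := by rw [degree_taylor]; exact hrdeg
    obtain ⟨hq', hr'⟩ := div_modByMonic_unique (taylor a q) (taylor a r) humonic ⟨h1, hrdeg'⟩
    -- hq' : f /ₘ u = taylor a q ; hr' : f %ₘ u = taylor a r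
    have hqinv : taylor a q = q := hq'.symm
    have hrinv : taylor a r = r := hr'.symm
    -- r is constant
    have hrnat : r.natDegree < 2 := by
      by_cases hr0 : r = 0
      · rw [hr0]; simp
      · rw [hudeg] at hrdeg
        exact (natDegree_lt_iff_degree_lt hr0).mpr hrdeg
    have hrconst : r = C (r.coeff 0) := by
      -- coefficient 1 of r vanishes
      have hc1 : r.coeff 1 = 0 := by
        have hrlin : r = C (r.coeff 1) * X + C (r.coeff 0) := by
          ext i
          rcases i with _ | _ | i
          · simp
          · simp
          · rw [coeff_eq_zero_of_natDegree_lt (by omega)]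
            simp [coeff_X, coeff_C]
        have h4 : taylor a r = C (r.coeff 1) * X + C (r.coeff 1 * a + r.coeff 0) := by
          conv_lhs => rw [hrlin]
          rw [map_add, taylor_mul, taylor_C, taylor_C, taylor_X, C_add, C_mul]; ring
        have h5 := congrArg (fun p : R[X] => p.coeff 0) (h4.symm.trans hrinv)
        simp only [coeff_add, coeff_C_mul, coeff_X_zero, mul_zero, coeff_C_zero, zero_add] at h5
        have h6 : r.coeff 1 * a = 0 := by
          have := sub_eq_zero.mpr h5
          simpa using this
        rcases mul_eq_zero.mp h6 with h7 | h7
        · exact h7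
        · exact absurd h7 ha
      ext i
      rcases i with _ | _ | i
      · simp
      · simp [hc1, coeff_C]
      · rw [coeff_eq_zero_of_natDegree_lt (by omega)]
        simp [coeff_C]
    have hrmem : r ∈ Algebra.adjoin R ({u} : Set R[X]) := by
      rw [hrconst]; exact Subalgebra.algebraMap_mem _ _
    have humem : u ∈ Algebra.adjoin R ({u} : Set R[X]) := Algebra.subset_adjoin rfl
    by_cases hfn2 : f.natDegree < 2
    · -- then q = 0
      have hq0 : q = 0 := by
        rw [hq]
        apply (divByMonic_eq_zero_iff humonic).mpr
        rw [hudeg]
        by_cases hf0 : f = 0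
        · rw [hf0, degree_zero]; exact WithBot.bot_lt_coe _
        · exact (natDegree_lt_iff_degree_lt hf0).mp hfn2
      rw [← hdecomp, hq0, mul_zero, add_zero]; exact hrmem
    · have hqdeg : q.natDegree < n := by
        rw [hq, natDegree_divByMonic f humonic, hunat]; omega
      have hqmem := ih q.natDegree hqdeg q le_rfl hqinv
      rw [← hdecomp]
      exact Subalgebra.add_mem _ hrmem (Subalgebra.mul_mem _ humem hqmem)

open Polynomial in
/-- Let R be an integral domain of characteristic 2 and let a be a nonzero element of R, so that x ↦ x +
a defines an R-algebra involution of the polynomial ring R[x] (an action of the group of order two).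
A polynomial f is invariant, f(x + a) = f(x), if and only if f belongs to the R-subalgebra generated
by u = x (x + a); in other words the ring of invariants is the polynomial ring R[u]. -/
theorem result (R : Type u) [CommRing R] [IsDomain R]
    [CharP R 2] (a : R) (ha : a ≠ 0) (f : Polynomial R) :
    f.comp (X + C a) = f ↔ f ∈ Algebra.adjoin R ({X * (X + C a)} : Set (Polynomial R)) := by
  rw [← taylor_apply]
  constructor
  · intro hf
    exact invariant_mem R a ha f.natDegree f le_rfl hf
  · intro hf
    have h2 : (2 : R) = 0 := by
      have := CharP.cast_eq_zero R 2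
      exact_mod_cast this
    have hle : Algebra.adjoin R ({X * (X + C a)} : Set (Polynomial R)) ≤
        AlgHom.equalizer (taylorAlgHom a) (AlgHom.id R R[X]) := by
      rw [Algebra.adjoin_le_iff]
      intro p hp
      rw [Set.mem_singleton_iff] at hp
      subst hp
      change taylor a (X * (X + C a)) = X * (X + C a)
      rw [taylor_mul, taylor_X]
      simp only [taylor_apply, add_comp, X_comp, C_comp]
      have : (C a + C a : R[X]) = 0 := by rw [← C_add, ← two_mul, h2, zero_mul, C_0]
      have h3 : X + C a + C a = (X : R[X]) := by rw [add_assoc, this, add_zero]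
      rw [h3]; ring
    have := hle hf
    exact this

end Groth.Agent.S18019
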