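import Groth.Statements.S18020
import Mathlib

set_option autoImplicit false
open W4c5stacksedinertia

namespace Groth.Agent.S18020

universe u

open W4c5stacksedinertia in
/-- the representative of the class of `G` is isomorphic to `G` -/
theorem nonempty_rep_mulEquiv (G : Type u) [Group G] [Finite G] :
    Nonempty ((Idx.of G).rep ≃* G) := by
  have h1 : FinGrp.setoid.r (Quotient.out (s := FinGrp.setoid) (Idx.of G)) (FinGrp.of G) :=
    Quotient.exact (Quotient.out_eq _)
  obtain ⟨e⟩ := h1
  -- (FinGrp.of G).carrier ≃* G
  let e2 : (FinGrp.of G).carrier ≃* G :=
    (Nat.equivFinOfCardPos (α := G) Nat.card_pos.ne').symm.mulEquiv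
  exact ⟨e.trans e2⟩

open W4c5stacksedinertia in
theorem card_of (G : Type u) [Group G] [Finite G] : (Idx.of G).card = Nat.card G := by
  obtain ⟨e⟩ := nonempty_rep_mulEquiv G
  exact Nat.card_congr e.toEquiv

open W4c5stacksedinertia in
theorem inertiaROf_mem (n : ℕ) (G : Type u) [Group G] [Finite G] (hG : Nat.card G ≤ n) (r : ℕ) :
    inertiaROf r G ∈ Kle n := by
  unfold inertiaROf
  apply finsum_induction (p := fun x => x ∈ Kle n)
  · exact (Kle n).zero_mem
  · intro x y hx hy; exact (Kle n).add_mem hx hy
  · intro O
    unfold cl Kle
    rw [Finsupp.mem_supported]
    intro i hi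
    have : i = Idx.of (Subgroup.centralizer (Set.range (Quotient.out (s := CommTuple.setoid G r) O).1)) := by
      by_contra hne
      simp only [Finset.mem_coe, Finsupp.mem_support_iff] at hi
      apply hi
      exact Finsupp.single_eq_of_ne hne
    rw [this]
    change Idx.card _ ≤ n
    rw [card_of]
    exact (Subgroup.card_le_card_group _).trans hG

open W4c5stacksedinertia in
/-- In the rational vector space K with basis the isomorphism classes of finite groups (the class of a
group standing for its classifying groupoid), the inertia operator, which sends the class of a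
finite group to the sum over its conjugacy classes of the classes of the centralizers of
representatives, preserves the subspace spanned by the classes of groups of order at most `n`. -/
theorem result (n : ℕ) (v : K) (hv : v ∈ Kle n) :
    inertia v ∈ Kle n := by
  unfold inertia inertiaR
  rw [Finsupp.linearCombination_apply]
  unfold Kle at hv
  rw [Finsupp.mem_supported] at hv
  apply Submodule.sum_mem
  intro i hi
  apply Submodule.smul_mem
  have hi' : i.card ≤ n := hv hi
  exact inertiaROf_mem n i.rep hi' 1

end Groth.Agent.S18020
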