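import Groth.Statements.S18049
import Mathlib

set_option autoImplicit false
open STCI

namespace Groth.Agent.S18049

/-- For natural numbers 0 < k < N such that k does not divide N, ⌊N/k⌋ ≤ (N - k)/gcd(k, N); stated here
in the equivalent cleared form ⌊N/k⌋ · gcd(k, N) ≤ N - k. -/
theorem result (k N : ℕ) (hk : 0 < k) (hkN : k < N) (hndvd : ¬ k ∣ N) :
    N / k * Nat.gcd k N ≤ N - k := by
  -- Let g = gcd k N, k = g a, N = g b, with a ∤ b. N/k = b / a. Want (b/a) * g ≤ g b - g a, i.e. b/a ≤ b - a.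
  set g := Nat.gcd k N with hg
  have hgpos : 0 < g := Nat.gcd_pos_of_pos_left N hk
  obtain ⟨a, ha⟩ : g ∣ k := Nat.gcd_dvd_left k N
  obtain ⟨b, hb⟩ : g ∣ N := Nat.gcd_dvd_right k N
  have hapos : 0 < a := by
    rcases Nat.eq_zero_or_pos a with h | h
    · subst h; simp at ha; omega
    · exact h
  have hab : a < b := by
    by_contra hcon
    push Not at hcon
    have : N ≤ k := by rw [ha, hb]; exact Nat.mul_le_mul_left g hcon
    omega
  have hndvd' : ¬ a ∣ b := by
    intro ⟨c, hc⟩
    apply hndvd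
    refine ⟨c, ?_⟩
    rw [hb, ha, hc]; ring
  have hdiv : N / k = b / a := by
    rw [ha, hb]; exact Nat.mul_div_mul_left b a hgpos
  have ha2 : 2 ≤ a := by
    rcases Nat.lt_or_ge a 2 with h | h
    · exfalso; apply hndvd'; have : a = 1 := by omega
      rw [this]; exact one_dvd b
    · exact h
  -- b / a ≤ b - a
  have hkey : b / a ≤ b - a := by
    have h1 : b / a * a ≤ b := Nat.div_mul_le_self b a
    have hq : 1 ≤ b / a := Nat.div_pos hab.le hapos
    -- b/a * a ≤ b, a ≥ 2: b/a + a ≤ b/a * a (when both ≥ 2 or ...). 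
    set q := b / a with hq'
    -- q * a ≤ b and b ≠ q * a, so q * a + 1 ≤ b. Need q + a ≤ b. q + a ≤ q * a + 1 since (q-1)(a-1) ≥ 0.
    have hne : q * a ≠ b := by
      intro h; apply hndvd'; exact ⟨q, by rw [← h]; ring⟩
    have h2 : q * a + 1 ≤ b := by omega
    have h3 : q + a ≤ q * a + 1 := by nlinarith
    omega
  rw [hdiv, hb, ha, ← Nat.mul_sub]
  calc b / a * g ≤ (b - a) * g := Nat.mul_le_mul_right g hkey
    _ = g * (b - a) := by ring

end Groth.Agent.S18049
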