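import Mathlib
import Groth.Statements.S18050

set_option autoImplicit false
open STCI

namespace Groth.Agent.S18050

open W4c5stcicurvesp3

lemma irem_shift (a b : ℕ) (hr : a % b ≠ 0) : ∀ n, irem a b (n + 1) = irem b (a % b) n := by
  have key : ∀ n, irem a b (n + 1) = irem b (a % b) n ∧ irem a b (n + 2) = irem b (a % b) (n + 1) := by
    intro n
    induction n with
    | zero =>
      refine ⟨rfl, ?_⟩
      show (if irem a b 1 = 0 then 0 else irem a b 0 % irem a b 1) = b % (a % b)
      have : irem a b 1 = a % b := rfl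
      rw [this, if_neg hr]; rfl
    | succ n ih =>
      refine ⟨ih.2, ?_⟩
      show (if irem a b (n + 2) = 0 then 0 else irem a b (n + 1) % irem a b (n + 2)) =
        (if irem b (a % b) (n + 1) = 0 then 0 else irem b (a % b) n % irem b (a % b) (n + 1))
      rw [ih.1, ih.2]
  exact fun n => (key n).1

lemma idiv_shift (a b : ℕ) (hr : a % b ≠ 0) : ∀ n, idiv a b (n + 2) = idiv b (a % b) (n + 1) := by
  intro n
  cases n with
  | zero =>
    show (if irem a b 1 = 0 then 0 else irem a b 0 / irem a b 1) = b / (a % b)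
    have : irem a b 1 = a % b := rfl
    rw [this, if_neg hr]; rfl
  | succ n =>
    show (if irem a b (n + 2) = 0 then 0 else irem a b (n + 1) / irem a b (n + 2)) =
      (if irem b (a % b) (n + 1) = 0 then 0 else irem b (a % b) n / irem b (a % b) (n + 1))
    rw [irem_shift a b hr (n + 1), irem_shift a b hr n]

theorem main : ∀ k : ℕ, ∀ N t : ℕ, 0 < k → k ≤ N → 0 < t →
    irem N k t = 0 → (∀ i, 0 < i → i < t → irem N k i ≠ 0) →
    (∑ i ∈ Finset.Icc 1 t, idiv N k i) * Nat.gcd k N ≤ N := by
  intro k
  induction k using Nat.strong_induction_on with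
  | _ k ih =>
    intro N t hk hkN ht hzero hmin
    by_cases ht1 : t = 1
    · subst ht1
      have h0 : N % k = 0 := hzero
      have hdvd : k ∣ N := Nat.dvd_of_mod_eq_zero h0
      rw [Finset.Icc_self, Finset.sum_singleton, Nat.gcd_eq_left hdvd]
      show N / k * k ≤ N
      exact Nat.div_mul_le_self N k
    · have ht2 : 2 ≤ t := by omega
      have hr : N % k ≠ 0 := hmin 1 one_pos (by omega)
      have hrk : N % k < k := Nat.mod_lt N hk
      obtain ⟨t', rfl⟩ : ∃ t', t = t' + 1 := ⟨t - 1, by omega⟩
      have ht' : 0 < t' := by omega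
      have hzero' : irem k (N % k) t' = 0 := by rw [← irem_shift N k hr]; exact hzero
      have hmin' : ∀ i, 0 < i → i < t' → irem k (N % k) i ≠ 0 := by
        intro i hi hit
        rw [← irem_shift N k hr]
        exact hmin (i + 1) (by omega) (by omega)
      have IH := ih (N % k) hrk k t' (Nat.pos_of_ne_zero hr) hrk.le ht' hzero' hmin'
      have hg : Nat.gcd (N % k) k = Nat.gcd k N := (Nat.gcd_rec k N).symm
      rw [hg] at IH
      have hsum : ∑ i ∈ Finset.Icc 1 (t' + 1), idiv N k i
          = N / k + ∑ i ∈ Finset.Icc 1 t', idiv k (N % k) i := by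
        rw [← Finset.Ico_add_one_right_eq_Icc, ← Finset.Ico_add_one_right_eq_Icc,
          Finset.sum_Ico_eq_sum_range, Finset.sum_Ico_eq_sum_range]
        simp only [Nat.add_sub_cancel]
        rw [Finset.sum_range_succ']
        rw [add_comm]
        congr 1
        apply Finset.sum_congr rfl
        intro i _
        rw [show 1 + (i + 1) = i + 2 by ring, show 1 + i = i + 1 by ring]
        exact idiv_shift N k hr i
      rw [hsum]
      set g := Nat.gcd k N with hgdef
      set S := ∑ i ∈ Finset.Icc 1 t', idiv k (N % k) i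
      have hgr : g ≤ N % k := by
        apply Nat.le_of_dvd (Nat.pos_of_ne_zero hr)
        exact (Nat.dvd_mod_iff (Nat.gcd_dvd_left k N)).mpr (Nat.gcd_dvd_right k N)
      have hq : 1 ≤ N / k := (Nat.one_le_div_iff hk).mpr hkN
      have hN : N = N / k * k + N % k := by rw [mul_comm]; exact (Nat.div_add_mod N k).symm
      obtain ⟨q, hq'⟩ : ∃ q, N / k = q + 1 := ⟨N / k - 1, by omega⟩
      obtain ⟨m, hm⟩ : ∃ m, k = g + m := ⟨k - g, by omega⟩
      rw [hq'] at hN ⊢
      nlinarith [Nat.zero_le (q * m)]

theorem result (k N t : ℕ) (hk : 0 < k) (hkN : k ≤ N) (ht : 0 < t)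
    (hzero : irem N k t = 0) (hmin : ∀ i, 0 < i → i < t → irem N k i ≠ 0) :
    (∑ i ∈ Finset.Icc 1 t, idiv N k i) * Nat.gcd k N ≤ N := by
  exact main k N t hk hkN ht hzero hmin

end Groth.Agent.S18050
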