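import Groth.Statements.S18051
import Mathlib

set_option autoImplicit false
open STCI

namespace Groth.Agent.S18051

open W4c5stcicurvesp3 in
/-- Let k ≤ N/2 be positive integers and let r_i = rem_i(N, k), d_i = div_i(N, k) be the iterated
Euclidean remainders and quotients of (N, k) (r_0 = k, r_1 = N mod k, r_2 = r_0 mod r_1, d_1 =
⌊N/k⌋, d_2 = ⌊r_0/r_1⌋). If the least positive t with r_t = 0 satisfies t ≥ 3, i.e. r_1 ≠ 0 and r_2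
≠ 0, then (r_0 - r_1)/d_1 + (r_1 - r_2)/(d_1 + d_2) + r_2/(d_1 + d_2 + 1) ≤ k²/N (in ℚ). -/
theorem result (k N : ℕ) (hk : 0 < k) (hkN : 2 * k ≤ N)
    (h1 : irem N k 1 ≠ 0) (h2 : irem N k 2 ≠ 0) :
    ((irem N k 0 : ℚ) - irem N k 1) / (idiv N k 1)
      + ((irem N k 1 : ℚ) - irem N k 2) / ((idiv N k 1 : ℚ) + idiv N k 2)
      + (irem N k 2 : ℚ) / ((idiv N k 1 : ℚ) + idiv N k 2 + 1)
      ≤ (k : ℚ) ^ 2 / N := by
  have e0 : irem N k 0 = k := rfl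
  have e1 : irem N k 1 = N % k := rfl
  have e2 : irem N k 2 = k % (N % k) := by
    have : irem N k 2 = if irem N k 1 = 0 then 0 else irem N k 0 % irem N k 1 := rfl
    rw [this, if_neg h1, e0, e1]
  have d1 : idiv N k 1 = N / k := rfl
  have d2 : idiv N k 2 = k / (N % k) := by
    have : idiv N k 2 = if irem N k 1 = 0 then 0 else irem N k 0 / irem N k 1 := rfl
    rw [this, if_neg h1, e0, e1]
  rw [e1] at h1
  rw [e2] at h2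
  rw [e0, e1, e2, d1, d2]
  set r := N % k with hr
  set s := k % r with hs
  set a := N / k with ha
  set b := k / r with hb
  have hN : N = k * a + r := (Nat.div_add_mod N k).symm
  have hk' : k = r * b + s := (Nat.div_add_mod k r).symm
  have hrk : r < k := Nat.mod_lt _ hk
  have hsr : s < r := Nat.mod_lt _ (Nat.pos_of_ne_zero h1)
  have ha2 : 2 ≤ a := by
    rw [ha, Nat.le_div_iff_mul_le hk]; omega
  have hb1 : 1 ≤ b := by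
    rw [hb]; exact Nat.div_pos (le_of_lt hrk) (Nat.pos_of_ne_zero h1)
  -- cast to ℚ and shift
  clear_value a b r s
  obtain ⟨A, rfl⟩ : ∃ A, a = A + 2 := ⟨a - 2, by omega⟩
  obtain ⟨B, rfl⟩ : ∃ B, b = B + 1 := ⟨b - 1, by omega⟩
  obtain ⟨R, hR⟩ : ∃ R, r = s + R := ⟨r - s, by omega⟩
  have hNq : (N : ℚ) = (k : ℚ) * ((A : ℚ) + 2) + ((s : ℚ) + R) := by
    have := congrArg (fun x : ℕ => (x : ℚ)) hN
    simp only [Nat.cast_add, Nat.cast_mul, hR] at this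
    push_cast at this
    linarith
  have hkq : (k : ℚ) = ((s : ℚ) + R) * ((B : ℚ) + 1) + s := by
    have := congrArg (fun x : ℕ => (x : ℚ)) hk'
    simp only [Nat.cast_add, Nat.cast_mul, hR] at this
    push_cast at this
    linarith
  have hrq : (r : ℚ) = (s : ℚ) + R := by rw [hR]; push_cast; ring
  have hA : (0 : ℚ) ≤ A := Nat.cast_nonneg _
  have hB : (0 : ℚ) ≤ B := Nat.cast_nonneg _
  have hRq : (0 : ℚ) ≤ R := Nat.cast_nonneg _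
  have hS : (0 : ℚ) < s := by exact_mod_cast Nat.pos_of_ne_zero h2
  have hNpos : (0 : ℚ) < N := by
    have : 0 < N := by omega
    exact_mod_cast this
  push_cast
  rw [hrq]
  have hD1 : (0 : ℚ) < (A : ℚ) + 2 := by linarith
  have hD2 : (0 : ℚ) < (A : ℚ) + 2 + ((B : ℚ) + 1) := by linarith
  have hD3 : (0 : ℚ) < (A : ℚ) + 2 + ((B : ℚ) + 1) + 1 := by linarith
  have hL : ((k : ℚ) - ((s : ℚ) + R)) / ((A : ℚ) + 2) + ((s : ℚ) + R - s) / ((A : ℚ) + 2 + ((B : ℚ) + 1))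
      + (s : ℚ) / ((A : ℚ) + 2 + ((B : ℚ) + 1) + 1)
      = (((k : ℚ) - ((s : ℚ) + R)) * ((A : ℚ) + 2 + ((B : ℚ) + 1)) * ((A : ℚ) + 2 + ((B : ℚ) + 1) + 1)
          + ((A : ℚ) + 2) * R * ((A : ℚ) + 2 + ((B : ℚ) + 1) + 1)
          + ((A : ℚ) + 2) * s * ((A : ℚ) + 2 + ((B : ℚ) + 1)))
        / (((A : ℚ) + 2) * ((A : ℚ) + 2 + ((B : ℚ) + 1)) * ((A : ℚ) + 2 + ((B : ℚ) + 1) + 1)) := by
    field_simp
    ring
  rw [hL, div_le_div_iff₀ (by positivity) hNpos, hNq, hkq]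
  have key : (((s : ℚ) + R) * ((B : ℚ) + 1) + s) ^ 2
        * (((A : ℚ) + 2) * ((A : ℚ) + 2 + ((B : ℚ) + 1)) * ((A : ℚ) + 2 + ((B : ℚ) + 1) + 1))
      - ((((s : ℚ) + R) * ((B : ℚ) + 1) + s - ((s : ℚ) + R)) * ((A : ℚ) + 2 + ((B : ℚ) + 1))
            * ((A : ℚ) + 2 + ((B : ℚ) + 1) + 1)
          + ((A : ℚ) + 2) * R * ((A : ℚ) + 2 + ((B : ℚ) + 1) + 1)
          + ((A : ℚ) + 2) * s * ((A : ℚ) + 2 + ((B : ℚ) + 1)))
        * ((((s : ℚ) + R) * ((B : ℚ) + 1) + s) * ((A : ℚ) + 2) + ((s : ℚ) + R))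
      = 19*A*B*R*s + 5*A*B*R^2 + 14*A*B*s^2 + 13*A*B^2*R*s + 6*A*B^2*R^2 + 7*A*B^2*s^2
        + 2*A*B^3*R*s + 1*A*B^3*R^2 + 1*A*B^3*s^2 + 4*A*R*s + 8*A*s^2 + 4*A^2*B*R*s
        + 1*A^2*B*R^2 + 3*A^2*B*s^2 + 2*A^2*B^2*R*s + 1*A^2*B^2*R^2 + 1*A^2*B^2*s^2
        + 1*A^2*R*s + 2*A^2*s^2 + 15*B*R*s + 4*B*R^2 + 11*B*s^2 + 11*B^2*R*s + 5*B^2*R^2
        + 6*B^2*s^2 + 2*B^3*R*s + 1*B^3*R^2 + 1*B^3*s^2 + 2*R*s + 6*s^2 := by ring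
  have hpos : (0 : ℚ) ≤ 19*A*B*R*s + 5*A*B*R^2 + 14*A*B*s^2 + 13*A*B^2*R*s + 6*A*B^2*R^2 + 7*A*B^2*s^2
        + 2*A*B^3*R*s + 1*A*B^3*R^2 + 1*A*B^3*s^2 + 4*A*R*s + 8*A*s^2 + 4*A^2*B*R*s
        + 1*A^2*B*R^2 + 3*A^2*B*s^2 + 2*A^2*B^2*R*s + 1*A^2*B^2*R^2 + 1*A^2*B^2*s^2
        + 1*A^2*R*s + 2*A^2*s^2 + 15*B*R*s + 4*B*R^2 + 11*B*s^2 + 11*B^2*R*s + 5*B^2*R^2
        + 6*B^2*s^2 + 2*B^3*R*s + 1*B^3*R^2 + 1*B^3*s^2 + 2*R*s + 6*s^2 := by positivity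
  linarith

end Groth.Agent.S18051
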