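import Groth.Statements.S18052
import Mathlib
import Groth.Agent.S18051

set_option autoImplicit false
open STCI

namespace Groth.Agent.S18052

open W4c5stcicurvesp3 in
/-- Let k ≤ N/2 be positive integers, let r_i = rem_i(N, k) and d_i = div_i(N, k) be the iterated
Euclidean remainders and quotients of (N, k) (r_0 = k, r_1 = N mod k, …; d_1 = ⌊N/k⌋, d_i =
⌊r_{i-2}/r_{i-1}⌋), and let t be the least positive integer with r_t = 0. Then the sum over i = 0,
…, t - 1 of (r_i - r_{i+1})/(d_1 + ⋯ + d_{i+1}) is at most k²/N (in ℚ). -/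
theorem result (k N t : ℕ) (hk : 0 < k) (hkN : 2 * k ≤ N) (ht : 0 < t)
    (hzero : irem N k t = 0) (hmin : ∀ i, 0 < i → i < t → irem N k i ≠ 0) :
    ∑ i ∈ Finset.range t, ((irem N k i : ℚ) - irem N k (i + 1)) / (∑ j ∈ Finset.Icc 1 (i + 1), (idiv N k j : ℚ))
      ≤ (k : ℚ) ^ 2 / N := by
  -- general facts
  have hstep : ∀ n, irem N k (n + 2) = if irem N k (n + 1) = 0 then 0 else irem N k n % irem N k (n + 1) :=
    fun n => rfl
  have hdstep : ∀ n, idiv N k (n + 2) = if irem N k (n + 1) = 0 then 0 else irem N k n / irem N k (n + 1) :=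
    fun n => rfl
  have e0 : irem N k 0 = k := rfl
  have e1 : irem N k 1 = N % k := rfl
  have d1 : idiv N k 1 = N / k := rfl
  have hanti : ∀ n, irem N k (n + 1) ≤ irem N k n := by
    intro n
    match n with
    | 0 => rw [e0, e1]; exact le_of_lt (Nat.mod_lt _ hk)
    | (n + 1) =>
      rw [hstep]
      split_ifs with h
      · exact Nat.zero_le _
      · exact le_of_lt (Nat.mod_lt _ (Nat.pos_of_ne_zero h))
  have ha2 : 2 ≤ N / k := by rw [Nat.le_div_iff_mul_le hk]; omega
  have hD1pos : ∀ i, (0 : ℚ) < ∑ j ∈ Finset.Icc 1 (i + 1), (idiv N k j : ℚ) := by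
    intro i
    have : (idiv N k 1 : ℚ) ≤ ∑ j ∈ Finset.Icc 1 (i + 1), (idiv N k j : ℚ) :=
      Finset.single_le_sum (f := fun j => (idiv N k j : ℚ)) (fun j _ => Nat.cast_nonneg _)
        (by simp)
    have h2 : (2 : ℚ) ≤ idiv N k 1 := by rw [d1]; exact_mod_cast ha2
    linarith
  have hNpos : (0 : ℚ) < N := by
    have : 0 < N := by omega
    exact_mod_cast this
  rcases Nat.lt_or_ge t 3 with ht3 | ht3
  · -- t = 1 or t = 2
    rcases Nat.lt_or_ge t 2 with ht2 | ht2
    · have ht1 : t = 1 := by omega
      subst ht1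
      rw [e1] at hzero
      have hNk : N = k * (N / k) := by
        have := Nat.div_add_mod N k
        rw [hzero, add_zero] at this
        exact this.symm
      rw [Finset.sum_range_one]
      simp only [zero_add, Finset.Icc_self, Finset.sum_singleton, e0, e1, hzero, d1, Nat.cast_zero,
        sub_zero]
      have hq : (N : ℚ) = (k : ℚ) * ((N / k : ℕ) : ℚ) := by exact_mod_cast hNk
      have hapos : (0 : ℚ) < ((N / k : ℕ) : ℚ) := by
        have : 0 < N / k := by omega
        exact_mod_cast this
      have hkpos : (0 : ℚ) < k := by exact_mod_cast hk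
      rw [div_le_div_iff₀ hapos hNpos]
      rw [hq]; nlinarith
    · have ht2' : t = 2 := by omega
      subst ht2'
      have h1 : irem N k 1 ≠ 0 := hmin 1 (by norm_num) (by norm_num)
      have e2 : irem N k 2 = k % (N % k) := by rw [hstep, if_neg h1, e0, e1]
      have d2 : idiv N k 2 = k / (N % k) := by rw [hdstep, if_neg h1, e0, e1]
      rw [e1] at h1
      rw [e2] at hzero
      rw [Finset.sum_range_succ, Finset.sum_range_one]
      have hI1 : Finset.Icc 1 (0 + 1) = {1} := by simp
      have hI2 : Finset.Icc 1 (1 + 1) = {1, 2} := by decide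
      rw [hI1, hI2, Finset.sum_singleton, Finset.sum_pair (by norm_num)]
      simp only [zero_add, e0, e1, e2, hzero, d1, d2, Nat.cast_zero, sub_zero]
      set r := N % k with hr
      set a := N / k with ha
      set b := k / r with hb
      have hN : N = k * a + r := (Nat.div_add_mod N k).symm
      have hk' : k = r * b := by
        have := Nat.div_add_mod k r
        rw [hzero, add_zero] at this
        exact this.symm
      have hrk : r < k := Nat.mod_lt _ hk
      have hb2 : 2 ≤ b := by
        by_contra hlt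
        push Not at hlt
        have : b ≤ 1 := by omega
        have : k ≤ r := by
          calc k = r * b := hk'
            _ ≤ r * 1 := Nat.mul_le_mul_left r this
            _ = r := Nat.mul_one r
        omega
      clear_value a b r
      obtain ⟨A, rfl⟩ : ∃ A, a = A + 2 := ⟨a - 2, by omega⟩
      obtain ⟨B, rfl⟩ : ∃ B, b = B + 2 := ⟨b - 2, by omega⟩
      have hNq : (N : ℚ) = (k : ℚ) * ((A : ℚ) + 2) + r := by
        have := congrArg (fun x : ℕ => (x : ℚ)) hN
        push_cast at this
        linarith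
      have hkq : (k : ℚ) = (r : ℚ) * ((B : ℚ) + 2) := by
        have := congrArg (fun x : ℕ => (x : ℚ)) hk'
        push_cast at this
        linarith
      have hA : (0 : ℚ) ≤ A := Nat.cast_nonneg _
      have hB : (0 : ℚ) ≤ B := Nat.cast_nonneg _
      have hrq : (0 : ℚ) < r := by exact_mod_cast Nat.pos_of_ne_zero h1
      push_cast
      have hL : ((k : ℚ) - r) / ((A : ℚ) + 2) + (r : ℚ) / ((A : ℚ) + 2 + ((B : ℚ) + 2))
          = (((k : ℚ) - r) * ((A : ℚ) + 2 + ((B : ℚ) + 2)) + r * ((A : ℚ) + 2))
            / (((A : ℚ) + 2) * ((A : ℚ) + 2 + ((B : ℚ) + 2))) := by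
        field_simp
      rw [hL, div_le_div_iff₀ (by positivity) hNpos, hNq, hkq]
      have : 0 ≤ (r : ℚ) ^ 2 * ((B : ℚ) + 2) * ((B : ℚ) + 1) * ((A : ℚ) + 1) := by positivity
      nlinarith [this]
  · -- t ≥ 3
    have h1 : irem N k 1 ≠ 0 := hmin 1 (by norm_num) (by omega)
    have h2 : irem N k 2 ≠ 0 := hmin 2 (by norm_num) (by omega)
    have key := Groth.Agent.S18051.result k N hk hkN h1 h2
    have hI1 : Finset.Icc 1 (0 + 1) = {1} := by simp
    have hI2 : Finset.Icc 1 (1 + 1) = {1, 2} := by decide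
    -- split the sum
    have hsplit : ∑ i ∈ Finset.range t, ((irem N k i : ℚ) - irem N k (i + 1))
          / (∑ j ∈ Finset.Icc 1 (i + 1), (idiv N k j : ℚ))
        = ((irem N k 0 : ℚ) - irem N k 1) / (idiv N k 1)
          + ((irem N k 1 : ℚ) - irem N k 2) / ((idiv N k 1 : ℚ) + idiv N k 2)
          + ∑ i ∈ Finset.Ico 2 t, ((irem N k i : ℚ) - irem N k (i + 1))
              / (∑ j ∈ Finset.Icc 1 (i + 1), (idiv N k j : ℚ)) := by
      rw [Finset.range_eq_Ico, ← Finset.sum_Ico_consecutive _ (by norm_num : 0 ≤ 2) (by omega : 2 ≤ t)]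
      congr 1
      rw [← Finset.range_eq_Ico, Finset.sum_range_succ, Finset.sum_range_one, hI1, hI2,
        Finset.sum_singleton, Finset.sum_pair (by norm_num)]
    rw [hsplit]
    have hd3 : 1 ≤ idiv N k 3 := by
      rw [hdstep, if_neg h2]
      exact Nat.div_pos (hanti 1) (Nat.pos_of_ne_zero h2)
    have hDge : ∀ i ∈ Finset.Ico 2 t, (idiv N k 1 : ℚ) + idiv N k 2 + 1
        ≤ ∑ j ∈ Finset.Icc 1 (i + 1), (idiv N k j : ℚ) := by
      intro i hi
      rw [Finset.mem_Ico] at hi
      have hsub : Finset.Icc 1 3 ⊆ Finset.Icc 1 (i + 1) := by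
        intro j hj
        rw [Finset.mem_Icc] at hj ⊢
        omega
      have h3 : ∑ j ∈ Finset.Icc 1 3, (idiv N k j : ℚ) ≤ ∑ j ∈ Finset.Icc 1 (i + 1), (idiv N k j : ℚ) :=
        Finset.sum_le_sum_of_subset_of_nonneg hsub (fun j _ _ => Nat.cast_nonneg _)
      have hI3 : Finset.Icc 1 3 = {1, 2, 3} := by decide
      rw [hI3, Finset.sum_insert (by decide), Finset.sum_pair (by norm_num)] at h3
      have : (1 : ℚ) ≤ idiv N k 3 := by exact_mod_cast hd3
      linarith
    have htail : ∑ i ∈ Finset.Ico 2 t, ((irem N k i : ℚ) - irem N k (i + 1))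
          / (∑ j ∈ Finset.Icc 1 (i + 1), (idiv N k j : ℚ))
        ≤ (irem N k 2 : ℚ) / ((idiv N k 1 : ℚ) + idiv N k 2 + 1) := by
      have hpos : (0 : ℚ) < (idiv N k 1 : ℚ) + idiv N k 2 + 1 := by positivity
      calc ∑ i ∈ Finset.Ico 2 t, ((irem N k i : ℚ) - irem N k (i + 1))
              / (∑ j ∈ Finset.Icc 1 (i + 1), (idiv N k j : ℚ))
          ≤ ∑ i ∈ Finset.Ico 2 t, ((irem N k i : ℚ) - irem N k (i + 1))
              / ((idiv N k 1 : ℚ) + idiv N k 2 + 1) := by
            apply Finset.sum_le_sum
            intro i hi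
            have hnn : (0 : ℚ) ≤ (irem N k i : ℚ) - irem N k (i + 1) := by
              have := hanti i
              have : (irem N k (i + 1) : ℚ) ≤ irem N k i := by exact_mod_cast this
              linarith
            exact div_le_div_of_nonneg_left hnn hpos (hDge i hi)
        _ = (irem N k 2 : ℚ) / ((idiv N k 1 : ℚ) + idiv N k 2 + 1) := by
            rw [← Finset.sum_div, Finset.sum_Ico_eq_sum_range]
            have : ∑ i ∈ Finset.range (t - 2), ((irem N k (2 + i) : ℚ) - irem N k (2 + i + 1))
                = (irem N k 2 : ℚ) - irem N k t := by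
              have h := Finset.sum_range_sub' (fun i => (irem N k (2 + i) : ℚ)) (t - 2)
              have ht' : 2 + (t - 2) = t := by omega
              simp only [ht', add_zero] at h
              rw [← h]
              refine Finset.sum_congr rfl fun i _ => ?_
              rw [add_assoc]
            rw [this, hzero]; simp
    linarith

end Groth.Agent.S18052
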