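import Groth.Statements.S18053
import Mathlib

set_option autoImplicit false
open STCI

namespace Groth.Agent.S18053

/-- Let (p_k)_{k ≥ 1} be a sequence of nonnegative integers and n a nonnegative integer such that (i)
p_1 ≤ 9 - (2/5)n, (ii) p_1 ≥ p_2 ≥ p_3 ≥ ⋯, (iii) Σ_k p_k ≤ 19 - n, and (iv) n/4 + Σ_{k ≥ 1}
p_k/(k(k+1)) ≥ 6. Then n = 0 and (p_k) is one of (9, 8, 2), (9, 9), (9, 9, 1) (followed by zeros).
Here the sequence is indexed from 0 (so p 0 is p_1 and the weight of p k is 1/((k+1)(k+2))), (iii)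
is stated for every partial sum, and the series in (iv) is the real sum Σ' over all k. -/
theorem result (p : ℕ → ℕ) (n : ℕ)
    (h1 : (p 0 : ℝ) ≤ 9 - (2 / 5 : ℝ) * n) (h2 : Antitone p)
    (h3 : ∀ m : ℕ, ((∑ k ∈ Finset.range m, p k : ℕ) : ℝ) ≤ 19 - (n : ℝ))
    (h4 : (6 : ℝ) ≤ (n : ℝ) / 4 + ∑' k : ℕ, (p k : ℝ) / (((k : ℝ) + 1) * ((k : ℝ) + 2))) :
    n = 0 ∧ (p = (fun k => if k = 0 then 9 else if k = 1 then 8 else if k = 2 then 2 else 0)
      ∨ p = (fun k => if k = 0 then 9 else if k = 1 then 9 else 0)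
      ∨ p = (fun k => if k = 0 then 9 else if k = 1 then 9 else if k = 2 then 1 else 0)) := by
  classical
  -- finite support
  have hzero : ∀ k, 19 ≤ k → p k = 0 := by
    intro k hk
    by_contra hne
    have hpos : ∀ j ∈ Finset.range 20, 1 ≤ p j := by
      intro j hj
      have : j ≤ k := by rw [Finset.mem_range] at hj; omega
      have := h2 this
      omega
    have h20 : 20 ≤ ∑ j ∈ Finset.range 20, p j := by
      calc 20 = ∑ j ∈ Finset.range 20, 1 := by simp
        _ ≤ ∑ j ∈ Finset.range 20, p j := Finset.sum_le_sum hpos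
    have := h3 20
    have h20' : (20 : ℝ) ≤ ((∑ j ∈ Finset.range 20, p j : ℕ) : ℝ) := by exact_mod_cast h20
    have hn0 : (0 : ℝ) ≤ n := Nat.cast_nonneg n
    linarith
  set S3 : ℕ := ∑ k ∈ Finset.Ico 3 19, p k with hS3
  -- the tsum is a finite sum
  have htsum : ∑' k : ℕ, (p k : ℝ) / (((k : ℝ) + 1) * ((k : ℝ) + 2))
      = ∑ k ∈ Finset.range 19, (p k : ℝ) / (((k : ℝ) + 1) * ((k : ℝ) + 2)) := by
    apply tsum_eq_sum
    intro k hk
    rw [Finset.mem_range, not_lt] at hk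
    rw [hzero k hk]; simp
  have hsplit : ∑ k ∈ Finset.range 19, (p k : ℝ) / (((k : ℝ) + 1) * ((k : ℝ) + 2))
      = (p 0 : ℝ) / 2 + (p 1 : ℝ) / 6 + (p 2 : ℝ) / 12
        + ∑ k ∈ Finset.Ico 3 19, (p k : ℝ) / (((k : ℝ) + 1) * ((k : ℝ) + 2)) := by
    rw [Finset.range_eq_Ico, ← Finset.sum_Ico_consecutive _ (by norm_num : 0 ≤ 3)
      (by norm_num : 3 ≤ 19)]
    congr 1
    rw [← Finset.range_eq_Ico, Finset.sum_range_succ, Finset.sum_range_succ, Finset.sum_range_one]
    norm_num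
  have htail : ∑ k ∈ Finset.Ico 3 19, (p k : ℝ) / (((k : ℝ) + 1) * ((k : ℝ) + 2))
      ≤ (S3 : ℝ) / 20 := by
    rw [hS3, Nat.cast_sum, Finset.sum_div]
    apply Finset.sum_le_sum
    intro k hk
    rw [Finset.mem_Ico] at hk
    have hk3 : (3 : ℝ) ≤ k := by exact_mod_cast hk.1
    have hpk : (0 : ℝ) ≤ p k := Nat.cast_nonneg _
    apply div_le_div_of_nonneg_left hpk (by norm_num)
    nlinarith
  -- natural number inequalities
  have hsum19 := h3 19
  have hsum19' : ∑ k ∈ Finset.range 19, p k = p 0 + p 1 + p 2 + S3 := by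
    rw [Finset.range_eq_Ico, ← Finset.sum_Ico_consecutive _ (by norm_num : 0 ≤ 3)
      (by norm_num : 3 ≤ 19)]
    congr 1
    rw [← Finset.range_eq_Ico, Finset.sum_range_succ, Finset.sum_range_succ, Finset.sum_range_one]
  rw [hsum19'] at hsum19
  have e1 : p 0 + p 1 + p 2 + S3 + n ≤ 19 := by
    have : ((p 0 + p 1 + p 2 + S3 + n : ℕ) : ℝ) ≤ 19 := by push_cast at hsum19 ⊢; linarith
    exact_mod_cast this
  have e2 : 5 * p 0 + 2 * n ≤ 45 := by
    have : ((5 * p 0 + 2 * n : ℕ) : ℝ) ≤ 45 := by push_cast; linarith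
    exact_mod_cast this
  have e3 : 360 ≤ 15 * n + 30 * p 0 + 10 * p 1 + 5 * p 2 + 3 * S3 := by
    have : (360 : ℝ) ≤ ((15 * n + 30 * p 0 + 10 * p 1 + 5 * p 2 + 3 * S3 : ℕ) : ℝ) := by
      push_cast
      rw [htsum, hsplit] at h4
      linarith
    exact_mod_cast this
  have e4 : p 1 ≤ p 0 := h2 (by norm_num)
  have e5 : p 2 ≤ p 1 := h2 (by norm_num)
  have e6 : S3 ≤ 16 * p 2 := by
    rw [hS3]
    calc ∑ k ∈ Finset.Ico 3 19, p k ≤ ∑ k ∈ Finset.Ico 3 19, p 2 := by
          apply Finset.sum_le_sum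
          intro k hk
          rw [Finset.mem_Ico] at hk
          exact h2 (by omega)
      _ = 16 * p 2 := by simp
  have e7 : 53 ≤ 2 * n + 5 * p 0 + p 1 := by omega
  have hc8 : 8 ≤ p 1 := by omega
  have hn2 : n ≤ 2 := by omega
  have hb9 : p 0 ≤ 9 := by omega
  have hn : n = 0 := by
    rcases Nat.lt_or_ge n 1 with h | h
    · omega
    · exfalso
      have hb8 : p 0 = 8 := by omega
      have hc8' : p 1 = 8 := by omega
      omega
  have hp0 : p 0 = 9 := by omega
  have hS30 : S3 = 0 := by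
    rcases Nat.lt_or_ge (p 1) 9 with h | h
    · have : p 1 = 8 := by omega
      omega
    · have : p 1 = 9 := by omega
      omega
  have hp3 : ∀ k, 3 ≤ k → p k = 0 := by
    intro k hk
    have h3z : p 3 = 0 := by
      have := Finset.sum_eq_zero_iff.mp hS30 3 (by simp)
      exact this
    have := h2 hk
    omega
  have hcases : (p 1 = 8 ∧ p 2 = 2) ∨ (p 1 = 9 ∧ p 2 = 0) ∨ (p 1 = 9 ∧ p 2 = 1) := by
    rcases Nat.lt_or_ge (p 1) 9 with h | h
    · have : p 1 = 8 := by omega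
      omega
    · have : p 1 = 9 := by omega
      omega
  refine ⟨hn, ?_⟩
  rcases hcases with ⟨h1', h2'⟩ | ⟨h1', h2'⟩ | ⟨h1', h2'⟩
  · left
    funext k
    match k with
    | 0 => simp [hp0]
    | 1 => simp [h1']
    | 2 => simp [h2']
    | (k + 3) => simp [hp3 (k + 3) (by omega)]
  · right; left
    funext k
    match k with
    | 0 => simp [hp0]
    | 1 => simp [h1']
    | 2 => simp [h2']
    | (k + 3) => simp [hp3 (k + 3) (by omega)]
  · right; right
    funext k
    match k with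
    | 0 => simp [hp0]
    | 1 => simp [h1']
    | 2 => simp [h2']
    | (k + 3) => simp [hp3 (k + 3) (by omega)]

end Groth.Agent.S18053
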