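import Groth.Statements.S18054
import Mathlib

set_option autoImplicit false
open STCI

namespace Groth.Agent.S18054

theorem result (s t d g n : ℤ) (hs : 4 ≤ s) (hst : s ≤ t) (hd : 1 ≤ d) (hg : 0 ≤ g)
    (hn : s * t = d * n) (hn2 : 2 ≤ n)
    (hr : 3 * (d * (n * (s - 4) + t) + (2 - 2 * g) * n) ≤ s * (2 * s ^ 2 - 6 * s + 7) - 3) :
    d ≤ g + 3 := by
  by_contra hcon
  push Not at hcon
  have hd4 : 4 ≤ d := by linarith
  -- (★): 3 s t (s-6) + 3 d t + 30 n ≤ 2 s^3 - 6 s^2 + 7 s - 3
  have hstar : 3 * (s * t) * (s - 6) + 3 * d * t + 30 * n ≤ 2 * s ^ 3 - 6 * s ^ 2 + 7 * s - 3 := by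
    have h1 : (10 - 2 * d) * n ≤ (2 - 2 * g) * n := by
      apply mul_le_mul_of_nonneg_right _ (by linarith)
      linarith
    have h2 : d * (n * (s - 4)) = s * t * (s - 4) := by rw [hn]; ring
    have h3 : 2 * d * n = 2 * (s * t) := by rw [hn]; ring
    nlinarith
  rcases lt_or_ge s 6 with hs6 | hs6
  · -- s = 4 or s = 5
    have : s = 4 ∨ s = 5 := by omega
    rcases this with rfl | rfl
    · -- s = 4
      have h1 : -24 * t + 3 * d * t + 30 * n ≤ 57 := by nlinarith
      rcases le_or_gt 8 d with hd8 | hd8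
      · have : 0 ≤ 3 * t * (d - 8) := by
          apply mul_nonneg (by linarith) (by linarith)
        nlinarith
      · interval_cases d
        · omega
        · omega
        · omega
        · omega
    · -- s = 5
      have h1 : 3 * t * (d - 5) + 30 * n ≤ 132 := by nlinarith
      rcases le_or_gt 5 d with hd5 | hd5
      · have h2 : 0 ≤ 3 * t * (d - 5) := mul_nonneg (by linarith) (by linarith)
        have hn4 : n ≤ 4 := by omega
        have h3 : 15 * (d - 5) ≤ 3 * t * (d - 5) := by
          apply mul_le_mul_of_nonneg_right (by linarith) (by linarith)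
        have hd9 : d ≤ 9 := by omega
        interval_cases d <;> interval_cases n <;> omega
      · have : d = 4 := by omega
        subst this
        omega
  · -- s ≥ 6
    have hX : 3 * d * t + 30 * n ≤ -s ^ 3 + 12 * s ^ 2 + 7 * s - 3 := by
      have h1 : s * s ≤ s * t := mul_le_mul_of_nonneg_left hst (by linarith)
      have h2 : 3 * (s * s) * (s - 6) ≤ 3 * (s * t) * (s - 6) := by
        apply mul_le_mul_of_nonneg_right (by linarith) (by linarith)
      nlinarith
    have hXpos : 0 < 3 * d * t + 30 * n := by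
      have : 0 < d * t := mul_pos (by linarith) (by linarith)
      nlinarith
    have hsq : 360 * s ^ 3 ≤ (3 * d * t + 30 * n) ^ 2 := by
      have h1 : 360 * t * (d * n) ≤ (3 * d * t + 30 * n) ^ 2 := by
        nlinarith [sq_nonneg (3 * d * t - 30 * n)]
      rw [← hn] at h1
      have h2 : s * s ≤ t * t := mul_le_mul hst hst (by linarith) (by linarith)
      have h3 : 360 * s * (s * s) ≤ 360 * s * (t * t) :=
        mul_le_mul_of_nonneg_left h2 (by linarith)
      nlinarith
    rcases le_or_gt s 12 with hs12 | hs12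
    · have hB : (3 * d * t + 30 * n) ^ 2 ≤ (-s ^ 3 + 12 * s ^ 2 + 7 * s - 3) ^ 2 := by
        apply pow_le_pow_left₀ hXpos.le hX
      interval_cases s <;> nlinarith
    · have : -s ^ 3 + 12 * s ^ 2 + 7 * s - 3 < 0 := by nlinarith [sq_nonneg s]
      linarith

end Groth.Agent.S18054
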