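import Groth.Statements.S18055
import Mathlib

set_option autoImplicit false
open STCI

namespace Groth.Agent.S18055

theorem result (d g s t n : ℤ) (hd : 1 ≤ d) (hg : 0 ≤ g) (hs : 1 ≤ s) (hst : s ≤ t)
    (hn : s * t = d * n) (hn2 : 2 ≤ n)
    (hpos : 0 < d * (n * (s - 4) + t) + (2 - 2 * g) * n)
    (hdvd : (n - 1) ∣ d * (n * (s - 4) + t) + (2 - 2 * g) * n) :
    s < 2 * d ^ 2 ∧ t < 2 * d ^ 4 := by
  set r := d * (n * (s - 4) + t) + (2 - 2 * g) * n with hr
  set Q := d * (s + t - 4) + 2 - 2 * g with hQ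
  set c := d ^ 2 + d * s ^ 2 - 4 * d * s + 2 * s - 2 * g * s with hc
  have h1 : r - Q = (n - 1) * (d * (s - 4) + 2 - 2 * g) := by rw [hr, hQ]; ring
  have hQdvd : (n - 1) ∣ Q := by
    have : Q = r - (n - 1) * (d * (s - 4) + 2 - 2 * g) := by rw [← h1]; ring
    rw [this]
    exact dvd_sub hdvd (Dvd.intro _ rfl)
  have h2 : s * Q - c = d ^ 2 * (n - 1) := by
    rw [hQ, hc]
    have : d * s * t = d * (d * n) := by rw [← hn]; ring
    nlinarith [this]
  have hcdvd : (n - 1) ∣ c := by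
    have : c = s * Q - d ^ 2 * (n - 1) := by rw [← h2]; ring
    rw [this]
    exact dvd_sub (Dvd.dvd.mul_left hQdvd s) (Dvd.intro_left _ rfl)
  have h3 : s * r = n * c := by
    rw [hr, hc]
    have : s * t = d * n := hn
    nlinarith [this]
  have hcpos : 0 < c := by
    have hsr : 0 < s * r := mul_pos (by linarith) hpos
    rw [h3] at hsr
    exact (mul_pos_iff_of_pos_left (by linarith : (0:ℤ) < n)).mp hsr
  have hQpos : 0 < Q := by
    have : 0 < s * Q := by
      have : s * Q = c + d ^ 2 * (n - 1) := by rw [← h2]; ring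
      rw [this]
      have : 0 ≤ d ^ 2 * (n - 1) := mul_nonneg (sq_nonneg d) (by linarith)
      linarith
    exact (mul_pos_iff_of_pos_left (by linarith : (0:ℤ) < s)).mp this
  have hle1 : n - 1 ≤ Q := Int.le_of_dvd hQpos hQdvd
  have hle2 : n - 1 ≤ c := Int.le_of_dvd hcpos hcdvd
  -- (*) : s t ≤ d^2 (s+t) - 4 d^2 + 3 d
  have hstar : s * t ≤ d ^ 2 * (s + t) - 4 * d ^ 2 + 3 * d := by
    have : d * (n - 1) ≤ d * Q := mul_le_mul_of_nonneg_left hle1 (by linarith)
    have hQle : Q ≤ d * (s + t - 4) + 2 := by rw [hQ]; linarith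
    have : d * Q ≤ d * (d * (s + t - 4) + 2) := mul_le_mul_of_nonneg_left hQle (by linarith)
    nlinarith
  have hprod : (s - d ^ 2) * (t - d ^ 2) < d ^ 4 := by
    have : d ≤ d ^ 2 := by nlinarith
    nlinarith
  have hs2 : s < 2 * d ^ 2 := by
    by_contra hcon
    push Not at hcon
    have h4 : d ^ 2 ≤ s - d ^ 2 := by linarith
    have h5 : d ^ 2 ≤ t - d ^ 2 := by linarith
    have : d ^ 2 * d ^ 2 ≤ (s - d ^ 2) * (t - d ^ 2) :=
      mul_le_mul h4 h5 (sq_nonneg d) (by linarith [sq_nonneg d])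
    nlinarith
  refine ⟨hs2, ?_⟩
  by_cases hsd : d ^ 2 < s
  · have h4 : 1 ≤ s - d ^ 2 := by linarith
    have h5 : 0 ≤ t - d ^ 2 := by linarith
    have h6 : t - d ^ 2 ≤ (s - d ^ 2) * (t - d ^ 2) := by nlinarith
    have h7 : d ^ 2 ≤ d ^ 4 := by nlinarith [sq_nonneg d, sq_nonneg (d^2)]
    linarith
  · push Not at hsd
    -- t s = d n ≤ d (1 + c)
    have hcle : c ≤ d ^ 2 + d * s ^ 2 - 4 * d * s + 2 * s := by
      rw [hc]; nlinarith
    have h8 : t * s ≤ d * (1 + (d ^ 2 + d * s ^ 2 - 4 * d * s + 2 * s)) := by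
      have : t * s = d * n := by rw [← hn]; ring
      rw [this]
      apply mul_le_mul_of_nonneg_left _ (by linarith)
      linarith
    have h9 : d * (1 + (d ^ 2 + d * s ^ 2 - 4 * d * s + 2 * s)) < 2 * d ^ 4 * s := by
      have e1 : d ^ 2 * s ^ 2 ≤ d ^ 4 * s := by
        have : s * s ≤ d ^ 2 * s := mul_le_mul_of_nonneg_right hsd (by linarith)
        nlinarith [sq_nonneg d]
      have e2 : 2 * d * s ≤ 2 * d ^ 2 * s := by nlinarith
      have e3 : d ≤ d ^ 2 * s := by nlinarith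
      have e4 : d ^ 3 ≤ d ^ 4 * s := by
        have : d ^ 3 ≤ d ^ 4 := by nlinarith [sq_nonneg d, pow_pos (by linarith : (0:ℤ) < d) 3]
        have : d ^ 4 ≤ d ^ 4 * s := by nlinarith [pow_pos (by linarith : (0:ℤ) < d) 4]
        linarith
      have e5 : 0 < d ^ 2 * s := by positivity
      nlinarith
    have : t * s < 2 * d ^ 4 * s := lt_of_le_of_lt h8 h9
    exact lt_of_mul_lt_mul_right this (by linarith)

end Groth.Agent.S18055
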