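import Groth.Statements.S18056
import Mathlib
import Groth.Agent.Lib.helper14.FSArt
import Groth.Agent.Lib.helper14.LenTensor


set_option autoImplicit false
universe u v
open STCI

namespace H14S18056
open IsLocalRing TensorProduct

section fs
variable {A : Type u} {B : Type v} [CommRing A] [CommRing B] [Algebra A B] (m : Ideal A)
  [m.IsMaximal] [Algebra.FormallySmooth A B]

/-- base change of formal smoothness to the fibre over a maximal ideal, in quotient form -/
theorem formallySmooth_quotient :
    letI := Ideal.Quotient.field m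
    Algebra.FormallySmooth (A ⧸ m) (B ⧸ m.map (algebraMap A B)) := by
  letI := Ideal.Quotient.field m
  apply Algebra.FormallySmooth.of_comp_surjective
  intro C _ _ J hJ g
  letI : Algebra A C := ((algebraMap (A ⧸ m) C).comp (Ideal.Quotient.mk m)).toAlgebra
  haveI : IsScalarTower A (A ⧸ m) C := IsScalarTower.of_algebraMap_eq (fun _ => rfl)
  haveI : IsScalarTower A (A ⧸ m) (C ⧸ J) := IsScalarTower.of_algebraMap_eq (fun _ => rfl)
  let g₀ : B →ₐ[A] C ⧸ J :=
    (g.restrictScalars A).comp (Ideal.Quotient.mkₐ A (m.map (algebraMap A B)))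
  obtain ⟨h, hh⟩ := Algebra.FormallySmooth.comp_surjective A B J hJ g₀
  have hker : ∀ b ∈ m.map (algebraMap A B), h b = 0 := by
    intro b hb
    have : m.map (algebraMap A B) ≤ RingHom.ker h.toRingHom := by
      rw [Ideal.map_le_iff_le_comap]
      intro a ha
      rw [Ideal.mem_comap, RingHom.mem_ker]
      change h (algebraMap A B a) = 0
      rw [h.commutes]
      change algebraMap (A ⧸ m) C (Ideal.Quotient.mk m a) = 0
      rw [Ideal.Quotient.eq_zero_iff_mem.2 ha, map_zero]
    exact this hb
  let hbar : (B ⧸ m.map (algebraMap A B)) →ₐ[A] C := Ideal.Quotient.liftₐ _ h hker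
  have hbar_mk : ∀ b : B, hbar (Ideal.Quotient.mk _ b) = h b := fun _ => rfl
  refine ⟨{ toRingHom := hbar.toRingHom
            commutes' := fun x => ?_ }, ?_⟩
  · obtain ⟨a, rfl⟩ := Ideal.Quotient.mk_surjective x
    change hbar (algebraMap (A ⧸ m) (B ⧸ m.map (algebraMap A B)) (Ideal.Quotient.mk m a)) = _
    have : algebraMap (A ⧸ m) (B ⧸ m.map (algebraMap A B)) (Ideal.Quotient.mk m a) =
        Ideal.Quotient.mk _ (algebraMap A B a) := rfl
    rw [this, hbar_mk, h.commutes]
    rfl
  · ext x
    obtain ⟨b, rfl⟩ := Ideal.Quotient.mk_surjective x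
    have := AlgHom.congr_fun hh b
    exact this

end fs

theorem main (A : Type u) (B : Type v) [CommRing A] [CommRing B]
    [IsLocalRing A] [IsLocalRing B] [IsArtinianRing A] [IsArtinianRing B] [Algebra A B]
    [Module.Flat A B] [Algebra.FormallySmooth A B] :
    Module.length A A = Module.length B B := by
  haveI : IsLocalHom (algebraMap A B) := by
    refine ⟨fun a ha => ?_⟩
    by_contra hna
    have hmem : a ∈ maximalIdeal A := hna
    have hnil : IsNilpotent a := by
      have := IsArtinianRing.isNilpotent_jacobson_bot (R := A)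
      rw [IsLocalRing.jacobson_eq_maximalIdeal ⊥ bot_ne_top] at this
      obtain ⟨n, hn⟩ := this
      refine ⟨n, ?_⟩
      have h1 : a ^ n ∈ maximalIdeal A ^ n := Ideal.pow_mem_pow hmem n
      rw [hn] at h1
      exact h1
    obtain ⟨n, hn⟩ := hnil
    have h2 : IsUnit ((algebraMap A B a) ^ n) := ha.pow n
    rw [← map_pow, hn, map_zero] at h2
    exact not_isUnit_zero h2
  haveI : Module.FaithfullyFlat A B := Module.FaithfullyFlat.of_flat_of_isLocalHom
  have key := H14.LenTensor.main (A := A) (B := B) B A
  rw [(TensorProduct.AlgebraTensorModule.rid A B B).length_eq] at key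
  -- the fibre
  letI := Ideal.Quotient.field (maximalIdeal A)
  haveI := formallySmooth_quotient (A := A) (B := B) (maximalIdeal A)
  have hle : (maximalIdeal A).map (algebraMap A B) ≤ maximalIdeal B :=
    ((IsLocalRing.local_hom_TFAE (algebraMap A B)).out 0 2).1 ‹IsLocalHom (algebraMap A B)›
  have hne : (maximalIdeal A).map (algebraMap A B) ≠ ⊤ :=
    fun h => (maximalIdeal.isMaximal B).ne_top (top_le_iff.1 (h ▸ hle))
  haveI : Nontrivial (B ⧸ (maximalIdeal A).map (algebraMap A B)) :=
    Ideal.Quotient.nontrivial_iff.mpr hne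
  haveI : IsLocalRing (B ⧸ (maximalIdeal A).map (algebraMap A B)) :=
    IsLocalRing.of_surjective' (Ideal.Quotient.mk _) Ideal.Quotient.mk_surjective
  haveI : IsArtinianRing (B ⧸ (maximalIdeal A).map (algebraMap A B)) :=
    Function.Surjective.isArtinianRing (f := Ideal.Quotient.mk _) Ideal.Quotient.mk_surjective
  have hbot := H14.FSArt.maximalIdeal_eq_bot_of_fs (k := A ⧸ maximalIdeal A)
    (R := B ⧸ (maximalIdeal A).map (algebraMap A B))
  have heq : (maximalIdeal A).map (algebraMap A B) = maximalIdeal B := by
    refine le_antisymm hle fun x hx => ?_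
    have h1 : Ideal.Quotient.mk ((maximalIdeal A).map (algebraMap A B)) x ∈
        maximalIdeal (B ⧸ (maximalIdeal A).map (algebraMap A B)) := by
      intro hu
      haveI : IsLocalHom (Ideal.Quotient.mk ((maximalIdeal A).map (algebraMap A B))) :=
        IsLocalHom.of_surjective _ Ideal.Quotient.mk_surjective
      exact hx (isUnit_of_map_unit _ x hu)
    rw [hbot, Ideal.mem_bot, Ideal.Quotient.eq_zero_iff_mem] at h1
    exact h1
  have hsimple : IsSimpleModule B
      (B ⧸ ((maximalIdeal A).map (algebraMap A B)) • (⊤ : Submodule B B)) := by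
    rw [isSimpleModule_iff_isCoatom]
    have : ((maximalIdeal A).map (algebraMap A B)) • (⊤ : Submodule B B) = maximalIdeal B := by
      rw [heq]; simp
    rw [this]
    exact (maximalIdeal.isMaximal B).out
  rw [Module.length_eq_one_iff.2 hsimple, mul_one] at key
  exact key.symm

end H14S18056

namespace Groth.Agent.S18056

/-- Let A → B be a homomorphism of Artinian local rings that is flat and formally smooth, where A has a
subring that is a field. Then A and B have the same length, each as a module over itself. -/
theorem result (A : Type u) (B : Type v) [CommRing A] [CommRing B]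
    [IsLocalRing A] [IsLocalRing B] [IsArtinianRing A] [IsArtinianRing B] [Algebra A B]
    [Module.Flat A B] [Algebra.FormallySmooth A B] (hK : ∃ K : Subring A, IsField K) :
    Module.length A A = Module.length B B := by
  exact H14S18056.main A B

end Groth.Agent.S18056
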