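import Groth.Statements.S18063
import Mathlib
-- import your own Groth.Agent.* helpers here

set_option autoImplicit false
universe u
open CategoryTheory MonoidalCategory CartesianMonoidalCategory MonObj GrpObj AlgebraicGeometry CategoryTheory.Limits
open AlgGrp

namespace Groth.Agent.S18063

namespace H5S18063

open CategoryTheory CategoryTheory.Limits AlgebraicGeometry MonObj MonoidalCategory
  CartesianMonoidalCategory


/-- morphisms from a flat scheme to a separated scheme are determined by their restriction along a
scheme-theoretically dominant quasi-compact base change. -/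
theorem eq_of_map_eq {S T : Scheme.{u}} (j : T ⟶ S) [IsSchemeTheoreticallyDominant j] [QuasiCompact j]
    (X Y : Over S) [Flat X.hom] [IsSeparated Y.hom] (f g : X ⟶ Y)
    (h : (Over.pullback j).map f = (Over.pullback j).map g) : f = g := by
  have hdom : IsSchemeTheoreticallyDominant (pullback.fst X.hom j) := inferInstance
  have heq : pullback.fst X.hom j ≫ f.left = pullback.fst X.hom j ≫ g.left := by
    have e1 : ((Over.pullback j).map f).left ≫ pullback.fst Y.hom j =
        pullback.fst X.hom j ≫ f.left := by
      simp only [Over.pullback_map_left]
      exact pullback.lift_fst _ _ _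
    have e2 : ((Over.pullback j).map g).left ≫ pullback.fst Y.hom j =
        pullback.fst X.hom j ≫ g.left := by
      simp only [Over.pullback_map_left]
      exact pullback.lift_fst _ _ _
    rw [← e1, ← e2, h]
  let j' : Over.mk (pullback.fst X.hom j ≫ X.hom) ⟶ X :=
    Over.homMk (pullback.fst X.hom j) rfl
  have hj : j' ≫ f = j' ≫ g := by
    ext
    exact heq
  let l := equalizer.lift j' hj
  have hl : l.left ≫ (equalizer.ι f g).left = pullback.fst X.hom j := by
    rw [← Over.comp_left, equalizer.lift_ι]
    rfl
  haveI : IsClosedImmersion (equalizer.ι f g).left := inferInstance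
  have hker : (equalizer.ι f g).left.ker = ⊥ := by
    have h1 := Scheme.Hom.le_ker_comp l.left (equalizer.ι f g).left
    rw [hl, hdom.ker_eq_bot] at h1
    exact le_bot_iff.mp h1
  haveI : IsIso (equalizer.ι f g).left := IsClosedImmersion.isIso_iff_ker_eq_bot.mpr hker
  haveI : IsIso ((Over.forget _).map (equalizer.ι f g)) := by
    change IsIso (equalizer.ι f g).left
    infer_instance
  haveI : IsIso (equalizer.ι f g) := isIso_of_reflects_iso (equalizer.ι f g) (Over.forget _)
  exact (cancel_epi (equalizer.ι f g)).mp (equalizer.condition f g)

lemma dom_of_injective {A K : Type u} [CommRing A] [IsDomain A] [CommRing K] [Algebra A K]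
    (hinj : Function.Injective (algebraMap A K)) :
    IsSchemeTheoreticallyDominant (Spec.map (CommRingCat.ofHom (algebraMap A K))) := by
  haveI : IsDominant (Spec.map (CommRingCat.ofHom (algebraMap A K))) := by
    rw [isDominant_iff]
    refine (PrimeSpectrum.denseRange_comap_iff_ker_le_nilRadical _).mpr ?_
    have h0 : RingHom.ker (algebraMap A K) = ⊥ := (RingHom.injective_iff_ker_eq_bot _).mp hinj
    intro x hx
    have : x ∈ RingHom.ker (algebraMap A K) := hx
    rw [h0] at this
    rw [Ideal.mem_bot.mp this]
    exact Ideal.zero_mem _
  exact IsSchemeTheoreticallyDominant.of_isDominant _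

end H5S18063

namespace H5S18063

open CategoryTheory CategoryTheory.Limits AlgebraicGeometry MonObj MonoidalCategory
  CartesianMonoidalCategory


theorem comm_of_generic {S T : Scheme.{u}} (j : T ⟶ S) [IsSchemeTheoreticallyDominant j]
    [QuasiCompact j] (G : Over S) [GrpObj G] [Flat G.hom] [IsSeparated G.hom]
    [IsCommMonObj (Red.bc j G)] : IsCommMonObj G := by
  haveI : Flat (G ⊗ G).hom := by
    rw [Over.tensorObj_hom]
    infer_instance
  have key : (fst G G * snd G G : G ⊗ G ⟶ G) = snd G G * fst G G := by
    apply eq_of_map_eq j
    rw [Functor.map_mul, Functor.map_mul]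
    letI : CommMonoid ((Over.pullback j).obj (G ⊗ G) ⟶ (Over.pullback j).obj G) :=
      Hom.commMonoid (M := Red.bc j G)
    exact mul_comm _ _
  refine ⟨?_⟩
  rw [MonObj.mul_eq_mul, MonObj.comp_mul]
  simpa using key.symm

theorem main (A : Type u) [CommRing A] [IsDomain A] [IsDiscreteValuationRing A]
    (K : Type u) [Field K] [Algebra A K] [IsFractionRing A K]
    (G : Over (Spec (CommRingCat.of A))) [GrpObj G] [Flat G.hom]
    [IsSeparated G.hom] [IsCommMonObj (Red.bc (Spec.map (CommRingCat.ofHom (algebraMap A K))) G)] :
    IsCommMonObj (Red.bc (Spec.map (CommRingCat.ofHom (algebraMap A (IsLocalRing.ResidueField A)))) G) := by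
  haveI := dom_of_injective (IsFractionRing.injective A K)
  haveI : IsCommMonObj G := comm_of_generic (Spec.map (CommRingCat.ofHom (algebraMap A K))) G
  exact Functor.isCommMonObj_obj

end H5S18063

/-- A is a discrete valuation ring, K denotes its field of fractions and k its residue field, and G is
an A-group scheme that is flat, separated and of finite presentation. If the generic fibre G_K is
commutative, then the special fibre G_k is commutative. (The published statement does not require G
separated over A, and its proof argues by density of the generic fibre; without separatedness the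
conclusion fails: gluing copies of Spec A indexed by a finite non-abelian group along their common
generic point gives a flat group scheme of finite presentation over A whose generic fibre is the
trivial group and whose special fibre is that non-abelian constant group. So G is taken separated
here.) -/
theorem result (A : Type u) [CommRing A] [IsDomain A] [IsDiscreteValuationRing A]
    (K : Type u) [Field K] [Algebra A K] [IsFractionRing A K]
    (G : Over (Spec (CommRingCat.of A))) [GrpObj G] [Flat G.hom] [LocallyOfFinitePresentation G.hom] [QuasiCompact G.hom]
    [IsSeparated G.hom] [IsCommMonObj (Red.bc (Spec.map (CommRingCat.ofHom (algebraMap A K))) G)] :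
    IsCommMonObj (Red.bc (Spec.map (CommRingCat.ofHom (algebraMap A (IsLocalRing.ResidueField A)))) G) := by
  exact H5S18063.main A K G

end Groth.Agent.S18063
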