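import Groth.Statements.S18070
import Mathlib
import Groth.Agent.S11424
import Groth.Agent.S18859
import Groth.Agent.S18977
-- import your own Groth.Agent.* helpers here

set_option autoImplicit false
universe u
open CategoryTheory MonoidalCategory CartesianMonoidalCategory MonObj GrpObj AlgebraicGeometry CategoryTheory.Limits
open AlgGrp

namespace Groth.Agent.S18070


open CategoryTheory MonoidalCategory CartesianMonoidalCategory MonObj GrpObj AlgebraicGeometry CategoryTheory.Limits

namespace H5S18070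

/-- Künneth for a factor with only constant functions -/
theorem kunneth (k : Type u) [Field k] {X Y : Scheme.{u}} (a : X ⟶ Spec (CommRingCat.of k))
    (b : Y ⟶ Spec (CommRingCat.of k))
    [CompactSpace X] [QuasiSeparatedSpace X] [CompactSpace Y] [QuasiSeparatedSpace Y]
    (ha : IsIso a.appTop) : IsIso (pullback.snd a b).appTop := by
  have H := IsPullback.of_hasPullback a b
  have hUST : (⊤ : Y.Opens) ≤ b ⁻¹ᵁ ⊤ := le_top
  have hUSX : (⊤ : X.Opens) ≤ a ⁻¹ᵁ ⊤ := le_top
  have hUY : (⊤ : (pullback a b).Opens) = pullback.fst a b ⁻¹ᵁ ⊤ ⊓ pullback.snd a b ⁻¹ᵁ ⊤ := by simp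
  haveI : Flat b := inferInstance
  have hiX : (a.appLE ⊤ ⊤ hUSX).hom.Flat :=
    RingHom.Flat.of_isField (isField_of_isIntegral_of_subsingleton _) _
  have hiso := isIso_pushoutSection_of_isCompact_of_flat_right_of_ringHomFlat H hUST hUSX hUY
    (isAffineOpen_top _) isCompact_univ isQuasiSeparated_univ isCompact_univ isQuasiSeparated_univ hiX
  have key : ∀ {A B : Scheme.{u}} (f : A ⟶ B) (e : (⊤ : A.Opens) ≤ f ⁻¹ᵁ ⊤), f.appLE ⊤ ⊤ e = f.appTop := by
    intro A B f e
    simp [Scheme.Hom.appLE, Scheme.Hom.appTop]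
  haveI : IsIso (a.appLE ⊤ ⊤ hUSX) := by
    rw [key]
    exact ha
  have e1 : pushout.inr (a.appLE ⊤ ⊤ hUSX) (b.appLE ⊤ ⊤ hUST) ≫ pushoutSection H hUST hUSX hUY =
      (pullback.snd a b).appLE ⊤ ⊤ (by simp) := by
    rw [pushoutSection, pushout.inr_desc]
  rw [← key (pullback.snd a b) (by simp), ← e1]
  infer_instance


open Groth.Agent.S18859.H5S18859 Groth.Agent.S11424.H5S11424 in
theorem main (k : Type u) [Field k]
    (G₁ G G₂ : Over (Spec (CommRingCat.of k))) [GrpObj G₁] [LocallyOfFiniteType G₁.hom]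
    [QuasiCompact G₁.hom]
    [GrpObj G] [LocallyOfFiniteType G.hom] [QuasiCompact G.hom]
    [GrpObj G₂] [LocallyOfFiniteType G₂.hom]
    (i : G₁ ⟶ G) [IsMonHom i] (q : G ⟶ G₂) [IsMonHom q] [Surjective q.left] [Flat q.left]
    (hex : AlgGrp.IsKernel i q) :
    (Function.Bijective ((Scheme.ΓSpecIso (CommRingCat.of k)).inv ≫ G.hom.appTop).hom →
      Function.Bijective ((Scheme.ΓSpecIso (CommRingCat.of k)).inv ≫ G₂.hom.appTop).hom) ∧
    (Function.Bijective ((Scheme.ΓSpecIso (CommRingCat.of k)).inv ≫ G₁.hom.appTop).hom →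
      Function.Bijective ((Scheme.ΓSpecIso (CommRingCat.of k)).inv ≫ G₂.hom.appTop).hom →
      Function.Bijective ((Scheme.ΓSpecIso (CommRingCat.of k)).inv ≫ G.hom.appTop).hom) := by
  have hσ : ((Scheme.ΓSpecIso (CommRingCat.of k)).inv ≫ G.hom.appTop).hom =
      q.left.appTop.hom ∘ ((Scheme.ΓSpecIso (CommRingCat.of k)).inv ≫ G₂.hom.appTop).hom := by
    have : G.hom = q.left ≫ G₂.hom := (Over.w q).symm
    rw [this, Scheme.Hom.comp_appTop, ← Category.assoc]
    rfl
  have hinj : Function.Injective q.left.appTop.hom := by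
    haveI : Epi q.left := Flat.epi_of_flat_of_surjective q.left
    intro s s' h
    have : q.left ≫ fn.symm s = q.left ≫ fn.symm s' := by
      apply fn.injective
      rw [fn_comp, fn_comp, Equiv.apply_symm_apply, Equiv.apply_symm_apply]
      exact h
    have h2 := (cancel_epi q.left).1 this
    simpa using congrArg fn h2
  refine ⟨?_, ?_⟩
  · intro hG
    rw [hσ] at hG
    refine ⟨Function.Injective.of_comp hG.1, ?_⟩
    intro s
    obtain ⟨c, hc⟩ := hG.2 (q.left.appTop.hom s)
    exact ⟨c, hinj hc⟩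
  · intro hG₁ hG₂
    rw [hσ]
    refine Function.Bijective.comp ⟨hinj, ?_⟩ hG₂
    -- surjectivity of q^*
    haveI : IsLocallyNoetherian G₂.left := LocallyOfFiniteType.isLocallyNoetherian G₂.hom
    haveI : QuasiSeparated G₂.hom := inferInstance
    haveI : QuasiCompact q.left := Groth.Agent.S14883.H5S14883.qc_of_sep q
    haveI : IsLocallyNoetherian G₁.left := LocallyOfFiniteType.isLocallyNoetherian G₁.hom
    haveI : IsLocallyNoetherian G.left := LocallyOfFiniteType.isLocallyNoetherian G.hom
    haveI : CompactSpace G₁.left := (HasAffineProperty.iff_of_isAffine (P := @QuasiCompact)).1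
      (inferInstance : QuasiCompact G₁.hom)
    haveI : CompactSpace G.left := (HasAffineProperty.iff_of_isAffine (P := @QuasiCompact)).1
      (inferInstance : QuasiCompact G.hom)
    have hiso1 : IsIso G₁.hom.appTop := by
      haveI : IsIso ((Scheme.ΓSpecIso (CommRingCat.of k)).inv ≫ G₁.hom.appTop) :=
        (ConcreteCategory.isIso_iff_bijective _).2 hG₁
      have : G₁.hom.appTop = (Scheme.ΓSpecIso (CommRingCat.of k)).hom ≫
          ((Scheme.ΓSpecIso (CommRingCat.of k)).inv ≫ G₁.hom.appTop) := by simp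
      rw [this]
      infer_instance
    haveI hK : IsIso (snd G₁ G).left.appTop := kunneth k G₁.hom G.hom hiso1
    obtain ⟨m, hm⟩ : ∃ m : G₁ ⊗ G ⟶ G, m = (i ▷ G) ≫ μ[G] := ⟨_, rfl⟩
    have hk := ker_sq i q hex
    rw [← hm] at hk
    let ε : G ⟶ G₁ ⊗ G := lift (toUnit G ≫ η[G₁]) (𝟙 G)
    have hε1 : ε ≫ snd G₁ G = 𝟙 G := lift_snd _ _
    have hε2 : ε ≫ m = 𝟙 G := by
      rw [hm, ← Category.assoc, lift_whiskerRight, ← Hom.mul_def, Category.assoc,
        IsMonHom.one_hom, ← Hom.one_def, _root_.one_mul]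
    have a1 : (snd G₁ G).left.appTop ≫ ε.left.appTop = 𝟙 _ := by
      rw [← Scheme.Hom.comp_appTop, ← Over.comp_left, hε1]
      simp
    have a2 : m.left.appTop ≫ ε.left.appTop = 𝟙 _ := by
      rw [← Scheme.Hom.comp_appTop, ← Over.comp_left, hε2]
      simp
    have a3 : ε.left.appTop ≫ (snd G₁ G).left.appTop = 𝟙 _ := by
      have : ε.left.appTop = inv (snd G₁ G).left.appTop := by
        rw [← cancel_epi (snd G₁ G).left.appTop, a1, IsIso.hom_inv_id]
      rw [this, IsIso.inv_hom_id]
    have E : m.left.appTop = (snd G₁ G).left.appTop := by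
      calc m.left.appTop = m.left.appTop ≫ (ε.left.appTop ≫ (snd G₁ G).left.appTop) := by
            rw [a3, Category.comp_id]
        _ = (snd G₁ G).left.appTop := by rw [← Category.assoc, a2, Category.id_comp]
    intro s
    have E' : m.left ≫ fn.symm s = (snd G₁ G).left ≫ fn.symm s := by
      apply fn.injective
      rw [fn_comp, fn_comp, E]
    obtain ⟨y, hy, -⟩ := desc_of_local_sections q.left (Presieve.singleton q.left)
      (q.left.singleton_mem_fpqcPrecoverage)
      (by rintro T g ⟨⟩; exact ⟨𝟙 _, Category.id_comp _⟩) (fn.symm s) (by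
        intro W p₁ p₂ h
        have hw : p₁ ≫ G.hom = p₂ ≫ G.hom := by
          rw [← Over.w q, ← Category.assoc, h, Category.assoc]
        let P₂ : Over.mk (p₂ ≫ G.hom) ⟶ G := Over.homMk p₂ rfl
        let P₁ : Over.mk (p₂ ≫ G.hom) ⟶ G := Over.homMk p₁ hw
        have hP : P₁ ≫ q = P₂ ≫ q := by
          ext
          exact h
        obtain ⟨n, hn, -⟩ := Groth.Agent.S18977.H5S18977.sq_tr hk P₁ P₂ hP
        have e1 : p₁ = (lift n P₂).left ≫ m.left := by
          have := congrArg (fun t => t.left) hn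
          exact this.symm
        have e2 : (lift n P₂).left ≫ (snd G₁ G).left = p₂ := by
          have := congrArg (fun t => t.left) (lift_snd n P₂)
          exact this
        rw [e1, Category.assoc, E', ← Category.assoc, e2])
    refine ⟨fn y, ?_⟩
    rw [← fn_comp, hy, Equiv.apply_symm_apply]

end H5S18070

/-- Let k be a field and 1 → G₁ → G → G₂ → 1 an exact sequence of k-group schemes of finite type with
G₁, G₂ connected (i : G₁ → G a homomorphism and closed immersion which is the kernel of the flat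
surjective homomorphism q : G → G₂). Anti-affineness passes from G to the quotient G₂; in the other
direction, G is anti-affine whenever G₁ and G₂ both are. -/
theorem result (k : Type u) [Field k]
    (G₁ G G₂ : Over (Spec (CommRingCat.of k))) [GrpObj G₁] [LocallyOfFiniteType G₁.hom] [QuasiCompact G₁.hom] [ConnectedSpace ↥G₁.left]
    [GrpObj G] [LocallyOfFiniteType G.hom] [QuasiCompact G.hom]
    [GrpObj G₂] [LocallyOfFiniteType G₂.hom] [QuasiCompact G₂.hom] [ConnectedSpace ↥G₂.left]
    (i : G₁ ⟶ G) [IsMonHom i] [IsClosedImmersion i.left] (q : G ⟶ G₂) [IsMonHom q] [Surjective q.left] [Flat q.left]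
    (hex : AlgGrp.IsKernel i q) :
    (Function.Bijective ((Scheme.ΓSpecIso (CommRingCat.of k)).inv ≫ G.hom.appTop).hom → Function.Bijective ((Scheme.ΓSpecIso (CommRingCat.of k)).inv ≫ G₂.hom.appTop).hom) ∧
    (Function.Bijective ((Scheme.ΓSpecIso (CommRingCat.of k)).inv ≫ G₁.hom.appTop).hom → Function.Bijective ((Scheme.ΓSpecIso (CommRingCat.of k)).inv ≫ G₂.hom.appTop).hom → Function.Bijective ((Scheme.ΓSpecIso (CommRingCat.of k)).inv ≫ G.hom.appTop).hom) := by
  exact H5S18070.main k G₁ G G₂ i q hex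

end Groth.Agent.S18070
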