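import Groth.Statements.S18069
import Mathlib
import Groth.Agent.S18070
-- import your own Groth.Agent.* helpers here

set_option autoImplicit false
universe u
open CategoryTheory MonoidalCategory CartesianMonoidalCategory MonObj GrpObj AlgebraicGeometry CategoryTheory.Limits
open AlgGrp

namespace Groth.Agent.S18069


open CategoryTheory MonoidalCategory CartesianMonoidalCategory MonObj GrpObj AlgebraicGeometry CategoryTheory.Limits

namespace H5S18069

open Groth.Agent.S18070.H5S18070

/-- a retraction-type criterion -/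
lemma bij_of_section (k : Type u) [Field k] {A P : Over (Spec (CommRingCat.of k))} (pr : P ⟶ A)
    (sec : A ⟶ P) (hsec : sec ≫ pr = 𝟙 A)
    (hP : Function.Bijective ((Scheme.ΓSpecIso (CommRingCat.of k)).inv ≫ P.hom.appTop).hom) :
    Function.Bijective ((Scheme.ΓSpecIso (CommRingCat.of k)).inv ≫ A.hom.appTop).hom := by
  have hσ : ((Scheme.ΓSpecIso (CommRingCat.of k)).inv ≫ P.hom.appTop).hom =
      pr.left.appTop.hom ∘ ((Scheme.ΓSpecIso (CommRingCat.of k)).inv ≫ A.hom.appTop).hom := by
    have : P.hom = pr.left ≫ A.hom := (Over.w pr).symm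
    rw [this, Scheme.Hom.comp_appTop, ← Category.assoc]
    rfl
  have hinj : Function.Injective pr.left.appTop.hom := by
    have h1 : pr.left.appTop ≫ sec.left.appTop = 𝟙 _ := by
      rw [← Scheme.Hom.comp_appTop, ← Over.comp_left, hsec]
      simp
    intro s s' h
    have := congrArg sec.left.appTop.hom h
    rw [← CommRingCat.comp_apply, ← CommRingCat.comp_apply, h1] at this
    simpa using this
  rw [hσ] at hP
  refine ⟨Function.Injective.of_comp hP.1, ?_⟩
  intro s
  obtain ⟨c, hc⟩ := hP.2 (pr.left.appTop.hom s)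
  exact ⟨c, hinj hc⟩

theorem main (k : Type u) [Field k]
    (G₁ G₂ : Over (Spec (CommRingCat.of k))) [GrpObj G₁] [LocallyOfFiniteType G₁.hom]
    [QuasiCompact G₁.hom]
    [GrpObj G₂] [LocallyOfFiniteType G₂.hom] [QuasiCompact G₂.hom] :
    Function.Bijective ((Scheme.ΓSpecIso (CommRingCat.of k)).inv ≫ (G₁ ⊗ G₂).hom.appTop).hom ↔
      Function.Bijective ((Scheme.ΓSpecIso (CommRingCat.of k)).inv ≫ G₁.hom.appTop).hom ∧
      Function.Bijective ((Scheme.ΓSpecIso (CommRingCat.of k)).inv ≫ G₂.hom.appTop).hom := by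
  constructor
  · intro h
    refine ⟨bij_of_section k (fst G₁ G₂) (lift (𝟙 G₁) (toUnit G₁ ≫ η[G₂])) (lift_fst _ _) h,
      bij_of_section k (snd G₁ G₂) (lift (toUnit G₂ ≫ η[G₁]) (𝟙 G₂)) (lift_snd _ _) h⟩
  · rintro ⟨h1, h2⟩
    haveI : IsLocallyNoetherian G₁.left := LocallyOfFiniteType.isLocallyNoetherian G₁.hom
    haveI : IsLocallyNoetherian G₂.left := LocallyOfFiniteType.isLocallyNoetherian G₂.hom
    haveI : CompactSpace G₁.left := (HasAffineProperty.iff_of_isAffine (P := @QuasiCompact)).1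
      (inferInstance : QuasiCompact G₁.hom)
    haveI : CompactSpace G₂.left := (HasAffineProperty.iff_of_isAffine (P := @QuasiCompact)).1
      (inferInstance : QuasiCompact G₂.hom)
    have hiso1 : IsIso G₁.hom.appTop := by
      haveI : IsIso ((Scheme.ΓSpecIso (CommRingCat.of k)).inv ≫ G₁.hom.appTop) :=
        (ConcreteCategory.isIso_iff_bijective _).2 h1
      have : G₁.hom.appTop = (Scheme.ΓSpecIso (CommRingCat.of k)).hom ≫
          ((Scheme.ΓSpecIso (CommRingCat.of k)).inv ≫ G₁.hom.appTop) := by simp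
      rw [this]
      infer_instance
    haveI hK : IsIso (snd G₁ G₂).left.appTop := kunneth k G₁.hom G₂.hom hiso1
    have hσ : ((Scheme.ΓSpecIso (CommRingCat.of k)).inv ≫ (G₁ ⊗ G₂).hom.appTop).hom =
        (snd G₁ G₂).left.appTop.hom ∘
          ((Scheme.ΓSpecIso (CommRingCat.of k)).inv ≫ G₂.hom.appTop).hom := by
      have : (G₁ ⊗ G₂).hom = (snd G₁ G₂).left ≫ G₂.hom := (Over.w (snd G₁ G₂)).symm
      rw [this, Scheme.Hom.comp_appTop, ← Category.assoc]
      rfl
    rw [hσ]
    exact Function.Bijective.comp ((ConcreteCategory.isIso_iff_bijective _).1 hK) h2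

end H5S18069

/-- Let k be a field and G₁, G₂ connected k-group schemes of finite type. Then G₁ × G₂ is anti-affine,
i.e. O(G₁ × G₂) = k, if and only if G₁ and G₂ are both anti-affine. -/
theorem result (k : Type u) [Field k]
    (G₁ G₂ : Over (Spec (CommRingCat.of k))) [GrpObj G₁] [LocallyOfFiniteType G₁.hom] [QuasiCompact G₁.hom] [ConnectedSpace ↥G₁.left]
    [GrpObj G₂] [LocallyOfFiniteType G₂.hom] [QuasiCompact G₂.hom] [ConnectedSpace ↥G₂.left] :
    Function.Bijective ((Scheme.ΓSpecIso (CommRingCat.of k)).inv ≫ (G₁ ⊗ G₂).hom.appTop).hom ↔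
      Function.Bijective ((Scheme.ΓSpecIso (CommRingCat.of k)).inv ≫ G₁.hom.appTop).hom ∧ Function.Bijective ((Scheme.ΓSpecIso (CommRingCat.of k)).inv ≫ G₂.hom.appTop).hom := by
  exact H5S18069.main k G₁ G₂

end Groth.Agent.S18069
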