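import Groth.Statements.S18112
import Mathlib

set_option autoImplicit false
universe u
open CategoryTheory CategoryTheory.Limits MonoidalCategory CartesianMonoidalCategory MonObj GrpObj AlgebraicGeometry
open AbVar

namespace Groth.Agent.S18112aux

open Polynomial Finset Function
open scoped fwdDiff

/-- Newton interpolation: a rational polynomial of degree at most `g` with integer values at `0, …, g`
becomes integral after multiplication by `g!`. -/
theorem newton_integral (g : ℕ) (R : ℚ[X]) (hdeg : R.natDegree ≤ g)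
    (hint : ∀ t : ℕ, t ≤ g → ∃ z : ℤ, R.eval (t : ℚ) = z) :
    ∃ P : ℤ[X], P.map (Int.castRingHom ℚ) = C (g.factorial : ℚ) * R := by
  classical
  set f : ℕ → ℚ := fun n => R.eval (n : ℚ) with hf
  -- the iterated differences at 0
  have hD : ∀ k : ℕ, k ≤ g → ∃ z : ℤ, (fwdDiff 1)^[k] f 0 = z := by
    intro k hk
    rw [fwdDiff_iter_eq_sum_shift]
    choose! zf hzf using hint
    refine ⟨∑ j ∈ range (k + 1), ((-1 : ℤ) ^ (k - j) * (k.choose j : ℤ)) * zf j, ?_⟩
    push_cast
    refine Finset.sum_congr rfl fun j hj => ?_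
    have hj' : j ≤ g := (Nat.lt_succ_iff.mp (Finset.mem_range.mp hj)).trans hk
    have : f (0 + j • 1) = zf j := by
      simp only [hf, smul_eq_mul, _root_.mul_one, zero_add]
      exact hzf j hj'
    rw [this, zsmul_eq_mul]
    push_cast
    ring
  choose! zD hzD using hD
  -- the Newton polynomial
  set N : ℚ[X] := ∑ k ∈ range (g + 1), C ((zD k : ℚ) / (k.factorial : ℚ)) * descPochhammer ℚ k with hN
  have hNdeg : N.degree < (g + 1 : ℕ) := by
    refine lt_of_le_of_lt (Polynomial.degree_sum_le _ _) ?_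
    rw [Finset.sup_lt_iff (by exact WithBot.bot_lt_coe _)]
    intro k hk
    have h0 : (C ((zD k : ℚ) / (k.factorial : ℚ)) * descPochhammer ℚ k).degree ≤ (descPochhammer ℚ k).degree := by
      refine (Polynomial.degree_mul_le _ _).trans ?_
      calc (C ((zD k : ℚ) / (k.factorial : ℚ))).degree + (descPochhammer ℚ k).degree
          ≤ 0 + (descPochhammer ℚ k).degree := by gcongr; exact Polynomial.degree_C_le
        _ = _ := zero_add _
    refine lt_of_le_of_lt h0 ?_
    refine lt_of_le_of_lt Polynomial.degree_le_natDegree ?_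
    rw [descPochhammer_natDegree]
    exact_mod_cast Finset.mem_range.mp hk
  have hRdeg : R.degree < (g + 1 : ℕ) := by
    refine lt_of_le_of_lt Polynomial.degree_le_natDegree ?_
    exact_mod_cast Nat.lt_succ_of_le hdeg
  have hNR : R = N := by
    refine Polynomial.eq_of_degrees_lt_of_eval_finset_eq ((range (g + 1)).image (fun n : ℕ => (n : ℚ))) ?_ ?_ ?_
    · rw [Finset.card_image_of_injective _ Nat.cast_injective, Finset.card_range]; exact hRdeg
    · rw [Finset.card_image_of_injective _ Nat.cast_injective, Finset.card_range]; exact hNdeg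
    · intro x hx
      obtain ⟨n, hn, rfl⟩ := Finset.mem_image.mp hx
      have hn' : n ≤ g := Nat.lt_succ_iff.mp (Finset.mem_range.mp hn)
      have h1 := shift_eq_sum_fwdDiff_iter (1 : ℕ) f n 0
      simp only [smul_eq_mul, _root_.mul_one, zero_add] at h1
      change f n = _
      rw [h1, hN, Polynomial.eval_finsetSum]
      -- extend the sum to range (g+1)
      have hsub : range (n + 1) ⊆ range (g + 1) := Finset.range_subset_range.mpr (Nat.succ_le_succ hn')
      rw [← Finset.sum_subset hsub]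
      · refine Finset.sum_congr rfl fun k hk => ?_
        have hk' : k ≤ g := (Nat.lt_succ_iff.mp (Finset.mem_range.mp hk)).trans hn'
        rw [Polynomial.eval_mul, Polynomial.eval_C, descPochhammer_eval_eq_descFactorial,
          Nat.descFactorial_eq_factorial_mul_choose, hzD k hk']
        have : (k.factorial : ℚ) ≠ 0 := by exact_mod_cast k.factorial_ne_zero
        rw [nsmul_eq_mul]
        push_cast
        field_simp
      · intro k hk hk2
        have hk3 : n < k := by
          by_contra hcon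
          exact hk2 (Finset.mem_range.mpr (Nat.lt_succ_of_le (not_lt.mp hcon)))
        rw [Polynomial.eval_mul, descPochhammer_eval_eq_descFactorial, Nat.descFactorial_eq_zero_iff_lt.mpr hk3,
          Nat.cast_zero, mul_zero]
  refine ⟨∑ k ∈ range (g + 1), C (zD k * ((g.factorial / k.factorial : ℕ) : ℤ)) * descPochhammer ℤ k, ?_⟩
  rw [Polynomial.map_sum, hNR, hN, Finset.mul_sum]
  refine Finset.sum_congr rfl fun k hk => ?_
  have hk' : k ≤ g := Nat.lt_succ_iff.mp (Finset.mem_range.mp hk)
  rw [Polynomial.map_mul, descPochhammer_map, Polynomial.map_C, ← _root_.mul_assoc, ← C_mul]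
  congr 2
  have hdvd : k.factorial ∣ g.factorial := Nat.factorial_dvd_factorial hk'
  have : (k.factorial : ℚ) ≠ 0 := by exact_mod_cast k.factorial_ne_zero
  simp only [eq_intCast, Int.cast_mul, Int.cast_natCast]
  rw [Nat.cast_div hdvd this]
  field_simp

/-- For `b` large, `b^(2g) * g! * Q` is integral. -/
theorem step1 (g : ℕ) (u v : ℚ) (Q : ℚ[X]) (hQ : Q.natDegree ≤ g)
    (hpoly : ∀ (a : ℤ) (b : ℕ), 0 < b → u < (a : ℚ) / (b : ℚ) → (a : ℚ) / (b : ℚ) < v →
      ∃ n : ℕ, (n : ℚ) / (b : ℚ) ^ (2 * g) = Q.eval ((a : ℚ) / (b : ℚ)))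
    (b : ℕ) (hb : (g + 1 : ℚ) < (v - u) * b) (hb0 : 0 < b) :
    ∃ P : ℤ[X], P.map (Int.castRingHom ℚ) = C ((b : ℚ) ^ (2 * g) * (g.factorial : ℚ)) * Q := by
  have hbq : (0 : ℚ) < b := by exact_mod_cast hb0
  have hbne : (b : ℚ) ≠ 0 := hbq.ne'
  set a₀ : ℤ := ⌊u * b⌋ + 1 with ha₀
  have ha1 : u * b < a₀ := by
    rw [ha₀]; push_cast; exact Int.lt_floor_add_one _
  have ha2 : (a₀ : ℚ) ≤ u * b + 1 := by
    rw [ha₀]; push_cast; linarith [Int.floor_le (u * b)]
  set lin : ℚ[X] := C (1 / (b : ℚ)) * X + C ((a₀ : ℚ) / b) with hlin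
  set R : ℚ[X] := C ((b : ℚ) ^ (2 * g)) * Q.comp lin with hR
  have hlindeg : lin.natDegree ≤ 1 := by
    refine (Polynomial.natDegree_add_le _ _).trans ?_
    rw [Polynomial.natDegree_C, max_le_iff]
    exact ⟨(Polynomial.natDegree_C_mul_le _ _).trans Polynomial.natDegree_X_le, Nat.zero_le _⟩
  have hRdeg : R.natDegree ≤ g := by
    refine (Polynomial.natDegree_C_mul_le _ _).trans ?_
    refine (Polynomial.natDegree_comp_le).trans ?_
    calc Q.natDegree * lin.natDegree ≤ g * 1 := Nat.mul_le_mul hQ hlindeg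
      _ = g := _root_.mul_one g
  have hRint : ∀ t : ℕ, t ≤ g → ∃ z : ℤ, R.eval (t : ℚ) = z := by
    intro t ht
    have htq : (t : ℚ) ≤ g := by exact_mod_cast ht
    have hval : (((a₀ + t : ℤ) : ℚ)) / (b : ℚ) = 1 / (b : ℚ) * t + (a₀ : ℚ) / b := by
      push_cast; field_simp; ring
    have h1 : u < (((a₀ + t : ℤ) : ℚ)) / (b : ℚ) := by
      rw [lt_div_iff₀ hbq]; push_cast
      have : (0 : ℚ) ≤ t := Nat.cast_nonneg t
      linarith
    have h2 : (((a₀ + t : ℤ) : ℚ)) / (b : ℚ) < v := by
      rw [div_lt_iff₀ hbq]; push_cast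
      nlinarith
    obtain ⟨n, hn⟩ := hpoly (a₀ + t) b hb0 h1 h2
    refine ⟨n, ?_⟩
    rw [hR, Polynomial.eval_mul, Polynomial.eval_C, Polynomial.eval_comp, hlin]
    simp only [Polynomial.eval_add, Polynomial.eval_mul, Polynomial.eval_C, Polynomial.eval_X]
    rw [← hval, ← hn]
    have : (b : ℚ) ^ (2 * g) ≠ 0 := pow_ne_zero _ hbne
    push_cast
    field_simp
  obtain ⟨P₀, hP₀⟩ := newton_integral g R hRdeg hRint
  refine ⟨P₀.comp (C (b : ℤ) * X - C a₀), ?_⟩
  rw [Polynomial.map_comp, hP₀]
  simp only [Polynomial.map_sub, Polynomial.map_mul, Polynomial.map_C, Polynomial.map_X, Int.coe_castRingHom, Int.cast_natCast]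
  rw [hR, Polynomial.mul_comp, Polynomial.mul_comp, Polynomial.C_comp, Polynomial.C_comp, Polynomial.comp_assoc]
  have hinner : lin.comp (C (b : ℚ) * X - C (a₀ : ℚ)) = X := by
    rw [hlin]
    simp only [Polynomial.add_comp, Polynomial.mul_comp, Polynomial.C_comp, Polynomial.X_comp]
    rw [mul_sub, ← _root_.mul_assoc, ← C_mul, ← C_mul, one_div, inv_mul_cancel₀ hbne, C_1, _root_.one_mul,
      sub_add, ← C_sub]
    have : (b : ℚ)⁻¹ * (a₀ : ℚ) - (a₀ : ℚ) / b = 0 := by field_simp; ring
    rw [this, C_0, sub_zero]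
  rw [hinner, Polynomial.comp_X, ← _root_.mul_assoc, ← C_mul, mul_comm ((g.factorial : ℚ))]

theorem main_abs (g : ℕ) (u v : ℚ) (huv : u < v) (Q : ℚ[X]) (hQ : Q.natDegree ≤ g)
    (hpoly : ∀ (a : ℤ) (b : ℕ), 0 < b → u < (a : ℚ) / (b : ℚ) → (a : ℚ) / (b : ℚ) < v →
      ∃ n : ℕ, (n : ℚ) / (b : ℚ) ^ (2 * g) = Q.eval ((a : ℚ) / (b : ℚ)))
    (j : ℕ) : ∃ z : ℤ, (g.factorial : ℚ) * Q.coeff j = z := by
  have hvu : 0 < v - u := sub_pos.mpr huv
  obtain ⟨b, hb⟩ := exists_nat_gt ((g + 1 : ℚ) / (v - u))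
  rw [div_lt_iff₀ hvu, mul_comm] at hb
  have hb0 : 0 < b := by
    rcases Nat.eq_zero_or_pos b with h | h
    · exfalso; rw [h] at hb; simp at hb
      have : (0 : ℚ) ≤ g := Nat.cast_nonneg g
      linarith
    · exact h
  have hb' : (g + 1 : ℚ) < (v - u) * ((b + 1 : ℕ) : ℚ) := by
    push_cast; nlinarith
  obtain ⟨P₁, hP₁⟩ := step1 g u v Q hQ hpoly b hb hb0
  obtain ⟨P₂, hP₂⟩ := step1 g u v Q hQ hpoly (b + 1) hb' (Nat.succ_pos b)
  have h1 : ((P₁.coeff j : ℤ) : ℚ) = (b : ℚ) ^ (2 * g) * ((g.factorial : ℚ) * Q.coeff j) := by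
    have := congrArg (fun p => p.coeff j) hP₁
    simp only [Polynomial.coeff_map, Polynomial.coeff_C_mul, eq_intCast] at this
    rw [this]; ring
  have h2 : ((P₂.coeff j : ℤ) : ℚ) = ((b + 1 : ℕ) : ℚ) ^ (2 * g) * ((g.factorial : ℚ) * Q.coeff j) := by
    have := congrArg (fun p => p.coeff j) hP₂
    simp only [Polynomial.coeff_map, Polynomial.coeff_C_mul, eq_intCast] at this
    rw [this]; ring
  have hcop : IsCoprime (((b ^ (2 * g) : ℕ) : ℤ)) (((b + 1) ^ (2 * g) : ℕ) : ℤ) := by
    rw [Nat.isCoprime_iff_coprime]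
    exact Nat.Coprime.pow _ _ (by simp)
  obtain ⟨m, n, hmn⟩ := hcop
  refine ⟨m * P₁.coeff j + n * P₂.coeff j, ?_⟩
  push_cast
  rw [h1, h2]
  have hmn' : (m : ℚ) * (b : ℚ) ^ (2 * g) + (n : ℚ) * ((b : ℚ) + 1) ^ (2 * g) = 1 := by
    have := congrArg (fun z : ℤ => (z : ℚ)) hmn
    simpa using this
  push_cast
  calc (g.factorial : ℚ) * Q.coeff j
      = ((m : ℚ) * (b : ℚ) ^ (2 * g) + (n : ℚ) * ((b : ℚ) + 1) ^ (2 * g)) * ((g.factorial : ℚ) * Q.coeff j) := by
        rw [hmn', _root_.one_mul]
    _ = _ := by ring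

end Groth.Agent.S18112aux

namespace Groth.Agent.S18112

/-- Let k be an algebraically closed field of characteristic zero, A an abelian variety over k (a proper
smooth k-group scheme with geometrically connected fibres) of dimension g, (A^t, φ) a given dual
abelian variety of A for the fppf topology with A^t itself an abelian variety, and P an invertible
module on A ×_k A^t whose class is a Poincaré class; for a k-point α of A^t write P_α for the
restriction of P to A × {α}. Let L be an ample invertible O_A-module with an inverse L' (L ⊗ L' ≅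
O_A), negative powers of L meaning powers of L'. For a coherent O_A-module G write h^i_gen(G) for
the generic value of h^i(A, G ⊗ P_α), rendered as the minimum over all k-points α of A^t (the
generic value by semicontinuity), and for b ≥ 1 let b_A : A → A be multiplication by b. Let F be a
coherent O_A-module and i ≥ 0, and consider the i-th cohomological rank function of F with respect
to L, the function on the rationals x = a/b (b ≥ 1) with value b^{-2g} · h^i_gen(b_A^* F ⊗ L^{ab}).
Suppose that on an open interval (u, v), u < v rational, this function agrees with a polynomial Q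
with rational coefficients of degree at most g. Then every coefficient of Q lies in (1/g!)ℤ, i.e. g!
· Q has integer coefficients. (Stated for a coherent module; the source allows any object of the
bounded derived category of coherent modules. The degree bound on Q, which the source takes from the
local polynomiality of rank functions, is made a hypothesis here.) -/
theorem result (k : Type u) [Field k] [IsAlgClosed k] [CharZero k]
    (A At : Over (Spec (CommRingCat.of k))) [GrpObj A] [IsProper A.hom] [Smooth A.hom] [GeometricallyConnected A.hom]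
    [GrpObj At] [IsProper At.hom] [Smooth At.hom] [GeometricallyConnected At.hom]
    (φ : ∀ T : Over (Spec (CommRingCat.of k)), PicF.Cl (PicF.XT A.hom T) → (T ⟶ At))
    (hφ : AbDual.IsDualAV Scheme.fppfPrecoverage A At φ)
    (P : (pullback A.hom At.hom).Modules) (hP : PicF.IsInvertible P)
    (hPξ : AbDual.IsPoincareCl A At φ (PicF.cl P))
    (g : ℕ) (hg : topologicalKrullDim ↥A.left = g)
    (L L' : A.left.Modules) (hL : CohB1.IsAmple L) (hLL' : Nonempty (CohB1.tensorMod L L' ≅ Coh.structureModule A.left))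
    (F : A.left.Modules) (hF : Coh.IsCoh F) (i : ℕ) (u v : ℚ) (huv : u < v)
    (Q : Polynomial ℚ) (hQ : Q.natDegree ≤ g)
    (hpoly : ∀ (a : ℤ) (b : ℕ), 0 < b → u < (a : ℚ) / (b : ℚ) → (a : ℚ) / (b : ℚ) < v →
      ((W4c5cohrankabvar.hgen k P (W4c5cohrankabvar.twist A F L L' b (a * b)) i : ℕ) : ℚ) / (b : ℚ) ^ (2 * g) =
        Q.eval ((a : ℚ) / (b : ℚ)))
    (j : ℕ) : ∃ z : ℤ, (Nat.factorial g : ℚ) * Q.coeff j = (z : ℚ) := by
  refine Groth.Agent.S18112aux.main_abs g u v huv Q hQ ?_ j
  intro a b hb h1 h2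
  exact ⟨_, hpoly a b hb h1 h2⟩

end Groth.Agent.S18112
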