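import Groth.Statements.S18121
import Mathlib

set_option autoImplicit false
universe u
open Pinch

namespace Groth.Agent.S18121

/-- Let B be a commutative ring, b an element of B, B' := B[z]/(z^2 - b) the rank-two B-algebra with z^2
= b, and Ψ : B[u, v] → B'[t] the B-algebra homomorphism with u ↦ z t and v ↦ t. Then the kernel of Ψ
is the principal ideal generated by u^2 - b v^2, and a polynomial of B'[t] lies in the image of Ψ as
soon as its constant coefficient lies in B. Equivalently, B[u, v]/(u^2 - b v^2) is the fibre product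
of B'[t] and B over B' (for t ↦ 0 and the inclusion of B): the pinching of Spec B' × 𝔸¹ along Spec
B' × {0} by the double cover Spec B' → Spec B is the hypersurface u^2 = b v^2 over B; for B = K[w]
and b = w this is the pinch point u^2 = v^2 w. -/
theorem result (B : Type u) [CommRing B] (b : B) :
    letI Ψ : MvPolynomial (Fin 2) B →ₐ[B] Polynomial (AdjoinRoot (Polynomial.X ^ 2 - Polynomial.C b)) :=
      MvPolynomial.aeval
        ![Polynomial.C (AdjoinRoot.root (Polynomial.X ^ 2 - Polynomial.C b)) * Polynomial.X, Polynomial.X]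
    RingHom.ker Ψ.toRingHom =
        Ideal.span {MvPolynomial.X 0 ^ 2 - MvPolynomial.C b * MvPolynomial.X 1 ^ 2} ∧
      ∀ G : Polynomial (AdjoinRoot (Polynomial.X ^ 2 - Polynomial.C b)),
        (∃ c : B, G.coeff 0 = algebraMap B (AdjoinRoot (Polynomial.X ^ 2 - Polynomial.C b)) c) →
          G ∈ Ψ.range := by
  classical
  -- notation
  rcases subsingleton_or_nontrivial B with hsub | hnt
  · have h1 : Subsingleton (MvPolynomial (Fin 2) B) := Module.subsingleton B _
    have h2 : Subsingleton (Polynomial (AdjoinRoot (Polynomial.X ^ 2 - Polynomial.C b))) :=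
      Module.subsingleton B _
    refine ⟨?_, fun G _ => ?_⟩
    · ext x
      rw [Subsingleton.elim x 0]
      simp
    · rw [Subsingleton.elim G 0]
      exact Subalgebra.zero_mem _
  generalize hg' : (Polynomial.X ^ 2 - Polynomial.C b : Polynomial B) = g
  have hg : g = Polynomial.X ^ 2 - Polynomial.C b := hg'.symm
  obtain ⟨z, hzdef⟩ : ∃ z : AdjoinRoot g, z = AdjoinRoot.root g := ⟨_, rfl⟩
  rw [← hzdef]
  set Ψ : MvPolynomial (Fin 2) B →ₐ[B] Polynomial (AdjoinRoot g) :=
    MvPolynomial.aeval ![Polynomial.C z * Polynomial.X, Polynomial.X] with hΨdef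
  have hmon : g.Monic := by rw [hg]; exact Polynomial.monic_X_pow_sub_C b (by norm_num)
  have hgdeg : g.degree = 2 := by rw [hg]; exact Polynomial.degree_X_pow_sub_C (by norm_num) b
  have hz : z ^ 2 = algebraMap B (AdjoinRoot g) b := by
    have := AdjoinRoot.mk_self (f := g)
    rw [hg, map_sub, map_pow, AdjoinRoot.mk_X, AdjoinRoot.mk_C, sub_eq_zero] at this
    rw [hzdef, hg]; exact this
  have hΨ0 : Ψ (MvPolynomial.X 0) = Polynomial.C z * Polynomial.X := by simp [Ψ]
  have hΨ1 : Ψ (MvPolynomial.X 1) = Polynomial.X := by simp [Ψ]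
  -- independence of 1, z over B
  have hind : ∀ a c : B, algebraMap B (AdjoinRoot g) a + z * algebraMap B (AdjoinRoot g) c = 0 →
      a = 0 ∧ c = 0 := by
    intro a c h
    have h1 : AdjoinRoot.mk g (Polynomial.C c * Polynomial.X + Polynomial.C a) = 0 := by
      rw [map_add, map_mul, AdjoinRoot.mk_X, AdjoinRoot.mk_C, AdjoinRoot.mk_C, ← h,
        AdjoinRoot.algebraMap_eq, hzdef]
      ring
    rw [AdjoinRoot.mk_eq_zero] at h1
    have h2 : (Polynomial.C c * Polynomial.X + Polynomial.C a : Polynomial B) = 0 := by
      by_contra hne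
      refine hmon.not_dvd_of_degree_lt hne ?_ h1
      rw [hgdeg]
      exact lt_of_le_of_lt (Polynomial.degree_linear_le) (by norm_num)
    have e0 := congrArg (fun p => Polynomial.coeff p 0) h2
    have e1 := congrArg (fun p => Polynomial.coeff p 1) h2
    simp at e0 e1
    exact ⟨e0, e1⟩
  -- decomposition of elements of B'
  have hdec : ∀ x : AdjoinRoot g, ∃ a c : B,
      x = algebraMap B (AdjoinRoot g) a + z * algebraMap B (AdjoinRoot g) c := by
    intro x
    induction x using AdjoinRoot.induction_on with
    | ih p =>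
      have hp := Polynomial.modByMonic_add_div p g
      have hdeg : (p %ₘ g).degree < 2 := by rw [← hgdeg]; exact Polynomial.degree_modByMonic_lt p hmon
      refine ⟨(p %ₘ g).coeff 0, (p %ₘ g).coeff 1, ?_⟩
      have h1 : AdjoinRoot.mk g p = AdjoinRoot.mk g (p %ₘ g) := by
        conv_lhs => rw [← hp]
        rw [map_add, map_mul, AdjoinRoot.mk_self, zero_mul, add_zero]
      have h2 : p %ₘ g = Polynomial.C ((p %ₘ g).coeff 1) * Polynomial.X + Polynomial.C ((p %ₘ g).coeff 0) := by
        apply Polynomial.eq_X_add_C_of_degree_le_one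
        exact Order.le_of_lt_succ hdeg
      rw [h1]
      conv_lhs => rw [h2]
      rw [map_add, map_mul, AdjoinRoot.mk_X, AdjoinRoot.mk_C, AdjoinRoot.mk_C, AdjoinRoot.algebraMap_eq,
        hzdef]
      ring
  -- the embedding of B[v]
  let φ : Polynomial B →ₐ[B] MvPolynomial (Fin 2) B := Polynomial.aeval (MvPolynomial.X 1)
  have hΨφ : ∀ r : Polynomial B, Ψ (φ r) = r.map (algebraMap B (AdjoinRoot g)) := by
    intro r
    have : (Ψ.comp φ) = Polynomial.mapAlg B (AdjoinRoot g) := by
      apply Polynomial.algHom_ext
      simp [φ, hΨ1, Polynomial.mapAlg]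
    have h := congrArg (fun F => F r) this
    simpa [Polynomial.mapAlg_eq_map] using h
  have hrel : Ψ (MvPolynomial.X 0 ^ 2 - MvPolynomial.C b * MvPolynomial.X 1 ^ 2) = 0 := by
    rw [map_sub, map_mul, map_pow, map_pow, hΨ0, hΨ1, MvPolynomial.algHom_C, mul_pow, ← map_pow, hz]
    simp [Polynomial.algebraMap_apply]
  constructor
  · apply le_antisymm
    · -- normal form
      have hnf : ∀ p : MvPolynomial (Fin 2) B, ∃ (q : MvPolynomial (Fin 2) B) (r₀ r₁ : Polynomial B),
          p = q * (MvPolynomial.X 0 ^ 2 - MvPolynomial.C b * MvPolynomial.X 1 ^ 2) + φ r₀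
            + MvPolynomial.X 0 * φ r₁ := by
        intro p
        induction p using MvPolynomial.induction_on with
        | C a =>
          refine ⟨0, Polynomial.C a, 0, ?_⟩
          simp [φ]
        | add p q hp hq =>
          obtain ⟨q1, r0, r1, rfl⟩ := hp
          obtain ⟨q2, s0, s1, rfl⟩ := hq
          refine ⟨q1 + q2, r0 + s0, r1 + s1, ?_⟩
          rw [map_add, map_add]; ring
        | mul_X p i hp =>
          obtain ⟨q1, r0, r1, rfl⟩ := hp
          fin_cases i
          · refine ⟨MvPolynomial.X 0 * q1 + φ r1, Polynomial.C b * Polynomial.X ^ 2 * r1, r0, ?_⟩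
            have : φ (Polynomial.C b * Polynomial.X ^ 2 * r1)
                = MvPolynomial.C b * MvPolynomial.X 1 ^ 2 * φ r1 := by
              simp [φ]
            rw [this]
            simp only [Fin.zero_eta]
            ring
          · refine ⟨MvPolynomial.X 1 * q1, Polynomial.X * r0, Polynomial.X * r1, ?_⟩
            have h0 : φ (Polynomial.X * r0) = MvPolynomial.X 1 * φ r0 := by simp [φ]
            have h1 : φ (Polynomial.X * r1) = MvPolynomial.X 1 * φ r1 := by simp [φ]
            rw [h0, h1]
            simp only [Fin.mk_one]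
            ring
      intro p hp
      obtain ⟨q, r₀, r₁, rfl⟩ := hnf p
      have hp' : Ψ (q * (MvPolynomial.X 0 ^ 2 - MvPolynomial.C b * MvPolynomial.X 1 ^ 2) + φ r₀
            + MvPolynomial.X 0 * φ r₁) = 0 := hp
      rw [map_add, map_add, map_mul, hrel, mul_zero, zero_add, map_mul, hΨ0, hΨφ, hΨφ] at hp'
      have hr : r₀ = 0 ∧ r₁ = 0 := by
        have hc0 : r₀.coeff 0 = 0 := by
          have := congrArg (fun P => Polynomial.coeff P 0) hp'
          simp only [Polynomial.coeff_add, Polynomial.coeff_map, Polynomial.coeff_zero] at this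
          rw [mul_assoc, Polynomial.coeff_C_mul, Polynomial.coeff_X_mul_zero, mul_zero, add_zero] at this
          have h0 := hind (r₀.coeff 0) 0 (by rw [map_zero, mul_zero, add_zero]; exact this)
          exact h0.1
        have hcn : ∀ n, r₀.coeff (n + 1) = 0 ∧ r₁.coeff n = 0 := by
          intro n
          have := congrArg (fun P => Polynomial.coeff P (n + 1)) hp'
          simp only [Polynomial.coeff_add, Polynomial.coeff_map, Polynomial.coeff_zero] at this
          rw [mul_assoc, Polynomial.coeff_C_mul, Polynomial.coeff_X_mul, Polynomial.coeff_map] at this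
          exact hind _ _ this
        constructor
        · ext n
          cases n with
          | zero => simpa using hc0
          | succ n => simpa using (hcn n).1
        · ext n
          simpa using (hcn n).2
      rw [hr.1, hr.2, map_zero, mul_zero, add_zero, add_zero]
      exact Ideal.mul_mem_left _ _ (Ideal.subset_span rfl)
    · rw [Ideal.span_le]
      rintro x rfl
      exact hrel
  · rintro G ⟨c, hc⟩
    rw [← Polynomial.sum_monomial_eq G, Polynomial.sum_def]
    apply Subalgebra.sum_mem
    intro n hn
    obtain ⟨a, e, hae⟩ := hdec (G.coeff n)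
    cases n with
    | zero =>
      rw [AlgHom.mem_range]
      refine ⟨MvPolynomial.C c, ?_⟩
      rw [hc, MvPolynomial.algHom_C]
      simp [Polynomial.algebraMap_apply]
    | succ n =>
      rw [AlgHom.mem_range]
      refine ⟨MvPolynomial.C a * MvPolynomial.X 1 ^ (n + 1)
        + MvPolynomial.C e * MvPolynomial.X 0 * MvPolynomial.X 1 ^ n, ?_⟩
      rw [map_add, map_mul, map_mul, map_mul, map_pow, map_pow, hΨ0, hΨ1, MvPolynomial.algHom_C,
        MvPolynomial.algHom_C, hae, Polynomial.algebraMap_apply, Polynomial.algebraMap_apply]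
      rw [← Polynomial.C_mul_X_pow_eq_monomial, map_add, map_mul]
      ring

end Groth.Agent.S18121
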